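import Mathlib
import Groth.Prelude.Def_CAlg
open CategoryTheory Abelian RingTheory.Sequence ModuleCat IsSMulRegular
universe u

namespace Groth.Agent.Helper2.DepthRees

/-- Ext vanishing below the length of a weakly regular sequence, for `N` killed by `k`-th powers
of elements of `I` (no finiteness hypotheses). -/
lemma ext_subsingleton_of_weaklyRegular {A : Type u} [CommRing A] (I : Ideal A)
    (N : ModuleCat.{u} A) (k : ℕ) (hN : ∀ a ∈ I, a ^ k ∈ Module.annihilator A N) :
    ∀ (rs : List A) (M : ModuleCat.{u} A), IsWeaklyRegular M rs → (∀ r ∈ rs, r ∈ I) →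
      ∀ i < rs.length, Subsingleton (Ext N M i) := by
  intro rs
  induction rs with
  | nil => intro M _ _ i hi; simp at hi
  | cons a rs' ih =>
    intro M reg mem i hi
    have hk := hN a (mem a List.mem_cons_self)
    simp only [isWeaklyRegular_cons_iff] at reg
    simp only [List.mem_cons, forall_eq_or_imp] at mem
    simp only [List.length_cons] at hi
    match i with
    | 0 =>
      have : Subsingleton (N →ₗ[A] M) :=
        linearMap_subsingleton_of_mem_annihilator (reg.1.pow k) hk
      exact (Ext.addEquiv₀.trans ModuleCat.homAddEquiv).subsingleton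
    | i + 1 =>
      let g := (AddCommGrpCat.ofHom ((Ext.mk₀ (smulShortComplex M a).f).postcomp N
        (add_zero (i + 1))))
      have mono_g : Mono g := by
        apply (Ext.covariant_sequence_exact₁' N reg.1.smulShortComplex_shortExact i (i + 1)
          rfl).mono_g ((AddCommGrpCat.isZero_of_iff_subsingleton.mpr ?_).eq_zero_of_src _)
        exact ih (ModuleCat.of A (QuotSMulTop a M)) reg.2 mem.2 i (by omega)
      let gk := AddCommGrpCat.ofHom ((Ext.mk₀ (M.smulShortComplex (a ^ k)).f).postcomp N
        (add_zero (i + 1)))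
      have mono_gk : Mono gk := by
        simp only [smulShortComplex_f_eq_smul_id, g, gk] at mono_g ⊢
        exact (Ext.postcomp_smul_id_mono_iff (a ^ k) (i + 1)).mpr <|
          ((Ext.postcomp_smul_id_mono_iff a (i + 1)).mp mono_g).pow k
      have zero_gk : gk = 0 := Ext.postcomp_smul_id_eq_zero_of_mem_annihilator hk (i + 1)
      exact AddCommGrpCat.subsingleton_of_isZero (Limits.IsZero.of_mono_eq_zero _ zero_gk)

/-- Ext into `M/xM` vanishes one degree lower. -/
lemma ext_quotSMulTop_subsingleton {A : Type u} [CommRing A] (N M : ModuleCat.{u} A) (x : A)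
    (hx : IsSMulRegular M x) (n : ℕ) (h : ∀ i < n + 1, Subsingleton (Ext N M i)) :
    ∀ i < n, Subsingleton (Ext N (ModuleCat.of A (QuotSMulTop x M)) i) := by
  intro i hi
  have zero1 := AddCommGrpCat.isZero_of_iff_subsingleton.mpr (h i (by omega))
  have zero2 := AddCommGrpCat.isZero_of_iff_subsingleton.mpr (h (i + 1) (by omega))
  exact AddCommGrpCat.subsingleton_of_isZero <| ShortComplex.Exact.isZero_of_both_zeros
    ((Ext.covariant_sequence_exact₃' N hx.smulShortComplex_shortExact) i (i + 1) rfl)
    (zero1.eq_zero_of_src _) (zero2.eq_zero_of_tgt _)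

lemma smul_top_quotSMulTop_ne_top {A : Type u} [CommRing A] {M : Type*} [AddCommGroup M]
    [Module A M] {I : Ideal A} {r : A} (hr : r ∈ I)
    (hI : I • (⊤ : Submodule A M) ≠ ⊤) :
    I • (⊤ : Submodule A (QuotSMulTop r M)) ≠ ⊤ := by
  by_contra eq
  absurd congrArg (Submodule.comap (Submodule.mkQ _)) eq
  simpa [Submodule.comap_smul_top_of_surjective I _ (Submodule.mkQ_surjective _),
    Submodule.smul_mono_left ((Ideal.span_singleton_le_iff_mem I).mpr hr),
    ← Submodule.ideal_span_singleton_smul] using hI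

lemma ofList_smul_top_ne_top {A : Type u} [CommRing A] {M : Type*} [AddCommGroup M]
    [Module A M] {I : Ideal A} (hI : I • (⊤ : Submodule A M) ≠ ⊤) (rs : List A)
    (mem : ∀ r ∈ rs, r ∈ I) : Ideal.ofList rs • (⊤ : Submodule A M) ≠ ⊤ := by
  intro h
  apply hI
  have h1 : Ideal.ofList rs ≤ I := by
    rw [Ideal.ofList, Ideal.span_le]
    intro r hr
    exact mem r hr
  exact eq_top_iff.2 (h.symm.le.trans (Submodule.smul_mono_left h1))

lemma isRegular_of_isWeaklyRegular {A : Type u} [CommRing A] {M : Type*} [AddCommGroup M]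
    [Module A M] {I : Ideal A} (hI : I • (⊤ : Submodule A M) ≠ ⊤) {rs : List A}
    (mem : ∀ r ∈ rs, r ∈ I) (h : IsWeaklyRegular M rs) : IsRegular M rs :=
  ⟨h, (ofList_smul_top_ne_top hI rs mem).symm⟩

variable {A : Type u} [CommRing A] [IsNoetherianRing A] (I : Ideal A)

/-- the module `A ⧸ I` as an object -/
noncomputable abbrev Q : ModuleCat.{u} A := ModuleCat.of A (A ⧸ I)

omit [IsNoetherianRing A] in
lemma support_Q : Module.support A (Q I) = PrimeSpectrum.zeroLocus I := by
  rw [Module.support_eq_zeroLocus, Ideal.annihilator_quotient]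

/-- Rees: vanishing of `Ext (A/I) M i` for `i < n` iff there is a regular sequence of length `n` in `I`. -/
lemma ext_Q_subsingleton_iff (n : ℕ) (M : ModuleCat.{u} A) [Module.Finite A M]
    (hIM : I • (⊤ : Submodule A M) ≠ ⊤) :
    (∀ i < n, Subsingleton (Ext (Q I) M i)) ↔
      ∃ rs : List A, rs.length = n ∧ (∀ r ∈ rs, r ∈ I) ∧ IsWeaklyRegular M rs := by
  have hI : I ≠ ⊤ := by
    rintro rfl
    exact hIM (by simp)
  have : Nontrivial (A ⧸ I) := Ideal.Quotient.nontrivial_iff.2 hI
  constructor
  · intro h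
    obtain ⟨rs, h1, h2, h3⟩ := ModuleCat.exists_isRegular_of_exists_subsingleton_ext I n M
      (lt_top_iff_ne_top.2 hIM) (Q I) (support_Q I) h
    exact ⟨rs, h1, h2, h3.1⟩
  · rintro ⟨rs, h1, h2, h3⟩ i hi
    exact ModuleCat.subsingleton_ext_of_exists_isRegular I (Q I) (support_Q I).le M
      (lt_top_iff_ne_top.2 hIM) rs h2 (isRegular_of_isWeaklyRegular hIM h2 h3) i (h1 ▸ hi)

/-- Key extension lemma. -/
lemma exists_extend : ∀ (rs : List A) (M : ModuleCat.{u} A) [Module.Finite A M],
    I • (⊤ : Submodule A M) ≠ ⊤ → IsWeaklyRegular M rs → (∀ r ∈ rs, r ∈ I) →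
    (∀ i < rs.length + 1, Subsingleton (Ext (Q I) M i)) →
    ∃ r ∈ I, IsWeaklyRegular M (rs ++ [r]) := by
  intro rs
  induction rs with
  | nil =>
    intro M _ hIM _ _ h
    obtain ⟨rs, h1, h2, h3⟩ := (ext_Q_subsingleton_iff I 1 M hIM).1 (by simpa using h)
    match rs, h1 with
    | [r], _ => exact ⟨r, h2 r (by simp), by simpa using h3⟩
  | cons x rs' ih =>
    intro M _ hIM reg mem h
    simp only [isWeaklyRegular_cons_iff] at reg
    simp only [List.mem_cons, forall_eq_or_imp] at mem
    have h' := ext_quotSMulTop_subsingleton (Q I) M x reg.1 (rs'.length + 1)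
      (by simpa using h)
    obtain ⟨r, hr, hreg⟩ := ih (ModuleCat.of A (QuotSMulTop x M))
      (smul_top_quotSMulTop_ne_top mem.1 hIM) reg.2 mem.2 h'
    refine ⟨r, hr, ?_⟩
    rw [List.cons_append, isWeaklyRegular_cons_iff]
    exact ⟨reg.1, hreg⟩

/-- A maximal weakly regular sequence in `I` has length the `I`-depth. -/
theorem length_eq_idealDepth_of_maximal (M : Type u) [AddCommGroup M] [Module A M]
    [Module.Finite A M] (hIM : I • (⊤ : Submodule A M) ≠ ⊤) (rs : List A)
    (hreg : IsWeaklyRegular M rs) (mem : ∀ r ∈ rs, r ∈ I)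
    (hmax : ∀ r ∈ I, ¬ IsWeaklyRegular M (rs ++ [r])) :
    (rs.length : ℕ∞) = LocCoh.idealDepth I M := by
  rw [LocCoh.idealDepth, if_neg hIM]
  apply le_antisymm
  · exact le_iSup₂ (f := fun (rs : List A)
      (_ : IsWeaklyRegular M rs ∧ ∀ r ∈ rs, r ∈ I) => (rs.length : ℕ∞)) rs ⟨hreg, mem⟩
  · refine iSup₂_le ?_
    rintro rs₂ ⟨hreg₂, mem₂⟩
    by_contra hlt
    rw [not_le] at hlt
    have hlt' : rs.length < rs₂.length := by exact_mod_cast hlt
    have h1 : IsWeaklyRegular M (rs₂.take (rs.length + 1)) := by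
      have := hreg₂
      rw [← List.take_append_drop (rs.length + 1) rs₂, isWeaklyRegular_append_iff] at this
      exact this.1
    have h2 : (rs₂.take (rs.length + 1)).length = rs.length + 1 := by
      rw [List.length_take]; omega
    have h3 : ∀ r ∈ rs₂.take (rs.length + 1), r ∈ I :=
      fun r hr => mem₂ r (List.mem_of_mem_take hr)
    have h4 := (ext_Q_subsingleton_iff I (rs.length + 1) (ModuleCat.of A M) hIM).2
      ⟨_, h2, h3, h1⟩
    obtain ⟨r, hr, hreg'⟩ := exists_extend I rs (ModuleCat.of A M) hIM hreg mem h4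
    exact hmax r hr hreg'

/-- Every weakly regular sequence in `I` extends to a maximal one. -/
theorem exists_maximal_extension (M : Type u) [AddCommGroup M] [Module A M]
    [Module.Finite A M] (hIM : I • (⊤ : Submodule A M) ≠ ⊤) (rs : List A)
    (hreg : IsWeaklyRegular M rs) (mem : ∀ r ∈ rs, r ∈ I) :
    ∃ rs' : List A, rs <+: rs' ∧ IsWeaklyRegular M rs' ∧ (∀ r ∈ rs', r ∈ I) ∧
      ∀ r ∈ I, ¬ IsWeaklyRegular M (rs' ++ [r]) := by
  have key : ∀ S : Submodule A M, ∀ rs : List A, Ideal.ofList rs • (⊤ : Submodule A M) = S →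
      IsWeaklyRegular M rs → (∀ r ∈ rs, r ∈ I) →
      ∃ rs' : List A, rs <+: rs' ∧ IsWeaklyRegular M rs' ∧ (∀ r ∈ rs', r ∈ I) ∧
        ∀ r ∈ I, ¬ IsWeaklyRegular M (rs' ++ [r]) := by
    intro S
    induction S using WellFoundedGT.induction with
    | ind S ih =>
      intro rs hS hreg mem
      by_cases hmax : ∀ r ∈ I, ¬ IsWeaklyRegular M (rs ++ [r])
      · exact ⟨rs, List.prefix_refl rs, hreg, mem, hmax⟩
      · push Not at hmax
        obtain ⟨r, hr, hreg'⟩ := hmax
        have mem' : ∀ x ∈ rs ++ [r], x ∈ I := by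
          intro x hx
          rcases List.mem_append.1 hx with h | h
          · exact mem x h
          · rw [List.mem_singleton.1 h]; exact hr
        have hle : S ≤ Ideal.ofList (rs ++ [r]) • (⊤ : Submodule A M) := by
          rw [← hS, Ideal.ofList_append]
          exact Submodule.smul_mono_left le_sup_left
        have hne : S ≠ Ideal.ofList (rs ++ [r]) • (⊤ : Submodule A M) := by
          intro heq
          have hr1 : IsSMulRegular (M ⧸ Ideal.ofList rs • (⊤ : Submodule A M)) r :=
            (isWeaklyRegular_singleton_iff _ r).1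
              ((isWeaklyRegular_append_iff M rs [r]).1 hreg').2
          have htop : Ideal.ofList rs • (⊤ : Submodule A M) = ⊤ := by
            rw [eq_top_iff]
            intro m _
            have h1 : r • m ∈ Ideal.ofList (rs ++ [r]) • (⊤ : Submodule A M) := by
              refine Submodule.smul_mem_smul ?_ Submodule.mem_top
              rw [Ideal.ofList_append, Ideal.ofList_singleton]
              exact Ideal.mem_sup_right (Ideal.mem_span_singleton_self r)
            rw [← heq, ← hS] at h1
            have h2 : r • (Submodule.Quotient.mk m : M ⧸ Ideal.ofList rs • (⊤ : Submodule A M))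
                = r • 0 := by
              rw [smul_zero, ← Submodule.Quotient.mk_smul]
              exact (Submodule.Quotient.mk_eq_zero _).2 h1
            exact (Submodule.Quotient.mk_eq_zero _).1 (hr1 h2)
          exact ofList_smul_top_ne_top hIM rs mem htop
        obtain ⟨rs', h1, h2, h3, h4⟩ := ih _ (lt_of_le_of_ne hle hne) (rs ++ [r]) rfl hreg' mem'
        exact ⟨rs', (List.prefix_append rs [r]).trans h1, h2, h3, h4⟩
  exact key _ rs rfl hreg mem

end Groth.Agent.Helper2.DepthRees
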