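import Mathlib

set_option autoImplicit false
universe u

namespace Groth.Agent.Helper2

open DirectSum

variable {R A : Type u} [CommRing R] [CommRing A] [Algebra R A] (𝒜 : ℕ → Submodule R A) [GradedAlgebra 𝒜]

/-- If `S_+ = span E` with `E` homogeneous of positive degree then every homogeneous
element lies in `S_0[E]`. -/
theorem homogeneous_mem_adjoin_of_irrelevant_eq_span
    (E : Set A) (hE : ∀ e ∈ E, ∃ d : ℕ, 0 < d ∧ e ∈ 𝒜 d)
    (h : (HomogeneousIdeal.irrelevant 𝒜).toIdeal = Ideal.span E) :
    ∀ n : ℕ, ∀ x ∈ 𝒜 n, x ∈ Algebra.adjoin (𝒜 0) E := by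
  intro n
  induction n using Nat.strong_induction_on with
  | _ n ih =>
    intro x hx
    rcases Nat.eq_zero_or_pos n with rfl | hn
    · exact Subalgebra.algebraMap_mem (Algebra.adjoin (𝒜 0) E) ⟨x, hx⟩
    · have hx' : x ∈ Ideal.span E := by
        rw [← h]; exact HomogeneousIdeal.mem_irrelevant_of_mem 𝒜 hn hx
      rw [Ideal.span, Finsupp.mem_span_iff_linearCombination] at hx'
      obtain ⟨l, hl⟩ := hx'
      have hx2 : x = ((decompose 𝒜 x n : 𝒜 n) : A) := by
        rw [DirectSum.decompose_of_mem_same 𝒜 hx]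
      rw [hx2, ← hl, Finsupp.linearCombination_apply, Finsupp.sum, decompose_sum]
      rw [DFinsupp.finsetSum_apply, AddSubmonoidClass.coe_finsetSum]
      refine Subalgebra.sum_mem _ fun e _ => ?_
      obtain ⟨d, hd, hed⟩ := hE e.1 e.2
      rw [smul_eq_mul]
      rw [DirectSum.coe_decompose_mul_of_right_mem 𝒜 n hed]
      split_ifs with hdn
      · refine Subalgebra.mul_mem _ ?_ (Algebra.subset_adjoin e.2)
        exact ih (n - d) (by omega) _ (SetLike.coe_mem _)
      · exact Subalgebra.zero_mem _

/-- EGA II 2.1.3: `E` generates `S_+` as an ideal iff `E` generates `S` as an `S_0`-algebra. -/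
theorem irrelevant_eq_span_iff_adjoin_eq_top
    (E : Set A) (hE : ∀ e ∈ E, ∃ d : ℕ, 0 < d ∧ e ∈ 𝒜 d) :
    (HomogeneousIdeal.irrelevant 𝒜).toIdeal = Ideal.span E ↔ Algebra.adjoin (𝒜 0) E = ⊤ := by
  constructor
  · intro h
    rw [eq_top_iff]
    intro x _
    classical
    rw [← DirectSum.sum_support_decompose 𝒜 x]
    refine Subalgebra.sum_mem _ fun i _ => ?_
    exact homogeneous_mem_adjoin_of_irrelevant_eq_span 𝒜 E hE h i _ (SetLike.coe_mem _)
  · intro h
    apply le_antisymm
    · intro x hx
      have key : ∀ y ∈ Algebra.adjoin (𝒜 0) E, y - GradedRing.projZeroRingHom 𝒜 y ∈ Ideal.span E := by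
        intro y hy
        induction hy using Algebra.adjoin_induction with
        | mem e he =>
          obtain ⟨d, hd, hed⟩ := hE e he
          have : GradedRing.projZeroRingHom 𝒜 e = 0 :=
            HomogeneousIdeal.mem_irrelevant_of_mem 𝒜 hd hed
          rw [this, sub_zero]
          exact Ideal.subset_span he
        | algebraMap r =>
          have : GradedRing.projZeroRingHom 𝒜 (algebraMap (𝒜 0) A r) = algebraMap (𝒜 0) A r := by
            change ((decompose 𝒜 (r : A) 0 : 𝒜 0) : A) = r
            rw [DirectSum.decompose_of_mem_same 𝒜 r.2]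
          rw [this, sub_self]
          exact Ideal.zero_mem _
        | add a b _ _ ha hb =>
          rw [map_add]
          have : a + b - (GradedRing.projZeroRingHom 𝒜 a + GradedRing.projZeroRingHom 𝒜 b) =
            (a - GradedRing.projZeroRingHom 𝒜 a) + (b - GradedRing.projZeroRingHom 𝒜 b) := by ring
          rw [this]
          exact Ideal.add_mem _ ha hb
        | mul a b _ _ ha hb =>
          rw [map_mul]
          have : a * b - GradedRing.projZeroRingHom 𝒜 a * GradedRing.projZeroRingHom 𝒜 b =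
            b * (a - GradedRing.projZeroRingHom 𝒜 a) +
              GradedRing.projZeroRingHom 𝒜 a * (b - GradedRing.projZeroRingHom 𝒜 b) := by ring
          rw [this]
          exact Ideal.add_mem _ (Ideal.mul_mem_left _ _ ha) (Ideal.mul_mem_left _ _ hb)
      have := key x (by rw [h]; trivial)
      have hx0 : GradedRing.projZeroRingHom 𝒜 x = 0 := hx
      rwa [hx0, sub_zero] at this
    · rw [Ideal.span_le]
      intro e he
      obtain ⟨d, hd, hed⟩ := hE e he
      exact HomogeneousIdeal.mem_irrelevant_of_mem 𝒜 hd hed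

end Groth.Agent.Helper2

namespace Groth.Agent.Helper2

open DirectSum

variable {R A : Type u} [CommRing R] [CommRing A] [Algebra R A] (𝒜 : ℕ → Submodule R A) [GradedAlgebra 𝒜]

/-- EGA II 2.1.4: `S_+` is a finitely generated ideal iff `S` is of finite type over `S_0`. -/
theorem irrelevant_fg_iff_finiteType :
    (HomogeneousIdeal.irrelevant 𝒜).toIdeal.FG ↔ Algebra.FiniteType (𝒜 0) A := by
  classical
  constructor
  · rintro ⟨t, ht⟩
    -- the finite set of homogeneous components
    let E : Finset A := t.biUnion fun x => (decompose 𝒜 x).support.image fun i => ((decompose 𝒜 x i : 𝒜 i) : A)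
    have htS : ∀ x ∈ t, x ∈ (HomogeneousIdeal.irrelevant 𝒜).toIdeal := by
      intro x hx; rw [← ht]; exact Ideal.subset_span hx
    have hE : ∀ e ∈ (E : Set A), ∃ d : ℕ, 0 < d ∧ e ∈ 𝒜 d := by
      intro e he
      simp only [E, Finset.coe_biUnion, Finset.coe_image, Set.mem_iUnion, Set.mem_image,
        Finset.mem_coe, exists_prop] at he
      obtain ⟨x, hx, i, hi, rfl⟩ := he
      refine ⟨i, ?_, SetLike.coe_mem _⟩
      rcases Nat.eq_zero_or_pos i with rfl | hpos
      · exfalso
        have h0 : ((decompose 𝒜 x 0 : 𝒜 0) : A) = 0 := htS x hx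
        rw [DFinsupp.mem_support_iff] at hi
        exact hi (Subtype.ext h0)
      · exact hpos
    have hspan : (HomogeneousIdeal.irrelevant 𝒜).toIdeal = Ideal.span (E : Set A) := by
      apply le_antisymm
      · rw [← ht, Ideal.span_le]
        intro x hx
        rw [← DirectSum.sum_support_decompose 𝒜 x]
        refine Ideal.sum_mem _ fun i hi => Ideal.subset_span ?_
        simp only [E, Finset.coe_biUnion, Finset.coe_image, Set.mem_iUnion, Set.mem_image,
          Finset.mem_coe, exists_prop]
        exact ⟨x, hx, i, hi, rfl⟩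
      · rw [Ideal.span_le]
        intro e he
        obtain ⟨d, hd, hed⟩ := hE e he
        exact HomogeneousIdeal.mem_irrelevant_of_mem 𝒜 hd hed
    exact ⟨⟨E, (irrelevant_eq_span_iff_adjoin_eq_top 𝒜 E hE).mp hspan⟩⟩
  · intro hft
    obtain ⟨s, hs, hs'⟩ := GradedAlgebra.exists_finset_adjoin_eq_top_and_homogeneous_ne_zero 𝒜
    have hE : ∀ e ∈ (s : Set A), ∃ d : ℕ, 0 < d ∧ e ∈ 𝒜 d := by
      intro e he
      obtain ⟨n, hn, hen⟩ := hs' e he
      exact ⟨n, Nat.pos_of_ne_zero hn, hen⟩
    exact ⟨s, ((irrelevant_eq_span_iff_adjoin_eq_top 𝒜 s hE).mpr hs).symm⟩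

/-- EGA II 2.1.5. -/
theorem isNoetherianRing_iff_degZero_and_finiteType :
    IsNoetherianRing A ↔ IsNoetherianRing (𝒜 0) ∧ Algebra.FiniteType (𝒜 0) A := by
  constructor
  · intro h
    refine ⟨inferInstance, ?_⟩
    rw [← irrelevant_fg_iff_finiteType]
    exact (isNoetherianRing_iff_ideal_fg A).mp h _
  · rintro ⟨h0, hft⟩
    exact Algebra.FiniteType.isNoetherianRing (𝒜 0) A

end Groth.Agent.Helper2
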