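import Groth.Agent.Helper4.FTLift
import Groth.Agent.Helper4.QcohLocal
import Groth.Agent.Helper4.QcohEpi
import Groth.Agent.Helper4.QcohExt
import Groth.Agent.Helper4.QcohLimits
import Groth.Prelude.Def_Coh
import Mathlib

set_option autoImplicit false

namespace Groth.Agent.Helper2.CohQ1

open CategoryTheory CategoryTheory.Limits AlgebraicGeometry Opposite TopologicalSpace
open Groth.Agent.Helper4 Groth.Agent.Helper4.QcohEpi

universe u

variable (X : Scheme.{u})

/-- quasi-coherent modules -/
abbrev QC : ObjectProperty X.Modules := fun M => Coh.IsQCoh M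
/-- coherent modules -/
abbrev Co : ObjectProperty X.Modules := fun M => Coh.IsCoh M

variable {X}

theorem isCoh_of_iso {M N : X.Modules} (e : M ≅ N) (h : Coh.IsCoh M) : Coh.IsCoh N := by
  haveI : M.IsQuasicoherent := h.1
  haveI hN : N.IsQuasicoherent := QcohLimits.isQuasicoherent_of_iso e
  exact ⟨hN, isFiniteType_of_epi e.hom h.2⟩

theorem isCoh_of_mono [IsLocallyNoetherian X] {M N : X.Modules} (i : M ⟶ N) [Mono i]
    (hM : Coh.IsQCoh M) (hN : Coh.IsCoh N) : Coh.IsCoh M := by
  haveI : M.IsQuasicoherent := hM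
  haveI : N.IsQuasicoherent := hN.1
  exact ⟨hM, isFiniteType_of_mono i hN.2⟩

theorem isCoh_of_epi {M N : X.Modules} (p : M ⟶ N) [Epi p]
    (hM : Coh.IsCoh M) (hN : Coh.IsQCoh N) : Coh.IsCoh N := by
  haveI : M.IsQuasicoherent := hM.1
  haveI : N.IsQuasicoherent := hN
  exact ⟨hN, isFiniteType_of_epi p hM.2⟩

theorem isCoh_of_shortExact (S : ShortComplex X.Modules) (hS : S.ShortExact)
    (h₁ : Coh.IsCoh S.X₁) (h₂ : Coh.IsQCoh S.X₂) (h₃ : Coh.IsCoh S.X₃) : Coh.IsCoh S.X₂ := by
  haveI : S.X₁.IsQuasicoherent := h₁.1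
  haveI : S.X₂.IsQuasicoherent := h₂
  haveI : S.X₃.IsQuasicoherent := h₃.1
  refine ⟨h₂, ?_⟩
  apply FTGlue.isFiniteType_of_finite_sections
  intro x
  obtain ⟨U, hU, hx⟩ := QcohLimits.exists_affine_nhd x
  refine ⟨U, hU, hx, ?_⟩
  haveI : Module.Finite Γ(X, U) Γ(S.X₁, U) := SecDict.finite_sections hU S.X₁ h₁.1 h₁.2
  haveI : Module.Finite Γ(X, U) Γ(S.X₃, U) := SecDict.finite_sections hU S.X₃ h₃.1 h₃.2
  rw [Module.finite_def]
  apply Submodule.fg_of_fg_map_of_fg_inf_ker (appLin S.g U)
  · have hsurj : Function.Surjective (appLin S.g U) :=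
      QcohExt.app_surjective_of_shortExact S hS hU
    rw [Submodule.map_top, LinearMap.range_eq_top.2 hsurj]
    exact Module.finite_def.1 inferInstance
  · rw [top_inf_eq]
    have hk : LinearMap.ker (appLin S.g U) = LinearMap.range (appLin S.f U) := by
      ext d
      constructor
      · intro hd
        obtain ⟨a, ha⟩ := QcohExt.exists_of_app_g_eq_zero S hS d hd
        exact ⟨a, ha⟩
      · rintro ⟨a, rfl⟩
        exact QcohExt.app_g_app_f S hS a
    rw [hk, LinearMap.range_eq_map]
    exact Submodule.FG.map _ (Module.finite_def.1 inferInstance)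


section Cat

variable (X)
variable [ObjectProperty.ContainsZero (QC X)] [ObjectProperty.IsClosedUnderKernels (QC X)]
  [ObjectProperty.IsClosedUnderCokernels (QC X)] [ObjectProperty.IsClosedUnderFiniteProducts (QC X)]

/-- coherent objects in the category of quasi-coherent modules -/
abbrev PCo : ObjectProperty (QC X).FullSubcategory := fun M => Coh.IsCoh M.obj

theorem preservesFiniteLimits_ι : PreservesFiniteLimits (QC X).ι :=
  ((Functor.preservesFiniteLimits_tfae (QC X).ι).out 2 3).1 (fun _ _ f => (QC X).preservesKernels_ι f)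

theorem preservesFiniteColimits_ι : PreservesFiniteColimits (QC X).ι :=
  ((Functor.preservesFiniteColimits_tfae (QC X).ι).out 2 3).1
    (fun _ _ f => (QC X).preservesCokernels_ι f)

variable {X}

theorem mono_ι {M N : (QC X).FullSubcategory} (f : M ⟶ N) [Mono f] : Mono f.hom := by
  haveI := (QC X).preservesMonomorphisms_ι_of_isNormalEpiCategory
  exact inferInstanceAs (Mono ((QC X).ι.map f))

theorem epi_ι {M N : (QC X).FullSubcategory} (f : M ⟶ N) [Epi f] : Epi f.hom := by
  haveI := (QC X).preservesEpimorphisms_ι_of_isNormalMonoCategory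
  exact inferInstanceAs (Epi ((QC X).ι.map f))

variable (X)

open ZeroObject in
instance [IsLocallyNoetherian X] [ObjectProperty.ContainsZero (Co X)] : (PCo X).IsSerreClass where
  exists_zero := by
    refine ⟨0, isZero_zero _, ?_⟩
    obtain ⟨Z, hZ, hZc⟩ := (Co X).exists_prop_of_containsZero
    have h0 : IsZero ((QC X).ι.obj 0) := (QC X).ι.map_isZero (isZero_zero _)
    exact isCoh_of_iso (hZ.iso h0) hZc
  prop_of_mono {M N} f _ hN := by
    haveI := mono_ι f
    exact isCoh_of_mono f.hom M.property hN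
  prop_of_epi {M N} f _ hM := by
    haveI := epi_ι f
    exact isCoh_of_epi f.hom hM N.property
  prop_X₂_of_shortExact {S} hS h₁ h₃ := by
    haveI := preservesFiniteLimits_ι X
    haveI := preservesFiniteColimits_ι X
    exact isCoh_of_shortExact (S.map (QC X).ι) (hS.map_of_exact (QC X).ι) h₁ S.X₂.property h₃

end Cat


section Lift

/-- on a qcqs scheme, an epimorphism from a quasi-coherent module onto a quasi-coherent module of
finite type is already epi on a quasi-coherent submodule of finite type -/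
theorem exists_ft_sub [CompactSpace X] [QuasiSeparatedSpace X] {F G : X.Modules} (π : F ⟶ G)
    [Epi π] [F.IsQuasicoherent] [G.IsQuasicoherent]
    (hG : SheafOfModules.IsFiniteType (R := X.ringCatSheaf) G) :
    ∃ (K' : X.Modules) (i' : K' ⟶ F), Mono i' ∧ K'.IsQuasicoherent ∧
      SheafOfModules.IsFiniteType (R := X.ringCatSheaf) K' ∧ Epi (i' ≫ π) := by
  classical
  obtain ⟨𝒰, h𝒰, htop⟩ := isCompact_iff_finite_and_eq_biUnion_affineOpens.mp
    (show IsCompact ((⊤ : X.Opens) : Set X) from isCompact_univ)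
  have hfin : ∀ U : X.affineOpens, ∃ s : Finset Γ(G, U.1),
      Submodule.span Γ(X, U.1) (s : Set Γ(G, U.1)) = ⊤ := by
    intro U
    haveI : Module.Finite Γ(X, U.1) Γ(G, U.1) := SecDict.finite_sections U.2 G inferInstance hG
    exact Module.Finite.fg_top
  choose gens hgens using hfin
  have hlift : ∀ (U : X.affineOpens) (g : Γ(G, U.1)), ∃ t : Γ(F, U.1), π.app U.1 t = g :=
    fun U g => app_surjective_of_epi π U.2 g
  choose t ht using hlift
  let l : List (Σ U : X.Opens, Γ(F, U)) :=
    h𝒰.toFinset.toList.flatMap (fun U => (gens U).toList.map (fun g => ⟨U.1, t U g⟩))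
  have hl : ∀ p ∈ l, IsCompact (p.1 : Set X) := by
    intro p hp
    obtain ⟨U, -, hp⟩ := List.mem_flatMap.mp hp
    obtain ⟨g, -, rfl⟩ := List.mem_map.mp hp
    exact U.2.isCompact
  obtain ⟨K', i', hi', hq', hft', hg'⟩ := FTLift.exists_submodule_through_sections F l hl
  refine ⟨K', i', hi', hq', hft', ?_⟩
  apply QcohLocal.epi_of_app_surjective_of_affine_cover
  intro x
  have hx : x ∈ ((⊤ : X.Opens) : Set X) := trivial
  rw [htop] at hx
  simp only [Opens.iSup_mk, Opens.carrier_eq_coe, Opens.coe_mk, Set.mem_iUnion, SetLike.mem_coe,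
    exists_prop] at hx
  obtain ⟨U, hU𝒰, hxU⟩ := hx
  refine ⟨U.1, U.2, hxU, ?_⟩
  have hsurj : Function.Surjective (appLin (i' ≫ π) U.1) := by
    rw [← LinearMap.range_eq_top, eq_top_iff, ← hgens U, Submodule.span_le]
    intro g hg
    have hmem : (⟨U.1, t U g⟩ : Σ U : X.Opens, Γ(F, U)) ∈ l := by
      apply List.mem_flatMap.mpr
      refine ⟨U, by simpa using hU𝒰, ?_⟩
      apply List.mem_map.mpr
      exact ⟨g, by simpa using hg, rfl⟩
    obtain ⟨k, hk⟩ := hg' _ hmem
    refine ⟨k, ?_⟩
    show (i' ≫ π).app U.1 k = g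
    have hk' : i'.app U.1 k = t U g := hk
    rw [Scheme.Modules.Hom.comp_app]
    show π.app U.1 (i'.app U.1 k) = g
    rw [hk', ht]
  exact hsurj

end Lift

end Groth.Agent.Helper2.CohQ1
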