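import Groth.Agent.Helper2.Ass
import Groth.Prelude.Def_CAlg
set_option autoImplicit false
universe u
open IsLocalRing Groth.Agent.Helper2.Ass RingTheory.Sequence

namespace Groth.Agent.Helper2.Depth

lemma smul_top_ne_top (A : Type*) [CommRing A] [IsLocalRing A] (M : Type*) [AddCommGroup M] [Module A M]
    [Module.Finite A M] [Nontrivial M] : maximalIdeal A • (⊤ : Submodule A M) ≠ ⊤ := by
  intro h
  have : (⊤ : Submodule A M) = ⊥ :=
    Submodule.eq_bot_of_le_smul_of_le_jacobson_bot (maximalIdeal A) ⊤ Module.Finite.fg_top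
      (le_of_eq h.symm) (IsLocalRing.maximalIdeal_le_jacobson _)
  exact top_ne_bot this

lemma depth_eq_zero_iff (A : Type*) [CommRing A] [IsLocalRing A] (M : Type*) [AddCommGroup M] [Module A M]
    [Module.Finite A M] [Nontrivial M] :
    LocCoh.depth A M = 0 ↔ ∀ x ∈ maximalIdeal A, ¬ IsSMulRegular M x := by
  unfold LocCoh.depth LocCoh.idealDepth
  rw [if_neg (smul_top_ne_top A M)]
  simp only [ENat.iSup_eq_zero]
  constructor
  · intro h x hx hreg
    have := h [x] ⟨(isWeaklyRegular_singleton_iff M x).mpr hreg, by simpa using hx⟩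
    simp at this
  · intro h rs ⟨hreg, hmem⟩
    cases rs with
    | nil => simp
    | cons x rs =>
      exfalso
      rw [isWeaklyRegular_cons_iff] at hreg
      exact h x (hmem x (by simp)) hreg.1

lemma not_regular_of_mem_ass (A : Type*) [CommRing A] [IsNoetherianRing A] (M : Type*) [AddCommGroup M] [Module A M]
    (p : Ideal A) (hp : p ∈ associatedPrimes A M) (x : A) (hx : x ∈ p) : ¬ IsSMulRegular M x := by
  rw [AssociatedPrimes.mem_iff, isAssociatedPrime_iff] at hp
  obtain ⟨hprime, y, hy⟩ := hp
  have hy0 : y ≠ 0 := by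
    rintro rfl
    have : (1 : A) ∈ p := by
      rw [hy, Submodule.mem_colon_singleton]; simp
    exact (Ideal.ne_top_iff_one _).mp hprime.ne_top this
  rw [isSMulRegular_iff_right_eq_zero_of_smul]
  intro h
  apply hy0
  apply h
  rw [hy, Submodule.mem_colon_singleton] at hx
  simpa using hx


end Groth.Agent.Helper2.Depth
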