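import Mathlib
set_option autoImplicit false
universe u
open Order Module PrimeSpectrum Pointwise

namespace Groth.Agent.Helper2.SuppDim

lemma support_localizedModule_subset (A : Type*) [CommRing A] (M : Type*) [AddCommGroup M] [Module A M]
    (S : Submonoid A) : Module.support A (LocalizedModule S M) ⊆ Module.support A M := by
  intro q hq
  rw [Module.mem_support_iff'] at hq ⊢
  obtain ⟨n, hn⟩ := hq
  induction n using LocalizedModule.induction_on with
  | h m s =>
    refine ⟨m, fun r hr h0 => hn r hr ?_⟩
    rw [LocalizedModule.smul'_mk, h0, LocalizedModule.zero_mk]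


lemma semilocal_dim_lt_top (A : Type*) [CommRing A] [IsNoetherianRing A] [Finite (MaximalSpectrum A)] :
    ringKrullDim A < ⊤ := by
  rcases subsingleton_or_nontrivial A with h | h
  · rw [ringKrullDim_eq_bot_of_subsingleton]; exact bot_lt_top
  · rw [← Ideal.sup_isMaximal_height_eq_ringKrullDim]
    have : Nonempty (MaximalSpectrum A) := by
      obtain ⟨m, hm⟩ := Ideal.exists_maximal A
      exact ⟨⟨m, hm⟩⟩
    obtain ⟨m₀, hm₀⟩ := Finite.exists_max (fun m : MaximalSpectrum A => m.asIdeal.height)
    have hle : (⨆ (I : Ideal A) (_ : I.IsMaximal), I.height) ≤ m₀.asIdeal.height := by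
      refine iSup₂_le fun I hI => ?_
      exact hm₀ ⟨I, hI⟩
    have hlt : m₀.asIdeal.height < ⊤ := Ideal.height_lt_top m₀.isMaximal.ne_top
    exact WithBot.coe_lt_coe.mpr (lt_of_le_of_lt hle hlt) |>.trans_le le_rfl

lemma dim_quot_le_supportDim (A : Type*) [CommRing A] (M : Type*) [AddCommGroup M] [Module A M]
    (p : PrimeSpectrum A) (hp : p ∈ Module.support A M) :
    ringKrullDim (A ⧸ p.asIdeal) ≤ Module.supportDim A M := by
  rw [ringKrullDim_quotient]
  refine krullDim_le_of_strictMono (fun q => ⟨q.1, Module.mem_support_mono ?_ hp⟩) (fun _ _ h => h)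
  exact q.2


end Groth.Agent.Helper2.SuppDim
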