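import Mathlib
import Groth.Prelude.Def_CAlg
import Groth.Agent.Helper2.DepthRees
import Groth.Agent.Helper2.Depth
import Groth.Agent.Helper2.SuppDim
set_option autoImplicit false
open RingTheory.Sequence IsLocalRing Pointwise
universe u

namespace Groth.Agent.Helper2.DepthCM
open Groth.Agent.Helper2.DepthRees

variable {A : Type u} [CommRing A] [IsNoetherianRing A]

omit [IsNoetherianRing A] in
lemma smul_top_quot_ne_top {I : Ideal A} {M : Type*} [AddCommGroup M] [Module A M]
    (hIM : I • (⊤ : Submodule A M) ≠ ⊤) (J : Ideal A) (hJ : J ≤ I) :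
    I • (⊤ : Submodule A (M ⧸ J • (⊤ : Submodule A M))) ≠ ⊤ := by
  intro h
  apply hIM
  have h1 := congrArg (Submodule.comap (Submodule.mkQ (J • (⊤ : Submodule A M)))) h
  rw [Submodule.comap_smul_top_of_surjective I _ (Submodule.mkQ_surjective _),
    Submodule.comap_top, Submodule.ker_mkQ] at h1
  have h2 : J • (⊤ : Submodule A M) ≤ I • (⊤ : Submodule A M) := Submodule.smul_mono_left hJ
  rw [sup_eq_left.2 h2] at h1
  exact h1

omit [IsNoetherianRing A] in
lemma ofList_le {I : Ideal A} (rs : List A) (mem : ∀ r ∈ rs, r ∈ I) : Ideal.ofList rs ≤ I := by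
  rw [Ideal.ofList, Ideal.span_le]
  intro r hr
  exact mem r hr

/-- `I`-depth is finite when `IM ≠ M`. -/
theorem exists_length_eq_idealDepth (I : Ideal A) (M : Type u) [AddCommGroup M] [Module A M]
    [Module.Finite A M] (hIM : I • (⊤ : Submodule A M) ≠ ⊤) :
    ∃ rs : List A, IsWeaklyRegular M rs ∧ (∀ r ∈ rs, r ∈ I) ∧
      (∀ r ∈ I, ¬ IsWeaklyRegular M (rs ++ [r])) ∧ (rs.length : ℕ∞) = LocCoh.idealDepth I M := by
  obtain ⟨rs, -, h2, h3, h4⟩ := exists_maximal_extension I M hIM [] (IsWeaklyRegular.nil A M)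
    (by simp)
  exact ⟨rs, h2, h3, h4, length_eq_idealDepth_of_maximal I M hIM rs h2 h3 h4⟩

theorem idealDepth_ne_top (I : Ideal A) (M : Type u) [AddCommGroup M] [Module A M]
    [Module.Finite A M] (hIM : I • (⊤ : Submodule A M) ≠ ⊤) : LocCoh.idealDepth I M ≠ ⊤ := by
  obtain ⟨rs, -, -, -, h⟩ := exists_length_eq_idealDepth I M hIM
  rw [← h]
  exact ENat.natCast_ne_top _

/-- depth additivity along a weakly regular sequence -/
theorem idealDepth_quot_ofList (I : Ideal A) (M : Type u) [AddCommGroup M] [Module A M]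
    [Module.Finite A M] (hIM : I • (⊤ : Submodule A M) ≠ ⊤) (rs : List A)
    (hreg : IsWeaklyRegular M rs) (mem : ∀ r ∈ rs, r ∈ I) :
    LocCoh.idealDepth I (M ⧸ Ideal.ofList rs • (⊤ : Submodule A M)) + rs.length
      = LocCoh.idealDepth I M := by
  have hIM' := smul_top_quot_ne_top hIM (Ideal.ofList rs) (ofList_le rs mem)
  obtain ⟨rs₂, h1, h2, h3, h4⟩ := exists_length_eq_idealDepth I
    (M ⧸ Ideal.ofList rs • (⊤ : Submodule A M)) hIM'
  have hreg' : IsWeaklyRegular M (rs ++ rs₂) := (isWeaklyRegular_append_iff M rs rs₂).2 ⟨hreg, h1⟩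
  have mem' : ∀ r ∈ rs ++ rs₂, r ∈ I := by
    intro r hr
    rcases List.mem_append.1 hr with h | h
    · exact mem r h
    · exact h2 r h
  have hmax : ∀ r ∈ I, ¬ IsWeaklyRegular M ((rs ++ rs₂) ++ [r]) := by
    intro r hr hcon
    rw [List.append_assoc, isWeaklyRegular_append_iff] at hcon
    exact h3 r hr hcon.2
  have := length_eq_idealDepth_of_maximal I M hIM (rs ++ rs₂) hreg' mem' hmax
  rw [← this, ← h4, List.length_append]
  push_cast
  rw [add_comm]

/-- depth drops by one modulo a regular element -/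
theorem idealDepth_quotSMulTop (I : Ideal A) (M : Type u) [AddCommGroup M] [Module A M]
    [Module.Finite A M] (hIM : I • (⊤ : Submodule A M) ≠ ⊤) (x : A) (hx : x ∈ I)
    (hreg : IsSMulRegular M x) :
    LocCoh.idealDepth I (QuotSMulTop x M) + 1 = LocCoh.idealDepth I M := by
  have hIM' : I • (⊤ : Submodule A (QuotSMulTop x M)) ≠ ⊤ := smul_top_quotSMulTop_ne_top hx hIM
  obtain ⟨rs₂, h1, h2, h3, h4⟩ := exists_length_eq_idealDepth I (QuotSMulTop x M) hIM'
  have hreg' : IsWeaklyRegular M (x :: rs₂) := (isWeaklyRegular_cons_iff M x rs₂).2 ⟨hreg, h1⟩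
  have mem' : ∀ r ∈ x :: rs₂, r ∈ I := by
    intro r hr
    rcases List.mem_cons.1 hr with h | h
    · rw [h]; exact hx
    · exact h2 r h
  have hmax : ∀ r ∈ I, ¬ IsWeaklyRegular M ((x :: rs₂) ++ [r]) := by
    intro r hr hcon
    rw [List.cons_append, isWeaklyRegular_cons_iff] at hcon
    exact h3 r hr hcon.2
  have := length_eq_idealDepth_of_maximal I M hIM (x :: rs₂) hreg' mem' hmax
  rw [← this, ← h4, List.length_cons]
  push_cast
  rfl

omit [IsNoetherianRing A] in
lemma idealDepth_congr (I : Ideal A) {M M' : Type*} [AddCommGroup M] [Module A M]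
    [AddCommGroup M'] [Module A M'] (e : M ≃ₗ[A] M') :
    LocCoh.idealDepth I M = LocCoh.idealDepth I M' := by
  have h1 : I • (⊤ : Submodule A M) = ⊤ ↔ I • (⊤ : Submodule A M') = ⊤ := by
    constructor
    · intro h
      have := congrArg (Submodule.map e.toLinearMap) h
      rwa [Submodule.map_smul'', Submodule.map_top, LinearEquiv.range] at this
    · intro h
      have := congrArg (Submodule.map e.symm.toLinearMap) h
      rwa [Submodule.map_smul'', Submodule.map_top, LinearEquiv.range] at this
  unfold LocCoh.idealDepth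
  by_cases h : I • (⊤ : Submodule A M) = ⊤
  · rw [if_pos h, if_pos (h1.1 h)]
  · rw [if_neg h, if_neg (fun h' => h (h1.2 h'))]
    simp only [e.isWeaklyRegular_congr]

omit [IsNoetherianRing A] in
lemma dim_quot_succ_le_of_lt {p q : Ideal A} [p.IsPrime] [q.IsPrime] (h : p < q) :
    ringKrullDim (A ⧸ q) + 1 ≤ ringKrullDim (A ⧸ p) := by
  obtain ⟨r, hrq, hrp⟩ := Set.exists_of_ssubset h
  have hr0 : (Ideal.Quotient.mk p r) ≠ 0 := fun h0 => hrp (Ideal.Quotient.eq_zero_iff_mem.1 h0)
  have hnzd : (Ideal.Quotient.mk p r) ∈ nonZeroDivisors (A ⧸ p) := mem_nonZeroDivisors_of_ne_zero hr0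
  have h1 := ringKrullDim_quotient_succ_le_of_nonZeroDivisor hnzd
  refine le_trans ?_ h1
  gcongr
  let f : A ⧸ p →+* A ⧸ q := Ideal.Quotient.factor h.le
  have hf : Function.Surjective f := Ideal.Quotient.factor_surjective h.le
  have hker : ∀ a ∈ Ideal.span {Ideal.Quotient.mk p r}, f a = 0 := by
    intro a ha
    obtain ⟨b, rfl⟩ := Ideal.mem_span_singleton'.1 ha
    rw [map_mul]
    have : f (Ideal.Quotient.mk p r) = 0 := by
      show Ideal.Quotient.factor h.le (Ideal.Quotient.mk p r) = 0
      rw [Ideal.Quotient.factor_mk]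
      exact Ideal.Quotient.eq_zero_iff_mem.2 hrq
    rw [this, mul_zero]
  let g : (A ⧸ p) ⧸ Ideal.span {Ideal.Quotient.mk p r} →+* A ⧸ q := Ideal.Quotient.lift _ f hker
  have hg : Function.Surjective g := Ideal.Quotient.lift_surjective_of_surjective _ hker hf
  exact ringKrullDim_le_of_surjective g hg

section Local
variable [IsLocalRing A]

lemma exists_ass_quot_gt (M : Type u) [AddCommGroup M] [Module A M] [Module.Finite A M]
    (x : A) (hx : x ∈ maximalIdeal A) (hreg : IsSMulRegular M x) (p : Ideal A)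
    (hp : p ∈ associatedPrimes A M) :
    ∃ q ∈ associatedPrimes A (QuotSMulTop x M), p < q := by
  have hp' := hp
  rw [AssociatedPrimes.mem_iff, isAssociatedPrime_iff] at hp'
  obtain ⟨hprime, y, hy⟩ := hp'
  have hy0 : y ≠ 0 := by
    rintro rfl
    have : (1 : A) ∈ p := by
      rw [hy, Submodule.mem_colon_singleton]; simp
    exact (Ideal.ne_top_iff_one _).mp hprime.ne_top this
  have hpy : ∀ a, a ∈ p ↔ a • y = 0 := by
    intro a
    rw [hy, Submodule.mem_colon_singleton, Submodule.mem_bot]
  -- the submodule killed by p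
  let N : Submodule A M := Submodule.torsionBySet A M (p : Set A)
  have hyN : y ∈ N := by
    rw [Submodule.mem_torsionBySet_iff]
    intro a
    exact (hpy a).1 a.2
  have hN : ¬ N ≤ x • (⊤ : Submodule A M) := by
    intro hle
    have h1 : N ≤ Ideal.span {x} • N := by
      intro n hn
      obtain ⟨m', -, hm'⟩ := (Submodule.mem_smul_pointwise_iff_exists _ _ _).1 (hle hn)
      have hm'N : m' ∈ N := by
        rw [Submodule.mem_torsionBySet_iff]
        intro a
        have h2 : (a : A) • n = 0 := (Submodule.mem_torsionBySet_iff _ _).1 hn a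
        rw [← hm', smul_comm] at h2
        have h3 : x • ((a : A) • m') = x • (0 : M) := by rw [h2, smul_zero]
        exact hreg h3
      rw [← hm']
      exact Submodule.smul_mem_smul (Ideal.mem_span_singleton_self x) hm'N
    have h2 : N = ⊥ := Submodule.eq_bot_of_le_smul_of_le_jacobson_bot (Ideal.span {x}) N
      (IsNoetherian.noetherian N) h1
      (((Ideal.span_singleton_le_iff_mem _).2 hx).trans (IsLocalRing.maximalIdeal_le_jacobson _))
    rw [h2] at hyN
    exact hy0 ((Submodule.mem_bot A).1 hyN)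
  obtain ⟨z, hzN, hzx⟩ := Set.not_subset.1 hN
  let zb : QuotSMulTop x M := Submodule.Quotient.mk z
  have hzb : zb ≠ 0 := fun h0 => hzx ((Submodule.Quotient.mk_eq_zero _).1 h0)
  obtain ⟨q, hq, hle⟩ := exists_le_isAssociatedPrime_of_isNoetherianRing A zb hzb
  have hpq : p ≤ q := by
    intro a ha
    apply hle
    rw [Submodule.mem_colon_singleton, Submodule.mem_bot]
    show a • (Submodule.Quotient.mk z : QuotSMulTop x M) = 0
    rw [← Submodule.Quotient.mk_smul, (Submodule.mem_torsionBySet_iff _ _).1 hzN ⟨a, ha⟩,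
      Submodule.Quotient.mk_zero]
  have hxq : x ∈ q := by
    have hq' := hq
    rw [isAssociatedPrime_iff] at hq'
    obtain ⟨-, w, hw⟩ := hq'
    rw [hw, Submodule.mem_colon_singleton, Submodule.mem_bot]
    induction w using Submodule.Quotient.induction_on with
    | H w =>
      rw [← Submodule.Quotient.mk_smul, Submodule.Quotient.mk_eq_zero]
      exact Submodule.smul_mem_pointwise_smul _ _ _ Submodule.mem_top
  have hxp : x ∉ p := by
    intro hxp
    have h1 : x • y = x • (0 : M) := by rw [(hpy x).1 hxp, smul_zero]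
    exact hy0 (hreg h1)
  exact ⟨q, hq, lt_of_le_of_ne hpq (fun h => hxp (h ▸ hxq))⟩

theorem depth_le_dim_quotient_of_mem_ass (M : Type u) [AddCommGroup M] [Module A M]
    [Module.Finite A M] (p : Ideal A) (hp : p ∈ associatedPrimes A M) :
    ((LocCoh.depth A M : ℕ∞) : WithBot ℕ∞) ≤ ringKrullDim (A ⧸ p) := by
  have key : ∀ n : ℕ, ∀ (M : Type u) [AddCommGroup M] [Module A M] [Module.Finite A M],
      LocCoh.depth A M = n → ∀ p ∈ associatedPrimes A M,
      ((n : ℕ∞) : WithBot ℕ∞) ≤ ringKrullDim (A ⧸ p) := by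
    intro n
    induction n with
    | zero =>
      intro M _ _ _ _ p hp
      have : p.IsPrime := hp.isPrime
      have : Nontrivial (A ⧸ p) := Ideal.Quotient.nontrivial_iff.2 hp.isPrime.ne_top
      simpa using ringKrullDim_nonneg_of_nontrivial (R := A ⧸ p)
    | succ n ih =>
      intro M _ _ _ hd p hp
      have hnt : Nontrivial M := by
        by_contra hcon
        rw [not_nontrivial_iff_subsingleton] at hcon
        exact not_isAssociatedPrime_of_subsingleton hp
      have hIM := Groth.Agent.Helper2.Depth.smul_top_ne_top A M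
      obtain ⟨rs, h1, h2, h3, h4⟩ := exists_length_eq_idealDepth (maximalIdeal A) M hIM
      have h4' : (rs.length : ℕ∞) = ((n + 1 : ℕ) : ℕ∞) := h4.trans hd
      have hlen : rs.length = n + 1 := by exact_mod_cast h4'
      match rs, hlen with
      | x :: rs', _ =>
        have hxm : x ∈ maximalIdeal A := h2 x List.mem_cons_self
        have hxreg : IsSMulRegular M x := ((isWeaklyRegular_cons_iff M x rs').1 h1).1
        have hd' := idealDepth_quotSMulTop (maximalIdeal A) M hIM x hxm hxreg
        have hd'' : LocCoh.depth A (QuotSMulTop x M) = n := by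
          have : LocCoh.idealDepth (maximalIdeal A) (QuotSMulTop x M) + 1 = (n : ℕ∞) + 1 := by
            rw [hd']; exact_mod_cast hd
          exact ENat.add_left_injective_of_ne_top (by simp) this
        obtain ⟨q, hq, hpq⟩ := exists_ass_quot_gt M x hxm hxreg p hp
        have := hp.isPrime
        have := hq.isPrime
        have h5 := ih (QuotSMulTop x M) hd'' q hq
        have h6 := dim_quot_succ_le_of_lt hpq
        refine le_trans ?_ h6
        push_cast
        gcongr
        exact_mod_cast h5
  have hnt : Nontrivial M := by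
    by_contra hcon
    rw [not_nontrivial_iff_subsingleton] at hcon
    exact not_isAssociatedPrime_of_subsingleton hp
  have hIM := Groth.Agent.Helper2.Depth.smul_top_ne_top A M
  obtain ⟨rs, -, -, -, h4⟩ := exists_length_eq_idealDepth (maximalIdeal A) M hIM
  have := key rs.length M h4.symm p hp
  rw [h4] at this
  exact this

end Local

end Groth.Agent.Helper2.DepthCM
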