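import Mathlib
import Groth.Prelude.Def_CAlg
import Groth.Agent.Helper2.DepthCM
set_option autoImplicit false
open RingTheory.Sequence IsLocalRing Pointwise Module
universe u

namespace Groth.Agent.Helper2.DepthCM2
open Groth.Agent.Helper2.DepthRees Groth.Agent.Helper2.DepthCM Groth.Agent.Helper2

variable {A : Type u} [CommRing A] [IsNoetherianRing A] [IsLocalRing A]

omit [IsNoetherianRing A] in
lemma cm_nontrivial {M : Type u} [AddCommGroup M] [Module A M]
    (hM : LocCoh.IsCohenMacaulayModule A M) : Nontrivial M := by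
  by_contra hcon
  rw [not_nontrivial_iff_subsingleton] at hcon
  unfold LocCoh.IsCohenMacaulayModule at hM
  rw [supportDim_eq_bot_of_subsingleton] at hM
  exact WithBot.bot_ne_coe hM

/-- CM modules: dimension equals depth, which is a natural number. -/
lemma cm_exists_nat {M : Type u} [AddCommGroup M] [Module A M] [Module.Finite A M]
    (hM : LocCoh.IsCohenMacaulayModule A M) :
    ∃ d : ℕ, LocCoh.depth A M = d ∧ supportDim A M = (d : WithBot ℕ∞) := by
  have := cm_nontrivial hM
  have hIM := Depth.smul_top_ne_top A M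
  have h := idealDepth_ne_top (maximalIdeal A) M hIM
  obtain ⟨d, hd⟩ := ENat.ne_top_iff_exists.1 h
  refine ⟨d, hd.symm, ?_⟩
  rw [hM]
  show ((LocCoh.idealDepth (maximalIdeal A) M : ℕ∞) : WithBot ℕ∞) = _
  rw [← hd]
  rfl

lemma cm_dim_quot_ass (M : Type u) [AddCommGroup M] [Module A M] [Module.Finite A M]
    (hM : LocCoh.IsCohenMacaulayModule A M) (p : Ideal A) (hp : p ∈ associatedPrimes A M) :
    ringKrullDim (A ⧸ p) = Module.supportDim A M := by
  have := hp.isPrime
  apply le_antisymm
  · refine SuppDim.dim_quot_le_supportDim A M ⟨p, hp.isPrime⟩ ?_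
    rw [Module.mem_support_iff_of_finite, ← Submodule.annihilator_top]
    exact IsAssociatedPrime.annihilator_le hp
  · rw [hM]
    exact DepthCM.depth_le_dim_quotient_of_mem_ass M p hp

lemma supportDim_le_quot_ofList_add : ∀ (xs : List A) (M : Type u) [AddCommGroup M] [Module A M]
    [Module.Finite A M], (∀ x ∈ xs, x ∈ maximalIdeal A) →
    supportDim A M ≤ supportDim A (M ⧸ Ideal.ofList xs • (⊤ : Submodule A M)) + xs.length := by
  intro xs
  induction xs with
  | nil =>
    intro M _ _ _ _
    rw [Ideal.ofList_nil, Submodule.bot_smul]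
    simpa using (supportDim_eq_of_equiv (Submodule.quotEquivOfEqBot (⊥ : Submodule A M) rfl)).ge
  | cons x xs' ih =>
    intro M _ _ _ mem
    simp only [List.mem_cons, forall_eq_or_imp] at mem
    have h1 := supportDim_le_supportDim_quotSMulTop_succ (M := M) mem.1
    have h2 := ih (QuotSMulTop x M) mem.2
    rw [supportDim_eq_of_equiv (Submodule.quotOfListConsSMulTopEquivQuotSMulTopInner M x xs')]
    refine h1.trans ?_
    rw [List.length_cons]
    push_cast
    rw [← add_assoc]
    gcongr

lemma cm_quotSMulTop (M : Type u) [AddCommGroup M] [Module A M] [Module.Finite A M]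
    (hM : LocCoh.IsCohenMacaulayModule A M) (x : A) (hx : x ∈ maximalIdeal A)
    (hreg : IsSMulRegular M x) : LocCoh.IsCohenMacaulayModule A (QuotSMulTop x M) := by
  have := cm_nontrivial hM
  have hIM := Depth.smul_top_ne_top A M
  have h1 := idealDepth_quotSMulTop (maximalIdeal A) M hIM x hx hreg
  have h2 := supportDim_quotSMulTop_succ_eq_supportDim hreg hx
  unfold LocCoh.IsCohenMacaulayModule LocCoh.depth at hM ⊢
  rw [hM, ← h1] at h2
  push_cast at h2
  exact ENat.WithBot.add_one_cancel.1 h2

lemma cm_quot_ofList (M : Type u) [AddCommGroup M] [Module A M] [Module.Finite A M]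
    (hM : LocCoh.IsCohenMacaulayModule A M) (xs : List A) (mem : ∀ x ∈ xs, x ∈ maximalIdeal A)
    (hreg : IsWeaklyRegular M xs) :
    LocCoh.IsCohenMacaulayModule A (M ⧸ Ideal.ofList xs • (⊤ : Submodule A M)) := by
  have := cm_nontrivial hM
  have hIM := Depth.smul_top_ne_top A M
  have h1 := idealDepth_quot_ofList (maximalIdeal A) M hIM xs hreg mem
  have h2 := supportDim_add_length_eq_supportDim_of_isRegular xs
    (IsRegular.of_isWeaklyRegular_of_mem_maximalIdeal M mem hreg)
  unfold LocCoh.IsCohenMacaulayModule LocCoh.depth at hM ⊢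
  rw [hM, ← h1] at h2
  push_cast at h2
  exact ENat.WithBot.add_natCast_cancel.1 h2

lemma regular_of_dim_drop (M : Type u) [AddCommGroup M] [Module A M] [Module.Finite A M]
    (hM : LocCoh.IsCohenMacaulayModule A M) (x : A)
    (h : supportDim A (QuotSMulTop x M) + 1 = supportDim A M) : IsSMulRegular M x := by
  by_contra hcon
  have hx : x ∈ ({ r : A | IsSMulRegular M r }ᶜ : Set A) := hcon
  rw [← biUnion_associatedPrimes_eq_compl_regular A M] at hx
  obtain ⟨p, hp, hxp⟩ := Set.mem_iUnion₂.1 hx
  have hprime := hp.isPrime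
  have hps : (⟨p, hprime⟩ : PrimeSpectrum A) ∈ Module.support A (QuotSMulTop x M) := by
    rw [Module.support_quotSMulTop]
    refine ⟨?_, ?_⟩
    · rw [Module.mem_support_iff_of_finite, ← Submodule.annihilator_top]
      exact IsAssociatedPrime.annihilator_le hp
    · simpa using hxp
  have h1 := SuppDim.dim_quot_le_supportDim A (QuotSMulTop x M) ⟨p, hprime⟩ hps
  rw [show (⟨p, hprime⟩ : PrimeSpectrum A).asIdeal = p from rfl, cm_dim_quot_ass M hM p hp] at h1
  obtain ⟨d, -, hd⟩ := cm_exists_nat hM
  rw [hd] at h h1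
  -- supportDim (Quot) + 1 = d and d ≤ supportDim (Quot)
  generalize supportDim A (QuotSMulTop x M) = a at h h1
  induction a with
  | bot => simp at h
  | coe a =>
    induction a with
    | top =>
      have : ((⊤ : ℕ∞) : WithBot ℕ∞) + 1 = ((⊤ : ℕ∞) : WithBot ℕ∞) := rfl
      rw [this] at h
      have h3 : ((⊤ : ℕ∞) : WithBot ℕ∞) = ((d : ℕ∞) : WithBot ℕ∞) := h
      exact ENat.top_ne_natCast d (WithBot.coe_injective h3)
    | coe a =>
      have h3 : ((a + 1 : ℕ) : WithBot ℕ∞) = (d : WithBot ℕ∞) := by
        rw [← h]; push_cast; rfl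
      have h4 : a + 1 = d := by exact_mod_cast h3
      have h5 : (d : WithBot ℕ∞) ≤ ((a : ℕ) : WithBot ℕ∞) := h1
      have h6 : d ≤ a := by exact_mod_cast h5
      omega

theorem weaklyRegular_of_dim_drop : ∀ (xs : List A) (M : Type u) [AddCommGroup M] [Module A M]
    [Module.Finite A M], LocCoh.IsCohenMacaulayModule A M → (∀ x ∈ xs, x ∈ maximalIdeal A) →
    supportDim A (M ⧸ Ideal.ofList xs • (⊤ : Submodule A M)) + xs.length = supportDim A M →
    IsWeaklyRegular M xs := by
  intro xs
  induction xs with
  | nil => intro M _ _ _ _ _ _; exact IsWeaklyRegular.nil A M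
  | cons x xs' ih =>
    intro M _ _ _ hM mem h
    simp only [List.mem_cons, forall_eq_or_imp] at mem
    rw [supportDim_eq_of_equiv (Submodule.quotOfListConsSMulTopEquivQuotSMulTopInner M x xs'),
      List.length_cons] at h
    push_cast at h
    rw [← add_assoc] at h
    have h1 := supportDim_le_supportDim_quotSMulTop_succ (M := M) mem.1
    have h2 := supportDim_le_quot_ofList_add xs' (QuotSMulTop x M) mem.2
    have h3 : supportDim A (QuotSMulTop x M) + 1 = supportDim A M := by
      apply le_antisymm
      · rw [← h]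
        gcongr
      · exact h1
    have h4 : supportDim A (QuotSMulTop x M ⧸ Ideal.ofList xs' • (⊤ : Submodule A (QuotSMulTop x M)))
        + xs'.length = supportDim A (QuotSMulTop x M) := by
      rw [← h3] at h
      exact ENat.WithBot.add_one_cancel.1 h
    have hreg := regular_of_dim_drop M hM x h3
    have hM' := cm_quotSMulTop M hM x mem.1 hreg
    exact (isWeaklyRegular_cons_iff M x xs').2 ⟨hreg, ih (QuotSMulTop x M) hM' mem.2 h4⟩

end Groth.Agent.Helper2.DepthCM2
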