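import Mathlib
import Groth.Prelude.Def_CAlg
import Groth.Agent.Helper2.DepthCM2
set_option autoImplicit false
open RingTheory.Sequence IsLocalRing Pointwise Module
universe u

namespace Groth.Agent.Helper2.DepthCM3
open Groth.Agent.Helper2.DepthRees Groth.Agent.Helper2.DepthCM Groth.Agent.Helper2.DepthCM2
open Groth.Agent.Helper2

variable {A : Type u} [CommRing A] [IsNoetherianRing A] [IsLocalRing A]

lemma not_add_one_le_of_eq_nat {a : WithBot ℕ∞} {d : ℕ} (h : a = (d : WithBot ℕ∞)) :
    ¬ a + 1 ≤ a := by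
  rw [h]
  intro hle
  have : ((d + 1 : ℕ) : WithBot ℕ∞) ≤ (d : WithBot ℕ∞) := by
    push_cast; exact hle
  have h2 : d + 1 ≤ d := by exact_mod_cast this
  omega

/-- In a CM module, associated primes are minimal in the support. -/
lemma cm_ass_minimal (N : Type u) [AddCommGroup N] [Module A N] [Module.Finite A N]
    (hN : LocCoh.IsCohenMacaulayModule A N) (p' : Ideal A) (hp' : p' ∈ associatedPrimes A N)
    (q : PrimeSpectrum A) (hq : q ∈ Module.support A N) (hle : q.asIdeal ≤ p') :
    q.asIdeal = p' := by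
  by_contra hne
  have hlt : q.asIdeal < p' := lt_of_le_of_ne hle hne
  have := hp'.isPrime
  have h1 := dim_quot_succ_le_of_lt hlt
  have h2 := SuppDim.dim_quot_le_supportDim A N q hq
  rw [cm_dim_quot_ass N hN p' hp'] at h1
  obtain ⟨d, -, hd⟩ := cm_exists_nat hN
  exact not_add_one_le_of_eq_nat hd (h1.trans h2)

omit [IsNoetherianRing A] [IsLocalRing A] in
lemma zeroLocus_subset_support {M : Type*} [AddCommGroup M] [Module A M]
    (p : PrimeSpectrum A) (hp : p ∈ Module.support A M) :
    PrimeSpectrum.zeroLocus (p.asIdeal : Set A) ⊆ Module.support A M := by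
  intro q hq
  exact Module.mem_support_mono (by exact hq) hp

omit [IsNoetherianRing A] [IsLocalRing A] in
lemma supportDim_quot_prime {M : Type*} [AddCommGroup M] [Module A M] [Module.Finite A M]
    (p : PrimeSpectrum A) (hp : p ∈ Module.support A M) :
    supportDim A (M ⧸ (p.asIdeal • (⊤ : Submodule A M))) = ringKrullDim (A ⧸ p.asIdeal) := by
  rw [ringKrullDim_quotient, supportDim, Module.support_quotient,
    Set.inter_eq_right.2 (zeroLocus_subset_support p hp)]

/-- Key lemma on maximal regular sequences inside a prime of the support of a CM module. -/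
theorem cm_prime_key (M : Type u) [AddCommGroup M] [Module A M] [Module.Finite A M]
    (hM : LocCoh.IsCohenMacaulayModule A M) (p : PrimeSpectrum A) (hp : p ∈ Module.support A M)
    (xs : List A) (hxs : ∀ x ∈ xs, x ∈ p.asIdeal) (hreg : IsWeaklyRegular M xs)
    (hmax : ∀ r ∈ p.asIdeal, ¬ IsWeaklyRegular M (xs ++ [r])) :
    p.asIdeal ∈ associatedPrimes A (M ⧸ Ideal.ofList xs • (⊤ : Submodule A M)) ∧
    (∀ q ∈ Module.support A (M ⧸ Ideal.ofList xs • (⊤ : Submodule A M)),
      q.asIdeal ≤ p.asIdeal → q.asIdeal = p.asIdeal) ∧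
    ringKrullDim (A ⧸ p.asIdeal) = supportDim A (M ⧸ Ideal.ofList xs • (⊤ : Submodule A M)) ∧
    supportDim A (M ⧸ Ideal.ofList xs • (⊤ : Submodule A M)) + xs.length = supportDim A M := by
  have hnt := cm_nontrivial hM
  have hpm : p.asIdeal ≤ maximalIdeal A := IsLocalRing.le_maximalIdeal p.2.ne_top
  have hxsm : ∀ x ∈ xs, x ∈ maximalIdeal A := fun x hx => hpm (hxs x hx)
  have hN := cm_quot_ofList M hM xs hxsm hreg
  have hNnt := cm_nontrivial hN
  have hzd : ∀ r ∈ p.asIdeal, ¬ IsSMulRegular (M ⧸ Ideal.ofList xs • (⊤ : Submodule A M)) r := by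
    intro r hr hcon
    apply hmax r hr
    rw [isWeaklyRegular_append_iff]
    exact ⟨hreg, (isWeaklyRegular_singleton_iff _ r).2 hcon⟩
  obtain ⟨p₀, hp₀⟩ := associatedPrimes.nonempty A (M ⧸ Ideal.ofList xs • (⊤ : Submodule A M))
  have hex : ∃ p' ∈ associatedPrimes A (M ⧸ Ideal.ofList xs • (⊤ : Submodule A M)),
      p.asIdeal ≤ p' := by
    rcases Ass.exists_le_assPrime_or_le A (M ⧸ Ideal.ofList xs • (⊤ : Submodule A M))
      p.asIdeal p₀ (fun x hx _ => hzd x hx) with h | h
    · exact ⟨p₀, hp₀, h⟩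
    · exact h
  obtain ⟨p', hp', hle⟩ := hex
  have hpN : p ∈ Module.support A (M ⧸ Ideal.ofList xs • (⊤ : Submodule A M)) := by
    rw [Module.support_quotient]
    refine ⟨hp, ?_⟩
    rw [PrimeSpectrum.mem_zeroLocus]
    exact ofList_le xs hxs
  have heq : p.asIdeal = p' := cm_ass_minimal _ hN p' hp' p hpN hle
  have hpass : p.asIdeal ∈ associatedPrimes A (M ⧸ Ideal.ofList xs • (⊤ : Submodule A M)) :=
    heq ▸ hp'
  refine ⟨hpass, ?_, ?_, ?_⟩
  · intro q hq hqp
    exact cm_ass_minimal _ hN p.asIdeal hpass q hq hqp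
  · exact cm_dim_quot_ass _ hN p.asIdeal hpass
  · exact supportDim_add_length_eq_supportDim_of_isRegular xs
      (IsRegular.of_isWeaklyRegular_of_mem_maximalIdeal M hxsm hreg)

omit [IsNoetherianRing A] [IsLocalRing A] in
lemma length_le_idealDepth {I : Ideal A} {M : Type*} [AddCommGroup M] [Module A M]
    (xs : List A) (hreg : IsWeaklyRegular M xs) (mem : ∀ x ∈ xs, x ∈ I) :
    (xs.length : ℕ∞) ≤ LocCoh.idealDepth I M := by
  unfold LocCoh.idealDepth
  split_ifs with h
  · exact le_top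
  · exact le_iSup₂ (f := fun (rs : List A)
      (_ : IsWeaklyRegular M rs ∧ ∀ r ∈ rs, r ∈ I) => (rs.length : ℕ∞)) xs ⟨hreg, mem⟩

/-- the `p`-depth of a CM module -/
theorem cm_idealDepth_prime (M : Type u) [AddCommGroup M] [Module A M] [Module.Finite A M]
    (hM : LocCoh.IsCohenMacaulayModule A M) (p : PrimeSpectrum A) (hp : p ∈ Module.support A M)
    (r : ℕ) (hr : supportDim A (M ⧸ (p.asIdeal • (⊤ : Submodule A M))) + r = supportDim A M) :
    LocCoh.idealDepth p.asIdeal M = r := by
  have hnt := cm_nontrivial hM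
  have hpm : p.asIdeal ≤ maximalIdeal A := IsLocalRing.le_maximalIdeal p.2.ne_top
  have hIM : p.asIdeal • (⊤ : Submodule A M) ≠ ⊤ := by
    intro h
    apply Depth.smul_top_ne_top A M
    exact eq_top_iff.2 (h.symm.le.trans (Submodule.smul_mono_left hpm))
  obtain ⟨xs, h1, h2, h3, h4⟩ := exists_length_eq_idealDepth p.asIdeal M hIM
  obtain ⟨-, -, k3, k4⟩ := cm_prime_key M hM p hp xs h2 h1 h3
  rw [supportDim_quot_prime p hp, k3, ← k4] at hr
  obtain ⟨d, -, hd⟩ := cm_exists_nat (cm_quot_ofList M hM xs (fun x hx => hpm (h2 x hx)) h1)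
  rw [hd] at hr
  have : ((d + r : ℕ) : WithBot ℕ∞) = ((d + xs.length : ℕ) : WithBot ℕ∞) := by
    push_cast; exact hr
  have h5 : d + r = d + xs.length := by exact_mod_cast this
  have h6 : xs.length = r := by omega
  rw [← h4, h6]

end Groth.Agent.Helper2.DepthCM3
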