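import Mathlib
import Groth.Prelude.Def_CAlg
import Groth.Agent.Helper2.DepthCM3
set_option autoImplicit false
open RingTheory.Sequence IsLocalRing Pointwise Module
universe u

namespace Groth.Agent.Helper2.DepthCM4
open Groth.Agent.Helper2.DepthRees Groth.Agent.Helper2.DepthCM Groth.Agent.Helper2.DepthCM2
open Groth.Agent.Helper2.DepthCM3 Groth.Agent.Helper2

section General
variable {A : Type u} [CommRing A] [IsNoetherianRing A] [IsLocalRing A]

/-- depth ≤ dim for nonzero finite modules over a Noetherian local ring -/
theorem depth_le_supportDim (M : Type u) [AddCommGroup M] [Module A M] [Module.Finite A M]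
    [Nontrivial M] : ((LocCoh.depth A M : ℕ∞) : WithBot ℕ∞) ≤ supportDim A M := by
  obtain ⟨p, hp⟩ := associatedPrimes.nonempty A M
  have := hp.isPrime
  refine (depth_le_dim_quotient_of_mem_ass M p hp).trans ?_
  refine SuppDim.dim_quot_le_supportDim A M ⟨p, hp.isPrime⟩ ?_
  rw [Module.mem_support_iff_of_finite, ← Submodule.annihilator_top]
  exact IsAssociatedPrime.annihilator_le hp

end General

section Loc
variable {A : Type u} [CommRing A]

/-- support of a localization maps into the support -/
lemma comap_mem_support (p : Ideal A) [p.IsPrime] (N : Type*) [AddCommGroup N] [Module A N]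
    (q' : PrimeSpectrum (Localization.AtPrime p))
    (hq' : q' ∈ Module.support (Localization.AtPrime p) (LocalizedModule p.primeCompl N)) :
    (PrimeSpectrum.comap (algebraMap A (Localization.AtPrime p)) q') ∈ Module.support A N := by
  rw [Module.mem_support_iff'] at hq' ⊢
  obtain ⟨m', hm'⟩ := hq'
  induction m' using LocalizedModule.induction_on with
  | h m s =>
    refine ⟨m, fun r hr h0 => ?_⟩
    have hr' : algebraMap A (Localization.AtPrime p) r ∉ q'.asIdeal := hr
    apply hm' _ hr'
    rw [algebraMap_smul, LocalizedModule.smul'_mk, h0, LocalizedModule.zero_mk]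

/-- if `p` is minimal in the support of `N` then `N_p` has dimension `≤ 0` over `A_p`. -/
lemma supportDim_localized_le_zero (p : Ideal A) [p.IsPrime] (N : Type*) [AddCommGroup N]
    [Module A N]
    (hmin : ∀ q ∈ Module.support A N, q.asIdeal ≤ p → q.asIdeal = p) :
    supportDim (Localization.AtPrime p) (LocalizedModule p.primeCompl N) ≤ 0 := by
  have : Subsingleton (Module.support (Localization.AtPrime p) (LocalizedModule p.primeCompl N)) := by
    constructor
    rintro ⟨q₁, h₁⟩ ⟨q₂, h₂⟩
    have e1 := hmin _ (comap_mem_support p N q₁ h₁) (by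
      have := (IsLocalization.disjoint_under_iff p.primeCompl (Localization.AtPrime p) q₁.asIdeal).mpr q₁.2.ne_top
      intro x hx
      by_contra hxp
      exact Set.disjoint_left.1 this hxp hx)
    have e2 := hmin _ (comap_mem_support p N q₂ h₂) (by
      have := (IsLocalization.disjoint_under_iff p.primeCompl (Localization.AtPrime p) q₂.asIdeal).mpr q₂.2.ne_top
      intro x hx
      by_contra hxp
      exact Set.disjoint_left.1 this hxp hx)
    apply Subtype.ext
    apply PrimeSpectrum.ext
    have h1 : Ideal.comap (algebraMap A (Localization.AtPrime p)) q₁.asIdeal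
        = Ideal.comap (algebraMap A (Localization.AtPrime p)) q₂.asIdeal := e1.trans e2.symm
    have h2 : Ideal.under A q₁.asIdeal = Ideal.under A q₂.asIdeal := h1
    rw [← IsLocalization.map_under p.primeCompl (Localization.AtPrime p) q₁.asIdeal,
      ← IsLocalization.map_under p.primeCompl (Localization.AtPrime p) q₂.asIdeal, h2]
  exact Order.krullDim_nonpos_of_subsingleton

end Loc

section Main
variable {A : Type u} [CommRing A] [IsNoetherianRing A] [IsLocalRing A]

/-- the localized quotient equivalence -/
noncomputable def locQuotEquiv (p : Ideal A) [p.IsPrime] (M : Type u) [AddCommGroup M] [Module A M]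
    (I : Ideal A) :
    LocalizedModule p.primeCompl (M ⧸ (I • ⊤ : Submodule A M)) ≃ₗ[Localization.AtPrime p]
      (LocalizedModule p.primeCompl M ⧸ I.map (algebraMap A (Localization.AtPrime p)) •
        (⊤ : Submodule (Localization.AtPrime p) (LocalizedModule p.primeCompl M))) :=
  (localizedQuotientEquiv _ _).symm ≪≫ₗ
      Submodule.quotEquivOfEq _ _ (by rw [Submodule.localized,
        Submodule.localized'_smul, Ideal.localized'_eq_map, Submodule.localized'_top])

theorem cm_localized (M : Type u) [AddCommGroup M] [Module A M] [Module.Finite A M]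
    (hM : LocCoh.IsCohenMacaulayModule A M) (p : PrimeSpectrum A) (hp : p ∈ Module.support A M)
    (xs : List A) (hxs : ∀ x ∈ xs, x ∈ p.asIdeal) (hreg : IsWeaklyRegular M xs)
    (hmax : ∀ r ∈ p.asIdeal, ¬ IsWeaklyRegular M (xs ++ [r])) :
    IsRegular (LocalizedModule p.asIdeal.primeCompl M)
      (xs.map (algebraMap A (Localization.AtPrime p.asIdeal))) ∧
    supportDim (Localization.AtPrime p.asIdeal) (LocalizedModule p.asIdeal.primeCompl M)
      = xs.length := by
  have hntp : Nontrivial (LocalizedModule p.asIdeal.primeCompl M) := Module.mem_support_iff.1 hp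
  have h1 : IsRegular (LocalizedModule p.asIdeal.primeCompl M)
      (xs.map (algebraMap A (Localization.AtPrime p.asIdeal))) :=
    IsWeaklyRegular.isRegular_of_isLocalizedModule_of_mem (Localization.AtPrime p.asIdeal)
      p.asIdeal (LocalizedModule.mkLinearMap p.asIdeal.primeCompl M) hreg hxs
  refine ⟨h1, ?_⟩
  have h2 := supportDim_add_length_eq_supportDim_of_isRegular _ h1
  obtain ⟨k1, k2, -, -⟩ := cm_prime_key M hM p hp xs hxs hreg hmax
  have hpN : p ∈ Module.support A (M ⧸ Ideal.ofList xs • (⊤ : Submodule A M)) := by
    rw [Module.mem_support_iff_of_finite, ← Submodule.annihilator_top]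
    exact IsAssociatedPrime.annihilator_le k1
  have hntN : Nontrivial (LocalizedModule p.asIdeal.primeCompl
      (M ⧸ Ideal.ofList xs • (⊤ : Submodule A M))) := Module.mem_support_iff.1 hpN
  have h3 : supportDim (Localization.AtPrime p.asIdeal) (LocalizedModule p.asIdeal.primeCompl
      (M ⧸ Ideal.ofList xs • (⊤ : Submodule A M))) = 0 := by
    apply le_antisymm
    · exact supportDim_localized_le_zero p.asIdeal _ k2
    · have : Nonempty (Module.support (Localization.AtPrime p.asIdeal)
          (LocalizedModule p.asIdeal.primeCompl (M ⧸ Ideal.ofList xs • (⊤ : Submodule A M)))) :=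
        Module.nonempty_support_of_nontrivial.to_subtype
      exact Order.krullDim_nonneg
  rw [← Ideal.map_ofList, ← supportDim_eq_of_equiv (locQuotEquiv p.asIdeal M (Ideal.ofList xs)), h3,
    zero_add, List.length_map] at h2
  exact h2.symm

end Main

end Groth.Agent.Helper2.DepthCM4
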