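import Mathlib
import Groth.Prelude.Def_CAlg
import Groth.Agent.Helper2.DepthCM2
set_option autoImplicit false
universe u
open Groth.Agent.Helper2 RingTheory.Sequence IsLocalRing Pointwise

namespace Groth.Agent.Helper2.DepthLocHom

variable (A B : Type u) [CommRing A] [CommRing B] [IsLocalRing A]
    [IsLocalRing B] [IsNoetherianRing A] [IsNoetherianRing B] [Algebra A B] [IsLocalHom (algebraMap A B)]

omit [IsLocalHom (algebraMap A B)] in
/-- depth zero transfers along a local homomorphism for modules finite over the source -/
lemma depth_eq_zero (M : Type u) [AddCommGroup M] [Module B M] [Module A M] [IsScalarTower A B M]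
    [Module.Finite A M] [Nontrivial M] (h0 : LocCoh.depth A M = 0) : LocCoh.depth B M = 0 := by
  have : Module.Finite B M := Module.Finite.of_restrictScalars_finite A B M
  rw [Depth.depth_eq_zero_iff] at h0 ⊢
  have hass := Ass.maximalIdeal_mem_ass_of_forall_not_regular A M h0
  rw [AssociatedPrimes.mem_iff, isAssociatedPrime_iff] at hass
  obtain ⟨-, z, hz⟩ := hass
  have hz0 : z ≠ 0 := by
    rintro rfl
    have : (1 : A) ∈ maximalIdeal A := by
      rw [hz, Submodule.mem_colon_singleton]; simp
    exact (Ideal.ne_top_iff_one _).mp (IsLocalRing.maximalIdeal.isMaximal A).ne_top this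
  have hmz : ∀ a ∈ maximalIdeal A, a • z = 0 := by
    intro a ha
    rw [hz, Submodule.mem_colon_singleton, Submodule.mem_bot] at ha
    exact ha
  obtain ⟨q, hq, hle⟩ := exists_le_isAssociatedPrime_of_isNoetherianRing B z hz0
  have hqprime : q.IsPrime := hq.isPrime
  have hq' := hq
  rw [isAssociatedPrime_iff] at hq'
  obtain ⟨-, w, hw⟩ := hq'
  -- the embedding B ⧸ q → M
  have hker : q ≤ LinearMap.ker (LinearMap.toSpanSingleton B M w) := by
    intro b hb
    rw [hw, Submodule.mem_colon_singleton, Submodule.mem_bot] at hb
    rw [LinearMap.mem_ker, LinearMap.toSpanSingleton_apply]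
    exact hb
  let f : B ⧸ q →ₗ[B] M := Submodule.liftQ q (LinearMap.toSpanSingleton B M w) hker
  have hf : Function.Injective f := by
    rw [← LinearMap.ker_eq_bot, Submodule.ker_liftQ_eq_bot']
    apply le_antisymm hker
    intro b hb
    rw [LinearMap.mem_ker, LinearMap.toSpanSingleton_apply] at hb
    rw [hw, Submodule.mem_colon_singleton, Submodule.mem_bot]
    exact hb
  have hfin : Module.Finite A (B ⧸ q) :=
    Module.Finite.of_injective (f.restrictScalars A) hf
  have hint : Algebra.IsIntegral A (B ⧸ q) := Algebra.IsIntegral.of_finite A (B ⧸ q)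
  have hcomap : (⊥ : Ideal (B ⧸ q)).comap (algebraMap A (B ⧸ q)) = maximalIdeal A := by
    symm
    apply (IsLocalRing.maximalIdeal.isMaximal A).eq_of_le
    · exact Ideal.comap_ne_top _ (Ideal.isPrime_bot).ne_top
    · intro a ha
      rw [Ideal.mem_comap, Ideal.mem_bot]
      show Ideal.Quotient.mk q (algebraMap A B a) = 0
      rw [Ideal.Quotient.eq_zero_iff_mem]
      apply hle
      rw [Submodule.mem_colon_singleton, Submodule.mem_bot, algebraMap_smul]
      exact hmz a ha
  have hbotmax : (⊥ : Ideal (B ⧸ q)).IsMaximal :=
    Ideal.isMaximal_of_isIntegral_of_isMaximal_comap (R := A) ⊥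
      (hcomap ▸ IsLocalRing.maximalIdeal.isMaximal A)
  have hqmax : q.IsMaximal := (Ideal.bot_quotient_isMaximal_iff q).1 hbotmax
  have hqm : q = maximalIdeal B := IsLocalRing.eq_maximalIdeal hqmax
  intro b hb
  exact Depth.not_regular_of_mem_ass B M q hq b (hqm ▸ hb)

omit [IsLocalRing A] [IsLocalRing B] [IsNoetherianRing A] [IsNoetherianRing B] [IsLocalHom (algebraMap A B)] in
lemma quot_equiv (M : Type u) [AddCommGroup M] [Module B M] [Module A M] [IsScalarTower A B M]
    (x : A) : Nonempty (QuotSMulTop x M ≃ₗ[A] QuotSMulTop (algebraMap A B x) M) := by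
  have heq : x • (⊤ : Submodule A M) =
      ((algebraMap A B x) • (⊤ : Submodule B M)).restrictScalars A := by
    ext m
    rw [Submodule.restrictScalars_mem, Submodule.mem_smul_pointwise_iff_exists,
      Submodule.mem_smul_pointwise_iff_exists]
    constructor
    · rintro ⟨m', -, rfl⟩
      exact ⟨m', Submodule.mem_top, algebraMap_smul B x m'⟩
    · rintro ⟨m', -, rfl⟩
      exact ⟨m', Submodule.mem_top, (algebraMap_smul B x m').symm⟩
  exact ⟨(Submodule.quotEquivOfEq _ _ heq).trans
    (Submodule.Quotient.restrictScalarsEquiv A ((algebraMap A B x) • (⊤ : Submodule B M)))⟩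

lemma key : ∀ (n : ℕ) (M : Type u) [AddCommGroup M] [Module B M] [Module A M] [IsScalarTower A B M]
    [Module.Finite A M] [Nontrivial M], LocCoh.depth A M = n → LocCoh.depth B M = n := by
  intro n
  induction n with
  | zero =>
    intro M _ _ _ _ _ _ h
    exact depth_eq_zero A B M h
  | succ n ih =>
    intro M _ _ _ _ _ _ h
    have : Module.Finite B M := Module.Finite.of_restrictScalars_finite A B M
    have hIM := Depth.smul_top_ne_top A M
    have hIMB := Depth.smul_top_ne_top B M
    obtain ⟨rs, h1, h2, h3, h4⟩ := DepthCM.exists_length_eq_idealDepth (maximalIdeal A) M hIM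
    have h4' : (rs.length : ℕ∞) = ((n + 1 : ℕ) : ℕ∞) := h4.trans h
    have hlen : rs.length = n + 1 := by exact_mod_cast h4'
    match rs, hlen with
    | x :: rs', _ =>
      have hxm : x ∈ maximalIdeal A := h2 x List.mem_cons_self
      have hxreg : IsSMulRegular M x := ((isWeaklyRegular_cons_iff M x rs').1 h1).1
      have hd' := DepthCM.idealDepth_quotSMulTop (maximalIdeal A) M hIM x hxm hxreg
      have hdA : LocCoh.depth A (QuotSMulTop x M) = n := by
        have : LocCoh.idealDepth (maximalIdeal A) (QuotSMulTop x M) + 1 = (n : ℕ∞) + 1 := by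
          rw [hd']; exact_mod_cast h
        exact ENat.add_left_injective_of_ne_top (by simp) this
      -- B side
      have hym : algebraMap A B x ∈ maximalIdeal B := by
        rw [IsLocalRing.mem_maximalIdeal, mem_nonunits_iff] at hxm ⊢
        exact fun hu => hxm (isUnit_of_map_unit (algebraMap A B) x hu)
      have hyreg : IsSMulRegular M (algebraMap A B x) := by
        intro a b hab
        apply hxreg
        simpa only [algebraMap_smul] using hab
      have hdB := DepthCM.idealDepth_quotSMulTop (maximalIdeal B) M hIMB _ hym hyreg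
      obtain ⟨e⟩ := quot_equiv A B M x
      have hdA' : LocCoh.depth A (QuotSMulTop (algebraMap A B x) M) = n := by
        rw [← hdA]
        exact (DepthCM.idealDepth_congr (maximalIdeal A) e).symm
      have hfin : Module.Finite A (QuotSMulTop (algebraMap A B x) M) := Module.Finite.equiv e
      have hnt : Nontrivial (QuotSMulTop (algebraMap A B x) M) :=
        nontrivial_quotSMulTop_of_mem_maximalIdeal M hym
      have := ih (QuotSMulTop (algebraMap A B x) M) hdA'
      show LocCoh.idealDepth (maximalIdeal B) M = _
      rw [← hdB]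
      show LocCoh.depth B (QuotSMulTop (algebraMap A B x) M) + 1 = _
      rw [this]
      push_cast
      rfl

end Groth.Agent.Helper2.DepthLocHom
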