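import Mathlib
import Groth.Prelude.Def_CAlg
import Groth.Agent.Helper2.DepthLocHom
import Groth.Agent.Helper2.DepthCM4
import Groth.Agent.Lead.RegLocal
set_option autoImplicit false
universe u
open Groth.Agent.Helper2 RingTheory.Sequence IsLocalRing Pointwise Module

namespace Groth.Agent.Helper2.RegCM

/-- depth is invariant under a local homomorphism for modules finite over the source. -/
theorem depth_eq_of_isLocalHom (A B : Type u) [CommRing A] [CommRing B] [IsLocalRing A]
    [IsLocalRing B] [IsNoetherianRing A] [IsNoetherianRing B] [Algebra A B] [IsLocalHom (algebraMap A B)]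
    (M : Type u) [AddCommGroup M] [Module B M] [Module A M] [IsScalarTower A B M] [Module.Finite A M] :
    LocCoh.depth A M = LocCoh.depth B M := by
  rcases subsingleton_or_nontrivial M with hs | hnt
  · have h1 : maximalIdeal A • (⊤ : Submodule A M) = ⊤ := Subsingleton.elim _ _
    have h2 : maximalIdeal B • (⊤ : Submodule B M) = ⊤ := Subsingleton.elim _ _
    unfold LocCoh.depth LocCoh.idealDepth
    rw [if_pos h1, if_pos h2]
  · have hIM := Depth.smul_top_ne_top A M
    obtain ⟨rs, -, -, -, h4⟩ := DepthCM.exists_length_eq_idealDepth (maximalIdeal A) M hIM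
    have := DepthLocHom.key A B rs.length M h4.symm
    rw [this]
    exact h4.symm

/-- A regular local ring is Cohen–Macaulay (as a module over itself). -/
theorem cm_of_spanFinrank : ∀ (d : ℕ) (A : Type u) [CommRing A] [IsRegularLocalRing A],
    (maximalIdeal A).spanFinrank = d → LocCoh.IsCohenMacaulayModule A A := by
  intro d
  induction d with
  | zero =>
    intro A _ _ h
    have hbot : maximalIdeal A = ⊥ :=
      (Submodule.spanFinrank_eq_zero_iff_eq_bot (maximalIdeal A).fg_of_isNoetherianRing).mp h
    have hfield : IsField A := IsLocalRing.isField_iff_maximalIdeal_eq.mpr hbot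
    unfold LocCoh.IsCohenMacaulayModule
    rw [supportDim_self_eq_ringKrullDim, ringKrullDim_eq_zero_of_isField hfield]
    have : LocCoh.depth A A = 0 := by
      rw [Depth.depth_eq_zero_iff]
      intro x hx hreg
      rw [hbot, Ideal.mem_bot] at hx
      subst hx
      have := hreg (show (0 : A) • (1 : A) = (0 : A) • (0 : A) by simp)
      exact one_ne_zero this
    rw [this]
    rfl
  | succ d ih =>
    intro A _ _ h
    have hreg : (maximalIdeal A).spanFinrank = ringKrullDim A :=
      IsRegularLocalRing.spanFinrank_maximalIdeal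
    have hdim : ¬ ringKrullDim A ≤ 0 := by
      rw [← hreg, h]
      intro hle
      have : ((d + 1 : ℕ) : WithBot ℕ∞) ≤ ((0 : ℕ) : WithBot ℕ∞) := hle
      have h' : d + 1 ≤ 0 := by exact_mod_cast this
      omega
    obtain ⟨x, hxm, hx2, -⟩ := Groth.Agent.Lead.RegLocal.exists_mem_notMem_sq_minimalPrimes hdim
    obtain ⟨hR', hdimq, hl, hspan⟩ := Groth.Agent.Lead.RegLocal.quotient_isRegularLocalRing hxm hx2
    have hd : (maximalIdeal (A ⧸ Ideal.span {x})).spanFinrank = d := by omega
    have hcm := ih (A ⧸ Ideal.span {x}) hd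
    have hdom : IsDomain A := Groth.Agent.Lead.RegLocal.isDomain_of_isRegularLocalRing A
    have hx0 : x ≠ 0 := by
      rintro rfl
      exact hx2 (Ideal.zero_mem _)
    have hxreg : IsSMulRegular A x := by
      intro a b hab
      exact mul_left_cancel₀ hx0 hab
    have hloc : IsLocalHom (algebraMap A (A ⧸ Ideal.span {x})) :=
      IsLocalHom.of_surjective _ Ideal.Quotient.mk_surjective
    have hdepth := depth_eq_of_isLocalHom A (A ⧸ Ideal.span {x}) (A ⧸ Ideal.span {x})
    have heq : x • (⊤ : Submodule A A) = Ideal.span {x} := by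
      rw [← Submodule.ideal_span_singleton_smul, smul_eq_mul, Ideal.mul_top]
    let e : QuotSMulTop x A ≃ₗ[A] (A ⧸ Ideal.span {x}) := Submodule.quotEquivOfEq _ _ heq
    have hd1 := DepthCM.idealDepth_quotSMulTop (maximalIdeal A) A (Depth.smul_top_ne_top A A) x hxm hxreg
    rw [DepthCM.idealDepth_congr (maximalIdeal A) e] at hd1
    unfold LocCoh.IsCohenMacaulayModule at hcm ⊢
    rw [supportDim_self_eq_ringKrullDim] at hcm ⊢
    rw [← hdimq, hcm, ← hdepth]
    show _ = ((LocCoh.idealDepth (maximalIdeal A) A : ℕ∞) : WithBot ℕ∞)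
    rw [← hd1]
    push_cast
    rfl

theorem cm_of_isRegularLocalRing (A : Type u) [CommRing A] [IsRegularLocalRing A] :
    LocCoh.IsCohenMacaulayModule A A :=
  cm_of_spanFinrank _ A rfl

end Groth.Agent.Helper2.RegCM
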