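import Mathlib
import Groth.Agent.Lead.RegLocal
set_option autoImplicit false
universe u
open IsLocalRing

namespace Groth.Agent.Helper2.RegSeq

variable {A : Type u} [CommRing A] [IsLocalRing A] [IsNoetherianRing A]

/-- extend an independent family in the cotangent space to a generating set of `m` -/
theorem exists_generators_extending (r : ℕ) (x : Fin r → maximalIdeal A)
    (hx : LinearIndependent (ResidueField A) (fun i => (maximalIdeal A).toCotangent (x i))) :
    ∃ Y : Set (maximalIdeal A), Y.Finite ∧
      Submodule.span A (Set.range x ∪ Y) = ⊤ ∧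
      Y.ncard + r = Module.finrank (ResidueField A) (CotangentSpace A) := by
  classical
  set v : Fin r → CotangentSpace A := fun i => (maximalIdeal A).toCotangent (x i) with hv
  have hs : LinearIndepOn (ResidueField A) id (Set.range v) := hx.linearIndepOn_id
  set B : Set (CotangentSpace A) := hs.extend (Set.subset_univ _) with hB
  have hsB : Set.range v ⊆ B := hs.subset_extend _
  let b : Module.Basis B (ResidueField A) (CotangentSpace A) := Module.Basis.extend hs
  have hbcoe : ⇑b = ((↑) : B → CotangentSpace A) := Module.Basis.coe_extend hs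
  have hBfin : B.Finite := by
    have : Finite B := Module.Finite.finite_basis b
    exact Set.toFinite B
  have hBcard : B.ncard = Module.finrank (ResidueField A) (CotangentSpace A) := by
    have : Fintype B := hBfin.fintype
    rw [Module.finrank_eq_card_basis b, Set.ncard_eq_toFinset_card', Set.toFinset_card]
  have hscard : (Set.range v).ncard = r := by
    rw [Set.ncard_range_of_injective hx.injective]  
    simp
  let lift : CotangentSpace A → maximalIdeal A :=
    Function.surjInv (maximalIdeal A).toCotangent_surjective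
  have hlift : ∀ w, (maximalIdeal A).toCotangent (lift w) = w :=
    Function.surjInv_eq (maximalIdeal A).toCotangent_surjective
  refine ⟨lift '' (B \ Set.range v), (hBfin.sdiff).image _, ?_, ?_⟩
  · rw [← CotangentSpace.span_image_eq_top_iff]
    have himg : (maximalIdeal A).toCotangent '' (Set.range x ∪ lift '' (B \ Set.range v)) = B := by
      rw [Set.image_union, ← Set.range_comp, Set.image_image]
      simp only [hlift, Set.image_id']
      show Set.range v ∪ B \ Set.range v = B
      exact Set.union_sdiff_cancel hsB
    rw [himg]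
    have := b.span_eq
    rwa [hbcoe, Subtype.range_coe] at this
  · have h1 : (lift '' (B \ Set.range v)).ncard = (B \ Set.range v).ncard := by
      apply Set.ncard_image_of_injective
      intro a c hac
      have := congrArg (maximalIdeal A).toCotangent hac
      rwa [hlift, hlift] at this
    rw [h1, ← hBcard]
    have h2 := Set.ncard_sdiff_add_ncard_of_subset hsB hBfin
    rw [hscard] at h2
    exact h2

omit [IsNoetherianRing A] in
lemma withBot_nat_of_le {a : WithBot ℕ∞} {n : ℕ} (h : a ≤ (n : WithBot ℕ∞)) (h0 : a ≠ ⊥) :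
    ∃ m : ℕ, a = (m : WithBot ℕ∞) ∧ m ≤ n := by
  induction a with
  | bot => exact absurd rfl h0
  | coe a =>
    induction a with
    | top =>
      exfalso
      have h1 : (⊤ : ℕ∞) ≤ (n : ℕ∞) := WithBot.coe_le_coe.1 h
      exact ENat.natCast_ne_top _ (top_le_iff.1 h1)
    | coe m =>
      refine ⟨m, rfl, ?_⟩
      have h1 : ((m : ℕ) : WithBot ℕ∞) ≤ (n : WithBot ℕ∞) := h
      exact_mod_cast h1

end Groth.Agent.Helper2.RegSeq

namespace Groth.Agent.Helper2.RegSeq

variable {A : Type u} [CommRing A]

/-- quotient of a regular local ring by part of a regular system of parameters -/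
theorem quotient_regular_of_indep [IsRegularLocalRing A] (r : ℕ) (x : Fin r → maximalIdeal A)
    (hx : LinearIndependent (ResidueField A) (fun i => (maximalIdeal A).toCotangent (x i))) :
    ringKrullDim (A ⧸ Ideal.span (Set.range fun i => (x i : A))) + r = ringKrullDim A ∧
      IsRegularLocalRing (A ⧸ Ideal.span (Set.range fun i => (x i : A))) := by
  set J := Ideal.span (Set.range fun i => (x i : A)) with hJdef
  have hJm : J ≤ maximalIdeal A := by
    rw [hJdef, Ideal.span_le]
    rintro _ ⟨i, rfl⟩
    exact (x i).2
  have hJ : J ≠ ⊤ := fun h => (maximalIdeal.isMaximal A).ne_top (top_le_iff.1 (h ▸ hJm))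
  obtain ⟨hl, hmax⟩ := Groth.Agent.Lead.RegLocal.quotient_local hJ
  obtain ⟨Y, hYfin, hspan, hcard⟩ := exists_generators_extending r x hx
  have hreg : ((maximalIdeal A).spanFinrank : WithBot ℕ∞) = ringKrullDim A :=
    IsRegularLocalRing.spanFinrank_maximalIdeal
  have hfin : (maximalIdeal A).spanFinrank = Module.finrank (ResidueField A) (CotangentSpace A) :=
    IsLocalRing.spanFinrank_maximalIdeal_eq_finrank_cotangentSpace A
  -- generators of m
  have hm : maximalIdeal A = Ideal.span (Subtype.val '' (Set.range x ∪ Y)) := by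
    have := congrArg (Submodule.map (maximalIdeal A).subtype) hspan
    rw [Submodule.map_span, Submodule.map_top, Submodule.range_subtype] at this
    exact this.symm
  -- generators of the maximal ideal of the quotient
  set S' : Set (A ⧸ J) := (fun y : maximalIdeal A => Ideal.Quotient.mk J (y : A)) '' Y with hS'
  have hmbar : maximalIdeal (A ⧸ J) = Ideal.span S' := by
    apply le_antisymm
    · rw [← hmax, hm, Ideal.map_span, Ideal.span_le]
      rintro _ ⟨_, ⟨y, hy, rfl⟩, rfl⟩
      rcases hy with ⟨i, rfl⟩ | hy
      · have : Ideal.Quotient.mk J (x i : A) = 0 :=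
          Ideal.Quotient.eq_zero_iff_mem.2 (Ideal.subset_span ⟨i, rfl⟩)
        rw [this]
        exact Ideal.zero_mem _
      · exact Ideal.subset_span ⟨y, hy, rfl⟩
    · rw [Ideal.span_le]
      rintro _ ⟨y, -, rfl⟩
      rw [← hmax]
      exact Ideal.mem_map_of_mem _ y.2
  have he' : (maximalIdeal (A ⧸ J)).spanFinrank ≤ Y.ncard := by
    rw [hmbar]
    refine (Submodule.spanFinrank_span_le_ncard_of_finite (hYfin.image _)).trans ?_
    exact Set.ncard_image_le hYfin
  have hdim1 : ringKrullDim A ≤ ringKrullDim (A ⧸ J) + J.spanFinrank :=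
    ringKrullDim_le_ringKrullDim_quotient_add_spanFinrank J
      (by rw [IsLocalRing.ringJacobson_eq_maximalIdeal]; exact hJm)
  have hj : J.spanFinrank ≤ r := by
    have h1 : (Submodule.span A (Set.range fun i => (x i : A))).spanFinrank
        ≤ (Set.range fun i => (x i : A)).ncard :=
      Submodule.spanFinrank_span_le_ncard_of_finite (Set.finite_range _)
    have h2 : (Set.range fun i => (x i : A)).ncard ≤ r := by
      have := Set.ncard_image_le (f := fun i => (x i : A)) (Set.finite_univ (α := Fin r))
      rw [Set.image_univ] at this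
      simpa using this
    exact h1.trans h2
  have hdim2 := ringKrullDim_le_spanFinrank_maximalIdeal (A ⧸ J)
  have hne : ringKrullDim (A ⧸ J) ≠ ⊥ := ringKrullDim_ne_bot
  obtain ⟨a, ha, hae⟩ := withBot_nat_of_le hdim2 hne
  rw [ha, ← hreg] at hdim1
  have h3 : (maximalIdeal A).spanFinrank ≤ a + J.spanFinrank := by exact_mod_cast hdim1
  have h4 : a + r = (maximalIdeal A).spanFinrank := by omega
  constructor
  · rw [ha, ← hreg, ← h4]
    push_cast
    rfl
  · apply IsRegularLocalRing.of_spanFinrank_maximalIdeal_le
    rw [ha]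
    have : (maximalIdeal (A ⧸ J)).spanFinrank ≤ a := by omega
    exact_mod_cast this

/-- converse: if the quotient by `r` elements of `m` is regular of dimension `dim A - r`, then
`A` is regular and the elements are independent in the cotangent space -/
theorem regular_of_quotient_regular [IsLocalRing A] [IsNoetherianRing A] (r : ℕ)
    (x : Fin r → maximalIdeal A)
    (hdim : ringKrullDim (A ⧸ Ideal.span (Set.range fun i => (x i : A))) + r = ringKrullDim A)
    (hreg : IsRegularLocalRing (A ⧸ Ideal.span (Set.range fun i => (x i : A)))) :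
    IsRegularLocalRing A ∧
      LinearIndependent (ResidueField A) (fun i => (maximalIdeal A).toCotangent (x i)) := by
  classical
  set J := Ideal.span (Set.range fun i => (x i : A)) with hJdef
  have hJm : J ≤ maximalIdeal A := by
    rw [hJdef, Ideal.span_le]
    rintro _ ⟨i, rfl⟩
    exact (x i).2
  have hJ : J ≠ ⊤ := fun h => (maximalIdeal.isMaximal A).ne_top (top_le_iff.1 (h ▸ hJm))
  obtain ⟨hl, hmax⟩ := Groth.Agent.Lead.RegLocal.quotient_local hJ
  have hregq : ((maximalIdeal (A ⧸ J)).spanFinrank : WithBot ℕ∞) = ringKrullDim (A ⧸ J) :=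
    IsRegularLocalRing.spanFinrank_maximalIdeal
  set G' : Set (A ⧸ J) := (maximalIdeal (A ⧸ J)).generators with hG'
  have hfg : (maximalIdeal (A ⧸ J)).FG := (maximalIdeal (A ⧸ J)).fg_of_isNoetherianRing
  have hG'fin : G'.Finite := Submodule.FG.finite_generators hfg
  have hG'card : G'.ncard = (maximalIdeal (A ⧸ J)).spanFinrank := Submodule.FG.generators_ncard hfg
  have hG'span : Ideal.span G' = maximalIdeal (A ⧸ J) := Submodule.span_generators _
  let f : A ⧸ J → A := Function.surjInv Ideal.Quotient.mk_surjective
  have hf : ∀ g, Ideal.Quotient.mk J (f g) = g := Function.surjInv_eq Ideal.Quotient.mk_surjective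
  have hfm : ∀ g ∈ G', f g ∈ maximalIdeal A := by
    intro g hg
    have hgm : g ∈ maximalIdeal (A ⧸ J) := hG'span ▸ Ideal.subset_span hg
    rw [IsLocalRing.mem_maximalIdeal, mem_nonunits_iff] at hgm ⊢
    intro hu
    exact hgm (hf g ▸ hu.map (Ideal.Quotient.mk J))
  -- the generating set of m, as a subset of m
  let Y : Set (maximalIdeal A) := {y | ∃ g ∈ G', (y : A) = f g}
  have hYfin : Y.Finite := by
    have hsub : Y ⊆ Set.range (fun g : G' => (⟨f g, hfm g g.2⟩ : maximalIdeal A)) := by
      rintro y ⟨g, hg, hy⟩
      exact ⟨⟨g, hg⟩, Subtype.ext hy.symm⟩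
    have : Finite G' := hG'fin
    exact (Set.finite_range _).subset hsub
  have hYcard : Y.ncard ≤ (maximalIdeal (A ⧸ J)).spanFinrank := by
    have hsub : Y ⊆ (fun g : A ⧸ J => if h : f g ∈ maximalIdeal A then
        (⟨f g, h⟩ : maximalIdeal A) else 0) '' G' := by
      rintro y ⟨g, hg, hy⟩
      refine ⟨g, hg, ?_⟩
      show (if h : f g ∈ maximalIdeal A then (⟨f g, h⟩ : maximalIdeal A) else 0) = y
      rw [dif_pos (hfm g hg)]
      exact Subtype.ext hy.symm
    calc Y.ncard ≤ _ := Set.ncard_le_ncard hsub (hG'fin.image _)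
      _ ≤ G'.ncard := Set.ncard_image_le hG'fin
      _ = _ := hG'card
  have hspan : Submodule.span A (Set.range x ∪ Y) = ⊤ := by
    rw [eq_top_iff]
    rintro ⟨a, ha⟩ -
    -- mk a ∈ span G'
    have h1 : Ideal.Quotient.mk J a ∈ Ideal.span G' := by
      rw [hG'span, ← hmax]
      exact Ideal.mem_map_of_mem _ ha
    have h2 : Ideal.span G' = Ideal.map (Ideal.Quotient.mk J) (Ideal.span (f '' G')) := by
      rw [Ideal.map_span, Set.image_image]
      simp only [hf, Set.image_id']
    rw [h2, ← Ideal.mem_comap, Ideal.comap_map_of_surjective' _ Ideal.Quotient.mk_surjective,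
      Ideal.mk_ker] at h1
    -- a ∈ span (f '' G') ⊔ J
    have h3 : Ideal.span (f '' G') ⊔ J ≤ Submodule.map (maximalIdeal A).subtype
        (Submodule.span A (Set.range x ∪ Y)) := by
      rw [Submodule.map_span]
      apply sup_le
      · rw [Ideal.span_le]
        rintro _ ⟨g, hg, rfl⟩
        exact Submodule.subset_span ⟨⟨f g, hfm g hg⟩, Or.inr ⟨g, hg, rfl⟩, rfl⟩
      · rw [hJdef, Ideal.span_le]
        rintro _ ⟨i, rfl⟩
        exact Submodule.subset_span ⟨x i, Or.inl ⟨i, rfl⟩, rfl⟩
    obtain ⟨z, hz, hza⟩ := h3 h1
    have : z = ⟨a, ha⟩ := Subtype.ext hza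
    rw [← this]
    exact hz
  -- count
  have hm : maximalIdeal A = Ideal.span (Subtype.val '' (Set.range x ∪ Y)) := by
    have := congrArg (Submodule.map (maximalIdeal A).subtype) hspan
    rw [Submodule.map_span, Submodule.map_top, Submodule.range_subtype] at this
    exact this.symm
  have hunionfin : (Set.range x ∪ Y).Finite := (Set.finite_range x).union hYfin
  have hrange : (Set.range x).ncard ≤ r := by
    have := Set.ncard_image_le (f := x) (Set.finite_univ (α := Fin r))
    rw [Set.image_univ] at this
    simpa using this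
  have hcount : (maximalIdeal A).spanFinrank ≤ r + (maximalIdeal (A ⧸ J)).spanFinrank := by
    have h1 : (Ideal.span (Subtype.val '' (Set.range x ∪ Y))).spanFinrank ≤
        (Subtype.val '' (Set.range x ∪ Y) : Set A).ncard :=
      Submodule.spanFinrank_span_le_ncard_of_finite (hunionfin.image _)
    rw [← hm] at h1
    have h2 : (Subtype.val '' (Set.range x ∪ Y) : Set A).ncard ≤ (Set.range x ∪ Y).ncard :=
      Set.ncard_image_le hunionfin
    have h3 : (Set.range x ∪ Y).ncard ≤ (Set.range x).ncard + Y.ncard := Set.ncard_union_le _ _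
    omega
  have hge := ringKrullDim_le_spanFinrank_maximalIdeal A
  rw [← hdim, ← hregq] at hge
  have hge' : (maximalIdeal (A ⧸ J)).spanFinrank + r ≤ (maximalIdeal A).spanFinrank := by
    exact_mod_cast hge
  have heq : (maximalIdeal A).spanFinrank = r + (maximalIdeal (A ⧸ J)).spanFinrank := by omega
  have hregA : IsRegularLocalRing A := by
    apply IsRegularLocalRing.of_spanFinrank_maximalIdeal_le
    rw [← hdim, ← hregq, heq]
    push_cast
    rw [add_comm]
  refine ⟨hregA, ?_⟩
  -- independence: the family indexed by the finite set `Set.range x ∪ Y` ... use cardinalities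
  have hfin : (maximalIdeal A).spanFinrank = Module.finrank (ResidueField A) (CotangentSpace A) :=
    IsLocalRing.spanFinrank_maximalIdeal_eq_finrank_cotangentSpace A
  -- all the inequalities are equalities
  have hYcard' : Y.ncard = (maximalIdeal (A ⧸ J)).spanFinrank := by
    have h1 : (Ideal.span (Subtype.val '' (Set.range x ∪ Y))).spanFinrank ≤
        (Subtype.val '' (Set.range x ∪ Y) : Set A).ncard :=
      Submodule.spanFinrank_span_le_ncard_of_finite (hunionfin.image _)
    rw [← hm] at h1
    have h2 : (Subtype.val '' (Set.range x ∪ Y) : Set A).ncard ≤ (Set.range x ∪ Y).ncard :=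
      Set.ncard_image_le hunionfin
    have h3 : (Set.range x ∪ Y).ncard ≤ (Set.range x).ncard + Y.ncard := Set.ncard_union_le _ _
    omega
  have : Fintype Y := hYfin.fintype
  let w : Fin r ⊕ Y → CotangentSpace A := fun s =>
    Sum.elim (fun i => (maximalIdeal A).toCotangent (x i))
      (fun y => (maximalIdeal A).toCotangent (y : maximalIdeal A)) s
  have hwspan : ⊤ ≤ Submodule.span (ResidueField A) (Set.range w) := by
    have h1 := (CotangentSpace.span_image_eq_top_iff (s := Set.range x ∪ Y)).2 hspan
    rw [← h1]
    apply Submodule.span_mono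
    rintro _ ⟨y, hy, rfl⟩
    rcases hy with ⟨i, rfl⟩ | hy
    · exact ⟨Sum.inl i, rfl⟩
    · exact ⟨Sum.inr ⟨y, hy⟩, rfl⟩
  have hwcard : Fintype.card (Fin r ⊕ Y) = Module.finrank (ResidueField A) (CotangentSpace A) := by
    rw [Fintype.card_sum, Fintype.card_fin, ← hfin, heq, ← hYcard', Set.ncard_eq_toFinset_card',
      Set.toFinset_card]
  have hwli := linearIndependent_of_top_le_span_of_card_eq_finrank hwspan hwcard
  exact hwli.comp Sum.inl Sum.inl_injective

end Groth.Agent.Helper2.RegSeq
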