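import Mathlib
import Groth.Agent.Helper2.RegSeq
import Groth.Agent.Helper2.DepthCM
set_option autoImplicit false
universe u
open IsLocalRing

namespace Groth.Agent.Helper2.RegSeq2

/-- P1: pick elements of `n` whose classes form a basis of the image of `n` in `m/m²`. -/
theorem exists_indep_in_ideal {R : Type u} [CommRing R] [IsLocalRing R] [IsNoetherianRing R]
    (n : Ideal R) (hnm : n ≤ maximalIdeal R) :
    ∃ (c : ℕ) (x : Fin c → maximalIdeal R), (∀ i, (x i : R) ∈ n) ∧
      LinearIndependent (ResidueField R) (fun i => (maximalIdeal R).toCotangent (x i)) ∧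
      n ≤ Ideal.span (Set.range fun i => (x i : R)) ⊔ maximalIdeal R ^ 2 := by
  classical
  set N : Set (maximalIdeal R) := {y | (y : R) ∈ n} with hN
  set t : Set (CotangentSpace R) := (maximalIdeal R).toCotangent '' N with ht
  obtain ⟨b, hbt, hspan, hli⟩ := exists_linearIndependent (ResidueField R) t
  have hbfin : b.Finite := hli.setFinite
  have : Finite b := hbfin
  obtain ⟨c, ⟨e⟩⟩ := Finite.exists_equiv_fin b
  have hpre : ∀ v : b, ∃ y : maximalIdeal R, (y : R) ∈ n ∧ (maximalIdeal R).toCotangent y = v := by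
    intro v
    obtain ⟨y, hy, hyv⟩ := hbt v.2
    exact ⟨y, hy, hyv⟩
  choose g hgn hgv using hpre
  refine ⟨c, fun i => g (e.symm i), fun i => hgn _, ?_, ?_⟩
  · have : (fun i => (maximalIdeal R).toCotangent (g (e.symm i))) = (fun v : b => (v : CotangentSpace R)) ∘ e.symm := by
      funext i
      exact hgv _
    rw [this]
    exact hli.comp _ e.symm.injective
  · intro y hy
    have hym : y ∈ maximalIdeal R := hnm hy
    have h1 : (maximalIdeal R).toCotangent ⟨y, hym⟩ ∈ Submodule.span (ResidueField R) t :=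
      Submodule.subset_span ⟨⟨y, hym⟩, hy, rfl⟩
    rw [← hspan] at h1
    -- b = image of range of x
    have hb : b = (maximalIdeal R).toCotangent '' (Set.range fun i => g (e.symm i)) := by
      ext v
      constructor
      · intro hv
        refine ⟨g ⟨v, hv⟩, ⟨e ⟨v, hv⟩, by simp⟩, hgv _⟩
      · rintro ⟨_, ⟨i, rfl⟩, rfl⟩
        rw [hgv]
        exact (e.symm i).2
    have h2 : (maximalIdeal R).toCotangent ⟨y, hym⟩ ∈
        (Submodule.span (ResidueField R) b).restrictScalars R := h1
    rw [Submodule.restrictScalars_span R (ResidueField R) Ideal.Quotient.mk_surjective, hb,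
      ← Submodule.map_span] at h2
    obtain ⟨z, hz, hzy⟩ := h2
    have h3 : ((z : R) - y) ∈ maximalIdeal R ^ 2 := by
      have := (Ideal.toCotangent_eq (I := maximalIdeal R) (x := z) (y := ⟨y, hym⟩)).1 hzy
      exact this
    have h4 : (z : R) ∈ Ideal.span (Set.range fun i => ((g (e.symm i)) : R)) := by
      have := Submodule.mem_map_of_mem (f := (maximalIdeal R).subtype) hz
      rw [Submodule.map_span, ← Set.range_comp] at this
      exact this
    have : y = (z : R) - ((z : R) - y) := by ring
    rw [this]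
    exact Ideal.sub_mem _ (Ideal.mem_sup_left h4) (Ideal.mem_sup_right h3)

/-- P2: a proper ideal inside `m²` of a regular local ring with regular quotient is zero. -/
theorem eq_bot_of_le_sq {R : Type u} [CommRing R] [IsRegularLocalRing R] (n : Ideal R)
    (hn : n ≤ maximalIdeal R ^ 2) (hq : IsRegularLocalRing (R ⧸ n)) : n = ⊥ := by
  classical
  have hnm : n ≤ maximalIdeal R := hn.trans (Ideal.pow_le_self (by norm_num))
  have hntop : n ≠ ⊤ := fun h => (maximalIdeal.isMaximal R).ne_top (top_le_iff.1 (h ▸ hnm))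
  obtain ⟨hl, hmax⟩ := Groth.Agent.Lead.RegLocal.quotient_local hntop
  have hregq : ((maximalIdeal (R ⧸ n)).spanFinrank : WithBot ℕ∞) = ringKrullDim (R ⧸ n) :=
    IsRegularLocalRing.spanFinrank_maximalIdeal
  have hreg : ((maximalIdeal R).spanFinrank : WithBot ℕ∞) = ringKrullDim R :=
    IsRegularLocalRing.spanFinrank_maximalIdeal
  set G' : Set (R ⧸ n) := (maximalIdeal (R ⧸ n)).generators with hG'
  have hfg : (maximalIdeal (R ⧸ n)).FG := (maximalIdeal (R ⧸ n)).fg_of_isNoetherianRing
  have hG'fin : G'.Finite := Submodule.FG.finite_generators hfg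
  have hG'card : G'.ncard = (maximalIdeal (R ⧸ n)).spanFinrank := Submodule.FG.generators_ncard hfg
  have hG'span : Ideal.span G' = maximalIdeal (R ⧸ n) := Submodule.span_generators _
  let f : R ⧸ n → R := Function.surjInv Ideal.Quotient.mk_surjective
  have hf : ∀ g, Ideal.Quotient.mk n (f g) = g := Function.surjInv_eq Ideal.Quotient.mk_surjective
  have hfm : ∀ g ∈ G', f g ∈ maximalIdeal R := by
    intro g hg
    have hgm : g ∈ maximalIdeal (R ⧸ n) := hG'span ▸ Ideal.subset_span hg
    rw [IsLocalRing.mem_maximalIdeal, mem_nonunits_iff] at hgm ⊢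
    intro hu
    exact hgm (hf g ▸ hu.map (Ideal.Quotient.mk n))
  set N : Ideal R := Ideal.span (f '' G') with hNdef
  have hNm : N ≤ maximalIdeal R := by
    rw [hNdef, Ideal.span_le]
    rintro _ ⟨g, hg, rfl⟩
    exact hfm g hg
  have hle : maximalIdeal R ≤ N ⊔ n := by
    intro a ha
    have h1 : Ideal.Quotient.mk n a ∈ Ideal.span G' := by
      rw [hG'span, ← hmax]
      exact Ideal.mem_map_of_mem _ ha
    have h2 : Ideal.span G' = Ideal.map (Ideal.Quotient.mk n) N := by
      rw [hNdef, Ideal.map_span, Set.image_image]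
      simp only [hf, Set.image_id']
    rw [h2, ← Ideal.mem_comap, Ideal.comap_map_of_surjective' _ Ideal.Quotient.mk_surjective,
      Ideal.mk_ker] at h1
    exact h1
  have hle2 : maximalIdeal R ≤ N ⊔ maximalIdeal R • maximalIdeal R := by
    refine hle.trans (sup_le_sup_left ?_ _)
    rw [smul_eq_mul, ← pow_two]
    exact hn
  have hmN : maximalIdeal R ≤ N :=
    Submodule.le_of_le_smul_of_le_jacobson_bot (maximalIdeal R).fg_of_isNoetherianRing
      (IsLocalRing.maximalIdeal_le_jacobson _) hle2
  have hmeq : maximalIdeal R = N := le_antisymm hmN hNm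
  have hcount : (maximalIdeal R).spanFinrank ≤ (maximalIdeal (R ⧸ n)).spanFinrank := by
    rw [hmeq, hNdef]
    calc _ ≤ (f '' G').ncard := Submodule.spanFinrank_span_le_ncard_of_finite (hG'fin.image _)
      _ ≤ G'.ncard := Set.ncard_image_le hG'fin
      _ = _ := hG'card
  have hdimle : ringKrullDim R ≤ ringKrullDim (R ⧸ n) := by
    rw [← hreg, ← hregq]
    exact_mod_cast hcount
  by_contra hne
  obtain ⟨a, han, ha0⟩ := Submodule.exists_mem_ne_zero_of_ne_bot hne
  have hdom : IsDomain R := Groth.Agent.Lead.RegLocal.isDomain_of_isRegularLocalRing R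
  have hnzd : a ∈ nonZeroDivisors R := mem_nonZeroDivisors_of_ne_zero ha0
  have h1 := ringKrullDim_quotient_succ_le_of_nonZeroDivisor hnzd
  have hsa : Ideal.span {a} ≤ n := (Ideal.span_singleton_le_iff_mem _).2 han
  have h2 : ringKrullDim (R ⧸ n) ≤ ringKrullDim (R ⧸ Ideal.span {a}) :=
    ringKrullDim_le_of_surjective (Ideal.Quotient.factor hsa) (Ideal.Quotient.factor_surjective hsa)
  have h3 : ringKrullDim R + 1 ≤ ringKrullDim R := by
    calc ringKrullDim R + 1 ≤ ringKrullDim (R ⧸ n) + 1 := by gcongr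
      _ ≤ ringKrullDim (R ⧸ Ideal.span {a}) + 1 := by gcongr
      _ ≤ ringKrullDim R := h1
  rw [← hreg] at h3
  have h4 : ((maximalIdeal R).spanFinrank + 1 : ℕ) ≤ (maximalIdeal R).spanFinrank := by
    exact_mod_cast h3
  omega

end Groth.Agent.Helper2.RegSeq2
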