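import Mathlib
import Groth.Prelude.Def_CAlg
import Groth.Agent.Helper2.RegSeq2
import Groth.Agent.Helper2.RegCM
set_option autoImplicit false
universe u
open IsLocalRing Groth.Agent.Helper2 RingTheory.Sequence

namespace Groth.Agent.Helper2.RegSeq3

/-- an ideal of a regular local ring with regular quotient is generated by part of a regular
system of parameters -/
theorem exists_indep_generators {R : Type u} [CommRing R] [IsRegularLocalRing R]
    (n : Ideal R) (hn : n ≠ ⊤) (hregq : IsRegularLocalRing (R ⧸ n)) :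
    ∃ (c : ℕ) (x : Fin c → maximalIdeal R),
      LinearIndependent (ResidueField R) (fun i => (maximalIdeal R).toCotangent (x i)) ∧
      n = Ideal.span (Set.range fun i => (x i : R)) := by
  classical
  have hnm : n ≤ maximalIdeal R := IsLocalRing.le_maximalIdeal hn
  obtain ⟨c, x, hxn, hli, hle⟩ := RegSeq2.exists_indep_in_ideal n hnm
  refine ⟨c, x, hli, ?_⟩
  set J := Ideal.span (Set.range fun i => (x i : R)) with hJdef
  have hJn : J ≤ n := by
    rw [hJdef, Ideal.span_le]
    rintro _ ⟨i, rfl⟩
    exact hxn i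
  have hJtop : J ≠ ⊤ := fun h => hn (top_le_iff.1 (h ▸ hJn))
  obtain ⟨-, hregJ⟩ := RegSeq.quotient_regular_of_indep c x hli
  obtain ⟨hlJ, hmaxJ⟩ := Groth.Agent.Lead.RegLocal.quotient_local hJtop
  have hn' : n.map (Ideal.Quotient.mk J) ≤ maximalIdeal (R ⧸ J) ^ 2 := by
    calc n.map (Ideal.Quotient.mk J) ≤ (J ⊔ maximalIdeal R ^ 2).map (Ideal.Quotient.mk J) :=
          Ideal.map_mono hle
      _ = maximalIdeal (R ⧸ J) ^ 2 := by
          rw [Ideal.map_sup, Ideal.map_quotient_self, bot_sup_eq, Ideal.map_pow, hmaxJ]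
  have hregq' : IsRegularLocalRing ((R ⧸ J) ⧸ n.map (Ideal.Quotient.mk J)) :=
    IsRegularLocalRing.of_ringEquiv (DoubleQuot.quotQuotEquivQuotOfLE hJn).symm
  have hbot := RegSeq2.eq_bot_of_le_sq (n.map (Ideal.Quotient.mk J)) hn' hregq'
  have hnJ : n ≤ J := by
    rw [Ideal.map_eq_bot_iff_le_ker, Ideal.mk_ker] at hbot
    exact hbot
  exact le_antisymm hnJ hJn

/-- a family in `m` with independent classes in a regular local ring is a regular sequence -/
theorem isRegular_ofFn {R : Type u} [CommRing R] [IsRegularLocalRing R] (c : ℕ)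
    (x : Fin c → maximalIdeal R)
    (hli : LinearIndependent (ResidueField R) (fun i => (maximalIdeal R).toCotangent (x i))) :
    IsRegular R (List.ofFn fun i => (x i : R)) ∧
      Ideal.ofList (List.ofFn fun i => (x i : R)) = Ideal.span (Set.range fun i => (x i : R)) := by
  have hof : Ideal.ofList (List.ofFn fun i => (x i : R)) = Ideal.span (Set.range fun i => (x i : R)) := by
    unfold Ideal.ofList
    congr 1
    ext a
    simp [List.mem_ofFn]
  refine ⟨?_, hof⟩
  obtain ⟨hdim, -⟩ := RegSeq.quotient_regular_of_indep c x hli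
  have hmem : ∀ a ∈ List.ofFn (fun i => (x i : R)), a ∈ maximalIdeal R := by
    intro a ha
    rw [List.mem_ofFn] at ha
    obtain ⟨i, rfl⟩ := ha
    exact (x i).2
  have hcm := RegCM.cm_of_isRegularLocalRing R
  have hI : Ideal.ofList (List.ofFn fun i => (x i : R)) • (⊤ : Submodule R R)
      = Ideal.ofList (List.ofFn fun i => (x i : R)) := by
    rw [smul_eq_mul, Ideal.mul_top]
  have hdim' : Module.supportDim R (R ⧸ Ideal.ofList (List.ofFn fun i => (x i : R)) • (⊤ : Submodule R R))
      + (List.ofFn fun i => (x i : R)).length = Module.supportDim R R := by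
    have hE : Module.supportDim R (R ⧸ Ideal.ofList (List.ofFn fun i => (x i : R)) • (⊤ : Submodule R R))
        = Module.supportDim R (R ⧸ Ideal.ofList (List.ofFn fun i => (x i : R))) :=
      Module.supportDim_eq_of_equiv (Submodule.quotEquivOfEq _ _ hI)
    rw [hE, Module.supportDim_self_eq_ringKrullDim, List.length_ofFn, ← hdim, ← hof,
      ← Module.supportDim_quotient_eq_ringKrullDim]
  have hw := DepthCM2.weaklyRegular_of_dim_drop _ R hcm hmem hdim'
  exact IsRegular.of_isWeaklyRegular_of_mem_maximalIdeal R hmem hw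

end Groth.Agent.Helper2.RegSeq3
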