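import Mathlib
import Groth.Prelude

namespace Groth.Agent.Helper2.CotTGen

open CotT Function TensorProduct

noncomputable section

universe u v w t m

section One

variable {A : Type u} {B : Type v} {ι : Type w} {σ : Type t}
variable [CommRing A] [CommRing B] [Algebra A B]
variable (P : Algebra.Presentation A B ι σ)
variable (M : Type m) [AddCommGroup M] [Module B M]
  [Module P.toExtension.Ring M] [IsScalarTower P.toExtension.Ring B M]

/-- elements of the kernel ideal act as zero on `M`. -/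
lemma jmap_smul (a : relMod P) (x : M) : jmap P a • x = 0 := by
  rw [← algebraMap_smul B (jmap P a) x, algebraMap_jmap, zero_smul]

/-- The maps `Q → M` killing the trivial relations. -/
def Zs : Submodule B (relKer P →ₗ[P.toExtension.Ring] M) where
  carrier := {l | ∀ q : relKer P, (q : relMod P) ∈ trivRel P → l q = 0}
  add_mem' := by
    intro a b ha hb q hq
    rw [LinearMap.add_apply, ha q hq, hb q hq, add_zero]
  zero_mem' := by
    intro q _
    rfl
  smul_mem' := by
    intro c a ha q hq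
    rw [LinearMap.smul_apply, ha q hq, smul_zero]

/-- restriction from `F` to `Q`. -/
def res : (relMod P →ₗ[P.toExtension.Ring] M) →ₗ[B] (relKer P →ₗ[P.toExtension.Ring] M) where
  toFun φ := φ ∘ₗ (relKer P).subtype
  map_add' _ _ := rfl
  map_smul' _ _ := rfl

@[simp] lemma res_apply (φ : relMod P →ₗ[P.toExtension.Ring] M) (q : relKer P) :
    res P M φ q = φ (q : relMod P) := rfl

/-- The maps `Q → M` extending to `F`. -/
def Bs : Submodule B (relKer P →ₗ[P.toExtension.Ring] M) := LinearMap.range (res P M)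

lemma map_trivRel_eq_zero (φ : relMod P →ₗ[P.toExtension.Ring] M) {x : relMod P}
    (hx : x ∈ trivRel P) : φ x = 0 := by
  have : trivRel P ≤ LinearMap.ker φ := by
    refine Submodule.span_le.mpr ?_
    rintro _ ⟨a, b, rfl⟩
    simp only [SetLike.mem_coe, LinearMap.mem_ker, map_sub, map_smul, jmap_smul, sub_zero]
  exact this hx

lemma Bs_le_Zs : Bs P M ≤ Zs P M := by
  rintro _ ⟨φ, rfl⟩ q hq
  exact map_trivRel_eq_zero P M φ hq

/-- evaluation of a `B`-linear map on `L₂` at the classes `1 ⊗ q`. -/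
def toZ : (L2 P →ₗ[B] M) →ₗ[B] (relKer P →ₗ[P.toExtension.Ring] M) where
  toFun μ :=
    { toFun := fun q => μ (Submodule.Quotient.mk ((1 : B) ⊗ₜ[P.toExtension.Ring] q))
      map_add' := fun q q' => by rw [TensorProduct.tmul_add, Submodule.Quotient.mk_add, map_add]
      map_smul' := fun r q => by
        rw [RingHom.id_apply, TensorProduct.tmul_smul, Submodule.Quotient.mk_smul,
          LinearMap.map_smul_of_tower] }
  map_add' _ _ := rfl
  map_smul' _ _ := rfl

@[simp] lemma toZ_apply (μ : L2 P →ₗ[B] M) (q : relKer P) :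
    toZ P M μ q = μ (Submodule.Quotient.mk ((1 : B) ⊗ₜ[P.toExtension.Ring] q)) := rfl

lemma L2_hom_ext {X : Type*} [AddCommGroup X] [Module B X] {μ ν : L2 P →ₗ[B] X}
    (h : ∀ q : relKer P, μ (Submodule.Quotient.mk ((1 : B) ⊗ₜ[P.toExtension.Ring] q)) =
      ν (Submodule.Quotient.mk ((1 : B) ⊗ₜ[P.toExtension.Ring] q))) : μ = ν := by
  refine LinearMap.ext fun x => ?_
  obtain ⟨y, rfl⟩ := Submodule.Quotient.mk_surjective _ x
  induction y using TensorProduct.induction_on with
  | zero => rw [Submodule.Quotient.mk_zero, map_zero, map_zero]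
  | add y z hy hz => rw [Submodule.Quotient.mk_add, map_add, map_add, hy, hz]
  | tmul b q =>
    have hb : (b ⊗ₜ[P.toExtension.Ring] q : B ⊗[P.toExtension.Ring] relKer P) =
        b • ((1 : B) ⊗ₜ[P.toExtension.Ring] q) := by
      rw [TensorProduct.smul_tmul', smul_eq_mul, mul_one]
    rw [hb, Submodule.Quotient.mk_smul, map_smul, map_smul, h q]

lemma toZ_injective : Injective (toZ P M) := by
  intro μ ν h
  exact L2_hom_ext P fun q => congrFun (congrArg DFunLike.coe h) q

lemma toZ_mem_Zs (μ : L2 P →ₗ[B] M) : toZ P M μ ∈ Zs P M := by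
  intro q hq
  rw [toZ_apply]
  have : Submodule.Quotient.mk ((1 : B) ⊗ₜ[P.toExtension.Ring] q) = (0 : L2 P) := by
    rw [Submodule.Quotient.mk_eq_zero]
    exact ⟨(1 : B) ⊗ₜ ⟨q, hq⟩, rfl⟩
  rw [this, map_zero]

/-- The `B`-linear map on `L₂` attached to a map on `Q` killing the trivial relations. -/
def ofZ (l : relKer P →ₗ[P.toExtension.Ring] M) (hl : l ∈ Zs P M) : L2 P →ₗ[B] M :=
  Submodule.liftQ _ (l.liftBaseChange B) (by
    rw [LinearMap.range_le_ker_iff]
    refine TensorProduct.AlgebraTensorModule.ext fun b k => ?_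
    simp only [LinearMap.coe_comp, Function.comp_apply, LinearMap.baseChange_tmul,
      LinearMap.liftBaseChange_tmul, Submodule.coe_subtype, LinearMap.zero_apply]
    rw [hl (k : relKer P) k.2, smul_zero])

lemma toZ_ofZ (l : relKer P →ₗ[P.toExtension.Ring] M) (hl : l ∈ Zs P M) :
    toZ P M (ofZ P M l hl) = l := by
  ext q
  rw [toZ_apply, ofZ, Submodule.liftQ_apply, LinearMap.liftBaseChange_tmul, one_smul]

lemma range_toZ : LinearMap.range (toZ P M) = Zs P M := by
  apply le_antisymm
  · rintro _ ⟨μ, rfl⟩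
    exact toZ_mem_Zs P M μ
  · intro l hl
    exact ⟨ofZ P M l hl, toZ_ofZ P M l hl⟩

lemma mem_range_d2Star_iff (μ : L2 P →ₗ[B] M) :
    μ ∈ LinearMap.range (d2Star P M) ↔ toZ P M μ ∈ Bs P M := by
  constructor
  · rintro ⟨φ, rfl⟩
    refine ⟨(LinearMap.liftBaseChangeEquiv B).symm φ, ?_⟩
    ext q
    rw [res_apply, LinearMap.liftBaseChangeEquiv_symm_apply, toZ_apply, d2Star_apply,
      LinearMap.comp_apply, d2_mk_tmul]
  · rintro ⟨φ', hφ'⟩
    refine ⟨φ'.liftBaseChange B, ?_⟩
    apply toZ_injective P M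
    rw [← hφ']
    ext q
    rw [res_apply, toZ_apply, d2Star_apply, LinearMap.comp_apply, d2_mk_tmul,
      LinearMap.liftBaseChange_tmul, one_smul]

end One

section Two

variable {B : Type v} [CommRing B]
variable {A₁ : Type*} {ι₁ σ₁ : Type*} [CommRing A₁] [Algebra A₁ B]
variable {A₂ : Type*} {ι₂ σ₂ : Type*} [CommRing A₂] [Algebra A₂ B]
variable {A₃ : Type*} {ι₃ σ₃ : Type*} [CommRing A₃] [Algebra A₃ B]
variable (P₁ : Algebra.Presentation A₁ B ι₁ σ₁) (P₂ : Algebra.Presentation A₂ B ι₂ σ₂)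
  (P₃ : Algebra.Presentation A₃ B ι₃ σ₃)

/-- A morphism of free covers of the kernel ideals over a ring map `τ : R₁ → R₂`. -/
structure CovHom (τ : P₁.toExtension.Ring →+* P₂.toExtension.Ring) where
  toFun : relMod P₁ →+ relMod P₂
  map_smul : ∀ (r : P₁.toExtension.Ring) (x : relMod P₁), toFun (r • x) = τ r • toFun x
  jmap_comp : ∀ x : relMod P₁, jmap P₂ (toFun x) = τ (jmap P₁ x)

variable {P₁ P₂ P₃}

namespace CovHom

variable {τ : P₁.toExtension.Ring →+* P₂.toExtension.Ring} (h : CovHom P₁ P₂ τ)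

lemma mem_relKer {x : relMod P₁} (hx : x ∈ relKer P₁) : h.toFun x ∈ relKer P₂ := by
  have hx' : jmap P₁ x = 0 := hx
  change jmap P₂ (h.toFun x) = 0
  rw [h.jmap_comp, hx', map_zero]

lemma mem_trivRel {x : relMod P₁} (hx : x ∈ trivRel P₁) : h.toFun x ∈ trivRel P₂ := by
  induction hx using Submodule.span_induction with
  | mem x hx =>
    obtain ⟨a, b, rfl⟩ := hx
    rw [map_sub, h.map_smul, h.map_smul, ← h.jmap_comp, ← h.jmap_comp]
    exact Submodule.subset_span ⟨_, _, rfl⟩
  | zero => rw [map_zero]; exact Submodule.zero_mem _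
  | add x y _ _ hx hy => rw [map_add]; exact Submodule.add_mem _ hx hy
  | smul r x _ hx => rw [h.map_smul]; exact Submodule.smul_mem _ _ hx

/-- composition of cover morphisms -/
def comp {τ' : P₂.toExtension.Ring →+* P₃.toExtension.Ring} (h' : CovHom P₂ P₃ τ')
    (h : CovHom P₁ P₂ τ) : CovHom P₁ P₃ (τ'.comp τ) where
  toFun := h'.toFun.comp h.toFun
  map_smul r x := by
    rw [AddMonoidHom.comp_apply, h.map_smul, h'.map_smul]; rfl
  jmap_comp x := by
    rw [AddMonoidHom.comp_apply, h'.jmap_comp, h.jmap_comp]; rfl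

end CovHom

/-- the identity cover morphism -/
def CovHom.id (P : Algebra.Presentation A₁ B ι₁ σ₁) : CovHom P P (RingHom.id _) where
  toFun := AddMonoidHom.id _
  map_smul _ _ := rfl
  jmap_comp _ := rfl

/-- existence of cover morphisms over any compatible ring map. -/
lemma CovHom.exists (τ : P₁.toExtension.Ring →+* P₂.toExtension.Ring)
    (hτ : ∀ r, algebraMap P₂.toExtension.Ring B (τ r) = algebraMap P₁.toExtension.Ring B r) :
    Nonempty (CovHom P₁ P₂ τ) := by
  have hex : ∀ s : σ₁, ∃ v : relMod P₂, jmap P₂ v = τ (rel P₁ s) := by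
    intro s
    have : τ (rel P₁ s) ∈ LinearMap.range (jmap P₂) := by
      rw [range_jmap]
      change algebraMap P₂.toExtension.Ring B (τ (rel P₁ s)) = 0
      rw [hτ, algebraMap_rel]
    exact this
  choose v hv using hex
  let F : relMod P₁ →+ relMod P₂ := Finsupp.liftAddHom (fun s =>
    ((smulAddHom P₂.toExtension.Ring (relMod P₂)).flip (v s)).comp τ.toAddMonoidHom)
  have hF : ∀ s r, F (Finsupp.single s r) = τ r • v s := by
    intro s r
    simp [F]
  refine ⟨⟨F, ?_, ?_⟩⟩
  · intro r x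
    induction x using Finsupp.induction_linear with
    | zero => rw [smul_zero, map_zero, smul_zero]
    | add x y hx hy => rw [smul_add, map_add, hx, hy, map_add, smul_add]
    | single s r' =>
      rw [Finsupp.smul_single, hF, hF, smul_eq_mul, map_mul, mul_smul]
  · intro x
    induction x using Finsupp.induction_linear with
    | zero => rw [map_zero, map_zero, map_zero, map_zero]
    | add x y hx hy => rw [map_add, map_add, hx, hy, map_add, map_add]
    | single s r =>
      rw [hF, _root_.map_smul, hv, jmap_single, smul_eq_mul, map_mul]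

section Pre

variable (M : Type m) [AddCommGroup M] [Module B M]
  [Module P₁.toExtension.Ring M] [IsScalarTower P₁.toExtension.Ring B M]
  [Module P₂.toExtension.Ring M] [IsScalarTower P₂.toExtension.Ring B M]
  [Module P₃.toExtension.Ring M] [IsScalarTower P₃.toExtension.Ring B M]

variable {τ : P₁.toExtension.Ring →+* P₂.toExtension.Ring}

lemma smul_eq_of_compat
    (hτ : ∀ r, algebraMap P₂.toExtension.Ring B (τ r) = algebraMap P₁.toExtension.Ring B r)
    (r : P₁.toExtension.Ring) (x : M) : τ r • x = r • x := by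
  rw [← algebraMap_smul B (τ r) x, hτ, algebraMap_smul]

/-- precomposition with a cover morphism, on maps out of `F`. -/
def preF (h : CovHom P₁ P₂ τ)
    (hτ : ∀ r, algebraMap P₂.toExtension.Ring B (τ r) = algebraMap P₁.toExtension.Ring B r) :
    (relMod P₂ →ₗ[P₂.toExtension.Ring] M) →ₗ[B] (relMod P₁ →ₗ[P₁.toExtension.Ring] M) where
  toFun φ :=
    { toFun := fun x => φ (h.toFun x)
      map_add' := fun x y => by rw [map_add, map_add]
      map_smul' := fun r x => by
        rw [RingHom.id_apply, h.map_smul, _root_.map_smul, smul_eq_of_compat M hτ] }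
  map_add' _ _ := rfl
  map_smul' _ _ := rfl

/-- precomposition with a cover morphism, on maps out of `Q`. -/
def pre (h : CovHom P₁ P₂ τ)
    (hτ : ∀ r, algebraMap P₂.toExtension.Ring B (τ r) = algebraMap P₁.toExtension.Ring B r) :
    (relKer P₂ →ₗ[P₂.toExtension.Ring] M) →ₗ[B] (relKer P₁ →ₗ[P₁.toExtension.Ring] M) where
  toFun l :=
    { toFun := fun q => l ⟨h.toFun q, h.mem_relKer q.2⟩
      map_add' := fun x y => by
        rw [← map_add]
        congr 1
        apply Subtype.ext
        simp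
      map_smul' := fun r x => by
        rw [RingHom.id_apply, ← smul_eq_of_compat M hτ, ← _root_.map_smul]
        congr 1
        apply Subtype.ext
        simp [h.map_smul] }
  map_add' _ _ := rfl
  map_smul' _ _ := rfl

@[simp] lemma pre_apply (h : CovHom P₁ P₂ τ)
    (hτ : ∀ r, algebraMap P₂.toExtension.Ring B (τ r) = algebraMap P₁.toExtension.Ring B r)
    (l : relKer P₂ →ₗ[P₂.toExtension.Ring] M) (q : relKer P₁) :
    pre M h hτ l q = l ⟨h.toFun q, h.mem_relKer q.2⟩ := rfl

lemma pre_mem_Zs (h : CovHom P₁ P₂ τ)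
    (hτ : ∀ r, algebraMap P₂.toExtension.Ring B (τ r) = algebraMap P₁.toExtension.Ring B r)
    {l : relKer P₂ →ₗ[P₂.toExtension.Ring] M} (hl : l ∈ Zs P₂ M) : pre M h hτ l ∈ Zs P₁ M := by
  intro q hq
  rw [pre_apply]
  exact hl _ (h.mem_trivRel hq)

lemma pre_mem_Bs (h : CovHom P₁ P₂ τ)
    (hτ : ∀ r, algebraMap P₂.toExtension.Ring B (τ r) = algebraMap P₁.toExtension.Ring B r)
    {l : relKer P₂ →ₗ[P₂.toExtension.Ring] M} (hl : l ∈ Bs P₂ M) : pre M h hτ l ∈ Bs P₁ M := by
  obtain ⟨φ, rfl⟩ := hl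
  exact ⟨preF M h hτ φ, rfl⟩

/-- **Homotopy**: two cover morphisms over (pointwise) equal ring maps induce maps differing by a
coboundary. -/
lemma pre_sub_pre_mem_Bs {τ' : P₁.toExtension.Ring →+* P₂.toExtension.Ring}
    (h : CovHom P₁ P₂ τ) (h' : CovHom P₁ P₂ τ') (heq : ∀ r, τ r = τ' r)
    (hτ : ∀ r, algebraMap P₂.toExtension.Ring B (τ r) = algebraMap P₁.toExtension.Ring B r)
    (hτ' : ∀ r, algebraMap P₂.toExtension.Ring B (τ' r) = algebraMap P₁.toExtension.Ring B r)
    (l : relKer P₂ →ₗ[P₂.toExtension.Ring] M) :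
    pre M h hτ l - pre M h' hτ' l ∈ Bs P₁ M := by
  have hmem : ∀ x : relMod P₁, h.toFun x - h'.toFun x ∈ relKer P₂ := by
    intro x
    change jmap P₂ (h.toFun x - h'.toFun x) = 0
    rw [map_sub, h.jmap_comp, h'.jmap_comp, heq, sub_self]
  let φ : relMod P₁ →ₗ[P₁.toExtension.Ring] M :=
    { toFun := fun x => l ⟨h.toFun x - h'.toFun x, hmem x⟩
      map_add' := fun x y => by
        rw [← map_add]
        congr 1
        apply Subtype.ext
        simp only [map_add, Submodule.coe_add]
        abel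
      map_smul' := fun r x => by
        rw [RingHom.id_apply, ← smul_eq_of_compat M hτ, ← _root_.map_smul]
        congr 1
        apply Subtype.ext
        simp only [h.map_smul, h'.map_smul, ← heq, Submodule.coe_smul, smul_sub] }
  refine ⟨φ, ?_⟩
  ext q
  rw [res_apply, LinearMap.sub_apply, pre_apply, pre_apply, ← map_sub]
  rfl

/-- the map induced on `Hom(L₂, M)` by a cover morphism. -/
def Psi (h : CovHom P₁ P₂ τ)
    (hτ : ∀ r, algebraMap P₂.toExtension.Ring B (τ r) = algebraMap P₁.toExtension.Ring B r) :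
    (L2 P₂ →ₗ[B] M) →ₗ[B] (L2 P₁ →ₗ[B] M) where
  toFun μ := ofZ P₁ M (pre M h hτ (toZ P₂ M μ)) (pre_mem_Zs M h hτ (toZ_mem_Zs P₂ M μ))
  map_add' μ ν := by
    apply toZ_injective P₁ M
    rw [toZ_ofZ, map_add (toZ P₁ M), toZ_ofZ, toZ_ofZ, map_add, map_add]
  map_smul' b μ := by
    apply toZ_injective P₁ M
    rw [toZ_ofZ, RingHom.id_apply, _root_.map_smul (toZ P₁ M), toZ_ofZ, _root_.map_smul,
      _root_.map_smul]

lemma toZ_Psi (h : CovHom P₁ P₂ τ)
    (hτ : ∀ r, algebraMap P₂.toExtension.Ring B (τ r) = algebraMap P₁.toExtension.Ring B r)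
    (μ : L2 P₂ →ₗ[B] M) : toZ P₁ M (Psi M h hτ μ) = pre M h hτ (toZ P₂ M μ) :=
  toZ_ofZ P₁ M _ (pre_mem_Zs M h hτ (toZ_mem_Zs P₂ M μ))

lemma Psi_mem_range (h : CovHom P₁ P₂ τ)
    (hτ : ∀ r, algebraMap P₂.toExtension.Ring B (τ r) = algebraMap P₁.toExtension.Ring B r) :
    LinearMap.range (d2Star P₂ M) ≤ (LinearMap.range (d2Star P₁ M)).comap (Psi M h hτ) := by
  intro μ hμ
  rw [Submodule.mem_comap, mem_range_d2Star_iff, toZ_Psi]
  exact pre_mem_Bs M h hτ ((mem_range_d2Star_iff P₂ M μ).mp hμ)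

/-- the map induced on `T²` by a cover morphism. -/
def Phi (h : CovHom P₁ P₂ τ)
    (hτ : ∀ r, algebraMap P₂.toExtension.Ring B (τ r) = algebraMap P₁.toExtension.Ring B r) :
    T2 P₂ M →ₗ[B] T2 P₁ M :=
  Submodule.mapQ _ _ (Psi M h hτ) (Psi_mem_range M h hτ)

lemma Phi_comp_Phi_eq_id {τ' : P₂.toExtension.Ring →+* P₁.toExtension.Ring}
    (h : CovHom P₁ P₂ τ) (h' : CovHom P₂ P₁ τ')
    (hτ : ∀ r, algebraMap P₂.toExtension.Ring B (τ r) = algebraMap P₁.toExtension.Ring B r)
    (hτ' : ∀ r, algebraMap P₁.toExtension.Ring B (τ' r) = algebraMap P₂.toExtension.Ring B r)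
    (hinv : ∀ r, τ' (τ r) = r) (x : T2 P₁ M) :
    Phi M h hτ (Phi M h' hτ' x) = x := by
  obtain ⟨μ, rfl⟩ := Submodule.Quotient.mk_surjective _ x
  change Submodule.Quotient.mk (Psi M h hτ (Psi M h' hτ' μ)) = Submodule.Quotient.mk μ
  rw [Submodule.Quotient.eq, mem_range_d2Star_iff, map_sub, toZ_Psi, toZ_Psi]
  have hc : ∀ r, algebraMap P₁.toExtension.Ring B ((τ'.comp τ) r) =
      algebraMap P₁.toExtension.Ring B r := fun r => by
    rw [RingHom.comp_apply, hinv]
  have h1 : pre M h hτ (pre M h' hτ' (toZ P₁ M μ)) = pre M (h'.comp h) hc (toZ P₁ M μ) := rfl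
  have h2 : toZ P₁ M μ = pre M (CovHom.id P₁) (fun _ => rfl) (toZ P₁ M μ) := rfl
  rw [h1]
  nth_rewrite 2 [h2]
  exact pre_sub_pre_mem_Bs M (h'.comp h) (CovHom.id P₁) (fun r => hinv r) hc (fun _ => rfl) _

/-- **Comparison**: presentations whose rings are isomorphic compatibly with the maps to `B` have
isomorphic `T²`. -/
theorem nonempty_T2_equiv {τ' : P₂.toExtension.Ring →+* P₁.toExtension.Ring}
    (hτ : ∀ r, algebraMap P₂.toExtension.Ring B (τ r) = algebraMap P₁.toExtension.Ring B r)
    (hτ' : ∀ r, algebraMap P₁.toExtension.Ring B (τ' r) = algebraMap P₂.toExtension.Ring B r)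
    (hinv : ∀ r, τ' (τ r) = r) (hinv' : ∀ r, τ (τ' r) = r) :
    Nonempty (T2 P₁ M ≃ₗ[B] T2 P₂ M) := by
  obtain ⟨h⟩ := CovHom.exists τ hτ
  obtain ⟨h'⟩ := CovHom.exists τ' hτ'
  exact ⟨LinearEquiv.ofLinear (Phi M h' hτ') (Phi M h hτ)
    (LinearMap.ext fun x => Phi_comp_Phi_eq_id M h' h hτ' hτ hinv' x)
    (LinearMap.ext fun x => Phi_comp_Phi_eq_id M h h' hτ hτ' hinv x)⟩

end Pre

end Two

section S12295

theorem s12295 (k B : Type u) [CommRing k] [CommRing B] [Algebra k B] (ι σ ι' σ' : Type w)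
    (P : Algebra.Presentation k B ι σ) [IsEmpty ι']
    (P' : Algebra.Presentation P.toExtension.Ring B ι' σ')
    (M : Type m) [AddCommGroup M] [Module B M] :
    Nonempty (CotT.T2 P' M ≃ₗ[B] CotT.T2 P M) := by
  letI i1 : Module P.toExtension.Ring M := Module.compHom M (algebraMap P.toExtension.Ring B)
  haveI : IsScalarTower P.toExtension.Ring B M := IsScalarTower.of_compHom P.toExtension.Ring B M
  letI i2 : Module P'.toExtension.Ring M := Module.compHom M (algebraMap P'.toExtension.Ring B)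
  haveI : IsScalarTower P'.toExtension.Ring B M := IsScalarTower.of_compHom P'.toExtension.Ring B M
  let e : P'.toExtension.Ring ≃ₐ[P.toExtension.Ring] P.toExtension.Ring :=
    MvPolynomial.isEmptyAlgEquiv P.toExtension.Ring ι'
  have hC : ∀ r : P.toExtension.Ring, algebraMap P'.toExtension.Ring B
      (algebraMap P.toExtension.Ring P'.toExtension.Ring r) = algebraMap P.toExtension.Ring B r :=
    fun r => (IsScalarTower.algebraMap_apply P.toExtension.Ring P'.toExtension.Ring B r).symm
  have hsymm : ∀ r : P.toExtension.Ring, e.symm r = algebraMap P.toExtension.Ring P'.toExtension.Ring r :=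
    fun r => e.symm.commutes r
  refine nonempty_T2_equiv (P₁ := P') (P₂ := P) M (τ := (e : P'.toExtension.Ring →+* P.toExtension.Ring))
    (τ' := algebraMap P.toExtension.Ring P'.toExtension.Ring) ?_ hC ?_ ?_
  · intro r'
    have : r' = algebraMap P.toExtension.Ring P'.toExtension.Ring (e r') := by
      rw [← hsymm, AlgEquiv.symm_apply_apply]
    conv_rhs => rw [this, hC]
    rfl
  · intro r'
    change algebraMap P.toExtension.Ring P'.toExtension.Ring (e r') = r'
    rw [← hsymm, AlgEquiv.symm_apply_apply]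
  · intro r
    change e (algebraMap P.toExtension.Ring P'.toExtension.Ring r) = r
    rw [← hsymm, AlgEquiv.apply_symm_apply]

end S12295

end

end Groth.Agent.Helper2.CotTGen
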