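import Mathlib
import Groth.Prelude
import Groth.Agent.Helper2.CotTGen

namespace Groth.Agent.Helper2.CotTPoly

open CotT Function TensorProduct Groth.Agent.Helper2.CotTGen

noncomputable section

universe v m

section Koszul

variable {R : Type*} [CommRing R] {K : Type*} (y : K → R)

/-- The Koszul relations among the `y k`. -/
def kosz : Submodule R (K →₀ R) :=
  Submodule.span R {z | ∃ k l : K, z = Finsupp.single l (y k) - Finsupp.single k (y l)}

lemma smul_sub_single_mem_kosz (k₀ : K) (cc : K →₀ R) :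
    y k₀ • cc - Finsupp.single k₀ (Finsupp.linearCombination R y cc) ∈ kosz y := by
  induction cc using Finsupp.induction_linear with
  | zero => simp
  | add f g hf hg =>
    have : y k₀ • (f + g) - Finsupp.single k₀ (Finsupp.linearCombination R y (f + g)) =
        (y k₀ • f - Finsupp.single k₀ (Finsupp.linearCombination R y f)) +
        (y k₀ • g - Finsupp.single k₀ (Finsupp.linearCombination R y g)) := by
      rw [map_add, Finsupp.single_add, smul_add]; abel
    rw [this]; exact Submodule.add_mem _ hf hg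
  | single k r =>
    have : y k₀ • Finsupp.single k r -
        Finsupp.single k₀ (Finsupp.linearCombination R y (Finsupp.single k r)) =
        r • (Finsupp.single k (y k₀) - Finsupp.single k₀ (y k)) := by
      rw [Finsupp.linearCombination_single, smul_sub, Finsupp.smul_single, Finsupp.smul_single,
        Finsupp.smul_single, smul_eq_mul, smul_eq_mul, smul_eq_mul, mul_comm]
    rw [this]
    exact Submodule.smul_mem _ _ (Submodule.subset_span ⟨k₀, k, rfl⟩)

/-- Abstract criterion for the relations among the `y k` to be Koszul: each `y k₀` is regular and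
there is a ring endomorphism killing `y k₀`, fixing the other `y k`, and congruent to the identity
modulo `y k₀`. -/
theorem mem_kosz_of_linearCombination_eq_zero
    (hreg : ∀ k (c : R), y k * c = 0 → c = 0)
    (hε : ∀ k₀ : K, ∃ ε : R →+* R, ε (y k₀) = 0 ∧ (∀ k, k ≠ k₀ → ε (y k) = y k) ∧
      ∀ p, ∃ c, p - ε p = y k₀ * c)
    (b : K →₀ R) (hb : Finsupp.linearCombination R y b = 0) : b ∈ kosz y := by
  classical
  suffices H : ∀ (S : Finset K) (b : K →₀ R), b.support ⊆ S →
      Finsupp.linearCombination R y b = 0 → b ∈ kosz y from H b.support b subset_rfl hb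
  intro S
  induction S using Finset.induction_on with
  | empty =>
    intro b hS _
    have : b = 0 := by
      rw [← Finsupp.support_eq_empty]; exact Finset.subset_empty.mp hS
    rw [this]; exact Submodule.zero_mem _
  | insert k₀ S' hk₀ IH =>
    intro b hS hb
    obtain ⟨ε, hε0, hεk, hεp⟩ := hε k₀
    choose c hc using hεp
    -- the relation with `k₀` erased and `ε` applied
    let b'' : K →₀ R := (b.erase k₀).mapRange ε (map_zero ε)
    have hb''supp : b''.support ⊆ S' := by
      intro k hk
      have hk' : k ∈ (b.erase k₀).support := Finsupp.support_mapRange hk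
      rw [Finsupp.support_erase] at hk'
      have h1 := Finset.mem_of_mem_erase hk'
      have h2 := Finset.ne_of_mem_erase hk'
      exact Finset.mem_of_mem_insert_of_ne (hS h1) h2
    have hdec : b = Finsupp.single k₀ (b k₀) + b.erase k₀ := (Finsupp.single_add_erase k₀ b).symm
    have hrel : b k₀ * y k₀ + Finsupp.linearCombination R y (b.erase k₀) = 0 := by
      rw [← hb]
      conv_rhs => rw [hdec, map_add, Finsupp.linearCombination_single, smul_eq_mul]
    have hb''rel : Finsupp.linearCombination R y b'' = 0 := by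
      have h1 : Finsupp.linearCombination R y b'' = ε (Finsupp.linearCombination R y (b.erase k₀)) := by
        rw [Finsupp.linearCombination_apply, Finsupp.linearCombination_apply,
          Finsupp.sum_mapRange_index (fun k => zero_smul R (y k)), map_finsuppSum]
        refine Finsupp.sum_congr fun k hk => ?_
        have hne : k ≠ k₀ := by
          rw [Finsupp.support_erase] at hk
          exact Finset.ne_of_mem_erase hk
        rw [smul_eq_mul, smul_eq_mul, map_mul, hεk k hne]
      have h2 : Finsupp.linearCombination R y (b.erase k₀) = -(b k₀ * y k₀) :=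
        eq_neg_of_add_eq_zero_right hrel
      rw [h1, h2, map_neg, map_mul, hε0, mul_zero, neg_zero]
    have hb'' : b'' ∈ kosz y := IH b'' hb''supp hb''rel
    have hc0 : c 0 = 0 := hreg k₀ _ (by rw [← hc 0, map_zero, sub_zero])
    let cc : K →₀ R := (b.erase k₀).mapRange c hc0
    have hb' : b.erase k₀ = b'' + y k₀ • cc := by
      ext k
      simp only [Finsupp.coe_add, Pi.add_apply, Finsupp.mapRange_apply, Finsupp.coe_smul,
        Pi.smul_apply, smul_eq_mul, b'', cc]
      rw [← hc]; ring
    have hβ : b k₀ = -(Finsupp.linearCombination R y cc) := by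
      have h3 : y k₀ * (b k₀ + Finsupp.linearCombination R y cc) = 0 := by
        have := hrel
        rw [hb', map_add, hb''rel, zero_add, map_smul, smul_eq_mul] at this
        rw [← this]; ring
      exact eq_neg_of_add_eq_zero_left (hreg k₀ _ h3)
    have hfin : b = b'' + (y k₀ • cc - Finsupp.single k₀ (Finsupp.linearCombination R y cc)) := by
      conv_lhs => rw [hdec, hb', hβ, Finsupp.single_neg]
      abel
    rw [hfin]
    exact Submodule.add_mem _ hb'' (smul_sub_single_mem_kosz y k₀ cc)

end Koszul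

section PolyExt

variable {B : Type v} [CommRing B]
variable {A₁ : Type*} {ι₁ σ₁ : Type*} [CommRing A₁] [Algebra A₁ B]
variable {A₂ : Type*} {ι₂ K : Type*} [CommRing A₂] [Algebra A₂ B]
variable {P₁ : Algebra.Presentation A₁ B ι₁ σ₁} {P₂ : Algebra.Presentation A₂ B ι₂ (σ₁ ⊕ K)}
variable {τ : P₁.toExtension.Ring →+* P₂.toExtension.Ring}
  {τ' : P₂.toExtension.Ring →+* P₁.toExtension.Ring}
variable {y : K → P₂.toExtension.Ring}

/-- the additive map `e_s ↦ e_{inl s}` over `τ`. -/
def inlFun (P₁ : Algebra.Presentation A₁ B ι₁ σ₁) (P₂ : Algebra.Presentation A₂ B ι₂ (σ₁ ⊕ K))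
    (τ : P₁.toExtension.Ring →+* P₂.toExtension.Ring) : relMod P₁ →+ relMod P₂ :=
  (Finsupp.mapRange.addMonoidHom τ.toAddMonoidHom).comp (Finsupp.mapDomain.addMonoidHom Sum.inl)

lemma inlFun_single (s : σ₁) (r : P₁.toExtension.Ring) :
    inlFun P₁ P₂ τ (Finsupp.single s r) = Finsupp.single (Sum.inl s) (τ r) := by
  change Finsupp.mapRange τ (map_zero τ) (Finsupp.mapDomain Sum.inl (Finsupp.single s r)) = _
  rw [Finsupp.mapDomain_single, Finsupp.mapRange_single]

/-- the cover morphism `e_s ↦ e_{inl s}` over `τ`. -/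
def covInl (hinl : ∀ s, rel P₂ (Sum.inl s) = τ (rel P₁ s)) : CovHom P₁ P₂ τ where
  toFun := inlFun P₁ P₂ τ
  map_smul r x := by
    induction x using Finsupp.induction_linear with
    | zero => rw [smul_zero, map_zero, smul_zero]
    | add f g hf hg => rw [smul_add, map_add, hf, hg, map_add, smul_add]
    | single s r' =>
      rw [Finsupp.smul_single, inlFun_single, inlFun_single, Finsupp.smul_single, smul_eq_mul,
        smul_eq_mul, map_mul]
  jmap_comp x := by
    induction x using Finsupp.induction_linear with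
    | zero => rw [map_zero, map_zero, map_zero, map_zero]
    | add f g hf hg => rw [map_add, map_add, hf, hg, map_add, map_add]
    | single s r' =>
      rw [inlFun_single, jmap_single, jmap_single, hinl, map_mul]

lemma covInl_single (hinl : ∀ s, rel P₂ (Sum.inl s) = τ (rel P₁ s)) (s : σ₁)
    (r : P₁.toExtension.Ring) :
    (covInl hinl).toFun (Finsupp.single s r) = Finsupp.single (Sum.inl s) (τ r) :=
  inlFun_single s r

/-- the inclusion of the `K`-part. -/
def EK (P₂ : Algebra.Presentation A₂ B ι₂ (σ₁ ⊕ K)) :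
    (K →₀ P₂.toExtension.Ring) →ₗ[P₂.toExtension.Ring] relMod P₂ :=
  Finsupp.lmapDomain _ _ Sum.inr

@[simp] lemma EK_single (k : K) (r : P₂.toExtension.Ring) :
    EK P₂ (Finsupp.single k r) = Finsupp.single (Sum.inr k) r := by
  simp [EK, Finsupp.lmapDomain_apply, Finsupp.mapDomain_single]

lemma jmap_EK (hinr : ∀ k, rel P₂ (Sum.inr k) = y k) (b : K →₀ P₂.toExtension.Ring) :
    jmap P₂ (EK P₂ b) = Finsupp.linearCombination _ y b := by
  induction b using Finsupp.induction_linear with
  | zero => simp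
  | add f g hf hg => rw [map_add, map_add, hf, hg, map_add]
  | single k r => rw [EK_single, jmap_single, hinr, Finsupp.linearCombination_single, smul_eq_mul]

lemma EK_mem_trivRel (hinr : ∀ k, rel P₂ (Sum.inr k) = y k) {b : K →₀ P₂.toExtension.Ring}
    (hb : b ∈ kosz y) : EK P₂ b ∈ trivRel P₂ := by
  have : kosz y ≤ (trivRel P₂).comap (EK P₂) := by
    refine Submodule.span_le.mpr ?_
    rintro _ ⟨k, l, rfl⟩
    simp only [Submodule.comap_coe, Set.mem_preimage, map_sub, EK_single, SetLike.mem_coe]
    refine Submodule.subset_span ⟨Finsupp.single (Sum.inr k) 1, Finsupp.single (Sum.inr l) 1, ?_⟩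
    rw [jmap_single, jmap_single, one_mul, one_mul, hinr, hinr, Finsupp.smul_single,
      Finsupp.smul_single, smul_eq_mul, smul_eq_mul, mul_one, mul_one]
  exact this hb

lemma single_inl_sub_mem_trivRel (hinl : ∀ s, rel P₂ (Sum.inl s) = τ (rel P₁ s))
    (hinr : ∀ k, rel P₂ (Sum.inr k) = y k) (s : σ₁) (c : K →₀ P₂.toExtension.Ring) :
    Finsupp.single (Sum.inl s) (Finsupp.linearCombination _ y c) -
      EK P₂ (rel P₂ (Sum.inl s) • c) ∈ trivRel P₂ := by
  induction c using Finsupp.induction_linear with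
  | zero => simp
  | add f g hf hg =>
    have : Finsupp.single (Sum.inl s) (Finsupp.linearCombination _ y (f + g)) -
        EK P₂ (rel P₂ (Sum.inl s) • (f + g)) =
        (Finsupp.single (Sum.inl s) (Finsupp.linearCombination _ y f) -
          EK P₂ (rel P₂ (Sum.inl s) • f)) +
        (Finsupp.single (Sum.inl s) (Finsupp.linearCombination _ y g) -
          EK P₂ (rel P₂ (Sum.inl s) • g)) := by
      rw [map_add, Finsupp.single_add, smul_add, map_add]; abel
    rw [this]; exact Submodule.add_mem _ hf hg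
  | single k t =>
    have : Finsupp.single (Sum.inl s) (Finsupp.linearCombination _ y (Finsupp.single k t)) -
        EK P₂ (rel P₂ (Sum.inl s) • Finsupp.single k t) =
        t • (jmap P₂ (Finsupp.single (Sum.inr k) 1) • Finsupp.single (Sum.inl s) 1 -
          jmap P₂ (Finsupp.single (Sum.inl s) 1) • Finsupp.single (Sum.inr k) 1) := by
      simp only [Finsupp.linearCombination_single, Finsupp.smul_single, EK_single, jmap_single,
        one_mul, hinr, smul_sub, smul_eq_mul, mul_one]
      rw [mul_comm (rel P₂ (Sum.inl s)) t]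
    rw [this]
    exact Submodule.smul_mem _ _ (Submodule.subset_span ⟨_, _, rfl⟩)

/-- (K1): decomposition of an arbitrary element of `F₂` modulo trivial relations. -/
lemma exists_decomp (hinl : ∀ s, rel P₂ (Sum.inl s) = τ (rel P₁ s))
    (hinr : ∀ k, rel P₂ (Sum.inr k) = y k)
    (hdec : ∀ p, ∃ c : K →₀ P₂.toExtension.Ring, p - τ (τ' p) = Finsupp.linearCombination _ y c)
    (x : relMod P₂) :
    ∃ (x₁ : relMod P₁) (b' : K →₀ P₂.toExtension.Ring),
      x - (covInl hinl).toFun x₁ - EK P₂ b' ∈ trivRel P₂ := by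
  induction x using Finsupp.induction_linear with
  | zero => exact ⟨0, 0, by simp⟩
  | add f g hf hg =>
    obtain ⟨x₁, b₁, h₁⟩ := hf
    obtain ⟨x₂, b₂, h₂⟩ := hg
    refine ⟨x₁ + x₂, b₁ + b₂, ?_⟩
    have : f + g - (covInl hinl).toFun (x₁ + x₂) - EK P₂ (b₁ + b₂) =
        (f - (covInl hinl).toFun x₁ - EK P₂ b₁) + (g - (covInl hinl).toFun x₂ - EK P₂ b₂) := by
      rw [map_add, map_add]; abel
    rw [this]; exact Submodule.add_mem _ h₁ h₂
  | single v r =>
    cases v with
    | inl s =>
      obtain ⟨c, hc⟩ := hdec r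
      refine ⟨Finsupp.single s (τ' r), rel P₂ (Sum.inl s) • c, ?_⟩
      rw [covInl_single, ← Finsupp.single_sub, hc]
      exact single_inl_sub_mem_trivRel hinl hinr s c
    | inr k =>
      refine ⟨0, Finsupp.single k r, ?_⟩
      rw [map_zero, sub_zero, EK_single, sub_self]
      exact Submodule.zero_mem _

lemma τ'_linearCombination (hy' : ∀ k, τ' (y k) = 0) (b : K →₀ P₂.toExtension.Ring) :
    τ' (Finsupp.linearCombination _ y b) = 0 := by
  induction b using Finsupp.induction_linear with
  | zero => rw [map_zero, map_zero]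
  | add f g hf hg => rw [map_add, map_add, hf, hg, add_zero]
  | single k r => rw [Finsupp.linearCombination_single, smul_eq_mul, map_mul, hy', mul_zero]

/-- (K): every relation of `P₂` comes from a relation of `P₁` modulo trivial relations. -/
lemma exists_relKer_sub_mem_trivRel (hinl : ∀ s, rel P₂ (Sum.inl s) = τ (rel P₁ s))
    (hinr : ∀ k, rel P₂ (Sum.inr k) = y k)
    (hinv : ∀ r, τ' (τ r) = r) (hy' : ∀ k, τ' (y k) = 0)
    (hdec : ∀ p, ∃ c : K →₀ P₂.toExtension.Ring, p - τ (τ' p) = Finsupp.linearCombination _ y c)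
    (hkos : ∀ b : K →₀ P₂.toExtension.Ring, Finsupp.linearCombination _ y b = 0 → b ∈ kosz y)
    {x : relMod P₂} (hx : x ∈ relKer P₂) :
    ∃ q₁ ∈ relKer P₁, x - (covInl hinl).toFun q₁ ∈ trivRel P₂ := by
  obtain ⟨x₁, b', ht⟩ := exists_decomp (τ' := τ') hinl hinr hdec x
  have hjt : jmap P₂ (x - (covInl hinl).toFun x₁ - EK P₂ b') = 0 := trivRel_le_relKer P₂ ht
  have hjx : jmap P₂ x = 0 := hx
  rw [map_sub, map_sub, hjx, zero_sub, (covInl hinl).jmap_comp, jmap_EK hinr] at hjt
  have h1 : τ (jmap P₁ x₁) = -(Finsupp.linearCombination _ y b') := by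
    have : -τ (jmap P₁ x₁) = Finsupp.linearCombination _ y b' := sub_eq_zero.mp hjt
    rw [← this, neg_neg]
  have h2 : jmap P₁ x₁ = 0 := by
    have := congrArg τ' h1
    rw [hinv, map_neg, τ'_linearCombination hy', neg_zero] at this
    exact this
  have h3 : Finsupp.linearCombination _ y b' = 0 := by
    rw [h2, map_zero] at h1
    exact neg_eq_zero.mp h1.symm
  refine ⟨x₁, h2, ?_⟩
  have : x - (covInl hinl).toFun x₁ = (x - (covInl hinl).toFun x₁ - EK P₂ b') + EK P₂ b' := by abel
  rw [this]
  exact Submodule.add_mem _ ht (EK_mem_trivRel hinr (hkos b' h3))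

section Main

variable (M : Type m) [AddCommGroup M] [Module B M]
  [Module P₁.toExtension.Ring M] [IsScalarTower P₁.toExtension.Ring B M]
  [Module P₂.toExtension.Ring M] [IsScalarTower P₂.toExtension.Ring B M]

/-- the injectivity claim: a map on `Q₂` killing trivial relations whose pull-back to `Q₁` extends
to `F₁` extends to `F₂`. -/
lemma mem_Bs_of_pre_mem_Bs (hinl : ∀ s, rel P₂ (Sum.inl s) = τ (rel P₁ s))
    (hinr : ∀ k, rel P₂ (Sum.inr k) = y k)
    (hτ : ∀ r, algebraMap P₂.toExtension.Ring B (τ r) = algebraMap P₁.toExtension.Ring B r)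
    (hinv : ∀ r, τ' (τ r) = r) (hy' : ∀ k, τ' (y k) = 0)
    (hdec : ∀ p, ∃ c : K →₀ P₂.toExtension.Ring, p - τ (τ' p) = Finsupp.linearCombination _ y c)
    (hkos : ∀ b : K →₀ P₂.toExtension.Ring, Finsupp.linearCombination _ y b = 0 → b ∈ kosz y)
    {l : relKer P₂ →ₗ[P₂.toExtension.Ring] M} (hl : l ∈ Zs P₂ M)
    (hpre : pre M (covInl hinl) hτ l ∈ Bs P₁ M) : l ∈ Bs P₂ M := by
  obtain ⟨φ, hφ⟩ := hpre
  let φ₂ : relMod P₂ →ₗ[P₂.toExtension.Ring] M :=
    Finsupp.linearCombination _ (Sum.elim (fun s => φ (Finsupp.single s 1)) (fun _ => 0))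
  have hφ₂ : ∀ x : relMod P₁, φ₂ ((covInl hinl).toFun x) = φ x := by
    intro x
    induction x using Finsupp.induction_linear with
    | zero => rw [map_zero, map_zero, map_zero]
    | add f g hf hg => rw [map_add, map_add, hf, hg, map_add]
    | single s r =>
      rw [covInl_single, Finsupp.linearCombination_single, Sum.elim_inl, smul_eq_of_compat M hτ,
        ← map_smul, Finsupp.smul_single, smul_eq_mul, mul_one]
  refine ⟨φ₂, ?_⟩
  ext q
  obtain ⟨q₁, hq₁, ht⟩ := exists_relKer_sub_mem_trivRel hinl hinr hinv hy' hdec hkos q.2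
  have htk : (q : relMod P₂) - (covInl hinl).toFun q₁ ∈ relKer P₂ := trivRel_le_relKer P₂ ht
  have hq : q = ⟨(covInl hinl).toFun q₁, (covInl hinl).mem_relKer hq₁⟩ +
      ⟨(q : relMod P₂) - (covInl hinl).toFun q₁, htk⟩ := by
    apply Subtype.ext
    simp
  rw [res_apply]
  have h1 : φ₂ (q : relMod P₂) = φ q₁ := by
    have : (q : relMod P₂) = (covInl hinl).toFun q₁ + ((q : relMod P₂) - (covInl hinl).toFun q₁) := by
      abel
    rw [this, map_add, hφ₂, map_trivRel_eq_zero P₂ M φ₂ ht, add_zero]
  have h2 : l q = φ q₁ := by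
    rw [hq, map_add, hl ⟨(q : relMod P₂) - (covInl hinl).toFun q₁, htk⟩ ht, add_zero]
    have := congrFun (congrArg DFunLike.coe hφ) ⟨q₁, hq₁⟩
    rw [res_apply, pre_apply] at this
    exact this.symm
  rw [h1, h2]

/-- **Polynomial extension invariance of `T²`** (abstract form). -/
theorem nonempty_T2_equiv_of_polyExt (hinl : ∀ s, rel P₂ (Sum.inl s) = τ (rel P₁ s))
    (hinr : ∀ k, rel P₂ (Sum.inr k) = y k)
    (hτ : ∀ r, algebraMap P₂.toExtension.Ring B (τ r) = algebraMap P₁.toExtension.Ring B r)
    (hτ' : ∀ r, algebraMap P₁.toExtension.Ring B (τ' r) = algebraMap P₂.toExtension.Ring B r)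
    (hinv : ∀ r, τ' (τ r) = r) (hy' : ∀ k, τ' (y k) = 0)
    (hdec : ∀ p, ∃ c : K →₀ P₂.toExtension.Ring, p - τ (τ' p) = Finsupp.linearCombination _ y c)
    (hkos : ∀ b : K →₀ P₂.toExtension.Ring, Finsupp.linearCombination _ y b = 0 → b ∈ kosz y) :
    Nonempty (T2 P₁ M ≃ₗ[B] T2 P₂ M) := by
  obtain ⟨h'⟩ := CovHom.exists τ' hτ'
  have hsurj : Surjective (Phi M (covInl hinl) hτ) := fun x =>
    ⟨Phi M h' hτ' x, Phi_comp_Phi_eq_id M (covInl hinl) h' hτ hτ' hinv x⟩
  have hinj : Injective (Phi M (covInl hinl) hτ) := by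
    rw [injective_iff_map_eq_zero]
    intro x hx
    obtain ⟨μ, rfl⟩ := Submodule.Quotient.mk_surjective _ x
    change Submodule.Quotient.mk (Psi M (covInl hinl) hτ μ) = 0 at hx
    rw [Submodule.Quotient.mk_eq_zero, mem_range_d2Star_iff, toZ_Psi] at hx
    rw [Submodule.Quotient.mk_eq_zero, mem_range_d2Star_iff]
    exact mem_Bs_of_pre_mem_Bs M hinl hinr hτ hinv hy' hdec hkos (toZ_mem_Zs P₂ M μ) hx
  exact ⟨(LinearEquiv.ofBijective (Phi M (covInl hinl) hτ) ⟨hinj, hsurj⟩).symm⟩

end Main

end PolyExt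

end

end Groth.Agent.Helper2.CotTPoly
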