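import Mathlib
import Groth.Prelude
import Groth.Agent.Helper2.CotTGen
import Groth.Agent.Helper2.CotTPoly

namespace Groth.Agent.Helper2.CotTIndep

open CotT Function TensorProduct MvPolynomial Groth.Agent.Helper2.CotTGen
  Groth.Agent.Helper2.CotTPoly

noncomputable section

universe u v w t m

variable {A : Type u} {B : Type v} [CommRing A] [CommRing B] [Algebra A B]

section Ext

variable {ι : Type w} {σ : Type t} (P : Algebra.Presentation A B ι σ) (κ : Type*)

/-- the extended family of generators: the old ones and `κ` new ones mapping to `0`. -/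
def extVal : ι ⊕ κ → B := Sum.elim P.val (fun _ => 0)

lemma aeval_extVal_rename (p : MvPolynomial ι A) :
    aeval (extVal P κ) (rename Sum.inl p) = aeval P.val p := by
  rw [aeval_rename]; rfl

variable {κ} in
/-- the retraction `A[ι ⊕ κ] → A[ι]` killing the new variables. -/
def retr : MvPolynomial (ι ⊕ κ) A →ₐ[A] MvPolynomial ι A :=
  aeval (Sum.elim X (fun _ => 0))

lemma retr_rename (p : MvPolynomial ι A) : retr (rename (Sum.inl : ι → ι ⊕ κ) p) = p := by
  rw [retr, aeval_rename]
  have : (Sum.elim X (fun _ => 0) : ι ⊕ κ → MvPolynomial ι A) ∘ Sum.inl = X := rfl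
  rw [this, aeval_X_left, AlgHom.id_apply]

lemma aeval_retr (p : MvPolynomial (ι ⊕ κ) A) :
    aeval P.val (retr p) = aeval (extVal P κ) p := by
  rw [retr, ← AlgHom.comp_apply]
  congr 1
  apply MvPolynomial.algHom_ext
  intro v
  cases v with
  | inl i => simp [extVal]
  | inr k => simp [extVal]

/-- `p - τ (τ' p)` lies in the ideal generated by the new variables. -/
lemma sub_rename_retr_mem (p : MvPolynomial (ι ⊕ κ) A) :
    p - rename Sum.inl (retr p) ∈
      Ideal.span (Set.range fun k : κ => (X (Sum.inr k) : MvPolynomial (ι ⊕ κ) A)) := by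
  induction p using MvPolynomial.induction_on with
  | C a =>
    have : retr (κ := κ) (C a : MvPolynomial (ι ⊕ κ) A) = C a := by
      rw [retr, aeval_C]; rfl
    rw [this, rename_C, sub_self]
    exact Submodule.zero_mem _
  | add p q hp hq =>
    have : p + q - rename Sum.inl (retr (p + q)) =
        (p - rename Sum.inl (retr p)) + (q - rename Sum.inl (retr q)) := by
      rw [map_add, map_add]; abel
    rw [this]; exact Submodule.add_mem _ hp hq
  | mul_X p v hp =>
    have : p * X v - rename Sum.inl (retr (p * X v)) =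
        (p - rename Sum.inl (retr p)) * X v +
          rename Sum.inl (retr p) * (X v - rename Sum.inl (retr (X v : MvPolynomial (ι ⊕ κ) A))) := by
      rw [map_mul, map_mul]; ring
    rw [this]
    refine Submodule.add_mem _ (Ideal.mul_mem_right _ _ hp) (Ideal.mul_mem_left _ _ ?_)
    cases v with
    | inl i =>
      have : rename Sum.inl (retr (X (Sum.inl i) : MvPolynomial (ι ⊕ κ) A)) =
          (X (Sum.inl i) : MvPolynomial (ι ⊕ κ) A) := by
        rw [retr, aeval_X, Sum.elim_inl, rename_X]
      rw [this, sub_self]; exact Submodule.zero_mem _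
    | inr k =>
      have : rename Sum.inl (retr (X (Sum.inr k) : MvPolynomial (ι ⊕ κ) A)) =
          (0 : MvPolynomial (ι ⊕ κ) A) := by
        rw [retr, aeval_X, Sum.elim_inr, map_zero]
      rw [this, sub_zero]; exact Ideal.subset_span ⟨k, rfl⟩

/-- the extended generators. -/
def extGen : Algebra.Generators A B (ι ⊕ κ) :=
  Algebra.Generators.ofSurjective (extVal P κ) (fun b =>
    ⟨rename Sum.inl (P.σ b), by rw [aeval_extVal_rename, P.aeval_val_σ]⟩)

@[simp] lemma extGen_val : (extGen P κ).val = extVal P κ := rfl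

/-- the relations of the extended presentation. -/
def extRel : σ ⊕ κ → MvPolynomial (ι ⊕ κ) A :=
  Sum.elim (fun s => rename Sum.inl (P.relation s)) (fun k => X (Sum.inr k))

lemma span_extRel : Ideal.span (Set.range (extRel P κ)) = (extGen P κ).ker := by
  rw [Algebra.Generators.ker_eq_ker_aeval_val]
  apply le_antisymm
  · rw [Ideal.span_le]
    rintro _ ⟨v, rfl⟩
    rw [SetLike.mem_coe, RingHom.mem_ker]
    cases v with
    | inl s =>
      change aeval (extVal P κ) (rename Sum.inl (P.relation s)) = 0
      rw [aeval_extVal_rename]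
      have := P.relation_mem_ker s
      rw [Algebra.Generators.ker_eq_ker_aeval_val, RingHom.mem_ker] at this
      exact this
    | inr k =>
      change aeval (extVal P κ) (X (Sum.inr k)) = 0
      rw [aeval_X]; rfl
  · intro p hp
    rw [RingHom.mem_ker] at hp
    change aeval (extVal P κ) p = 0 at hp
    have h1 : retr p ∈ Ideal.span (Set.range P.relation) := by
      rw [P.span_range_relation_eq_ker, Algebra.Generators.ker_eq_ker_aeval_val, RingHom.mem_ker,
        aeval_retr, hp]
    have h2 : rename Sum.inl (retr p) ∈ Ideal.span (Set.range (extRel P κ)) := by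
      have h3 : Ideal.map (rename (Sum.inl : ι → ι ⊕ κ) : MvPolynomial ι A →ₐ[A] _).toRingHom
          (Ideal.span (Set.range P.relation)) ≤ Ideal.span (Set.range (extRel P κ)) := by
        rw [Ideal.map_span, Ideal.span_le]
        rintro _ ⟨_, ⟨s, rfl⟩, rfl⟩
        exact Ideal.subset_span ⟨Sum.inl s, rfl⟩
      exact h3 (Ideal.mem_map_of_mem _ h1)
    have h4 : p - rename Sum.inl (retr p) ∈ Ideal.span (Set.range (extRel P κ)) := by
      refine Ideal.span_mono ?_ (sub_rename_retr_mem κ p)
      rintro _ ⟨k, rfl⟩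
      exact ⟨Sum.inr k, rfl⟩
    have : p = (p - rename Sum.inl (retr p)) + rename Sum.inl (retr p) := by abel
    rw [this]
    exact Submodule.add_mem _ h4 h2

/-- the extended presentation. -/
def extPres : Algebra.Presentation A B (ι ⊕ κ) (σ ⊕ κ) where
  toGenerators := extGen P κ
  relation := extRel P κ
  span_range_relation_eq_ker := span_extRel P κ

section KoszulVar

variable {γ : Type*} [DecidableEq γ]

/-- set one variable to zero. -/
def epsVar (v₀ : γ) : MvPolynomial γ A →ₐ[A] MvPolynomial γ A :=
  aeval (fun v => if v = v₀ then 0 else X v)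

lemma sub_epsVar_mem (v₀ : γ) (p : MvPolynomial γ A) :
    p - epsVar v₀ p ∈ Ideal.span {(X v₀ : MvPolynomial γ A)} := by
  induction p using MvPolynomial.induction_on with
  | C a =>
    have : epsVar v₀ (C a : MvPolynomial γ A) = C a := by
      rw [epsVar, aeval_C]; rfl
    rw [this, sub_self]; exact Submodule.zero_mem _
  | add p q hp hq =>
    have : p + q - epsVar v₀ (p + q) = (p - epsVar v₀ p) + (q - epsVar v₀ q) := by
      rw [map_add]; abel
    rw [this]; exact Submodule.add_mem _ hp hq
  | mul_X p v hp =>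
    have : p * X v - epsVar v₀ (p * X v) =
        (p - epsVar v₀ p) * X v + epsVar v₀ p * (X v - epsVar v₀ (X v)) := by
      rw [map_mul]; ring
    rw [this]
    refine Submodule.add_mem _ (Ideal.mul_mem_right _ _ hp) (Ideal.mul_mem_left _ _ ?_)
    rw [epsVar, aeval_X]
    split_ifs with h
    · rw [sub_zero, h]; exact Ideal.subset_span rfl
    · rw [sub_self]; exact Submodule.zero_mem _

lemma kosz_var {κ : Type*} (u : κ → γ) (hu : Injective u)
    (b : κ →₀ MvPolynomial γ A)
    (hb : Finsupp.linearCombination _ (fun k => (X (u k) : MvPolynomial γ A)) b = 0) :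
    b ∈ kosz (fun k => (X (u k) : MvPolynomial γ A)) := by
  refine mem_kosz_of_linearCombination_eq_zero _ ?_ ?_ b hb
  · intro k c hc
    have := (isRegular_X (R := A) (n := u k)).left
    exact this (by change X (u k) * c = X (u k) * 0; rw [hc, mul_zero])
  · intro k₀
    refine ⟨(epsVar (u k₀)).toRingHom, ?_, ?_, ?_⟩
    · change epsVar (u k₀) (X (u k₀)) = 0
      rw [epsVar, aeval_X, if_pos rfl]
    · intro k hk
      change epsVar (u k₀) (X (u k)) = X (u k)
      rw [epsVar, aeval_X, if_neg (fun h => hk (hu h))]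
    · intro p
      obtain ⟨c, hc⟩ := Ideal.mem_span_singleton'.mp (sub_epsVar_mem (u k₀) p)
      exact ⟨c, by rw [mul_comm]; exact hc.symm⟩

end KoszulVar

section ExtEquiv

variable {ι : Type w} {σ : Type t} (P : Algebra.Presentation A B ι σ) (κ : Type*)
variable (M : Type m) [AddCommGroup M] [Module B M]

theorem nonempty_T2_equiv_extPres : Nonempty (T2 P M ≃ₗ[B] T2 (extPres P κ) M) := by
  classical
  letI i1 : Module P.toExtension.Ring M := Module.compHom M (algebraMap P.toExtension.Ring B)
  haveI : IsScalarTower P.toExtension.Ring B M := IsScalarTower.of_compHom P.toExtension.Ring B M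
  letI i2 : Module (extPres P κ).toExtension.Ring M :=
    Module.compHom M (algebraMap (extPres P κ).toExtension.Ring B)
  haveI : IsScalarTower (extPres P κ).toExtension.Ring B M :=
    IsScalarTower.of_compHom (extPres P κ).toExtension.Ring B M
  let τ : P.toExtension.Ring →+* (extPres P κ).toExtension.Ring :=
    (rename (Sum.inl : ι → ι ⊕ κ) : MvPolynomial ι A →ₐ[A] MvPolynomial (ι ⊕ κ) A).toRingHom
  let τ' : (extPres P κ).toExtension.Ring →+* P.toExtension.Ring :=
    (retr : MvPolynomial (ι ⊕ κ) A →ₐ[A] MvPolynomial ι A).toRingHom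
  let y : κ → (extPres P κ).toExtension.Ring := fun k => (X (Sum.inr k) : MvPolynomial (ι ⊕ κ) A)
  refine nonempty_T2_equiv_of_polyExt (P₁ := P) (P₂ := extPres P κ) (τ := τ) (τ' := τ') (y := y) M
    (fun s => rfl) (fun k => rfl) ?_ ?_ ?_ ?_ ?_ ?_
  · intro r
    rw [algebraMap_toExtension, algebraMap_toExtension]
    exact aeval_extVal_rename P κ r
  · intro r
    rw [algebraMap_toExtension, algebraMap_toExtension]
    exact aeval_retr P κ r
  · intro r
    exact retr_rename κ r
  · intro k
    change retr (X (Sum.inr k) : MvPolynomial (ι ⊕ κ) A) = 0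
    rw [retr, aeval_X, Sum.elim_inr]
  · intro p
    have h := sub_rename_retr_mem κ p
    rw [Ideal.span, Finsupp.mem_span_range_iff_exists_finsupp] at h
    obtain ⟨c, hc⟩ := h
    exact ⟨c, by rw [Finsupp.linearCombination_apply]; exact hc.symm⟩
  · intro b hb
    exact kosz_var (A := A) (Sum.inr : κ → ι ⊕ κ) Sum.inr_injective b hb

end ExtEquiv

end Ext

section AlgHoms

variable {ι₂ ι₃ σ₂ σ₃ : Type*} (P₂ : Algebra.Presentation A B ι₂ σ₂)
  (P₃ : Algebra.Presentation A B ι₃ σ₃) (M : Type m) [AddCommGroup M] [Module B M]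

/-- presentations over the same base whose polynomial rings are isomorphic compatibly with the
maps to `B` (checked on variables) have isomorphic `T²`. -/
theorem nonempty_T2_equiv_of_algHoms
    (f : MvPolynomial ι₂ A →ₐ[A] MvPolynomial ι₃ A) (g : MvPolynomial ι₃ A →ₐ[A] MvPolynomial ι₂ A)
    (hf : ∀ v, aeval P₃.val (f (X v)) = P₂.val v) (hg : ∀ v, aeval P₂.val (g (X v)) = P₃.val v)
    (hgf : ∀ v, g (f (X v)) = X v) (hfg : ∀ v, f (g (X v)) = X v) :
    Nonempty (T2 P₂ M ≃ₗ[B] T2 P₃ M) := by
  letI i1 : Module P₂.toExtension.Ring M := Module.compHom M (algebraMap P₂.toExtension.Ring B)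
  haveI : IsScalarTower P₂.toExtension.Ring B M := IsScalarTower.of_compHom P₂.toExtension.Ring B M
  letI i2 : Module P₃.toExtension.Ring M := Module.compHom M (algebraMap P₃.toExtension.Ring B)
  haveI : IsScalarTower P₃.toExtension.Ring B M := IsScalarTower.of_compHom P₃.toExtension.Ring B M
  have hf' : (aeval P₃.val).comp f = aeval P₂.val := by
    apply MvPolynomial.algHom_ext; intro v; rw [AlgHom.comp_apply, hf, aeval_X]
  have hg' : (aeval P₂.val).comp g = aeval P₃.val := by
    apply MvPolynomial.algHom_ext; intro v; rw [AlgHom.comp_apply, hg, aeval_X]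
  have hgf' : g.comp f = AlgHom.id A _ := by
    apply MvPolynomial.algHom_ext; intro v; rw [AlgHom.comp_apply, hgf, AlgHom.id_apply]
  have hfg' : f.comp g = AlgHom.id A _ := by
    apply MvPolynomial.algHom_ext; intro v; rw [AlgHom.comp_apply, hfg, AlgHom.id_apply]
  refine nonempty_T2_equiv (P₁ := P₂) (P₂ := P₃) M (τ := f.toRingHom) (τ' := g.toRingHom)
    ?_ ?_ ?_ ?_
  · intro r
    rw [algebraMap_toExtension, algebraMap_toExtension]
    exact congrFun (congrArg DFunLike.coe hf') r
  · intro r
    rw [algebraMap_toExtension, algebraMap_toExtension]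
    exact congrFun (congrArg DFunLike.coe hg') r
  · intro r
    exact congrFun (congrArg DFunLike.coe hgf') r
  · intro r
    exact congrFun (congrArg DFunLike.coe hfg') r

/-- same generators, different relations. -/
theorem nonempty_T2_equiv_of_val_eq {σ₃' : Type*} (P₃' : Algebra.Presentation A B ι₂ σ₃')
    (h : P₂.val = P₃'.val) : Nonempty (T2 P₂ M ≃ₗ[B] T2 P₃' M) :=
  nonempty_T2_equiv_of_algHoms P₂ P₃' M (AlgHom.id A _) (AlgHom.id A _)
    (fun v => by rw [AlgHom.id_apply, aeval_X, h]) (fun v => by rw [AlgHom.id_apply, aeval_X, h])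
    (fun _ => rfl) (fun _ => rfl)

end AlgHoms

section Cross

variable {ι ι' : Type*} (r : ι' → MvPolynomial ι A) (s : ι → MvPolynomial ι' A)

/-- auxiliary images of the old variables. -/
def crossφ : ι → MvPolynomial (ι' ⊕ ι) A := fun i => X (Sum.inr i) + rename Sum.inl (s i)

/-- the crossing isomorphism `A[ι ⊕ ι'] → A[ι' ⊕ ι]`. -/
def cross : MvPolynomial (ι ⊕ ι') A →ₐ[A] MvPolynomial (ι' ⊕ ι) A :=
  aeval (Sum.elim (crossφ s) (fun i' => X (Sum.inl i') - aeval (crossφ s) (r i')))

lemma cross_inl (i : ι) : cross r s (X (Sum.inl i)) = crossφ s i := by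
  rw [cross, aeval_X, Sum.elim_inl]

lemma cross_inr (i' : ι') :
    cross r s (X (Sum.inr i')) = X (Sum.inl i') - aeval (crossφ s) (r i') := by
  rw [cross, aeval_X, Sum.elim_inr]

lemma cross_rename_inl (p : MvPolynomial ι A) :
    cross r s (rename Sum.inl p) = aeval (crossφ s) p := by
  rw [cross, aeval_rename]; rfl

lemma cross_crossφ (i : ι) : cross s r (crossφ s i) = X (Sum.inl i) := by
  have h1 : crossφ s i = X (Sum.inr i) + rename Sum.inl (s i) := rfl
  have h2 : cross s r (X (Sum.inr i)) = X (Sum.inl i) - aeval (crossφ r) (s i) := cross_inr s r i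
  have h3 : cross s r (rename Sum.inl (s i)) = aeval (crossφ r) (s i) := cross_rename_inl s r (s i)
  rw [h1, map_add, h2, h3, sub_add_cancel]

lemma cross_cross (v : ι ⊕ ι') : cross s r (cross r s (X v)) = X v := by
  cases v with
  | inl i => rw [cross_inl, cross_crossφ]
  | inr i' =>
    have h1 : cross s r (aeval (crossφ s) (r i')) = rename Sum.inl (r i') := by
      rw [← AlgHom.comp_apply, comp_aeval, rename_eq_aeval]
      congr 2
      funext i
      exact cross_crossφ r s i
    have h2 : cross s r (X (Sum.inl i')) = crossφ r i' := cross_inl s r i'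
    have h3 : crossφ r i' = X (Sum.inr i') + rename Sum.inl (r i') := rfl
    rw [cross_inr, map_sub, h1, h2, h3, add_sub_cancel_right]

lemma aeval_crossφ {v : ι → B} {v' : ι' → B} (hs : ∀ i, aeval v' (s i) = v i) (i : ι) :
    aeval (Sum.elim v' (fun _ => 0) : ι' ⊕ ι → B) (crossφ s i) = v i := by
  have h1 : crossφ s i = X (Sum.inr i) + rename Sum.inl (s i) := rfl
  rw [h1, map_add, aeval_X, Sum.elim_inr, zero_add, aeval_rename]
  exact hs i

lemma aeval_cross {v : ι → B} {v' : ι' → B} (hr : ∀ i', aeval v (r i') = v' i')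
    (hs : ∀ i, aeval v' (s i) = v i) (w : ι ⊕ ι') :
    aeval (Sum.elim v' (fun _ => 0) : ι' ⊕ ι → B) (cross r s (X w)) =
      (Sum.elim v (fun _ => 0) : ι ⊕ ι' → B) w := by
  cases w with
  | inl i => rw [cross_inl, Sum.elim_inl]; exact aeval_crossφ s hs i
  | inr i' =>
    rw [cross_inr, map_sub, aeval_X, Sum.elim_inl, Sum.elim_inr, ← AlgHom.comp_apply, comp_aeval]
    have : (fun i => aeval (Sum.elim v' (fun _ => 0) : ι' ⊕ ι → B) (crossφ s i)) = v :=
      funext fun i => aeval_crossφ s hs i
    rw [this, hr, sub_self]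

end Cross

section Indep

variable {ι ι' σ σ' : Type*} (P : Algebra.Presentation A B ι σ) (P' : Algebra.Presentation A B ι' σ')
variable (M : Type m) [AddCommGroup M] [Module B M]

/-- **`T²` does not depend on the presentation.** -/
theorem nonempty_T2_equiv_of_presentations : Nonempty (T2 P M ≃ₗ[B] T2 P' M) := by
  obtain ⟨e₁⟩ := nonempty_T2_equiv_extPres P ι' M
  obtain ⟨e₂⟩ := nonempty_T2_equiv_extPres P' ι M
  let r : ι' → MvPolynomial ι A := fun i' => P.σ (P'.val i')
  let s : ι → MvPolynomial ι' A := fun i => P'.σ (P.val i)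
  have hr : ∀ i', aeval P.val (r i') = P'.val i' := fun i' => P.aeval_val_σ _
  have hs : ∀ i, aeval P'.val (s i) = P.val i := fun i => P'.aeval_val_σ _
  obtain ⟨e₃⟩ := nonempty_T2_equiv_of_algHoms (extPres P ι') (extPres P' ι) M (cross r s) (cross s r)
    (fun w => aeval_cross r s hr hs w) (fun w => aeval_cross s r hs hr w)
    (fun w => cross_cross r s w) (fun w => cross_cross s r w)
  exact ⟨e₁.trans (e₃.trans e₂.symm)⟩

end Indep

end

end Groth.Agent.Helper2.CotTIndep
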