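import Mathlib
import Groth.Prelude
import Groth.Agent.Helper2.CotTGen

namespace Groth.Agent.Helper2.CotTIndep01

open CotT Function TensorProduct Algebra Groth.Agent.Helper2.CotTGen

noncomputable section

universe u v w t m

variable {A : Type u} {B : Type v} [CommRing A] [CommRing B] [Algebra A B]
variable {ι : Type w} {σ : Type t} (P : Algebra.Presentation A B ι σ)

section Basic

lemma jmap_surjOn_ker (x : P.toExtension.ker) : ∃ f : relMod P, jker P f = x := by
  have : (x : P.toExtension.Ring) ∈ LinearMap.range (jmap P) := by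
    rw [range_jmap]; exact x.2
  obtain ⟨f, hf⟩ := this
  exact ⟨f, Subtype.ext hf⟩

lemma toCot_surjective : Surjective (toCot P) := by
  intro x
  obtain ⟨x, rfl⟩ := Extension.Cotangent.mk_surjective x
  obtain ⟨f, rfl⟩ := jmap_surjOn_ker P x
  exact ⟨(1 : B) ⊗ₜ f, by rw [toCot_tmul, one_smul]⟩

/-- every element of `L₁` is of the form `1 ⊗ f`. -/
lemma exists_one_tmul (x : L1 P) : ∃ f : relMod P, x = (1 : B) ⊗ₜ[P.toExtension.Ring] f := by
  induction x using TensorProduct.induction_on with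
  | zero => exact ⟨0, (TensorProduct.tmul_zero _ _).symm⟩
  | add x y hx hy =>
    obtain ⟨f, rfl⟩ := hx
    obtain ⟨g, rfl⟩ := hy
    exact ⟨f + g, (TensorProduct.tmul_add _ _ _).symm⟩
  | tmul b f =>
    obtain ⟨r, rfl⟩ := P.toExtension.algebraMap_surjective b
    refine ⟨r • f, ?_⟩
    rw [TensorProduct.tmul_smul, TensorProduct.smul_tmul', Algebra.smul_def, mul_one]

/-- elements of `I²` are images of elements of `F` dying in `L₁`. -/
lemma exists_of_mem_sq {r : P.toExtension.Ring} (hr : r ∈ P.toExtension.ker ^ 2) :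
    ∃ g : relMod P, jmap P g = r ∧ (1 : B) ⊗ₜ[P.toExtension.Ring] g = (0 : L1 P) := by
  rw [pow_two] at hr
  induction hr using Submodule.mul_induction_on' with
  | mem_mul_mem a ha a' ha' =>
    obtain ⟨g₀, hg₀⟩ := jmap_surjOn_ker P ⟨a, ha⟩
    have hg₀' : jmap P g₀ = a := congrArg Subtype.val hg₀
    refine ⟨a' • g₀, ?_, ?_⟩
    · rw [map_smul, hg₀', smul_eq_mul, mul_comm]
    · rw [TensorProduct.tmul_smul, TensorProduct.smul_tmul', Algebra.smul_def, mul_one]
      have : algebraMap P.toExtension.Ring B a' = 0 := ha'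
      rw [this, TensorProduct.zero_tmul]
  | add x hx y hy hx' hy' =>
    obtain ⟨g, hg, hg0⟩ := hx'
    obtain ⟨g', hg', hg0'⟩ := hy'
    exact ⟨g + g', by rw [map_add, hg, hg'], by rw [TensorProduct.tmul_add, hg0, hg0', add_zero]⟩

lemma ker_toCot_le_range_d2 : LinearMap.ker (toCot P) ≤ LinearMap.range (d2 P) := by
  intro x hx
  obtain ⟨f, rfl⟩ := exists_one_tmul P x
  rw [LinearMap.mem_ker, toCot_tmul, one_smul, Extension.Cotangent.mk_eq_zero_iff] at hx
  obtain ⟨g, hg, hg0⟩ := exists_of_mem_sq P hx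
  have hq : f - g ∈ relKer P := by
    change jmap P (f - g) = 0
    rw [map_sub, hg]; exact sub_self _
  refine ⟨Submodule.Quotient.mk ((1 : B) ⊗ₜ ⟨f - g, hq⟩), ?_⟩
  rw [d2_mk_tmul, TensorProduct.tmul_sub, hg0, sub_zero]

end Basic

section T0

variable (M : Type m) [AddCommGroup M] [Module B M]

lemma toKaehler_comp_d1 : P.toExtension.toKaehler ∘ₗ d1 P = 0 := by
  refine LinearMap.ext fun x => ?_
  rw [d1, LinearMap.comp_apply, LinearMap.comp_apply, LinearMap.zero_apply]
  exact P.toExtension.exact_cotangentComplex_toKaehler.apply_apply_eq_zero _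

/-- `Hom(Ω_{B/A}, M) → T⁰`. -/
def kaehlerToT0 : (Ω[B⁄A] →ₗ[B] M) →ₗ[B] T0 P M where
  toFun ψ := ⟨ψ ∘ₗ P.toExtension.toKaehler, by
    rw [LinearMap.mem_ker, d1Star_apply, LinearMap.comp_assoc, toKaehler_comp_d1,
      LinearMap.comp_zero]⟩
  map_add' _ _ := rfl
  map_smul' _ _ := rfl

lemma kaehlerToT0_injective : Injective (kaehlerToT0 P M) := by
  intro ψ ψ' h
  have h' : ψ ∘ₗ P.toExtension.toKaehler = ψ' ∘ₗ P.toExtension.toKaehler := congrArg Subtype.val h
  refine LinearMap.ext fun x => ?_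
  obtain ⟨y, rfl⟩ := P.toExtension.toKaehler_surjective x
  exact congrFun (congrArg DFunLike.coe h') y

lemma kaehlerToT0_surjective : Surjective (kaehlerToT0 P M) := by
  intro ⟨φ, hφ⟩
  rw [LinearMap.mem_ker, d1Star_apply] at hφ
  have h1 : φ ∘ₗ P.toExtension.cotangentComplex = 0 := by
    refine LinearMap.ext fun x => ?_
    obtain ⟨y, rfl⟩ := toCot_surjective P x
    exact congrFun (congrArg DFunLike.coe hφ) y
  have h2 : LinearMap.ker P.toExtension.toKaehler ≤ LinearMap.ker φ := by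
    intro x hx
    obtain ⟨y, rfl⟩ := (P.toExtension.exact_cotangentComplex_toKaehler x).mp hx
    exact congrFun (congrArg DFunLike.coe h1) y
  let e := LinearMap.quotKerEquivOfSurjective P.toExtension.toKaehler
    P.toExtension.toKaehler_surjective
  refine ⟨(Submodule.liftQ _ φ h2) ∘ₗ e.symm.toLinearMap, ?_⟩
  apply Subtype.ext
  refine LinearMap.ext fun x => ?_
  change (Submodule.liftQ _ φ h2) (e.symm (P.toExtension.toKaehler x)) = φ x
  have : e.symm (P.toExtension.toKaehler x) = Submodule.Quotient.mk x := by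
    rw [LinearEquiv.symm_apply_eq]; rfl
  rw [this, Submodule.liftQ_apply]

/-- `T⁰` of any presentation is `Hom(Ω_{B/A}, M)`. -/
def kaehlerEquivT0 : (Ω[B⁄A] →ₗ[B] M) ≃ₗ[B] T0 P M :=
  LinearEquiv.ofBijective (kaehlerToT0 P M) ⟨kaehlerToT0_injective P M, kaehlerToT0_surjective P M⟩

end T0

section T1

variable (M : Type m) [AddCommGroup M] [Module B M]

/-- cokernel of `Hom(B ⊗ Ω_R, M) → Hom(I/I², M)` for an extension. -/
abbrev E1 (Pe : Algebra.Extension A B) : Type _ :=
  (Pe.Cotangent →ₗ[B] M) ⧸ LinearMap.range (LinearMap.lcomp B M Pe.cotangentComplex)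

lemma homToT1_surjective : Surjective (homToT1 P M) := by
  intro x
  obtain ⟨c, rfl⟩ := Submodule.Quotient.mk_surjective _ x
  have hc : (c : L1 P →ₗ[B] M) ∘ₗ d2 P = 0 := by
    have := c.2
    rw [LinearMap.mem_ker, d2Star_apply] at this
    exact this
  have h2 : LinearMap.ker (toCot P) ≤ LinearMap.ker (c : L1 P →ₗ[B] M) := by
    intro x hx
    obtain ⟨y, rfl⟩ := ker_toCot_le_range_d2 P hx
    exact congrFun (congrArg DFunLike.coe hc) y
  let e := LinearMap.quotKerEquivOfSurjective (toCot P) (toCot_surjective P)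
  let φ : P.toExtension.Cotangent →ₗ[B] M := (Submodule.liftQ _ (c : L1 P →ₗ[B] M) h2) ∘ₗ
    e.symm.toLinearMap
  have hφ : φ ∘ₗ toCot P = (c : L1 P →ₗ[B] M) := by
    refine LinearMap.ext fun x => ?_
    change (Submodule.liftQ _ (c : L1 P →ₗ[B] M) h2) (e.symm (toCot P x)) = _
    have : e.symm (toCot P x) = Submodule.Quotient.mk x := by
      rw [LinearEquiv.symm_apply_eq]; rfl
    rw [this, Submodule.liftQ_apply]
  refine ⟨φ, ?_⟩
  change Submodule.Quotient.mk _ = Submodule.Quotient.mk c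
  congr 1
  exact Subtype.ext hφ

lemma ker_homToT1 : LinearMap.ker (homToT1 P M) =
    LinearMap.range (LinearMap.lcomp B M P.toExtension.cotangentComplex) := by
  ext φ
  rw [LinearMap.mem_ker]
  change Submodule.Quotient.mk _ = 0 ↔ _
  rw [Submodule.Quotient.mk_eq_zero]
  constructor
  · rintro ⟨ψ, hψ⟩
    replace hψ : ψ ∘ₗ d1 P = φ ∘ₗ toCot P := hψ
    refine ⟨ψ, ?_⟩
    refine LinearMap.ext fun x => ?_
    obtain ⟨y, rfl⟩ := toCot_surjective P x
    exact congrFun (congrArg DFunLike.coe hψ) y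
  · rintro ⟨ψ, rfl⟩
    exact ⟨ψ, rfl⟩

/-- `T¹` of a presentation in terms of its extension. -/
def E1EquivT1 : E1 M P.toExtension ≃ₗ[B] T1 P M :=
  (Submodule.quotEquivOfEq _ _ (ker_homToT1 P M).symm).trans
    (LinearMap.quotKerEquivOfSurjective (homToT1 P M) (homToT1_surjective P M))

section Functoriality

variable {Pe Pe' : Algebra.Extension A B}

/-- the map on `E1` induced by a morphism of extensions. -/
def E1map (f : Pe.Hom Pe') : E1 M Pe' →ₗ[B] E1 M Pe :=
  Submodule.mapQ _ _ (LinearMap.lcomp B M (Extension.Cotangent.map f)) (by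
    rintro _ ⟨ψ, rfl⟩
    refine ⟨ψ ∘ₗ Extension.CotangentSpace.map f, ?_⟩
    refine LinearMap.ext fun x => ?_
    simp only [LinearMap.lcomp_apply', LinearMap.comp_apply]
    congr 1
    exact Extension.CotangentSpace.map_cotangentComplex f x)

lemma E1map_eq (f g : Pe.Hom Pe') : E1map M f = E1map M g := by
  refine LinearMap.ext fun x => ?_
  obtain ⟨φ, rfl⟩ := Submodule.Quotient.mk_surjective _ x
  change Submodule.Quotient.mk (φ ∘ₗ Extension.Cotangent.map f) =
    Submodule.Quotient.mk (φ ∘ₗ Extension.Cotangent.map g)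
  rw [Submodule.Quotient.eq]
  refine ⟨φ ∘ₗ (f.sub g), ?_⟩
  rw [LinearMap.lcomp_apply', LinearMap.comp_assoc, ← Extension.Cotangent.map_sub_map,
    LinearMap.comp_sub]

lemma E1map_id (x : E1 M Pe) : E1map M (Extension.Hom.id Pe) x = x := by
  obtain ⟨φ, rfl⟩ := Submodule.Quotient.mk_surjective _ x
  change Submodule.Quotient.mk (φ ∘ₗ Extension.Cotangent.map (Extension.Hom.id Pe)) = _
  rw [Extension.Cotangent.map_id, LinearMap.comp_id]

lemma E1map_comp (f : Pe.Hom Pe') (g : Pe'.Hom Pe) (x : E1 M Pe) :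
    E1map M f (E1map M g x) = E1map M (g.comp f) x := by
  obtain ⟨φ, rfl⟩ := Submodule.Quotient.mk_surjective _ x
  change Submodule.Quotient.mk ((φ ∘ₗ Extension.Cotangent.map g) ∘ₗ Extension.Cotangent.map f) =
    Submodule.Quotient.mk (φ ∘ₗ Extension.Cotangent.map (g.comp f))
  rw [Extension.Cotangent.map_comp, LinearMap.comp_assoc]
  rfl

/-- `E1` does not depend on the extension, given morphisms both ways. -/
def E1equiv (f : Pe.Hom Pe') (g : Pe'.Hom Pe) : E1 M Pe ≃ₗ[B] E1 M Pe' :=
  LinearEquiv.ofLinear (E1map M g) (E1map M f)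
    (LinearMap.ext fun x => by
      rw [LinearMap.comp_apply, E1map_comp, E1map_eq M (f.comp g) (Extension.Hom.id Pe'), E1map_id]
      rfl)
    (LinearMap.ext fun x => by
      rw [LinearMap.comp_apply, E1map_comp, E1map_eq M (g.comp f) (Extension.Hom.id Pe), E1map_id]
      rfl)

end Functoriality

section Indep

variable {ι' : Type*} {σ' : Type*} (P' : Algebra.Presentation A B ι' σ')

/-- **`T⁰` does not depend on the presentation.** -/
theorem nonempty_T0_equiv : Nonempty (T0 P M ≃ₗ[B] T0 P' M) :=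
  ⟨(kaehlerEquivT0 P M).symm.trans (kaehlerEquivT0 P' M)⟩

/-- **`T¹` does not depend on the presentation.** -/
theorem nonempty_T1_equiv : Nonempty (T1 P M ≃ₗ[B] T1 P' M) := by
  let f : P.toExtension.Hom P'.toExtension :=
    (P.toGenerators.defaultHom P'.toGenerators).toExtensionHom
  let g : P'.toExtension.Hom P.toExtension :=
    (P'.toGenerators.defaultHom P.toGenerators).toExtensionHom
  exact ⟨(E1EquivT1 P M).symm.trans ((E1equiv M f g).trans (E1EquivT1 P' M))⟩

end Indep

end T1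

end

end Groth.Agent.Helper2.CotTIndep01
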