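import Mathlib
import Groth.Prelude
import Groth.Agent.Helper2.CotTGen
import Groth.Agent.Helper2.CotTPoly
import Groth.Agent.Helper2.CotTIndep

namespace Groth.Agent.Helper2.CotTReg

open CotT Function TensorProduct MvPolynomial RingTheory.Sequence Groth.Agent.Helper2.CotTGen
  Groth.Agent.Helper2.CotTPoly Groth.Agent.Helper2.CotTIndep

noncomputable section

universe u v w t m

section Koszul

variable {R : Type*} [CommRing R] {n : ℕ} (y : Fin n → R)

/-- relations among a regular sequence are Koszul. -/
theorem mem_kosz_of_regular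
    (hreg : ∀ (i : Fin n) (c : R), y i * c ∈ Ideal.span (y '' {j | j < i}) →
      c ∈ Ideal.span (y '' {j | j < i}))
    (b : Fin n →₀ R) (hb : Finsupp.linearCombination R y b = 0) : b ∈ kosz y := by
  classical
  suffices H : ∀ (m : ℕ) (b : Fin n →₀ R), (∀ i ∈ b.support, i.val < m) →
      Finsupp.linearCombination R y b = 0 → b ∈ kosz y from
    H n b (fun i _ => i.2) hb
  intro m
  induction m with
  | zero =>
    intro b hS _
    have : b = 0 := by
      rw [← Finsupp.support_eq_empty, Finset.eq_empty_iff_forall_notMem]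
      intro i hi
      exact absurd (hS i hi) (Nat.not_lt_zero _)
    rw [this]; exact Submodule.zero_mem _
  | succ m IH =>
    intro b hS hb
    by_cases hm : m < n
    · let k₀ : Fin n := ⟨m, hm⟩
      have hdec : b = Finsupp.single k₀ (b k₀) + b.erase k₀ := (Finsupp.single_add_erase k₀ b).symm
      have hrel : b k₀ * y k₀ + Finsupp.linearCombination R y (b.erase k₀) = 0 := by
        rw [← hb]
        conv_rhs => rw [hdec, map_add, Finsupp.linearCombination_single, smul_eq_mul]
      have hlt : ∀ i ∈ (b.erase k₀).support, i < k₀ := by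
        intro i hi
        rw [Finsupp.support_erase] at hi
        have h1 := hS i (Finset.mem_of_mem_erase hi)
        have h2 : i ≠ k₀ := Finset.ne_of_mem_erase hi
        have h3 : i.val ≠ m := fun h => h2 (Fin.ext h)
        exact Fin.lt_def.mpr (by change i.val < m; omega)
      have hmem : Finsupp.linearCombination R y (b.erase k₀) ∈ Ideal.span (y '' {j | j < k₀}) := by
        rw [Finsupp.linearCombination_apply]
        refine Submodule.sum_mem _ fun i hi => ?_
        exact Submodule.smul_mem _ _ (Ideal.subset_span ⟨i, hlt i hi, rfl⟩)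
      have hmem2 : y k₀ * b k₀ ∈ Ideal.span (y '' {j | j < k₀}) := by
        have : y k₀ * b k₀ = -(Finsupp.linearCombination R y (b.erase k₀)) := by
          rw [mul_comm]; exact eq_neg_of_add_eq_zero_left hrel
        rw [this]; exact Submodule.neg_mem _ hmem
      have hbk := hreg k₀ _ hmem2
      rw [Ideal.span, Finsupp.mem_span_image_iff_linearCombination] at hbk
      obtain ⟨d, hd, hdb⟩ := hbk
      let b' : Fin n →₀ R := b.erase k₀ + y k₀ • d
      have hb'S : ∀ i ∈ b'.support, i.val < m := by
        intro i hi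
        have := Finsupp.support_add hi
        rcases Finset.mem_union.mp this with h | h
        · exact Fin.lt_def.mp (hlt i h)
        · have h2 : i ∈ d.support := Finsupp.support_smul h
          exact Fin.lt_def.mp (hd h2)
      have hb'rel : Finsupp.linearCombination R y b' = 0 := by
        rw [map_add, map_smul, hdb, smul_eq_mul, ← hrel]; ring
      have hb' := IH b' hb'S hb'rel
      have hfin : b = b' - (y k₀ • d - Finsupp.single k₀ (Finsupp.linearCombination R y d)) := by
        rw [hdb]
        change b = (b.erase k₀ + y k₀ • d) - (y k₀ • d - Finsupp.single k₀ (b k₀))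
        conv_lhs => rw [hdec]
        abel
      rw [hfin]
      exact Submodule.sub_mem _ hb' (smul_sub_single_mem_kosz y k₀ d)
    · exact IH b (fun i hi => by have := i.2; omega) hb

theorem mem_take_ofFn_iff {r : ℕ} (f : Fin r → R) (i : Fin r) (a : R) :
    a ∈ (List.ofFn f).take i ↔ ∃ j : Fin r, j < i ∧ f j = a := by
  rw [List.mem_take_iff_getElem]
  constructor
  · rintro ⟨k, hk, rfl⟩
    have hk2 : k < i.val := by
      simp at hk; omega
    have hk' : k < r := by omega
    exact ⟨⟨k, hk'⟩, Fin.lt_def.mpr hk2, by simp⟩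
  · rintro ⟨j, hj, rfl⟩
    refine ⟨j.val, ?_, by simp⟩
    simp
    exact Fin.lt_def.mp hj

theorem regular_cond_of_isWeaklyRegular {r : ℕ} (f : Fin r → R)
    (hf : IsWeaklyRegular R (List.ofFn f)) (i : Fin r) (y : R)
    (hy : f i * y ∈ Ideal.span (f '' {j | j < i})) : y ∈ Ideal.span (f '' {j | j < i}) := by
  have h1 := (isWeaklyRegular_iff_Fin _ _).mp hf ⟨i.val, by simp⟩
  rw [isSMulRegular_quotient_iff_mem_of_smul_mem] at h1
  have hI : ∀ z : R, z ∈ (Ideal.ofList ((List.ofFn f).take i) • ⊤ : Submodule R R) ↔
      z ∈ Ideal.span (f '' {j | j < i}) := by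
    intro z
    rw [smul_eq_mul, Ideal.mul_top]
    have : {x | x ∈ (List.ofFn f).take i} = f '' {j | j < i} := by
      ext x
      simp only [Set.mem_ofPred_eq, Set.mem_image]
      constructor
      · intro ha
        obtain ⟨j, hj, rfl⟩ := (mem_take_ofFn_iff f i x).mp ha
        exact ⟨j, hj, rfl⟩
      · rintro ⟨j, hj, rfl⟩
        exact (mem_take_ofFn_iff f i _).mpr ⟨j, hj, rfl⟩
    unfold Ideal.ofList
    rw [this]
  rw [← hI] at hy ⊢
  apply h1
  have h2 : (List.ofFn f)[(⟨i.val, by simp⟩ : Fin (List.ofFn f).length)] = f i := by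
    simp
  rw [h2, smul_eq_mul]
  exact hy

end Koszul

section Reg

variable {A : Type u} {B : Type v} [CommRing A] [CommRing B] [Algebra A B]
variable {ι : Type w} {n : ℕ} (P : Algebra.Presentation A B ι (Fin n))
variable (M : Type m) [AddCommGroup M] [Module B M]

lemma kosz_le_trivRel : kosz (rel P) ≤ trivRel P := by
  refine Submodule.span_le.mpr ?_
  rintro _ ⟨k, l, rfl⟩
  refine Submodule.subset_span ⟨Finsupp.single k 1, Finsupp.single l 1, ?_⟩
  rw [jmap_single, jmap_single, one_mul, one_mul, Finsupp.smul_single, Finsupp.smul_single,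
    smul_eq_mul, smul_eq_mul, mul_one, mul_one]

/-- If the relations of a presentation form a weakly regular sequence, `T²` vanishes. -/
theorem subsingleton_T2_of_isWeaklyRegular
    (hreg : IsWeaklyRegular P.toExtension.Ring (List.ofFn (rel P))) : Subsingleton (T2 P M) := by
  letI i1 : Module P.toExtension.Ring M := Module.compHom M (algebraMap P.toExtension.Ring B)
  haveI : IsScalarTower P.toExtension.Ring B M := IsScalarTower.of_compHom P.toExtension.Ring B M
  have hQ : relKer P ≤ trivRel P := by
    intro b hb
    exact kosz_le_trivRel P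
      (mem_kosz_of_regular (rel P) (regular_cond_of_isWeaklyRegular (rel P) hreg) b hb)
  have hzero : ∀ μ : L2 P →ₗ[B] M, μ = 0 := by
    intro μ
    apply toZ_injective P M
    rw [map_zero]
    ext q
    exact toZ_mem_Zs P M μ q (hQ q.2)
  refine ⟨fun x y => ?_⟩
  obtain ⟨μ, rfl⟩ := Submodule.Quotient.mk_surjective _ x
  obtain ⟨ν, rfl⟩ := Submodule.Quotient.mk_surjective _ y
  rw [hzero μ, hzero ν]

end Reg

section Surj

variable {A : Type u} {B : Type v} [CommRing A] [CommRing B] [Algebra A B]

/-- generators with no variables for a surjective algebra map. -/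
def surjGen (hs : Surjective (algebraMap A B)) : Algebra.Generators A B PEmpty.{1} :=
  Algebra.Generators.ofSurjective PEmpty.elim (fun b => by
    obtain ⟨a, rfl⟩ := hs b
    exact ⟨C a, by rw [aeval_C]⟩)

lemma ker_surjGen (hs : Surjective (algebraMap A B)) :
    (surjGen hs).ker = Ideal.map (C : A →+* MvPolynomial PEmpty.{1} A)
      (RingHom.ker (algebraMap A B)) := by
  rw [Algebra.Generators.ker_eq_ker_aeval_val]
  apply le_antisymm
  · intro p hp
    obtain ⟨a, rfl⟩ := MvPolynomial.C_surjective PEmpty.{1} p
    rw [RingHom.mem_ker] at hp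
    change aeval (PEmpty.elim : PEmpty.{1} → B) (C a) = 0 at hp
    rw [aeval_C] at hp
    exact Ideal.mem_map_of_mem _ hp
  · rw [Ideal.map_le_iff_le_comap]
    intro a ha
    rw [Ideal.mem_comap, RingHom.mem_ker]
    change aeval (PEmpty.elim : PEmpty.{1} → B) (C a) = 0
    rw [aeval_C]
    exact ha

/-- the presentation of a quotient by a finite list of elements. -/
def surjPres (hs : Surjective (algebraMap A B)) (rs : List A)
    (hI : RingHom.ker (algebraMap A B) = Ideal.ofList rs) :
    Algebra.Presentation A B PEmpty.{1}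
      (Fin (rs.map (C : A →+* MvPolynomial PEmpty.{1} A)).length) where
  toGenerators := surjGen hs
  relation := (rs.map (C : A →+* MvPolynomial PEmpty.{1} A)).get
  span_range_relation_eq_ker := by
    rw [ker_surjGen, hI, Ideal.ofList, Ideal.map_span]
    congr 1
    ext x
    simp only [Set.mem_range, Set.mem_image, Set.mem_setOf_eq]
    constructor
    · rintro ⟨i, rfl⟩
      have := List.get_mem (rs.map (C : A →+* MvPolynomial PEmpty.{1} A)) i
      rw [List.mem_map] at this
      exact this
    · rintro ⟨a, ha, rfl⟩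
      have : (C a : MvPolynomial PEmpty.{1} A) ∈ rs.map (C : A →+* MvPolynomial PEmpty.{1} A) :=
        List.mem_map.mpr ⟨a, ha, rfl⟩
      obtain ⟨i, hi⟩ := List.mem_iff_get.mp this
      exact ⟨i, hi⟩

theorem s12288 (hs : Surjective (algebraMap A B)) (rs : List A)
    (hreg : IsWeaklyRegular A rs)
    (hI : RingHom.ker (algebraMap A B) = Ideal.ofList rs) (M : Type m) [AddCommGroup M] [Module B M] :
    Subsingleton (CotT.T2 (CotT.canon A B) M) := by
  obtain ⟨e⟩ := nonempty_T2_equiv_of_presentations (CotT.canon A B) (surjPres hs rs hI) M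
  have h1 : IsWeaklyRegular (surjPres hs rs hI).toExtension.Ring
      (List.ofFn (rel (surjPres hs rs hI))) := by
    have h2 : List.ofFn (rel (surjPres hs rs hI)) = rs.map (C : A →+* MvPolynomial PEmpty.{1} A) :=
      List.ofFn_get _
    rw [h2]
    exact IsWeaklyRegular.of_flat (S := MvPolynomial PEmpty.{1} A) hreg
  haveI := subsingleton_T2_of_isWeaklyRegular (surjPres hs rs hI) M h1
  exact e.toEquiv.subsingleton

end Surj

end

end Groth.Agent.Helper2.CotTReg
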