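import Mathlib
import Groth.Prelude

namespace Groth.Agent.Helper2.T2Mod

open Function

universe u v w x

variable {P : Type u} [CommRing P] (N : Type x) [AddCommGroup N] [Module P N]
variable {F : Type v} [AddCommGroup F] [Module P F] {F' : Type w} [AddCommGroup F'] [Module P F']
variable (j : F →ₗ[P] P) (j' : F' →ₗ[P] P)

/-- span of the trivial (Koszul) relations. -/
def triv : Submodule P F := Submodule.span P {y : F | ∃ u v : F, y = j u • v - j v • u}

/-- trivial relations inside the relation module. -/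
def Rtr : Submodule P (LinearMap.ker j) := Submodule.comap (LinearMap.ker j).subtype (triv j)

/-- restrictions of maps `F → N`. -/
def resN : Submodule P (LinearMap.ker j →ₗ[P] N) :=
  LinearMap.range (LinearMap.lcomp P N (LinearMap.ker j).subtype)

/-- maps vanishing on trivial relations. -/
def KK : Submodule P (LinearMap.ker j →ₗ[P] N) :=
  LinearMap.ker (LinearMap.lcomp P N (Rtr j).subtype)

/-- the second cotangent module of the presentation `(F, j)` with values in `N`. -/
def T2 : Submodule P ((LinearMap.ker j →ₗ[P] N) ⧸ resN N j) := (KK N j).map (resN N j).mkQ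

variable {j j'}

section Map

variable (α : F →ₗ[P] F') (hα : j' ∘ₗ α = j)

include hα in
lemma map_mem_ker (x : F) (hx : x ∈ LinearMap.ker j) : α x ∈ LinearMap.ker j' := by
  rw [LinearMap.mem_ker] at hx ⊢
  rw [← hx, ← hα]
  rfl

/-- `α` on relation modules. -/
def αR : LinearMap.ker j →ₗ[P] LinearMap.ker j' := α.restrict (map_mem_ker α hα)

include hα in
lemma map_triv (x : F) (hx : x ∈ triv j) : α x ∈ triv j' := by
  have hj : ∀ u, j u = j' (α u) := fun u => by rw [← hα]; rfl
  refine Submodule.span_induction ?_ ?_ ?_ ?_ hx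
  · rintro _ ⟨u, v, rfl⟩
    rw [map_sub, map_smul, map_smul, hj, hj]
    exact Submodule.subset_span ⟨α u, α v, rfl⟩
  · rw [map_zero]; exact Submodule.zero_mem _
  · intro a b _ _ ha hb
    rw [map_add]; exact Submodule.add_mem _ ha hb
  · intro c a _ ha
    rw [map_smul]; exact Submodule.smul_mem _ c ha

/-- pullback of maps on relation modules. -/
def pull : (LinearMap.ker j' →ₗ[P] N) →ₗ[P] (LinearMap.ker j →ₗ[P] N) :=
  LinearMap.lcomp P N (αR α hα)

lemma pull_resN : resN N j' ≤ (resN N j).comap (pull N α hα) := by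
  rintro _ ⟨g, rfl⟩
  exact ⟨g ∘ₗ α, rfl⟩

lemma pull_KK (f : LinearMap.ker j' →ₗ[P] N) (hf : f ∈ KK N j') : pull N α hα f ∈ KK N j := by
  rw [KK, LinearMap.mem_ker] at hf ⊢
  refine LinearMap.ext fun x => ?_
  have hx : αR α hα x.1 ∈ Rtr j' := map_triv α hα _ x.2
  exact congrFun (congrArg DFunLike.coe hf) ⟨_, hx⟩

/-- the induced map on quotients. -/
def Q : ((LinearMap.ker j' →ₗ[P] N) ⧸ resN N j') →ₗ[P] ((LinearMap.ker j →ₗ[P] N) ⧸ resN N j) :=
  Submodule.mapQ _ _ (pull N α hα) (pull_resN N α hα)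

lemma Q_mem (y) (hy : y ∈ T2 N j') : Q N α hα y ∈ T2 N j := by
  obtain ⟨f, hf, rfl⟩ := hy
  exact ⟨pull N α hα f, pull_KK N α hα f hf, rfl⟩

/-- the induced map on `T²`. -/
def T2map : T2 N j' →ₗ[P] T2 N j := (Q N α hα).restrict (Q_mem N α hα)

variable (β : F →ₗ[P] F') (hβ : j' ∘ₗ β = j)

/-- homotopy invariance. -/
lemma Q_eq : Q N α hα = Q N β hβ := by
  refine LinearMap.ext fun y => ?_
  obtain ⟨f, rfl⟩ := Submodule.Quotient.mk_surjective _ y
  change Submodule.Quotient.mk (pull N α hα f) = Submodule.Quotient.mk (pull N β hβ f)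
  rw [Submodule.Quotient.eq]
  have hγ : ∀ x : F, (α - β) x ∈ LinearMap.ker j' := fun x => by
    rw [LinearMap.mem_ker, LinearMap.sub_apply, map_sub]
    have h1 : j' (α x) = j x := by rw [← hα]; rfl
    have h2 : j' (β x) = j x := by rw [← hβ]; rfl
    rw [h1, h2, sub_self]
  refine ⟨f ∘ₗ (α - β).codRestrict (LinearMap.ker j') hγ, ?_⟩
  refine LinearMap.ext fun x => ?_
  change f _ = f _ - f _
  rw [← map_sub]
  congr 1

end Map

lemma Q_id (y) : Q N (LinearMap.id : F →ₗ[P] F) (LinearMap.comp_id j) y = y := by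
  obtain ⟨f, rfl⟩ := Submodule.Quotient.mk_surjective _ y
  rfl

section Comp

variable {F'' : Type*} [AddCommGroup F''] [Module P F''] {j'' : F'' →ₗ[P] P}
  (α : F →ₗ[P] F') (hα : j' ∘ₗ α = j) (α' : F' →ₗ[P] F'') (hα' : j'' ∘ₗ α' = j')

lemma Q_comp (y) : Q N α hα (Q N α' hα' y) =
    Q N (α' ∘ₗ α) (by rw [← LinearMap.comp_assoc, hα', hα]) y := by
  obtain ⟨f, rfl⟩ := Submodule.Quotient.mk_surjective _ y
  rfl

end Comp

/-- **`T²` is independent of the presentation.** -/
theorem nonempty_T2_equiv [Module.Projective P F] [Module.Projective P F']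
    (h : LinearMap.range j = LinearMap.range j') :
    Nonempty (T2 N j ≃ₗ[P] T2 N j') := by
  obtain ⟨α, hα⟩ : ∃ α : F →ₗ[P] F', j' ∘ₗ α = j := by
    obtain ⟨α, hα⟩ := Module.projective_lifting_property j'.rangeRestrict
      (j.codRestrict (LinearMap.range j') (fun x => h ▸ LinearMap.mem_range_self j x))
      j'.surjective_rangeRestrict
    refine ⟨α, LinearMap.ext fun x => ?_⟩
    exact congrArg Subtype.val (congrFun (congrArg DFunLike.coe hα) x)
  obtain ⟨β, hβ⟩ : ∃ β : F' →ₗ[P] F, j ∘ₗ β = j' := by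
    obtain ⟨β, hβ⟩ := Module.projective_lifting_property j.rangeRestrict
      (j'.codRestrict (LinearMap.range j) (fun x => h ▸ LinearMap.mem_range_self j' x))
      j.surjective_rangeRestrict
    refine ⟨β, LinearMap.ext fun x => ?_⟩
    exact congrArg Subtype.val (congrFun (congrArg DFunLike.coe hβ) x)
  refine ⟨LinearEquiv.ofLinear (T2map N β hβ) (T2map N α hα) ?_ ?_⟩
  · refine LinearMap.ext fun y => Subtype.ext ?_
    change Q N β hβ (Q N α hα y.1) = y.1
    rw [Q_comp, Q_eq N _ _ LinearMap.id (LinearMap.comp_id j'), Q_id]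
  · refine LinearMap.ext fun y => Subtype.ext ?_
    change Q N α hα (Q N β hβ y.1) = y.1
    rw [Q_comp, Q_eq N _ _ LinearMap.id (LinearMap.comp_id j), Q_id]

end Groth.Agent.Helper2.T2Mod
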