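import Mathlib
import Groth.Prelude
import Groth.Agent.Helper2.CotTPoly
import Groth.Agent.Helper2.CotTReg
import Groth.Agent.Helper2.T2Mod

namespace Groth.Agent.Helper2.SyzLocal

open Function Groth.Agent.Helper2.CotTPoly Groth.Agent.Helper2

noncomputable section

section Abstract

variable {S : Type*} [CommRing S] {F : Type*} [AddCommGroup F] [Module S F]
  {F' : Type*} [AddCommGroup F'] [Module S F'] (j : F →ₗ[S] S) (j' : F' →ₗ[S] S)

/-- **Abstract local lemma**: if the ideal `range j` admits a presentation all of whose relations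
are trivial, then the relations of `j` with coefficients in the ideal are trivial. -/
theorem mem_triv_of_presentation [Module.Projective S F] [Module.Projective S F']
    (hrange : LinearMap.range j = LinearMap.range j')
    (hker' : LinearMap.ker j' ≤ T2Mod.triv j')
    (q : F) (hq : q ∈ LinearMap.ker j)
    (hqJ : q ∈ (LinearMap.range j : Ideal S) • (⊤ : Submodule S F)) : q ∈ T2Mod.triv j := by
  classical
  let N := LinearMap.ker j ⧸ T2Mod.Rtr j
  let π : LinearMap.ker j →ₗ[S] N := (T2Mod.Rtr j).mkQ
  have hπ : π ∈ T2Mod.KK N j := by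
    rw [T2Mod.KK, LinearMap.mem_ker]
    refine LinearMap.ext fun x => ?_
    change Submodule.Quotient.mk (x : LinearMap.ker j) = 0
    rw [Submodule.Quotient.mk_eq_zero]
    exact x.2
  have hT2' : ∀ z : T2Mod.T2 N j', z = 0 := by
    rintro ⟨_, φ, hφ, rfl⟩
    have hφ0 : φ = 0 := by
      have hφ' : (LinearMap.lcomp S N (T2Mod.Rtr j').subtype) φ = 0 := hφ
      refine LinearMap.ext fun x => ?_
      exact congrFun (congrArg DFunLike.coe hφ') ⟨x, hker' x.2⟩
    apply Subtype.ext
    change Submodule.Quotient.mk φ = 0
    rw [hφ0]; rfl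
  obtain ⟨e⟩ := T2Mod.nonempty_T2_equiv N (j := j) (j' := j') hrange
  have hz : (⟨(T2Mod.resN N j).mkQ π, ⟨π, hπ, rfl⟩⟩ : T2Mod.T2 N j) = 0 := by
    apply e.injective
    rw [hT2' (e _), map_zero]
  have hπres : π ∈ T2Mod.resN N j := by
    have := congrArg Subtype.val hz
    change Submodule.Quotient.mk π = 0 at this
    rwa [Submodule.Quotient.mk_eq_zero] at this
  obtain ⟨G, hG⟩ := hπres
  have hGq : π ⟨q, hq⟩ = G q := by
    rw [← hG]; rfl
  -- the ideal kills `N`
  have hkill : ∀ t ∈ LinearMap.range j, ∀ n : N, t • n = 0 := by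
    rintro _ ⟨u, rfl⟩ n
    obtain ⟨ρ, rfl⟩ := Submodule.Quotient.mk_surjective _ n
    rw [← Submodule.Quotient.mk_smul, Submodule.Quotient.mk_eq_zero]
    change ((j u • ρ : LinearMap.ker j) : F) ∈ T2Mod.triv j
    refine Submodule.subset_span ⟨u, ρ, ?_⟩
    rw [show j (ρ : F) = 0 from ρ.2, zero_smul, sub_zero]
    rfl
  have hGq0 : G q = 0 := by
    refine Submodule.smul_induction_on hqJ ?_ ?_
    · intro t ht f _
      rw [map_smul]
      exact hkill t ht _
    · intro a b ha hb
      rw [map_add, ha, hb, add_zero]
  rw [hGq0] at hGq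
  have : (⟨q, hq⟩ : LinearMap.ker j) ∈ T2Mod.Rtr j := by
    rw [← Submodule.Quotient.mk_eq_zero]
    exact hGq
  exact this

end Abstract

section Concrete

universe u v

variable {S : Type u} [CommRing S] {K : Type v} (y : K → S)

/-- the map `e_k ↦ y k`. -/
abbrev jy : (K →₀ S) →ₗ[S] S := Finsupp.linearCombination S y

lemma triv_le_kosz : T2Mod.triv (jy y) ≤ kosz y := by
  refine Submodule.span_le.mpr ?_
  rintro _ ⟨a, b, rfl⟩
  induction a using Finsupp.induction_linear with
  | zero => simp
  | add f g hf hg =>
    have : jy y (f + g) • b - jy y b • (f + g) =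
        (jy y f • b - jy y b • f) + (jy y g • b - jy y b • g) := by
      rw [map_add, add_smul, smul_add]; abel
    rw [this]; exact Submodule.add_mem _ hf hg
  | single k r =>
    have : jy y (Finsupp.single k r) • b - jy y b • Finsupp.single k r =
        r • (y k • b - Finsupp.single k (Finsupp.linearCombination S y b)) := by
      rw [Finsupp.linearCombination_single, smul_sub, Finsupp.smul_single, Finsupp.smul_single,
        smul_eq_mul, smul_eq_mul, smul_smul, mul_comm (jy y b) r]
      rfl
    rw [this]
    exact Submodule.smul_mem _ _ (smul_sub_single_mem_kosz y k b)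

lemma kosz_le_triv : kosz y ≤ T2Mod.triv (jy y) := by
  refine Submodule.span_le.mpr ?_
  rintro _ ⟨k, l, rfl⟩
  refine Submodule.subset_span ⟨Finsupp.single k 1, Finsupp.single l 1, ?_⟩
  rw [Finsupp.linearCombination_single, Finsupp.linearCombination_single, Finsupp.smul_single,
    Finsupp.smul_single, one_smul, one_smul, smul_eq_mul, smul_eq_mul, mul_one, mul_one]

/-- elements of the ideal multiply relations into the Koszul relations. -/
lemma smul_mem_kosz_of_mem {t : S} (ht : t ∈ Ideal.span (Set.range y)) {q : K →₀ S}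
    (hq : jy y q = 0) : t • q ∈ kosz y := by
  refine Submodule.span_induction ?_ ?_ ?_ ?_ ht
  · rintro _ ⟨k, rfl⟩
    have := smul_sub_single_mem_kosz y k q
    rw [show Finsupp.linearCombination S y q = 0 from hq, Finsupp.single_zero, sub_zero] at this
    exact this
  · rw [zero_smul]; exact Submodule.zero_mem _
  · intro a b _ _ ha hb
    rw [add_smul]; exact Submodule.add_mem _ ha hb
  · intro c a _ ha
    rw [smul_eq_mul, mul_smul]; exact Submodule.smul_mem _ c ha

/-- **Local lemma**: if the ideal generated by the `y k` is also generated by a regular sequence,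
relations among the `y k` with coefficients in the ideal are Koszul. -/
theorem mem_kosz_of_local {c : ℕ} (g : Fin c → S)
    (hreg : ∀ (i : Fin c) (a : S), g i * a ∈ Ideal.span (g '' {j | j < i}) →
      a ∈ Ideal.span (g '' {j | j < i}))
    (hJ : Ideal.span (Set.range y) = Ideal.span (Set.range g))
    (q : K →₀ S) (hq : jy y q = 0) (hqJ : ∀ k, q k ∈ Ideal.span (Set.range y)) : q ∈ kosz y := by
  classical
  have hrange : LinearMap.range (jy y) = LinearMap.range (jy g) := by
    change LinearMap.range (Finsupp.linearCombination S y) =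
      LinearMap.range (Finsupp.linearCombination S g)
    rw [Finsupp.range_linearCombination, Finsupp.range_linearCombination]
    exact hJ
  have hker' : LinearMap.ker (jy g) ≤ T2Mod.triv (jy g) := fun x hx =>
    kosz_le_triv g (CotTReg.mem_kosz_of_regular g hreg x hx)
  refine triv_le_kosz y (mem_triv_of_presentation (jy y) (jy g) hrange hker' q hq ?_)
  have hr : (LinearMap.range (jy y) : Ideal S) = Ideal.span (Set.range y) := by
    change LinearMap.range (Finsupp.linearCombination S y) = _
    rw [Finsupp.range_linearCombination]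
  rw [hr]
  rw [← Finsupp.sum_single q, Finsupp.sum]
  refine Submodule.sum_mem _ fun k _ => ?_
  rw [← mul_one (q k), ← smul_eq_mul, ← Finsupp.smul_single]
  exact Submodule.smul_mem_smul (hqJ k) Submodule.mem_top

end Concrete

end

end Groth.Agent.Helper2.SyzLocal
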