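import Mathlib
import Groth.Prelude
import Groth.Agent.Helper2.CotTGen
import Groth.Agent.Helper2.CotTReg
import Groth.Agent.Helper2.CotTIndep01
import Groth.Agent.Helper2.SyzLocal

namespace Groth.Agent.Helper2.CotTSyz

open CotT Function TensorProduct Algebra
open Groth.Agent.Helper2.CotTPoly Groth.Agent.Helper2.CotTGen Groth.Agent.Helper2.CotTIndep01

noncomputable section

universe u v w t m

section Descent

variable {R : Type*} [CommRing R] (M : Submonoid R) (S : Type*) [CommRing S] [Algebra R S]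
  [IsLocalization M S] {K : Type*} (y : K → R)

/-- coordinatewise localization map. -/
def Φ : (K →₀ R) →ₗ[R] (K →₀ S) := Finsupp.mapRange.linearMap (Algebra.linearMap R S)

lemma Φ_apply (q : K →₀ R) (k : K) : Φ S q k = algebraMap R S (q k) := rfl

lemma Φ_single (k : K) (r : R) : Φ S (Finsupp.single k r) = Finsupp.single k (algebraMap R S r) := by
  ext k'
  rw [Φ_apply]
  by_cases h : k = k'
  · subst h; rw [Finsupp.single_eq_same, Finsupp.single_eq_same]
  · rw [Finsupp.single_eq_of_ne' h, Finsupp.single_eq_of_ne' h, map_zero]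

lemma linearCombination_Φ (q : K →₀ R) :
    Finsupp.linearCombination S (fun k => algebraMap R S (y k)) (Φ S q) =
      algebraMap R S (Finsupp.linearCombination R y q) := by
  induction q using Finsupp.induction_linear with
  | zero => simp
  | add f g hf hg => rw [map_add, map_add, map_add, map_add, hf, hg]
  | single k r =>
    rw [Φ_single, Finsupp.linearCombination_single, Finsupp.linearCombination_single, smul_eq_mul,
      smul_eq_mul, map_mul]

include M in
lemma exists_smul_eq_Φ_of_mem_kosz (z : K →₀ S)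
    (hz : z ∈ kosz (fun k => algebraMap R S (y k))) :
    ∃ u ∈ M, ∃ w ∈ kosz y, u • z = Φ S w := by
  refine Submodule.span_induction ?_ ?_ ?_ ?_ hz
  · rintro _ ⟨k, l, rfl⟩
    refine ⟨1, M.one_mem, _, Submodule.subset_span ⟨k, l, rfl⟩, ?_⟩
    rw [one_smul, map_sub, Φ_single, Φ_single]
  · exact ⟨1, M.one_mem, 0, Submodule.zero_mem _, by rw [smul_zero, map_zero]⟩
  · rintro z₁ z₂ _ _ ⟨u₁, hu₁, w₁, hw₁, h₁⟩ ⟨u₂, hu₂, w₂, hw₂, h₂⟩
    refine ⟨u₁ * u₂, M.mul_mem hu₁ hu₂, u₂ • w₁ + u₁ • w₂,
      Submodule.add_mem _ (Submodule.smul_mem _ _ hw₁) (Submodule.smul_mem _ _ hw₂), ?_⟩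
    rw [map_add, map_smul, map_smul, ← h₁, ← h₂, smul_add, mul_smul, mul_smul,
      smul_comm u₂ u₁ z₁]
  · rintro c z _ ⟨u, hu, w, hw, h⟩
    obtain ⟨a, s, rfl⟩ := IsLocalization.exists_mk'_eq M c
    refine ⟨s * u, M.mul_mem s.2 hu, a • w, Submodule.smul_mem _ _ hw, ?_⟩
    rw [map_smul, ← h, smul_comm a u z, mul_comm (s : R) u, mul_smul]
    congr 1
    rw [← algebraMap_smul S (s : R) (IsLocalization.mk' S a s • z), smul_smul,
      mul_comm, IsLocalization.mk'_spec, algebraMap_smul]

include M in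
lemma exists_smul_eq_zero_of_Φ_eq_zero (d : K →₀ R) (hd : Φ S d = 0) :
    ∃ v ∈ M, v • d = 0 := by
  classical
  have h1 : ∀ k, ∃ m : M, (m : R) * d k = 0 := by
    intro k
    have hk : algebraMap R S (d k) = 0 := by
      rw [← Φ_apply, hd]; rfl
    exact (IsLocalization.map_eq_zero_iff M S _).1 hk
  choose m hm using h1
  refine ⟨∏ k ∈ d.support, (m k : R), M.prod_mem fun k _ => (m k).2, ?_⟩
  ext k
  rw [Finsupp.smul_apply, Finsupp.zero_apply, smul_eq_mul]
  by_cases hk : k ∈ d.support
  · obtain ⟨r, hr⟩ := Finset.dvd_prod_of_mem (fun k => (m k : R)) hk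
    rw [hr, mul_comm _ r, mul_assoc, hm, mul_zero]
  · rw [Finsupp.notMem_support_iff.1 hk, mul_zero]

end Descent

variable {A : Type u} {B : Type v} [CommRing A] [CommRing B] [Algebra A B]
variable {ι : Type w} {σ : Type t} (P : Algebra.Presentation A B ι σ)

lemma kosz_le_trivRel : kosz (rel P) ≤ trivRel P := by
  refine Submodule.span_le.mpr ?_
  rintro _ ⟨k, l, rfl⟩
  refine Submodule.subset_span ⟨Finsupp.single k 1, Finsupp.single l 1, ?_⟩
  rw [jmap_single, jmap_single, one_mul, one_mul, Finsupp.smul_single, Finsupp.smul_single,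
    smul_eq_mul, smul_eq_mul, mul_one, mul_one]

/-- the presentation is *syzygetic*: relations with coefficients in the ideal are trivial. -/
def Syz : Prop :=
  ∀ q : relMod P, q ∈ relKer P → (∀ s, q s ∈ P.toExtension.ker) → q ∈ trivRel P

/-- **Globalization**: the syzygetic property can be checked at the maximal ideals containing
the kernel, where it follows from the kernel being generated by a regular sequence. -/
theorem syz_of_local
    (hloc : ∀ (𝔮 : Ideal P.toExtension.Ring) [𝔮.IsMaximal], P.toExtension.ker ≤ 𝔮 →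
      ∃ (c : ℕ) (g : Fin c → Localization.AtPrime 𝔮),
        (∀ (i : Fin c) (a : Localization.AtPrime 𝔮),
          g i * a ∈ Ideal.span (g '' {j | j < i}) → a ∈ Ideal.span (g '' {j | j < i})) ∧
        Ideal.span (Set.range g) =
          P.toExtension.ker.map (algebraMap P.toExtension.Ring (Localization.AtPrime 𝔮))) :
    Syz P := by
  intro q hq hqI
  let 𝔞 : Ideal P.toExtension.Ring :=
    (trivRel P).comap (LinearMap.toSpanSingleton P.toExtension.Ring (relMod P) q)
  have h𝔞 : ∀ t, t ∈ 𝔞 ↔ t • q ∈ trivRel P := fun t => Iff.rfl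
  suffices h : 𝔞 = ⊤ by
    have h1 := (h𝔞 1).1 (h ▸ Submodule.mem_top)
    rwa [one_smul] at h1
  by_contra hne
  obtain ⟨𝔮, h𝔮max, hle⟩ := Ideal.exists_le_maximal 𝔞 hne
  haveI := h𝔮max
  have hspanI : Ideal.span (Set.range (rel P)) = P.toExtension.ker := P.span_range_relation_eq_ker
  by_cases hI : P.toExtension.ker ≤ 𝔮
  · obtain ⟨c, g, hreg, hspan⟩ := hloc 𝔮 hI
    let S := Localization.AtPrime 𝔮
    let y' : σ → S := fun s => algebraMap P.toExtension.Ring S (rel P s)
    have hspan' : Ideal.span (Set.range y') = Ideal.span (Set.range g) := by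
      rw [hspan, ← hspanI, Ideal.map_span, ← Set.range_comp]
      rfl
    have hq' : SyzLocal.jy y' (Φ S q) = 0 := by
      have h0 : Finsupp.linearCombination P.toExtension.Ring (rel P) q = 0 := hq
      change Finsupp.linearCombination S y' (Φ S q) = 0
      rw [linearCombination_Φ S (rel P) q, h0, map_zero]
    have hq'J : ∀ s, (Φ S q) s ∈ Ideal.span (Set.range y') := by
      intro s
      rw [hspan', hspan]
      exact Ideal.mem_map_of_mem _ (hqI s)
    have hk := SyzLocal.mem_kosz_of_local y' g hreg hspan' (Φ S q) hq' hq'J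
    obtain ⟨u, hu, w, hw, huw⟩ := exists_smul_eq_Φ_of_mem_kosz 𝔮.primeCompl S (rel P) _ hk
    have hd : Φ S (u • q - w) = 0 := by
      rw [map_sub, map_smul, huw, sub_self]
    obtain ⟨v, hv, hvd⟩ := exists_smul_eq_zero_of_Φ_eq_zero 𝔮.primeCompl S _ hd
    have hvu : (v * u) • q = v • w := by
      rw [smul_sub, sub_eq_zero] at hvd
      rw [mul_smul, hvd]
    have hmem : v * u ∈ 𝔞 := by
      rw [h𝔞, hvu]
      exact Submodule.smul_mem _ _ (kosz_le_trivRel P hw)
    exact (𝔮.primeCompl.mul_mem hv hu) (hle hmem)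
  · obtain ⟨t, htI, ht𝔮⟩ := SetLike.not_le_iff_exists.1 hI
    have : t ∈ 𝔞 := by
      rw [h𝔞]
      refine kosz_le_trivRel P (SyzLocal.smul_mem_kosz_of_mem (rel P) ?_ hq)
      rw [hspanI]; exact htI
    exact ht𝔮 (hle this)

/-- a syzygetic presentation has injective `d₂`. -/
theorem d2_injective_of_syz (h : Syz P) : Injective (d2 P) := by
  rw [injective_iff_map_eq_zero]
  intro x hx
  obtain ⟨z, rfl⟩ := Submodule.Quotient.mk_surjective _ x
  obtain ⟨q, rfl⟩ := TensorProduct.mk_surjective P.toExtension.Ring (relKer P) B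
    P.toExtension.algebraMap_surjective z
  rw [TensorProduct.mk_apply] at hx ⊢
  rw [d2_mk_tmul] at hx
  have hcoord : ∀ s, (q : relMod P) s ∈ P.toExtension.ker := by
    intro s
    have h1 := congrArg (fun v => (L1basis P).repr v s) hx
    simp only [L1basis, Algebra.TensorProduct.basis_repr_tmul, map_zero, Finsupp.zero_apply,
      one_smul, Finsupp.mapRange_apply, Finsupp.basisSingleOne_repr, LinearEquiv.refl_apply] at h1
    exact h1
  have hq := h q q.2 hcoord
  rw [Submodule.Quotient.mk_eq_zero]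
  refine ⟨(1 : B) ⊗ₜ[P.toExtension.Ring] (⟨q, hq⟩ : trivRelKer P), ?_⟩
  rw [LinearMap.baseChange_tmul]
  rfl

variable (M : Type m) [AddCommGroup M] [Module B M]

/-- If `d₂` is injective and `I/I²` is projective, `T²` vanishes. -/
theorem subsingleton_T2_of_injective (hinj : Injective (d2 P))
    [Module.Projective B P.toExtension.Cotangent] : Subsingleton (T2 P M) := by
  obtain ⟨s, hs⟩ := Module.projective_lifting_property (toCot P) LinearMap.id (toCot_surjective P)
  have hs' : ∀ x, toCot P (s x) = x := fun x => congrFun (congrArg DFunLike.coe hs) x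
  let e := LinearEquiv.ofInjective (d2 P) hinj
  have hp : ∀ x : L1 P, x - s (toCot P x) ∈ LinearMap.range (d2 P) := by
    intro x
    apply ker_toCot_le_range_d2 P
    rw [LinearMap.mem_ker, map_sub, hs', sub_self]
  let p : L1 P →ₗ[B] LinearMap.range (d2 P) :=
    (LinearMap.id - s ∘ₗ toCot P).codRestrict (LinearMap.range (d2 P)) hp
  have htop : LinearMap.range (d2Star P M) = ⊤ := by
    rw [_root_.eq_top_iff]
    intro g _
    refine ⟨g ∘ₗ e.symm.toLinearMap ∘ₗ p, ?_⟩
    rw [d2Star_apply]
    refine LinearMap.ext fun x => ?_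
    change g (e.symm (p (d2 P x))) = g x
    congr 1
    rw [LinearEquiv.symm_apply_eq]
    apply Subtype.ext
    change d2 P x - s (toCot P (d2 P x)) = d2 P x
    have : toCot P (d2 P x) = 0 := congrFun (congrArg DFunLike.coe (toCot_comp_d2 P)) x
    rw [this, map_zero, sub_zero]
  refine ⟨fun a b => ?_⟩
  obtain ⟨a, rfl⟩ := Submodule.Quotient.mk_surjective _ a
  obtain ⟨b, rfl⟩ := Submodule.Quotient.mk_surjective _ b
  rw [Submodule.Quotient.eq, htop]
  exact Submodule.mem_top

end

end Groth.Agent.Helper2.CotTSyz
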