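import Mathlib

namespace Groth.Agent.Helper2.CotGen
open TensorProduct

section
variable {B : Type*} [CommRing B] (J q : Ideal B) [q.IsPrime]
variable {ι : Type*} (f : ι → B) (hf : ∀ i, f i ∈ J)

/-- if `r • g` lies in the ideal generated by the `f i`, then `r • [g]` lies in the span of
the `[f i]` in the cotangent module. -/
theorem smul_toCotangent_mem_span (g : J) (r : B)
    (h : r * (g : B) ∈ Ideal.span (Set.range f)) :
    r • J.toCotangent g ∈
      Submodule.span B (Set.range fun i => J.toCotangent ⟨f i, hf i⟩) := by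
  set N₁ : Submodule B J := Submodule.span B (Set.range fun i => (⟨f i, hf i⟩ : J)) with hN₁
  have hmap : N₁.map J.subtype = Ideal.span (Set.range f) := by
    rw [hN₁, Submodule.map_span, ← Set.range_comp]
    rfl
  rw [← hmap] at h
  obtain ⟨y, hy, hyg⟩ := h
  have hy' : y = r • g := Subtype.ext (by simpa using hyg)
  have : Submodule.span B (Set.range fun i => J.toCotangent ⟨f i, hf i⟩) =
      N₁.map J.toCotangent := by
    rw [hN₁, Submodule.map_span, ← Set.range_comp]
    rfl
  rw [this, ← map_smul, ← hy']
  exact Submodule.mem_map_of_mem hy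

/-- GL1 -/
theorem exists_smul_toCotangent_mem_span_of_map_eq
    (h : J.map (algebraMap B (Localization.AtPrime q)) =
      Ideal.span (Set.range fun i => algebraMap B (Localization.AtPrime q) (f i)))
    (g : J) :
    ∃ r ∉ q, r • J.toCotangent g ∈
      Submodule.span B (Set.range fun i => J.toCotangent ⟨f i, hf i⟩) := by
  have h1 : algebraMap B (Localization.AtPrime q) g ∈
      (Ideal.span (Set.range f)).map (algebraMap B (Localization.AtPrime q)) := by
    rw [Ideal.map_span, ← Set.range_comp]
    change _ ∈ Ideal.span (Set.range fun i => algebraMap B (Localization.AtPrime q) (f i))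
    rw [← h]
    exact Ideal.mem_map_of_mem _ g.2
  rw [IsLocalization.mem_map_algebraMap_iff q.primeCompl] at h1
  obtain ⟨⟨x, s⟩, hxs⟩ := h1
  rw [← map_mul, IsLocalization.eq_iff_exists q.primeCompl] at hxs
  obtain ⟨t, ht⟩ := hxs
  refine ⟨(t : B) * (s : B), (t * s).2, smul_toCotangent_mem_span J f hf g _ ?_⟩
  have : (t : B) * (s : B) * (g : B) = t * x := by
    rw [← ht]; ring
  rw [this]
  exact Ideal.mul_mem_left _ _ x.2

/-- GL2 (Nakayama) -/
theorem map_eq_span_of_forall_exists_smul (hJ : J.FG) (hJq : J ≤ q)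
    (h : ∀ g : J, ∃ r ∉ q, r • J.toCotangent g ∈
      Submodule.span B (Set.range fun i => J.toCotangent ⟨f i, hf i⟩)) :
    J.map (algebraMap B (Localization.AtPrime q)) =
      Ideal.span (Set.range fun i => algebraMap B (Localization.AtPrime q) (f i)) := by
  set Iq := J.map (algebraMap B (Localization.AtPrime q)) with hIq
  set Nq : Ideal (Localization.AtPrime q) :=
    Ideal.span (Set.range fun i => algebraMap B (Localization.AtPrime q) (f i)) with hNq
  have hNq' : Nq = (Ideal.span (Set.range f)).map (algebraMap B (Localization.AtPrime q)) := by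
    rw [Ideal.map_span, ← Set.range_comp]; rfl
  apply le_antisymm
  · have hfg : Submodule.FG (Iq : Submodule (Localization.AtPrime q) (Localization.AtPrime q)) :=
      hJ.map _
    have hjac : Iq ≤ Ideal.jacobson ⊥ := by
      rw [IsLocalRing.jacobson_eq_maximalIdeal ⊥ bot_ne_top, hIq, Ideal.map_le_iff_le_comap]
      have := IsLocalization.AtPrime.under_maximalIdeal (Localization.AtPrime q) q
      rw [Ideal.under_def] at this
      rw [this]
      exact hJq
    refine Submodule.le_of_le_smul_of_le_jacobson_bot (N := Nq) hfg hjac ?_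
    change Iq ≤ Nq ⊔ Iq • Iq
    rw [hIq, Ideal.map_le_iff_le_comap]
    intro g hg
    rw [Ideal.mem_comap]
    obtain ⟨r, hr, hrg⟩ := h ⟨g, hg⟩
    set N₁ : Submodule B J := Submodule.span B (Set.range fun i => (⟨f i, hf i⟩ : J)) with hN₁
    have hmap : N₁.map J.subtype = Ideal.span (Set.range f) := by
      rw [hN₁, Submodule.map_span, ← Set.range_comp]
      rfl
    have hcot : Submodule.span B (Set.range fun i => J.toCotangent ⟨f i, hf i⟩) =
        N₁.map J.toCotangent := by
      rw [hN₁, Submodule.map_span, ← Set.range_comp]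
      rfl
    rw [hcot] at hrg
    obtain ⟨y, hy, hyg⟩ := hrg
    rw [← map_smul, Ideal.toCotangent_eq] at hyg
    -- hyg : (y - r • g : B) ∈ J ^ 2
    have hy0 : (y : B) ∈ Ideal.span (Set.range f) := by
      rw [← hmap]; exact ⟨y, hy, rfl⟩
    have h1 : algebraMap B (Localization.AtPrime q) (y : B) ∈ Nq ⊔ Iq • Iq := by
      apply Ideal.mem_sup_left
      rw [hNq']
      exact Ideal.mem_map_of_mem _ hy0
    have h2 : algebraMap B (Localization.AtPrime q) ((y : B) - (r • ⟨g, hg⟩ : J)) ∈
        Nq ⊔ Iq • Iq := by
      apply Ideal.mem_sup_right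
      rw [smul_eq_mul, ← pow_two, hIq, ← Ideal.map_pow]
      exact Ideal.mem_map_of_mem _ hyg
    have h3 : algebraMap B (Localization.AtPrime q) (r * g) ∈ Nq ⊔ Iq • Iq := by
      have := Ideal.sub_mem _ h1 h2
      rw [← map_sub] at this
      simpa using this
    have hu : IsUnit (algebraMap B (Localization.AtPrime q) r) :=
      IsLocalization.map_units (M := q.primeCompl) _ ⟨r, hr⟩
    rw [map_mul] at h3
    exact (Ideal.unit_mul_mem_iff_mem _ hu).mp h3
  · rw [hNq, Ideal.span_le]
    rintro _ ⟨i, rfl⟩
    exact Ideal.mem_map_of_mem _ (hf i)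

end

end Groth.Agent.Helper2.CotGen
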