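import Mathlib
open TensorProduct IsLocalRing Algebra KaehlerDifferential

namespace Groth.Agent.Helper2.SmoothTower
universe u

theorem formallySmooth_tower_iff (A B S : Type u) [CommRing A] [CommRing B] [CommRing S]
    [Algebra A B] [Algebra B S] [Algebra A S] [IsScalarTower A B S] [FormallySmooth A S] :
    FormallySmooth B S ↔
      ∃ l' : Ω[S⁄A] →ₗ[S] S ⊗[B] Ω[B⁄A], l' ∘ₗ mapBaseChange A B S = LinearMap.id := by
  have hex := KaehlerDifferential.exact_mapBaseChange_map A B S
  have hsurj : Function.Surjective (KaehlerDifferential.map A B S S) :=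
    KaehlerDifferential.map_surjective A B S
  have h1 := Algebra.H1Cotangent.exact_map_δ A B S
  have h2 := Algebra.H1Cotangent.exact_δ_mapBaseChange A B S
  have hsub : Subsingleton (H1Cotangent A S) := inferInstance
  constructor
  · intro hs
    have hinj : Function.Injective (mapBaseChange A B S) := by
      rw [injective_iff_map_eq_zero]
      intro x hx
      obtain ⟨y, rfl⟩ := (h2 x).mp hx
      rw [Subsingleton.elim y 0, map_zero]
    obtain ⟨l, hl⟩ := Module.projective_lifting_property (KaehlerDifferential.map A B S S)
      LinearMap.id hsurj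
    exact ((hex.split_tfae'.out 0 1 rfl rfl).mp ⟨hinj, l, hl⟩).2
  · rintro ⟨l', hl'⟩
    have hinj : Function.Injective (mapBaseChange A B S) :=
      Function.HasLeftInverse.injective ⟨l', LinearMap.congr_fun hl'⟩
    obtain ⟨-, l, hl⟩ := (hex.split_tfae'.out 1 0 rfl rfl).mp ⟨hsurj, l', hl'⟩
    refine ⟨Module.Projective.of_split l (KaehlerDifferential.map A B S S) hl, ?_⟩
    refine ⟨fun x y => ?_⟩
    have hδ : ∀ z, H1Cotangent.δ A B S z = 0 := by
      intro z
      apply hinj
      rw [map_zero]
      exact (h2 _).mpr ⟨z, rfl⟩
    have hz : ∀ z : H1Cotangent B S, z = 0 := by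
      intro z
      obtain ⟨w, rfl⟩ := (h1 z).mp (hδ z)
      rw [Subsingleton.elim w 0, map_zero]
    rw [hz x, hz y]


/-- naturality of `cancelBaseChange`: `κ ⊗[S] (S ⊗[C] l)` vs `κ ⊗[C] l`. -/
theorem lTensor_baseChange_injective_iff {C S κ M N : Type*} [CommRing C] [CommRing S] [CommRing κ]
    [Algebra C S] [Algebra S κ] [Algebra C κ] [IsScalarTower C S κ]
    [AddCommGroup M] [AddCommGroup N] [Module C M] [Module C N] (l : M →ₗ[C] N) :
    Function.Injective ((l.baseChange S).lTensor κ) ↔ Function.Injective (l.lTensor κ) := by
  have key : ∀ x, (AlgebraTensorModule.cancelBaseChange C S κ κ N) (((l.baseChange S).lTensor κ) x) =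
      (l.lTensor κ) ((AlgebraTensorModule.cancelBaseChange C S κ κ M) x) := by
    intro x
    induction x using TensorProduct.induction_on with
    | zero => simp
    | add x y hx hy => simp only [map_add, hx, hy]
    | tmul k y =>
      induction y using TensorProduct.induction_on with
      | zero => simp
      | add x y hx hy => simp only [tmul_add, map_add, hx, hy]
      | tmul s m => simp
  constructor
  · intro h x y hxy
    obtain ⟨x, rfl⟩ := (AlgebraTensorModule.cancelBaseChange C S κ κ M).surjective x
    obtain ⟨y, rfl⟩ := (AlgebraTensorModule.cancelBaseChange C S κ κ M).surjective y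
    rw [← key, ← key] at hxy
    rw [h ((AlgebraTensorModule.cancelBaseChange C S κ κ N).injective hxy)]
  · intro h x y hxy
    apply (AlgebraTensorModule.cancelBaseChange C S κ κ M).injective
    apply h
    rw [← key, ← key, hxy]


theorem map_map_eq (A B C S : Type u) [CommRing A] [CommRing B] [CommRing C] [CommRing S]
    [Algebra A B] [Algebra B C] [Algebra A C] [IsScalarTower A B C]
    [Algebra C S] [Algebra B S] [Algebra A S] [IsScalarTower A C S] [IsScalarTower B C S]
    [IsScalarTower A B S] (ω : Ω[B⁄A]) :
    KaehlerDifferential.map A A C S (KaehlerDifferential.map A A B C ω) =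
      KaehlerDifferential.map A A B S ω := by
  have := KaehlerDifferential.span_range_derivation A B
  have hω : ω ∈ Submodule.span B (Set.range (D A B)) := by rw [this]; trivial
  induction hω using Submodule.span_induction with
  | mem x hx =>
    obtain ⟨b, rfl⟩ := hx
    simp [← IsScalarTower.algebraMap_apply]
  | zero => simp
  | add x y _ _ hx hy => simp only [map_add, hx, hy]
  | smul b x _ hx =>
    have hsm : ∀ (y : Ω[C⁄A]), KaehlerDifferential.map A A C S (b • y) =
        b • KaehlerDifferential.map A A C S y := by
      intro y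
      rw [algebra_compatible_smul C b y, map_smul, algebra_compatible_smul S b,
        algebra_compatible_smul S (algebraMap B C b), ← IsScalarTower.algebraMap_apply]
    rw [(KaehlerDifferential.map A A B C).map_smul, hsm, hx,
      (KaehlerDifferential.map A A B S).map_smul]


set_option maxHeartbeats 800000 in
theorem isSmoothAt_tower_iff (A B C : Type u) [CommRing A] [CommRing B]
    [CommRing C] [Algebra A B] [Algebra B C] [Algebra A C] [IsScalarTower A B C]
    [Algebra.FiniteType A B] [Algebra.FiniteType A C] (q : Ideal C) [q.IsPrime]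
    (hC : Algebra.IsSmoothAt A q) :
    Algebra.IsSmoothAt B q ↔
      Function.Injective ((KaehlerDifferential.mapBaseChange A B C).lTensor q.ResidueField) := by
  have hsm : FormallySmooth A (Localization.AtPrime q) := hC
  change FormallySmooth B (Localization.AtPrime q) ↔ _
  have het : FormallyEtale C (Localization.AtPrime q) :=
    Algebra.FormallyEtale.of_isLocalization q.primeCompl
  rw [← lTensor_baseChange_injective_iff (S := Localization.AtPrime q),
    formallySmooth_tower_iff A B (Localization.AtPrime q)]
  let e_src : (Localization.AtPrime q) ⊗[C] (C ⊗[B] Ω[B⁄A]) ≃ₗ[Localization.AtPrime q]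
      (Localization.AtPrime q) ⊗[B] Ω[B⁄A] :=
    AlgebraTensorModule.cancelBaseChange B C (Localization.AtPrime q) (Localization.AtPrime q) _
  let e_tgt : (Localization.AtPrime q) ⊗[C] Ω[C⁄A] ≃ₗ[Localization.AtPrime q]
      Ω[(Localization.AtPrime q)⁄A] := tensorKaehlerEquivOfFormallyEtale A C (Localization.AtPrime q)
  have sq : ∀ x, e_tgt (((mapBaseChange A B C).baseChange (Localization.AtPrime q)) x) =
      (mapBaseChange A B (Localization.AtPrime q)) (e_src x) := by
    intro x
    induction x using TensorProduct.induction_on with
    | zero => simp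
    | add x y hx hy => simp only [map_add, hx, hy]
    | tmul k y =>
      induction y using TensorProduct.induction_on with
      | zero => simp
      | add x y hx hy => simp only [tmul_add, map_add, hx, hy]
      | tmul c ω =>
        simp only [LinearMap.baseChange_tmul, mapBaseChange_tmul, e_tgt, e_src,
          tensorKaehlerEquivOfFormallyEtale_apply, AlgebraTensorModule.cancelBaseChange_tmul,
          map_smul, map_map_eq]
        rw [smul_assoc, smul_comm]
  have hf1 : Module.Finite B Ω[B⁄A] := inferInstance
  have hf2 : Module.Finite C Ω[C⁄A] := inferInstance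
  have hf3 : Module.Finite (Localization.AtPrime q)
      ((Localization.AtPrime q) ⊗[C] (C ⊗[B] Ω[B⁄A])) := inferInstance
  have hf4 : Module.Finite (Localization.AtPrime q) ((Localization.AtPrime q) ⊗[C] Ω[C⁄A]) :=
    inferInstance
  have hp : Module.Projective (Localization.AtPrime q) ((Localization.AtPrime q) ⊗[C] Ω[C⁄A]) :=
    Module.Projective.of_equiv e_tgt.symm
  have hfp : Module.FinitePresentation (Localization.AtPrime q)
      ((Localization.AtPrime q) ⊗[C] Ω[C⁄A]) := Module.finitePresentation_of_projective _ _
  have hfree : Module.Free (Localization.AtPrime q) ((Localization.AtPrime q) ⊗[C] Ω[C⁄A]) :=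
    Module.free_of_flat_of_isLocalRing
  change _ ↔ Function.Injective (LinearMap.lTensor (IsLocalRing.ResidueField (Localization.AtPrime q))
    (LinearMap.baseChange (Localization.AtPrime q) (mapBaseChange A B C)))
  rw [← IsLocalRing.split_injective_iff_lTensor_residueField_injective]
  constructor
  · rintro ⟨r, hr⟩
    refine ⟨e_src.symm.toLinearMap ∘ₗ r ∘ₗ e_tgt.toLinearMap, ?_⟩
    refine LinearMap.ext fun x => ?_
    have := LinearMap.congr_fun hr (e_src x)
    simp only [LinearMap.comp_apply, LinearEquiv.coe_coe, LinearMap.id_apply] at this ⊢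
    rw [sq, this, LinearEquiv.symm_apply_apply]
  · rintro ⟨r, hr⟩
    refine ⟨e_src.toLinearMap ∘ₗ r ∘ₗ e_tgt.symm.toLinearMap, ?_⟩
    refine LinearMap.ext fun x => ?_
    obtain ⟨x, rfl⟩ := e_src.surjective x
    have := LinearMap.congr_fun hr x
    simp only [LinearMap.comp_apply, LinearEquiv.coe_coe, LinearMap.id_apply] at this ⊢
    rw [← sq, LinearEquiv.symm_apply_apply, this]

end Groth.Agent.Helper2.SmoothTower
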