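import Mathlib
import Groth.Agent.Helper2.SmoothTower

namespace Groth.Agent.Helper2.SplitLoc
open TensorProduct Groth.Agent.Helper2.SmoothTower

section
variable {R : Type*} [CommRing R]
variable {M N : Type*} [AddCommGroup M] [Module R M] [AddCommGroup N] [Module R N]

/-- A left inverse after base change to `S` gives injectivity after tensoring with any `S`-algebra. -/
theorem lTensor_injective_of_baseChange_leftInverse (u : M →ₗ[R] N) (S κ : Type*) [CommRing S]
    [CommRing κ] [Algebra R S] [Algebra S κ] [Algebra R κ] [IsScalarTower R S κ]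
    (l : S ⊗[R] N →ₗ[S] S ⊗[R] M) (hl : l ∘ₗ u.baseChange S = LinearMap.id) :
    Function.Injective (u.lTensor κ) := by
  rw [← lTensor_baseChange_injective_iff (S := S)]
  have : l.lTensor κ ∘ₗ (u.baseChange S).lTensor κ = LinearMap.id := by
    rw [← LinearMap.lTensor_comp, hl, LinearMap.lTensor_id]
  exact Function.HasLeftInverse.injective ⟨_, LinearMap.congr_fun this⟩

/-- `w ∘ u = s • id` gives a left inverse after base change to any algebra where `s` is a unit. -/
theorem baseChange_leftInverse_of_smul (u : M →ₗ[R] N) (s : R) (w : N →ₗ[R] M)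
    (hw : w ∘ₗ u = s • LinearMap.id) (S : Type*) [CommRing S] [Algebra R S]
    (hs : IsUnit (algebraMap R S s)) :
    ∃ l : S ⊗[R] N →ₗ[S] S ⊗[R] M, l ∘ₗ u.baseChange S = LinearMap.id := by
  obtain ⟨t, ht⟩ := hs.exists_left_inv
  refine ⟨t • w.baseChange S, ?_⟩
  rw [LinearMap.smul_comp, ← LinearMap.baseChange_comp, hw]
  ext m
  simp only [AlgebraTensorModule.curry_apply, curry_apply, LinearMap.coe_restrictScalars,
    LinearMap.smul_apply, LinearMap.baseChange_tmul, LinearMap.id_coe, id_eq]
  rw [← smul_tmul, smul_tmul']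
  congr 1
  rw [smul_eq_mul, Algebra.smul_def, mul_one, ht]

/-- KEY lemma, finite free target. -/
theorem exists_smul_retraction_of_free [Module.Finite R M] [Module.Finite R N] [Module.Free R N]
    (u : M →ₗ[R] N) (p : Ideal R) [p.IsPrime]
    (h : Function.Injective (u.lTensor p.ResidueField)) :
    ∃ s ∉ p, ∃ w : N →ₗ[R] M, w ∘ₗ u = s • LinearMap.id := by
  have h1 : Function.Injective ((u.baseChange (Localization.AtPrime p)).lTensor
      (IsLocalRing.ResidueField (Localization.AtPrime p))) :=
    (lTensor_baseChange_injective_iff (S := Localization.AtPrime p) u).mpr h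
  obtain ⟨l', hl'⟩ := (IsLocalRing.split_injective_iff_lTensor_residueField_injective
    (u.baseChange (Localization.AtPrime p))).mpr h1
  let f : M →ₗ[R] (Localization.AtPrime p) ⊗[R] M := TensorProduct.mk R (Localization.AtPrime p) M 1
  let fN : N →ₗ[R] (Localization.AtPrime p) ⊗[R] N := TensorProduct.mk R (Localization.AtPrime p) N 1
  haveI : IsLocalizedModule p.primeCompl f :=
    (isLocalizedModule_iff_isBaseChange p.primeCompl (Localization.AtPrime p) f).mpr
      (TensorProduct.isBaseChange R M (Localization.AtPrime p))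
  let g : N →ₗ[R] (Localization.AtPrime p) ⊗[R] M := (l'.restrictScalars R) ∘ₗ fN
  haveI : Module.FinitePresentation R N := Module.finitePresentation_of_projective R N
  obtain ⟨w, s, hws⟩ := Module.FinitePresentation.exists_lift_of_isLocalizedModule p.primeCompl f g
  have h2 : f ∘ₗ (w ∘ₗ u) = f ∘ₗ ((s : R) • LinearMap.id) := by
    rw [← LinearMap.comp_assoc, hws]
    ext m
    have := LinearMap.congr_fun hl' ((1 : Localization.AtPrime p) ⊗ₜ[R] m)
    simp only [LinearMap.coe_comp, Function.comp_apply, LinearMap.baseChange_tmul,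
      LinearMap.id_coe, id_eq] at this
    simp only [LinearMap.coe_comp, Function.comp_apply, LinearMap.smul_apply, g, f, fN,
      LinearMap.coe_restrictScalars, TensorProduct.mk_apply, this, LinearMap.id_coe, id_eq,
      tmul_smul]
    rfl
  obtain ⟨t, ht⟩ := Module.Finite.exists_smul_of_comp_eq_of_isLocalizedModule p.primeCompl f _ _ h2
  refine ⟨(t : R) * (s : R), (t * s).2, (t : R) • w, ?_⟩
  rw [LinearMap.smul_comp]
  have : (t : R) • (w ∘ₗ u) = (t : R) • ((s : R) • LinearMap.id) := ht
  rw [this, smul_smul]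

/-- KEY lemma: `M` finite, `N` projective, `κ(p) ⊗ u` injective ⇒ `u` has a retraction up to
multiplication by some `s ∉ p`. -/
theorem exists_smul_retraction [Module.Finite R M] [Module.Projective R N]
    (u : M →ₗ[R] N) (p : Ideal R) [p.IsPrime]
    (h : Function.Injective (u.lTensor p.ResidueField)) :
    ∃ s ∉ p, ∃ w : N →ₗ[R] M, w ∘ₗ u = s • LinearMap.id := by
  classical
  obtain ⟨ι, hι⟩ := Module.projective_def'.mp (show Module.Projective R N from inferInstance)
  obtain ⟨σ, hσ⟩ := (show Module.Finite R M from inferInstance).fg_top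
  let T : Finset N := σ.biUnion fun m => (ι (u m)).support
  have hT : ∀ m : M, (ι (u m)).support ⊆ T := by
    intro m
    have hm : m ∈ Submodule.span R (σ : Set M) := hσ ▸ Submodule.mem_top
    induction hm using Submodule.span_induction with
    | mem x hx => exact Finset.subset_biUnion_of_mem (fun m => (ι (u m)).support) hx
    | zero => simp
    | add x y _ _ hx hy =>
      rw [map_add, map_add]
      exact (Finsupp.support_add).trans (Finset.union_subset hx hy)
    | smul a x _ hx =>
      rw [map_smul, map_smul]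
      exact (Finsupp.support_smul).trans hx
  let ρ : (N →₀ R) →ₗ[R] ((T : Set N) →₀ R) := Finsupp.lsubtypeDomain (T : Set N)
  let j : ((T : Set N) →₀ R) →ₗ[R] N := Finsupp.linearCombination R (fun t => (t : N))
  let u₀ : M →ₗ[R] ((T : Set N) →₀ R) := ρ ∘ₗ ι ∘ₗ u
  have hj : j ∘ₗ u₀ = u := by
    ext m
    have h1 : j (u₀ m) = Finsupp.linearCombination R id (ι (u m)) := by
      simp only [j, u₀, ρ, LinearMap.coe_comp, Function.comp_apply, Finsupp.lsubtypeDomain_apply,
        Finsupp.linearCombination_apply, id_eq]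
      exact Finsupp.sum_subtypeDomain_index (h := fun a b => b • a)
        (fun x hx => Finset.mem_coe.mpr (hT m hx))
    rw [LinearMap.comp_apply, h1]
    exact LinearMap.congr_fun hι (u m)
  have hinj : Function.Injective (u₀.lTensor p.ResidueField) := by
    have : u.lTensor p.ResidueField = j.lTensor p.ResidueField ∘ₗ u₀.lTensor p.ResidueField := by
      rw [← LinearMap.lTensor_comp, hj]
    rw [this] at h
    exact Function.Injective.of_comp h
  obtain ⟨s, hs, w₀, hw₀⟩ := exists_smul_retraction_of_free u₀ p hinj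
  exact ⟨s, hs, w₀ ∘ₗ ρ ∘ₗ ι, hw₀⟩

/-- Global version: if for every maximal ideal `κ(m) ⊗ u` is injective then `u` has a retraction. -/
theorem exists_retraction_of_forall_maximal [Module.Finite R M] [Module.Projective R N]
    (u : M →ₗ[R] N)
    (h : ∀ (m : Ideal R) [m.IsMaximal], Function.Injective (u.lTensor m.ResidueField)) :
    ∃ w : N →ₗ[R] M, w ∘ₗ u = LinearMap.id := by
  let I : Ideal R :=
    { carrier := {a | ∃ w : N →ₗ[R] M, w ∘ₗ u = a • LinearMap.id}
      add_mem' := by
        rintro a b ⟨w₁, h₁⟩ ⟨w₂, h₂⟩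
        exact ⟨w₁ + w₂, by rw [LinearMap.add_comp, h₁, h₂, add_smul]⟩
      zero_mem' := ⟨0, by rw [LinearMap.zero_comp, zero_smul]⟩
      smul_mem' := by
        rintro c a ⟨w, hw⟩
        exact ⟨c • w, by rw [LinearMap.smul_comp, hw, smul_smul]; rfl⟩ }
  have hI : I = ⊤ := by
    by_contra hne
    obtain ⟨m, hm, hIm⟩ := Ideal.exists_le_maximal I hne
    obtain ⟨s, hs, w, hw⟩ := exists_smul_retraction u m (h m)
    exact hs (hIm ⟨w, hw⟩)
  have h1 : (1 : R) ∈ I := hI ▸ Submodule.mem_top
  obtain ⟨w, hw⟩ := h1
  exact ⟨w, by rw [hw, one_smul]⟩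

end


-- (merged back by helper3: content added in commit 806dba87, which had overwritten the above)
section PowSplitSection


open Function

noncomputable section

variable {B : Type*} [CommRing B] (b : B) {C F Ω : Type*} [AddCommGroup C] [Module B C]
  [AddCommGroup F] [Module B F] [AddCommGroup Ω] [Module B Ω]
  (d : C →ₗ[B] F) (π : F →ₗ[B] Ω)

/-- `d` has a left inverse up to a power of `b`. -/
def PowSplit : Prop := ∃ (n : ℕ) (ψ : F →ₗ[B] C), ψ ∘ₗ d = b ^ n • LinearMap.id

variable {b d π}

theorem ker_killed (h : PowSplit b d) : ∃ n : ℕ, ∀ x ∈ LinearMap.ker d, b ^ n • x = 0 := by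
  obtain ⟨n, ψ, hψ⟩ := h
  refine ⟨n, fun x hx => ?_⟩
  have h1 : ψ (d x) = b ^ n • x := congrFun (congrArg DFunLike.coe hψ) x
  rw [← h1, LinearMap.mem_ker.1 hx, map_zero]

theorem projective_localized (hex : Exact d π) (hπ : Surjective π) [Module.Projective B F]
    (h : PowSplit b d) :
    Module.Projective (Localization.Away b) (LocalizedModule.Away b Ω) := by
  obtain ⟨n, ψ, hψ⟩ := h
  have hψ' : ∀ c, ψ (d c) = b ^ n • c := fun c => congrFun (congrArg DFunLike.coe hψ) c
  let e : F →ₗ[B] F := b ^ n • LinearMap.id - d ∘ₗ ψ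
  have he_apply : ∀ x, e x = b ^ n • x - d (ψ x) := fun x => rfl
  have he : LinearMap.ker π ≤ LinearMap.ker e := by
    intro x hx
    obtain ⟨c, rfl⟩ := (hex x).1 hx
    rw [LinearMap.mem_ker, he_apply, hψ', map_smul, sub_self]
  let eq := LinearMap.quotKerEquivOfSurjective π hπ
  let ebar : Ω →ₗ[B] F := (LinearMap.ker π).liftQ e he ∘ₗ eq.symm.toLinearMap
  have hebar : ∀ x, ebar (π x) = e x := by
    intro x
    change (LinearMap.ker π).liftQ e he (eq.symm (π x)) = e x
    have : eq.symm (π x) = Submodule.Quotient.mk x := by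
      rw [LinearEquiv.symm_apply_eq]; rfl
    rw [this, Submodule.liftQ_apply]
  have hπd : ∀ c, π (d c) = 0 := fun c => (hex (d c)).2 ⟨c, rfl⟩
  have hcomp : ∀ ω, π (ebar ω) = b ^ n • ω := by
    intro ω
    obtain ⟨x, rfl⟩ := hπ ω
    rw [hebar, he_apply, map_sub, hπd, sub_zero, map_smul]
  let S := Submonoid.powers b
  let u : Localization.Away b := IsLocalization.Away.invSelf b
  have hu : u * algebraMap B (Localization.Away b) b = 1 := by
    rw [mul_comm]
    exact IsLocalization.Away.mul_invSelf b
  let i : LocalizedModule S Ω →ₗ[Localization S] LocalizedModule S F :=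
    u ^ n • LocalizedModule.map S ebar
  let s : LocalizedModule S F →ₗ[Localization S] LocalizedModule S Ω := LocalizedModule.map S π
  refine Module.Projective.of_split i s ?_
  refine LinearMap.ext fun x => ?_
  induction x using LocalizedModule.induction_on with
  | h m t =>
    change s (u ^ n • LocalizedModule.map S ebar (LocalizedModule.mk m t)) = LocalizedModule.mk m t
    rw [map_smul, LocalizedModule.map_mk]
    change u ^ n • LocalizedModule.map S π (LocalizedModule.mk (ebar m) t) = _
    rw [LocalizedModule.map_mk, hcomp, ← LocalizedModule.smul'_mk, ← algebraMap_smul (Localization.Away b) (b ^ n),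
      smul_smul, map_pow, ← mul_pow, hu, one_pow, one_smul]

end


end PowSplitSection

end Groth.Agent.Helper2.SplitLoc
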