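import Mathlib
import Groth.Agent.Helper2.SplitLoc

namespace Groth.Agent.Helper2.FieldFiber
open TensorProduct Groth.Agent.Helper2.SplitLoc Groth.Agent.Helper2.SmoothTower

section
variable {R : Type*} [CommRing R] (q : Ideal R) [q.IsPrime]
variable (K : Type*) [Field K] [Algebra R K]

/-- The canonical map `κ(q) → K` for a field `K` over `R` with `ker (R → K) = q`. -/
noncomputable def residueFieldHom (hK : RingHom.ker (algebraMap R K) = q) :
    q.ResidueField →+* K :=
  Ideal.ResidueField.lift q (algebraMap R K) hK.ge (by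
    intro x hx
    change IsUnit (algebraMap R K x)
    rw [isUnit_iff_ne_zero, ne_eq, ← RingHom.mem_ker, hK]
    exact hx)

theorem residueFieldHom_comp (hK : RingHom.ker (algebraMap R K) = q) :
    (residueFieldHom q K hK).comp (algebraMap R q.ResidueField) = algebraMap R K := by
  ext r
  simp [residueFieldHom]

variable {q K}
variable {M N : Type*} [AddCommGroup M] [Module R M] [AddCommGroup N] [Module R N]

theorem lTensor_residueField_injective_of_field (hK : RingHom.ker (algebraMap R K) = q)
    (u : M →ₗ[R] N) (h : Function.Injective (u.lTensor K)) :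
    Function.Injective (u.lTensor q.ResidueField) := by
  letI : Algebra q.ResidueField K := (residueFieldHom q K hK).toAlgebra
  haveI : IsScalarTower R q.ResidueField K :=
    .of_algebraMap_eq' (residueFieldHom_comp q K hK).symm
  rw [← lTensor_baseChange_injective_iff (S := q.ResidueField)] at h
  exact (Module.FaithfullyFlat.lTensor_injective_iff_injective q.ResidueField K
    (u.baseChange q.ResidueField)).mp h

/-- KEY lemma with an arbitrary field `K` with `ker (R → K) = q`. -/
theorem exists_smul_retraction_of_field [Module.Finite R M] [Module.Projective R N]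
    (hK : RingHom.ker (algebraMap R K) = q) (u : M →ₗ[R] N)
    (h : Function.Injective (u.lTensor K)) :
    ∃ s ∉ q, ∃ w : N →ₗ[R] M, w ∘ₗ u = s • LinearMap.id :=
  exists_smul_retraction u q (lTensor_residueField_injective_of_field hK u h)

/-- If the `1 ⊗ x i` span `K ⊗ M`, then the `x i` generate `M` locally at `q`. -/
theorem exists_smul_mem_span_of_span_tmul [Module.Finite R M]
    (hK : RingHom.ker (algebraMap R K) = q) {ι : Type*} (x : ι → M)
    (hx : Submodule.span K (Set.range fun i => (1 : K) ⊗ₜ[R] x i) = ⊤) (m : M) :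
    ∃ r ∉ q, r • m ∈ Submodule.span R (Set.range x) := by
  letI : Algebra q.ResidueField K := (residueFieldHom q K hK).toAlgebra
  haveI : IsScalarTower R q.ResidueField K :=
    .of_algebraMap_eq' (residueFieldHom_comp q K hK).symm
  set N := Submodule.span R (Set.range x) with hN
  have h1 : Subsingleton (K ⊗[R] (M ⧸ N)) := by
    have hker : LinearMap.ker (N.mkQ.baseChange K) = ⊤ := by
      rw [eq_top_iff, ← hx, Submodule.span_le]
      rintro _ ⟨i, rfl⟩
      simp only [SetLike.mem_coe, LinearMap.mem_ker, LinearMap.baseChange_tmul,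
        Submodule.mkQ_apply]
      rw [(Submodule.Quotient.mk_eq_zero N).mpr (Submodule.subset_span ⟨i, rfl⟩), tmul_zero]
    have hsurj : Function.Surjective (N.mkQ.baseChange K) :=
      LinearMap.lTensor_surjective K N.mkQ_surjective
    refine ⟨fun a b => ?_⟩
    obtain ⟨a, rfl⟩ := hsurj a
    obtain ⟨b, rfl⟩ := hsurj b
    have ha : a ∈ LinearMap.ker (N.mkQ.baseChange K) := hker ▸ Submodule.mem_top
    have hb : b ∈ LinearMap.ker (N.mkQ.baseChange K) := hker ▸ Submodule.mem_top
    rw [LinearMap.mem_ker.mp ha, LinearMap.mem_ker.mp hb]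
  have h2 : Subsingleton (K ⊗[q.ResidueField] (q.ResidueField ⊗[R] (M ⧸ N))) :=
    (AlgebraTensorModule.cancelBaseChange R q.ResidueField K K (M ⧸ N)).toEquiv.subsingleton
  have h3 : Subsingleton (q.ResidueField ⊗[R] (M ⧸ N)) :=
    Module.FaithfullyFlat.lTensor_reflects_triviality q.ResidueField K _
  have h4 : (⟨q, inferInstance⟩ : PrimeSpectrum R) ∉ Module.support R (M ⧸ N) := by
    rw [Module.mem_support_iff_nontrivial_residueField_tensorProduct]
    exact not_nontrivial _
  obtain ⟨r, hr, hr0⟩ := Module.notMem_support_iff'.mp h4 (N.mkQ m)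
  refine ⟨r, hr, ?_⟩
  rw [← map_smul, Submodule.mkQ_apply, Submodule.Quotient.mk_eq_zero] at hr0
  exact hr0

/-- Converse: local generation gives spanning of the fibre. -/
theorem span_tmul_eq_top_of_exists_smul_mem_span
    (hK : RingHom.ker (algebraMap R K) = q) {ι : Type*} (x : ι → M)
    (hx : ∀ m : M, ∃ r ∉ q, r • m ∈ Submodule.span R (Set.range x)) :
    Submodule.span K (Set.range fun i => (1 : K) ⊗ₜ[R] x i) = ⊤ := by
  set T := Submodule.span K (Set.range fun i => (1 : K) ⊗ₜ[R] x i) with hT
  have hspan : ∀ n ∈ Submodule.span R (Set.range x), (1 : K) ⊗ₜ[R] n ∈ T := by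
    intro n hn
    induction hn using Submodule.span_induction with
    | mem y hy =>
      obtain ⟨i, rfl⟩ := hy
      exact Submodule.subset_span ⟨i, rfl⟩
    | zero => rw [tmul_zero]; exact T.zero_mem
    | add a b _ _ ha hb => rw [tmul_add]; exact T.add_mem ha hb
    | smul a b _ hb =>
      have : (1 : K) ⊗ₜ[R] (a • b) = (algebraMap R K a) • ((1 : K) ⊗ₜ[R] b) := by
        rw [tmul_smul, algebraMap_smul]
      rw [this]
      exact T.smul_mem _ hb
  have h1 : ∀ m : M, (1 : K) ⊗ₜ[R] m ∈ T := by
    intro m
    obtain ⟨r, hr, hrm⟩ := hx m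
    have h2 := hspan _ hrm
    have hne : algebraMap R K r ≠ 0 := by
      rw [ne_eq, ← RingHom.mem_ker, hK]
      exact hr
    have : (1 : K) ⊗ₜ[R] (r • m) = (algebraMap R K r) • ((1 : K) ⊗ₜ[R] m) := by
      rw [tmul_smul, algebraMap_smul]
    rw [this] at h2
    have h3 := T.smul_mem (algebraMap R K r)⁻¹ h2
    rwa [smul_smul, inv_mul_cancel₀ hne, one_smul] at h3
  rw [eq_top_iff]
  intro y _
  induction y using TensorProduct.induction_on with
  | zero => exact T.zero_mem
  | add a b ha hb => exact T.add_mem (ha Submodule.mem_top) (hb Submodule.mem_top)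
  | tmul k m =>
    have : k ⊗ₜ[R] m = k • ((1 : K) ⊗ₜ[R] m) := by
      rw [smul_tmul', smul_eq_mul, mul_one]
    rw [this]
    exact T.smul_mem _ (h1 m)

end

end Groth.Agent.Helper2.FieldFiber
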