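import Mathlib

namespace Groth.Agent.Helper2.SmoothLocLink
open TensorProduct KaehlerDifferential Algebra

universe u

/-- LINK: for a localization `C'` of `C = P.Ring/ker`, `C'` is formally smooth over `A` iff the
base change of the cotangent complex of `P` to `C'` is a split injection. -/
theorem formallySmooth_localization_iff {A C : Type u} [CommRing A] [CommRing C] [Algebra A C]
    (P : Algebra.Extension.{u} A C) [Algebra.FormallySmooth A P.Ring]
    (C' : Type u) [CommRing C'] [Algebra C C'] [Algebra A C'] [IsScalarTower A C C']
    (M : Submonoid C) [IsLocalization M C'] :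
    Algebra.FormallySmooth A C' ↔
      ∃ l : C' ⊗[C] P.CotangentSpace →ₗ[C'] C' ⊗[C] P.Cotangent,
        l ∘ₗ P.cotangentComplex.baseChange C' = LinearMap.id := by
  have hflat : Module.Flat C C' := IsLocalization.flat C' M
  have het : Algebra.FormallyEtale C C' := Algebra.FormallyEtale.of_isLocalization M
  let e := KaehlerDifferential.tensorKaehlerEquivOfFormallyEtale A C C'
  let g : C' ⊗[C] P.CotangentSpace →ₗ[C'] Ω[C'⁄A] := e.toLinearMap ∘ₗ P.toKaehler.baseChange C'
  have hg : Function.Surjective g :=
    e.surjective.comp (LinearMap.lTensor_surjective C' P.toKaehler_surjective)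
  have hex0 : Function.Exact (P.cotangentComplex.baseChange C') (P.toKaehler.baseChange C') :=
    lTensor_exact C' P.exact_cotangentComplex_toKaehler P.toKaehler_surjective
  have hex : Function.Exact (P.cotangentComplex.baseChange C') g := by
    intro x
    rw [← hex0 x]
    simp only [g, LinearMap.coe_comp, LinearEquiv.coe_coe, Function.comp_apply,
      EmbeddingLike.map_eq_zero_iff]
  have hproj : Module.Projective C' (C' ⊗[C] P.CotangentSpace) := inferInstance
  have hH1 : Subsingleton (Algebra.H1Cotangent A C') ↔
      Function.Injective (P.cotangentComplex.baseChange C') := by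
    rw [← (Algebra.tensorH1CotangentOfIsLocalization A C' M).subsingleton_congr,
      ← (P.equivH1CotangentOfFormallySmooth.baseChange C C' _ _).subsingleton_congr]
    have hexk : Function.Exact (P.h1Cotangentι.baseChange C') (P.cotangentComplex.baseChange C') :=
      Module.Flat.lTensor_exact C' (LinearMap.exact_subtype_ker_map _)
    have hinjk : Function.Injective (P.h1Cotangentι.baseChange C') :=
      Module.Flat.lTensor_preserves_injective_linearMap _ Algebra.Extension.h1Cotangentι_injective
    constructor
    · intro hs
      rw [injective_iff_map_eq_zero]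
      intro x hx
      obtain ⟨y, rfl⟩ := (hexk x).mp hx
      rw [Subsingleton.elim y 0, map_zero]
    · intro hinj
      refine ⟨fun x y => hinjk (hinj ?_)⟩
      rw [(hexk _).mpr ⟨x, rfl⟩, (hexk _).mpr ⟨y, rfl⟩]
  rw [Algebra.formallySmooth_iff, Module.Projective.iff_split_of_projective g hg, hH1, and_comm]
  have := (hex.split_tfae').out 0 1
  rw [this]
  exact and_iff_right hg

end Groth.Agent.Helper2.SmoothLocLink
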