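import Mathlib
import Groth.Agent.Helper2.SplitLoc
import Groth.Agent.Helper2.SmoothLocLink

namespace Groth.Agent.Helper2.SmoothQuotLoc
open TensorProduct KaehlerDifferential Algebra Groth.Agent.Helper2.SplitLoc
  Groth.Agent.Helper2.SmoothLocLink

universe u
variable {A B C : Type u} [CommRing A] [CommRing B] [CommRing C] [Algebra A B] [Algebra B C]
  [Algebra A C] [IsScalarTower A B C]

/-- The extension `B → C` of `A`-algebras given by a surjection. -/
noncomputable def ext (A : Type u) [CommRing A] [Algebra A B] [Algebra A C] [IsScalarTower A B C]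
    (hsurj : Function.Surjective (algebraMap B C)) : Algebra.Extension.{u} A C :=
  { Ring := B, σ := Function.surjInv hsurj, algebraMap_σ := Function.surjInv_eq hsurj }

theorem lTensor_injective_iff (hsurj : Function.Surjective (algebraMap B C)) (κ : Type*)
    [CommRing κ] [Algebra C κ] [Algebra B κ] [IsScalarTower B C κ] :
    Function.Injective ((kerCotangentToTensor A B C).lTensor κ) ↔
      Function.Injective ((ext A hsurj).cotangentComplex.lTensor κ) := by
  let P := ext A hsurj
  haveI h1 : CompatibleSMul B C κ P.Cotangent := CompatibleSMul.of_algebraMap_surjective _ _ hsurj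
  haveI h2 : CompatibleSMul B C κ P.CotangentSpace := CompatibleSMul.of_algebraMap_surjective _ _ hsurj
  let e1 : κ ⊗[C] P.Cotangent ≃ₗ[κ] κ ⊗[B] P.Cotangent :=
    TensorProduct.equivOfCompatibleSMul B C κ κ P.Cotangent
  let e1' : κ ⊗[B] P.Cotangent ≃ₗ[B] κ ⊗[B] (RingHom.ker (algebraMap B C)).Cotangent :=
    LinearEquiv.lTensor κ P.cotangentEquivCotangentKer
  let e2 : κ ⊗[C] P.CotangentSpace ≃ₗ[κ] κ ⊗[B] (C ⊗[B] Ω[B⁄A]) :=
    TensorProduct.equivOfCompatibleSMul B C κ κ P.CotangentSpace
  have sq : ∀ x, (kerCotangentToTensor A B C).lTensor κ (e1' (e1 x)) =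
      e2 (P.cotangentComplex.lTensor κ x) := by
    intro x
    induction x using TensorProduct.induction_on with
    | zero => simp
    | add x y hx hy => simp only [map_add, hx, hy]
    | tmul k y =>
      obtain ⟨y, rfl⟩ := Algebra.Extension.Cotangent.mk_surjective y
      rfl
  constructor
  · intro h x y hxy
    apply e1.injective
    apply e1'.injective
    apply h
    rw [sq, sq, hxy]
  · intro h x y hxy
    obtain ⟨x, rfl⟩ := e1'.surjective x
    obtain ⟨y, rfl⟩ := e1'.surjective y
    obtain ⟨x, rfl⟩ := e1.surjective x
    obtain ⟨y, rfl⟩ := e1.surjective y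
    rw [sq, sq] at hxy
    rw [h (e2.injective hxy)]

instance (hsurj : Function.Surjective (algebraMap B C)) [Algebra.FormallySmooth A B] :
    Algebra.FormallySmooth A (ext A hsurj).Ring := ‹Algebra.FormallySmooth A B›

theorem finite_cotangent (hsurj : Function.Surjective (algebraMap B C))
    [Module.Finite B (RingHom.ker (algebraMap B C)).Cotangent] :
    Module.Finite C (ext A hsurj).Cotangent := by
  have h0 : Module.Finite (ext A hsurj).Ring (ext A hsurj).ker.Cotangent :=
    ‹Module.Finite B (RingHom.ker (algebraMap B C)).Cotangent›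
  have : Module.Finite (ext A hsurj).Ring (ext A hsurj).Cotangent :=
    Module.Finite.equiv (ext A hsurj).cotangentEquivCotangentKer.symm
  exact Module.Finite.of_restrictScalars_finite (ext A hsurj).Ring _ _

theorem tfae [Algebra.FormallySmooth A B] (hsurj : Function.Surjective (algebraMap B C))
    [Module.Finite B (RingHom.ker (algebraMap B C)).Cotangent] (p : Ideal C) [p.IsPrime] :
    [Algebra.FormallySmooth A (Localization.AtPrime p),
     Function.Injective ((kerCotangentToTensor A B C).lTensor p.ResidueField),
     ∃ f : C, f ∉ p ∧ Algebra.FormallySmooth A (Localization.Away f)].TFAE := by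
  haveI hfin : Module.Finite C (ext A hsurj).Cotangent := finite_cotangent hsurj
  tfae_have 1 → 2 := by
    intro h
    rw [lTensor_injective_iff hsurj]
    obtain ⟨l, hl⟩ := (formallySmooth_localization_iff (ext A hsurj) (Localization.AtPrime p)
      p.primeCompl).mp h
    exact lTensor_injective_of_baseChange_leftInverse _ (Localization.AtPrime p) p.ResidueField l hl
  tfae_have 2 → 3 := by
    intro h
    rw [lTensor_injective_iff hsurj] at h
    obtain ⟨s, hs, w, hw⟩ := exists_smul_retraction (ext A hsurj).cotangentComplex p h
    refine ⟨s, hs, ?_⟩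
    rw [formallySmooth_localization_iff (ext A hsurj) (Localization.Away s) (Submonoid.powers s)]
    exact baseChange_leftInverse_of_smul _ s w hw _ (IsLocalization.Away.algebraMap_isUnit s)
  tfae_have 3 → 2 := by
    rintro ⟨f, hf, h⟩
    rw [lTensor_injective_iff hsurj]
    obtain ⟨l, hl⟩ := (formallySmooth_localization_iff (ext A hsurj) (Localization.Away f)
      (Submonoid.powers f)).mp h
    have hu : IsUnit (algebraMap C p.ResidueField f) := by
      rw [isUnit_iff_ne_zero, ne_eq, Ideal.algebraMap_residueField_eq_zero]
      exact hf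
    letI : Algebra (Localization.Away f) p.ResidueField :=
      (IsLocalization.Away.lift f hu).toAlgebra
    haveI : IsScalarTower C (Localization.Away f) p.ResidueField :=
      .of_algebraMap_eq' (IsLocalization.Away.lift_comp f hu).symm
    exact lTensor_injective_of_baseChange_leftInverse _ (Localization.Away f) p.ResidueField l hl
  tfae_have 2 → 1 := by
    intro h
    rw [lTensor_injective_iff hsurj] at h
    obtain ⟨s, hs, w, hw⟩ := exists_smul_retraction (ext A hsurj).cotangentComplex p h
    rw [formallySmooth_localization_iff (ext A hsurj) (Localization.AtPrime p) p.primeCompl]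
    exact baseChange_leftInverse_of_smul _ s w hw _
      (IsLocalization.map_units (M := p.primeCompl) _ ⟨s, hs⟩)
  tfae_finish

theorem isOpen_locus [Algebra.FormallySmooth A B] (hsurj : Function.Surjective (algebraMap B C))
    [Module.Finite B (RingHom.ker (algebraMap B C)).Cotangent] :
    IsOpen {p : PrimeSpectrum C | Algebra.FormallySmooth A (Localization.AtPrime p.asIdeal)} := by
  haveI hfin : Module.Finite C (ext A hsurj).Cotangent := finite_cotangent hsurj
  rw [isOpen_iff_forall_mem_open]
  intro p hp
  have h2 : Function.Injective ((ext A hsurj).cotangentComplex.lTensor p.asIdeal.ResidueField) := by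
    rw [← lTensor_injective_iff hsurj]
    exact ((tfae hsurj p.asIdeal).out 0 1).mp hp
  obtain ⟨s, hs, w, hw⟩ := exists_smul_retraction (ext A hsurj).cotangentComplex p.asIdeal h2
  refine ⟨PrimeSpectrum.basicOpen s, ?_, (PrimeSpectrum.basicOpen s).isOpen, hs⟩
  intro q hq
  change Algebra.FormallySmooth A (Localization.AtPrime q.asIdeal)
  rw [formallySmooth_localization_iff (ext A hsurj) (Localization.AtPrime q.asIdeal)
    q.asIdeal.primeCompl]
  exact baseChange_leftInverse_of_smul _ s w hw _
    (IsLocalization.map_units (M := q.asIdeal.primeCompl) _ ⟨s, hq⟩)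

theorem iff_forall_maximal [Algebra.FormallySmooth A B]
    (hsurj : Function.Surjective (algebraMap B C))
    [Module.Finite B (RingHom.ker (algebraMap B C)).Cotangent] :
    Algebra.FormallySmooth A C ↔
      ∀ (m : Ideal C) [m.IsMaximal], Algebra.FormallySmooth A (Localization.AtPrime m) := by
  haveI hfin : Module.Finite C (ext A hsurj).Cotangent := finite_cotangent hsurj
  constructor
  · intro h m _
    haveI : Algebra.FormallySmooth C (Localization.AtPrime m) :=
      Algebra.FormallySmooth.of_isLocalization m.primeCompl
    exact Algebra.FormallySmooth.comp A C (Localization.AtPrime m)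
  · intro h
    rw [(ext A hsurj).formallySmooth_iff_split_injection]
    apply exists_retraction_of_forall_maximal
    intro m _
    rw [← lTensor_injective_iff hsurj]
    exact ((tfae hsurj m).out 0 1).mp (h m)

end Groth.Agent.Helper2.SmoothQuotLoc
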