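import Mathlib
import Groth.Agent.Helper2.SmoothQuotLoc
import Groth.Agent.Helper2.FieldFiber
import Groth.Agent.Helper2.CotGen

namespace Groth.Agent.Helper2.JacobianDer
open TensorProduct KaehlerDifferential Algebra Groth.Agent.Helper2.SmoothQuotLoc
  Groth.Agent.Helper2.FieldFiber Groth.Agent.Helper2.CotGen

universe u
variable {A B C : Type u} [CommRing A] [CommRing B] [CommRing C] [Algebra A B] [Algebra B C]
  [Algebra A C] [IsScalarTower A B C]

/-- the functional on `K ⊗[B] (C ⊗[B] Ω[B⁄A])` induced by a derivation `D`. -/
noncomputable def derFunctional (K : Type*) [Field K] [Algebra B K] [Algebra C K]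
    [IsScalarTower B C K] (D : Derivation A B B) : K ⊗[B] (C ⊗[B] Ω[B⁄A]) →ₗ[K] K :=
  ((((Algebra.linearMap B K) ∘ₗ D.liftKaehlerDifferential).liftBaseChange C).restrictScalars
    B).liftBaseChange K

theorem derFunctional_tmul (K : Type*) [Field K] [Algebra B K] [Algebra C K]
    [IsScalarTower B C K] (D : Derivation A B B) (b : B) :
    derFunctional (C := C) K D (1 ⊗ₜ (1 ⊗ₜ KaehlerDifferential.D A B b)) =
      algebraMap B K (D b) := by
  simp [derFunctional]

theorem formallySmooth_iff_exists_derivations [Algebra.FormallySmooth A B] [IsNoetherianRing B]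
    (hsurj : Function.Surjective (algebraMap B C)) (q : Ideal B) [q.IsPrime] (p : Ideal C)
    [p.IsPrime] (hpq : p.comap (algebraMap B C) = q) :
    Algebra.FormallySmooth A (Localization.AtPrime p) ↔
      ∃ (m : ℕ) (f : Fin m → B) (D : Fin m → Derivation A B B),
        (∀ i, f i ∈ RingHom.ker (algebraMap B C)) ∧
        (RingHom.ker (algebraMap B C)).map (algebraMap B (Localization.AtPrime q)) =
          Ideal.span (Set.range fun i => algebraMap B (Localization.AtPrime q) (f i)) ∧
        Matrix.det (Matrix.of fun i j => D j (f i)) ∉ q := by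
  set J := RingHom.ker (algebraMap B C) with hJ
  haveI hfinJ0 : Module.Finite B J := Module.Finite.of_fg (IsNoetherian.noetherian J)
  haveI hfinJ : Module.Finite B J.Cotangent :=
    Module.Finite.of_surjective J.toCotangent J.toCotangent_surjective
  have hJq : J ≤ q := by
    rw [← hpq]
    intro x hx
    rw [Ideal.mem_comap, RingHom.mem_ker.mp hx]
    exact p.zero_mem
  have hK : RingHom.ker (algebraMap B p.ResidueField) = q := by
    rw [IsScalarTower.algebraMap_eq B C p.ResidueField, ← RingHom.comap_ker,
      Ideal.ker_algebraMap_residueField, hpq]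
  have h01 := (tfae (A := A) hsurj p).out 0 1
  rw [h01]
  set δ := (kerCotangentToTensor A B C).baseChange p.ResidueField with hδ
  have hδinj : Function.Injective ((kerCotangentToTensor A B C).lTensor p.ResidueField) ↔
      Function.Injective δ := Iff.rfl
  rw [hδinj]
  have hδf : ∀ g : J, δ ((1 : p.ResidueField) ⊗ₜ[B] J.toCotangent g) =
      1 ⊗ₜ (1 ⊗ₜ KaehlerDifferential.D A B (g : B)) := fun g => by
    rw [hδ, LinearMap.baseChange_tmul]
    rfl
  constructor
  · intro hinj
    classical
    -- (a) extract a basis of the fibre of the conormal module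
    let S : Set (p.ResidueField ⊗[B] J.Cotangent) :=
      Set.range fun g : J => (1 : p.ResidueField) ⊗ₜ[B] J.toCotangent g
    have hS : Submodule.span p.ResidueField S = ⊤ := by
      apply span_tmul_eq_top_of_exists_smul_mem_span hK (fun g : J => J.toCotangent g)
      intro x
      obtain ⟨g, rfl⟩ := J.toCotangent_surjective x
      refine ⟨1, fun h => ?_, by rw [one_smul]; exact Submodule.subset_span ⟨g, rfl⟩⟩
      exact (inferInstance : q.IsPrime).ne_top ((Ideal.eq_top_iff_one q).mpr h)
    obtain ⟨m, f', hf'S, hf'span, hf'li⟩ : ∃ (m : ℕ) (f' : Fin m → p.ResidueField ⊗[B] J.Cotangent),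
        (∀ i, f' i ∈ S) ∧ Submodule.span p.ResidueField (Set.range f') =
          Submodule.span p.ResidueField S ∧ LinearIndependent p.ResidueField f' :=
      ⟨_, Submodule.exists_fun_fin_finrank_span_eq p.ResidueField S⟩
    choose g hg using hf'S
    let f : Fin m → B := fun i => (g i : B)
    have hf : ∀ i, f i ∈ J := fun i => (g i).2
    have hfg : ∀ i, (⟨f i, hf i⟩ : J) = g i := fun i => rfl
    have hfun : (fun i => (1 : p.ResidueField) ⊗ₜ[B] J.toCotangent ⟨f i, hf i⟩) = f' := by
      funext i
      rw [hfg]
      exact hg i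
    have hspan : Submodule.span p.ResidueField
        (Set.range fun i => (1 : p.ResidueField) ⊗ₜ[B] J.toCotangent ⟨f i, hf i⟩) = ⊤ := by
      rw [hfun, hf'span, hS]
    have hli : LinearIndependent p.ResidueField
        (fun i => (1 : p.ResidueField) ⊗ₜ[B] J.toCotangent ⟨f i, hf i⟩) := by
      rw [hfun]; exact hf'li
    -- (b) generation
    have hgen : ∀ g : J, ∃ r ∉ q, r • J.toCotangent g ∈
        Submodule.span B (Set.range fun i => J.toCotangent ⟨f i, hf i⟩) :=
      fun g => exists_smul_mem_span_of_span_tmul hK (fun i => J.toCotangent ⟨f i, hf i⟩) hspan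
        (J.toCotangent g)
    have hmap := map_eq_span_of_forall_exists_smul J q f hf (IsNoetherian.noetherian J) hJq hgen
    -- (c), (d)
    let ν : (Fin m → B) →ₗ[B] Ω[B⁄A] :=
      Fintype.linearCombination B (fun i => KaehlerDifferential.D A B (f i))
    have hνs : ∀ i, ν (Pi.single i 1) = KaehlerDifferential.D A B (f i) := fun i => by
      simp [ν, Fintype.linearCombination_apply_single]
    have hν : Function.Injective (ν.lTensor p.ResidueField) := by
      rw [injective_iff_map_eq_zero]
      intro y hy
      obtain ⟨c, rfl⟩ := (TensorProduct.piScalarRight B p.ResidueField p.ResidueField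
        (Fin m)).symm.surjective y
      have hc : (TensorProduct.piScalarRight B p.ResidueField p.ResidueField (Fin m)).symm c =
          ∑ i, (c i) ⊗ₜ[B] (Pi.single i (1 : B)) := by
        conv_lhs => rw [← Finset.univ_sum_single c]
        rw [map_sum]
        simp
      rw [hc, map_sum] at hy
      simp only [LinearMap.lTensor_tmul, hνs] at hy
      let θ : p.ResidueField ⊗[B] Ω[B⁄A] →ₗ[p.ResidueField] p.ResidueField ⊗[B] (C ⊗[B] Ω[B⁄A]) :=
        (TensorProduct.mk B C Ω[B⁄A] 1).baseChange p.ResidueField
      have h3 := congrArg θ hy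
      rw [map_sum, map_zero] at h3
      have h4 : ∀ i, θ (c i ⊗ₜ KaehlerDifferential.D A B (f i)) =
          c i • δ ((1 : p.ResidueField) ⊗ₜ J.toCotangent ⟨f i, hf i⟩) := fun i => by
        rw [hδf]
        simp [θ, smul_tmul']
      simp only [h4, ← map_smul, ← map_sum] at h3
      have h5 := hinj (h3.trans (map_zero δ).symm)
      have h6 := Fintype.linearIndependent_iff.mp hli c h5
      have : c = 0 := funext h6
      rw [this, map_zero]
    obtain ⟨s, hs, w, hw⟩ := exists_smul_retraction_of_field hK ν hν
    refine ⟨m, f, fun j => ((LinearMap.proj j) ∘ₗ w).compDer (KaehlerDifferential.D A B), hf,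
      hmap, ?_⟩
    have hmat : (Matrix.of fun i j => (((LinearMap.proj j) ∘ₗ w).compDer
        (KaehlerDifferential.D A B)) (f i)) = s • (1 : Matrix (Fin m) (Fin m) B) := by
      ext i j
      have h1 := LinearMap.congr_fun hw (Pi.single i 1)
      rw [LinearMap.comp_apply, hνs] at h1
      have h2 : (((LinearMap.proj j) ∘ₗ w).compDer (KaehlerDifferential.D A B)) (f i) =
          (w (KaehlerDifferential.D A B (f i))) j := rfl
      rw [Matrix.of_apply, h2, h1]
      simp only [LinearMap.smul_apply, LinearMap.id_coe, id_eq, Pi.smul_apply,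
        Matrix.smul_apply, Matrix.one_apply, Pi.single_apply, smul_eq_mul]
      congr 1
      by_cases hij : i = j
      · simp [hij]
      · simp [hij, Ne.symm hij]
    rw [hmat, Matrix.det_smul, Matrix.det_one, mul_one, Fintype.card_fin]
    exact fun h => hs (Ideal.IsPrime.mem_of_pow_mem inferInstance _ h)
  · rintro ⟨m, f, D, hf, hgen, hdet⟩
    have hgen' := fun g => exists_smul_toCotangent_mem_span_of_map_eq J q f hf hgen g
    have hspan : Submodule.span p.ResidueField
        (Set.range fun i => (1 : p.ResidueField) ⊗ₜ[B] J.toCotangent ⟨f i, hf i⟩) = ⊤ := by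
      apply span_tmul_eq_top_of_exists_smul_mem_span hK
      intro x
      obtain ⟨g, rfl⟩ := J.toCotangent_surjective x
      exact hgen' g
    rw [injective_iff_map_eq_zero]
    intro x hx
    have hxT : x ∈ Submodule.span p.ResidueField
        (Set.range fun i => (1 : p.ResidueField) ⊗ₜ[B] J.toCotangent ⟨f i, hf i⟩) :=
      hspan ▸ Submodule.mem_top
    obtain ⟨c, rfl⟩ := (Submodule.mem_span_range_iff_exists_fun p.ResidueField).mp hxT
    rw [map_sum] at hx
    simp only [map_smul, hδf] at hx
    have hc : Matrix.vecMul c (Matrix.of fun i j => algebraMap B p.ResidueField (D j (f i))) = 0 := by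
      ext j
      have := congrArg (derFunctional (C := C) p.ResidueField (D j)) hx
      simp only [map_sum, map_smul, derFunctional_tmul, map_zero, smul_eq_mul] at this
      simpa [Matrix.vecMul, dotProduct] using this
    have hdet' : (Matrix.of fun i j => algebraMap B p.ResidueField (D j (f i))).det ≠ 0 := by
      have : (Matrix.of fun i j => algebraMap B p.ResidueField (D j (f i))) =
          (algebraMap B p.ResidueField).mapMatrix (Matrix.of fun i j => D j (f i)) := by
        ext; simp
      rw [this, ← RingHom.map_det, ne_eq, ← RingHom.mem_ker, hK]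
      exact hdet
    have hc0 := Matrix.eq_zero_of_vecMul_eq_zero hdet' hc
    simp [hc0]

end Groth.Agent.Helper2.JacobianDer
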