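import Mathlib
import Groth.Agent.Helper2.JacobianDer

namespace Groth.Agent.Helper2.JacobianLI
open TensorProduct KaehlerDifferential Algebra Groth.Agent.Helper2.SplitLoc
  Groth.Agent.Helper2.JacobianDer

universe u

theorem exists_derivations_iff_linearIndependent {A B : Type u} [CommRing A] [CommRing B]
    [Algebra A B] [Module.Projective B Ω[B⁄A]] (q : Ideal B) [q.IsPrime] {m : ℕ} (f : Fin m → B) :
    (∃ D : Fin m → Derivation A B B, Matrix.det (Matrix.of fun i j => D j (f i)) ∉ q) ↔
      LinearIndependent q.ResidueField
        (fun i => (1 : q.ResidueField) ⊗ₜ[B] KaehlerDifferential.D A B (f i)) := by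
  classical
  constructor
  · rintro ⟨D, hdet⟩
    rw [Fintype.linearIndependent_iff]
    intro c hc
    let Λ : Fin m → (q.ResidueField ⊗[B] Ω[B⁄A] →ₗ[q.ResidueField] q.ResidueField) := fun j =>
      ((Algebra.linearMap B q.ResidueField) ∘ₗ (D j).liftKaehlerDifferential).liftBaseChange
        q.ResidueField
    have hΛ : ∀ j b, Λ j ((1 : q.ResidueField) ⊗ₜ[B] KaehlerDifferential.D A B b) =
        algebraMap B q.ResidueField (D j b) := fun j b => by simp [Λ]
    have hvm : Matrix.vecMul c
        (Matrix.of fun i j => algebraMap B q.ResidueField (D j (f i))) = 0 := by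
      ext j
      have := congrArg (Λ j) hc
      simp only [map_sum, map_smul, hΛ, map_zero, smul_eq_mul] at this
      simpa [Matrix.vecMul, dotProduct] using this
    have hdet' : (Matrix.of fun i j => algebraMap B q.ResidueField (D j (f i))).det ≠ 0 := by
      have : (Matrix.of fun i j => algebraMap B q.ResidueField (D j (f i))) =
          (algebraMap B q.ResidueField).mapMatrix (Matrix.of fun i j => D j (f i)) := by
        ext; simp
      rw [this, ← RingHom.map_det, ne_eq, Ideal.algebraMap_residueField_eq_zero]
      exact hdet
    have hc0 := Matrix.eq_zero_of_vecMul_eq_zero hdet' hvm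
    intro i
    rw [hc0]; rfl
  · intro hli
    let ν : (Fin m → B) →ₗ[B] Ω[B⁄A] :=
      Fintype.linearCombination B (fun i => KaehlerDifferential.D A B (f i))
    have hνs : ∀ i, ν (Pi.single i 1) = KaehlerDifferential.D A B (f i) := fun i => by
      simp [ν, Fintype.linearCombination_apply_single]
    have hν : Function.Injective (ν.lTensor q.ResidueField) := by
      rw [injective_iff_map_eq_zero]
      intro y hy
      obtain ⟨c, rfl⟩ := (TensorProduct.piScalarRight B q.ResidueField q.ResidueField
        (Fin m)).symm.surjective y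
      have hc : (TensorProduct.piScalarRight B q.ResidueField q.ResidueField (Fin m)).symm c =
          ∑ i, (c i) ⊗ₜ[B] (Pi.single i (1 : B)) := by
        conv_lhs => rw [← Finset.univ_sum_single c]
        rw [map_sum]
        simp
      rw [hc, map_sum] at hy
      simp only [LinearMap.lTensor_tmul, hνs] at hy
      have h4 : ∀ i, (c i) ⊗ₜ[B] KaehlerDifferential.D A B (f i) =
          c i • ((1 : q.ResidueField) ⊗ₜ[B] KaehlerDifferential.D A B (f i)) := fun i => by
        rw [smul_tmul', smul_eq_mul, mul_one]
      simp only [h4] at hy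
      have h6 := Fintype.linearIndependent_iff.mp hli c hy
      have : c = 0 := funext h6
      rw [this, map_zero]
    obtain ⟨s, hs, w, hw⟩ := exists_smul_retraction ν q hν
    refine ⟨fun j => ((LinearMap.proj j) ∘ₗ w).compDer (KaehlerDifferential.D A B), ?_⟩
    have hmat : (Matrix.of fun i j => (((LinearMap.proj j) ∘ₗ w).compDer
        (KaehlerDifferential.D A B)) (f i)) = s • (1 : Matrix (Fin m) (Fin m) B) := by
      ext i j
      have h1 := LinearMap.congr_fun hw (Pi.single i 1)
      rw [LinearMap.comp_apply, hνs] at h1
      have h2 : (((LinearMap.proj j) ∘ₗ w).compDer (KaehlerDifferential.D A B)) (f i) =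
          (w (KaehlerDifferential.D A B (f i))) j := rfl
      rw [Matrix.of_apply, h2, h1]
      simp only [LinearMap.smul_apply, LinearMap.id_coe, id_eq, Pi.smul_apply,
        Matrix.smul_apply, Matrix.one_apply, Pi.single_apply, smul_eq_mul]
      congr 1
      by_cases hij : i = j
      · simp [hij]
      · simp [hij, Ne.symm hij]
    rw [hmat, Matrix.det_smul, Matrix.det_one, mul_one, Fintype.card_fin]
    exact fun h => hs (Ideal.IsPrime.mem_of_pow_mem inferInstance _ h)

/-- Jacobian criterion in terms of linear independence of differentials. -/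
theorem formallySmooth_iff_exists_finset {A B C : Type u} [CommRing A] [CommRing B] [CommRing C]
    [Algebra A B] [Algebra B C] [Algebra A C] [IsScalarTower A B C]
    [Algebra.FormallySmooth A B] [IsNoetherianRing B]
    (hsurj : Function.Surjective (algebraMap B C)) (q : Ideal B) [q.IsPrime] (p : Ideal C)
    [p.IsPrime] (hpq : p.comap (algebraMap B C) = q) :
    Algebra.FormallySmooth A (Localization.AtPrime p) ↔
      ∃ s : Finset B, (↑s : Set B) ⊆ (RingHom.ker (algebraMap B C) : Set B) ∧
        Ideal.map (algebraMap B (Localization.AtPrime q)) (RingHom.ker (algebraMap B C)) =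
          Ideal.span ((algebraMap B (Localization.AtPrime q)) '' (↑s : Set B)) ∧
        LinearIndependent q.ResidueField
          (fun g : ↥s => (1 : q.ResidueField) ⊗ₜ[B] KaehlerDifferential.D A B (g : B)) := by
  classical
  rw [formallySmooth_iff_exists_derivations hsurj q p hpq]
  constructor
  · rintro ⟨m, f, D, hf, hgen, hdet⟩
    have hli := (exists_derivations_iff_linearIndependent (A := A) q f).mp ⟨D, hdet⟩
    have hinj : Function.Injective f := by
      intro i j hij
      exact hli.injective (by simp only [hij])
    refine ⟨Finset.univ.image f, ?_, ?_, ?_⟩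
    · intro x hx
      simp only [Finset.coe_image, Finset.coe_univ, Set.image_univ, Set.mem_range] at hx
      obtain ⟨i, rfl⟩ := hx
      exact hf i
    · rw [hgen]
      congr 1
      ext x
      simp only [Set.mem_range, Finset.coe_image, Finset.coe_univ, Set.image_univ,
        Set.mem_image, exists_exists_eq_and]
    · let e : Fin m ≃ ↥(Finset.univ.image f) :=
        Equiv.ofBijective (fun i => ⟨f i, Finset.mem_image_of_mem f (Finset.mem_univ i)⟩)
          ⟨fun i j hij => hinj (Subtype.ext_iff.mp hij), fun ⟨x, hx⟩ => by
            obtain ⟨i, -, rfl⟩ := Finset.mem_image.mp hx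
            exact ⟨i, rfl⟩⟩
      exact (linearIndependent_equiv e).mp hli
  · rintro ⟨s, hsI, hgen, hli⟩
    let e := s.equivFin
    let f : Fin s.card → B := fun i => (e.symm i : B)
    have hli' : LinearIndependent q.ResidueField
        (fun i => (1 : q.ResidueField) ⊗ₜ[B] KaehlerDifferential.D A B (f i)) :=
      (linearIndependent_equiv e.symm).mpr hli
    obtain ⟨D, hdet⟩ := (exists_derivations_iff_linearIndependent (A := A) q f).mpr hli'
    refine ⟨s.card, f, D, fun i => hsI (e.symm i).2, ?_, hdet⟩
    rw [hgen]
    congr 1
    ext x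
    simp only [Set.mem_image, Finset.mem_coe, Set.mem_range, f]
    constructor
    · rintro ⟨g, hg, rfl⟩
      exact ⟨e ⟨g, hg⟩, by simp⟩
    · rintro ⟨i, rfl⟩
      exact ⟨_, (e.symm i).2, rfl⟩

end Groth.Agent.Helper2.JacobianLI
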