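import Mathlib
import Groth.Agent.Helper2.JacobianLI
import Groth.Agent.Helper2.RegSeq3
import Groth.Agent.Helper1.FieldSmooth7

namespace Groth.Agent.Helper2.RegSmooth
open IsLocalRing TensorProduct KaehlerDifferential

universe u

/-- concrete form of linear independence in the cotangent space -/
theorem cot_li_iff {R : Type*} [CommRing R] [IsLocalRing R] {r : ℕ} (x : Fin r → maximalIdeal R) :
    LinearIndependent (ResidueField R) (fun i => (maximalIdeal R).toCotangent (x i)) ↔
      ∀ c : Fin r → R, (∑ i, c i * (x i : R)) ∈ maximalIdeal R ^ 2 →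
        ∀ i, c i ∈ maximalIdeal R := by
  have key : ∀ c : Fin r → R, ∑ i, residue R (c i) • (maximalIdeal R).toCotangent (x i) =
      (maximalIdeal R).toCotangent ⟨∑ i, c i * (x i : R),
        Ideal.sum_mem _ fun i _ => Ideal.mul_mem_left _ _ (x i).2⟩ := by
    intro c
    have h1 : ∀ i, residue R (c i) • (maximalIdeal R).toCotangent (x i) =
        (maximalIdeal R).toCotangent (c i • x i) := by
      intro i
      rw [map_smul]
      exact algebraMap_smul (ResidueField R) (c i) _
    rw [Finset.sum_congr rfl fun i _ => h1 i, ← map_sum]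
    congr 1
    apply Subtype.ext
    rw [Submodule.coe_sum]
    rfl
  rw [Fintype.linearIndependent_iff]
  constructor
  · intro h c hc i
    have h2 := h (fun i => residue R (c i)) (by
      rw [key, Ideal.toCotangent_eq_zero]
      exact hc) i
    exact (residue_eq_zero_iff _).1 h2
  · intro h g hg i
    choose c hc using fun i => residue_surjective (g i)
    have hg' : ∑ i, residue R (c i) • (maximalIdeal R).toCotangent (x i) = 0 := by
      rw [← hg]
      exact Finset.sum_congr rfl fun i _ => by rw [hc]
    rw [key, Ideal.toCotangent_eq_zero] at hg'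
    rw [← hc i]
    exact (residue_eq_zero_iff _).2 (h c hg' i)


section Bridge
variable {k P : Type u} [Field k] [CommRing P] [Algebra k P] [Algebra.FormallySmooth k P]
  (Q : Ideal P) [Q.IsPrime]

local notation "PQ" => Localization.AtPrime Q
local notation "KQ" => Q.ResidueField

instance : Algebra.FormallySmooth k PQ := by
  haveI : Algebra.FormallySmooth P PQ := .of_isLocalization Q.primeCompl
  exact .comp k P PQ

theorem ker_injective [Algebra.FormallySmooth k KQ] :
    Function.Injective (kerCotangentToTensor k PQ KQ) := by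
  have hsurj : Function.Surjective (algebraMap PQ KQ) := IsLocalRing.residue_surjective
  obtain ⟨l, hl⟩ := (Algebra.FormallySmooth.iff_split_injection (R := k) (P := PQ) (A := KQ)
    hsurj).1 inferInstance
  intro a b hab
  have := congrArg l hab
  rwa [← LinearMap.comp_apply, ← LinearMap.comp_apply, hl] at this

/-- comparison of the fibres of the differentials of `P` and of its localization -/
noncomputable def Ψ : KQ ⊗[PQ] Ω[PQ⁄k] ≃ₗ[KQ] KQ ⊗[P] Ω[P⁄k] :=
  haveI : Algebra.FormallyEtale P PQ := .of_isLocalization Q.primeCompl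
  (TensorProduct.AlgebraTensorModule.congr (LinearEquiv.refl KQ KQ)
    (tensorKaehlerEquivOfFormallyEtale k P PQ).symm).trans
    (TensorProduct.AlgebraTensorModule.cancelBaseChange P PQ KQ KQ Ω[P⁄k])

theorem Ψ_apply (g : P) :
    Ψ (k := k) Q ((1 : KQ) ⊗ₜ[PQ] D k PQ (algebraMap P PQ g)) = (1 : KQ) ⊗ₜ[P] D k P g := by
  haveI : Algebra.FormallyEtale P PQ := .of_isLocalization Q.primeCompl
  unfold Ψ
  rw [LinearEquiv.trans_apply, TensorProduct.AlgebraTensorModule.congr_tmul,
    tensorKaehlerEquivOfFormallyEtale_symm_D_algebraMap,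
    TensorProduct.AlgebraTensorModule.cancelBaseChange_tmul]
  simp

theorem ker_algebraMap_eq : RingHom.ker (algebraMap PQ KQ) = maximalIdeal PQ :=
  IsLocalRing.ker_residue

theorem algebraMap_mem_maximalIdeal (g : P) (hg : g ∈ Q) : algebraMap P PQ g ∈ maximalIdeal PQ :=
  (IsLocalization.AtPrime.to_map_mem_maximal_iff PQ Q g).2 hg

/-- the key computation -/
theorem key_comp {r : ℕ} (g : Fin r → P) (hg : ∀ i, g i ∈ Q) (c : Fin r → PQ)
    (hmem : (∑ i, c i * algebraMap P PQ (g i)) ∈ RingHom.ker (algebraMap PQ KQ)) :
    Ψ (k := k) Q (kerCotangentToTensor k PQ KQ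
      ((RingHom.ker (algebraMap PQ KQ)).toCotangent ⟨∑ i, c i * algebraMap P PQ (g i), hmem⟩)) =
      ∑ i, algebraMap PQ KQ (c i) • ((1 : KQ) ⊗ₜ[P] D k P (g i)) := by
  have hy : ∀ i, algebraMap P PQ (g i) ∈ RingHom.ker (algebraMap PQ KQ) := by
    intro i
    rw [ker_algebraMap_eq]
    exact algebraMap_mem_maximalIdeal Q (g i) (hg i)
  have h0 : (⟨∑ i, c i * algebraMap P PQ (g i), hmem⟩ : RingHom.ker (algebraMap PQ KQ)) =
      ∑ i, c i • (⟨algebraMap P PQ (g i), hy i⟩ : RingHom.ker (algebraMap PQ KQ)) := by
    apply Subtype.ext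
    rw [Submodule.coe_sum]
    rfl
  rw [h0, map_sum, map_sum, map_sum]
  refine Finset.sum_congr rfl fun i _ => ?_
  rw [map_smul, map_smul, kerCotangentToTensor_toCotangent]
  rw [← algebraMap_smul KQ (c i), map_smul, Ψ_apply]

theorem bridge [Algebra.FormallySmooth k KQ] {r : ℕ} (g : Fin r → P) (hg : ∀ i, g i ∈ Q) :
    LinearIndependent KQ (fun i => (1 : KQ) ⊗ₜ[P] D k P (g i)) ↔
      ∀ c : Fin r → PQ, (∑ i, c i * algebraMap P PQ (g i)) ∈ maximalIdeal PQ ^ 2 →
        ∀ i, c i ∈ maximalIdeal PQ := by
  have hmemK : ∀ c : Fin r → PQ,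
      (∑ i, c i * algebraMap P PQ (g i)) ∈ RingHom.ker (algebraMap PQ KQ) := by
    intro c
    rw [ker_algebraMap_eq]
    exact Ideal.sum_mem _ fun i _ => Ideal.mul_mem_left _ _
      (algebraMap_mem_maximalIdeal Q (g i) (hg i))
  rw [Fintype.linearIndependent_iff]
  constructor
  · intro h c hc i
    have h1 : (RingHom.ker (algebraMap PQ KQ)).toCotangent
        ⟨∑ i, c i * algebraMap P PQ (g i), hmemK c⟩ = 0 := by
      rw [Ideal.toCotangent_eq_zero]
      change (∑ i, c i * algebraMap P PQ (g i)) ∈ RingHom.ker (algebraMap PQ KQ) ^ 2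
      rw [ker_algebraMap_eq]
      exact hc
    have h2 := key_comp (k := k) Q g hg c (hmemK c)
    rw [h1, map_zero, map_zero] at h2
    have h3 := h (fun i => algebraMap PQ KQ (c i)) h2.symm i
    exact (residue_eq_zero_iff _).1 h3
  · intro h a ha i
    choose c hc using fun i => IsLocalRing.residue_surjective (R := PQ) (a i)
    have h2 := key_comp (k := k) Q g hg c (hmemK c)
    have h3 : ∑ i, algebraMap PQ KQ (c i) • ((1 : KQ) ⊗ₜ[P] D k P (g i)) = 0 := by
      rw [← ha]
      refine Finset.sum_congr rfl fun i _ => ?_
      rw [← hc i]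
      rfl
    rw [h3] at h2
    have h4 := (Ψ (k := k) Q).injective (h2.trans (map_zero _).symm)
    have h5 := ker_injective (k := k) Q (h4.trans (map_zero _).symm)
    rw [Ideal.toCotangent_eq_zero] at h5
    change (∑ i, c i * algebraMap P PQ (g i)) ∈ RingHom.ker (algebraMap PQ KQ) ^ 2 at h5
    rw [ker_algebraMap_eq] at h5
    rw [← hc i]
    exact (residue_eq_zero_iff _).2 (h c h5 i)

end Bridge


section Main
variable {k P S : Type u} [Field k] [CommRing P] [Algebra k P] [Algebra.FormallySmooth k P]
  [IsRegularRing P] [Module.Projective P Ω[P⁄k]]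
  [CommRing S] [Algebra k S] [Algebra P S] [IsScalarTower k P S]

/-- the local ring of a quotient as a quotient of the local ring -/
theorem exists_ringEquiv (hsurj : Function.Surjective (algebraMap P S)) (q : Ideal S) [q.IsPrime] :
    Nonempty ((Localization.AtPrime (q.comap (algebraMap P S)) ⧸
      (RingHom.ker (algebraMap P S)).map
        (algebraMap P (Localization.AtPrime (q.comap (algebraMap P S))))) ≃+*
      Localization.AtPrime q) := by
  set Q := q.comap (algebraMap P S) with hQ
  let ρ : Localization.AtPrime Q →+* Localization.AtPrime q :=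
    Localization.localRingHom Q q (algebraMap P S) rfl
  have hρ : Function.Surjective ρ :=
    RingHom.surjective_localRingHom_of_surjective (algebraMap P S) hsurj q
  have hT : Submonoid.map (algebraMap P S) Q.primeCompl = q.primeCompl :=
    Submonoid.map_comap_eq_of_surjective hsurj q.primeCompl
  have hker : RingHom.ker ρ = (RingHom.ker (algebraMap P S)).map
      (algebraMap P (Localization.AtPrime Q)) :=
    IsLocalization.ker_map (M := Q.primeCompl) (T := q.primeCompl) (S := Localization.AtPrime Q)
      (Localization.AtPrime q) (algebraMap P S) hT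
  exact ⟨(Ideal.quotEquivOfEq hker.symm).trans (RingHom.quotientKerEquivOfSurjective hρ)⟩

theorem smooth_iff_regular_of_presentation (hsurj : Function.Surjective (algebraMap P S))
    (q : Ideal S) [q.IsPrime]
    [Algebra.FormallySmooth k (q.comap (algebraMap P S)).ResidueField] :
    Algebra.FormallySmooth k (Localization.AtPrime q) ↔
      IsRegularLocalRing (Localization.AtPrime q) := by
  set Q := q.comap (algebraMap P S) with hQ
  set I := RingHom.ker (algebraMap P S) with hI
  obtain ⟨e⟩ := exists_ringEquiv hsurj q
  have hIQ : I ≤ Q := by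
    intro x hx
    rw [hQ, Ideal.mem_comap, RingHom.mem_ker.mp hx]
    exact q.zero_mem
  have hImap_le : I.map (algebraMap P (Localization.AtPrime Q)) ≤
      maximalIdeal (Localization.AtPrime Q) := by
    rw [Ideal.map_le_iff_le_comap]
    intro x hx
    exact algebraMap_mem_maximalIdeal Q x (hIQ hx)
  rw [Groth.Agent.Helper2.JacobianDer.formallySmooth_iff_exists_derivations (A := k) hsurj Q q rfl]
  constructor
  · rintro ⟨m, f, D, hf, hgen, hdet⟩
    have hli := (Groth.Agent.Helper2.JacobianLI.exists_derivations_iff_linearIndependent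
      (A := k) Q f).mp ⟨D, hdet⟩
    have hfQ : ∀ i, f i ∈ Q := fun i => hIQ (hf i)
    have hconc := (bridge (k := k) Q f hfQ).1 hli
    let x : Fin m → maximalIdeal (Localization.AtPrime Q) := fun i =>
      ⟨algebraMap P (Localization.AtPrime Q) (f i), algebraMap_mem_maximalIdeal Q (f i) (hfQ i)⟩
    have hx : LinearIndependent (ResidueField (Localization.AtPrime Q))
        (fun i => (maximalIdeal (Localization.AtPrime Q)).toCotangent (x i)) :=
      (cot_li_iff x).2 hconc
    have hreg := (Groth.Agent.Helper2.RegSeq.quotient_regular_of_indep m x hx).2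
    have hspan : Ideal.span (Set.range fun i => (x i : Localization.AtPrime Q)) =
        I.map (algebraMap P (Localization.AtPrime Q)) := hgen.symm
    rw [hspan] at hreg
    exact IsRegularLocalRing.of_ringEquiv e
  · intro hreg
    have hregq : IsRegularLocalRing (Localization.AtPrime Q ⧸
        I.map (algebraMap P (Localization.AtPrime Q))) :=
      IsRegularLocalRing.of_ringEquiv e.symm
    have hne : I.map (algebraMap P (Localization.AtPrime Q)) ≠ ⊤ := fun h =>
      (maximalIdeal.isMaximal _).ne_top (top_le_iff.mp (h ▸ hImap_le))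
    obtain ⟨c, x, hli, hgen⟩ := Groth.Agent.Helper2.RegSeq3.exists_indep_generators
      (I.map (algebraMap P (Localization.AtPrime Q))) hne hregq
    have hxmem : ∀ i, (x i : Localization.AtPrime Q) ∈
        I.map (algebraMap P (Localization.AtPrime Q)) := by
      intro i
      rw [hgen]
      exact Ideal.subset_span ⟨i, rfl⟩
    choose gu hgu using fun i =>
      (IsLocalization.mem_map_algebraMap_iff Q.primeCompl (Localization.AtPrime Q)).1 (hxmem i)
    let g : Fin c → P := fun i => ((gu i).1 : P)
    have hgI : ∀ i, g i ∈ I := fun i => (gu i).1.2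
    have hgQ : ∀ i, g i ∈ Q := fun i => hIQ (hgI i)
    have hu : ∀ i, IsUnit (algebraMap P (Localization.AtPrime Q) ((gu i).2 : P)) := fun i =>
      IsLocalization.map_units (Localization.AtPrime Q) (gu i).2
    have hgx : ∀ i, algebraMap P (Localization.AtPrime Q) (g i) =
        (x i : Localization.AtPrime Q) * algebraMap P (Localization.AtPrime Q) ((gu i).2 : P) :=
      fun i => (hgu i).symm
    have hconc_x := (cot_li_iff x).1 hli
    have hconc : ∀ a : Fin c → Localization.AtPrime Q,
        (∑ i, a i * algebraMap P (Localization.AtPrime Q) (g i)) ∈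
          maximalIdeal (Localization.AtPrime Q) ^ 2 →
        ∀ i, a i ∈ maximalIdeal (Localization.AtPrime Q) := by
      intro a ha i
      have h1 : ∑ i, a i * algebraMap P (Localization.AtPrime Q) (g i) =
          ∑ i, (a i * algebraMap P (Localization.AtPrime Q) ((gu i).2 : P)) *
            (x i : Localization.AtPrime Q) := by
        refine Finset.sum_congr rfl fun i _ => ?_
        rw [hgx]; ring
      rw [h1] at ha
      have h2 := hconc_x _ ha i
      by_contra hai
      have hai' : IsUnit (a i) := by
        by_contra h; exact hai h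
      exact h2 (hai'.mul (hu i))
    have hli' := (bridge (k := k) Q g hgQ).2 hconc
    obtain ⟨D, hdet⟩ := (Groth.Agent.Helper2.JacobianLI.exists_derivations_iff_linearIndependent
      (A := k) Q g).mpr hli'
    refine ⟨c, g, D, hgI, ?_, hdet⟩
    rw [hgen]
    apply le_antisymm
    · rw [Ideal.span_le]
      rintro _ ⟨i, rfl⟩
      have : (x i : Localization.AtPrime Q) =
          algebraMap P (Localization.AtPrime Q) (g i) * ↑((hu i).unit⁻¹) := by
        rw [hgx, mul_assoc, IsUnit.mul_val_inv, mul_one]
      change (x i : Localization.AtPrime Q) ∈ _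
      rw [this]
      exact Ideal.mul_mem_right _ _ (Ideal.subset_span ⟨i, rfl⟩)
    · rw [Ideal.span_le]
      rintro _ ⟨i, rfl⟩
      rw [SetLike.mem_coe]
      change algebraMap P (Localization.AtPrime Q) (g i) ∈ _
      rw [hgx]
      exact Ideal.mul_mem_right _ _ (Ideal.subset_span ⟨i, rfl⟩)

end Main


/-- Smoothness at a prime with geometrically reduced (= separable) residue field is equivalent to
regularity of the local ring. -/
theorem isSmoothAt_iff_isRegularLocalRing (k : Type u) [Field k]
    (S : Type u) [CommRing S] [Algebra k S] [Algebra.FiniteType k S] (q : Ideal S) [q.IsPrime]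
    [Algebra.IsGeometricallyReduced k q.ResidueField] :
    Algebra.IsSmoothAt k q ↔ IsRegularLocalRing (Localization.AtPrime q) := by
  obtain ⟨n, φ, hφ⟩ := Algebra.FiniteType.iff_quotient_mvPolynomial''.1
    (inferInstance : Algebra.FiniteType k S)
  letI : Algebra (MvPolynomial (Fin n) k) S := φ.toRingHom.toAlgebra
  haveI : IsScalarTower k (MvPolynomial (Fin n) k) S :=
    IsScalarTower.of_algebraMap_eq' φ.comp_algebraMap.symm
  have hsurj : Function.Surjective (algebraMap (MvPolynomial (Fin n) k) S) := hφ
  haveI : IsRegularRing k := inferInstance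
  haveI : IsRegularRing (MvPolynomial (Fin n) k) := inferInstance
  haveI : Algebra.IsGeometricallyReduced k
      (q.comap (algebraMap (MvPolynomial (Fin n) k) S)).ResidueField :=
    Algebra.IsGeometricallyReduced.of_injective
      (Ideal.ResidueField.mapₐ (q.comap (algebraMap (MvPolynomial (Fin n) k) S)) q
        (IsScalarTower.toAlgHom k (MvPolynomial (Fin n) k) S) rfl)
      (RingHom.injective _)
  haveI : Algebra.FormallySmooth k
      (q.comap (algebraMap (MvPolynomial (Fin n) k) S)).ResidueField :=
    Groth.Agent.Helper1.FieldSmooth.formallySmooth_iff_isGeometricallyReduced.2 inferInstance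
  exact smooth_iff_regular_of_presentation hsurj q

end Groth.Agent.Helper2.RegSmooth
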