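import Mathlib
import Groth.Prelude
import Groth.Agent.Helper2.CotTSyz
import Groth.Agent.Helper2.CotTIndep
import Groth.Agent.Helper2.RegSeq3
import Groth.Agent.Helper2.RegSmooth

namespace Groth.Agent.Helper2.CotTSmooth

open CotT Function TensorProduct Algebra IsLocalRing
open Groth.Agent.Helper2.CotTSyz Groth.Agent.Helper2.CotTIndep01

noncomputable section

universe u t

section LocalQuot

/-- the local ring of a quotient as a quotient of the local ring -/
theorem exists_ringEquiv' {R B : Type u} [CommRing R] [CommRing B] [Algebra R B]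
    (hsurj : Surjective (algebraMap R B)) (𝔮 : Ideal R) [𝔮.IsPrime] (𝔭 : Ideal B) [𝔭.IsPrime]
    (h : 𝔮 = 𝔭.comap (algebraMap R B)) :
    Nonempty ((Localization.AtPrime 𝔮 ⧸
      (RingHom.ker (algebraMap R B)).map (algebraMap R (Localization.AtPrime 𝔮))) ≃+*
      Localization.AtPrime 𝔭) := by
  let ρ : Localization.AtPrime 𝔮 →+* Localization.AtPrime 𝔭 :=
    Localization.localRingHom 𝔮 𝔭 (algebraMap R B) h
  have hρ : Function.Surjective ρ := by
    subst h
    exact RingHom.surjective_localRingHom_of_surjective (algebraMap R B) hsurj 𝔭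
  have hT : Submonoid.map (algebraMap R B) 𝔮.primeCompl = 𝔭.primeCompl := by
    subst h
    exact Submonoid.map_comap_eq_of_surjective hsurj 𝔭.primeCompl
  have hker : RingHom.ker ρ = (RingHom.ker (algebraMap R B)).map
      (algebraMap R (Localization.AtPrime 𝔮)) :=
    IsLocalization.ker_map (M := 𝔮.primeCompl) (T := 𝔭.primeCompl) (S := Localization.AtPrime 𝔮)
      (Localization.AtPrime 𝔭) (algebraMap R B) hT
  exact ⟨(Ideal.quotEquivOfEq hker.symm).trans (RingHom.quotientKerEquivOfSurjective hρ)⟩

end LocalQuot

variable {k B : Type u} [Field k] [CommRing B] [Algebra k B] {n : ℕ} {σ : Type t}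
  (P : Algebra.Presentation k B (Fin n) σ)

/-- a finite type algebra over a field all of whose local rings are regular is syzygetic. -/
theorem syz_of_regular
    (hreg : ∀ (p : Ideal B) [p.IsPrime], IsRegularLocalRing (Localization.AtPrime p)) : Syz P := by
  haveI : IsRegularRing k := inferInstance
  haveI : IsRegularRing P.toExtension.Ring :=
    inferInstanceAs (IsRegularRing (MvPolynomial (Fin n) k))
  have hsurj : Surjective (algebraMap P.toExtension.Ring B) := P.toExtension.algebraMap_surjective
  refine syz_of_local P fun 𝔮 _ hI => ?_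
  let 𝔭 : Ideal B := 𝔮.map (algebraMap P.toExtension.Ring B)
  haveI : 𝔭.IsPrime := Ideal.map_isPrime_of_surjective hsurj hI
  have h : 𝔮 = 𝔭.comap (algebraMap P.toExtension.Ring B) := by
    rw [Ideal.comap_map_of_surjective' _ hsurj]
    exact (sup_eq_left.2 hI).symm
  obtain ⟨e⟩ := exists_ringEquiv' hsurj 𝔮 𝔭 h
  let S := Localization.AtPrime 𝔮
  haveI : IsRegularLocalRing S := inferInstance
  let nn : Ideal S := P.toExtension.ker.map (algebraMap P.toExtension.Ring S)
  have hnn : nn ≠ ⊤ := by
    intro htop
    have hle : nn ≤ maximalIdeal S := by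
      rw [Ideal.map_le_iff_le_comap]
      exact hI.trans (IsLocalization.AtPrime.comap_maximalIdeal S 𝔮).ge
    exact (maximalIdeal.isMaximal S).ne_top (top_le_iff.1 (htop ▸ hle))
  have hregq : IsRegularLocalRing (S ⧸ nn) :=
    haveI := hreg 𝔭
    IsRegularLocalRing.of_ringEquiv e.symm
  obtain ⟨c, x, hli, hx⟩ := RegSeq3.exists_indep_generators nn hnn hregq
  obtain ⟨hR, -⟩ := RegSeq3.isRegular_ofFn c x hli
  refine ⟨c, fun i => (x i : S), ?_, hx.symm⟩
  intro i a ha
  exact CotTReg.regular_cond_of_isWeaklyRegular (fun i => (x i : S)) hR.toIsWeaklyRegular i a ha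

/-- a finite type algebra over a field all of whose local rings are regular has vanishing `T²`
(for a finite presentation), provided it is formally smooth. -/
theorem subsingleton_T2_of_regular [Algebra.FormallySmooth k B]
    (hreg : ∀ (p : Ideal B) [p.IsPrime], IsRegularLocalRing (Localization.AtPrime p))
    (M : Type*) [AddCommGroup M] [Module B M] : Subsingleton (T2 P M) := by
  haveI : Algebra.FormallySmooth k P.toExtension.Ring :=
    inferInstanceAs (Algebra.FormallySmooth k (MvPolynomial (Fin n) k))
  obtain ⟨l, hl⟩ := (Algebra.Extension.formallySmooth_iff_split_injection P.toExtension).1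
    inferInstance
  haveI : Module.Projective B P.toExtension.CotangentSpace :=
    Module.Projective.of_basis P.cotangentSpaceBasis
  haveI : Module.Projective B P.toExtension.Cotangent :=
    Module.Projective.of_split P.toExtension.cotangentComplex l hl
  exact subsingleton_T2_of_injective P M (d2_injective_of_syz P (syz_of_regular P hreg))

section PartA

variable {A B : Type u} [CommRing A] [CommRing B] [Algebra A B] {ι : Type u} {σ : Type t}
  (P : Algebra.Presentation A B ι σ)

/-- `B` is formally smooth over `A` iff `T¹(B/A, M) = 0` for all `M`. -/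
theorem formallySmooth_iff_T1 :
    Algebra.FormallySmooth A B ↔
      ∀ (M : Type u) [AddCommGroup M] [Module B M], Subsingleton (T1 P M) := by
  haveI : Algebra.FormallySmooth A P.toExtension.Ring :=
    inferInstanceAs (Algebra.FormallySmooth A (MvPolynomial ι A))
  rw [Algebra.Extension.formallySmooth_iff_split_injection P.toExtension]
  constructor
  · rintro ⟨l, hl⟩ M _ _
    have htop : LinearMap.range (LinearMap.lcomp B M P.toExtension.cotangentComplex) = ⊤ := by
      rw [_root_.eq_top_iff]
      intro φ _
      refine ⟨φ ∘ₗ l, ?_⟩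
      rw [LinearMap.lcomp_apply', LinearMap.comp_assoc, hl, LinearMap.comp_id]
    haveI : Subsingleton (E1 M P.toExtension) :=
      Submodule.Quotient.subsingleton_iff.2 htop
    exact (E1EquivT1 P M).symm.toEquiv.subsingleton
  · intro h
    haveI := h P.toExtension.Cotangent
    haveI : Subsingleton (E1 P.toExtension.Cotangent P.toExtension) :=
      (E1EquivT1 P P.toExtension.Cotangent).toEquiv.subsingleton
    have htop := Submodule.Quotient.subsingleton_iff.1 this
    have hid : (LinearMap.id : P.toExtension.Cotangent →ₗ[B] P.toExtension.Cotangent) ∈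
        LinearMap.range (LinearMap.lcomp B P.toExtension.Cotangent
          P.toExtension.cotangentComplex) := by
      rw [htop]; exact Submodule.mem_top
    obtain ⟨l, hl⟩ := hid
    exact ⟨l, hl⟩

end PartA

section PartB

variable (k : Type u) [Field k] [IsAlgClosed k]

/-- over an algebraically closed field reduced algebras are geometrically reduced. -/
theorem isGeometricallyReduced_of_isAlgClosed (A : Type*) [CommRing A] [Algebra k A] [IsReduced A] :
    Algebra.IsGeometricallyReduced k A := by
  rw [Algebra.isGeometricallyReduced_field_iff]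
  let e₀ : k ≃ₐ[k] AlgebraicClosure k :=
    AlgEquiv.ofBijective (Algebra.ofId k (AlgebraicClosure k))
      IsAlgClosed.algebraMap_bijective_of_isIntegral
  let e : AlgebraicClosure k ⊗[k] A ≃ₐ[k] A :=
    (Algebra.TensorProduct.congr e₀.symm AlgEquiv.refl).trans (Algebra.TensorProduct.lid k A)
  exact isReduced_of_injective e e.injective

variable (B : Type u) [CommRing B] [Algebra k B] [Algebra.FiniteType k B]

theorem formallySmooth_iff_regular :
    Algebra.FormallySmooth k B ↔
      ∀ (p : Ideal B) [p.IsPrime], IsRegularLocalRing (Localization.AtPrime p) := by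
  haveI : Algebra.FinitePresentation k B := Algebra.FinitePresentation.of_finiteType.1 inferInstance
  have key : ∀ (p : Ideal B) [p.IsPrime],
      Algebra.IsSmoothAt k p ↔ IsRegularLocalRing (Localization.AtPrime p) := by
    intro p _
    haveI : Algebra.IsGeometricallyReduced k p.ResidueField :=
      isGeometricallyReduced_of_isAlgClosed k _
    exact RegSmooth.isSmoothAt_iff_isRegularLocalRing k B p
  rw [← Algebra.smoothLocus_eq_univ_iff, Set.eq_univ_iff_forall]
  constructor
  · intro h p _
    exact (key p).1 (h ⟨p, inferInstance⟩)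
  · intro h x
    exact (key x.asIdeal).2 (h x.asIdeal)

/-- **S12290**. -/
theorem s12290 :
    ((∀ (p : Ideal B) [p.IsPrime], IsRegularLocalRing (Localization.AtPrime p)) ↔
      ∀ (M : Type u) [AddCommGroup M] [Module B M], Subsingleton (CotT.T1 (CotT.canon k B) M)) ∧
    ((∀ (p : Ideal B) [p.IsPrime], IsRegularLocalRing (Localization.AtPrime p)) →
      ∀ (M : Type u) [AddCommGroup M] [Module B M],
        Subsingleton (CotT.T2 (CotT.canon k B) M)) := by
  refine ⟨(formallySmooth_iff_regular k B).symm.trans (formallySmooth_iff_T1 (CotT.canon k B)),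
    fun hreg M _ _ => ?_⟩
  haveI : Algebra.FormallySmooth k B := (formallySmooth_iff_regular k B).2 hreg
  haveI : Algebra.FinitePresentation k B := Algebra.FinitePresentation.of_finiteType.1 inferInstance
  obtain ⟨n, m, ⟨P₀⟩⟩ := Algebra.Presentation.exists_presentation_fin k B
  haveI := subsingleton_T2_of_regular P₀ hreg M
  obtain ⟨e⟩ := CotTIndep.nonempty_T2_equiv_of_presentations (CotT.canon k B) P₀ M
  exact e.toEquiv.subsingleton

end PartB

end

end Groth.Agent.Helper2.CotTSmooth
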