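import Mathlib
import Groth.Agent.Helper1.FlatKrull

set_option autoImplicit false
open Function TensorProduct LinearMap
universe u v

namespace Groth.Agent.Helper2.LocCrit

section general
variable {R : Type u} [CommRing R] {M : Type v} [AddCommGroup M] [Module R M]

/-- If `I' = I + Ra` with `(I : a) = 𝔪` and `M ⊗ 𝔪 → M ⊗ R` is injective then
`M ⊗ I → M ⊗ I'` is injective. -/
lemma step (𝔪 I I' : Ideal R) (a : R) (hle : I ≤ I') (ha' : a ∈ I')
    (hI' : ∀ x ∈ I', ∃ i ∈ I, ∃ r : R, x = i + r * a)
    (hcolon : ∀ r, r * a ∈ I → r ∈ 𝔪) (hm : ∀ r ∈ 𝔪, r * a ∈ I)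
    (hP : Injective (lTensor M 𝔪.subtype)) :
    Injective (lTensor M (Submodule.inclusion hle)) := by
  let g : 𝔪 →ₗ[R] I := LinearMap.codRestrict I ((LinearMap.mulRight R a).comp 𝔪.subtype)
    (fun r => by simpa using hm r r.2)
  let α : 𝔪 →ₗ[R] (I × R) := (-g).prod 𝔪.subtype
  let h : R →ₗ[R] I' := LinearMap.toSpanSingleton R I' ⟨a, ha'⟩
  let β : (I × R) →ₗ[R] I' := (Submodule.inclusion hle).coprod h
  have hβ : Surjective β := by
    rintro ⟨x, hx⟩
    obtain ⟨i, hi, r, rfl⟩ := hI' x hx
    refine ⟨(⟨i, hi⟩, r), ?_⟩
    ext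
    simp [β, h]
  have hαβ : Exact α β := by
    rintro ⟨i, r⟩
    constructor
    · intro hx
      have hx' : (i : R) + r * a = 0 := by
        have := congrArg Subtype.val hx
        simpa [β, h] using this
      have hr : r ∈ 𝔪 := by
        apply hcolon
        have : r * a = -(i : R) := by linear_combination hx'
        rw [this]
        exact neg_mem i.2
      refine ⟨⟨r, hr⟩, ?_⟩
      ext
      · simp only [α, g, LinearMap.prod_apply]
        simp
        linear_combination -hx'
      · simp [α]
    · rintro ⟨s, hs⟩
      have h1 : i = -g s := by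
        have := congrArg Prod.fst hs
        simpa [α] using this.symm
      have h2 : r = (s : R) := by
        have := congrArg Prod.snd hs
        simpa [α] using this.symm
      ext
      simp [β, h, h1, h2, g]
  have hex := lTensor_exact M hαβ hβ
  rw [injective_iff_map_eq_zero]
  intro y hy
  have h1 : lTensor M β (lTensor M (LinearMap.inl R I R) y) = 0 := by
    rw [← LinearMap.comp_apply, ← LinearMap.lTensor_comp]
    have : β ∘ₗ LinearMap.inl R I R = Submodule.inclusion hle := by
      simp [β, LinearMap.coprod_inl]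
    rw [this, hy]
  obtain ⟨z, hz⟩ := (hex _).1 h1
  have h2 : lTensor M 𝔪.subtype z = 0 := by
    have := congrArg (lTensor M (LinearMap.snd R I R)) hz
    rw [← LinearMap.comp_apply, ← LinearMap.lTensor_comp, ← LinearMap.comp_apply,
      ← LinearMap.lTensor_comp] at this
    have e1 : LinearMap.snd R I R ∘ₗ α = 𝔪.subtype := by
      simp [α, LinearMap.snd_prod]
    have e2 : LinearMap.snd R I R ∘ₗ LinearMap.inl R I R = 0 := by
      ext; simp
    rw [e1, e2] at this
    simpa using this
  have hz0 : z = 0 := (injective_iff_map_eq_zero _).1 hP z h2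
  rw [hz0, map_zero] at hz
  have := congrArg (lTensor M (LinearMap.fst R I R)) hz
  rw [← LinearMap.comp_apply, ← LinearMap.lTensor_comp] at this
  have e3 : LinearMap.fst R I R ∘ₗ LinearMap.inl R I R = LinearMap.id := by
    ext; simp
  rw [e3] at this
  simpa using this.symm

/-- `M ⊗ (J ⊓ K) → M ⊗ J` hits every element killed in `M ⊗ (J ⊔ K)`. -/
lemma mem_range_inf (J K : Ideal R) (x : M ⊗[R] J)
    (hx : lTensor M (Submodule.inclusion (le_sup_left : J ≤ J ⊔ K)) x = 0) :
    x ∈ LinearMap.range (lTensor M (Submodule.inclusion (inf_le_left : J ⊓ K ≤ J))) := by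
  let α : ↥(J ⊓ K) →ₗ[R] (J × K) :=
    (Submodule.inclusion inf_le_left).prod (-(Submodule.inclusion inf_le_right))
  let β : (J × K) →ₗ[R] ↥(J ⊔ K) :=
    (Submodule.inclusion le_sup_left).coprod (Submodule.inclusion le_sup_right)
  have hβ : Surjective β := by
    rintro ⟨x, hx⟩
    obtain ⟨j, hj, k, hk, rfl⟩ := Submodule.mem_sup.1 hx
    exact ⟨(⟨j, hj⟩, ⟨k, hk⟩), by ext; simp [β]⟩
  have hαβ : Exact α β := by
    rintro ⟨j, k⟩
    constructor
    · intro h
      have h' : (j : R) + k = 0 := by
        have := congrArg Subtype.val h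
        simpa [β] using this
      have hjk : (j : R) = -k := by linear_combination h'
      refine ⟨⟨j, j.2, by rw [hjk]; exact neg_mem k.2⟩, ?_⟩
      ext
      · simp [α]
      · simp [α]
        linear_combination -h'
    · rintro ⟨s, hs⟩
      have h1 : (j : R) = s := by
        have := congrArg (fun p => (p.1 : R)) hs
        simpa [α] using this.symm
      have h2 : (k : R) = -s := by
        have := congrArg (fun p => (p.2 : R)) hs
        simpa [α] using this.symm
      ext
      simp [β, h1, h2]
  have hex := lTensor_exact M hαβ hβ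
  have h1 : lTensor M β (lTensor M (LinearMap.inl R J K) x) = 0 := by
    rw [← LinearMap.comp_apply, ← LinearMap.lTensor_comp]
    have : β ∘ₗ LinearMap.inl R J K = Submodule.inclusion le_sup_left := by
      simp [β, LinearMap.coprod_inl]
    rw [this, hx]
  obtain ⟨w, hw⟩ := (hex _).1 h1
  refine ⟨w, ?_⟩
  have := congrArg (lTensor M (LinearMap.fst R J K)) hw
  rw [← LinearMap.comp_apply, ← LinearMap.lTensor_comp, ← LinearMap.comp_apply,
    ← LinearMap.lTensor_comp] at this
  have e1 : LinearMap.fst R J K ∘ₗ α = Submodule.inclusion inf_le_left := by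
    simp [α, LinearMap.fst_prod]
  have e3 : LinearMap.fst R J K ∘ₗ LinearMap.inl R J K = LinearMap.id := by
    ext; simp
  rw [e1, e3] at this
  simpa using this

end general

section local_
variable {R : Type u} [CommRing R] [IsLocalRing R] [IsNoetherianRing R]
  {M : Type v} [AddCommGroup M] [Module R M]

open IsLocalRing

/-- `Tor₁(k, M) = 0` implies `Tor₁(R/I, M) = 0` for all `𝔪`-primary `I`. -/
lemma primary (hP : Injective (lTensor M (maximalIdeal R).subtype)) :
    ∀ I : Ideal R, (∃ n, maximalIdeal R ^ n ≤ I) → Injective (lTensor M I.subtype) := by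
  intro I
  induction I using IsNoetherian.induction with
  | hgt I ih =>
    rintro ⟨n, hn⟩
    by_cases htop : I = ⊤
    · subst htop
      have : (⊤ : Ideal R).subtype = (Submodule.topEquiv (R := R) (M := R)).toLinearMap := by
        ext; simp
      rw [this]
      exact (LinearEquiv.lTensor M Submodule.topEquiv).injective
    · classical
      have hex : ∃ j, maximalIdeal R ^ j ≤ I := ⟨n, hn⟩
      set j := Nat.find hex with hj
      have hjI : maximalIdeal R ^ j ≤ I := Nat.find_spec hex
      have hj0 : j ≠ 0 := by
        intro h0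
        rw [h0, pow_zero, Ideal.one_eq_top, top_le_iff] at hjI
        exact htop hjI
      obtain ⟨j', hj'⟩ := Nat.exists_eq_succ_of_ne_zero hj0
      have hnot : ¬ maximalIdeal R ^ j' ≤ I := Nat.find_min hex (by omega)
      obtain ⟨a, haj, haI⟩ := SetLike.not_le_iff_exists.1 hnot
      have hma : ∀ r ∈ maximalIdeal R, r * a ∈ I := by
        intro r hr
        apply hjI
        rw [hj', pow_succ']
        exact Ideal.mul_mem_mul hr haj
      have hcolon : ∀ r, r * a ∈ I → r ∈ maximalIdeal R := by
        intro r hr
        by_contra hrm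
        have hu : IsUnit r := by
          by_contra h
          exact hrm ((mem_maximalIdeal r).2 h)
        obtain ⟨u, rfl⟩ := hu
        apply haI
        have := Ideal.mul_mem_left I (↑u⁻¹ : R) hr
        rwa [← mul_assoc, Units.inv_mul, one_mul] at this
      have hlt : I < I ⊔ Ideal.span {a} := by
        refine lt_of_le_of_ne le_sup_left ?_
        intro h
        apply haI
        rw [h]
        exact Ideal.mem_sup_right (Ideal.mem_span_singleton_self a)
      have hI' := ih (I ⊔ Ideal.span {a}) hlt ⟨n, hn.trans le_sup_left⟩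
      have hstep := step (M := M) (maximalIdeal R) I (I ⊔ Ideal.span {a}) a le_sup_left
        (Ideal.mem_sup_right (Ideal.mem_span_singleton_self a))
        (by
          intro x hx
          obtain ⟨i, hi, y, hy, rfl⟩ := Submodule.mem_sup.1 hx
          obtain ⟨r, rfl⟩ := Ideal.mem_span_singleton'.1 hy
          exact ⟨i, hi, r, rfl⟩) hcolon hma hP
      have : I.subtype = (I ⊔ Ideal.span {a}).subtype ∘ₗ Submodule.inclusion le_sup_left := by
        ext; simp
      rw [this, LinearMap.lTensor_comp]
      exact hI'.comp hstep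

end local_

section main
variable {R S : Type u} [CommRing R] [CommRing S] [IsLocalRing R] [IsLocalRing S]
  [IsNoetherianRing R] [IsNoetherianRing S] [Algebra R S] [IsLocalHom (algebraMap R S)]
  {M : Type u} [AddCommGroup M] [Module R M] [Module S M] [IsScalarTower R S M]

open IsLocalRing

lemma mem_smul_top_of_mem_range (J : Ideal R) (t : ℕ) (x : M ⊗[R] J)
    (hx : x ∈ LinearMap.range (lTensor M (Submodule.inclusion
      (show maximalIdeal R ^ t • J ≤ J from Submodule.smul_le_right)))) :
    x ∈ (((maximalIdeal R).map (algebraMap R S)) ^ t • ⊤ : Submodule S (M ⊗[R] J)) := by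
  obtain ⟨w, rfl⟩ := hx
  induction w using TensorProduct.induction_on with
  | zero => simp
  | add a b ha hb => rw [map_add]; exact add_mem ha hb
  | tmul u v =>
    obtain ⟨v, hv⟩ := v
    rw [LinearMap.lTensor_tmul]
    induction hv using Submodule.smul_induction_on' with
    | smul r hr j hj =>
      have : (Submodule.inclusion (show maximalIdeal R ^ t • J ≤ J from Submodule.smul_le_right))
          ⟨r • j, Submodule.smul_mem_smul hr hj⟩ = r • (⟨j, hj⟩ : J) := by
        ext; simp
      rw [this, TensorProduct.tmul_smul, ← algebraMap_smul S r (u ⊗ₜ[R] (⟨j, hj⟩ : J))]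
      refine Submodule.smul_mem_smul ?_ trivial
      rw [← Ideal.map_pow]
      exact Ideal.mem_map_of_mem _ hr
    | add x hx y hy hx' hy' =>
      have : (Submodule.inclusion (show maximalIdeal R ^ t • J ≤ J from Submodule.smul_le_right))
          ⟨x + y, add_mem hx hy⟩ =
          (Submodule.inclusion (show maximalIdeal R ^ t • J ≤ J from Submodule.smul_le_right))
            ⟨x, hx⟩ +
          (Submodule.inclusion (show maximalIdeal R ^ t • J ≤ J from Submodule.smul_le_right))
            ⟨y, hy⟩ := by
        ext; simp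
      rw [this, TensorProduct.tmul_add]
      exact add_mem hx' hy'

/-- **Local criterion of flatness**, `lTensor` form. -/
theorem flat_of_lTensor_injective [Module.Finite S M]
    (h : Injective (lTensor M (maximalIdeal R).subtype)) : Module.Flat R M := by
  have hle : (maximalIdeal R).map (algebraMap R S) ≤ Ideal.jacobson ⊥ := by
    refine le_trans ?_ (IsLocalRing.maximalIdeal_le_jacobson _)
    rw [Ideal.map_le_iff_le_comap]
    intro x hx
    exact (mem_maximalIdeal _).2 (fun hu => (mem_maximalIdeal x).1 hx (isUnit_of_map_unit _ x hu))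
  refine Groth.Agent.Helper1.FlatKrull.flat_of_ker_le_iInf
    ((maximalIdeal R).map (algebraMap R S)) hle ?_
  intro J x hx n
  obtain ⟨c, hc⟩ := Ideal.exists_pow_inf_eq_pow_smul (maximalIdeal R) (J : Submodule R R)
  have hP := primary h (J ⊔ maximalIdeal R ^ (n + c)) ⟨n + c, le_sup_right⟩
  have hx0 : lTensor M (Submodule.inclusion
      (le_sup_left : J ≤ J ⊔ maximalIdeal R ^ (n + c))) x = 0 := by
    apply hP
    rw [map_zero, ← LinearMap.comp_apply, ← LinearMap.lTensor_comp]
    have : (J ⊔ maximalIdeal R ^ (n + c)).subtype ∘ₗ Submodule.inclusion le_sup_left =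
        J.subtype := by ext; simp
    rw [this, hx]
  obtain ⟨w, hw⟩ := mem_range_inf J (maximalIdeal R ^ (n + c)) x hx0
  apply mem_smul_top_of_mem_range (S := S) J n x
  have hAR : J ⊓ maximalIdeal R ^ (n + c) ≤ maximalIdeal R ^ n • J := by
    have := hc (n + c) (by omega)
    rw [Nat.add_sub_cancel] at this
    intro y hy
    have hy' : y ∈ maximalIdeal R ^ (n + c) • (⊤ : Submodule R R) ⊓ J := by
      refine ⟨?_, hy.1⟩
      simpa using hy.2
    rw [this] at hy'
    exact Submodule.smul_mono le_rfl inf_le_right hy'
  refine ⟨lTensor M (Submodule.inclusion hAR) w, ?_⟩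
  rw [← hw, ← LinearMap.comp_apply, ← LinearMap.lTensor_comp]
  rfl

/-- **Local criterion of flatness**, `rTensor` form. -/
theorem flat_of_rTensor_injective [Module.Finite S M]
    (h : Injective (rTensor M (maximalIdeal R).subtype)) : Module.Flat R M := by
  apply flat_of_lTensor_injective (S := S)
  have : lTensor M (maximalIdeal R).subtype =
      (TensorProduct.comm R R M).toLinearMap ∘ₗ rTensor M (maximalIdeal R).subtype ∘ₗ
        (TensorProduct.comm R M (maximalIdeal R)).toLinearMap := by
    ext; simp
  rw [this]
  simp only [LinearMap.coe_comp, LinearEquiv.coe_coe]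
  exact (TensorProduct.comm R R M).injective.comp
    (h.comp (TensorProduct.comm R M (maximalIdeal R)).injective)

end main

end Groth.Agent.Helper2.LocCrit
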