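import Mathlib
import Groth.Agent.Helper2.LocCrit

set_option autoImplicit false
open Function TensorProduct LinearMap IsLocalRing
universe u v

namespace Groth.Agent.Helper2.LocCrit2

section nat
variable {R : Type u} [CommRing R] (I : Ideal R) {M : Type v} [AddCommGroup M] [Module R M]

/-- naturality of `cancelBaseChange` in the first variable -/
lemma cancel_natural {N N' : Type v} [AddCommGroup N] [AddCommGroup N'] [Module (R ⧸ I) N]
    [Module (R ⧸ I) N'] [Module R N] [Module R N'] [IsScalarTower R (R ⧸ I) N]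
    [IsScalarTower R (R ⧸ I) N'] (g : N →ₗ[R ⧸ I] N')
    (x : N ⊗[R ⧸ I] ((R ⧸ I) ⊗[R] M)) :
    TensorProduct.AlgebraTensorModule.cancelBaseChange R (R ⧸ I) (R ⧸ I) N' M
      (rTensor ((R ⧸ I) ⊗[R] M) g x) =
    rTensor M (g.restrictScalars R)
      (TensorProduct.AlgebraTensorModule.cancelBaseChange R (R ⧸ I) (R ⧸ I) N M x) := by
  induction x using TensorProduct.induction_on with
  | zero => simp
  | add a b ha hb => simp only [map_add, ha, hb]
  | tmul n y =>
    induction y using TensorProduct.induction_on with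
    | zero => simp
    | add a b ha hb => simp only [tmul_add, map_add, ha, hb]
    | tmul a m => simp

end nat

variable {R S : Type u} [CommRing R] [CommRing S] [IsLocalRing R] [IsLocalRing S]
  [IsNoetherianRing R] [IsNoetherianRing S] [Algebra R S] [IsLocalHom (algebraMap R S)]
  {M : Type u} [AddCommGroup M] [Module R M] [Module S M] [IsScalarTower R S M]

theorem flat_of_quotient [Module.Finite S M] (I : Ideal R) (hI : I ≠ ⊤)
    (h1 : Injective (rTensor M I.subtype))
    (h2 : Module.Flat (R ⧸ I) ((R ⧸ I) ⊗[R] M)) : Module.Flat R M := by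
  apply Groth.Agent.Helper2.LocCrit.flat_of_rTensor_injective (S := S)
  have hIm : I ≤ maximalIdeal R := le_maximalIdeal hI
  set mbar : Ideal (R ⧸ I) := (maximalIdeal R).map (Ideal.Quotient.mk I) with hmbar
  -- q : m → m̄
  let q : maximalIdeal R →ₗ[R] mbar :=
    LinearMap.codRestrict (mbar.restrictScalars R)
      ((Ideal.Quotient.mkₐ R I).toLinearMap ∘ₗ (maximalIdeal R).subtype)
      (fun r => Ideal.mem_map_of_mem _ r.2)
  have hq : Surjective q := by
    rintro ⟨y, hy⟩
    rw [hmbar, Ideal.mem_map_iff_of_surjective _ Ideal.Quotient.mk_surjective] at hy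
    obtain ⟨r, hr, rfl⟩ := hy
    exact ⟨⟨r, hr⟩, rfl⟩
  have hex : Exact (Submodule.inclusion hIm) q := by
    intro r
    constructor
    · intro hr
      have : (Ideal.Quotient.mk I) (r : R) = 0 := congrArg Subtype.val hr
      rw [Ideal.Quotient.eq_zero_iff_mem] at this
      exact ⟨⟨r, this⟩, rfl⟩
    · rintro ⟨i, rfl⟩
      apply Subtype.ext
      change (Ideal.Quotient.mk I) (i : R) = 0
      rw [Ideal.Quotient.eq_zero_iff_mem]
      exact i.2
  have hex2 := rTensor_exact M hex hq
  rw [injective_iff_map_eq_zero]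
  intro x hx
  -- x̄ = 0
  have hxbar : rTensor M q x = 0 := by
    let e := TensorProduct.AlgebraTensorModule.cancelBaseChange R (R ⧸ I) (R ⧸ I) mbar M
    let e' := TensorProduct.AlgebraTensorModule.cancelBaseChange R (R ⧸ I) (R ⧸ I) (R ⧸ I) M
    have hinj : Injective (rTensor ((R ⧸ I) ⊗[R] M) mbar.subtype) :=
      Module.Flat.rTensor_preserves_injective_linearMap _ mbar.injective_subtype
    have h3 : rTensor ((R ⧸ I) ⊗[R] M) mbar.subtype (e.symm (rTensor M q x)) = 0 := by
      apply e'.injective
      rw [map_zero, cancel_natural I mbar.subtype, LinearEquiv.apply_symm_apply,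
        ← LinearMap.comp_apply, ← LinearMap.rTensor_comp]
      have : mbar.subtype.restrictScalars R ∘ₗ q =
          (Ideal.Quotient.mkₐ R I).toLinearMap ∘ₗ (maximalIdeal R).subtype := by
        ext r; rfl
      rw [this, LinearMap.rTensor_comp, LinearMap.comp_apply, hx, map_zero]
    have h4 := (injective_iff_map_eq_zero _).1 hinj _ h3
    simpa using h4
  obtain ⟨w, rfl⟩ := (hex2 x).1 hxbar
  have hw : rTensor M I.subtype w = 0 := by
    rw [← hx, ← LinearMap.comp_apply, ← LinearMap.rTensor_comp]
    rfl
  rw [(injective_iff_map_eq_zero _).1 h1 w hw, map_zero]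

end Groth.Agent.Helper2.LocCrit2
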