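import Mathlib
import Groth.Agent.Helper2.LocCrit2

set_option autoImplicit false
open RingTheory.Sequence Pointwise Function TensorProduct IsLocalRing LinearMap
universe u v

namespace Groth.Agent.Helper2.TorReg

section tor
variable {A : Type u} [CommRing A] {M : Type v} [AddCommGroup M] [Module A M]

/-- `J ⊗ M → M` -/
noncomputable def muI (J : Ideal A) : J ⊗[A] M →ₗ[A] M :=
  (TensorProduct.lid A M).toLinearMap ∘ₗ rTensor M J.subtype

@[simp] lemma muI_tmul (J : Ideal A) (j : J) (m : M) : muI J (j ⊗ₜ m) = (j : A) • m := by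
  simp [muI]

lemma muI_mem (J : Ideal A) (y : J ⊗[A] M) : muI J y ∈ (J • ⊤ : Submodule A M) := by
  induction y using TensorProduct.induction_on with
  | zero => simp
  | add a b ha hb => rw [map_add]; exact add_mem ha hb
  | tmul j m => rw [muI_tmul]; exact Submodule.smul_mem_smul j.2 trivial

lemma exists_muI_eq (J : Ideal A) (z : M) (hz : z ∈ (J • ⊤ : Submodule A M)) :
    ∃ y, muI J y = z := by
  induction hz using Submodule.smul_induction_on' with
  | smul j hj n hn => exact ⟨⟨j, hj⟩ ⊗ₜ n, by simp⟩
  | add x _ y _ hx hy =>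
    obtain ⟨y1, h1⟩ := hx
    obtain ⟨y2, h2⟩ := hy
    exact ⟨y1 + y2, by rw [map_add, h1, h2]⟩

lemma muI_injective_iff (J : Ideal A) :
    Injective (muI (M := M) J) ↔ Injective (rTensor M J.subtype) := by
  unfold muI
  rw [LinearMap.coe_comp, LinearEquiv.coe_coe]
  exact (TensorProduct.lid A M).injective.of_comp_iff _

lemma step2 (J : Ideal A) (f : A)
    (hfM : ∀ z : M, f • z ∈ (J • ⊤ : Submodule A M) → z ∈ (J • ⊤ : Submodule A M))
    (hJ : Injective (rTensor M J.subtype)) :
    Injective (rTensor M (J ⊔ Ideal.span {f}).subtype) := by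
  rw [← muI_injective_iff] at hJ ⊢
  have hf' : f ∈ J ⊔ Ideal.span {f} := Ideal.mem_sup_right (Ideal.mem_span_singleton_self f)
  let g : J →ₗ[A] J := LinearMap.codRestrict J ((LinearMap.mulRight A f).comp J.subtype)
    (fun a => by simpa using J.mul_mem_right f a.2)
  let α : J →ₗ[A] (J × A) := (-g).prod J.subtype
  let h : A →ₗ[A] ↥(J ⊔ Ideal.span {f}) :=
    LinearMap.toSpanSingleton A ↥(J ⊔ Ideal.span {f}) ⟨f, hf'⟩
  let β : (J × A) →ₗ[A] ↥(J ⊔ Ideal.span {f}) := (Submodule.inclusion le_sup_left).coprod h
  have hβ : Surjective β := by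
    rintro ⟨x, hx⟩
    obtain ⟨i, hi, y, hy, rfl⟩ := Submodule.mem_sup.1 hx
    obtain ⟨r, rfl⟩ := Ideal.mem_span_singleton'.1 hy
    refine ⟨(⟨i, hi⟩, r), ?_⟩
    ext
    simp [β, h]
  have hβα : β ∘ₗ α = 0 := by
    ext a
    simp [β, α, h, g]
  have F1 : ∀ u : (J × A) ⊗[A] M, muI (J ⊔ Ideal.span {f}) (rTensor M β u) =
      muI J (rTensor M (LinearMap.fst A J A) u) +
        f • (TensorProduct.lid A M) (rTensor M (LinearMap.snd A J A) u) := by
    intro u
    induction u using TensorProduct.induction_on with
    | zero => simp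
    | add a b ha hb => simp only [map_add, ha, hb, smul_add]; abel
    | tmul p m =>
      obtain ⟨j, a⟩ := p
      simp [β, h, add_smul, mul_smul, smul_comm f a m]
  have F2 : ∀ y' : J ⊗[A] M, muI J (rTensor M g y') = f • muI J y' := by
    intro y'
    induction y' using TensorProduct.induction_on with
    | zero => simp
    | add a b ha hb => simp only [map_add, ha, hb, smul_add]
    | tmul j m => simp [g, mul_smul, smul_comm f (j : A) m]
  have F5 : ∀ u : (J × A) ⊗[A] M, rTensor M (LinearMap.fst A J A) u = 0 →
      rTensor M (LinearMap.snd A J A) u = 0 → u = 0 := by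
    intro u h1 h2
    have hid : LinearMap.inl A J A ∘ₗ LinearMap.fst A J A +
        LinearMap.inr A J A ∘ₗ LinearMap.snd A J A = LinearMap.id := by
      ext p <;> simp
    have : u = rTensor M (LinearMap.inl A J A ∘ₗ LinearMap.fst A J A +
        LinearMap.inr A J A ∘ₗ LinearMap.snd A J A) u := by
      rw [hid]; simp
    rw [this, LinearMap.rTensor_add, LinearMap.add_apply, LinearMap.rTensor_comp,
      LinearMap.rTensor_comp, LinearMap.comp_apply, LinearMap.comp_apply, h1, h2]
    simp
  rw [injective_iff_map_eq_zero]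
  intro x hx
  obtain ⟨u, rfl⟩ := LinearMap.rTensor_surjective M hβ x
  rw [F1] at hx
  set y := rTensor M (LinearMap.fst A J A) u with hy
  set z := (TensorProduct.lid A M) (rTensor M (LinearMap.snd A J A) u) with hz
  have hz1 : z ∈ (J • ⊤ : Submodule A M) := by
    apply hfM
    have : f • z = -muI J y := by
      rw [eq_neg_iff_add_eq_zero, add_comm]; exact hx
    rw [this]
    exact neg_mem (muI_mem J y)
  obtain ⟨y', hy'⟩ := exists_muI_eq J z hz1
  have hu : u - rTensor M α y' = 0 := by
    apply F5
    · rw [map_sub, ← LinearMap.comp_apply, ← LinearMap.rTensor_comp]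
      have : LinearMap.fst A J A ∘ₗ α = -g := by simp [α, LinearMap.fst_prod]
      rw [this, LinearMap.rTensor_neg, LinearMap.neg_apply, sub_neg_eq_add]
      apply hJ
      rw [map_add, F2, hy', map_zero]
      exact hx
    · apply (TensorProduct.lid A M).injective
      rw [map_sub, ← LinearMap.comp_apply, ← LinearMap.rTensor_comp]
      have : LinearMap.snd A J A ∘ₗ α = J.subtype := by simp [α, LinearMap.snd_prod]
      rw [this, map_sub, map_zero, ← hz]
      have : (TensorProduct.lid A M) (rTensor M J.subtype y') = muI J y' := rfl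
      rw [this, hy', sub_self]
  rw [sub_eq_zero] at hu
  rw [hu, ← LinearMap.comp_apply, ← LinearMap.rTensor_comp, hβα]
  simp

/-- `Tor₁(A/J, M) = 0` for `J` generated by an `M`-regular sequence. -/
lemma rTensor_injective_of_isWeaklyRegular (fs : List A) (hM : IsWeaklyRegular M fs) :
    Injective (rTensor M (Ideal.ofList fs).subtype) := by
  induction fs using List.reverseRecOn with
  | nil =>
    have : Subsingleton ((Ideal.ofList ([] : List A)) ⊗[A] M) := by
      have : Subsingleton (Ideal.ofList ([] : List A)) := by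
        rw [Ideal.ofList_nil]
        exact ⟨fun a b => Subtype.ext ((Submodule.mem_bot A).1 a.2 ▸ ((Submodule.mem_bot A).1 b.2).symm ▸ rfl)⟩
      infer_instance
    exact Function.injective_of_subsingleton _
  | append_singleton l f ih =>
    rw [isWeaklyRegular_append_iff, isWeaklyRegular_singleton_iff] at hM
    have h1 := ih hM.1
    have h2 := (isSMulRegular_quotient_iff_mem_of_smul_mem _ f).1 hM.2
    have := step2 (Ideal.ofList l) f h2 h1
    rw [Ideal.ofList_append, Ideal.ofList_singleton]
    exact this

end tor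

end Groth.Agent.Helper2.TorReg
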