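import Mathlib
import Groth.Agent.Helper2.LocCrit2
import Groth.Agent.Helper2.TorReg

set_option autoImplicit false
open Function TensorProduct LinearMap IsLocalRing
universe u v

namespace Groth.Agent.Helper2.FibreCrit

section descent
variable {R S : Type u} [CommRing R] [CommRing S] [Algebra R S]
  {M : Type u} [AddCommGroup M] [Module S M] [Module R M] [IsScalarTower R S M]

lemma cancel_natural₂ {J J' : Type u} [AddCommGroup J] [Module R J] [AddCommGroup J'] [Module R J']
    (g : J →ₗ[R] J') (x : M ⊗[S] (S ⊗[R] J)) :
    TensorProduct.AlgebraTensorModule.cancelBaseChange R S S M J'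
      ((g.baseChange S).lTensor M x) =
    (g.lTensor M) (TensorProduct.AlgebraTensorModule.cancelBaseChange R S S M J x) := by
  induction x using TensorProduct.induction_on with
  | zero => simp
  | add a b ha hb => simp only [map_add, ha, hb]
  | tmul m y =>
    induction y using TensorProduct.induction_on with
    | zero => simp
    | add a b ha hb => simp only [tmul_add, map_add, ha, hb]
    | tmul s j => simp

/-- descent of flatness along a faithfully flat module -/
lemma flat_of_faithfullyFlat_module [Module.FaithfullyFlat S M] [Module.Flat R M] :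
    Module.Flat R S := by
  rw [Module.Flat.iff_lTensor_injective']
  intro J
  have h1 : Injective (J.subtype.baseChange S) := by
    rw [← Module.FaithfullyFlat.lTensor_injective_iff_injective S M]
    have h2 : Injective (J.subtype.lTensor M) :=
      Module.Flat.lTensor_preserves_injective_linearMap _ J.injective_subtype
    rw [injective_iff_map_eq_zero]
    intro x hx
    have := congrArg (TensorProduct.AlgebraTensorModule.cancelBaseChange R S S M R) hx
    rw [cancel_natural₂, map_zero] at this
    have h3 := (injective_iff_map_eq_zero _).1 h2 _ this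
    exact (LinearEquiv.map_eq_zero_iff _).1 h3
  intro x y hxy
  apply h1
  simpa [LinearMap.baseChange_eq_ltensor] using hxy

end descent

section tor
variable {R S : Type u} [CommRing R] [CommRing S] [Algebra R S] (𝔪 : Ideal R)
  {M : Type u} [AddCommGroup M] [Module S M] [Module R M] [IsScalarTower R S M]

open Groth.Agent.Helper2.TorReg

/-- `𝔪 ⊗_R M → 𝔪S ⊗_S M` -/
noncomputable def psi : 𝔪 ⊗[R] M →+ ↥(𝔪.map (algebraMap R S)) ⊗[S] M :=
  TensorProduct.liftAddHom
    { toFun := fun r =>
        { toFun := fun m => (⟨algebraMap R S r, Ideal.mem_map_of_mem _ r.2⟩ :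
            ↥(𝔪.map (algebraMap R S))) ⊗ₜ[S] m
          map_zero' := by simp
          map_add' := fun a b => by simp [tmul_add] }
      map_zero' := by
        ext m
        simp only [ZeroMemClass.coe_zero, map_zero, AddMonoidHom.coe_mk, ZeroHom.coe_mk,
          AddMonoidHom.zero_apply]
        exact zero_tmul _ _
      map_add' := fun a b => by
        ext m
        simp only [AddMonoidHom.coe_mk, ZeroHom.coe_mk, AddMonoidHom.add_apply]
        rw [← add_tmul]
        congr 1
        exact Subtype.ext (map_add _ _ _) }
    (fun a r m => by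
      simp only [AddMonoidHom.coe_mk, ZeroHom.coe_mk]
      rw [← algebraMap_smul S a m, ← TensorProduct.smul_tmul]
      congr 1
      apply Subtype.ext
      simp [Algebra.smul_def])

lemma psi_tmul (r : 𝔪) (m : M) : psi (S := S) 𝔪 (r ⊗ₜ m) =
    (⟨algebraMap R S r, Ideal.mem_map_of_mem _ r.2⟩ : ↥(𝔪.map (algebraMap R S))) ⊗ₜ[S] m := rfl

lemma psi_surjective : Surjective (psi (S := S) (M := M) 𝔪) := by
  intro x
  induction x using TensorProduct.induction_on with
  | zero => exact ⟨0, map_zero _⟩
  | add a b ha hb =>
    obtain ⟨a', rfl⟩ := ha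
    obtain ⟨b', rfl⟩ := hb
    exact ⟨a' + b', map_add _ _ _⟩
  | tmul i m =>
    obtain ⟨i, hi⟩ := i
    induction hi using Submodule.span_induction generalizing m with
    | mem x hx =>
      obtain ⟨r, hr, rfl⟩ := hx
      exact ⟨⟨r, hr⟩ ⊗ₜ m, rfl⟩
    | zero =>
      refine ⟨0, ?_⟩
      rw [map_zero]
      rw [show (⟨0, _⟩ : ↥(𝔪.map (algebraMap R S))) = 0 from rfl, zero_tmul]
    | add x y hx hy ihx ihy =>
      obtain ⟨a', ha'⟩ := ihx m
      obtain ⟨b', hb'⟩ := ihy m
      refine ⟨a' + b', ?_⟩
      rw [map_add, ha', hb', ← add_tmul]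
      rfl
    | smul c x hx ihx =>
      obtain ⟨a', ha'⟩ := ihx (c • m)
      refine ⟨a', ?_⟩
      rw [ha', ← TensorProduct.smul_tmul]
      rfl

lemma muI_psi (y : 𝔪 ⊗[R] M) :
    muI (𝔪.map (algebraMap R S)) (psi (S := S) 𝔪 y) = muI 𝔪 y := by
  induction y using TensorProduct.induction_on with
  | zero => simp
  | add a b ha hb => simp only [map_add, ha, hb]
  | tmul r m => rw [psi_tmul, muI_tmul, muI_tmul, algebraMap_smul]

lemma rTensor_map_injective [Module.Flat R M] :
    Injective (rTensor M (𝔪.map (algebraMap R S)).subtype) := by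
  rw [← muI_injective_iff, injective_iff_map_eq_zero]
  intro x hx
  obtain ⟨y, rfl⟩ := psi_surjective 𝔪 x
  rw [muI_psi] at hx
  have : Injective (muI (M := M) 𝔪) := by
    rw [muI_injective_iff]
    exact Module.Flat.rTensor_preserves_injective_linearMap _ 𝔪.injective_subtype
  rw [(injective_iff_map_eq_zero _).1 this y hx, map_zero]

end tor

end Groth.Agent.Helper2.FibreCrit
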