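import Mathlib
import Groth.Agent.Helper2.LocCrit2
import Groth.Agent.Helper2.TorReg
import Groth.Agent.Helper2.FibreCrit

set_option autoImplicit false
open Function TensorProduct LinearMap
open Groth.Agent.Helper2.TorReg
universe u

namespace Groth.Agent.Helper2.NilpCrit

section torsion
variable {S : Type u} [CommRing S] (J : Ideal S) {M : Type u} [AddCommGroup M] [Module S M]

/-- (L): injections between `J`-torsion modules stay injective after `⊗ M` if `M/JM` is
flat over `S/J`. -/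
lemma rTensor_injective_of_torsion {N' N : Type u} [AddCommGroup N'] [Module S N']
    [AddCommGroup N] [Module S N]
    (hN' : Module.IsTorsionBySet S N' J) (hN : Module.IsTorsionBySet S N J)
    (ι : N' →ₗ[S] N) (hι : Injective ι)
    [Module.Flat (S ⧸ J) ((S ⧸ J) ⊗[S] M)] : Injective (rTensor M ι) := by
  let _ := hN'.module
  let _ := hN.module
  let ι' : N' →ₗ[S ⧸ J] N :=
    { ι with
      map_smul' := by
        intro s x
        obtain ⟨s, rfl⟩ := Ideal.Quotient.mk_surjective s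
        change ι (s • x) = s • ι x
        exact map_smul ι s x }
  have hι' : Injective (rTensor ((S ⧸ J) ⊗[S] M) ι') :=
    Module.Flat.rTensor_preserves_injective_linearMap ι' hι
  have hres : ι'.restrictScalars S = ι := by
    ext x; rfl
  let e' := TensorProduct.AlgebraTensorModule.cancelBaseChange S (S ⧸ J) (S ⧸ J) N' M
  let e := TensorProduct.AlgebraTensorModule.cancelBaseChange S (S ⧸ J) (S ⧸ J) N M
  rw [injective_iff_map_eq_zero]
  intro x hx
  have h1 : rTensor ((S ⧸ J) ⊗[S] M) ι' (e'.symm x) = 0 := by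
    apply e.injective
    rw [map_zero, Groth.Agent.Helper2.LocCrit2.cancel_natural J ι', LinearEquiv.apply_symm_apply,
      hres, hx]
  have h2 := (injective_iff_map_eq_zero _).1 hι' _ h1
  simpa using h2

end torsion

section main
variable {S : Type u} [CommRing S] (J : Ideal S) {M : Type u} [AddCommGroup M] [Module S M]

lemma muI_inclusion {𝔞 𝔟 : Ideal S} (h : 𝔞 ≤ 𝔟) (x : 𝔞 ⊗[S] M) :
    muI 𝔟 (rTensor M (Submodule.inclusion h) x) = muI 𝔞 x := by
  induction x using TensorProduct.induction_on with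
  | zero => simp
  | add a b ha hb => simp only [map_add, ha, hb]
  | tmul a m => simp

/-- one step of the filtration argument -/
lemma step (𝔞 : Ideal S) (j : ℕ) (hJj : Injective (rTensor M (J ^ j).subtype))
    [Module.Flat (S ⧸ J) ((S ⧸ J) ⊗[S] M)]
    (x : 𝔞 ⊗[S] M) (hx : muI 𝔞 x = 0)
    (hxj : x ∈ LinearMap.range (rTensor M (Submodule.inclusion
      (inf_le_left : 𝔞 ⊓ J ^ j ≤ 𝔞)))) :
    x ∈ LinearMap.range (rTensor M (Submodule.inclusion
      (inf_le_left : 𝔞 ⊓ J ^ (j + 1) ≤ 𝔞))) := by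
  obtain ⟨xj, rfl⟩ := hxj
  rw [muI_inclusion] at hx
  -- image in J^j ⊗ M vanishes
  have hy : rTensor M (Submodule.inclusion (inf_le_right : 𝔞 ⊓ J ^ j ≤ J ^ j)) xj = 0 := by
    rw [← muI_injective_iff] at hJj
    apply hJj
    rw [muI_inclusion, hx, map_zero]
  -- the quotients
  let K' : Submodule S ↥(𝔞 ⊓ J ^ j) := Submodule.comap (𝔞 ⊓ J ^ j).subtype (J ^ (j + 1))
  let K : Submodule S ↥(J ^ j) := Submodule.comap (J ^ j).subtype (J ^ (j + 1))
  have hKK' : K' ≤ Submodule.comap (Submodule.inclusion (inf_le_right : 𝔞 ⊓ J ^ j ≤ J ^ j)) K := by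
    intro a ha
    exact ha
  let ιq : (↥(𝔞 ⊓ J ^ j) ⧸ K') →ₗ[S] (↥(J ^ j) ⧸ K) :=
    Submodule.mapQ K' K (Submodule.inclusion inf_le_right) hKK'
  have hιq : Injective ιq := by
    rw [← LinearMap.ker_eq_bot, eq_bot_iff]
    intro a ha
    obtain ⟨a, rfl⟩ := Submodule.Quotient.mk_surjective _ a
    rw [LinearMap.mem_ker, Submodule.mapQ_apply, Submodule.Quotient.mk_eq_zero] at ha
    rw [Submodule.mem_bot, Submodule.Quotient.mk_eq_zero]
    exact ha
  have htors' : Module.IsTorsionBySet S (↥(𝔞 ⊓ J ^ j) ⧸ K') J := by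
    intro a s
    obtain ⟨a, rfl⟩ := Submodule.Quotient.mk_surjective _ a
    rw [← Submodule.Quotient.mk_smul, Submodule.Quotient.mk_eq_zero]
    change ((s : S) • a : ↥(𝔞 ⊓ J ^ j)).1 ∈ J ^ (j + 1)
    rw [pow_succ']
    exact Ideal.mul_mem_mul s.2 a.2.2
  have htors : Module.IsTorsionBySet S (↥(J ^ j) ⧸ K) J := by
    intro a s
    obtain ⟨a, rfl⟩ := Submodule.Quotient.mk_surjective _ a
    rw [← Submodule.Quotient.mk_smul, Submodule.Quotient.mk_eq_zero]
    change ((s : S) • a : ↥(J ^ j)).1 ∈ J ^ (j + 1)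
    rw [pow_succ']
    exact Ideal.mul_mem_mul s.2 a.2
  have hL := rTensor_injective_of_torsion (M := M) J htors' htors ιq hιq
  have hxbar : rTensor M K'.mkQ xj = 0 := by
    apply hL
    rw [map_zero, ← LinearMap.comp_apply, ← LinearMap.rTensor_comp]
    have : ιq ∘ₗ K'.mkQ = K.mkQ ∘ₗ Submodule.inclusion (inf_le_right : 𝔞 ⊓ J ^ j ≤ J ^ j) := by
      ext a; rfl
    rw [this, LinearMap.rTensor_comp, LinearMap.comp_apply, hy, map_zero]
  have hex := rTensor_exact M (LinearMap.exact_subtype_mkQ K') (Submodule.mkQ_surjective K')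
  obtain ⟨w, rfl⟩ := (hex xj).1 hxbar
  let κ : K' →ₗ[S] ↥(𝔞 ⊓ J ^ (j + 1)) :=
    LinearMap.codRestrict (𝔞 ⊓ J ^ (j + 1)) ((𝔞 ⊓ J ^ j).subtype ∘ₗ K'.subtype)
      (fun a => ⟨a.1.2.1, a.2⟩)
  refine ⟨rTensor M κ w, ?_⟩
  rw [← LinearMap.comp_apply, ← LinearMap.rTensor_comp, ← LinearMap.comp_apply,
    ← LinearMap.rTensor_comp]
  rfl

theorem flat_of_nilpotent (hJ : IsNilpotent J)
    (h1 : ∀ j : ℕ, Injective (rTensor M (J ^ j).subtype))
    [Module.Flat (S ⧸ J) ((S ⧸ J) ⊗[S] M)] : Module.Flat S M := by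
  rw [Module.Flat.iff_rTensor_injective']
  intro 𝔞
  rw [← muI_injective_iff, injective_iff_map_eq_zero]
  intro x hx
  have key : ∀ j : ℕ, x ∈ LinearMap.range (rTensor M (Submodule.inclusion
      (inf_le_left : 𝔞 ⊓ J ^ j ≤ 𝔞))) := by
    intro j
    induction j with
    | zero =>
      have hsurj : Surjective (Submodule.inclusion (inf_le_left : 𝔞 ⊓ J ^ 0 ≤ 𝔞)) := by
        rintro ⟨a, ha⟩
        exact ⟨⟨a, ha, by simp⟩, rfl⟩
      exact LinearMap.range_eq_top.2 (LinearMap.rTensor_surjective M hsurj) ▸ Submodule.mem_top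
    | succ j ih => exact step J 𝔞 j (h1 j) x hx ih
  obtain ⟨n, hn⟩ := hJ
  obtain ⟨w, rfl⟩ := key n
  have hsub : Subsingleton ↥(𝔞 ⊓ J ^ n) := by
    rw [hn, Submodule.zero_eq_bot, inf_bot_eq]
    infer_instance
  have : w = 0 := Subsingleton.elim _ _
  rw [this, map_zero]

end main

end Groth.Agent.Helper2.NilpCrit
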