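import Mathlib
import Groth.Agent.Helper2.NilpCrit
import Groth.Agent.Helper1.FlatKrull

set_option autoImplicit false
open TensorProduct Function LinearMap
universe u

namespace Groth.Agent.Helper2.AdicFlat

section
variable {R : Type u} [CommRing R]

/-- `M ⊗ -` preserves injections between `K`-torsion modules. -/
def TorsionFlat (K : Ideal R) (M : Type u) [AddCommGroup M] [Module R M] : Prop :=
  ∀ (N' N : Type u) [AddCommGroup N'] [Module R N'] [AddCommGroup N] [Module R N],
    Module.IsTorsionBySet R N' K → Module.IsTorsionBySet R N K →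
    ∀ ι : N' →ₗ[R] N, Injective ι → Injective (lTensor M ι)

lemma torsionFlat_of_flat (K : Ideal R) (M : Type u) [AddCommGroup M] [Module R M]
    [Module.Flat (R ⧸ K) ((R ⧸ K) ⊗[R] M)] : TorsionFlat K M := by
  intro N' N _ _ _ _ hN' hN ι hι
  have h := Groth.Agent.Helper2.NilpCrit.rTensor_injective_of_torsion K (M := M) hN' hN ι hι
  have : lTensor M ι = (TensorProduct.comm R N M).toLinearMap ∘ₗ rTensor M ι ∘ₗ
      (TensorProduct.comm R M N').toLinearMap := by
    ext; simp
  rw [this]
  simp only [LinearMap.coe_comp, LinearEquiv.coe_coe]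
  exact (TensorProduct.comm R N M).injective.comp (h.comp (TensorProduct.comm R M N').injective)

lemma TorsionFlat.localized {K : Ideal R} {S : Type u} [CommRing S] [Algebra R S]
    {M : Type u} [AddCommGroup M] [Module R M] [Module S M] [IsScalarTower R S M]
    (T : Submonoid S) (h : TorsionFlat K M) : TorsionFlat K (LocalizedModule T M) := by
  intro N' N _ _ _ _ hN' hN ι hι
  have h1 := h N' N hN' hN ι hι
  have h2 := IsLocalizedModule.map_lTensor (R := R) S T ι (LocalizedModule.mkLinearMap T M)
  have h3 : Injective (IsLocalizedModule.map T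
      (AlgebraTensorModule.rTensor R N' (LocalizedModule.mkLinearMap T M))
      (AlgebraTensorModule.rTensor R N (LocalizedModule.mkLinearMap T M))
      (AlgebraTensorModule.lTensor S M ι)) :=
    IsLocalizedModule.map_injective T _ _ _ h1
  rw [h2] at h3
  exact h3

theorem mem_range_of_torsionFlat [IsNoetherianRing R] (I : Ideal R)
    (M : Type u) [AddCommGroup M] [Module R M]
    (h : ∀ k, 0 < k → TorsionFlat (I ^ k) M) (J : Ideal R) (x : M ⊗[R] J)
    (hx : lTensor M J.subtype x = 0) (n : ℕ) :
    x ∈ LinearMap.range (lTensor M (Submodule.inclusion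
      (show I ^ n • J ≤ J from Submodule.smul_le_right))) := by
  obtain ⟨c, hc⟩ := Ideal.exists_pow_inf_eq_pow_smul I (J : Submodule R R)
  set k := n + c + 1 with hk
  have hAR : J ⊓ I ^ k ≤ I ^ n • J := by
    have := hc k (by omega)
    intro y hy
    have hy' : y ∈ I ^ k • (⊤ : Submodule R R) ⊓ J := by
      refine ⟨?_, hy.1⟩
      simpa using hy.2
    rw [this] at hy'
    have hkc : k - c = n + 1 := by omega
    rw [hkc] at hy'
    exact Submodule.smul_mono (Ideal.pow_le_pow_right (by omega)) inf_le_right hy'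
  let K' : Submodule R J := Submodule.comap J.subtype (I ^ k)
  let f : J →ₗ[R] (R ⧸ I ^ k) := (I ^ k).mkQ ∘ₗ J.subtype
  have hKf : K' ≤ LinearMap.ker f := by
    intro z hz
    rw [LinearMap.mem_ker]
    show (I ^ k).mkQ (z : R) = 0
    rw [Submodule.mkQ_apply, Submodule.Quotient.mk_eq_zero]
    exact hz
  let ι : (J ⧸ K') →ₗ[R] (R ⧸ I ^ k) := K'.liftQ f hKf
  have hι : Injective ι := by
    rw [← LinearMap.ker_eq_bot]
    apply Submodule.ker_liftQ_eq_bot
    intro z hz
    rw [LinearMap.mem_ker] at hz
    have hz' : (I ^ k).mkQ (z : R) = 0 := hz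
    rw [Submodule.mkQ_apply, Submodule.Quotient.mk_eq_zero] at hz'
    exact hz'
  have hN' : Module.IsTorsionBySet R (J ⧸ K') (I ^ k : Ideal R) := by
    intro z a
    obtain ⟨j, rfl⟩ := Submodule.Quotient.mk_surjective _ z
    rw [← Submodule.Quotient.mk_smul, Submodule.Quotient.mk_eq_zero]
    show ((a : R) • j : J).1 ∈ I ^ k
    exact Ideal.mul_mem_right _ _ a.2
  have hN : Module.IsTorsionBySet R (R ⧸ I ^ k) (I ^ k : Ideal R) := by
    intro z a
    obtain ⟨r, rfl⟩ := Submodule.Quotient.mk_surjective _ z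
    rw [← Submodule.Quotient.mk_smul, Submodule.Quotient.mk_eq_zero]
    exact Ideal.mul_mem_right _ _ a.2
  have hT := h k (by omega) (J ⧸ K') (R ⧸ I ^ k) hN' hN ι hι
  have hex : Exact (lTensor M K'.subtype) (lTensor M K'.mkQ) :=
    lTensor_exact M (LinearMap.exact_subtype_mkQ K') (Submodule.mkQ_surjective K')
  have h0 : lTensor M K'.mkQ x = 0 := by
    apply hT
    rw [map_zero, ← LinearMap.comp_apply, ← LinearMap.lTensor_comp]
    have : ι ∘ₗ K'.mkQ = f := Submodule.liftQ_mkQ K' f hKf
    rw [this, LinearMap.lTensor_comp, LinearMap.comp_apply, hx, map_zero]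
  obtain ⟨y, hy⟩ := (hex x).1 h0
  let φ : K' →ₗ[R] ↥(I ^ n • J) := LinearMap.codRestrict (I ^ n • J) (J.subtype ∘ₗ K'.subtype)
    (fun z => hAR ⟨z.1.2, z.2⟩)
  have hφ : K'.subtype = Submodule.inclusion
      (show I ^ n • J ≤ J from Submodule.smul_le_right) ∘ₗ φ := by
    ext z; rfl
  refine ⟨lTensor M φ y, ?_⟩
  rw [← LinearMap.comp_apply, ← LinearMap.lTensor_comp, ← hφ, hy]

end

section
variable {R S : Type u} [CommRing R] [CommRing S] [Algebra R S]
  {M : Type u} [AddCommGroup M] [Module R M] [Module S M] [IsScalarTower R S M]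

lemma mem_smul_top_of_mem_range (I J : Ideal R) (t : ℕ) (x : M ⊗[R] J)
    (hx : x ∈ LinearMap.range (lTensor M (Submodule.inclusion
      (show I ^ t • J ≤ J from Submodule.smul_le_right)))) :
    x ∈ ((I.map (algebraMap R S)) ^ t • ⊤ : Submodule S (M ⊗[R] J)) := by
  obtain ⟨w, rfl⟩ := hx
  induction w using TensorProduct.induction_on with
  | zero => simp
  | add a b ha hb => rw [map_add]; exact add_mem ha hb
  | tmul u v =>
    obtain ⟨v, hv⟩ := v
    rw [LinearMap.lTensor_tmul]
    induction hv using Submodule.smul_induction_on' with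
    | smul r hr j hj =>
      have : (Submodule.inclusion (show I ^ t • J ≤ J from Submodule.smul_le_right))
          ⟨r • j, Submodule.smul_mem_smul hr hj⟩ = r • (⟨j, hj⟩ : J) := by
        ext; simp
      rw [this, TensorProduct.tmul_smul, ← algebraMap_smul S r (u ⊗ₜ[R] (⟨j, hj⟩ : J))]
      refine Submodule.smul_mem_smul ?_ trivial
      rw [← Ideal.map_pow]
      exact Ideal.mem_map_of_mem _ hr
    | add x hx y hy hx' hy' =>
      have : (Submodule.inclusion (show I ^ t • J ≤ J from Submodule.smul_le_right))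
          ⟨x + y, add_mem hx hy⟩ =
          (Submodule.inclusion (show I ^ t • J ≤ J from Submodule.smul_le_right))
            ⟨x, hx⟩ +
          (Submodule.inclusion (show I ^ t • J ≤ J from Submodule.smul_le_right))
            ⟨y, hy⟩ := by
        ext; simp
      rw [this, TensorProduct.tmul_add]
      exact add_mem hx' hy'

end

end Groth.Agent.Helper2.AdicFlat
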