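import Mathlib
import Groth.Prelude
import Groth.Agent.Helper2.AdicFlat
import Groth.Agent.Helper2.LocCrit2

set_option autoImplicit false
open TensorProduct Function LinearMap
universe u

namespace Groth.Agent.Helper2.FlatCL1

open Groth.Agent.Helper2.AdicFlat

section Basic
variable {R : Type u} [CommRing R]

lemma TorsionFlat.mono {J K : Ideal R} (h : J ≤ K) {M : Type u} [AddCommGroup M] [Module R M]
    (hM : TorsionFlat J M) : TorsionFlat K M := by
  intro N' N _ _ _ _ hN' hN ι hι
  refine hM N' N ?_ ?_ ι hι
  · intro x a; exact @hN' x ⟨a.1, h a.2⟩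
  · intro x a; exact @hN x ⟨a.1, h a.2⟩

lemma TorsionFlat.of_linearEquiv {K : Ideal R} {M M' : Type u} [AddCommGroup M] [Module R M]
    [AddCommGroup M'] [Module R M'] (e : M ≃ₗ[R] M') (hM : TorsionFlat K M) :
    TorsionFlat K M' := by
  intro N' N _ _ _ _ hN' hN ι hι
  have h1 := hM N' N hN' hN ι hι
  have : lTensor M' ι = (TensorProduct.congr e (LinearEquiv.refl R N)).toLinearMap ∘ₗ
      lTensor M ι ∘ₗ (TensorProduct.congr e (LinearEquiv.refl R N')).symm.toLinearMap := by
    apply TensorProduct.ext'
    intro m n
    simp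
  rw [this]
  simp only [LinearMap.coe_comp, LinearEquiv.coe_coe]
  exact (TensorProduct.congr e (LinearEquiv.refl R N)).injective.comp
    (h1.comp (TensorProduct.congr e (LinearEquiv.refl R N')).symm.injective)

/-- if some element of `K` acts surjectively on `M` then `M ⊗ N = 0` for `K`-torsion `N` -/
lemma torsionFlat_of_surjective_smul {K : Ideal R} {M : Type u} [AddCommGroup M] [Module R M]
    (a : R) (ha : a ∈ K) (hs : Surjective (fun m : M => a • m)) : TorsionFlat K M := by
  intro N' N _ _ _ _ hN' hN ι hι
  have : ∀ x : M ⊗[R] N', x = 0 := by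
    intro x
    induction x using TensorProduct.induction_on with
    | zero => rfl
    | add x y hx hy => rw [hx, hy, add_zero]
    | tmul m n =>
      obtain ⟨m', rfl⟩ := hs m
      change (a • m') ⊗ₜ[R] n = 0
      rw [TensorProduct.smul_tmul]
      have : a • n = 0 := @hN' n ⟨a, ha⟩
      rw [this, TensorProduct.tmul_zero]
  intro x y _
  rw [this x, this y]

theorem flat_of_torsionFlat (K : Ideal R) (M : Type u) [AddCommGroup M] [Module R M]
    (h : TorsionFlat K M) : Module.Flat (R ⧸ K) ((R ⧸ K) ⊗[R] M) := by
  rw [Module.Flat.iff_rTensor_preserves_injective_linearMap]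
  intro N' N _ _ _ _ ι hι
  letI : Module R N' := Module.compHom N' (Ideal.Quotient.mk K)
  letI : Module R N := Module.compHom N (Ideal.Quotient.mk K)
  haveI : IsScalarTower R (R ⧸ K) N' := IsScalarTower.of_algebraMap_smul (fun _ _ => rfl)
  haveI : IsScalarTower R (R ⧸ K) N := IsScalarTower.of_algebraMap_smul (fun _ _ => rfl)
  have hN' : Module.IsTorsionBySet R N' K := by
    intro x a
    change (Ideal.Quotient.mk K a.1) • x = 0
    rw [Ideal.Quotient.eq_zero_iff_mem.2 a.2, zero_smul]
  have hN : Module.IsTorsionBySet R N K := by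
    intro x a
    change (Ideal.Quotient.mk K a.1) • x = 0
    rw [Ideal.Quotient.eq_zero_iff_mem.2 a.2, zero_smul]
  have h1 := h N' N hN' hN (ι.restrictScalars R) hι
  have h2 : Injective (rTensor M (ι.restrictScalars R)) := by
    have : rTensor M (ι.restrictScalars R) = (TensorProduct.comm R M N).toLinearMap ∘ₗ
        lTensor M (ι.restrictScalars R) ∘ₗ (TensorProduct.comm R N' M).toLinearMap := by
      apply TensorProduct.ext'
      intro n m
      simp
    rw [this]
    simp only [LinearMap.coe_comp, LinearEquiv.coe_coe]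
    exact (TensorProduct.comm R M N).injective.comp
      (h1.comp (TensorProduct.comm R N' M).injective)
  let e' := TensorProduct.AlgebraTensorModule.cancelBaseChange R (R ⧸ K) (R ⧸ K) N' M
  let e := TensorProduct.AlgebraTensorModule.cancelBaseChange R (R ⧸ K) (R ⧸ K) N M
  rw [injective_iff_map_eq_zero]
  intro x hx
  have h3 : rTensor M (ι.restrictScalars R) (e' x) = 0 := by
    rw [← Groth.Agent.Helper2.LocCrit2.cancel_natural K ι, hx, map_zero]
  have h4 := (injective_iff_map_eq_zero _).1 h2 _ h3
  exact (LinearEquiv.map_eq_zero_iff e').1 h4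

theorem torsionFlat_iff_flat (K : Ideal R) (M : Type u) [AddCommGroup M] [Module R M] :
    TorsionFlat K M ↔ Module.Flat (R ⧸ K) ((R ⧸ K) ⊗[R] M) :=
  ⟨flat_of_torsionFlat K M, fun _ => torsionFlat_of_flat K M⟩

end Basic

section LocGlob
variable {R : Type u} [CommRing R] {S : Type u} [CommRing S] [Algebra R S]
  {M : Type u} [AddCommGroup M] [Module R M] [Module S M] [IsScalarTower R S M]

theorem TorsionFlat.of_localized_maximal (K : Ideal R)
    (h : ∀ (q : Ideal S) [q.IsMaximal], TorsionFlat K (LocalizedModule q.primeCompl M)) :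
    TorsionFlat K M := by
  intro N' N _ _ _ _ hN' hN ι hι
  have key : Injective (AlgebraTensorModule.lTensor S M ι) := by
    refine injective_of_isLocalized_maximal
      (fun (P : Ideal S) [P.IsMaximal] => LocalizedModule P.primeCompl M ⊗[R] N')
      (fun P _ => AlgebraTensorModule.rTensor R N' (LocalizedModule.mkLinearMap P.primeCompl M))
      (fun (P : Ideal S) [P.IsMaximal] => LocalizedModule P.primeCompl M ⊗[R] N)
      (fun P _ => AlgebraTensorModule.rTensor R N (LocalizedModule.mkLinearMap P.primeCompl M))
      _ (fun P hP => ?_)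
    have h1 := h P N' N hN' hN ι hι
    have h2 := IsLocalizedModule.map_lTensor (R := R) S P.primeCompl ι
      (LocalizedModule.mkLinearMap P.primeCompl M)
    rw [h2]
    exact h1
  exact key

end LocGlob

end Groth.Agent.Helper2.FlatCL1
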