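import Mathlib
import Groth.Prelude
import Groth.Agent.Helper8.GenFree6

set_option autoImplicit false

namespace Groth.Agent.Helper2.NormFlatLoc

open TensorProduct

universe u

section NF1
variable {A : Type*} [CommRing A] (S : Submonoid A) (A' : Type*) [CommRing A'] [Algebra A A']
  [IsLocalization S A'] {M M' : Type*} [AddCommGroup M] [AddCommGroup M'] [Module A M]
  [Module A M'] [Module A' M'] [IsScalarTower A A' M'] (f : M →ₗ[A] M') [IsLocalizedModule S f]
  (I : Ideal A)

lemma localized'_pow_smul_top (n : ℕ) :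
    (I ^ n • (⊤ : Submodule A M)).localized' A' S f =
      (I.map (algebraMap A A')) ^ n • (⊤ : Submodule A' M') := by
  rw [Submodule.localized'_smul, Ideal.localized'_eq_map, Submodule.localized'_top, Ideal.map_pow]

include f in
/-- the graded piece of the localization is the localization of the graded piece -/
theorem exists_isLocalizedModule_piece (n : ℕ) :
    ∃ φ : (↥(I ^ n • (⊤ : Submodule A M)) ⧸
        (I • (⊤ : Submodule A ↥(I ^ n • (⊤ : Submodule A M))))) →ₗ[A]
      (↥((I.map (algebraMap A A')) ^ n • (⊤ : Submodule A' M')) ⧸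
        ((I.map (algebraMap A A')) •
          (⊤ : Submodule A' ↥((I.map (algebraMap A A')) ^ n • (⊤ : Submodule A' M'))))),
      IsLocalizedModule S φ := by
  set N : Submodule A M := I ^ n • ⊤ with hN
  set I' : Ideal A' := I.map (algebraMap A A') with hI'
  set N' : Submodule A' M' := I' ^ n • ⊤ with hN'
  have h1 : N.localized' A' S f = N' := localized'_pow_smul_top S A' f I n
  let g : ↥N →ₗ[A] ↥(N.localized' A' S f) := N.toLocalized' A' S f
  let T : Submodule A ↥N := I • ⊤
  have h2 : T.localized' A' S g = I' • (⊤ : Submodule A' ↥(N.localized' A' S f)) := by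
    have h := Submodule.localized'_smul A' S g (⊤ : Submodule A ↥N) I
    have h' : (⊤ : Submodule A ↥N).localized' A' S g = ⊤ := Submodule.localized'_top A' S g
    rw [h', Ideal.localized'_eq_map] at h
    exact h
  let q : (↥N ⧸ T) →ₗ[A] (↥(N.localized' A' S f) ⧸ T.localized' A' S g) :=
    T.toLocalizedQuotient' A' S g
  haveI : IsLocalizedModule S q := inferInstance
  -- transport along the equalities
  let e1 : ↥(N.localized' A' S f) ≃ₗ[A'] ↥N' := LinearEquiv.ofEq _ _ h1
  have h3 : (T.localized' A' S g).map (e1 : ↥(N.localized' A' S f) →ₗ[A'] ↥N') =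
      I' • (⊤ : Submodule A' ↥N') := by
    rw [h2, Submodule.map_smul'', Submodule.map_top, LinearMap.range_eq_top.2 e1.surjective]
  let e2 : (↥(N.localized' A' S f) ⧸ T.localized' A' S g) ≃ₗ[A']
      (↥N' ⧸ (I' • (⊤ : Submodule A' ↥N'))) :=
    Submodule.Quotient.equiv _ _ e1 h3
  refine ⟨(e2.restrictScalars A).toLinearMap ∘ₗ q, ?_⟩
  exact IsLocalizedModule.of_linearEquiv S q (e2.restrictScalars A)

end NF1


section NF2
open Groth.Agent.Helper8.GenFree

variable {D : Type*} [CommRing D] (g : D) (D' : Type*) [CommRing D'] [Algebra D D']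
  [IsLocalization.Away g D']
  {G P P' : Type*} [AddCommGroup G] [Module D G] [AddCommGroup P] [Module D P]
  [AddCommGroup P'] [Module D P'] [Module D' P'] [IsScalarTower D D' P']

theorem flat_of_retract_of_GFat (hG : GFat D G g) (ι : P →ₗ[D] G) (π : G →ₗ[D] P)
    (hπι : π ∘ₗ ι = LinearMap.id) (φ : P →ₗ[D] P') [IsLocalizedModule (Submonoid.powers g) φ] :
    Module.Flat D' P' := by
  haveI : IsLocalization (Submonoid.powers g) D' := ‹IsLocalization.Away g D'›
  haveI hfree : Module.Free D' (D' ⊗[D] G) :=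
    hG.free_of_isLocalizedModule D' (D' ⊗[D] G) (TensorProduct.mk D D' G 1)
  haveI h1 : Module.Flat D' (D' ⊗[D] P) := by
    refine Module.Flat.of_retract (ι.baseChange D') (π.baseChange D') ?_
    rw [← LinearMap.baseChange_comp, hπι, LinearMap.baseChange_id]
  haveI : Module.Flat D D' := IsLocalization.flat D' (Submonoid.powers g)
  haveI h2 : Module.Flat D (D' ⊗[D] P) := Module.Flat.trans D D' _
  let e : P' ≃ₗ[D] D' ⊗[D] P :=
    IsLocalizedModule.linearEquiv (Submonoid.powers g) φ (TensorProduct.mk D D' P 1)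
  haveI h3 : Module.Flat D P' := Module.Flat.of_linearEquiv e
  exact (Module.flat_iff_of_isLocalization D' (Submonoid.powers g) P').2 h3

end NF2


section AbsGF
open Groth.Agent.Helper8.GenFree

variable (A : Type u) [CommRing A] (I : Ideal A) [I.IsPrime]
  (Rr : Type u) [CommRing Rr] [Algebra A Rr] [Algebra.FiniteType A Rr]
  (Mm : Type u) [AddCommGroup Mm] [Module Rr Mm] [Module A Mm] [IsScalarTower A Rr Mm]
  [Module.Finite Rr Mm]

omit [I.IsPrime] [Algebra.FiniteType A Rr] [Module.Finite Rr Mm] in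
lemma restrictScalars_map_smul_top :
    ((I.map (algebraMap A Rr)) • (⊤ : Submodule Rr Mm)).restrictScalars A =
      I • (⊤ : Submodule A Mm) := by
  apply le_antisymm
  · intro x hx
    rw [Submodule.restrictScalars_mem] at hx
    refine Submodule.smul_induction_on hx ?_ ?_
    · intro r hr m _
      -- r ∈ I.map: span induction
      have : ∀ r ∈ I.map (algebraMap A Rr), ∀ m : Mm, r • m ∈ I • (⊤ : Submodule A Mm) := by
        intro r hr
        refine Submodule.span_induction ?_ ?_ ?_ ?_ hr
        · rintro _ ⟨a, ha, rfl⟩ m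
          rw [algebraMap_smul]
          exact Submodule.smul_mem_smul ha Submodule.mem_top
        · intro m; rw [zero_smul]; exact zero_mem _
        · intro x y _ _ hx hy m; rw [add_smul]; exact add_mem (hx m) (hy m)
        · intro c x _ hx m; rw [smul_eq_mul, mul_comm, mul_smul]; exact hx _
      exact this r hr m
    · intro x y hx hy; exact add_mem hx hy
  · rw [Submodule.smul_le]
    intro a ha m _
    rw [Submodule.restrictScalars_mem, ← algebraMap_smul Rr a m]
    exact Submodule.smul_mem_smul (Ideal.mem_map_of_mem _ ha) Submodule.mem_top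

omit [Algebra.FiniteType A Rr] [Module Rr Mm] [IsScalarTower A Rr Mm] [Module.Finite Rr Mm]
  [Algebra A Rr] [CommRing Rr] in
theorem exists_GFat_quot (Rr : Type u) [CommRing Rr] [Algebra A Rr] [Algebra.FiniteType A Rr]
    [Module Rr Mm] [IsScalarTower A Rr Mm] [Module.Finite Rr Mm] :
    ∃ f : A, f ∉ I ∧ GFat (A ⧸ I) (Mm ⧸ (I • (⊤ : Submodule A Mm))) (Ideal.Quotient.mk I f) := by
  set J : Ideal Rr := I.map (algebraMap A Rr) with hJ
  let C := Rr ⧸ J
  let G0 := Mm ⧸ (J • (⊤ : Submodule Rr Mm))
  letI : Module (A ⧸ I) G0 := Module.compHom G0 (algebraMap (A ⧸ I) C)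
  haveI : IsScalarTower (A ⧸ I) C G0 := IsScalarTower.of_algebraMap_smul (fun _ _ => rfl)
  haveI : Algebra.FiniteType A C :=
    Algebra.FiniteType.of_surjective (Ideal.Quotient.mkₐ A J) (Ideal.Quotient.mkₐ_surjective A J)
  haveI : Algebra.FiniteType (A ⧸ I) C := Algebra.FiniteType.of_restrictScalars_finiteType A _ _
  haveI : Module.Finite C G0 := Module.Finite.of_restrictScalars_finite Rr C G0
  obtain ⟨fbar, hfbar, hGF⟩ := genericFreeness (A ⧸ I) C G0
  obtain ⟨f, rfl⟩ := Ideal.Quotient.mk_surjective fbar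
  refine ⟨f, fun hf => hfbar (Ideal.Quotient.eq_zero_iff_mem.2 hf), ?_⟩
  haveI : IsScalarTower A (A ⧸ I) G0 := IsScalarTower.of_algebraMap_smul (fun a x => by
    induction x using Submodule.Quotient.induction_on with
    | H m =>
      change (algebraMap (A ⧸ I) C (algebraMap A (A ⧸ I) a)) • (Submodule.Quotient.mk m : G0) = _
      rw [← IsScalarTower.algebraMap_apply A (A ⧸ I) C, IsScalarTower.algebraMap_apply A Rr C,
        algebraMap_smul, algebraMap_smul])
  let e1 : (Mm ⧸ (J • (⊤ : Submodule Rr Mm)).restrictScalars A) ≃ₗ[A] G0 :=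
    Submodule.Quotient.restrictScalarsEquiv A _
  let e2 : (Mm ⧸ (J • (⊤ : Submodule Rr Mm)).restrictScalars A) ≃ₗ[A]
      (Mm ⧸ (I • (⊤ : Submodule A Mm))) :=
    Submodule.quotEquivOfEq _ _ (restrictScalars_map_smul_top A I Rr Mm)
  let e : G0 ≃ₗ[A ⧸ I] (Mm ⧸ (I • (⊤ : Submodule A Mm))) :=
    LinearEquiv.extendScalarsOfSurjective Ideal.Quotient.mk_surjective (e1.symm.trans e2)
  exact GFat.of_linearEquiv e hGF

end AbsGF


section Piece
open Groth.Agent.Helper8.GenFree

variable {A : Type*} [CommRing A] (I : Ideal A) (f : A) (A' : Type*) [CommRing A'] [Algebra A A']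
  [IsLocalization.Away f A']
  {Mm N : Type*} [AddCommGroup Mm] [Module A Mm] [AddCommGroup N] [Module A N]
  {N' : Type*} [AddCommGroup N'] [Module A N'] [Module A' N'] [IsScalarTower A A' N']

theorem flat_piece
    (hG : GFat (A ⧸ I) (Mm ⧸ (I • (⊤ : Submodule A Mm))) (Ideal.Quotient.mk I f))
    (sn : N →ₗ[A] Mm) (cn : Mm →ₗ[A] N) (hcs : cn ∘ₗ sn = LinearMap.id)
    (φ : (N ⧸ (I • (⊤ : Submodule A N))) →ₗ[A]
      (N' ⧸ ((I.map (algebraMap A A')) • (⊤ : Submodule A' N'))))
    [hφ : IsLocalizedModule (Submonoid.powers f) φ] :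
    Module.Flat (A' ⧸ I.map (algebraMap A A'))
      (N' ⧸ ((I.map (algebraMap A A')) • (⊤ : Submodule A' N'))) := by
  let T1 : Submodule A N := I • ⊤
  let T2 : Submodule A Mm := I • ⊤
  let ιA : (N ⧸ T1) →ₗ[A] (Mm ⧸ T2) :=
    Submodule.mapQ T1 T2 sn (Submodule.smul_top_le_comap_smul_top I sn)
  let πA : (Mm ⧸ T2) →ₗ[A] (N ⧸ T1) :=
    Submodule.mapQ T2 T1 cn (Submodule.smul_top_le_comap_smul_top I cn)
  have hπιA : πA ∘ₗ ιA = LinearMap.id := by
    apply Submodule.linearMap_qext
    ext x
    have := LinearMap.congr_fun hcs x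
    simp only [LinearMap.comp_apply, LinearMap.id_apply] at this
    simp only [LinearMap.comp_apply, LinearMap.id_apply, πA, ιA, Submodule.mkQ_apply,
      Submodule.mapQ_apply, this]
  let ιD : (N ⧸ T1) →ₗ[A ⧸ I] (Mm ⧸ T2) :=
    LinearMap.extendScalarsOfSurjective Ideal.Quotient.mk_surjective ιA
  let πD : (Mm ⧸ T2) →ₗ[A ⧸ I] (N ⧸ T1) :=
    LinearMap.extendScalarsOfSurjective Ideal.Quotient.mk_surjective πA
  have hπιD : πD ∘ₗ ιD = LinearMap.id := by
    ext x
    exact LinearMap.congr_fun hπιA x
  let D := A ⧸ I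
  let D' := A' ⧸ I.map (algebraMap A A')
  let P' := N' ⧸ ((I.map (algebraMap A A')) • (⊤ : Submodule A' N'))
  letI : Module D P' := Module.compHom P' (algebraMap D D')
  haveI : IsScalarTower D D' P' := IsScalarTower.of_algebraMap_smul (fun _ _ => rfl)
  haveI : IsScalarTower A D P' := IsScalarTower.of_algebraMap_smul (fun a x => by
    induction x using Submodule.Quotient.induction_on with
    | H m =>
      change (algebraMap D D' (algebraMap A D a)) • (Submodule.Quotient.mk m : P') = _
      rw [← IsScalarTower.algebraMap_apply A D D', IsScalarTower.algebraMap_apply A A' D',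
        algebraMap_smul, algebraMap_smul])
  let φD : (N ⧸ T1) →ₗ[D] P' :=
    LinearMap.extendScalarsOfSurjective Ideal.Quotient.mk_surjective φ
  haveI : IsLocalizedModule (Submonoid.powers f) (φD.restrictScalars A) := by
    have : φD.restrictScalars A = φ := by ext x; rfl
    rw [this]; exact hφ
  haveI h1 : IsLocalizedModule (Algebra.algebraMapSubmonoid D (Submonoid.powers f)) φD :=
    IsLocalizedModule.of_restrictScalars (Submonoid.powers f) φD
  rw [Algebra.algebraMapSubmonoid_powers] at h1
  haveI : IsLocalization.Away (Ideal.Quotient.mk I f) D' := by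
    have h2 : IsLocalization (Algebra.algebraMapSubmonoid (A ⧸ I) (Submonoid.powers f)) D' :=
      inferInstance
    rw [Algebra.algebraMapSubmonoid_powers] at h2
    exact h2
  exact flat_of_retract_of_GFat (Ideal.Quotient.mk I f) D' hG ιD πD hπιD φD

end Piece


section Main
open Groth.Agent.Helper8.GenFree

variable (A : Type u) [CommRing A] [IsNoetherianRing A] (I : Ideal A) [I.IsPrime]
  (M : Type u) [AddCommGroup M] [Module A M] [Module.Finite A M]

theorem exists_normallyFlat :
    ∃ f : A, f ∉ I ∧ EGA4.IsNormallyFlat (I.map (algebraMap A (Localization.Away f)))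
      (LocalizedModule (Submonoid.powers f) M) := by
  classical
  set F := I.stableFiltration (⊤ : Submodule A M) with hF
  set 𝓜 := F.submodule with h𝓜
  haveI : Module.Finite ↥(reesAlgebra I) ↥𝓜 :=
    Module.Finite.iff_fg.2 ((F.submodule_fg_iff_stable
      (fun i => IsNoetherian.noetherian _)).2 (I.stableFiltration_stable ⊤))
  obtain ⟨f, hf, hGF⟩ := exists_GFat_quot A I ↥𝓜 ↥(reesAlgebra I)
  refine ⟨f, hf, fun n => ?_⟩
  obtain ⟨φ, hφ⟩ := exists_isLocalizedModule_piece (Submonoid.powers f) (Localization.Away f)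
    (LocalizedModule.mkLinearMap (Submonoid.powers f) M) I n
  -- retraction maps
  let Nn : Submodule A M := I ^ n • ⊤
  let sn : ↥Nn →ₗ[A] ↥𝓜 :=
    { toFun := fun x => ⟨PolynomialModule.single A n x.1, by
        intro i
        rw [PolynomialModule.coeff_single, Finsupp.single_apply]
        split_ifs with h
        · subst h; exact x.2
        · exact zero_mem _⟩
      map_add' := fun x y => Subtype.ext (PolynomialModule.single_add n x.1 y.1)
      map_smul' := fun a x => Subtype.ext (PolynomialModule.single_smul n a x.1) }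
  let cn : ↥𝓜 →ₗ[A] ↥Nn :=
    { toFun := fun x => ⟨x.1.coeff n, x.2 n⟩
      map_add' := fun x y => rfl
      map_smul' := fun a x => rfl }
  have hcs : cn ∘ₗ sn = LinearMap.id := by
    ext x
    simp [cn, sn]
  exact flat_piece I f (Localization.Away f) hGF sn cn hcs φ

end Main

end Groth.Agent.Helper2.NormFlatLoc
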