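import Mathlib
import Groth.Prelude
import Groth.Agent.Helper2.FlatCL1
import Groth.Agent.Helper2.NormFlatLoc

set_option autoImplicit false
open TensorProduct Function LinearMap IsLocalRing
universe u

namespace Groth.Agent.Helper2.FlatCL2

open Groth.Agent.Helper2.AdicFlat Groth.Agent.Helper2.FlatCL1

section A1
variable {R : Type u} [CommRing R] [IsLocalRing R] {S : Type u} [CommRing S] [Algebra R S]
  {M : Type u} [AddCommGroup M] [Module R M] [Module S M] [IsScalarTower R S M]

/-- **A1**: flatness of the localizations at the primes over the closed point gives flatness of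
the truncations. -/
theorem torsionFlat_sup_pow (J : Ideal R) (n : ℕ)
    (h : ∀ (q : Ideal S) [q.IsPrime], q.comap (algebraMap R S) = maximalIdeal R →
      TorsionFlat J (LocalizedModule q.primeCompl M)) :
    TorsionFlat (J ⊔ maximalIdeal R ^ n) M := by
  apply TorsionFlat.of_localized_maximal (S := S)
  intro q hq
  by_cases hqm : q.comap (algebraMap R S) = maximalIdeal R
  · exact TorsionFlat.mono le_sup_left (h q hqm)
  · -- some element of `m` is not in `q`
    have hp : (q.comap (algebraMap R S)).IsPrime := Ideal.comap_isPrime _ _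
    have hle : q.comap (algebraMap R S) ≤ maximalIdeal R := le_maximalIdeal hp.ne_top
    have : ¬ (maximalIdeal R ≤ q.comap (algebraMap R S)) := fun h' => hqm (le_antisymm hle h')
    obtain ⟨a, ha, haq⟩ := Set.not_subset.1 this
    have han : a ^ n ∈ J ⊔ maximalIdeal R ^ n :=
      Ideal.mem_sup_right (Ideal.pow_mem_pow ha n)
    have hanq : algebraMap R S (a ^ n) ∈ q.primeCompl := by
      intro hmem
      rw [map_pow] at hmem
      exact haq (hq.isPrime.mem_of_pow_mem n hmem)
    refine torsionFlat_of_surjective_smul (a ^ n) han ?_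
    have hu := IsLocalizedModule.map_units (LocalizedModule.mkLinearMap q.primeCompl M)
      ⟨algebraMap R S (a ^ n), hanq⟩
    have hs := ((Module.End.isUnit_iff _).1 hu).2
    intro x
    obtain ⟨y, hy⟩ := hs x
    refine ⟨y, ?_⟩
    simp only [Module.algebraMap_end_apply] at hy
    rw [← hy, algebraMap_smul]

end A1

section CR
variable {R : Type u} [CommRing R]

/-- change of rings for `TorsionFlat` -/
theorem TorsionFlat.quotient (J K : Ideal R) (K₁ : Ideal (R ⧸ J))
    (hK : ∀ a ∈ K, Ideal.Quotient.mk J a ∈ K₁) {N : Type u} [AddCommGroup N] [Module R N]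
    (h : TorsionFlat K N) : TorsionFlat K₁ ((R ⧸ J) ⊗[R] N) := by
  intro X' X _ _ _ _ hX' hX ι hι
  letI : Module R X' := Module.compHom X' (Ideal.Quotient.mk J)
  letI : Module R X := Module.compHom X (Ideal.Quotient.mk J)
  haveI : IsScalarTower R (R ⧸ J) X' := IsScalarTower.of_algebraMap_smul (fun _ _ => rfl)
  haveI : IsScalarTower R (R ⧸ J) X := IsScalarTower.of_algebraMap_smul (fun _ _ => rfl)
  have hN' : Module.IsTorsionBySet R X' K := by
    intro x a
    change (Ideal.Quotient.mk J a.1) • x = 0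
    exact @hX' x ⟨_, hK a.1 a.2⟩
  have hN : Module.IsTorsionBySet R X K := by
    intro x a
    change (Ideal.Quotient.mk J a.1) • x = 0
    exact @hX x ⟨_, hK a.1 a.2⟩
  have h1 := h X' X hN' hN (ι.restrictScalars R) hι
  have h2 : Injective (rTensor N (ι.restrictScalars R)) := by
    have : rTensor N (ι.restrictScalars R) = (TensorProduct.comm R N X).toLinearMap ∘ₗ
        lTensor N (ι.restrictScalars R) ∘ₗ (TensorProduct.comm R X' N).toLinearMap := by
      apply TensorProduct.ext'
      intro n m
      simp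
    rw [this]
    simp only [LinearMap.coe_comp, LinearEquiv.coe_coe]
    exact (TensorProduct.comm R N X).injective.comp
      (h1.comp (TensorProduct.comm R X' N).injective)
  let e' := TensorProduct.AlgebraTensorModule.cancelBaseChange R (R ⧸ J) (R ⧸ J) X' N
  have h3 : Injective (rTensor ((R ⧸ J) ⊗[R] N) ι) := by
    rw [injective_iff_map_eq_zero]
    intro x hx
    have h3 : rTensor N (ι.restrictScalars R) (e' x) = 0 := by
      rw [← Groth.Agent.Helper2.LocCrit2.cancel_natural J ι, hx, map_zero]
    have h4 := (injective_iff_map_eq_zero _).1 h2 _ h3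
    exact (LinearEquiv.map_eq_zero_iff e').1 h4
  have : lTensor ((R ⧸ J) ⊗[R] N) ι =
      (TensorProduct.comm (R ⧸ J) X ((R ⧸ J) ⊗[R] N)).toLinearMap ∘ₗ
        rTensor ((R ⧸ J) ⊗[R] N) ι ∘ₗ
        (TensorProduct.comm (R ⧸ J) ((R ⧸ J) ⊗[R] N) X').toLinearMap := by
    apply TensorProduct.ext'
    intro n m
    simp
  rw [this]
  simp only [LinearMap.coe_comp, LinearEquiv.coe_coe]
  exact (TensorProduct.comm (R ⧸ J) X ((R ⧸ J) ⊗[R] N)).injective.comp
    (h3.comp (TensorProduct.comm (R ⧸ J) ((R ⧸ J) ⊗[R] N) X').injective)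

end CR

section A2
variable {R B : Type u} [CommRing R] [IsNoetherianRing R] [CommRing B] [IsNoetherianRing B]
  [IsLocalRing B] [Algebra R B]
  {N : Type u} [AddCommGroup N] [Module R N] [Module B N] [IsScalarTower R B N]
  [Module.Finite B N]

/-- **A2 core**: local criterion relative to a quotient of the base. -/
theorem flat_quot_of_torsionFlat (I J : Ideal R)
    (hI : I.map (algebraMap R B) ≤ maximalIdeal B) (hJ : J.map (algebraMap R B) ≤ maximalIdeal B)
    (h : ∀ k, 0 < k → TorsionFlat (J ⊔ I ^ k) N) :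
    Module.Flat (R ⧸ J) ((R ⧸ J) ⊗[R] N) := by
  set JB : Ideal B := J.map (algebraMap R B) with hJB
  let R₁ := R ⧸ J
  let B₁ := B ⧸ JB
  let N₁ := N ⧸ (JB • (⊤ : Submodule B N))
  letI : Module R₁ N₁ := Module.compHom N₁ (algebraMap R₁ B₁)
  haveI : IsScalarTower R₁ B₁ N₁ := IsScalarTower.of_algebraMap_smul (fun _ _ => rfl)
  haveI : IsScalarTower R R₁ N₁ := IsScalarTower.of_algebraMap_smul (fun a x => by
    induction x using Submodule.Quotient.induction_on with
    | H m =>
      change (algebraMap R₁ B₁ (algebraMap R R₁ a)) • (Submodule.Quotient.mk m : N₁) = _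
      rw [← IsScalarTower.algebraMap_apply R R₁ B₁, IsScalarTower.algebraMap_apply R B B₁,
        algebraMap_smul, algebraMap_smul])
  let e0 : R₁ ⊗[R] N ≃ₗ[R] N ⧸ (J • (⊤ : Submodule R N)) :=
    TensorProduct.quotTensorEquivQuotSMul N J
  let e1 : (N ⧸ (JB • (⊤ : Submodule B N)).restrictScalars R) ≃ₗ[R] N₁ :=
    Submodule.Quotient.restrictScalarsEquiv R _
  let e2 : (N ⧸ (JB • (⊤ : Submodule B N)).restrictScalars R) ≃ₗ[R]
      (N ⧸ (J • (⊤ : Submodule R N))) :=
    Submodule.quotEquivOfEq _ _
      (Groth.Agent.Helper2.NormFlatLoc.restrictScalars_map_smul_top R J B N)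
  let e : R₁ ⊗[R] N ≃ₗ[R₁] N₁ :=
    LinearEquiv.extendScalarsOfSurjective Ideal.Quotient.mk_surjective
      (e0.trans (e2.symm.trans e1))
  haveI : Module.Finite B₁ N₁ := Module.Finite.of_restrictScalars_finite B B₁ N₁
  haveI : Nontrivial B₁ := Ideal.Quotient.nontrivial_iff.2
    (fun htop => (maximalIdeal.isMaximal B).ne_top (top_le_iff.1 (htop ▸ hJ)))
  haveI : IsLocalRing B₁ :=
    IsLocalRing.of_surjective' (Ideal.Quotient.mk JB) Ideal.Quotient.mk_surjective
  set I₁ : Ideal R₁ := I.map (Ideal.Quotient.mk J) with hI₁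
  have hle : I₁.map (algebraMap R₁ B₁) ≤ Ideal.jacobson ⊥ := by
    refine le_trans ?_ (IsLocalRing.maximalIdeal_le_jacobson _)
    rw [hI₁, Ideal.map_map]
    have hcomp : (algebraMap R₁ B₁).comp (Ideal.Quotient.mk J) =
        (Ideal.Quotient.mk JB).comp (algebraMap R B) := by
      ext a; rfl
    rw [hcomp, ← Ideal.map_map]
    refine le_trans (Ideal.map_mono hI) ?_
    rw [Ideal.map_le_iff_le_comap]
    have hmax : (Ideal.comap (Ideal.Quotient.mk JB) (maximalIdeal B₁)).IsMaximal :=
      Ideal.comap_isMaximal_of_surjective _ Ideal.Quotient.mk_surjective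
    rw [IsLocalRing.eq_maximalIdeal hmax]
  have hT₁ : ∀ k, 0 < k → TorsionFlat (I₁ ^ k) N₁ := by
    intro k hk
    refine TorsionFlat.of_linearEquiv e (TorsionFlat.quotient J (J ⊔ I ^ k) (I₁ ^ k) ?_ (h k hk))
    intro a ha
    obtain ⟨j, hj, b, hb, rfl⟩ := Submodule.mem_sup.1 ha
    rw [map_add, Ideal.Quotient.eq_zero_iff_mem.2 hj, zero_add, hI₁, ← Ideal.map_pow]
    exact Ideal.mem_map_of_mem _ hb
  have hflat : Module.Flat R₁ N₁ := by
    refine Groth.Agent.Helper1.FlatKrull.flat_of_ker_le_iInf (A := R₁) (B := B₁)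
      (I₁.map (algebraMap R₁ B₁)) hle ?_
    intro 𝔞 x hx n
    exact mem_smul_top_of_mem_range I₁ 𝔞 n x (mem_range_of_torsionFlat I₁ _ hT₁ 𝔞 x hx n)
  exact Module.Flat.of_linearEquiv e

end A2

section A2'
variable {R S : Type u} [CommRing R] [IsLocalRing R] [IsNoetherianRing R] [CommRing S]
  [IsNoetherianRing S] [Algebra R S]
  {M : Type u} [AddCommGroup M] [Module R M] [Module S M] [IsScalarTower R S M]
  [Module.Finite S M]

/-- **A2**: flat truncations give flatness of the localizations at primes over the closed point,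
relative to the quotient by `J`. -/
theorem flat_quot_localized_of_truncations (J : Ideal R) (hJ : J ≤ maximalIdeal R)
    (h : ∀ k, 0 < k → TorsionFlat (J ⊔ maximalIdeal R ^ k) M)
    (q : Ideal S) [q.IsPrime] (hq : q.comap (algebraMap R S) = maximalIdeal R) :
    Module.Flat (R ⧸ J) ((R ⧸ J) ⊗[R] LocalizedModule q.primeCompl M) := by
  have hq' : (maximalIdeal R).map (algebraMap R S) ≤ q :=
    Ideal.map_le_iff_le_comap.2 (hq ▸ le_rfl)
  have hI : (maximalIdeal R).map (algebraMap R (Localization.AtPrime q)) ≤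
      maximalIdeal (Localization.AtPrime q) := by
    rw [IsScalarTower.algebraMap_eq R S (Localization.AtPrime q), ← Ideal.map_map]
    refine (Ideal.map_mono hq').trans ?_
    rw [Localization.AtPrime.map_eq_maximalIdeal]
  refine flat_quot_of_torsionFlat (B := Localization.AtPrime q) (maximalIdeal R) J hI
    ((Ideal.map_mono hJ).trans hI) ?_
  intro k hk
  exact (h k hk).localized q.primeCompl

end A2'

end Groth.Agent.Helper2.FlatCL2
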