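import Mathlib
import Groth.Prelude

set_option autoImplicit false

namespace Groth.Agent.Helper2.UFlat

open TensorProduct

universe u

section Nak
variable {R M : Type*} [CommRing R] [AddCommGroup M] [Module R M]

lemma le_pow_smul (J : Ideal R) (K : Submodule R M) (h : K ≤ J • K) (n : ℕ) : K ≤ J ^ n • K := by
  induction n with
  | zero => simp
  | succ n ih =>
    calc K ≤ J • K := h
      _ ≤ J • (J ^ n • K) := Submodule.smul_mono le_rfl ih
      _ = J ^ (n + 1) • K := by rw [← mul_smul, ← pow_succ']

lemma eq_bot_of_le_smul_nilpotent (J : Ideal R) (hJ : IsNilpotent J) (K : Submodule R M)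
    (h : K ≤ J • K) : K = ⊥ := by
  obtain ⟨n, hn⟩ := hJ
  have := le_pow_smul J K h n
  rw [hn, Ideal.zero_eq_bot, Submodule.bot_smul] at this
  exact le_bot_iff.1 this

lemma sup_pow_smul (J : Ideal R) (P : Submodule R M) (h : P ⊔ J • ⊤ = ⊤) (n : ℕ) :
    P ⊔ J ^ n • ⊤ = ⊤ := by
  induction n with
  | zero => simp
  | succ n ih =>
    rw [eq_top_iff]
    calc ⊤ = P ⊔ J • (⊤ : Submodule R M) := h.symm
      _ = P ⊔ J • (P ⊔ J ^ n • ⊤) := by rw [ih]
      _ = P ⊔ (J • P ⊔ J • (J ^ n • ⊤)) := by rw [Submodule.smul_sup]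
      _ ≤ P ⊔ J ^ (n + 1) • ⊤ := by
        rw [← mul_smul, ← pow_succ']
        exact sup_le le_sup_left (sup_le (le_sup_of_le_left Submodule.smul_le_right) le_sup_right)

lemma eq_top_of_sup_smul_nilpotent (J : Ideal R) (hJ : IsNilpotent J) (P : Submodule R M)
    (h : P ⊔ J • ⊤ = ⊤) : P = ⊤ := by
  obtain ⟨n, hn⟩ := hJ
  have := sup_pow_smul J P h n
  rwa [hn, Ideal.zero_eq_bot, Submodule.bot_smul, sup_bot_eq] at this

end Nak

section Cover
variable {A : Type u} [CommRing A] [IsLocalRing A] (N : Type u) [AddCommGroup N] [Module A N]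

lemma exists_cover (hnil : IsNilpotent (IsLocalRing.maximalIdeal A)) :
    ∃ (ι : Type u) (π : (ι →₀ A) →ₗ[A] N), Function.Surjective π ∧
      ∀ x ∈ LinearMap.ker π, ∀ i, x i ∈ IsLocalRing.maximalIdeal A := by
  classical
  set m := IsLocalRing.maximalIdeal A with hm
  letI : Field (A ⧸ m) := Ideal.Quotient.field m
  let V := N ⧸ (m • ⊤ : Submodule A N)
  let b := Module.Free.chooseBasis (A ⧸ m) V
  have hsurj : Function.Surjective (Submodule.mkQ (m • ⊤ : Submodule A N)) :=
    Submodule.mkQ_surjective _
  choose n hn using fun i => hsurj (b i)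
  refine ⟨_, Finsupp.linearCombination A n, ?_, ?_⟩
  · rw [← LinearMap.range_eq_top]
    apply eq_top_of_sup_smul_nilpotent m hnil
    rw [sup_comm, ← Submodule.map_mkQ_eq_top, ← LinearMap.range_comp]
    have h1 : (Submodule.mkQ (m • ⊤ : Submodule A N)) ∘ₗ Finsupp.linearCombination A n =
        Finsupp.linearCombination A (fun i => (b i : V)) := by
      apply Finsupp.lhom_ext'
      intro i
      ext
      simp [hn]
    rw [h1, Finsupp.range_linearCombination]
    have h2 : Submodule.span (A ⧸ m) (Set.range b) = ⊤ := b.span_eq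
    have h3 := Submodule.restrictScalars_span A (A ⧸ m) Ideal.Quotient.mk_surjective (Set.range b)
    rw [← h3, h2]
    rfl
  · intro x hx i
    rw [LinearMap.mem_ker, Finsupp.linearCombination_apply, Finsupp.sum] at hx
    have h1 : ∑ j ∈ x.support, (Ideal.Quotient.mk m (x j)) • (b j : V) = 0 := by
      have := congrArg (Submodule.mkQ (m • ⊤ : Submodule A N)) hx
      rw [map_sum, map_zero] at this
      rw [← this]
      apply Finset.sum_congr rfl
      intro j _
      rw [map_smul, hn]
      rfl
    by_cases hi : i ∈ x.support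
    · have := linearIndependent_iff'.1 b.linearIndependent x.support
        (fun j => Ideal.Quotient.mk m (x j)) h1 i hi
      exact Ideal.Quotient.eq_zero_iff_mem.1 this
    · rw [Finsupp.notMem_support_iff.1 hi]
      exact zero_mem _

end Cover


section LocalCore
variable {A : Type u} [CommRing A] [IsLocalRing A] (N : Type u) [AddCommGroup N] [Module A N]

theorem local_core (hnil : IsNilpotent (IsLocalRing.maximalIdeal A)) :
    ∃ I : Ideal A, ∀ (A' : Type u) [CommRing A'] [Algebra A A'],
      Module.Flat A' (A' ⊗[A] N) ↔ I.map (algebraMap A A') = ⊥ := by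
  classical
  obtain ⟨ι, π, hπ, hker⟩ := exists_cover N hnil
  set K := LinearMap.ker π with hK
  refine ⟨Ideal.span {a | ∃ x ∈ K, ∃ i, a = x i}, ?_⟩
  intro A' _ _
  have hform : ∀ (a' : A') (x : ι →₀ A), a' ⊗ₜ[A] x =
      ∑ i ∈ x.support, (a' * algebraMap A A' (x i)) ⊗ₜ[A] Finsupp.single i (1 : A) := by
    intro a' x
    conv_lhs => rw [← Finsupp.sum_single x]
    rw [Finsupp.sum, TensorProduct.tmul_sum]
    apply Finset.sum_congr rfl
    intro i _
    have : Finsupp.single i (x i) = (x i) • Finsupp.single i (1 : A) := by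
      rw [Finsupp.smul_single, smul_eq_mul, mul_one]
    rw [this, TensorProduct.tmul_smul, TensorProduct.smul_tmul', Algebra.smul_def, mul_comm]
  have hex : Function.Exact (K.subtype.lTensor A') (π.lTensor A') := by
    have := lTensor_exact (M := ↥K) A' (f := K.subtype) (LinearMap.exact_subtype_ker_map π) hπ
    exact this
  have hsurj' : Function.Surjective (π.baseChange A') := by
    rw [LinearMap.baseChange_eq_ltensor]
    exact LinearMap.lTensor_surjective A' hπ
  constructor
  · -- flat ⇒ I A' = 0
    intro hflat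
    set J : Ideal A' := (IsLocalRing.maximalIdeal A).map (algebraMap A A') with hJ
    have hJnil : IsNilpotent J := by
      obtain ⟨n, hn⟩ := hnil
      refine ⟨n, ?_⟩
      rw [hJ, ← Ideal.map_pow, hn, Ideal.zero_eq_bot, Ideal.map_bot]
      rfl
    set π' := π.baseChange A' with hπ'
    set K' := LinearMap.ker π' with hK'
    have hall : ∀ t, (K.subtype.lTensor A') t ∈
        J • (⊤ : Submodule A' (A' ⊗[A] (ι →₀ A))) := by
      intro t
      induction t using TensorProduct.induction_on with
      | zero => rw [map_zero]; exact zero_mem _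
      | tmul a' x =>
        rw [LinearMap.lTensor_tmul, Submodule.subtype_apply, hform]
        refine Submodule.sum_mem _ (fun i _ => ?_)
        have h1 : (a' * algebraMap A A' ((x : ι →₀ A) i)) ⊗ₜ[A] Finsupp.single i (1 : A) =
            (a' * algebraMap A A' ((x : ι →₀ A) i)) • ((1 : A') ⊗ₜ[A] Finsupp.single i (1 : A)) := by
          rw [TensorProduct.smul_tmul', smul_eq_mul, mul_one]
        rw [h1]
        apply Submodule.smul_mem_smul _ Submodule.mem_top
        exact Ideal.mul_mem_left _ _ (Ideal.mem_map_of_mem _ (hker x x.2 i))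
      | add a b ha hb =>
        rw [map_add]
        exact add_mem ha hb
    have hK'J : K' ≤ J • (⊤ : Submodule A' (A' ⊗[A] (ι →₀ A))) := by
      intro x' hx'
      have hx'' : (π.lTensor A') x' = 0 := hx'
      obtain ⟨t, rfl⟩ := (hex x').1 hx''
      exact hall t
    have hinj := LinearMap.lTensor_injective_of_exact_of_flat (M := ↥K') π' hsurj' K'.subtype
      K'.injective_subtype (LinearMap.exact_subtype_ker_map π') (A' ⧸ J)
    have htop : (⊤ : Submodule A' K') ≤ J • (⊤ : Submodule A' K') := by
      intro y _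
      have h1 : (K'.subtype.lTensor (A' ⧸ J)) ((1 : A' ⧸ J) ⊗ₜ[A'] y) = 0 := by
        rw [LinearMap.lTensor_tmul]
        have hy : (K'.subtype y) ∈ J • (⊤ : Submodule A' (A' ⊗[A] (ι →₀ A))) := hK'J y.2
        have hgen : ∀ z ∈ J • (⊤ : Submodule A' (A' ⊗[A] (ι →₀ A))),
            (1 : A' ⧸ J) ⊗ₜ[A'] z = 0 := by
          intro z hz
          induction hz using Submodule.smul_induction_on' with
          | smul j hj f _ =>
            rw [TensorProduct.tmul_smul, TensorProduct.smul_tmul']
            have : j • (1 : A' ⧸ J) = 0 := by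
              rw [Algebra.smul_def, mul_one]
              exact Ideal.Quotient.eq_zero_iff_mem.2 hj
            rw [this, TensorProduct.zero_tmul]
          | add a _ b _ ha hb => rw [TensorProduct.tmul_add, ha, hb, add_zero]
        exact hgen _ hy
      have h2 : (1 : A' ⧸ J) ⊗ₜ[A'] y = 0 := hinj (by rw [h1, map_zero])
      have h3 := congrArg (TensorProduct.quotTensorEquivQuotSMul K' J) h2
      rw [TensorProduct.quotTensorEquivQuotSMul_mk_one_tmul, map_zero,
        Submodule.Quotient.mk_eq_zero] at h3
      exact h3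
    have hbot := eq_bot_of_le_smul_nilpotent (M := ↥K') J hJnil (⊤ : Submodule A' K') htop
    have hK'0 : ∀ y ∈ K', y = 0 := by
      intro y hy
      have : (⟨y, hy⟩ : K') ∈ (⊤ : Submodule A' K') := Submodule.mem_top
      rw [hbot, Submodule.mem_bot] at this
      exact congrArg Subtype.val this
    rw [Ideal.map_span, Ideal.span_eq_bot]
    rintro _ ⟨a, ⟨x, hx, i, rfl⟩, rfl⟩
    have h1 : (1 : A') ⊗ₜ[A] x ∈ K' := by
      rw [hK', LinearMap.mem_ker, hπ', LinearMap.baseChange_tmul]
      rw [hK, LinearMap.mem_ker] at hx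
      rw [hx, TensorProduct.tmul_zero]
    have h2 := hK'0 _ h1
    have h3 := congrArg ((TensorProduct.rid A A').toLinearMap ∘ₗ (Finsupp.lapply i).lTensor A') h2
    simpa [Algebra.algebraMap_eq_smul_one] using h3
  · -- I A' = 0 ⇒ flat
    intro hI
    have hzero : ∀ t, (K.subtype.lTensor A') t = 0 := by
      intro t
      induction t using TensorProduct.induction_on with
      | zero => rw [map_zero]
      | tmul a' x =>
        rw [LinearMap.lTensor_tmul, Submodule.subtype_apply, hform]
        refine Finset.sum_eq_zero (fun i _ => ?_)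
        have : algebraMap A A' ((x : ι →₀ A) i) = 0 := by
          have h1 : algebraMap A A' ((x : ι →₀ A) i) ∈
              (Ideal.span {a | ∃ x ∈ K, ∃ i, a = x i}).map (algebraMap A A') :=
            Ideal.mem_map_of_mem _ (Ideal.subset_span ⟨x, x.2, i, rfl⟩)
          rw [hI] at h1
          exact h1
        rw [this, mul_zero, TensorProduct.zero_tmul]
      | add a b ha hb => rw [map_add, ha, hb, add_zero]
    have hinj : Function.Injective (π.baseChange A') := by
      rw [injective_iff_map_eq_zero]
      intro t ht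
      have ht' : (π.lTensor A') t = 0 := ht
      obtain ⟨s, rfl⟩ := (hex t).1 ht'
      exact hzero s
    let e : A' ⊗[A] (ι →₀ A) ≃ₗ[A'] A' ⊗[A] N :=
      LinearEquiv.ofBijective (π.baseChange A') ⟨hinj, hsurj'⟩
    exact Module.Flat.of_linearEquiv e.symm

end LocalCore


section Global
variable {A : Type u} [CommRing A] [IsArtinianRing A]

lemma nilpotent_maximalIdeal_atPrime (m : Ideal A) [m.IsPrime] :
    IsNilpotent (IsLocalRing.maximalIdeal (Localization.AtPrime m)) := by
  have h := IsArtinianRing.isNilpotent_jacobson_bot (R := Localization.AtPrime m)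
  rwa [IsLocalRing.jacobson_eq_maximalIdeal _ bot_ne_top] at h

lemma exists_e (m : MaximalSpectrum A) :
    ∃ e : A, e ∉ m.asIdeal ∧ ∀ m' : MaximalSpectrum A, m' ≠ m →
      algebraMap A (Localization.AtPrime m'.asIdeal) e = 0 := by
  classical
  haveI : Fintype (MaximalSpectrum A) := Fintype.ofFinite _
  have h1 : ∀ m' : MaximalSpectrum A, ∃ x : A, m' ≠ m → (x ∈ m'.asIdeal ∧ x ∉ m.asIdeal) := by
    intro m'
    by_cases h : m' = m
    · exact ⟨0, fun h' => absurd h h'⟩
    · have : ¬ m'.asIdeal ≤ m.asIdeal := by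
        intro hle
        exact h (MaximalSpectrum.ext (m'.isMaximal.eq_of_le m.isMaximal.ne_top hle))
      obtain ⟨x, hx, hx'⟩ := Set.not_subset.1 this
      exact ⟨x, fun _ => ⟨hx, hx'⟩⟩
  choose x hx using h1
  have h2 : ∀ m' : MaximalSpectrum A, ∃ n : ℕ,
      (IsLocalRing.maximalIdeal (Localization.AtPrime m'.asIdeal)) ^ n = ⊥ := by
    intro m'
    obtain ⟨n, hn⟩ := nilpotent_maximalIdeal_atPrime m'.asIdeal
    exact ⟨n, hn⟩
  choose n hn using h2
  refine ⟨∏ m' ∈ Finset.univ.erase m, x m' ^ n m', ?_, ?_⟩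
  · intro hmem
    obtain ⟨m', hm', hmem'⟩ := (Ideal.IsPrime.prod_mem_iff).1 hmem
    have := m.isMaximal.isPrime.mem_of_pow_mem _ hmem'
    exact (hx m' (Finset.ne_of_mem_erase hm')).2 this
  · intro m' hm'
    have hdvd : x m' ^ n m' ∣ ∏ m'' ∈ Finset.univ.erase m, x m'' ^ n m'' :=
      Finset.dvd_prod_of_mem _ (Finset.mem_erase.2 ⟨hm', Finset.mem_univ _⟩)
    obtain ⟨c, hc⟩ := hdvd
    rw [hc, map_mul, map_pow]
    have h3 : algebraMap A (Localization.AtPrime m'.asIdeal) (x m') ∈
        IsLocalRing.maximalIdeal (Localization.AtPrime m'.asIdeal) :=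
      (IsLocalization.AtPrime.to_map_mem_maximal_iff _ m'.asIdeal _).2 (hx m' hm').1
    have h4 := Ideal.pow_mem_pow h3 (n m')
    rw [hn m', Ideal.mem_bot] at h4
    rw [h4, zero_mul]

variable (N : Type u) [AddCommGroup N] [Module A N]

theorem global_core :
    ∃ I : Ideal A, ∀ (A' : Type u) [CommRing A'] [Algebra A A'],
      Module.Flat A' (A' ⊗[A] N) ↔ I.map (algebraMap A A') = ⊥ := by
  classical
  have hloc : ∀ m : MaximalSpectrum A, ∃ I : Ideal (Localization.AtPrime m.asIdeal),
      ∀ (A'' : Type u) [CommRing A''] [Algebra (Localization.AtPrime m.asIdeal) A''],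
        Module.Flat A'' (A'' ⊗[Localization.AtPrime m.asIdeal]
          (Localization.AtPrime m.asIdeal ⊗[A] N)) ↔
          I.map (algebraMap (Localization.AtPrime m.asIdeal) A'') = ⊥ :=
    fun m => local_core _ (nilpotent_maximalIdeal_atPrime m.asIdeal)
  choose Iloc hIloc using hloc
  set I : Ideal A := ⨅ m : MaximalSpectrum A,
    (Iloc m).comap (algebraMap A (Localization.AtPrime m.asIdeal)) with hI
  refine ⟨I, ?_⟩
  intro A' _ _
  -- local analysis at a maximal ideal q' of A'
  have key : ∀ (q' : Ideal A') [q'.IsMaximal],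
      (Module.Flat (Localization.AtPrime q') (Localization.AtPrime q' ⊗[A'] (A' ⊗[A] N)) ↔
        ∀ a : A, (∃ hp : (q'.comap (algebraMap A A')).IsMaximal,
          algebraMap A (Localization.AtPrime (q'.comap (algebraMap A A'))) a ∈
            Iloc ⟨q'.comap (algebraMap A A'), hp⟩) →
          algebraMap A' (Localization.AtPrime q') (algebraMap A A' a) = 0) := by
    intro q' _
    set p := q'.comap (algebraMap A A') with hp
    haveI : p.IsPrime := Ideal.comap_isPrime _ _
    have hpmax : p.IsMaximal := IsArtinianRing.isMaximal_of_isPrime p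
    let m : MaximalSpectrum A := ⟨p, hpmax⟩
    let B' := Localization.AtPrime q'
    letI : Algebra (Localization.AtPrime p) B' :=
      (Localization.localRingHom p q' (algebraMap A A') rfl).toAlgebra
    haveI : IsScalarTower A (Localization.AtPrime p) B' :=
      IsScalarTower.of_algebraMap_eq (fun a => by
        rw [IsScalarTower.algebraMap_apply A A' B']
        exact (Localization.localRingHom_to_map p q' (algebraMap A A') rfl a).symm)
    let e1 : B' ⊗[A'] (A' ⊗[A] N) ≃ₗ[B'] B' ⊗[A] N :=
      TensorProduct.AlgebraTensorModule.cancelBaseChange A A' B' B' N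
    let e2 : B' ⊗[Localization.AtPrime p] (Localization.AtPrime p ⊗[A] N) ≃ₗ[B'] B' ⊗[A] N :=
      TensorProduct.AlgebraTensorModule.cancelBaseChange A (Localization.AtPrime p) B' B' N
    have hE : Module.Flat B' (B' ⊗[A'] (A' ⊗[A] N)) ↔
        Module.Flat B' (B' ⊗[Localization.AtPrime p] (Localization.AtPrime p ⊗[A] N)) :=
      ⟨fun h => Module.Flat.of_linearEquiv (e2.trans e1.symm),
       fun h => Module.Flat.of_linearEquiv (e1.trans e2.symm)⟩
    rw [hE, hIloc m B', Ideal.map_eq_bot_iff_le_ker]
    constructor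
    · intro hle a ⟨_, ha⟩
      have := hle ha
      rw [RingHom.mem_ker, ← IsScalarTower.algebraMap_apply A (Localization.AtPrime p) B'] at this
      exact this
    · intro h x hx
      obtain ⟨a, rfl⟩ := IsArtinianRing.localization_surjective p.primeCompl
        (Localization.AtPrime p) x
      rw [RingHom.mem_ker, ← IsScalarTower.algebraMap_apply A (Localization.AtPrime p) B']
      exact h a ⟨hpmax, hx⟩
  constructor
  · intro hflat
    apply ideal_eq_bot_of_localization'
    intro q' hq'
    haveI := hq'
    have hfl : Module.Flat (Localization.AtPrime q') (Localization.AtPrime q' ⊗[A'] (A' ⊗[A] N)) :=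
      inferInstance
    have h1 := (key q').1 hfl
    rw [Ideal.map_map, Ideal.map_eq_bot_iff_le_ker]
    intro a ha
    rw [RingHom.mem_ker, RingHom.comp_apply]
    apply h1 a
    have hpmax : (q'.comap (algebraMap A A')).IsMaximal := by
      haveI : (q'.comap (algebraMap A A')).IsPrime := Ideal.comap_isPrime _ _
      exact IsArtinianRing.isMaximal_of_isPrime _
    refine ⟨hpmax, ?_⟩
    have : a ∈ (Iloc ⟨q'.comap (algebraMap A A'), hpmax⟩).comap
        (algebraMap A (Localization.AtPrime (q'.comap (algebraMap A A')))) :=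
      Ideal.mem_iInf.1 ha (⟨q'.comap (algebraMap A A'), hpmax⟩ : MaximalSpectrum A)
    exact this
  · intro hI0
    apply Module.flat_of_localized_maximal
    intro q' _
    have h2 : Module.Flat (Localization.AtPrime q')
        (Localization.AtPrime q' ⊗[A'] (A' ⊗[A] N)) := by
      rw [key q']
      rintro a ⟨hpmax, ha⟩
      obtain ⟨e, he, he'⟩ := exists_e (⟨q'.comap (algebraMap A A'), hpmax⟩ : MaximalSpectrum A)
      have hae : a * e ∈ I := by
        rw [hI, Ideal.mem_iInf]
        intro m'
        rw [Ideal.mem_comap, map_mul]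
        by_cases hm' : m' = ⟨q'.comap (algebraMap A A'), hpmax⟩
        · subst hm'
          exact Ideal.mul_mem_right _ _ ha
        · rw [he' m' hm', mul_zero]
          exact zero_mem _
      have h3 : algebraMap A A' (a * e) = 0 := by
        have : algebraMap A A' (a * e) ∈ I.map (algebraMap A A') := Ideal.mem_map_of_mem _ hae
        rwa [hI0] at this
      have h4 : IsUnit (algebraMap A' (Localization.AtPrime q') (algebraMap A A' e)) := by
        apply IsLocalization.map_units (Localization.AtPrime q') (⟨algebraMap A A' e, ?_⟩ : q'.primeCompl)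
        exact he
      have h5 : algebraMap A' (Localization.AtPrime q') (algebraMap A A' a) *
          algebraMap A' (Localization.AtPrime q') (algebraMap A A' e) = 0 := by
        rw [← map_mul, ← map_mul, h3, map_zero]
      exact (h4.mul_left_eq_zero).1 h5
    have e3 := (IsLocalizedModule.isBaseChange q'.primeCompl (Localization.AtPrime q')
      (LocalizedModule.mkLinearMap q'.primeCompl (A' ⊗[A] N))).equiv
    have h6 : Module.Flat (Localization.AtPrime q')
        (LocalizedModule q'.primeCompl (A' ⊗[A] N)) := Module.Flat.of_linearEquiv e3.symm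
    exact Module.Flat.trans A' (Localization.AtPrime q') _


theorem s1265 {A B : Type u} [CommRing A] [IsArtinianRing A] [CommRing B] [Algebra A B]
    (N : Type u) [AddCommGroup N] [Module B N] [Module A N] [IsScalarTower A B N] :
    ∃ I : Ideal A, ∀ (A' B' N' : Type u) [CommRing A'] [CommRing B'] [Algebra A A'] [Algebra B B']
      [Algebra A' B'] [Algebra A B']
      [IsScalarTower A B B'] [IsScalarTower A A' B'] [Algebra.IsPushout A B A' B']
      [AddCommGroup N'] [Module B' N'] [Module B N'] [IsScalarTower B B' N'] [Module A' N']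
      [IsScalarTower A' B' N']
      (f : N →ₗ[B] N'), IsBaseChange B' f →
      (Module.Flat A' N' ↔ I.map (algebraMap A A') = ⊥) := by
  obtain ⟨I, hI⟩ := global_core (A := A) N
  refine ⟨I, ?_⟩
  intro A' B' N' _ _ _ _ _ _ _ _ _ _ _ _ _ _ _ f hf
  rw [← hI A']
  haveI : Algebra.IsPushout A A' B B' := Algebra.IsPushout.symm inferInstance
  let e1 : B' ⊗[B] N ≃ₗ[B'] N' := hf.equiv
  let e2 : B' ⊗[B] N ≃ₗ[A'] A' ⊗[A] N := Algebra.IsPushout.cancelBaseChange A A' B B' N
  let e : N' ≃ₗ[A'] A' ⊗[A] N := (e1.symm.restrictScalars A').trans e2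
  exact ⟨fun h => Module.Flat.of_linearEquiv e.symm, fun h => Module.Flat.of_linearEquiv e⟩

end Global

end Groth.Agent.Helper2.UFlat
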