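import Mathlib
import Groth.Prelude
import Groth.Agent.Helper2.FlatCL2
import Groth.Agent.Helper2.UFlat

set_option autoImplicit false
open TensorProduct Function LinearMap IsLocalRing
universe u

namespace Groth.Agent.Helper2.FlatCL3

open Groth.Agent.Helper2.AdicFlat Groth.Agent.Helper2.FlatCL1 Groth.Agent.Helper2.FlatCL2

section Un
variable (R : Type u) [CommRing R] [IsLocalRing R] (M : Type u) [AddCommGroup M] [Module R M]

/-- universal flattening ideal of the `n+1`-st truncation -/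
theorem exists_trunc_ideal (n : ℕ) :
    ∃ In : Ideal R, maximalIdeal R ^ (n + 1) ≤ In ∧
      ∀ (A' : Type u) [CommRing A'] [Algebra R A'],
        (maximalIdeal R ^ (n + 1)).map (algebraMap R A') = ⊥ →
        (Module.Flat A' (A' ⊗[R] M) ↔ In.map (algebraMap R A') = ⊥) := by
  set 𝔫 : Ideal R := maximalIdeal R ^ (n + 1) with h𝔫
  have h𝔫le : 𝔫 ≤ maximalIdeal R := Ideal.pow_le_self (Nat.succ_ne_zero n)
  let A := R ⧸ 𝔫
  haveI : Nontrivial A := Ideal.Quotient.nontrivial_iff.2
    (fun htop => (maximalIdeal.isMaximal R).ne_top (top_le_iff.1 (htop ▸ h𝔫le)))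
  haveI : IsLocalRing A :=
    IsLocalRing.of_surjective' (Ideal.Quotient.mk 𝔫) Ideal.Quotient.mk_surjective
  have hmax : maximalIdeal A = (maximalIdeal R).map (Ideal.Quotient.mk 𝔫) := by
    have hmaxc : (Ideal.comap (Ideal.Quotient.mk 𝔫) (maximalIdeal A)).IsMaximal :=
      Ideal.comap_isMaximal_of_surjective _ Ideal.Quotient.mk_surjective
    rw [← IsLocalRing.eq_maximalIdeal hmaxc,
      Ideal.map_comap_of_surjective _ Ideal.Quotient.mk_surjective]
  have hnil : IsNilpotent (maximalIdeal A) := by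
    refine ⟨n + 1, ?_⟩
    rw [hmax, ← Ideal.map_pow, Ideal.zero_eq_bot, Ideal.map_eq_bot_iff_le_ker, Ideal.mk_ker]
  obtain ⟨Ibar, hIbar⟩ := Groth.Agent.Helper2.UFlat.local_core (A := A) (A ⊗[R] M) hnil
  refine ⟨Ibar.comap (Ideal.Quotient.mk 𝔫), ?_, ?_⟩
  · intro a ha
    rw [Ideal.mem_comap, Ideal.Quotient.eq_zero_iff_mem.2 ha]
    exact zero_mem _
  · intro A' _ _ hA'
    letI : Algebra A A' := (Ideal.Quotient.lift 𝔫 (algebraMap R A') (fun a ha => by
      have : algebraMap R A' a ∈ 𝔫.map (algebraMap R A') := Ideal.mem_map_of_mem _ ha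
      rwa [hA'] at this)).toAlgebra
    haveI : IsScalarTower R A A' := IsScalarTower.of_algebraMap_eq (fun a => rfl)
    let e : A' ⊗[A] (A ⊗[R] M) ≃ₗ[A'] A' ⊗[R] M :=
      TensorProduct.AlgebraTensorModule.cancelBaseChange R A A' A' M
    have h1 : Module.Flat A' (A' ⊗[R] M) ↔ Module.Flat A' (A' ⊗[A] (A ⊗[R] M)) :=
      ⟨fun h => Module.Flat.of_linearEquiv e, fun h => Module.Flat.of_linearEquiv e.symm⟩
    rw [h1, hIbar A']
    have h2 : (Ibar.comap (Ideal.Quotient.mk 𝔫)).map (algebraMap R A') =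
        Ibar.map (algebraMap A A') := by
      rw [IsScalarTower.algebraMap_eq R A A', ← Ideal.map_map]
      congr 1
      exact Ideal.map_comap_of_surjective _ Ideal.Quotient.mk_surjective _
    rw [h2]

end Un

section Limit
variable (R : Type u) [CommRing R] [IsLocalRing R] [IsAdicComplete (maximalIdeal R) R]
  (M : Type u) [AddCommGroup M] [Module R M]

theorem exists_limit_ideal :
    ∃ (I : Ideal R) (I' : ℕ → Ideal R), I ≤ maximalIdeal R ∧
      (∀ n, I ⊔ maximalIdeal R ^ (n + 1) = I' n) ∧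
      ∀ (n : ℕ) (A' : Type u) [CommRing A'] [Algebra R A'],
        (maximalIdeal R ^ (n + 1)).map (algebraMap R A') = ⊥ →
        (Module.Flat A' (A' ⊗[R] M) ↔ (I' n).map (algebraMap R A') = ⊥) := by
  choose I' hI'1 hI'2 using exists_trunc_ideal R M
  set 𝔪 := maximalIdeal R with h𝔪
  -- (b)
  have hb : ∀ n (K : Ideal R), 𝔪 ^ (n + 1) ≤ K → (TorsionFlat K M ↔ I' n ≤ K) := by
    intro n K hK
    rw [torsionFlat_iff_flat, hI'2 n (R ⧸ K) (by
      rw [Ideal.map_eq_bot_iff_le_ker, Ideal.Quotient.algebraMap_eq, Ideal.mk_ker]; exact hK),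
      Ideal.map_eq_bot_iff_le_ker, Ideal.Quotient.algebraMap_eq, Ideal.mk_ker]
  have hQ : ∀ n, TorsionFlat (I' n) M := fun n => (hb n (I' n) (hI'1 n)).2 le_rfl
  -- antitone step
  have hstep : ∀ n, I' (n + 1) ≤ I' n := by
    intro n
    refine (hb (n + 1) (I' n) ?_).1 (hQ n)
    exact (Ideal.pow_le_pow_right (Nat.le_succ (n + 1))).trans (hI'1 n)
  have hanti : ∀ n k, n ≤ k → I' k ≤ I' n := by
    intro n k hnk
    induction hnk with
    | refl => exact le_rfl
    | step _ ih => exact (hstep _).trans ih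
  -- (c)
  have hc : ∀ n, I' n = I' (n + 1) ⊔ 𝔪 ^ (n + 1) := by
    intro n
    apply le_antisymm
    · refine (hb n _ le_sup_right).1 ?_
      refine (hb (n + 1) _ ?_).2 le_sup_left
      exact (Ideal.pow_le_pow_right (Nat.le_succ (n + 1))).trans le_sup_right
    · exact sup_le (hstep n) (hI'1 n)
  set I : Ideal R := ⨅ n, I' n with hI
  have hIle : ∀ n, I ≤ I' n := fun n => iInf_le _ n
  refine ⟨I, I', ?_, ?_, hI'2⟩
  · -- I ≤ 𝔪
    refine (hIle 0).trans ((hb 0 𝔪 (by rw [zero_add, pow_one])).1 ?_)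
    rw [torsionFlat_iff_flat]
    letI : Field (R ⧸ 𝔪) := Ideal.Quotient.field 𝔪
    infer_instance
  · intro n
    apply le_antisymm
    · exact sup_le (hIle n) (hI'1 n)
    · intro x hx
      -- dependent choice
      have hch : ∀ k (y : {y : R // y ∈ I' k}), ∃ y' : {y : R // y ∈ I' (k + 1)},
          y.1 - y'.1 ∈ 𝔪 ^ (k + 1) := by
        rintro k ⟨y, hy⟩
        rw [hc k] at hy
        obtain ⟨y', hy', z, hz, rfl⟩ := Submodule.mem_sup.1 hy
        exact ⟨⟨y', hy'⟩, by simpa using hz⟩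
      choose stp hstp using hch
      let sq : ∀ j : ℕ, {y : R // y ∈ I' (n + j)} :=
        fun j => Nat.rec (motive := fun j => {y : R // y ∈ I' (n + j)}) ⟨x, hx⟩
          (fun j y => stp (n + j) y) j
      have hsq0 : (sq 0).1 = x := rfl
      have hsqs : ∀ j, (sq j).1 - (sq (j + 1)).1 ∈ 𝔪 ^ (n + j + 1) := fun j => hstp (n + j) (sq j)
      -- differences
      have hdiff : ∀ a b, a ≤ b → (sq a).1 - (sq b).1 ∈ 𝔪 ^ (n + a + 1) := by
        intro a b hab
        induction b, hab using Nat.le_induction with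
        | base => simp
        | succ b hab ih =>
          have h1 := hsqs b
          have h2 : 𝔪 ^ (n + b + 1) ≤ 𝔪 ^ (n + a + 1) := Ideal.pow_le_pow_right (by omega)
          have : (sq a).1 - (sq (b + 1)).1 = ((sq a).1 - (sq b).1) + ((sq b).1 - (sq (b + 1)).1) := by
            ring
          rw [this]
          exact add_mem ih (h2 h1)
      -- Cauchy
      have hcau : ∀ {a b : ℕ}, a ≤ b →
          (sq a).1 ≡ (sq b).1 [SMOD (𝔪 ^ a • ⊤ : Submodule R R)] := by
        intro a b hab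
        rw [SModEq.sub_mem]
        have h2 : 𝔪 ^ (n + a + 1) ≤ 𝔪 ^ a := Ideal.pow_le_pow_right (by omega)
        simpa using h2 (hdiff a b hab)
      obtain ⟨L, hL⟩ := IsPrecomplete.prec (I := 𝔪) (M := R) inferInstance
        (f := fun j => (sq j).1) hcau
      have hL' : ∀ j, (sq j).1 - L ∈ 𝔪 ^ j := by
        intro j
        have := hL j
        rw [SModEq.sub_mem] at this
        simpa using this
      -- L ∈ I
      have hLI : L ∈ I := by
        rw [hI, Ideal.mem_iInf]
        intro k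
        have h1 : (sq (k + 1)).1 ∈ I' k := hanti k (n + (k + 1)) (by omega) (sq (k + 1)).2
        have h2 : (sq (k + 1)).1 - L ∈ I' k := hI'1 k (hL' (k + 1))
        have : L = (sq (k + 1)).1 - ((sq (k + 1)).1 - L) := by ring
        rw [this]
        exact sub_mem h1 h2
      have hxL : x - L ∈ 𝔪 ^ (n + 1) := by
        have h1 : (sq 0).1 - (sq (n + 1)).1 ∈ 𝔪 ^ (n + 0 + 1) := hdiff 0 (n + 1) (by omega)
        have h2 := hL' (n + 1)
        have : x - L = ((sq 0).1 - (sq (n + 1)).1) + ((sq (n + 1)).1 - L) := by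
          rw [hsq0]; ring
        rw [this]
        exact add_mem (by simpa using h1) h2
      have : x = L + (x - L) := by ring
      rw [this]
      exact Submodule.add_mem_sup hLI hxL

end Limit

section Krull
variable {R : Type u} [CommRing R] [IsLocalRing R] [IsNoetherianRing R]

lemma le_of_forall_le_sup_pow (I J : Ideal R)
    (h : ∀ n : ℕ, I ≤ J ⊔ maximalIdeal R ^ (n + 1)) : I ≤ J := by
  by_cases hJ : J = ⊤
  · rw [hJ]; exact le_top
  haveI : Nontrivial (R ⧸ J) := Ideal.Quotient.nontrivial_iff.2 hJ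
  haveI : IsLocalRing (R ⧸ J) :=
    IsLocalRing.of_surjective' (Ideal.Quotient.mk J) Ideal.Quotient.mk_surjective
  set 𝔫 : Ideal (R ⧸ J) := (maximalIdeal R).map (Ideal.Quotient.mk J) with h𝔫
  have h𝔫top : 𝔫 ≠ ⊤ := by
    intro htop
    have h1 : (maximalIdeal R).map (Ideal.Quotient.mk J) ≤ maximalIdeal (R ⧸ J) := by
      rw [Ideal.map_le_iff_le_comap]
      have hmax : (Ideal.comap (Ideal.Quotient.mk J) (maximalIdeal (R ⧸ J))).IsMaximal :=
        Ideal.comap_isMaximal_of_surjective _ Ideal.Quotient.mk_surjective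
      rw [IsLocalRing.eq_maximalIdeal hmax]
    rw [← h𝔫, htop] at h1
    exact (maximalIdeal.isMaximal (R ⧸ J)).ne_top (top_le_iff.1 h1)
  have hkr := Ideal.iInf_pow_eq_bot_of_isLocalRing 𝔫 h𝔫top
  intro x hx
  rw [← Ideal.Quotient.eq_zero_iff_mem, ← Ideal.mem_bot, ← hkr, Ideal.mem_iInf]
  intro i
  have h1 : x ∈ J ⊔ maximalIdeal R ^ (i + 1) := h i hx
  obtain ⟨j, hj, b, hb, rfl⟩ := Submodule.mem_sup.1 h1
  rw [map_add, Ideal.Quotient.eq_zero_iff_mem.2 hj, zero_add]
  have h2 : Ideal.Quotient.mk J b ∈ 𝔫 ^ (i + 1) := by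
    rw [h𝔫, ← Ideal.map_pow]
    exact Ideal.mem_map_of_mem _ hb
  exact Ideal.pow_le_pow_right (Nat.le_succ i) h2

end Krull

section Main
variable (R S : Type u) [CommRing R] [IsLocalRing R] [IsNoetherianRing R]
  [IsAdicComplete (maximalIdeal R) R] [CommRing S] [Algebra R S] [IsNoetherianRing S]
  (M : Type u) [AddCommGroup M] [Module S M] [Module R M] [IsScalarTower R S M] [Module.Finite S M]

/-- the flattening ideal with all its properties -/
theorem exists_flattening_ideal :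
    ∃ (I : Ideal R) (I' : ℕ → Ideal R), I ≤ maximalIdeal R ∧
      (∀ n, I ⊔ maximalIdeal R ^ (n + 1) = I' n) ∧
      (∀ (n : ℕ) (A' : Type u) [CommRing A'] [Algebra R A'],
        (maximalIdeal R ^ (n + 1)).map (algebraMap R A') = ⊥ →
        (Module.Flat A' (A' ⊗[R] M) ↔ (I' n).map (algebraMap R A') = ⊥)) ∧
      (∀ (q : Ideal S) [q.IsPrime], q.comap (algebraMap R S) = maximalIdeal R →
        Module.Flat (R ⧸ I) ((R ⧸ I) ⊗[R] LocalizedModule q.primeCompl M)) ∧
      ∀ J : Ideal R, (∀ (q : Ideal S) [q.IsPrime],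
        q.comap (algebraMap R S) = maximalIdeal R →
        Module.Flat (R ⧸ J) ((R ⧸ J) ⊗[R] LocalizedModule q.primeCompl M)) → I ≤ J := by
  obtain ⟨I, I', hIm, hsup, hU⟩ := exists_limit_ideal R M
  have hb : ∀ n (K : Ideal R), maximalIdeal R ^ (n + 1) ≤ K → (TorsionFlat K M ↔ I' n ≤ K) := by
    intro n K hK
    rw [torsionFlat_iff_flat, hU n (R ⧸ K) (by
      rw [Ideal.map_eq_bot_iff_le_ker, Ideal.Quotient.algebraMap_eq, Ideal.mk_ker]; exact hK),
      Ideal.map_eq_bot_iff_le_ker, Ideal.Quotient.algebraMap_eq, Ideal.mk_ker]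
  refine ⟨I, I', hIm, hsup, hU, ?_, ?_⟩
  · intro q _ hq
    refine flat_quot_localized_of_truncations I hIm ?_ q hq
    intro k hk
    obtain ⟨k, rfl⟩ := Nat.exists_eq_succ_of_ne_zero hk.ne'
    rw [Nat.succ_eq_add_one, hsup k]
    exact (hb k (I' k) (by rw [← hsup k]; exact le_sup_right)).2 le_rfl
  · intro J hJ
    apply le_of_forall_le_sup_pow
    intro n
    have h1 : TorsionFlat (J ⊔ maximalIdeal R ^ (n + 1)) M := by
      apply torsionFlat_sup_pow (S := S) J (n + 1)
      intro q _ hq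
      haveI := hJ q hq
      exact torsionFlat_of_flat J _
    have h2 := (hb n _ le_sup_right).1 h1
    rw [← hsup n] at h2
    exact le_sup_left.trans h2

end Main

end Groth.Agent.Helper2.FlatCL3
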