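import Mathlib
import Groth.Prelude
import Groth.Agent.Helper2.FlatCL3

set_option autoImplicit false
open TensorProduct Function LinearMap IsLocalRing
universe u

namespace Groth.Agent.Helper2.FlatCL4

open Groth.Agent.Helper2.AdicFlat Groth.Agent.Helper2.FlatCL1 Groth.Agent.Helper2.FlatCL2
  Groth.Agent.Helper2.FlatCL3

section Basic
variable {R : Type u} [CommRing R]

lemma torsionFlat_of_flat' (K : Ideal R) (M : Type u) [AddCommGroup M] [Module R M]
    [Module.Flat R M] : TorsionFlat K M := by
  intro N' N _ _ _ _ _ _ ι hι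
  exact Module.Flat.lTensor_preserves_injective_linearMap ι hι

end Basic

section Ker
variable {S : Type*} [CommRing S] (T : Submonoid S) {A B A' B' : Type*}
  [AddCommGroup A] [AddCommGroup B] [AddCommGroup A'] [AddCommGroup B']
  [Module S A] [Module S B] [Module S A'] [Module S B']
  (a : A →ₗ[S] A') (b : B →ₗ[S] B') [IsLocalizedModule T a] [IsLocalizedModule T b]
  (φ : A →ₗ[S] B)

lemma exists_smul_eq_zero_of_map_injective (h : Injective (IsLocalizedModule.map T a b φ))
    (y : A) (hy : φ y = 0) : ∃ s : T, s • y = 0 := by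
  have h1 : IsLocalizedModule.map T a b φ (a y) = 0 := by
    rw [IsLocalizedModule.map_apply, hy, map_zero]
  have h2 : a y = 0 := h (by rw [h1, map_zero])
  exact (IsLocalizedModule.eq_zero_iff T a).1 h2

lemma map_injective_of_forall_exists_smul (h : ∀ y : A, φ y = 0 → ∃ s : T, s • y = 0) :
    Injective (IsLocalizedModule.map T a b φ) := by
  rw [injective_iff_map_eq_zero]
  intro x hx
  obtain ⟨⟨m, s⟩, rfl⟩ := IsLocalizedModule.mk'_surjective T a x
  simp only [Function.uncurry_apply_pair] at hx ⊢
  rw [IsLocalizedModule.map_mk', IsLocalizedModule.mk'_eq_zero] at hx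
  obtain ⟨c, hc⟩ := (IsLocalizedModule.eq_zero_iff T b).1 hx
  have h1 : φ (c • m) = 0 := by
    rw [Submonoid.smul_def, map_smul, ← Submonoid.smul_def]; exact hc
  obtain ⟨s', hs'⟩ := h _ h1
  rw [IsLocalizedModule.mk'_eq_zero, IsLocalizedModule.eq_zero_iff T a]
  exact ⟨s' * c, by rw [mul_smul]; exact hs'⟩

end Ker

section Psi

lemma f_smul_R {R S R' S' : Type u} [CommRing R] [CommRing S] [CommRing R'] [CommRing S']
    [Algebra R S] [Algebra R R'] [Algebra S S'] [Algebra R' S'] [Algebra R S']
    [IsScalarTower R S S'] [IsScalarTower R R' S']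
    {M M' : Type u} [AddCommGroup M] [Module S M] [Module R M] [IsScalarTower R S M]
    [AddCommGroup M'] [Module S' M'] [Module R' M'] [IsScalarTower R' S' M'] [Module S M']
    [IsScalarTower S S' M'] (f : M →ₗ[S] M') (r : R) (m : M) :
    f (r • m) = (algebraMap R R' r) • f m := by
  rw [← algebraMap_smul S r m, map_smul, ← algebraMap_smul S' (algebraMap R S r) (f m),
    ← IsScalarTower.algebraMap_apply R S S', IsScalarTower.algebraMap_apply R R' S',
    algebraMap_smul]

variable (R : Type u) {S : Type u} (R' : Type u) (S' : Type u)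
  [CommRing R] [CommRing S] [CommRing R'] [CommRing S']
  [Algebra R S] [Algebra R R'] [Algebra S S'] [Algebra R' S'] [Algebra R S']
  [IsScalarTower R S S'] [IsScalarTower R R' S']
  {M M' : Type u} [AddCommGroup M] [Module S M] [Module R M] [IsScalarTower R S M]
  [AddCommGroup M'] [Module S' M'] [Module R' M'] [IsScalarTower R' S' M'] [Module S M']
  [IsScalarTower S S' M']
  (X : Type u) [AddCommGroup X] [Module R' X] [Module R X] [IsScalarTower R R' X]

/-- the comparison map `M ⊗[R] X → M' ⊗[R'] X` -/
noncomputable def psi (f : M →ₗ[S] M') : M ⊗[R] X →+ M' ⊗[R'] X :=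
  TensorProduct.liftAddHom
    { toFun := fun m => (TensorProduct.mk R' M' X (f m)).toAddMonoidHom
      map_zero' := by ext x; simp
      map_add' := fun m₁ m₂ => by ext x; simp }
    (by
      intro r m x
      change f (r • m) ⊗ₜ[R'] x = f m ⊗ₜ[R'] (r • x)
      rw [f_smul_R (R' := R') (S' := S'), TensorProduct.smul_tmul, algebraMap_smul])

@[simp] lemma psi_tmul (f : M →ₗ[S] M') (m : M) (x : X) :
    psi R R' S' X f (m ⊗ₜ[R] x) = f m ⊗ₜ[R'] x := rfl

lemma psi_smul (f : M →ₗ[S] M') (s : S) (y : M ⊗[R] X) :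
    psi R R' S' X f (s • y) = (algebraMap S S' s) • psi R R' S' X f y := by
  induction y using TensorProduct.induction_on with
  | zero => simp
  | add a b ha hb => rw [smul_add, map_add, ha, hb, map_add, smul_add]
  | tmul m x =>
    rw [TensorProduct.smul_tmul', psi_tmul, psi_tmul, map_smul, TensorProduct.smul_tmul',
      algebraMap_smul]

variable {X} in
lemma psi_natural (f : M →ₗ[S] M') {X' : Type u} [AddCommGroup X'] [Module R' X'] [Module R X']
    [IsScalarTower R R' X'] (ι : X' →ₗ[R'] X) (y : M ⊗[R] X') :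
    psi R R' S' X f (lTensor M (ι.restrictScalars R) y) = lTensor M' ι (psi R R' S' X' f y) := by
  induction y using TensorProduct.induction_on with
  | zero => simp
  | add a b ha hb => rw [map_add, map_add, ha, hb, map_add, map_add]
  | tmul m x => simp

variable [Algebra.IsPushout R S R' S']

/-- the inverse comparison isomorphism -/
noncomputable def invE (f : M →ₗ[S] M') (hf : IsBaseChange S' f) : M' ⊗[R'] X ≃+ M ⊗[R] X :=
  haveI : Algebra.IsPushout R R' S S' := Algebra.IsPushout.symm inferInstance
  let e1 : S' ⊗[S] M ≃ₗ[S'] M' := hf.equiv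
  let e2 : S' ⊗[S] M ≃ₗ[R'] R' ⊗[R] M := Algebra.IsPushout.cancelBaseChange R R' S S' M
  let e12 : M' ≃ₗ[R'] R' ⊗[R] M := (e1.symm.restrictScalars R').trans e2
  let e3 : M' ⊗[R'] X ≃ₗ[R'] (R' ⊗[R] M) ⊗[R'] X := TensorProduct.congr e12 (LinearEquiv.refl R' X)
  let e4 : (R' ⊗[R] M) ⊗[R'] X ≃ₗ[R'] X ⊗[R'] (R' ⊗[R] M) := TensorProduct.comm R' _ _
  let e5 : X ⊗[R'] (R' ⊗[R] M) ≃ₗ[R'] X ⊗[R] M :=
    TensorProduct.AlgebraTensorModule.cancelBaseChange R R' R' X M
  let e6 : X ⊗[R] M ≃ₗ[R] M ⊗[R] X := TensorProduct.comm R X M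
  e3.toAddEquiv.trans (e4.toAddEquiv.trans (e5.toAddEquiv.trans e6.toAddEquiv))

lemma invE_psi (f : M →ₗ[S] M') (hf : IsBaseChange S' f) (y : M ⊗[R] X) :
    invE R R' S' X f hf (psi R R' S' X f y) = y := by
  induction y using TensorProduct.induction_on with
  | zero => simp
  | add a b ha hb => rw [map_add, map_add, ha, hb]
  | tmul m x =>
    haveI : Algebra.IsPushout R R' S S' := Algebra.IsPushout.symm inferInstance
    simp only [invE, psi_tmul, AddEquiv.trans_apply]
    change TensorProduct.comm R X M (TensorProduct.AlgebraTensorModule.cancelBaseChange R R' R' X M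
      (TensorProduct.comm R' (R' ⊗[R] M) X (TensorProduct.congr
        ((LinearEquiv.restrictScalars R' hf.equiv.symm).trans
          (Algebra.IsPushout.cancelBaseChange R R' S S' M))
        (LinearEquiv.refl R' X) (f m ⊗ₜ[R'] x)))) = m ⊗ₜ[R] x
    rw [TensorProduct.congr_tmul, LinearEquiv.trans_apply, LinearEquiv.restrictScalars_apply,
      IsBaseChange.equiv_symm_apply, Algebra.IsPushout.cancelBaseChange_tmul,
      LinearEquiv.refl_apply, TensorProduct.comm_tmul,
      TensorProduct.AlgebraTensorModule.cancelBaseChange_tmul, one_smul, TensorProduct.comm_tmul]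

lemma psi_injective (f : M →ₗ[S] M') (hf : IsBaseChange S' f) : Injective (psi R R' S' X f) :=
  Function.LeftInverse.injective (invE_psi R R' S' X f hf)

lemma psi_surjective (f : M →ₗ[S] M') (hf : IsBaseChange S' f) : Surjective (psi R R' S' X f) := by
  intro x
  refine ⟨invE R R' S' X f hf x, ?_⟩
  apply (invE R R' S' X f hf).injective
  rw [invE_psi]

end Psi

section BCL
variable {R S R' S' : Type u}
  [CommRing R] [CommRing S] [CommRing R'] [CommRing S']
  [Algebra R S] [Algebra R R'] [Algebra S S'] [Algebra R' S'] [Algebra R S']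
  [IsScalarTower R S S'] [IsScalarTower R R' S'] [Algebra.IsPushout R S R' S']
  {M M' : Type u} [AddCommGroup M] [Module S M] [Module R M] [IsScalarTower R S M]
  [AddCommGroup M'] [Module S' M'] [Module R' M'] [IsScalarTower R' S' M'] [Module S M']
  [IsScalarTower S S' M']

/-- base change of flatness at a prime -/
theorem flat_localized_of_torsionFlat (f : M →ₗ[S] M') (hf : IsBaseChange S' f) (I : Ideal R)
    (hI : I ≤ RingHom.ker (algebraMap R R')) (q' : Ideal S') [q'.IsPrime]
    (h : TorsionFlat I (LocalizedModule (q'.comap (algebraMap S S')).primeCompl M)) :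
    Module.Flat R' (LocalizedModule q'.primeCompl M') := by
  rw [Module.Flat.iff_lTensor_preserves_injective_linearMap]
  intro X' X _ _ _ _ ι hι
  letI : Module R X' := Module.compHom X' (algebraMap R R')
  letI : Module R X := Module.compHom X (algebraMap R R')
  haveI : IsScalarTower R R' X' := IsScalarTower.of_algebraMap_smul (fun _ _ => rfl)
  haveI : IsScalarTower R R' X := IsScalarTower.of_algebraMap_smul (fun _ _ => rfl)
  have hX' : Module.IsTorsionBySet R X' I := by
    intro x a
    change (algebraMap R R' a.1) • x = 0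
    rw [(RingHom.mem_ker).1 (hI a.2), zero_smul]
  have hX : Module.IsTorsionBySet R X I := by
    intro x a
    change (algebraMap R R' a.1) • x = 0
    rw [(RingHom.mem_ker).1 (hI a.2), zero_smul]
  set q := q'.comap (algebraMap S S') with hq
  let g := LocalizedModule.mkLinearMap q.primeCompl M
  let g' := LocalizedModule.mkLinearMap q'.primeCompl M'
  have h2 := IsLocalizedModule.map_lTensor (R := R') S' q'.primeCompl ι g'
  have h3 := IsLocalizedModule.map_lTensor (R := R) S q.primeCompl (ι.restrictScalars R) g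
  have h1 : Injective (AlgebraTensorModule.lTensor S (LocalizedModule q.primeCompl M)
      (ι.restrictScalars R)) := h X' X hX' hX (ι.restrictScalars R) hι
  rw [← h3] at h1
  change Injective (AlgebraTensorModule.lTensor S' (LocalizedModule q'.primeCompl M') ι)
  rw [← h2]
  apply map_injective_of_forall_exists_smul
  intro x hx
  obtain ⟨y, rfl⟩ := psi_surjective R R' S' X' f hf x
  have hy : AlgebraTensorModule.lTensor S M (ι.restrictScalars R) y = 0 := by
    apply psi_injective R R' S' X f hf
    rw [map_zero]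
    have := psi_natural R R' S' f ι y
    exact this.trans hx
  obtain ⟨s, hs⟩ := exists_smul_eq_zero_of_map_injective q.primeCompl _ _ _ h1 y hy
  refine ⟨⟨algebraMap S S' s.1, s.2⟩, ?_⟩
  rw [Submonoid.smul_def]
  change algebraMap S S' s.1 • psi R R' S' X' f y = 0
  rw [← psi_smul, ← Submonoid.smul_def, hs, map_zero]

end BCL

section Final

theorem s6926 {R S R' S' : Type u} [CommRing R] [IsLocalRing R]
    [IsNoetherianRing R] [IsAdicComplete (IsLocalRing.maximalIdeal R) R] [CommRing S] [IsNoetherianRing S]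
    [CommRing R'] [IsLocalRing R'] [IsNoetherianRing R'] [CommRing S']
    [Algebra R S] [Algebra R R'] [IsLocalHom (algebraMap R R')] [Algebra S S'] [Algebra R' S'] [Algebra R S']
    [IsScalarTower R S S'] [IsScalarTower R R' S'] [Algebra.IsPushout R S R' S']
    {M M' : Type u} [AddCommGroup M] [Module S M] [Module R M] [IsScalarTower R S M] [Module.Finite S M]
    [AddCommGroup M'] [Module S' M'] [Module R' M'] [IsScalarTower R' S' M'] [Module S M'] [IsScalarTower S S' M']
    (f : M →ₗ[S] M') (hf : IsBaseChange S' f) (I : Ideal R) (_hIm : I ≤ IsLocalRing.maximalIdeal R)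
    (hI : (∀ (q : Ideal S) [q.IsPrime], q.comap (algebraMap R S) = IsLocalRing.maximalIdeal R →
        Module.Flat (R ⧸ I) ((R ⧸ I) ⊗[R] LocalizedModule q.primeCompl M)))
    (hmin : ∀ J : Ideal R, (∀ (q : Ideal S) [q.IsPrime], q.comap (algebraMap R S) = IsLocalRing.maximalIdeal R →
        Module.Flat (R ⧸ J) ((R ⧸ J) ⊗[R] LocalizedModule q.primeCompl M)) → I ≤ J) :
    (∀ (q' : Ideal S') [q'.IsPrime], q'.comap (algebraMap R' S') = IsLocalRing.maximalIdeal R' → FlatCA.FlatAt R' q' M') ↔
      I ≤ RingHom.ker (algebraMap R R') := by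

  obtain ⟨I₀, I', hI₀m, hsup, hU, hP, hmin₀⟩ := exists_flattening_ideal R S M
  have hII : I = I₀ :=
    le_antisymm (hmin I₀ (fun q _ hq => hP q hq)) (hmin₀ I (fun q _ hq => hI q hq))
  subst hII
  have hloc : (maximalIdeal R).map (algebraMap R R') ≤ maximalIdeal R' :=
    ((IsLocalRing.local_hom_TFAE (algebraMap R R')).out 0 2).1 ‹IsLocalHom (algebraMap R R')›
  have hcomap : (maximalIdeal R').comap (algebraMap R R') = maximalIdeal R :=
    ((IsLocalRing.local_hom_TFAE (algebraMap R R')).out 0 4).1 ‹IsLocalHom (algebraMap R R')›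
  constructor
  · intro hflat
    have key : ∀ n : ℕ, ∀ a ∈ I, algebraMap R R' a ∈ maximalIdeal R' ^ (n + 1) := by
      intro n
      let A' := R' ⧸ maximalIdeal R' ^ (n + 1)
      have hA' : (maximalIdeal R ^ (n + 1)).map (algebraMap R A') = ⊥ := by
        rw [Ideal.map_eq_bot_iff_le_ker]
        intro a ha
        rw [RingHom.mem_ker, IsScalarTower.algebraMap_apply R R' A',
          Ideal.Quotient.algebraMap_eq, Ideal.Quotient.eq_zero_iff_mem]
        have h1 : algebraMap R R' a ∈ (maximalIdeal R ^ (n + 1)).map (algebraMap R R') :=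
          Ideal.mem_map_of_mem _ ha
        rw [Ideal.map_pow] at h1
        exact Ideal.pow_right_mono hloc (n + 1) h1
      have hT : TorsionFlat (⊥ ⊔ maximalIdeal R' ^ (n + 1)) M' :=
        torsionFlat_sup_pow (S := S') ⊥ (n + 1) (fun q' _ hq' => by
          haveI : Module.Flat R' (LocalizedModule q'.primeCompl M') := hflat q' hq'
          exact torsionFlat_of_flat' ⊥ _)
      rw [bot_sup_eq] at hT
      haveI hfl' : Module.Flat A' (A' ⊗[R'] M') := flat_of_torsionFlat _ _ hT
      haveI : Algebra.IsPushout R R' S S' := Algebra.IsPushout.symm inferInstance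
      let e1 : S' ⊗[S] M ≃ₗ[S'] M' := hf.equiv
      let e2 : S' ⊗[S] M ≃ₗ[R'] R' ⊗[R] M := Algebra.IsPushout.cancelBaseChange R R' S S' M
      let e12 : M' ≃ₗ[R'] R' ⊗[R] M := (e1.symm.restrictScalars R').trans e2
      let eA : A' ⊗[R'] (R' ⊗[R] M) ≃ₗ[A'] A' ⊗[R] M :=
        TensorProduct.AlgebraTensorModule.cancelBaseChange R R' A' A' M
      let eB : A' ⊗[R'] M' ≃ₗ[A'] A' ⊗[R'] (R' ⊗[R] M) :=
        TensorProduct.AlgebraTensorModule.congr (LinearEquiv.refl A' A') e12
      have hfl : Module.Flat A' (A' ⊗[R] M) := Module.Flat.of_linearEquiv (eB.trans eA).symm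
      have h3 := (hU n A' hA').1 hfl
      intro a ha
      have h4 : algebraMap R A' a ∈ (I' n).map (algebraMap R A') :=
        Ideal.mem_map_of_mem _ (by rw [← hsup n]; exact Ideal.mem_sup_left ha)
      rw [h3, Ideal.mem_bot, IsScalarTower.algebraMap_apply R R' A',
        Ideal.Quotient.algebraMap_eq, Ideal.Quotient.eq_zero_iff_mem] at h4
      exact h4
    intro a ha
    rw [RingHom.mem_ker, ← Ideal.mem_bot,
      ← Ideal.iInf_pow_eq_bot_of_isLocalRing (maximalIdeal R') (maximalIdeal.isMaximal R').ne_top,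
      Ideal.mem_iInf]
    intro i
    exact Ideal.pow_le_pow_right (Nat.le_succ i) (key i a ha)
  · intro hker q' _ hq'
    unfold FlatCA.FlatAt
    apply flat_localized_of_torsionFlat f hf I hker q'
    have hq : (q'.comap (algebraMap S S')).comap (algebraMap R S) = maximalIdeal R := by
      rw [Ideal.comap_comap, ← IsScalarTower.algebraMap_eq R S S',
        IsScalarTower.algebraMap_eq R R' S', ← Ideal.comap_comap, hq', hcomap]
    haveI := hP _ hq
    exact torsionFlat_of_flat I _

end Final

end Groth.Agent.Helper2.FlatCL4
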