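import Mathlib
import Groth.Prelude
import Groth.Agent.Helper2.FlatCL4

set_option autoImplicit false
universe u
open TensorProduct

namespace Groth.Agent.Helper2.BCFlatAt

/-- base change of flatness at a prime (pushout square). -/
theorem flatAt_baseChange {R S R' S' : Type u} [CommRing R] [CommRing S] [CommRing R'] [CommRing S']
    [Algebra R S] [Algebra R R'] [Algebra S S'] [Algebra R' S'] [Algebra R S'] [IsScalarTower R S S']
    [IsScalarTower R R' S'] [Algebra.IsPushout R S R' S']
    {M M' : Type u} [AddCommGroup M] [Module S M] [Module R M] [IsScalarTower R S M]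
    [AddCommGroup M'] [Module S' M'] [Module R' M'] [IsScalarTower R' S' M'] [Module S M'] [IsScalarTower S S' M']
    (f : M →ₗ[S] M') (hf : IsBaseChange S' f) (q' : Ideal S') [q'.IsPrime]
    (h : Module.Flat R (LocalizedModule (q'.comap (algebraMap S S')).primeCompl M)) :
    Module.Flat R' (LocalizedModule q'.primeCompl M') := by
  haveI := h
  exact Groth.Agent.Helper2.FlatCL4.flat_localized_of_torsionFlat f hf ⊥ bot_le q'
    (Groth.Agent.Helper2.FlatCL4.torsionFlat_of_flat' (R := R) ⊥
      (LocalizedModule (q'.comap (algebraMap S S')).primeCompl M))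

theorem s6918 {R S R' S' : Type u} [CommRing R] [CommRing S] [CommRing R'] [CommRing S']
    [Algebra R S] [Algebra R R'] [Algebra S S'] [Algebra R' S'] [Algebra R S'] [IsScalarTower R S S']
    [IsScalarTower R R' S'] [Algebra.IsPushout R S R' S']
    (I : Ideal R) (I' : Ideal R') (hII' : I.map (algebraMap R R') ≤ I')
    {M M' : Type u} [AddCommGroup M] [Module S M] [Module R M] [IsScalarTower R S M]
    [AddCommGroup M'] [Module S' M'] [Module R' M'] [IsScalarTower R' S' M'] [Module S M'] [IsScalarTower S S' M']
    (f : M →ₗ[S] M') (hf : IsBaseChange S' f) (J : Ideal S)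
    (h : (∀ (q : Ideal S) [q.IsPrime], I.map (algebraMap R S) ⊔ J ≤ q → FlatCA.FlatAt R q M)) :
    (∀ (q : Ideal S') [q.IsPrime], I'.map (algebraMap R' S') ⊔ J.map (algebraMap S S') ≤ q → FlatCA.FlatAt R' q M') := by
  intro q' _ hq'
  have hle : I.map (algebraMap R S) ⊔ J ≤ q'.comap (algebraMap S S') := by
    apply sup_le
    · rw [Ideal.map_le_iff_le_comap]
      intro a ha
      rw [Ideal.mem_comap, Ideal.mem_comap, ← IsScalarTower.algebraMap_apply R S S',
        IsScalarTower.algebraMap_apply R R' S']
      exact hq' (Ideal.mem_sup_left (Ideal.mem_map_of_mem _ (hII' (Ideal.mem_map_of_mem _ ha))))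
    · rw [← Ideal.map_le_iff_le_comap]
      exact le_trans le_sup_right hq'
  exact flatAt_baseChange f hf q' (h _ hle)

end Groth.Agent.Helper2.BCFlatAt
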