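import Mathlib
import Groth.Agent.Helper2.LocCrit2

set_option autoImplicit false
open TensorProduct Function LinearMap IsLocalRing
universe u

namespace Groth.Agent.Helper2.FibCrit

section Descent
variable {A B : Type u} [CommRing A] [CommRing B] [Algebra A B]
  {M : Type u} [AddCommGroup M] [Module B M] [Module A M] [IsScalarTower A B M]

lemma cancel_natural_right {X' X : Type u} [AddCommGroup X'] [AddCommGroup X] [Module A X']
    [Module A X] (ι : X' →ₗ[A] X) (x : M ⊗[B] (B ⊗[A] X')) :
    AlgebraTensorModule.cancelBaseChange A B B M X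
      (lTensor M (AlgebraTensorModule.lTensor B B ι) x) =
    lTensor M ι (AlgebraTensorModule.cancelBaseChange A B B M X' x) := by
  induction x using TensorProduct.induction_on with
  | zero => simp
  | add a b ha hb => simp only [map_add, ha, hb]
  | tmul m y =>
    induction y using TensorProduct.induction_on with
    | zero => simp
    | add a b ha hb => simp only [tmul_add, map_add, ha, hb]
    | tmul b x => simp

/-- descent of flatness along a faithfully flat module -/
theorem flat_of_faithfullyFlat [Module.FaithfullyFlat B M] [Module.Flat A M] :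
    Module.Flat A B := by
  rw [Module.Flat.iff_lTensor_preserves_injective_linearMap]
  intro X' X _ _ _ _ ι hι
  change Injective (AlgebraTensorModule.lTensor B B ι)
  rw [← Module.FaithfullyFlat.lTensor_injective_iff_injective B M]
  have h1 : Injective (lTensor M ι) := Module.Flat.lTensor_preserves_injective_linearMap ι hι
  intro x y hxy
  apply (AlgebraTensorModule.cancelBaseChange A B B M X').injective
  apply h1
  rw [← cancel_natural_right, ← cancel_natural_right, hxy]

end Descent

section Psi
variable {A B : Type u} [CommRing A] [CommRing B] [Algebra A B] (𝔞 : Ideal A)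
  (M : Type u) [AddCommGroup M] [Module B M] [Module A M] [IsScalarTower A B M]

/-- `𝔞 → 𝔞B` -/
noncomputable def jmap : 𝔞 →+ (𝔞.map (algebraMap A B)) :=
  AddMonoidHom.mk' (fun a => ⟨algebraMap A B a.1, Ideal.mem_map_of_mem _ a.2⟩)
    (fun a b => Subtype.ext (by simp))

lemma jmap_smul (r : A) (a : 𝔞) : jmap (B := B) 𝔞 (r • a) = algebraMap A B r • jmap 𝔞 a :=
  Subtype.ext (by simp [jmap, Algebra.smul_def])

/-- the comparison map `𝔞 ⊗[A] M → 𝔞B ⊗[B] M` -/
noncomputable def Psi : 𝔞 ⊗[A] M →+ (𝔞.map (algebraMap A B)) ⊗[B] M :=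
  TensorProduct.liftAddHom
    { toFun := fun a =>
        (TensorProduct.mk B (𝔞.map (algebraMap A B)) M (jmap 𝔞 a)).toAddMonoidHom
      map_zero' := by ext x; simp
      map_add' := fun a₁ a₂ => by ext x; simp }
    (by
      intro r a m
      change (jmap (B := B) 𝔞 (r • a)) ⊗ₜ[B] m = (jmap 𝔞 a) ⊗ₜ[B] (r • m)
      rw [jmap_smul, TensorProduct.smul_tmul, algebraMap_smul])

@[simp] lemma Psi_tmul (a : 𝔞) (m : M) :
    Psi 𝔞 M (a ⊗ₜ[A] m) =
      (⟨algebraMap A B a.1, Ideal.mem_map_of_mem _ a.2⟩ : 𝔞.map (algebraMap A B)) ⊗ₜ[B] m := rfl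

lemma Psi_surjective : Surjective (Psi (B := B) 𝔞 M) := by
  intro x
  induction x using TensorProduct.induction_on with
  | zero => exact ⟨0, map_zero _⟩
  | add a b ha hb =>
    obtain ⟨y, rfl⟩ := ha
    obtain ⟨z, rfl⟩ := hb
    exact ⟨y + z, map_add _ _ _⟩
  | tmul i m =>
    obtain ⟨i, hi⟩ := i
    revert m
    change i ∈ Ideal.span _ at hi
    induction hi using Submodule.span_induction with
    | mem x hx =>
      intro m
      obtain ⟨a, ha, rfl⟩ := hx
      exact ⟨(⟨a, ha⟩ : 𝔞) ⊗ₜ[A] m, rfl⟩
    | zero =>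
      intro m
      refine ⟨0, ?_⟩
      have : (⟨0, Submodule.zero_mem _⟩ : 𝔞.map (algebraMap A B)) = 0 := rfl
      rw [map_zero, this, TensorProduct.zero_tmul]
    | add x y hx hy ihx ihy =>
      intro m
      obtain ⟨u, hu⟩ := ihx m
      obtain ⟨v, hv⟩ := ihy m
      refine ⟨u + v, ?_⟩
      rw [map_add, hu, hv, ← TensorProduct.add_tmul]
      rfl
    | smul b x hx ih =>
      intro m
      obtain ⟨u, hu⟩ := ih (b • m)
      refine ⟨u, ?_⟩
      rw [hu, ← TensorProduct.smul_tmul]
      rfl

lemma rTensor_Psi (y : 𝔞 ⊗[A] M) :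
    TensorProduct.lid B M (rTensor M (𝔞.map (algebraMap A B)).subtype (Psi (B := B) 𝔞 M y)) =
      TensorProduct.lid A M (rTensor M 𝔞.subtype y) := by
  induction y using TensorProduct.induction_on with
  | zero => simp
  | add a b ha hb => simp only [map_add, ha, hb]
  | tmul a m => simp

lemma rTensor_injective_of_flat [Module.Flat A M] :
    Injective (rTensor M (𝔞.map (algebraMap A B)).subtype) := by
  rw [injective_iff_map_eq_zero]
  intro x hx
  obtain ⟨y, rfl⟩ := Psi_surjective 𝔞 M x
  have h1 : TensorProduct.lid A M (rTensor M 𝔞.subtype y) = 0 := by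
    rw [← rTensor_Psi (B := B) 𝔞 M y, hx, map_zero]
  have h2 : rTensor M 𝔞.subtype y = 0 := by
    simpa using h1
  have h3 : y = 0 :=
    (Module.Flat.rTensor_preserves_injective_linearMap 𝔞.subtype 𝔞.injective_subtype)
      (by rw [h2, map_zero])
  rw [h3, map_zero]

end Psi

section Quot
variable {B : Type u} [CommRing B] (I : Ideal B) (M : Type u) [AddCommGroup M] [Module B M]

/-- `(B/I) ⊗ M ≃ M/IM` as `B/I`-modules -/
noncomputable def quotEquiv : (B ⧸ I) ⊗[B] M ≃ₗ[B ⧸ I] M ⧸ (I • ⊤ : Submodule B M) :=
  (TensorProduct.quotTensorEquivQuotSMul M I).extendScalarsOfSurjective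
    Ideal.Quotient.mk_surjective

end Quot

section Main
variable {A B C : Type u} [CommRing A] [CommRing B] [CommRing C] [IsLocalRing A] [IsLocalRing B]
  [IsLocalRing C] [IsNoetherianRing B] [IsNoetherianRing C]
  [Algebra A B] [Algebra B C] [IsLocalHom (algebraMap A B)] [IsLocalHom (algebraMap B C)]
  (M : Type u) [AddCommGroup M] [Module C M] [Module B M] [Module A M] [IsScalarTower B C M]
  [IsScalarTower A B M] [Module.Finite C M] [Nontrivial M]

omit [IsNoetherianRing B] [IsNoetherianRing C] in
include C in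
lemma faithfullyFlat_of_flat [Module.Flat B M] : Module.FaithfullyFlat B M := by
  refine ⟨fun m hm => ?_⟩
  obtain rfl := IsLocalRing.eq_maximalIdeal hm
  intro h
  have h0 : (⊤ : Submodule C M) ≠ (maximalIdeal C) • ⊤ :=
    Submodule.top_ne_ideal_smul_of_le_jacobson_annihilator
      (IsLocalRing.maximalIdeal_le_jacobson _)
  apply h0
  refine le_antisymm ?_ le_top
  intro m _
  have hm : m ∈ (maximalIdeal B • ⊤ : Submodule B M) := by rw [h]; trivial
  refine Submodule.smul_induction_on hm ?_ ?_
  · intro b hb n hn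
    rw [← algebraMap_smul C b n]
    refine Submodule.smul_mem_smul ?_ trivial
    have hle : maximalIdeal B ≤ (maximalIdeal C).comap (algebraMap B C) :=
      ((IsLocalRing.local_hom_TFAE (algebraMap B C)).out 0 3).1 ‹IsLocalHom _›
    exact hle hb
  · intro x y hx hy
    exact add_mem hx hy

include C in
theorem fibre_criterion :
    (Module.Flat A M ∧ Module.Flat (B ⧸ (maximalIdeal A).map (algebraMap A B))
        (M ⧸ ((maximalIdeal A).map (algebraMap A B)) • (⊤ : Submodule B M))) ↔
      (Module.Flat A B ∧ Module.Flat B M) := by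
  set I := (maximalIdeal A).map (algebraMap A B) with hI
  constructor
  · rintro ⟨h1, h2⟩
    have hItop : I ≠ ⊤ := by
      intro h
      have hle : I ≤ maximalIdeal B := by
        exact ((IsLocalRing.local_hom_TFAE (algebraMap A B)).out 0 2).1 ‹IsLocalHom _›
      exact (maximalIdeal.isMaximal B).ne_top (top_le_iff.1 (h ▸ hle))
    have hBM : Module.Flat B M := by
      apply Groth.Agent.Helper2.LocCrit2.flat_of_quotient (S := C) I hItop
      · exact rTensor_injective_of_flat (A := A) (B := B) (maximalIdeal A) M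
      · exact Module.Flat.of_linearEquiv (quotEquiv I M)
    haveI := hBM
    haveI := faithfullyFlat_of_flat (B := B) (C := C) M
    exact ⟨flat_of_faithfullyFlat (A := A) (B := B) (M := M), hBM⟩
  · rintro ⟨h1, h2⟩
    refine ⟨Module.Flat.trans A B M, ?_⟩
    exact Module.Flat.of_linearEquiv (quotEquiv I M).symm

end Main

end Groth.Agent.Helper2.FibCrit
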