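import Mathlib
import Groth.Prelude
import Groth.Agent.Helper2.FlatCL4
import Groth.Agent.Helper2.FibCrit
import Groth.Agent.Helper2.LocCrit2

set_option autoImplicit false
open Function TensorProduct LinearMap IsLocalRing
universe u

namespace Groth.Agent.Helper2.FlatAtElem

open Groth.Agent.Helper2.AdicFlat Groth.Agent.Helper2.FlatCL1 Groth.Agent.Helper2.FlatCL4

section Elem
variable {A B : Type u} [CommRing A] [CommRing B] [Algebra A B]
  (M : Type u) [AddCommGroup M] [Module B M] [Module A M] [IsScalarTower A B M]
  (T : Submonoid B)

/-- elementwise criterion for injectivity of `M_T ⊗ ι`. -/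
lemma lTensor_localized_injective_iff {X' X : Type u} [AddCommGroup X'] [AddCommGroup X]
    [Module A X'] [Module A X] (ι : X' →ₗ[A] X) :
    Injective (lTensor (LocalizedModule T M) ι) ↔
      ∀ v : M ⊗[A] X', lTensor M ι v = 0 → ∃ s : T, s • v = 0 := by
  have h2 := IsLocalizedModule.map_lTensor (R := A) B T ι (LocalizedModule.mkLinearMap T M)
  constructor
  · intro h v hv
    have h1 : Injective (AlgebraTensorModule.lTensor B (LocalizedModule T M) ι) := h
    rw [← h2] at h1
    exact exists_smul_eq_zero_of_map_injective T _ _ _ h1 v hv
  · intro h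
    change Injective (AlgebraTensorModule.lTensor B (LocalizedModule T M) ι)
    rw [← h2]
    exact map_injective_of_forall_exists_smul T _ _ _ h

/-- elementwise criterion for flatness of a localized module over the base. -/
theorem flat_localized_iff :
    Module.Flat A (LocalizedModule T M) ↔
      ∀ (X' X : Type u) [AddCommGroup X'] [AddCommGroup X] [Module A X'] [Module A X]
        (ι : X' →ₗ[A] X), Injective ι → ∀ v : M ⊗[A] X', lTensor M ι v = 0 → ∃ s : T, s • v = 0 := by
  constructor
  · intro h X' X _ _ _ _ ι hι
    exact (lTensor_localized_injective_iff M T ι).1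
      (Module.Flat.lTensor_preserves_injective_linearMap ι hι)
  · intro h
    rw [Module.Flat.iff_lTensor_preserves_injective_linearMap]
    intro X' X _ _ _ _ ι hι
    exact (lTensor_localized_injective_iff M T ι).2 (h X' X ι hι)

/-- monotonicity in the submonoid. -/
theorem flat_localized_mono {T T' : Submonoid B} (h : T ≤ T')
    (hf : Module.Flat A (LocalizedModule T M)) : Module.Flat A (LocalizedModule T' M) := by
  rw [flat_localized_iff] at hf ⊢
  intro X' X _ _ _ _ ι hι v hv
  obtain ⟨s, hs⟩ := hf X' X ι hι v hv
  exact ⟨⟨s.1, h s.2⟩, hs⟩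

/-- elementwise criterion for `TorsionFlat` of a localized module. -/
theorem torsionFlat_localized_of (I : Ideal A)
    (h : ∀ (X' X : Type u) [AddCommGroup X'] [AddCommGroup X] [Module A X'] [Module A X],
      Module.IsTorsionBySet A X' I → Module.IsTorsionBySet A X I →
        ∀ (ι : X' →ₗ[A] X), Injective ι → ∀ v : M ⊗[A] X', lTensor M ι v = 0 → ∃ s : T, s • v = 0) :
    TorsionFlat I (LocalizedModule T M) := by
  intro X' X _ _ _ _ hX' hX ι hι
  exact (lTensor_localized_injective_iff M T ι).2 (h X' X hX' hX ι hι)

end Elem


section LocBase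
variable {A : Type u} [CommRing A] (p : Ideal A) [p.IsPrime]
  (X : Type u) [AddCommGroup X] [Module A X] [Module (Localization.AtPrime p) X]
  [IsScalarTower A (Localization.AtPrime p) X]

/-- injectivity of `I ⊗ X → X` passes to the localization of the base. -/
lemma rTensor_map_injective (I : Ideal A) (h : Injective (rTensor X I.subtype)) :
    Injective (rTensor X (I.map (algebraMap A (Localization.AtPrime p))).subtype) := by
  rw [injective_iff_map_eq_zero]
  intro x hx
  obtain ⟨y, rfl⟩ := Groth.Agent.Helper2.FibCrit.Psi_surjective (B := Localization.AtPrime p) I X x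
  have h1 : TensorProduct.lid A X (rTensor X I.subtype y) = 0 := by
    rw [← Groth.Agent.Helper2.FibCrit.rTensor_Psi (B := Localization.AtPrime p) I X y, hx, map_zero]
  have h2 : rTensor X I.subtype y = 0 := by simpa using h1
  have h3 : y = 0 := h (by rw [h2, map_zero])
  rw [h3, map_zero]

/-- `TorsionFlat` passes to the localization of the base. -/
lemma torsionFlat_map (I : Ideal A) (h : TorsionFlat I X) :
    TorsionFlat (I.map (algebraMap A (Localization.AtPrime p))) X := by
  intro Y' Y _ _ _ _ hY' hY ι hι
  letI : Module A Y' := Module.compHom Y' (algebraMap A (Localization.AtPrime p))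
  letI : Module A Y := Module.compHom Y (algebraMap A (Localization.AtPrime p))
  haveI : IsScalarTower A (Localization.AtPrime p) Y' :=
    IsScalarTower.of_algebraMap_smul (fun _ _ => rfl)
  haveI : IsScalarTower A (Localization.AtPrime p) Y :=
    IsScalarTower.of_algebraMap_smul (fun _ _ => rfl)
  have hY'A : Module.IsTorsionBySet A Y' I := by
    intro y a
    change (algebraMap A (Localization.AtPrime p) a.1) • y = 0
    exact @hY' y ⟨_, Ideal.mem_map_of_mem _ a.2⟩
  have hYA : Module.IsTorsionBySet A Y I := by
    intro y a
    change (algebraMap A (Localization.AtPrime p) a.1) • y = 0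
    exact @hY y ⟨_, Ideal.mem_map_of_mem _ a.2⟩
  have h1 := h Y' Y hY'A hYA (ι.restrictScalars A) hι
  let e' := IsLocalization.moduleTensorEquiv p.primeCompl (Localization.AtPrime p) X Y'
  let e := IsLocalization.moduleTensorEquiv p.primeCompl (Localization.AtPrime p) X Y
  have key : ∀ v, e (lTensor X ι v) = lTensor X (ι.restrictScalars A) (e' v) := by
    intro v
    induction v using TensorProduct.induction_on with
    | zero => simp
    | add a b ha hb => simp only [map_add, ha, hb]
    | tmul x y => rfl
  intro v w hvw
  apply e'.injective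
  apply h1
  rw [← key, ← key, hvw]

end LocBase

section LCq
variable {A B : Type u} [CommRing A] [CommRing B] [Algebra A B] [IsNoetherianRing A]
  [IsNoetherianRing B] (q : Ideal B) [q.IsPrime] (M : Type u) [AddCommGroup M] [Module B M]
  [Module A M] [IsScalarTower A B M] [Module.Finite B M]

/-- local criterion of flatness at a prime, relative to an ideal `I ⊆ q ∩ A`. -/
theorem flat_localized_of_crit (I : Ideal A) (hI : I ≤ q.comap (algebraMap A B))
    (h1 : Injective (rTensor (LocalizedModule q.primeCompl M) I.subtype))
    (h2 : TorsionFlat I (LocalizedModule q.primeCompl M)) :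
    Module.Flat A (LocalizedModule q.primeCompl M) := by
  letI := Localization.AtPrime.algebraOfLiesOver (q.comap (algebraMap A B)) q
  let R := Localization.AtPrime (q.comap (algebraMap A B))
  let S := Localization.AtPrime q
  let X := LocalizedModule q.primeCompl M
  letI : Module R X := Module.compHom X (algebraMap R S)
  haveI : IsScalarTower R S X := IsScalarTower.of_algebraMap_smul (fun _ _ => rfl)
  haveI : IsScalarTower A R X := by
    refine IsScalarTower.of_algebraMap_smul (fun a x => ?_)
    change algebraMap R S (algebraMap A R a) • x = a • x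
    rw [← IsScalarTower.algebraMap_apply A R S, algebraMap_smul]
  haveI : IsLocalHom (algebraMap R S) :=
    Localization.isLocalHom_localRingHom _ _ _ Ideal.LiesOver.over
  have hne : I.map (algebraMap A R) ≠ ⊤ := by
    intro htop
    have hle : I.map (algebraMap A R) ≤ maximalIdeal R := by
      rw [Ideal.map_le_iff_le_comap]
      intro a ha
      rw [Ideal.mem_comap, ← Localization.AtPrime.map_eq_maximalIdeal]
      exact Ideal.mem_map_of_mem _ (hI ha)
    rw [htop] at hle
    exact (maximalIdeal.isMaximal R).ne_top (top_le_iff.1 hle)
  have h1' := rTensor_map_injective (q.comap (algebraMap A B)) X I h1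
  have h2' := flat_of_torsionFlat _ X (torsionFlat_map (q.comap (algebraMap A B)) X I h2)
  haveI : Module.Flat R X := Groth.Agent.Helper2.LocCrit2.flat_of_quotient (S := S) _ hne h1' h2'
  exact Module.Flat.trans A R X

end LCq


end Groth.Agent.Helper2.FlatAtElem
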