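import Mathlib
import Groth.Agent.Helper2.LocCrit2

set_option autoImplicit false
open Function TensorProduct LinearMap
universe u

namespace Groth.Agent.Helper2.TorsKer

section Dom
variable {D : Type u} [CommRing D] (S : Submonoid D) (L : Type u) [CommRing L] [Algebra D L]
  [IsLocalization S L] (W : Type u) [AddCommGroup W] [Module D W]

/-- If `L ⊗ W` is flat over the localization `L = S⁻¹D`, then kernels of `X' ⊗ W → X ⊗ W`
(for injective `X' → X`) are `S`-torsion. -/
lemma exists_smul_eq_zero_of_flat_localization [Module.Flat L (L ⊗[D] W)]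
    {X' X : Type u} [AddCommGroup X'] [AddCommGroup X] [Module D X'] [Module D X]
    (ι : X' →ₗ[D] X) (hι : Injective ι) (v : X' ⊗[D] W) (hv : rTensor W ι v = 0) :
    ∃ s : S, s • v = 0 := by
  haveI : Module.Flat D L := IsLocalization.flat L S
  haveI : Module.Flat D (L ⊗[D] W) := Module.Flat.trans D L (L ⊗[D] W)
  have h1 : rTensor (L ⊗[D] W) ι (lTensor X' (TensorProduct.mk D L W 1) v) = 0 := by
    rw [← LinearMap.comp_apply, LinearMap.rTensor_comp_lTensor, ← LinearMap.lTensor_comp_rTensor,
      LinearMap.comp_apply, hv, map_zero]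
  have h2 : lTensor X' (TensorProduct.mk D L W 1) v = 0 :=
    (Module.Flat.rTensor_preserves_injective_linearMap ι hι) (by rw [h1, map_zero])
  have h3 : TensorProduct.mk D L (X' ⊗[D] W) 1 v = 0 := by
    have key : TensorProduct.mk D L (X' ⊗[D] W) 1 =
        (TensorProduct.leftComm D X' L W).toLinearMap ∘ₗ
          lTensor X' (TensorProduct.mk D L W 1) := by
      apply TensorProduct.ext'
      intro x w
      simp
    rw [key, LinearMap.comp_apply, h2, map_zero]
  exact (IsLocalizedModule.eq_zero_iff S (TensorProduct.mk D L (X' ⊗[D] W) 1)).1 h3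

end Dom

section Tors
variable {A : Type u} [CommRing A] (p : Ideal A) (S : Submonoid (A ⧸ p)) (L : Type u) [CommRing L]
  [Algebra (A ⧸ p) L] [IsLocalization S L] (W : Type u) [AddCommGroup W] [Module A W]

/-- the same for `p`-torsion modules over `A`. -/
lemma exists_smul_eq_zero_of_torsion [Module.Flat L (L ⊗[A ⧸ p] ((A ⧸ p) ⊗[A] W))]
    {X' X : Type u} [AddCommGroup X'] [AddCommGroup X] [Module A X'] [Module A X]
    (hX' : Module.IsTorsionBySet A X' p) (hX : Module.IsTorsionBySet A X p)
    (ι : X' →ₗ[A] X) (hι : Injective ι) (v : W ⊗[A] X') (hv : lTensor W ι v = 0) :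
    ∃ a : A, Ideal.Quotient.mk p a ∈ S ∧ a • v = 0 := by
  let _ := hX'.module
  let _ := hX.module
  let ι' : X' →ₗ[A ⧸ p] X :=
    { ι with
      map_smul' := by
        intro s x
        obtain ⟨s, rfl⟩ := Ideal.Quotient.mk_surjective s
        change ι (s • x) = s • ι x
        exact map_smul ι s x }
  have hres : ι'.restrictScalars A = ι := by ext x; rfl
  let e' := TensorProduct.AlgebraTensorModule.cancelBaseChange A (A ⧸ p) (A ⧸ p) X' W
  let e := TensorProduct.AlgebraTensorModule.cancelBaseChange A (A ⧸ p) (A ⧸ p) X W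
  set v' : X' ⊗[A] W := TensorProduct.comm A W X' v with hv'
  have hv2 : rTensor W ι v' = 0 := by
    have key : rTensor W ι ∘ₗ (TensorProduct.comm A W X').toLinearMap =
        (TensorProduct.comm A W X).toLinearMap ∘ₗ lTensor W ι := by
      apply TensorProduct.ext'
      intro w x
      simp
    have := congrArg (fun g => g v) key
    simp only [LinearMap.comp_apply, LinearEquiv.coe_coe] at this
    rw [hv', this, hv, map_zero]
  have h1 : rTensor ((A ⧸ p) ⊗[A] W) ι' (e'.symm v') = 0 := by
    apply e.injective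
    rw [map_zero, Groth.Agent.Helper2.LocCrit2.cancel_natural p ι', LinearEquiv.apply_symm_apply,
      hres, hv2]
  obtain ⟨s, hs⟩ := exists_smul_eq_zero_of_flat_localization S L ((A ⧸ p) ⊗[A] W) ι' hι
    (e'.symm v') h1
  obtain ⟨a, ha⟩ := Ideal.Quotient.mk_surjective s.1
  refine ⟨a, by rw [ha]; exact s.2, ?_⟩
  have h2 : a • v' = 0 := by
    have h3 : e' (s • e'.symm v') = 0 := by rw [hs, map_zero]
    rw [Submonoid.smul_def, map_smul, LinearEquiv.apply_symm_apply, ← ha] at h3
    exact h3
  have h4 : TensorProduct.comm A W X' (a • v) = 0 := by rw [map_smul]; exact h2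
  exact (LinearEquiv.map_eq_zero_iff _).1 h4

end Tors


section Prime
variable {A : Type u} [CommRing A] (p : Ideal A) [p.IsPrime] (W : Type u) [AddCommGroup W] [Module A W]

/-- for `p` prime, kernels of `W ⊗ X' → W ⊗ X` (`X' ⊆ X` killed by `p`) are killed by elements
outside `p`. -/
lemma exists_notMem_smul_eq_zero
    {X' X : Type u} [AddCommGroup X'] [AddCommGroup X] [Module A X'] [Module A X]
    (hX' : Module.IsTorsionBySet A X' p) (hX : Module.IsTorsionBySet A X p)
    (ι : X' →ₗ[A] X) (hι : Injective ι) (v : W ⊗[A] X') (hv : lTensor W ι v = 0) :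
    ∃ a : A, a ∉ p ∧ a • v = 0 := by
  obtain ⟨a, ha, hav⟩ := exists_smul_eq_zero_of_torsion p (nonZeroDivisors (A ⧸ p))
    (FractionRing (A ⧸ p)) W hX' hX ι hι v hv
  refine ⟨a, fun hap => ?_, hav⟩
  have h0 : Ideal.Quotient.mk p a = 0 := Ideal.Quotient.eq_zero_iff_mem.2 hap
  rw [h0] at ha
  exact zero_notMem_nonZeroDivisors ha

end Prime

end Groth.Agent.Helper2.TorsKer
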