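import Mathlib
import Groth.Prelude
import Groth.Agent.Helper2.FlatAtElem
import Groth.Agent.Helper2.TorsKer

set_option autoImplicit false
open Function TensorProduct LinearMap
universe u

namespace Groth.Agent.Helper2.FlatDescCore

open Groth.Agent.Helper2.AdicFlat Groth.Agent.Helper2.FlatCL1 Groth.Agent.Helper2.FlatCL4
open Groth.Agent.Helper2.FlatAtElem

section Mu
variable {A : Type u} (P : Type u) [CommRing A] [CommRing P] [Algebra A P] (I : Ideal A)
  (M : Type u) [AddCommGroup M] [Module P M] [Module A M] [IsScalarTower A P M]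

/-- the multiplication map `M ⊗ I → M`, linear over the big ring. -/
noncomputable def mu : M ⊗[A] I →ₗ[P] M :=
  (AlgebraTensorModule.rid A P M).toLinearMap ∘ₗ AlgebraTensorModule.lTensor P M I.subtype

@[simp] lemma mu_tmul (m : M) (a : I) : mu P I M (m ⊗ₜ a) = (a : A) • m := by
  simp [mu]

lemma mu_eq_zero_iff (v : M ⊗[A] I) : mu P I M v = 0 ↔ lTensor M I.subtype v = 0 := by
  unfold mu
  rw [LinearMap.comp_apply, LinearEquiv.coe_coe, LinearEquiv.map_eq_zero_iff]
  rfl

variable {M} in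
lemma exists_mu_eq (z : M) (hz : z ∈ (I • ⊤ : Submodule A M)) : ∃ v, mu P I M v = z := by
  refine Submodule.smul_induction_on hz ?_ ?_
  · intro a ha m _
    exact ⟨m ⊗ₜ ⟨a, ha⟩, by simp⟩
  · rintro x y ⟨v, rfl⟩ ⟨w, rfl⟩
    exact ⟨v + w, map_add _ _ _⟩

variable {M} in
lemma mu_natural {M' : Type u} [AddCommGroup M'] [Module P M'] [Module A M'] [IsScalarTower A P M']
    (g : M →ₗ[P] M') (v : M ⊗[A] I) :
    mu P I M' (rTensor I (g.restrictScalars A) v) = g (mu P I M v) := by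
  induction v using TensorProduct.induction_on with
  | zero => simp
  | add a b ha hb => simp only [map_add, ha, hb]
  | tmul m a => simp

variable {M} in
lemma mu_subtype_mem (K : Submodule P M) (w : K ⊗[A] I) :
    (mu P I K w : M) ∈ (I.map (algebraMap A P)) • K := by
  induction w using TensorProduct.induction_on with
  | zero => simp
  | add a b ha hb => rw [map_add, Submodule.coe_add]; exact add_mem ha hb
  | tmul k a =>
    rw [mu_tmul, Submodule.coe_smul_of_tower, ← algebraMap_smul P (a : A) (k : M)]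
    exact Submodule.smul_mem_smul (Ideal.mem_map_of_mem _ a.2) k.2

variable {M} in
lemma exists_mu_subtype_eq (K : Submodule P M) (z : M)
    (hz : z ∈ (I.map (algebraMap A P)) • K) : ∃ w : K ⊗[A] I, (mu P I K w : M) = z := by
  refine Submodule.smul_induction_on hz ?_ ?_
  · intro r hr k hk
    -- r ∈ I.map
    have : ∀ r ∈ I.map (algebraMap A P), ∀ k : K, ∃ w : K ⊗[A] I, (mu P I K w : M) = r • (k : M) := by
      intro r hr
      refine Submodule.span_induction ?_ ?_ ?_ ?_ hr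
      · rintro _ ⟨a, ha, rfl⟩ k
        exact ⟨k ⊗ₜ ⟨a, ha⟩, by simp⟩
      · intro k; exact ⟨0, by simp⟩
      · intro x y _ _ hx hy k
        obtain ⟨v, hv⟩ := hx k
        obtain ⟨w, hw⟩ := hy k
        exact ⟨v + w, by rw [map_add, Submodule.coe_add, hv, hw, add_smul]⟩
      · intro c x _ hx k
        obtain ⟨v, hv⟩ := hx (c • k)
        exact ⟨v, by rw [hv, Submodule.coe_smul, smul_eq_mul, mul_comm, mul_smul]⟩
    exact this r hr ⟨k, hk⟩
  · rintro x y ⟨v, rfl⟩ ⟨w, rfl⟩
    exact ⟨v + w, by rw [map_add, Submodule.coe_add]⟩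

variable {M} in
lemma mem_smul_top_of_mem_map_smul_top (z : M)
    (hz : z ∈ (I.map (algebraMap A P)) • (⊤ : Submodule P M)) : z ∈ (I • ⊤ : Submodule A M) := by
  obtain ⟨w, hw⟩ := exists_mu_subtype_eq P I (⊤ : Submodule P M) z hz
  rw [← hw]
  clear hw
  induction w using TensorProduct.induction_on with
  | zero => simp
  | add a b ha hb => rw [map_add, Submodule.coe_add]; exact add_mem ha hb
  | tmul k a =>
    rw [mu_tmul, Submodule.coe_smul_of_tower]
    exact Submodule.smul_mem_smul a.2 Submodule.mem_top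

end Mu

section Chase
variable {A P : Type u} [CommRing A] [CommRing P] [Algebra A P] (I : Ideal A)
  {F : Type u} [AddCommGroup F] [Module P F] [Module A F] [IsScalarTower A P F]
  (K : Submodule P F) (T : Submonoid P)

omit [IsScalarTower A P F] in
lemma rTensor_smul' {F' : Type u} [AddCommGroup F'] [Module P F'] [Module A F']
    [IsScalarTower A P F'] [IsScalarTower A P F] (π : F →ₗ[P] F') (X : Type u) [AddCommGroup X]
    [Module A X] (r : P) (y : F ⊗[A] X) :
    rTensor X (π.restrictScalars A) (r • y) = r • rTensor X (π.restrictScalars A) y := by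
  induction y using TensorProduct.induction_on with
  | zero => simp
  | tmul m x => simp [TensorProduct.smul_tmul']
  | add a b ha hb => rw [smul_add, map_add, ha, hb, map_add, smul_add]

lemma mu_mem (v : F ⊗[A] I) :
    mu P I F v ∈ (I.map (algebraMap A P)) • (⊤ : Submodule P F) := by
  induction v using TensorProduct.induction_on with
  | zero => simp
  | add a b ha hb => rw [map_add]; exact add_mem ha hb
  | tmul k a =>
    rw [mu_tmul, ← algebraMap_smul P (a : A) k]
    exact Submodule.smul_mem_smul (Ideal.mem_map_of_mem _ a.2) Submodule.mem_top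

/-- **G1**: flatness of `(F/K)_T` forces `K ∩ IF ⊆ IK` up to `T`. -/
theorem exists_smul_mem_of_flat (hfl : Module.Flat A (LocalizedModule T (F ⧸ K)))
    (y : F) (hyK : y ∈ K) (hyI : y ∈ (I.map (algebraMap A P)) • (⊤ : Submodule P F)) :
    ∃ s : T, (s : P) • y ∈ (I.map (algebraMap A P)) • K := by
  have hyI' := mem_smul_top_of_mem_map_smul_top P I y hyI
  obtain ⟨v, rfl⟩ := exists_mu_eq P I y hyI'
  have h0 : mu P I (F ⧸ K) (rTensor I (K.mkQ.restrictScalars A) v) = 0 := by
    rw [mu_natural]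
    exact (Submodule.Quotient.mk_eq_zero K).2 hyK
  have h0' := (mu_eq_zero_iff P I (F ⧸ K) _).1 h0
  obtain ⟨s, hs⟩ := (lTensor_localized_injective_iff (F ⧸ K) T I.subtype).1
    (Module.Flat.lTensor_preserves_injective_linearMap _ Subtype.val_injective) _ h0'
  have h1 : rTensor I (K.mkQ.restrictScalars A) ((s : P) • v) = 0 := by
    rw [rTensor_smul']
    exact hs
  have hex' : Exact (rTensor I (K.subtype.restrictScalars A))
      (rTensor I (K.mkQ.restrictScalars A)) :=
    rTensor_exact I (f := K.subtype.restrictScalars A) (g := K.mkQ.restrictScalars A)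
      (LinearMap.exact_subtype_mkQ K) K.mkQ_surjective
  obtain ⟨w, hw⟩ := (hex' _).1 h1
  refine ⟨s, ?_⟩
  rw [← map_smul, ← hw, mu_natural]
  exact mu_subtype_mem P I K w

/-- **H1**: conversely (for `F` flat) the elementwise condition gives injectivity of
`(F/K)_T ⊗ I → (F/K)_T`. -/
theorem lTensor_injective_of_forall [Module.Flat A F]
    (h : ∀ y ∈ K, y ∈ (I.map (algebraMap A P)) • (⊤ : Submodule P F) →
      ∃ s : T, (s : P) • y ∈ (I.map (algebraMap A P)) • K) :
    Injective (lTensor (LocalizedModule T (F ⧸ K)) I.subtype) := by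
  rw [lTensor_localized_injective_iff]
  intro w hw
  obtain ⟨v, rfl⟩ := rTensor_surjective I (g := K.mkQ.restrictScalars A) K.mkQ_surjective w
  have hw' := (mu_eq_zero_iff P I (F ⧸ K) _).2 hw
  rw [mu_natural] at hw'
  have hyK : mu P I F v ∈ K := (Submodule.Quotient.mk_eq_zero K).1 hw'
  obtain ⟨s, hs⟩ := h _ hyK (mu_mem I v)
  obtain ⟨w', hw'⟩ := exists_mu_subtype_eq P I K _ hs
  have hinj : Injective (mu P I F) := by
    unfold mu
    rw [LinearMap.coe_comp, LinearEquiv.coe_coe]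
    exact (LinearEquiv.injective _).comp
      (Module.Flat.lTensor_preserves_injective_linearMap (M := F) I.subtype Subtype.val_injective)
  have h2 : rTensor I (K.subtype.restrictScalars A) w' = (s : P) • v := by
    apply hinj
    rw [mu_natural, map_smul]
    exact hw'
  refine ⟨s, ?_⟩
  change (s : P) • rTensor I (K.mkQ.restrictScalars A) v = 0
  rw [← rTensor_smul', ← h2, ← LinearMap.comp_apply, ← LinearMap.rTensor_comp]
  have : K.mkQ.restrictScalars A ∘ₗ K.subtype.restrictScalars A = 0 := by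
    ext x
    simp
  rw [this, LinearMap.rTensor_zero, LinearMap.zero_apply]

end Chase

section SurjAbs
variable {R₀ : Type u} [CommRing R₀] (p₀ : Ideal R₀) [p₀.IsPrime]
  {F₀ : Type u} [AddCommGroup F₀] [Module R₀ F₀] (K₀ : Submodule R₀ F₀)
  (W : Type u) [AddCommGroup W] [Module R₀ W]

/-- `K₀ ∩ p₀F₀` as a submodule of `K₀`. -/
def Zsub : Submodule R₀ K₀ := (p₀ • ⊤ : Submodule R₀ F₀).comap K₀.subtype

omit [p₀.IsPrime] in
lemma mem_Zsub (k : K₀) : k ∈ Zsub p₀ K₀ ↔ (k : F₀) ∈ (p₀ • ⊤ : Submodule R₀ F₀) := Iff.rfl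

/-- the torsion of `Tor₁(F₀/K₀, R₀/p₀) ⊗ W → Tor₁`-surjectivity, in module form. -/
theorem surj_abstract (κ : W ⊗[R₀] K₀)
    (h2 : lTensor W ((p₀ • ⊤ : Submodule R₀ F₀).mkQ ∘ₗ K₀.subtype) κ = 0) :
    ∃ a : R₀, a ∉ p₀ ∧ ∃ ζ : W ⊗[R₀] (Zsub p₀ K₀),
      a • κ = lTensor W (Zsub p₀ K₀).subtype ζ := by
  set Z := Zsub p₀ K₀ with hZ
  have hker : Z = LinearMap.ker ((p₀ • ⊤ : Submodule R₀ F₀).mkQ ∘ₗ K₀.subtype) := by
    ext x
    rw [LinearMap.mem_ker, LinearMap.comp_apply, Submodule.mkQ_apply,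
      Submodule.Quotient.mk_eq_zero]
    rfl
  let ι : (K₀ ⧸ Z) →ₗ[R₀] F₀ ⧸ (p₀ • ⊤ : Submodule R₀ F₀) :=
    Z.liftQ ((p₀ • ⊤ : Submodule R₀ F₀).mkQ ∘ₗ K₀.subtype) (le_of_eq hker)
  have hι : Injective ι := LinearMap.ker_eq_bot.1 (Submodule.ker_liftQ_eq_bot' _ _ hker)
  have hQ : Module.IsTorsionBySet R₀ (K₀ ⧸ Z) p₀ := by
    intro x a
    induction x using Submodule.Quotient.induction_on with
    | H k =>
      rw [← Submodule.Quotient.mk_smul, Submodule.Quotient.mk_eq_zero]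
      change ((a : R₀) • k : K₀).1 ∈ (p₀ • ⊤ : Submodule R₀ F₀)
      rw [Submodule.coe_smul]
      exact Submodule.smul_mem_smul a.2 Submodule.mem_top
  have hF : Module.IsTorsionBySet R₀ (F₀ ⧸ (p₀ • ⊤ : Submodule R₀ F₀)) p₀ := by
    intro x a
    induction x using Submodule.Quotient.induction_on with
    | H k =>
      rw [← Submodule.Quotient.mk_smul, Submodule.Quotient.mk_eq_zero]
      exact Submodule.smul_mem_smul a.2 Submodule.mem_top
  have hv : lTensor W ι (lTensor W Z.mkQ κ) = 0 := by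
    rw [← LinearMap.comp_apply, ← LinearMap.lTensor_comp]
    have : ι ∘ₗ Z.mkQ = (p₀ • ⊤ : Submodule R₀ F₀).mkQ ∘ₗ K₀.subtype := Submodule.liftQ_mkQ _ _ _
    rw [this]
    exact h2
  obtain ⟨a, ha, hav⟩ := Groth.Agent.Helper2.TorsKer.exists_notMem_smul_eq_zero p₀ W hQ hF ι hι
    _ hv
  have h3 : lTensor W Z.mkQ (a • κ) = 0 := by
    rw [map_smul]; exact hav
  have hex : Exact (lTensor W Z.subtype) (lTensor W Z.mkQ) :=
    lTensor_exact W (LinearMap.exact_subtype_mkQ Z) Z.mkQ_surjective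
  obtain ⟨ζ, hζ⟩ := (hex _).1 h3
  exact ⟨a, ha, ζ, hζ.symm⟩

end SurjAbs

section Theta
variable {R₀ P₀ B' P' : Type u} [CommRing R₀] [CommRing P₀] [CommRing B'] [CommRing P']
  [Algebra R₀ P₀] [Algebra R₀ B'] [Algebra P₀ P'] [Algebra B' P'] [Algebra R₀ P']
  [IsScalarTower R₀ P₀ P'] [IsScalarTower R₀ B' P'] [Algebra.IsPushout R₀ P₀ B' P']
  {F₀ F' : Type u} [AddCommGroup F₀] [Module P₀ F₀] [Module R₀ F₀] [IsScalarTower R₀ P₀ F₀]
  [AddCommGroup F'] [Module P' F'] [Module B' F'] [IsScalarTower B' P' F'] [Module P₀ F']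
  [IsScalarTower P₀ P' F'] [Module R₀ F'] [IsScalarTower R₀ B' F'] [IsScalarTower R₀ P₀ F']
  (f : F₀ →ₗ[P₀] F') (hf : IsBaseChange P' f)

/-- `B' ⊗[R₀] F₀ ≃ F'`. -/
noncomputable def theta : B' ⊗[R₀] F₀ ≃ₗ[B'] F' :=
  haveI : Algebra.IsPushout R₀ B' P₀ P' := Algebra.IsPushout.symm inferInstance
  (Algebra.IsPushout.cancelBaseChange R₀ B' P₀ P' F₀).symm ≪≫ₗ (hf.equiv.restrictScalars B')

omit [IsScalarTower R₀ B' F'] [IsScalarTower R₀ P₀ F'] [Module R₀ F'] in
@[simp] lemma theta_tmul (b : B') (x : F₀) : theta f hf (b ⊗ₜ[R₀] x) = b • f x := by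
  haveI : Algebra.IsPushout R₀ B' P₀ P' := Algebra.IsPushout.symm inferInstance
  simp only [theta, LinearEquiv.trans_apply, Algebra.IsPushout.cancelBaseChange_symm_tmul,
    LinearEquiv.restrictScalars_apply, IsBaseChange.equiv_tmul, algebraMap_smul]

end Theta

section SurjStage
variable {R₀ P₀ B' P' : Type u} [CommRing R₀] [CommRing P₀] [CommRing B'] [CommRing P']
  [Algebra R₀ P₀] [Algebra R₀ B'] [Algebra P₀ P'] [Algebra B' P'] [Algebra R₀ P']
  [IsScalarTower R₀ P₀ P'] [IsScalarTower R₀ B' P'] [Algebra.IsPushout R₀ P₀ B' P']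
  {F₀ F' : Type u} [AddCommGroup F₀] [Module P₀ F₀] [Module R₀ F₀] [IsScalarTower R₀ P₀ F₀]
  [AddCommGroup F'] [Module P' F'] [Module B' F'] [IsScalarTower B' P' F'] [Module P₀ F']
  [IsScalarTower P₀ P' F'] [Module R₀ F'] [IsScalarTower R₀ B' F'] [IsScalarTower R₀ P₀ F']
  (f : F₀ →ₗ[P₀] F') (hf : IsBaseChange P' f) (K₀ : Submodule P₀ F₀)

lemma lTensor_smul_left {X Y : Type u} [AddCommGroup X] [AddCommGroup Y] [Module R₀ X]
    [Module R₀ Y] (j : X →ₗ[R₀] Y) (b : B') (κ : B' ⊗[R₀] X) :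
    lTensor B' j (b • κ) = b • lTensor B' j κ := by
  induction κ using TensorProduct.induction_on with
  | zero => simp
  | tmul m x => simp [TensorProduct.smul_tmul']
  | add a b ha hb => rw [smul_add, map_add, ha, hb, map_add, smul_add]

/-- multiplication by `p ∈ P₀` on `K₀`, as an `R₀`-linear map. -/
noncomputable def smulP (p : P₀) : (K₀.restrictScalars R₀) →ₗ[R₀] (K₀.restrictScalars R₀) :=
  ((LinearMap.lsmul P₀ F₀ p).restrictScalars R₀).restrict
    (p := K₀.restrictScalars R₀) (q := K₀.restrictScalars R₀)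
    (fun x hx => K₀.smul_mem p hx)

omit [IsScalarTower R₀ B' F'] [IsScalarTower R₀ P₀ F'] [Module R₀ F'] in
lemma theta_smulP (p : P₀) (κ : B' ⊗[R₀] (K₀.restrictScalars R₀)) :
    theta f hf (lTensor B' (K₀.restrictScalars R₀).subtype (lTensor B' (smulP K₀ p) κ)) =
      algebraMap P₀ P' p • theta f hf (lTensor B' (K₀.restrictScalars R₀).subtype κ) := by
  induction κ using TensorProduct.induction_on with
  | zero => simp
  | add a b ha hb => simp only [map_add, ha, hb, smul_add]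
  | tmul b k =>
    simp only [lTensor_tmul, theta_tmul, Submodule.subtype_apply]
    change b • f (p • (k : F₀)) = _
    rw [map_smul]
    have e1 : p • f (k : F₀) = algebraMap P₀ P' p • f (k : F₀) := (algebraMap_smul P' p _).symm
    have e2 : ∀ m : F', b • m = algebraMap B' P' b • m := fun m => (algebraMap_smul P' b m).symm
    rw [e1, e2, e2, smul_comm]

omit [IsScalarTower R₀ B' F'] [IsScalarTower R₀ P₀ F'] [Module R₀ F'] in
/-- (θ2) elements of `K'` come from `B' ⊗ K₀`. -/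
lemma exists_kappa (y : F') (hy : y ∈ Submodule.span P' (f '' (K₀ : Set F₀))) :
    ∃ κ : B' ⊗[R₀] (K₀.restrictScalars R₀),
      theta f hf (lTensor B' (K₀.restrictScalars R₀).subtype κ) = y := by
  haveI hpo : Algebra.IsPushout R₀ B' P₀ P' := Algebra.IsPushout.symm inferInstance
  have hsm : ∀ (c : P') (κ : B' ⊗[R₀] (K₀.restrictScalars R₀)),
      ∃ κ' : B' ⊗[R₀] (K₀.restrictScalars R₀),
        theta f hf (lTensor B' (K₀.restrictScalars R₀).subtype κ') =
          c • theta f hf (lTensor B' (K₀.restrictScalars R₀).subtype κ) := by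
    intro c
    refine hpo.out.inductionOn c _ ?_ ?_ ?_ ?_
    · intro κ; exact ⟨0, by simp⟩
    · intro p κ
      exact ⟨lTensor B' (smulP K₀ p) κ, theta_smulP f hf K₀ p κ⟩
    · intro b c ih κ
      obtain ⟨κ₁, hκ₁⟩ := ih κ
      refine ⟨b • κ₁, ?_⟩
      rw [lTensor_smul_left, map_smul, hκ₁, smul_assoc]
    · intro c₁ c₂ h₁ h₂ κ
      obtain ⟨κ₁, hκ₁⟩ := h₁ κ
      obtain ⟨κ₂, hκ₂⟩ := h₂ κ
      exact ⟨κ₁ + κ₂, by rw [map_add, map_add, hκ₁, hκ₂, add_smul]⟩
  refine Submodule.span_induction ?_ ?_ ?_ ?_ hy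
  · rintro _ ⟨k, hk, rfl⟩
    exact ⟨(1 : B') ⊗ₜ ⟨k, hk⟩, by simp⟩
  · exact ⟨0, by simp⟩
  · rintro x y _ _ ⟨κ₁, rfl⟩ ⟨κ₂, rfl⟩
    exact ⟨κ₁ + κ₂, by rw [map_add, map_add]⟩
  · rintro c x _ ⟨κ, rfl⟩
    exact hsm c κ

end SurjStage

section SurjStage2
variable {R₀ P₀ B' P' : Type u} [CommRing R₀] [CommRing P₀] [CommRing B'] [CommRing P']
  [Algebra R₀ P₀] [Algebra R₀ B'] [Algebra P₀ P'] [Algebra B' P'] [Algebra R₀ P']
  [IsScalarTower R₀ P₀ P'] [IsScalarTower R₀ B' P'] [Algebra.IsPushout R₀ P₀ B' P']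
  {F₀ F' : Type u} [AddCommGroup F₀] [Module P₀ F₀] [Module R₀ F₀] [IsScalarTower R₀ P₀ F₀]
  [AddCommGroup F'] [Module P' F'] [Module B' F'] [IsScalarTower B' P' F'] [Module P₀ F']
  [IsScalarTower P₀ P' F'] [Module R₀ F'] [IsScalarTower R₀ B' F'] [IsScalarTower R₀ P₀ F']
  (f : F₀ →ₗ[P₀] F') (hf : IsBaseChange P' f) (K₀ : Submodule P₀ F₀) (p₀ : Ideal R₀)

lemma isScalarTower_R₀_P'_F' (R₀ B' P' F' : Type u) [CommRing R₀] [CommRing B'] [CommRing P']
    [Algebra R₀ B'] [Algebra B' P'] [Algebra R₀ P'] [IsScalarTower R₀ B' P']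
    [AddCommGroup F'] [Module P' F'] [Module B' F'] [IsScalarTower B' P' F'] [Module R₀ F']
    [IsScalarTower R₀ B' F'] : IsScalarTower R₀ P' F' := by
  refine IsScalarTower.of_algebraMap_smul (fun r x => ?_)
  rw [IsScalarTower.algebraMap_apply R₀ B' P', algebraMap_smul, algebraMap_smul]

lemma mem_map_smul_top_of_mem_smul_top (z : F₀) (hz : z ∈ (p₀ • ⊤ : Submodule R₀ F₀)) :
    z ∈ (p₀.map (algebraMap R₀ P₀)) • (⊤ : Submodule P₀ F₀) := by
  refine Submodule.smul_induction_on hz ?_ ?_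
  · intro a ha m _
    rw [← algebraMap_smul P₀ a m]
    exact Submodule.smul_mem_smul (Ideal.mem_map_of_mem _ ha) Submodule.mem_top
  · intro x y hx hy; exact add_mem hx hy

omit [IsScalarTower R₀ P₀ F'] in
/-- (θ3) -/
lemma lTensor_mkQ_theta_symm (y : F')
    (hy : y ∈ (p₀.map (algebraMap R₀ P')) • (⊤ : Submodule P' F')) :
    lTensor B' (p₀ • ⊤ : Submodule R₀ F₀).mkQ ((theta f hf).symm y) = 0 := by
  haveI : IsScalarTower R₀ P' F' := isScalarTower_R₀_P'_F' R₀ B' P' F'
  have hy' := mem_smul_top_of_mem_map_smul_top P' p₀ y hy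
  have hkill : ∀ a ∈ p₀, ∀ w : B' ⊗[R₀] (F₀ ⧸ (p₀ • ⊤ : Submodule R₀ F₀)), a • w = 0 := by
    intro a ha w
    induction w using TensorProduct.induction_on with
    | zero => rw [smul_zero]
    | add x y hx hy => rw [smul_add, hx, hy, add_zero]
    | tmul b x =>
      rw [TensorProduct.smul_tmul', TensorProduct.smul_tmul]
      have : a • x = 0 := by
        induction x using Submodule.Quotient.induction_on with
        | H k =>
          rw [← Submodule.Quotient.mk_smul, Submodule.Quotient.mk_eq_zero]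
          exact Submodule.smul_mem_smul ha Submodule.mem_top
      rw [this, TensorProduct.tmul_zero]
  refine Submodule.smul_induction_on hy' ?_ ?_
  · intro a ha m _
    rw [← algebraMap_smul B' a m, map_smul, algebraMap_smul, map_smul]
    exact hkill a ha _
  · intro x y hx hy
    rw [map_add, map_add, hx, hy, add_zero]

omit [IsScalarTower R₀ B' F'] [IsScalarTower R₀ P₀ F'] [Module R₀ F'] in
/-- (θ4) -/
lemma theta_mem_span (ζ : B' ⊗[R₀] (Zsub p₀ (K₀.restrictScalars R₀))) :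
    theta f hf (lTensor B' ((K₀.restrictScalars R₀).subtype ∘ₗ
      (Zsub p₀ (K₀.restrictScalars R₀)).subtype) ζ) ∈
      Submodule.span P' (f '' ((K₀ ⊓ (p₀.map (algebraMap R₀ P₀)) • ⊤ : Submodule P₀ F₀) : Set F₀)) := by
  induction ζ using TensorProduct.induction_on with
  | zero => simp
  | add x y hx hy => rw [map_add, map_add]; exact add_mem hx hy
  | tmul b z =>
    simp only [lTensor_tmul, theta_tmul, LinearMap.comp_apply, Submodule.subtype_apply]
    rw [← algebraMap_smul P' b]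
    refine Submodule.smul_mem _ _ (Submodule.subset_span ⟨_, ⟨?_, ?_⟩, rfl⟩)
    · exact z.1.2
    · exact mem_map_smul_top_of_mem_smul_top p₀ _ z.2

include hf in
omit [IsScalarTower R₀ P₀ F'] in
/-- **Surj** at a stage. -/
theorem surj_stage [p₀.IsPrime] (y : F') (hyK : y ∈ Submodule.span P' (f '' (K₀ : Set F₀)))
    (hyI : y ∈ (p₀.map (algebraMap R₀ P')) • (⊤ : Submodule P' F')) :
    ∃ a : R₀, a ∉ p₀ ∧ (algebraMap B' P' (algebraMap R₀ B' a)) • y ∈
      Submodule.span P' (f '' ((K₀ ⊓ (p₀.map (algebraMap R₀ P₀)) • ⊤ : Submodule P₀ F₀) : Set F₀)) := by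
  obtain ⟨κ, hκ⟩ := exists_kappa (R₀ := R₀) (B' := B') f hf K₀ y hyK
  have h2 : lTensor B' ((p₀ • ⊤ : Submodule R₀ F₀).mkQ ∘ₗ (K₀.restrictScalars R₀).subtype) κ = 0 := by
    rw [LinearMap.lTensor_comp, LinearMap.comp_apply]
    have := lTensor_mkQ_theta_symm (B' := B') f hf p₀ y hyI
    rw [← hκ, LinearEquiv.symm_apply_apply] at this
    exact this
  obtain ⟨a, ha, ζ, hζ⟩ := surj_abstract p₀ (K₀.restrictScalars R₀) B' κ h2
  refine ⟨a, ha, ?_⟩
  have h3 : (algebraMap B' P' (algebraMap R₀ B' a)) • y =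
      theta f hf (lTensor B' ((K₀.restrictScalars R₀).subtype ∘ₗ
        (Zsub p₀ (K₀.restrictScalars R₀)).subtype) ζ) := by
    rw [LinearMap.lTensor_comp, LinearMap.comp_apply, ← hζ, ← hκ,
      algebraMap_smul, ← map_smul, ← lTensor_smul_left, algebraMap_smul]
  rw [h3]
  exact theta_mem_span f hf K₀ p₀ ζ

end SurjStage2

section QuotBC
variable {R R' : Type u} [CommRing R] [CommRing R'] [Algebra R R']
  {M M' : Type u} [AddCommGroup M] [Module R M] [AddCommGroup M'] [Module R M'] [Module R' M']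
  [IsScalarTower R R' M']

lemma le_ker_mkQ_comp (f : M →ₗ[R] M') (N : Submodule R M) :
    N ≤ LinearMap.ker (((Submodule.span R' (f '' (N : Set M))).mkQ.restrictScalars R).comp f) := by
  intro x hx
  rw [LinearMap.mem_ker, LinearMap.comp_apply, LinearMap.restrictScalars_apply,
    Submodule.mkQ_apply, Submodule.Quotient.mk_eq_zero]
  exact Submodule.subset_span ⟨x, hx, rfl⟩

/-- the induced map on quotients -/
noncomputable def quotMap (f : M →ₗ[R] M') (N : Submodule R M) :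
    (M ⧸ N) →ₗ[R] (M' ⧸ Submodule.span R' (f '' (N : Set M))) :=
  N.liftQ _ (le_ker_mkQ_comp f N)

@[simp] lemma quotMap_mk (f : M →ₗ[R] M') (N : Submodule R M) (m : M) :
    quotMap (R' := R') f N (Submodule.Quotient.mk m) = Submodule.Quotient.mk (f m) := rfl

/-- Base change of a quotient (cf. `Helper7.DiffBC1.isBaseChange_liftQ`). -/
theorem isBaseChange_quotMap (f : M →ₗ[R] M') (hf : IsBaseChange R' f) (N : Submodule R M) :
    IsBaseChange R' (quotMap (R' := R') f N) := by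
  set N' := Submodule.span R' (f '' (N : Set M)) with hN
  apply IsBaseChange.of_lift_unique
  intro Q _ _ _ _ g
  letI : AddCommGroup Q := Module.addCommMonoidToAddCommGroup R'
  let g0 : M →ₗ[R] Q := g.comp N.mkQ
  let g0' : M' →ₗ[R'] Q := hf.lift g0
  have hker : N' ≤ LinearMap.ker g0' := by
    rw [hN, Submodule.span_le]
    rintro _ ⟨n, hn, rfl⟩
    rw [SetLike.mem_coe, LinearMap.mem_ker, hf.lift_eq]
    change g (N.mkQ n) = 0
    rw [Submodule.mkQ_apply, (Submodule.Quotient.mk_eq_zero N).mpr hn, map_zero]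
  refine ⟨N'.liftQ g0' hker, ?_, ?_⟩
  · apply LinearMap.ext
    intro q
    obtain ⟨m, rfl⟩ := N.mkQ_surjective q
    change N'.liftQ g0' hker (N'.mkQ (f m)) = g (N.mkQ m)
    rw [Submodule.mkQ_apply, Submodule.liftQ_apply, hf.lift_eq]
    rfl
  · intro g'' hg''
    apply Submodule.linearMap_qext
    apply hf.algHom_ext'
    apply LinearMap.ext
    intro m
    have := LinearMap.congr_fun hg'' (N.mkQ m)
    change g'' (N'.mkQ (f m)) = g (N.mkQ m) at this
    change g'' (N'.mkQ (f m)) = N'.liftQ g0' hker (N'.mkQ (f m))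
    rw [this, Submodule.mkQ_apply (p := N'), Submodule.liftQ_apply, hf.lift_eq]
    rfl

end QuotBC

section FlatStage
variable {R₀ P₀ B' P' : Type u} [CommRing R₀] [CommRing P₀] [CommRing B'] [CommRing P']
  [Algebra R₀ P₀] [Algebra R₀ B'] [Algebra P₀ P'] [Algebra B' P'] [Algebra R₀ P']
  [IsScalarTower R₀ P₀ P'] [IsScalarTower R₀ B' P'] [Algebra.IsPushout R₀ P₀ B' P']
  {F₀ F' : Type u} [AddCommGroup F₀] [Module P₀ F₀] [Module R₀ F₀] [IsScalarTower R₀ P₀ F₀]
  [AddCommGroup F'] [Module P' F'] [Module B' F'] [IsScalarTower B' P' F'] [Module P₀ F']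
  [IsScalarTower P₀ P' F'] [Module R₀ F'] [IsScalarTower R₀ B' F'] [IsScalarTower R₀ P₀ F']
  (f : F₀ →ₗ[P₀] F') (hf : IsBaseChange P' f) (K₀ : Submodule P₀ F₀)

include hf in
omit [IsScalarTower R₀ P₀ F'] in
/-- **Stage theorem**: the local criterion at a Noetherian stage. -/
theorem flat_stage [IsNoetherianRing B'] [IsNoetherianRing P'] [Module.Finite P' F']
    [Module.Flat B' F'] (q' : Ideal P') [q'.IsPrime]
    (H : ∀ z ∈ K₀ ⊓ ((q'.comap (algebraMap R₀ P')).map (algebraMap R₀ P₀)) •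
        (⊤ : Submodule P₀ F₀),
      ∃ s : P', s ∉ q' ∧ s • f z ∈ ((q'.comap (algebraMap R₀ P')).map (algebraMap R₀ P')) •
        Submodule.span P' (f '' (K₀ : Set F₀))) :
    Module.Flat B' (LocalizedModule q'.primeCompl
      (F' ⧸ Submodule.span P' (f '' (K₀ : Set F₀)))) := by
  set p₀ := q'.comap (algebraMap R₀ P') with hp₀
  set K' := Submodule.span P' (f '' (K₀ : Set F₀)) with hK'
  set I := p₀.map (algebraMap R₀ B') with hI
  have hImap : I.map (algebraMap B' P') = p₀.map (algebraMap R₀ P') := by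
    rw [hI, Ideal.map_map, ← IsScalarTower.algebraMap_eq]
  have hIle : I ≤ q'.comap (algebraMap B' P') := by
    rw [hI, Ideal.map_le_iff_le_comap]
    intro a ha
    rw [Ideal.mem_comap, Ideal.mem_comap, ← IsScalarTower.algebraMap_apply]
    exact ha
  have hnot : ∀ a : R₀, a ∉ p₀ → algebraMap B' P' (algebraMap R₀ B' a) ∉ q' := by
    intro a ha h
    apply ha
    rw [hp₀, Ideal.mem_comap, IsScalarTower.algebraMap_apply R₀ B' P']
    exact h
  apply flat_localized_of_crit q' (F' ⧸ K') I hIle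
  · -- (h1)
    rw [← LinearMap.lTensor_inj_iff_rTensor_inj]
    apply lTensor_injective_of_forall I K' q'.primeCompl
    intro y hyK hyI
    rw [hImap] at hyI ⊢
    obtain ⟨a, ha, hay⟩ := surj_stage (B' := B') f hf K₀ p₀ y hyK hyI
    have key : ∀ w ∈ Submodule.span P'
        (f '' ((K₀ ⊓ (p₀.map (algebraMap R₀ P₀)) • ⊤ : Submodule P₀ F₀) : Set F₀)),
        ∃ s : P', s ∉ q' ∧ s • w ∈ (p₀.map (algebraMap R₀ P')) • K' := by
      intro w hw
      refine Submodule.span_induction ?_ ?_ ?_ ?_ hw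
      · rintro _ ⟨z, hz, rfl⟩
        exact H z hz
      · exact ⟨1, fun h => (Ideal.IsPrime.ne_top inferInstance) ((Ideal.eq_top_iff_one _).2 h),
          by rw [smul_zero]; exact zero_mem _⟩
      · rintro x y _ _ ⟨s₁, hs₁, h₁⟩ ⟨s₂, hs₂, h₂⟩
        refine ⟨s₁ * s₂, fun h => ?_, ?_⟩
        · rcases Ideal.IsPrime.mem_or_mem inferInstance h with h | h
          · exact hs₁ h
          · exact hs₂ h
        · rw [smul_add]
          refine add_mem ?_ ?_
          · rw [mul_comm, mul_smul]; exact Submodule.smul_mem _ _ h₁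
          · rw [mul_smul]; exact Submodule.smul_mem _ _ h₂
      · rintro c x _ ⟨s, hs, h⟩
        exact ⟨s, hs, by rw [smul_comm]; exact Submodule.smul_mem _ _ h⟩
    obtain ⟨s₁, hs₁, h₁⟩ := key _ hay
    refine ⟨⟨s₁ * algebraMap B' P' (algebraMap R₀ B' a), fun h => ?_⟩, ?_⟩
    · rcases Ideal.IsPrime.mem_or_mem inferInstance h with h | h
      · exact hs₁ h
      · exact hnot a ha h
    · change (s₁ * algebraMap B' P' (algebraMap R₀ B' a)) • y ∈ _
      rw [mul_smul]; exact h₁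
  · -- (h2)
    apply torsionFlat_localized_of (F' ⧸ K') q'.primeCompl I
    intro Y' Y _ _ _ _ hY' hY ι hι v hv
    letI : Module R₀ Y' := Module.compHom Y' (algebraMap R₀ B')
    letI : Module R₀ Y := Module.compHom Y (algebraMap R₀ B')
    haveI : IsScalarTower R₀ B' Y' := IsScalarTower.of_algebraMap_smul (fun _ _ => rfl)
    haveI : IsScalarTower R₀ B' Y := IsScalarTower.of_algebraMap_smul (fun _ _ => rfl)
    have hY'0 : Module.IsTorsionBySet R₀ Y' p₀ := by
      intro y a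
      change (algebraMap R₀ B' a.1) • y = 0
      exact @hY' y ⟨_, Ideal.mem_map_of_mem _ a.2⟩
    have hY0 : Module.IsTorsionBySet R₀ Y p₀ := by
      intro y a
      change (algebraMap R₀ B' a.1) • y = 0
      exact @hY y ⟨_, Ideal.mem_map_of_mem _ a.2⟩
    let fN := quotMap (R' := P') f K₀
    have hfN : IsBaseChange P' fN := isBaseChange_quotMap f hf K₀
    obtain ⟨v₀, rfl⟩ := psi_surjective R₀ B' P' Y' fN hfN v
    have h0 : lTensor (F₀ ⧸ K₀) (ι.restrictScalars R₀) v₀ = 0 := by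
      apply psi_injective R₀ B' P' Y fN hfN
      rw [psi_natural, map_zero]
      exact hv
    obtain ⟨a, ha, hav⟩ := Groth.Agent.Helper2.TorsKer.exists_notMem_smul_eq_zero p₀ (F₀ ⧸ K₀)
      hY'0 hY0 (ι.restrictScalars R₀) hι v₀ h0
    refine ⟨⟨algebraMap P₀ P' (algebraMap R₀ P₀ a), fun h => ?_⟩, ?_⟩
    · apply hnot a ha
      rw [← IsScalarTower.algebraMap_apply R₀ B' P', IsScalarTower.algebraMap_apply R₀ P₀ P']
      exact h
    · change (algebraMap P₀ P' (algebraMap R₀ P₀ a)) • psi R₀ B' P' Y' fN v₀ = 0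
      rw [← psi_smul, algebraMap_smul, hav, map_zero]

end FlatStage

end Groth.Agent.Helper2.FlatDescCore
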