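import Mathlib
import Groth.Prelude
import Groth.Agent.Helper2.FlatDescCore

set_option autoImplicit false
open Function TensorProduct LinearMap
universe u

namespace Groth.Agent.Helper2.FlatDescPoly

open Groth.Agent.Helper2.FlatDescCore

attribute [local instance] MvPolynomial.algebraMvPolynomial

section Defs
variable (n t : ℕ)

/-- the free module `P(B)^t`. -/
abbrev Fm (B : Type u) [CommRing B] := Fin t → MvPolynomial (Fin n) B

variable {n t}
variable (R : Type u) (B : Type u) [CommRing R] [CommRing B] [Algebra R B]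

/-- the coefficientwise map `P(R)^t → P(B)^t`. -/
noncomputable def fmap : Fm n t R →ₗ[MvPolynomial (Fin n) R] Fm n t B :=
  (Algebra.linearMap (MvPolynomial (Fin n) R) (MvPolynomial (Fin n) B)).compLeft (Fin t)

@[simp] lemma fmap_apply (v : Fm n t R) (i : Fin t) :
    fmap R B v i = MvPolynomial.map (algebraMap R B) (v i) := rfl

lemma isBaseChange_fmap : IsBaseChange (MvPolynomial (Fin n) B) (fmap (n := n) (t := t) R B) := by
  refine IsBaseChange.of_equiv
    (TensorProduct.piScalarRight (MvPolynomial (Fin n) R) (MvPolynomial (Fin n) B)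
      (MvPolynomial (Fin n) B) (Fin t)) ?_
  intro v
  ext1 i
  rw [TensorProduct.piScalarRight_apply, TensorProduct.piScalarRightHom_tmul, fmap_apply]
  change v i • (1 : MvPolynomial (Fin n) B) = _
  rw [Algebra.smul_def, mul_one, MvPolynomial.algebraMap_def]

lemma fmap_injective (h : Injective (algebraMap R B)) : Injective (fmap (n := n) (t := t) R B) := by
  intro v w hvw
  ext1 i
  have := congrFun hvw i
  rw [fmap_apply, fmap_apply] at this
  exact MvPolynomial.map_injective _ h this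

lemma fmap_comp (C : Type u) [CommRing C] [Algebra R C] [Algebra B C] [IsScalarTower R B C]
    (v : Fm n t R) : fmap B C (fmap R B v) = fmap R C v := by
  ext1 i
  rw [fmap_apply, fmap_apply, fmap_apply, MvPolynomial.map_map, ← IsScalarTower.algebraMap_eq]

lemma fmap_smul' (C : Type u) [CommRing C] [Algebra B C] (c : MvPolynomial (Fin n) B)
    (v : Fm n t B) : fmap B C (c • v) = (MvPolynomial.map (algebraMap B C) c) • fmap B C v := by
  rw [map_smul]
  ext1 i
  rw [Pi.smul_apply, Pi.smul_apply, Algebra.smul_def, MvPolynomial.algebraMap_def, smul_eq_mul]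

lemma fmap_algebraMap_smul {R₀ : Type u} [CommRing R₀] [Algebra R₀ R] [Algebra R₀ B]
    [IsScalarTower R₀ R B] (π : R₀) (k : Fm n t R₀) :
    fmap R B (algebraMap R₀ (MvPolynomial (Fin n) R) π • fmap R₀ R k) =
      algebraMap R₀ (MvPolynomial (Fin n) B) π • fmap R₀ B k := by
  ext1 i
  rw [fmap_apply, Pi.smul_apply, Pi.smul_apply, smul_eq_mul, smul_eq_mul, map_mul, fmap_apply,
    fmap_apply, MvPolynomial.map_map, ← IsScalarTower.algebraMap_eq, MvPolynomial.algebraMap_apply,
    MvPolynomial.algebraMap_apply, MvPolynomial.map_C, ← IsScalarTower.algebraMap_apply]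

/-- the submodule `K(B)` generated by the image of `K₀`. -/
noncomputable def KB (K₀ : Submodule (MvPolynomial (Fin n) R) (Fm n t R)) :
    Submodule (MvPolynomial (Fin n) B) (Fm n t B) :=
  Submodule.span (MvPolynomial (Fin n) B) (fmap R B '' (K₀ : Set (Fm n t R)))

end Defs

section Descent
variable {n t : ℕ} {R₀ A : Type u} [CommRing R₀] [CommRing A] [Algebra R₀ A]
  (K₀ : Submodule (MvPolynomial (Fin n) R₀) (Fm n t R₀)) (p₀ : Ideal R₀)

lemma exists_map_eq (B' : Subalgebra R₀ A) (p : MvPolynomial (Fin n) A)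
    (hp : (p.coeffs : Set A) ⊆ B') :
    ∃ p' : MvPolynomial (Fin n) B', MvPolynomial.map (algebraMap B' A) p' = p := by
  have h : p ∈ Set.range (MvPolynomial.map (algebraMap B' A)) := by
    rw [MvPolynomial.mem_range_map_iff_coeffs_subset]
    intro x hx
    exact ⟨⟨x, hp hx⟩, rfl⟩
  exact h

/-- descent of one relation `s • f(z) ∈ p₀ K(A)` to all large enough subalgebras. -/
lemma exists_finset_descent (z : Fm n t R₀) (s : MvPolynomial (Fin n) A)
    (hs : s • fmap R₀ A z ∈
      (p₀.map (algebraMap R₀ (MvPolynomial (Fin n) A))) • KB R₀ A K₀) :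
    ∃ S : Finset A, ∀ B' : Subalgebra R₀ A, (S : Set A) ⊆ B' →
      ∃ s' : MvPolynomial (Fin n) B', MvPolynomial.map (algebraMap B' A) s' = s ∧
        s' • fmap R₀ B' z ∈
          (p₀.map (algebraMap R₀ (MvPolynomial (Fin n) B'))) • KB R₀ B' K₀ := by
  classical
  unfold KB at hs
  rw [Ideal.map, Submodule.span_smul_span, Submodule.mem_span_set'] at hs
  obtain ⟨m, c, g, hg⟩ := hs
  have hg' : ∀ i, ∃ π ∈ p₀, ∃ k ∈ K₀,
      algebraMap R₀ (MvPolynomial (Fin n) A) π • fmap R₀ A k = (g i : Fm n t A) := by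
    intro i
    obtain ⟨_, ⟨π, hπ, rfl⟩, _, ⟨k, hk, rfl⟩, h⟩ := Set.mem_smul.1 (g i).2
    exact ⟨π, hπ, k, hk, h⟩
  choose π hπ k hk hgk using hg'
  refine ⟨s.coeffs ∪ Finset.univ.biUnion (fun i => (c i).coeffs), fun B' hB' => ?_⟩
  have hsB : (s.coeffs : Set A) ⊆ B' := by
    intro x hx
    exact hB' (by rw [Finset.coe_union]; exact Or.inl hx)
  have hcB : ∀ i, ((c i).coeffs : Set A) ⊆ B' := by
    intro i x hx
    refine hB' ?_
    rw [Finset.coe_union]
    refine Or.inr ?_
    rw [Finset.mem_coe, Finset.mem_biUnion]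
    exact ⟨i, Finset.mem_univ _, hx⟩
  obtain ⟨s', hs'⟩ := exists_map_eq B' s hsB
  choose c' hc' using fun i => exists_map_eq B' (c i) (hcB i)
  refine ⟨s', hs', ?_⟩
  have heq : s' • fmap R₀ B' z =
      ∑ i, c' i • (algebraMap R₀ (MvPolynomial (Fin n) B') (π i) • fmap R₀ B' (k i)) := by
    apply fmap_injective (↥B') A Subtype.val_injective
    rw [fmap_smul', hs', fmap_comp, map_sum, ← hg]
    refine Finset.sum_congr rfl (fun i _ => ?_)
    rw [fmap_smul', hc', ← hgk i, fmap_algebraMap_smul]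
  rw [heq]
  refine Submodule.sum_mem _ (fun i _ => Submodule.smul_mem _ _ ?_)
  exact Submodule.smul_mem_smul (Ideal.mem_map_of_mem _ (hπ i))
    (Submodule.subset_span ⟨k i, hk i, rfl⟩)

end Descent

section Tower
variable {n : ℕ} (R₀ B C : Type u) [CommRing R₀] [CommRing B] [CommRing C] [Algebra R₀ B]
  [Algebra B C] [Algebra R₀ C] [IsScalarTower R₀ B C]

instance isScalarTower_pol :
    IsScalarTower R₀ (MvPolynomial (Fin n) B) (MvPolynomial (Fin n) C) := by
  refine IsScalarTower.of_algebraMap_eq' ?_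
  ext r
  rw [RingHom.comp_apply, MvPolynomial.algebraMap_def, MvPolynomial.algebraMap_apply,
    MvPolynomial.algebraMap_apply, MvPolynomial.map_C, ← IsScalarTower.algebraMap_apply]

end Tower

section ThmA
variable {n t : ℕ} {R₀ A : Type u} [CommRing R₀] [CommRing A] [Algebra R₀ A]
  (K₀ : Submodule (MvPolynomial (Fin n) R₀) (Fm n t R₀))

lemma fmap_mem_smul_top (B : Type u) [CommRing B] [Algebra R₀ B] (p₀ : Ideal R₀) (z : Fm n t R₀)
    (hz : z ∈ (p₀.map (algebraMap R₀ (MvPolynomial (Fin n) R₀))) •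
      (⊤ : Submodule (MvPolynomial (Fin n) R₀) (Fm n t R₀))) :
    fmap R₀ B z ∈ (p₀.map (algebraMap R₀ (MvPolynomial (Fin n) B))) •
      (⊤ : Submodule (MvPolynomial (Fin n) B) (Fm n t B)) := by
  refine Submodule.smul_induction_on hz ?_ ?_
  · intro r hr m _
    rw [fmap_smul']
    refine Submodule.smul_mem_smul ?_ Submodule.mem_top
    have : p₀.map (algebraMap R₀ (MvPolynomial (Fin n) B)) =
        (p₀.map (algebraMap R₀ (MvPolynomial (Fin n) R₀))).map
          (algebraMap (MvPolynomial (Fin n) R₀) (MvPolynomial (Fin n) B)) := by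
      rw [Ideal.map_map, ← IsScalarTower.algebraMap_eq]
    rw [this]
    exact Ideal.mem_map_of_mem _ hr
  · intro x y hx hy
    rw [map_add]
    exact add_mem hx hy

variable [IsNoetherianRing R₀]

/-- **Theorem A** (EGA IV 11.2.6, local form): flatness at a prime descends to all large enough
finitely generated subalgebras. -/
theorem exists_fg_flat (q : Ideal (MvPolynomial (Fin n) A)) [q.IsPrime]
    (h : Module.Flat A (LocalizedModule q.primeCompl (Fm n t A ⧸ KB R₀ A K₀))) :
    ∃ B' : Subalgebra R₀ A, B'.FG ∧ ∀ B'' : Subalgebra R₀ A, B' ≤ B'' → B''.FG →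
      Module.Flat B'' (LocalizedModule
        (q.comap (algebraMap (MvPolynomial (Fin n) B'') (MvPolynomial (Fin n) A))).primeCompl
        (Fm n t B'' ⧸ KB R₀ B'' K₀)) := by
  classical
  set p₀ := q.comap (algebraMap R₀ (MvPolynomial (Fin n) A)) with hp₀
  set Z₀ : Submodule (MvPolynomial (Fin n) R₀) (Fm n t R₀) :=
    K₀ ⊓ (p₀.map (algebraMap R₀ (MvPolynomial (Fin n) R₀))) • ⊤ with hZ₀
  haveI : IsNoetherian (MvPolynomial (Fin n) R₀) (Fm n t R₀) :=
    isNoetherian_of_isNoetherianRing_of_finite _ _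
  obtain ⟨G, hG⟩ : Z₀.FG := IsNoetherian.noetherian Z₀
  set I : Ideal A := p₀.map (algebraMap R₀ A) with hI
  have hImap : I.map (algebraMap A (MvPolynomial (Fin n) A)) =
      p₀.map (algebraMap R₀ (MvPolynomial (Fin n) A)) := by
    rw [hI, Ideal.map_map, ← IsScalarTower.algebraMap_eq]
  have hA : ∀ z ∈ Z₀, ∃ s : MvPolynomial (Fin n) A, s ∉ q ∧ s • fmap R₀ A z ∈
      (p₀.map (algebraMap R₀ (MvPolynomial (Fin n) A))) • KB R₀ A K₀ := by
    intro z hz
    have h1 : fmap R₀ A z ∈ KB R₀ A K₀ := Submodule.subset_span ⟨z, hz.1, rfl⟩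
    have h2 : fmap R₀ A z ∈ (I.map (algebraMap A (MvPolynomial (Fin n) A))) •
        (⊤ : Submodule (MvPolynomial (Fin n) A) (Fm n t A)) := by
      rw [hImap]; exact fmap_mem_smul_top A p₀ z hz.2
    obtain ⟨s, hs⟩ := exists_smul_mem_of_flat I (KB R₀ A K₀) q.primeCompl h _ h1 h2
    rw [hImap] at hs
    exact ⟨s.1, s.2, hs⟩
  choose! s hs1 hs2 using hA
  have hD := fun z (hz : z ∈ Z₀) => exists_finset_descent K₀ p₀ z (s z) (hs2 z hz)
  choose! S hS using hD
  refine ⟨Algebra.adjoin R₀ ((G.biUnion S : Finset A) : Set A), Subalgebra.fg_adjoin_finset _,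
    fun B'' hle hfg => ?_⟩
  haveI : Algebra.FiniteType R₀ B'' := (Subalgebra.fg_iff_finiteType B'').1 hfg
  haveI : IsNoetherianRing B'' := Algebra.FiniteType.isNoetherianRing R₀ B''
  set q' := q.comap (algebraMap (MvPolynomial (Fin n) B'') (MvPolynomial (Fin n) A)) with hq'
  have hp₀' : q'.comap (algebraMap R₀ (MvPolynomial (Fin n) B'')) = p₀ := by
    rw [hq', Ideal.comap_comap, ← IsScalarTower.algebraMap_eq]
  apply flat_stage (R₀ := R₀) (B' := ↥B'') (fmap R₀ B'') (isBaseChange_fmap R₀ B'') K₀ q'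
  rw [hp₀']
  intro z hz
  have hzspan : z ∈ Submodule.span (MvPolynomial (Fin n) R₀) (G : Set (Fm n t R₀)) := by
    rw [hG]; exact hz
  refine Submodule.span_induction ?_ ?_ ?_ ?_ hzspan
  · intro g hg
    have hgZ : g ∈ Z₀ := by rw [← hG]; exact Submodule.subset_span hg
    have hsub : ((S g : Finset A) : Set A) ⊆ B'' := by
      intro x hx
      apply hle
      apply Algebra.subset_adjoin
      rw [Finset.mem_coe, Finset.mem_biUnion]
      exact ⟨g, hg, hx⟩
    obtain ⟨s', hs', hmem⟩ := hS g hgZ B'' hsub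
    refine ⟨s', fun hq => ?_, hmem⟩
    apply hs1 g hgZ
    rw [← hs']
    exact hq
  · refine ⟨1, fun h1 => (Ideal.IsPrime.ne_top inferInstance) ((Ideal.eq_top_iff_one _).2 h1), ?_⟩
    rw [map_zero, smul_zero]; exact zero_mem _
  · rintro x y _ _ ⟨s₁, hs₁, h₁⟩ ⟨s₂, hs₂, h₂⟩
    refine ⟨s₁ * s₂, fun hm => ?_, ?_⟩
    · rcases Ideal.IsPrime.mem_or_mem inferInstance hm with hm | hm
      · exact hs₁ hm
      · exact hs₂ hm
    · rw [map_add, smul_add]
      refine add_mem ?_ ?_
      · rw [mul_comm, mul_smul]; exact Submodule.smul_mem _ _ h₁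
      · rw [mul_smul]; exact Submodule.smul_mem _ _ h₂
  · rintro c x _ ⟨s₁, hs₁, h₁⟩
    refine ⟨s₁, hs₁, ?_⟩
    rw [fmap_smul', smul_comm]
    exact Submodule.smul_mem _ _ h₁

end ThmA

end Groth.Agent.Helper2.FlatDescPoly
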