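import Mathlib
import Groth.Agent.Helper1.FreeNilp
import Groth.Agent.Helper2.TorReg

set_option autoImplicit false
open Function TensorProduct LinearMap
open Groth.Agent.Helper1.FreeNilp Groth.Agent.Helper2.TorReg
universe u v

namespace Groth.Agent.Helper2.ContentIdeal

section general
variable {R : Type u} [CommRing R] {F M : Type v} [AddCommGroup F] [Module R F]
  [AddCommGroup M] [Module R M]

lemma muI_natural (𝔞 : Ideal R) (φ : F →ₗ[R] M) (y : 𝔞 ⊗[R] F) :
    muI 𝔞 (lTensor 𝔞 φ y) = φ (muI 𝔞 y) := by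
  induction y using TensorProduct.induction_on with
  | zero => simp
  | add a b ha hb => simp only [map_add, ha, hb]
  | tmul j m => simp

/-- `K ∩ 𝔞F = 𝔞K` when `F/K` is flat. -/
lemma ker_inf_smul_le (φ : F →ₗ[R] M) (hφ : Surjective φ) [Module.Flat R M] (𝔞 : Ideal R) :
    LinearMap.ker φ ⊓ 𝔞 • ⊤ ≤ 𝔞 • LinearMap.ker φ := by
  rintro x ⟨hxK, hxa⟩
  obtain ⟨y, rfl⟩ := exists_muI_eq 𝔞 x hxa
  have hinj : Injective (muI (M := M) 𝔞) := by
    rw [muI_injective_iff]
    exact Module.Flat.rTensor_preserves_injective_linearMap _ 𝔞.injective_subtype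
  have h1 : lTensor 𝔞 φ y = 0 := by
    apply hinj
    rw [muI_natural, map_zero]
    exact hxK
  have hex := lTensor_exact 𝔞 (LinearMap.exact_subtype_ker_map φ) hφ
  obtain ⟨w, rfl⟩ := (hex y).1 h1
  rw [muI_natural]
  have h3 := muI_mem 𝔞 w
  have : 𝔞 • LinearMap.ker φ = Submodule.map (LinearMap.ker φ).subtype (𝔞 • ⊤) := by
    rw [Submodule.map_smul'', Submodule.map_subtype_top]
  rw [this]
  exact Submodule.mem_map_of_mem h3

lemma ker_eq_bot_of_flat_of_le_smul (φ : F →ₗ[R] M) (hφ : Surjective φ) [Module.Flat R M]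
    (𝔞 : Ideal R) (h𝔞 : IsNilpotent 𝔞) (hK : LinearMap.ker φ ≤ 𝔞 • ⊤) :
    LinearMap.ker φ = ⊥ := by
  have h1 : LinearMap.ker φ ≤ 𝔞 • LinearMap.ker φ :=
    le_trans (le_inf le_rfl hK) (ker_inf_smul_le φ hφ 𝔞)
  have key : ∀ n : ℕ, LinearMap.ker φ ≤ 𝔞 ^ n • LinearMap.ker φ := by
    intro n
    induction n with
    | zero => simp
    | succ n ih =>
      calc LinearMap.ker φ ≤ 𝔞 • LinearMap.ker φ := h1
        _ ≤ 𝔞 • (𝔞 ^ n • LinearMap.ker φ) := Submodule.smul_mono le_rfl ih
        _ = 𝔞 ^ (n + 1) • LinearMap.ker φ := by rw [← Submodule.mul_smul, ← pow_succ']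
  obtain ⟨n, hn⟩ := h𝔞
  have := key n
  rw [hn, Submodule.zero_eq_bot, Submodule.bot_smul] at this
  exact le_bot_iff.1 this

end general

section pres
variable {A : Type u} [CommRing A] (M : Type u) [AddCommGroup M] [Module A M]

lemma exists_presentation (J : Ideal A) (hJ : IsNilpotent J)
    (hfree : Module.Free (A ⧸ J) ((A ⧸ J) ⊗[A] M)) :
    ∃ (I : Type u) (φ : (I →₀ A) →ₗ[A] M), Surjective φ ∧
      ∀ x ∈ LinearMap.ker φ, ∀ k, x k ∈ J := by
  classical
  let bJ := Module.Free.chooseBasis (A ⧸ J) ((A ⧸ J) ⊗[A] M)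
  have hex : ∀ k, ∃ m : M, (1 : A ⧸ J) ⊗ₜ[A] m = bJ k := fun k => exists_one_tmul J M (bJ k)
  choose e he using hex
  let φ : (Module.Free.ChooseBasisIndex (A ⧸ J) ((A ⧸ J) ⊗[A] M) →₀ A) →ₗ[A] M :=
    Finsupp.linearCombination A e
  have hφ1 : ∀ x, (1 : A ⧸ J) ⊗ₜ[A] φ x =
      Finsupp.linearCombination (A ⧸ J) bJ (x.mapRange (Ideal.Quotient.mk J) (map_zero _)) := by
    intro x
    show (TensorProduct.mk A (A ⧸ J) M 1) (φ x) = _
    rw [Finsupp.linearCombination_apply, Finsupp.linearCombination_apply, map_finsuppSum,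
      Finsupp.sum_mapRange_index (by intro k; exact zero_smul _ _)]
    apply Finsupp.sum_congr
    intro k _
    rw [map_smul, TensorProduct.mk_apply, he, ← Ideal.Quotient.algebraMap_eq, algebraMap_smul]
  have hcoord : ∀ x ∈ LinearMap.ker φ, ∀ k, x k ∈ J := by
    intro x hx k
    rw [LinearMap.mem_ker] at hx
    have h1 := hφ1 x
    rw [hx, TensorProduct.tmul_zero] at h1
    have h2 := (linearIndependent_iff.1 bJ.linearIndependent) _ h1.symm
    have h3 := DFunLike.congr_fun h2 k
    rw [Finsupp.mapRange_apply, Finsupp.zero_apply] at h3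
    exact Ideal.Quotient.eq_zero_iff_mem.1 h3
  have hsurj : Function.Surjective φ := by
    rw [← LinearMap.range_eq_top]
    apply le_of_le_sup_smul J M hJ
    intro m _
    obtain ⟨c, hc⟩ := Finsupp.mapRange_surjective (Ideal.Quotient.mk J) (map_zero _)
      Ideal.Quotient.mk_surjective (bJ.repr ((1 : A ⧸ J) ⊗ₜ[A] m))
    have h1 : (1 : A ⧸ J) ⊗ₜ[A] (m - φ c) = 0 := by
      rw [TensorProduct.tmul_sub, hφ1, hc, bJ.linearCombination_repr, sub_self]
    have h2 := (one_tmul_eq_zero_iff J M _).1 h1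
    have : m = φ c + (m - φ c) := by abel
    rw [this]
    exact Submodule.add_mem_sup (LinearMap.mem_range_self φ c) h2
  exact ⟨_, φ, hsurj, hcoord⟩

variable {M} {I : Type u} (φ : (I →₀ A) →ₗ[A] M)

/-- the content ideal of the kernel -/
noncomputable def content : Ideal A := Ideal.span {a | ∃ x ∈ LinearMap.ker φ, ∃ k, x k = a}

variable (A' : Type u) [CommRing A'] [Algebra A A']

lemma tmul_eq_sum (a' : A') (x : I →₀ A) :
    a' ⊗ₜ[A] x = x.sum fun i r => (algebraMap A A' r * a') ⊗ₜ[A] Finsupp.single i (1 : A) := by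
  conv_lhs => rw [← Finsupp.sum_single x]
  rw [Finsupp.sum, tmul_sum, Finsupp.sum]
  apply Finset.sum_congr rfl
  intro i _
  have : Finsupp.single i (x i) = (x i) • Finsupp.single i (1 : A) := by
    rw [Finsupp.smul_single, smul_eq_mul, mul_one]
  rw [this, TensorProduct.tmul_smul, TensorProduct.smul_tmul', Algebra.smul_def]

lemma ker_eq_bot_of_map_eq_bot (hφ : Surjective φ)
    (h : (content φ).map (algebraMap A A') = ⊥) :
    LinearMap.ker (lTensor A' φ) = ⊥ := by
  have hex := lTensor_exact (R := A) (M := LinearMap.ker φ) (N := I →₀ A) (P := M) A'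
    (LinearMap.exact_subtype_ker_map φ) hφ
  rw [eq_bot_iff]
  intro y hy
  obtain ⟨w, rfl⟩ := (hex y).1 hy
  rw [Submodule.mem_bot]
  induction w using TensorProduct.induction_on with
  | zero => simp
  | add a b ha hb =>
    rw [map_add, ha ((hex _).2 ⟨a, rfl⟩), hb ((hex _).2 ⟨b, rfl⟩), add_zero]
  | tmul a' x =>
    rw [lTensor_tmul, Submodule.subtype_apply, tmul_eq_sum]
    apply Finset.sum_eq_zero
    intro i _
    have : algebraMap A A' ((x : I →₀ A) i) = 0 := by
      have hmem : algebraMap A A' ((x : I →₀ A) i) ∈ (content φ).map (algebraMap A A') :=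
        Ideal.mem_map_of_mem _ (Ideal.subset_span ⟨x, x.2, i, rfl⟩)
      rw [h] at hmem
      exact hmem
    simp only
    rw [this, zero_mul, zero_tmul]

lemma free_of_ker_eq_bot (hφ : Surjective φ) (h : LinearMap.ker (lTensor A' φ) = ⊥) :
    Module.Free A' (A' ⊗[A] M) := by
  have hinj : Injective (φ.baseChange A') := by
    have : Injective (lTensor A' φ) := LinearMap.ker_eq_bot.1 h
    intro x y hxy
    apply this
    simpa [LinearMap.baseChange_eq_ltensor] using hxy
  have hsurj : Surjective (φ.baseChange A') := by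
    have := LinearMap.lTensor_surjective A' hφ
    intro x
    obtain ⟨y, hy⟩ := this x
    exact ⟨y, by simpa [LinearMap.baseChange_eq_ltensor] using hy⟩
  exact Module.Free.of_equiv (LinearEquiv.ofBijective (φ.baseChange A') ⟨hinj, hsurj⟩)

lemma ker_eq_bot_of_flat (hφ : Surjective φ) (J : Ideal A) (hJ : IsNilpotent J)
    (hcoord : ∀ x ∈ LinearMap.ker φ, ∀ k, x k ∈ J) [Module.Flat A' (A' ⊗[A] M)] :
    LinearMap.ker (lTensor A' φ) = ⊥ := by
  have hsurj : Surjective (φ.baseChange A') := by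
    have := LinearMap.lTensor_surjective A' hφ
    intro x
    obtain ⟨y, hy⟩ := this x
    exact ⟨y, by simpa [LinearMap.baseChange_eq_ltensor] using hy⟩
  have hnil : IsNilpotent (J.map (algebraMap A A')) := by
    obtain ⟨n, hn⟩ := hJ
    refine ⟨n, ?_⟩
    rw [← Ideal.map_pow, hn]
    simp
  have hex := lTensor_exact (R := A) (M := LinearMap.ker φ) (N := I →₀ A) (P := M) A'
    (LinearMap.exact_subtype_ker_map φ) hφ
  have hK : LinearMap.ker (φ.baseChange A') ≤
      (J.map (algebraMap A A')) • (⊤ : Submodule A' (A' ⊗[A] (I →₀ A))) := by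
    intro y hy
    have hy' : lTensor A' φ y = 0 := by
      have := (LinearMap.mem_ker).1 hy
      simpa [LinearMap.baseChange_eq_ltensor] using this
    obtain ⟨w, rfl⟩ := (hex y).1 hy'
    clear hy hy'
    induction w using TensorProduct.induction_on with
    | zero => simp
    | add a b ha hb => rw [map_add]; exact add_mem ha hb
    | tmul a' x =>
      rw [lTensor_tmul, Submodule.subtype_apply, tmul_eq_sum]
      apply Submodule.sum_mem
      intro i _
      simp only
      rw [← smul_eq_mul, ← TensorProduct.smul_tmul']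
      exact Submodule.smul_mem_smul (Ideal.mem_map_of_mem _ (hcoord x x.2 i)) trivial
  have h0 := ker_eq_bot_of_flat_of_le_smul (φ.baseChange A') hsurj _ hnil hK
  rw [eq_bot_iff]
  intro y hy
  have : y ∈ LinearMap.ker (φ.baseChange A') := by
    rw [LinearMap.mem_ker] at hy ⊢
    simpa [LinearMap.baseChange_eq_ltensor] using hy
  rw [h0] at this
  exact this

lemma map_eq_bot_of_ker_eq_bot (h : LinearMap.ker (lTensor A' φ) = ⊥) :
    (content φ).map (algebraMap A A') = ⊥ := by
  rw [content, Ideal.map_span, Ideal.span_eq_bot]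
  rintro _ ⟨a, ⟨x, hx, k, rfl⟩, rfl⟩
  have h1 : (1 : A') ⊗ₜ[A] x ∈ LinearMap.ker (LinearMap.lTensor A' φ) := by
    rw [LinearMap.mem_ker, LinearMap.lTensor_tmul, (LinearMap.mem_ker).1 hx,
      TensorProduct.tmul_zero]
  rw [h, Submodule.mem_bot] at h1
  have h2 := congrArg ((TensorProduct.rid A A').toLinearMap ∘ₗ
    LinearMap.lTensor A' (Finsupp.lapply k)) h1
  rw [map_zero, LinearMap.comp_apply, LinearMap.lTensor_tmul, LinearEquiv.coe_coe,
    TensorProduct.rid_tmul, Finsupp.lapply_apply] at h2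
  rw [Algebra.algebraMap_eq_smul_one]
  exact h2

end pres

end Groth.Agent.Helper2.ContentIdeal
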