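import Mathlib
import Groth.Agent.Helper2.NilpCrit
import Groth.Agent.Helper2.ContentIdeal
import Groth.Agent.Helper1.FlatKrull

set_option autoImplicit false
open TensorProduct Function LinearMap
universe u

namespace Groth.Agent.Helper2.GrFlatCrit

open Groth.Agent.Helper2.TorReg Groth.Agent.Helper2.ContentIdeal Groth.Agent.Helper2.NilpCrit

section general
variable {A : Type u} [CommRing A] {N : Type u} [AddCommGroup N] [Module A N]

lemma mem_smul_top_subtype (I 𝔞 : Ideal A) (v : A) (hv : v ∈ I * 𝔞) (hv' : v ∈ 𝔞) :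
    (⟨v, hv'⟩ : 𝔞) ∈ (I • ⊤ : Submodule A 𝔞) := by
  have h1 : Submodule.map 𝔞.subtype (I • ⊤ : Submodule A 𝔞) = I • 𝔞 := by
    rw [Submodule.map_smul'', Submodule.map_top, Submodule.range_subtype]
  have h2 : v ∈ Submodule.map 𝔞.subtype (I • ⊤ : Submodule A 𝔞) := by
    rw [h1]; exact hv
  obtain ⟨p, hp, hpv⟩ := h2
  have : p = ⟨v, hv'⟩ := Subtype.ext hpv
  rw [← this]; exact hp

lemma tmul_mem_smul_top (I : Ideal A) {P : Type u} [AddCommGroup P] [Module A P] (p : P)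
    (hp : p ∈ (I • ⊤ : Submodule A P)) (n : N) : p ⊗ₜ[A] n ∈ (I • ⊤ : Submodule A (P ⊗[A] N)) := by
  induction hp using Submodule.smul_induction_on' with
  | smul r hr j hj =>
    rw [← TensorProduct.smul_tmul']
    exact Submodule.smul_mem_smul hr trivial
  | add x hx y hy hx' hy' =>
    rw [TensorProduct.add_tmul]; exact add_mem hx' hy'

lemma range_le_smul_top (I 𝔞 𝔟 : Ideal A) (h : 𝔟 ≤ I * 𝔞) (h' : 𝔟 ≤ 𝔞) :
    LinearMap.range (rTensor N (Submodule.inclusion h')) ≤ (I • ⊤ : Submodule A (𝔞 ⊗[A] N)) := by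
  rintro _ ⟨w, rfl⟩
  induction w using TensorProduct.induction_on with
  | zero => simp
  | add a b ha hb => rw [map_add]; exact add_mem ha hb
  | tmul v n =>
    obtain ⟨v, hv⟩ := v
    rw [LinearMap.rTensor_tmul]
    exact tmul_mem_smul_top I _ (mem_smul_top_subtype I 𝔞 v (h hv) (h' hv)) n

lemma smul_top_le_range (I 𝔞 𝔟 : Ideal A) (h : I * 𝔞 ≤ 𝔟) (h' : 𝔟 ≤ 𝔞) :
    (I • ⊤ : Submodule A (𝔞 ⊗[A] N)) ≤ LinearMap.range (rTensor N (Submodule.inclusion h')) := by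
  rw [Submodule.smul_le]
  intro r hr w hw
  clear hw
  induction w using TensorProduct.induction_on with
  | zero => simp
  | add a b ha hb => rw [smul_add]; exact add_mem ha hb
  | tmul v n =>
    refine ⟨(⟨r * v.1, h (Ideal.mul_mem_mul hr v.2)⟩ : 𝔟) ⊗ₜ n, ?_⟩
    rw [LinearMap.rTensor_tmul, TensorProduct.smul_tmul']
    congr 1

/-- `P'(𝔞, 𝔟)` -/
def PP (M : Type u) [AddCommGroup M] [Module A M] (𝔞 𝔟 : Ideal A) (h : 𝔟 ≤ 𝔞) : Prop :=
  ∀ x : 𝔞 ⊗[A] M, muI 𝔞 x ∈ (𝔟 • ⊤ : Submodule A M) →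
    x ∈ LinearMap.range (rTensor M (Submodule.inclusion h))

lemma PP.trans {M : Type u} [AddCommGroup M] [Module A M] {𝔞 𝔟 𝔠 : Ideal A} (h1 : 𝔟 ≤ 𝔞)
    (h2 : 𝔠 ≤ 𝔟) (H1 : PP M 𝔞 𝔟 h1) (H2 : PP M 𝔟 𝔠 h2) : PP M 𝔞 𝔠 (h2.trans h1) := by
  intro x hx
  have hx' : muI 𝔞 x ∈ (𝔟 • ⊤ : Submodule A M) := Submodule.smul_mono_left h2 hx
  obtain ⟨y, rfl⟩ := H1 x hx'
  rw [muI_inclusion] at hx
  obtain ⟨z, rfl⟩ := H2 y hx
  refine ⟨z, ?_⟩
  rw [← LinearMap.comp_apply, ← LinearMap.rTensor_comp]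
  rfl

lemma PP.refl {M : Type u} [AddCommGroup M] [Module A M] (𝔞 : Ideal A) : PP M 𝔞 𝔞 le_rfl := by
  intro x _
  refine ⟨x, ?_⟩
  have : Submodule.inclusion (le_refl 𝔞) = LinearMap.id := by ext; rfl
  rw [this, LinearMap.rTensor_id, LinearMap.id_apply]

end general


section assoc
variable {A : Type u} [CommRing A] [IsNoetherianRing A] (J : Ideal A)

/-- Lemma Z: annihilators of nonzero elements of a flat `A/J`-module lie in an associated prime
of `A/J`. -/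
lemma exists_assoc_ge_ann (F : Type u) [AddCommGroup F] [Module A F] [Module (A ⧸ J) F]
    [IsScalarTower A (A ⧸ J) F] [Module.Flat (A ⧸ J) F] (y : F) (hy : y ≠ 0) :
    ∃ q ∈ associatedPrimes A (A ⧸ J), ∀ a : A, a • y = 0 → a ∈ q := by
  classical
  let 𝔫 : Ideal A := LinearMap.ker (LinearMap.toSpanSingleton A F y)
  have h𝔫 : ∀ a, a ∈ 𝔫 ↔ a • y = 0 := by
    intro a
    simp [𝔫, LinearMap.mem_ker, LinearMap.toSpanSingleton_apply]
  have hfin : (associatedPrimes A (A ⧸ J)).Finite := associatedPrimes.finite A (A ⧸ J)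
  have hsub : (𝔫 : Set A) ⊆ ⋃ q ∈ (hfin.toFinset : Set (Ideal A)), (q : Set A) := by
    intro a ha
    have hay : a • y = 0 := (h𝔫 a).1 ha
    by_contra hcon
    have hnz : ∀ b : A ⧸ J, a • b = 0 → b = 0 := by
      intro b hb
      by_contra hb0
      apply hcon
      have : a ∈ ⋃ p ∈ associatedPrimes A (A ⧸ J), (p : Set A) := by
        rw [biUnion_associatedPrimes_eq_zero_divisors]
        exact ⟨b, hb0, hb⟩
      simpa using this
    have hreg : Ideal.Quotient.mk J a ∈ nonZeroDivisors (A ⧸ J) := by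
      rw [mem_nonZeroDivisors_iff_right]
      intro b hb
      apply hnz b
      rw [Algebra.smul_def, Ideal.Quotient.algebraMap_eq, mul_comm]
      exact hb
    have hsr : IsSMulRegular F (Ideal.Quotient.mk J a) :=
      Module.Flat.isSMulRegular_of_nonZeroDivisors hreg
    apply hy
    apply hsr
    show (Ideal.Quotient.mk J a) • y = (Ideal.Quotient.mk J a) • (0 : F)
    rw [smul_zero]
    have : (Ideal.Quotient.mk J a) • y = a • y := by
      rw [← Ideal.Quotient.algebraMap_eq, algebraMap_smul]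
    rw [this, hay]
  rw [Ideal.subset_union_prime (R := A) (f := fun q : Ideal A => q) ⊥ ⊥] at hsub
  · obtain ⟨q, hq, hle⟩ := hsub
    refine ⟨q, by simpa using hq, fun a ha => hle ((h𝔫 a).2 ha)⟩
  · intro q hq _ _
    have : q ∈ associatedPrimes A (A ⧸ J) := by simpa using hq
    exact this.isPrime

end assoc


section flatF
variable {A : Type u} [CommRing A] (J 𝔞 : Ideal A) (M : Type u) [AddCommGroup M] [Module A M]

lemma flat_quot_tensor (h1 : Module.Flat (A ⧸ J) ((A ⧸ J) ⊗[A] 𝔞))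
    (h2 : Module.Flat (A ⧸ J) ((A ⧸ J) ⊗[A] M)) :
    Module.Flat (A ⧸ J) ((𝔞 ⊗[A] M) ⧸ (J • ⊤ : Submodule A (𝔞 ⊗[A] M))) := by
  have hsurj : Surjective (algebraMap A (A ⧸ J)) := Ideal.Quotient.mk_surjective
  let e1 : ((𝔞 ⊗[A] M) ⧸ (J • ⊤ : Submodule A (𝔞 ⊗[A] M))) ≃ₗ[A ⧸ J] (A ⧸ J) ⊗[A] (𝔞 ⊗[A] M) :=
    ((TensorProduct.quotTensorEquivQuotSMul (𝔞 ⊗[A] M) J).symm).extendScalarsOfSurjective hsurj
  let e2 := TensorProduct.AlgebraTensorModule.distribBaseChange A (A ⧸ J) 𝔞 M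
  have : Module.Flat (A ⧸ J) (((A ⧸ J) ⊗[A] 𝔞) ⊗[A ⧸ J] ((A ⧸ J) ⊗[A] M)) := inferInstance
  exact Module.Flat.of_linearEquiv (e1 ≪≫ₗ e2)

end flatF


section descent
variable {A : Type u} [CommRing A]

lemma exists_smul_mem_of_map_mem (T : Submonoid A) {P P' : Type u} [AddCommGroup P] [Module A P]
    [AddCommGroup P'] [Module A P'] (f : P →ₗ[A] P') [IsLocalizedModule T f] (J : Ideal A)
    (x : P) (hx : f x ∈ (J • ⊤ : Submodule A P')) :
    ∃ s ∈ T, s • x ∈ (J • ⊤ : Submodule A P) := by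
  have key : ∀ y' ∈ (J • ⊤ : Submodule A P'),
      ∃ y ∈ (J • ⊤ : Submodule A P), ∃ s : A, s ∈ T ∧ f y = s • y' := by
    intro y' hy'
    induction hy' using Submodule.smul_induction_on' with
    | smul a ha p' _ =>
      obtain ⟨⟨p, t⟩, hpt⟩ := IsLocalizedModule.surj T f p'
      refine ⟨a • p, Submodule.smul_mem_smul ha trivial, (t : A), t.2, ?_⟩
      have hpt' : (t : A) • p' = f p := hpt
      rw [map_smul, ← hpt', smul_comm]
    | add y1 _ y2 _ h1 h2 =>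
      obtain ⟨z1, hz1, s1, hs1, e1⟩ := h1
      obtain ⟨z2, hz2, s2, hs2, e2⟩ := h2
      refine ⟨s2 • z1 + s1 • z2, add_mem (Submodule.smul_mem _ _ hz1) (Submodule.smul_mem _ _ hz2),
        s1 * s2, T.mul_mem hs1 hs2, ?_⟩
      rw [map_add, map_smul, map_smul, e1, e2, smul_add, mul_smul, mul_smul, smul_comm s2 s1 y1]
  obtain ⟨y, hy, s, hs, hys⟩ := key (f x) hx
  have : f y = f (s • x) := by rw [hys, map_smul]
  obtain ⟨c, hc⟩ := IsLocalizedModule.exists_of_eq (S := T) (f := f) this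
  have hc' : (c : A) • y = (c : A) • s • x := hc
  refine ⟨c * s, T.mul_mem c.2 hs, ?_⟩
  rw [mul_smul, ← hc']
  exact Submodule.smul_mem _ _ hy

instance isLocalizedModule_lTensor (T : Submonoid A) {M M' : Type u} [AddCommGroup M] [Module A M]
    [AddCommGroup M'] [Module A M'] (g : M →ₗ[A] M') [IsLocalizedModule T g]
    (𝔞 : Type u) [AddCommGroup 𝔞] [Module A 𝔞] : IsLocalizedModule T (lTensor 𝔞 g) := by
  have h1 : IsLocalizedModule T (AlgebraTensorModule.rTensor A 𝔞 g) := inferInstance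
  have h2 : lTensor 𝔞 g = (TensorProduct.comm A M' 𝔞).toLinearMap ∘ₗ
      (AlgebraTensorModule.rTensor A 𝔞 g) ∘ₗ (TensorProduct.comm A 𝔞 M).toLinearMap := by
    ext; simp
  rw [h2]
  have h3 : IsLocalizedModule T ((AlgebraTensorModule.rTensor A 𝔞 g) ∘ₗ
      (TensorProduct.comm A 𝔞 M).toLinearMap) :=
    IsLocalizedModule.of_linearEquiv_right T _ _
  exact IsLocalizedModule.of_linearEquiv T _ _

end descent


section step1
variable {A : Type u} [CommRing A] (J : Ideal A)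

/-- flat case -/
lemma mem_smul_top_of_flat (N : Type u) [AddCommGroup N] [Module A N] [Module.Flat A N]
    (𝔞 : Ideal A) (x : 𝔞 ⊗[A] N) (hx : muI 𝔞 x ∈ ((J * 𝔞) • ⊤ : Submodule A N)) :
    x ∈ (J • ⊤ : Submodule A (𝔞 ⊗[A] N)) := by
  obtain ⟨y, hy⟩ := exists_muI_eq (J * 𝔞) _ hx
  have hinj : Injective (muI (M := N) 𝔞) := by
    rw [muI_injective_iff]
    exact (Module.Flat.iff_rTensor_injective'.1 inferInstance) 𝔞
  have : x = rTensor N (Submodule.inclusion (Ideal.mul_le_right : J * 𝔞 ≤ 𝔞)) y := by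
    apply hinj
    rw [muI_inclusion, hy]
  rw [this]
  exact range_le_smul_top J 𝔞 (J * 𝔞) le_rfl _ ⟨y, rfl⟩

theorem PP_succ [IsNoetherianRing A] (M : Type u) [AddCommGroup M] [Module A M]
    (hM : Module.Flat (A ⧸ J) ((A ⧸ J) ⊗[A] M)) (𝔞 : Ideal A)
    (h𝔞 : Module.Flat (A ⧸ J) ((A ⧸ J) ⊗[A] 𝔞))
    (hloc : ∀ q : associatedPrimes A (A ⧸ J),
      haveI : q.1.IsPrime := IsAssociatedPrime.isPrime q.2
      Module.Flat (Localization.AtPrime q.1) (LocalizedModule q.1.primeCompl M)) :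
    PP M 𝔞 (J * 𝔞) Ideal.mul_le_right := by
  intro x hx
  by_contra hcon
  have hxJ : x ∉ (J • ⊤ : Submodule A (𝔞 ⊗[A] M)) :=
    fun h => hcon (smul_top_le_range J 𝔞 (J * 𝔞) le_rfl _ h)
  have hF := flat_quot_tensor J 𝔞 M h𝔞 hM
  have hy : (Submodule.Quotient.mk x : (𝔞 ⊗[A] M) ⧸ (J • ⊤ : Submodule A (𝔞 ⊗[A] M))) ≠ 0 := by
    rw [Ne, Submodule.Quotient.mk_eq_zero]
    exact hxJ
  obtain ⟨q, hq, hann⟩ := exists_assoc_ge_ann J _ _ hy
  have hqp : q.IsPrime := hq.isPrime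
  have hflat : Module.Flat (Localization.AtPrime q) (LocalizedModule q.primeCompl M) :=
    hloc ⟨q, hq⟩
  have hflatA : Module.Flat A (LocalizedModule q.primeCompl M) :=
    Module.Flat.trans A (Localization.AtPrime q) _
  set g := LocalizedModule.mkLinearMap q.primeCompl M with hg
  have hx' : muI 𝔞 (lTensor 𝔞 g x) ∈ ((J * 𝔞) • ⊤ : Submodule A (LocalizedModule q.primeCompl M)) := by
    rw [muI_natural]
    have : (((J * 𝔞) • ⊤ : Submodule A M)).map g ≤
        ((J * 𝔞) • ⊤ : Submodule A (LocalizedModule q.primeCompl M)) := by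
      rw [Submodule.map_smul'']
      exact Submodule.smul_mono le_rfl le_top
    exact this ⟨_, hx, rfl⟩
  have hx'' := mem_smul_top_of_flat J _ 𝔞 _ hx'
  obtain ⟨s, hs, hsx⟩ := exists_smul_mem_of_map_mem q.primeCompl (lTensor 𝔞 g) J x hx''
  apply hs
  apply hann
  rw [← Submodule.Quotient.mk_smul, Submodule.Quotient.mk_eq_zero]
  exact hsx

end step1


section main
variable {A : Type u} [CommRing A] [IsNoetherianRing A] (J : Ideal A)
  (M : Type u) [AddCommGroup M] [Module A M]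

lemma PP_congr {𝔞 𝔟 𝔟' : Ideal A} (e : 𝔟 = 𝔟') (h : 𝔟 ≤ 𝔞) (H : PP M 𝔞 𝔟 h) :
    PP M 𝔞 𝔟' (e ▸ h) := by
  subst e; exact H

theorem PP_pow (hM : Module.Flat (A ⧸ J) ((A ⧸ J) ⊗[A] M))
    (hgr : ∀ k : ℕ, Module.Flat (A ⧸ J) ((A ⧸ J) ⊗[A] ↥(J ^ k)))
    (hloc : ∀ q : associatedPrimes A (A ⧸ J),
      haveI : q.1.IsPrime := IsAssociatedPrime.isPrime q.2
      Module.Flat (Localization.AtPrime q.1) (LocalizedModule q.1.primeCompl M))
    (i n : ℕ) : PP M (J ^ i) (J ^ (i + n)) (Ideal.pow_le_pow_right (Nat.le_add_right i n)) := by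
  induction n with
  | zero => exact PP.refl (J ^ i)
  | succ n ih =>
    have h1 := PP_succ J M hM (J ^ (i + n)) (hgr (i + n)) hloc
    have e : J * J ^ (i + n) = J ^ (i + (n + 1)) := by rw [← add_assoc, pow_succ']
    have h2 := PP_congr M e _ h1
    exact PP.trans _ _ ih h2

theorem muI_pow_injective (hsep : ∀ a : Ideal A, IsHausdorff J (↥a ⊗[A] M))
    (hM : Module.Flat (A ⧸ J) ((A ⧸ J) ⊗[A] M))
    (hgr : ∀ k : ℕ, Module.Flat (A ⧸ J) ((A ⧸ J) ⊗[A] ↥(J ^ k)))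
    (hloc : ∀ q : associatedPrimes A (A ⧸ J),
      haveI : q.1.IsPrime := IsAssociatedPrime.isPrime q.2
      Module.Flat (Localization.AtPrime q.1) (LocalizedModule q.1.primeCompl M))
    (j : ℕ) : Injective (muI (M := M) (J ^ j)) := by
  rw [injective_iff_map_eq_zero]
  intro x hx
  apply (hsep (J ^ j)).haus' x
  intro n
  rw [SModEq.zero]
  have h1 := PP_pow J M hM hgr hloc j n x (by rw [hx]; exact zero_mem _)
  refine range_le_smul_top (J ^ n) (J ^ j) (J ^ (j + n)) ?_ _ h1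
  rw [pow_add, mul_comm]

theorem flat_of_gr (hsep : ∀ a : Ideal A, IsHausdorff J (↥a ⊗[A] M))
    (hM : Module.Flat (A ⧸ J) ((A ⧸ J) ⊗[A] M))
    (hgr : ∀ k : ℕ, Module.Flat (A ⧸ J) ((A ⧸ J) ⊗[A] ↥(J ^ k)))
    (hloc : ∀ q : associatedPrimes A (A ⧸ J),
      haveI : q.1.IsPrime := IsAssociatedPrime.isPrime q.2
      Module.Flat (Localization.AtPrime q.1) (LocalizedModule q.1.primeCompl M)) :
    Module.Flat A M := by
  rw [Module.Flat.iff_rTensor_injective']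
  intro 𝔞
  rw [← muI_injective_iff, injective_iff_map_eq_zero]
  intro x hx
  have key : ∀ j : ℕ, x ∈ LinearMap.range (rTensor M (Submodule.inclusion
      (inf_le_left : 𝔞 ⊓ J ^ j ≤ 𝔞))) := by
    intro j
    induction j with
    | zero =>
      have h0 : 𝔞 ≤ 𝔞 ⊓ J ^ 0 := le_inf le_rfl (by simp)
      refine ⟨rTensor M (Submodule.inclusion h0) x, ?_⟩
      rw [← LinearMap.comp_apply, ← LinearMap.rTensor_comp]
      have : Submodule.inclusion (inf_le_left : 𝔞 ⊓ J ^ 0 ≤ 𝔞) ∘ₗ Submodule.inclusion h0 =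
          LinearMap.id := by ext; rfl
      rw [this, LinearMap.rTensor_id, LinearMap.id_apply]
    | succ j ih =>
      have hJj : Injective (rTensor M (J ^ j).subtype) := by
        rw [← muI_injective_iff]
        exact muI_pow_injective J M hsep hM hgr hloc j
      exact step J 𝔞 j hJj x hx ih
  apply (hsep 𝔞).haus' x
  intro n
  rw [SModEq.zero]
  obtain ⟨c, hc⟩ := Ideal.exists_pow_inf_eq_pow_smul J (𝔞 : Submodule A A)
  have hAR : 𝔞 ⊓ J ^ (n + c) ≤ J ^ n * 𝔞 := by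
    have := hc (n + c) (by omega)
    rw [Nat.add_sub_cancel] at this
    intro y hy
    have hy' : y ∈ J ^ (n + c) • (⊤ : Submodule A A) ⊓ 𝔞 := by
      refine ⟨?_, hy.1⟩
      simpa using hy.2
    rw [this] at hy'
    exact Submodule.smul_mono le_rfl inf_le_right hy'
  exact range_le_smul_top (J ^ n) 𝔞 (𝔞 ⊓ J ^ (n + c)) hAR inf_le_left (key (n + c))

end main

end Groth.Agent.Helper2.GrFlatCrit
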