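import Mathlib
import Groth.Agent.Helper2.GrFlatCrit

set_option autoImplicit false
open TensorProduct Function LinearMap
universe u

namespace Groth.Agent.Helper2.RegFlat

open Groth.Agent.Helper2.TorReg Groth.Agent.Helper2.NilpCrit Groth.Agent.Helper2.GrFlatCrit

section reg
variable {A : Type u} [CommRing A] (f : A) {M : Type u} [AddCommGroup M] [Module A M]

/-- Lemma (Reg): if `f` is regular on `N` and `M`, and `M/fM` is flat over `A/f`,
then `f` is regular on `N ⊗ M`. -/
theorem isSMulRegular_tensor_aux (hM : IsSMulRegular M f)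
    [Module.Flat (A ⧸ Ideal.span {f}) ((A ⧸ Ideal.span {f}) ⊗[A] M)]
    (N : Type u) [AddCommGroup N] [Module A N] (hN : IsSMulRegular N f)
    (G : Type u) [AddCommGroup G] [Module A G] [Module.Flat A G]
    (π : G →ₗ[A] N) (hπ : Surjective π) :
    IsSMulRegular (N ⊗[A] M) f := by
  set L : Submodule A G := LinearMap.ker π with hLdef
  -- quotients mod f
  set fL : Submodule A L := (Ideal.span {f}) • ⊤ with hfL
  set fG : Submodule A G := (Ideal.span {f}) • ⊤ with hfG
  have hLG : fL ≤ Submodule.comap L.subtype fG := by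
    rw [← Submodule.map_le_iff_le_comap, Submodule.map_smul'']
    exact Submodule.smul_mono le_rfl le_top
  let ιq : (L ⧸ fL) →ₗ[A] (G ⧸ fG) := Submodule.mapQ fL fG L.subtype hLG
  have hmemG : ∀ g : G, g ∈ fG ↔ ∃ g' : G, g = f • g' := by
    intro g
    rw [hfG, Submodule.ideal_span_singleton_smul]
    constructor
    · rintro ⟨g', _, rfl⟩; exact ⟨g', rfl⟩
    · rintro ⟨g', rfl⟩; exact ⟨g', trivial, rfl⟩
  have hmemL : ∀ l : L, l ∈ fL ↔ ∃ l' : L, l = f • l' := by
    intro l
    rw [hfL, Submodule.ideal_span_singleton_smul]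
    constructor
    · rintro ⟨l', _, rfl⟩; exact ⟨l', rfl⟩
    · rintro ⟨l', rfl⟩; exact ⟨l', trivial, rfl⟩
  have hιq : Injective ιq := by
    rw [← LinearMap.ker_eq_bot, eq_bot_iff]
    intro a ha
    obtain ⟨l, rfl⟩ := Submodule.Quotient.mk_surjective _ a
    rw [LinearMap.mem_ker, Submodule.mapQ_apply, Submodule.Quotient.mk_eq_zero] at ha
    rw [Submodule.mem_bot, Submodule.Quotient.mk_eq_zero]
    obtain ⟨g', hg'⟩ := (hmemG _).1 ha
    have hg'L : g' ∈ L := by
      rw [LinearMap.mem_ker]
      apply hN
      show f • π g' = f • 0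
      rw [smul_zero, ← map_smul, ← hg']
      exact l.2
    exact (hmemL l).2 ⟨⟨g', hg'L⟩, Subtype.ext hg'⟩
  have htorsL : Module.IsTorsionBySet A (L ⧸ fL) (Ideal.span {f} : Ideal A) := by
    intro a s
    obtain ⟨a, rfl⟩ := Submodule.Quotient.mk_surjective _ a
    rw [← Submodule.Quotient.mk_smul, Submodule.Quotient.mk_eq_zero]
    exact Submodule.smul_mem_smul s.2 trivial
  have htorsG : Module.IsTorsionBySet A (G ⧸ fG) (Ideal.span {f} : Ideal A) := by
    intro a s
    obtain ⟨a, rfl⟩ := Submodule.Quotient.mk_surjective _ a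
    rw [← Submodule.Quotient.mk_smul, Submodule.Quotient.mk_eq_zero]
    exact Submodule.smul_mem_smul s.2 trivial
  have hinjq := rTensor_injective_of_torsion (M := M) (Ideal.span {f}) htorsL htorsG ιq hιq
  -- f is regular on G ⊗ M
  have hregG : IsSMulRegular (G ⊗[A] M) f := by
    have h1 : Injective (lTensor G (f • (LinearMap.id : M →ₗ[A] M))) :=
      Module.Flat.lTensor_preserves_injective_linearMap _ (by
        intro a b hab
        exact hM hab)
    intro a b hab
    apply h1
    have : lTensor G (f • (LinearMap.id : M →ₗ[A] M)) = f • LinearMap.id := by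
      ext g m
      simp
    rw [this]
    exact hab
  -- exactness
  have hexπ : Exact (rTensor M L.subtype) (rTensor M π) :=
    rTensor_exact M (LinearMap.exact_subtype_ker_map π) hπ
  have hexL : Exact (rTensor M fL.subtype) (rTensor M fL.mkQ) :=
    rTensor_exact M (LinearMap.exact_subtype_mkQ fL) (Submodule.mkQ_surjective fL)
  -- main
  intro x₁ x₂ hx
  rw [← sub_eq_zero]
  have hx0 : f • (x₁ - x₂) = 0 := by
    rw [smul_sub, sub_eq_zero]; exact hx
  generalize x₁ - x₂ = x at hx0
  obtain ⟨xt, rfl⟩ := LinearMap.rTensor_surjective M hπ x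
  have h1 : rTensor M π (f • xt) = 0 := by rw [map_smul, hx0]
  obtain ⟨w, hw⟩ := (hexπ _).1 h1
  -- image of w in L/fL ⊗ M vanishes
  have h2 : rTensor M fL.mkQ w = 0 := by
    apply hinjq
    rw [map_zero, ← LinearMap.comp_apply, ← LinearMap.rTensor_comp]
    have : ιq ∘ₗ fL.mkQ = fG.mkQ ∘ₗ L.subtype := by ext a; rfl
    rw [this, LinearMap.rTensor_comp, LinearMap.comp_apply, hw, map_smul]
    -- f kills G/fG ⊗ M
    generalize rTensor M fG.mkQ xt = z
    induction z using TensorProduct.induction_on with
    | zero => simp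
    | add a b ha hb => rw [smul_add, ha, hb, add_zero]
    | tmul a m =>
      rw [TensorProduct.smul_tmul']
      have : f • a = 0 := @htorsG a ⟨f, Ideal.mem_span_singleton_self f⟩
      rw [this, TensorProduct.zero_tmul]
  obtain ⟨w1, hw1⟩ := (hexL w).1 h2
  -- elements of fL ⊗ M are f • something
  have h3 : ∃ w' : L ⊗[A] M, w = f • w' := by
    rw [← hw1]
    clear hw1 h2 hw
    induction w1 using TensorProduct.induction_on with
    | zero => exact ⟨0, by simp⟩
    | add a b ha hb =>
      obtain ⟨a', ha'⟩ := ha
      obtain ⟨b', hb'⟩ := hb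
      exact ⟨a' + b', by rw [map_add, ha', hb', smul_add]⟩
    | tmul l m =>
      obtain ⟨l', hl'⟩ := (hmemL l.1).1 l.2
      refine ⟨l' ⊗ₜ m, ?_⟩
      rw [LinearMap.rTensor_tmul, Submodule.subtype_apply, hl', TensorProduct.smul_tmul']
  obtain ⟨w', rfl⟩ := h3
  rw [map_smul] at hw
  have h4 : rTensor M L.subtype w' = xt := hregG hw
  rw [← h4, ← LinearMap.comp_apply, ← LinearMap.rTensor_comp]
  have : π ∘ₗ L.subtype = 0 := by
    ext l
    exact l.2
  rw [this, LinearMap.rTensor_zero, LinearMap.zero_apply]

theorem isSMulRegular_tensor (hM : IsSMulRegular M f)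
    [Module.Flat (A ⧸ Ideal.span {f}) ((A ⧸ Ideal.span {f}) ⊗[A] M)]
    (N : Type u) [AddCommGroup N] [Module A N] (hN : IsSMulRegular N f) :
    IsSMulRegular (N ⊗[A] M) f :=
  isSMulRegular_tensor_aux f hM N hN (N →₀ A) (Finsupp.linearCombination A (id : N → N))
    (Finsupp.linearCombination_id_surjective A N)

end reg

end Groth.Agent.Helper2.RegFlat

/-! ### Second part (added later under the same file name; kept together so that all importers build) -/

namespace Groth.Agent.Helper2.RegFlat
open IsLocalRing

/-- flat local homomorphism with regular base and regular closed fibre has regular total ring -/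
theorem isRegularLocalRing_of_flat_of_fibre
    {A B : Type*} [CommRing A] [CommRing B] [Algebra A B]
    [IsRegularLocalRing A] [IsLocalRing B] [IsNoetherianRing B] [IsLocalHom (algebraMap A B)]
    [Module.Flat A B]
    (hfib : IsRegularLocalRing (B ⧸ (maximalIdeal A).map (algebraMap A B))) :
    IsRegularLocalRing B := by
  classical
  set I := (maximalIdeal A).map (algebraMap A B) with hI
  have hcomap : (maximalIdeal B).comap (algebraMap A B) = maximalIdeal A :=
    ((local_hom_TFAE (algebraMap A B)).out 0 4).mp ‹_›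
  have hIle : I ≤ maximalIdeal B := by
    rw [hI, Ideal.map_le_iff_le_comap, hcomap]
  haveI : (maximalIdeal B).LiesOver (maximalIdeal A) := ⟨hcomap.symm⟩
  have hht := Ideal.height_eq_height_add_of_liesOver_of_hasGoingDown (maximalIdeal A)
    (maximalIdeal B)
  have hmax : (maximalIdeal B).map (Ideal.Quotient.mk I) = maximalIdeal (B ⧸ I) :=
    IsLocalRing.map_maximalIdeal_of_surjective _ Ideal.Quotient.mk_surjective
  rw [hmax] at hht
  -- dimensions
  have hdim : ringKrullDim B = ringKrullDim A + ringKrullDim (B ⧸ I) := by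
    rw [← IsLocalRing.maximalIdeal_height_eq_ringKrullDim,
      ← IsLocalRing.maximalIdeal_height_eq_ringKrullDim,
      ← IsLocalRing.maximalIdeal_height_eq_ringKrullDim, hht]
    rfl
  -- generators
  obtain ⟨s, hs, hsspan⟩ := Submodule.FG.exists_span_finset_card_eq_spanFinrank
    (p := maximalIdeal A) (maximalIdeal A).fg_of_isNoetherianRing
  obtain ⟨t, ht, htspan⟩ := Submodule.FG.exists_span_finset_card_eq_spanFinrank
    (p := maximalIdeal (B ⧸ I)) (maximalIdeal (B ⧸ I)).fg_of_isNoetherianRing
  choose g hg using fun x : B ⧸ I => Ideal.Quotient.mk_surjective x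
  let u : Finset B := s.image (algebraMap A B) ∪ t.image g
  have hu : Ideal.span (u : Set B) = maximalIdeal B := by
    apply le_antisymm
    · rw [Ideal.span_le]
      intro x hx
      simp only [u, Finset.coe_union, Finset.coe_image, Set.mem_union, Set.mem_image] at hx
      rcases hx with ⟨a, ha, rfl⟩ | ⟨b, hb, rfl⟩
      · apply hIle
        apply Ideal.mem_map_of_mem
        rw [← hsspan]
        exact Ideal.subset_span ha
      · have h1 : Ideal.Quotient.mk I (g b) ∈ maximalIdeal (B ⧸ I) := by
          rw [hg b, ← htspan]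
          exact Ideal.subset_span hb
        rw [← hmax] at h1
        obtain ⟨c, hc, hcb⟩ := (Ideal.mem_map_iff_of_surjective _ Ideal.Quotient.mk_surjective).1 h1
        have h2 : g b - c ∈ I := by
          rw [← Ideal.Quotient.eq, hcb]
        have h3 : g b = (g b - c) + c := by ring
        rw [SetLike.mem_coe, h3]
        exact Ideal.add_mem _ (hIle h2) hc
    · intro b hb
      have h1 : Ideal.Quotient.mk I b ∈ maximalIdeal (B ⧸ I) := by
        rw [← hmax]
        exact Ideal.mem_map_of_mem _ hb
      have h2 : Ideal.span ((t.image g : Finset B) : Set B) ≤ Ideal.span (u : Set B) :=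
        Ideal.span_mono (by simp [u])
      have h3 : I ≤ Ideal.span (u : Set B) := by
        rw [hI, ← hsspan, Ideal.map_span]
        exact Ideal.span_mono (by simp [u])
      have h4 : maximalIdeal (B ⧸ I) =
          (Ideal.span ((t.image g : Finset B) : Set B)).map (Ideal.Quotient.mk I) := by
        rw [Ideal.map_span, ← htspan]
        congr 1
        ext x
        simp only [Finset.coe_image, Set.mem_image, Finset.mem_coe]
        constructor
        · intro hx
          exact ⟨g x, ⟨x, hx, rfl⟩, hg x⟩
        · rintro ⟨_, ⟨y, hy, rfl⟩, rfl⟩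
          rwa [hg y]
      rw [h4] at h1
      obtain ⟨c, hc, hcb⟩ := (Ideal.mem_map_iff_of_surjective _ Ideal.Quotient.mk_surjective).1 h1
      have h5 : b - c ∈ I := by
        rw [← Ideal.Quotient.eq, hcb]
      have h6 : b = (b - c) + c := by ring
      rw [h6]
      exact Ideal.add_mem _ (h3 h5) (h2 hc)
  have hcard : u.card ≤ (maximalIdeal A).spanFinrank + (maximalIdeal (B ⧸ I)).spanFinrank := by
    calc u.card ≤ (s.image (algebraMap A B)).card + (t.image g).card := Finset.card_union_le _ _
      _ ≤ s.card + t.card := add_le_add Finset.card_image_le Finset.card_image_le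
      _ = _ := by rw [hs, ht]
  have hle : (maximalIdeal B).spanFinrank ≤ u.card := by
    rw [← hu]
    have := Submodule.spanFinrank_span_le_ncard_of_finite (R := B) (s := (u : Set B)) u.finite_toSet
    rwa [Set.ncard_coe_finset] at this
  apply IsRegularLocalRing.of_spanFinrank_maximalIdeal_le
  rw [hdim, ← (inferInstance : IsRegularLocalRing A).spanFinrank_maximalIdeal,
    ← hfib.spanFinrank_maximalIdeal]
  exact_mod_cast hle.trans hcard

end Groth.Agent.Helper2.RegFlat
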