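import Mathlib
import Groth.Agent.Helper2.RegSmooth

namespace Groth.Agent.Helper2.RegSmooth2
open IsLocalRing TensorProduct KaehlerDifferential Groth.Agent.Helper2.RegSmooth

universe u

section Bridge
variable {k P : Type u} [Field k] [CommRing P] [Algebra k P] [Algebra.FormallySmooth k P]
  (Q : Ideal P) [Q.IsPrime]

local notation "PQ" => Localization.AtPrime Q
local notation "KQ" => Q.ResidueField

/-- the direction of `bridge` that needs no separability -/
theorem bridge_mp {r : ℕ} (g : Fin r → P) (hg : ∀ i, g i ∈ Q)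
    (h : LinearIndependent KQ (fun i => (1 : KQ) ⊗ₜ[P] D k P (g i))) :
      ∀ c : Fin r → PQ, (∑ i, c i * algebraMap P PQ (g i)) ∈ maximalIdeal PQ ^ 2 →
        ∀ i, c i ∈ maximalIdeal PQ := by
  have hmemK : ∀ c : Fin r → PQ,
      (∑ i, c i * algebraMap P PQ (g i)) ∈ RingHom.ker (algebraMap PQ KQ) := by
    intro c
    rw [ker_algebraMap_eq]
    exact Ideal.sum_mem _ fun i _ => Ideal.mul_mem_left _ _
      (algebraMap_mem_maximalIdeal Q (g i) (hg i))
  rw [Fintype.linearIndependent_iff] at h
  intro c hc i
  have h1 : (RingHom.ker (algebraMap PQ KQ)).toCotangent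
      ⟨∑ i, c i * algebraMap P PQ (g i), hmemK c⟩ = 0 := by
    rw [Ideal.toCotangent_eq_zero]
    change (∑ i, c i * algebraMap P PQ (g i)) ∈ RingHom.ker (algebraMap PQ KQ) ^ 2
    rw [ker_algebraMap_eq]
    exact hc
  have h2 := key_comp (k := k) Q g hg c (hmemK c)
  rw [h1, map_zero, map_zero] at h2
  have h3 := h (fun i => algebraMap PQ KQ (c i)) h2.symm i
  exact (residue_eq_zero_iff _).1 h3

end Bridge

section Main
variable {k P S : Type u} [Field k] [CommRing P] [Algebra k P] [Algebra.FormallySmooth k P]
  [IsRegularRing P] [Module.Projective P Ω[P⁄k]]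
  [CommRing S] [Algebra k S] [Algebra P S] [IsScalarTower k P S]

theorem regular_of_smooth_of_presentation (hsurj : Function.Surjective (algebraMap P S))
    (q : Ideal S) [q.IsPrime]
    (hsm : Algebra.FormallySmooth k (Localization.AtPrime q)) :
      IsRegularLocalRing (Localization.AtPrime q) := by
  set Q := q.comap (algebraMap P S) with hQ
  set I := RingHom.ker (algebraMap P S) with hI
  obtain ⟨e⟩ := exists_ringEquiv hsurj q
  have hIQ : I ≤ Q := by
    intro x hx
    rw [hQ, Ideal.mem_comap, RingHom.mem_ker.mp hx]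
    exact q.zero_mem
  rw [Groth.Agent.Helper2.JacobianDer.formallySmooth_iff_exists_derivations (A := k) hsurj Q q rfl]
    at hsm
  obtain ⟨m, f, D, hf, hgen, hdet⟩ := hsm
  have hli := (Groth.Agent.Helper2.JacobianLI.exists_derivations_iff_linearIndependent
    (A := k) Q f).mp ⟨D, hdet⟩
  have hfQ : ∀ i, f i ∈ Q := fun i => hIQ (hf i)
  have hconc := bridge_mp (k := k) Q f hfQ hli
  let x : Fin m → maximalIdeal (Localization.AtPrime Q) := fun i =>
    ⟨algebraMap P (Localization.AtPrime Q) (f i), algebraMap_mem_maximalIdeal Q (f i) (hfQ i)⟩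
  have hx : LinearIndependent (ResidueField (Localization.AtPrime Q))
      (fun i => (maximalIdeal (Localization.AtPrime Q)).toCotangent (x i)) :=
    (cot_li_iff x).2 hconc
  have hreg := (Groth.Agent.Helper2.RegSeq.quotient_regular_of_indep m x hx).2
  have hspan : Ideal.span (Set.range fun i => (x i : Localization.AtPrime Q)) =
      I.map (algebraMap P (Localization.AtPrime Q)) := hgen.symm
  rw [hspan] at hreg
  exact IsRegularLocalRing.of_ringEquiv e

end Main

/-- Smooth at a prime implies the local ring is regular (no separability needed). -/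
theorem isRegularLocalRing_of_isSmoothAt (k : Type u) [Field k]
    (S : Type u) [CommRing S] [Algebra k S] [Algebra.FiniteType k S] (q : Ideal S) [q.IsPrime]
    (h : Algebra.IsSmoothAt k q) : IsRegularLocalRing (Localization.AtPrime q) := by
  obtain ⟨n, φ, hφ⟩ := Algebra.FiniteType.iff_quotient_mvPolynomial''.1
    (inferInstance : Algebra.FiniteType k S)
  letI : Algebra (MvPolynomial (Fin n) k) S := φ.toRingHom.toAlgebra
  haveI : IsScalarTower k (MvPolynomial (Fin n) k) S :=
    IsScalarTower.of_algebraMap_eq' φ.comp_algebraMap.symm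
  have hsurj : Function.Surjective (algebraMap (MvPolynomial (Fin n) k) S) := hφ
  haveI : IsRegularRing k := inferInstance
  haveI : IsRegularRing (MvPolynomial (Fin n) k) := inferInstance
  exact regular_of_smooth_of_presentation hsurj q h

end Groth.Agent.Helper2.RegSmooth2
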