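import Mathlib
import Groth.Prelude.Def_Found
import Groth.Agent.Helper2.RegFlat
import Groth.Agent.Helper2.RegSmooth2

namespace Groth.Agent.Helper2.RegHom
open IsLocalRing TensorProduct

universe u

theorem transport {S : Type*} [CommRing S] {r r' : Ideal S} [r.IsPrime] [r'.IsPrime] (h : r' = r)
    (H : IsRegularLocalRing (Localization.AtPrime r')) :
    IsRegularLocalRing (Localization.AtPrime r) := by
  subst h; exact H

section
variable (R S : Type u) [CommRing R] [CommRing S] [Algebra R S]

/-- key local statement -/
theorem key [IsRegularRing R] [IsNoetherianRing S] [Module.Flat R S]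
    (p : Ideal R) [p.IsPrime] (hF : IsRegularRing (p.Fiber S))
    (q : Ideal (p.Fiber S)) [q.IsPrime] :
    IsRegularLocalRing (Localization.AtPrime
      (q.comap (Algebra.TensorProduct.includeRight : S →ₐ[R] p.Fiber S))) := by
  set r := q.comap (Algebra.TensorProduct.includeRight : S →ₐ[R] p.Fiber S) with hr
  letI := Localization.AtPrime.algebraOfLiesOver p r
  have e := Ideal.Fiber.localizationAlgEquivQuotient p q
  haveI : IsLocalHom (algebraMap (Localization.AtPrime p) (Localization.AtPrime r)) :=
    Localization.isLocalHom_localRingHom _ _ _ Ideal.LiesOver.over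
  have hmap : (maximalIdeal (Localization.AtPrime p)).map
      (algebraMap (Localization.AtPrime p) (Localization.AtPrime r)) =
      p.map (algebraMap R (Localization.AtPrime r)) := by
    rw [← Localization.AtPrime.map_eq_maximalIdeal, Ideal.map_map,
      ← IsScalarTower.algebraMap_eq]
  have hreg : IsRegularLocalRing (Localization.AtPrime q) := inferInstance
  apply Groth.Agent.Helper2.RegFlat.isRegularLocalRing_of_flat_of_fibre
    (A := Localization.AtPrime p) (B := Localization.AtPrime r)
  rw [hmap]
  exact IsRegularLocalRing.of_ringEquiv (R := Localization.AtPrime q) e.toRingEquiv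

/-- geometrically regular implies regular -/
theorem isRegularRing_of_isGeometricallyRegular (k : Type u) [Field k] (C : Type u) [CommRing C]
    [Algebra k C] (h : CAlg.IsGeometricallyRegular k C) : IsRegularRing C := by
  have := h k inferInstance
  exact IsRegularRing.of_ringEquiv (Algebra.TensorProduct.lid k C).toRingEquiv

theorem isRegularRing_of_isRegularHom [IsRegularRing R] [IsNoetherianRing S]
    (h : CAlg.IsRegularHom R S) : IsRegularRing S := by
  obtain ⟨hflat, hfib⟩ := h
  rw [isRegularRing_iff]
  intro r hr
  let p := r.comap (algebraMap R S)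
  haveI : p.IsPrime := Ideal.comap_isPrime _ _
  obtain ⟨hN, hgr⟩ := hfib p
  have hregF : IsRegularRing (p.Fiber S) := isRegularRing_of_isGeometricallyRegular _ _ hgr
  let q := PrimeSpectrum.preimageEquivFiber R S ⟨p, inferInstance⟩ ⟨⟨r, hr⟩, rfl⟩
  have hq : q.asIdeal.comap (Algebra.TensorProduct.includeRight : S →ₐ[R] p.Fiber S) = r := by
    have := (PrimeSpectrum.preimageEquivFiber R S ⟨p, inferInstance⟩).left_inv ⟨⟨r, hr⟩, rfl⟩
    exact congrArg (fun x => x.1.asIdeal) this
  exact transport hq (key R S p hregF q.asIdeal)

end

end Groth.Agent.Helper2.RegHom
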