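import Mathlib
set_option autoImplicit false
universe u
open Order IsLocalRing

namespace Groth.Agent.Helper2.Dim

theorem dim_le_add_fibre (A B : Type*) [CommRing A] [CommRing B]
    [IsLocalRing A] [IsLocalRing B] [IsNoetherianRing A] [IsNoetherianRing B] [Algebra A B]
    [IsLocalHom (algebraMap A B)] :
    ringKrullDim B ≤ ringKrullDim A +
      ringKrullDim (B ⧸ (IsLocalRing.maximalIdeal A).map (algebraMap A B)) := by
  set I := (maximalIdeal A).map (algebraMap A B) with hI
  have hIle : I ≤ maximalIdeal B := IsLocalRing.map_maximalIdeal_le _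
  have hne : I ≠ ⊤ := (IsLocalRing.map_maximalIdeal_lt_top _).ne
  have : Nontrivial (B ⧸ I) := Ideal.Quotient.nontrivial_iff.mpr hne
  have : IsLocalRing (B ⧸ I) := IsLocalRing.of_surjective' (Ideal.Quotient.mk I) Ideal.Quotient.mk_surjective
  have : (maximalIdeal B).LiesOver (maximalIdeal A) := ⟨by
    rw [Ideal.under_def]
    exact (IsLocalRing.maximalIdeal_comap _).symm⟩
  have key := Ideal.height_le_height_add_of_liesOver (maximalIdeal A) (maximalIdeal B)
  have hmax : (maximalIdeal B).map (Ideal.Quotient.mk I) = maximalIdeal (B ⧸ I) :=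
    IsLocalRing.map_maximalIdeal_of_surjective _ Ideal.Quotient.mk_surjective
  rw [← hI, hmax] at key
  rw [← IsLocalRing.maximalIdeal_height_eq_ringKrullDim, ← IsLocalRing.maximalIdeal_height_eq_ringKrullDim,
    ← IsLocalRing.maximalIdeal_height_eq_ringKrullDim]
  exact_mod_cast key

theorem dim_le_add_fibre' (A B : Type*) [CommRing A] [CommRing B]
    [IsLocalRing A] [IsLocalRing B] [IsNoetherianRing A] [IsNoetherianRing B] (f : A →+* B)
    [IsLocalHom f] :
    ringKrullDim B ≤ ringKrullDim A +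
      ringKrullDim (B ⧸ (IsLocalRing.maximalIdeal A).map f) := by
  let _ := f.toAlgebra
  have : IsLocalHom (algebraMap A B) := ‹IsLocalHom f›
  exact dim_le_add_fibre A B

theorem injective_of_dim_eq (A B : Type u) [CommRing A] [CommRing B]
    [IsLocalRing A] [IsLocalRing B] [IsNoetherianRing A] [IsNoetherianRing B] [Algebra A B]
    [IsLocalHom (algebraMap A B)]
    (hdef : ringKrullDim (B ⧸ (IsLocalRing.maximalIdeal A).map (algebraMap A B)) = 0)
    [IsDomain A] (hdim : ringKrullDim A = ringKrullDim B) : Function.Injective (algebraMap A B) := by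
  rw [RingHom.injective_iff_ker_eq_bot]
  by_contra hK
  set K := RingHom.ker (algebraMap A B) with hKdef
  have hKtop : K ≠ ⊤ := RingHom.ker_ne_top _
  obtain ⟨r, hrK, hr0⟩ : ∃ r ∈ K, r ≠ 0 := by
    by_contra hcon
    push Not at hcon
    exact hK ((Submodule.eq_bot_iff _).mpr hcon)
  let f' : A ⧸ K →+* B := Ideal.Quotient.lift K (algebraMap A B) (fun a ha => ha)
  have : Nontrivial (A ⧸ K) := Ideal.Quotient.nontrivial_iff.mpr hKtop
  have : IsLocalRing (A ⧸ K) := IsLocalRing.of_surjective' (Ideal.Quotient.mk K) Ideal.Quotient.mk_surjective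
  have hloc : IsLocalHom f' := ⟨by
    intro a ha
    obtain ⟨a, rfl⟩ := Ideal.Quotient.mk_surjective a
    have : IsUnit (algebraMap A B a) := by simpa [f'] using ha
    exact (isUnit_of_map_unit (algebraMap A B) a this).map _⟩
  have hmap : (maximalIdeal (A ⧸ K)).map f' = (maximalIdeal A).map (algebraMap A B) := by
    rw [← IsLocalRing.map_maximalIdeal_of_surjective (Ideal.Quotient.mk K) Ideal.Quotient.mk_surjective,
      Ideal.map_map]
    congr 1
  have h1 := dim_le_add_fibre' (A ⧸ K) B f'
  rw [hmap, hdef, add_zero] at h1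
  have h2 : ringKrullDim (A ⧸ K) ≤ ringKrullDim (A ⧸ Ideal.span {r}) :=
    ringKrullDim_le_of_surjective (Ideal.Quotient.factor ((Ideal.span_singleton_le_iff_mem K).mpr hrK))
      (Ideal.Quotient.factor_surjective _)
  have h3 : ringKrullDim (A ⧸ Ideal.span {r}) + 1 ≤ ringKrullDim A :=
    ringKrullDim_quotient_succ_le_of_nonZeroDivisor (mem_nonZeroDivisors_of_ne_zero hr0)
  have h4 : ringKrullDim (A ⧸ K) + 1 ≤ ringKrullDim (A ⧸ K) :=
    calc ringKrullDim (A ⧸ K) + 1 ≤ ringKrullDim (A ⧸ Ideal.span {r}) + 1 := by gcongr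
      _ ≤ ringKrullDim A := h3
      _ = ringKrullDim B := hdim
      _ ≤ ringKrullDim (A ⧸ K) := h1
  have hnt : ringKrullDim (A ⧸ K) ≠ ⊤ := ringKrullDim_ne_top
  have hnb : ringKrullDim (A ⧸ K) ≠ ⊥ := ringKrullDim_ne_bot
  revert h4 hnt hnb
  generalize ringKrullDim (A ⧸ K) = x
  intro h4 hnt hnb
  induction x using WithBot.recBotCoe with
  | bot => exact hnb rfl
  | coe x =>
    have : x + 1 ≤ x := by exact_mod_cast h4
    have hx : x ≠ ⊤ := by intro h; exact hnt (by rw [h]; rfl)
    exact absurd this (by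
      rw [not_le]
      exact ENat.lt_add_one_iff hx |>.mpr le_rfl)

theorem dim_of_integral (A B : Type*) [CommRing A] [CommRing B] [Algebra A B]
    [Algebra.IsIntegral A B] :
    ringKrullDim B ≤ ringKrullDim A ∧
      (Function.Injective (algebraMap A B) → ringKrullDim B = ringKrullDim A) := by
  have h1 : ringKrullDim B ≤ ringKrullDim A := by
    refine krullDim_le_of_strictMono (PrimeSpectrum.comap (algebraMap A B)) ?_
    intro P Q hPQ
    have : P.asIdeal < Q.asIdeal := hPQ
    exact Ideal.IsIntegral.comap_lt_comap (R := A) this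
  refine ⟨h1, fun hinj => le_antisymm h1 ?_⟩
  unfold ringKrullDim krullDim
  refine iSup_le fun l => ?_
  obtain ⟨Q, -, hQ, hQ'⟩ := Ideal.exists_ideal_over_prime_of_isIntegral (S := B) l.head.asIdeal (⊥ : Ideal B)
    (by
      rw [← RingHom.ker_eq_comap_bot, (RingHom.injective_iff_ker_eq_bot _).mp hinj]
      exact bot_le)
  have : Q.LiesOver l.head.asIdeal := ⟨hQ'.symm⟩
  obtain ⟨L, hL, -, -⟩ := Ideal.exists_ltSeries_of_hasGoingUp l Q
  rw [← hL]
  exact le_iSup (fun p : LTSeries (PrimeSpectrum B) => (p.length : WithBot ℕ∞)) L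

theorem dim_eq_of_integral_injective {R S : Type*} [CommRing R] [CommRing S] (f : R →+* S)
    (hf : f.IsIntegral) (hinj : Function.Injective f) : ringKrullDim S = ringKrullDim R := by
  let _ := f.toAlgebra
  have : Algebra.IsIntegral R S := ⟨hf⟩
  exact (dim_of_integral R S).2 hinj


end Groth.Agent.Helper2.Dim
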