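import Mathlib
import Groth.Agent.Helper2.Dim

namespace Groth.Agent.Helper2.FibDimEq
open IsLocalRing Pointwise

universe u

theorem dim_quot_succ_le {R : Type*} [CommRing R] [IsNoetherianRing R] (x : R)
    (hx : ∀ p ∈ minimalPrimes R, x ∉ p) :
    ringKrullDim (R ⧸ Ideal.span {x}) + 1 ≤ ringKrullDim R := by
  have h : Ideal.span {x} = x • (⊤ : Ideal R) := by simp [← Submodule.ideal_span_singleton_smul]
  rw [ringKrullDim_eq_of_ringEquiv (Ideal.quotientEquivAlgOfEq R h).toRingEquiv,
    ← Module.supportDim_self_eq_ringKrullDim (R := R), ← Module.supportDim_quotient_eq_ringKrullDim]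
  apply Module.supportDim_quotSMulTop_succ_le_of_notMem_minimalPrimes
  have : Module.annihilator R R = ⊥ :=
    Module.annihilator_eq_bot.mpr ((faithfulSMul_iff_algebraMap_injective R R).mpr fun {a₁ a₂} a ↦ a)
  rw [this]
  exact hx

theorem dim_le_quot_succ {R : Type*} [CommRing R] [IsNoetherianRing R] [IsLocalRing R] (x : R)
    (hx : x ∈ maximalIdeal R) :
    ringKrullDim R ≤ ringKrullDim (R ⧸ Ideal.span {x}) + 1 := by
  have h : Ideal.span {x} = x • (⊤ : Ideal R) := by simp [← Submodule.ideal_span_singleton_smul]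
  rw [ringKrullDim_eq_of_ringEquiv (Ideal.quotientEquivAlgOfEq R h).toRingEquiv]
  exact ringKrullDim_le_ringKrullDim_quotSMulTop_succ hx

theorem maximalIdeal_not_mem_minimalPrimes {R : Type*} [CommRing R] [IsLocalRing R]
    (h : ¬ ringKrullDim R ≤ 0) : maximalIdeal R ∉ minimalPrimes R := by
  intro hmin
  apply h
  rw [← IsLocalRing.maximalIdeal_height_eq_ringKrullDim, Ideal.height_eq_zero_iff.mpr hmin]
  rfl


/-- prime avoidance for the maximal ideal of a local ring -/
theorem exists_mem_maximalIdeal_avoiding {A : Type*} [CommRing A] [IsLocalRing A]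
    (S : Set (Ideal A)) (hS : S.Finite) (hprime : ∀ p ∈ S, p.IsPrime)
    (hne : ∀ p ∈ S, p ≠ maximalIdeal A) :
    ∃ x ∈ maximalIdeal A, ∀ p ∈ S, x ∉ p := by
  classical
  by_contra hcon
  push Not at hcon
  obtain ⟨p, hp, hle⟩ := (Ideal.subset_union_prime (s := hS.toFinset) (f := fun q : Ideal A => q)
    (maximalIdeal A) (maximalIdeal A) (I := maximalIdeal A)
    (fun p hp _ _ => hprime p (by simpa using hp))).1 (by
      intro x hx
      obtain ⟨p, hp, hxp⟩ := hcon x hx
      simp only [Set.mem_iUnion]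
      exact ⟨p, by simpa using hp, hxp⟩)
  have hpS : p ∈ S := by simpa using hp
  exact hne p hpS ((maximalIdeal.isMaximal A).eq_of_le (hprime p hpS).ne_top hle).symm

section Quot
variable {A B : Type u} [CommRing A] [CommRing B] (f : A →+* B)

/-- the induced map on quotients by `x` and `f x` -/
noncomputable def qmap (x : A) : A ⧸ Ideal.span {x} →+* B ⧸ Ideal.span {f x} :=
  Ideal.quotientMap (Ideal.span {f x}) f (by
    rw [Ideal.span_singleton_le_iff_mem, Ideal.mem_comap]
    exact Ideal.subset_span rfl)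

theorem qmap_mk (x a : A) : qmap f x (Ideal.Quotient.mk _ a) = Ideal.Quotient.mk _ (f a) := rfl

theorem qmap_comp_mk (x : A) :
    (qmap f x).comp (Ideal.Quotient.mk (Ideal.span {x})) =
      (Ideal.Quotient.mk (Ideal.span {f x})).comp f := rfl

variable [IsLocalRing A] [IsLocalRing B] [IsLocalHom f]

theorem span_ne_top {R : Type*} [CommRing R] [IsLocalRing R] (x : R) (hx : x ∈ maximalIdeal R) :
    Ideal.span {x} ≠ ⊤ := by
  intro h
  rw [Ideal.span_singleton_eq_top] at h
  exact hx h

theorem isLocalRing_quot {R : Type*} [CommRing R] [IsLocalRing R] (x : R) (hx : x ∈ maximalIdeal R) :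
    IsLocalRing (R ⧸ Ideal.span {x}) := by
  haveI : Nontrivial (R ⧸ Ideal.span {x}) := Ideal.Quotient.nontrivial_iff.mpr (span_ne_top x hx)
  exact IsLocalRing.of_surjective' (Ideal.Quotient.mk _) Ideal.Quotient.mk_surjective

theorem maximalIdeal_quot {R : Type*} [CommRing R] [IsLocalRing R] (I : Ideal R)
    [IsLocalRing (R ⧸ I)] :
    maximalIdeal (R ⧸ I) = (maximalIdeal R).map (Ideal.Quotient.mk I) :=
  (IsLocalRing.map_maximalIdeal_of_surjective _ Ideal.Quotient.mk_surjective).symm

theorem isLocalHom_qmap (x : A)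
    [IsLocalRing (A ⧸ Ideal.span {x})] [IsLocalRing (B ⧸ Ideal.span {f x})] :
    IsLocalHom (qmap f x) := by
  constructor
  intro a ha
  obtain ⟨a, rfl⟩ := Ideal.Quotient.mk_surjective a
  rw [qmap_mk] at ha
  haveI := IsLocalHom.of_surjective (Ideal.Quotient.mk (Ideal.span {f x}))
    Ideal.Quotient.mk_surjective
  have h1 : IsUnit (f a) := isUnit_of_map_unit (Ideal.Quotient.mk (Ideal.span {f x})) _ ha
  exact (isUnit_of_map_unit f a h1).map _

omit [IsLocalRing B] [IsLocalHom f] in
theorem map_maximalIdeal_qmap (x : A)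
    [IsLocalRing (A ⧸ Ideal.span {x})] :
    (maximalIdeal (A ⧸ Ideal.span {x})).map (qmap f x) =
      ((maximalIdeal A).map f).map (Ideal.Quotient.mk (Ideal.span {f x})) := by
  rw [maximalIdeal_quot, Ideal.map_map, Ideal.map_map, qmap_comp_mk]

omit [IsLocalRing B] [IsLocalHom f] in
/-- the closed fibre is unchanged -/
noncomputable def fibreEquiv (x : A) (hx : x ∈ maximalIdeal A)
    [IsLocalRing (A ⧸ Ideal.span {x})] :
    ((B ⧸ Ideal.span {f x}) ⧸ (maximalIdeal (A ⧸ Ideal.span {x})).map (qmap f x)) ≃+*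
      B ⧸ (maximalIdeal A).map f :=
  (Ideal.quotEquivOfEq (map_maximalIdeal_qmap f x)).trans
    ((DoubleQuot.quotQuotEquivQuotSup (Ideal.span {f x}) ((maximalIdeal A).map f)).trans
      (Ideal.quotEquivOfEq (by
        rw [sup_eq_right, Ideal.span_singleton_le_iff_mem]
        exact Ideal.mem_map_of_mem f hx)))

end Quot


section Transfer
variable {A B : Type u} [CommRing A] [CommRing B] [IsLocalRing A] [IsLocalRing B]
  (f : A →+* B)

/-- the hypothesis on minimal primes -/
def NoCompOverClosed : Prop :=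
  ∀ p : Ideal A, p.IsPrime → p ≠ maximalIdeal A →
    ∀ q ∈ (p.map f).minimalPrimes, q.comap f ≠ maximalIdeal A

theorem noComp_qmap (h : NoCompOverClosed f) (x : A) (hx : x ∈ maximalIdeal A)
    [IsLocalRing (A ⧸ Ideal.span {x})] [IsLocalRing (B ⧸ Ideal.span {f x})] :
    NoCompOverClosed (qmap f x) := by
  intro p' hp' hne q' hq'
  set mkA := Ideal.Quotient.mk (Ideal.span {x}) with hmkA
  set mkB := Ideal.Quotient.mk (Ideal.span {f x}) with hmkB
  have hsA : Function.Surjective mkA := Ideal.Quotient.mk_surjective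
  have hsB : Function.Surjective mkB := Ideal.Quotient.mk_surjective
  set p := p'.comap mkA with hp
  haveI : p.IsPrime := Ideal.comap_isPrime mkA p'
  have hp'eq : p' = p.map mkA := (Ideal.map_comap_of_surjective mkA hsA p').symm
  have hxp : x ∈ p := by
    rw [hp, Ideal.mem_comap]
    have : mkA x = 0 := Ideal.Quotient.eq_zero_iff_mem.mpr (Ideal.subset_span rfl)
    rw [this]; exact zero_mem _
  have hpne : p ≠ maximalIdeal A := by
    intro heq
    apply hne
    rw [hp'eq, heq, maximalIdeal_quot]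
  -- q := comap of q'
  set q := q'.comap mkB with hq
  have hmapeq : p'.map (qmap f x) = (p.map f).map mkB := by
    rw [hp'eq, Ideal.map_map, Ideal.map_map, qmap_comp_mk]
  have hqmin : q ∈ (p.map f).minimalPrimes := by
    have h2 : (p'.map (qmap f x)).comap mkB = p.map f := by
      rw [hmapeq, Ideal.comap_map_of_surjective mkB hsB, sup_eq_left]
      have : Ideal.comap mkB ⊥ = Ideal.span {f x} := by
        rw [← RingHom.ker_eq_comap_bot, hmkB, Ideal.mk_ker]
      rw [this, Ideal.span_singleton_le_iff_mem]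
      exact Ideal.mem_map_of_mem f hxp
    have h1 := Ideal.minimalPrimes_comap_of_surjective hsB hq'
    rw [h2] at h1
    exact h1
  have hcon := h p inferInstance hpne q hqmin
  intro heq
  apply hcon
  have h3 : (q'.comap (qmap f x)).comap mkA = q.comap f := by
    rw [Ideal.comap_comap, Ideal.comap_comap, qmap_comp_mk]
  rw [← h3, heq, maximalIdeal_quot]
  rw [Ideal.comap_map_of_surjective mkA hsA, sup_eq_left]
  have : Ideal.comap mkA ⊥ = Ideal.span {x} := by
    rw [← RingHom.ker_eq_comap_bot, hmkA, Ideal.mk_ker]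
  rw [this, Ideal.span_singleton_le_iff_mem]
  exact hx

/-- contraction of a minimal prime of `B` is not the maximal ideal when `dim A > 0` -/
theorem comap_minimal_ne (h : NoCompOverClosed f) (hdim : maximalIdeal A ∉ minimalPrimes A)
    (q : Ideal B) (hq : q ∈ minimalPrimes B) : q.comap f ≠ maximalIdeal A := by
  haveI : q.IsPrime := hq.1.1
  obtain ⟨p₀, hp₀, hle⟩ := Ideal.exists_minimalPrimes_le (J := q.comap f) bot_le
  have hp₀' : p₀ ∈ minimalPrimes A := hp₀
  have hp₀ne : p₀ ≠ maximalIdeal A := fun heq => hdim (heq ▸ hp₀')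
  have hqmin : q ∈ (p₀.map f).minimalPrimes := by
    refine ⟨⟨inferInstance, Ideal.map_le_iff_le_comap.mpr hle⟩, ?_⟩
    intro q'' hq'' hle''
    exact hq.2 ⟨hq''.1, bot_le⟩ hle''
  exact h p₀ hp₀.1.1 hp₀ne q hqmin

end Transfer


theorem le_of_add_one_le {a : WithBot ℕ∞} {n : ℕ} (h : a + 1 ≤ ((n + 1 : ℕ) : WithBot ℕ∞)) :
    a ≤ (n : WithBot ℕ∞) := by
  induction a using WithBot.recBotCoe with
  | bot => exact bot_le
  | coe e =>
    have h1 : ((e + 1 : ℕ∞) : WithBot ℕ∞) ≤ (((n : ℕ∞) + 1 : ℕ∞) : WithBot ℕ∞) := by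
      push_cast
      push_cast at h
      exact h
    rw [WithBot.coe_le_coe] at h1
    have h2 : e ≤ (n : ℕ∞) := (WithTop.add_le_add_iff_right ENat.one_ne_top).1 h1
    exact_mod_cast h2

theorem key : ∀ (n : ℕ) (A B : Type u) [CommRing A] [CommRing B] [IsNoetherianRing A]
    [IsNoetherianRing B] [IsLocalRing A] [IsLocalRing B] (f : A →+* B) [IsLocalHom f],
    ringKrullDim A ≤ n → NoCompOverClosed f →
    ringKrullDim A + ringKrullDim (B ⧸ (maximalIdeal A).map f) ≤ ringKrullDim B := by
  have base : ∀ (A B : Type u) [CommRing A] [CommRing B] [IsLocalRing A] (f : A →+* B),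
      ringKrullDim A ≤ 0 →
      ringKrullDim A + ringKrullDim (B ⧸ (maximalIdeal A).map f) ≤ ringKrullDim B := by
    intro A B _ _ _ f hdim
    calc ringKrullDim A + ringKrullDim (B ⧸ (maximalIdeal A).map f)
        ≤ 0 + ringKrullDim (B ⧸ (maximalIdeal A).map f) := add_le_add_left hdim _
      _ = ringKrullDim (B ⧸ (maximalIdeal A).map f) := zero_add _
      _ ≤ ringKrullDim B := ringKrullDim_quotient_le _
  intro n
  induction n with
  | zero =>
    intro A B _ _ _ _ _ _ f _ hdim _
    exact base A B f (by exact_mod_cast hdim)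
  | succ n ih =>
    intro A B _ _ _ _ _ _ f _ hdim h
    by_cases h0 : ringKrullDim A ≤ 0
    · exact base A B f h0
    · have hmin := maximalIdeal_not_mem_minimalPrimes h0
      let S : Set (Ideal A) := minimalPrimes A ∪ (Ideal.comap f '' minimalPrimes B)
      have hSfin : S.Finite := (minimalPrimes.finite_of_isNoetherianRing A).union
        ((minimalPrimes.finite_of_isNoetherianRing B).image _)
      obtain ⟨x, hxm, hxS⟩ := exists_mem_maximalIdeal_avoiding S hSfin (by
          rintro p (hp | ⟨q, hq, rfl⟩)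
          · exact hp.1.1
          · haveI : q.IsPrime := hq.1.1
            exact Ideal.comap_isPrime f q) (by
          rintro p (hp | ⟨q, hq, rfl⟩)
          · exact fun heq => hmin (heq ▸ hp)
          · exact comap_minimal_ne f h hmin q hq)
      have hxA : ∀ p ∈ minimalPrimes A, x ∉ p := fun p hp => hxS p (Or.inl hp)
      have hxB : ∀ q ∈ minimalPrimes B, f x ∉ q := fun q hq hfx =>
        hxS (q.comap f) (Or.inr ⟨q, hq, rfl⟩) hfx
      have hfxm : f x ∈ maximalIdeal B := by
        intro hu
        exact hxm (isUnit_of_map_unit f x hu)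
      haveI := isLocalRing_quot x hxm
      haveI := isLocalRing_quot (f x) hfxm
      haveI := isLocalHom_qmap f x
      have hdimA' : ringKrullDim (A ⧸ Ideal.span {x}) ≤ n := by
        apply le_of_add_one_le
        exact (dim_quot_succ_le x hxA).trans hdim
      have hIH := ih (A ⧸ Ideal.span {x}) (B ⧸ Ideal.span {f x}) (qmap f x) hdimA'
        (noComp_qmap f h x hxm)
      rw [ringKrullDim_eq_of_ringEquiv (fibreEquiv f x hxm)] at hIH
      calc ringKrullDim A + ringKrullDim (B ⧸ (maximalIdeal A).map f)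
          ≤ (ringKrullDim (A ⧸ Ideal.span {x}) + 1) + ringKrullDim (B ⧸ (maximalIdeal A).map f) :=
            add_le_add_left (dim_le_quot_succ x hxm) _
        _ = (ringKrullDim (A ⧸ Ideal.span {x}) + ringKrullDim (B ⧸ (maximalIdeal A).map f)) + 1 := by
            abel
        _ ≤ ringKrullDim (B ⧸ Ideal.span {f x}) + 1 := add_le_add_left hIH _
        _ ≤ ringKrullDim B := dim_quot_succ_le (f x) hxB


theorem main (A B : Type u) [CommRing A] [CommRing B] [IsNoetherianRing A] [IsNoetherianRing B]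
    [IsLocalRing A] [IsLocalRing B] [Algebra A B] [IsLocalHom (algebraMap A B)]
    (h : ∀ p : Ideal A, p.IsPrime → p ≠ IsLocalRing.maximalIdeal A →
      ∀ q ∈ (p.map (algebraMap A B)).minimalPrimes,
        q.comap (algebraMap A B) ≠ IsLocalRing.maximalIdeal A) :
    ringKrullDim B = ringKrullDim A +
      ringKrullDim (B ⧸ (IsLocalRing.maximalIdeal A).map (algebraMap A B)) := by
  apply le_antisymm (Groth.Agent.Helper2.Dim.dim_le_add_fibre A B)
  have hbot : ringKrullDim A ≠ ⊥ := ringKrullDim_ne_bot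
  have htop : ringKrullDim A ≠ ⊤ := ringKrullDim_ne_top
  obtain ⟨e, he⟩ := WithBot.ne_bot_iff_exists.1 hbot
  have he' : e ≠ ⊤ := by
    rintro rfl
    exact htop he.symm
  obtain ⟨n, rfl⟩ := ENat.ne_top_iff_exists.1 he'
  exact key n A B (algebraMap A B) (by rw [← he]; rfl) h

end Groth.Agent.Helper2.FibDimEq
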