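import Mathlib

namespace Groth.Agent.Helper2.SerreA
open IsLocalRing CategoryTheory TensorProduct

universe u

section MinCover
variable {R : Type u} [CommRing R] [IsLocalRing R] (M : Type u) [AddCommGroup M] [Module R M]
  [Module.Finite R M]

/-- minimal free cover of a finite module over a local ring -/
theorem exists_minimal_cover :
    ∃ (n : ℕ) (f : (Fin n → R) →ₗ[R] M), Function.Surjective f ∧
      ∀ c ∈ LinearMap.ker f, ∀ i, c i ∈ maximalIdeal R := by
  classical
  let k := ResidueField R
  let n := Module.finrank k (k ⊗[R] M)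
  let b : Module.Basis (Fin n) k (k ⊗[R] M) := Module.finBasis k (k ⊗[R] M)
  have hsurj : Function.Surjective (TensorProduct.mk R k M 1) :=
    TensorProduct.mk_surjective R M k Ideal.Quotient.mk_surjective
  choose g hg using fun i => hsurj (b i)
  have hspan := IsLocalRing.span_eq_top_of_tmul_eq_basis g b hg
  refine ⟨n, Fintype.linearCombination R g, ?_, ?_⟩
  · rw [← LinearMap.range_eq_top, Fintype.range_linearCombination, hspan]
  · intro c hc i
    rw [LinearMap.mem_ker, Fintype.linearCombination_apply] at hc
    have h1 : ∑ j, residue R (c j) • b j = 0 := by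
      have := congrArg (TensorProduct.mk R k M 1) hc
      rw [map_sum, map_zero] at this
      rw [← this]
      refine Finset.sum_congr rfl fun j _ => ?_
      rw [map_smul, hg j]
      rfl
    have h2 := Fintype.linearIndependent_iff.1 b.linearIndependent _ h1 i
    exact (residue_eq_zero_iff _).1 h2

end MinCover

section DepthZero
variable {R : Type u} [CommRing R] [IsLocalRing R] [IsNoetherianRing R]

theorem free_of_pdLT_of_socle (a : R) (ha : a ≠ 0) (ham : ∀ x ∈ maximalIdeal R, a * x = 0) :
    ∀ (n : ℕ) (M : Type u) [AddCommGroup M] [Module R M] [Module.Finite R M],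
      HasProjectiveDimensionLT (ModuleCat.of R M) (n + 1) → Module.Free R M := by
  intro n
  induction n with
  | zero =>
    intro M _ _ _ h
    haveI : Projective (ModuleCat.of R M) := projective_iff_hasProjectiveDimensionLT_one.mpr h
    haveI : Module.Projective R M := (IsProjective.iff_projective M).2 inferInstance
    exact Module.free_of_flat_of_isLocalRing (R := R) (P := M)
  | succ n ih =>
    intro M _ _ _ h
    obtain ⟨k, f, hf, hker⟩ := exists_minimal_cover (R := R) M
    have hS : f.shortComplexKer.ShortExact := LinearMap.shortExact_shortComplexKer hf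
    have hproj : Projective f.shortComplexKer.X₂ :=
      (IsProjective.iff_projective (Fin k → R)).1 inferInstance
    have h1 : HasProjectiveDimensionLT (ModuleCat.of R (LinearMap.ker f)) (n + 1) :=
      (hS.hasProjectiveDimensionLT_X₃_iff n hproj).mp h
    haveI hfree : Module.Free R (LinearMap.ker f) := ih (LinearMap.ker f) h1
    have hK : ∀ c : LinearMap.ker f, a • c = 0 := by
      intro c
      apply Subtype.ext
      funext i
      simp only [Submodule.coe_smul, Pi.smul_apply, smul_eq_mul, ZeroMemClass.coe_zero,
        Pi.zero_apply]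
      exact ham _ (hker c.1 c.2 i)
    have hsub : Subsingleton (LinearMap.ker f) := by
      by_contra hne
      rw [not_subsingleton_iff_nontrivial] at hne
      let b := Module.Free.chooseBasis R (LinearMap.ker f)
      obtain ⟨i⟩ : Nonempty (Module.Free.ChooseBasisIndex R (LinearMap.ker f)) :=
        b.index_nonempty
      have h2 := congrArg (fun v => b.repr v i) (hK (b i))
      simp at h2
      exact ha h2
    have hinj : Function.Injective f := by
      rw [← LinearMap.ker_eq_bot]
      exact Submodule.eq_bot_of_subsingleton
    exact Module.Free.of_equiv (LinearEquiv.ofBijective f ⟨hinj, hf⟩)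

theorem maximalIdeal_eq_bot_of_socle (a : R) (ha : a ≠ 0)
    (ham : ∀ x ∈ maximalIdeal R, a * x = 0) (n : ℕ)
    (h : HasProjectiveDimensionLT (ModuleCat.of R (ResidueField R)) n) :
    maximalIdeal R = ⊥ := by
  have h' : HasProjectiveDimensionLT (ModuleCat.of R (ResidueField R)) (n + 1) :=
    hasProjectiveDimensionLT_of_ge _ n (n + 1) (by omega)
  haveI := free_of_pdLT_of_socle a ha ham n (ResidueField R) h'
  rw [eq_bot_iff]
  intro x hx
  let b := Module.Free.chooseBasis R (ResidueField R)
  obtain ⟨i⟩ : Nonempty (Module.Free.ChooseBasisIndex R (ResidueField R)) := b.index_nonempty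
  have h1 : x • b i = 0 := by
    rw [Algebra.smul_def]
    have : algebraMap R (ResidueField R) x = 0 := (residue_eq_zero_iff x).2 hx
    rw [this, zero_mul]
  have h2 := congrArg (fun v => b.repr v i) h1
  simp at h2
  exact h2

theorem exists_regular (hm : maximalIdeal R ≠ ⊥)
    (hsoc : ∀ a : R, (∀ x ∈ maximalIdeal R, a * x = 0) → a = 0) :
    ∃ x ∈ maximalIdeal R, x ∉ maximalIdeal R ^ 2 ∧ IsSMulRegular R x := by
  classical
  by_contra hcon
  push Not at hcon
  have fin : (insert (maximalIdeal R ^ 2) (associatedPrimes R R)).Finite :=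
    (associatedPrimes.finite R R).insert _
  have hsub : ((maximalIdeal R : Ideal R) : Set R) ⊆
      ⋃ i ∈ insert (maximalIdeal R ^ 2) (associatedPrimes R R), ((id i : Ideal R) : Set R) := by
    intro x hx
    by_cases h2 : x ∈ maximalIdeal R ^ 2
    · exact Set.mem_biUnion (Set.mem_insert _ _) h2
    · have h3 := hcon x hx h2
      have h4 : x ∈ ⋃ p ∈ associatedPrimes R R, (p : Set R) := by
        rw [biUnion_associatedPrimes_eq_compl_regular R R]
        exact h3
      obtain ⟨p, hp, hxp⟩ := Set.mem_iUnion₂.1 h4
      exact Set.mem_biUnion (Set.mem_insert_of_mem _ hp) hxp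
  obtain ⟨P, hP, hle⟩ := ((maximalIdeal R).subset_union_prime_finite fin (f := id)
    (maximalIdeal R ^ 2) (maximalIdeal R ^ 2) (fun i hi h1 _ => by
      rcases hi with rfl | hi
      · exact absurd rfl h1
      · exact hi.isPrime)).1 hsub
  rcases hP with rfl | hP
  · -- m ≤ m²
    apply hm
    have h5 : maximalIdeal R ≤ maximalIdeal R • maximalIdeal R := by
      rw [smul_eq_mul, ← pow_two]; exact hle
    exact Submodule.eq_bot_of_le_smul_of_le_jacobson_bot (maximalIdeal R) (maximalIdeal R)
      (maximalIdeal R).fg_of_isNoetherianRing h5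
      (by rw [IsLocalRing.jacobson_eq_maximalIdeal ⊥ bot_ne_top])
  · have hPprime : P.IsPrime := hP.isPrime
    have hPm : maximalIdeal R = P :=
      (maximalIdeal.isMaximal R).eq_of_le hPprime.ne_top hle
    rw [AssociatedPrimes.mem_iff, isAssociatedPrime_iff] at hP
    obtain ⟨-, a, hPa⟩ := hP
    have ha0 : a ≠ 0 := by
      rintro rfl
      apply hPprime.ne_top
      rw [hPa, eq_top_iff]
      intro r _
      rw [Submodule.mem_colon_singleton]
      simp
    apply ha0
    apply hsoc
    intro x hx
    rw [hPm, hPa, Submodule.mem_colon_singleton] at hx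
    rw [mul_comm]
    simpa using hx

end DepthZero

end Groth.Agent.Helper2.SerreA
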