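import Mathlib

namespace Groth.Agent.Helper2.SerreB
open IsLocalRing CategoryTheory TensorProduct

universe u

variable {R : Type u} [CommRing R]

/-- the `R ⧸ (x)`-linear map induced on `M/xM` -/
noncomputable def qmap (x : R) {M N : Type u} [AddCommGroup M] [Module R M] [AddCommGroup N]
    [Module R N] (f : M →ₗ[R] N) :
    QuotSMulTop x M →ₗ[R ⧸ Ideal.span {x}] QuotSMulTop x N :=
  LinearMap.extendScalarsOfSurjective Ideal.Quotient.mk_surjective (QuotSMulTop.map x f)

theorem qmap_apply (x : R) {M N : Type u} [AddCommGroup M] [Module R M] [AddCommGroup N]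
    [Module R N] (f : M →ₗ[R] N) (y : QuotSMulTop x M) :
    qmap x f y = QuotSMulTop.map x f y := rfl

variable [IsLocalRing R] [IsNoetherianRing R]

theorem pdLT_quotSMulTop (x : R) (hxR : IsSMulRegular R x) :
    ∀ (n : ℕ) (M : Type u) [AddCommGroup M] [Module R M] [Module.Finite R M],
      IsSMulRegular M x → HasProjectiveDimensionLT (ModuleCat.of R M) (n + 1) →
      HasProjectiveDimensionLT
        (ModuleCat.of (R ⧸ Ideal.span {x}) (QuotSMulTop x M)) (n + 1) := by
  intro n
  induction n with
  | zero =>
    intro M _ _ _ hxM h
    haveI : Projective (ModuleCat.of R M) := projective_iff_hasProjectiveDimensionLT_one.mpr h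
    haveI : Module.Projective R M := (IsProjective.iff_projective M).2 inferInstance
    haveI : Module.Free R M := Module.free_of_flat_of_isLocalRing (R := R) (P := M)
    haveI : Module.Free (R ⧸ Ideal.span {x}) (QuotSMulTop x M) := inferInstance
    haveI : Projective (ModuleCat.of (R ⧸ Ideal.span {x}) (QuotSMulTop x M)) :=
      (IsProjective.iff_projective (QuotSMulTop x M)).1 inferInstance
    infer_instance
  | succ n ih =>
    intro M _ _ _ hxM h
    obtain ⟨k, f, hf⟩ := Module.Finite.exists_fin' R M
    have hS : f.shortComplexKer.ShortExact := LinearMap.shortExact_shortComplexKer hf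
    have hproj : Projective f.shortComplexKer.X₂ :=
      (IsProjective.iff_projective (Fin k → R)).1 inferInstance
    have h1 : HasProjectiveDimensionLT (ModuleCat.of R (LinearMap.ker f)) (n + 1) :=
      (hS.hasProjectiveDimensionLT_X₃_iff n hproj).mp h
    have hxF : IsSMulRegular (Fin k → R) x := by
      intro a b hab
      funext i
      exact hxR (congrFun hab i)
    have hxK : IsSMulRegular (LinearMap.ker f) x := hxF.submodule _ _
    have h2 := ih (LinearMap.ker f) hxK h1
    -- the short exact sequence mod x
    let ι : LinearMap.ker f →ₗ[R] (Fin k → R) := (LinearMap.ker f).subtype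
    have hex : Function.Exact ι f := by
      intro y
      constructor
      · intro hy
        exact ⟨⟨y, hy⟩, rfl⟩
      · rintro ⟨z, rfl⟩
        exact z.2
    have hex0 : Function.Exact (0 : LinearMap.ker f →ₗ[R] LinearMap.ker f) ι := by
      intro y
      constructor
      · intro hy
        have : y = 0 := Subtype.ext hy
        exact ⟨0, by simp [this]⟩
      · rintro ⟨z, rfl⟩
        simp
    have hinj : Function.Injective (qmap x ι) := by
      have := QuotSMulTop.map_first_exact_on_four_term_exact_of_isSMulRegular_last hex0 hex hxM
      rw [← LinearMap.ker_eq_bot, eq_bot_iff]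
      intro y hy
      rw [LinearMap.mem_ker, qmap_apply] at hy
      obtain ⟨z, hz⟩ := (this y).1 hy
      rw [map_zero] at hz
      rw [Submodule.mem_bot, ← hz]
      rfl
    have hsurj : Function.Surjective (qmap x f) := QuotSMulTop.map_surjective x hf
    have hexq : Function.Exact (qmap x ι) (qmap x f) := QuotSMulTop.map_exact x hex hf
    let S' : ShortComplex (ModuleCat.{u} (R ⧸ Ideal.span {x})) :=
      ShortComplex.mk (ModuleCat.ofHom (qmap x ι)) (ModuleCat.ofHom (qmap x f)) (by
        ext y
        exact hexq.apply_apply_eq_zero y)
    have hS' : S'.ShortExact :=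
      { exact := (ShortComplex.ShortExact.moduleCat_exact_iff_function_exact _).mpr hexq
        mono_f := (ModuleCat.mono_iff_injective _).mpr hinj
        epi_g := (ModuleCat.epi_iff_surjective _).mpr hsurj }
    haveI : Module.Free (R ⧸ Ideal.span {x}) (QuotSMulTop x (Fin k → R)) := inferInstance
    have hproj' : Projective S'.X₂ :=
      (IsProjective.iff_projective (QuotSMulTop x (Fin k → R))).1 inferInstance
    exact (hS'.hasProjectiveDimensionLT_X₃_iff n hproj').mpr h2

end Groth.Agent.Helper2.SerreB
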