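import Mathlib

namespace Groth.Agent.Helper2.StalkField
open AlgebraicGeometry CategoryTheory

universe u

theorem exists_algebra_stalk (k : Type u) [Field k] (X : Scheme.{u})
    (f : X ⟶ Spec (CommRingCat.of k))
    [LocallyOfFinitePresentation f] (x : X) :
    ∃ (A : Type u) (_ : CommRing A) (_ : Algebra k A) (_ : Algebra.FinitePresentation k A)
      (q : Ideal A) (_ : q.IsPrime),
      Nonempty (X.presheaf.stalk x ≃+* Localization.AtPrime q) ∧
      (x ∈ f.smoothLocus ↔ Algebra.IsSmoothAt k q) := by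
  obtain ⟨_, ⟨V, hV, rfl⟩, hxV, -⟩ :=
    X.isBasis_affineOpens.exists_subset_of_mem_open (Set.mem_univ x) isOpen_univ
  have hU : IsAffineOpen (⊤ : (Spec (CommRingCat.of k)).Opens) := isAffineOpen_top _
  have hVU : V ≤ f ⁻¹ᵁ ⊤ := le_top
  let ψ : CommRingCat.of k ⟶ Γ(Spec (CommRingCat.of k), ⊤) := (Scheme.ΓSpecIso (CommRingCat.of k)).inv
  have hψ : Function.Bijective ψ.hom :=
    ConcreteCategory.bijective_of_isIso (Scheme.ΓSpecIso (CommRingCat.of k)).inv
  letI : Algebra k Γ(Spec (CommRingCat.of k), ⊤) := ψ.hom.toAlgebra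
  letI : Algebra Γ(Spec (CommRingCat.of k), ⊤) Γ(X, V) := (f.appLE ⊤ V hVU).hom.toAlgebra
  letI : Algebra k Γ(X, V) := ((f.appLE ⊤ V hVU).hom.comp ψ.hom).toAlgebra
  haveI : IsScalarTower k Γ(Spec (CommRingCat.of k), ⊤) Γ(X, V) :=
    IsScalarTower.of_algebraMap_eq' rfl
  have hfp : (f.appLE ⊤ V hVU).hom.FinitePresentation := f.finitePresentation_appLE hU hV hVU
  haveI : Algebra.FinitePresentation Γ(Spec (CommRingCat.of k), ⊤) Γ(X, V) := hfp
  let e : k ≃ₐ[k] Γ(Spec (CommRingCat.of k), ⊤) :=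
    AlgEquiv.ofBijective (Algebra.ofId k _) hψ
  haveI : Algebra.FormallyEtale k Γ(Spec (CommRingCat.of k), ⊤) := .of_equiv e
  haveI : Algebra.FinitePresentation k Γ(Spec (CommRingCat.of k), ⊤) :=
    Algebra.FinitePresentation.equiv e
  haveI : Algebra.FinitePresentation k Γ(X, V) :=
    Algebra.FinitePresentation.trans k Γ(Spec (CommRingCat.of k), ⊤) Γ(X, V)
  let q := (hV.primeIdealOf ⟨x, hxV⟩).asIdeal
  letI := X.presheaf.algebra_section_stalk ⟨x, hxV⟩
  haveI : IsLocalization.AtPrime (X.presheaf.stalk x) q := hV.isLocalization_stalk ⟨x, hxV⟩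
  refine ⟨Γ(X, V), inferInstance, inferInstance, inferInstance, q, inferInstance,
    ⟨(IsLocalization.algEquiv q.primeCompl (X.presheaf.stalk x)
      (Localization.AtPrime q)).toRingEquiv⟩, ?_⟩
  rw [Scheme.Hom.mem_smoothLocus, formallySmooth_stalkMap_iff ⊤ hU V hV hVU hxV]
  change Algebra.FormallySmooth Γ(Spec (CommRingCat.of k), ⊤) (Localization.AtPrime q) ↔
    Algebra.FormallySmooth k (Localization.AtPrime q)
  exact (Algebra.FormallySmooth.iff_restrictScalars (R := k)
    (A := Γ(Spec (CommRingCat.of k), ⊤)) (B := Localization.AtPrime q)).symm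

end Groth.Agent.Helper2.StalkField
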