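import Mathlib
import Groth.Agent.Helper2.StalkField
import Groth.Agent.Helper2.RegSmooth
import Groth.Agent.Helper1.FieldSmooth6

namespace Groth.Agent.Helper2.SmoothDense
open AlgebraicGeometry CategoryTheory

universe u

theorem mem_smoothLocus_iff_regular (k : Type u) [Field k] [PerfectField k] (X : Scheme.{u})
    (f : X ⟶ Spec (CommRingCat.of k)) [LocallyOfFinitePresentation f] (x : X) :
    x ∈ f.smoothLocus ↔ IsRegularLocalRing (X.presheaf.stalk x) := by
  obtain ⟨A, _, _, _, q, _, ⟨e⟩, hiff⟩ :=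
    Groth.Agent.Helper2.StalkField.exists_algebra_stalk k X f x
  haveI : Algebra.IsGeometricallyReduced k q.ResidueField :=
    Groth.Agent.Helper1.FieldSmooth.isGeometricallyReduced_of_perfectField
  rw [hiff, Groth.Agent.Helper2.RegSmooth.isSmoothAt_iff_isRegularLocalRing k A q]
  exact ⟨fun h => IsRegularLocalRing.of_ringEquiv e.symm, fun h => IsRegularLocalRing.of_ringEquiv e⟩

theorem isRegularLocalRing_of_isField {R : Type*} [CommRing R] (h : IsField R) :
    IsRegularLocalRing R := by
  letI := h.toField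
  infer_instance

theorem dense_smoothLocus (k : Type u) [Field k] [PerfectField k] (X : Scheme.{u})
    (f : X ⟶ Spec (CommRingCat.of k)) [LocallyOfFinitePresentation f] [IsReduced X] :
    Dense (f.smoothLocus : Set X) := by
  rw [dense_iff_inter_open]
  rintro W hW ⟨w, hw⟩
  obtain ⟨_, ⟨V, hV, rfl⟩, hwV, hVW⟩ :=
    X.isBasis_affineOpens.exists_subset_of_mem_open hw hW
  haveI : Nontrivial Γ(X, V) := (hV.primeIdealOf ⟨w, hwV⟩).nontrivial
  obtain ⟨⟨p, hp⟩⟩ := Ideal.nonempty_minimalPrimes (bot_ne_top : (⊥ : Ideal Γ(X, V)) ≠ ⊤)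
  haveI : p.IsPrime := hp.1.1
  let y : PrimeSpectrum Γ(X, V) := ⟨p, inferInstance⟩
  have hyV : hV.fromSpec y ∈ V := by
    rw [← SetLike.mem_coe, ← hV.range_fromSpec]
    exact ⟨y, rfl⟩
  refine ⟨hV.fromSpec y, hVW hyV, ?_⟩
  rw [SetLike.mem_coe, mem_smoothLocus_iff_regular]
  letI := X.presheaf.algebra_section_stalk ⟨hV.fromSpec y, hyV⟩
  haveI : IsLocalization.AtPrime (X.presheaf.stalk (hV.fromSpec y)) p :=
    hV.isLocalization_stalk' y hyV
  haveI : Ring.KrullDimLE 0 (Localization.AtPrime p) := .of_isLocalization _ hp _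
  have hfield : IsField (Localization.AtPrime p) := Ring.KrullDimLE.isField_of_isReduced
  have hreg := isRegularLocalRing_of_isField hfield
  exact IsRegularLocalRing.of_ringEquiv (IsLocalization.algEquiv p.primeCompl
    (Localization.AtPrime p) (X.presheaf.stalk (hV.fromSpec y))).toRingEquiv

end Groth.Agent.Helper2.SmoothDense
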