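import Mathlib
import Groth.Agent.Helper2.SerreA
import Groth.Agent.Helper2.SerreB
import Groth.Agent.Helper2.FibDimEq
import Groth.Agent.Helper2.RegSeq
import Groth.Agent.Helper2.SmoothDense

namespace Groth.Agent.Helper2.SerreC
open IsLocalRing CategoryTheory TensorProduct Pointwise

universe u

section Retract
variable {R : Type u} [CommRing R] [IsLocalRing R] [IsNoetherianRing R]
  (x : R) (hxm : x ∈ maximalIdeal R) (hx2 : x ∉ maximalIdeal R ^ 2)

include hx2 in
theorem exists_functional :
    ∃ π₁ : maximalIdeal R →ₗ[R] ResidueField R, π₁ ⟨x, hxm⟩ = 1 := by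
  have hne : (maximalIdeal R).toCotangent ⟨x, hxm⟩ ≠ 0 := by
    rw [Ne, Ideal.toCotangent_eq_zero]
    exact hx2
  obtain ⟨ℓ, hℓ⟩ := Module.Projective.exists_dual_eq_one (ResidueField R)
    (V := CotangentSpace R) hne
  exact ⟨(ℓ.restrictScalars R).comp (maximalIdeal R).toCotangent, hℓ⟩

/-- the comparison of residue fields, as an `R`-linear map -/
noncomputable def κ [IsLocalRing (R ⧸ Ideal.span {x})] :
    ResidueField R →ₗ[R] ResidueField (R ⧸ Ideal.span {x}) :=
  haveI : IsLocalHom (Ideal.Quotient.mk (Ideal.span {x})) :=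
    IsLocalHom.of_surjective _ Ideal.Quotient.mk_surjective
  { toFun := ResidueField.map (Ideal.Quotient.mk (Ideal.span {x}))
    map_add' := map_add _
    map_smul' := by
      intro r y
      rw [Algebra.smul_def, map_mul, RingHom.id_apply, Algebra.smul_def]
      rfl }

omit [IsNoetherianRing R] in
theorem κ_one [IsLocalRing (R ⧸ Ideal.span {x})] : κ x (1 : ResidueField R) = 1 := by
  haveI : IsLocalHom (Ideal.Quotient.mk (Ideal.span {x})) :=
    IsLocalHom.of_surjective _ Ideal.Quotient.mk_surjective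
  exact map_one (ResidueField.map (Ideal.Quotient.mk (Ideal.span {x})))

include hxm hx2 in
theorem exists_retract [IsLocalRing (R ⧸ Ideal.span {x})] :
    ∃ (i : ResidueField (R ⧸ Ideal.span {x}) →ₗ[R ⧸ Ideal.span {x}]
          QuotSMulTop x (maximalIdeal R))
      (r : QuotSMulTop x (maximalIdeal R) →ₗ[R ⧸ Ideal.span {x}]
          ResidueField (R ⧸ Ideal.span {x})),
      r.comp i = LinearMap.id := by
  obtain ⟨π₁, hπ₁⟩ := exists_functional x hxm hx2
  haveI : IsLocalHom (Ideal.Quotient.mk (Ideal.span {x})) :=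
    IsLocalHom.of_surjective _ Ideal.Quotient.mk_surjective
  have hker : x • (⊤ : Submodule R (maximalIdeal R)) ≤ LinearMap.ker π₁ := by
    intro y hy
    obtain ⟨z, -, rfl⟩ := (Submodule.mem_smul_pointwise_iff_exists _ _ _).1 hy
    rw [LinearMap.mem_ker, map_smul, Algebra.smul_def]
    have : algebraMap R (ResidueField R) x = 0 := (residue_eq_zero_iff x).2 hxm
    rw [this, zero_mul]
  let π₂ : QuotSMulTop x (maximalIdeal R) →ₗ[R] ResidueField R :=
    Submodule.liftQ _ π₁ hker
  let π' : QuotSMulTop x (maximalIdeal R) →ₗ[R ⧸ Ideal.span {x}]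
      ResidueField (R ⧸ Ideal.span {x}) :=
    LinearMap.extendScalarsOfSurjective Ideal.Quotient.mk_surjective ((κ x).comp π₂)
  let v : QuotSMulTop x (maximalIdeal R) := Submodule.Quotient.mk ⟨x, hxm⟩
  have hv : ∀ r' ∈ maximalIdeal (R ⧸ Ideal.span {x}), r' • v = 0 := by
    intro r' hr'
    obtain ⟨r, rfl⟩ := Ideal.Quotient.mk_surjective r'
    have hr : r ∈ maximalIdeal R := by
      intro hu
      exact hr' (hu.map _)
    have h1 : (Ideal.Quotient.mk (Ideal.span {x}) r) • v = r • v := by
      rw [← Ideal.Quotient.algebraMap_eq, algebraMap_smul]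
    rw [h1]
    change Submodule.Quotient.mk (r • (⟨x, hxm⟩ : maximalIdeal R)) = 0
    rw [Submodule.Quotient.mk_eq_zero]
    have h2 : r • (⟨x, hxm⟩ : maximalIdeal R) = x • (⟨r, hr⟩ : maximalIdeal R) := by
      apply Subtype.ext
      simp [mul_comm]
    rw [h2]
    exact Submodule.smul_mem_pointwise_smul _ _ _ trivial
  let ι' : ResidueField (R ⧸ Ideal.span {x}) →ₗ[R ⧸ Ideal.span {x}]
      QuotSMulTop x (maximalIdeal R) :=
    Submodule.liftQ (maximalIdeal (R ⧸ Ideal.span {x}))
      (LinearMap.toSpanSingleton (R ⧸ Ideal.span {x}) _ v) (by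
        intro r' hr'
        rw [LinearMap.mem_ker, LinearMap.toSpanSingleton_apply]
        exact hv r' hr')
  refine ⟨ι', π', ?_⟩
  apply Submodule.linearMap_qext
  apply LinearMap.ext_ring
  change π' (ι' (Submodule.Quotient.mk 1)) = Submodule.Quotient.mk 1
  have h3 : ι' (Submodule.Quotient.mk 1) = v := by
    change (LinearMap.toSpanSingleton (R ⧸ Ideal.span {x}) _ v) 1 = v
    rw [LinearMap.toSpanSingleton_apply, one_smul]
  rw [h3]
  change κ x (π₁ ⟨x, hxm⟩) = _
  rw [hπ₁, κ_one]
  rfl

end Retract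

section Main

/-- finite projective dimension of the maximal ideal -/
theorem pdLT_maximalIdeal (R : Type u) [CommRing R] [IsLocalRing R] (n : ℕ)
    (hn : HasProjectiveDimensionLT (ModuleCat.of R (ResidueField R)) n) :
    HasProjectiveDimensionLT (ModuleCat.of R (maximalIdeal R)) (n + 1) := by
  let ι : maximalIdeal R →ₗ[R] R := (maximalIdeal R).subtype
  let π : R →ₗ[R] ResidueField R := Algebra.linearMap R (ResidueField R)
  have hex : Function.Exact ι π := by
    intro y
    constructor
    · intro hy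
      exact ⟨⟨y, (residue_eq_zero_iff y).1 hy⟩, rfl⟩
    · rintro ⟨z, rfl⟩
      exact (residue_eq_zero_iff _).2 z.2
  let S : ShortComplex (ModuleCat.{u} R) :=
    ShortComplex.mk (ModuleCat.ofHom ι) (ModuleCat.ofHom π) (by
      ext y
      exact hex.apply_apply_eq_zero y)
  have hS : S.ShortExact :=
    { exact := (ShortComplex.ShortExact.moduleCat_exact_iff_function_exact _).mpr hex
      mono_f := (ModuleCat.mono_iff_injective _).mpr (maximalIdeal R).injective_subtype
      epi_g := (ModuleCat.epi_iff_surjective _).mpr residue_surjective }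
  haveI : Projective S.X₂ := (IsProjective.iff_projective R).1 inferInstance
  have h2 : HasProjectiveDimensionLT S.X₂ (n + 1) :=
    hasProjectiveDimensionLT_of_ge _ 1 (n + 1) (by omega)
  have h3 : HasProjectiveDimensionLT S.X₃ (n + 1 + 1) :=
    hasProjectiveDimensionLT_of_ge _ n (n + 1 + 1) (by omega)
  exact hS.hasProjectiveDimensionLT_X₁ (n + 1) h2 h3

theorem step (R : Type u) [CommRing R] [IsLocalRing R] [IsNoetherianRing R] (n : ℕ)
    (hn : HasProjectiveDimensionLT (ModuleCat.of R (ResidueField R)) n)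
    (hm : maximalIdeal R ≠ ⊥) :
    ∃ x ∈ maximalIdeal R, IsSMulRegular R x ∧ ∃ (_ : IsLocalRing (R ⧸ Ideal.span {x})),
      HasProjectiveDimensionLT (ModuleCat.of (R ⧸ Ideal.span {x})
        (ResidueField (R ⧸ Ideal.span {x}))) (n + 1) := by
  have hsoc : ∀ a : R, (∀ x ∈ maximalIdeal R, a * x = 0) → a = 0 := by
    intro a ha
    by_contra h0
    exact hm (Groth.Agent.Helper2.SerreA.maximalIdeal_eq_bot_of_socle a h0 ha n hn)
  obtain ⟨x, hxm, hx2, hxreg⟩ := Groth.Agent.Helper2.SerreA.exists_regular hm hsoc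
  haveI hloc : IsLocalRing (R ⧸ Ideal.span {x}) :=
    Groth.Agent.Helper2.FibDimEq.isLocalRing_quot x hxm
  refine ⟨x, hxm, hxreg, hloc, ?_⟩
  have h1 := pdLT_maximalIdeal R n hn
  have hxM : IsSMulRegular (maximalIdeal R) x := hxreg.submodule _ _
  have h2 := Groth.Agent.Helper2.SerreB.pdLT_quotSMulTop x hxreg n (maximalIdeal R) hxM h1
  obtain ⟨i, r, hir⟩ := exists_retract x hxm hx2
  let ret : Retract (ModuleCat.of (R ⧸ Ideal.span {x}) (ResidueField (R ⧸ Ideal.span {x})))
      (ModuleCat.of (R ⧸ Ideal.span {x}) (QuotSMulTop x (maximalIdeal R))) :=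
    { i := ModuleCat.ofHom i
      r := ModuleCat.ofHom r
      retract := by
        ext y
        exact LinearMap.congr_fun hir y }
  exact ret.hasProjectiveDimensionLT (n + 1)

theorem notMem_minimalPrimes_of_regular {R : Type*} [CommRing R] {x : R}
    (hx : IsSMulRegular R x) : ∀ p ∈ minimalPrimes R, x ∉ p := by
  intro p hp hxp
  have h1 : x ∈ nonZeroDivisors R := by
    rw [mem_nonZeroDivisors_iff_right]
    intro y hy
    apply hx
    simpa [mul_comm] using hy
  exact Set.disjoint_left.mp (Ideal.disjoint_nonZeroDivisors_of_mem_minimalPrimes hp) hxp h1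

theorem field_case (R : Type u) [CommRing R] [IsLocalRing R] (hm : maximalIdeal R = ⊥) :
    IsRegularLocalRing R :=
  Groth.Agent.Helper2.SmoothDense.isRegularLocalRing_of_isField
    (IsLocalRing.isField_iff_maximalIdeal_eq.2 hm)

theorem aux : ∀ (d : ℕ) (R : Type u) [CommRing R] [IsLocalRing R] [IsNoetherianRing R],
    ringKrullDim R ≤ d → ∀ n, HasProjectiveDimensionLT (ModuleCat.of R (ResidueField R)) n →
    IsRegularLocalRing R := by
  intro d
  induction d with
  | zero =>
    intro R _ _ _ hdim n hn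
    by_cases hm : maximalIdeal R = ⊥
    · exact field_case R hm
    · exfalso
      obtain ⟨x, hxm, hxreg, hloc, -⟩ := step R n hn hm
      have h1 := Groth.Agent.Helper2.FibDimEq.dim_quot_succ_le x
        (notMem_minimalPrimes_of_regular hxreg)
      have h2 : ringKrullDim (R ⧸ Ideal.span {x}) + 1 ≤ 0 := by
        refine h1.trans (hdim.trans ?_)
        simp
      have h3 : (0 : WithBot ℕ∞) ≤ ringKrullDim (R ⧸ Ideal.span {x}) := ringKrullDim_nonneg_of_nontrivial
      have h4 : (1 : WithBot ℕ∞) ≤ ringKrullDim (R ⧸ Ideal.span {x}) + 1 := by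
        calc (1 : WithBot ℕ∞) = 0 + 1 := by simp
          _ ≤ _ := by gcongr
      exact absurd (h4.trans h2) (by decide)
  | succ d ih =>
    intro R _ _ _ hdim n hn
    by_cases hm : maximalIdeal R = ⊥
    · exact field_case R hm
    · obtain ⟨x, hxm, hxreg, hloc, hpd⟩ := step R n hn hm
      have h1 := Groth.Agent.Helper2.FibDimEq.dim_quot_succ_le x
        (notMem_minimalPrimes_of_regular hxreg)
      have h2 : ringKrullDim (R ⧸ Ideal.span {x}) ≤ d :=
        Groth.Agent.Helper2.FibDimEq.le_of_add_one_le (h1.trans (by exact_mod_cast hdim))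
      have hreg' := ih (R ⧸ Ideal.span {x}) h2 (n + 1) hpd
      have hdimeq : ringKrullDim (R ⧸ Ideal.span {x}) + 1 = ringKrullDim R :=
        le_antisymm h1 (Groth.Agent.Helper2.FibDimEq.dim_le_quot_succ x hxm)
      have hspan : Ideal.span (Set.range fun _ : Fin 1 => ((⟨x, hxm⟩ : maximalIdeal R) : R)) =
          Ideal.span {x} := by
        congr 1
        ext y
        simp
      have e := Ideal.quotEquivOfEq hspan
      have hreg'' : IsRegularLocalRing
          (R ⧸ Ideal.span (Set.range fun _ : Fin 1 => ((⟨x, hxm⟩ : maximalIdeal R) : R))) :=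
        IsRegularLocalRing.of_ringEquiv e.symm
      refine (Groth.Agent.Helper2.RegSeq.regular_of_quotient_regular 1
        (fun _ => (⟨x, hxm⟩ : maximalIdeal R)) ?_ hreg'').1
      rw [ringKrullDim_eq_of_ringEquiv e]
      exact_mod_cast hdimeq

/-- **Serre**: a Noetherian local ring whose residue field has finite projective dimension is
regular. -/
theorem isRegularLocalRing_of_pdLT (R : Type u) [CommRing R] [IsLocalRing R] [IsNoetherianRing R]
    (n : ℕ) (h : HasProjectiveDimensionLT (ModuleCat.of R (ResidueField R)) n) :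
    IsRegularLocalRing R := by
  have h1 : ringKrullDim R ≤ ((maximalIdeal R).spanFinrank : WithBot ℕ∞) :=
    ringKrullDim_le_spanFinrank_maximalIdeal R
  exact aux _ R (by exact_mod_cast h1) n h

end Main

end Groth.Agent.Helper2.SerreC
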