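import Mathlib
import Groth.Agent.Helper2.SerreC
import Groth.Agent.Helper1.RegGlobalDim

namespace Groth.Agent.Helper2.SerreLoc
open IsLocalRing CategoryTheory

universe u

/-- finite global dimension localizes: if every `R`-module has projective dimension `≤ d` then
so does every module over a localization -/
theorem pdLT_localization (R : Type u) [CommRing R] (S : Submonoid R) (d : ℕ)
    (h : ∀ M : ModuleCat.{u} R, HasProjectiveDimensionLT M (d + 1))
    (N : Type u) [AddCommGroup N] [Module (Localization S) N] [Module R N]
    [IsScalarTower R (Localization S) N] :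
    HasProjectiveDimensionLT (ModuleCat.of (Localization S) N) (d + 1) := by
  haveI : HasProjectiveDimensionLE (ModuleCat.of R N) d := h _
  have h2 : HasProjectiveDimensionLE ((ModuleCat.of R N).localizedModule S) d :=
    ModuleCat.localizedModule_hasProjectiveDimensionLE d S _
  haveI : IsLocalizedModule S (LinearMap.id : N →ₗ[R] N) :=
    isLocalizedModule_id S N (Localization S)
  haveI := ModuleCat.localizedModule_isLocalizedModule (ModuleCat.of R N) S
  let e₀ := IsLocalizedModule.linearEquiv S
    ((ModuleCat.of R N).localizedModuleMkLinearMap S) (LinearMap.id : N →ₗ[R] N)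
  let e := LinearEquiv.extendScalarsOfIsLocalization S (Localization S) e₀
  exact hasProjectiveDimensionLT_of_iso e.toModuleIso (d + 1)

/-- the localization of a regular local ring at a prime is regular -/
theorem isRegularLocalRing_localization (R : Type u) [CommRing R] [IsRegularLocalRing R]
    (p : Ideal R) [p.IsPrime] : IsRegularLocalRing (Localization.AtPrime p) := by
  obtain ⟨d, hd⟩ : ∃ d : ℕ, ringKrullDim R = d :=
    ⟨(maximalIdeal R).spanFinrank, (IsRegularLocalRing.spanFinrank_maximalIdeal).symm⟩
  have h3 := pdLT_localization R p.primeCompl d
    (fun M => Groth.Agent.Helper1.TorLib.hasProjectiveDimensionLT_of_isRegularLocalRing d hd M)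
    (ResidueField (Localization.AtPrime p))
  exact Groth.Agent.Helper2.SerreC.isRegularLocalRing_of_pdLT (Localization.AtPrime p) (d + 1) h3

/-- a regular local ring is a regular ring -/
theorem isRegularRing_of_isRegularLocalRing (R : Type u) [CommRing R] [IsRegularLocalRing R] :
    IsRegularRing R := by
  rw [isRegularRing_iff]
  intro p hp
  exact isRegularLocalRing_localization R p

end Groth.Agent.Helper2.SerreLoc
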