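import Mathlib
import Groth.Prelude
import Groth.Agent.Helper2.FlatAtElem
import Groth.Agent.Helper2.TorsKer
import Groth.Agent.Helper2.NormFlatLoc
import Groth.Agent.Helper6.NagataCrit

set_option autoImplicit false
open Function TensorProduct LinearMap IsLocalRing
universe u

namespace Groth.Agent.Helper2.NoethOpen

open Groth.Agent.Helper2.AdicFlat Groth.Agent.Helper2.FlatCL1 Groth.Agent.Helper2.FlatCL4
open Groth.Agent.Helper2.FlatAtElem Groth.Agent.Helper8.GenFree

section Gen

/-- finiteness of a mixed tensor product. -/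
lemma finite_tensor {A B : Type u} [CommRing A] [CommRing B] [Algebra A B]
    (M : Type u) [AddCommGroup M] [Module B M] [Module A M] [IsScalarTower A B M] [Module.Finite B M]
    (N : Type u) [AddCommGroup N] [Module A N] [Module.Finite A N] : Module.Finite B (M ⊗[A] N) := by
  obtain ⟨n, f, hf⟩ := Module.Finite.exists_fin (R := A) (M := N)
  let π : (Fin n → A) →ₗ[A] N := Fintype.linearCombination A f
  have hπ : Surjective π := by
    rw [← LinearMap.range_eq_top, Fintype.range_linearCombination, hf]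
  have h1 : Surjective (AlgebraTensorModule.lTensor B M π) := LinearMap.lTensor_surjective M hπ
  haveI : Module.Finite B (M ⊗[A] (Fin n → A)) :=
    Module.Finite.equiv (TensorProduct.piScalarRight A B M (Fin n)).symm
  exact Module.Finite.of_surjective _ h1

/-- a common annihilator outside a prime for a finitely generated submodule. -/
lemma exists_notMem_forall_smul_eq_zero {B : Type u} [CommRing B] (q : Ideal B) [q.IsPrime]
    {W : Type u} [AddCommGroup W] [Module B W] (T : Submodule B W) (hT : T.FG)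
    (h : ∀ v ∈ T, ∃ s : B, s ∉ q ∧ s • v = 0) : ∃ g : B, g ∉ q ∧ ∀ v ∈ T, g • v = 0 := by
  classical
  obtain ⟨S, hS⟩ := hT
  have h' : ∀ v : S, ∃ s : B, s ∉ q ∧ s • (v : W) = 0 := fun v =>
    h v (hS ▸ Submodule.subset_span v.2)
  choose f hf1 hf2 using h'
  refine ⟨∏ v ∈ S.attach, f v, ?_, ?_⟩
  · intro hmem
    obtain ⟨v, _, hv⟩ := (Ideal.IsPrime.prod_mem_iff).1 hmem
    exact hf1 v hv
  · intro v hv
    rw [← hS] at hv
    refine Submodule.span_induction ?_ ?_ ?_ ?_ hv
    · intro w hw
      obtain ⟨c, hc⟩ : f ⟨w, hw⟩ ∣ ∏ v ∈ S.attach, f v :=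
        Finset.dvd_prod_of_mem _ (Finset.mem_attach _ _)
      rw [hc, mul_comm, mul_smul, hf2 ⟨w, hw⟩, smul_zero]
    · rw [smul_zero]
    · intro x y _ _ hx hy; rw [smul_add, hx, hy, add_zero]
    · intro c x _ hx; rw [smul_comm, hx, smul_zero]

end Gen

section Main
variable {A B : Type u} [CommRing A] [CommRing B] [Algebra A B] [IsNoetherianRing A]
  [Algebra.FiniteType A B] (M : Type u) [AddCommGroup M] [Module B M] [Module A M]
  [IsScalarTower A B M] [Module.Finite B M]

/-- step (h1): the kernel of `M ⊗ p → M` is killed by one element outside `q`. -/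
lemma exists_kill_ker (q : Ideal B) [q.IsPrime]
    (hq : Module.Flat A (LocalizedModule q.primeCompl M)) (p : Ideal A) :
    ∃ g : B, g ∉ q ∧ ∀ v : M ⊗[A] p, lTensor M p.subtype v = 0 → g • v = 0 := by
  haveI : IsNoetherianRing B := Algebra.FiniteType.isNoetherianRing A B
  haveI : Module.Finite A p := Module.Finite.iff_fg.2 (IsNoetherian.noetherian p)
  haveI : Module.Finite B (M ⊗[A] p) := finite_tensor M p
  haveI : IsNoetherian B (M ⊗[A] p) := isNoetherian_of_isNoetherianRing_of_finite B _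
  let T : Submodule B (M ⊗[A] p) := LinearMap.ker (AlgebraTensorModule.lTensor B M p.subtype)
  have hT : T.FG := IsNoetherian.noetherian T
  obtain ⟨g, hg, hg2⟩ := exists_notMem_forall_smul_eq_zero q T hT (fun v hv => by
    obtain ⟨s, hs⟩ := (lTensor_localized_injective_iff M q.primeCompl p.subtype).1
      (Module.Flat.lTensor_preserves_injective_linearMap _ Subtype.val_injective) v hv
    exact ⟨s.1, s.2, hs⟩)
  exact ⟨g, hg, fun v hv => hg2 v hv⟩

omit [IsNoetherianRing A] [Algebra.FiniteType A B] [Module.Finite B M] [Module B M]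
  [IsScalarTower A B M] in
lemma smul_eq_zero_of_torsion (p : Ideal A) {X' : Type u} [AddCommGroup X'] [Module A X']
    (hX' : Module.IsTorsionBySet A X' p) (a : A) (ha : a ∈ p) (v : M ⊗[A] X') : a • v = 0 := by
  induction v using TensorProduct.induction_on with
  | zero => rw [smul_zero]
  | add x y hx hy => rw [smul_add, hx, hy, add_zero]
  | tmul m x =>
    rw [TensorProduct.smul_tmul', TensorProduct.smul_tmul]
    have : a • x = 0 := @hX' x ⟨a, ha⟩
    rw [this, TensorProduct.tmul_zero]

omit [IsNoetherianRing A] [Algebra.FiniteType A B] [Module.Finite B M] [Module B M]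
  [IsScalarTower A B M] in
/-- step (h2): by generic freeness, torsion kernels are killed by powers of one `f ∉ p`. -/
lemma exists_torsion_kill (B : Type u) [CommRing B] [Algebra A B] [Algebra.FiniteType A B]
    [Module B M] [IsScalarTower A B M] [Module.Finite B M] (p : Ideal A) [p.IsPrime] :
    ∃ f : A, f ∉ p ∧ ∀ (X' X : Type u) [AddCommGroup X'] [AddCommGroup X] [Module A X']
      [Module A X], Module.IsTorsionBySet A X' p → Module.IsTorsionBySet A X p →
        ∀ (ι : X' →ₗ[A] X), Injective ι → ∀ v : M ⊗[A] X', lTensor M ι v = 0 →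
          ∃ k : ℕ, f ^ k • v = 0 := by
  obtain ⟨f, hf, hGF⟩ := Groth.Agent.Helper2.NormFlatLoc.exists_GFat_quot A p M B
  refine ⟨f, hf, ?_⟩
  let fb : A ⧸ p := Ideal.Quotient.mk p f
  let L := Localization.Away fb
  let e : ((A ⧸ p) ⊗[A] M) ≃ₗ[A ⧸ p] (M ⧸ (p • (⊤ : Submodule A M))) :=
    (TensorProduct.quotTensorEquivQuotSMul M p).extendScalarsOfSurjective
      Ideal.Quotient.mk_surjective
  have hGF' : GFat (A ⧸ p) ((A ⧸ p) ⊗[A] M) fb := GFat.of_linearEquiv e.symm hGF
  haveI : Module.Free L (L ⊗[A ⧸ p] ((A ⧸ p) ⊗[A] M)) :=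
    hGF'.free_of_isLocalizedModule L (L ⊗[A ⧸ p] ((A ⧸ p) ⊗[A] M))
      (TensorProduct.mk (A ⧸ p) L ((A ⧸ p) ⊗[A] M) 1)
  intro X' X _ _ _ _ hX' hX ι hι v hv
  obtain ⟨a, ha, hav⟩ := Groth.Agent.Helper2.TorsKer.exists_smul_eq_zero_of_torsion p
    (Submonoid.powers fb) L M hX' hX ι hι v hv
  obtain ⟨k, hk⟩ := ha
  refine ⟨k, ?_⟩
  have hmem : f ^ k - a ∈ p := by
    rw [← Ideal.Quotient.eq, map_pow]
    exact hk
  have h0 := smul_eq_zero_of_torsion M p hX' _ hmem v
  rw [sub_smul, hav, sub_zero] at h0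
  exact h0

/-- the local step: flatness at `q` spreads to a nonempty open part of `V(q)`. -/
theorem exists_basicOpen_flat (q : Ideal B) [q.IsPrime]
    (hq : Module.Flat A (LocalizedModule q.primeCompl M)) :
    ∃ g : B, g ∉ q ∧ ∀ (q₂ : Ideal B) [q₂.IsPrime], q ≤ q₂ → g ∉ q₂ →
      Module.Flat A (LocalizedModule q₂.primeCompl M) := by
  haveI : IsNoetherianRing B := Algebra.FiniteType.isNoetherianRing A B
  set p := q.comap (algebraMap A B) with hp
  obtain ⟨g₁, hg₁, hg₁'⟩ := exists_kill_ker M q hq p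
  obtain ⟨f, hf, hf'⟩ := exists_torsion_kill M B p
  refine ⟨g₁ * algebraMap A B f, ?_, ?_⟩
  · intro hmem
    rcases Ideal.IsPrime.mem_or_mem inferInstance hmem with h | h
    · exact hg₁ h
    · exact hf h
  · intro q₂ _ hle hg
    have hg₁2 : g₁ ∉ q₂ := fun h => hg (Ideal.mul_mem_right _ _ h)
    have hf2 : algebraMap A B f ∉ q₂ := fun h => hg (Ideal.mul_mem_left _ _ h)
    apply flat_localized_of_crit q₂ M p (Ideal.comap_mono hle)
    · rw [← LinearMap.lTensor_inj_iff_rTensor_inj]
      exact (lTensor_localized_injective_iff M q₂.primeCompl p.subtype).2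
        (fun v hv => ⟨⟨g₁, hg₁2⟩, hg₁' v hv⟩)
    · apply torsionFlat_localized_of M q₂.primeCompl p
      intro X' X _ _ _ _ hX' hX ι hι v hv
      obtain ⟨k, hk⟩ := hf' X' X hX' hX ι hι v hv
      refine ⟨⟨algebraMap A B (f ^ k), ?_⟩, ?_⟩
      · rw [map_pow]
        exact fun h => hf2 (Ideal.IsPrime.mem_of_pow_mem inferInstance _ h)
      · rw [Submonoid.mk_smul, algebraMap_smul]
        exact hk

/-- **Openness of the flat locus, Noetherian case.** -/
theorem isOpen_flatLocus :
    IsOpen {q : PrimeSpectrum B | Module.Flat A (LocalizedModule q.asIdeal.primeCompl M)} := by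
  haveI : IsNoetherianRing B := Algebra.FiniteType.isNoetherianRing A B
  apply Groth.Agent.Helper6.NagataCrit.isOpen_of_nagata
  · intro x y hyx hx
    rw [← PrimeSpectrum.le_iff_specializes] at hyx
    refine flat_localized_mono M ?_ hx
    intro b hb hby
    exact hb (hyx hby)
  · intro x hx
    obtain ⟨g, hg, hg'⟩ := exists_basicOpen_flat M x.asIdeal hx
    refine ⟨PrimeSpectrum.basicOpen g, (PrimeSpectrum.basicOpen g).isOpen, ⟨x, hg, ?_⟩, ?_⟩
    · rw [PrimeSpectrum.mem_zeroLocus]
    · rintro y ⟨hy1, hy2⟩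
      rw [PrimeSpectrum.mem_zeroLocus] at hy2
      exact hg' y.asIdeal hy2 hy1

end Main

end Groth.Agent.Helper2.NoethOpen
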