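import Mathlib
import Groth.Prelude
import Groth.Agent.Helper2.FlatDescPoly
import Groth.Agent.Helper2.NoethOpen
import Groth.Agent.Helper2.BCFlatAt

set_option autoImplicit false
open Function TensorProduct LinearMap
universe u

namespace Groth.Agent.Helper2.FlatDescApp

open Groth.Agent.Helper2.FlatDescCore Groth.Agent.Helper2.FlatDescPoly
open Groth.Agent.Helper2.FlatAtElem

attribute [local instance] MvPolynomial.algebraMvPolynomial

section Transfer
variable {A B₁ B₂ : Type u} [CommRing A] [CommRing B₁] [CommRing B₂] [Algebra A B₁] [Algebra A B₂]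
  {M₁ M₂ : Type u} [AddCommGroup M₁] [Module B₁ M₁] [Module A M₁] [IsScalarTower A B₁ M₁]
  [AddCommGroup M₂] [Module B₂ M₂] [Module A M₂] [IsScalarTower A B₂ M₂]

/-- transfer of flatness of localizations along an isomorphism compatible with the
multiplicative sets. -/
theorem flat_localized_transfer (e : M₁ ≃ₗ[A] M₂) (T₁ : Submonoid B₁) (T₂ : Submonoid B₂)
    (hT : ∀ s₁ ∈ T₁, ∃ s₂ ∈ T₂, ∀ m, s₂ • e m = e (s₁ • m))
    (h : Module.Flat A (LocalizedModule T₁ M₁)) : Module.Flat A (LocalizedModule T₂ M₂) := by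
  rw [flat_localized_iff] at h ⊢
  intro X' X _ _ _ _ ι hι v hv
  have hnat : ∀ w : M₂ ⊗[A] X', lTensor M₁ ι (rTensor X' e.symm.toLinearMap w) =
      rTensor X e.symm.toLinearMap (lTensor M₂ ι w) := by
    intro w
    induction w using TensorProduct.induction_on with
    | zero => simp
    | add a b ha hb => simp only [map_add, ha, hb]
    | tmul m x => simp
  obtain ⟨s₁, hs₁⟩ := h X' X ι hι (rTensor X' e.symm.toLinearMap v) (by rw [hnat, hv, map_zero])
  obtain ⟨s₂, hs₂, hs⟩ := hT s₁.1 s₁.2
  refine ⟨⟨s₂, hs₂⟩, ?_⟩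
  have key : ∀ w : M₁ ⊗[A] X', s₂ • rTensor X' e.toLinearMap w =
      rTensor X' e.toLinearMap (s₁.1 • w) := by
    intro w
    induction w using TensorProduct.induction_on with
    | zero => simp
    | add a b ha hb => simp only [map_add, smul_add, ha, hb]
    | tmul m x =>
      rw [TensorProduct.smul_tmul', rTensor_tmul, rTensor_tmul, TensorProduct.smul_tmul']
      congr 1
      exact hs m
  have hv' : v = rTensor X' e.toLinearMap (rTensor X' e.symm.toLinearMap v) := by
    rw [← LinearMap.comp_apply, ← LinearMap.rTensor_comp]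
    simp
  change s₂ • v = 0
  rw [hv', key]
  have : (s₁ : B₁) • rTensor X' e.symm.toLinearMap v = 0 := hs₁
  rw [this, map_zero]

end Transfer

section Stage
variable {n t : ℕ} {R₀ B C : Type u} [CommRing R₀] [CommRing B] [CommRing C] [Algebra R₀ B]
  [Algebra B C] [Algebra R₀ C] [IsScalarTower R₀ B C]
  (K₀ : Submodule (MvPolynomial (Fin n) R₀) (Fm n t R₀))

lemma KB_trans : Submodule.span (MvPolynomial (Fin n) C)
    (fmap B C '' (KB R₀ B K₀ : Set (Fm n t B))) = KB R₀ C K₀ := by
  apply le_antisymm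
  · rw [Submodule.span_le]
    rintro _ ⟨y, hy, rfl⟩
    rw [SetLike.mem_coe]
    unfold KB at hy
    refine Submodule.span_induction ?_ ?_ ?_ ?_ hy
    · rintro _ ⟨k, hk, rfl⟩
      rw [fmap_comp]
      exact Submodule.subset_span ⟨k, hk, rfl⟩
    · rw [map_zero]; exact zero_mem _
    · intro x y _ _ hx hy
      rw [map_add]; exact add_mem hx hy
    · intro c x _ hx
      rw [fmap_smul']
      exact Submodule.smul_mem _ _ hx
  · unfold KB
    rw [Submodule.span_le]
    rintro _ ⟨k, hk, rfl⟩
    rw [← fmap_comp R₀ B C]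
    exact Submodule.subset_span ⟨_, Submodule.subset_span ⟨k, hk, rfl⟩, rfl⟩

/-- flatness at a prime passes from a stage to any bigger ring. -/
theorem flat_of_stage (q₁ : Ideal (MvPolynomial (Fin n) C)) [q₁.IsPrime]
    (h : Module.Flat B (LocalizedModule
      (q₁.comap (algebraMap (MvPolynomial (Fin n) B) (MvPolynomial (Fin n) C))).primeCompl
      (Fm n t B ⧸ KB R₀ B K₀))) :
    Module.Flat C (LocalizedModule q₁.primeCompl (Fm n t C ⧸ KB R₀ C K₀)) := by
  have h1 := Groth.Agent.Helper2.BCFlatAt.flatAt_baseChange (R := B)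
    (S := MvPolynomial (Fin n) B) (R' := C) (S' := MvPolynomial (Fin n) C)
    (quotMap (R' := MvPolynomial (Fin n) C) (fmap B C) (KB R₀ B K₀))
    (isBaseChange_quotMap (fmap B C) (isBaseChange_fmap B C) (KB R₀ B K₀)) q₁ h
  rw [KB_trans] at h1
  exact h1

end Stage

section OpenPoly
variable {n t : ℕ}

/-- openness of the flat locus for the polynomial model `P(A)^t / K(A)`. -/
theorem isOpen_flatLocus_KB {R₀ A : Type u} [CommRing R₀] [IsNoetherianRing R₀] [CommRing A]
    [Algebra R₀ A] (K₀ : Submodule (MvPolynomial (Fin n) R₀) (Fm n t R₀)) :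
    IsOpen {q : PrimeSpectrum (MvPolynomial (Fin n) A) |
      Module.Flat A (LocalizedModule q.asIdeal.primeCompl (Fm n t A ⧸ KB R₀ A K₀))} := by
  rw [isOpen_iff_forall_mem_open]
  intro q hq
  obtain ⟨B', hfg, hB'⟩ := exists_fg_flat K₀ q.asIdeal hq
  have hflat := hB' B' le_rfl hfg
  haveI : Algebra.FiniteType R₀ B' := (Subalgebra.fg_iff_finiteType B').1 hfg
  haveI : IsNoetherianRing B' := Algebra.FiniteType.isNoetherianRing R₀ B'
  have hopen := Groth.Agent.Helper2.NoethOpen.isOpen_flatLocus (A := B')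
    (B := MvPolynomial (Fin n) B') (Fm n t B' ⧸ KB R₀ B' K₀)
  refine ⟨(PrimeSpectrum.comap (algebraMap (MvPolynomial (Fin n) B') (MvPolynomial (Fin n) A))) ⁻¹'
    {q' | Module.Flat B' (LocalizedModule q'.asIdeal.primeCompl (Fm n t B' ⧸ KB R₀ B' K₀))},
    ?_, hopen.preimage (PrimeSpectrum.continuous_comap _), hflat⟩
  intro q₁ hq₁
  exact flat_of_stage K₀ q₁.asIdeal hq₁

lemma exists_map_eq' {A : Type u} [CommRing A] (B' : Subalgebra ℤ A) (p : MvPolynomial (Fin n) A)
    (hp : (p.coeffs : Set A) ⊆ B') :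
    ∃ p' : MvPolynomial (Fin n) B', MvPolynomial.map (algebraMap B' A) p' = p := by
  have h : p ∈ Set.range (MvPolynomial.map (algebraMap B' A)) := by
    rw [MvPolynomial.mem_range_map_iff_coeffs_subset]
    intro x hx
    exact ⟨⟨x, hp hx⟩, rfl⟩
  exact h

/-- every finitely generated submodule of `P(A)^t` comes from a finitely generated `ℤ`-subalgebra. -/
theorem exists_model {A : Type u} [CommRing A]
    (K : Submodule (MvPolynomial (Fin n) A) (Fm n t A)) (hK : K.FG) :
    ∃ (R₀ : Subalgebra ℤ A) (_ : R₀.FG) (K₀ : Submodule (MvPolynomial (Fin n) R₀) (Fm n t R₀)),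
      KB R₀ A K₀ = K := by
  classical
  obtain ⟨G, hG⟩ := hK
  set S : Finset A := G.biUnion (fun g => Finset.univ.biUnion (fun i => (g i).coeffs)) with hS
  set R₀ : Subalgebra ℤ A := Algebra.adjoin ℤ (S : Set A) with hR₀
  have hex : ∀ g ∈ G, ∃ g₀ : Fm n t R₀, fmap R₀ A g₀ = g := by
    intro g hg
    have : ∀ i, ∃ p' : MvPolynomial (Fin n) R₀, MvPolynomial.map (algebraMap R₀ A) p' = g i := by
      intro i
      apply exists_map_eq' R₀ (g i)
      intro x hx
      apply Algebra.subset_adjoin
      rw [hS, Finset.mem_coe, Finset.mem_biUnion]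
      exact ⟨g, hg, Finset.mem_biUnion.2 ⟨i, Finset.mem_univ _, hx⟩⟩
    choose p' hp' using this
    exact ⟨p', funext hp'⟩
  choose! g₀ hg₀ using hex
  refine ⟨R₀, Subalgebra.fg_adjoin_finset _, Submodule.span _ (g₀ '' (G : Set (Fm n t A))), ?_⟩
  apply le_antisymm
  · unfold KB
    rw [Submodule.span_le]
    rintro _ ⟨y, hy, rfl⟩
    rw [SetLike.mem_coe]
    refine Submodule.span_induction ?_ ?_ ?_ ?_ hy
    · rintro _ ⟨g, hg, rfl⟩
      rw [hg₀ g hg, ← hG]
      exact Submodule.subset_span hg
    · rw [map_zero]; exact zero_mem _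
    · intro x y _ _ hx hy
      rw [map_add]; exact add_mem hx hy
    · intro c x _ hx
      rw [fmap_smul']
      exact Submodule.smul_mem _ _ hx
  · rw [← hG, Submodule.span_le]
    intro g hg
    rw [SetLike.mem_coe, ← hg₀ g hg]
    exact Submodule.subset_span ⟨_, Submodule.subset_span ⟨g, hg, rfl⟩, rfl⟩

/-- **Openness of the flat locus**, polynomial ring and explicit presentation. -/
theorem isOpen_flatLocus_poly {A : Type u} [CommRing A]
    (K : Submodule (MvPolynomial (Fin n) A) (Fm n t A)) (hK : K.FG) :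
    IsOpen {q : PrimeSpectrum (MvPolynomial (Fin n) A) |
      Module.Flat A (LocalizedModule q.asIdeal.primeCompl (Fm n t A ⧸ K))} := by
  obtain ⟨R₀, hfg, K₀, rfl⟩ := exists_model K hK
  haveI : Algebra.FiniteType ℤ R₀ := (Subalgebra.fg_iff_finiteType R₀).1 hfg
  haveI : IsNoetherianRing R₀ := Algebra.FiniteType.isNoetherianRing ℤ R₀
  exact isOpen_flatLocus_KB K₀

end OpenPoly

section S0387

/-- **Openness of the flat locus** (EGA IV 11.3.1, algebra form). -/
theorem isOpen_flatLocus_fp {R S M : Type u} [CommRing R] [CommRing S] [Algebra R S]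
    [Algebra.FinitePresentation R S] [AddCommGroup M] [Module S M] [Module R M]
    [IsScalarTower R S M] [Module.FinitePresentation S M] :
    IsOpen {q : PrimeSpectrum S | Module.Flat R (LocalizedModule q.asIdeal.primeCompl M)} := by
  obtain ⟨n, π, hπ, hker⟩ := (Algebra.FinitePresentation.out :
    ∃ (n : ℕ) (f : MvPolynomial (Fin n) R →ₐ[R] S), Surjective f ∧ (RingHom.ker f.toRingHom).FG)
  letI : Algebra (MvPolynomial (Fin n) R) S := π.toRingHom.toAlgebra
  have halg : ∀ x, algebraMap (MvPolynomial (Fin n) R) S x = π x := fun _ => rfl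
  haveI : IsScalarTower R (MvPolynomial (Fin n) R) S :=
    IsScalarTower.of_algebraMap_eq' (by ext r; exact (π.commutes r).symm)
  letI : Module (MvPolynomial (Fin n) R) M :=
    Module.compHom M (algebraMap (MvPolynomial (Fin n) R) S)
  haveI : IsScalarTower (MvPolynomial (Fin n) R) S M :=
    IsScalarTower.of_algebraMap_smul (fun _ _ => rfl)
  haveI : IsScalarTower R (MvPolynomial (Fin n) R) M := by
    refine IsScalarTower.of_algebraMap_smul (fun r m => ?_)
    change algebraMap (MvPolynomial (Fin n) R) S (algebraMap R (MvPolynomial (Fin n) R) r) • m = r • m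
    rw [← IsScalarTower.algebraMap_apply R (MvPolynomial (Fin n) R) S, algebraMap_smul]
  haveI : Module.FinitePresentation (MvPolynomial (Fin n) R) S := by
    refine Module.finitePresentation_of_surjective
      (Algebra.linearMap (MvPolynomial (Fin n) R) S) hπ ?_
    have : LinearMap.ker (Algebra.linearMap (MvPolynomial (Fin n) R) S) =
        RingHom.ker π.toRingHom := by
      ext x
      rfl
    rw [this]
    exact hker
  haveI : Module.FinitePresentation (MvPolynomial (Fin n) R) M :=
    Module.FinitePresentation.trans (MvPolynomial (Fin n) R) M S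
  obtain ⟨t, K, e, hK⟩ := Module.FinitePresentation.exists_fin (MvPolynomial (Fin n) R) M
  have hopen := isOpen_flatLocus_poly (n := n) (t := t) K hK
  have hset : {q : PrimeSpectrum S | Module.Flat R (LocalizedModule q.asIdeal.primeCompl M)} =
      (PrimeSpectrum.comap (algebraMap (MvPolynomial (Fin n) R) S)) ⁻¹'
        {q' | Module.Flat R (LocalizedModule q'.asIdeal.primeCompl (Fm n t R ⧸ K))} := by
    ext q
    constructor
    · intro h
      refine flat_localized_transfer (B₁ := S) (B₂ := MvPolynomial (Fin n) R)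
        (e.restrictScalars R) q.asIdeal.primeCompl _ (fun s₁ hs₁ => ?_) h
      obtain ⟨s₂, rfl⟩ := hπ s₁
      refine ⟨s₂, hs₁, fun m => ?_⟩
      change s₂ • e m = e (π s₂ • m)
      rw [← map_smul]
      rfl
    · intro h
      refine flat_localized_transfer (B₁ := MvPolynomial (Fin n) R) (B₂ := S)
        (e.symm.restrictScalars R) _ q.asIdeal.primeCompl (fun s₁ hs₁ => ?_) h
      refine ⟨algebraMap (MvPolynomial (Fin n) R) S s₁, hs₁, fun m => ?_⟩
      change π s₁ • e.symm m = e.symm (s₁ • m)
      rw [map_smul]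
      rfl
  rw [hset]
  exact hopen.preimage (PrimeSpectrum.continuous_comap _)

end S0387

end Groth.Agent.Helper2.FlatDescApp
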