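import Mathlib
import Groth.Agent.Helper2.TorReg

set_option autoImplicit false
open TensorProduct Function LinearMap
universe u v w w'

namespace Groth.Agent.Helper2.RegFlat2

open Groth.Agent.Helper2.TorReg

section nat
variable {R : Type u} [CommRing R] (I : Ideal R) {M : Type v} [AddCommGroup M] [Module R M]

/-- naturality of `cancelBaseChange` in the first variable (universe polymorphic) -/
lemma cancel_natural {N : Type w} {N' : Type w'} [AddCommGroup N] [AddCommGroup N']
    [Module (R ⧸ I) N]
    [Module (R ⧸ I) N'] [Module R N] [Module R N'] [IsScalarTower R (R ⧸ I) N]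
    [IsScalarTower R (R ⧸ I) N'] (g : N →ₗ[R ⧸ I] N')
    (x : N ⊗[R ⧸ I] ((R ⧸ I) ⊗[R] M)) :
    TensorProduct.AlgebraTensorModule.cancelBaseChange R (R ⧸ I) (R ⧸ I) N' M
      (rTensor ((R ⧸ I) ⊗[R] M) g x) =
    rTensor M (g.restrictScalars R)
      (TensorProduct.AlgebraTensorModule.cancelBaseChange R (R ⧸ I) (R ⧸ I) N M x) := by
  induction x using TensorProduct.induction_on with
  | zero => simp
  | add a b ha hb => simp only [map_add, ha, hb]
  | tmul n y =>
    induction y using TensorProduct.induction_on with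
    | zero => simp
    | add a b ha hb => simp only [tmul_add, map_add, ha, hb]
    | tmul a m => simp

lemma rTensor_injective_of_torsion {S : Type u} [CommRing S] (J : Ideal S)
    {M : Type v} [AddCommGroup M] [Module S M]
    {N' : Type w} {N : Type w'} [AddCommGroup N'] [Module S N']
    [AddCommGroup N] [Module S N]
    (hN' : Module.IsTorsionBySet S N' J) (hN : Module.IsTorsionBySet S N J)
    (ι : N' →ₗ[S] N) (hι : Injective ι)
    [Module.Flat (S ⧸ J) ((S ⧸ J) ⊗[S] M)] : Injective (rTensor M ι) := by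
  let _ := hN'.module
  let _ := hN.module
  let ι' : N' →ₗ[S ⧸ J] N :=
    { ι with
      map_smul' := by
        intro s x
        obtain ⟨s, rfl⟩ := Ideal.Quotient.mk_surjective s
        change ι (s • x) = s • ι x
        exact map_smul ι s x }
  have hι' : Injective (rTensor ((S ⧸ J) ⊗[S] M) ι') :=
    Module.Flat.rTensor_preserves_injective_linearMap ι' hι
  have hres : ι'.restrictScalars S = ι := by
    ext x; rfl
  let e' := TensorProduct.AlgebraTensorModule.cancelBaseChange S (S ⧸ J) (S ⧸ J) N' M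
  let e := TensorProduct.AlgebraTensorModule.cancelBaseChange S (S ⧸ J) (S ⧸ J) N M
  rw [injective_iff_map_eq_zero]
  intro x hx
  have h1 : rTensor ((S ⧸ J) ⊗[S] M) ι' (e'.symm x) = 0 := by
    apply e.injective
    rw [map_zero, cancel_natural J ι', LinearEquiv.apply_symm_apply,
      hres, hx]
  have h2 := (injective_iff_map_eq_zero _).1 hι' _ h1
  simpa using h2

lemma muI_natural' {F : Type w} [AddCommGroup F] [Module R F]
    (𝔞 : Ideal R) (φ : F →ₗ[R] M) (y : 𝔞 ⊗[R] F) :
    muI 𝔞 (lTensor 𝔞 φ y) = φ (muI 𝔞 y) := by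
  induction y using TensorProduct.induction_on with
  | zero => simp
  | add a b ha hb => simp only [map_add, ha, hb]
  | tmul j m => simp

instance isLocalizedModule_lTensor' (T : Submonoid R) {M' : Type w} [AddCommGroup M'] [Module R M']
    (g : M →ₗ[R] M') [IsLocalizedModule T g]
    (𝔞 : Type w') [AddCommGroup 𝔞] [Module R 𝔞] : IsLocalizedModule T (lTensor 𝔞 g) := by
  have h1 : IsLocalizedModule T (AlgebraTensorModule.rTensor R 𝔞 g) := inferInstance
  have h2 : lTensor 𝔞 g = (TensorProduct.comm R M' 𝔞).toLinearMap ∘ₗ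
      (AlgebraTensorModule.rTensor R 𝔞 g) ∘ₗ (TensorProduct.comm R 𝔞 M).toLinearMap := by
    ext; simp
  rw [h2]
  have h3 : IsLocalizedModule T ((AlgebraTensorModule.rTensor R 𝔞 g) ∘ₗ
      (TensorProduct.comm R 𝔞 M).toLinearMap) :=
    IsLocalizedModule.of_linearEquiv_right T _ _
  exact IsLocalizedModule.of_linearEquiv T _ _

end nat

section reg
variable {A : Type u} [CommRing A] (f : A) {M : Type v} [AddCommGroup M] [Module A M]

/-- Lemma (Reg): if `f` is regular on `N` and `M`, and `M/fM` is flat over `A/f`,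
then `f` is regular on `N ⊗ M`. -/
theorem isSMulRegular_tensor_aux (hM : IsSMulRegular M f)
    [Module.Flat (A ⧸ Ideal.span {f}) ((A ⧸ Ideal.span {f}) ⊗[A] M)]
    (N : Type w) [AddCommGroup N] [Module A N] (hN : IsSMulRegular N f)
    (G : Type w') [AddCommGroup G] [Module A G] [Module.Flat A G]
    (π : G →ₗ[A] N) (hπ : Surjective π) :
    IsSMulRegular (N ⊗[A] M) f := by
  set L : Submodule A G := LinearMap.ker π with hLdef
  -- quotients mod f
  set fL : Submodule A L := (Ideal.span {f}) • ⊤ with hfL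
  set fG : Submodule A G := (Ideal.span {f}) • ⊤ with hfG
  have hLG : fL ≤ Submodule.comap L.subtype fG := by
    rw [← Submodule.map_le_iff_le_comap, Submodule.map_smul'']
    exact Submodule.smul_mono le_rfl le_top
  let ιq : (L ⧸ fL) →ₗ[A] (G ⧸ fG) := Submodule.mapQ fL fG L.subtype hLG
  have hmemG : ∀ g : G, g ∈ fG ↔ ∃ g' : G, g = f • g' := by
    intro g
    rw [hfG, Submodule.ideal_span_singleton_smul]
    constructor
    · rintro ⟨g', _, rfl⟩; exact ⟨g', rfl⟩
    · rintro ⟨g', rfl⟩; exact ⟨g', trivial, rfl⟩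
  have hmemL : ∀ l : L, l ∈ fL ↔ ∃ l' : L, l = f • l' := by
    intro l
    rw [hfL, Submodule.ideal_span_singleton_smul]
    constructor
    · rintro ⟨l', _, rfl⟩; exact ⟨l', rfl⟩
    · rintro ⟨l', rfl⟩; exact ⟨l', trivial, rfl⟩
  have hιq : Injective ιq := by
    rw [← LinearMap.ker_eq_bot, eq_bot_iff]
    intro a ha
    obtain ⟨l, rfl⟩ := Submodule.Quotient.mk_surjective _ a
    rw [LinearMap.mem_ker, Submodule.mapQ_apply, Submodule.Quotient.mk_eq_zero] at ha
    rw [Submodule.mem_bot, Submodule.Quotient.mk_eq_zero]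
    obtain ⟨g', hg'⟩ := (hmemG _).1 ha
    have hg'L : g' ∈ L := by
      rw [LinearMap.mem_ker]
      apply hN
      show f • π g' = f • 0
      rw [smul_zero, ← map_smul, ← hg']
      exact l.2
    exact (hmemL l).2 ⟨⟨g', hg'L⟩, Subtype.ext hg'⟩
  have htorsL : Module.IsTorsionBySet A (L ⧸ fL) (Ideal.span {f} : Ideal A) := by
    intro a s
    obtain ⟨a, rfl⟩ := Submodule.Quotient.mk_surjective _ a
    rw [← Submodule.Quotient.mk_smul, Submodule.Quotient.mk_eq_zero]
    exact Submodule.smul_mem_smul s.2 trivial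
  have htorsG : Module.IsTorsionBySet A (G ⧸ fG) (Ideal.span {f} : Ideal A) := by
    intro a s
    obtain ⟨a, rfl⟩ := Submodule.Quotient.mk_surjective _ a
    rw [← Submodule.Quotient.mk_smul, Submodule.Quotient.mk_eq_zero]
    exact Submodule.smul_mem_smul s.2 trivial
  have hinjq := rTensor_injective_of_torsion (M := M) (Ideal.span {f}) htorsL htorsG ιq hιq
  -- f is regular on G ⊗ M
  have hregG : IsSMulRegular (G ⊗[A] M) f := by
    have h1 : Injective (lTensor G (f • (LinearMap.id : M →ₗ[A] M))) :=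
      Module.Flat.lTensor_preserves_injective_linearMap _ (by
        intro a b hab
        exact hM hab)
    intro a b hab
    apply h1
    have : lTensor G (f • (LinearMap.id : M →ₗ[A] M)) = f • LinearMap.id := by
      ext g m
      simp
    rw [this]
    exact hab
  -- exactness
  have hexπ : Exact (rTensor M L.subtype) (rTensor M π) :=
    rTensor_exact M (LinearMap.exact_subtype_ker_map π) hπ
  have hexL : Exact (rTensor M fL.subtype) (rTensor M fL.mkQ) :=
    rTensor_exact M (LinearMap.exact_subtype_mkQ fL) (Submodule.mkQ_surjective fL)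
  -- main
  intro x₁ x₂ hx
  rw [← sub_eq_zero]
  have hx0 : f • (x₁ - x₂) = 0 := by
    rw [smul_sub, sub_eq_zero]; exact hx
  generalize x₁ - x₂ = x at hx0
  obtain ⟨xt, rfl⟩ := LinearMap.rTensor_surjective M hπ x
  have h1 : rTensor M π (f • xt) = 0 := by rw [map_smul, hx0]
  obtain ⟨w, hw⟩ := (hexπ _).1 h1
  -- image of w in L/fL ⊗ M vanishes
  have h2 : rTensor M fL.mkQ w = 0 := by
    apply hinjq
    rw [map_zero, ← LinearMap.comp_apply, ← LinearMap.rTensor_comp]
    have : ιq ∘ₗ fL.mkQ = fG.mkQ ∘ₗ L.subtype := by ext a; rfl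
    rw [this, LinearMap.rTensor_comp, LinearMap.comp_apply, hw, map_smul]
    -- f kills G/fG ⊗ M
    generalize rTensor M fG.mkQ xt = z
    induction z using TensorProduct.induction_on with
    | zero => simp
    | add a b ha hb => rw [smul_add, ha, hb, add_zero]
    | tmul a m =>
      rw [TensorProduct.smul_tmul']
      have : f • a = 0 := @htorsG a ⟨f, Ideal.mem_span_singleton_self f⟩
      rw [this, TensorProduct.zero_tmul]
  obtain ⟨w1, hw1⟩ := (hexL w).1 h2
  -- elements of fL ⊗ M are f • something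
  have h3 : ∃ w' : L ⊗[A] M, w = f • w' := by
    rw [← hw1]
    clear hw1 h2 hw
    induction w1 using TensorProduct.induction_on with
    | zero => exact ⟨0, by simp⟩
    | add a b ha hb =>
      obtain ⟨a', ha'⟩ := ha
      obtain ⟨b', hb'⟩ := hb
      exact ⟨a' + b', by rw [map_add, ha', hb', smul_add]⟩
    | tmul l m =>
      obtain ⟨l', hl'⟩ := (hmemL l.1).1 l.2
      refine ⟨l' ⊗ₜ m, ?_⟩
      rw [LinearMap.rTensor_tmul, Submodule.subtype_apply, hl', TensorProduct.smul_tmul']
  obtain ⟨w', rfl⟩ := h3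
  rw [map_smul] at hw
  have h4 : rTensor M L.subtype w' = xt := hregG hw
  rw [← h4, ← LinearMap.comp_apply, ← LinearMap.rTensor_comp]
  have : π ∘ₗ L.subtype = 0 := by
    ext l
    exact l.2
  rw [this, LinearMap.rTensor_zero, LinearMap.zero_apply]

theorem isSMulRegular_tensor (hM : IsSMulRegular M f)
    [Module.Flat (A ⧸ Ideal.span {f}) ((A ⧸ Ideal.span {f}) ⊗[A] M)]
    (N : Type w) [AddCommGroup N] [Module A N] (hN : IsSMulRegular N f) :
    IsSMulRegular (N ⊗[A] M) f :=
  isSMulRegular_tensor_aux f hM N hN (N →₀ A) (Finsupp.linearCombination A (id : N → N))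
    (Finsupp.linearCombination_id_surjective A N)

end reg

section main
variable {A : Type u} [CommRing A] {M : Type v} [AddCommGroup M] [Module A M]

theorem flat_of_flat_away_mod (f : A) (hA : f ∈ nonZeroDivisors A) (hM : IsSMulRegular M f)
    {M' : Type w} [AddCommGroup M'] [Module A M'] (g : M →ₗ[A] M')
    [IsLocalizedModule (Submonoid.powers f) g] [Module.Flat A M']
    [Module.Flat (A ⧸ Ideal.span {f}) ((A ⧸ Ideal.span {f}) ⊗[A] M)] : Module.Flat A M := by
  rw [Module.Flat.iff_rTensor_injective']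
  intro 𝔞
  rw [← muI_injective_iff]
  have h𝔞 : IsSMulRegular 𝔞 f := by
    intro a b hab
    apply Subtype.ext
    have h2 : f * (a : A) = f * (b : A) := congrArg Subtype.val hab
    have h3 : (a : A) * f = (b : A) * f := by rw [mul_comm, h2, mul_comm]
    exact (IsRegular.right (isRegular_iff_mem_nonZeroDivisors.2 hA)) h3
  have hreg := isSMulRegular_tensor f hM 𝔞 h𝔞
  rw [injective_iff_map_eq_zero]
  intro x hx
  have h1 : lTensor 𝔞 g x = 0 := by
    have hinj : Injective (muI (M := M') 𝔞) := by
      rw [muI_injective_iff]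
      exact Module.Flat.rTensor_preserves_injective_linearMap _ Subtype.val_injective
    apply hinj
    rw [map_zero, muI_natural', hx, map_zero]
  obtain ⟨c, hc⟩ := (IsLocalizedModule.eq_zero_iff (Submonoid.powers f) (lTensor 𝔞 g)).1 h1
  obtain ⟨_, k, rfl⟩ := c
  have hk : IsSMulRegular (𝔞 ⊗[A] M) (f ^ k) := hreg.pow k
  apply hk
  show f ^ k • x = f ^ k • 0
  rw [smul_zero]
  exact hc

end main

end Groth.Agent.Helper2.RegFlat2
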