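import Mathlib
import Groth.Agent.Helper2.RegFlat2

set_option autoImplicit false
open TensorProduct Function LinearMap
universe u v w w'

namespace Groth.Agent.Helper2.TorOne

open Groth.Agent.Helper2.TorReg Groth.Agent.Helper2.RegFlat2

section T
variable {A : Type u} [CommRing A] (I : Ideal A) {M : Type v} [AddCommGroup M] [Module A M]

/-- `(I ⊗ G) ⊗ M → G ⊗ M` is injective when `G` is flat and `I ⊗ M → M` is injective. -/
lemma rTensor_muI_injective (hI : Injective (muI (M := M) I))
    (G : Type w) [AddCommGroup G] [Module A G] [Module.Flat A G] :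
    Injective (rTensor M (muI (M := G) I)) := by
  have h1 : Injective (lTensor G (muI (M := M) I)) :=
    Module.Flat.lTensor_preserves_injective_linearMap _ hI
  let e : (I ⊗[A] G) ⊗[A] M ≃ₗ[A] G ⊗[A] (I ⊗[A] M) :=
    (TensorProduct.comm A I G).rTensor M ≪≫ₗ TensorProduct.assoc A G I M
  have h2 : rTensor M (muI (M := G) I) = lTensor G (muI (M := M) I) ∘ₗ e.toLinearMap := by
    ext i g m
    simp [e, TensorProduct.smul_tmul]
  rw [h2]
  exact h1.comp e.injective

/-- Lemma T -/
theorem rTensor_subtype_injective_of_flat [Module.Flat (A ⧸ I) ((A ⧸ I) ⊗[A] M)]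
    (hI : Injective (muI (M := M) I))
    (G : Type w) [AddCommGroup G] [Module A G] [Module.Flat A G]
    (L : Submodule A G) (hL : I • (⊤ : Submodule A G) ≤ L) :
    Injective (rTensor M L.subtype) := by
  set IG : Submodule A G := I • ⊤ with hIG
  set L' : Submodule A L := Submodule.comap L.subtype IG with hL'
  -- quotient injection
  let ιq : (L ⧸ L') →ₗ[A] (G ⧸ IG) := Submodule.mapQ L' IG L.subtype le_rfl
  have hιq : Injective ιq := by
    rw [← LinearMap.ker_eq_bot, eq_bot_iff]
    intro a ha
    obtain ⟨l, rfl⟩ := Submodule.Quotient.mk_surjective _ a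
    rw [LinearMap.mem_ker, Submodule.mapQ_apply, Submodule.Quotient.mk_eq_zero] at ha
    rw [Submodule.mem_bot, Submodule.Quotient.mk_eq_zero]
    exact ha
  have htorsL : Module.IsTorsionBySet A (L ⧸ L') (I : Set A) := by
    intro a s
    obtain ⟨a, rfl⟩ := Submodule.Quotient.mk_surjective _ a
    rw [← Submodule.Quotient.mk_smul, Submodule.Quotient.mk_eq_zero]
    show L.subtype ((s : A) • a) ∈ IG
    rw [map_smul]
    exact Submodule.smul_mem_smul s.2 trivial
  have htorsG : Module.IsTorsionBySet A (G ⧸ IG) (I : Set A) := by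
    intro a s
    obtain ⟨a, rfl⟩ := Submodule.Quotient.mk_surjective _ a
    rw [← Submodule.Quotient.mk_smul, Submodule.Quotient.mk_eq_zero]
    exact Submodule.smul_mem_smul s.2 trivial
  have hinjq := rTensor_injective_of_torsion (M := M) I htorsL htorsG ιq hιq
  have hexL : Exact (rTensor M L'.subtype) (rTensor M L'.mkQ) :=
    rTensor_exact M (LinearMap.exact_subtype_mkQ L') (Submodule.mkQ_surjective L')
  -- the surjection I ⊗ G → L'
  let e : I ⊗[A] G →ₗ[A] L' :=
    LinearMap.codRestrict L' (LinearMap.codRestrict L (muI (M := G) I)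
      (fun y => hL (muI_mem I y))) (fun y => muI_mem I y)
  have he : Surjective e := by
    rintro ⟨⟨g, hgL⟩, hg⟩
    obtain ⟨y, hy⟩ := exists_muI_eq I g hg
    exact ⟨y, Subtype.ext (Subtype.ext hy)⟩
  have hecomp : L.subtype ∘ₗ L'.subtype ∘ₗ e = muI (M := G) I := by
    ext y; rfl
  rw [injective_iff_map_eq_zero]
  intro x hx
  have h2 : rTensor M L'.mkQ x = 0 := by
    apply hinjq
    rw [map_zero, ← LinearMap.comp_apply, ← LinearMap.rTensor_comp]
    have : ιq ∘ₗ L'.mkQ = IG.mkQ ∘ₗ L.subtype := by ext a; rfl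
    rw [this, LinearMap.rTensor_comp, LinearMap.comp_apply, hx, map_zero]
  obtain ⟨x', rfl⟩ := (hexL x).1 h2
  obtain ⟨x'', rfl⟩ := LinearMap.rTensor_surjective M he x'
  have h3 : rTensor M (muI (M := G) I) x'' = 0 := by
    rw [← hecomp, LinearMap.rTensor_comp, LinearMap.rTensor_comp]
    exact hx
  rw [(injective_iff_map_eq_zero _).1 (rTensor_muI_injective I hI G) x'' h3, map_zero, map_zero]

/-- Lemma T' (with a chosen flat presentation) -/
theorem rTensor_injective_of_smul_mem_range_aux [Module.Flat (A ⧸ I) ((A ⧸ I) ⊗[A] M)]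
    (hI : Injective (muI (M := M) I))
    {N' : Type w'} {N : Type w} [AddCommGroup N'] [Module A N'] [AddCommGroup N] [Module A N]
    (ι : N' →ₗ[A] N) (hι : Injective ι)
    (h : ∀ i ∈ I, ∀ n : N, i • n ∈ LinearMap.range ι)
    (G : Type (max u w)) [AddCommGroup G] [Module A G] [Module.Flat A G]
    (π : G →ₗ[A] N) (hπ : Surjective π) :
    Injective (rTensor M ι) := by
  set L'' : Submodule A G := Submodule.comap π (LinearMap.range ι) with hL''
  have hIL : I • (⊤ : Submodule A G) ≤ L'' := by
    rw [Submodule.smul_le]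
    intro i hi g _
    show π (i • g) ∈ LinearMap.range ι
    rw [map_smul]
    exact h i hi _
  have hT := rTensor_subtype_injective_of_flat I hI G L'' hIL
  -- ρ : L'' → N'
  let ρ : L'' →ₗ[A] N' :=
    (LinearEquiv.ofInjective ι hι).symm.toLinearMap ∘ₗ
      LinearMap.codRestrict (LinearMap.range ι) (π ∘ₗ L''.subtype) (fun l => l.2)
  have hρ : ι ∘ₗ ρ = π ∘ₗ L''.subtype := by
    ext l
    have := LinearEquiv.apply_symm_apply (LinearEquiv.ofInjective ι hι)
      (LinearMap.codRestrict (LinearMap.range ι) (π ∘ₗ L''.subtype) (fun l => l.2) l)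
    exact congrArg Subtype.val this
  have hρsurj : Surjective ρ := by
    intro n'
    obtain ⟨g, hg⟩ := hπ (ι n')
    refine ⟨⟨g, by show π g ∈ LinearMap.range ι; rw [hg]; exact LinearMap.mem_range_self _ _⟩, ?_⟩
    apply hι
    have := LinearMap.congr_fun hρ ⟨g, by show π g ∈ LinearMap.range ι; rw [hg]; exact LinearMap.mem_range_self _ _⟩
    simp only [LinearMap.comp_apply] at this
    rw [this]
    exact hg
  have hker : LinearMap.ker π ≤ L'' := by
    intro g hg
    show π g ∈ LinearMap.range ι
    rw [LinearMap.mem_ker.1 hg]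
    exact zero_mem _
  have hex : Exact (rTensor M (LinearMap.ker π).subtype) (rTensor M π) :=
    rTensor_exact M (LinearMap.exact_subtype_ker_map π) hπ
  rw [injective_iff_map_eq_zero]
  intro x hx
  obtain ⟨x'', rfl⟩ := LinearMap.rTensor_surjective M hρsurj x
  have h1 : rTensor M π (rTensor M L''.subtype x'') = 0 := by
    rw [← LinearMap.comp_apply, ← LinearMap.rTensor_comp, ← hρ, LinearMap.rTensor_comp]
    exact hx
  obtain ⟨l, hl⟩ := (hex _).1 h1
  have h2 : x'' = rTensor M (Submodule.inclusion hker) l := by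
    apply hT
    rw [← hl, ← LinearMap.comp_apply, ← LinearMap.rTensor_comp]
    rfl
  rw [h2, ← LinearMap.comp_apply, ← LinearMap.rTensor_comp]
  have : ρ ∘ₗ Submodule.inclusion hker = 0 := by
    ext l
    apply hι
    have := LinearMap.congr_fun hρ (Submodule.inclusion hker l)
    simp only [LinearMap.comp_apply] at this
    rw [LinearMap.comp_apply, this, LinearMap.zero_apply, map_zero]
    exact l.2
  rw [this, LinearMap.rTensor_zero, LinearMap.zero_apply]

/-- Lemma T' -/
theorem rTensor_injective_of_smul_mem_range [Module.Flat (A ⧸ I) ((A ⧸ I) ⊗[A] M)]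
    (hI : Injective (muI (M := M) I))
    {N' : Type w'} {N : Type w} [AddCommGroup N'] [Module A N'] [AddCommGroup N] [Module A N]
    (ι : N' →ₗ[A] N) (hι : Injective ι)
    (h : ∀ i ∈ I, ∀ n : N, i • n ∈ LinearMap.range ι) :
    Injective (rTensor M ι) :=
  rTensor_injective_of_smul_mem_range_aux I hI ι hι h (N →₀ A)
    (Finsupp.linearCombination A (id : N → N)) (Finsupp.linearCombination_id_surjective A N)

end T

section C
variable {A : Type u} [CommRing A] (I : Ideal A) {M : Type v} [AddCommGroup M] [Module A M]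

/-- C(k): injections with cokernel killed by `I^k` stay injective after `⊗ M`. -/
theorem rTensor_injective_of_pow_smul_mem_range [Module.Flat (A ⧸ I) ((A ⧸ I) ⊗[A] M)]
    (hI : Injective (muI (M := M) I)) (k : ℕ) :
    ∀ {N' N : Type w} [AddCommGroup N'] [Module A N'] [AddCommGroup N] [Module A N]
    (ι : N' →ₗ[A] N) (_ : Injective ι)
    (_ : ∀ r ∈ I ^ k, ∀ n : N, r • n ∈ LinearMap.range ι), Injective (rTensor M ι) := by
  induction k with
  | zero =>
    intro N' N _ _ _ _ ι hι h
    have hsurj : Surjective ι := by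
      intro n
      have := h 1 (by simp) n
      rwa [one_smul] at this
    let e : N' ≃ₗ[A] N := LinearEquiv.ofBijective ι ⟨hι, hsurj⟩
    have : rTensor M ι = (e.rTensor M).toLinearMap := by
      ext; simp [e]
    rw [this]
    exact (e.rTensor M).injective
  | succ k ih =>
    intro N' N _ _ _ _ ι hι h
    set Ns : Submodule A N := LinearMap.range ι ⊔ (I ^ k) • ⊤ with hNs
    let ιs : N' →ₗ[A] Ns := LinearMap.codRestrict Ns ι (fun n => Submodule.mem_sup_left (LinearMap.mem_range_self ι n))
    have hιs : Injective ιs := by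
      intro a b hab
      apply hι
      exact congrArg Subtype.val hab
    have hcomp : ι = Ns.subtype ∘ₗ ιs := by ext; rfl
    have h1 : Injective (rTensor M Ns.subtype) := by
      apply ih Ns.subtype Ns.injective_subtype
      intro r hr n
      rw [Submodule.range_subtype]
      exact Submodule.mem_sup_right (Submodule.smul_mem_smul hr trivial)
    have h2 : Injective (rTensor M ιs) := by
      apply rTensor_injective_of_smul_mem_range I hI ιs hιs
      rintro i hi ⟨n, hn⟩
      obtain ⟨a, ha, b, hb, rfl⟩ := Submodule.mem_sup.1 hn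
      obtain ⟨n', rfl⟩ := ha
      have hb' : i • b ∈ LinearMap.range ι := by
        clear hn
        induction hb using Submodule.smul_induction_on' with
        | smul r hr n _ =>
          rw [← mul_smul]
          exact h (i * r) (by rw [pow_succ']; exact Ideal.mul_mem_mul hi hr) n
        | add x _ y _ hx hy =>
          rw [smul_add]
          exact add_mem hx hy
      obtain ⟨n'', hn''⟩ := hb'
      refine ⟨i • n' + n'', ?_⟩
      apply Subtype.ext
      show ι (i • n' + n'') = i • (ι n' + b)
      rw [map_add, map_smul, hn'', smul_add]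
    rw [hcomp, LinearMap.rTensor_comp]
    exact h1.comp h2

/-- nilpotent local criterion -/
theorem flat_of_isNilpotent [Module.Flat (A ⧸ I) ((A ⧸ I) ⊗[A] M)]
    (hI : Injective (muI (M := M) I)) (hnil : IsNilpotent I) : Module.Flat A M := by
  obtain ⟨k, hk⟩ := hnil
  rw [Module.Flat.iff_rTensor_injective']
  intro 𝔞
  apply rTensor_injective_of_pow_smul_mem_range I hI k 𝔞.subtype 𝔞.injective_subtype
  intro r hr n
  rw [hk] at hr
  have : r = 0 := hr
  rw [this, zero_smul]
  exact zero_mem _

end C

end Groth.Agent.Helper2.TorOne
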