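import Mathlib
import Groth.Prelude.Def_Pi1
import Groth.Agent.Helper2.ContentIdeal

set_option autoImplicit false
open TensorProduct Function LinearMap
universe u

namespace Groth.Agent.Helper2.PureFlat

open Groth.Agent.Helper2.TorReg Groth.Agent.Helper2.ContentIdeal

section crit
variable {R : Type u} [CommRing R] {G M : Type u} [AddCommGroup G] [Module R G]
  [AddCommGroup M] [Module R M]

/-- `G/K` is flat if `G` is flat and `K ∩ IG ≤ IK` for all ideals `I`. -/
theorem flat_of_ker_inf_le [Module.Flat R G] (φ : G →ₗ[R] M) (hφ : Surjective φ)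
    (h : ∀ I : Ideal R, LinearMap.ker φ ⊓ I • ⊤ ≤ I • LinearMap.ker φ) : Module.Flat R M := by
  rw [Module.Flat.iff_rTensor_injective']
  intro I
  rw [← muI_injective_iff, injective_iff_map_eq_zero]
  intro x hx
  obtain ⟨xt, rfl⟩ := LinearMap.lTensor_surjective I hφ x
  rw [muI_natural] at hx
  have hz : muI I xt ∈ I • LinearMap.ker φ := h I ⟨hx, muI_mem I xt⟩
  have hmap : I • LinearMap.ker φ = Submodule.map (LinearMap.ker φ).subtype (I • ⊤) := by
    rw [Submodule.map_smul'', Submodule.map_subtype_top]
  rw [hmap] at hz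
  obtain ⟨z', hz', hz'eq⟩ := hz
  obtain ⟨w, hw⟩ := exists_muI_eq I z' hz'
  have hinj : Injective (muI (M := G) I) := by
    rw [muI_injective_iff]
    exact Module.Flat.rTensor_preserves_injective_linearMap _ Subtype.val_injective
  have hxt : xt = lTensor I (LinearMap.ker φ).subtype w := by
    apply hinj
    rw [muI_natural, hw, ← hz'eq]
  rw [hxt, ← LinearMap.comp_apply, ← LinearMap.lTensor_comp]
  have : φ ∘ₗ (LinearMap.ker φ).subtype = 0 := by
    ext k; exact k.2
  rw [this, LinearMap.lTensor_zero, LinearMap.zero_apply]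

end crit


section main
variable {R S : Type u} [CommRing R] [CommRing S] [Algebra R S]
  {G M : Type u} [AddCommGroup G] [Module R G] [AddCommGroup M] [Module R M]

theorem ker_inf_le_of_univInjective (h : Pi1.UnivInjective R S) [Module.Flat S (S ⊗[R] M)]
    (φ : G →ₗ[R] M) (hφ : Surjective φ) (I : Ideal R) :
    LinearMap.ker φ ⊓ I • ⊤ ≤ I • LinearMap.ker φ := by
  intro z hz
  have hzK : φ z = 0 := hz.1
  have hzI : z ∈ (I • ⊤ : Submodule R G) := hz.2
  set K := LinearMap.ker φ with hK
  -- the S-side
  set φS : S ⊗[R] G →ₗ[S] S ⊗[R] M := φ.baseChange S with hφS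
  have hφS_surj : Surjective φS := by
    intro y
    obtain ⟨x, hx⟩ := LinearMap.lTensor_surjective S hφ y
    exact ⟨x, by rw [hφS, LinearMap.baseChange_eq_ltensor]; exact hx⟩
  set IS : Ideal S := I.map (algebraMap R S) with hIS
  have hS := ker_inf_smul_le φS hφS_surj IS
  have h1 : (1 : S) ⊗ₜ[R] z ∈ LinearMap.ker φS := by
    rw [LinearMap.mem_ker, hφS, LinearMap.baseChange_tmul, hzK, tmul_zero]
  have h2 : (1 : S) ⊗ₜ[R] z ∈ (IS • ⊤ : Submodule S (S ⊗[R] G)) := by
    clear h1 hzK hz
    induction hzI using Submodule.smul_induction_on' with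
    | smul i hi g hg =>
      have : (1 : S) ⊗ₜ[R] (i • g) = (algebraMap R S i) • ((1 : S) ⊗ₜ[R] g) := by
        rw [TensorProduct.smul_tmul', smul_eq_mul, mul_one, ← TensorProduct.smul_tmul,
          Algebra.smul_def, mul_one]
      rw [this]
      exact Submodule.smul_mem_smul (Ideal.mem_map_of_mem _ hi) trivial
    | add x _ y _ hx hy =>
      rw [tmul_add]
      exact add_mem hx hy
  have h3 := hS ⟨h1, h2⟩
  -- the target submodule
  set IK : Submodule R G := I • K with hIK
  set W : Submodule S (S ⊗[R] G) := LinearMap.range (IK.subtype.baseChange S) with hW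
  have hker : LinearMap.ker φS = LinearMap.range (K.subtype.baseChange S) := by
    have hex := lTensor_exact S (LinearMap.exact_subtype_ker_map φ) hφ
    ext y
    rw [LinearMap.mem_ker, LinearMap.mem_range, hφS, LinearMap.baseChange_eq_ltensor]
    rw [hex y]
    constructor
    · rintro ⟨w, rfl⟩; exact ⟨w, by rw [LinearMap.baseChange_eq_ltensor]⟩
    · rintro ⟨w, rfl⟩; exact ⟨w, by rw [LinearMap.baseChange_eq_ltensor]⟩
  have hle : IS • LinearMap.ker φS ≤ W := by
    rw [Submodule.smul_le]
    intro r hr n hn
    rw [hker] at hn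
    obtain ⟨n', rfl⟩ := hn
    -- induction on r ∈ IS
    have key : ∀ r ∈ IS, ∀ n' : S ⊗[R] K, r • (K.subtype.baseChange S) n' ∈ W := by
      intro r hr
      rw [hIS, Ideal.map] at hr
      induction hr using Submodule.span_induction with
      | mem r hr' =>
        obtain ⟨i, hi, rfl⟩ := hr'
        intro n'
        induction n' using TensorProduct.induction_on with
        | zero => simp
        | add a b ha hb =>
          rw [map_add, smul_add]
          exact add_mem ha hb
        | tmul s k =>
          rw [LinearMap.baseChange_tmul, Submodule.subtype_apply]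
          have hik : i • (k : G) ∈ IK := Submodule.smul_mem_smul hi k.2
          have : (algebraMap R S i) • (s ⊗ₜ[R] (k : G)) =
              (IK.subtype.baseChange S) (s ⊗ₜ[R] ⟨i • (k : G), hik⟩) := by
            rw [LinearMap.baseChange_tmul, Submodule.subtype_apply, TensorProduct.smul_tmul',
              smul_eq_mul, ← Algebra.smul_def, TensorProduct.smul_tmul]
          rw [this]
          exact LinearMap.mem_range_self _ _
      | zero => intro n'; simp
      | add a b _ _ ha hb =>
        intro n'
        rw [add_smul]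
        exact add_mem (ha n') (hb n')
      | smul c a _ ha =>
        intro n'
        rw [smul_eq_mul, mul_smul]
        exact W.smul_mem c (ha n')
    exact key r hr n'
  have h4 : (1 : S) ⊗ₜ[R] z ∈ W := hle h3
  obtain ⟨w, hw⟩ := h4
  -- conclude
  have hzq : IK.mkQ z = 0 := by
    have hinj := h (G ⧸ IK)
    have h5 : (IK.mkQ z) ⊗ₜ[R] (1 : S) = 0 := by
      have h6 : (1 : S) ⊗ₜ[R] (IK.mkQ z) = 0 := by
        have : (1 : S) ⊗ₜ[R] (IK.mkQ z) = lTensor S IK.mkQ ((1 : S) ⊗ₜ[R] z) := by
          rw [LinearMap.lTensor_tmul]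
        rw [this, ← hw, LinearMap.baseChange_eq_ltensor, ← LinearMap.comp_apply,
          ← LinearMap.lTensor_comp]
        have : IK.mkQ ∘ₗ IK.subtype = 0 := by
          ext a
          simp
        rw [this, LinearMap.lTensor_zero, LinearMap.zero_apply]
      have := congrArg (TensorProduct.comm R S _) h6
      simpa using this
    have h7 : (IK.mkQ z) ⊗ₜ[R] (1 : R) = 0 := by
      apply hinj
      rw [LinearMap.lTensor_tmul, map_zero]
      simpa using h5
    have := congrArg (TensorProduct.rid R _) h7
    simpa using this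
  exact (Submodule.Quotient.mk_eq_zero IK).1 hzq


end main

end Groth.Agent.Helper2.PureFlat
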