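import Mathlib
import Groth.Agent.Helper7.FlatAdic
import Groth.Agent.Helper2.TorOne
import Groth.Agent.Helper1.TorsionFreeEmb
import Groth.Agent.S0274
import Groth.Agent.S6352
import Groth.Agent.S6893

set_option autoImplicit false
universe u

namespace Groth.Agent.Helper2.FinInjDesc

open Function TensorProduct LinearMap
open Groth.Agent.Helper2.TorReg Groth.Agent.Helper2.TorOne

section bc
variable (A A₁ A₂ C : Type u) [CommRing A] [CommRing A₁] [CommRing A₂] [CommRing C]
  [Algebra A A₁] [Algebra A A₂] [Algebra A C] [Algebra A₁ C] [Algebra A₂ C]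
  [IsScalarTower A A₁ C] [IsScalarTower A A₂ C]
  (M : Type u) [AddCommGroup M] [Module A M]

/-- base change of flatness, first form -/
theorem flat_bc1 [Module.Flat A₁ (A₁ ⊗[A] M)] : Module.Flat C (C ⊗[A] M) := by
  have h1 : Module.Flat C (C ⊗[A₁] (A₁ ⊗[A] M)) := inferInstance
  exact Module.Flat.of_linearEquiv
    (TensorProduct.AlgebraTensorModule.cancelBaseChange A A₁ C C M).symm

/-- base change of flatness, second form -/
theorem flat_bc3 [Module.Flat A₁ (A₁ ⊗[A] M)] : Module.Flat C (C ⊗[A₂] (A₂ ⊗[A] M)) := by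
  have h1 : Module.Flat C (C ⊗[A] M) := flat_bc1 A A₁ C M
  exact Module.Flat.of_linearEquiv
    (TensorProduct.AlgebraTensorModule.cancelBaseChange A A₂ C C M)

end bc

section contraction
variable {R S : Type u} [CommRing R] [CommRing S] [Algebra R S] [Algebra.IsIntegral R S]

lemma comap_map_le_of_isRadical (hinj : Injective (algebraMap R S)) (𝔞 : Ideal R)
    (h𝔞 : 𝔞.IsRadical) : (𝔞.map (algebraMap R S)).comap (algebraMap R S) ≤ 𝔞 := by
  intro x hx
  have : x ∈ 𝔞.radical := by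
    rw [Ideal.radical_eq_sInf, Ideal.mem_sInf]
    rintro 𝔭 ⟨h𝔞𝔭, h𝔭⟩
    haveI := h𝔭
    obtain ⟨𝔮, h𝔮, h𝔮𝔭⟩ := Ideal.exists_ideal_over_prime_of_isIntegral 𝔭 (⊥ : Ideal S)
      (by rw [Ideal.comap_bot_of_injective _ hinj]; exact bot_le)
    rw [← h𝔮𝔭.2, Ideal.mem_comap]
    have h1 : 𝔞.map (algebraMap R S) ≤ 𝔮 := by
      rw [Ideal.map_le_iff_le_comap, h𝔮𝔭.2]
      exact h𝔞𝔭
    exact h1 hx
  rwa [h𝔞.radical] at this

end contraction

section conductor
variable {B S : Type u} [CommRing B] [CommRing S] [Algebra B S]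
  (M₁ : Type u) [AddCommGroup M₁] [Module B M₁]

/-- compatibility of the two routes `𝔞 ⊗ M₁ → S ⊗ M₁` -/
lemma mk_muI_eq (𝔞 : Ideal B) (𝔟 : Ideal S) (j : 𝔞 →ₗ[B] ↥𝔟)
    (hj : ∀ a, ((j a : ↥𝔟) : S) = algebraMap B S a) (x : 𝔞 ⊗[B] M₁) :
    rTensor M₁ ((Submodule.subtype 𝔟).restrictScalars B) (rTensor M₁ j x) =
      TensorProduct.mk B S M₁ 1 (muI 𝔞 x) := by
  induction x using TensorProduct.induction_on with
  | zero => simp
  | add a b ha hb => simp only [map_add, ha, hb]
  | tmul a m =>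
    rw [rTensor_tmul, rTensor_tmul, muI_tmul, TensorProduct.mk_apply, TensorProduct.tmul_smul,
      TensorProduct.smul_tmul']
    congr 1
    rw [LinearMap.coe_restrictScalars, Submodule.subtype_apply, hj, Algebra.algebraMap_eq_smul_one]

variable (S) in
/-- the ideal `dS ∩ B` -/
def cId (d : B) : Ideal B := (Ideal.span {algebraMap B S d}).comap (algebraMap B S)

variable (hBS : Injective (algebraMap B S)) (d : B)
  (hcond : ∀ s : S, ∃ b : B, algebraMap B S b = algebraMap B S d * s)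

include hBS hcond in
lemma muI_cId_injective [Module.Flat S (S ⊗[B] M₁)] :
    Injective (muI (M := M₁) (cId S d)) := by
  set 𝔟 : Ideal S := Ideal.span {algebraMap B S d} with h𝔟
  let κ : cId S d →ₗ[B] ↥𝔟 :=
    LinearMap.codRestrict (𝔟.restrictScalars B)
      ((Algebra.linearMap B S).comp (Submodule.subtype (cId S d))) (fun c => c.2)
  have hκ : ∀ c, ((κ c : ↥𝔟) : S) = algebraMap B S c := fun c => rfl
  have hκbij : Bijective κ := by
    constructor
    · intro c c' h
      apply Subtype.ext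
      apply hBS
      have := congrArg (fun z : ↥𝔟 => (z : S)) h
      simpa [hκ] using this
    · rintro ⟨z, hz⟩
      obtain ⟨s, rfl⟩ := Ideal.mem_span_singleton'.1 hz
      obtain ⟨b, hb⟩ := hcond s
      have hbc : b ∈ cId S d := by
        show algebraMap B S b ∈ 𝔟
        rw [hb, mul_comm]
        exact hz
      refine ⟨⟨b, hbc⟩, ?_⟩
      apply Subtype.ext
      show algebraMap B S b = s * algebraMap B S d
      rw [hb, mul_comm]
  have hκinj : Injective (rTensor M₁ κ) :=
    ((LinearEquiv.ofBijective κ hκbij).rTensor M₁).injective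
  have hG := Groth.Agent.Helper7.FlatAdic.rTensor_injective_of_flat B S M₁
    (Submodule.subtype 𝔟) (Submodule.injective_subtype 𝔟)
  rw [injective_iff_map_eq_zero]
  intro x hx
  apply hκinj
  apply hG
  rw [map_zero, map_zero, mk_muI_eq M₁ (cId S d) 𝔟 κ hκ, hx, map_zero]

include hBS hcond in
lemma smul_eq_zero_of_muI_eq_zero [Module.Flat S (S ⊗[B] M₁)] (𝔞 : Ideal B)
    (x : 𝔞 ⊗[B] M₁) (hx : muI 𝔞 x = 0) : d • x = 0 := by
  set 𝔟 : Ideal S := 𝔞.map (algebraMap B S) with h𝔟
  let j : 𝔞 →ₗ[B] ↥𝔟 :=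
    LinearMap.codRestrict (𝔟.restrictScalars B)
      ((Algebra.linearMap B S).comp (Submodule.subtype 𝔞))
      (fun a => Ideal.mem_map_of_mem _ a.2)
  have hj : ∀ a, ((j a : ↥𝔟) : S) = algebraMap B S a := fun a => rfl
  -- `d 𝔟 ⊆ 𝔞`
  have hmem : ∀ z ∈ 𝔟, ∀ s : S, algebraMap B S d * s * z ∈
      Submodule.map (Algebra.linearMap B S) 𝔞 := by
    intro z hz
    induction hz using Submodule.span_induction with
    | mem z hz =>
      obtain ⟨a, ha, rfl⟩ := hz
      intro s
      obtain ⟨b, hb⟩ := hcond s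
      refine ⟨b * a, 𝔞.mul_mem_left b ha, ?_⟩
      rw [Algebra.linearMap_apply, map_mul, hb]
    | zero => intro s; rw [mul_zero]; exact zero_mem _
    | add z z' _ _ hz hz' => intro s; rw [mul_add]; exact add_mem (hz s) (hz' s)
    | smul s' z _ hz =>
      intro s
      have := hz (s * s')
      rw [smul_eq_mul]
      convert this using 1
      ring
  let δ₀ : ↥𝔟 →ₗ[B] ↥(Submodule.map (Algebra.linearMap B S) 𝔞) :=
    LinearMap.codRestrict _ (d • (Submodule.subtype 𝔟).restrictScalars B)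
      (fun z => by
        have := hmem z.1 z.2 1
        rw [mul_one] at this
        rw [LinearMap.smul_apply, LinearMap.coe_restrictScalars, Submodule.subtype_apply,
          Algebra.smul_def]
        exact this)
  let δ : ↥𝔟 →ₗ[B] 𝔞 :=
    (Submodule.equivMapOfInjective (Algebra.linearMap B S) hBS 𝔞).symm.toLinearMap ∘ₗ δ₀
  have hδj : δ ∘ₗ j = d • LinearMap.id := by
    ext a
    apply hBS
    have h1 : algebraMap B S ((δ (j a) : 𝔞) : B) = algebraMap B S d * algebraMap B S a := by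
      have := Submodule.coe_equivMapOfInjective_apply (Algebra.linearMap B S) hBS 𝔞 (δ (j a))
      rw [Algebra.linearMap_apply] at this
      rw [← this]
      show ((Submodule.equivMapOfInjective (Algebra.linearMap B S) hBS 𝔞)
        ((Submodule.equivMapOfInjective (Algebra.linearMap B S) hBS 𝔞).symm (δ₀ (j a))) : S) = _
      rw [LinearEquiv.apply_symm_apply]
      show d • ((j a : ↥𝔟) : S) = _
      rw [hj, Algebra.smul_def]
    rw [LinearMap.comp_apply, h1, LinearMap.smul_apply, LinearMap.id_apply, ← map_mul]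
    rfl
  have hG := Groth.Agent.Helper7.FlatAdic.rTensor_injective_of_flat B S M₁
    (Submodule.subtype 𝔟) (Submodule.injective_subtype 𝔟)
  have h0 : rTensor M₁ j x = 0 := by
    apply hG
    rw [map_zero, mk_muI_eq M₁ 𝔞 𝔟 j hj, hx, map_zero]
  have h1 : rTensor M₁ δ (rTensor M₁ j x) = d • x := by
    rw [← LinearMap.comp_apply, ← LinearMap.rTensor_comp, hδj, LinearMap.rTensor_smul,
      LinearMap.rTensor_id, LinearMap.smul_apply, LinearMap.id_apply]
  rw [← h1, h0, map_zero]

end conductor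

section conductor2
variable {B S : Type u} [CommRing B] [IsDomain B] [CommRing S] [Algebra B S]
  (M₁ : Type u) [AddCommGroup M₁] [Module B M₁]
  (hBS : Injective (algebraMap B S)) (d : B) (hd : d ≠ 0)
  (hcond : ∀ s : S, ∃ b : B, algebraMap B S b = algebraMap B S d * s)

include hBS hd hcond in
/-- flatness over a subring sharing the ideal `dS` with `S`. -/
theorem flat_of_conductor [Module.Flat S (S ⊗[B] M₁)]
    [Module.Flat (B ⧸ cId S d) ((B ⧸ cId S d) ⊗[B] M₁)] : Module.Flat B M₁ := by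
  have hγ := muI_cId_injective M₁ hBS d hcond
  rw [Module.Flat.iff_rTensor_injective']
  intro 𝔞
  rw [← muI_injective_iff, injective_iff_map_eq_zero]
  intro x hx
  have h1 : d • x = 0 := smul_eq_zero_of_muI_eq_zero M₁ hBS d hcond 𝔞 x hx
  -- `d` is regular on `𝔞 ⊗ M₁`
  let ι : 𝔞 →ₗ[B] 𝔞 := d • LinearMap.id
  have hι : Injective ι := by
    intro a a' h
    apply Subtype.ext
    have := congrArg (fun z : 𝔞 => (z : B)) h
    simp only [ι, LinearMap.smul_apply, LinearMap.id_apply, Submodule.coe_smul, smul_eq_mul] at this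
    exact mul_left_cancel₀ hd this
  have hrange : ∀ r ∈ cId S d ^ 2, ∀ a : 𝔞, r • a ∈ LinearMap.range ι := by
    intro r hr a
    rw [pow_two] at hr
    induction hr using Submodule.mul_induction_on' with
    | mem_mul_mem c₁ hc₁ c₂ hc₂ =>
      obtain ⟨s₁, hs₁⟩ := Ideal.mem_span_singleton'.1 (show algebraMap B S c₁ ∈ _ from hc₁)
      obtain ⟨s₂, hs₂⟩ := Ideal.mem_span_singleton'.1 (show algebraMap B S c₂ ∈ _ from hc₂)
      obtain ⟨b, hb⟩ := hcond (s₁ * s₂)
      have hcc : c₁ * c₂ = d * b := by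
        apply hBS
        rw [map_mul, map_mul, ← hs₁, ← hs₂, hb]
        ring
      refine ⟨b • a, ?_⟩
      simp only [ι, LinearMap.smul_apply, LinearMap.id_apply]
      rw [smul_smul, hcc]
    | add x _ y _ hx hy =>
      rw [add_smul]
      exact add_mem hx hy
  have hreg : Injective (rTensor M₁ ι) :=
    rTensor_injective_of_pow_smul_mem_range (cId S d) hγ 2 ι hι hrange
  apply hreg
  rw [map_zero]
  simp only [ι]
  rw [LinearMap.rTensor_smul, LinearMap.rTensor_id, LinearMap.smul_apply, LinearMap.id_apply]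
  exact h1

end conductor2

section key
variable (R : Type u) [CommRing R] (N : Type u) [AddCommGroup N] [Module R N]

/-- the induction hypothesis for the ring `R` and the module `N` -/
def IHyp : Prop :=
  ∀ (𝔞 : Ideal R), 𝔞 ≠ ⊥ → ∀ (S' : Type u) [CommRing S'] [IsNoetherianRing S'] [Algebra R S']
    [Module.Finite R S'], RingHom.ker (algebraMap R S') = 𝔞 → Module.Flat S' (S' ⊗[R] N) →
    Module.Flat (R ⧸ 𝔞) ((R ⧸ 𝔞) ⊗[R] N)

variable {R N}

lemma IHyp.use (IH : IHyp R N) (S : Type u) [CommRing S] [IsNoetherianRing S] [Algebra R S]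
    [Module.Finite R S] [Module.Flat S (S ⊗[R] N)] (𝔞 : Ideal R) (h𝔞 : 𝔞 ≠ ⊥)
    (hc : (𝔞.map (algebraMap R S)).comap (algebraMap R S) ≤ 𝔞) :
    Module.Flat (R ⧸ 𝔞) ((R ⧸ 𝔞) ⊗[R] N) := by
  refine IH 𝔞 h𝔞 (S ⧸ 𝔞.map (algebraMap R S)) ?_ (flat_bc1 R S (S ⧸ 𝔞.map (algebraMap R S)) N)
  apply le_antisymm
  · intro x hx
    apply hc
    rw [Ideal.mem_comap, ← Ideal.Quotient.eq_zero_iff_mem]
    exact hx
  · intro x hx
    rw [RingHom.mem_ker]
    show Ideal.Quotient.mk _ (algebraMap R S x) = 0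
    rw [Ideal.Quotient.eq_zero_iff_mem]
    exact Ideal.mem_map_of_mem _ hx

theorem key_domain [IsDomain R] (IH : IHyp R N)
    (S : Type u) [CommRing S] [IsDomain S] [IsNoetherianRing S] [Algebra R S] [Module.Finite R S]
    (hinj : Injective (algebraMap R S)) [Module.Flat S (S ⊗[R] N)] : Module.Flat R N := by
  classical
  have htf : ∀ (r : R) (s : S), r ≠ 0 → r • s = 0 → s = 0 := by
    intro r s hr hrs
    rw [Algebra.smul_def] at hrs
    rcases mul_eq_zero.1 hrs with h | h
    · exact absurd ((map_eq_zero_iff _ hinj).1 h) hr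
    · exact h
  obtain ⟨n, f, hf⟩ := Groth.Agent.Helper1.TorsionFreeEmb.exists_injective_pi (D := R) (M := S) htf
  have hf1 : f 1 ≠ 0 := fun h => one_ne_zero (hf (h.trans (map_zero f).symm))
  obtain ⟨i, hi⟩ : ∃ i, f 1 i ≠ 0 := by
    by_contra hcon
    push Not at hcon
    exact hf1 (funext hcon)
  let μ : S →ₗ[R] R := (LinearMap.proj i).comp f
  set d : R := μ 1 with hd
  have hd0 : d ≠ 0 := hi
  set dS : Ideal S := Ideal.span {algebraMap R S d} with hdS
  let R₁ : Subalgebra R S := (⊥ : Subalgebra R (S ⧸ dS)).comap (Ideal.Quotient.mkₐ R dS)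
  have hR₁mem : ∀ x : S, x ∈ R₁ ↔ ∃ r : R, x - algebraMap R S r ∈ dS := by
    intro x
    show Ideal.Quotient.mkₐ R dS x ∈ (⊥ : Subalgebra R (S ⧸ dS)) ↔ _
    rw [Algebra.mem_bot]
    constructor
    · rintro ⟨r, hr⟩
      refine ⟨r, ?_⟩
      rw [← Ideal.Quotient.eq_zero_iff_mem, map_sub, sub_eq_zero]
      exact hr.symm
    · rintro ⟨r, hr⟩
      refine ⟨r, ?_⟩
      rw [← Ideal.Quotient.eq_zero_iff_mem, map_sub, sub_eq_zero] at hr
      exact hr.symm
  have hF1 : ∀ s : S, algebraMap R S d * s ∈ R₁ := by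
    intro s
    rw [hR₁mem]
    refine ⟨0, ?_⟩
    rw [map_zero, sub_zero]
    exact Ideal.mul_mem_right _ _ (Ideal.subset_span rfl)
  -- the retraction
  let mulD : R →ₗ[R] R := d • LinearMap.id
  have hmulD : Injective mulD := by
    intro a a' h
    simp only [mulD, LinearMap.smul_apply, LinearMap.id_apply, smul_eq_mul] at h
    exact mul_left_cancel₀ hd0 h
  have hμR₁ : ∀ x : R₁, μ (x : S) ∈ LinearMap.range mulD := by
    rintro ⟨x, hx⟩
    obtain ⟨r, hr⟩ := (hR₁mem x).1 hx
    obtain ⟨s, hs⟩ := Ideal.mem_span_singleton'.1 hr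
    have hx' : x = r • (1 : S) + d • s := by
      rw [Algebra.smul_def, Algebra.smul_def, mul_one, mul_comm, hs]
      ring
    refine ⟨r + μ s, ?_⟩
    simp only [mulD, LinearMap.smul_apply, LinearMap.id_apply, smul_eq_mul]
    rw [hx', map_add, map_smul, map_smul, ← hd, smul_eq_mul, smul_eq_mul]
    ring
  let ρ : R₁ →ₗ[R] R :=
    (LinearEquiv.ofInjective mulD hmulD).symm.toLinearMap ∘ₗ
      LinearMap.codRestrict (LinearMap.range mulD) (μ ∘ₗ R₁.val.toLinearMap) hμR₁
  have hρ : ∀ x : R₁, d * ρ x = μ (x : S) := by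
    intro x
    have h1 : (LinearEquiv.ofInjective mulD hmulD) (ρ x) =
        LinearMap.codRestrict (LinearMap.range mulD) (μ ∘ₗ R₁.val.toLinearMap) hμR₁ x :=
      LinearEquiv.apply_symm_apply _ _
    have h2 := congrArg (fun z : LinearMap.range mulD => (z : R)) h1
    have h3 : mulD (ρ x) = μ (x : S) := h2
    rw [← h3]
    rfl
  have hρalg : ρ ∘ₗ Algebra.linearMap R R₁ = LinearMap.id := by
    ext
    apply mul_left_cancel₀ hd0
    rw [LinearMap.comp_apply, hρ, Algebra.linearMap_apply, map_one, LinearMap.id_apply, mul_one]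
    rfl
  have huniv : Pi1.UnivInjective R R₁ := by
    intro P _ _
    have : (lTensor P ρ) ∘ₗ (lTensor P (Algebra.linearMap R R₁)) = LinearMap.id := by
      rw [← LinearMap.lTensor_comp, hρalg, LinearMap.lTensor_id]
    exact Function.LeftInverse.injective (g := lTensor P ρ) (fun x => LinearMap.congr_fun this x)
  -- flatness over `R₁`
  have hflat₁ : Module.Flat R₁ (R₁ ⊗[R] N) := by
    have hcond : ∀ s : S, ∃ b : R₁, algebraMap R₁ S b = algebraMap R₁ S (algebraMap R R₁ d) * s :=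
      fun s => ⟨⟨algebraMap R S d * s, hF1 s⟩, rfl⟩
    have hd₁ : algebraMap R R₁ d ≠ 0 := by
      intro h
      apply hd0
      apply hinj
      have := congrArg (fun z : R₁ => (z : S)) h
      simpa using this
    haveI : Module.Flat S (S ⊗[R₁] (R₁ ⊗[R] N)) := flat_bc3 R S R₁ S N
    set 𝔞₀ : Ideal R := dS.comap (algebraMap R S) with h𝔞₀
    have h𝔞₀ne : 𝔞₀ ≠ ⊥ := by
      intro h
      apply hd0
      have : d ∈ 𝔞₀ := Ideal.subset_span rfl
      rw [h] at this
      exact this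
    have hc : (𝔞₀.map (algebraMap R S)).comap (algebraMap R S) ≤ 𝔞₀ :=
      Ideal.comap_mono Ideal.map_comap_le
    haveI hfl0 : Module.Flat (R ⧸ 𝔞₀) ((R ⧸ 𝔞₀) ⊗[R] N) := IH.use S 𝔞₀ h𝔞₀ne hc
    let φ : R ⧸ 𝔞₀ →+* R₁ ⧸ cId S (algebraMap R R₁ d) :=
      Ideal.Quotient.lift 𝔞₀ ((Ideal.Quotient.mk (cId S (algebraMap R R₁ d))).comp (algebraMap R R₁))
        (by
          intro a ha
          rw [RingHom.comp_apply, Ideal.Quotient.eq_zero_iff_mem]
          exact ha)
    letI : Algebra (R ⧸ 𝔞₀) (R₁ ⧸ cId S (algebraMap R R₁ d)) := φ.toAlgebra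
    haveI : IsScalarTower R (R ⧸ 𝔞₀) (R₁ ⧸ cId S (algebraMap R R₁ d)) :=
      IsScalarTower.of_algebraMap_eq (fun r => rfl)
    haveI : Module.Flat (R₁ ⧸ cId S (algebraMap R R₁ d))
        ((R₁ ⧸ cId S (algebraMap R R₁ d)) ⊗[R₁] (R₁ ⊗[R] N)) :=
      flat_bc3 R (R ⧸ 𝔞₀) R₁ (R₁ ⧸ cId S (algebraMap R R₁ d)) N
    exact flat_of_conductor (B := R₁) (S := S) (R₁ ⊗[R] N) Subtype.val_injective
      (algebraMap R R₁ d) hd₁ hcond
  exact Groth.Agent.S0274.result R R₁ huniv N

end key

section key2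
variable {R : Type u} [CommRing R] {N : Type u} [AddCommGroup N] [Module R N]

lemma flat_of_flat_quot_bot (h : Module.Flat (R ⧸ (⊥ : Ideal R)) ((R ⧸ (⊥ : Ideal R)) ⊗[R] N)) :
    Module.Flat R N := by
  haveI := h
  refine flat_of_isNilpotent (⊥ : Ideal R) ?_ ⟨1, by rw [pow_one]; rfl⟩
  intro x y _
  have hsub : Subsingleton ((⊥ : Ideal R) ⊗[R] N) := by
    have : Subsingleton (⊥ : Ideal R) := ⟨fun a b => Subtype.ext ((Submodule.mem_bot R).1 a.2 ▸
      ((Submodule.mem_bot R).1 b.2).symm ▸ rfl)⟩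
    infer_instance
  exact Subsingleton.elim _ _

theorem key [IsNoetherianRing R] (IH : IHyp R N)
    (S : Type u) [CommRing S] [IsNoetherianRing S] [Algebra R S] [Module.Finite R S]
    (hinj : Injective (algebraMap R S)) [Module.Flat S (S ⊗[R] N)] : Module.Flat R N := by
  classical
  by_cases hred : IsReduced R
  · by_cases hdom : IsDomain R
    · -- case (C): reduce to `S` a domain
      obtain ⟨𝔮, -, h𝔮, h𝔮0⟩ := Ideal.exists_ideal_over_prime_of_isIntegral (⊥ : Ideal R)
        (⊥ : Ideal S) (by rw [Ideal.comap_bot_of_injective _ hinj])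
      haveI := h𝔮
      haveI : Module.Flat (S ⧸ 𝔮) ((S ⧸ 𝔮) ⊗[R] N) := flat_bc1 R S (S ⧸ 𝔮) N
      refine key_domain IH (S ⧸ 𝔮) ?_
      rw [injective_iff_map_eq_zero]
      intro x hx
      have : x ∈ 𝔮.comap (algebraMap R S) := by
        rw [Ideal.mem_comap, ← Ideal.Quotient.eq_zero_iff_mem]
        exact hx
      rw [h𝔮0] at this
      exact this
    · -- case (B)
      rcases subsingleton_or_nontrivial R with hs | hnt
      · haveI : Subsingleton N := Module.subsingleton R N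
        infer_instance
      have hnzd : ¬ NoZeroDivisors R := fun h => hdom (by
        haveI := h
        exact NoZeroDivisors.to_isDomain R)
      have : ∃ a b : R, a * b = 0 ∧ a ≠ 0 ∧ b ≠ 0 := by
        by_contra hcon
        push Not at hcon
        apply hnzd
        refine ⟨fun {a b} hab => ?_⟩
        by_cases ha : a = 0
        · exact Or.inl ha
        · exact Or.inr (by_contra fun hb => hb (hcon a b hab ha))
      obtain ⟨a, b, hab, ha, hb⟩ := this
      set J₁ : Ideal R := Submodule.annihilator (Ideal.span {a} : Submodule R R) with hJ₁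
      set J₂ : Ideal R := Submodule.annihilator (J₁ : Submodule R R) with hJ₂
      have hJ₁mem : ∀ x, x ∈ J₁ ↔ x * a = 0 := by
        intro x
        rw [hJ₁, Submodule.mem_annihilator_span_singleton, smul_eq_mul]
      have hJ₂mem : ∀ x, x ∈ J₂ ↔ ∀ y ∈ J₁, x * y = 0 := by
        intro x
        rw [hJ₂, Submodule.mem_annihilator]
        rfl
      have hrad : ∀ T : Submodule R R, (Submodule.annihilator T).IsRadical := by
        intro T x ⟨n, hn⟩
        rw [Submodule.mem_annihilator] at hn ⊢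
        intro t ht
        rcases n with _ | k
        · have := hn t ht
          rw [pow_zero, one_smul] at this
          rw [this, smul_zero]
        · have h0 := hn (t ^ k • t) (T.smul_mem _ ht)
          have h1 : (x * t) ^ (k + 1) = 0 := by
            rw [mul_pow, pow_succ t k]
            rw [smul_eq_mul, smul_eq_mul] at h0
            exact h0
          rw [smul_eq_mul]
          exact IsReduced.eq_zero _ ⟨k + 1, h1⟩
      have hJ₁ne : J₁ ≠ ⊥ := by
        intro h
        apply hb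
        have : b ∈ J₁ := (hJ₁mem b).2 (by rw [mul_comm]; exact hab)
        rw [h] at this
        exact this
      have hJ₂ne : J₂ ≠ ⊥ := by
        intro h
        apply ha
        have : a ∈ J₂ := (hJ₂mem a).2 (fun y hy => by rw [mul_comm]; exact (hJ₁mem y).1 hy)
        rw [h] at this
        exact this
      have hinf : J₁ ⊓ J₂ = ⊥ := by
        rw [eq_bot_iff]
        rintro x ⟨h1, h2⟩
        have : x * x = 0 := (hJ₂mem x).1 h2 x h1
        exact IsReduced.eq_zero _ ⟨2, by rw [pow_two]; exact this⟩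
      haveI h1 : Module.Flat (R ⧸ J₁) ((R ⧸ J₁) ⊗[R] N) :=
        IH.use S J₁ hJ₁ne (comap_map_le_of_isRadical hinj J₁ (hrad _))
      haveI h2 : Module.Flat (R ⧸ J₂) ((R ⧸ J₂) ⊗[R] N) :=
        IH.use S J₂ hJ₂ne (comap_map_le_of_isRadical hinj J₂ (hrad _))
      have h3 := Groth.Agent.S6893.result N J₁ J₂
      rw [hinf] at h3
      exact flat_of_flat_quot_bot h3
  · -- case (A)
    have hnil : nilradical R ≠ ⊥ := by
      intro h
      apply hred
      exact ⟨fun x hx => by
        have : x ∈ nilradical R := hx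
        rw [h] at this
        exact this⟩
    haveI h1 : Module.Flat (R ⧸ nilradical R) ((R ⧸ nilradical R) ⊗[R] N) :=
      IH.use S (nilradical R) hnil
        (comap_map_le_of_isRadical hinj _ (Ideal.radical_isRadical _))
    exact Groth.Agent.S6352.result R S hinj (nilradical R)
      (IsNoetherianRing.isNilpotent_nilradical R) N

end key2

section main
variable (R₀ : Type u) [CommRing R₀] [IsNoetherianRing R₀]

/-- the statement proved by Noetherian induction on the kernel -/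
def Q' (I : Ideal R₀) : Prop :=
  ∀ (S : Type u) [CommRing S] [IsNoetherianRing S] [Algebra R₀ S] [Module.Finite R₀ S],
    RingHom.ker (algebraMap R₀ S) = I → ∀ (M : Type u) [AddCommGroup M] [Module R₀ M],
    Module.Flat S (S ⊗[R₀] M) → Module.Flat (R₀ ⧸ I) ((R₀ ⧸ I) ⊗[R₀] M)

theorem main : ∀ I : Ideal R₀, Q' R₀ I := by
  apply IsNoetherian.induction
  intro I IH S _ _ _ _ hker M _ _ hflat
  let ψ : R₀ ⧸ I →+* S := Ideal.Quotient.lift I (algebraMap R₀ S)
    (fun a ha => by rw [← RingHom.mem_ker, hker]; exact ha)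
  letI algRS : Algebra (R₀ ⧸ I) S := ψ.toAlgebra
  haveI : IsScalarTower R₀ (R₀ ⧸ I) S := IsScalarTower.of_algebraMap_eq (fun r => rfl)
  haveI : Module.Finite (R₀ ⧸ I) S := Module.Finite.of_restrictScalars_finite R₀ (R₀ ⧸ I) S
  have hinj : Injective (algebraMap (R₀ ⧸ I) S) := by
    rw [injective_iff_map_eq_zero]
    intro x hx
    obtain ⟨x, rfl⟩ := Ideal.Quotient.mk_surjective x
    have h1 : algebraMap R₀ S x = 0 := hx
    rw [Ideal.Quotient.eq_zero_iff_mem, ← hker, RingHom.mem_ker]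
    exact h1
  haveI : Module.Flat S (S ⊗[R₀ ⧸ I] ((R₀ ⧸ I) ⊗[R₀] M)) := by
    haveI := hflat
    exact flat_bc3 R₀ S (R₀ ⧸ I) S M
  refine key (R := R₀ ⧸ I) (N := (R₀ ⧸ I) ⊗[R₀] M) ?_ S hinj
  intro 𝔞 h𝔞 S' _ _ _ _ hker' hflat'
  set J : Ideal R₀ := 𝔞.comap (Ideal.Quotient.mk I) with hJ
  have hJI : I < J := by
    refine lt_of_le_of_ne ?_ ?_
    · intro x hx
      rw [hJ, Ideal.mem_comap, Ideal.Quotient.eq_zero_iff_mem.2 hx]
      exact zero_mem _
    · intro h
      apply h𝔞
      rw [eq_bot_iff]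
      intro y hy
      obtain ⟨y, rfl⟩ := Ideal.Quotient.mk_surjective y
      have : y ∈ J := hy
      rw [← h] at this
      rw [Ideal.Quotient.eq_zero_iff_mem.2 this]
      exact zero_mem _
  letI : Algebra R₀ S' := ((algebraMap (R₀ ⧸ I) S').comp (Ideal.Quotient.mk I)).toAlgebra
  haveI : IsScalarTower R₀ (R₀ ⧸ I) S' := IsScalarTower.of_algebraMap_eq (fun r => rfl)
  haveI : Module.Finite R₀ S' := Module.Finite.trans (R₀ ⧸ I) S'
  have hkerJ : RingHom.ker (algebraMap R₀ S') = J := by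
    ext x
    rw [RingHom.mem_ker, hJ, Ideal.mem_comap, ← hker', RingHom.mem_ker]
    rfl
  have hflat0 : Module.Flat S' (S' ⊗[R₀] M) := by
    haveI := hflat'
    exact Module.Flat.of_linearEquiv
      (TensorProduct.AlgebraTensorModule.cancelBaseChange R₀ (R₀ ⧸ I) S' S' M).symm
  haveI hQ := IH J hJI S' hkerJ M hflat0
  let φ : R₀ ⧸ J →+* (R₀ ⧸ I) ⧸ 𝔞 :=
    Ideal.Quotient.lift J ((Ideal.Quotient.mk 𝔞).comp (Ideal.Quotient.mk I))
      (by
        intro a ha
        rw [RingHom.comp_apply, Ideal.Quotient.eq_zero_iff_mem]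
        exact ha)
  letI : Algebra (R₀ ⧸ J) ((R₀ ⧸ I) ⧸ 𝔞) := φ.toAlgebra
  haveI : IsScalarTower R₀ (R₀ ⧸ J) ((R₀ ⧸ I) ⧸ 𝔞) :=
    IsScalarTower.of_algebraMap_eq (fun r => rfl)
  exact flat_bc3 R₀ (R₀ ⧸ J) (R₀ ⧸ I) ((R₀ ⧸ I) ⧸ 𝔞) M

end main

end Groth.Agent.Helper2.FinInjDesc
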