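import Mathlib
import Groth.Agent.Helper2.LocCrit

set_option autoImplicit false
open Function TensorProduct LinearMap IsLocalRing
universe u v

namespace Groth.Agent.Helper2.FlatFibre

/-- kernel of a surjection between flat modules is flat -/
lemma flat_of_exact_of_flat {A : Type u} [CommRing A] {F N P : Type v} [AddCommGroup F] [Module A F]
    [AddCommGroup N] [Module A N] [AddCommGroup P] [Module A P]
    (i : F →ₗ[A] N) (p : N →ₗ[A] P) (hi : Injective i) (hex : Exact i p) (hp : Surjective p)
    [Module.Flat A N] [Module.Flat A P] : Module.Flat A F := by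
  rw [Module.Flat.iff_rTensor_injective']
  intro J
  have h1 : Injective (lTensor J i) := LinearMap.lTensor_injective_of_exact_of_flat p hp i hi hex J
  have h2 : Injective (rTensor N J.subtype) := Module.Flat.iff_rTensor_injective'.1 inferInstance J
  have h3 : lTensor A i ∘ₗ rTensor F J.subtype = rTensor N J.subtype ∘ₗ lTensor J i := by
    rw [LinearMap.lTensor_comp_rTensor, LinearMap.rTensor_comp_lTensor]
  have h4 : Injective (lTensor A i ∘ₗ rTensor F J.subtype) := by
    rw [h3]; exact h2.comp h1
  exact Injective.of_comp h4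

section mu
variable (A : Type u) [CommRing A] [IsLocalRing A]
  (N : Type u) [AddCommGroup N] [Module A N]

/-- `N ⊗ 𝔪 → N` -/
noncomputable def mu : N ⊗[A] (maximalIdeal A) →ₗ[A] N :=
  (TensorProduct.rid A N).toLinearMap ∘ₗ lTensor N (maximalIdeal A).subtype

variable {N}

@[simp] lemma mu_tmul (n : N) (r : maximalIdeal A) : mu A N (n ⊗ₜ r) = (r : A) • n := by
  simp [mu]

lemma mu_natural {N' : Type u} [AddCommGroup N'] [Module A N']
    (φ : N →ₗ[A] N') (y : N ⊗[A] (maximalIdeal A)) :
    mu A N' (rTensor (maximalIdeal A) φ y) = φ (mu A N y) := by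
  induction y using TensorProduct.induction_on with
  | zero => simp
  | add a b ha hb => simp only [map_add, ha, hb]
  | tmul n r => simp

lemma mu_injective [Module.Flat A N] : Injective (mu A N) := by
  unfold mu
  simp only [LinearMap.coe_comp, LinearEquiv.coe_coe]
  exact (TensorProduct.rid A N).injective.comp
    (Module.Flat.lTensor_preserves_injective_linearMap _ (maximalIdeal A).injective_subtype)

variable {B : Type u} [CommRing B] [Algebra A B] [Module B N] [IsScalarTower A B N]

lemma mu_mem (y : N ⊗[A] (maximalIdeal A)) :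
    mu A N y ∈ ((maximalIdeal A).map (algebraMap A B) • ⊤ : Submodule B N) := by
  induction y using TensorProduct.induction_on with
  | zero => simp
  | add a b ha hb => rw [map_add]; exact add_mem ha hb
  | tmul n r =>
    rw [mu_tmul, ← algebraMap_smul B (r : A) n]
    exact Submodule.smul_mem_smul (Ideal.mem_map_of_mem _ r.2) trivial

lemma exists_mu_eq (z : N)
    (hz : z ∈ ((maximalIdeal A).map (algebraMap A B) • ⊤ : Submodule B N)) :
    ∃ y, mu A N y = z := by
  induction hz using Submodule.smul_induction_on' with
  | smul b hb n hn =>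
    clear hn
    induction hb using Submodule.span_induction generalizing n with
    | mem x hx =>
      obtain ⟨r, hr, rfl⟩ := hx
      exact ⟨n ⊗ₜ ⟨r, hr⟩, by simp⟩
    | zero => exact ⟨0, by simp⟩
    | add x y _ _ hx hy =>
      obtain ⟨y1, h1⟩ := hx n
      obtain ⟨y2, h2⟩ := hy n
      exact ⟨y1 + y2, by rw [map_add, h1, h2, add_smul]⟩
    | smul c x _ hx =>
      obtain ⟨y1, h1⟩ := hx (c • n)
      exact ⟨y1, by rw [h1, smul_eq_mul, mul_comm, mul_smul]⟩
  | add x _ y _ hx hy =>
    obtain ⟨y1, h1⟩ := hx
    obtain ⟨y2, h2⟩ := hy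
    exact ⟨y1 + y2, by rw [map_add, h1, h2]⟩

end mu

section main
variable {A B : Type u} [CommRing A] [CommRing B] [IsLocalRing A] [IsLocalRing B]
  [IsNoetherianRing A] [IsNoetherianRing B] [Algebra A B] [IsLocalHom (algebraMap A B)]
  {N P : Type u} [AddCommGroup N] [Module B N] [Module A N] [IsScalarTower A B N]
  [Module.Finite B N] [Module.Flat A N]
  [AddCommGroup P] [Module B P] [Module A P] [IsScalarTower A B P]

/-- If `f` is regular on the fibre `N/𝔪N` then `N/fN` is flat. -/
theorem flat_quot (f : B)
    (hf : ∀ z : N, f • z ∈ ((maximalIdeal A).map (algebraMap A B) • ⊤ : Submodule B N) →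
      z ∈ ((maximalIdeal A).map (algebraMap A B) • ⊤ : Submodule B N))
    (π : N →ₗ[B] P) (hπ : Surjective π) (hex : Exact (LinearMap.lsmul B N f) π) :
    Module.Flat A P := by
  have : Module.Finite B P := Module.Finite.of_surjective π hπ
  apply Groth.Agent.Helper2.LocCrit.flat_of_lTensor_injective (S := B)
  rw [injective_iff_map_eq_zero]
  intro x hx
  obtain ⟨y, rfl⟩ := LinearMap.rTensor_surjective (maximalIdeal A)
    (show Surjective (π.restrictScalars A) from hπ) x
  have h0 : π (mu A N y) = 0 := by
    have h1 := mu_natural A (π.restrictScalars A) y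
    have h2 : mu A P (rTensor (maximalIdeal A) (π.restrictScalars A) y) = 0 := by
      unfold mu
      rw [LinearMap.comp_apply, hx, map_zero]
    rw [h2] at h1
    exact h1.symm
  obtain ⟨z, hz⟩ := (hex _).1 h0
  have hz' : z ∈ ((maximalIdeal A).map (algebraMap A B) • ⊤ : Submodule B N) := by
    apply hf
    have : f • z = mu A N y := hz
    rw [this]
    exact mu_mem A y
  obtain ⟨y', hy'⟩ := exists_mu_eq A z hz'
  have hyy : y = rTensor (maximalIdeal A) ((LinearMap.lsmul B N f).restrictScalars A) y' := by
    apply mu_injective A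
    rw [mu_natural, hy']
    exact hz.symm
  rw [hyy, ← LinearMap.comp_apply, ← LinearMap.rTensor_comp]
  have : π.restrictScalars A ∘ₗ (LinearMap.lsmul B N f).restrictScalars A = 0 := by
    ext n
    exact (hex _).2 ⟨n, rfl⟩
  rw [this]
  simp

/-- If `f` is regular on the fibre `N/𝔪N` then `f` is regular on `N`. -/
theorem regular (f : B)
    (hf : ∀ z : N, f • z ∈ ((maximalIdeal A).map (algebraMap A B) • ⊤ : Submodule B N) →
      z ∈ ((maximalIdeal A).map (algebraMap A B) • ⊤ : Submodule B N)) :
    IsSMulRegular N f := by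
  set φ : N →ₗ[B] N := LinearMap.lsmul B N f with hφ
  set K : Submodule B N := LinearMap.ker φ with hK
  have hPflat : Module.Flat A (N ⧸ LinearMap.range φ) :=
    flat_quot f hf (LinearMap.range φ).mkQ (Submodule.mkQ_surjective _)
      (LinearMap.exact_map_mkQ_range φ)
  have hFflat : Module.Flat A (LinearMap.range φ) :=
    flat_of_exact_of_flat ((LinearMap.range φ).subtype.restrictScalars A)
      ((LinearMap.range φ).mkQ.restrictScalars A) (LinearMap.range φ).injective_subtype
      (LinearMap.exact_subtype_mkQ _) (Submodule.mkQ_surjective _)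
  have hQflat : Module.Flat A (N ⧸ K) :=
    Module.Flat.of_linearEquiv ((LinearMap.quotKerEquivRange φ).restrictScalars A)
  have hle : (maximalIdeal A).map (algebraMap A B) ≤ Ideal.jacobson ⊥ := by
    refine le_trans ?_ (IsLocalRing.maximalIdeal_le_jacobson _)
    rw [Ideal.map_le_iff_le_comap]
    intro x hx
    exact (mem_maximalIdeal _).2 (fun hu => (mem_maximalIdeal x).1 hx (isUnit_of_map_unit _ x hu))
  have hKsub : K ≤ (maximalIdeal A).map (algebraMap A B) • K := by
    intro x hxK
    have hx0 : f • x = 0 := hxK
    have hxm : x ∈ ((maximalIdeal A).map (algebraMap A B) • ⊤ : Submodule B N) := by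
      apply hf
      rw [hx0]
      exact zero_mem _
    obtain ⟨y, hy⟩ := exists_mu_eq A x hxm
    have h1 : rTensor (maximalIdeal A) (K.mkQ.restrictScalars A) y = 0 := by
      apply mu_injective A (N := N ⧸ K)
      rw [mu_natural, hy, map_zero]
      simpa using hxK
    have hex2 := rTensor_exact (maximalIdeal A)
      (show Exact (K.subtype.restrictScalars A) (K.mkQ.restrictScalars A) from
        LinearMap.exact_subtype_mkQ K)
      (show Surjective (K.mkQ.restrictScalars A) from Submodule.mkQ_surjective K)
    obtain ⟨w, hw⟩ := (hex2 y).1 h1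
    have h2 : x = K.subtype (mu A K w) := by
      have := mu_natural A (K.subtype.restrictScalars A) w
      rw [hw, hy] at this
      exact this
    have h3 := mu_mem A (B := B) w
    rw [h2]
    have : (maximalIdeal A).map (algebraMap A B) • K =
        Submodule.map K.subtype ((maximalIdeal A).map (algebraMap A B) • ⊤) := by
      rw [Submodule.map_smul'', Submodule.map_subtype_top]
    rw [this]
    exact Submodule.mem_map_of_mem h3
  have hK0 : K = ⊥ :=
    Submodule.eq_bot_of_le_smul_of_le_jacobson_bot _ K (IsNoetherian.noetherian K) hKsub hle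
  intro x y hxy
  have : x - y ∈ K := by
    rw [hK, LinearMap.mem_ker, hφ, LinearMap.lsmul_apply, smul_sub]
    exact sub_eq_zero.2 hxy
  rw [hK0, Submodule.mem_bot] at this
  exact sub_eq_zero.1 this

end main

end Groth.Agent.Helper2.FlatFibre
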