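import Mathlib
import Groth.Agent.Helper2.TorOne
import Groth.Agent.Helper2.ContentIdeal
import Groth.Agent.Helper2.FlatFibre

set_option autoImplicit false
universe u v

namespace Groth.Agent.Helper2.ArtinReg

open Function TensorProduct LinearMap IsLocalRing
open Groth.Agent.Helper2.TorReg Groth.Agent.Helper2.TorOne Groth.Agent.Helper2.ContentIdeal
open Groth.Agent.Helper2.FlatFibre

section gen
variable {A : Type u} [CommRing A] {M : Type v} [AddCommGroup M] [Module A M]
  {P : Type v} [AddCommGroup P] [Module A P]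

/-- `φ` is injective modulo `J`. -/
def InjMod (φ : M →ₗ[A] M) (J : Ideal A) : Prop :=
  ∀ z : M, φ z ∈ (J • ⊤ : Submodule A M) → z ∈ (J • ⊤ : Submodule A M)

/-- If `φ` is injective with flat cokernel then `φ` is injective modulo every ideal. -/
theorem injMod_of_injective_of_flat (φ : M →ₗ[A] M) (hφ : Injective φ) (π : M →ₗ[A] P)
    (hπ : Surjective π) (hex : Exact φ π) [Module.Flat A P] (J : Ideal A) : InjMod φ J := by
  intro z hz
  obtain ⟨y, hy⟩ := exists_muI_eq J (φ z) hz
  have h1 : lTensor J π y = 0 := by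
    have hinj : Injective (muI (M := P) J) := by
      rw [muI_injective_iff]
      exact Module.Flat.rTensor_preserves_injective_linearMap _ J.injective_subtype
    apply hinj
    rw [map_zero, muI_natural, hy]
    exact (hex _).2 ⟨z, rfl⟩
  obtain ⟨y', rfl⟩ := (lTensor_exact J hex hπ y).1 h1
  rw [muI_natural] at hy
  have := hφ hy
  rw [← this]
  exact muI_mem J y'

/-- If `φ` is injective modulo a nilpotent maximal ideal, its cokernel is flat. -/
theorem flat_coker (𝔪 : Ideal A) [𝔪.IsMaximal] (hnil : IsNilpotent 𝔪) [Module.Flat A M]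
    (φ : M →ₗ[A] M) (h : InjMod φ 𝔪)
    (π : M →ₗ[A] P) (hπ : Surjective π) (hex : Exact φ π) : Module.Flat A P := by
  letI := Ideal.Quotient.field 𝔪
  refine flat_of_isNilpotent 𝔪 ?_ hnil
  rw [injective_iff_map_eq_zero]
  intro x hx
  obtain ⟨y, rfl⟩ := lTensor_surjective 𝔪 hπ x
  have h0 : π (muI 𝔪 y) = 0 := by rw [← muI_natural, hx]
  obtain ⟨z, hz⟩ := (hex _).1 h0
  have hz' : z ∈ (𝔪 • ⊤ : Submodule A M) := h z (by rw [hz]; exact muI_mem 𝔪 y)
  obtain ⟨y', hy'⟩ := exists_muI_eq 𝔪 z hz'
  have hinj : Injective (muI (M := M) 𝔪) := by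
    rw [muI_injective_iff]
    exact Module.Flat.rTensor_preserves_injective_linearMap _ 𝔪.injective_subtype
  have hyy : y = lTensor 𝔪 φ y' := by
    apply hinj
    rw [muI_natural, hy', hz]
  rw [hyy, ← LinearMap.comp_apply, ← lTensor_comp]
  have : π ∘ₗ φ = 0 := by ext n; exact (hex _).2 ⟨n, rfl⟩
  rw [this]; simp

/-- If `φ` is injective modulo a nilpotent maximal ideal, it is injective. -/
theorem injective_of_injMod (𝔪 : Ideal A) [𝔪.IsMaximal] (hnil : IsNilpotent 𝔪) [Module.Flat A M]
    (φ : M →ₗ[A] M) (h : InjMod φ 𝔪) : Injective φ := by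
  have hPflat : Module.Flat A (M ⧸ LinearMap.range φ) :=
    flat_coker 𝔪 hnil φ h (LinearMap.range φ).mkQ (Submodule.mkQ_surjective _)
      (LinearMap.exact_map_mkQ_range φ)
  have hFflat : Module.Flat A (LinearMap.range φ) :=
    flat_of_exact_of_flat (LinearMap.range φ).subtype (LinearMap.range φ).mkQ
      (LinearMap.range φ).injective_subtype (LinearMap.exact_subtype_mkQ _)
      (Submodule.mkQ_surjective _)
  have hK := ker_eq_bot_of_flat_of_le_smul φ.rangeRestrict φ.surjective_rangeRestrict 𝔪 hnil ?_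
  · rw [LinearMap.ker_rangeRestrict] at hK
    exact LinearMap.ker_eq_bot.1 hK
  · intro x hx
    rw [LinearMap.ker_rangeRestrict] at hx
    apply h
    rw [hx]
    exact zero_mem _

end gen

section loc
variable {A : Type u} [CommRing A] [IsLocalRing A] {M : Type v} [AddCommGroup M] [Module A M]

lemma mk_one_tmul_eq_zero_iff (J : Ideal A) (w : M) :
    ((1 : A ⧸ J) ⊗ₜ[A] w = 0) ↔ w ∈ (J • ⊤ : Submodule A M) := by
  rw [← (quotTensorEquivQuotSMul M J).map_eq_zero_iff, quotTensorEquivQuotSMul_mk_one_tmul,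
    Submodule.Quotient.mk_eq_zero]

/-- In a local ring with nilpotent maximal ideal, for a flat module, injectivity modulo a proper
ideal implies injectivity modulo the maximal ideal. -/
theorem injMod_max_of_injMod (hnil : IsNilpotent (maximalIdeal A)) [Module.Flat A M]
    (φ : M →ₗ[A] M) (J : Ideal A) (hJ : J ≠ ⊤) (h : InjMod φ J) :
    InjMod φ (maximalIdeal A) := by
  classical
  have hJm : J ≤ maximalIdeal A := le_maximalIdeal hJ
  have hex : ∃ n : ℕ, maximalIdeal A ^ n ≤ J := by
    obtain ⟨k, hk⟩ := hnil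
    exact ⟨k, by rw [hk]; exact bot_le⟩
  set n := Nat.find hex with hn
  have hn1 : maximalIdeal A ^ n ≤ J := Nat.find_spec hex
  have hn0 : n ≠ 0 := by
    intro h0
    rw [h0, pow_zero, Ideal.one_eq_top, top_le_iff] at hn1
    exact hJ hn1
  obtain ⟨n', hn'⟩ := Nat.exists_eq_succ_of_ne_zero hn0
  have hn2 : ¬ maximalIdeal A ^ n' ≤ J := Nat.find_min hex (by omega)
  obtain ⟨s, hs, hsJ⟩ := SetLike.not_le_iff_exists.1 hn2
  have hsm : ∀ r ∈ maximalIdeal A, s * r ∈ J := by
    intro r hr
    apply hn1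
    rw [hn', pow_succ]
    exact Ideal.mul_mem_mul hs hr
  -- the map `A/𝔪 → A/J`, multiplication by `s`
  let σ₀ : A →ₗ[A] A ⧸ J := LinearMap.toSpanSingleton A (A ⧸ J) (Ideal.Quotient.mk J s)
  have hσ₀ : ∀ a, σ₀ a = Ideal.Quotient.mk J (a * s) := by
    intro a
    simp only [σ₀, LinearMap.toSpanSingleton_apply]
    rw [← Ideal.Quotient.mk_eq_mk, ← Submodule.Quotient.mk_smul, smul_eq_mul]
    rfl
  have hker : LinearMap.ker σ₀ = maximalIdeal A := by
    apply le_antisymm
    · apply le_maximalIdeal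
      intro htop
      have : (1 : A) ∈ LinearMap.ker σ₀ := by rw [htop]; trivial
      rw [LinearMap.mem_ker, hσ₀, one_mul, Ideal.Quotient.eq_zero_iff_mem] at this
      exact hsJ this
    · intro r hr
      rw [LinearMap.mem_ker, hσ₀, Ideal.Quotient.eq_zero_iff_mem, mul_comm]
      exact hsm r hr
  let σ : (A ⧸ maximalIdeal A) →ₗ[A] A ⧸ J := Submodule.liftQ (maximalIdeal A) σ₀ hker.ge
  have hσinj : Injective σ := by
    rw [← LinearMap.ker_eq_bot]
    apply Submodule.ker_liftQ_eq_bot
    exact hker.le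
  have hσM : Injective (rTensor M σ) :=
    Module.Flat.rTensor_preserves_injective_linearMap σ hσinj
  intro z hz
  -- `s • φ z ∈ J M`
  have h1 : s • φ z ∈ (J • ⊤ : Submodule A M) := by
    generalize φ z = w at hz
    induction hz using Submodule.smul_induction_on' with
    | smul r hr m hm =>
      rw [← mul_smul]
      exact Submodule.smul_mem_smul (hsm r hr) trivial
    | add x _ y _ hx hy =>
      rw [smul_add]
      exact add_mem hx hy
  have h2 : s • z ∈ (J • ⊤ : Submodule A M) := by
    apply h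
    rw [map_smul]
    exact h1
  rw [← mk_one_tmul_eq_zero_iff] at h2 ⊢
  apply hσM
  rw [map_zero, rTensor_tmul]
  have : σ (1 : A ⧸ maximalIdeal A) = s • (1 : A ⧸ J) := by
    show σ (Submodule.Quotient.mk (1 : A)) = _
    rw [Submodule.liftQ_apply, hσ₀, one_mul]
    show (Submodule.Quotient.mk s : A ⧸ J) = s • (Submodule.Quotient.mk (1 : A) : A ⧸ J)
    rw [← Submodule.Quotient.mk_smul, smul_eq_mul, mul_one]
  rw [this, smul_tmul]
  exact h2

end loc

section main
variable {A : Type u} [CommRing A] [IsLocalRing A] {M : Type v} [AddCommGroup M] [Module A M]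
  {P : Type v} [AddCommGroup P] [Module A P]

theorem main (hnil : IsNilpotent (maximalIdeal A)) [Module.Flat A M] (φ : M →ₗ[A] M)
    (I : Ideal A) (hI : I ≠ ⊤) (π : M →ₗ[A] P) (hπ : Surjective π) (hex : Exact φ π) :
    (Injective φ ↔ InjMod φ I) ∧ (Injective φ → Module.Flat A P) := by
  have key : Injective φ → InjMod φ (maximalIdeal A) := by
    intro h
    apply injMod_max_of_injMod hnil φ ⊥ bot_ne_top
    intro z hz
    rw [Submodule.bot_smul, Submodule.mem_bot] at hz ⊢
    exact h (hz.trans (map_zero φ).symm)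
  have hflat : Injective φ → Module.Flat A P :=
    fun h => flat_coker (maximalIdeal A) hnil φ (key h) π hπ hex
  refine ⟨⟨fun h => ?_, fun h => ?_⟩, hflat⟩
  · haveI := hflat h
    exact injMod_of_injective_of_flat φ h π hπ hex I
  · exact injective_of_injMod (maximalIdeal A) hnil φ (injMod_max_of_injMod hnil φ I hI h)

lemma isNilpotent_maximalIdeal (A : Type u) [CommRing A] [IsLocalRing A] [IsArtinianRing A] :
    IsNilpotent (maximalIdeal A) := by
  rw [← IsLocalRing.jacobson_eq_maximalIdeal ⊥ bot_ne_top]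
  exact IsArtinianRing.isNilpotent_jacobson_bot

end main

end Groth.Agent.Helper2.ArtinReg
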