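import Mathlib
import Groth.Agent.Helper2.ArtinReg

set_option autoImplicit false
universe u v w

namespace Groth.Agent.Helper2.NilpNak

open Function TensorProduct LinearMap
open Groth.Agent.Helper2.TorReg Groth.Agent.Helper2.RegFlat2

section
variable {R : Type u} [CommRing R] {M : Type v} [AddCommGroup M] [Module R M]

/-- Nakayama for a nilpotent ideal. -/
lemma le_of_le_sup_smul_of_isNilpotent (I : Ideal R) (hI : IsNilpotent I) (N N' : Submodule R M)
    (h : N ≤ N' ⊔ I • N) : N ≤ N' := by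
  have key : ∀ k : ℕ, N ≤ N' ⊔ I ^ k • N := by
    intro k
    induction k with
    | zero => rw [pow_zero, Ideal.one_eq_top, Submodule.top_smul]; exact le_sup_right
    | succ k ih =>
      calc N ≤ N' ⊔ I • N := h
        _ ≤ N' ⊔ I • (N' ⊔ I ^ k • N) := sup_le_sup_left (Submodule.smul_mono le_rfl ih) _
        _ = N' ⊔ (I • N' ⊔ I • (I ^ k • N)) := by rw [Submodule.smul_sup]
        _ ≤ N' ⊔ I ^ (k + 1) • N := by
          rw [← Submodule.mul_smul, ← pow_succ']
          exact sup_le le_sup_left (sup_le (le_trans Submodule.smul_le_right le_sup_left)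
            le_sup_right)
  obtain ⟨k, hk⟩ := hI
  have := key k
  rw [hk, Submodule.zero_eq_bot, Submodule.bot_smul, sup_bot_eq] at this
  exact this

variable {F : Type w} [AddCommGroup F] [Module R F]

/-- `K ∩ 𝔞F = 𝔞K` when `F/K` is flat (universe-polymorphic). -/
lemma ker_inf_smul_le' (φ : F →ₗ[R] M) (hφ : Surjective φ) [Module.Flat R M] (𝔞 : Ideal R) :
    LinearMap.ker φ ⊓ 𝔞 • ⊤ ≤ 𝔞 • LinearMap.ker φ := by
  rintro x ⟨hxK, hx𝔞⟩
  obtain ⟨y, rfl⟩ := exists_muI_eq 𝔞 x hx𝔞
  have hinj : Injective (muI (M := M) 𝔞) := by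
    rw [muI_injective_iff]
    exact Module.Flat.rTensor_preserves_injective_linearMap _ 𝔞.injective_subtype
  have h1 : lTensor 𝔞 φ y = 0 := by
    apply hinj
    rw [muI_natural', map_zero]
    exact hxK
  have hex := lTensor_exact 𝔞 (LinearMap.exact_subtype_ker_map φ) hφ
  obtain ⟨w, rfl⟩ := (hex y).1 h1
  rw [muI_natural']
  have h3 := muI_mem 𝔞 w
  have : 𝔞 • LinearMap.ker φ = Submodule.map (LinearMap.ker φ).subtype (𝔞 • ⊤) := by
    rw [Submodule.map_smul'', Submodule.map_subtype_top]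
  rw [this]
  exact Submodule.mem_map_of_mem h3

end

end Groth.Agent.Helper2.NilpNak
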