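import Mathlib
import Groth.Agent.Helper2.NilpNak
import Groth.Agent.Helper2.FinInjDesc

set_option autoImplicit false
universe u
open TensorProduct

namespace Groth.Agent.Helper2.FibreProj

open Function LinearMap IsLocalRing

section flatTensor

variable (A B N M : Type u) [CommRing A] [CommRing B] [Algebra A B]
  [AddCommGroup N] [Module A N] [Module B N] [IsScalarTower A B N]
  [AddCommGroup M] [Module A M] [Module B M] [IsScalarTower A B M]

/-- `N ⊗[B] M` is `A`-flat if `M` is `A`-flat and `N` is `B`-flat. -/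
theorem flat_tensor [Module.Flat A M] [Module.Flat B N] : Module.Flat A (N ⊗[B] M) := by
  rw [Module.Flat.iff_lTensor_preserves_injective_linearMap]
  intro Q₁ Q₂ _ _ _ _ i hi
  let e₁ := AlgebraTensorModule.assoc A B B N M Q₁
  let e₂ := AlgebraTensorModule.assoc A B B N M Q₂
  let j : M ⊗[A] Q₁ →ₗ[B] M ⊗[A] Q₂ := AlgebraTensorModule.lTensor B M i
  have hj : Injective j := Module.Flat.lTensor_preserves_injective_linearMap (M := M) i hi
  have hj' : Injective (lTensor N j) := Module.Flat.lTensor_preserves_injective_linearMap (M := N) j hj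
  have hcomm : ∀ x, e₂ (lTensor (N ⊗[B] M) i x) = lTensor N j (e₁ x) := by
    intro x
    induction x using TensorProduct.induction_on with
    | zero => simp
    | add a b ha hb => simp only [map_add, ha, hb]
    | tmul y q =>
      induction y using TensorProduct.induction_on with
      | zero => simp
      | add a b ha hb => simp only [add_tmul, map_add, ha, hb]
      | tmul n m => simp [e₁, e₂, j]
  intro x y hxy
  apply e₁.injective
  apply hj'
  rw [← hcomm, ← hcomm, hxy]

end flatTensor

section localLemma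

variable {A B' M' : Type u} [CommRing A] [CommRing B'] [IsLocalRing B'] [Algebra A B']
  [AddCommGroup M'] [Module B' M'] [Module A M'] [IsScalarTower A B' M']

/-- Local form: a finitely presented module over a local ring, flat over a base ring `A`, whose
reduction modulo an ideal `𝔞` of `A` (mapping into the maximal ideal) is flat, is free. -/
theorem free_of_fibre_flat [Module.FinitePresentation B' M'] [Module.Flat A M'] (𝔞 : Ideal A)
    (h𝔞 : 𝔞.map (algebraMap A B') ≤ maximalIdeal B')
    (hflat : Module.Flat (B' ⧸ 𝔞.map (algebraMap A B'))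
      ((B' ⧸ 𝔞.map (algebraMap A B')) ⊗[B'] M')) : Module.Free B' M' := by
  classical
  set 𝔞' := 𝔞.map (algebraMap A B') with h𝔞'
  have hne : 𝔞' ≠ ⊤ := fun h => (maximalIdeal.isMaximal B').ne_top (top_le_iff.mp (h ▸ h𝔞))
  haveI : Nontrivial (B' ⧸ 𝔞') := Ideal.Quotient.nontrivial_iff.mpr hne
  haveI : IsLocalRing (B' ⧸ 𝔞') :=
    IsLocalRing.of_surjective' (Ideal.Quotient.mk 𝔞') Ideal.Quotient.mk_surjective
  have hjac : 𝔞' ≤ Ideal.jacobson ⊥ := h𝔞.trans (IsLocalRing.maximalIdeal_le_jacobson _)
  haveI : Module.Free (B' ⧸ 𝔞') ((B' ⧸ 𝔞') ⊗[B'] M') := Module.free_of_flat_of_isLocalRing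
  let ι := Module.Free.ChooseBasisIndex (B' ⧸ 𝔞') ((B' ⧸ 𝔞') ⊗[B'] M')
  let b : Module.Basis ι (B' ⧸ 𝔞') ((B' ⧸ 𝔞') ⊗[B'] M') := Module.Free.chooseBasis _ _
  have hsurj : Surjective (TensorProduct.mk B' (B' ⧸ 𝔞') M' 1) :=
    TensorProduct.mk_surjective B' M' (B' ⧸ 𝔞') Ideal.Quotient.mk_surjective
  choose m hm using fun i => hsurj (b i)
  -- the map `φ`
  let φ : (ι → B') →ₗ[B'] M' := Fintype.linearCombination B' m
  have hφ : ∀ c : ι → B', (1 : B' ⧸ 𝔞') ⊗ₜ[B'] φ c = ∑ i, (Ideal.Quotient.mk 𝔞' (c i)) • b i := by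
    intro c
    simp only [φ, Fintype.linearCombination_apply, tmul_sum]
    refine Finset.sum_congr rfl fun i _ => ?_
    rw [← hm i]
    simp only [TensorProduct.mk_apply, tmul_smul]
    have h1 : c i • (1 : B' ⧸ 𝔞') = Ideal.Quotient.mk 𝔞' (c i) := by
      rw [Algebra.smul_def, mul_one]; rfl
    rw [← h1, smul_assoc, one_smul]
  -- kernel of `1 ⊗ -`
  have hker : ∀ x : M', (1 : B' ⧸ 𝔞') ⊗ₜ[B'] x = 0 → x ∈ (𝔞' • ⊤ : Submodule B' M') := by
    intro x hx
    have := congrArg (quotTensorEquivQuotSMul M' 𝔞') hx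
    rw [map_zero, quotTensorEquivQuotSMul_mk_one_tmul, Submodule.Quotient.mk_eq_zero] at this
    exact this
  -- surjectivity of `φ`
  have hφsurj : Surjective φ := by
    rw [← LinearMap.range_eq_top, eq_top_iff]
    refine Submodule.le_of_le_smul_of_le_jacobson_bot (I := 𝔞') Module.Finite.fg_top hjac ?_
    intro x _
    obtain ⟨c, hc⟩ : ∃ c : ι → B', (1 : B' ⧸ 𝔞') ⊗ₜ[B'] x =
        ∑ i, (Ideal.Quotient.mk 𝔞' (c i)) • b i := by
      have h1 := b.sum_repr ((1 : B' ⧸ 𝔞') ⊗ₜ[B'] x)
      choose c hc using fun i => Ideal.Quotient.mk_surjective (b.repr ((1 : B' ⧸ 𝔞') ⊗ₜ[B'] x) i)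
      refine ⟨c, ?_⟩
      simp only [hc]
      exact h1.symm
    rw [← hφ c] at hc
    have hx : x - φ c ∈ (𝔞' • ⊤ : Submodule B' M') := by
      apply hker
      rw [tmul_sub, hc, sub_self]
    have : x = φ c + (x - φ c) := by abel
    rw [this]
    exact Submodule.add_mem_sup (LinearMap.mem_range_self φ c) hx
  -- kernel of `φ` is contained in `𝔞' • ⊤`
  have hkerφ : LinearMap.ker φ ≤ (𝔞' • ⊤ : Submodule B' (ι → B')) := by
    intro c hc
    rw [LinearMap.mem_ker] at hc
    have h1 := hφ c
    rw [hc, tmul_zero] at h1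
    have h2 := Fintype.linearIndependent_iff.mp b.linearIndependent _ h1.symm
    have hci : ∀ i, c i ∈ 𝔞' := fun i => Ideal.Quotient.eq_zero_iff_mem.mp (h2 i)
    have : c = ∑ i, c i • (Pi.single i (1 : B') : ι → B') := by
      funext k
      simp [Finset.sum_apply, Pi.single_apply]
    rw [this]
    exact Submodule.sum_mem _ fun i _ => Submodule.smul_mem_smul (hci i) Submodule.mem_top
  -- `ker φ ≤ 𝔞' • ker φ`
  have hkk : LinearMap.ker φ ≤ 𝔞' • LinearMap.ker φ := by
    intro x hx
    have h1 := Groth.Agent.Helper2.NilpNak.ker_inf_smul_le' (φ.restrictScalars A) hφsurj 𝔞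
    have hx1 : x ∈ LinearMap.ker (φ.restrictScalars A) := hx
    have hx2 : x ∈ (𝔞 • ⊤ : Submodule A (ι → B')) := by
      have := hkerφ hx
      have h3 := Ideal.smul_restrictScalars 𝔞 (⊤ : Submodule B' (ι → B'))
      rw [Submodule.restrictScalars_top] at h3
      rw [← h3]
      exact this
    have h4 := h1 ⟨hx1, hx2⟩
    have h5 := Ideal.smul_restrictScalars 𝔞 (LinearMap.ker φ)
    have h6 : (LinearMap.ker φ).restrictScalars A = LinearMap.ker (φ.restrictScalars A) := rfl
    rw [h6] at h5
    rw [← h5] at h4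
    exact h4
  have hfg : (LinearMap.ker φ).FG := Module.FinitePresentation.fg_ker φ hφsurj
  have hbot := Submodule.eq_bot_of_le_smul_of_le_jacobson_bot 𝔞' (LinearMap.ker φ) hfg hkk hjac
  have hinj : Injective φ := LinearMap.ker_eq_bot.mp hbot
  exact Module.Free.of_equiv (LinearEquiv.ofBijective φ ⟨hinj, hφsurj⟩)

end localLemma

section main

variable (A B M : Type u) [CommRing A] [CommRing B] [Algebra A B] [AddCommGroup M] [Module B M]
  [Module A M] [IsScalarTower A B M] [Module.FinitePresentation B M] [Module.Flat A M]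

/-- the residue field of `p = q ∩ A` maps to `B_q / p B_q` -/
theorem free_localized (q : Ideal B) [q.IsMaximal] (p : Ideal A) [p.IsPrime]
    (hp : p = q.comap (algebraMap A B))
    (h : Module.Flat (B ⊗[A] p.ResidueField) ((B ⊗[A] p.ResidueField) ⊗[B] M)) :
    Module.Free (Localization.AtPrime q) (Localization.AtPrime q ⊗[B] M) := by
  have hmem_iff : ∀ x : A, x ∈ p ↔ algebraMap A B x ∈ q := by
    intro x
    rw [hp]
    rfl
  let B' := Localization.AtPrime q
  let 𝔞' : Ideal B' := p.map (algebraMap A B')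
  have h𝔞 : 𝔞' ≤ maximalIdeal B' := by
    rw [Ideal.map_le_iff_le_comap]
    intro x hx
    rw [Ideal.mem_comap, IsScalarTower.algebraMap_apply A B B',
      IsLocalization.AtPrime.to_map_mem_maximal_iff B' q]
    exact (hmem_iff x).mp hx
  let R' := B' ⧸ 𝔞'
  have hunit : ∀ y : p.primeCompl, IsUnit (algebraMap A R' y) := by
    intro y
    have hy : algebraMap A B y ∈ q.primeCompl := by
      intro hmem
      exact y.2 ((hmem_iff _).mpr hmem)
    have h1 : IsUnit (algebraMap B B' (algebraMap A B y)) :=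
      IsLocalization.map_units B' (⟨_, hy⟩ : q.primeCompl)
    rw [IsScalarTower.algebraMap_apply A B' R', IsScalarTower.algebraMap_apply A B B']
    exact h1.map _
  let g₀ : Localization.AtPrime p →+* R' := IsLocalization.lift (M := p.primeCompl) hunit
  have hzero : ∀ a ∈ maximalIdeal (Localization.AtPrime p), g₀ a = 0 := by
    intro a ha
    rw [← Localization.AtPrime.map_eq_maximalIdeal] at ha
    have hle : p.map (algebraMap A (Localization.AtPrime p)) ≤ RingHom.ker g₀ := by
      rw [Ideal.map_le_iff_le_comap]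
      intro x hx
      rw [Ideal.mem_comap, RingHom.mem_ker, IsLocalization.lift_eq,
        IsScalarTower.algebraMap_apply A B' R']
      exact Ideal.Quotient.eq_zero_iff_mem.mpr (Ideal.mem_map_of_mem _ hx)
    exact hle ha
  let g₁ : p.ResidueField →+* R' := Ideal.Quotient.lift _ g₀ hzero
  let g : p.ResidueField →ₐ[A] R' :=
    { g₁ with
      commutes' := by
        intro a
        change g₁ (Ideal.Quotient.mk _ (algebraMap A (Localization.AtPrime p) a)) = _
        exact (Ideal.Quotient.lift_mk _ g₀ hzero).trans (IsLocalization.lift_eq hunit a) }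
  let L : (B ⊗[A] p.ResidueField) →ₐ[B] R' :=
    Algebra.TensorProduct.lift (Algebra.ofId B R') g (fun _ _ => Commute.all _ _)
  letI : Algebra (B ⊗[A] p.ResidueField) R' := L.toRingHom.toAlgebra
  haveI : IsScalarTower B (B ⊗[A] p.ResidueField) R' :=
    IsScalarTower.of_algebraMap_eq' L.comp_algebraMap.symm
  have hflat : Module.Flat R' (R' ⊗[B'] (B' ⊗[B] M)) :=
    Groth.Agent.Helper2.FinInjDesc.flat_bc3 B (B ⊗[A] p.ResidueField) B' R' M
  haveI : Module.Flat A (B' ⊗[B] M) := flat_tensor A B B' M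
  exact free_of_fibre_flat (A := A) (B' := B') (M' := B' ⊗[B] M) p h𝔞 hflat

theorem flat_of_fibrewise (h : ∀ (p : Ideal A) [p.IsPrime],
    Module.Projective (B ⊗[A] p.ResidueField) ((B ⊗[A] p.ResidueField) ⊗[B] M)) :
    Module.Flat B M := by
  haveI : ∀ (P : Ideal B) [P.IsMaximal], IsLocalizedModule.AtPrime P
      (TensorProduct.mk B (Localization.AtPrime P) M 1) := fun P _ =>
    (isLocalizedModule_iff_isBaseChange P.primeCompl (Localization.AtPrime P) _).mpr
      (TensorProduct.isBaseChange B M _)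
  refine Module.flat_of_isLocalized_maximal B M (fun P _ => Localization.AtPrime P ⊗[B] M)
    (fun P _ => TensorProduct.mk B (Localization.AtPrime P) M 1) ?_
  intro P _
  haveI : (P.comap (algebraMap A B)).IsPrime := Ideal.comap_isPrime _ _
  have hproj := h (P.comap (algebraMap A B))
  haveI : Module.Free (Localization.AtPrime P) (Localization.AtPrime P ⊗[B] M) :=
    free_localized A B M P (P.comap (algebraMap A B)) rfl (@Module.Flat.of_projective _ _ _ _ _ hproj)
  exact Module.Flat.trans B (Localization.AtPrime P) _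

end main

end Groth.Agent.Helper2.FibreProj
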