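import Mathlib
import Groth.Prelude
import Groth.Agent.Helper2.FibreProj

set_option autoImplicit false
open Function TensorProduct
universe u

namespace Groth.Agent.Helper2.LocLoc

section General

variable {R : Type*} [CommRing R] {M M₁ M₂ : Type*} [AddCommGroup M] [Module R M]
  [AddCommGroup M₁] [Module R M₁] [AddCommGroup M₂] [Module R M₂]

/-- shrinking the submonoid when every element of the bigger one divides an element of the
smaller one. -/
theorem isLocalizedModule_of_le_of_exists_mul_mem (S S' : Submonoid R) (h : S ≤ S')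
    (h' : ∀ x : S', ∃ m : R, m * x ∈ S) (f : M →ₗ[R] M₁) [IsLocalizedModule S' f] :
    IsLocalizedModule S f where
  map_units x := IsLocalizedModule.map_units f ⟨x.1, h x.2⟩
  surj y := by
    obtain ⟨⟨x, t⟩, e⟩ := IsLocalizedModule.surj S' f y
    obtain ⟨m, hm⟩ := h' t
    refine ⟨⟨m • x, ⟨m * t, hm⟩⟩, ?_⟩
    simp only [Submonoid.smul_def] at e ⊢
    rw [mul_smul, e, map_smul]
  exists_of_eq {x₁ x₂} e := by
    obtain ⟨c, hc⟩ := IsLocalizedModule.exists_of_eq (S := S') (f := f) e
    obtain ⟨m, hm⟩ := h' c
    refine ⟨⟨m * c, hm⟩, ?_⟩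
    simp only [Submonoid.smul_def] at hc ⊢
    rw [mul_smul, mul_smul, hc]

/-- composition of localizations. -/
theorem isLocalizedModule_comp (S₁ S₂ : Submonoid R) (h : S₁ ≤ S₂) (f₁ : M →ₗ[R] M₁)
    [IsLocalizedModule S₁ f₁] (g : M₁ →ₗ[R] M₂) [IsLocalizedModule S₂ g] :
    IsLocalizedModule S₂ (g ∘ₗ f₁) where
  map_units x := IsLocalizedModule.map_units g x
  surj y := by
    obtain ⟨⟨m₁, s₂⟩, e₂⟩ := IsLocalizedModule.surj S₂ g y
    obtain ⟨⟨m, s₁⟩, e₁⟩ := IsLocalizedModule.surj S₁ f₁ m₁
    refine ⟨⟨m, ⟨s₁.1 * s₂.1, S₂.mul_mem (h s₁.2) s₂.2⟩⟩, ?_⟩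
    simp only [Submonoid.smul_def, LinearMap.comp_apply] at e₁ e₂ ⊢
    rw [mul_smul, e₂, ← map_smul, e₁]
  exists_of_eq {x₁ x₂} e := by
    simp only [LinearMap.comp_apply] at e
    obtain ⟨c, hc⟩ := IsLocalizedModule.exists_of_eq (S := S₂) (f := g) e
    simp only [Submonoid.smul_def, ← map_smul] at hc
    obtain ⟨d, hd⟩ := IsLocalizedModule.exists_of_eq (S := S₁) (f := f₁) hc
    refine ⟨⟨d.1 * c.1, S₂.mul_mem (h d.2) c.2⟩, ?_⟩
    simp only [Submonoid.smul_def] at hd ⊢
    rw [mul_smul, mul_smul, hd]

end General

section Flat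

variable (A : Type u) {C : Type u} [CommRing A] [CommRing C] [Algebra A C]

/-- the localization of an `A`-flat `C`-module is `A`-flat. -/
theorem flat_localizedModule (N : Type u) [AddCommGroup N] [Module C N] [Module A N]
    [IsScalarTower A C N] [Module.Flat A N] (S : Submonoid C) :
    Module.Flat A (LocalizedModule S N) := by
  haveI : Module.Flat A (Localization S ⊗[C] N) :=
    Groth.Agent.Helper2.FibreProj.flat_tensor A C (Localization S) N
  let e : LocalizedModule S N ≃ₗ[C] Localization S ⊗[C] N :=
    (LocalizedModule.equivTensorProduct S N).restrictScalars C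
  exact Module.Flat.of_linearEquiv (e.restrictScalars A)

/-- `A`-flatness transfers along any localization map. -/
theorem flat_of_isLocalizedModule (N N' : Type u) [AddCommGroup N] [Module C N] [Module A N]
    [IsScalarTower A C N] [Module.Flat A N] [AddCommGroup N'] [Module C N'] [Module A N']
    [IsScalarTower A C N'] (S : Submonoid C) (g : N →ₗ[C] N') [IsLocalizedModule S g] :
    Module.Flat A N' := by
  haveI := flat_localizedModule A N S
  exact Module.Flat.of_linearEquiv ((IsLocalizedModule.iso S g).symm.restrictScalars A)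

end Flat

section Key

variable (A : Type u) {B C : Type u} [CommRing A] [CommRing B] [CommRing C]
    [Algebra A B] [Algebra B C] [Algebra A C] [IsScalarTower A B C]
    (M : Type u) [AddCommGroup M] [Module C M] [Module B M] [Module A M]
    [IsScalarTower B C M] [IsScalarTower A C M] [IsScalarTower A B M]

/-- localizing at a submonoid of `B` or at its image in `C` gives the same `A`-flatness. -/
theorem flat_localizedModule_iff_algebraMapSubmonoid (S : Submonoid B) :
    Module.Flat A (LocalizedModule S M) ↔
      Module.Flat A (LocalizedModule (Algebra.algebraMapSubmonoid C S) M) := by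
  haveI : IsLocalizedModule S
      ((LocalizedModule.mkLinearMap (Algebra.algebraMapSubmonoid C S) M).restrictScalars B) :=
    IsLocalizedModule.restrictScalars S _
  let e : LocalizedModule S M ≃ₗ[B] LocalizedModule (Algebra.algebraMapSubmonoid C S) M :=
    IsLocalizedModule.iso S
      ((LocalizedModule.mkLinearMap (Algebra.algebraMapSubmonoid C S) M).restrictScalars B)
  exact ⟨fun h => Module.Flat.of_linearEquiv (e.symm.restrictScalars A),
    fun h => Module.Flat.of_linearEquiv (e.restrictScalars A)⟩

/-- the double localization. -/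
theorem isLocalizedModule_double (T : Submonoid C) (r : Ideal C) [r.IsPrime]
    (hT : T ≤ r.primeCompl) :
    IsLocalizedModule r.primeCompl
      ((LocalizedModule.mkLinearMap r.primeCompl (LocalizedModule T M)) ∘ₗ
        (LocalizedModule.mkLinearMap T M)) :=
  isLocalizedModule_comp T r.primeCompl hT _ _

theorem flat_atPrime_of_flat_localizedModule (T : Submonoid C) (r : Ideal C) [r.IsPrime]
    (hT : T ≤ r.primeCompl) (h : Module.Flat A (LocalizedModule T M)) :
    Module.Flat A (LocalizedModule r.primeCompl M) := by
  haveI := isLocalizedModule_double M T r hT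
  haveI := flat_localizedModule A (LocalizedModule T M) r.primeCompl
  let e := IsLocalizedModule.iso r.primeCompl
      ((LocalizedModule.mkLinearMap r.primeCompl (LocalizedModule T M)) ∘ₗ
        (LocalizedModule.mkLinearMap T M))
  exact Module.Flat.of_linearEquiv (e.restrictScalars A)

theorem flat_localizedModule_of_forall_atPrime (T : Submonoid C)
    (h : ∀ (r : Ideal C) [r.IsPrime], T ≤ r.primeCompl →
      Module.Flat A (LocalizedModule r.primeCompl M)) :
    Module.Flat A (LocalizedModule T M) := by
  refine Module.flat_of_isLocalized_maximal (Localization T) (LocalizedModule T M)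
    (fun P' _ => LocalizedModule P'.primeCompl (LocalizedModule T M))
    (fun P' _ => LocalizedModule.mkLinearMap P'.primeCompl (LocalizedModule T M)) ?_
  intro P' hP'
  haveI : P'.IsPrime := hP'.isPrime
  let r : Ideal C := P'.comap (algebraMap C (Localization T))
  haveI : r.IsPrime := Ideal.comap_isPrime _ _
  have hT : T ≤ r.primeCompl := by
    intro t ht hmem
    have h1 : algebraMap C (Localization T) t ∈ P' := hmem
    have h2 : IsUnit (algebraMap C (Localization T) t) := IsLocalization.map_units _ ⟨t, ht⟩
    exact hP'.ne_top (Ideal.eq_top_of_isUnit_mem _ h1 h2)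
  let g := LocalizedModule.mkLinearMap P'.primeCompl (LocalizedModule T M)
  have hle : Algebra.algebraMapSubmonoid (Localization T) r.primeCompl ≤ P'.primeCompl := by
    rintro _ ⟨c, hc, rfl⟩
    exact hc
  have hdiv : ∀ x : P'.primeCompl,
      ∃ m : Localization T, m * x ∈ Algebra.algebraMapSubmonoid (Localization T) r.primeCompl := by
    intro x
    obtain ⟨c, t, hx⟩ := IsLocalization.exists_mk'_eq T (x : Localization T)
    refine ⟨algebraMap C (Localization T) t, c, ?_, ?_⟩
    · intro hmem
      have h1 : algebraMap C (Localization T) c ∈ P' := hmem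
      apply x.2
      rw [← hx, IsLocalization.mk'_eq_mul_mk'_one]
      exact Ideal.mul_mem_right _ _ h1
    · rw [← hx, mul_comm, IsLocalization.mk'_spec]
  haveI : IsLocalizedModule (Algebra.algebraMapSubmonoid (Localization T) r.primeCompl) g :=
    isLocalizedModule_of_le_of_exists_mul_mem _ _ hle hdiv g
  haveI : IsLocalizedModule r.primeCompl (g.restrictScalars C) :=
    IsLocalizedModule.restrictScalars r.primeCompl g
  haveI : IsLocalizedModule r.primeCompl
      ((g.restrictScalars C) ∘ₗ (LocalizedModule.mkLinearMap T M)) :=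
    isLocalizedModule_comp T r.primeCompl hT _ _
  have hfl := h r hT
  let e := IsLocalizedModule.iso r.primeCompl
      ((g.restrictScalars C) ∘ₗ (LocalizedModule.mkLinearMap T M))
  exact Module.Flat.of_linearEquiv (e.symm.restrictScalars A)

/-- **Key lemma**: flatness over `A` of the localization of `M` at a prime `q` of `B` is
equivalent to flatness of the localizations at all primes of `C` lying over generizations
of `q`. -/
theorem flat_localizedModule_iff (q : Ideal B) [q.IsPrime] :
    Module.Flat A (LocalizedModule q.primeCompl M) ↔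
      ∀ (r : Ideal C) [r.IsPrime], r.comap (algebraMap B C) ≤ q →
        Module.Flat A (LocalizedModule r.primeCompl M) := by
  rw [flat_localizedModule_iff_algebraMapSubmonoid A (C := C) M q.primeCompl]
  have hiff : ∀ (r : Ideal C) [r.IsPrime], r.comap (algebraMap B C) ≤ q ↔
      Algebra.algebraMapSubmonoid C q.primeCompl ≤ r.primeCompl := by
    intro r _
    constructor
    · rintro hle _ ⟨b, hb, rfl⟩ hmem
      exact hb (hle hmem)
    · intro hle b hb
      by_contra hbq
      exact hle ⟨b, hbq, rfl⟩ hb
  constructor
  · intro h r _ hr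
    exact flat_atPrime_of_flat_localizedModule A M _ r ((hiff r).1 hr) h
  · intro h
    exact flat_localizedModule_of_forall_atPrime A M _ (fun r _ hr => h r ((hiff r).2 hr))

end Key

end Groth.Agent.Helper2.LocLoc
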