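import Mathlib
import Groth.Prelude
import Groth.Agent.Helper2.LocLoc
import Groth.Agent.Helper2.FlatDescApp
import Groth.Agent.Lead.FD19

set_option autoImplicit false
open Function TensorProduct
universe u

namespace Groth.Agent.Helper2.FlatStageAlg

section Pipeline
variable {B₀ C₀ : Type u} [CommRing B₀] [CommRing C₀] [Algebra B₀ C₀]
  (M₀ : Type u) [AddCommGroup M₀] [Module C₀ M₀]
  {B₁ C₁ : Type u} [CommRing B₁] [CommRing C₁] [Algebra B₀ B₁] [Algebra B₁ C₁] [Algebra C₀ C₁]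
  [Algebra B₀ C₁] [IsScalarTower B₀ B₁ C₁] [IsScalarTower B₀ C₀ C₁] [Algebra.IsPushout B₀ B₁ C₀ C₁]
  (h₁ : C₁)
  (Bj Cj : Type u) [CommRing Bj] [CommRing Cj] [Algebra B₀ Bj] [Algebra Bj Cj] [Algebra C₀ Cj]
  [Algebra B₀ Cj] [IsScalarTower B₀ Bj Cj] [IsScalarTower B₀ C₀ Cj] [Algebra.IsPushout B₀ Bj C₀ Cj]
  [Algebra B₁ Bj] [IsScalarTower B₀ B₁ Bj] [Algebra C₁ Cj] [Algebra B₁ Cj]
  [IsScalarTower B₁ Bj Cj] [IsScalarTower B₁ C₁ Cj] [IsScalarTower C₀ C₁ Cj]

include B₀ C₀ in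
theorem isPushout_stage : Algebra.IsPushout B₁ Bj C₁ Cj := by
  haveI : IsScalarTower B₀ C₁ Cj := IsScalarTower.to₁₃₄ B₀ C₀ C₁ Cj
  exact (Algebra.IsPushout.comp_iff B₀ B₁ C₀ C₁ (T := Bj) (T' := Cj)).mp inferInstance

/-- generic tower through a localization pair -/
theorem tower_loc (X : Type u) [CommRing X] [Algebra X C₁] [Algebra X Cj] [IsScalarTower X C₁ Cj] :
    IsScalarTower X (Localization.Away h₁)
      (Localization (Algebra.algebraMapSubmonoid Cj (Submonoid.powers h₁))) := by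
  refine IsScalarTower.of_algebraMap_eq fun x => ?_
  rw [IsScalarTower.algebraMap_apply X C₁ (Localization.Away h₁),
    ← IsScalarTower.algebraMap_apply C₁ (Localization.Away h₁),
    IsScalarTower.algebraMap_apply C₁ Cj, ← IsScalarTower.algebraMap_apply X C₁ Cj,
    ← IsScalarTower.algebraMap_apply X Cj]

include B₀ in
theorem nonempty_equiv :
    Nonempty (Bj ⊗[B₁] (Localization.Away h₁ ⊗[C₀] M₀) ≃ₗ[Bj]
      LocalizedModule (Algebra.algebraMapSubmonoid Cj (Submonoid.powers h₁)) (Cj ⊗[C₀] M₀)) := by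
  haveI t1 := tower_loc h₁ Cj B₁
  haveI t2 := tower_loc h₁ Cj C₀
  haveI h1 : Algebra.IsPushout B₁ Bj C₁ Cj := isPushout_stage (B₀ := B₀) (C₀ := C₀) Bj Cj
  haveI h1' : Algebra.IsPushout B₁ C₁ Bj Cj := h1.symm
  have h2 : Algebra.IsPushout C₁ Cj (Localization.Away h₁)
      (Localization (Algebra.algebraMapSubmonoid Cj (Submonoid.powers h₁))) :=
    Algebra.isPushout_of_isLocalization (Submonoid.powers h₁) _ _ _
  have h3 := (Algebra.IsPushout.comp_iff B₁ C₁ Bj Cj (T := Localization.Away h₁)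
      (T' := Localization (Algebra.algebraMapSubmonoid Cj (Submonoid.powers h₁)))).mpr h2.symm
  haveI h4 : Algebra.IsPushout B₁ Bj (Localization.Away h₁)
      (Localization (Algebra.algebraMapSubmonoid Cj (Submonoid.powers h₁))) := h3.symm
  -- the chain
  let e0 := Algebra.IsPushout.cancelBaseChange B₁ Bj (Localization.Away h₁)
      (Localization (Algebra.algebraMapSubmonoid Cj (Submonoid.powers h₁)))
      (Localization.Away h₁ ⊗[C₀] M₀)
  let e1 := AlgebraTensorModule.cancelBaseChange C₀ (Localization.Away h₁)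
      (Localization (Algebra.algebraMapSubmonoid Cj (Submonoid.powers h₁)))
      (Localization (Algebra.algebraMapSubmonoid Cj (Submonoid.powers h₁))) M₀
  let e2 := AlgebraTensorModule.cancelBaseChange C₀ Cj
      (Localization (Algebra.algebraMapSubmonoid Cj (Submonoid.powers h₁)))
      (Localization (Algebra.algebraMapSubmonoid Cj (Submonoid.powers h₁))) M₀
  let e3 := LocalizedModule.equivTensorProduct
      (Algebra.algebraMapSubmonoid Cj (Submonoid.powers h₁)) (Cj ⊗[C₀] M₀)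
  exact ⟨e0.symm ≪≫ₗ (e1.restrictScalars Bj) ≪≫ₗ (e2.symm.restrictScalars Bj) ≪≫ₗ
    (e3.symm.restrictScalars Bj)⟩

include B₀ in
theorem flat_iff_abstract :
    Module.Flat Bj (Bj ⊗[B₁] (Localization.Away h₁ ⊗[C₀] M₀)) ↔
      Module.Flat Bj (LocalizedModule (Submonoid.powers (algebraMap C₁ Cj h₁)) (Cj ⊗[C₀] M₀)) := by
  have hS : Algebra.algebraMapSubmonoid Cj (Submonoid.powers h₁) =
      Submonoid.powers (algebraMap C₁ Cj h₁) := Submonoid.map_powers _ _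
  rw [← hS]
  obtain ⟨e⟩ := nonempty_equiv (B₀ := B₀) (C₀ := C₀) (B₁ := B₁) (C₁ := C₁) M₀ h₁ Bj Cj
  exact ⟨fun h => Module.Flat.of_linearEquiv e.symm, fun h => Module.Flat.of_linearEquiv e⟩

end Pipeline

section StageStruct
variable {B₀ C₀ : Type u} [CommRing B₀] [CommRing C₀] [Algebra B₀ C₀]
  (M₀ : Type u) [AddCommGroup M₀] [Module C₀ M₀]
  {B₁ : Type u} [CommRing B₁] [Algebra B₀ B₁]
  (Bj Cj : Type u) [CommRing Bj] [CommRing Cj] [Algebra B₀ Bj] [Algebra Bj Cj] [Algebra C₀ Cj]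
  [Algebra B₀ Cj] [IsScalarTower B₀ Bj Cj] [IsScalarTower B₀ C₀ Cj]
  [Algebra B₁ Bj] [IsScalarTower B₀ B₁ Bj]

/-- the canonical map `B₁ ⊗ C₀ → Cj` -/
noncomputable def chi : B₁ ⊗[B₀] C₀ →ₐ[B₀] Cj :=
  Algebra.TensorProduct.productMap
    ((IsScalarTower.toAlgHom B₀ Bj Cj).comp (IsScalarTower.toAlgHom B₀ B₁ Bj))
    (IsScalarTower.toAlgHom B₀ C₀ Cj)

@[simp] theorem chi_tmul (b : B₁) (c : C₀) :
    chi Bj Cj (b ⊗ₜ[B₀] c) = algebraMap Bj Cj (algebraMap B₁ Bj b) * algebraMap C₀ Cj c := by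
  simp [chi]

attribute [local instance] Algebra.TensorProduct.rightAlgebra

theorem flat_iff_concrete [Algebra.IsPushout B₀ Bj C₀ Cj] (h₁ : B₁ ⊗[B₀] C₀) :
    Module.Flat Bj (Bj ⊗[B₁] (Localization.Away h₁ ⊗[C₀] M₀)) ↔
      Module.Flat Bj (LocalizedModule (Submonoid.powers (chi Bj Cj h₁)) (Cj ⊗[C₀] M₀)) := by
  letI a1 : Algebra B₁ Cj := ((algebraMap Bj Cj).comp (algebraMap B₁ Bj)).toAlgebra
  haveI t1 : IsScalarTower B₁ Bj Cj := IsScalarTower.of_algebraMap_eq (fun _ => rfl)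
  letI a2 : Algebra (B₁ ⊗[B₀] C₀) Cj := (chi Bj Cj).toRingHom.toAlgebra
  haveI t2 : IsScalarTower B₁ (B₁ ⊗[B₀] C₀) Cj := IsScalarTower.of_algebraMap_eq (fun b => by
    change _ = chi Bj Cj (b ⊗ₜ[B₀] (1 : C₀))
    rw [chi_tmul, map_one, mul_one]; rfl)
  haveI t3 : IsScalarTower C₀ (B₁ ⊗[B₀] C₀) Cj := IsScalarTower.of_algebraMap_eq (fun c => by
    change _ = chi Bj Cj ((1 : B₁) ⊗ₜ[B₀] c)
    rw [chi_tmul, map_one, map_one, one_mul])
  exact flat_iff_abstract (B₀ := B₀) (C₁ := B₁ ⊗[B₀] C₀) M₀ h₁ Bj Cj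

end StageStruct

section Global
variable {B₀ C₀ : Type u} [CommRing B₀] [CommRing C₀] [Algebra B₀ C₀]
  [Algebra.FinitePresentation B₀ C₀]
  (M₀ : Type u) [AddCommGroup M₀] [Module C₀ M₀] [Module B₀ M₀] [IsScalarTower B₀ C₀ M₀]
  [Module.FinitePresentation C₀ M₀]

/-- global version -/
theorem exists_fp_global
    {B C : Type u} [CommRing B] [CommRing C] [Algebra B₀ B] [Algebra B C] [Algebra C₀ C]
    [Algebra B₀ C] [IsScalarTower B₀ B C] [IsScalarTower B₀ C₀ C] [Algebra.IsPushout B₀ B C₀ C]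
    (h : Module.Flat B (C ⊗[C₀] M₀)) :
    ∃ (B' : Type u) (_ : CommRing B') (_ : Algebra B₀ B') (_ : Algebra.FinitePresentation B₀ B')
      (_ : B' →ₐ[B₀] B),
      ∀ (Bj Cj : Type u) [CommRing Bj] [CommRing Cj] [Algebra B₀ Bj] [Algebra Bj Cj]
        [Algebra C₀ Cj] [Algebra B₀ Cj] [IsScalarTower B₀ Bj Cj] [IsScalarTower B₀ C₀ Cj]
        [Algebra.IsPushout B₀ Bj C₀ Cj] (_ : B' →ₐ[B₀] Bj), Module.Flat Bj (Cj ⊗[C₀] M₀) := by
  haveI : Module.Flat B (B ⊗[B₀] M₀) :=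
    Module.Flat.of_linearEquiv (Algebra.IsPushout.cancelBaseChange B₀ B C₀ C M₀).symm
  obtain ⟨B', _, _, _, ψ, hB'⟩ := Groth.Agent.Lead.FD18.exists_fp_flat_module (A₀ := B₀) C₀ M₀ B
  refine ⟨B', inferInstance, inferInstance, inferInstance, ψ, ?_⟩
  intro Bj Cj _ _ _ _ _ _ _ _ _ θ
  letI : Algebra B' Bj := θ.toRingHom.toAlgebra
  haveI : IsScalarTower B₀ B' Bj := IsScalarTower.of_algebraMap_eq (fun a => (θ.commutes a).symm)
  haveI : Module.Flat Bj (Bj ⊗[B₀] M₀) :=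
    Groth.Agent.Lead.FD19.flat_of_algHom (A₀ := B₀) (C := B') (D := Bj) (M₀ := M₀)
  exact Module.Flat.of_linearEquiv (Algebra.IsPushout.cancelBaseChange B₀ Bj C₀ Cj M₀)

end Global

section Pointed
variable {B₀ C₀ : Type u} [CommRing B₀] [CommRing C₀] [Algebra B₀ C₀]
  [Algebra.FinitePresentation B₀ C₀]
  (M₀ : Type u) [AddCommGroup M₀] [Module C₀ M₀] [Module.FinitePresentation C₀ M₀]

attribute [local instance] Algebra.TensorProduct.rightAlgebra

/-- pointed version: flatness at a prime of the limit stage descends to a finitely presented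
stage and then holds at every later stage. -/
theorem exists_fp_pointed
    {B C : Type u} [CommRing B] [CommRing C] [Algebra B₀ B] [Algebra B C] [Algebra C₀ C]
    [Algebra B₀ C] [IsScalarTower B₀ B C] [IsScalarTower B₀ C₀ C] [Algebra.IsPushout B₀ B C₀ C]
    (q : Ideal C) [q.IsPrime]
    (h : Module.Flat B (LocalizedModule q.primeCompl (C ⊗[C₀] M₀))) :
    ∃ (B' : Type u) (_ : CommRing B') (_ : Algebra B₀ B') (_ : Algebra.FinitePresentation B₀ B')
      (ψ : B' →ₐ[B₀] B),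
      ∀ (Bj Cj : Type u) [CommRing Bj] [CommRing Cj] [Algebra B₀ Bj] [Algebra Bj Cj]
        [Algebra C₀ Cj] [Algebra B₀ Cj] [IsScalarTower B₀ Bj Cj] [IsScalarTower B₀ C₀ Cj]
        [Algebra.IsPushout B₀ Bj C₀ Cj] (θ : B' →ₐ[B₀] Bj) (ωB : Bj →ₐ[B₀] B) (ωC : Cj →ₐ[C₀] C)
        (_ : ωB.comp θ = ψ) (_ : ∀ b, ωC (algebraMap Bj Cj b) = algebraMap B C (ωB b))
        (qj : Ideal Cj) [qj.IsPrime] (_ : qj = q.comap ωC.toRingHom),
        Module.Flat Bj (LocalizedModule qj.primeCompl (Cj ⊗[C₀] M₀)) := by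
  classical
  haveI : Algebra.FinitePresentation B C :=
    Algebra.FinitePresentation.equiv (Algebra.IsPushout.equiv B₀ B C₀ C)
  -- open flat locus
  have hopen := FlatDescApp.isOpen_flatLocus_fp (R := B) (S := C) (M := C ⊗[C₀] M₀)
  obtain ⟨hh, hhq, hsub⟩ : ∃ hh : C, hh ∉ q ∧ ∀ (r : Ideal C) [r.IsPrime], hh ∉ r →
      Module.Flat B (LocalizedModule r.primeCompl (C ⊗[C₀] M₀)) := by
    obtain ⟨_, ⟨hh, rfl⟩, hmem, hsub⟩ :=
      PrimeSpectrum.isTopologicalBasis_basic_opens.exists_subset_of_mem_open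
        (show (⟨q, inferInstance⟩ : PrimeSpectrum C) ∈ {p : PrimeSpectrum C |
          Module.Flat B (LocalizedModule p.asIdeal.primeCompl (C ⊗[C₀] M₀))} from h) hopen
    exact ⟨hh, hmem, fun r _ hr => hsub (show (⟨r, inferInstance⟩ : PrimeSpectrum C) ∈
      (PrimeSpectrum.basicOpen hh : Set (PrimeSpectrum C)) from hr)⟩
  have hNh : Module.Flat B (LocalizedModule (Submonoid.powers hh) (C ⊗[C₀] M₀)) :=
    LocLoc.flat_localizedModule_of_forall_atPrime B (C ⊗[C₀] M₀) (Submonoid.powers hh)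
      (fun r _ hr => hsub r (fun hmem => hr (Submonoid.mem_powers hh) hmem))
  -- write hh as a finite sum
  obtain ⟨S, hS⟩ := TensorProduct.exists_finset ((Algebra.IsPushout.equiv B₀ B C₀ C).symm hh)
  let ψ₁ : MvPolynomial S B₀ →ₐ[B₀] B := MvPolynomial.aeval (fun i : S => i.1.1)
  letI algB₁B : Algebra (MvPolynomial S B₀) B := ψ₁.toRingHom.toAlgebra
  haveI tB₁B : IsScalarTower B₀ (MvPolynomial S B₀) B :=
    IsScalarTower.of_algebraMap_eq (fun a => (ψ₁.commutes a).symm)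
  let h₁ : MvPolynomial S B₀ ⊗[B₀] C₀ := ∑ i : S, (MvPolynomial.X i) ⊗ₜ[B₀] i.1.2
  have hχ : chi (B₀ := B₀) (C₀ := C₀) (B₁ := MvPolynomial S B₀) B C h₁ = hh := by
    have h2 : hh = (Algebra.IsPushout.equiv B₀ B C₀ C) (∑ i ∈ S, i.1 ⊗ₜ[B₀] i.2) := by
      rw [← hS, AlgEquiv.apply_symm_apply]
    rw [h2, map_sum, map_sum, ← Finset.sum_coe_sort S]
    refine Finset.sum_congr rfl fun i _ => ?_
    rw [chi_tmul, Algebra.IsPushout.equiv_tmul]
    congr 2
    change ψ₁ (MvPolynomial.X i) = _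
    simp [ψ₁]
  -- apply the global version to the new data
  haveI fpD : Algebra.FinitePresentation (MvPolynomial S B₀) (Localization.Away h₁) :=
    haveI : Algebra.FinitePresentation (MvPolynomial S B₀ ⊗[B₀] C₀) (Localization.Away h₁) :=
      IsLocalization.Away.finitePresentation h₁
    Algebra.FinitePresentation.trans (MvPolynomial S B₀) (MvPolynomial S B₀ ⊗[B₀] C₀) _
  have hflatB : Module.Flat B (B ⊗[MvPolynomial S B₀] (Localization.Away h₁ ⊗[C₀] M₀)) := by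
    rw [flat_iff_concrete M₀ B C h₁, hχ]
    exact hNh
  obtain ⟨B', _, _, _, ψ', hB'⟩ := Groth.Agent.Lead.FD18.exists_fp_flat_module
    (A₀ := MvPolynomial S B₀) (Localization.Away h₁) (Localization.Away h₁ ⊗[C₀] M₀) B
  letI algB₀B' : Algebra B₀ B' :=
    ((algebraMap (MvPolynomial S B₀) B').comp (algebraMap B₀ (MvPolynomial S B₀))).toAlgebra
  haveI tB₀B' : IsScalarTower B₀ (MvPolynomial S B₀) B' :=
    IsScalarTower.of_algebraMap_eq (fun _ => rfl)
  haveI : Algebra.FinitePresentation B₀ B' :=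
    Algebra.FinitePresentation.trans B₀ (MvPolynomial S B₀) B'
  refine ⟨B', inferInstance, algB₀B', inferInstance, ψ'.restrictScalars B₀, ?_⟩
  intro Bj Cj _ _ _ _ _ _ _ _ _ θ ωB ωC h1 h2 qj _ hqj
  letI algB'Bj : Algebra B' Bj := θ.toRingHom.toAlgebra
  letI algB₁Bj : Algebra (MvPolynomial S B₀) Bj :=
    (θ.toRingHom.comp (algebraMap (MvPolynomial S B₀) B')).toAlgebra
  haveI t1 : IsScalarTower (MvPolynomial S B₀) B' Bj :=
    IsScalarTower.of_algebraMap_eq (fun _ => rfl)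
  haveI t2 : IsScalarTower B₀ (MvPolynomial S B₀) Bj :=
    IsScalarTower.of_algebraMap_eq (fun a => by
      change _ = θ (algebraMap (MvPolynomial S B₀) B' (algebraMap B₀ _ a))
      rw [← IsScalarTower.algebraMap_apply B₀ (MvPolynomial S B₀) B', θ.commutes])
  have hflatj : Module.Flat Bj (Bj ⊗[MvPolynomial S B₀] (Localization.Away h₁ ⊗[C₀] M₀)) :=
    Groth.Agent.Lead.FD19.flat_of_algHom (A₀ := MvPolynomial S B₀) (C := B') (D := Bj)
      (M₀ := Localization.Away h₁ ⊗[C₀] M₀)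
  rw [flat_iff_concrete M₀ Bj Cj h₁] at hflatj
  refine LocLoc.flat_atPrime_of_flat_localizedModule Bj (Cj ⊗[C₀] M₀)
    (Submonoid.powers (chi (B₀ := B₀) (C₀ := C₀) (B₁ := MvPolynomial S B₀) Bj Cj h₁)) qj ?_ hflatj
  rw [Submonoid.powers_le]
  -- `ωC (chi_j h₁) = chi h₁ = hh ∉ q`
  have hcomp : ∀ t : MvPolynomial S B₀ ⊗[B₀] C₀,
      ωC (chi (B₀ := B₀) (C₀ := C₀) (B₁ := MvPolynomial S B₀) Bj Cj t) =
        chi (B₀ := B₀) (C₀ := C₀) (B₁ := MvPolynomial S B₀) B C t := by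
    intro t
    induction t using TensorProduct.induction_on with
    | zero => simp
    | tmul b c =>
      rw [chi_tmul, chi_tmul, map_mul, h2, ωC.commutes]
      congr 2
      change ωB (θ (algebraMap _ B' b)) = ψ₁ b
      have h3 := congr($h1 (algebraMap _ B' b))
      rw [AlgHom.comp_apply, AlgHom.restrictScalars_apply, ψ'.commutes] at h3
      exact h3
    | add x y hx hy => rw [map_add, map_add, map_add, hx, hy]
  intro hmem
  apply hhq
  rw [← hχ, ← hcomp h₁]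
  rw [hqj] at hmem
  exact hmem

end Pointed

end Groth.Agent.Helper2.FlatStageAlg
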