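import Mathlib
import Groth.Prelude
import Groth.Agent.Helper2.FlatDescApp
import Groth.Agent.Helper5.AffFlat1
import Groth.Agent.Helper4.FPGlue

set_option autoImplicit false
open Function AlgebraicGeometry CategoryTheory TopologicalSpace
universe u

namespace Groth.Agent.Helper2.FlatLocusMod

open Groth.Agent.Helper2.FlatDescApp Groth.Agent.Helper4 Groth.Agent.Helper5.AffFlat

/-- pointwise comparison on an affine chart, module version. -/
theorem isFlatOverAt_iff_localized {X Y : Scheme.{u}} (f : X ⟶ Y) (F : X.Modules)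
    [F.IsQuasicoherent] {V : Y.Opens} (hV : IsAffineOpen V) {W : X.Opens} (hW : IsAffineOpen W)
    (e : W ≤ f ⁻¹ᵁ V) (x : X) (hx : x ∈ W) :
    letI := (f.appLE V W e).hom.toAlgebra
    letI : Module Γ(Y, V) Γ(F, W) := Module.compHom _ (f.appLE V W e).hom
    haveI : IsScalarTower Γ(Y, V) Γ(X, W) Γ(F, W) :=
      IsScalarTower.of_algebraMap_smul fun _ _ => rfl
    FlatMod.IsFlatOverAt f F x ↔
      Module.Flat Γ(Y, V) (LocalizedModule (hW.primeIdealOf ⟨x, hx⟩).asIdeal.primeCompl Γ(F, W)) := by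
  letI alg : Algebra Γ(Y, V) Γ(X, W) := (f.appLE V W e).hom.toAlgebra
  letI modR : Module Γ(Y, V) Γ(F, W) := Module.compHom _ (f.appLE V W e).hom
  haveI : IsScalarTower Γ(Y, V) Γ(X, W) Γ(F, W) :=
    IsScalarTower.of_algebraMap_smul fun r m => rfl
  letI mA : Module Γ(X, W) (F.presheaf.stalk x) := StalkDict.sectionModStalk F x hx
  letI mR : Module Γ(Y, V) (F.presheaf.stalk x) :=
    Module.compHom _ ((X.presheaf.germ W x hx).hom.comp (f.appLE V W e).hom)
  haveI : IsScalarTower Γ(Y, V) Γ(X, W) (F.presheaf.stalk x) :=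
    IsScalarTower.of_algebraMap_smul fun r m => rfl
  haveI := StalkDict.isLocalizedModule_germ hW F x hx
  let eq := IsLocalizedModule.iso (hW.primeIdealOf ⟨x, hx⟩).asIdeal.primeCompl
    (StalkDict.germLin F x hx)
  rw [isFlatOverAt_iff f F hV e x hx]
  exact ⟨fun h => Module.Flat.of_linearEquiv (eq.restrictScalars Γ(Y, V)),
    fun h => Module.Flat.of_linearEquiv (eq.symm.restrictScalars Γ(Y, V))⟩

/-- **Openness of the flat locus of a finitely presented quasi-coherent module**. -/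
theorem isOpen_isFlatOverAt {X Y : Scheme.{u}} (f : X ⟶ Y) [LocallyOfFinitePresentation f]
    (F : X.Modules) [F.IsQuasicoherent]
    (hF : SheafOfModules.IsFinitePresentation (R := X.ringCatSheaf) F) :
    IsOpen {x : X | FlatMod.IsFlatOverAt f F x} := by
  rw [isOpen_iff_forall_mem_open]
  intro x hx
  obtain ⟨V, hV, hfxV, -⟩ := (Opens.isBasis_iff_nbhd.1 Y.isBasis_affineOpens)
    (show f x ∈ (⊤ : Y.Opens) from trivial)
  obtain ⟨W, hW, hxW, e⟩ := (Opens.isBasis_iff_nbhd.1 X.isBasis_affineOpens)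
    (show x ∈ f ⁻¹ᵁ V from hfxV)
  letI alg : Algebra Γ(Y, V) Γ(X, W) := (f.appLE V W e).hom.toAlgebra
  letI modR : Module Γ(Y, V) Γ(F, W) := Module.compHom _ (f.appLE V W e).hom
  haveI : IsScalarTower Γ(Y, V) Γ(X, W) Γ(F, W) :=
    IsScalarTower.of_algebraMap_smul fun _ _ => rfl
  have hfp : (f.appLE V W e).hom.FinitePresentation :=
    HasRingHomProperty.appLE @LocallyOfFinitePresentation f inferInstance ⟨V, hV⟩ ⟨W, hW⟩ e
  haveI : Algebra.FinitePresentation Γ(Y, V) Γ(X, W) := hfp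
  haveI : Module.FinitePresentation Γ(X, W) Γ(F, W) := FPGlue.fp_sections F hF hW
  have hopen := isOpen_flatLocus_fp (R := Γ(Y, V)) (S := Γ(X, W)) (M := Γ(F, W))
  refine ⟨Subtype.val '' ((fun y : W => IsAffineOpen.primeIdealOf hW y) ⁻¹'
    {q : PrimeSpectrum Γ(X, W) |
      Module.Flat Γ(Y, V) (LocalizedModule q.asIdeal.primeCompl Γ(F, W))}), ?_, ?_, ?_⟩
  · rintro _ ⟨y, hy, rfl⟩
    exact (isFlatOverAt_iff_localized f F hV hW e y.1 y.2).2 hy
  · exact W.2.isOpenEmbedding_subtypeVal.isOpenMap _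
      (hopen.preimage (IsAffineOpen.isoSpec hW).hom.continuous)
  · exact ⟨⟨x, hxW⟩, (isFlatOverAt_iff_localized f F hV hW e x hxW).1 hx, rfl⟩

end Groth.Agent.Helper2.FlatLocusMod
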