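import Mathlib
import Groth.Prelude
import Groth.Agent.Helper2.FlatLocusMod
import Groth.Agent.Lead.StalkPull2

set_option autoImplicit false
open Function TensorProduct CategoryTheory CategoryTheory.Limits AlgebraicGeometry TopologicalSpace
universe u

namespace Groth.Agent.Helper2.FlatStageDict

open Groth.Agent.Lead.ModDict Groth.Agent.Helper4 Groth.Agent.Lead.StalkPull Scheme.Modules

/-- transfer of flatness of a localized module along a linear equivalence -/
theorem flat_localizedModule_congr {A C : Type u} [CommRing A] [CommRing C] [Algebra A C]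
    {M N : Type u} [AddCommGroup M] [Module C M] [Module A M] [IsScalarTower A C M]
    [AddCommGroup N] [Module C N] [Module A N] [IsScalarTower A C N]
    (e : M ≃ₗ[C] N) (S : Submonoid C) (h : Module.Flat A (LocalizedModule S M)) :
    Module.Flat A (LocalizedModule S N) := by
  haveI : IsLocalizedModule S ((LocalizedModule.mkLinearMap S N) ∘ₗ e.toLinearMap) :=
    IsLocalizedModule.of_linearEquiv_right _ _ _
  let E := IsLocalizedModule.iso S ((LocalizedModule.mkLinearMap S N) ∘ₗ e.toLinearMap)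
  exact Module.Flat.of_linearEquiv (E.symm.restrictScalars A)

set_option backward.isDefEq.respectTransparency false in
/-- **Dictionary**: flatness of a pulled-back module at a point, in terms of sections. -/
theorem isFlatOverAt_pullback_iff {X' Y' X : Scheme.{u}} (f' : X' ⟶ Y') (p : X' ⟶ X)
    (F : X.Modules) [F.IsQuasicoherent]
    {V' : Y'.Opens} (hV' : IsAffineOpen V') {W : X.Opens} (hW : IsAffineOpen W)
    {W' : X'.Opens} (hW' : IsAffineOpen W')
    (e1 : W' ≤ f' ⁻¹ᵁ V') (e2 : W' ≤ p ⁻¹ᵁ W) (x' : X') (hx' : x' ∈ W') :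
    letI := (f'.appLE V' W' e1).hom.toAlgebra
    letI := (p.appLE W W' e2).hom.toAlgebra
    FlatMod.IsFlatOverAt f' ((Scheme.Modules.pullback p).obj F) x' ↔
      Module.Flat Γ(Y', V') (LocalizedModule (hW'.primeIdealOf ⟨x', hx'⟩).asIdeal.primeCompl
        (Γ(X', W') ⊗[Γ(X, W)] Γ(F, W))) := by
  letI a1 : Algebra Γ(Y', V') Γ(X', W') := (f'.appLE V' W' e1).hom.toAlgebra
  letI a2 : Algebra Γ(X, W) Γ(X', W') := (p.appLE W W' e2).hom.toAlgebra
  haveI := isQuasicoherent_pullbackObj p F
  letI modR : Module Γ(Y', V') Γ((Scheme.Modules.pullback p).obj F, W') :=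
    Module.compHom _ (f'.appLE V' W' e1).hom
  haveI : IsScalarTower Γ(Y', V') Γ(X', W') Γ((Scheme.Modules.pullback p).obj F, W') :=
    IsScalarTower.of_algebraMap_smul fun _ _ => rfl
  rw [FlatLocusMod.isFlatOverAt_iff_localized f' ((Scheme.Modules.pullback p).obj F) hV' hW' e1
    x' hx']
  let e₂ : Γ(X', W') ⊗[Γ(X, W)] ((secF hW).obj F) ≃ₗ[Γ(X', W')]
      Γ((Scheme.Modules.pullback p).obj F, W') :=
    (secFPullbackIso p hW hW' e2 F).toLinearEquiv.symm ≪≫ₗ
      (secFEquiv hW' ((Scheme.Modules.pullback p).obj F)).symm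
  let e₃ : Γ(X', W') ⊗[Γ(X, W)] Γ(F, W) ≃ₗ[Γ(X', W')] Γ(X', W') ⊗[Γ(X, W)] ((secF hW).obj F) :=
    AlgebraTensorModule.congr (LinearEquiv.refl _ _) (secFEquiv hW F)
  exact ⟨flat_localizedModule_congr (e₃ ≪≫ₗ e₂).symm _, flat_localizedModule_congr (e₃ ≪≫ₗ e₂) _⟩

end Groth.Agent.Helper2.FlatStageDict
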