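import Mathlib
import Groth.Agent.Helper3.UnramBC

/-!
Pointwise descent of smoothness along a flat base change.

* ring level: `smoothLocus_comap` — for `S` flat over `R` and `A` of finite presentation over `R`,
  the preimage of the smooth locus of `S ⊗[R] A` over `S` lies over the smooth locus of `A / R`.
* scheme level: `stalkMap_formallySmooth_of_isPullback` (flat base),
  `stalkMap_formallySmooth_of_isPullback_of_flatAt` (base flat at one point), `smooth_nbhd_iff`.
-/

set_option autoImplicit false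

open TensorProduct AlgebraicGeometry CategoryTheory Limits

namespace Groth.Agent.Helper2.PtDesc

universe u

section L1
variable {A A' : Type*} [CommRing A] [CommRing A'] [Algebra A A'] [Module.Flat A A']
variable {M : Type*} [AddCommGroup M] [Module A M]

/-- flat annihilator lemma: if `m ⊗ a' = 0` in `M ⊗[A] A'` with `A'` flat, then `a'` is a combination
of annihilators of `m`. -/
theorem exists_of_tmul_eq_zero (a' : A') (m : M) (h : m ⊗ₜ[A] a' = (0 : M ⊗[A] A')) :
    ∃ (k : ℕ) (a : Fin k → A) (y : Fin k → A'), a' = ∑ j, a j • y j ∧ ∀ j, a j • m = 0 := by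
  have hinj : Function.Injective
      (LinearMap.rTensor A' (Submodule.span A (Set.range (fun _ : Unit => m))).subtype) :=
    Module.Flat.rTensor_preserves_injective_linearMap _ (Submodule.injective_subtype _)
  have hsum : ∑ i : Unit, (fun _ : Unit => m) i ⊗ₜ[A] (fun _ : Unit => a') i = (0 : M ⊗[A] A') := by
    simpa using h
  obtain ⟨k, a, y, hy, ha⟩ :=
    TensorProduct.vanishesTrivially_of_sum_tmul_eq_zero_of_rTensor_injective A hinj hsum
  refine ⟨k, a (), y, hy (), fun j => ?_⟩
  simpa using ha j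

theorem notMem_support_comap {M' : Type*} [AddCommGroup M'] [Module A' M']
    (φ : M → M')
    (hφ : ∀ (a' : A') (m : M), a' • φ m = 0 → m ⊗ₜ[A] a' = (0 : M ⊗[A] A'))
    (q' : PrimeSpectrum A') (h : q' ∉ Module.support A' M') :
    PrimeSpectrum.comap (algebraMap A A') q' ∉ Module.support A M := by
  rw [Module.notMem_support_iff'] at h ⊢
  intro m
  obtain ⟨s', hs', h0⟩ := h (φ m)
  obtain ⟨k, a, y, hy, ha⟩ := exists_of_tmul_eq_zero s' m (hφ s' m h0)
  by_contra hcon
  push Not at hcon
  apply hs'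
  rw [hy]
  refine Ideal.sum_mem _ fun j _ => ?_
  have hj : a j ∈ (PrimeSpectrum.comap (algebraMap A A') q').asIdeal := by
    by_contra hn
    exact hcon (a j) hn (ha j)
  rw [Algebra.smul_def]
  exact Ideal.mul_mem_right _ _ hj

end L1

section Kaehler
variable (R S A B : Type*) [CommRing R] [CommRing S] [CommRing A] [CommRing B]
  [Algebra R S] [Algebra R A] [Algebra R B] [Algebra S B] [Algebra A B]
  [IsScalarTower R S B] [IsScalarTower R A B] [Algebra.IsPushout R S A B]

theorem tensorKaehlerEquiv_tmul (b : B) (x : Ω[A⁄R]) :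
    KaehlerDifferential.tensorKaehlerEquiv R S A B (b ⊗ₜ x) = b • KaehlerDifferential.map R S A B x := by
  have h1 : ∀ x : Ω[A⁄R], KaehlerDifferential.tensorKaehlerEquiv R S A B (1 ⊗ₜ x) =
      KaehlerDifferential.map R S A B x := by
    intro x
    have hx : x ∈ Submodule.span A (Set.range (KaehlerDifferential.D R A)) := by
      rw [KaehlerDifferential.span_range_derivation]; trivial
    induction hx using Submodule.span_induction with
    | mem x hx =>
      obtain ⟨a, rfl⟩ := hx
      simp
    | zero => simp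
    | add x y _ _ hx hy => simp [tmul_add, hx, hy]
    | smul a x _ hx =>
      have : (1 : B) ⊗ₜ[A] (a • x) = (algebraMap A B a) • ((1 : B) ⊗ₜ[A] x) := by
        rw [← TensorProduct.smul_tmul, Algebra.smul_def, mul_one, TensorProduct.smul_tmul',
          smul_eq_mul, mul_one]
      rw [this, map_smul, hx, map_smul, algebraMap_smul]
  have : b ⊗ₜ[A] x = b • ((1 : B) ⊗ₜ[A] x) := by
    rw [TensorProduct.smul_tmul', smul_eq_mul, mul_one]
  rw [this, map_smul, h1]

end Kaehler

section H1
variable (R S A : Type u) [CommRing R] [CommRing S] [CommRing A] [Algebra R S] [Algebra R A]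
  [Module.Flat R S]

attribute [local instance] Algebra.TensorProduct.rightAlgebra

theorem h1_key (b : S ⊗[R] A) (x : Algebra.H1Cotangent R A)
    (h : b • Algebra.H1Cotangent.map R S A (S ⊗[R] A) x = 0) :
    x ⊗ₜ[A] b = (0 : Algebra.H1Cotangent R A ⊗[A] (S ⊗[R] A)) := by
  let ψ : A →ₗ[R] Algebra.H1Cotangent R A :=
    (LinearMap.toSpanSingleton A (Algebra.H1Cotangent R A) x).restrictScalars R
  have claim1 : ∀ b : S ⊗[R] A, Algebra.tensorH1CotangentOfFlat R A S (LinearMap.lTensor S ψ b) =
      b • Algebra.H1Cotangent.map R S A (S ⊗[R] A) x := by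
    intro b
    induction b with
    | zero => simp
    | add b c hb hc => simp only [map_add, add_smul, hb, hc]
    | tmul t a =>
      rw [LinearMap.lTensor_tmul, Algebra.tensorH1CotangentOfFlat_tmul]
      have : (t ⊗ₜ[R] a : S ⊗[R] A) = algebraMap S (S ⊗[R] A) t * algebraMap A (S ⊗[R] A) a := by
        rw [Algebra.TensorProduct.algebraMap_apply, Algebra.TensorProduct.right_algebraMap_apply,
          Algebra.TensorProduct.tmul_mul_tmul]
        simp
      rw [this, mul_smul, algebraMap_smul, algebraMap_smul]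
      simp [ψ]
  have h0 : LinearMap.lTensor S ψ b = 0 := by
    apply (Algebra.tensorH1CotangentOfFlat R A S).injective
    rw [claim1, h, map_zero]
  have hex : Function.Exact (LinearMap.lTensor S (LinearMap.ker ψ).subtype) (LinearMap.lTensor S ψ) :=
    Module.Flat.lTensor_exact S (LinearMap.exact_subtype_ker_map ψ)
  have claim2 : ∀ z : S ⊗[R] (LinearMap.ker ψ),
      x ⊗ₜ[A] (LinearMap.lTensor S (LinearMap.ker ψ).subtype z) =
        (0 : Algebra.H1Cotangent R A ⊗[A] (S ⊗[R] A)) := by
    intro z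
    induction z with
    | zero => simp
    | add z w hz hw => rw [map_add, tmul_add, hz, hw, add_zero]
    | tmul t a =>
      rw [LinearMap.lTensor_tmul]
      have h1 : (t ⊗ₜ[R] ((LinearMap.ker ψ).subtype a) : S ⊗[R] A) =
          (a : A) • (t ⊗ₜ[R] (1 : A) : S ⊗[R] A) := by
        rw [Algebra.smul_def, Algebra.TensorProduct.right_algebraMap_apply,
          Algebra.TensorProduct.tmul_mul_tmul]
        simp
      rw [h1, ← TensorProduct.smul_tmul]
      have h2 : (a : A) • x = 0 := by
        have h3 : ψ (a : A) = 0 := LinearMap.mem_ker.mp a.2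
        exact h3
      rw [h2, zero_tmul]
  obtain ⟨z, rfl⟩ := (hex b).mp h0
  exact claim2 z

end H1

section FreeLocus
open PrimeSpectrum

set_option backward.isDefEq.respectTransparency false in
theorem mem_freeLocus_comap {R A : Type u} [CommRing R] [CommRing A] [Algebra R A] [Module.Flat R A]
    {M : Type u} [AddCommGroup M] [Module R M] [Module.FinitePresentation R M]
    (p : PrimeSpectrum A) (hp : p ∈ Module.freeLocus A (A ⊗[R] M)) :
    comap (algebraMap R A) p ∈ Module.freeLocus R M := by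
  let Rₚ := Localization.AtPrime (comap (algebraMap R A) p).asIdeal
  let Aₚ := Localization.AtPrime p.asIdeal
  rw [Module.mem_freeLocus_iff_tensor _ Aₚ] at hp
  rw [Module.mem_freeLocus_iff_tensor _ Rₚ]
  let algebra : Algebra Rₚ Aₚ := (Localization.localRingHom
    (comap (algebraMap R A) p).asIdeal p.asIdeal (algebraMap R A) rfl).toAlgebra
  have : IsScalarTower R Rₚ Aₚ := IsScalarTower.of_algebraMap_eq'
    (by simp [Rₚ, Aₚ, algebra, RingHom.algebraMap_toAlgebra, Localization.localRingHom,
        ← IsScalarTower.algebraMap_eq])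
  let e := AlgebraTensorModule.cancelBaseChange R Rₚ Aₚ Aₚ M ≪≫ₗ
    (AlgebraTensorModule.cancelBaseChange R A Aₚ Aₚ M).symm
  have hfree : Module.Free Aₚ (Aₚ ⊗[Rₚ] (Rₚ ⊗[R] M)) := .of_equiv e.symm
  have hflat : Module.Flat Rₚ Aₚ := by
    have := RingHom.Flat.localRingHom (f := algebraMap R A)
      (RingHom.flat_algebraMap_iff.mpr inferInstance) p.asIdeal
      (comap (algebraMap R A) p).asIdeal rfl
    exact this
  have hloc : IsLocalHom (algebraMap Rₚ Aₚ) :=
    Localization.isLocalHom_localRingHom _ _ _ rfl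
  have hff : Module.FaithfullyFlat Rₚ Aₚ := Module.FaithfullyFlat.of_flat_of_isLocalHom
  have hfl2 : Module.Flat Rₚ (Rₚ ⊗[R] M) := Module.Flat.of_flat_tensorProduct Rₚ _ Aₚ
  exact Module.free_of_flat_of_isLocalRing

end FreeLocus


section Smooth
variable (R S A : Type u) [CommRing R] [CommRing S] [CommRing A] [Algebra R S] [Algebra R A]
  [Module.Flat R S]

attribute [local instance] Algebra.TensorProduct.rightAlgebra

theorem flat_right : Module.Flat A (S ⊗[R] A) := by
  have : Algebra.IsPushout R A S (S ⊗[R] A) := Algebra.IsPushout.symm inferInstance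
  exact Module.Flat.isBaseChange (R := R) (S := A) (M := S) (S ⊗[R] A)
    (Algebra.IsPushout.out (R := R) (S := A) (R' := S) (S' := S ⊗[R] A))

theorem smoothLocus_comap [Algebra.FinitePresentation R A] (q' : PrimeSpectrum (S ⊗[R] A))
    (h : q' ∈ Algebra.smoothLocus S (S ⊗[R] A)) :
    PrimeSpectrum.comap (algebraMap A (S ⊗[R] A)) q' ∈ Algebra.smoothLocus R A := by
  have : Algebra.FinitePresentation S (S ⊗[R] A) := inferInstance
  have := flat_right R S A
  rw [Algebra.smoothLocus_eq_compl_support_inter] at h ⊢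
  obtain ⟨h1, h2⟩ := h
  refine ⟨?_, ?_⟩
  · exact notMem_support_comap (Algebra.H1Cotangent.map R S A (S ⊗[R] A)) (h1_key R S A) q' h1
  · have e := KaehlerDifferential.tensorKaehlerEquiv R S A (S ⊗[R] A)
    rw [← Module.freeLocus_congr e] at h2
    exact mem_freeLocus_comap q' h2

end Smooth


lemma localRingHom_formallySmooth_iff {R S : Type u} [CommRing R] [CommRing S] [Algebra R S]
    (q : Ideal S) [q.IsPrime] :
    (Localization.localRingHom (q.comap (algebraMap R S)) q (algebraMap R S)
      rfl).FormallySmooth ↔ Algebra.IsSmoothAt R q := by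
  have : q.LiesOver (q.comap (algebraMap R S)) := ⟨rfl⟩
  let := Localization.AtPrime.algebraOfLiesOver (q.comap (algebraMap R S)) q
  change Algebra.FormallySmooth (Localization.AtPrime (q.comap (algebraMap R S)))
      (Localization.AtPrime q) ↔ _
  exact Algebra.FormallySmooth.iff_restrictScalars.symm

attribute [local instance] Algebra.TensorProduct.rightAlgebra in
theorem stalkMap_Spec_smooth (R S A : Type u) [CommRing R] [CommRing S] [CommRing A]
    [Algebra R S] [Algebra R A] [Module.Flat R S] [Algebra.FinitePresentation R A]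
    (q' : PrimeSpectrum (S ⊗[R] A))
    (h : ((Spec.map (CommRingCat.ofHom (algebraMap S (S ⊗[R] A)))).stalkMap q').hom.FormallySmooth) :
    ((Spec.map (CommRingCat.ofHom (algebraMap R A))).stalkMap
      (q'.comap (algebraMap A (S ⊗[R] A)))).hom.FormallySmooth := by
  have e1 := RingHom.FormallySmooth.respectsIso.arrow_mk_iso_iff
    (Scheme.arrowStalkMapSpecIso (CommRingCat.ofHom (algebraMap S (S ⊗[R] A))) q')
  have e2 := RingHom.FormallySmooth.respectsIso.arrow_mk_iso_iff
    (Scheme.arrowStalkMapSpecIso (CommRingCat.ofHom (algebraMap R A))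
      (q'.comap (algebraMap A (S ⊗[R] A))))
  have h1 := localRingHom_formallySmooth_iff (R := S) (S := S ⊗[R] A) q'.asIdeal
  have h2 := localRingHom_formallySmooth_iff (R := R) (S := A)
    (q'.comap (algebraMap A (S ⊗[R] A))).asIdeal
  exact e2.mpr (h2.mpr (smoothLocus_comap R S A q' (h1.mp (e1.mp h))))


set_option backward.isDefEq.respectTransparency false in
/-- Stalk-level statement: if the base change `pullback.fst g f` of `f` along a flat `g` is formally
smooth at `x'`, then `f` is formally smooth at the image of `x'`. -/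
theorem stalkMap_formallySmooth_of_fst {X Y Y' : Scheme.{u}} (f : X ⟶ Y)
    [LocallyOfFinitePresentation f] (g : Y' ⟶ Y) [Flat g] (x' : ↑(pullback g f))
    (hx' : ((pullback.fst g f).stalkMap x').hom.FormallySmooth) :
      (f.stalkMap ((pullback.snd g f) x')).hom.FormallySmooth := by
  have hQ' := RingHom.FormallySmooth.respectsIso
  obtain ⟨W, hW, hsW, _⟩ := TopologicalSpace.Opens.isBasis_iff_nbhd.mp Y.isBasis_affineOpens
    (TopologicalSpace.Opens.mem_top <| f (pullback.snd g f x'))
  obtain ⟨U, hU, hxU, eU⟩ := TopologicalSpace.Opens.isBasis_iff_nbhd.mp X.isBasis_affineOpens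
    (show pullback.snd g f x' ∈ f ⁻¹ᵁ W from hsW)
  have hcond : g (pullback.fst g f x') = f (pullback.snd g f x') := by
    rw [← Scheme.Hom.comp_apply, ← Scheme.Hom.comp_apply, pullback.condition]
  obtain ⟨W', hW', hsW', eW'⟩ := TopologicalSpace.Opens.isBasis_iff_nbhd.mp
    Y'.isBasis_affineOpens (show pullback.fst g f x' ∈ g ⁻¹ᵁ W by
      change g (pullback.fst g f x') ∈ W; rw [hcond]; exact hsW)
  have hW : IsAffineOpen W := hW
  have hU : IsAffineOpen U := hU
  have hW' : IsAffineOpen W' := hW'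
  -- ring maps
  have hfp : (f.appLE W U eU).hom.FinitePresentation := f.finitePresentation_appLE hW hU eU
  have hfl : (g.appLE W W' eW').hom.Flat := g.flat_appLE hW hW' eW'
  algebraize [(f.appLE W U eU).hom, (g.appLE W W' eW').hom]
  have wU : Spec.map (CommRingCat.ofHom (algebraMap Γ(Y, W) Γ(X, U))) ≫ hW.fromSpec =
      hU.fromSpec ≫ f := hW.SpecMap_appLE_fromSpec f hU eU
  have wW' : Spec.map (CommRingCat.ofHom (algebraMap Γ(Y, W) Γ(Y', W'))) ≫ hW.fromSpec =
      hW'.fromSpec ≫ g := hW.SpecMap_appLE_fromSpec g hW' eW'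
  let ι₀ := pullback.map (Spec.map (CommRingCat.ofHom (algebraMap Γ(Y, W) Γ(Y', W'))))
    (Spec.map (CommRingCat.ofHom (algebraMap Γ(Y, W) Γ(X, U)))) g f hW'.fromSpec hU.fromSpec
    hW.fromSpec wW' wU
  let e := pullbackSpecIso Γ(Y, W) Γ(Y', W') Γ(X, U)
  let ι := e.inv ≫ ι₀
  have hι : x' ∈ Set.range ι := by
    have h0 : x' ∈ Set.range ι₀ := by
      rw [Scheme.Pullback.range_map]
      refine ⟨?_, ?_⟩
      · change pullback.fst g f x' ∈ Set.range hW'.fromSpec
        rw [hW'.range_fromSpec]; exact hsW'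
      · change pullback.snd g f x' ∈ Set.range hU.fromSpec
        rw [hU.range_fromSpec]; exact hxU
    obtain ⟨z, rfl⟩ := h0
    refine ⟨e.hom z, ?_⟩
    simp [ι]
  obtain ⟨z', rfl⟩ := hι
  let := Algebra.TensorProduct.rightAlgebra (R := Γ(Y, W)) (A := Γ(Y', W')) (B := Γ(X, U))
  have sqa : ι ≫ pullback.fst g f = Spec.map (CommRingCat.ofHom
      (algebraMap Γ(Y', W') (Γ(Y', W') ⊗[Γ(Y, W)] Γ(X, U)))) ≫ hW'.fromSpec := by
    simp only [ι, ι₀, Category.assoc]
    unfold pullback.map
    rw [pullback.lift_fst, ← Category.assoc, pullbackSpecIso_inv_fst]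
    rfl
  have sqsnd : ι ≫ pullback.snd g f = Spec.map (CommRingCat.ofHom
      (algebraMap Γ(X, U) (Γ(Y', W') ⊗[Γ(Y, W)] Γ(X, U)))) ≫ hU.fromSpec := by
    simp only [ι, ι₀, Category.assoc]
    unfold pullback.map
    rw [pullback.lift_snd, ← Category.assoc, pullbackSpecIso_inv_snd]
    rfl
  rw [← Groth.Agent.Helper3.UnramBC.stalkMap_iff_of_square hQ' (pullback.fst g f) _ ι
    hW'.fromSpec sqa z'] at hx'
  have hpt : pullback.snd g f (ι z') = hU.fromSpec
      ((Spec.map (CommRingCat.ofHom
        (algebraMap Γ(X, U) (Γ(Y', W') ⊗[Γ(Y, W)] Γ(X, U))))) z') := by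
    have : (ι ≫ pullback.snd g f) z' = (Spec.map (CommRingCat.ofHom
        (algebraMap Γ(X, U) (Γ(Y', W') ⊗[Γ(Y, W)] Γ(X, U)))) ≫ hU.fromSpec) z' := by
      rw [sqsnd]
    exact this
  rw [hQ'.arrow_mk_iso_iff (f.arrowStalkMapIsoOfEq hpt),
    ← Groth.Agent.Helper3.UnramBC.stalkMap_iff_of_square hQ' f _ hU.fromSpec hW.fromSpec wU.symm]
  exact stalkMap_Spec_smooth Γ(Y, W) Γ(Y', W') Γ(X, U) z' hx'


/-- smoothness on a neighbourhood is formal smoothness of the stalk map. -/
theorem smooth_nbhd_iff {X Y : Scheme.{u}} (f : X ⟶ Y) [LocallyOfFinitePresentation f] (x : X) :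
    (∃ U : X.Opens, x ∈ U ∧ Smooth (U.ι ≫ f)) ↔ (f.stalkMap x).hom.FormallySmooth := by
  constructor
  · rintro ⟨U, hx, hU⟩
    rw [← Groth.Agent.Helper3.StalkNbhd.stalkMap_ι_comp_iff RingHom.FormallySmooth.respectsIso
      f U x hx]
    have := (U.ι ≫ f).smoothLocus_eq_top
    have hm : (⟨x, hx⟩ : U) ∈ (U.ι ≫ f).smoothLocus := by rw [this]; trivial
    exact hm
  · intro h
    refine ⟨f.smoothLocus, h, ?_⟩
    rw [← Scheme.Hom.smoothLocus_eq_top_iff, ← Scheme.Hom.preimage_smoothLocus_eq]
    simp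

set_option backward.isDefEq.respectTransparency false in
theorem stalkMap_formallySmooth_of_isPullback {X Y X' Y' : Scheme.{u}} {f : X ⟶ Y} {g : Y' ⟶ Y}
    {fst : X' ⟶ X} {snd : X' ⟶ Y'} (h : IsPullback fst snd f g)
    [LocallyOfFinitePresentation f] [Flat g] (x' : X')
    (hs : (snd.stalkMap x').hom.FormallySmooth) : (f.stalkMap (fst x')).hom.FormallySmooth := by
  have hQ' := RingHom.FormallySmooth.respectsIso
  let e := h.flip.isoPullback
  have w1 : e.hom ≫ pullback.fst g f = snd ≫ 𝟙 _ := by simp [e]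
  have w2 : e.hom ≫ pullback.snd g f = fst := by simp [e]
  rw [Groth.Agent.Helper3.UnramBC.stalkMap_iff_of_square hQ' (pullback.fst g f) snd e.hom (𝟙 _)
    w1 x'] at hs
  have key := stalkMap_formallySmooth_of_fst f g (e.hom x') hs
  have hpt : fst x' = pullback.snd g f (e.hom x') := by
    rw [← Scheme.Hom.comp_apply, w2]
  rw [hQ'.arrow_mk_iso_iff (f.arrowStalkMapIsoOfEq hpt)]
  exact key


instance flat_fromSpecStalk (X : Scheme.{u}) (x : X) : Flat (X.fromSpecStalk x) := by
  obtain ⟨U, hU, hxU, -⟩ := TopologicalSpace.Opens.isBasis_iff_nbhd.mp X.isBasis_affineOpens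
    (TopologicalSpace.Opens.mem_top x)
  have hU : IsAffineOpen U := hU
  rw [← hU.fromSpecStalk_eq_fromSpecStalk hxU, IsAffineOpen.fromSpecStalk]
  have : Flat (Spec.map (X.presheaf.germ U x hxU)) := by
    rw [HasRingHomProperty.Spec_iff (P := @Flat)]
    letI : Algebra Γ(X, U) (X.presheaf.stalk x) := (X.presheaf.germ U x hxU).hom.toAlgebra
    haveI := hU.isLocalization_stalk ⟨x, hxU⟩
    exact RingHom.flat_algebraMap_iff.mpr
      (IsLocalization.flat _ (hU.primeIdealOf ⟨x, hxU⟩).asIdeal.primeCompl)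
  infer_instance

set_option backward.isDefEq.respectTransparency false in
theorem stalkMap_formallySmooth_of_isPullback_of_flatAt {X Y X' Y' : Scheme.{u}} {f : X ⟶ Y}
    {g : Y' ⟶ Y} {fst : X' ⟶ X} {snd : X' ⟶ Y'} (h : IsPullback fst snd f g)
    [LocallyOfFinitePresentation f] (x' : X') (hg : (g.stalkMap (snd x')).hom.Flat)
    (hs : ∃ U' : X'.Opens, x' ∈ U' ∧ Smooth (U'.ι ≫ snd)) :
    (f.stalkMap (fst x')).hom.FormallySmooth := by
  obtain ⟨U', hxU', hU'⟩ := hs
  have hQ' := RingHom.FormallySmooth.respectsIso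
  let y' := snd x'
  let j := Y'.fromSpecStalk y'
  have hsnd : LocallyOfFinitePresentation snd :=
    MorphismProperty.of_isPullback (P := @LocallyOfFinitePresentation) h inferInstance
  have hflat : Flat (j ≫ g) := by
    have e : j ≫ g = Spec.map (g.stalkMap y') ≫ Y.fromSpecStalk (g y') :=
      (Scheme.SpecMap_stalkMap_fromSpecStalk g (x := y')).symm
    rw [e]
    have : Flat (Spec.map (g.stalkMap y')) := by
      rw [HasRingHomProperty.Spec_iff (P := @Flat)]
      exact hg
    infer_instance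
  let p1 := pullback.fst snd j
  let p2 := pullback.snd snd j
  have sq1 : IsPullback p1 p2 snd j := IsPullback.of_hasPullback snd j
  have sq : IsPullback (p1 ≫ fst) p2 f (j ≫ g) := sq1.paste_horiz h
  obtain ⟨x'', hx1, hx2⟩ := Scheme.Pullback.exists_preimage_pullback (f := snd) (g := j) x'
    (IsLocalRing.closedPoint _) (by simp [j, y'])
  -- smoothness near x''
  have sqV : IsPullback (p1 ∣_ U') ((p1 ⁻¹ᵁ U').ι ≫ p2) (U'.ι ≫ snd) j :=
    (isPullback_morphismRestrict p1 U').paste_vert sq1
  have hV : Smooth ((p1 ⁻¹ᵁ U').ι ≫ p2) :=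
    MorphismProperty.of_isPullback (P := @Smooth) sqV hU'
  have hp2 : LocallyOfFinitePresentation p2 :=
    MorphismProperty.of_isPullback (P := @LocallyOfFinitePresentation) sq1 hsnd
  have hx''V : x'' ∈ p1 ⁻¹ᵁ U' := by
    change p1 x'' ∈ U'
    rw [hx1]; exact hxU'
  have hs'' : (p2.stalkMap x'').hom.FormallySmooth :=
    (smooth_nbhd_iff p2 x'').mp ⟨_, hx''V, hV⟩
  have key := stalkMap_formallySmooth_of_isPullback sq x'' hs''
  have hpt : fst x' = (p1 ≫ fst) x'' := by
    rw [Scheme.Hom.comp_apply, hx1]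
  rw [hQ'.arrow_mk_iso_iff (f.arrowStalkMapIsoOfEq hpt)]
  exact key


end Groth.Agent.Helper2.PtDesc
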