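import Mathlib
import Groth.Agent.Helper2.PtDesc
import Groth.Agent.Helper3.StalkTower
open CategoryTheory CategoryTheory.Limits AlgebraicGeometry
universe u

namespace Groth.Agent.Helper2.FlatPt
open Groth.Agent.Helper2 Groth.Agent.Helper3

set_option backward.isDefEq.respectTransparency false in
/-- base change preserves flatness at a point. -/
theorem flat_stalk_of_isPullback {F₂ F₁ X₁ X₀ : Scheme.{u}}
    {v : F₂ ⟶ F₁} {d' : F₂ ⟶ X₁} {d : F₁ ⟶ X₀} {u : X₁ ⟶ X₀}
    (h : IsPullback v d' d u) (x : F₂) (hd : (d.stalkMap (v x)).hom.Flat) :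
    (d'.stalkMap x).hom.Flat := by
  have hQ' := RingHom.Flat.respectsIso
  let y := v x
  let j := F₁.fromSpecStalk y
  have hflat : Flat (j ≫ d) := by
    have e : j ≫ d = Spec.map (d.stalkMap y) ≫ X₀.fromSpecStalk (d y) :=
      (Scheme.SpecMap_stalkMap_fromSpecStalk d (x := y)).symm
    rw [e]
    have : Flat (Spec.map (d.stalkMap y)) := by
      rw [HasRingHomProperty.Spec_iff (P := @Flat)]
      exact hd
    infer_instance
  let p1 := pullback.fst v j
  let p2 := pullback.snd v j
  have sq1 : IsPullback p1 p2 v j := IsPullback.of_hasPullback v j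
  have sq : IsPullback p2 (p1 ≫ d') (j ≫ d) u := sq1.flip.paste_vert h
  have hfl1 : Flat (p1 ≫ d') := MorphismProperty.of_isPullback (P := @Flat) sq hflat
  have hfl2 : Flat p1 := MorphismProperty.of_isPullback (P := @Flat) sq1.flip inferInstance
  obtain ⟨x'', hx1, hx2⟩ := Scheme.Pullback.exists_preimage_pullback (f := v) (g := j) x
    (IsLocalRing.closedPoint _) (by simp [j, y])
  have key := StalkTower.flat_stalk_of_comp p1 d' x'' (Flat.stalkMap p1 x'')
    (Flat.stalkMap (p1 ≫ d') x'')
  rw [hQ'.arrow_mk_iso_iff (d'.arrowStalkMapIsoOfEq hx1.symm)]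
  exact key

end Groth.Agent.Helper2.FlatPt
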