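import Mathlib
import Groth.Prelude
import Groth.Agent.Helper2.FlatStageLim

set_option autoImplicit false
open Function TensorProduct CategoryTheory CategoryTheory.Limits AlgebraicGeometry TopologicalSpace
universe u

namespace Groth.Agent.Helper2.FlatStageCore

open Groth.Agent.Helper2.FlatStageLim Groth.Agent.Lead.LimPullback Groth.Agent.Lead.LimHom

variable {I : Type u} [SmallCategory I] [IsCofiltered I]
    (D : I ⥤ Scheme.{u}) (c : Limits.Cone D) (hc : Limits.IsLimit c)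
    [∀ (i j : I) (φ : i ⟶ j), IsAffineHom (D.map φ)] (i₀ : I)

include hc in
set_option backward.isDefEq.respectTransparency false in
/-- **Core**: a ring map from a finitely presented `Γ(Y₀, V₀)`-algebra to the sections of the limit
over the preimage of `V₀` factors through the sections at a stage, and then at all later stages. -/
theorem exists_stage_ringHom {Y₀ Y : Scheme.{u}} (g₀ : Y₀ ⟶ D.obj i₀) (g : Y ⟶ c.pt) (qY : Y ⟶ Y₀)
    (hY : IsPullback qY g g₀ (c.π.app i₀)) {V₀ : Y₀.Opens} (hV₀ : IsAffineOpen V₀)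
    (B' : Type u) [CommRing B'] [Algebra Γ(Y₀, V₀) B'] [Algebra.FinitePresentation Γ(Y₀, V₀) B']
    (ψ : B' →+* Γ(Y, qY ⁻¹ᵁ V₀))
    (hψ : ψ.comp (algebraMap Γ(Y₀, V₀) B') = (qY.appLE V₀ (qY ⁻¹ᵁ V₀) le_rfl).hom) :
    ∃ j₀ : Over i₀, ∀ (j : Over i₀) (_ : j ⟶ j₀),
      ∃ θ : B' →+* Γ(pullback g₀ (D.map j.hom), (pullback.fst g₀ (D.map j.hom)) ⁻¹ᵁ V₀),
        θ.comp (algebraMap Γ(Y₀, V₀) B') =
          ((pullback.fst g₀ (D.map j.hom)).appLE V₀ _ le_rfl).hom ∧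
        ∀ (vY : Y ⟶ pullback g₀ (D.map j.hom)) (h1 : vY ≫ pullback.fst g₀ (D.map j.hom) = qY)
          (_ : vY ≫ pullback.snd g₀ (D.map j.hom) = g ≫ c.π.app j.left),
          (vY.appLE ((pullback.fst g₀ (D.map j.hom)) ⁻¹ᵁ V₀) (qY ⁻¹ᵁ V₀)
            (by rw [← Scheme.Hom.comp_preimage, h1])).hom.comp θ = ψ := by
  haveI hA' : ∀ {i j : I} (f : i ⟶ j), IsAffineHom (D.map f) := fun f => inferInstance
  haveI hqYaff : IsAffineHom qY :=
    MorphismProperty.of_isPullback hY.flip (isAffineHom_π_app D c hc i₀)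
  have hV : IsAffineOpen (qY ⁻¹ᵁ V₀) := hV₀.preimage qY
  obtain ⟨zT, hzT⟩ : ∃ zT : Spec (CommRingCat.of B') ⟶ (V₀ : Scheme),
      zT = Spec.map (CommRingCat.ofHom (algebraMap Γ(Y₀, V₀) B')) ≫ hV₀.isoSpec.inv := ⟨_, rfl⟩
  haveI : LocallyOfFinitePresentation zT := by
    haveI : LocallyOfFinitePresentation
        (Spec.map (CommRingCat.ofHom (algebraMap Γ(Y₀, V₀) B'))) := by
      rw [HasRingHomProperty.Spec_iff (P := @LocallyOfFinitePresentation)]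
      exact RingHom.finitePresentation_algebraMap.mpr inferInstance
    rw [hzT]
    infer_instance
  obtain ⟨xi, hxi⟩ : ∃ xi : (V₀ : Scheme) ⟶ D.obj i₀, xi = Scheme.Opens.ι V₀ ≫ g₀ := ⟨_, rfl⟩
  haveI : IsAffine (V₀ : Scheme) := hV₀
  have hVpb : IsPullback ((qY ⁻¹ᵁ V₀).ι ≫ g) (qY ∣_ V₀) (c.π.app i₀) xi := by
    rw [hxi]; exact isPullback_restrict hY V₀
  obtain ⟨aV, haVdef⟩ : ∃ aV : ((qY ⁻¹ᵁ V₀ : Y.Opens) : Scheme) ⟶ Spec (CommRingCat.of B'),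
      aV = (qY ⁻¹ᵁ V₀).toSpecΓ ≫ Spec.map (CommRingCat.ofHom ψ) := ⟨_, rfl⟩
  have haV : aV ≫ zT = qY ∣_ V₀ := by
    have h1 : CommRingCat.ofHom (algebraMap Γ(Y₀, V₀) B') ≫ CommRingCat.ofHom ψ =
        qY.appLE V₀ (qY ⁻¹ᵁ V₀) le_rfl := by
      ext b
      exact congrArg (fun φ => φ b) hψ
    rw [haVdef, hzT, Category.assoc, ← Spec.map_comp_assoc, h1,
      Scheme.Opens.toSpecΓ_SpecMap_appLE_assoc, hV₀.toSpecΓ_isoSpec_inv, Category.comp_id,
      Scheme.Hom.resLE_eq_morphismRestrict]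
  obtain ⟨j₀, gj₀, hj1, hj2⟩ := exists_hom_descend' D c hc i₀ xi zT (hVpb.isoPullback.inv ≫ aV) (by
    rw [Category.assoc, haV]; exact hVpb.isoPullback_inv_snd)
  refine ⟨j₀, fun j u => ?_⟩
  -- the morphism at the stage `j`
  obtain ⟨gj, hgjdef⟩ : ∃ gj : pullback (D.map j.hom) xi ⟶ Spec (CommRingCat.of B'),
      gj = (pbDiag D i₀ xi).map u ≫ gj₀ := ⟨_, rfl⟩
  have hgj2 : gj ≫ zT = pullback.snd (D.map j.hom) xi := by
    rw [hgjdef, Category.assoc, hj2]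
    simp [pbDiag]
  have hgj1 : ∀ π' : pullback (c.π.app i₀) xi ⟶ pullback (D.map j.hom) xi,
      π' ≫ pullback.fst (D.map j.hom) xi = pullback.fst (c.π.app i₀) xi ≫ c.π.app j.left →
      π' ≫ pullback.snd (D.map j.hom) xi = pullback.snd (c.π.app i₀) xi →
      π' ≫ gj = hVpb.isoPullback.inv ≫ aV := by
    intro π' hπ1 hπ2
    rw [hgjdef, ← Category.assoc]
    apply hj1
    · rw [Category.assoc]
      have : (pbDiag D i₀ xi).map u ≫ pullback.fst (D.map j₀.hom) xi =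
          pullback.fst (D.map j.hom) xi ≫ D.map u.left := by simp [pbDiag]
      rw [this, ← Category.assoc, hπ1, Category.assoc, c.w]
    · rw [Category.assoc]
      have : (pbDiag D i₀ xi).map u ≫ pullback.snd (D.map j₀.hom) xi =
          pullback.snd (D.map j.hom) xi := by simp [pbDiag]
      rw [this, hπ2]
  obtain ⟨pY, gY, hYj, hpYdef, hgYdef⟩ : ∃ (pY : pullback g₀ (D.map j.hom) ⟶ Y₀)
      (gY : pullback g₀ (D.map j.hom) ⟶ D.obj j.left), IsPullback pY gY g₀ (D.map j.hom) ∧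
      pY = pullback.fst g₀ (D.map j.hom) ∧ gY = pullback.snd g₀ (D.map j.hom) :=
    ⟨_, _, IsPullback.of_hasPullback _ _, rfl, rfl⟩
  rw [← hpYdef, ← hgYdef]
  haveI hpYaff : IsAffineHom pY := MorphismProperty.of_isPullback hYj.flip (hA' j.hom)
  have hVj : IsAffineOpen (pY ⁻¹ᵁ V₀) := hV₀.preimage pY
  have hVjpb : IsPullback ((pY ⁻¹ᵁ V₀).ι ≫ gY) (pY ∣_ V₀) (D.map j.hom) xi := by
    rw [hxi]; exact isPullback_restrict hYj V₀
  obtain ⟨mj, hmjdef⟩ : ∃ mj : ((pY ⁻¹ᵁ V₀ : (pullback g₀ (D.map j.hom)).Opens) : Scheme) ⟶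
      Spec (CommRingCat.of B'), mj = hVjpb.isoPullback.hom ≫ gj := ⟨_, rfl⟩
  obtain ⟨θr, hθr⟩ : ∃ θr : CommRingCat.of B' ⟶ Γ(pullback g₀ (D.map j.hom), pY ⁻¹ᵁ V₀),
      (pY ⁻¹ᵁ V₀).toSpecΓ ≫ Spec.map θr = mj :=
    ⟨Spec.preimage (hVj.isoSpec.inv ≫ mj), by
      rw [Spec.map_preimage, ← hVj.isoSpec_hom, Iso.hom_inv_id_assoc]⟩
  haveI : IsIso (pY ⁻¹ᵁ V₀).toSpecΓ := by rw [← hVj.isoSpec_hom]; infer_instance
  haveI : IsIso (qY ⁻¹ᵁ V₀).toSpecΓ := by rw [← hV.isoSpec_hom]; infer_instance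
  have hθ₀ : CommRingCat.ofHom (algebraMap Γ(Y₀, V₀) B') ≫ θr =
      pY.appLE V₀ (pY ⁻¹ᵁ V₀) le_rfl := by
    apply Spec.map_injective
    rw [← cancel_epi (pY ⁻¹ᵁ V₀).toSpecΓ, Spec.map_comp, ← Category.assoc, hθr,
      Scheme.Opens.toSpecΓ_SpecMap_appLE, Scheme.Hom.resLE_eq_morphismRestrict, hmjdef,
      Category.assoc]
    have h3 : gj ≫ Spec.map (CommRingCat.ofHom (algebraMap Γ(Y₀, V₀) B')) =
        pullback.snd (D.map j.hom) xi ≫ Scheme.Opens.toSpecΓ V₀ := by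
      rw [← hgj2, hzT, Category.assoc, Category.assoc, hV₀.isoSpec_inv_toSpecΓ]
      erw [Category.comp_id]
    rw [h3, ← Category.assoc, hVjpb.isoPullback_hom_snd]
  refine ⟨θr.hom, ?_, ?_⟩
  · ext b
    exact congrArg (fun φ => φ.hom b) hθ₀
  · intro vY hvY1 hvY2
    have eVV : qY ⁻¹ᵁ V₀ ≤ vY ⁻¹ᵁ (pY ⁻¹ᵁ V₀) := by
      rw [← Scheme.Hom.comp_preimage, hvY1]
    have hkey : (vY.resLE (pY ⁻¹ᵁ V₀) (qY ⁻¹ᵁ V₀) eVV) ≫ mj = aV := by
      have h4 := hgj1 (hVpb.isoPullback.inv ≫ vY.resLE (pY ⁻¹ᵁ V₀) (qY ⁻¹ᵁ V₀) eVV ≫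
        hVjpb.isoPullback.hom) (by
          rw [← hVpb.isoPullback_inv_fst]
          simp only [Category.assoc]
          congr 1
          rw [hVjpb.isoPullback_hom_fst, Scheme.Hom.resLE_comp_ι_assoc, hvY2]) (by
          rw [← hVpb.isoPullback_inv_snd]
          simp only [Category.assoc]
          congr 1
          rw [hVjpb.isoPullback_hom_snd, ← Scheme.Hom.resLE_eq_morphismRestrict,
            Scheme.Hom.resLE_comp_resLE, resLE_congr_hom hvY1,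
            Scheme.Hom.resLE_eq_morphismRestrict])
      rw [hmjdef]
      have h5 := congrArg (fun m => hVpb.isoPullback.hom ≫ m) h4
      simpa using h5
    have h6 : θr ≫ vY.appLE (pY ⁻¹ᵁ V₀) (qY ⁻¹ᵁ V₀) eVV = CommRingCat.ofHom ψ := by
      apply Spec.map_injective
      rw [← cancel_epi (qY ⁻¹ᵁ V₀).toSpecΓ, Spec.map_comp,
        Scheme.Opens.toSpecΓ_SpecMap_appLE_assoc, hθr, hkey, haVdef]
    ext b
    exact congrArg (fun φ => φ.hom b) h6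

end Groth.Agent.Helper2.FlatStageCore
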