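import Mathlib
import Groth.Prelude
import Groth.Agent.Helper2.FlatStageDict

set_option autoImplicit false
open Function TensorProduct CategoryTheory CategoryTheory.Limits AlgebraicGeometry TopologicalSpace
universe u

namespace Groth.Agent.Helper2.FlatStageDict

open Groth.Agent.Lead.ModDict Groth.Agent.Helper4 Groth.Agent.Lead.StalkPull Scheme.Modules

set_option backward.isDefEq.respectTransparency false in
/-- **Dictionary, global form**: flatness of a pulled-back module on an affine open, in terms of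
sections. -/
theorem isFlatOver_pullback_iff {X' Y' X : Scheme.{u}} (f' : X' ⟶ Y') (p : X' ⟶ X)
    (F : X.Modules) [F.IsQuasicoherent]
    {V' : Y'.Opens} (hV' : IsAffineOpen V') {W : X.Opens} (hW : IsAffineOpen W)
    {W' : X'.Opens} (hW' : IsAffineOpen W')
    (e1 : W' ≤ f' ⁻¹ᵁ V') (e2 : W' ≤ p ⁻¹ᵁ W) :
    letI := (f'.appLE V' W' e1).hom.toAlgebra
    letI := (p.appLE W W' e2).hom.toAlgebra
    (∀ x' ∈ W', FlatMod.IsFlatOverAt f' ((Scheme.Modules.pullback p).obj F) x') ↔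
      Module.Flat Γ(Y', V') (Γ(X', W') ⊗[Γ(X, W)] Γ(F, W)) := by
  letI a1 : Algebra Γ(Y', V') Γ(X', W') := (f'.appLE V' W' e1).hom.toAlgebra
  letI a2 : Algebra Γ(X, W) Γ(X', W') := (p.appLE W W' e2).hom.toAlgebra
  haveI := isQuasicoherent_pullbackObj p F
  letI modR : Module Γ(Y', V') Γ((Scheme.Modules.pullback p).obj F, W') :=
    Module.compHom _ (f'.appLE V' W' e1).hom
  haveI : IsScalarTower Γ(Y', V') Γ(X', W') Γ((Scheme.Modules.pullback p).obj F, W') :=
    IsScalarTower.of_algebraMap_smul fun _ _ => rfl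
  rw [Groth.Agent.Helper5.AffFlat.flat_sections_iff f' ((Scheme.Modules.pullback p).obj F) hV' hW'
    e1]
  let e₂ : Γ(X', W') ⊗[Γ(X, W)] ((secF hW).obj F) ≃ₗ[Γ(X', W')]
      Γ((Scheme.Modules.pullback p).obj F, W') :=
    (secFPullbackIso p hW hW' e2 F).toLinearEquiv.symm ≪≫ₗ
      (secFEquiv hW' ((Scheme.Modules.pullback p).obj F)).symm
  let e₃ : Γ(X', W') ⊗[Γ(X, W)] Γ(F, W) ≃ₗ[Γ(X', W')] Γ(X', W') ⊗[Γ(X, W)] ((secF hW).obj F) :=
    AlgebraTensorModule.congr (LinearEquiv.refl _ _) (secFEquiv hW F)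
  exact ⟨fun h => Module.Flat.of_linearEquiv ((e₃ ≪≫ₗ e₂).restrictScalars Γ(Y', V')),
    fun h => Module.Flat.of_linearEquiv ((e₃ ≪≫ₗ e₂).symm.restrictScalars Γ(Y', V'))⟩

end Groth.Agent.Helper2.FlatStageDict
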