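import Mathlib
import Groth.Prelude
import Groth.Agent.Helper2.FlatStageCore
import Groth.Agent.Helper2.FlatStageDictG

set_option autoImplicit false
open Function TensorProduct CategoryTheory CategoryTheory.Limits AlgebraicGeometry TopologicalSpace
universe u

namespace Groth.Agent.Helper2.FlatStageGlob

open Groth.Agent.Helper2.FlatStageLim Groth.Agent.Helper2.FlatStageCore

variable {I : Type u} [SmallCategory I] [IsCofiltered I]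
    (D : I ⥤ Scheme.{u}) (c : Limits.Cone D) (hc : Limits.IsLimit c)
    [∀ (i j : I) (φ : i ⟶ j), IsAffineHom (D.map φ)] (i₀ : I)

include hc in
set_option backward.isDefEq.respectTransparency false in
/-- flatness over an affine chart of the limit descends to a stage, and holds at later stages -/
theorem exists_stage_of_isFlatOver_affine
    {X₀ Y₀ : Scheme.{u}} (f₀ : X₀ ⟶ Y₀) (g₀ : Y₀ ⟶ D.obj i₀) [LocallyOfFinitePresentation f₀]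
    (F₀ : X₀.Modules) [F₀.IsQuasicoherent]
    (hF₀ : SheafOfModules.IsFinitePresentation (R := X₀.ringCatSheaf) F₀)
    {X Y : Scheme.{u}} (f : X ⟶ Y) (g : Y ⟶ c.pt) (qY : Y ⟶ Y₀) (qX : X ⟶ X₀)
    (hY : IsPullback qY g g₀ (c.π.app i₀)) (hX : IsPullback qX f f₀ qY)
    {V₀ : Y₀.Opens} (hV₀ : IsAffineOpen V₀) {W₀ : X₀.Opens} (hW₀ : IsAffineOpen W₀)
    (e₀ : W₀ ≤ f₀ ⁻¹ᵁ V₀)
    (hflat : ∀ x : X, qX x ∈ W₀ →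
      FlatMod.IsFlatOverAt f ((Scheme.Modules.pullback qX).obj F₀) x) :
    ∃ j₀ : Over i₀, ∀ (j : Over i₀) (_ : j ⟶ j₀)
      (x' : ↥(pullback f₀ (pullback.fst g₀ (D.map j.hom)))),
      pullback.fst f₀ (pullback.fst g₀ (D.map j.hom)) x' ∈ W₀ →
      FlatMod.IsFlatOverAt (pullback.snd f₀ (pullback.fst g₀ (D.map j.hom)))
        ((Scheme.Modules.pullback (pullback.fst f₀ (pullback.fst g₀ (D.map j.hom)))).obj F₀) x' := by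
  haveI hA' : ∀ {i j : I} (f : i ⟶ j), IsAffineHom (D.map f) := fun f => inferInstance
  -- the limit stage
  haveI hqYaff : IsAffineHom qY :=
    MorphismProperty.of_isPullback hY.flip (isAffineHom_π_app D c hc i₀)
  have hV : IsAffineOpen (qY ⁻¹ᵁ V₀) := hV₀.preimage qY
  obtain ⟨W, hWdef⟩ : ∃ W : X.Opens, W = qX ⁻¹ᵁ W₀ ⊓ f ⁻¹ᵁ (qY ⁻¹ᵁ V₀) := ⟨_, rfl⟩
  obtain ⟨hW, hpo⟩ := stage_pushout hX hV₀ hW₀ e₀ hV le_rfl hWdef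
  have eW1 : W ≤ qX ⁻¹ᵁ W₀ := by rw [hWdef]; exact inf_le_left
  have eW2 : W ≤ f ⁻¹ᵁ (qY ⁻¹ᵁ V₀) := by rw [hWdef]; exact inf_le_right
  -- rings downstairs
  letI aB₀C₀ : Algebra Γ(Y₀, V₀) Γ(X₀, W₀) := (f₀.appLE V₀ W₀ e₀).hom.toAlgebra
  have hfp : (f₀.appLE V₀ W₀ e₀).hom.FinitePresentation :=
    HasRingHomProperty.appLE @LocallyOfFinitePresentation f₀ inferInstance ⟨V₀, hV₀⟩ ⟨W₀, hW₀⟩ e₀
  haveI : Algebra.FinitePresentation Γ(Y₀, V₀) Γ(X₀, W₀) := hfp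
  haveI : Module.FinitePresentation Γ(X₀, W₀) Γ(F₀, W₀) :=
    Groth.Agent.Helper4.FPGlue.fp_sections F₀ hF₀ hW₀
  letI mB₀M₀ : Module Γ(Y₀, V₀) Γ(F₀, W₀) := Module.compHom _ (f₀.appLE V₀ W₀ e₀).hom
  haveI tM₀ : IsScalarTower Γ(Y₀, V₀) Γ(X₀, W₀) Γ(F₀, W₀) :=
    IsScalarTower.of_algebraMap_smul fun _ _ => rfl
  -- rings at the limit stage
  letI aB₀B : Algebra Γ(Y₀, V₀) Γ(Y, qY ⁻¹ᵁ V₀) := (qY.appLE V₀ (qY ⁻¹ᵁ V₀) le_rfl).hom.toAlgebra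
  letI aBC : Algebra Γ(Y, qY ⁻¹ᵁ V₀) Γ(X, W) := (f.appLE (qY ⁻¹ᵁ V₀) W eW2).hom.toAlgebra
  letI aC₀C : Algebra Γ(X₀, W₀) Γ(X, W) := (qX.appLE W₀ W eW1).hom.toAlgebra
  letI aB₀C : Algebra Γ(Y₀, V₀) Γ(X, W) :=
    ((qX.appLE W₀ W eW1).hom.comp (f₀.appLE V₀ W₀ e₀).hom).toAlgebra
  haveI tB₀C₀C : IsScalarTower Γ(Y₀, V₀) Γ(X₀, W₀) Γ(X, W) :=
    IsScalarTower.of_algebraMap_eq (fun b => rfl)
  haveI tB₀BC : IsScalarTower Γ(Y₀, V₀) Γ(Y, qY ⁻¹ᵁ V₀) Γ(X, W) :=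
    IsScalarTower.of_algebraMap_eq (fun b => by
      change (qX.appLE W₀ W eW1) ((f₀.appLE V₀ W₀ e₀) b) =
        (f.appLE (qY ⁻¹ᵁ V₀) W eW2) ((qY.appLE V₀ (qY ⁻¹ᵁ V₀) le_rfl) b)
      have := congrArg (fun φ => φ.hom b) hpo.w
      exact this)
  haveI hpush : Algebra.IsPushout Γ(Y₀, V₀) Γ(Y, qY ⁻¹ᵁ V₀) Γ(X₀, W₀) Γ(X, W) :=
    CommRingCat.isPushout_iff_isPushout.mp hpo.flip
  have hflat' := (FlatStageDict.isFlatOver_pullback_iff f qX F₀ hV hW₀ hW eW2 eW1).mp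
    (fun x hx => hflat x (eW1 hx))
  obtain ⟨B', _, _, _, ψ, hstage⟩ := FlatStageAlg.exists_fp_global (B₀ := Γ(Y₀, V₀))
    (C₀ := Γ(X₀, W₀)) Γ(F₀, W₀) (B := Γ(Y, qY ⁻¹ᵁ V₀)) (C := Γ(X, W)) hflat'
  obtain ⟨j₀, hj₀⟩ := exists_stage_ringHom D c hc i₀ g₀ g qY hY hV₀ B' ψ.toRingHom (by
    ext b
    exact ψ.commutes b)
  refine ⟨j₀, fun j u x' hx' => ?_⟩
  obtain ⟨θ, hθ, -⟩ := hj₀ j u
  have hYj : IsPullback (pullback.fst g₀ (D.map j.hom)) (pullback.snd g₀ (D.map j.hom)) g₀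
      (D.map j.hom) := IsPullback.of_hasPullback _ _
  generalize pullback.snd g₀ (D.map j.hom) = gY at hYj
  generalize pullback.fst g₀ (D.map j.hom) = pY at hYj θ hθ x' hx' ⊢
  have hXj : IsPullback (pullback.fst f₀ pY) (pullback.snd f₀ pY) f₀ pY :=
    IsPullback.of_hasPullback _ _
  generalize pullback.snd f₀ pY = fj at hXj ⊢
  generalize pullback.fst f₀ pY = pX at hXj hx' ⊢
  haveI hpYaff : IsAffineHom pY := MorphismProperty.of_isPullback hYj.flip (hA' j.hom)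
  have hVj : IsAffineOpen (pY ⁻¹ᵁ V₀) := hV₀.preimage pY
  obtain ⟨Wj, hWjdef⟩ : ∃ Wj : (pullback f₀ pY).Opens, Wj = pX ⁻¹ᵁ W₀ ⊓ fj ⁻¹ᵁ (pY ⁻¹ᵁ V₀) :=
    ⟨_, rfl⟩
  obtain ⟨hWj, hpoj⟩ := stage_pushout hXj hV₀ hW₀ e₀ hVj le_rfl hWjdef
  have eWj1 : Wj ≤ pX ⁻¹ᵁ W₀ := by rw [hWjdef]; exact inf_le_left
  have eWj2 : Wj ≤ fj ⁻¹ᵁ (pY ⁻¹ᵁ V₀) := by rw [hWjdef]; exact inf_le_right
  have hxWj : x' ∈ Wj := by
    rw [hWjdef]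
    refine ⟨hx', ?_⟩
    change pY (fj x') ∈ V₀
    have h1 : pY (fj x') = f₀ (pX x') := by
      rw [← Scheme.Hom.comp_apply, ← hXj.w, Scheme.Hom.comp_apply]
    rw [h1]
    exact e₀ hx'
  -- rings at the stage `j`
  letI aB₀Bj : Algebra Γ(Y₀, V₀) Γ(pullback g₀ (D.map j.hom), pY ⁻¹ᵁ V₀) :=
    (pY.appLE V₀ (pY ⁻¹ᵁ V₀) le_rfl).hom.toAlgebra
  letI aBjCj : Algebra Γ(pullback g₀ (D.map j.hom), pY ⁻¹ᵁ V₀) Γ(pullback f₀ pY, Wj) :=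
    (fj.appLE (pY ⁻¹ᵁ V₀) Wj eWj2).hom.toAlgebra
  letI aC₀Cj : Algebra Γ(X₀, W₀) Γ(pullback f₀ pY, Wj) := (pX.appLE W₀ Wj eWj1).hom.toAlgebra
  letI aB₀Cj : Algebra Γ(Y₀, V₀) Γ(pullback f₀ pY, Wj) :=
    ((pX.appLE W₀ Wj eWj1).hom.comp (f₀.appLE V₀ W₀ e₀).hom).toAlgebra
  haveI tB₀C₀Cj : IsScalarTower Γ(Y₀, V₀) Γ(X₀, W₀) Γ(pullback f₀ pY, Wj) :=
    IsScalarTower.of_algebraMap_eq (fun b => rfl)
  haveI tB₀BjCj : IsScalarTower Γ(Y₀, V₀) Γ(pullback g₀ (D.map j.hom), pY ⁻¹ᵁ V₀)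
      Γ(pullback f₀ pY, Wj) :=
    IsScalarTower.of_algebraMap_eq (fun b => by
      change (pX.appLE W₀ Wj eWj1) ((f₀.appLE V₀ W₀ e₀) b) =
        (fj.appLE (pY ⁻¹ᵁ V₀) Wj eWj2) ((pY.appLE V₀ (pY ⁻¹ᵁ V₀) le_rfl) b)
      have := congrArg (fun φ => φ.hom b) hpoj.w
      exact this)
  haveI hpushj : Algebra.IsPushout Γ(Y₀, V₀) Γ(pullback g₀ (D.map j.hom), pY ⁻¹ᵁ V₀) Γ(X₀, W₀)
      Γ(pullback f₀ pY, Wj) :=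
    CommRingCat.isPushout_iff_isPushout.mp hpoj.flip
  let θ' : B' →ₐ[Γ(Y₀, V₀)] Γ(pullback g₀ (D.map j.hom), pY ⁻¹ᵁ V₀) :=
    { θ with commutes' := fun b => congrArg (fun φ => φ b) hθ }
  have hfl := hstage Γ(pullback g₀ (D.map j.hom), pY ⁻¹ᵁ V₀) Γ(pullback f₀ pY, Wj) θ'
  exact (FlatStageDict.isFlatOver_pullback_iff fj pX F₀ hVj hW₀ hWj eWj2 eWj1).mpr hfl x' hxWj

include hc in
set_option backward.isDefEq.respectTransparency false in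
/-- **(⇒) of S4849**. -/
theorem exists_stage_of_isFlatOver [CompactSpace (D.obj i₀)]
    {X₀ Y₀ : Scheme.{u}} (f₀ : X₀ ⟶ Y₀) (g₀ : Y₀ ⟶ D.obj i₀) [LocallyOfFinitePresentation f₀]
    [QuasiCompact (f₀ ≫ g₀)]
    (F₀ : X₀.Modules) [F₀.IsQuasicoherent]
    (hF₀ : SheafOfModules.IsFinitePresentation (R := X₀.ringCatSheaf) F₀)
    {X Y : Scheme.{u}} (f : X ⟶ Y) (g : Y ⟶ c.pt) (qY : Y ⟶ Y₀) (qX : X ⟶ X₀)
    (hY : IsPullback qY g g₀ (c.π.app i₀)) (hX : IsPullback qX f f₀ qY)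
    (hflat : FlatMod.IsFlatOver f ((Scheme.Modules.pullback qX).obj F₀)) :
    ∃ (i : I) (φ : i ⟶ i₀) (Xi Yi : Scheme.{u}) (fi : Xi ⟶ Yi) (gi : Yi ⟶ D.obj i)
        (pY : Yi ⟶ Y₀) (pX : Xi ⟶ X₀),
        IsPullback pY gi g₀ (D.map φ) ∧ IsPullback pX fi f₀ pY ∧
          FlatMod.IsFlatOver fi ((Scheme.Modules.pullback pX).obj F₀) := by
  classical
  haveI : CompactSpace X₀ := QuasiCompact.compactSpace_of_compactSpace (f₀ ≫ g₀)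
  have hcov : ∀ x₀ : X₀, ∃ (V₀ : Y₀.Opens) (W₀ : X₀.Opens), IsAffineOpen V₀ ∧ IsAffineOpen W₀ ∧
      x₀ ∈ W₀ ∧ W₀ ≤ f₀ ⁻¹ᵁ V₀ := by
    intro x₀
    obtain ⟨V₀, hV₀, hyV₀, -⟩ := (Opens.isBasis_iff_nbhd.1 Y₀.isBasis_affineOpens)
      (show f₀ x₀ ∈ (⊤ : Y₀.Opens) from trivial)
    obtain ⟨W₀, hW₀, hxW₀, e₀⟩ := (Opens.isBasis_iff_nbhd.1 X₀.isBasis_affineOpens)
      (show x₀ ∈ f₀ ⁻¹ᵁ V₀ from hyV₀)
    exact ⟨V₀, W₀, hV₀, hW₀, hxW₀, e₀⟩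
  choose V₀ W₀ hV₀ hW₀ hxW₀ e₀ using hcov
  obtain ⟨t, ht⟩ := CompactSpace.elim_nhds_subcover (fun x₀ => ((W₀ x₀ : X₀.Opens) : Set X₀))
    (fun x₀ => (W₀ x₀).isOpen.mem_nhds (hxW₀ x₀))
  have hst : ∀ x₀ : X₀, ∃ j₀ : Over i₀, ∀ (j : Over i₀) (_ : j ⟶ j₀)
      (x' : ↥(pullback f₀ (pullback.fst g₀ (D.map j.hom)))),
      pullback.fst f₀ (pullback.fst g₀ (D.map j.hom)) x' ∈ W₀ x₀ →
      FlatMod.IsFlatOverAt (pullback.snd f₀ (pullback.fst g₀ (D.map j.hom)))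
        ((Scheme.Modules.pullback (pullback.fst f₀ (pullback.fst g₀ (D.map j.hom)))).obj F₀) x' :=
    fun x₀ => exists_stage_of_isFlatOver_affine D c hc i₀ f₀ g₀ F₀ hF₀ f g qY qX hY hX (hV₀ x₀)
      (hW₀ x₀) (e₀ x₀) (fun x _ => hflat x)
  choose j₀ hj₀ using hst
  obtain ⟨j, hj⟩ := IsCofiltered.inf_objs_exists (t.image j₀)
  refine ⟨j.left, j.hom, _, _, pullback.snd f₀ (pullback.fst g₀ (D.map j.hom)),
    pullback.snd g₀ (D.map j.hom), pullback.fst g₀ (D.map j.hom),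
    pullback.fst f₀ (pullback.fst g₀ (D.map j.hom)), IsPullback.of_hasPullback _ _,
    IsPullback.of_hasPullback _ _, fun x' => ?_⟩
  have hmem : pullback.fst f₀ (pullback.fst g₀ (D.map j.hom)) x' ∈ (⊤ : Set X₀) := trivial
  rw [← ht] at hmem
  obtain ⟨x₀, hx₀t, hx₀⟩ := Set.mem_iUnion₂.1 hmem
  obtain ⟨u⟩ := hj (Finset.mem_image_of_mem j₀ hx₀t)
  exact hj₀ x₀ j u x' hx₀

/-- **(⇐) of S4849**. -/
theorem isFlatOver_of_stage {X₀ Y₀ : Scheme.{u}} (f₀ : X₀ ⟶ Y₀) (g₀ : Y₀ ⟶ D.obj i₀)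
    (F₀ : X₀.Modules) [F₀.IsQuasicoherent]
    {X Y : Scheme.{u}} (f : X ⟶ Y) (g : Y ⟶ c.pt) (qY : Y ⟶ Y₀) (qX : X ⟶ X₀)
    (hY : IsPullback qY g g₀ (c.π.app i₀)) (hX : IsPullback qX f f₀ qY)
    {i : I} (φ : i ⟶ i₀) {Xi Yi : Scheme.{u}} (fi : Xi ⟶ Yi) (gi : Yi ⟶ D.obj i)
    (pY : Yi ⟶ Y₀) (pX : Xi ⟶ X₀) (hYi : IsPullback pY gi g₀ (D.map φ))
    (hXi : IsPullback pX fi f₀ pY)
    (hflat : FlatMod.IsFlatOver fi ((Scheme.Modules.pullback pX).obj F₀)) :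
    FlatMod.IsFlatOver f ((Scheme.Modules.pullback qX).obj F₀) := by
  intro x
  obtain ⟨vY, hvY1, -⟩ : ∃ vY : Y ⟶ Yi, vY ≫ pY = qY ∧ vY ≫ gi = g ≫ c.π.app i :=
    ⟨hYi.lift qY (g ≫ c.π.app i) (by rw [hY.w, Category.assoc, c.w]),
      hYi.lift_fst _ _ _, hYi.lift_snd _ _ _⟩
  obtain ⟨vX, hvX1, hvX2⟩ : ∃ vX : X ⟶ Xi, vX ≫ pX = qX ∧ vX ≫ fi = f ≫ vY :=
    ⟨hXi.lift qX (f ≫ vY) (by rw [Category.assoc, hvY1]; exact hX.w),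
      hXi.lift_fst _ _ _, hXi.lift_snd _ _ _⟩
  exact isFlatOverAt_of_stage f₀ F₀ f qY qX hX fi pY pX vY vX hXi hvY1 hvX1 hvX2 x (hflat (vX x))

end Groth.Agent.Helper2.FlatStageGlob
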