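import Mathlib
import Groth.Prelude
import Groth.Agent.Helper2.FlatStageGlob
import Groth.Agent.Lead.LocLift6
import Groth.Agent.Lead.FlatLib1
import Groth.Agent.Lead.LimPres
import Groth.Agent.Helper5.AffFlat3

set_option autoImplicit false
open Function CategoryTheory CategoryTheory.Limits AlgebraicGeometry TopologicalSpace
universe u

namespace Groth.Agent.Helper2.FinLocFreeLim

open Scheme.Modules Groth.Agent.Helper4.FinLocFree Groth.Agent.Helper4

section General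
variable {X Y : Scheme.{u}}

/-- freeness along an open pulls back -/
theorem isFreeAlong_pullback (f : X ⟶ Y) {F : Y.Modules} {U : Y.Opens} {n : ℕ}
    (h : IsFreeAlong F U.ι n) : IsFreeAlong ((Scheme.Modules.pullback f).obj F) (f ⁻¹ᵁ U).ι n := by
  obtain ⟨e⟩ := h
  exact ⟨(restrictFunctorIsoPullback (f ⁻¹ᵁ U).ι).app _ ≪≫
    (pullbackComp (f ⁻¹ᵁ U).ι f).app F ≪≫
    (pullbackCongr (morphismRestrict_ι f U).symm).app F ≪≫
    ((pullbackComp (f ∣_ U) U.ι).app F).symm ≪≫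
    (Scheme.Modules.pullback (f ∣_ U)).mapIso ((restrictFunctorIsoPullback U.ι).app F).symm ≪≫
    (Scheme.Modules.pullback (f ∣_ U)).mapIso e ≪≫
    Groth.Agent.Helper8.TildeBC.pullbackFreeIso (f ∣_ U) n⟩

theorem isFinLocFreeOfRank_pullback (f : X ⟶ Y) {F : Y.Modules} {n : ℕ}
    (hF : FlatMod.IsFinLocFreeOfRank n F) :
    FlatMod.IsFinLocFreeOfRank n ((Scheme.Modules.pullback f).obj F) := by
  intro x
  obtain ⟨U, hxU, h⟩ := hF (f x)
  exact ⟨f ⁻¹ᵁ U, hxU, isFreeAlong_pullback f h⟩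

theorem isFinLocFreeOfRank_of_iso {F G : X.Modules} (e : F ≅ G) {n : ℕ}
    (h : FlatMod.IsFinLocFreeOfRank n F) : FlatMod.IsFinLocFreeOfRank n G := by
  intro x
  obtain ⟨V, hxV, hV⟩ := h x
  exact ⟨V, hxV, IsFreeAlong.of_iso e V.ι hV⟩

/-- flatness over the base of an isomorphism is flatness over the scheme itself -/
theorem isFlatOverAt_iff_of_isIso (f : X ⟶ Y) [IsIso f] (M : X.Modules) (x : X) :
    FlatMod.IsFlatOverAt f M x ↔ FlatMod.IsFlatAt M x := by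
  let σ : Y.presheaf.stalk (f x) ≃+* X.presheaf.stalk x :=
    (asIso (f.stalkMap x)).commRingCatIsoToRingEquiv
  exact Groth.Agent.Helper5.AffFlat.flat_iff_of_ringEquiv σ

theorem isFlat_of_isFlatOver_of_isIso (f : X ⟶ Y) [IsIso f] (M : X.Modules)
    (h : FlatMod.IsFlatOver f M) : FlatMod.IsFlat M :=
  fun x => (isFlatOverAt_iff_of_isIso f M x).mp (h x)

theorem isFlatOver_of_isFlat_of_isIso (f : X ⟶ Y) [IsIso f] (M : X.Modules)
    (h : FlatMod.IsFlat M) : FlatMod.IsFlatOver f M :=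
  fun x => (isFlatOverAt_iff_of_isIso f M x).mpr (h x)

/-- a quasi-coherent finitely presented flat module is finite locally free -/
theorem isFinLocFree_of_fp_of_isFlat (F : X.Modules)
    (hfp : SheafOfModules.IsFinitePresentation (R := X.ringCatSheaf) F)
    (h : FlatMod.IsFlat F) : FlatMod.IsFinLocFree F := by
  intro x
  exact FinLocFree2.exists_isFreeAlong_of_fp_of_flat_stalk F hfp x (h x)

/-- finite local freeness descends along an isomorphism -/
theorem isFinLocFree_of_pullback_iso (e : X ⟶ Y) [IsIso e] (G : Y.Modules)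
    (h : FlatMod.IsFinLocFree ((Scheme.Modules.pullback e).obj G)) : FlatMod.IsFinLocFree G := by
  have h1 := Groth.Agent.Lead.LocLift.isFinLocFree_pullback (inv e) h
  refine FinLocFree2.isFinLocFree_of_iso ?_ h1
  exact (pullbackComp (inv e) e).app G ≪≫
    (pullbackCongr (show inv e ≫ e = 𝟙 Y by simp)).app G ≪≫ (pullbackId Y).app G

end General

section Lim
variable {I : Type u} [SmallCategory I] [IsCofiltered I]
    (D : I ⥤ Scheme.{u}) (c : Limits.Cone D) (hc : Limits.IsLimit c)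
    [∀ (i j : I) (f : i ⟶ j), IsAffineHom (D.map f)] (i₀ : I) [CompactSpace (D.obj i₀)]
    (F₀ : (D.obj i₀).Modules) [F₀.IsQuasicoherent]
    (hF₀ : SheafOfModules.IsFinitePresentation (R := (D.obj i₀).ringCatSheaf) F₀)

include hc hF₀ in
/-- **(⇒) of S4791** -/
theorem exists_stage_isFinLocFree
    (h : FlatMod.IsFinLocFree ((Scheme.Modules.pullback (c.π.app i₀)).obj F₀)) :
    ∃ (j : I) (φ : j ⟶ i₀), FlatMod.IsFinLocFree ((Scheme.Modules.pullback (D.map φ)).obj F₀) := by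
  have hfl : FlatMod.IsFlatOver (𝟙 c.pt) ((Scheme.Modules.pullback (c.π.app i₀)).obj F₀) :=
    @isFlatOver_of_isFlat_of_isIso c.pt c.pt (𝟙 c.pt) (IsIso.id c.pt) _
      (Groth.Agent.Lead.FlatLib.isFlat_of_isFinLocFree h)
  have hY : IsPullback (c.π.app i₀) (𝟙 c.pt) (𝟙 (D.obj i₀)) (c.π.app i₀) :=
    @IsPullback.of_vert_isIso _ _ _ _ _ _ (c.π.app i₀) (𝟙 c.pt) (𝟙 (D.obj i₀)) (c.π.app i₀)
      (IsIso.id c.pt) (IsIso.id (D.obj i₀)) ⟨by simp⟩
  obtain ⟨i, φ, Xi, Yi, fi, gi, pY, pX, hYi, hXi, hflat⟩ :=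
    FlatStageGlob.exists_stage_of_isFlatOver D c hc i₀ (𝟙 _) (𝟙 _) F₀ hF₀ (𝟙 _) (𝟙 _)
      (c.π.app i₀) (c.π.app i₀) hY hY hfl
  haveI : IsIso gi := hYi.isIso_snd_of_isIso
  haveI : IsIso fi := hXi.isIso_snd_of_isIso
  have hpX : pX = (fi ≫ gi) ≫ D.map φ := by
    have h1 := hXi.w
    have h2 := hYi.w
    rw [Category.comp_id] at h1 h2
    rw [h1, h2, Category.assoc]
  refine ⟨i, φ, ?_⟩
  have h1 : FlatMod.IsFlat ((Scheme.Modules.pullback pX).obj F₀) :=
    isFlat_of_isFlatOver_of_isIso fi _ hflat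
  have hfp := Groth.Agent.Lead.LimPres.isFP_pullback pX F₀ hF₀
  have h2 : FlatMod.IsFinLocFree ((Scheme.Modules.pullback pX).obj F₀) :=
    isFinLocFree_of_fp_of_isFlat _ hfp h1
  apply isFinLocFree_of_pullback_iso (fi ≫ gi)
  refine FinLocFree2.isFinLocFree_of_iso ?_ h2
  exact (pullbackCongr hpX).app F₀ ≪≫ ((pullbackComp (fi ≫ gi) (D.map φ)).app F₀).symm


include hc hF₀ in
set_option maxHeartbeats 1000000 in
/-- **(⇒) of S4792** -/
theorem exists_stage_isFinLocFreeOfRank (n : ℕ)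
    (h : FlatMod.IsFinLocFreeOfRank n ((Scheme.Modules.pullback (c.π.app i₀)).obj F₀)) :
    ∃ (j : I) (φ : j ⟶ i₀),
      FlatMod.IsFinLocFreeOfRank n ((Scheme.Modules.pullback (D.map φ)).obj F₀) := by
  have h0 : FlatMod.IsFinLocFree ((Scheme.Modules.pullback (c.π.app i₀)).obj F₀) := fun x => by
    obtain ⟨U, hx, hU⟩ := h x
    exact ⟨U, n, hx, hU⟩
  obtain ⟨j, φ, hj⟩ := exists_stage_isFinLocFree D c hc i₀ F₀ hF₀ h0
  haveI : CompactSpace (D.obj j) := QuasiCompact.compactSpace_of_compactSpace (D.map φ)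
  obtain ⟨G, hGdef⟩ : ∃ G : (D.obj j).Modules, G = (Scheme.Modules.pullback (D.map φ)).obj F₀ :=
    ⟨_, rfl⟩
  rw [← hGdef] at hj
  obtain ⟨V, hVdef⟩ : ∃ V : (D.obj j).Opens, V = sSup {U | IsFreeAlong G U.ι n} := ⟨_, rfl⟩
  haveI : ((Scheme.Modules.pullback (c.π.app i₀)).obj F₀).IsQuasicoherent :=
    Groth.Agent.Lead.StalkPull.isQuasicoherent_pullbackObj _ F₀
  have hV : c.π.app j ⁻¹ᵁ ⊤ ≤ c.π.app j ⁻¹ᵁ V := by
    intro x _
    obtain ⟨U, m, hyU, hU⟩ := hj (c.π.app j x)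
    have h1 : IsFreeAlong ((Scheme.Modules.pullback (c.π.app j)).obj G) (c.π.app j ⁻¹ᵁ U).ι m :=
      isFreeAlong_pullback _ hU
    have e : (Scheme.Modules.pullback (c.π.app j)).obj G ≅
        (Scheme.Modules.pullback (c.π.app i₀)).obj F₀ := by
      rw [hGdef]
      exact (pullbackComp (c.π.app j) (D.map φ)).app F₀ ≪≫ (pullbackCongr (c.w φ)).app F₀
    have h2 : IsFreeAlong ((Scheme.Modules.pullback (c.π.app i₀)).obj F₀)
        (c.π.app j ⁻¹ᵁ U).ι m := IsFreeAlong.of_iso e _ h1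
    obtain ⟨U', hxU', hU'⟩ := h x
    obtain ⟨b₁⟩ := FinLocFree2.nonempty_basis_stalk_of_isFreeAlong _ h2 x hyU
    obtain ⟨b₂⟩ := FinLocFree2.nonempty_basis_stalk_of_isFreeAlong _ hU' x hxU'
    have hmn : m = n := by
      have := Fintype.card_congr (b₁.indexEquiv b₂)
      simpa using this
    subst hmn
    change c.π.app j x ∈ V
    rw [hVdef]
    exact TopologicalSpace.Opens.mem_sSup.mpr ⟨U, hU, hyU⟩
  obtain ⟨k, f, hk⟩ := exists_map_preimage_le_map_preimage D c hc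
    (U := (⊤ : (D.obj j).Opens)) (V := V) isCompact_univ hV
  refine ⟨k, f ≫ φ, ?_⟩
  have e : (Scheme.Modules.pullback (D.map f)).obj G ≅
      (Scheme.Modules.pullback (D.map (f ≫ φ))).obj F₀ := by
    rw [hGdef]
    exact (pullbackComp (D.map f) (D.map φ)).app F₀ ≪≫
      (pullbackCongr (D.map_comp f φ).symm).app F₀
  refine isFinLocFreeOfRank_of_iso e ?_
  intro y'
  have hy' : D.map f y' ∈ V := hk (show y' ∈ D.map f ⁻¹ᵁ ⊤ from trivial)
  rw [hVdef] at hy'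
  obtain ⟨U, hU, hyU⟩ := TopologicalSpace.Opens.mem_sSup.mp hy'
  exact ⟨D.map f ⁻¹ᵁ U, hyU, isFreeAlong_pullback _ hU⟩

omit [IsCofiltered I] [∀ (i j : I) (f : i ⟶ j), IsAffineHom (D.map f)] [CompactSpace (D.obj i₀)]
  [F₀.IsQuasicoherent] in
/-- **(⇐) of S4791** -/
theorem isFinLocFree_of_stage {j : I} (φ : j ⟶ i₀)
    (h : FlatMod.IsFinLocFree ((Scheme.Modules.pullback (D.map φ)).obj F₀)) :
    FlatMod.IsFinLocFree ((Scheme.Modules.pullback (c.π.app i₀)).obj F₀) := by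
  have h1 := Groth.Agent.Lead.LocLift.isFinLocFree_pullback (c.π.app j) h
  refine FinLocFree2.isFinLocFree_of_iso ?_ h1
  exact (pullbackComp (c.π.app j) (D.map φ)).app F₀ ≪≫ (pullbackCongr (c.w φ)).app F₀

omit [IsCofiltered I] [∀ (i j : I) (f : i ⟶ j), IsAffineHom (D.map f)] [CompactSpace (D.obj i₀)]
  [F₀.IsQuasicoherent] in
/-- **(⇐) of S4792** -/
theorem isFinLocFreeOfRank_of_stage {j : I} (φ : j ⟶ i₀) (n : ℕ)
    (h : FlatMod.IsFinLocFreeOfRank n ((Scheme.Modules.pullback (D.map φ)).obj F₀)) :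
    FlatMod.IsFinLocFreeOfRank n ((Scheme.Modules.pullback (c.π.app i₀)).obj F₀) := by
  have h1 := isFinLocFreeOfRank_pullback (c.π.app j) h
  refine isFinLocFreeOfRank_of_iso ?_ h1
  exact (pullbackComp (c.π.app j) (D.map φ)).app F₀ ≪≫ (pullbackCongr (c.w φ)).app F₀

end Lim

end Groth.Agent.Helper2.FinLocFreeLim
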