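import Groth.Agent.Helper2.KP2

set_option autoImplicit false

namespace Groth.Agent.Helper2.KP3

open CategoryTheory CategoryTheory.Limits CategoryTheory.Pretriangulated
open Groth.Agent.Helper2.KZ1 Groth.Agent.Helper2.KP0 Groth.Agent.Helper2.KP1
open Groth.Agent.Helper2.KP2
open Groth.Agent.Helper3.DRingLib

universe u

attribute [local instance] HasDerivedCategory.standard

variable (R : Type u) [CommRing R]

/-- the complex `M` in degree `0` is strictly perfect -/
theorem sp_single (M : ModuleCat.{u} R) (hM : PP R M) :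
    SP R ((CochainComplex.singleFunctor (ModuleCat.{u} R) 0).obj M) := by
  refine ⟨⟨0, 0, fun i hi => ?_⟩, fun i => ?_⟩
  · exact HomologicalComplex.isZero_single_obj_X (ComplexShape.up ℤ) 0 M i (by omega)
  · by_cases h : i = 0
    · subst h
      exact ObjectProperty.prop_of_iso _
        (HomologicalComplex.singleObjXSelf (ComplexShape.up ℤ) 0 M).symm hM
    · exact pp_of_isZero R (HomologicalComplex.isZero_single_obj_X (ComplexShape.up ℤ) 0 M i h)

theorem perfect_single0 (M : ModuleCat.{u} R) (hM : PP R M) :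
    DRing.IsPerfect R ((DerivedCategory.singleFunctor (ModuleCat.{u} R) 0).obj M) := by
  obtain ⟨⟨a, b, hb⟩, hp⟩ := sp_single R M hM
  exact ⟨_, a, b, hb, hp,
    ⟨((DerivedCategory.singleFunctorIsoCompQ (ModuleCat.{u} R) 0).app M).symm⟩⟩

theorem perfect_single (n : ℤ) (M : ModuleCat.{u} R) (hM : PP R M) :
    DRing.IsPerfect R ((DerivedCategory.singleFunctor (ModuleCat.{u} R) n).obj M) :=
  isPerfect_of_iso (singleShiftIso M n) (isPerfect_shift (-n) (perfect_single0 R M hM))

theorem qq_zero (Z : Dual.D R) (hZ : IsZero Z) : QQ R Z := isPerfect_of_isZero Z hZ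

/-- the map `[M] ↦ [M[0]]` -/
noncomputable def psi : KZero.K0sub (PP R) →+ KZero.K0tr (QQ R) :=
  QuotientAddGroup.lift _ (FreeAbelianGroup.lift (fun F : Subtype (PP R) =>
    clq (QQ R) ((DerivedCategory.singleFunctor (ModuleCat.{u} R) 0).obj F.1)
      (perfect_single0 R F.1 F.2))) (by
    unfold KZero.relSub
    rw [AddSubgroup.closure_le]
    rintro x ⟨S, h₁, h₂, h₃, hS, rfl⟩
    simp only [SetLike.mem_coe, AddMonoidHom.mem_ker, map_sub, FreeAbelianGroup.lift_apply_of]
    have := clq_add (QQ R) _ hS.singleTriangle_distinguished (perfect_single0 R _ h₁)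
      (perfect_single0 R _ h₂) (perfect_single0 R _ h₃)
    rw [sub_sub, sub_eq_zero]
    exact this)

lemma psi_cls (F : ModuleCat.{u} R) (hF : PP R F) :
    psi R (cls (PP R) F hF) =
      clq (QQ R) ((DerivedCategory.singleFunctor (ModuleCat.{u} R) 0).obj F)
        (perfect_single0 R F hF) := by
  unfold psi cls
  erw [QuotientAddGroup.lift_mk]
  rw [FreeAbelianGroup.lift_apply_of]

lemma euc_single (F : ModuleCat.{u} R) (hF : PP R F) :
    euc (PP R) ((CochainComplex.singleFunctor (ModuleCat.{u} R) 0).obj F) = cls (PP R) F hF := by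
  unfold euc
  rw [alt_single _ 0]
  · rw [Int.negOnePow_zero, Units.val_one, one_smul, clSub_eq (PP R) _ ((sp_single R F hF).pp 0)]
    exact cls_iso (PP R) (HomologicalComplex.singleObjXSelf (ComplexShape.up ℤ) 0 F) _ _
  · intro i hi
    exact clSub_isZero' (PP R) _
      (HomologicalComplex.isZero_single_obj_X (ComplexShape.up ℤ) 0 F i hi)

lemma chi_psi (x : KZero.K0sub (PP R)) : chi R (psi R x) = x := by
  have : (chi R).comp (psi R) = AddMonoidHom.id _ := by
    apply QuotientAddGroup.addMonoidHom_ext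
    apply FreeAbelianGroup.lift_ext
    rintro ⟨F, hF⟩
    show chi R (psi R (cls (PP R) F hF)) = cls (PP R) F hF
    rw [psi_cls, chi_clq, chi0_eq R _ _ _ (sp_single R F hF)
      ((DerivedCategory.singleFunctorIsoCompQ (ModuleCat.{u} R) 0).app F).symm, euc_single]
  exact DFunLike.congr_fun this x

lemma psi_injective : Function.Injective (psi R) := by
  intro x y h
  rw [← chi_psi R x, ← chi_psi R y, h]

lemma single_mem_range (n : ℤ) (M : ModuleCat.{u} R) (hM : PP R M) :
    clq (QQ R) ((DerivedCategory.singleFunctor (ModuleCat.{u} R) n).obj M)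
      (perfect_single R n M hM) ∈ (psi R).range := by
  have hsucc : ∀ n : ℤ, clq (QQ R) ((DerivedCategory.singleFunctor (ModuleCat.{u} R) n).obj M)
      (perfect_single R n M hM) =
      - clq (QQ R) ((DerivedCategory.singleFunctor (ModuleCat.{u} R) (n + 1)).obj M)
        (perfect_single R (n + 1) M hM) := by
    intro n
    let e : ((DerivedCategory.singleFunctor (ModuleCat.{u} R) (n + 1)).obj M)⟦(1 : ℤ)⟧ ≅
        (DerivedCategory.singleFunctor (ModuleCat.{u} R) n).obj M :=
      ((DerivedCategory.singleFunctors (ModuleCat.{u} R)).shiftIso 1 n (n + 1) (by omega)).app M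
    rw [← clq_shift (QQ R) (qq_zero R) _ (perfect_single R (n + 1) M hM)
      (isPerfect_of_iso e.symm (perfect_single R n M hM))]
    exact clq_iso (QQ R) (qq_zero R) e.symm _ _
  induction n using Int.induction_on with
  | zero => exact ⟨cls (PP R) M hM, psi_cls R M hM⟩
  | succ n ih =>
    have := hsucc n
    rw [eq_neg_iff_add_eq_zero, add_comm, ← eq_neg_iff_add_eq_zero] at this
    rw [this]
    exact (psi R).range.neg_mem ih
  | pred n ih =>
    have := hsucc (-(n : ℤ) - 1)
    rw [this]
    apply (psi R).range.neg_mem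
    convert ih using 2 <;> simp

lemma psi_surjective : Function.Surjective (psi R) := by
  intro x
  induction x using QuotientAddGroup.induction_on with
  | H z =>
    induction z using FreeAbelianGroup.induction_on with
    | zero => exact ⟨0, map_zero _⟩
    | of K =>
      obtain ⟨K, hK⟩ := K
      obtain ⟨E, a, b, h1, h2, ⟨e⟩⟩ := hK
      have key : ∃ h : DRing.IsPerfect R (DRing.toD E),
          clq (QQ R) (DRing.toD E) h ∈ (psi R).range := by
        refine induction_on_bounded'
          (fun K => ∃ h : DRing.IsPerfect R K, clq (QQ R) K h ∈ (psi R).range)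
          ?_ ?_ ?_ E a b h1 ?_
        · rintro K L e ⟨h, hm⟩
          refine ⟨isPerfect_of_iso e h, ?_⟩
          rw [← clq_iso (QQ R) (qq_zero R) e h]
          exact hm
        · intro K hK
          refine ⟨isPerfect_of_isZero K hK, ?_⟩
          rw [clq_zero (QQ R) K hK]
          exact (psi R).range.zero_mem
        · rintro T hT ⟨p1, m1⟩ ⟨p3, m3⟩
          refine ⟨isPerfect_obj₂ T hT p1 p3, ?_⟩
          rw [clq_add (QQ R) T hT p1 _ p3]
          exact (psi R).range.add_mem m1 m3
        · intro i
          exact ⟨perfect_single R i _ (h2 i), single_mem_range R i _ (h2 i)⟩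
      obtain ⟨h, hm⟩ := key
      have : clq (QQ R) K ⟨E, a, b, h1, h2, ⟨e⟩⟩ = clq (QQ R) (DRing.toD E) h :=
        (clq_iso (QQ R) (qq_zero R) e h _).symm
      show clq (QQ R) K ⟨E, a, b, h1, h2, ⟨e⟩⟩ ∈ (psi R).range
      rw [this]
      exact hm
    | neg K ih =>
      obtain ⟨y, hy⟩ := ih
      exact ⟨-y, by rw [map_neg, hy]; rfl⟩
    | add x y hx hy =>
      obtain ⟨x', hx'⟩ := hx
      obtain ⟨y', hy'⟩ := hy
      exact ⟨x' + y', by rw [map_add, hx', hy']; rfl⟩


theorem main :
    ∃ φ : KZero.K0sub (fun M : ModuleCat.{u} R => Module.Finite R M ∧ Module.Projective R M) ≃+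
        KZero.K0tr (fun K : Dual.D R => DRing.IsPerfect R K),
      (∀ (M : Type u) [AddCommGroup M] [Module R M], Module.Finite R M → Module.Projective R M →
        φ (KZero.clSub (fun M : ModuleCat.{u} R => Module.Finite R M ∧ Module.Projective R M)
            (ModuleCat.of R M)) =
          KZero.clTr (fun K : Dual.D R => DRing.IsPerfect R K) (Dual.inD R M)) ∧
      ∀ (E : DRing.Cx R) (a b : ℤ), DRing.VanishesOutside E a b →
        DRing.TermwiseFiniteProjective E →
        φ.symm (KZero.clTr (fun K : Dual.D R => DRing.IsPerfect R K) (DRing.toD E)) =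
          (Finset.Icc a b).sum (fun i => (i.negOnePow : ℤ) •
            KZero.clSub (fun M : ModuleCat.{u} R => Module.Finite R M ∧ Module.Projective R M)
              (E.X i)) := by
  let φ : KZero.K0sub (PP R) ≃+ KZero.K0tr (QQ R) :=
    AddEquiv.ofBijective (psi R) ⟨psi_injective R, psi_surjective R⟩
  have hsymm : ∀ y, φ.symm y = chi R y := by
    intro y
    obtain ⟨x, rfl⟩ := φ.surjective y
    rw [AddEquiv.symm_apply_apply]
    exact (chi_psi R x).symm
  refine ⟨φ, ?_, ?_⟩
  · intro M _ _ hf hp
    have hM : PP R (ModuleCat.of R M) := ⟨hf, hp⟩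
    rw [clSub_eq (PP R) _ hM, KP0.clTr_eq (QQ R) _ (perfect_single0 R _ hM)]
    exact psi_cls R _ hM
  · intro E a b h1 h2
    have hE : SP R E := sp_of_perfect_data h1 h2
    have hp : DRing.IsPerfect R (DRing.toD E) := ⟨E, a, b, h1, h2, ⟨Iso.refl _⟩⟩
    rw [hsymm, KP0.clTr_eq (QQ R) _ hp, chi_clq, chi0_eq R _ hp E hE (Iso.refl _)]
    unfold euc alt
    apply finsum_eq_sum_of_support_subset
    intro i hi
    rw [Finset.coe_Icc, Set.mem_Icc]
    by_contra hni
    rw [not_and_or, not_le, not_le] at hni
    apply hi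
    show ((i.negOnePow : ℤˣ) : ℤ) • KZero.clSub (PP R) (E.X i) = 0
    rw [clSub_isZero' (PP R) _ (h1 i hni), smul_zero]

end Groth.Agent.Helper2.KP3
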