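import Mathlib
import Groth.Prelude
import Groth.Agent.Helper1.FlatUnram
import Groth.Agent.Helper1.HensStrictTransfer
import Groth.Agent.Helper1.HensProps

set_option autoImplicit false
set_option linter.style.haveILetI false
set_option linter.unusedSectionVars false

/-! S16442: essentially-finite-type local subalgebras of a strict henselization lie in essentially
étale local subalgebras -/

universe u

namespace Groth.Agent.Helper2.EssEtSub

open IsLocalRing Groth.Agent.Helper1.Hens Groth.Agent.Helper1

/-- a local algebra map from an unramified essentially-finite-type local algebra to a flat local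
algebra is injective -/
theorem injective_of_algHom_local {A L T : Type u} [CommRing A] [CommRing L] [IsLocalRing L]
    [CommRing T] [IsLocalRing T] [Algebra A L] [Algebra A T] [Algebra.EssFiniteType A L]
    [Algebra.FormallyUnramified A L] [Module.Flat A T] (χ : L →ₐ[A] T)
    (hloc : ∀ x, IsUnit (χ x) → IsUnit x) : Function.Injective χ := by
  letI : Algebra L T := χ.toRingHom.toAlgebra
  haveI : Module.Flat L T := FlatUnram.flat_of_algHom χ
  haveI : IsLocalHom (algebraMap L T) := ⟨hloc⟩
  haveI : Module.FaithfullyFlat L T := Module.FaithfullyFlat.of_flat_of_isLocalHom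
  exact FaithfulSMul.algebraMap_injective L T

section

variable {R : Type u} [CommRing R] [IsLocalRing R] {Ω : Type u} [Field Ω] [Algebra R Ω]
  [IsLocalHom (algebraMap R Ω)]

theorem isUnit_of_isUnit_ofAlg (i : Idx R Ω) (x : i.L) (h : IsUnit (Hens.ofAlg i x)) :
    IsUnit x := by
  rw [Hens.isUnit_iff] at h
  have h1 : Hens.γ (Hens.ofAlg i x) = γLoc i.γ x := Hens.γ_of i x
  rw [h1] at h
  exact (isUnit_iff_γLoc_ne_zero i.γ x).2 h

theorem ofAlg_injective (i : Idx R Ω) : Function.Injective (Hens.ofAlg i) :=
  injective_of_algHom_local (Hens.ofAlg i) (isUnit_of_isUnit_ofAlg i)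

end

section main

variable (A S : Type u) [CommRing A] [IsLocalRing A] [CommRing S] [IsLocalRing S] [Algebra A S]
  [IsLocalHom (algebraMap A S)] [Hensel.IsStrictHenselization A S]

/-- the map from a stage of the model into `S` -/
noncomputable def stageHom (i : Idx A (ResidueField S)) : i.L →ₐ[A] S :=
  (equivOfIsStrictHenselization A S).symm.toAlgHom.comp (Hens.ofAlg i)

theorem stageHom_apply (i : Idx A (ResidueField S)) (x : i.L) :
    equivOfIsStrictHenselization A S (stageHom A S i x) = Hens.ofAlg i x := by
  simp [stageHom]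

theorem stageHom_injective (i : Idx A (ResidueField S)) : Function.Injective (stageHom A S i) := by
  intro x y h
  apply ofAlg_injective i
  rw [← stageHom_apply, ← stageHom_apply, h]

theorem isUnit_of_isUnit_stageHom (i : Idx A (ResidueField S)) (x : i.L)
    (h : IsUnit (stageHom A S i x)) : IsUnit x := by
  apply isUnit_of_isUnit_ofAlg i
  rw [← stageHom_apply]
  exact h.map (equivOfIsStrictHenselization A S)

theorem comap_ker_eq {C : Type u} [CommRing C] [Algebra A C] (γ : C →ₐ[A] ResidueField S) :
    (RingHom.ker γ).comap (algebraMap A C) = maximalIdeal A := by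
  ext x
  rw [Ideal.mem_comap, RingHom.mem_ker, AlgHom.commutes]
  have h1 : algebraMap A (ResidueField S) x = residue S (algebraMap A S x) := rfl
  rw [h1, residue_eq_zero_iff]
  constructor
  · intro h
    by_contra hx
    have hu : IsUnit x := by
      by_contra hu
      exact hx ((mem_maximalIdeal x).mpr hu)
    exact ((mem_maximalIdeal _).mp h) (hu.map (algebraMap A S))
  · intro h
    rw [mem_maximalIdeal, mem_nonunits_iff] at h ⊢
    intro hu
    exact h (isUnit_of_map_unit (algebraMap A S) x hu)

theorem isEssentiallyEtale_range (i : Idx A (ResidueField S)) :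
    EGA4loc.IsEssentiallyEtale A (stageHom A S i).range :=
  ⟨i.C, inferInstance, inferInstance, pt i.γ, inferInstance, i.etale, comap_ker_eq A S i.γ,
    ⟨(AlgEquiv.ofInjective (stageHom A S i) (stageHom_injective A S i)).symm⟩⟩

theorem isLocalRing_range (i : Idx A (ResidueField S)) : IsLocalRing (stageHom A S i).range :=
  (AlgEquiv.ofInjective (stageHom A S i) (stageHom_injective A S i)).toRingEquiv.isLocalRing

theorem s16442 (D : Subalgebra A S) [IsLocalRing D]
    [IsLocalHom (algebraMap D S)] [h : Algebra.EssFiniteType A D] :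
    ∃ E : Subalgebra A S, D ≤ E ∧ ∃ _ : IsLocalRing E, EGA4loc.IsEssentiallyEtale A E := by
  obtain ⟨s, hs⟩ := h.cond
  let e := equivOfIsStrictHenselization A S
  obtain ⟨i, x', hx'⟩ := Hens.exists_of_family (fun k : s => e ((k : D) : S))
  refine ⟨(stageHom A S i).range, ?_, isLocalRing_range A S i, isEssentiallyEtale_range A S i⟩
  have hsE : ∀ k ∈ s, ((k : D) : S) ∈ (stageHom A S i).range := by
    intro k hk
    refine ⟨x' ⟨k, hk⟩, ?_⟩
    apply e.injective
    show e (stageHom A S i (x' ⟨k, hk⟩)) = e ((k : D) : S)
    rw [stageHom_apply]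
    exact hx' ⟨k, hk⟩
  have hadj : ∀ a ∈ Algebra.adjoin A (s : Set D), ((a : D) : S) ∈ (stageHom A S i).range := by
    intro a ha
    induction ha using Algebra.adjoin_induction with
    | mem x hx => exact hsE x hx
    | algebraMap r => exact Subalgebra.algebraMap_mem _ r
    | add x y _ _ hx hy => exact Subalgebra.add_mem _ hx hy
    | mul x y _ _ hx hy => exact Subalgebra.mul_mem _ hx hy
  intro d hd
  haveI := hs
  obtain ⟨⟨a, u⟩, hau⟩ := IsLocalization.surj
    (Submonoid.comap (algebraMap (Algebra.adjoin A (s : Set D)) D) (IsUnit.submonoid D))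
    (⟨d, hd⟩ : D)
  have hu : IsUnit (algebraMap (Algebra.adjoin A (s : Set D)) D u) := u.2
  obtain ⟨y, hy⟩ := hadj (u : Algebra.adjoin A (s : Set D)) (u : Algebra.adjoin A (s : Set D)).2
  obtain ⟨z, hz⟩ := hadj a a.2
  replace hy : stageHom A S i y = (((u : Algebra.adjoin A (s : Set D)) : D) : S) := hy
  replace hz : stageHom A S i z = ((a : D) : S) := hz
  have hy' : IsUnit (stageHom A S i y) := by
    rw [hy]
    exact hu.map D.val
  have hyu : IsUnit y := isUnit_of_isUnit_stageHom A S i y hy'
  obtain ⟨v, hv⟩ := hyu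
  refine ⟨z * ((v⁻¹ : i.Lˣ) : i.L), ?_⟩
  have h1 : d * stageHom A S i y = stageHom A S i z := by
    rw [hy, hz]
    exact congrArg Subtype.val hau
  have h2 : stageHom A S i y * stageHom A S i ((v⁻¹ : i.Lˣ) : i.L) = 1 := by
    rw [← map_mul, ← hv, Units.mul_inv, map_one]
  show stageHom A S i (z * ((v⁻¹ : i.Lˣ) : i.L)) = d
  rw [map_mul, ← h1, mul_assoc, h2, mul_one]

end main

end Groth.Agent.Helper2.EssEtSub
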