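import Mathlib
import Groth.Prelude
import Groth.Agent.Helper2.EssEtSub1

set_option autoImplicit false
set_option linter.style.haveILetI false
set_option linter.unusedSectionVars false

/-! S16438 -/

universe u

namespace Groth.Agent.Helper2.EssEtSub

open IsLocalRing Groth.Agent.Helper1.Hens Groth.Agent.Helper1

section quot

variable (A D : Type u) [CommRing A] [CommRing D] [IsLocalRing D] [Algebra A D]
  [Algebra.EssFiniteType A D] [Algebra.FormallyUnramified A D]

/-- a local, essentially-finite-type, formally unramified algebra is a local quotient of a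
localization of an étale algebra at a prime -/
theorem exists_surjective_of_unramified :
    ∃ (P : Type u) (_ : CommRing P) (_ : Algebra A P) (_ : Algebra.Etale A P) (χ : P →ₐ[A] D),
      ∀ d : D, ∃ p s : P, IsUnit (χ s) ∧ d * χ s = χ p := by
  obtain ⟨s, hs⟩ := (inferInstance : Algebra.EssFiniteType A D).cond
  set D₀ : Subalgebra A D := Algebra.adjoin A (s : Set D) with hD₀
  haveI : Algebra.FiniteType A D₀ := (Subalgebra.fg_iff_finiteType _).mp ⟨s, rfl⟩
  let 𝔭 : Ideal D₀ := (maximalIdeal D).comap (algebraMap D₀ D)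
  haveI : 𝔭.IsPrime := Ideal.comap_isPrime _ _
  have hM : Submonoid.comap (algebraMap D₀ D) (IsUnit.submonoid D) = 𝔭.primeCompl := by
    ext x
    rw [Submonoid.mem_comap, IsUnit.mem_submonoid_iff, Ideal.mem_primeCompl_iff, Ideal.mem_comap,
      mem_maximalIdeal, mem_nonunits_iff, not_not]
  haveI hloc : IsLocalization.AtPrime D 𝔭 := by
    show IsLocalization 𝔭.primeCompl D
    rw [← hM]
    exact hs
  haveI : Algebra.IsUnramifiedAt A 𝔭 := by
    let e : D ≃ₐ[D₀] Localization.AtPrime 𝔭 := IsLocalization.algEquiv 𝔭.primeCompl _ _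
    exact Algebra.FormallyUnramified.of_equiv (e.restrictScalars A)
  obtain ⟨f, hf, P, φ, hφ⟩ := Algebra.IsUnramifiedAt.exists_hasStandardEtaleSurjectionOn (R := A) 𝔭
  have hfu : IsUnit (algebraMap D₀ D f) :=
    IsLocalization.map_units D (⟨f, hf⟩ : 𝔭.primeCompl)
  let ψ : Localization.Away f →ₐ[A] D :=
    IsLocalization.liftAlgHom (M := Submonoid.powers f) (f := IsScalarTower.toAlgHom A D₀ D)
      (by
        rintro ⟨_, n, rfl⟩
        simpa using hfu.pow n)
  have hψ : ∀ x : D₀, ψ (algebraMap D₀ (Localization.Away f) x) = algebraMap D₀ D x := by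
    intro x
    simp [ψ]
  refine ⟨P.Ring, inferInstance, inferInstance, inferInstance, ψ.comp φ, fun d => ?_⟩
  obtain ⟨⟨a, u⟩, hau⟩ := IsLocalization.surj 𝔭.primeCompl d
  obtain ⟨pa, hpa⟩ := hφ (algebraMap D₀ (Localization.Away f) a)
  obtain ⟨pu, hpu⟩ := hφ (algebraMap D₀ (Localization.Away f) (u : D₀))
  refine ⟨pa, pu, ?_, ?_⟩
  · rw [AlgHom.comp_apply, hpu, hψ]
    exact IsLocalization.map_units D u
  · rw [AlgHom.comp_apply, AlgHom.comp_apply, hpu, hpa, hψ, hψ]
    exact hau

end quot

section main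

variable (A S : Type u) [CommRing A] [IsLocalRing A] [CommRing S] [IsLocalRing S] [Algebra A S]
  [IsLocalHom (algebraMap A S)] [Hensel.IsStrictHenselization A S]

theorem isLocalHom_algebraMap_sub (D : Subalgebra A S) : IsLocalHom (algebraMap A D) := by
  constructor
  intro a ha
  have h1 : IsUnit (algebraMap A S a) := ha.map D.val
  exact isUnit_of_map_unit (algebraMap A S) a h1

theorem isEssentiallyEtale_of_unramified (D : Subalgebra A S) [IsLocalRing D]
    [IsLocalHom (algebraMap D S)] [Algebra.EssFiniteType A D] [Algebra.FormallyUnramified A D] :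
    EGA4loc.IsEssentiallyEtale A D := by
  haveI := isLocalHom_algebraMap_sub A S D
  obtain ⟨P, _, _, hP, χ, hχ⟩ := exists_surjective_of_unramified A D
  let 𝔮 : Ideal P := (maximalIdeal D).comap (χ : P →+* D)
  haveI : 𝔮.IsPrime := Ideal.comap_isPrime _ _
  have hmem : ∀ p : P, p ∈ 𝔮.primeCompl ↔ IsUnit (χ p) := by
    intro p
    rw [Ideal.mem_primeCompl_iff, Ideal.mem_comap, mem_maximalIdeal, mem_nonunits_iff, not_not]
    rfl
  have hunit : ∀ y : 𝔮.primeCompl, IsUnit (χ y) := fun y => (hmem y).mp y.2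
  let χ' : Localization.AtPrime 𝔮 →ₐ[A] D :=
    IsLocalization.liftAlgHom (M := 𝔮.primeCompl) (f := χ) hunit
  have hχ' : ∀ p, χ' (algebraMap P (Localization.AtPrime 𝔮) p) = χ p := by
    intro p
    simp [χ']
  have hmk : ∀ (p : P) (s : 𝔮.primeCompl),
      χ' (IsLocalization.mk' (Localization.AtPrime 𝔮) p s) * χ s = χ p := by
    intro p s
    rw [← hχ' s, ← map_mul, IsLocalization.mk'_spec, hχ']
  have hsurj : Function.Surjective χ' := by
    intro d
    obtain ⟨p, s, hs, hd⟩ := hχ d
    refine ⟨IsLocalization.mk' _ p (⟨s, (hmem s).mpr hs⟩ : 𝔮.primeCompl), ?_⟩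
    have h1 := hmk p ⟨s, (hmem s).mpr hs⟩
    rw [← hd] at h1
    exact hs.mul_left_injective h1
  have hlocal : ∀ x, IsUnit (χ' x) → IsUnit x := by
    intro x hx
    obtain ⟨p, s, rfl⟩ := IsLocalization.exists_mk'_eq 𝔮.primeCompl x
    have h1 := hmk p s
    have h2 : IsUnit (χ p) := by
      rw [← h1]
      exact hx.mul (hunit s)
    have h3 : p ∈ 𝔮.primeCompl := (hmem p).mpr h2
    have h4 : IsUnit (algebraMap P (Localization.AtPrime 𝔮) p) :=
      IsLocalization.map_units _ (⟨p, h3⟩ : 𝔮.primeCompl)
    have h5 : IsLocalization.mk' (Localization.AtPrime 𝔮) p s *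
        algebraMap P (Localization.AtPrime 𝔮) s = algebraMap P (Localization.AtPrime 𝔮) p :=
      IsLocalization.mk'_spec _ p s
    exact isUnit_of_mul_isUnit_left (h5 ▸ h4)
  haveI : Algebra.EssFiniteType A (Localization.AtPrime 𝔮) :=
    Algebra.EssFiniteType.comp A P (Localization.AtPrime 𝔮)
  haveI : Algebra.FormallyEtale P (Localization.AtPrime 𝔮) :=
    Algebra.FormallyEtale.of_isLocalization 𝔮.primeCompl
  haveI : Algebra.FormallyEtale A (Localization.AtPrime 𝔮) :=
    Algebra.FormallyEtale.comp A P (Localization.AtPrime 𝔮)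
  haveI := faithfullyFlat_of_isStrictHenselization A S
  have hinj : Function.Injective (D.val.comp χ') :=
    injective_of_algHom_local (D.val.comp χ')
      (fun x hx => hlocal x (isUnit_of_map_unit (algebraMap D S) _ hx))
  have hinj' : Function.Injective χ' := by
    intro x y h
    apply hinj
    show D.val (χ' x) = D.val (χ' y)
    rw [h]
  refine ⟨P, inferInstance, inferInstance, 𝔮, inferInstance, hP, ?_,
    ⟨(AlgEquiv.ofBijective χ' ⟨hinj', hsurj⟩).symm⟩⟩
  show ((maximalIdeal D).comap (χ : P →+* D)).comap (algebraMap A P) = maximalIdeal A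
  rw [Ideal.comap_comap, ← maximalIdeal_comap (algebraMap A D)]
  congr 1
  apply RingHom.ext
  intro a
  exact χ.commutes a

theorem s16438 (D : Subalgebra A S) [IsLocalRing D]
    [IsLocalHom (algebraMap D S)] [Algebra.EssFiniteType A D]
    (hm : Ideal.map (algebraMap A D) (maximalIdeal A) = maximalIdeal D) :
    EGA4loc.IsEssentiallyEtale A D := by
  haveI := isLocalHom_algebraMap_sub A S D
  haveI : Algebra.IsSeparable (ResidueField A) (ResidueField S) := IsSepClosure.separable
  haveI : Algebra.IsSeparable (ResidueField A) (ResidueField D) :=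
    Algebra.isSeparable_tower_bot_of_isSeparable (ResidueField A) (ResidueField D) (ResidueField S)
  haveI : Algebra.FormallyUnramified A D := Algebra.FormallyUnramified.of_map_maximalIdeal hm
  exact isEssentiallyEtale_of_unramified A S D

end main

end Groth.Agent.Helper2.EssEtSub
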