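import Mathlib
import Groth.Prelude
import Groth.Agent.Helper1.EssEt

set_option autoImplicit false
set_option linter.style.haveILetI false
set_option linter.unusedSectionVars false

/-! total rings of fractions of reduced rings with finitely many minimal primes and of their
essentially étale algebras -/

universe u

namespace Groth.Agent.Helper2.TotFrac

open IsLocalRing

section reduced

variable {A : Type*} [CommRing A] [IsReduced A]

theorem mem_nonZeroDivisors_of_forall_notMem (x : A) (h : ∀ p ∈ minimalPrimes A, x ∉ p) :
    x ∈ nonZeroDivisors A := by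
  rw [mem_nonZeroDivisors_iff_right]
  intro y hy
  have hy' : y ∈ nilradical A := by
    rw [nilradical, ← Ideal.sInf_minimalPrimes, Ideal.mem_sInf]
    intro p hp
    haveI : p.IsPrime := hp.1.1
    have h1 : y * x ∈ p := by rw [hy]; exact p.zero_mem
    exact (Ideal.IsPrime.mem_or_mem inferInstance h1).resolve_right (h p hp)
  rw [nilradical_eq_zero] at hy'
  exact hy'

theorem mem_minimalPrimes_of_disjoint (hfin : (minimalPrimes A).Finite) (q : Ideal A) [q.IsPrime]
    (hq : Disjoint (q : Set A) (nonZeroDivisors A : Set A)) : q ∈ minimalPrimes A := by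
  classical
  have h1 : (q : Set A) ⊆ ⋃ p ∈ (hfin.toFinset : Set (Ideal A)), ((id p : Ideal A) : Set A) := by
    intro x hx
    by_contra hnot
    apply Set.disjoint_left.mp hq hx
    refine mem_nonZeroDivisors_of_forall_notMem x (fun p hp hxp => hnot ?_)
    refine Set.mem_biUnion (x := p) ?_ hxp
    simpa using hp
  obtain ⟨p, hp, hqp⟩ := (Ideal.subset_union_prime (f := (id : Ideal A → Ideal A)) ⊥ ⊥
    (fun i hi _ _ => by
      have : i ∈ minimalPrimes A := by simpa using hi
      exact this.1.1)).mp h1
  have hp' : p ∈ minimalPrimes A := by simpa using hp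
  have h2 : p ≤ q := hp'.2 ⟨inferInstance, bot_le⟩ hqp
  have h3 : q = p := le_antisymm hqp h2
  rw [h3]
  exact hp'

end reduced

section artinian

theorem isArtinianRing_of_finite_of_isReduced (R : Type*) [CommRing R] [IsReduced R]
    [Finite (PrimeSpectrum R)] [Ring.KrullDimLE 0 R] : IsArtinianRing R := by
  classical
  haveI : Finite (MaximalSpectrum R) :=
    Finite.of_injective _ MaximalSpectrum.toPrimeSpectrum_injective
  let f : MaximalSpectrum R → Ideal R := fun m => m.asIdeal
  have hcop : Pairwise (Function.onFun IsCoprime f) := by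
    intro m m' hne
    haveI := m.isMaximal
    haveI := m'.isMaximal
    exact Ideal.isCoprime_of_isMaximal (fun h => hne (MaximalSpectrum.ext h))
  have hinf : ⨅ i, f i = ⊥ := by
    have h1 : (⊥ : Ideal R).jacobson = ⊥ := by
      rw [Ideal.jacobson_eq_radical]
      exact nilradical_eq_zero R
    rw [← h1, Ideal.jacobson, eq_comm]
    apply le_antisymm
    · rw [le_iInf_iff]
      intro m
      exact sInf_le ⟨bot_le, m.isMaximal⟩
    · rw [le_sInf_iff]
      rintro J ⟨-, hJ⟩
      exact iInf_le f ⟨J, hJ⟩
  let e := Ideal.quotientInfRingEquivPiQuotient f hcop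
  haveI : ∀ i, IsArtinianRing (R ⧸ f i) := fun i => by
    haveI : (f i).IsMaximal := i.isMaximal
    letI := Ideal.Quotient.field (f i)
    infer_instance
  haveI h2 : IsArtinianRing (R ⧸ ⨅ i, f i) := e.symm.isArtinianRing
  rw [hinf] at h2
  exact (RingEquiv.quotientBot R).isArtinianRing

variable {A : Type*} [CommRing A] [IsReduced A]

theorem comap_mem_minimalPrimes (hfin : (minimalPrimes A).Finite) (P : Ideal (FractionRing A))
    [P.IsPrime] : P.comap (algebraMap A (FractionRing A)) ∈ minimalPrimes A := by
  haveI : (P.comap (algebraMap A (FractionRing A))).IsPrime := Ideal.comap_isPrime _ _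
  apply mem_minimalPrimes_of_disjoint hfin
  have := ((IsLocalization.isPrime_iff_isPrime_disjoint (nonZeroDivisors A) (FractionRing A) P).mp
    inferInstance).2
  exact this.symm

theorem isArtinianRing_fractionRing (hfin : (minimalPrimes A).Finite) :
    IsArtinianRing (FractionRing A) := by
  haveI : IsReduced (FractionRing A) :=
    inferInstanceAs (IsReduced (Localization (nonZeroDivisors A)))
  have hinj : Function.Injective (fun P : PrimeSpectrum (FractionRing A) =>
      (⟨P.asIdeal.comap (algebraMap A (FractionRing A)), comap_mem_minimalPrimes hfin P.asIdeal⟩ :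
        minimalPrimes A)) := by
    intro P P' h
    have h1 : P.asIdeal.comap (algebraMap A (FractionRing A)) =
        P'.asIdeal.comap (algebraMap A (FractionRing A)) := congrArg Subtype.val h
    apply PrimeSpectrum.ext
    rw [← IsLocalization.map_under (nonZeroDivisors A) (FractionRing A) P.asIdeal,
      ← IsLocalization.map_under (nonZeroDivisors A) (FractionRing A) P'.asIdeal]
    exact congrArg (Ideal.map (algebraMap A (FractionRing A))) h1
  haveI : Finite (minimalPrimes A) := hfin.to_subtype
  haveI : Finite (PrimeSpectrum (FractionRing A)) := Finite.of_injective _ hinj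
  haveI : Ring.KrullDimLE 0 (FractionRing A) := by
    rw [Ring.krullDimLE_zero_iff]
    intro P hP
    obtain ⟨M, hM, hPM⟩ := Ideal.exists_le_maximal P hP.ne_top
    haveI := hM.isPrime
    have h1 := comap_mem_minimalPrimes hfin P
    have h2 := comap_mem_minimalPrimes hfin M
    have h3 : M.comap (algebraMap A (FractionRing A)) ≤ P.comap (algebraMap A (FractionRing A)) :=
      h2.2 h1.1 (Ideal.comap_mono hPM)
    have h4 : M ≤ P := by
      rw [← IsLocalization.map_under (nonZeroDivisors A) (FractionRing A) P,
        ← IsLocalization.map_under (nonZeroDivisors A) (FractionRing A) M]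
      exact Ideal.map_mono h3
    rw [le_antisymm hPM h4]
    exact hM
  exact isArtinianRing_of_finite_of_isReduced _

end artinian

section essEt

variable (A E : Type u) [CommRing A] [IsLocalRing A] [CommRing E] [Algebra A E]

theorem flat_of_isEssentiallyEtale (hE : EGA4loc.IsEssentiallyEtale A E) : Module.Flat A E := by
  obtain ⟨C, _, _, q, _, hC, -, ⟨e⟩⟩ := hE
  haveI : Module.Flat A C := inferInstance
  haveI : Module.Flat C (Localization.AtPrime q) := IsLocalization.flat _ q.primeCompl
  haveI : Module.Flat A (Localization.AtPrime q) := Module.Flat.trans A C _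
  exact Module.Flat.of_linearEquiv e.toLinearEquiv

theorem map_le_nonZeroDivisors [Module.Flat A E] :
    (nonZeroDivisors A).map (algebraMap A E) ≤ nonZeroDivisors E := by
  rintro _ ⟨s, hs, rfl⟩
  have h1 : IsSMulRegular A s := by
    intro a b hab
    have h2 : s * (a - b) = 0 := by
      have : s * a = s * b := hab
      rw [mul_sub, this, sub_self]
    have := (mem_nonZeroDivisors_iff.mp hs).1 _ h2
    exact sub_eq_zero.mp this
  have h3 : IsSMulRegular E (algebraMap A E s) := h1.of_flat
  rw [SetLike.mem_coe] at hs
  show algebraMap A E s ∈ nonZeroDivisors E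
  rw [mem_nonZeroDivisors_iff_right]
  intro y hy
  apply h3
  show algebraMap A E s * y = algebraMap A E s * 0
  rw [mul_zero, mul_comm, hy]

variable [IsReduced A]

theorem exists_dvd_of_mem_nonZeroDivisors (hmin : (minimalPrimes A).Finite)
    [Algebra.QuasiFinite A E] (e : E) (he : e ∈ nonZeroDivisors E) :
    ∃ m ∈ (nonZeroDivisors A).map (algebraMap A E), e ∣ m := by
  by_contra hcon
  push_neg at hcon
  have hdis : Disjoint ((Ideal.span {e} : Ideal E) : Set E)
      (((nonZeroDivisors A).map (algebraMap A E) : Submonoid E) : Set E) := by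
    rw [Set.disjoint_left]
    intro x hx hxM
    rw [SetLike.mem_coe, Ideal.mem_span_singleton] at hx
    exact hcon x hxM hx
  obtain ⟨Q, hQ, heQ, hQdis⟩ := Ideal.exists_le_prime_disjoint _ _ hdis
  haveI := hQ
  have heQ' : e ∈ Q := heQ (Ideal.subset_span rfl)
  haveI : (Q.comap (algebraMap A E)).IsPrime := Ideal.comap_isPrime _ _
  have hq : Q.comap (algebraMap A E) ∈ minimalPrimes A := by
    apply mem_minimalPrimes_of_disjoint hmin
    rw [Set.disjoint_left]
    intro a haQ hanzd
    exact Set.disjoint_left.mp hQdis haQ ⟨a, hanzd, rfl⟩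
  obtain ⟨Q', hQ', hQ'Q⟩ := Ideal.exists_minimalPrimes_le (bot_le : (⊥ : Ideal E) ≤ Q)
  haveI : Q'.IsPrime := hQ'.1.1
  haveI : (Q'.comap (algebraMap A E)).IsPrime := Ideal.comap_isPrime _ _
  have h1 : Q.comap (algebraMap A E) ≤ Q'.comap (algebraMap A E) :=
    hq.2 ⟨inferInstance, bot_le⟩ (Ideal.comap_mono hQ'Q)
  have h2 : Q' = Q := Algebra.QuasiFinite.eq_of_le_of_under_eq (R := A) Q' Q hQ'Q
    (le_antisymm (Ideal.comap_mono hQ'Q) h1)
  rw [← h2] at heQ'
  exact Set.disjoint_left.mp (Ideal.disjoint_nonZeroDivisors_of_mem_minimalPrimes hQ') heQ' he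

end essEt

section main

variable (A E : Type u) [CommRing A] [IsLocalRing A] [IsReduced A] [CommRing E] [Algebra A E]

theorem isLocalization_fractionRing (hmin : (minimalPrimes A).Finite) [Module.Flat A E]
    [Algebra.QuasiFinite A E] :
    IsLocalization ((nonZeroDivisors A).map (algebraMap A E)) (FractionRing E) := by
  haveI : IsLocalization (nonZeroDivisors E)
      (Localization ((nonZeroDivisors A).map (algebraMap A E))) :=
    IsLocalization.of_le_of_exists_dvd ((nonZeroDivisors A).map (algebraMap A E))
      (nonZeroDivisors E) (map_le_nonZeroDivisors A E)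
      (exists_dvd_of_mem_nonZeroDivisors A E hmin)
  let e : Localization ((nonZeroDivisors A).map (algebraMap A E)) ≃ₐ[E] FractionRing E :=
    IsLocalization.algEquiv (nonZeroDivisors E) _ _
  exact IsLocalization.isLocalization_of_algEquiv ((nonZeroDivisors A).map (algebraMap A E)) e

theorem isUnit_algebraMap_fractionRing [Module.Flat A E] (s : nonZeroDivisors A) :
    IsUnit (algebraMap A (FractionRing E) s) := by
  rw [IsScalarTower.algebraMap_apply A E (FractionRing E)]
  exact IsLocalization.map_units (FractionRing E)
    (⟨algebraMap A E s, map_le_nonZeroDivisors A E ⟨s, s.2, rfl⟩⟩ : nonZeroDivisors E)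

/-- the canonical map `K_A → K_E` -/
noncomputable def fracMap [Module.Flat A E] : FractionRing A →+* FractionRing E :=
  IsLocalization.lift (M := nonZeroDivisors A) (isUnit_algebraMap_fractionRing A E)

theorem fracMap_algebraMap [Module.Flat A E] (a : A) :
    fracMap A E (algebraMap A (FractionRing A) a) = algebraMap A (FractionRing E) a :=
  IsLocalization.lift_eq _ a

theorem exists_finset_span_aux (hmin : (minimalPrimes A).Finite) [Module.Flat A E]
    [Algebra.QuasiFinite A E] :
    ∃ t : Finset (FractionRing E), ∀ x : FractionRing E, ∃ a ∈ nonZeroDivisors A,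
      algebraMap A (FractionRing E) a * x ∈ Submodule.span A (t : Set (FractionRing E)) := by
  haveI : IsArtinianRing (FractionRing A) := isArtinianRing_fractionRing hmin
  letI : Algebra (FractionRing A) (FractionRing E) := (fracMap A E).toAlgebra
  haveI : IsScalarTower A (FractionRing A) (FractionRing E) :=
    IsScalarTower.of_algebraMap_eq (fun a => (fracMap_algebraMap A E a).symm)
  haveI : Algebra.QuasiFinite A (FractionRing E) :=
    Algebra.QuasiFinite.of_isLocalization (R := A) (S := E) (nonZeroDivisors E)
  haveI : Algebra.QuasiFinite (FractionRing A) (FractionRing E) :=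
    Algebra.QuasiFinite.of_restrictScalars A (FractionRing A) (FractionRing E)
  haveI : Module.Finite (FractionRing A) (FractionRing E) := Module.Finite.of_quasiFinite
  obtain ⟨t, ht⟩ := (Module.Finite.fg_top : (⊤ : Submodule (FractionRing A) (FractionRing E)).FG)
  refine ⟨t, fun x => ?_⟩
  have hx : x ∈ Submodule.span (FractionRing A) (t : Set (FractionRing E)) := by
    rw [ht]; trivial
  refine Submodule.span_induction (p := fun x _ => ∃ a ∈ nonZeroDivisors A,
      algebraMap A (FractionRing E) a * x ∈ Submodule.span A (t : Set (FractionRing E)))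
    ?_ ?_ ?_ ?_ hx
  · intro y hy
    exact ⟨1, one_mem _, by rw [map_one, one_mul]; exact Submodule.subset_span hy⟩
  · exact ⟨1, one_mem _, by rw [mul_zero]; exact Submodule.zero_mem _⟩
  · rintro y z _ _ ⟨a, ha, hay⟩ ⟨b, hb, hbz⟩
    refine ⟨a * b, mul_mem ha hb, ?_⟩
    have h1 : algebraMap A (FractionRing E) (a * b) * (y + z) =
        b • (algebraMap A (FractionRing E) a * y) + a • (algebraMap A (FractionRing E) b * z) := by
      rw [Algebra.smul_def, Algebra.smul_def, map_mul]; ring
    rw [h1]
    exact Submodule.add_mem _ (Submodule.smul_mem _ _ hay) (Submodule.smul_mem _ _ hbz)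
  · rintro c y _ ⟨a, ha, hay⟩
    obtain ⟨⟨r, s⟩, hrs⟩ := IsLocalization.surj (nonZeroDivisors A) c
    refine ⟨s * a, mul_mem s.2 ha, ?_⟩
    have h1 : algebraMap A (FractionRing E) (s * a) * (c • y) =
        r • (algebraMap A (FractionRing E) a * y) := by
      have h2 : algebraMap A (FractionRing E) s * algebraMap (FractionRing A) (FractionRing E) c =
          algebraMap A (FractionRing E) r := by
        rw [IsScalarTower.algebraMap_apply A (FractionRing A) (FractionRing E),
          IsScalarTower.algebraMap_apply A (FractionRing A) (FractionRing E) r, ← map_mul]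
        congr 1
        rw [mul_comm]
        exact hrs
      rw [Algebra.smul_def c y, Algebra.smul_def r, map_mul, ← h2]
      ring
    rw [h1]
    exact Submodule.smul_mem _ _ hay

theorem s16448 (hmin : (minimalPrimes A).Finite) (hE : EGA4loc.IsEssentiallyEtale A E) :
    IsLocalization ((nonZeroDivisors A).map (algebraMap A E)) (FractionRing E) ∧
      ∃ t : Finset (FractionRing E), ∀ x : FractionRing E, ∃ a ∈ nonZeroDivisors A,
        algebraMap A (FractionRing E) a * x ∈ Submodule.span A (t : Set (FractionRing E)) := by
  haveI := flat_of_isEssentiallyEtale A E hE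
  obtain ⟨h1, h2⟩ := Groth.Agent.Helper1.EssEt.props_of_isEssentiallyEtale hE
  haveI := h1
  haveI := h2
  haveI : Algebra.QuasiFinite A E := inferInstance
  exact ⟨isLocalization_fractionRing A E hmin, exists_finset_span_aux A E hmin⟩

end main

end Groth.Agent.Helper2.TotFrac
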