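import Mathlib
import Groth.Prelude
import Groth.Agent.Helper2.TotFrac1

set_option autoImplicit false
set_option linter.style.haveILetI false
set_option linter.unusedSectionVars false

/-! S16443: the preimage in an essentially étale local algebra of an intermediate ring of total
fraction rings -/

universe u

namespace Groth.Agent.Helper2.TotFrac

open IsLocalRing

section

variable (A E : Type u) [CommRing A] [IsLocalRing A] [IsReduced A] [CommRing E] [Algebra A E]

theorem finite_fracMap (hmin : (minimalPrimes A).Finite) [Module.Flat A E]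
    [Algebra.QuasiFinite A E] :
    letI : Algebra (FractionRing A) (FractionRing E) := (fracMap A E).toAlgebra
    Module.Finite (FractionRing A) (FractionRing E) := by
  haveI : IsArtinianRing (FractionRing A) := isArtinianRing_fractionRing hmin
  letI : Algebra (FractionRing A) (FractionRing E) := (fracMap A E).toAlgebra
  haveI : IsScalarTower A (FractionRing A) (FractionRing E) :=
    IsScalarTower.of_algebraMap_eq (fun a => (fracMap_algebraMap A E a).symm)
  haveI : Algebra.QuasiFinite A (FractionRing E) :=
    Algebra.QuasiFinite.of_isLocalization (R := A) (S := E) (nonZeroDivisors E)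
  haveI : Algebra.QuasiFinite (FractionRing A) (FractionRing E) :=
    Algebra.QuasiFinite.of_restrictScalars A (FractionRing A) (FractionRing E)
  exact Module.Finite.of_quasiFinite

/-- the key lemma: an element of `L` which is a unit of `K_E` has its inverse in `L`. -/
theorem inv_mem_of_isUnit (hmin : (minimalPrimes A).Finite) [Module.Flat A E]
    [Algebra.QuasiFinite A E] (L : Subalgebra A (FractionRing E))
    (hL : ∀ s ∈ nonZeroDivisors A, ∃ y ∈ L, algebraMap A (FractionRing E) s * y = 1)
    (x x' : FractionRing E) (hx : x ∈ L) (hxx' : x * x' = 1) : x' ∈ L := by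
  haveI : IsArtinianRing (FractionRing A) := isArtinianRing_fractionRing hmin
  letI : Algebra (FractionRing A) (FractionRing E) := (fracMap A E).toAlgebra
  haveI : IsScalarTower A (FractionRing A) (FractionRing E) :=
    IsScalarTower.of_algebraMap_eq (fun a => (fracMap_algebraMap A E a).symm)
  haveI : Module.Finite (FractionRing A) (FractionRing E) := finite_fracMap A E hmin
  -- `L` as a `K_A`-subalgebra
  have hmem : ∀ c : FractionRing A, algebraMap (FractionRing A) (FractionRing E) c ∈ L := by
    intro c
    obtain ⟨⟨r, s⟩, hrs⟩ := IsLocalization.surj (nonZeroDivisors A) c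
    obtain ⟨y, hy, hsy⟩ := hL s s.2
    have h1 : algebraMap (FractionRing A) (FractionRing E) c =
        algebraMap A (FractionRing E) r * y := by
      have h2 : algebraMap (FractionRing A) (FractionRing E) c * algebraMap A (FractionRing E) s =
          algebraMap A (FractionRing E) r := by
        rw [IsScalarTower.algebraMap_apply A (FractionRing A) (FractionRing E),
          IsScalarTower.algebraMap_apply A (FractionRing A) (FractionRing E) r, ← map_mul]
        exact congrArg _ hrs
      calc algebraMap (FractionRing A) (FractionRing E) c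
          = algebraMap (FractionRing A) (FractionRing E) c *
              (algebraMap A (FractionRing E) s * y) := by rw [hsy, mul_one]
        _ = algebraMap A (FractionRing E) r * y := by rw [← mul_assoc, h2]
    rw [h1]
    exact L.mul_mem (L.algebraMap_mem r) hy
  let L' : Subalgebra (FractionRing A) (FractionRing E) :=
    { carrier := L
      mul_mem' := fun ha hb => L.mul_mem ha hb
      add_mem' := fun ha hb => L.add_mem ha hb
      algebraMap_mem' := hmem }
  haveI : IsNoetherian (FractionRing A) (FractionRing E) :=
    isNoetherian_of_isNoetherianRing_of_finite _ _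
  haveI : Module.Finite (FractionRing A) L' :=
    Module.Finite.of_injective (L'.val.toLinearMap) Subtype.val_injective
  haveI : IsArtinianRing L' := IsArtinianRing.of_finite (FractionRing A) L'
  let xL : L' := ⟨x, hx⟩
  have hnzd : xL ∈ nonZeroDivisors L' := by
    rw [mem_nonZeroDivisors_iff_right]
    intro z hz
    have h1 : (z : FractionRing E) * x = 0 := congrArg Subtype.val hz
    have h2 : (z : FractionRing E) = 0 := by
      calc (z : FractionRing E) = (z : FractionRing E) * (x * x') := by rw [hxx', mul_one]
        _ = 0 := by rw [← mul_assoc, h1, zero_mul]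
    exact Subtype.ext h2
  obtain ⟨u, hu⟩ := IsArtinianRing.isUnit_of_mem_nonZeroDivisors hnzd
  have h3 : x * ((u⁻¹ : L'ˣ) : L') = 1 := by
    have : xL * ((u⁻¹ : L'ˣ) : L') = 1 := by rw [← hu]; exact u.mul_inv
    exact congrArg Subtype.val this
  have h4 : x' = ((u⁻¹ : L'ˣ) : L') := by
    calc x' = (x * ((u⁻¹ : L'ˣ) : L')) * x' := by rw [h3, one_mul]
      _ = ((u⁻¹ : L'ˣ) : L') * (x * x') := by ring
      _ = ((u⁻¹ : L'ˣ) : L') := by rw [hxx', mul_one]
  rw [h4]
  exact ((u⁻¹ : L'ˣ) : L').2

end

section main

variable (A E : Type u) [CommRing A] [IsLocalRing A] [IsReduced A] [CommRing E] [IsLocalRing E]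
  [Algebra A E]

theorem s16443 (hmin : (minimalPrimes A).Finite)
    (hE : EGA4loc.IsEssentiallyEtale A E) (L : Subalgebra A (FractionRing E))
    (hL : ∀ s ∈ nonZeroDivisors A, ∃ y ∈ L, algebraMap A (FractionRing E) s * y = 1) :
    ∃ D : Subalgebra A E, (D : Set E) = (algebraMap E (FractionRing E)) ⁻¹' (L : Set (FractionRing E)) ∧
      ∃ _ : IsLocalRing D, IsLocalHom (algebraMap D E) ∧
        ∀ l ∈ L, ∃ d ∈ D, ∃ s ∈ nonZeroDivisors A, ∃ y ∈ L,
          algebraMap A (FractionRing E) s * y = 1 ∧ l = algebraMap E (FractionRing E) d * y := by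
  haveI := flat_of_isEssentiallyEtale A E hE
  obtain ⟨h1, h2⟩ := Groth.Agent.Helper1.EssEt.props_of_isEssentiallyEtale hE
  haveI := h1
  haveI := h2
  haveI : Algebra.QuasiFinite A E := inferInstance
  haveI hloc := isLocalization_fractionRing A E hmin
  let D : Subalgebra A E := L.comap (IsScalarTower.toAlgHom A E (FractionRing E))
  have hD : ∀ d : E, d ∈ D ↔ algebraMap E (FractionRing E) d ∈ L := fun d => Iff.rfl
  -- units
  have hunit : ∀ d : D, IsUnit (d : E) → IsUnit d := by
    intro d hd
    obtain ⟨u, hu⟩ := hd
    have h3 : algebraMap E (FractionRing E) (d : E) *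
        algebraMap E (FractionRing E) ((u⁻¹ : Eˣ) : E) = 1 := by
      rw [← map_mul, ← hu, Units.mul_inv, map_one]
    have h4 : ((u⁻¹ : Eˣ) : E) ∈ D := by
      rw [hD]
      exact inv_mem_of_isUnit A E hmin L hL _ _ ((hD _).mp d.2) h3
    refine IsUnit.of_mul_eq_one (⟨((u⁻¹ : Eˣ) : E), h4⟩ : D) ?_
    apply Subtype.ext
    show (d : E) * ((u⁻¹ : Eˣ) : E) = 1
    rw [← hu, Units.mul_inv]
  have hunit' : ∀ d : D, IsUnit d → IsUnit (d : E) := by
    intro d hd
    exact hd.map D.val
  haveI : Nontrivial D := inferInstance
  have hlocal : IsLocalRing D := by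
    apply IsLocalRing.of_nonunits_add
    intro a b ha hb
    have ha' : (a : E) ∈ nonunits E := fun h => ha (hunit a h)
    have hb' : (b : E) ∈ nonunits E := fun h => hb (hunit b h)
    intro hab
    have : (a : E) + (b : E) ∈ nonunits E := IsLocalRing.nonunits_add ha' hb'
    exact this (hunit' (a + b) hab)
  refine ⟨D, rfl, hlocal, ⟨fun d hd => hunit d hd⟩, ?_⟩
  intro l hl
  obtain ⟨⟨e, m⟩, hem⟩ := IsLocalization.surj ((nonZeroDivisors A).map (algebraMap A E)) l
  obtain ⟨s, hs, hsm⟩ := m.2
  obtain ⟨y, hy, hsy⟩ := hL s hs
  have h5 : algebraMap E (FractionRing E) (m : E) = algebraMap A (FractionRing E) s := by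
    rw [← hsm, IsScalarTower.algebraMap_apply A E (FractionRing E)]
  have h6 : algebraMap E (FractionRing E) e = l * algebraMap A (FractionRing E) s := by
    rw [← h5]; exact hem.symm
  refine ⟨e, ?_, s, hs, y, hy, hsy, ?_⟩
  · rw [hD, h6]
    exact L.mul_mem hl (L.algebraMap_mem s)
  · rw [h6, mul_assoc, hsy, mul_one]

end main

end Groth.Agent.Helper2.TotFrac
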