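import Mathlib
import Groth.Prelude
import Groth.Agent.Helper2.TotFrac2

set_option autoImplicit false
set_option linter.style.haveILetI false
set_option linter.unusedSectionVars false

/-! more on total fraction rings of quasi-finite flat algebras over reduced rings with finitely
many minimal primes -/

universe u

namespace Groth.Agent.Helper2.TotFrac

open IsLocalRing

section

variable (A E : Type u) [CommRing A] [IsLocalRing A] [IsReduced A] [CommRing E] [Algebra A E]

/-- an intermediate ring `K_A ⊆ L ⊆ K_E` is artinian -/
theorem isArtinianRing_sub (hmin : (minimalPrimes A).Finite) [Module.Flat A E]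
    [Algebra.QuasiFinite A E] (L : Subalgebra A (FractionRing E))
    (hL : ∀ s ∈ nonZeroDivisors A, ∃ y ∈ L, algebraMap A (FractionRing E) s * y = 1) :
    IsArtinianRing L := by
  haveI : IsArtinianRing (FractionRing A) := isArtinianRing_fractionRing hmin
  letI : Algebra (FractionRing A) (FractionRing E) := (fracMap A E).toAlgebra
  haveI : IsScalarTower A (FractionRing A) (FractionRing E) :=
    IsScalarTower.of_algebraMap_eq (fun a => (fracMap_algebraMap A E a).symm)
  haveI : Module.Finite (FractionRing A) (FractionRing E) := finite_fracMap A E hmin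
  have hmem : ∀ c : FractionRing A, algebraMap (FractionRing A) (FractionRing E) c ∈ L := by
    intro c
    obtain ⟨⟨r, s⟩, hrs⟩ := IsLocalization.surj (nonZeroDivisors A) c
    obtain ⟨y, hy, hsy⟩ := hL s s.2
    have h1 : algebraMap (FractionRing A) (FractionRing E) c =
        algebraMap A (FractionRing E) r * y := by
      have h2 : algebraMap (FractionRing A) (FractionRing E) c * algebraMap A (FractionRing E) s =
          algebraMap A (FractionRing E) r := by
        rw [IsScalarTower.algebraMap_apply A (FractionRing A) (FractionRing E),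
          IsScalarTower.algebraMap_apply A (FractionRing A) (FractionRing E) r, ← map_mul]
        exact congrArg _ hrs
      calc algebraMap (FractionRing A) (FractionRing E) c
          = algebraMap (FractionRing A) (FractionRing E) c *
              (algebraMap A (FractionRing E) s * y) := by rw [hsy, mul_one]
        _ = algebraMap A (FractionRing E) r * y := by rw [← mul_assoc, h2]
    rw [h1]
    exact L.mul_mem (L.algebraMap_mem r) hy
  let L' : Subalgebra (FractionRing A) (FractionRing E) :=
    { carrier := L
      mul_mem' := fun ha hb => L.mul_mem ha hb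
      add_mem' := fun ha hb => L.add_mem ha hb
      algebraMap_mem' := hmem }
  haveI : IsNoetherian (FractionRing A) (FractionRing E) :=
    isNoetherian_of_isNoetherianRing_of_finite _ _
  haveI : Module.Finite (FractionRing A) L' :=
    Module.Finite.of_injective (L'.val.toLinearMap) Subtype.val_injective
  haveI : IsArtinianRing L' := IsArtinianRing.of_finite (FractionRing A) L'
  let e : L' ≃+* L :=
    { toFun := fun x => ⟨x.1, x.2⟩
      invFun := fun x => ⟨x.1, x.2⟩
      left_inv := fun _ => rfl
      right_inv := fun _ => rfl
      map_mul' := fun _ _ => rfl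
      map_add' := fun _ _ => rfl }
  exact e.isArtinianRing

/-- if `v` is a non-zero-divisor on `A[v]` then it is a non-zero-divisor of `E` -/
theorem mem_nonZeroDivisors_of_adjoin (hmin : (minimalPrimes A).Finite) [Module.Flat A E]
    [Algebra.QuasiFinite A E] (v : E)
    (hv : ∀ d ∈ Algebra.adjoin A ({v} : Set E), v * d = 0 → d = 0) :
    v ∈ nonZeroDivisors E := by
  have hinj : Function.Injective (algebraMap E (FractionRing E)) :=
    IsLocalization.injective (FractionRing E) le_rfl
  have haunit : ∀ a ∈ nonZeroDivisors A, IsUnit (algebraMap A (FractionRing E) a) :=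
    fun a ha => isUnit_algebraMap_fractionRing A E ⟨a, ha⟩
  let L : Subalgebra A (FractionRing E) :=
    { carrier := {l | ∃ a ∈ nonZeroDivisors A, ∃ d ∈ Algebra.adjoin A ({v} : Set E),
        algebraMap A (FractionRing E) a * l = algebraMap E (FractionRing E) d}
      mul_mem' := by
        rintro l l' ⟨a, ha, d, hd, h⟩ ⟨a', ha', d', hd', h'⟩
        refine ⟨a * a', mul_mem ha ha', d * d', Subalgebra.mul_mem _ hd hd', ?_⟩
        rw [map_mul, map_mul, ← h, ← h']; ring
      add_mem' := by
        rintro l l' ⟨a, ha, d, hd, h⟩ ⟨a', ha', d', hd', h'⟩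
        refine ⟨a * a', mul_mem ha ha', a' • d + a • d',
          Subalgebra.add_mem _ (Subalgebra.smul_mem _ hd a') (Subalgebra.smul_mem _ hd' a), ?_⟩
        rw [map_mul, map_add, Algebra.smul_def, Algebra.smul_def, map_mul, map_mul, ← h, ← h',
          ← IsScalarTower.algebraMap_apply, ← IsScalarTower.algebraMap_apply]
        ring
      algebraMap_mem' := by
        intro r
        refine ⟨1, one_mem _, algebraMap A E r, Subalgebra.algebraMap_mem _ r, ?_⟩
        rw [map_one, one_mul, ← IsScalarTower.algebraMap_apply] }
  have hLmem : ∀ l, l ∈ L ↔ ∃ a ∈ nonZeroDivisors A, ∃ d ∈ Algebra.adjoin A ({v} : Set E),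
        algebraMap A (FractionRing E) a * l = algebraMap E (FractionRing E) d := fun l => Iff.rfl
  have hL : ∀ s ∈ nonZeroDivisors A, ∃ y ∈ L, algebraMap A (FractionRing E) s * y = 1 := by
    intro s hs
    obtain ⟨u, hu⟩ := haunit s hs
    refine ⟨((u⁻¹ : (FractionRing E)ˣ) : FractionRing E), ?_, ?_⟩
    · rw [hLmem]
      refine ⟨s, hs, 1, one_mem _, ?_⟩
      rw [← hu, Units.mul_inv, map_one]
    · rw [← hu, Units.mul_inv]
  haveI := isArtinianRing_sub A E hmin L hL
  have hxL : algebraMap E (FractionRing E) v ∈ L := by
    rw [hLmem]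
    exact ⟨1, one_mem _, v, Algebra.subset_adjoin rfl, by rw [map_one, one_mul]⟩
  let xL : L := ⟨algebraMap E (FractionRing E) v, hxL⟩
  by_cases hx : xL ∈ nonZeroDivisors L
  · obtain ⟨u, hu⟩ := IsArtinianRing.isUnit_of_mem_nonZeroDivisors hx
    have h3 : algebraMap E (FractionRing E) v * ((u⁻¹ : Lˣ) : L) = 1 := by
      have : xL * ((u⁻¹ : Lˣ) : L) = 1 := by rw [← hu]; exact u.mul_inv
      exact congrArg Subtype.val this
    rw [mem_nonZeroDivisors_iff_right]
    intro e he
    apply hinj
    rw [map_zero]
    calc algebraMap E (FractionRing E) e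
        = algebraMap E (FractionRing E) e *
            (algebraMap E (FractionRing E) v * ((u⁻¹ : Lˣ) : L)) := by rw [h3, mul_one]
      _ = algebraMap E (FractionRing E) (e * v) * ((u⁻¹ : Lˣ) : L) := by rw [map_mul]; ring
      _ = 0 := by rw [he, map_zero, zero_mul]
  · exfalso
    rw [mem_nonZeroDivisors_iff_right] at hx
    push_neg at hx
    obtain ⟨g, hg0, hgne⟩ := hx
    obtain ⟨a, ha, d, hd, had⟩ := (hLmem _).mp g.2
    have h1 : (g : FractionRing E) * algebraMap E (FractionRing E) v = 0 :=
      congrArg Subtype.val hg0
    have h2 : v * d = 0 := by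
      apply hinj
      rw [map_mul, map_zero, ← had]
      calc algebraMap E (FractionRing E) v * (algebraMap A (FractionRing E) a * (g : FractionRing E))
          = algebraMap A (FractionRing E) a *
              ((g : FractionRing E) * algebraMap E (FractionRing E) v) := by ring
        _ = 0 := by rw [h1, mul_zero]
    have h3 : d = 0 := hv d hd h2
    rw [h3, map_zero] at had
    have h4 : (g : FractionRing E) = 0 := ((haunit a ha).mul_right_eq_zero).mp had
    exact hgne (Subtype.ext h4)

/-- an injective algebra map into `E` preserves non-zero-divisors -/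
theorem map_mem_nonZeroDivisors_of_injective (hmin : (minimalPrimes A).Finite) [Module.Flat A E]
    [Algebra.QuasiFinite A E] {D : Type u} [CommRing D] [Algebra A D] (j : D →ₐ[A] E)
    (hj : Function.Injective j) (y : D) (hy : y ∈ nonZeroDivisors D) :
    j y ∈ nonZeroDivisors E := by
  apply mem_nonZeroDivisors_of_adjoin A E hmin
  intro d hd hvd
  have h1 : Algebra.adjoin A ({j y} : Set E) ≤ j.range := by
    rw [Algebra.adjoin_le_iff]
    rintro _ rfl
    exact ⟨y, rfl⟩
  obtain ⟨d', rfl⟩ := h1 hd
  have h2 : y * d' = 0 := by
    apply hj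
    rw [map_mul, map_zero]
    exact hvd
  have h3 : d' = 0 := by
    have := (mem_nonZeroDivisors_iff_right.mp hy) d' (by rw [mul_comm]; exact h2)
    exact this
  rw [h3, map_zero]

end

section fg

variable (A E : Type u) [CommRing A] [IsLocalRing A] [IsReduced A] [CommRing E] [Algebra A E]

/-- an intermediate ring `K_A ⊆ L ⊆ K_E` is "finite over `K_A`" -/
theorem exists_finset_span_sub (hmin : (minimalPrimes A).Finite) [Module.Flat A E]
    [Algebra.QuasiFinite A E] (L : Subalgebra A (FractionRing E))
    (hL : ∀ s ∈ nonZeroDivisors A, ∃ y ∈ L, algebraMap A (FractionRing E) s * y = 1) :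
    ∃ t : Finset (FractionRing E), (t : Set (FractionRing E)) ⊆ L ∧
      ∀ x ∈ L, ∃ a ∈ nonZeroDivisors A,
        algebraMap A (FractionRing E) a * x ∈ Submodule.span A (t : Set (FractionRing E)) := by
  classical
  haveI : IsArtinianRing (FractionRing A) := isArtinianRing_fractionRing hmin
  letI : Algebra (FractionRing A) (FractionRing E) := (fracMap A E).toAlgebra
  haveI : IsScalarTower A (FractionRing A) (FractionRing E) :=
    IsScalarTower.of_algebraMap_eq (fun a => (fracMap_algebraMap A E a).symm)
  haveI : Module.Finite (FractionRing A) (FractionRing E) := finite_fracMap A E hmin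
  have hmem : ∀ c : FractionRing A, algebraMap (FractionRing A) (FractionRing E) c ∈ L := by
    intro c
    obtain ⟨⟨r, s⟩, hrs⟩ := IsLocalization.surj (nonZeroDivisors A) c
    obtain ⟨y, hy, hsy⟩ := hL s s.2
    have h1 : algebraMap (FractionRing A) (FractionRing E) c =
        algebraMap A (FractionRing E) r * y := by
      have h2 : algebraMap (FractionRing A) (FractionRing E) c * algebraMap A (FractionRing E) s =
          algebraMap A (FractionRing E) r := by
        rw [IsScalarTower.algebraMap_apply A (FractionRing A) (FractionRing E),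
          IsScalarTower.algebraMap_apply A (FractionRing A) (FractionRing E) r, ← map_mul]
        exact congrArg _ hrs
      calc algebraMap (FractionRing A) (FractionRing E) c
          = algebraMap (FractionRing A) (FractionRing E) c *
              (algebraMap A (FractionRing E) s * y) := by rw [hsy, mul_one]
        _ = algebraMap A (FractionRing E) r * y := by rw [← mul_assoc, h2]
    rw [h1]
    exact L.mul_mem (L.algebraMap_mem r) hy
  let N : Submodule (FractionRing A) (FractionRing E) :=
    { carrier := L
      add_mem' := fun ha hb => L.add_mem ha hb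
      zero_mem' := L.zero_mem
      smul_mem' := fun c x hx => by
        show c • x ∈ L
        rw [Algebra.smul_def]
        exact L.mul_mem (hmem c) hx }
  haveI : IsNoetherian (FractionRing A) (FractionRing E) :=
    isNoetherian_of_isNoetherianRing_of_finite _ _
  obtain ⟨t, ht⟩ := (IsNoetherian.noetherian N : N.FG)
  refine ⟨t, ?_, fun x hx => ?_⟩
  · intro y hy
    have : y ∈ N := by rw [← ht]; exact Submodule.subset_span hy
    exact this
  have hx' : x ∈ Submodule.span (FractionRing A) (t : Set (FractionRing E)) := by
    rw [ht]; exact hx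
  refine Submodule.span_induction (p := fun x _ => ∃ a ∈ nonZeroDivisors A,
      algebraMap A (FractionRing E) a * x ∈ Submodule.span A (t : Set (FractionRing E)))
    ?_ ?_ ?_ ?_ hx'
  · intro y hy
    exact ⟨1, one_mem _, by rw [map_one, one_mul]; exact Submodule.subset_span hy⟩
  · exact ⟨1, one_mem _, by rw [mul_zero]; exact Submodule.zero_mem _⟩
  · rintro y z _ _ ⟨a, ha, hay⟩ ⟨b, hb, hbz⟩
    refine ⟨a * b, mul_mem ha hb, ?_⟩
    have h1 : algebraMap A (FractionRing E) (a * b) * (y + z) =
        b • (algebraMap A (FractionRing E) a * y) + a • (algebraMap A (FractionRing E) b * z) := by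
      rw [Algebra.smul_def, Algebra.smul_def, map_mul]; ring
    rw [h1]
    exact Submodule.add_mem _ (Submodule.smul_mem _ _ hay) (Submodule.smul_mem _ _ hbz)
  · rintro c y _ ⟨a, ha, hay⟩
    obtain ⟨⟨r, s⟩, hrs⟩ := IsLocalization.surj (nonZeroDivisors A) c
    refine ⟨s * a, mul_mem s.2 ha, ?_⟩
    have h1 : algebraMap A (FractionRing E) (s * a) * (c • y) =
        r • (algebraMap A (FractionRing E) a * y) := by
      have h2 : algebraMap A (FractionRing E) s * algebraMap (FractionRing A) (FractionRing E) c =
          algebraMap A (FractionRing E) r := by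
        rw [IsScalarTower.algebraMap_apply A (FractionRing A) (FractionRing E),
          IsScalarTower.algebraMap_apply A (FractionRing A) (FractionRing E) r, ← map_mul]
        congr 1
        rw [mul_comm]
        exact hrs
      rw [Algebra.smul_def c y, Algebra.smul_def r, map_mul, ← h2]
      ring
    rw [h1]
    exact Submodule.smul_mem _ _ hay

/-- the total fraction ring of a subalgebra of `E` is "finitely generated over `K_A`" -/
theorem exists_finset_adjoin (hmin : (minimalPrimes A).Finite) [Module.Flat A E]
    [Algebra.QuasiFinite A E] {D : Type u} [CommRing D] [Algebra A D] (j : D →ₐ[A] E)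
    (hj : Function.Injective j) :
    ∃ t : Finset (FractionRing D), ∀ x : FractionRing D, ∃ a ∈ nonZeroDivisors A,
      algebraMap A (FractionRing D) a * x ∈ Algebra.adjoin A (t : Set (FractionRing D)) := by
  classical
  let g : D →+* FractionRing E := (algebraMap E (FractionRing E)).comp (j : D →+* E)
  have hg : ∀ y : nonZeroDivisors D, IsUnit (g y) := fun y =>
    IsLocalization.map_units (FractionRing E)
      (⟨j y, map_mem_nonZeroDivisors_of_injective A E hmin j hj y y.2⟩ : nonZeroDivisors E)
  have hginj : Function.Injective g :=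
    (IsLocalization.injective (FractionRing E) le_rfl).comp hj
  let ι : FractionRing D →+* FractionRing E := IsLocalization.lift hg
  have hι : ∀ d : D, ι (algebraMap D (FractionRing D) d) = g d := fun d =>
    IsLocalization.lift_eq hg d
  have hιinj : Function.Injective ι := by
    rw [IsLocalization.lift_injective_iff]
    intro x y
    constructor
    · intro h
      rw [IsLocalization.injective (FractionRing D) le_rfl h]
    · intro h
      rw [hginj h]
  have hιA : ∀ a : A, ι (algebraMap A (FractionRing D) a) = algebraMap A (FractionRing E) a := by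
    intro a
    rw [IsScalarTower.algebraMap_apply A D (FractionRing D), hι]
    show algebraMap E (FractionRing E) (j (algebraMap A D a)) = _
    rw [j.commutes, ← IsScalarTower.algebraMap_apply]
  let ιA : FractionRing D →ₐ[A] FractionRing E := { ι with commutes' := hιA }
  have hιA' : ∀ x, ιA x = ι x := fun x => rfl
  -- nonzerodivisors of `A` are units of `K_D`
  have hAD : ∀ s ∈ nonZeroDivisors A, algebraMap A D s ∈ nonZeroDivisors D := by
    intro s hs
    rw [mem_nonZeroDivisors_iff_right]
    intro d hd
    apply hj
    rw [map_zero]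
    have h1 : j d * algebraMap A E s = 0 := by
      rw [← j.commutes, ← map_mul, hd, map_zero]
    exact (mem_nonZeroDivisors_iff_right.mp (map_le_nonZeroDivisors A E ⟨s, hs, rfl⟩)) _ h1
  have hL : ∀ s ∈ nonZeroDivisors A, ∃ y ∈ ιA.range, algebraMap A (FractionRing E) s * y = 1 := by
    intro s hs
    have hu : IsUnit (algebraMap A (FractionRing D) s) := by
      rw [IsScalarTower.algebraMap_apply A D (FractionRing D)]
      exact IsLocalization.map_units (FractionRing D)
        (⟨algebraMap A D s, hAD s hs⟩ : nonZeroDivisors D)
    obtain ⟨u, hu⟩ := hu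
    refine ⟨ιA ((u⁻¹ : (FractionRing D)ˣ) : FractionRing D), ⟨_, rfl⟩, ?_⟩
    rw [← hιA, hιA', ← map_mul, ← hu, Units.mul_inv, map_one]
  obtain ⟨t, htL, ht⟩ := exists_finset_span_sub A E hmin ιA.range hL
  have htr : (t : Set (FractionRing E)) ⊆ ιA '' Set.univ := by
    intro y hy
    obtain ⟨x, rfl⟩ := htL hy
    exact ⟨x, trivial, rfl⟩
  obtain ⟨t', -, ht'⟩ := Finset.subset_set_image_iff.mp htr
  refine ⟨t', fun x => ?_⟩
  obtain ⟨a, ha, hax⟩ := ht (ιA x) ⟨x, rfl⟩
  refine ⟨a, ha, ?_⟩
  have h1 : Submodule.span A (t : Set (FractionRing E)) =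
      (Submodule.span A (t' : Set (FractionRing D))).map ιA.toLinearMap := by
    rw [Submodule.map_span, ← ht', Finset.coe_image]
    rfl
  rw [h1] at hax
  obtain ⟨w, hw, hwx⟩ := hax
  have h2 : w = algebraMap A (FractionRing D) a * x := by
    apply hιinj
    show ιA w = ιA (algebraMap A (FractionRing D) a * x)
    rw [map_mul, ιA.commutes]
    exact hwx
  rw [← h2]
  exact Algebra.span_le_adjoin A _ hw

end fg

end Groth.Agent.Helper2.TotFrac
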