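import Mathlib
import Groth.Prelude
import Groth.Agent.Helper2.EssEtSub2
import Groth.Agent.Helper2.TotFrac3

set_option autoImplicit false
set_option linter.style.haveILetI false
set_option linter.unusedSectionVars false

/-! S16441 -/

universe u

namespace Groth.Agent.Helper2.EssEtSub

open IsLocalRing Groth.Agent.Helper1.Hens Groth.Agent.Helper1 Groth.Agent.Helper2.TotFrac

section

variable (A S : Type u) [CommRing A] [IsLocalRing A] [CommRing S] [IsLocalRing S] [Algebra A S]
  [IsLocalHom (algebraMap A S)] [Hensel.IsStrictHenselization A S]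

theorem flat_stageHom (i : Idx A (ResidueField S)) :
    letI : Algebra i.L S := (stageHom A S i).toRingHom.toAlgebra
    Module.FaithfullyFlat i.L S := by
  letI : Algebra i.L S := (stageHom A S i).toRingHom.toAlgebra
  haveI := faithfullyFlat_of_isStrictHenselization A S
  haveI : Module.Flat i.L S := FlatUnram.flat_of_algHom (stageHom A S i)
  haveI : IsLocalHom (algebraMap i.L S) := ⟨isUnit_of_isUnit_stageHom A S i⟩
  exact Module.FaithfullyFlat.of_flat_of_isLocalHom

theorem mem_range_of_mul_mem (i : Idx A (ResidueField S)) (u e : i.L)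
    (hu : u ∈ nonZeroDivisors i.L) (d : S) (h : stageHom A S i u * d = stageHom A S i e) :
    d ∈ (stageHom A S i).range := by
  letI : Algebra i.L S := (stageHom A S i).toRingHom.toAlgebra
  haveI := flat_stageHom A S i
  have halg : ∀ x : i.L, algebraMap i.L S x = stageHom A S i x := fun x => rfl
  have h1 : e ∈ ((Ideal.span {u}).map (algebraMap i.L S)).comap (algebraMap i.L S) := by
    rw [Ideal.mem_comap, halg, ← h]
    exact Ideal.mul_mem_right _ _ (Ideal.mem_map_of_mem _ (Ideal.subset_span rfl))
  rw [Ideal.comap_map_eq_self_of_faithfullyFlat, Ideal.mem_span_singleton'] at h1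
  obtain ⟨e₀, he₀⟩ := h1
  have h2 : stageHom A S i u ∈ nonZeroDivisors S := by
    have := map_le_nonZeroDivisors i.L S ⟨u, hu, rfl⟩
    exact this
  have h3 : (d - stageHom A S i e₀) * stageHom A S i u = 0 := by
    rw [sub_mul, mul_comm d, h, ← map_mul, he₀, sub_self]
  have h4 := (mem_nonZeroDivisors_iff_right.mp h2) _ h3
  exact ⟨e₀, (sub_eq_zero.mp h4).symm⟩

variable [IsReduced A]

theorem nzd_sub_of_nzd (hmin : (minimalPrimes A).Finite) (D : Subalgebra A S) (v : D)
    (hv : v ∈ nonZeroDivisors D) : (v : S) ∈ nonZeroDivisors S := by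
  rw [mem_nonZeroDivisors_iff_right]
  intro s hs
  let e := equivOfIsStrictHenselization A S
  obtain ⟨i, x', hx'⟩ := Hens.exists_of_family (fun k : Fin 2 => e (![(v : S), s] k))
  have h0 : stageHom A S i (x' 0) = (v : S) := by
    apply e.injective
    rw [stageHom_apply]
    exact hx' 0
  have h1 : stageHom A S i (x' 1) = s := by
    apply e.injective
    rw [stageHom_apply]
    exact hx' 1
  have hinj := stageHom_injective A S i
  have hv₁ : x' 0 ∈ nonZeroDivisors i.L := by
    apply mem_nonZeroDivisors_of_adjoin A i.L hmin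
    intro d hd hvd
    have h2 : stageHom A S i d ∈ D := by
      have h3 : stageHom A S i d ∈ (Algebra.adjoin A ({x' 0} : Set i.L)).map (stageHom A S i) :=
        ⟨d, hd, rfl⟩
      rw [AlgHom.map_adjoin, Set.image_singleton, h0] at h3
      have h4 : Algebra.adjoin A ({(v : S)} : Set S) ≤ D := by
        rw [Algebra.adjoin_le_iff]
        rintro _ rfl
        exact v.2
      exact h4 h3
    have h5 : (⟨stageHom A S i d, h2⟩ : D) * v = 0 := by
      apply Subtype.ext
      show stageHom A S i d * (v : S) = 0
      rw [← h0, ← map_mul, mul_comm, hvd, map_zero]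
    have h6 := (mem_nonZeroDivisors_iff_right.mp hv) _ h5
    have h7 : stageHom A S i d = 0 := congrArg Subtype.val h6
    apply hinj
    rw [h7, map_zero]
  have h8 : x' 1 * x' 0 = 0 := by
    apply hinj
    rw [map_mul, h0, h1, hs, map_zero]
  have h9 := (mem_nonZeroDivisors_iff_right.mp hv₁) _ h8
  rw [← h1, h9, map_zero]

end

section main

variable (A S : Type u) [CommRing A] [IsLocalRing A] [IsReduced A] [CommRing S] [IsLocalRing S]
  [Algebra A S] [IsLocalHom (algebraMap A S)] [Hensel.IsStrictHenselization A S]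

theorem s16441_mp (hmin : (minimalPrimes A).Finite) (D : Subalgebra A S)
    (h : ∃ t : Finset (FractionRing D), ∀ x : FractionRing D, ∃ a ∈ nonZeroDivisors A,
        algebraMap A (FractionRing D) a * x ∈ Algebra.adjoin A (t : Set (FractionRing D))) :
    ∃ E : Subalgebra A S, D ≤ E ∧ ∃ _ : IsLocalRing E, EGA4loc.IsEssentiallyEtale A E := by
  classical
  obtain ⟨t, ht⟩ := h
  have hDinj : Function.Injective (algebraMap D (FractionRing D)) :=
    IsLocalization.injective (FractionRing D) le_rfl
  let e := equivOfIsStrictHenselization A S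
  let fam : (↥t) × Bool → S := fun k =>
    if k.2 then (((IsLocalization.surj (nonZeroDivisors D) (k.1 : FractionRing D)).choose.1 : D) : S)
    else ((((IsLocalization.surj (nonZeroDivisors D) (k.1 : FractionRing D)).choose.2 :
      nonZeroDivisors D) : D) : S)
  obtain ⟨i, x', hx'⟩ := Hens.exists_of_family (fun k => e (fam k))
  have hfam : ∀ k, fam k ∈ (stageHom A S i).range := by
    intro k
    refine ⟨x' k, ?_⟩
    apply e.injective
    show e (stageHom A S i (x' k)) = e (fam k)
    rw [stageHom_apply]
    exact hx' k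
  refine ⟨(stageHom A S i).range, ?_, isLocalRing_range A S i, isEssentiallyEtale_range A S i⟩
  -- the key property of elements of `A[t]`
  have hP : ∀ y ∈ Algebra.adjoin A (t : Set (FractionRing D)), ∃ v e' : D,
      v ∈ nonZeroDivisors D ∧ (v : S) ∈ (stageHom A S i).range ∧
      (e' : S) ∈ (stageHom A S i).range ∧
      y * algebraMap D (FractionRing D) v = algebraMap D (FractionRing D) e' := by
    intro y hy
    induction hy using Algebra.adjoin_induction with
    | mem τ hτ =>
      have hspec := (IsLocalization.surj (nonZeroDivisors D) τ).choose_spec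
      refine ⟨((IsLocalization.surj (nonZeroDivisors D) τ).choose.2 : nonZeroDivisors D),
        (IsLocalization.surj (nonZeroDivisors D) τ).choose.1,
        ((IsLocalization.surj (nonZeroDivisors D) τ).choose.2 : nonZeroDivisors D).2, ?_, ?_, hspec⟩
      · have := hfam (⟨τ, hτ⟩, false)
        simpa [fam] using this
      · have := hfam (⟨τ, hτ⟩, true)
        simpa [fam] using this
    | algebraMap r =>
      refine ⟨1, algebraMap A D r, one_mem _, ?_, ?_, ?_⟩
      · exact Subalgebra.one_mem _
      · exact Subalgebra.algebraMap_mem _ r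
      · rw [map_one, mul_one, ← IsScalarTower.algebraMap_apply]
    | add y z _ _ hy hz =>
      obtain ⟨v, e₁, hv, hvE, heE, h1⟩ := hy
      obtain ⟨w, e₂, hw, hwE, heE', h2⟩ := hz
      refine ⟨v * w, e₁ * w + e₂ * v, mul_mem hv hw, ?_, ?_, ?_⟩
      · exact Subalgebra.mul_mem _ hvE hwE
      · exact Subalgebra.add_mem _ (Subalgebra.mul_mem _ heE hwE) (Subalgebra.mul_mem _ heE' hvE)
      · rw [map_mul, map_add, map_mul, map_mul, ← h1, ← h2]; ring
    | mul y z _ _ hy hz =>
      obtain ⟨v, e₁, hv, hvE, heE, h1⟩ := hy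
      obtain ⟨w, e₂, hw, hwE, heE', h2⟩ := hz
      refine ⟨v * w, e₁ * e₂, mul_mem hv hw, ?_, ?_, ?_⟩
      · exact Subalgebra.mul_mem _ hvE hwE
      · exact Subalgebra.mul_mem _ heE heE'
      · rw [map_mul, map_mul, ← h1, ← h2]; ring
  intro d hd
  obtain ⟨a, ha, hmem⟩ := ht (algebraMap D (FractionRing D) ⟨d, hd⟩)
  obtain ⟨v, e', hv, hvE, heE, h1⟩ := hP _ hmem
  -- `algebraMap A D a * d * v = e'` in `D`
  have h2 : algebraMap A D a * ⟨d, hd⟩ * v = e' := by
    apply hDinj
    rw [map_mul, map_mul, ← h1, ← IsScalarTower.algebraMap_apply]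
  have haD : algebraMap A D a ∈ nonZeroDivisors D := by
    haveI := faithfullyFlat_of_isStrictHenselization A S
    have h3 : algebraMap A S a ∈ nonZeroDivisors S := map_le_nonZeroDivisors A S ⟨a, ha, rfl⟩
    rw [mem_nonZeroDivisors_iff_right]
    intro z hz
    apply Subtype.ext
    have h4 : (z : S) * algebraMap A S a = 0 := congrArg Subtype.val hz
    exact (mem_nonZeroDivisors_iff_right.mp h3) _ h4
  have hu : algebraMap A D a * v ∈ nonZeroDivisors D := mul_mem haD hv
  have huS := nzd_sub_of_nzd A S hmin D _ hu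
  have huE : ((algebraMap A D a * v : D) : S) ∈ (stageHom A S i).range :=
    Subalgebra.mul_mem _ (Subalgebra.algebraMap_mem _ a) hvE
  obtain ⟨u₁, hu₁⟩ := huE
  obtain ⟨e₁, he₁⟩ := heE
  have hu₁nzd : u₁ ∈ nonZeroDivisors i.L := by
    rw [mem_nonZeroDivisors_iff_right]
    intro z hz
    apply stageHom_injective A S i
    rw [map_zero]
    have h5 : stageHom A S i z * stageHom A S i u₁ = 0 := by rw [← map_mul, hz, map_zero]
    rw [show stageHom A S i u₁ = ((algebraMap A D a * v : D) : S) from hu₁] at h5
    exact (mem_nonZeroDivisors_iff_right.mp huS) _ h5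
  apply mem_range_of_mul_mem A S i u₁ e₁ hu₁nzd d
  rw [show stageHom A S i u₁ = ((algebraMap A D a * v : D) : S) from hu₁,
    show stageHom A S i e₁ = (e' : S) from he₁, ← h2]
  show ((algebraMap A D a * v : D) : S) * d = ((algebraMap A D a * ⟨d, hd⟩ * v : D) : S)
  push_cast
  ring

theorem s16441_mpr (hmin : (minimalPrimes A).Finite) (D : Subalgebra A S)
    (h : ∃ E : Subalgebra A S, D ≤ E ∧ ∃ _ : IsLocalRing E, EGA4loc.IsEssentiallyEtale A E) :
    ∃ t : Finset (FractionRing D), ∀ x : FractionRing D, ∃ a ∈ nonZeroDivisors A,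
        algebraMap A (FractionRing D) a * x ∈ Algebra.adjoin A (t : Set (FractionRing D)) := by
  obtain ⟨E, hDE, _, hE⟩ := h
  haveI := flat_of_isEssentiallyEtale A E hE
  obtain ⟨h1, h2⟩ := Groth.Agent.Helper1.EssEt.props_of_isEssentiallyEtale hE
  haveI := h1
  haveI := h2
  haveI : Algebra.QuasiFinite A E := inferInstance
  exact exists_finset_adjoin A E hmin (Subalgebra.inclusion hDE) (Subalgebra.inclusion_injective hDE)

theorem s16441 (hmin : (minimalPrimes A).Finite) (D : Subalgebra A S) :
    (∃ t : Finset (FractionRing D), ∀ x : FractionRing D, ∃ a ∈ nonZeroDivisors A,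
        algebraMap A (FractionRing D) a * x ∈ Algebra.adjoin A (t : Set (FractionRing D))) ↔
      ∃ E : Subalgebra A S, D ≤ E ∧ ∃ _ : IsLocalRing E, EGA4loc.IsEssentiallyEtale A E :=
  ⟨s16441_mp A S hmin D, s16441_mpr A S hmin D⟩

end main

end Groth.Agent.Helper2.EssEtSub
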