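import Mathlib
import Groth.Prelude
import Groth.Agent.Helper2.EssEtSub3
import Groth.Agent.Helper1.HensStrictNoeth

set_option autoImplicit false
set_option linter.style.haveILetI false
set_option linter.unusedSectionVars false

/-! S16446 -/

universe u

namespace Groth.Agent.Helper2.EssEtSub

open IsLocalRing Groth.Agent.Helper1.Hens Groth.Agent.Helper1 Groth.Agent.Helper2.TotFrac

section

variable (A S : Type u) [CommRing A] [IsLocalRing A] [CommRing S] [IsLocalRing S] [Algebra A S]
  [IsLocalHom (algebraMap A S)] [Hensel.IsStrictHenselization A S]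

/-- finitely many elements of `S` lie in a common stage -/
theorem exists_stage_of_finset (F : Finset S) :
    ∃ i : Idx A (ResidueField S), (F : Set S) ⊆ (stageHom A S i).range := by
  let e := equivOfIsStrictHenselization A S
  obtain ⟨i, x', hx'⟩ := Hens.exists_of_family (fun k : F => e (k : S))
  refine ⟨i, fun y hy => ⟨x' ⟨y, hy⟩, ?_⟩⟩
  apply e.injective
  show e (stageHom A S i (x' ⟨y, hy⟩)) = e y
  rw [stageHom_apply]
  exact hx' ⟨y, hy⟩

/-- descent of membership modulo a prime generated by its contraction to the stage -/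
theorem exists_sub_mem_of_mul_sub_mem (i : Idx A (ResidueField S)) (Q : Ideal S) [Q.IsPrime]
    (hQ : Q = (Q.comap (stageHom A S i).toRingHom).map (stageHom A S i).toRingHom)
    (a₁ b₁ : i.L) (hb : stageHom A S i b₁ ∉ Q) (x : S)
    (hx : x * stageHom A S i b₁ - stageHom A S i a₁ ∈ Q) :
    ∃ e₁ : i.L, x - stageHom A S i e₁ ∈ Q := by
  letI : Algebra i.L S := (stageHom A S i).toRingHom.toAlgebra
  haveI := flat_stageHom A S i
  have halg : ∀ y : i.L, algebraMap i.L S y = stageHom A S i y := fun y => rfl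
  set Q₁ : Ideal i.L := Q.comap (algebraMap i.L S) with hQ₁
  have hQ' : Q = Q₁.map (algebraMap i.L S) := hQ
  have h1 : a₁ ∈ ((Ideal.span {b₁} ⊔ Q₁).map (algebraMap i.L S)).comap (algebraMap i.L S) := by
    rw [Ideal.mem_comap, halg, Ideal.map_sup]
    have h2 : stageHom A S i a₁ =
        x * stageHom A S i b₁ - (x * stageHom A S i b₁ - stageHom A S i a₁) := by ring
    rw [h2]
    refine Ideal.sub_mem _ (Ideal.mem_sup_left ?_) (Ideal.mem_sup_right ?_)
    · exact Ideal.mul_mem_left _ _ (Ideal.mem_map_of_mem _ (Ideal.subset_span rfl))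
    · rw [← hQ']; exact hx
  rw [Ideal.comap_map_eq_self_of_faithfullyFlat, Submodule.mem_sup] at h1
  obtain ⟨y, hy, z, hz, hyz⟩ := h1
  rw [Ideal.mem_span_singleton'] at hy
  obtain ⟨e₁, he₁⟩ := hy
  refine ⟨e₁, ?_⟩
  have h3 : (x - stageHom A S i e₁) * stageHom A S i b₁ ∈ Q := by
    have h4 : (x - stageHom A S i e₁) * stageHom A S i b₁ =
        (x * stageHom A S i b₁ - stageHom A S i a₁) + stageHom A S i z := by
      rw [← hyz, ← he₁, map_add, map_mul]; ring
    rw [h4]
    exact Ideal.add_mem _ hx hz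
  exact (Ideal.IsPrime.mem_or_mem inferInstance h3).resolve_right hb

end

section

variable (A S : Type u) [CommRing A] [IsLocalRing A] [IsNoetherianRing A] [CommRing S]
  [IsLocalRing S] [Algebra A S]
  [IsLocalHom (algebraMap A S)] [Hensel.IsStrictHenselization A S]

theorem s16446_aux (Q : Ideal S) (hQ : Q ∈ minimalPrimes S) [Q.IsPrime]
    (t : Finset (FractionRing (S ⧸ Q))) :
    ∃ i : Idx A (ResidueField S),
      (∀ Q' ∈ ((Q.comap (algebraMap A S)).map (algebraMap A S)).minimalPrimes,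
        Q' ≤ Ideal.map (stageHom A S i).toRingHom (Q'.comap (stageHom A S i).toRingHom)) ∧
      ∀ x : S, algebraMap (S ⧸ Q) (FractionRing (S ⧸ Q)) (Ideal.Quotient.mk Q x) ∈
          Subfield.closure (Set.range (algebraMap A (FractionRing (S ⧸ Q))) ∪
            (t : Set (FractionRing (S ⧸ Q)))) →
        ∃ e₁ : i.L, x - stageHom A S i e₁ ∈ Q := by
  classical
  haveI : IsNoetherianRing S := isNoetherianRing_of_isStrictHenselization A S
  set I : Ideal S := (Q.comap (algebraMap A S)).map (algebraMap A S) with hI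
  have hfin : I.minimalPrimes.Finite := Ideal.finite_minimalPrimes_of_isNoetherianRing S I
  have hQI : Q ∈ I.minimalPrimes := by
    refine ⟨⟨inferInstance, Ideal.map_comap_le⟩, ?_⟩
    rintro P ⟨hP, -⟩ hPQ
    exact hQ.2 ⟨hP, bot_le⟩ hPQ
  -- generators
  let gens : Ideal S → Finset S := fun J => (IsNoetherian.noetherian J).choose
  have hgens : ∀ J : Ideal S, Ideal.span (gens J : Set S) = J :=
    fun J => (IsNoetherian.noetherian J).choose_spec
  let F₁ : Finset S := hfin.toFinset.biUnion gens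
  -- numerators and denominators
  let K := FractionRing (S ⧸ Q)
  let ι : S ⧸ Q →+* K := algebraMap (S ⧸ Q) K
  have hnd : ∀ τ : K, ∃ n d : S, d ∉ Q ∧ τ * ι (Ideal.Quotient.mk Q d) = ι (Ideal.Quotient.mk Q n) := by
    intro τ
    obtain ⟨⟨n, d⟩, h⟩ := IsLocalization.surj (nonZeroDivisors (S ⧸ Q)) τ
    obtain ⟨n', rfl⟩ := Ideal.Quotient.mk_surjective n
    obtain ⟨d', hd'⟩ := Ideal.Quotient.mk_surjective (d : S ⧸ Q)
    refine ⟨n', d', ?_, ?_⟩
    · intro hd
      have h0 : (d : S ⧸ Q) = 0 := by rw [← hd']; exact Ideal.Quotient.eq_zero_iff_mem.2 hd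
      exact nonZeroDivisors.coe_ne_zero d h0
    · rw [hd']; exact h
  choose num den hden hnumden using hnd
  let F₂ : Finset S := t.image num ∪ t.image den
  obtain ⟨i, hi⟩ := exists_stage_of_finset A S (F₁ ∪ F₂)
  have hi₁ : ∀ Q' ∈ I.minimalPrimes, ∀ g ∈ gens Q', g ∈ (stageHom A S i).range := by
    intro Q' hQ' g hg
    apply hi
    simp only [Finset.coe_union, Set.mem_union, Finset.mem_coe]
    left
    exact Finset.mem_biUnion.2 ⟨Q', hfin.mem_toFinset.2 hQ', hg⟩
  have hi₂ : ∀ τ ∈ t, num τ ∈ (stageHom A S i).range ∧ den τ ∈ (stageHom A S i).range := by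
    intro τ hτ
    constructor
    · apply hi
      simp only [Finset.coe_union, Set.mem_union, Finset.mem_coe]
      right
      exact Finset.mem_union_left _ (Finset.mem_image_of_mem _ hτ)
    · apply hi
      simp only [Finset.coe_union, Set.mem_union, Finset.mem_coe]
      right
      exact Finset.mem_union_right _ (Finset.mem_image_of_mem _ hτ)
  have hle : ∀ Q' ∈ I.minimalPrimes,
      Q' ≤ Ideal.map (stageHom A S i).toRingHom (Q'.comap (stageHom A S i).toRingHom) := by
    intro Q' hQ'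
    conv_lhs => rw [← hgens Q']
    rw [Ideal.span_le]
    intro g hg
    obtain ⟨g₁, hg₁⟩ := hi₁ Q' hQ' g hg
    have hg₂ : (stageHom A S i).toRingHom g₁ = g := hg₁
    rw [← hg₂]
    apply Ideal.mem_map_of_mem
    rw [Ideal.mem_comap, hg₂, ← hgens Q']
    exact Ideal.subset_span hg
  refine ⟨i, hle, ?_⟩
  have hQeq : Q = (Q.comap (stageHom A S i).toRingHom).map (stageHom A S i).toRingHom :=
    le_antisymm (hle Q hQI) Ideal.map_comap_le
  -- closure induction
  have hcl : ∀ l ∈ Subfield.closure (Set.range (algebraMap A K) ∪ (t : Set K)),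
      ∃ a b : i.L, stageHom A S i b ∉ Q ∧
        l * ι (Ideal.Quotient.mk Q (stageHom A S i b)) =
          ι (Ideal.Quotient.mk Q (stageHom A S i a)) := by
    have hιne : ∀ b : i.L, stageHom A S i b ∉ Q →
        ι (Ideal.Quotient.mk Q (stageHom A S i b)) ≠ 0 := by
      intro b hb h0
      have h1 : Ideal.Quotient.mk Q (stageHom A S i b) = 0 :=
        (IsFractionRing.injective (S ⧸ Q) K) (by rw [map_zero]; exact h0)
      exact hb (Ideal.Quotient.eq_zero_iff_mem.1 h1)
    intro l hl
    induction hl using Subfield.closure_induction with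
    | mem l hl =>
      rcases hl with ⟨r, rfl⟩ | hl
      · refine ⟨algebraMap A i.L r, 1, ?_, ?_⟩
        · rw [map_one]; exact fun h => (Ideal.IsPrime.ne_top inferInstance)
            ((Ideal.eq_top_iff_one Q).2 h)
        · rw [map_one, map_one, map_one, mul_one, AlgHom.commutes]
          rfl
      · obtain ⟨a, ha⟩ := (hi₂ l hl).1
        obtain ⟨b, hb⟩ := (hi₂ l hl).2
        refine ⟨a, b, ?_, ?_⟩
        · rw [show stageHom A S i b = den l from hb]; exact hden l
        · rw [show stageHom A S i b = den l from hb, show stageHom A S i a = num l from ha]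
          exact hnumden l
    | one =>
      refine ⟨1, 1, ?_, by rw [one_mul]⟩
      rw [map_one]; exact fun h => (Ideal.IsPrime.ne_top inferInstance)
        ((Ideal.eq_top_iff_one Q).2 h)
    | add l₁ l₂ _ _ h₁ h₂ =>
      obtain ⟨a₁, b₁, hb₁, e₁⟩ := h₁
      obtain ⟨a₂, b₂, hb₂, e₂⟩ := h₂
      refine ⟨a₁ * b₂ + a₂ * b₁, b₁ * b₂, ?_, ?_⟩
      · rw [map_mul]
        exact fun h => (Ideal.IsPrime.mem_or_mem inferInstance h).elim hb₁ hb₂
      · simp only [map_mul, map_add]
        rw [← e₁, ← e₂]; ring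
    | neg l _ h =>
      obtain ⟨a, b, hb, e⟩ := h
      refine ⟨-a, b, hb, ?_⟩
      simp only [map_neg]
      rw [← e]; ring
    | inv l _ h =>
      obtain ⟨a, b, hb, e⟩ := h
      by_cases ha : stageHom A S i a ∈ Q
      · have h0 : ι (Ideal.Quotient.mk Q (stageHom A S i a)) = 0 := by
          rw [Ideal.Quotient.eq_zero_iff_mem.2 ha, map_zero]
        rw [h0] at e
        have hl0 : l = 0 := (mul_eq_zero.1 e).resolve_right (hιne b hb)
        refine ⟨0, 1, ?_, ?_⟩
        · rw [map_one]; exact fun h => (Ideal.IsPrime.ne_top inferInstance)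
            ((Ideal.eq_top_iff_one Q).2 h)
        · rw [hl0, inv_zero, zero_mul, map_zero, map_zero, map_zero]
      · refine ⟨b, a, ha, ?_⟩
        have hane := hιne a ha
        have hl0 : l ≠ 0 := by
          rintro rfl
          rw [zero_mul] at e
          exact hane e.symm
        rw [← e, ← mul_assoc, inv_mul_cancel₀ hl0, one_mul]
    | mul l₁ l₂ _ _ h₁ h₂ =>
      obtain ⟨a₁, b₁, hb₁, e₁⟩ := h₁
      obtain ⟨a₂, b₂, hb₂, e₂⟩ := h₂
      refine ⟨a₁ * a₂, b₁ * b₂, ?_, ?_⟩
      · rw [map_mul]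
        exact fun h => (Ideal.IsPrime.mem_or_mem inferInstance h).elim hb₁ hb₂
      · simp only [map_mul]
        rw [← e₁, ← e₂]; ring
  intro x hx
  obtain ⟨a, b, hb, e⟩ := hcl _ hx
  refine exists_sub_mem_of_mul_sub_mem A S i Q hQeq a b hb x ?_
  rw [← map_mul, ← map_mul] at e
  have h1 := (IsFractionRing.injective (S ⧸ Q) K) e
  rw [← Ideal.Quotient.eq]
  exact h1

theorem s16446 (Q : Ideal S) (hQ : Q ∈ minimalPrimes S) [Q.IsPrime]
    (t : Finset (FractionRing (S ⧸ Q))) :
    ∃ E : Subalgebra A S, ∃ _ : IsLocalRing E, EGA4loc.IsEssentiallyEtale A E ∧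
      (∀ Q' ∈ ((Q.comap (algebraMap A S)).map (algebraMap A S)).minimalPrimes,
        Q' = Ideal.map (algebraMap E S) (Q'.comap (algebraMap E S))) ∧
      ∀ x : S, algebraMap (S ⧸ Q) (FractionRing (S ⧸ Q)) (Ideal.Quotient.mk Q x) ∈
          Subfield.closure (Set.range (algebraMap A (FractionRing (S ⧸ Q))) ∪
            (t : Set (FractionRing (S ⧸ Q)))) →
        ∃ e ∈ E, Ideal.Quotient.mk Q e = Ideal.Quotient.mk Q x := by
  obtain ⟨i, h1, h2⟩ := s16446_aux A S Q hQ t
  refine ⟨(stageHom A S i).range, isLocalRing_range A S i, isEssentiallyEtale_range A S i, ?_, ?_⟩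
  · intro Q' hQ'
    refine le_antisymm ?_ Ideal.map_comap_le
    refine (h1 Q' hQ').trans ?_
    rw [Ideal.map_le_iff_le_comap]
    intro y hy
    rw [Ideal.mem_comap] at hy ⊢
    have h3 : (stageHom A S i).toRingHom y =
        algebraMap (stageHom A S i).range S ⟨stageHom A S i y, ⟨y, rfl⟩⟩ := rfl
    rw [h3]
    apply Ideal.mem_map_of_mem
    rw [Ideal.mem_comap]
    exact hy
  · intro x hx
    obtain ⟨e₁, he₁⟩ := h2 x hx
    refine ⟨stageHom A S i e₁, ⟨e₁, rfl⟩, ?_⟩
    rw [Ideal.Quotient.eq]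
    have h4 : stageHom A S i e₁ - x = -(x - stageHom A S i e₁) := by ring
    rw [h4]
    exact Ideal.neg_mem_iff _ |>.2 he₁

end

end Groth.Agent.Helper2.EssEtSub

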