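import Mathlib
import Groth.Prelude
import Groth.Agent.Helper2.EssEtSub4
import Groth.Agent.Helper1.HensTransfer

set_option autoImplicit false
set_option linter.style.haveILetI false
set_option linter.unusedSectionVars false

/-! Modules over a (strict) henselization flat over the base are flat (S1235) -/

universe u

namespace Groth.Agent.Helper2.FlatHens

open TensorProduct IsLocalRing Groth.Agent.Helper1.Hens Groth.Agent.Helper1
  Groth.Agent.Helper2.EssEtSub

section unram

variable (R L M : Type u) [CommRing R] [CommRing L] [Algebra R L] [AddCommGroup M] [Module R M]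
  [Module L M] [IsScalarTower R L M]

/-- a module over an unramified `R`-algebra `L` which is flat over `R` is flat over `L` -/
theorem flat_of_unramified [Algebra.EssFiniteType R L] [Algebra.FormallyUnramified R L]
    [Module.Flat R M] : Module.Flat L M := by
  obtain ⟨t, ht1, ht2⟩ := (Algebra.FormallyUnramified.iff_exists_tensorProduct (R := R) (S := L)).1
    inferInstance
  let r : L ⊗[R] M →ₗ[L] M := LinearMap.liftBaseChange L (LinearMap.id : M →ₗ[R] M)
  have hr : ∀ (l : L) (m : M), r (l ⊗ₜ m) = l • m := fun l m => by
    simp [r]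
  let f : M → (L →ₗ[R] M) := fun m => (LinearMap.toSpanSingleton L M m).restrictScalars R
  have hf : ∀ m b, f m b = b • m := fun m b => rfl
  let Ψ : M → (L ⊗[R] L →ₗ[L] L ⊗[R] M) := fun m => LinearMap.baseChange L (f m)
  have hΨ : ∀ m a b, Ψ m (a ⊗ₜ b) = a ⊗ₜ (b • m) := fun m a b => by
    simp [Ψ, hf]
  have hΨadd : ∀ m m' z, Ψ (m + m') z = Ψ m z + Ψ m' z := by
    intro m m' z
    induction z using TensorProduct.induction_on with
    | zero => simp
    | tmul a b => rw [hΨ, hΨ, hΨ, smul_add, TensorProduct.tmul_add]
    | add z₁ z₂ h₁ h₂ => rw [map_add, map_add, map_add, h₁, h₂]; abel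
  have hΨsmul : ∀ (l : L) m z, Ψ (l • m) z = Ψ m (z * (1 ⊗ₜ l)) := by
    intro l m z
    induction z using TensorProduct.induction_on with
    | zero => simp
    | tmul a b =>
      rw [hΨ, Algebra.TensorProduct.tmul_mul_tmul, hΨ, mul_one, mul_smul]
    | add z₁ z₂ h₁ h₂ => rw [map_add, add_mul, map_add, h₁, h₂]
  have hrΨ : ∀ m z, r (Ψ m z) = (Algebra.TensorProduct.lmul' R z) • m := by
    intro m z
    induction z using TensorProduct.induction_on with
    | zero => simp
    | tmul a b => rw [hΨ, hr, Algebra.TensorProduct.lmul'_apply_tmul, mul_smul]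
    | add z₁ z₂ h₁ h₂ => rw [map_add, map_add, map_add, add_smul, h₁, h₂]
  let i : M →ₗ[L] L ⊗[R] M :=
    { toFun := fun m => Ψ m t
      map_add' := fun m m' => hΨadd m m' t
      map_smul' := fun l m => by
        simp only [RingHom.id_apply]
        rw [hΨsmul]
        have h1 : t * (1 ⊗ₜ[R] l) = l • t := by
          have h2 := ht1 l
          rw [sub_mul, sub_eq_zero] at h2
          rw [mul_comm, h2, Algebra.smul_def, Algebra.TensorProduct.algebraMap_apply]
          rfl
        rw [h1, map_smul] }
  refine Module.Flat.of_retract i r ?_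
  ext m
  show r (Ψ m t) = m
  rw [hrΨ, ht2, one_smul]

end unram

section stages

variable {H M : Type u} [CommRing H] [AddCommGroup M] [Module H M] {ι : Type u}
  (Lf : ι → Type u) [∀ i, CommRing (Lf i)] (φ : ∀ i, Lf i →+* H)

/-- flatness over a ring which is a "directed union" of stages follows from flatness over the
stages -/
theorem flat_of_stages
    (hlift : ∀ (n : ℕ) (f : Fin n → H), ∃ (i : ι) (f' : Fin n → Lf i), ∀ k, φ i (f' k) = f k)
    (h : ∀ i : ι, letI : Module (Lf i) M := Module.compHom M (φ i); Module.Flat (Lf i) M) :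
    Module.Flat H M := by
  apply Module.Flat.of_forall_isTrivialRelation
  intro l f x hfx
  obtain ⟨i, f', hf'⟩ := hlift l f
  letI : Module (Lf i) M := Module.compHom M (φ i)
  haveI : Module.Flat (Lf i) M := h i
  have hsmul : ∀ (y : Lf i) (z : M), y • z = φ i y • z := fun y z => rfl
  have h3 : ∑ k, f' k • x k = 0 := by
    rw [← hfx]
    exact Finset.sum_congr rfl fun k _ => by rw [hsmul, hf']
  obtain ⟨m, a, y, hy1, hy2⟩ := Module.Flat.isTrivialRelation_of_sum_smul_eq_zero (R := Lf i)
    (M := M) (f := f') (x := x) h3
  refine ⟨m, fun k n => φ i (a k n), y, fun k => ?_, fun n => ?_⟩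
  · rw [hy1 k]
    exact Finset.sum_congr rfl fun n _ => hsmul _ _
  · rw [← map_zero (φ i), ← hy2 n, map_sum]
    exact Finset.sum_congr rfl fun k _ => by rw [map_mul, hf']

end stages

section strict

variable (A S M : Type u) [CommRing A] [IsLocalRing A] [CommRing S] [IsLocalRing S] [Algebra A S]
  [IsLocalHom (algebraMap A S)] [AddCommGroup M] [Module S M] [Module A M] [IsScalarTower A S M]

/-- a module over a strict henselization flat over the base is flat -/
theorem flat_strict [Hensel.IsStrictHenselization A S] [Module.Flat A M] : Module.Flat S M := by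
  let e := equivOfIsStrictHenselization A S
  refine flat_of_stages (fun i : Idx A (ResidueField S) => i.L)
    (fun i => (stageHom A S i).toRingHom) ?_ ?_
  · intro n f
    obtain ⟨i, x', hx'⟩ := Hens.exists_of_family (fun k : Fin n => e (f k))
    refine ⟨i, x', fun k => ?_⟩
    apply e.injective
    show e (stageHom A S i (x' k)) = e (f k)
    rw [stageHom_apply]
    exact hx' k
  · intro i
    letI : Module i.L M := Module.compHom M (stageHom A S i).toRingHom
    haveI : IsScalarTower A i.L M := ⟨fun a l m => by
      show stageHom A S i (a • l) • m = a • (stageHom A S i l • m)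
      rw [map_smul, smul_assoc]⟩
    exact flat_of_unramified A i.L M

/-- a module over a henselization flat over the base is flat -/
theorem flat_hens [Hensel.IsHenselization A S] [Module.Flat A M] : Module.Flat S M := by
  let e := equivOfIsHenselization (R := A) S
  let ψ : ∀ i : Idx A (ResidueField A), i.L →ₐ[A] S := fun i =>
    (e.symm : Hh A →ₐ[A] S).comp (Hens.ofAlg i)
  have hψ : ∀ i (y : i.L), e (ψ i y) = Hens.ofAlg i y := fun i y => by simp [ψ]
  refine flat_of_stages (fun i : Idx A (ResidueField A) => i.L)
    (fun i => (ψ i).toRingHom) ?_ ?_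
  · intro n f
    obtain ⟨i, x', hx'⟩ := Hens.exists_of_family (fun k : Fin n => e (f k))
    refine ⟨i, x', fun k => ?_⟩
    apply e.injective
    show e (ψ i (x' k)) = e (f k)
    rw [hψ]
    exact hx' k
  · intro i
    letI : Module i.L M := Module.compHom M (ψ i).toRingHom
    haveI : IsScalarTower A i.L M := ⟨fun a l m => by
      show ψ i (a • l) • m = a • (ψ i l • m)
      rw [map_smul, smul_assoc]⟩
    exact flat_of_unramified A i.L M

end strict

theorem s1235 {A : Type u} [CommRing A] (p : Ideal A) [p.IsPrime]
    (Ah Ash : Type u) [CommRing Ah] [IsLocalRing Ah] [CommRing Ash] [IsLocalRing Ash]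
    [Algebra (Localization.AtPrime p) Ah] [IsLocalHom (algebraMap (Localization.AtPrime p) Ah)]
    [Hensel.IsHenselization (Localization.AtPrime p) Ah]
    [Algebra (Localization.AtPrime p) Ash] [IsLocalHom (algebraMap (Localization.AtPrime p) Ash)]
    [Hensel.IsStrictHenselization (Localization.AtPrime p) Ash]
    [Algebra Ah Ash] [IsScalarTower (Localization.AtPrime p) Ah Ash]
    (Msh : Type u) [AddCommGroup Msh] [Module Ash Msh] [Module Ah Msh]
    [Module (Localization.AtPrime p) Msh]
    [IsScalarTower Ah Ash Msh] [IsScalarTower (Localization.AtPrime p) Ash Msh]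
    [IsScalarTower (Localization.AtPrime p) Ah Msh]
    (Mh : Type u) [AddCommGroup Mh] [Module Ah Mh] [Module (Localization.AtPrime p) Mh]
    [IsScalarTower (Localization.AtPrime p) Ah Mh] :
    [Module.Flat (Localization.AtPrime p) Msh, Module.Flat Ah Msh, Module.Flat Ash Msh].TFAE ∧
    (Module.Flat (Localization.AtPrime p) Mh ↔ Module.Flat Ah Mh) := by
  haveI : Module.Flat (Localization.AtPrime p) Ah :=
    (Hens.faithfullyFlat_of_isHenselization (Localization.AtPrime p) Ah).toFlat
  haveI : Module.Flat (Localization.AtPrime p) Ash :=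
    (Hens.faithfullyFlat_of_isStrictHenselization (Localization.AtPrime p) Ash).toFlat
  haveI : Module.Flat Ah Ash := flat_hens (Localization.AtPrime p) Ah Ash
  constructor
  · tfae_have 1 → 3 := fun h => flat_strict (Localization.AtPrime p) Ash Msh
    tfae_have 3 → 2 := fun h => Module.Flat.trans Ah Ash Msh
    tfae_have 2 → 1 := fun h => Module.Flat.trans (Localization.AtPrime p) Ah Msh
    tfae_finish
  · exact ⟨fun h => flat_hens (Localization.AtPrime p) Ah Mh,
      fun h => Module.Flat.trans (Localization.AtPrime p) Ah Mh⟩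

end Groth.Agent.Helper2.FlatHens

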