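import Mathlib
import Groth.Prelude.Def_Flat
set_option autoImplicit false
open TopologicalSpace Order Topology

namespace Groth.Agent.Helper2.TopDim

variable {X : Type*} [TopologicalSpace X]

lemma coheight_le_dim_isOpen (Z : IrreducibleCloseds X) (S : Set X) (hS : IsOpen S)
    (h : ((Z : Set X) ∩ S).Nonempty) :
    (coheight Z : WithBot ℕ∞) ≤ topologicalKrullDim S := by
  have hf : IsOpenEmbedding (Subtype.val : S → X) := hS.isOpenEmbedding_subtypeVal
  let e := IrreducibleCloseds.orderIsoOfIsOpenEmbedding _ hf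
  have hne : ((Subtype.val : S → X) ⁻¹' (Z : Set X)).Nonempty := by
    obtain ⟨x, hxZ, hxS⟩ := h
    exact ⟨⟨x, hxS⟩, hxZ⟩
  let Z' := e.symm ⟨Z, hne⟩
  have h1 : IrreducibleCloseds.map _ hf.continuous Z' = Z := by
    have := e.apply_symm_apply ⟨Z, hne⟩
    exact congrArg Subtype.val this
  rw [← h1, hf.coheight_map]
  exact coheight_le_krullDim Z'

lemma isPreirreducible_preimage_val (S Z : Set X) (hZ : IsPreirreducible Z) (hZS : Z ⊆ S) :
    IsPreirreducible ((Subtype.val : S → X) ⁻¹' Z) := by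
  intro u v hu hv ⟨a, haZ, hau⟩ ⟨b, hbZ, hbv⟩
  obtain ⟨u', hu', rfl⟩ := isOpen_induced_iff.mp hu
  obtain ⟨v', hv', rfl⟩ := isOpen_induced_iff.mp hv
  obtain ⟨z, hzZ, hzu, hzv⟩ := hZ u' v' hu' hv' ⟨a, haZ, hau⟩ ⟨b, hbZ, hbv⟩
  exact ⟨⟨z, hZS hzZ⟩, hzZ, hzu, hzv⟩

lemma height_le_dim_of_subset (Z : IrreducibleCloseds X) (S : Set X) (h : (Z : Set X) ⊆ S) :
    (height Z : WithBot ℕ∞) ≤ topologicalKrullDim S := by
  rw [height_eq_krullDim_Iic]
  let g : Set.Iic Z → IrreducibleCloseds S := fun W =>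
    { carrier := (Subtype.val : S → X) ⁻¹' (W.1 : Set X)
      isIrreducible' := by
        refine ⟨?_, isPreirreducible_preimage_val S _ W.1.isIrreducible.isPreirreducible
          (subset_trans W.2 h)⟩
        obtain ⟨x, hx⟩ := W.1.isIrreducible.nonempty
        exact ⟨⟨x, h (W.2 hx)⟩, hx⟩
      isClosed' := W.1.isClosed.preimage continuous_subtype_val }
  have hg : StrictMono g := by
    apply Monotone.strictMono_of_injective
    · intro W₁ W₂ hle
      have h0 : (W₁.1 : Set X) ⊆ W₂.1 := hle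
      show (Subtype.val : S → X) ⁻¹' (W₁.1 : Set X) ⊆ (Subtype.val : S → X) ⁻¹' (W₂.1 : Set X)
      exact Set.preimage_mono h0
    · intro W₁ W₂ heq
      have h1 : (Subtype.val : S → X) ⁻¹' (W₁.1 : Set X) = (Subtype.val : S → X) ⁻¹' (W₂.1 : Set X) :=
        congrArg (fun T : IrreducibleCloseds S => (T : Set S)) heq
      have h2 := congrArg (fun T => (Subtype.val : S → X) '' T) h1
      simp only [Subtype.image_preimage_coe] at h2
      have e1 : S ∩ (W₁.1 : Set X) = W₁.1 := Set.inter_eq_right.mpr (subset_trans W₁.2 h)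
      have e2 : S ∩ (W₂.1 : Set X) = W₂.1 := Set.inter_eq_right.mpr (subset_trans W₂.2 h)
      rw [e1, e2] at h2
      exact Subtype.ext (IrreducibleCloseds.ext h2)
  exact krullDim_le_of_strictMono g hg

lemma dim_le_of_forall_coheight {c : WithBot ℕ∞}
    (h : ∀ Z : IrreducibleCloseds X, (coheight Z : WithBot ℕ∞) ≤ c) : topologicalKrullDim X ≤ c := by
  rw [topologicalKrullDim, krullDim_eq_iSup_coheight]
  exact iSup_le h

lemma dim_le_of_forall_height {c : WithBot ℕ∞}
    (h : ∀ Z : IrreducibleCloseds X, (height Z : WithBot ℕ∞) ≤ c) : topologicalKrullDim X ≤ c := by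
  rw [topologicalKrullDim, krullDim_eq_iSup_height]
  exact iSup_le h

lemma localDim_le_dim (x : X) : FlatMor.localDim X x ≤ topologicalKrullDim X := by
  unfold FlatMor.localDim
  refine le_trans (iInf_le _ ⟨⊤, trivial⟩) ?_
  exact topologicalKrullDim_subspace_le X _

lemma coheight_le_localDim (Z : IrreducibleCloseds X) (x : X) (hx : x ∈ (Z : Set X)) :
    (coheight Z : WithBot ℕ∞) ≤ FlatMor.localDim X x := by
  unfold FlatMor.localDim
  refine le_iInf ?_
  rintro ⟨U, hxU⟩
  exact coheight_le_dim_isOpen Z (U : Set X) U.isOpen ⟨x, hx, hxU⟩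

theorem dim_eq_iSup_localDim : topologicalKrullDim X = ⨆ x : X, FlatMor.localDim X x := by
  apply le_antisymm
  · apply dim_le_of_forall_coheight
    intro Z
    obtain ⟨x, hx⟩ := Z.isIrreducible.nonempty
    exact le_trans (coheight_le_localDim Z x hx) (le_iSup (fun x => FlatMor.localDim X x) x)
  · exact iSup_le localDim_le_dim

lemma exists_subset_of_subset_iUnion {X : Type*} [TopologicalSpace X] {ι : Type*} [Finite ι] (Z : Set X) (hZ : IsIrreducible Z)
    (Y : ι → Set X) (hY : ∀ i, IsClosed (Y i)) (h : Z ⊆ ⋃ i, Y i) : ∃ i, Z ⊆ Y i := by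
  classical
  have := Fintype.ofFinite ι
  obtain ⟨z, hz, hZz⟩ := isIrreducible_iff_sUnion_isClosed.mp hZ (Finset.univ.image Y)
    (by intro z hz; simp only [Finset.mem_image, Finset.mem_univ, true_and] at hz; obtain ⟨i, rfl⟩ := hz; exact hY i)
    (by
      intro x hx
      obtain ⟨i, hi⟩ := Set.mem_iUnion.mp (h hx)
      exact Set.mem_sUnion.mpr ⟨Y i, by simp, hi⟩)
  simp only [Finset.mem_image, Finset.mem_univ, true_and] at hz
  obtain ⟨i, rfl⟩ := hz
  exact ⟨i, hZz⟩

lemma isIrreducible_inter_open {X : Type*} [TopologicalSpace X] (Z U : Set X) (hZ : IsIrreducible Z) (hU : IsOpen U)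
    (h : (Z ∩ U).Nonempty) : IsIrreducible (Z ∩ U) := by
  refine ⟨h, ?_⟩
  intro u v hu hv ⟨a, ⟨haZ, haU⟩, hau⟩ ⟨b, ⟨hbZ, hbU⟩, hbv⟩
  obtain ⟨z, hzZ, ⟨hzu, hzU⟩, hzv, _⟩ := hZ.2 (u ∩ U) (v ∩ U) (hu.inter hU) (hv.inter hU)
    ⟨a, haZ, hau, haU⟩ ⟨b, hbZ, hbv, hbU⟩
  exact ⟨z, ⟨hzZ, hzU⟩, hzu, hzv⟩

lemma exists_subset_of_locallyFinite {X : Type*} [TopologicalSpace X] {ι : Type*} (Z : Set X) (hZ : IsIrreducible Z)
    (Y : ι → Set X) (hY : ∀ i, IsClosed (Y i)) (hlf : LocallyFinite Y) (hcov : ⋃ i, Y i = Set.univ) :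
    ∃ i, Z ⊆ Y i := by
  obtain ⟨x, hx⟩ := hZ.nonempty
  obtain ⟨U, hU, hfin⟩ := hlf x
  obtain ⟨U', hU'U, hU'o, hxU'⟩ := mem_nhds_iff.mp hU
  have hirr : IsIrreducible (Z ∩ U') := isIrreducible_inter_open Z U' hZ hU'o ⟨x, hx, hxU'⟩
  have hcl : Z ⊆ closure (Z ∩ U') :=
    subset_closure_inter_of_isPreirreducible_of_isOpen hZ.2 hU'o ⟨x, hx, hxU'⟩
  have : Finite {i | (Y i ∩ U).Nonempty} := hfin
  obtain ⟨⟨i, _⟩, hi⟩ := exists_subset_of_subset_iUnion (ι := {i | (Y i ∩ U).Nonempty}) (Z ∩ U') hirr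
    (fun i => Y i.1) (fun i => hY i.1) (by
      intro z ⟨hzZ, hzU'⟩
      have : z ∈ ⋃ i, Y i := by rw [hcov]; trivial
      obtain ⟨i, hi⟩ := Set.mem_iUnion.mp this
      exact Set.mem_iUnion.mpr ⟨⟨i, ⟨z, hi, hU'U hzU'⟩⟩, hi⟩)
  exact ⟨i, hcl.trans (closure_minimal hi (hY i))⟩


/-- the irreducible closed set `closure {x}` -/
def ptCl {X : Type*} [TopologicalSpace X] (x : X) : IrreducibleCloseds X :=
  ⟨closure {x}, isIrreducible_singleton.closure, isClosed_closure⟩

lemma finite_discrete_of_dim_le_zero (X : Type*) [TopologicalSpace X] [NoetherianSpace X] [T0Space X]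
    (h : topologicalKrullDim X ≤ 0) : Finite X ∧ DiscreteTopology X := by
  rw [topologicalKrullDim, krullDim_nonpos_iff_forall_isMax] at h
  have hmin : ∀ x y : X, y ∈ closure ({x} : Set X) → y = x := by
    intro x y hy
    have hle : ptCl y ≤ ptCl x := by
      show closure {y} ⊆ closure {x}
      exact closure_minimal (Set.singleton_subset_iff.mpr hy) isClosed_closure
    have hge : ptCl x ≤ ptCl y := h (ptCl y) hle
    have heq : closure ({y} : Set X) = closure {x} := le_antisymm hle hge
    exact (inseparable_iff_closure_eq.mpr heq).eq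
  have hclosed : ∀ x : X, IsClosed ({x} : Set X) := by
    intro x
    have : closure ({x} : Set X) = {x} := by
      apply Set.Subset.antisymm
      · intro y hy
        exact hmin x y hy
      · exact subset_closure
    rw [← this]; exact isClosed_closure
  have hcomp : ∀ x : X, ({x} : Set X) ∈ irreducibleComponents X := by
    intro x
    refine ⟨isIrreducible_singleton, ?_⟩
    intro s hs hxs
    have hle : ptCl x ≤ ⟨closure s, hs.closure, isClosed_closure⟩ := by
      show closure {x} ⊆ closure s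
      exact closure_mono hxs
    have hge := h (ptCl x) hle
    have : closure s ⊆ closure {x} := hge
    rw [(hclosed x).closure_eq] at this
    exact subset_closure.trans this
  have hfin : Finite X := by
    have hf : (irreducibleComponents X).Finite := NoetherianSpace.finite_irreducibleComponents
    have : Finite (irreducibleComponents X) := hf
    exact Finite.of_injective (fun x : X => (⟨{x}, hcomp x⟩ : irreducibleComponents X))
      (fun x y hxy => by
        have := congrArg Subtype.val hxy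
        exact Set.singleton_injective this)
  refine ⟨hfin, ?_⟩
  have : T1Space X := ⟨hclosed⟩
  infer_instance


lemma withBotENat_lt_one {a : WithBot ℕ∞} (h : a < 1) : a ≤ 0 := by
  induction a using WithBot.recBotCoe with
  | bot => exact bot_le
  | coe a =>
    have h' : a < 1 := by exact_mod_cast h
    have : a = 0 := Order.lt_one_iff.mp h'
    subst this
    exact le_refl _

lemma dim_nonneg_of_nonempty (X : Type*) [TopologicalSpace X] [Nonempty X] : 0 ≤ topologicalKrullDim X := by
  rw [topologicalKrullDim]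
  have : Nonempty (IrreducibleCloseds X) :=
    ⟨⟨closure {Classical.arbitrary X}, isIrreducible_singleton.closure, isClosed_closure⟩⟩
  exact krullDim_nonneg


/-- dimension comparison for subspaces of subspaces -/
lemma dim_le_of_val_val {X : Type*} [TopologicalSpace X] (S T : Set X) (A : Set S) (B : Set T)
    (h : ∀ a : A, ∃ b : B, (b : T).1 = (a : S).1) :
    topologicalKrullDim A ≤ topologicalKrullDim B := by
  choose g hg using h
  have hcomp : ((fun b : B => (b : T).1) ∘ g) = fun a : A => (a : S).1 := funext hg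
  have h1 : IsInducing (fun b : B => (b : T).1) :=
    IsInducing.subtypeVal.comp IsInducing.subtypeVal
  have h2 : IsInducing (fun a : A => (a : S).1) :=
    IsInducing.subtypeVal.comp IsInducing.subtypeVal
  have : IsInducing g := by
    rw [← h1.of_comp_iff, hcomp]
    exact h2
  exact this.topologicalKrullDim_le

lemma dim_le_of_val {X : Type*} [TopologicalSpace X] (S T : Set X) (A : Set S)
    (h : ∀ a : A, (a : S).1 ∈ T) :
    topologicalKrullDim A ≤ topologicalKrullDim T := by
  have h1 : IsInducing (fun b : T => b.1) := IsInducing.subtypeVal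
  have h2 : IsInducing (fun a : A => (a : S).1) :=
    IsInducing.subtypeVal.comp IsInducing.subtypeVal
  let g : A → T := fun a => ⟨(a : S).1, h a⟩
  have : IsInducing g := by
    rw [← h1.of_comp_iff]
    exact h2
  exact this.topologicalKrullDim_le


end Groth.Agent.Helper2.TopDim
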