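import Mathlib
import Groth.Agent.Helper2.StalkField
import Groth.Agent.Helper2.RegSmooth2
import Groth.Agent.Lead.RegLocal

namespace Groth.Agent.Helper2.SmoothRegSch
open AlgebraicGeometry CategoryTheory

universe u

theorem stalk_regular_of_smooth (K : Type u) [Field K] (Z : Scheme.{u})
    (f : Z ⟶ Spec (CommRingCat.of K)) [Smooth f] (z : Z) :
    IsRegularLocalRing (Z.presheaf.stalk z) := by
  obtain ⟨A, _, _, _, q, _, ⟨e⟩, hiff⟩ :=
    Groth.Agent.Helper2.StalkField.exists_algebra_stalk K Z f z
  have hx : z ∈ f.smoothLocus := by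
    rw [Scheme.Hom.smoothLocus_eq_top]; trivial
  have := Groth.Agent.Helper2.RegSmooth2.isRegularLocalRing_of_isSmoothAt K A q (hiff.1 hx)
  exact IsRegularLocalRing.of_ringEquiv e.symm

theorem isReduced_of_smooth (K : Type u) [Field K] (Z : Scheme.{u})
    (f : Z ⟶ Spec (CommRingCat.of K)) [Smooth f] : IsReduced Z := by
  haveI : ∀ z : Z, _root_.IsReduced (Z.presheaf.stalk z) := by
    intro z
    haveI := stalk_regular_of_smooth K Z f z
    haveI : IsDomain (Z.presheaf.stalk z) :=
      Groth.Agent.Lead.RegLocal.isDomain_of_isRegularLocalRing _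
    infer_instance
  exact isReduced_of_isReduced_stalk Z

theorem geometricallyReduced_of_smooth (k : Type u) [Field k] (X : Scheme.{u})
    (f : X ⟶ Spec (CommRingCat.of k)) [Smooth f] : GeometricallyReduced f := by
  refine ⟨?_⟩
  rw [geometrically_iff_of_commRing]
  intro K _ _ Y fst snd h
  haveI : Smooth snd := MorphismProperty.of_isPullback (P := @Smooth) h inferInstance
  exact isReduced_of_smooth K Y snd

end Groth.Agent.Helper2.SmoothRegSch
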