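import Mathlib
set_option autoImplicit false
universe u
open IsLocalRing

namespace Groth.Agent.Helper2.Ass

lemma exists_le_assPrime_or_le (A : Type*) [CommRing A] [IsNoetherianRing A] (N : Type*)
    [AddCommGroup N] [Module A N] [Module.Finite A N] (I J : Ideal A)
    (h : ∀ x ∈ I, x ∉ J → ¬ IsSMulRegular N x) :
    I ≤ J ∨ ∃ p ∈ associatedPrimes A N, I ≤ p := by
  have hfin : (insert J (associatedPrimes A N)).Finite := (associatedPrimes.finite A N).insert J
  have hsub : (I : Set A) ⊆ ⋃ K ∈ insert J (associatedPrimes A N), (id K : Ideal A) := by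
    intro x hx
    by_cases hxJ : x ∈ J
    · exact Set.mem_biUnion (Set.mem_insert _ _) hxJ
    · have := h x hx hxJ
      rw [isSMulRegular_iff_right_eq_zero_of_smul] at this
      push Not at this
      obtain ⟨y, hy, hy0⟩ := this
      have hmem : x ∈ { r : A | ∃ y : N, y ≠ 0 ∧ r • y = 0 } := ⟨y, hy0, hy⟩
      rw [← biUnion_associatedPrimes_eq_zero_divisors] at hmem
      obtain ⟨p, hp, hxp⟩ := Set.mem_iUnion₂.mp hmem
      exact Set.mem_biUnion (Set.mem_insert_of_mem _ hp) hxp
  obtain ⟨K, hK, hIK⟩ := (Ideal.subset_union_prime_finite hfin (f := id) J J (fun K hK hKJ _ => by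
    rcases hK with rfl | hK
    · exact absurd rfl hKJ
    · exact hK.isPrime)).mp hsub
  rcases hK with rfl | hK
  · exact Or.inl hIK
  · exact Or.inr ⟨K, hK, hIK⟩


lemma maximalIdeal_mem_ass_of_forall_not_regular (A : Type*) [CommRing A] [IsLocalRing A] [IsNoetherianRing A]
    (N : Type*) [AddCommGroup N] [Module A N] [Module.Finite A N]
    (h : ∀ x ∈ maximalIdeal A, ¬ IsSMulRegular N x) : maximalIdeal A ∈ associatedPrimes A N := by
  have hnt : Nontrivial N := by
    by_contra hcon
    rw [not_nontrivial_iff_subsingleton] at hcon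
    exact h 0 (Ideal.zero_mem _) (fun a b _ => Subsingleton.elim a b)
  obtain ⟨p₀, hp₀⟩ := associatedPrimes.nonempty A N
  rcases exists_le_assPrime_or_le A N (maximalIdeal A) p₀ (fun x hx _ => h x hx) with h1 | ⟨p, hp, hmp⟩
  · have : p₀ = maximalIdeal A :=
      ((IsLocalRing.maximalIdeal.isMaximal A).eq_of_le hp₀.isPrime.ne_top h1).symm
    rw [← this]; exact hp₀
  · have : p = maximalIdeal A :=
      ((IsLocalRing.maximalIdeal.isMaximal A).eq_of_le hp.isPrime.ne_top hmp).symm
    rw [← this]; exact hp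


end Groth.Agent.Helper2.Ass
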