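import Mathlib
import Groth.Prelude.Def_CAlg
import Groth.Agent.Helper2.DepthCM4
set_option autoImplicit false
universe u
open Groth.Agent.Helper2 RingTheory.Sequence IsLocalRing Module

namespace Groth.Agent.Helper2.DepthLoc

variable {A : Type u} [CommRing A] [IsNoetherianRing A]

/-- depth is `⊤` on trivial modules -/
lemma depth_eq_top_of_subsingleton (R : Type*) [CommRing R] [IsLocalRing R] (M : Type*)
    [AddCommGroup M] [Module R M] [Subsingleton M] : LocCoh.depth R M = ⊤ := by
  have h1 : maximalIdeal R • (⊤ : Submodule R M) = ⊤ := Subsingleton.elim _ _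
  unfold LocCoh.depth LocCoh.idealDepth
  rw [if_pos h1]

omit [IsNoetherianRing A] in
lemma length_le_depth_localized (I : Ideal A) (M : Type u) [AddCommGroup M] [Module A M]
    [Module.Finite A M] (xs : List A) (hxs : ∀ x ∈ xs, x ∈ I) (hreg : IsWeaklyRegular M xs)
    (p : PrimeSpectrum A) (hIp : I ≤ p.asIdeal) :
    (xs.length : ℕ∞) ≤ LocCoh.depth (Localization.AtPrime p.asIdeal)
      (LocalizedModule p.asIdeal.primeCompl M) := by
  have h1 : IsWeaklyRegular (LocalizedModule p.asIdeal.primeCompl M)
      (xs.map (algebraMap A (Localization.AtPrime p.asIdeal))) :=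
    IsWeaklyRegular.of_isLocalizedModule (Localization.AtPrime p.asIdeal) p.asIdeal.primeCompl
      (LocalizedModule.mkLinearMap p.asIdeal.primeCompl M) hreg
  have hmem : ∀ y ∈ xs.map (algebraMap A (Localization.AtPrime p.asIdeal)),
      y ∈ maximalIdeal (Localization.AtPrime p.asIdeal) := by
    intro y hy
    obtain ⟨x, hx, rfl⟩ := List.mem_map.1 hy
    rw [IsLocalization.AtPrime.to_map_mem_maximal_iff (Localization.AtPrime p.asIdeal) p.asIdeal]
    exact hIp (hxs x hx)
  have := DepthCM3.length_le_idealDepth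
    (I := maximalIdeal (Localization.AtPrime p.asIdeal))
    (M := LocalizedModule p.asIdeal.primeCompl M) _ h1 hmem
  rwa [List.length_map] at this

lemma exists_depth_localized_eq (I : Ideal A) (M : Type u) [AddCommGroup M] [Module A M]
    [Module.Finite A M] (hIM : I • (⊤ : Submodule A M) ≠ ⊤) (xs : List A)
    (hxs : ∀ x ∈ xs, x ∈ I) (hreg : IsWeaklyRegular M xs)
    (hmax : ∀ r ∈ I, ¬ IsWeaklyRegular M (xs ++ [r])) :
    ∃ p : PrimeSpectrum A, I ≤ p.asIdeal ∧ LocCoh.depth (Localization.AtPrime p.asIdeal)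
      (LocalizedModule p.asIdeal.primeCompl M) = xs.length := by
  have hNnt : Nontrivial (M ⧸ Ideal.ofList xs • (⊤ : Submodule A M)) :=
    Submodule.Quotient.nontrivial_iff.2 (DepthRees.ofList_smul_top_ne_top hIM xs hxs)
  have hzd : ∀ r ∈ I, ¬ IsSMulRegular (M ⧸ Ideal.ofList xs • (⊤ : Submodule A M)) r := by
    intro r hr hcon
    apply hmax r hr
    rw [isWeaklyRegular_append_iff]
    exact ⟨hreg, (isWeaklyRegular_singleton_iff _ r).2 hcon⟩
  obtain ⟨p₀, hp₀⟩ := associatedPrimes.nonempty A (M ⧸ Ideal.ofList xs • (⊤ : Submodule A M))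
  have hex : ∃ p' ∈ associatedPrimes A (M ⧸ Ideal.ofList xs • (⊤ : Submodule A M)), I ≤ p' := by
    rcases Ass.exists_le_assPrime_or_le A (M ⧸ Ideal.ofList xs • (⊤ : Submodule A M))
      I p₀ (fun x hx _ => hzd x hx) with h | h
    · exact ⟨p₀, hp₀, h⟩
    · exact h
  obtain ⟨p', hp', hle⟩ := hex
  have hprime : p'.IsPrime := hp'.isPrime
  refine ⟨⟨p', hprime⟩, hle, ?_⟩
  show LocCoh.depth (Localization.AtPrime p') (LocalizedModule p'.primeCompl M) = xs.length
  -- localize
  have hassloc := Module.associatedPrimes.mem_associatedPrimes_atPrime_of_mem_associatedPrimes hp'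
  have hNp_nt : Nontrivial (LocalizedModule p'.primeCompl
      (M ⧸ Ideal.ofList xs • (⊤ : Submodule A M))) := by
    by_contra hcon
    rw [not_nontrivial_iff_subsingleton] at hcon
    exact not_isAssociatedPrime_of_subsingleton hassloc
  have hd0 : LocCoh.depth (Localization.AtPrime p') (LocalizedModule p'.primeCompl
      (M ⧸ Ideal.ofList xs • (⊤ : Submodule A M))) = 0 := by
    rw [Depth.depth_eq_zero_iff]
    intro b hb
    exact Depth.not_regular_of_mem_ass _ _ _ hassloc b hb
  have hMp_nt : Nontrivial (LocalizedModule p'.primeCompl M) := by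
    have hs : (⟨p', hprime⟩ : PrimeSpectrum A) ∈ Module.support A M := by
      have h1 : (⟨p', hprime⟩ : PrimeSpectrum A) ∈
          Module.support A (M ⧸ Ideal.ofList xs • (⊤ : Submodule A M)) :=
        Module.mem_support_iff.2 hNp_nt
      rw [Module.support_quotient] at h1
      exact h1.1
    exact Module.mem_support_iff.1 hs
  have h1 : IsWeaklyRegular (LocalizedModule p'.primeCompl M)
      (xs.map (algebraMap A (Localization.AtPrime p'))) :=
    IsWeaklyRegular.of_isLocalizedModule (Localization.AtPrime p') p'.primeCompl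
      (LocalizedModule.mkLinearMap p'.primeCompl M) hreg
  have hmem : ∀ y ∈ xs.map (algebraMap A (Localization.AtPrime p')),
      y ∈ maximalIdeal (Localization.AtPrime p') := by
    intro y hy
    obtain ⟨x, hx, rfl⟩ := List.mem_map.1 hy
    rw [IsLocalization.AtPrime.to_map_mem_maximal_iff (Localization.AtPrime p') p']
    exact hle (hxs x hx)
  have hadd := DepthCM.idealDepth_quot_ofList (maximalIdeal (Localization.AtPrime p'))
    (LocalizedModule p'.primeCompl M) (Depth.smul_top_ne_top _ _) _ h1 hmem
  rw [← Ideal.map_ofList, ← DepthCM.idealDepth_congr _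
    (DepthCM4.locQuotEquiv p' M (Ideal.ofList xs)), List.length_map] at hadd
  have hd0' : LocCoh.idealDepth (maximalIdeal (Localization.AtPrime p'))
      (LocalizedModule p'.primeCompl (M ⧸ Ideal.ofList xs • (⊤ : Submodule A M))) = 0 := hd0
  rw [hd0', zero_add] at hadd
  exact hadd.symm

end Groth.Agent.Helper2.DepthLoc
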