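import Mathlib
import Groth.Prelude.Def_EGA4b
import Groth.Agent.S16234
import Groth.Agent.Helper1.AssTensor
import Groth.Agent.Helper2.DepthCM
import Groth.Agent.Helper2.Ass
import Groth.Agent.Helper2.Depth
import Groth.Agent.Helper2.DepthLoc

set_option autoImplicit false
universe u
open IsLocalRing TensorProduct RingTheory.Sequence

namespace Groth.Agent.Helper2.DepthFlat


section Fin
variable {A B M N : Type u} [CommRing A] [CommRing B] [Algebra A B]
    [AddCommGroup M] [Module A M] [Module.Finite A M]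
    [AddCommGroup N] [Module B N] [Module A N] [IsScalarTower A B N] [Module.Finite B N]

lemma finite_tensor : Module.Finite B (N ⊗[A] M) := by
  classical
  obtain ⟨n, f, hf⟩ := Module.Finite.exists_fin' A M
  let g : N ⊗[A] (Fin n → A) →ₗ[B] N ⊗[A] M := TensorProduct.AlgebraTensorModule.lTensor B N f
  have hg : Function.Surjective g := by
    have : (g : N ⊗[A] (Fin n → A) → N ⊗[A] M) = f.lTensor N := by
      ext x
      rfl
    rw [this]
    exact LinearMap.lTensor_surjective N hf
  let e := TensorProduct.piScalarRight A B N (Fin n)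
  exact Module.Finite.of_surjective (g ∘ₗ e.symm.toLinearMap) (hg.comp e.symm.surjective)

end Fin

section Socle

variable {B : Type u} [CommRing B] [IsNoetherianRing B] [IsLocalRing B]

/-- a nontrivial module of finite length over a Noetherian local ring has a nonzero element
killed by the maximal ideal. -/
lemma exists_socle (F : Type u) [AddCommGroup F] [Module B F] [Nontrivial F]
    (hF : IsFiniteLength B F) : ∃ y : F, y ≠ 0 ∧ ∀ b ∈ maximalIdeal B, b • y = 0 := by
  obtain ⟨p, hp⟩ := associatedPrimes.nonempty B F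
  have hprime : p.IsPrime := hp.isPrime
  have hsupp : (⟨p, hprime⟩ : PrimeSpectrum B) ∈ Module.support B F := by
    rw [AssociatedPrimes.mem_iff, isAssociatedPrime_iff_exists_injective_linearMap] at hp
    obtain ⟨_, f, hf⟩ := hp
    rw [Module.mem_support_iff_exists_annihilator]
    refine ⟨f 1, ?_⟩
    intro a ha
    rw [Submodule.mem_annihilator_span_singleton, ← map_smul] at ha
    have := hf (ha.trans (map_zero f).symm)
    rw [← Algebra.algebraMap_eq_smul_one, Ideal.Quotient.algebraMap_eq,
      Ideal.Quotient.eq_zero_iff_mem] at this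
    exact this
  have hmax : p.IsMaximal := Groth.Agent.S16234.fl_imp hF _ hsupp
  have hpm : p = maximalIdeal B := IsLocalRing.eq_maximalIdeal hmax
  rw [AssociatedPrimes.mem_iff, isAssociatedPrime_iff] at hp
  obtain ⟨_, y, hy⟩ := hp
  refine ⟨y, ?_, ?_⟩
  · rintro rfl
    have : (1 : B) ∈ p := by
      rw [hy, Submodule.mem_colon_singleton, smul_zero]
      exact Submodule.zero_mem _
    exact hprime.ne_top ((Ideal.eq_top_iff_one _).2 this)
  · intro b hb
    rw [← hpm, hy, Submodule.mem_colon_singleton, Submodule.mem_bot] at hb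
    exact hb

end Socle

section Main

open Groth.Agent.Helper2 Groth.Agent.Helper1.AssTensor

variable {A B M N : Type u} [CommRing A] [CommRing B]
    [IsNoetherianRing A] [IsNoetherianRing B] [IsLocalRing A] [IsLocalRing B] [Algebra A B]
    [IsLocalHom (algebraMap A B)] [AddCommGroup M] [Module A M] [Module.Finite A M]
    [AddCommGroup N] [Module B N] [Module A N] [IsScalarTower A B N] [Module.Finite B N]
    [Nontrivial N] [Module.Flat A N]

lemma fibMod_nontrivial : Nontrivial (EGA4.FibMod A B N) := by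
  rw [Submodule.Quotient.nontrivial_iff]
  intro h
  have hle : EGA4.mB A B ≤ maximalIdeal B := IsLocalRing.map_maximalIdeal_le (algebraMap A B)
  apply Depth.smul_top_ne_top B N
  exact eq_top_iff.2 (h.symm.le.trans (Submodule.smul_mono_left hle))

theorem main [Nontrivial M] (hN : IsFiniteLength B (EGA4.FibMod A B N)) :
    LocCoh.depth B (N ⊗[A] M) = LocCoh.depth A M := by
  have hfinT : Module.Finite B (N ⊗[A] M) := finite_tensor
  have hIM : maximalIdeal A • (⊤ : Submodule A M) ≠ ⊤ := Depth.smul_top_ne_top A M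
  obtain ⟨rs, hreg, hmem, hmax, hlen⟩ :=
    DepthCM.exists_length_eq_idealDepth (maximalIdeal A) M hIM
  have hM'nt : Nontrivial (M ⧸ Ideal.ofList rs • (⊤ : Submodule A M)) :=
    Submodule.Quotient.nontrivial_iff.2 (DepthRees.ofList_smul_top_ne_top hIM rs hmem)
  have hnotreg : ∀ r ∈ maximalIdeal A,
      ¬ IsSMulRegular (M ⧸ Ideal.ofList rs • (⊤ : Submodule A M)) r := by
    intro r hr hcon
    apply hmax r hr
    rw [isWeaklyRegular_append_iff]
    refine ⟨hreg, ?_⟩
    rw [isWeaklyRegular_cons_iff]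
    exact ⟨hcon, IsWeaklyRegular.nil _ _⟩
  have hass := Ass.maximalIdeal_mem_ass_of_forall_not_regular A
    (M ⧸ Ideal.ofList rs • (⊤ : Submodule A M)) hnotreg
  rw [AssociatedPrimes.mem_iff, isAssociatedPrime_iff_exists_injective_linearMap] at hass
  obtain ⟨-, ι, hι⟩ := hass
  have hFnt : Nontrivial (EGA4.FibMod A B N) := fibMod_nontrivial
  obtain ⟨y, hy0, hy⟩ := exists_socle (EGA4.FibMod A B N) hN
  obtain ⟨n₀, rfl⟩ := Submodule.Quotient.mk_surjective _ y
  obtain ⟨ũ, hũ⟩ := Submodule.Quotient.mk_surjective _ (ι 1)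
  -- the two descriptions of the submodule
  have hKB : ∀ z : N ⊗[A] M,
      z ∈ (Ideal.ofList (rs.map (algebraMap A B)) • (⊤ : Submodule B (N ⊗[A] M))) ↔
      z ∈ (Ideal.ofList rs • (⊤ : Submodule A (N ⊗[A] M))) := by
    intro z
    rw [← Ideal.map_ofList]
    exact mem_map_smul_top_iff (Ideal.ofList rs) z
  have hmBN : ∀ z : N, z ∈ (EGA4.mB A B • (⊤ : Submodule B N)) ↔
      z ∈ (maximalIdeal A • (⊤ : Submodule A N)) := fun z =>
    mem_map_smul_top_iff (maximalIdeal A) z
  -- `ofList rs` kills `N ⊗ M'`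
  have hkill : ∀ r ∈ Ideal.ofList rs,
      ∀ w : N ⊗[A] (M ⧸ Ideal.ofList rs • (⊤ : Submodule A M)), r • w = 0 := by
    intro r hr w
    induction w using TensorProduct.induction_on with
    | zero => rw [smul_zero]
    | tmul n m =>
      obtain ⟨m, rfl⟩ := Submodule.Quotient.mk_surjective _ m
      rw [TensorProduct.smul_tmul', TensorProduct.smul_tmul, ← Submodule.Quotient.mk_smul,
        (Submodule.Quotient.mk_eq_zero _).2
          (Submodule.smul_mem_smul hr (Submodule.mem_top : m ∈ (⊤ : Submodule A M))),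
        TensorProduct.tmul_zero]
    | add a b ha hb => rw [smul_add, ha, hb, add_zero]
  -- Claim 1
  have hne : n₀ ⊗ₜ[A] ũ ∉
      (Ideal.ofList (rs.map (algebraMap A B)) • (⊤ : Submodule B (N ⊗[A] M))) := by
    intro hmem'
    rw [hKB] at hmem'
    have hq : LinearMap.lTensor N (Ideal.ofList rs • (⊤ : Submodule A M)).mkQ (n₀ ⊗ₜ[A] ũ) = 0 := by
      refine Submodule.smul_induction_on hmem' ?_ ?_
      · intro r hr z _
        rw [map_smul]
        exact hkill r hr _
      · intro a b ha hb
        rw [map_add, ha, hb, add_zero]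
    rw [LinearMap.lTensor_tmul, Submodule.mkQ_apply, hũ] at hq
    have h1 : LinearMap.lTensor N ι (n₀ ⊗ₜ[A] (1 : A ⧸ maximalIdeal A)) = 0 := by
      rw [LinearMap.lTensor_tmul]
      exact hq
    have h2 : n₀ ⊗ₜ[A] (1 : A ⧸ maximalIdeal A) = 0 := by
      apply Module.Flat.lTensor_preserves_injective_linearMap ι hι
      rw [h1, map_zero]
    rw [tmul_one_eq_zero_iff, ← hmBN] at h2
    apply hy0
    exact (Submodule.Quotient.mk_eq_zero _).2 h2
  -- Claim 2
  have hsoc : ∀ b ∈ maximalIdeal B, (b • n₀) ⊗ₜ[A] ũ ∈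
      (Ideal.ofList (rs.map (algebraMap A B)) • (⊤ : Submodule B (N ⊗[A] M))) := by
    intro b hb
    have h1 := hy b hb
    rw [← Submodule.Quotient.mk_smul, Submodule.Quotient.mk_eq_zero, hmBN] at h1
    rw [hKB]
    refine Submodule.smul_induction_on h1 ?_ ?_
    · intro a ha n _
      rw [TensorProduct.smul_tmul]
      have h2 : a • ũ ∈ Ideal.ofList rs • (⊤ : Submodule A M) := by
        rw [← Submodule.Quotient.mk_eq_zero, Submodule.Quotient.mk_smul, hũ, ← map_smul]
        have : a • (1 : A ⧸ maximalIdeal A) = 0 := by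
          rw [← Algebra.algebraMap_eq_smul_one, Ideal.Quotient.algebraMap_eq,
            Ideal.Quotient.eq_zero_iff_mem]
          exact ha
        rw [this, map_zero]
      refine Submodule.smul_induction_on h2 ?_ ?_
      · intro r hr m _
        rw [TensorProduct.tmul_smul]
        exact Submodule.smul_mem_smul hr trivial
      · intro x y hx hy'
        rw [TensorProduct.tmul_add]
        exact Submodule.add_mem _ hx hy'
    · intro x y hx hy'
      rw [TensorProduct.add_tmul]
      exact Submodule.add_mem _ hx hy'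
  -- the quotient
  have hT'nt : Nontrivial ((N ⊗[A] M) ⧸
      (Ideal.ofList (rs.map (algebraMap A B)) • (⊤ : Submodule B (N ⊗[A] M)))) := by
    refine ⟨⟨Submodule.Quotient.mk (n₀ ⊗ₜ[A] ũ), 0, ?_⟩⟩
    rw [Ne, Submodule.Quotient.mk_eq_zero]
    exact hne
  have hTnt : Nontrivial (N ⊗[A] M) := by
    by_contra hcon
    rw [not_nontrivial_iff_subsingleton] at hcon
    apply hne
    rw [Subsingleton.elim (n₀ ⊗ₜ[A] ũ) 0]
    exact Submodule.zero_mem _
  have hd0 : LocCoh.depth B ((N ⊗[A] M) ⧸
      (Ideal.ofList (rs.map (algebraMap A B)) • (⊤ : Submodule B (N ⊗[A] M)))) = 0 := by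
    rw [Depth.depth_eq_zero_iff]
    intro b hb hcon
    apply hne
    rw [← Submodule.Quotient.mk_eq_zero]
    apply hcon
    show b • Submodule.Quotient.mk (n₀ ⊗ₜ[A] ũ) = b • 0
    rw [smul_zero, ← Submodule.Quotient.mk_smul, TensorProduct.smul_tmul',
      Submodule.Quotient.mk_eq_zero]
    exact hsoc b hb
  have hregT : IsWeaklyRegular (N ⊗[A] M) (rs.map (algebraMap A B)) :=
    (isWeaklyRegular_map_algebraMap_iff B (N ⊗[A] M) rs).2 hreg.isWeaklyRegular_lTensor
  have hmemT : ∀ r ∈ rs.map (algebraMap A B), r ∈ maximalIdeal B := by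
    intro r hr
    obtain ⟨a, ha, rfl⟩ := List.mem_map.1 hr
    exact IsLocalRing.map_maximalIdeal_le (algebraMap A B) (Ideal.mem_map_of_mem _ (hmem a ha))
  have hIT : maximalIdeal B • (⊤ : Submodule B (N ⊗[A] M)) ≠ ⊤ := Depth.smul_top_ne_top B _
  have hadd := DepthCM.idealDepth_quot_ofList (maximalIdeal B) (N ⊗[A] M) hIT
    (rs.map (algebraMap A B)) hregT hmemT
  unfold LocCoh.depth at hd0 ⊢
  rw [hd0, zero_add, List.length_map] at hadd
  rw [← hadd, hlen]

end Main


end Groth.Agent.Helper2.DepthFlat
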