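import Mathlib
import Groth.Prelude.Def_EGA4b
import Groth.Agent.Helper2.DepthFlat
import Groth.Agent.Helper2.FlatFibre
import Groth.Agent.Helper2.DepthCM
import Groth.Agent.Helper2.DepthRees
import Groth.Agent.Helper2.Ass
import Groth.Agent.Helper2.Depth
import Groth.Agent.Helper2.DepthLoc

set_option autoImplicit false
universe u
open IsLocalRing TensorProduct RingTheory.Sequence Pointwise

namespace Groth.Agent.Helper2.DepthFlat2

open Groth.Agent.Helper2.DepthFlat

section Socle
variable {B : Type u} [CommRing B] [IsNoetherianRing B] [IsLocalRing B]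

/-- a nontrivial finite module of depth zero has a nonzero element killed by the maximal ideal. -/
lemma exists_socle_of_depth_zero (F : Type u) [AddCommGroup F] [Module B F] [Module.Finite B F]
    [Nontrivial F] (h0 : LocCoh.depth B F = 0) :
    ∃ y : F, y ≠ 0 ∧ ∀ b ∈ maximalIdeal B, b • y = 0 := by
  rw [Groth.Agent.Helper2.Depth.depth_eq_zero_iff] at h0
  have hp := Groth.Agent.Helper2.Ass.maximalIdeal_mem_ass_of_forall_not_regular B F h0
  rw [AssociatedPrimes.mem_iff, isAssociatedPrime_iff] at hp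
  obtain ⟨hprime, y, hy⟩ := hp
  refine ⟨y, ?_, ?_⟩
  · rintro rfl
    have : (1 : B) ∈ maximalIdeal B := by
      rw [hy, Submodule.mem_colon_singleton, smul_zero]
      exact Submodule.zero_mem _
    exact hprime.ne_top ((Ideal.eq_top_iff_one _).2 this)
  · intro b hb
    rw [hy, Submodule.mem_colon_singleton, Submodule.mem_bot] at hb
    exact hb

end Socle

section Main

open Groth.Agent.Helper2 Groth.Agent.Helper1.AssTensor

variable {A B M N : Type u} [CommRing A] [CommRing B]
    [IsNoetherianRing A] [IsNoetherianRing B] [IsLocalRing A] [IsLocalRing B] [Algebra A B]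
    [IsLocalHom (algebraMap A B)] [AddCommGroup M] [Module A M] [Module.Finite A M]
    [AddCommGroup N] [Module B N] [Module A N] [IsScalarTower A B N] [Module.Finite B N]
    [Nontrivial N] [Module.Flat A N]

lemma fibMod_nontrivial' : Nontrivial (EGA4.FibMod A B N) := by
  rw [Submodule.Quotient.nontrivial_iff]
  intro h
  have hle : EGA4.mB A B ≤ maximalIdeal B := IsLocalRing.map_maximalIdeal_le (algebraMap A B)
  apply Depth.smul_top_ne_top B N
  exact eq_top_iff.2 (h.symm.le.trans (Submodule.smul_mono_left hle))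

theorem main0 [Nontrivial M] (h0 : LocCoh.depth B (EGA4.FibMod A B N) = 0) :
    LocCoh.depth B (N ⊗[A] M) = LocCoh.depth A M := by
  have hfinT : Module.Finite B (N ⊗[A] M) := finite_tensor
  have hIM : maximalIdeal A • (⊤ : Submodule A M) ≠ ⊤ := Depth.smul_top_ne_top A M
  obtain ⟨rs, hreg, hmem, hmax, hlen⟩ :=
    DepthCM.exists_length_eq_idealDepth (maximalIdeal A) M hIM
  have hM'nt : Nontrivial (M ⧸ Ideal.ofList rs • (⊤ : Submodule A M)) :=
    Submodule.Quotient.nontrivial_iff.2 (DepthRees.ofList_smul_top_ne_top hIM rs hmem)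
  have hnotreg : ∀ r ∈ maximalIdeal A,
      ¬ IsSMulRegular (M ⧸ Ideal.ofList rs • (⊤ : Submodule A M)) r := by
    intro r hr hcon
    apply hmax r hr
    rw [isWeaklyRegular_append_iff]
    refine ⟨hreg, ?_⟩
    rw [isWeaklyRegular_cons_iff]
    exact ⟨hcon, IsWeaklyRegular.nil _ _⟩
  have hass := Ass.maximalIdeal_mem_ass_of_forall_not_regular A
    (M ⧸ Ideal.ofList rs • (⊤ : Submodule A M)) hnotreg
  rw [AssociatedPrimes.mem_iff, isAssociatedPrime_iff_exists_injective_linearMap] at hass
  obtain ⟨-, ι, hι⟩ := hass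
  have hFnt : Nontrivial (EGA4.FibMod A B N) := fibMod_nontrivial'
  obtain ⟨y, hy0, hy⟩ := exists_socle_of_depth_zero (EGA4.FibMod A B N) h0
  obtain ⟨n₀, rfl⟩ := Submodule.Quotient.mk_surjective _ y
  obtain ⟨ũ, hũ⟩ := Submodule.Quotient.mk_surjective _ (ι 1)
  -- the two descriptions of the submodule
  have hKB : ∀ z : N ⊗[A] M,
      z ∈ (Ideal.ofList (rs.map (algebraMap A B)) • (⊤ : Submodule B (N ⊗[A] M))) ↔
      z ∈ (Ideal.ofList rs • (⊤ : Submodule A (N ⊗[A] M))) := by
    intro z
    rw [← Ideal.map_ofList]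
    exact mem_map_smul_top_iff (Ideal.ofList rs) z
  have hmBN : ∀ z : N, z ∈ (EGA4.mB A B • (⊤ : Submodule B N)) ↔
      z ∈ (maximalIdeal A • (⊤ : Submodule A N)) := fun z =>
    mem_map_smul_top_iff (maximalIdeal A) z
  -- `ofList rs` kills `N ⊗ M'`
  have hkill : ∀ r ∈ Ideal.ofList rs,
      ∀ w : N ⊗[A] (M ⧸ Ideal.ofList rs • (⊤ : Submodule A M)), r • w = 0 := by
    intro r hr w
    induction w using TensorProduct.induction_on with
    | zero => rw [smul_zero]
    | tmul n m =>
      obtain ⟨m, rfl⟩ := Submodule.Quotient.mk_surjective _ m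
      rw [TensorProduct.smul_tmul', TensorProduct.smul_tmul, ← Submodule.Quotient.mk_smul,
        (Submodule.Quotient.mk_eq_zero _).2
          (Submodule.smul_mem_smul hr (Submodule.mem_top : m ∈ (⊤ : Submodule A M))),
        TensorProduct.tmul_zero]
    | add a b ha hb => rw [smul_add, ha, hb, add_zero]
  -- Claim 1
  have hne : n₀ ⊗ₜ[A] ũ ∉
      (Ideal.ofList (rs.map (algebraMap A B)) • (⊤ : Submodule B (N ⊗[A] M))) := by
    intro hmem'
    rw [hKB] at hmem'
    have hq : LinearMap.lTensor N (Ideal.ofList rs • (⊤ : Submodule A M)).mkQ (n₀ ⊗ₜ[A] ũ) = 0 := by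
      refine Submodule.smul_induction_on hmem' ?_ ?_
      · intro r hr z _
        rw [map_smul]
        exact hkill r hr _
      · intro a b ha hb
        rw [map_add, ha, hb, add_zero]
    rw [LinearMap.lTensor_tmul, Submodule.mkQ_apply, hũ] at hq
    have h1 : LinearMap.lTensor N ι (n₀ ⊗ₜ[A] (1 : A ⧸ maximalIdeal A)) = 0 := by
      rw [LinearMap.lTensor_tmul]
      exact hq
    have h2 : n₀ ⊗ₜ[A] (1 : A ⧸ maximalIdeal A) = 0 := by
      apply Module.Flat.lTensor_preserves_injective_linearMap ι hι
      rw [h1, map_zero]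
    rw [tmul_one_eq_zero_iff, ← hmBN] at h2
    apply hy0
    exact (Submodule.Quotient.mk_eq_zero _).2 h2
  -- Claim 2
  have hsoc : ∀ b ∈ maximalIdeal B, (b • n₀) ⊗ₜ[A] ũ ∈
      (Ideal.ofList (rs.map (algebraMap A B)) • (⊤ : Submodule B (N ⊗[A] M))) := by
    intro b hb
    have h1 := hy b hb
    rw [← Submodule.Quotient.mk_smul, Submodule.Quotient.mk_eq_zero, hmBN] at h1
    rw [hKB]
    refine Submodule.smul_induction_on h1 ?_ ?_
    · intro a ha n _
      rw [TensorProduct.smul_tmul]
      have h2 : a • ũ ∈ Ideal.ofList rs • (⊤ : Submodule A M) := by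
        rw [← Submodule.Quotient.mk_eq_zero, Submodule.Quotient.mk_smul, hũ, ← map_smul]
        have : a • (1 : A ⧸ maximalIdeal A) = 0 := by
          rw [← Algebra.algebraMap_eq_smul_one, Ideal.Quotient.algebraMap_eq,
            Ideal.Quotient.eq_zero_iff_mem]
          exact ha
        rw [this, map_zero]
      refine Submodule.smul_induction_on h2 ?_ ?_
      · intro r hr m _
        rw [TensorProduct.tmul_smul]
        exact Submodule.smul_mem_smul hr trivial
      · intro x y hx hy'
        rw [TensorProduct.tmul_add]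
        exact Submodule.add_mem _ hx hy'
    · intro x y hx hy'
      rw [TensorProduct.add_tmul]
      exact Submodule.add_mem _ hx hy'
  -- the quotient
  have hT'nt : Nontrivial ((N ⊗[A] M) ⧸
      (Ideal.ofList (rs.map (algebraMap A B)) • (⊤ : Submodule B (N ⊗[A] M)))) := by
    refine ⟨⟨Submodule.Quotient.mk (n₀ ⊗ₜ[A] ũ), 0, ?_⟩⟩
    rw [Ne, Submodule.Quotient.mk_eq_zero]
    exact hne
  have hTnt : Nontrivial (N ⊗[A] M) := by
    by_contra hcon
    rw [not_nontrivial_iff_subsingleton] at hcon
    apply hne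
    rw [Subsingleton.elim (n₀ ⊗ₜ[A] ũ) 0]
    exact Submodule.zero_mem _
  have hd0 : LocCoh.depth B ((N ⊗[A] M) ⧸
      (Ideal.ofList (rs.map (algebraMap A B)) • (⊤ : Submodule B (N ⊗[A] M)))) = 0 := by
    rw [Depth.depth_eq_zero_iff]
    intro b hb hcon
    apply hne
    rw [← Submodule.Quotient.mk_eq_zero]
    apply hcon
    show b • Submodule.Quotient.mk (n₀ ⊗ₜ[A] ũ) = b • 0
    rw [smul_zero, ← Submodule.Quotient.mk_smul, TensorProduct.smul_tmul',
      Submodule.Quotient.mk_eq_zero]
    exact hsoc b hb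
  have hregT : IsWeaklyRegular (N ⊗[A] M) (rs.map (algebraMap A B)) :=
    (isWeaklyRegular_map_algebraMap_iff B (N ⊗[A] M) rs).2 hreg.isWeaklyRegular_lTensor
  have hmemT : ∀ r ∈ rs.map (algebraMap A B), r ∈ maximalIdeal B := by
    intro r hr
    obtain ⟨a, ha, rfl⟩ := List.mem_map.1 hr
    exact IsLocalRing.map_maximalIdeal_le (algebraMap A B) (Ideal.mem_map_of_mem _ (hmem a ha))
  have hIT : maximalIdeal B • (⊤ : Submodule B (N ⊗[A] M)) ≠ ⊤ := Depth.smul_top_ne_top B _
  have hadd := DepthCM.idealDepth_quot_ofList (maximalIdeal B) (N ⊗[A] M) hIT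
    (rs.map (algebraMap A B)) hregT hmemT
  unfold LocCoh.depth at hd0 ⊢
  rw [hd0, zero_add, List.length_map] at hadd
  rw [← hadd, hlen]

end Main

section Step
variable {A B : Type u} [CommRing A] [CommRing B]
    [IsNoetherianRing A] [IsNoetherianRing B] [IsLocalRing A] [IsLocalRing B] [Algebra A B]
    [IsLocalHom (algebraMap A B)]
    (M : Type u) [AddCommGroup M] [Module A M]
    (N : Type u) [AddCommGroup N] [Module B N] [Module A N] [IsScalarTower A B N]
    [Module.Finite B N] [Module.Flat A N]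
    (y : B) (hy : IsSMulRegular (EGA4.FibMod A B N) y)

omit [IsNoetherianRing A] [IsNoetherianRing B] [IsLocalRing A] [IsLocalRing B] [Algebra A B]
  [IsLocalHom (algebraMap A B)] [Module A N] [IsScalarTower A B N] [Module.Finite B N]
  [Module.Flat A N] in
lemma exact_lsmul_mkQ : Function.Exact (LinearMap.lsmul B N y)
    (y • (⊤ : Submodule B N)).mkQ := by
  intro x
  rw [Submodule.mkQ_apply, Submodule.Quotient.mk_eq_zero,
    Submodule.mem_smul_pointwise_iff_exists]
  constructor
  · rintro ⟨n, -, rfl⟩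
    exact ⟨n, rfl⟩
  · rintro ⟨n, rfl⟩
    exact ⟨n, Submodule.mem_top, rfl⟩

include hy in
lemma fibre_hyp : ∀ z : N, y • z ∈ ((maximalIdeal A).map (algebraMap A B) • ⊤ : Submodule B N) →
      z ∈ ((maximalIdeal A).map (algebraMap A B) • ⊤ : Submodule B N) :=
  (isSMulRegular_quotient_iff_mem_of_smul_mem _ _).1 hy

include hy in
lemma flat_quotSMulTop : Module.Flat A (QuotSMulTop y N) :=
  Groth.Agent.Helper2.FlatFibre.flat_quot (A := A) y (fibre_hyp N y hy)
    (y • (⊤ : Submodule B N)).mkQ (Submodule.mkQ_surjective _) (exact_lsmul_mkQ N y)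

include hy in
lemma regular_N : IsSMulRegular N y :=
  Groth.Agent.Helper2.FlatFibre.regular (A := A) y (fibre_hyp N y hy)

omit [IsNoetherianRing A] [IsNoetherianRing B] [IsLocalRing A] [IsLocalRing B]
  [IsLocalHom (algebraMap A B)] [Module.Finite B N] [Module.Flat A N] in
lemma rTensor_lsmul (z : N ⊗[A] M) :
    LinearMap.rTensor M ((LinearMap.lsmul B N y).restrictScalars A) z = y • z := by
  induction z using TensorProduct.induction_on with
  | zero => simp
  | tmul n m => rw [LinearMap.rTensor_tmul, TensorProduct.smul_tmul']; rfl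
  | add a b ha hb => rw [map_add, ha, hb, smul_add]

include hy in
lemma regular_tensor : IsSMulRegular (N ⊗[A] M) y := by
  haveI := flat_quotSMulTop N y hy
  have hinj := LinearMap.lTensor_injective_of_exact_of_flat
    ((y • (⊤ : Submodule B N)).mkQ.restrictScalars A) (Submodule.mkQ_surjective _)
    ((LinearMap.lsmul B N y).restrictScalars A) (regular_N N y hy)
    (exact_lsmul_mkQ N y) M
  intro a b hab
  have h1 : LinearMap.lTensor M ((LinearMap.lsmul B N y).restrictScalars A)
      (TensorProduct.comm A N M a) =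
      LinearMap.lTensor M ((LinearMap.lsmul B N y).restrictScalars A)
      (TensorProduct.comm A N M b) := by
    have hc : ∀ z : N ⊗[A] M, LinearMap.lTensor M ((LinearMap.lsmul B N y).restrictScalars A)
        (TensorProduct.comm A N M z) = TensorProduct.comm A N M (y • z) := by
      intro z
      rw [← rTensor_lsmul M N y z]
      induction z using TensorProduct.induction_on with
      | zero => simp
      | tmul n m => simp
      | add a b ha hb => simp only [map_add, ha, hb]
    rw [hc, hc]
    exact congrArg _ hab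
  exact (TensorProduct.comm A N M).injective (hinj h1)

end Step

section Step2
variable {A B : Type u} [CommRing A] [CommRing B] [IsLocalRing A] [Algebra A B]
    (M : Type u) [AddCommGroup M] [Module A M]
    (N : Type u) [AddCommGroup N] [Module B N] [Module A N] [IsScalarTower A B N]
    (y : B)

/-- the quotient map tensored with `M`, `B`-linearly -/
noncomputable def gmap : N ⊗[A] M →ₗ[B] (QuotSMulTop y N) ⊗[A] M :=
  TensorProduct.AlgebraTensorModule.rTensor A M (y • (⊤ : Submodule B N)).mkQ

omit [IsLocalRing A] in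
lemma gmap_apply (z : N ⊗[A] M) :
    gmap M N y z = LinearMap.rTensor M ((y • (⊤ : Submodule B N)).mkQ.restrictScalars A) z := by
  induction z using TensorProduct.induction_on with
  | zero => simp
  | tmul n m => rfl
  | add a b ha hb => rw [map_add, map_add, ha, hb]

omit [IsLocalRing A] in
lemma gmap_surjective : Function.Surjective (gmap (A := A) M N y) := by
  have h : Function.Surjective
      (LinearMap.rTensor M ((y • (⊤ : Submodule B N)).mkQ.restrictScalars A)) :=
    LinearMap.rTensor_surjective M (Submodule.mkQ_surjective _)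
  intro w
  obtain ⟨z, hz⟩ := h w
  exact ⟨z, by rw [gmap_apply, hz]⟩

omit [IsLocalRing A] in
lemma ker_gmap : LinearMap.ker (gmap (A := A) M N y) = y • (⊤ : Submodule B (N ⊗[A] M)) := by
  have hex := rTensor_exact M
    (show Function.Exact ((LinearMap.lsmul B N y).restrictScalars A)
      ((y • (⊤ : Submodule B N)).mkQ.restrictScalars A) from exact_lsmul_mkQ N y)
    (show Function.Surjective ((y • (⊤ : Submodule B N)).mkQ.restrictScalars A) from
      Submodule.mkQ_surjective _)
  ext z
  rw [LinearMap.mem_ker, gmap_apply, hex z, Submodule.mem_smul_pointwise_iff_exists]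
  constructor
  · rintro ⟨w, rfl⟩
    exact ⟨w, Submodule.mem_top, (rTensor_lsmul M N y w).symm⟩
  · rintro ⟨w, -, rfl⟩
    exact ⟨w, rTensor_lsmul M N y w⟩

/-- `(N ⊗ M)/y ≃ (N/y) ⊗ M` -/
noncomputable def quotTensorEquiv :
    QuotSMulTop y (N ⊗[A] M) ≃ₗ[B] (QuotSMulTop y N) ⊗[A] M :=
  (Submodule.quotEquivOfEq _ _ (ker_gmap (A := A) M N y).symm).trans
    (LinearMap.quotKerEquivOfSurjective (gmap (A := A) M N y) (gmap_surjective (A := A) M N y))

omit [Module A N] [IsScalarTower A B N] in
/-- `(N/y)/m ≃ (N/m)/y` -/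
lemma nonempty_fibMod_equiv :
    Nonempty (EGA4.FibMod A B (QuotSMulTop y N) ≃ₗ[B] QuotSMulTop y (EGA4.FibMod A B N)) := by
  set S₁ : Submodule B N := y • (⊤ : Submodule B N) with hS₁
  set S₂ : Submodule B N := EGA4.mB A B • (⊤ : Submodule B N) with hS₂
  have h1 : (EGA4.mB A B • (⊤ : Submodule B (N ⧸ S₁))) = S₂.map S₁.mkQ := by
    rw [hS₂, Submodule.map_smul'', Submodule.map_top, Submodule.range_mkQ]
  have h2 : (y • (⊤ : Submodule B (N ⧸ S₂))) = S₁.map S₂.mkQ := by
    rw [hS₁, Submodule.map_pointwise_smul, Submodule.map_top, Submodule.range_mkQ]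
  have e1 : ((N ⧸ S₁) ⧸ (EGA4.mB A B • (⊤ : Submodule B (N ⧸ S₁)))) ≃ₗ[B] N ⧸ (S₁ ⊔ S₂) :=
    (Submodule.quotEquivOfEq _ _ h1).trans (Submodule.quotientQuotientEquivQuotientSup S₁ S₂)
  have e2 : ((N ⧸ S₂) ⧸ (y • (⊤ : Submodule B (N ⧸ S₂)))) ≃ₗ[B] N ⧸ (S₂ ⊔ S₁) :=
    (Submodule.quotEquivOfEq _ _ h2).trans (Submodule.quotientQuotientEquivQuotientSup S₂ S₁)
  exact ⟨e1.trans ((Submodule.quotEquivOfEq _ _ (sup_comm S₁ S₂)).trans e2.symm)⟩

end Step2

section Formula
variable {A B : Type u} [CommRing A] [CommRing B]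
    [IsNoetherianRing A] [IsNoetherianRing B] [IsLocalRing A] [IsLocalRing B] [Algebra A B]
    [IsLocalHom (algebraMap A B)]
    (M : Type u) [AddCommGroup M] [Module A M] [Module.Finite A M]

theorem depth_tensor_aux [Nontrivial M] : ∀ (s : ℕ) (N : Type u) [AddCommGroup N] [Module B N]
    [Module A N] [IsScalarTower A B N] [Module.Finite B N] [Nontrivial N] [Module.Flat A N],
    LocCoh.depth B (EGA4.FibMod A B N) = s →
    LocCoh.depth B (N ⊗[A] M) = LocCoh.depth A M + s := by
  intro s
  induction s with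
  | zero =>
    intro N _ _ _ _ _ _ _ h
    rw [main0 (M := M) (N := N) (by exact_mod_cast h)]
    simp
  | succ s ih =>
    intro N _ _ _ _ _ _ _ h
    have hFnt : Nontrivial (EGA4.FibMod A B N) := fibMod_nontrivial'
    have hIF := Groth.Agent.Helper2.Depth.smul_top_ne_top B (EGA4.FibMod A B N)
    obtain ⟨rs, h1, h2, h3, h4⟩ := Groth.Agent.Helper2.DepthCM.exists_length_eq_idealDepth
      (maximalIdeal B) (EGA4.FibMod A B N) hIF
    have h4' : (rs.length : ℕ∞) = ((s + 1 : ℕ) : ℕ∞) := h4.trans h
    have hlen : rs.length = s + 1 := by exact_mod_cast h4'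
    match rs, hlen with
    | y :: rs', _ =>
      have hym : y ∈ maximalIdeal B := h2 y List.mem_cons_self
      have hyreg : IsSMulRegular (EGA4.FibMod A B N) y :=
        ((isWeaklyRegular_cons_iff (EGA4.FibMod A B N) y rs').1 h1).1
      -- the quotient `N₁ = N / yN`
      haveI hflat1 : Module.Flat A (QuotSMulTop y N) := flat_quotSMulTop N y hyreg
      haveI hnt1 : Nontrivial (QuotSMulTop y N) :=
        nontrivial_quotSMulTop_of_mem_maximalIdeal N hym
      have hd1 := Groth.Agent.Helper2.DepthCM.idealDepth_quotSMulTop (maximalIdeal B)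
        (EGA4.FibMod A B N) hIF y hym hyreg
      obtain ⟨e⟩ := nonempty_fibMod_equiv (A := A) N y
      have hdF1 : LocCoh.depth B (EGA4.FibMod A B (QuotSMulTop y N)) = s := by
        have h5 : LocCoh.idealDepth (maximalIdeal B) (QuotSMulTop y (EGA4.FibMod A B N)) + 1 =
            (s : ℕ∞) + 1 := by
          rw [hd1]; exact_mod_cast h
        have h6 := ENat.add_left_injective_of_ne_top (by simp) h5
        rw [← h6]
        exact Groth.Agent.Helper2.DepthCM.idealDepth_congr (maximalIdeal B) e
      have hIH := ih (QuotSMulTop y N) hdF1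
      -- transfer to `N ⊗ M`
      have hfinT : Module.Finite B (N ⊗[A] M) := finite_tensor
      have hcong : LocCoh.depth B (QuotSMulTop y (N ⊗[A] M)) =
          LocCoh.depth B ((QuotSMulTop y N) ⊗[A] M) :=
        Groth.Agent.Helper2.DepthCM.idealDepth_congr (maximalIdeal B) (quotTensorEquiv (A := A) M N y)
      have hMne : LocCoh.depth A M ≠ ⊤ :=
        Groth.Agent.Helper2.DepthCM.idealDepth_ne_top (maximalIdeal A) M
          (Groth.Agent.Helper2.Depth.smul_top_ne_top A M)
      have hTnt : Nontrivial (N ⊗[A] M) := by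
        by_contra hcon
        rw [not_nontrivial_iff_subsingleton] at hcon
        have : Subsingleton ((QuotSMulTop y N) ⊗[A] M) :=
          (gmap_surjective (A := A) M N y).subsingleton
        rw [Groth.Agent.Helper2.DepthLoc.depth_eq_top_of_subsingleton B _] at hIH
        have h7 : LocCoh.depth A M + (s : ℕ∞) ≠ ⊤ :=
          WithTop.add_ne_top.2 ⟨hMne, ENat.natCast_ne_top s⟩
        exact h7 hIH.symm
      have hIT := Groth.Agent.Helper2.Depth.smul_top_ne_top B (N ⊗[A] M)
      have hd2 := Groth.Agent.Helper2.DepthCM.idealDepth_quotSMulTop (maximalIdeal B)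
        (N ⊗[A] M) hIT y hym (regular_tensor M N y hyreg)
      show LocCoh.idealDepth (maximalIdeal B) (N ⊗[A] M) = _
      rw [← hd2]
      show LocCoh.depth B (QuotSMulTop y (N ⊗[A] M)) + 1 = _
      rw [hcong, hIH]
      push_cast
      rw [add_assoc]

/-- the depth formula for flat local homomorphisms -/
theorem depth_tensor (N : Type u) [AddCommGroup N] [Module B N]
    [Module A N] [IsScalarTower A B N] [Module.Finite B N] [Module.Flat A N] :
    LocCoh.depth B (N ⊗[A] M) = LocCoh.depth A M + LocCoh.depth B (EGA4.FibMod A B N) := by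
  rcases subsingleton_or_nontrivial N with hN | hN
  · rw [Groth.Agent.Helper2.DepthLoc.depth_eq_top_of_subsingleton B (N ⊗[A] M),
      Groth.Agent.Helper2.DepthLoc.depth_eq_top_of_subsingleton B (EGA4.FibMod A B N)]
    simp
  rcases subsingleton_or_nontrivial M with hM | hM
  · rw [Groth.Agent.Helper2.DepthLoc.depth_eq_top_of_subsingleton B (N ⊗[A] M),
      Groth.Agent.Helper2.DepthLoc.depth_eq_top_of_subsingleton A M]
    simp
  have hFnt : Nontrivial (EGA4.FibMod A B N) := fibMod_nontrivial'
  have hne := Groth.Agent.Helper2.DepthCM.idealDepth_ne_top (maximalIdeal B) (EGA4.FibMod A B N)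
    (Groth.Agent.Helper2.Depth.smul_top_ne_top B (EGA4.FibMod A B N))
  obtain ⟨s, hs⟩ := ENat.ne_top_iff_exists.1 hne
  have := depth_tensor_aux M s N hs.symm
  rw [this]
  congr 1

end Formula

end Groth.Agent.Helper2.DepthFlat2
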