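import Mathlib
import Groth.Prelude.Def_CAlg
import Groth.Prelude.Def_EGA4b
import Groth.Agent.Helper2.RegFlat
import Groth.Agent.Helper2.RegCM
import Groth.Agent.Helper2.DepthFlat2
set_option autoImplicit false
universe u
open IsLocalRing TensorProduct Pointwise

namespace Groth.Agent.Helper2.FlatLoc

section
variable (A B : Type u) [CommRing A] [CommRing B] [IsNoetherianRing A] [IsNoetherianRing B]
  [Algebra A B] [Module.Flat A B] (q : Ideal B) [q.IsPrime]

omit [IsNoetherianRing A] [IsNoetherianRing B] [Module.Flat A B] in
lemma map_le : (q.comap (algebraMap A B)).map (algebraMap A (Localization.AtPrime q)) ≤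
    maximalIdeal (Localization.AtPrime q) := by
  rw [Ideal.map_le_iff_le_comap]
  intro x hx
  rw [Ideal.mem_comap, IsScalarTower.algebraMap_apply A B (Localization.AtPrime q),
    IsLocalization.AtPrime.to_map_mem_maximal_iff (Localization.AtPrime q) q]
  exact hx

instance : Nontrivial (EGA4.FibLocRing A B q) :=
  Ideal.Quotient.nontrivial_iff.2 (fun h =>
    (IsLocalRing.maximalIdeal.isMaximal (Localization.AtPrime q)).ne_top
      (top_le_iff.1 (h ▸ map_le A B q)))

instance : IsLocalRing (EGA4.FibLocRing A B q) :=
  IsLocalRing.of_surjective' (Ideal.Quotient.mk _) Ideal.Quotient.mk_surjective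

/-- the ideal `m_{A_p} B_q` equals `p B_q`. -/
lemma map_maximalIdeal :
    letI := Localization.AtPrime.algebraOfLiesOver (q.comap (algebraMap A B)) q
    (maximalIdeal (Localization.AtPrime (q.comap (algebraMap A B)))).map
      (algebraMap (Localization.AtPrime (q.comap (algebraMap A B))) (Localization.AtPrime q)) =
      (q.comap (algebraMap A B)).map (algebraMap A (Localization.AtPrime q)) := by
  letI := Localization.AtPrime.algebraOfLiesOver (q.comap (algebraMap A B)) q
  rw [← Localization.AtPrime.map_eq_maximalIdeal, Ideal.map_map, ← IsScalarTower.algebraMap_eq]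

/-- regularity: base regular and fibre regular imply total regular. -/
theorem regular (hA : IsRegularLocalRing (Localization.AtPrime (q.comap (algebraMap A B))))
    (hF : IsRegularLocalRing (EGA4.FibLocRing A B q)) :
    IsRegularLocalRing (Localization.AtPrime q) := by
  letI := Localization.AtPrime.algebraOfLiesOver (q.comap (algebraMap A B)) q
  haveI : IsLocalHom (algebraMap (Localization.AtPrime (q.comap (algebraMap A B)))
      (Localization.AtPrime q)) :=
    Localization.isLocalHom_localRingHom _ _ _ Ideal.LiesOver.over
  apply Groth.Agent.Helper2.RegFlat.isRegularLocalRing_of_flat_of_fibre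
    (A := Localization.AtPrime (q.comap (algebraMap A B))) (B := Localization.AtPrime q)
  rw [map_maximalIdeal A B q]
  exact hF

/-- the dimension formula `ht q = ht p + dim (B_q / p B_q)` -/
theorem height_eq : q.height = (q.comap (algebraMap A B)).height +
    (maximalIdeal (EGA4.FibLocRing A B q)).height := by
  letI := Localization.AtPrime.algebraOfLiesOver (q.comap (algebraMap A B)) q
  haveI : IsLocalHom (algebraMap (Localization.AtPrime (q.comap (algebraMap A B)))
      (Localization.AtPrime q)) :=
    Localization.isLocalHom_localRingHom _ _ _ Ideal.LiesOver.over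
  haveI : Algebra.HasGoingDown (Localization.AtPrime (q.comap (algebraMap A B)))
      (Localization.AtPrime q) := Algebra.HasGoingDown.of_flat
  haveI : (maximalIdeal (Localization.AtPrime q)).LiesOver
      (maximalIdeal (Localization.AtPrime (q.comap (algebraMap A B)))) :=
    ⟨(((local_hom_TFAE (algebraMap (Localization.AtPrime (q.comap (algebraMap A B)))
      (Localization.AtPrime q))).out 0 4 rfl rfl).mp inferInstance).symm⟩
  have h := Ideal.height_eq_height_add_of_liesOver_of_hasGoingDown
    (maximalIdeal (Localization.AtPrime (q.comap (algebraMap A B))))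
    (maximalIdeal (Localization.AtPrime q))
  rw [map_maximalIdeal A B q,
    IsLocalRing.map_maximalIdeal_of_surjective _ Ideal.Quotient.mk_surjective] at h
  have h1 : (maximalIdeal (Localization.AtPrime q)).height = q.height := by
    have := IsLocalization.AtPrime.ringKrullDim_eq_height q (Localization.AtPrime q)
    rw [← IsLocalRing.maximalIdeal_height_eq_ringKrullDim] at this
    exact_mod_cast this
  have h2 : (maximalIdeal (Localization.AtPrime (q.comap (algebraMap A B)))).height =
      (q.comap (algebraMap A B)).height := by
    have := IsLocalization.AtPrime.ringKrullDim_eq_height (q.comap (algebraMap A B))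
      (Localization.AtPrime (q.comap (algebraMap A B)))
    rw [← IsLocalRing.maximalIdeal_height_eq_ringKrullDim] at this
    exact_mod_cast this
  rw [h1, h2] at h
  exact h

/-- the depth formula `depth B_q = depth A_p + depth (B_q / p B_q)` -/
theorem depth_eq :
    LocCoh.depth (Localization.AtPrime q) (Localization.AtPrime q) =
      LocCoh.depth (Localization.AtPrime (q.comap (algebraMap A B)))
        (Localization.AtPrime (q.comap (algebraMap A B))) +
      LocCoh.depth (EGA4.FibLocRing A B q) (EGA4.FibLocRing A B q) := by
  letI := Localization.AtPrime.algebraOfLiesOver (q.comap (algebraMap A B)) q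
  haveI : IsLocalHom (algebraMap (Localization.AtPrime (q.comap (algebraMap A B)))
      (Localization.AtPrime q)) :=
    Localization.isLocalHom_localRingHom _ _ _ Ideal.LiesOver.over
  have h := Groth.Agent.Helper2.DepthFlat2.depth_tensor
    (A := Localization.AtPrime (q.comap (algebraMap A B))) (B := Localization.AtPrime q)
    (Localization.AtPrime (q.comap (algebraMap A B))) (Localization.AtPrime q)
  have e1 : (Localization.AtPrime q ⊗[Localization.AtPrime (q.comap (algebraMap A B))]
      Localization.AtPrime (q.comap (algebraMap A B))) ≃ₗ[Localization.AtPrime q]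
      Localization.AtPrime q :=
    TensorProduct.AlgebraTensorModule.rid _ _ _
  have hc1 : LocCoh.depth (Localization.AtPrime q)
      (Localization.AtPrime q ⊗[Localization.AtPrime (q.comap (algebraMap A B))]
      Localization.AtPrime (q.comap (algebraMap A B))) =
      LocCoh.depth (Localization.AtPrime q) (Localization.AtPrime q) :=
    Groth.Agent.Helper2.DepthCM.idealDepth_congr (maximalIdeal (Localization.AtPrime q)) e1
  rw [hc1] at h
  rw [h]
  congr 1
  -- the fibre module
  have hI : (EGA4.mB (Localization.AtPrime (q.comap (algebraMap A B))) (Localization.AtPrime q) •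
      (⊤ : Submodule (Localization.AtPrime q) (Localization.AtPrime q))) =
      (q.comap (algebraMap A B)).map (algebraMap A (Localization.AtPrime q)) := by
    rw [smul_eq_mul, Ideal.mul_top]
    exact map_maximalIdeal A B q
  have e2 : EGA4.FibMod (Localization.AtPrime (q.comap (algebraMap A B))) (Localization.AtPrime q)
      (Localization.AtPrime q) ≃ₗ[Localization.AtPrime q] EGA4.FibLocRing A B q :=
    Submodule.quotEquivOfEq _ _ hI
  have hc2 : LocCoh.depth (Localization.AtPrime q)
      (EGA4.FibMod (Localization.AtPrime (q.comap (algebraMap A B))) (Localization.AtPrime q)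
      (Localization.AtPrime q)) =
      LocCoh.depth (Localization.AtPrime q) (EGA4.FibLocRing A B q) :=
    Groth.Agent.Helper2.DepthCM.idealDepth_congr (maximalIdeal (Localization.AtPrime q)) e2
  rw [hc2]
  haveI : IsLocalHom (algebraMap (Localization.AtPrime q) (EGA4.FibLocRing A B q)) :=
    IsLocalHom.of_surjective _ Ideal.Quotient.mk_surjective
  haveI : Module.Finite (Localization.AtPrime q) (EGA4.FibLocRing A B q) :=
    Module.Finite.of_surjective (Algebra.linearMap _ _) Ideal.Quotient.mk_surjective
  exact Groth.Agent.Helper2.RegCM.depth_eq_of_isLocalHom (Localization.AtPrime q)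
    (EGA4.FibLocRing A B q) (EGA4.FibLocRing A B q)

end

end Groth.Agent.Helper2.FlatLoc
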