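import Mathlib
import Groth.Prelude.Def_Found
set_option autoImplicit false
universe u
open IsLocalRing

namespace Groth.Agent.Helper2.Caten

variable {A : Type u} [CommRing A]

lemma dimQuot_eq_coheight (p : PrimeSpectrum A) :
    ringKrullDim (A ⧸ p.asIdeal) = ((Order.coheight p : ℕ∞) : WithBot ℕ∞) := by
  rw [ringKrullDim_quotient, Order.coheight_eq_krullDim_Ici]
  have : PrimeSpectrum.zeroLocus (p.asIdeal : Set A) = Set.Ici p := by
    ext x
    rw [PrimeSpectrum.mem_zeroLocus, Set.mem_Ici, SetLike.coe_subset_coe,
      PrimeSpectrum.asIdeal_le_asIdeal]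
  rw [this]

/-- prepend an element to a strict series -/
noncomputable def consSeries {X : Type*} [Preorder X] (s : LTSeries X) (x : X) (h : x < s.head) :
    LTSeries X :=
  LTSeries.mk (s.length + 1) (Fin.cons x s.toFun) (by
    rw [Fin.strictMono_iff_lt_succ]
    intro i
    refine Fin.cases ?_ (fun j => ?_) i
    · change x < s.toFun 0
      exact h
    · change s.toFun j.castSucc < s.toFun j.succ
      exact s.step j)

section
variable {X : Type*} [Preorder X] (s : LTSeries X) (x : X) (h : x < s.head)

lemma consSeries_length : (consSeries s x h).length = s.length + 1 := rfl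
lemma consSeries_head : (consSeries s x h).head = x := rfl
lemma consSeries_last : (consSeries s x h).last = s.last := by
  change Fin.cons (α := fun _ => X) x s.toFun (Fin.last (s.length + 1)) = s.toFun (Fin.last s.length)
  rw [← Fin.succ_last, Fin.cons_succ]
lemma consSeries_zero : (consSeries s x h).toFun 0 = x := rfl
lemma consSeries_succ (j : Fin (s.length + 1)) : (consSeries s x h).toFun j.succ = s.toFun j := rfl
end

variable [IsLocalRing A]

lemma connectedSpace_of_isLocalRing : ConnectedSpace (PrimeSpectrum A) := by
  have hpre : IsPreconnected (Set.univ : Set (PrimeSpectrum A)) := by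
    refine isPreconnected_of_forall (closedPoint A) ?_
    intro y _
    refine ⟨closure {y}, Set.subset_univ _, ?_, subset_closure rfl, isPreconnected_singleton.closure⟩
    rw [← specializes_iff_mem_closure]
    exact specializes_closedPoint y
  exact { toPreconnectedSpace := ⟨hpre⟩, toNonempty := ⟨closedPoint A⟩ }

variable [IsNoetherianRing A]

lemma coheight_lt_top (x : PrimeSpectrum A) : Order.coheight x < ⊤ := by
  have h1 : ((Order.coheight x : ℕ∞) : WithBot ℕ∞) ≤ ringKrullDim A := Order.coheight_le_krullDim x
  have h2 : ringKrullDim A < ⊤ := ringKrullDim_lt_top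
  have h3 := lt_of_le_of_lt h1 h2
  rw [lt_top_iff_ne_top] at h3 ⊢
  intro h
  exact h3 (by rw [h]; rfl)

/-- a maximal-length series from `x` is saturated and ends at the closed point -/
lemma exists_saturated (x : PrimeSpectrum A) :
    ∃ s : LTSeries (PrimeSpectrum A), s.head = x ∧ s.last = closedPoint A ∧
      (s.length : ℕ∞) = Order.coheight x ∧ ∀ i : Fin s.length, s i.castSucc ⋖ s i.succ := by
  obtain ⟨n, hn⟩ := ENat.ne_top_iff_exists.1 (coheight_lt_top x).ne
  obtain ⟨p, hhead, hlen⟩ := Order.exists_series_of_coheight_eq_coe x hn.symm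
  have hmax : (p.length : ℕ∞) = Order.coheight p.head := by rw [hhead, ← hn, hlen]
  have hidx := Order.coheight_eq_index_of_length_eq_head_coheight hmax
  refine ⟨p, hhead, ?_, by rw [hlen, hn], ?_⟩
  · have h0 : Order.coheight p.last = 0 := by
      have := hidx (Fin.last _)
      rw [Fin.rev_last] at this
      exact this
    rw [Order.coheight_eq_zero] at h0
    exact le_antisymm (le_top (a := p.last)) (h0 (le_top (a := p.last)))
  · intro i
    refine ⟨p.step i, ?_⟩
    intro z hz1 hz2
    have e1 := hidx i.castSucc
    have e2 := hidx i.succ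
    have l1 := Order.coheight_add_one_le hz1
    have l2 := Order.coheight_add_one_le hz2
    rw [e1] at l1
    rw [e2] at l2
    have l3 : (((i.succ.rev : Fin (p.length + 1)) : ℕ) : ℕ∞) + 1 + 1 ≤ ((i.castSucc.rev : Fin (p.length + 1)) : ℕ) :=
      le_trans (by gcongr) l1
    have l4 : ((i.succ.rev : Fin (p.length + 1)) : ℕ) + 1 + 1 ≤ ((i.castSucc.rev : Fin (p.length + 1)) : ℕ) := by
      exact_mod_cast l3
    simp only [Fin.val_rev, Fin.val_succ, Fin.val_castSucc] at l4
    omega

/-- in a catenary Noetherian local ring the coheight drops by exactly one along a covering -/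
lemma coheight_of_covBy (hc : CAlg.IsCatenary A) {x y : PrimeSpectrum A} (hxy : x ⋖ y) :
    Order.coheight x = Order.coheight y + 1 := by
  obtain ⟨s, hs1, hs2, hs3, hs4⟩ := exists_saturated y
  obtain ⟨t, ht1, ht2, ht3, ht4⟩ := exists_saturated x
  have hlt : x < s.head := hs1 ▸ hxy.lt
  have hlen := hc.2 (consSeries s x hlt) t (by rw [ht1, consSeries_head])
    (by rw [ht2, ← hs2, consSeries_last]) ?_ ht4
  · rw [← ht3, ← hs3, ← hlen, consSeries_length]
    push_cast
    rfl
  · intro i
    have hi : ∀ i : Fin (s.length + 1), (consSeries s x hlt).toFun i.castSucc ⋖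
        (consSeries s x hlt).toFun i.succ := by
      intro i
      refine Fin.cases ?_ (fun j => ?_) i
      · change x ⋖ s.toFun 0
        have : s.toFun 0 = y := hs1
        rw [this]
        exact hxy
      · change s.toFun j.castSucc ⋖ s.toFun j.succ
        exact hs4 j
    exact hi i

end Groth.Agent.Helper2.Caten
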