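import Mathlib
import Groth.Prelude.Def_Found
import Groth.Prelude.Def_EGA4b
import Groth.Agent.Helper2.Caten
set_option autoImplicit false
universe u
open IsLocalRing Groth.Agent.Helper2 Groth.Agent.Helper2.Caten

namespace Groth.Agent.Helper2.Caten2

variable {A : Type u} [CommRing A]

lemma height_add_coheight_le (x : PrimeSpectrum A) :
    (((Order.height x + Order.coheight x : ℕ∞)) : WithBot ℕ∞) ≤ ringKrullDim A := by
  have : Nonempty (PrimeSpectrum A) := ⟨x⟩
  rw [ringKrullDim, Order.krullDim_eq_iSup_height_add_coheight_of_nonempty, WithBot.coe_le_coe]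
  exact le_iSup (fun a : PrimeSpectrum A => Order.height a + Order.coheight a) x

/-- a minimal prime over `p + (t)` covers `p` when `t ∉ p` -/
lemma covBy_of_mem_minimalPrimes [IsNoetherianRing A] (p : PrimeSpectrum A) (t : A)
    (ht : t ∉ p.asIdeal) (p₀ : Ideal A) (hp₀ : p₀ ∈ (p.asIdeal ⊔ Ideal.span {t}).minimalPrimes) :
    p ⋖ (⟨p₀, hp₀.1.1⟩ : PrimeSpectrum A) := by
  have hpp₀ : p.asIdeal ≤ p₀ := le_sup_left.trans hp₀.1.2
  have htp₀ : t ∈ p₀ := hp₀.1.2 (Ideal.mem_sup_right (Ideal.mem_span_singleton_self t))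
  have hlt : p < (⟨p₀, hp₀.1.1⟩ : PrimeSpectrum A) := by
    rw [← PrimeSpectrum.asIdeal_lt_asIdeal]
    refine lt_of_le_of_ne hpp₀ ?_
    intro h
    have h' : p.asIdeal = p₀ := h
    exact ht (h' ▸ htp₀)
  refine ⟨hlt, ?_⟩
  intro r hpr hrp₀
  have hh := Ideal.map_height_le_one_of_mem_minimalPrimes hp₀
  set f := Ideal.Quotient.mk p.asIdeal with hf
  have hsurj : Function.Surjective f := Ideal.Quotient.mk_surjective
  have hker : RingHom.ker f = p.asIdeal := Ideal.mk_ker
  have hpr' : p.asIdeal < r.asIdeal := (PrimeSpectrum.asIdeal_lt_asIdeal p r).2 hpr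
  have hrp₀' : r.asIdeal < p₀ := (PrimeSpectrum.asIdeal_lt_asIdeal r ⟨p₀, hp₀.1.1⟩).2 hrp₀
  have hrprime : (r.asIdeal.map f).IsPrime :=
    Ideal.map_isPrime_of_surjective hsurj ((le_of_eq hker).trans hpr'.le)
  have hp₀prime' : p₀.IsPrime := hp₀.1.1
  have hp₀prime : (p₀.map f).IsPrime :=
    Ideal.map_isPrime_of_surjective hsurj ((le_of_eq hker).trans hpp₀)
  have hcm : ∀ J : Ideal A, p.asIdeal ≤ J → (J.map f).comap f = J := by
    intro J hJ
    rw [Ideal.comap_map_of_surjective f hsurj, ← RingHom.ker_eq_comap_bot, hker, sup_of_le_left hJ]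
  have hdom : IsDomain (A ⧸ p.asIdeal) := Ideal.Quotient.isDomain p.asIdeal
  have h1 : (1 : ℕ∞) < Order.height (⟨p₀.map f, hp₀prime⟩ : PrimeSpectrum (A ⧸ p.asIdeal)) := by
    rw [Order.one_lt_height_iff]
    refine ⟨⟨r.asIdeal.map f, hrprime⟩, ⟨⊥, Ideal.isPrime_bot⟩, ?_, ?_⟩
    · rw [← PrimeSpectrum.asIdeal_lt_asIdeal]
      refine lt_of_le_of_ne bot_le ?_
      intro h
      have h' : (⊥ : Ideal (A ⧸ p.asIdeal)) = r.asIdeal.map f := h
      have := hcm r.asIdeal hpr'.le
      rw [← h', ← RingHom.ker_eq_comap_bot, hker] at this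
      exact hpr'.ne this
    · rw [← PrimeSpectrum.asIdeal_lt_asIdeal]
      refine lt_of_le_of_ne (Ideal.map_mono hrp₀'.le) ?_
      intro h
      have h' : r.asIdeal.map f = p₀.map f := h
      have e1 := hcm r.asIdeal hpr'.le
      have e2 := hcm p₀ hpp₀
      rw [h', e2] at e1
      exact hrp₀'.ne e1.symm
  rw [← PrimeSpectrum.height_eq_orderHeight] at h1
  exact absurd h1 (not_lt.2 hh)

variable [IsLocalRing A] [IsNoetherianRing A]

omit [IsLocalRing A] in
lemma height_lt_top (x : PrimeSpectrum A) : Order.height x < ⊤ := by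
  rw [← PrimeSpectrum.height_eq_orderHeight]
  exact lt_top_iff_ne_top.2 (Ideal.height_ne_top x.2.ne_top)

omit [IsLocalRing A] in
/-- a maximal-length series ending at `x` is saturated and starts at a minimal prime -/
lemma exists_saturated_below (x : PrimeSpectrum A) :
    ∃ s : LTSeries (PrimeSpectrum A), s.last = x ∧ s.head.asIdeal ∈ minimalPrimes A ∧
      (s.length : ℕ∞) = Order.height x ∧ ∀ i : Fin s.length, s i.castSucc ⋖ s i.succ := by
  obtain ⟨n, hn⟩ := ENat.ne_top_iff_exists.1 (height_lt_top x).ne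
  obtain ⟨p, hlast, hlen⟩ := Order.exists_series_of_height_eq_coe x hn.symm
  have hmax : (p.length : ℕ∞) = Order.height p.last := by rw [hlast, ← hn, hlen]
  have hidx := Order.height_eq_index_of_length_eq_height_last hmax
  refine ⟨p, hlast, ?_, by rw [hlen, hn], ?_⟩
  · have h0 : Order.height p.head = 0 := by
      have := hidx 0
      rw [Fin.val_zero] at this
      exact_mod_cast this
    rw [Order.height_eq_zero] at h0
    refine ⟨⟨p.head.2, bot_le⟩, ?_⟩
    rintro q ⟨hq, -⟩ hqle
    have : (⟨q, hq⟩ : PrimeSpectrum A) ≤ p.head := (PrimeSpectrum.asIdeal_le_asIdeal _ _).1 hqle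
    exact (PrimeSpectrum.asIdeal_le_asIdeal _ _).2 (h0 this)
  · intro i
    refine ⟨p.step i, ?_⟩
    intro z hz1 hz2
    have e1 := hidx i.castSucc
    have e2 := hidx i.succ
    have l1 := Order.height_add_one_le hz1
    have l2 := Order.height_add_one_le hz2
    rw [e1] at l1
    rw [e2] at l2
    have l3 : (((i.castSucc : Fin (p.length + 1)) : ℕ) : ℕ∞) + 1 + 1 ≤ ((i.succ : Fin (p.length + 1)) : ℕ) :=
      le_trans (by gcongr) l2
    have l4 : ((i.castSucc : Fin (p.length + 1)) : ℕ) + 1 + 1 ≤ ((i.succ : Fin (p.length + 1)) : ℕ) := by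
      exact_mod_cast l3
    simp only [Fin.val_succ, Fin.val_castSucc] at l4
    omega

/-- along a saturated series in a catenary local ring, coheight drops by the index -/
lemma coheight_head_eq (hc : CAlg.IsCatenary A) (s : LTSeries (PrimeSpectrum A))
    (hs : ∀ i : Fin s.length, s i.castSucc ⋖ s i.succ) (i : Fin (s.length + 1)) :
    Order.coheight (s 0) = Order.coheight (s i) + (i : ℕ) := by
  induction i using Fin.induction with
  | zero => simp
  | succ i ih =>
    rw [ih, coheight_of_covBy hc (hs i)]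
    simp only [Fin.val_succ, Fin.val_castSucc]
    push_cast
    ring

/-- in an equidimensional catenary Noetherian local ring, `ht x + dim A/x = dim A` -/
lemma height_add_coheight_eq (hc : CAlg.IsCatenary A) (he : EGA4.IsEquidim A)
    (x : PrimeSpectrum A) :
    (((Order.height x + Order.coheight x : ℕ∞)) : WithBot ℕ∞) = ringKrullDim A := by
  obtain ⟨s, hlast, hmin, hlen, hsat⟩ := exists_saturated_below x
  have h1 := coheight_head_eq hc s hsat (Fin.last _)
  have h2 := dimQuot_eq_coheight s.head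
  rw [he _ hmin] at h2
  rw [h2]
  have h3 : s 0 = s.head := rfl
  have h4 : s (Fin.last _) = x := hlast
  rw [h3, h4, Fin.val_last, hlen] at h1
  rw [h1, add_comm]

end Groth.Agent.Helper2.Caten2
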