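import Mathlib
import Groth.Agent.Helper2.SerreLoc
import Groth.Agent.Helper2.RegHom

namespace Groth.Agent.Helper2.RegMax
open IsLocalRing

universe u

/-- a Noetherian ring whose localizations at maximal ideals are regular is a regular ring -/
theorem isRegularRing_of_forall_maximal (B : Type u) [CommRing B] [IsNoetherianRing B]
    (h : ∀ (M : Ideal B) [M.IsMaximal], IsRegularLocalRing (Localization.AtPrime M)) :
    IsRegularRing B := by
  rw [isRegularRing_iff]
  intro P hP
  obtain ⟨M, hM, hPM⟩ := Ideal.exists_le_maximal P hP.ne_top
  haveI := h M
  have hdisj : Disjoint (M.primeCompl : Set B) (P : Set B) := by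
    rw [Set.disjoint_left]
    intro x hx hxP
    exact hx (hPM hxP)
  set P' := P.map (algebraMap B (Localization.AtPrime M)) with hP'
  haveI hP'prime : P'.IsPrime :=
    IsLocalization.isPrime_of_isPrime_disjoint M.primeCompl _ P hP hdisj
  have hcomap : P'.comap (algebraMap B (Localization.AtPrime M)) = P :=
    IsLocalization.comap_map_of_isPrime_disjoint M.primeCompl _ hP hdisj
  have hreg : IsRegularLocalRing (Localization.AtPrime P') :=
    Groth.Agent.Helper2.SerreLoc.isRegularLocalRing_localization _ P'
  have e := IsLocalization.localizationLocalizationAtPrimeIsoLocalization M.primeCompl P'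
  have hreg2 : IsRegularLocalRing
      (Localization.AtPrime (P'.comap (algebraMap B (Localization M.primeCompl)))) :=
    IsRegularLocalRing.of_ringEquiv e.symm.toRingEquiv
  exact Groth.Agent.Helper2.RegHom.transport hcomap hreg2

end Groth.Agent.Helper2.RegMax
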