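import Mathlib
import Groth.Agent.Helper2.RegMax
import Groth.Agent.Helper2.RegSeq
import Groth.Agent.Helper2.FibDimEq
import Groth.Agent.Helper2.SerreC

namespace Groth.Agent.Helper2.PSReg
open IsLocalRing

universe u

/-- the local ring of a quotient as a quotient of the local ring -/
theorem exists_ringEquiv {P S : Type u} [CommRing P] [CommRing S] [Algebra P S]
    (hsurj : Function.Surjective (algebraMap P S)) (q : Ideal S) [q.IsPrime] :
    Nonempty ((Localization.AtPrime (q.comap (algebraMap P S)) ⧸
      (RingHom.ker (algebraMap P S)).map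
        (algebraMap P (Localization.AtPrime (q.comap (algebraMap P S))))) ≃+*
      Localization.AtPrime q) := by
  set Q := q.comap (algebraMap P S) with hQ
  let ρ : Localization.AtPrime Q →+* Localization.AtPrime q :=
    Localization.localRingHom Q q (algebraMap P S) rfl
  have hρ : Function.Surjective ρ :=
    RingHom.surjective_localRingHom_of_surjective (algebraMap P S) hsurj q
  have hT : Submonoid.map (algebraMap P S) Q.primeCompl = q.primeCompl :=
    Submonoid.map_comap_eq_of_surjective hsurj q.primeCompl
  have hker : RingHom.ker ρ = (RingHom.ker (algebraMap P S)).map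
      (algebraMap P (Localization.AtPrime Q)) :=
    IsLocalization.ker_map (M := Q.primeCompl) (T := q.primeCompl) (S := Localization.AtPrime Q)
      (Localization.AtPrime q) (algebraMap P S) hT
  exact ⟨(Ideal.quotEquivOfEq hker.symm).trans (RingHom.quotientKerEquivOfSurjective hρ)⟩

/-- a Noetherian local ring is regular if its quotient by a regular element of the maximal ideal
is regular -/
theorem regular_of_quotient_regular_elem (R : Type u) [CommRing R] [IsLocalRing R]
    [IsNoetherianRing R] (x : R) (hxm : x ∈ maximalIdeal R) (hxreg : IsSMulRegular R x)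
    (h : IsRegularLocalRing (R ⧸ Ideal.span {x})) : IsRegularLocalRing R := by
  have h1 := Groth.Agent.Helper2.FibDimEq.dim_quot_succ_le x
    (Groth.Agent.Helper2.SerreC.notMem_minimalPrimes_of_regular hxreg)
  have hdimeq : ringKrullDim (R ⧸ Ideal.span {x}) + 1 = ringKrullDim R :=
    le_antisymm h1 (Groth.Agent.Helper2.FibDimEq.dim_le_quot_succ x hxm)
  have hspan : Ideal.span (Set.range fun _ : Fin 1 => ((⟨x, hxm⟩ : maximalIdeal R) : R)) =
      Ideal.span {x} := by
    congr 1
    ext y
    simp
  have e := Ideal.quotEquivOfEq hspan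
  have hreg'' : IsRegularLocalRing
      (R ⧸ Ideal.span (Set.range fun _ : Fin 1 => ((⟨x, hxm⟩ : maximalIdeal R) : R))) :=
    IsRegularLocalRing.of_ringEquiv e.symm
  refine (Groth.Agent.Helper2.RegSeq.regular_of_quotient_regular 1
    (fun _ => (⟨x, hxm⟩ : maximalIdeal R)) ?_ hreg'').1
  rw [ringKrullDim_eq_of_ringEquiv e]
  exact_mod_cast hdimeq

/-- General principle: `B` Noetherian, `x ∈ B` a nonzerodivisor lying in every maximal ideal,
`B ⧸ (x)` a regular ring. Then `B` is a regular ring. -/
theorem isRegularRing_of_quotient (B : Type u) [CommRing B] [IsNoetherianRing B] (x : B)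
    (hreg : IsSMulRegular B x) (hjac : ∀ (M : Ideal B) [M.IsMaximal], x ∈ M)
    (hq : IsRegularRing (B ⧸ Ideal.span {x})) : IsRegularRing B := by
  apply Groth.Agent.Helper2.RegMax.isRegularRing_of_forall_maximal
  intro M hM
  -- the prime of the quotient
  let S := B ⧸ Ideal.span {x}
  have hsurj : Function.Surjective (algebraMap B S) := Ideal.Quotient.mk_surjective
  have hxM : Ideal.span {x} ≤ M := by
    rw [Ideal.span_singleton_le_iff_mem]; exact hjac M
  let q : Ideal S := M.map (algebraMap B S)
  have hker : RingHom.ker (algebraMap B S) = Ideal.span {x} := Ideal.mk_ker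
  haveI hqprime : q.IsPrime :=
    Ideal.map_isPrime_of_surjective hsurj (by rw [hker]; exact hxM)
  have hcomap : q.comap (algebraMap B S) = M := by
    rw [Ideal.comap_map_of_surjective _ hsurj]
    rw [sup_eq_left]
    change Ideal.comap (algebraMap B S) ⊥ ≤ M
    rw [← RingHom.ker_eq_comap_bot, hker]
    exact hxM
  obtain ⟨e⟩ := exists_ringEquiv hsurj q
  have hregq : IsRegularLocalRing (Localization.AtPrime q) := inferInstance
  set Q := q.comap (algebraMap B S) with hQ
  have hxQ : x ∈ Q := by rw [hcomap]; exact hjac M
  set x' := algebraMap B (Localization.AtPrime Q) x with hx'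
  have hmap : (RingHom.ker (algebraMap B S)).map (algebraMap B (Localization.AtPrime Q)) =
      Ideal.span {x'} := by
    rw [hker, Ideal.map_span, Set.image_singleton]
  have hx'm : x' ∈ maximalIdeal (Localization.AtPrime Q) :=
    (IsLocalization.AtPrime.to_map_mem_maximal_iff (Localization.AtPrime Q) Q x).2 hxQ
  have hx'reg : IsSMulRegular (Localization.AtPrime Q) x' :=
    IsSMulRegular.of_isLocalization (Localization.AtPrime Q) Q.primeCompl hreg
  have hreg2 : IsRegularLocalRing (Localization.AtPrime Q ⧸ Ideal.span {x'}) :=
    IsRegularLocalRing.of_ringEquiv ((Ideal.quotEquivOfEq hmap).symm.trans e).symm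
  have hregQ : IsRegularLocalRing (Localization.AtPrime Q) :=
    regular_of_quotient_regular_elem _ x' hx'm hx'reg hreg2
  exact Groth.Agent.Helper2.RegHom.transport hcomap hregQ

/-- power series over a regular ring form a regular ring -/
theorem isRegularRing_powerSeries (A : Type u) [CommRing A] [IsRegularRing A] :
    IsRegularRing (PowerSeries A) := by
  apply isRegularRing_of_quotient (PowerSeries A) PowerSeries.X
  · intro f g hfg
    exact PowerSeries.X_mul_cancel hfg
  · intro M hM
    by_contra hX
    obtain ⟨y, i, hi, hyi⟩ := hM.exists_inv hX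
    have hunit : IsUnit i := by
      rw [PowerSeries.isUnit_iff_constantCoeff]
      have h1 : i = 1 - y * PowerSeries.X := by rw [← hyi]; ring
      rw [h1]
      simp
    exact hM.ne_top (Ideal.eq_top_of_isUnit_mem _ hi hunit)
  · have hker : RingHom.ker (PowerSeries.constantCoeff (R := A)) = Ideal.span {PowerSeries.X} := by
      ext f
      rw [RingHom.mem_ker, Ideal.mem_span_singleton, PowerSeries.X_dvd_iff]
    have e : PowerSeries A ⧸ Ideal.span {(PowerSeries.X : PowerSeries A)} ≃+* A :=
      (Ideal.quotEquivOfEq hker.symm).trans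
        (RingHom.quotientKerEquivOfSurjective PowerSeries.constantCoeff_surj)
    exact IsRegularRing.of_ringEquiv e.symm

/-- multivariate power series over a regular ring form a regular ring -/
theorem isRegularRing_mvPowerSeries (A : Type u) [CommRing A] [IsRegularRing A] (n : ℕ) :
    IsRegularRing (MvPowerSeries (Fin n) A) := by
  induction n with
  | zero =>
    exact IsRegularRing.of_ringEquiv (MvPowerSeries.isEmptyEquiv (σ := Fin 0) (R := A)).symm.toRingEquiv
  | succ n ih =>
    haveI := ih
    haveI : IsRegularRing (PowerSeries (MvPowerSeries (Fin n) A)) := isRegularRing_powerSeries _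
    exact IsRegularRing.of_ringEquiv (MvPowerSeries.finSuccEquiv A n).symm.toRingEquiv

end Groth.Agent.Helper2.PSReg
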