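import Mathlib
import Groth.Prelude.Def_CAlg
import Groth.Agent.Helper2.DepthCM3
import Groth.Agent.Helper2.DepthLoc
import Groth.Agent.Helper2.DepthLocHom
import Groth.Agent.Helper2.Ass
import Groth.Agent.Helper2.Caten
set_option autoImplicit false
universe u
open IsLocalRing Groth.Agent.Helper2 RingTheory.Sequence Pointwise

namespace Groth.Agent.Helper2.Isch

section Local
variable {R : Type u} [CommRing R] [IsNoetherianRing R] [IsLocalRing R]

omit [IsNoetherianRing R] in
lemma smul_top_ne_top_of_le (M : Type u) [AddCommGroup M] [Module R M] [Module.Finite R M]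
    [Nontrivial M] (p : Ideal R) (hp : p ≤ maximalIdeal R) : p • (⊤ : Submodule R M) ≠ ⊤ := by
  intro h
  apply Depth.smul_top_ne_top R M
  exact eq_top_iff.2 (h.symm.le.trans (Submodule.smul_mono_left hp))

/-- `depth M ≤ grade(p, M) + dim R/p` -/
theorem depth_le_idealDepth_add_dim (p : Ideal R) [p.IsPrime] :
    ∀ (g : ℕ) (M : Type u) [AddCommGroup M] [Module R M] [Module.Finite R M] [Nontrivial M],
      LocCoh.idealDepth p M = g →
      ((LocCoh.depth R M : ℕ∞) : WithBot ℕ∞) ≤ ((g : ℕ∞) : WithBot ℕ∞) + ringKrullDim (R ⧸ p) := by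
  have hpm : p ≤ maximalIdeal R := IsLocalRing.le_maximalIdeal (Ideal.IsPrime.ne_top inferInstance)
  intro g
  induction g with
  | zero =>
    intro M _ _ _ _ hg
    have hnr : ∀ x ∈ p, ¬ IsSMulRegular M x := by
      intro x hx hreg
      have h1 : IsWeaklyRegular M [x] := (isWeaklyRegular_singleton_iff M x).2 hreg
      have h2 := DepthCM3.length_le_idealDepth (I := p) [x] h1 (by simpa using hx)
      rw [hg] at h2
      simp at h2
    have h1 := Ass.exists_le_assPrime_or_le R M p ⊥ (fun x hx _ => hnr x hx)
    have h2 : ∃ P ∈ associatedPrimes R M, p ≤ P := by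
      rcases h1 with h1 | h1
      · obtain ⟨P, hP⟩ := associatedPrimes.nonempty R M
        exact ⟨P, hP, h1.trans bot_le⟩
      · exact h1
    obtain ⟨P, hP, hpP⟩ := h2
    have hPprime : P.IsPrime := (AssociatedPrimes.mem_iff.1 hP).isPrime
    have h3 := DepthCM.depth_le_dim_quotient_of_mem_ass M P hP
    have h4 : ringKrullDim (R ⧸ P) ≤ ringKrullDim (R ⧸ p) :=
      ringKrullDim_le_of_surjective (Ideal.Quotient.factor hpP) (Ideal.Quotient.factor_surjective hpP)
    simpa using h3.trans h4
  | succ g ih =>
    intro M _ _ _ _ hg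
    have hpM := smul_top_ne_top_of_le M p hpm
    have hmM := Depth.smul_top_ne_top R M
    obtain ⟨rs, h1, h2, -, h4⟩ := DepthCM.exists_length_eq_idealDepth p M hpM
    have hlen : rs.length = g + 1 := by
      have : (rs.length : ℕ∞) = ((g + 1 : ℕ) : ℕ∞) := h4.trans hg
      exact_mod_cast this
    match rs, hlen with
    | x :: rs', _ =>
      have hxp : x ∈ p := h2 x List.mem_cons_self
      have hxreg : IsSMulRegular M x := ((isWeaklyRegular_cons_iff M x rs').1 h1).1
      have hd1 := DepthCM.idealDepth_quotSMulTop p M hpM x hxp hxreg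
      have hd2 := DepthCM.idealDepth_quotSMulTop (maximalIdeal R) M hmM x (hpm hxp) hxreg
      have hnt : Nontrivial (QuotSMulTop x M) :=
        nontrivial_quotSMulTop_of_mem_maximalIdeal M (hpm hxp)
      have hg' : LocCoh.idealDepth p (QuotSMulTop x M) = g := by
        have : LocCoh.idealDepth p (QuotSMulTop x M) + 1 = (g : ℕ∞) + 1 := by
          rw [hd1, hg]; push_cast; rfl
        exact ENat.add_left_injective_of_ne_top (by simp) this
      have := ih (QuotSMulTop x M) hg'
      have e : LocCoh.depth R M = LocCoh.depth R (QuotSMulTop x M) + 1 := hd2.symm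
      rw [e]
      push_cast
      calc ((LocCoh.depth R (QuotSMulTop x M) : ℕ∞) : WithBot ℕ∞) + 1
          ≤ (((g : ℕ∞) : WithBot ℕ∞) + ringKrullDim (R ⧸ p)) + 1 := by gcongr
        _ = ((g : ℕ∞) : WithBot ℕ∞) + 1 + ringKrullDim (R ⧸ p) := by
          rw [add_assoc, add_assoc, add_comm (ringKrullDim (R ⧸ p))]

/-- Stacks 0BK4, for an arbitrary model of the localization -/
theorem depth_le_depth_localization_add_dim (M : Type u) [AddCommGroup M] [Module R M]
    [Module.Finite R M] (p : Ideal R) [p.IsPrime]
    (R' : Type u) [CommRing R'] [Algebra R R'] [IsLocalization.AtPrime R' p] [IsLocalRing R']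
    (M' : Type u) [AddCommGroup M'] [Module R M'] [Module R' M'] [IsScalarTower R R' M']
    (f : M →ₗ[R] M') [IsLocalizedModule p.primeCompl f] :
    ((LocCoh.depth R M : ℕ∞) : WithBot ℕ∞) ≤
      ((LocCoh.depth R' M' : ℕ∞) : WithBot ℕ∞) + ringKrullDim (R ⧸ p) := by
  have hpm : p ≤ maximalIdeal R := IsLocalRing.le_maximalIdeal (Ideal.IsPrime.ne_top inferInstance)
  have hdim0 : (0 : WithBot ℕ∞) ≤ ringKrullDim (R ⧸ p) := ringKrullDim_nonneg_of_nontrivial
  by_cases hnt : Nontrivial M
  · have hpM := smul_top_ne_top_of_le M p hpm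
    obtain ⟨rs, h1, h2, -, h4⟩ := DepthCM.exists_length_eq_idealDepth p M hpM
    have hG := depth_le_idealDepth_add_dim p rs.length M h4.symm
    refine hG.trans ?_
    gcongr
    have h5 : IsWeaklyRegular M' (rs.map (algebraMap R R')) :=
      IsWeaklyRegular.of_isLocalizedModule R' p.primeCompl f h1
    have h6 : ∀ y ∈ rs.map (algebraMap R R'), y ∈ maximalIdeal R' := by
      intro y hy
      obtain ⟨r, hr, rfl⟩ := List.mem_map.1 hy
      exact (IsLocalization.AtPrime.to_map_mem_maximal_iff R' p r).2 (h2 r hr)
    have h7 := DepthCM3.length_le_idealDepth (I := maximalIdeal R') _ h5 h6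
    rw [List.length_map] at h7
    exact_mod_cast h7
  · rw [not_nontrivial_iff_subsingleton] at hnt
    have : Subsingleton M' := IsLocalizedModule.subsingleton_of_subsingleton p.primeCompl f
    rw [DepthLoc.depth_eq_top_of_subsingleton R M, DepthLoc.depth_eq_top_of_subsingleton R' M']
    calc ((⊤ : ℕ∞) : WithBot ℕ∞) = ((⊤ : ℕ∞) : WithBot ℕ∞) + 0 := (add_zero _).symm
      _ ≤ ((⊤ : ℕ∞) : WithBot ℕ∞) + ringKrullDim (R ⧸ p) := by gcongr

end Local


section Transport

variable (A : Type u) [CommRing A] [IsNoetherianRing A] (p : Ideal A) [p.IsPrime]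
  (M : Type u) [AddCommGroup M] [Module A M] [Module.Finite A M]

/-- depth does not depend on the model of the localization at a prime -/
theorem depth_eq_of_isLocalizedModule
    (R₂ : Type u) [CommRing R₂] [Algebra A R₂] [IsLocalization.AtPrime R₂ p] [IsLocalRing R₂]
    (M₂ : Type u) [AddCommGroup M₂] [Module A M₂] [Module R₂ M₂] [IsScalarTower A R₂ M₂]
    (f : M →ₗ[A] M₂) [IsLocalizedModule p.primeCompl f] :
    LocCoh.depth R₂ M₂ =
      LocCoh.depth (Localization.AtPrime p) (LocalizedModule p.primeCompl M) := by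
  have hN2 : IsNoetherianRing R₂ := IsLocalization.isNoetherianRing p.primeCompl R₂ inferInstance
  let ψ : LocalizedModule p.primeCompl M ≃ₗ[A] M₂ :=
    IsLocalizedModule.linearEquiv p.primeCompl (LocalizedModule.mkLinearMap p.primeCompl M) f
  let σ : Localization.AtPrime p ≃ₐ[A] R₂ :=
    IsLocalization.algEquiv p.primeCompl (Localization.AtPrime p) R₂
  let alg : Algebra (Localization.AtPrime p) R₂ := σ.toAlgHom.toRingHom.toAlgebra
  have halg : ∀ x : Localization.AtPrime p, algebraMap (Localization.AtPrime p) R₂ x = σ x :=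
    fun _ => rfl
  have tower1 : IsScalarTower A (Localization.AtPrime p) R₂ :=
    IsScalarTower.of_algebraMap_eq (fun a => by rw [halg]; exact (σ.commutes a).symm)
  let mod : Module (Localization.AtPrime p) M₂ :=
    Module.compHom M₂ (algebraMap (Localization.AtPrime p) R₂)
  have hsmul : ∀ (x : Localization.AtPrime p) (m : M₂), x • m = (algebraMap (Localization.AtPrime p) R₂ x) • m :=
    fun _ _ => rfl
  have tower2 : IsScalarTower (Localization.AtPrime p) R₂ M₂ :=
    ⟨fun x y m => by rw [hsmul x (y • m), Algebra.smul_def, mul_smul]⟩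
  have tower3 : IsScalarTower A (Localization.AtPrime p) M₂ :=
    ⟨fun a x m => by
      rw [hsmul (a • x) m, hsmul x m, Algebra.smul_def, map_mul, ← IsScalarTower.algebraMap_apply,
        mul_smul, algebraMap_smul]⟩
  let ψ' : LocalizedModule p.primeCompl M ≃ₗ[Localization.AtPrime p] M₂ :=
    ψ.extendScalarsOfIsLocalization p.primeCompl (Localization.AtPrime p)
  have e1 : LocCoh.depth (Localization.AtPrime p) (LocalizedModule p.primeCompl M)
      = LocCoh.depth (Localization.AtPrime p) M₂ :=
    DepthCM.idealDepth_congr _ ψ'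
  have hloc : IsLocalHom (algebraMap (Localization.AtPrime p) R₂) := by
    constructor
    intro x hx
    rw [halg] at hx
    exact (isUnit_map_iff σ x).1 hx
  by_cases hnt : Nontrivial M₂
  · have hfin : Module.Finite (Localization.AtPrime p) M₂ := Module.Finite.equiv ψ'
    have hne := DepthCM.idealDepth_ne_top (maximalIdeal (Localization.AtPrime p)) M₂
      (Depth.smul_top_ne_top (Localization.AtPrime p) M₂)
    obtain ⟨n, hn⟩ := ENat.ne_top_iff_exists.1 hne
    have hk := DepthLocHom.key (Localization.AtPrime p) R₂ n M₂ hn.symm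
    rw [e1, hk]
    exact hn
  · rw [not_nontrivial_iff_subsingleton] at hnt
    have : Subsingleton (LocalizedModule p.primeCompl M) := ψ'.toEquiv.subsingleton
    rw [DepthLoc.depth_eq_top_of_subsingleton, DepthLoc.depth_eq_top_of_subsingleton]

end Transport


section Main

variable (A : Type u) [CommRing A] [IsNoetherianRing A]
  (M : Type u) [AddCommGroup M] [Module A M] [Module.Finite A M]

omit [IsNoetherianRing A] in
lemma isLocalization_of_eq (R₂ : Type u) [CommRing R₂] [Algebra A R₂] (I J : Ideal A)
    [I.IsPrime] [hJ : J.IsPrime] (h : I = J) (hloc : IsLocalization.AtPrime R₂ I) :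
    IsLocalization.AtPrime R₂ J := by
  subst h
  exact hloc

omit [IsNoetherianRing A] in
/-- `dim A_q / pA_q ≤ ht(q/p)` -/
lemma dim_quot_localization_le (p q : PrimeSpectrum A) (hpq : p ≤ q)
    (P : Ideal (Localization.AtPrime q.asIdeal)) [hP : P.IsPrime]
    (hcomap : P.comap (algebraMap A (Localization.AtPrime q.asIdeal)) = p.asIdeal) :
    ringKrullDim (Localization.AtPrime q.asIdeal ⧸ P) ≤
      ((Order.height (⟨q, hpq⟩ : Set.Ici p) : ℕ∞) : WithBot ℕ∞) := by
  have e := Caten.dimQuot_eq_coheight (⟨P, hP⟩ : PrimeSpectrum (Localization.AtPrime q.asIdeal))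
  change ringKrullDim (Localization.AtPrime q.asIdeal ⧸ P) = _ at e
  rw [e]
  refine WithBot.coe_le_coe.2 ?_
  apply Order.coheight_le
  intro s hs
  set c := PrimeSpectrum.comap (algebraMap A (Localization.AtPrime q.asIdeal)) with hc
  have hmono : StrictMono c := by
    have hinj : Function.Injective c :=
      PrimeSpectrum.localization_comap_injective (Localization.AtPrime q.asIdeal) q.asIdeal.primeCompl
    have hm : Monotone c := fun x y hxy => by
      rw [← PrimeSpectrum.asIdeal_le_asIdeal] at hxy ⊢
      exact Ideal.comap_mono hxy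
    exact hm.strictMono_of_injective hinj
  have hge : ∀ i, p ≤ c (s i) := by
    intro i
    have h1 : s.head ≤ s i := s.head_le i
    rw [hs] at h1
    have h2 : c ⟨P, hP⟩ ≤ c (s i) := hmono.monotone h1
    have h3 : c ⟨P, hP⟩ = p := PrimeSpectrum.ext hcomap
    rwa [h3] at h2
  let s' : LTSeries (Set.Ici p) := LTSeries.mk s.length (fun i => ⟨c (s i), hge i⟩)
    (fun i j hij => by
      change c (s i) < c (s j)
      exact hmono (s.strictMono hij))
  have hlast : s'.last ≤ ⟨q, hpq⟩ := by
    change c s.last ≤ q
    rw [← PrimeSpectrum.asIdeal_le_asIdeal]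
    have e1 : (maximalIdeal (Localization.AtPrime q.asIdeal)).comap
        (algebraMap A (Localization.AtPrime q.asIdeal)) = q.asIdeal :=
      IsLocalization.AtPrime.under_maximalIdeal (Localization.AtPrime q.asIdeal) q.asIdeal
    exact (Ideal.comap_mono (IsLocalRing.le_maximalIdeal s.last.2.ne_top)).trans (le_of_eq e1)
  exact Order.length_le_height hlast

/-- `depth M_q ≤ depth M_p + ht(q/p)` -/
theorem depth_le_depth_add_height (p q : PrimeSpectrum A) (hpq : p ≤ q) :
    LocCoh.depth (Localization.AtPrime q.asIdeal) (LocalizedModule q.asIdeal.primeCompl M) ≤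
      LocCoh.depth (Localization.AtPrime p.asIdeal) (LocalizedModule p.asIdeal.primeCompl M) +
        Order.height (⟨q, hpq⟩ : Set.Ici p) := by
  have hdisj : Disjoint (q.asIdeal.primeCompl : Set A) (p.asIdeal : Set A) := by
    rw [Set.disjoint_left]
    intro x hx hx0
    exact hx ((PrimeSpectrum.asIdeal_le_asIdeal p q).2 hpq hx0)
  set P := p.asIdeal.map (algebraMap A (Localization.AtPrime q.asIdeal)) with hPdef
  have hP : P.IsPrime :=
    IsLocalization.isPrime_of_isPrime_disjoint q.asIdeal.primeCompl _ p.asIdeal p.2 hdisj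
  have hcomap : P.comap (algebraMap A (Localization.AtPrime q.asIdeal)) = p.asIdeal :=
    IsLocalization.under_map_of_isPrime_disjoint q.asIdeal.primeCompl _ p.2 hdisj
  have h1 := depth_le_depth_localization_add_dim (R := Localization.AtPrime q.asIdeal)
    (LocalizedModule q.asIdeal.primeCompl M) P (Localization.AtPrime P)
    (LocalizedModule P.primeCompl (LocalizedModule q.asIdeal.primeCompl M))
    (LocalizedModule.mkLinearMap P.primeCompl (LocalizedModule q.asIdeal.primeCompl M))
  have hloc : IsLocalization.AtPrime (Localization.AtPrime P) p.asIdeal :=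
    isLocalization_of_eq A (Localization.AtPrime P) _ _ hcomap inferInstance
  have hf₁ : IsBaseChange (Localization.AtPrime q.asIdeal)
      (LocalizedModule.mkLinearMap q.asIdeal.primeCompl M) :=
    IsLocalizedModule.isBaseChange q.asIdeal.primeCompl _ _
  have hg : IsBaseChange (Localization.AtPrime P)
      (LocalizedModule.mkLinearMap P.primeCompl (LocalizedModule q.asIdeal.primeCompl M)) :=
    IsLocalizedModule.isBaseChange P.primeCompl _ _
  have hcomp := IsBaseChange.comp hf₁ hg
  have hlm : IsLocalizedModule p.asIdeal.primeCompl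
      (((LocalizedModule.mkLinearMap P.primeCompl
        (LocalizedModule q.asIdeal.primeCompl M)).restrictScalars A).comp
        (LocalizedModule.mkLinearMap q.asIdeal.primeCompl M)) :=
    (isLocalizedModule_iff_isBaseChange p.asIdeal.primeCompl (Localization.AtPrime P) _).2 hcomp
  have h2 := depth_eq_of_isLocalizedModule A p.asIdeal M (Localization.AtPrime P)
    (LocalizedModule P.primeCompl (LocalizedModule q.asIdeal.primeCompl M))
    (((LocalizedModule.mkLinearMap P.primeCompl
        (LocalizedModule q.asIdeal.primeCompl M)).restrictScalars A).comp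
        (LocalizedModule.mkLinearMap q.asIdeal.primeCompl M))
  have h3 := dim_quot_localization_le A p q hpq P hcomap
  rw [h2] at h1
  have h4 := h1.trans (add_le_add_right h3 _)
  exact_mod_cast h4

end Main

end Groth.Agent.Helper2.Isch
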