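import Mathlib
import Groth.Prelude.Def_CAlg
import Groth.Agent.Helper2.RegCM
import Groth.Agent.Helper2.DepthCM
import Groth.Agent.Helper1.SerreFlatU
import Groth.Agent.Helper6.DepthHt
set_option autoImplicit false
universe u
open IsLocalRing Pointwise

namespace Groth.Agent.Helper2.SkLift

section L1
variable {A : Type u} [CommRing A] [IsNoetherianRing A] (t : A)
  (P : Ideal (A ⧸ Ideal.span {t})) [P.IsPrime]

/-- the local homomorphism `A_p → (A/t)_P` -/
noncomputable def φ : Localization.AtPrime (P.comap (Ideal.Quotient.mk (Ideal.span {t}))) →+*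
    Localization.AtPrime P :=
  Localization.localRingHom (P.comap (Ideal.Quotient.mk (Ideal.span {t}))) P
    (Ideal.Quotient.mk (Ideal.span {t})) rfl

omit [IsNoetherianRing A] in
lemma φ_surj : Function.Surjective (φ t P) := by
  intro y
  obtain ⟨x, s, rfl⟩ := IsLocalization.exists_mk'_eq P.primeCompl y
  obtain ⟨x, rfl⟩ := Ideal.Quotient.mk_surjective x
  obtain ⟨s, hs⟩ := s
  obtain ⟨s, rfl⟩ := Ideal.Quotient.mk_surjective s
  refine ⟨IsLocalization.mk' _ x (⟨s, fun h => hs h⟩ :
    (P.comap (Ideal.Quotient.mk (Ideal.span {t}))).primeCompl), ?_⟩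
  unfold φ
  rw [Localization.localRingHom_mk']

omit [IsNoetherianRing A] in
lemma ker_φ : RingHom.ker (φ t P) =
    Ideal.span {algebraMap A (Localization.AtPrime (P.comap (Ideal.Quotient.mk (Ideal.span {t})))) t} := by
  have hT : Submonoid.map (Ideal.Quotient.mk (Ideal.span {t}))
      (P.comap (Ideal.Quotient.mk (Ideal.span {t}))).primeCompl = P.primeCompl := by
    ext y
    constructor
    · rintro ⟨x, hx, rfl⟩
      exact hx
    · intro hy
      obtain ⟨x, rfl⟩ := Ideal.Quotient.mk_surjective y
      exact ⟨x, hy, rfl⟩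
  have h := IsLocalization.ker_map (S := Localization.AtPrime (P.comap (Ideal.Quotient.mk (Ideal.span {t}))))
    (Localization.AtPrime P) (Ideal.Quotient.mk (Ideal.span {t})) hT
  have h2 : RingHom.ker (φ t P) = (RingHom.ker (Ideal.Quotient.mk (Ideal.span {t}))).map
      (algebraMap A (Localization.AtPrime (P.comap (Ideal.Quotient.mk (Ideal.span {t}))))) := h
  rw [h2, Ideal.mk_ker, Ideal.map_span, Set.image_singleton]

end L1

section L1main
variable {A : Type u} [CommRing A] [IsNoetherianRing A] (t : A) (ht : t ∈ nonZeroDivisors A)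
  (P : Ideal (A ⧸ Ideal.span {t})) [P.IsPrime]

omit [IsNoetherianRing A] [P.IsPrime] in
lemma t_mem : t ∈ P.comap (Ideal.Quotient.mk (Ideal.span {t})) := by
  rw [Ideal.mem_comap]
  have : Ideal.Quotient.mk (Ideal.span {t}) t = 0 :=
    Ideal.Quotient.eq_zero_iff_mem.2 (Ideal.subset_span rfl)
  rw [this]
  exact zero_mem _

omit [IsNoetherianRing A] in
lemma x_mem : algebraMap A (Localization.AtPrime (P.comap (Ideal.Quotient.mk (Ideal.span {t})))) t ∈
    maximalIdeal (Localization.AtPrime (P.comap (Ideal.Quotient.mk (Ideal.span {t})))) :=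
  (IsLocalization.AtPrime.to_map_mem_maximal_iff _
    (P.comap (Ideal.Quotient.mk (Ideal.span {t}))) t).2 (t_mem t P)

include ht in
omit [IsNoetherianRing A] in
lemma x_reg : IsSMulRegular (Localization.AtPrime (P.comap (Ideal.Quotient.mk (Ideal.span {t}))))
    (algebraMap A (Localization.AtPrime (P.comap (Ideal.Quotient.mk (Ideal.span {t})))) t) := by
  have h := Module.Flat.isSMulRegular_of_nonZeroDivisors
    (M := Localization.AtPrime (P.comap (Ideal.Quotient.mk (Ideal.span {t})))) ht
  intro a b hab
  apply h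
  show t • a = t • b
  rw [Algebra.smul_def, Algebra.smul_def]
  exact hab

include ht in
theorem dim_eq : ringKrullDim (Localization.AtPrime P) + 1 =
    ringKrullDim (Localization.AtPrime (P.comap (Ideal.Quotient.mk (Ideal.span {t})))) := by
  have e := RingHom.quotientKerEquivOfSurjective (φ_surj t P)
  rw [← ringKrullDim_eq_of_ringEquiv e]
  have e2 := Ideal.quotEquivOfEq (ker_φ t P)
  rw [ringKrullDim_eq_of_ringEquiv e2]
  exact ringKrullDim_quotient_span_singleton_succ_eq_ringKrullDim (x_reg t ht P) (x_mem t P)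

include ht in
theorem depth_eq : LocCoh.depth (Localization.AtPrime P) (Localization.AtPrime P) + 1 =
    LocCoh.depth (Localization.AtPrime (P.comap (Ideal.Quotient.mk (Ideal.span {t}))))
      (Localization.AtPrime (P.comap (Ideal.Quotient.mk (Ideal.span {t})))) := by
  set B := Localization.AtPrime (P.comap (Ideal.Quotient.mk (Ideal.span {t}))) with hB
  set x := algebraMap A B t with hx
  letI : Algebra B (Localization.AtPrime P) := (φ t P).toAlgebra
  haveI : IsLocalHom (algebraMap B (Localization.AtPrime P)) := by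
    show IsLocalHom (φ t P)
    unfold φ
    infer_instance
  have hsurj : Function.Surjective (algebraMap B (Localization.AtPrime P)) := φ_surj t P
  haveI : Module.Finite B (Localization.AtPrime P) :=
    Module.Finite.of_surjective (Algebra.linearMap B (Localization.AtPrime P)) hsurj
  have h1 := RegCM.depth_eq_of_isLocalHom B (Localization.AtPrime P) (Localization.AtPrime P)
  rw [← h1]
  have hker : LinearMap.ker (Algebra.linearMap B (Localization.AtPrime P)) =
      x • (⊤ : Submodule B B) := by
    ext y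
    rw [LinearMap.mem_ker, Algebra.linearMap_apply]
    have : y ∈ RingHom.ker (φ t P) ↔ algebraMap B (Localization.AtPrime P) y = 0 := Iff.rfl
    rw [← this, ker_φ t P, Ideal.mem_span_singleton', Submodule.mem_smul_pointwise_iff_exists]
    constructor
    · rintro ⟨a, rfl⟩
      exact ⟨a, Submodule.mem_top, by rw [smul_eq_mul, mul_comm]⟩
    · rintro ⟨a, -, rfl⟩
      exact ⟨a, by rw [smul_eq_mul, mul_comm]⟩
  let e : QuotSMulTop x B ≃ₗ[B] Localization.AtPrime P :=
    (Submodule.quotEquivOfEq _ _ hker.symm).trans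
      (LinearMap.quotKerEquivOfSurjective (Algebra.linearMap B (Localization.AtPrime P)) hsurj)
  have h2 : LocCoh.depth B (QuotSMulTop x B) = LocCoh.depth B (Localization.AtPrime P) :=
    DepthCM.idealDepth_congr (maximalIdeal B) e
  rw [← h2]
  exact DepthCM.idealDepth_quotSMulTop (maximalIdeal B) B (Depth.smul_top_ne_top B B) x
    (x_mem t P) (x_reg t ht P)

end L1main

section Main
variable (A : Type u) [CommRing A] [IsNoetherianRing A] (t : A) (hreg : t ∈ nonZeroDivisors A)

include hreg in
/-- heights and depths at a prime containing `t`, compared with `A/t`. -/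
lemma at_prime_mem (p : Ideal A) [p.IsPrime] (htp : t ∈ p) :
    ∃ (P : Ideal (A ⧸ Ideal.span {t})) (_ : P.IsPrime),
      P.height + 1 = p.height ∧
      LocCoh.depth (Localization.AtPrime P) (Localization.AtPrime P) + 1 =
        LocCoh.depth (Localization.AtPrime p) (Localization.AtPrime p) := by
  have hker : RingHom.ker (Ideal.Quotient.mk (Ideal.span {t})) ≤ p := by
    rw [Ideal.mk_ker, Ideal.span_singleton_le_iff_mem]
    exact htp
  obtain ⟨P, hP, hcomap⟩ : ∃ P : Ideal (A ⧸ Ideal.span {t}), P.IsPrime ∧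
      P.comap (Ideal.Quotient.mk (Ideal.span {t})) = p := by
    refine ⟨p.map (Ideal.Quotient.mk (Ideal.span {t})),
      Ideal.map_isPrime_of_surjective Ideal.Quotient.mk_surjective hker, ?_⟩
    rw [Ideal.comap_map_of_surjective _ Ideal.Quotient.mk_surjective, ← RingHom.ker_eq_comap_bot]
    exact sup_eq_left.2 hker
  subst hcomap
  refine ⟨P, hP, ?_, depth_eq t hreg P⟩
  have h := dim_eq t hreg P
  rw [IsLocalization.AtPrime.ringKrullDim_eq_height P (Localization.AtPrime P),
    IsLocalization.AtPrime.ringKrullDim_eq_height (P.comap (Ideal.Quotient.mk (Ideal.span {t})))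
      (Localization.AtPrime (P.comap (Ideal.Quotient.mk (Ideal.span {t}))))] at h
  exact_mod_cast h

omit [IsNoetherianRing A] in
lemma hasSk_iff' (k : ℕ) : LocCoh.HasSk k A A ↔ ∀ (p : Ideal A) [p.IsPrime],
    min (k : ℕ∞) p.height ≤ LocCoh.depth (Localization.AtPrime p) (Localization.AtPrime p) := by
  rw [Groth.Agent.Helper1.SerreFlatU.hasSk_iff]
  refine forall_congr' fun p => forall_congr' fun hp => ?_
  rw [IsLocalization.AtPrime.ringKrullDim_eq_height p (Localization.AtPrime p)]
  have h3 : ((k : ℕ) : WithBot ℕ∞) = (((k : ℕ∞)) : WithBot ℕ∞) := rfl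
  rw [h3, ← WithBot.coe_min, WithBot.coe_le_coe]

variable [IsLocalRing A] (ht : t ∈ maximalIdeal A)

include hreg ht in
theorem main (k : ℕ) (hS : LocCoh.HasSk k (A ⧸ Ideal.span {t}) (A ⧸ Ideal.span {t})) :
    LocCoh.HasSk k A A := by
  rw [hasSk_iff'] at hS ⊢
  intro p hp
  have key : ∀ (q : Ideal A) [q.IsPrime], t ∈ q → ∃ (d e : ℕ∞), d + 1 = q.height ∧
      e + 1 = LocCoh.depth (Localization.AtPrime q) (Localization.AtPrime q) ∧
      min (k : ℕ∞) d ≤ e := by
    intro q hq htq
    obtain ⟨P, hP, h1, h2⟩ := at_prime_mem A t hreg q htq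
    exact ⟨P.height, _, h1, h2, hS P⟩
  by_cases htp : t ∈ p
  · obtain ⟨d, e, hd, he, hde⟩ := key p htp
    rw [← hd, ← he]
    calc min (k : ℕ∞) (d + 1) ≤ min ((k : ℕ∞) + 1) (d + 1) := min_le_min_right _ le_self_add
      _ = min (k : ℕ∞) d + 1 := (min_add_add_right _ _ _)
      _ ≤ e + 1 := by gcongr
  · have hne : p ⊔ Ideal.span {t} ≠ ⊤ := by
      intro h
      have hle : p ⊔ Ideal.span {t} ≤ maximalIdeal A :=
        sup_le (le_maximalIdeal hp.ne_top) ((Ideal.span_singleton_le_iff_mem _).2 ht)
      rw [h] at hle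
      exact (IsLocalRing.maximalIdeal.isMaximal A).ne_top (top_le_iff.1 hle)
    obtain ⟨⟨q, hq⟩⟩ := Ideal.nonempty_minimalPrimes hne
    have hqprime : q.IsPrime := hq.1.1
    have hle : p ⊔ Ideal.span {t} ≤ q := hq.1.2
    have hpq : p ≤ q := le_sup_left.trans hle
    have htq : t ∈ q := hle (Ideal.mem_sup_right (Ideal.subset_span rfl))
    have hlt : p < q := lt_of_le_of_ne hpq (fun h => htp (h ▸ htq))
    obtain ⟨d, e, hd, he, hde⟩ := key q htq
    have hht : (q.map (Ideal.Quotient.mk p)).height ≤ 1 := by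
      have hmem : q.map (Ideal.Quotient.mk p) ∈
          ((Ideal.span {t}).map (Ideal.Quotient.mk p)).minimalPrimes := by
        rw [Ideal.minimalPrimes_map_of_surjective Ideal.Quotient.mk_surjective, Ideal.mk_ker,
          sup_comm]
        exact ⟨q, hq, rfl⟩
      rw [Ideal.map_span, Set.image_singleton] at hmem
      exact Ideal.height_le_one_of_isPrincipal_of_mem_minimalPrimes _ _ hmem
    have hdepth := Groth.Agent.Helper6.DepthHt.main A A p q hpq
    rw [Groth.Agent.Helper1.SerreFlatU.depth_self, Groth.Agent.Helper1.SerreFlatU.depth_self]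
      at hdepth
    have h1 : e + 1 ≤ LocCoh.depth (Localization.AtPrime p) (Localization.AtPrime p) + 1 := by
      rw [he]
      exact hdepth.trans (by gcongr)
    have h2 : e ≤ LocCoh.depth (Localization.AtPrime p) (Localization.AtPrime p) :=
      (ENat.add_le_add_iff_right (by simp)).1 h1
    have h3 : p.height + 1 ≤ d + 1 := by
      rw [hd]
      exact Ideal.height_add_one_le_of_lt_of_isPrime hlt
    have h4 : p.height ≤ d := (ENat.add_le_add_iff_right (by simp)).1 h3
    exact (min_le_min_left _ h4).trans (hde.trans h2)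

end Main

end Groth.Agent.Helper2.SkLift
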