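import Mathlib
import Groth.Prelude.Def_CAlg
import Groth.Prelude.Def_Found
import Groth.Prelude.Def_EGA4b
import Groth.Agent.Helper2.SkLift
import Groth.Agent.Helper2.PSReg
import Groth.Agent.Helper2.Caten2
import Groth.Agent.Helper2.DepthCM4
import Groth.Agent.S0602
set_option autoImplicit false
universe u
open IsLocalRing Pointwise

namespace Groth.Agent.Helper2.RkLift

/-- regularity generizes -/
theorem regular_of_le {B : Type u} [CommRing B] (P M : Ideal B) [hP : P.IsPrime] [M.IsPrime]
    (hPM : P ≤ M) [IsRegularLocalRing (Localization.AtPrime M)] :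
    IsRegularLocalRing (Localization.AtPrime P) := by
  have hdisj : Disjoint (M.primeCompl : Set B) (P : Set B) := by
    rw [Set.disjoint_left]
    intro x hx hxP
    exact hx (hPM hxP)
  set P' := P.map (algebraMap B (Localization.AtPrime M)) with hP'
  haveI hP'prime : P'.IsPrime :=
    IsLocalization.isPrime_of_isPrime_disjoint M.primeCompl _ P hP hdisj
  have hcomap : P'.comap (algebraMap B (Localization.AtPrime M)) = P :=
    IsLocalization.under_map_of_isPrime_disjoint M.primeCompl _ hP hdisj
  have hreg : IsRegularLocalRing (Localization.AtPrime P') :=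
    Groth.Agent.Helper2.SerreLoc.isRegularLocalRing_localization _ P'
  have e := IsLocalization.localizationLocalizationAtPrimeIsoLocalization M.primeCompl P'
  have hreg2 : IsRegularLocalRing
      (Localization.AtPrime (P'.comap (algebraMap B (Localization M.primeCompl)))) :=
    IsRegularLocalRing.of_ringEquiv e.symm.toRingEquiv
  exact Groth.Agent.Helper2.RegHom.transport hcomap hreg2

section Lift
variable {A : Type u} [CommRing A] [IsNoetherianRing A] (t : A) (hreg : t ∈ nonZeroDivisors A)

include hreg in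
/-- regularity lifts from `(A/t)_P` to `A_p` -/
lemma regular_of_regular_quot (P : Ideal (A ⧸ Ideal.span {t})) [P.IsPrime]
    (h : IsRegularLocalRing (Localization.AtPrime P)) :
    IsRegularLocalRing (Localization.AtPrime (P.comap (Ideal.Quotient.mk (Ideal.span {t})))) := by
  have e1 := RingHom.quotientKerEquivOfSurjective (SkLift.φ_surj t P)
  have e2 := Ideal.quotEquivOfEq (SkLift.ker_φ t P)
  have h3 : IsRegularLocalRing
      (Localization.AtPrime (P.comap (Ideal.Quotient.mk (Ideal.span {t}))) ⧸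
        Ideal.span {algebraMap A (Localization.AtPrime
          (P.comap (Ideal.Quotient.mk (Ideal.span {t})))) t}) :=
    IsRegularLocalRing.of_ringEquiv (e2.symm.trans e1).symm
  exact PSReg.regular_of_quotient_regular_elem _ _ (SkLift.x_mem t P) (SkLift.x_reg t hreg P) h3

include hreg in
lemma at_prime_mem' (p : Ideal A) [p.IsPrime] (htp : t ∈ p) :
    ∃ (P : Ideal (A ⧸ Ideal.span {t})) (_ : P.IsPrime),
      P.comap (Ideal.Quotient.mk (Ideal.span {t})) = p ∧
      P.height + 1 = p.height ∧
      LocCoh.depth (Localization.AtPrime P) (Localization.AtPrime P) + 1 =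
        LocCoh.depth (Localization.AtPrime p) (Localization.AtPrime p) ∧
      (IsRegularLocalRing (Localization.AtPrime P) →
        IsRegularLocalRing (Localization.AtPrime p)) := by
  have hker : RingHom.ker (Ideal.Quotient.mk (Ideal.span {t})) ≤ p := by
    rw [Ideal.mk_ker, Ideal.span_singleton_le_iff_mem]
    exact htp
  obtain ⟨P, hP, hcomap⟩ : ∃ P : Ideal (A ⧸ Ideal.span {t}), P.IsPrime ∧
      P.comap (Ideal.Quotient.mk (Ideal.span {t})) = p := by
    refine ⟨p.map (Ideal.Quotient.mk (Ideal.span {t})),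
      Ideal.map_isPrime_of_surjective Ideal.Quotient.mk_surjective hker, ?_⟩
    rw [Ideal.comap_map_of_surjective _ Ideal.Quotient.mk_surjective, ← RingHom.ker_eq_comap_bot]
    exact sup_eq_left.2 hker
  subst hcomap
  refine ⟨P, hP, rfl, ?_, SkLift.depth_eq t hreg P, regular_of_regular_quot t hreg P⟩
  have h := SkLift.dim_eq t hreg P
  rw [IsLocalization.AtPrime.ringKrullDim_eq_height P (Localization.AtPrime P),
    IsLocalization.AtPrime.ringKrullDim_eq_height (P.comap (Ideal.Quotient.mk (Ideal.span {t})))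
      (Localization.AtPrime (P.comap (Ideal.Quotient.mk (Ideal.span {t}))))] at h
  exact_mod_cast h

end Lift

section Main
variable (A : Type u) [CommRing A] [IsNoetherianRing A] [IsLocalRing A] (t : A)
  (ht : t ∈ maximalIdeal A) (hreg : t ∈ nonZeroDivisors A)

include ht hreg in
theorem isReduced [IsReduced (A ⧸ Ideal.span {t})] : IsReduced A := by
  have hdiv : ∀ n : A, IsNilpotent n → ∃ n', IsNilpotent n' ∧ n = t * n' := by
    intro n hn
    have h0 : Ideal.Quotient.mk (Ideal.span {t}) n = 0 :=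
      (hn.map (Ideal.Quotient.mk (Ideal.span {t}))).eq_zero
    rw [Ideal.Quotient.eq_zero_iff_mem, Ideal.mem_span_singleton'] at h0
    obtain ⟨n', hn'⟩ := h0
    refine ⟨n', ?_, by rw [← hn', mul_comm]⟩
    obtain ⟨m, hm⟩ := hn
    refine ⟨m, ?_⟩
    rw [← hn', mul_pow] at hm
    exact (mul_right_mem_nonZeroDivisors_eq_zero_iff (pow_mem hreg m)).1 hm
  have hpow : ∀ (j : ℕ) (n : A), IsNilpotent n → n ∈ (Ideal.span {t}) ^ j := by
    intro j
    induction j with
    | zero => intro n _; simp
    | succ j ih =>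
      intro n hn
      obtain ⟨n', hn', rfl⟩ := hdiv n hn
      rw [pow_succ']
      exact Ideal.mul_mem_mul (Ideal.subset_span rfl) (ih n' hn')
  have hne : Ideal.span {t} ≠ (⊤ : Ideal A) := by
    intro h
    have hle : Ideal.span {t} ≤ maximalIdeal A := (Ideal.span_singleton_le_iff_mem _).2 ht
    rw [h] at hle
    exact (IsLocalRing.maximalIdeal.isMaximal A).ne_top (top_le_iff.1 hle)
  constructor
  intro n hn
  have hmem : n ∈ ⨅ j, (Ideal.span {t}) ^ j := by
    rw [Ideal.mem_iInf]
    exact fun j => hpow j n hn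
  rw [Ideal.iInf_pow_eq_bot_of_isLocalRing _ hne] at hmem
  exact hmem

end Main

section Main2
variable (A : Type u) [CommRing A] [IsNoetherianRing A] [IsLocalRing A] (t : A)
  (ht : t ∈ maximalIdeal A) (hreg : t ∈ nonZeroDivisors A)

include ht in
/-- for `t ∉ p`, a minimal prime `q` over `p + (t)`. -/
lemma exists_min_over (p : Ideal A) [hp : p.IsPrime] (htp : t ∉ p) :
    ∃ q : Ideal A, q ∈ (p ⊔ Ideal.span {t}).minimalPrimes ∧ q.IsPrime ∧ p < q ∧ t ∈ q ∧
      (q.map (Ideal.Quotient.mk p)).height ≤ 1 := by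
  have hne : p ⊔ Ideal.span {t} ≠ ⊤ := by
    intro h
    have hle : p ⊔ Ideal.span {t} ≤ maximalIdeal A :=
      sup_le (le_maximalIdeal hp.ne_top) ((Ideal.span_singleton_le_iff_mem _).2 ht)
    rw [h] at hle
    exact (IsLocalRing.maximalIdeal.isMaximal A).ne_top (top_le_iff.1 hle)
  obtain ⟨⟨q, hq⟩⟩ := Ideal.nonempty_minimalPrimes hne
  have hqprime : q.IsPrime := hq.1.1
  have hle : p ⊔ Ideal.span {t} ≤ q := hq.1.2
  have hpq : p ≤ q := le_sup_left.trans hle
  have htq : t ∈ q := hle (Ideal.mem_sup_right (Ideal.subset_span rfl))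
  have hlt : p < q := lt_of_le_of_ne hpq (fun h => htp (h ▸ htq))
  refine ⟨q, hq, hqprime, hlt, htq, ?_⟩
  have hmem : q.map (Ideal.Quotient.mk p) ∈
      ((Ideal.span {t}).map (Ideal.Quotient.mk p)).minimalPrimes := by
    rw [Ideal.minimalPrimes_map_of_surjective Ideal.Quotient.mk_surjective, Ideal.mk_ker,
      sup_comm]
    exact ⟨q, hq, rfl⟩
  rw [Ideal.map_span, Set.image_singleton] at hmem
  exact Ideal.height_le_one_of_isPrincipal_of_mem_minimalPrimes _ _ hmem

omit [IsLocalRing A] [IsNoetherianRing A] in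
/-- `A/q ≅ (A/t)/P` when `q` is the contraction of `P` -/
lemma dim_quot_comap (P : Ideal (A ⧸ Ideal.span {t})) :
    ringKrullDim (A ⧸ P.comap (Ideal.Quotient.mk (Ideal.span {t}))) =
      ringKrullDim ((A ⧸ Ideal.span {t}) ⧸ P) := by
  set g : A →+* (A ⧸ Ideal.span {t}) ⧸ P :=
    (Ideal.Quotient.mk P).comp (Ideal.Quotient.mk (Ideal.span {t})) with hg
  have hsurj : Function.Surjective g :=
    Ideal.Quotient.mk_surjective.comp Ideal.Quotient.mk_surjective
  have hker : RingHom.ker g = P.comap (Ideal.Quotient.mk (Ideal.span {t})) := by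
    rw [hg, ← RingHom.comap_ker, Ideal.mk_ker]
  have e1 := RingHom.quotientKerEquivOfSurjective hsurj
  have e2 := Ideal.quotEquivOfEq hker
  exact ringKrullDim_eq_of_ringEquiv (e2.symm.trans e1)

include ht hreg in
theorem isEquidim [IsReduced (A ⧸ Ideal.span {t})] (heq : EGA4.IsEquidim (A ⧸ Ideal.span {t})) :
    EGA4.IsEquidim A := by
  intro p hpmin
  have hp : p.IsPrime := hpmin.1.1
  have htp : t ∉ p := by
    intro h
    exact (Ideal.disjoint_nonZeroDivisors_of_mem_minimalPrimes hpmin).le_bot ⟨h, hreg⟩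
  obtain ⟨q, hq, hqprime, hlt, htq, hht⟩ := exists_min_over A t ht p htp
  obtain ⟨P, hP, hcomap, hPht, hPdepth, -⟩ := at_prime_mem' t hreg q htq
  -- depth A_q ≤ 1
  have hdepth := Groth.Agent.Helper6.DepthHt.main A A p q hlt.le
  rw [Groth.Agent.Helper1.SerreFlatU.depth_self, Groth.Agent.Helper1.SerreFlatU.depth_self]
    at hdepth
  have hp0 : p.height = 0 := by
    exact Ideal.height_eq_zero_iff.2 hpmin
  have hdp : LocCoh.depth (Localization.AtPrime p) (Localization.AtPrime p) = 0 := by
    have h1 := DepthCM4.depth_le_supportDim (A := Localization.AtPrime p) (Localization.AtPrime p)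
    rw [Module.supportDim_self_eq_ringKrullDim,
      IsLocalization.AtPrime.ringKrullDim_eq_height p (Localization.AtPrime p), hp0] at h1
    have h2 : LocCoh.depth (Localization.AtPrime p) (Localization.AtPrime p) ≤ 0 := by
      exact_mod_cast h1
    exact le_antisymm h2 bot_le
  have h1 : LocCoh.depth (Localization.AtPrime P) (Localization.AtPrime P) + 1 ≤ 0 + 1 := by
    rw [hPdepth]
    refine hdepth.trans ?_
    rw [hdp]
    gcongr
  have h2 : LocCoh.depth (Localization.AtPrime P) (Localization.AtPrime P) ≤ 0 :=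
    (ENat.add_le_add_iff_right (by simp)).1 h1
  -- S1 of the reduced ring A/t
  have hS1 := ((Groth.Agent.S0602.result (A ⧸ Ideal.span {t})).1 inferInstance).2
  rw [SkLift.hasSk_iff'] at hS1
  have h3 := (hS1 P).trans h2
  have hP0 : P.height = 0 := by
    rcases min_le_iff.1 h3 with h4 | h4
    · simp at h4
    · exact le_antisymm h4 bot_le
  have hPmin : P ∈ minimalPrimes (A ⧸ Ideal.span {t}) := Ideal.height_eq_zero_iff.1 hP0
  have h5 := heq P hPmin
  have h6 := dim_quot_comap A t P
  rw [hcomap, h5] at h6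
  have h7 : ringKrullDim (A ⧸ q) + 1 ≤ ringKrullDim (A ⧸ p) := DepthCM.dim_quot_succ_le_of_lt hlt
  have h8 : ringKrullDim (A ⧸ Ideal.span {t}) + 1 = ringKrullDim A :=
    ringKrullDim_quotient_span_singleton_succ_eq_ringKrullDim_of_mem_nonZeroDivisors hreg ht
  apply le_antisymm (ringKrullDim_quotient_le p)
  rw [← h8, ← h6]
  exact h7

end Main2

section Main3
variable (A : Type u) [CommRing A] [IsNoetherianRing A] [IsLocalRing A] (t : A)
  (ht : t ∈ maximalIdeal A) (hreg : t ∈ nonZeroDivisors A)

include ht hreg in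
theorem hasRk (hcat : CAlg.IsCatenary A) (k : ℕ) (heqA : EGA4.IsEquidim A)
    (hR : LocCoh.HasRk k (A ⧸ Ideal.span {t})) : LocCoh.HasRk k A := by
  intro p hp hpk
  by_cases htp : t ∈ p
  · obtain ⟨P, hP, hcomap, hPht, -, hregP⟩ := at_prime_mem' t hreg p htp
    apply hregP
    apply hR P
    calc P.height ≤ P.height + 1 := le_self_add
      _ = p.height := hPht
      _ ≤ k := hpk
  · obtain ⟨q, hq, hqprime, hlt, htq, hht⟩ := exists_min_over A t ht p htp
    obtain ⟨P, hP, hcomap, hPht, -, hregP⟩ := at_prime_mem' t hreg q htq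
    have hcov := Caten2.covBy_of_mem_minimalPrimes (⟨p, hp⟩ : PrimeSpectrum A) t htp q hq
    have hco := Caten.coheight_of_covBy hcat hcov
    have e1 := Caten2.height_add_coheight_eq hcat heqA (⟨p, hp⟩ : PrimeSpectrum A)
    have e2 := Caten2.height_add_coheight_eq hcat heqA (⟨q, hqprime⟩ : PrimeSpectrum A)
    rw [← e2, WithBot.coe_inj, hco] at e1
    obtain ⟨c, hc⟩ := ENat.ne_top_iff_exists.1
      (Caten.coheight_lt_top (⟨q, hqprime⟩ : PrimeSpectrum A)).ne
    rw [← hc, add_comm (c : ℕ∞) 1, ← add_assoc] at e1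
    have e3 := ENat.add_left_injective_of_ne_top (ENat.natCast_ne_top c) e1
    have e4 : p.height + 1 = q.height := by
      rw [PrimeSpectrum.height_eq_orderHeight (⟨p, hp⟩ : PrimeSpectrum A),
        PrimeSpectrum.height_eq_orderHeight (⟨q, hqprime⟩ : PrimeSpectrum A)] at *
      exact e3
    have hPk : P.height ≤ k := by
      rw [← e4] at hPht
      have := ENat.add_left_injective_of_ne_top (by simp) hPht
      rw [this]
      exact hpk
    haveI := hregP (hR P hPk)
    exact regular_of_le p q hlt.le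

include ht hreg in
/-- EGA IV 5.12.2-type statement -/
theorem main (hcat : CAlg.IsCatenary A) (k : ℕ) [IsReduced (A ⧸ Ideal.span {t})]
    (heq : EGA4.IsEquidim (A ⧸ Ideal.span {t})) (hR : LocCoh.HasRk k (A ⧸ Ideal.span {t})) :
    IsReduced A ∧ EGA4.IsEquidim A ∧ LocCoh.HasRk k A := by
  have h2 := isEquidim A t ht hreg heq
  exact ⟨isReduced A t ht hreg, h2, hasRk A t ht hreg hcat k h2 hR⟩

end Main3

end Groth.Agent.Helper2.RkLift
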