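import Mathlib
import Groth.Prelude.Def_CAlg
import Groth.Agent.Helper2.DepthCM
import Groth.Agent.Helper2.Ass
set_option autoImplicit false
universe u
open IsLocalRing Groth.Agent.Helper2 RingTheory.Sequence Pointwise

namespace Groth.Agent.Helper2.Hart

variable {B : Type u} [CommRing B] [IsNoetherianRing B] [IsLocalRing B]

/-- if `K` is primary to the maximal ideal and the depth of `N` is nonzero, `K` contains an
`N`-regular element -/
lemma exists_regular_mem (N : Type u) [AddCommGroup N] [Module B N] [Module.Finite B N]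
    [Nontrivial N] (hd : LocCoh.depth B N ≠ 0) (K : Ideal B)
    (hK : ∀ P : Ideal B, P.IsPrime → K ≤ P → P = maximalIdeal B) :
    ∃ x ∈ K, IsSMulRegular N x := by
  by_contra hcon
  push Not at hcon
  have h1 := Ass.exists_le_assPrime_or_le B N K ⊥ (fun x hx _ => hcon x hx)
  have h2 : ∃ p ∈ associatedPrimes B N, K ≤ p := by
    rcases h1 with h1 | h1
    · obtain ⟨p, hp⟩ := associatedPrimes.nonempty B N
      exact ⟨p, hp, h1.trans bot_le⟩
    · exact h1
  obtain ⟨p, hp, hKp⟩ := h2
  have hpm : p = maximalIdeal B := hK p ((AssociatedPrimes.mem_iff.1 hp).isPrime) hKp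
  apply hd
  rw [Depth.depth_eq_zero_iff]
  intro x hx
  exact Depth.not_regular_of_mem_ass B N p hp x (hpm ▸ hx)

lemma exists_regular_pair (h2 : (2 : ℕ∞) ≤ LocCoh.depth B B) (K : Ideal B)
    (hKm : K ≤ maximalIdeal B)
    (hK : ∀ P : Ideal B, P.IsPrime → K ≤ P → P = maximalIdeal B) :
    ∃ x ∈ K, ∃ y ∈ K, IsSMulRegular B x ∧ ∀ a : B, y * a ∈ Ideal.span {x} → a ∈ Ideal.span {x} := by
  have hd0 : LocCoh.depth B B ≠ 0 := by
    intro h
    rw [h] at h2
    exact absurd h2 (by decide)
  obtain ⟨x, hxK, hx⟩ := exists_regular_mem B hd0 K hK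
  have hxm : x ∈ maximalIdeal B := hKm hxK
  have hne : maximalIdeal B • (⊤ : Submodule B B) ≠ ⊤ := Depth.smul_top_ne_top B B
  have hdq := DepthCM.idealDepth_quotSMulTop (maximalIdeal B) B hne x hxm hx
  have hnt : Nontrivial (QuotSMulTop x B) := by
    have hne' := DepthRees.smul_top_quotSMulTop_ne_top hxm hne
    by_contra hcon
    rw [not_nontrivial_iff_subsingleton] at hcon
    exact hne' (Subsingleton.elim _ _)
  have hd1 : LocCoh.depth B (QuotSMulTop x B) ≠ 0 := by
    intro h
    unfold LocCoh.depth at h h2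
    rw [h, zero_add] at hdq
    rw [← hdq] at h2
    exact absurd h2 (by decide)
  obtain ⟨y, hyK, hy⟩ := exists_regular_mem (QuotSMulTop x B) hd1 K hK
  refine ⟨x, hxK, y, hyK, hx, ?_⟩
  intro a ha
  have h0 : y • (Submodule.Quotient.mk a : QuotSMulTop x B) = y • 0 := by
    rw [smul_zero, ← Submodule.Quotient.mk_smul, Submodule.Quotient.mk_eq_zero]
    rw [Submodule.mem_smul_pointwise_iff_exists]
    rw [Ideal.mem_span_singleton'] at ha
    obtain ⟨t, ht⟩ := ha
    exact ⟨t, trivial, by rw [smul_eq_mul, smul_eq_mul, mul_comm, ht]⟩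
  have h1 := hy h0
  rw [Submodule.Quotient.mk_eq_zero, Submodule.mem_smul_pointwise_iff_exists] at h1
  obtain ⟨t, -, ht⟩ := h1
  rw [Ideal.mem_span_singleton']
  exact ⟨t, by rw [← ht, smul_eq_mul, mul_comm]⟩

/-- Hartshorne's connectedness, local algebraic form. -/
theorem eq_bot_or_eq_bot (h2 : (2 : ℕ∞) ≤ LocCoh.depth B B) (I J : Ideal B)
    (hIJ : I * J = ⊥) (hKm : I ⊔ J ≤ maximalIdeal B)
    (hK : ∀ P : Ideal B, P.IsPrime → I ⊔ J ≤ P → P = maximalIdeal B) :
    I = ⊥ ∨ J = ⊥ := by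
  obtain ⟨x, hxK, y, hyK, hx, hy⟩ := exists_regular_pair h2 (I ⊔ J) hKm hK
  obtain ⟨a, ha, b, hb, hab⟩ := Submodule.mem_sup.1 hxK
  obtain ⟨c, hc, d, hd, hcd⟩ := Submodule.mem_sup.1 hyK
  have hmul : ∀ i ∈ I, ∀ j ∈ J, i * j = 0 := by
    intro i hi j hj
    have : i * j ∈ I * J := Ideal.mul_mem_mul hi hj
    rwa [hIJ, Ideal.mem_bot] at this
  have hxreg : ∀ z : B, z * x = 0 → z = 0 := by
    intro z hz
    have : x • z = x • 0 := by rw [smul_zero, smul_eq_mul, mul_comm, hz]
    exact hx this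
  have h1 : y * a = x * c := by
    rw [← hab, ← hcd]
    have e1 := hmul a ha d hd
    have e2 := hmul c hc b hb
    linear_combination e1 - e2
  have h2' : a ∈ Ideal.span {x} := hy a (h1 ▸ Ideal.mul_mem_right _ _ (Ideal.mem_span_singleton_self x))
  rw [Ideal.mem_span_singleton'] at h2'
  obtain ⟨t, ht⟩ := h2'
  -- a = t * x = t * (a+b)
  have h3 : a * (1 - t) = b * t := by
    rw [← hab] at ht
    linear_combination -ht
  have hz : a * (1 - t) = 0 := by
    apply hxreg
    rw [← hab, mul_add]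
    have e1 : a * (1 - t) * b = 0 := by
      have := hmul (a * (1 - t)) (Ideal.mul_mem_right _ _ ha) b hb
      exact this
    have e2 : a * (1 - t) * a = 0 := by
      rw [h3]
      have := hmul a ha (b * t) (Ideal.mul_mem_right _ _ hb)
      linear_combination this
    rw [e1, e2, add_zero]
  have hz' : b * t = 0 := h3 ▸ hz
  rcases IsLocalRing.isUnit_or_isUnit_one_sub_self t with hu | hu
  · -- b = 0
    right
    have hb0 : b = 0 := by
      obtain ⟨u, rfl⟩ := hu
      exact (Units.mul_left_eq_zero u).1 hz'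
    rw [eq_bot_iff]
    intro j hj
    rw [Ideal.mem_bot]
    apply hxreg
    rw [← hab, hb0, add_zero, mul_comm]
    exact hmul a ha j hj
  · left
    have ha0 : a = 0 := by
      obtain ⟨u, hu⟩ := hu
      rw [← hu] at hz
      exact (Units.mul_left_eq_zero u).1 hz
    rw [eq_bot_iff]
    intro i hi
    rw [Ideal.mem_bot]
    apply hxreg
    rw [← hab, ha0, zero_add]
    exact hmul i hi b hb

end Groth.Agent.Helper2.Hart
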