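import Mathlib
set_option autoImplicit false
universe u

namespace Groth.Agent.Helper2.HartChain

variable {A : Type u} [CommRing A]

/-- turn a `ReflTransGen` path into an indexed chain -/
lemma chain_of_reflTransGen (R : Ideal A → Ideal A → Prop) (Q : Ideal A → Prop) (p' : Ideal A)
    (hp' : Q p') (hR : ∀ a b, R a b → Q b) (p : Ideal A) (h : Relation.ReflTransGen R p' p) :
    ∃ (n : ℕ) (c : Fin (n + 1) → Ideal A), c 0 = p' ∧ c (Fin.last n) = p ∧ (∀ i, Q (c i)) ∧
      ∀ i : Fin n, R (c i.castSucc) (c i.succ) := by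
  induction h with
  | refl => exact ⟨0, fun _ => p', rfl, rfl, fun _ => hp', fun i => i.elim0⟩
  | tail hab hbc ih =>
    rename_i b c'
    obtain ⟨n, c, h0, hl, hQ, hstep⟩ := ih
    refine ⟨n + 1, Fin.snoc c c', ?_, ?_, ?_, ?_⟩
    · have : (0 : Fin (n + 1 + 1)) = Fin.castSucc (0 : Fin (n + 1)) := rfl
      rw [this, Fin.snoc_castSucc, h0]
    · rw [Fin.snoc_last]
    · intro i
      refine Fin.lastCases ?_ (fun j => ?_) i
      · rw [Fin.snoc_last]; exact hR _ _ hbc
      · rw [Fin.snoc_castSucc]; exact hQ j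
    · intro i
      refine Fin.lastCases ?_ (fun j => ?_) i
      · rw [Fin.snoc_castSucc, Fin.succ_last, Fin.snoc_last, hl]; exact hbc
      · rw [Fin.snoc_castSucc, Fin.succ_castSucc, Fin.snoc_castSucc]; exact hstep j

lemma exists_le_of_sInf_le {s : Set (Ideal A)} (hs : s.Finite) {P : Ideal A} (hP : P.IsPrime)
    (h : sInf s ≤ P) : ∃ p ∈ s, p ≤ P := by
  have h1 : hs.toFinset.inf id ≤ P := by
    rw [Finset.inf_id_eq_sInf, Set.Finite.coe_toFinset]; exact h
  obtain ⟨i, hi, hle⟩ := (Ideal.IsPrime.inf_le' hP).1 h1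
  exact ⟨i, (Set.Finite.mem_toFinset hs).1 hi, hle⟩

end Groth.Agent.Helper2.HartChain
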