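import Mathlib
import Groth.Prelude.Def_CAlg
import Groth.Prelude.Def_Found
import Groth.Prelude.Def_EGA4b
import Groth.Agent.Helper2.SkLift
import Groth.Agent.Helper2.RkLift
import Groth.Agent.S0601
set_option autoImplicit false
universe u
open IsLocalRing

namespace Groth.Agent.Helper2.NorLift

/-- a normal Noetherian domain satisfies R1 and S2 and is equidimensional. -/
lemma serre_of_normal (B : Type u) [CommRing B] [IsNoetherianRing B] [IsDomain B]
    [IsIntegrallyClosed B] : LocCoh.HasRk 1 B ∧ LocCoh.HasSk 2 B B := by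
  rw [← Groth.Agent.S0601.result B]
  intro p hp
  exact ⟨IsLocalization.isDomain_localization p.primeCompl_le_nonZeroDivisors,
    isIntegrallyClosed_of_isLocalization (Localization.AtPrime p) p.primeCompl
      p.primeCompl_le_nonZeroDivisors⟩

lemma isEquidim_of_isDomain (B : Type u) [CommRing B] [IsDomain B] : EGA4.IsEquidim B := by
  intro p hp
  rw [IsDomain.minimalPrimes_eq_singleton_bot, Set.mem_singleton_iff] at hp
  subst hp
  exact ringKrullDim_eq_of_ringEquiv (RingEquiv.quotientBot B)

/-- a local ring all of whose localizations at primes are normal domains is a normal domain -/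
lemma normal_of_local (A : Type u) [CommRing A] [IsLocalRing A]
    (h : ∀ (p : Ideal A) [p.IsPrime], IsDomain (Localization.AtPrime p) ∧
      IsIntegrallyClosed (Localization.AtPrime p)) : IsDomain A ∧ IsIntegrallyClosed A := by
  obtain ⟨h1, h2⟩ := h (maximalIdeal A)
  have H : (maximalIdeal A).primeCompl ≤ IsUnit.submonoid A := by
    intro x hx
    have : x ∉ maximalIdeal A := hx
    rw [IsLocalRing.mem_maximalIdeal, mem_nonunits_iff, not_not] at this
    exact this
  have e := IsLocalization.atUnits A (maximalIdeal A).primeCompl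
    (S := Localization.AtPrime (maximalIdeal A)) H
  have hd : IsDomain A := e.toRingEquiv.toMulEquiv.isDomain (Localization.AtPrime (maximalIdeal A))
  exact ⟨hd, IsIntegrallyClosed.of_equiv e.symm.toRingEquiv⟩

theorem main (A : Type u) [CommRing A] [IsNoetherianRing A] [IsLocalRing A]
    (hcat : CAlg.IsCatenary A) (t : A) (ht : t ∈ maximalIdeal A) (hreg : t ∈ nonZeroDivisors A)
    [IsDomain (A ⧸ Ideal.span {t})] [IsIntegrallyClosed (A ⧸ Ideal.span {t})] :
    IsDomain A ∧ IsIntegrallyClosed A := by
  obtain ⟨hR1, hS2⟩ := serre_of_normal (A ⧸ Ideal.span {t})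
  have heq := isEquidim_of_isDomain (A ⧸ Ideal.span {t})
  obtain ⟨-, -, hR1A⟩ := RkLift.main A t ht hreg hcat 1 heq hR1
  have hS2A := SkLift.main A t hreg ht 2 hS2
  exact normal_of_local A ((Groth.Agent.S0601.result A).2 ⟨hR1A, hS2A⟩)

end Groth.Agent.Helper2.NorLift
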