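import Mathlib
import Groth.Prelude.Def_CAlg
import Groth.Prelude.Def_EGA4b
import Groth.Agent.Helper2.FlatLoc
import Groth.Agent.Helper2.NorLift
import Groth.Agent.Helper4.RkLocus
import Groth.Agent.Helper6.SerreNormal1
import Groth.Agent.S0601
set_option autoImplicit false
universe u
open IsLocalRing TensorProduct Pointwise

namespace Groth.Agent.Helper2.FlatAscent

open Groth.Agent.Helper1.SerreFlatU Groth.Agent.Helper6.SerreNormal

section Local
variable (F : Type u) [CommRing F] [IsLocalRing F]

/-- a local ring is regular if its localization at the maximal ideal is -/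
lemma regular_of_loc_max (h : IsRegularLocalRing (Localization.AtPrime (maximalIdeal F))) :
    IsRegularLocalRing F := by
  have H : (maximalIdeal F).primeCompl ≤ IsUnit.submonoid F := by
    intro x hx
    have : x ∉ maximalIdeal F := hx
    rw [IsLocalRing.mem_maximalIdeal, mem_nonunits_iff, not_not] at this
    exact this
  have e := IsLocalization.atUnits F (maximalIdeal F).primeCompl
    (S := Localization.AtPrime (maximalIdeal F)) H
  exact IsRegularLocalRing.of_ringEquiv e.symm.toRingEquiv

/-- depth is invariant under ring isomorphisms -/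
lemma depth_eq_of_ringEquiv {R S : Type u} [CommRing R] [CommRing S] [IsLocalRing R]
    [IsLocalRing S] [IsNoetherianRing R] [IsNoetherianRing S] (e : R ≃+* S) :
    LocCoh.depth R R = LocCoh.depth S S := by
  letI : Algebra R S := e.toRingHom.toAlgebra
  haveI : IsLocalHom (algebraMap R S) := by
    show IsLocalHom e.toRingHom
    exact IsLocalHom.of_surjective _ e.surjective
  have hbij : Function.Bijective (Algebra.linearMap R S) := e.bijective
  haveI : Module.Finite R S := Module.Finite.of_surjective (Algebra.linearMap R S) hbij.2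
  rw [← Groth.Agent.Helper2.RegCM.depth_eq_of_isLocalHom R S S]
  exact Groth.Agent.Helper2.DepthCM.idealDepth_congr (maximalIdeal R)
    (LinearEquiv.ofBijective (Algebra.linearMap R S) hbij)

/-- `(S_k)` of a Noetherian local ring at its closed point -/
lemma sk_at_max [IsNoetherianRing F] (k : ℕ) (h : LocCoh.HasSk k F F) :
    min (k : ℕ∞) (maximalIdeal F).height ≤ LocCoh.depth F F := by
  rw [hasSk_iff] at h
  have h0 := h (maximalIdeal F)
  have H : (maximalIdeal F).primeCompl ≤ IsUnit.submonoid F := by
    intro x hx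
    have : x ∉ maximalIdeal F := hx
    rw [IsLocalRing.mem_maximalIdeal, mem_nonunits_iff, not_not] at this
    exact this
  have e := IsLocalization.atUnits F (maximalIdeal F).primeCompl
    (S := Localization.AtPrime (maximalIdeal F)) H
  rw [← ringKrullDim_eq_of_ringEquiv e.toRingEquiv, ← depth_eq_of_ringEquiv e.toRingEquiv,
    ← IsLocalRing.maximalIdeal_height_eq_ringKrullDim] at h0
  have h3 : ((k : ℕ) : WithBot ℕ∞) = (((k : ℕ∞)) : WithBot ℕ∞) := rfl
  rw [h3, ← WithBot.coe_min, WithBot.coe_le_coe] at h0
  exact h0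

end Local

section Ascent
variable (A B : Type u) [CommRing A] [CommRing B] [IsNoetherianRing A] [IsNoetherianRing B]
  [Algebra A B] [Module.Flat A B]

/-- `(R_k)` ascends along flat maps with `(R_k)` fibres. -/
theorem rk_ascent (k : ℕ)
    (hfib : ∀ (q : Ideal B) [q.IsPrime], LocCoh.HasRk k (EGA4.FibLocRing A B q))
    (q : Ideal B) [q.IsPrime] (hA : EGA4.HasRkAt k A (q.comap (algebraMap A B))) :
    EGA4.HasRkAt k B q := by
  rw [Groth.Agent.Helper4.RkLocus.hasRkAt_iff] at hA ⊢
  intro q' hq' hq'q hht
  have hh := FlatLoc.height_eq A B q'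
  rw [hh] at hht
  have hp'ht : (q'.comap (algebraMap A B)).height ≤ k := le_trans le_self_add hht
  have hFht : (maximalIdeal (EGA4.FibLocRing A B q')).height ≤ k := le_trans le_add_self hht
  have hregA := hA (q'.comap (algebraMap A B)) (Ideal.comap_mono hq'q) hp'ht
  have hregF : IsRegularLocalRing (EGA4.FibLocRing A B q') :=
    regular_of_loc_max _ (hfib q' _ hFht)
  exact FlatLoc.regular A B q' hregA hregF

/-- `(S_k)` at primes below `p`, from `(S_k)` of `A_p`. -/
lemma sk_below (k : ℕ) (p : Ideal A) [p.IsPrime]
    (hA : LocCoh.HasSk k (Localization.AtPrime p) (Localization.AtPrime p))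
    (p' : Ideal A) [hp' : p'.IsPrime] (hle : p' ≤ p) :
    min (k : ℕ∞) p'.height ≤
      LocCoh.depth (Localization.AtPrime p') (Localization.AtPrime p') := by
  have hdisj : Disjoint (p.primeCompl : Set A) (p' : Set A) := by
    rw [Set.disjoint_left]
    intro x hx hxq
    exact hx (hle hxq)
  haveI hP : (p'.map (algebraMap A (Localization.AtPrime p))).IsPrime :=
    IsLocalization.isPrime_of_isPrime_disjoint p.primeCompl _ p' hp' hdisj
  have hcomap : (p'.map (algebraMap A (Localization.AtPrime p))).under A = p' :=
    IsLocalization.under_map_of_isPrime_disjoint p.primeCompl _ hp' hdisj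
  rw [hasSk_iff] at hA
  have h0 := hA (p'.map (algebraMap A (Localization.AtPrime p)))
  rw [dim_atPrime' _ (unr_loc A p _), depth_atPrime' _ (unr_loc A p _)] at h0
  have key : ∀ (r : Ideal A) [r.IsPrime], r = p' →
      min (k : WithBot ℕ∞) (ringKrullDim (Localization.AtPrime r)) ≤
        ((LocCoh.depth (Localization.AtPrime r) (Localization.AtPrime r) : ℕ∞) : WithBot ℕ∞) →
      min (k : ℕ∞) p'.height ≤
        LocCoh.depth (Localization.AtPrime p') (Localization.AtPrime p') := by
    rintro r _ rfl h
    rw [IsLocalization.AtPrime.ringKrullDim_eq_height r (Localization.AtPrime r)] at h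
    have h3 : ((k : ℕ) : WithBot ℕ∞) = (((k : ℕ∞)) : WithBot ℕ∞) := rfl
    rw [h3, ← WithBot.coe_min, WithBot.coe_le_coe] at h
    exact h
  exact key _ hcomap h0

/-- `(S_k)` ascends along flat maps with `(S_k)` fibres (ring case). -/
theorem sk_ascent (k : ℕ)
    (hfib : ∀ (q : Ideal B) [q.IsPrime],
      LocCoh.HasSk k (EGA4.FibLocRing A B q) (EGA4.FibLocRing A B q))
    (q : Ideal B) [q.IsPrime]
    (hA : LocCoh.HasSk k (Localization.AtPrime (q.comap (algebraMap A B)))
      (Localization.AtPrime (q.comap (algebraMap A B)))) :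
    LocCoh.HasSk k (Localization.AtPrime q) (Localization.AtPrime q) := by
  rw [hasSk_iff]
  intro Q hQ
  rw [dim_atPrime' Q (unr_loc B q Q), depth_atPrime' Q (unr_loc B q Q)]
  have hle : Q.under B ≤ q := by
    intro x hx
    by_contra hxq
    have hu : IsUnit (algebraMap B (Localization.AtPrime q) x) :=
      IsLocalization.map_units _ (⟨x, hxq⟩ : q.primeCompl)
    exact hQ.ne_top (Ideal.eq_top_of_isUnit_mem _ hx hu)
  have key : ∀ (q' : Ideal B) [q'.IsPrime], q' ≤ q →
      min (k : WithBot ℕ∞) (ringKrullDim (Localization.AtPrime q')) ≤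
        ((LocCoh.depth (Localization.AtPrime q') (Localization.AtPrime q') : ℕ∞) : WithBot ℕ∞) := by
    intro q' hq' hq'q
    rw [IsLocalization.AtPrime.ringKrullDim_eq_height q' (Localization.AtPrime q'),
      FlatLoc.height_eq A B q', FlatLoc.depth_eq A B q']
    have h3 : ((k : ℕ) : WithBot ℕ∞) = (((k : ℕ∞)) : WithBot ℕ∞) := rfl
    rw [h3, ← WithBot.coe_min, WithBot.coe_le_coe]
    have h1 := sk_below A k (q.comap (algebraMap A B)) hA (q'.comap (algebraMap A B))
      (Ideal.comap_mono hq'q)
    have h2 := sk_at_max (EGA4.FibLocRing A B q') k (hfib q')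
    refine le_trans ?_ (add_le_add h1 h2)
    rcases le_total (k : ℕ∞) (q'.comap (algebraMap A B)).height with h | h
    · rw [min_eq_left h]
      exact (min_le_left _ _).trans le_self_add
    · rcases le_total (k : ℕ∞) (maximalIdeal (EGA4.FibLocRing A B q')).height with h' | h'
      · rw [min_eq_left h']
        exact (min_le_left _ _).trans le_add_self
      · rw [min_eq_right h, min_eq_right h']
        exact min_le_right _ _
  exact key (Q.under B) hle

end Ascent

section Normal
variable (A B : Type u) [CommRing A] [CommRing B] [IsNoetherianRing A] [IsNoetherianRing B]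
  [Algebra A B] [Module.Flat A B]

/-- normality ascends along flat maps with normal fibres (EGA IV 6.5.4) -/
theorem normal_ascent
    (hfib : ∀ (q : Ideal B) [q.IsPrime], IsDomain (EGA4.FibLocRing A B q) ∧
      IsIntegrallyClosed (EGA4.FibLocRing A B q))
    (q : Ideal B) [q.IsPrime]
    [IsDomain (Localization.AtPrime (q.comap (algebraMap A B)))]
    [IsIntegrallyClosed (Localization.AtPrime (q.comap (algebraMap A B)))] :
    IsDomain (Localization.AtPrime q) ∧ IsIntegrallyClosed (Localization.AtPrime q) := by
  have hF : ∀ (q : Ideal B) [q.IsPrime], LocCoh.HasRk 1 (EGA4.FibLocRing A B q) ∧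
      LocCoh.HasSk 2 (EGA4.FibLocRing A B q) (EGA4.FibLocRing A B q) := by
    intro q' hq'
    obtain ⟨h1, h2⟩ := hfib q'
    exact NorLift.serre_of_normal (EGA4.FibLocRing A B q')
  obtain ⟨hA1, hA2⟩ := NorLift.serre_of_normal (Localization.AtPrime (q.comap (algebraMap A B)))
  have hB1 : LocCoh.HasRk 1 (Localization.AtPrime q) :=
    rk_ascent A B 1 (fun q' _ => (hF q').1) q hA1
  have hB2 : LocCoh.HasSk 2 (Localization.AtPrime q) (Localization.AtPrime q) :=
    sk_ascent A B 2 (fun q' _ => (hF q').2) q hA2
  exact NorLift.normal_of_local (Localization.AtPrime q)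
    ((Groth.Agent.S0601.result (Localization.AtPrime q)).2 ⟨hB1, hB2⟩)

end Normal

end Groth.Agent.Helper2.FlatAscent
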