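import Mathlib
import Groth.Agent.Helper2.RegSmooth

namespace Groth.Agent.Helper2.RegSmoothLoc
open IsLocalRing TensorProduct KaehlerDifferential

universe u

section Local
variable (k A : Type u) [Field k] [CommRing A] [Algebra k A] [IsLocalRing A]
  [Algebra.EssFiniteType k A]

/-- the prime of the finite type subalgebra under the maximal ideal -/
noncomputable abbrev q₀ : Ideal (Algebra.EssFiniteType.subalgebra k A) :=
  (maximalIdeal A).comap (algebraMap (Algebra.EssFiniteType.subalgebra k A) A)

instance : (q₀ k A).IsPrime := Ideal.comap_isPrime _ _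

theorem submonoid_eq : Algebra.EssFiniteType.submonoid k A = (q₀ k A).primeCompl := by
  ext x
  change IsUnit (algebraMap (Algebra.EssFiniteType.subalgebra k A) A x) ↔ x ∉ q₀ k A
  rw [Ideal.mem_comap, IsLocalRing.mem_maximalIdeal, mem_nonunits_iff, not_not]

instance isLocalizationAtPrime : IsLocalization.AtPrime A (q₀ k A) := by
  have h : IsLocalization (Algebra.EssFiniteType.submonoid k A) A := inferInstance
  rw [submonoid_eq] at h
  exact h

/-- the comparison isomorphism -/
noncomputable def e₀ : Localization.AtPrime (q₀ k A) ≃ₐ[Algebra.EssFiniteType.subalgebra k A] A :=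
  IsLocalization.algEquiv (q₀ k A).primeCompl _ _

end Local


section Local2
variable (k A : Type u) [Field k] [CommRing A] [Algebra k A] [IsLocalRing A]
  [Algebra.EssFiniteType k A]

theorem e₀_algebraMap (r : k) :
    e₀ k A (algebraMap k (Localization.AtPrime (q₀ k A)) r) = algebraMap k A r := by
  rw [IsScalarTower.algebraMap_apply k (Algebra.EssFiniteType.subalgebra k A)
    (Localization.AtPrime (q₀ k A)), AlgEquiv.commutes,
    ← IsScalarTower.algebraMap_apply k (Algebra.EssFiniteType.subalgebra k A) A]

/-- the induced map of residue fields, as a `k`-algebra map -/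
noncomputable def resMap : (q₀ k A).ResidueField →ₐ[k] ResidueField A :=
  { IsLocalRing.ResidueField.map ((e₀ k A : Localization.AtPrime (q₀ k A) →+* A)) with
    commutes' := by
      intro r
      change IsLocalRing.ResidueField.map ((e₀ k A : Localization.AtPrime (q₀ k A) →+* A))
        (algebraMap k (q₀ k A).ResidueField r) = _
      rw [IsScalarTower.algebraMap_apply k (Localization.AtPrime (q₀ k A)) (q₀ k A).ResidueField]
      change IsLocalRing.ResidueField.map ((e₀ k A : Localization.AtPrime (q₀ k A) →+* A))
        (residue _ (algebraMap k (Localization.AtPrime (q₀ k A)) r)) = _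
      rw [IsLocalRing.ResidueField.map_residue]
      change residue A (e₀ k A (algebraMap k (Localization.AtPrime (q₀ k A)) r)) = _
      rw [e₀_algebraMap]
      rfl }

theorem formallySmooth_iff_isRegularLocalRing
    [Algebra.IsGeometricallyReduced k (ResidueField A)] :
    Algebra.FormallySmooth k A ↔ IsRegularLocalRing A := by
  haveI : Algebra.IsGeometricallyReduced k (q₀ k A).ResidueField :=
    Algebra.IsGeometricallyReduced.of_injective (resMap k A) (RingHom.injective _)
  have h := Groth.Agent.Helper2.RegSmooth.isSmoothAt_iff_isRegularLocalRing k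
    (Algebra.EssFiniteType.subalgebra k A) (q₀ k A)
  have h1 : Algebra.FormallySmooth k (Localization.AtPrime (q₀ k A)) ↔
      Algebra.FormallySmooth k A := by
    constructor
    · intro _
      exact Algebra.FormallySmooth.of_equiv ((e₀ k A).restrictScalars k)
    · intro _
      exact Algebra.FormallySmooth.of_equiv ((e₀ k A).restrictScalars k).symm
  have h2 : IsRegularLocalRing (Localization.AtPrime (q₀ k A)) ↔ IsRegularLocalRing A := by
    constructor
    · intro _
      exact IsRegularLocalRing.of_ringEquiv (e₀ k A).toRingEquiv
    · intro _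
      exact IsRegularLocalRing.of_ringEquiv (e₀ k A).toRingEquiv.symm
  rw [← h1, ← h2]
  exact h

end Local2

end Groth.Agent.Helper2.RegSmoothLoc
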