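import Mathlib
import Groth.Prelude.Def_MeroDiv
set_option autoImplicit false
universe u
open CategoryTheory AlgebraicGeometry TopologicalSpace Opposite

namespace Groth.Agent.Helper2.MeroDiv1

open Mero

variable {X : Scheme.{u}}

/-- value of the inverse unit -/
theorem inv_val {U : X.Opens} (f : (Γ(kmod X, U))ˣ) (y : U) :
    ((f⁻¹ : (Γ(kmod X, U))ˣ) : Γ(kmod X, U)).1 y =
      ((Units.map (evalK X U y).toMonoidHom f)⁻¹ : (KStalk X y.1)ˣ) := by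
  rw [← map_inv]
  rfl

/-- `f⁻¹` satisfies the divisor condition where `D` is the class of `f`. -/
theorem divCond_inv (D : Divisor X) {U : X.Opens} (f : (Γ(kmod X, U))ˣ) (y : U)
    (hD : D.1 y.1 = germOf f y) :
    DivCond D y.1 (((f⁻¹ : (Γ(kmod X, U))ˣ) : Γ(kmod X, U)).1 y) := by
  intro g hg
  rw [hD] at hg
  have h1 : (Units.map (evalK X U y).toMonoidHom f)⁻¹ * g ∈ stalkUnits X y.1 :=
    QuotientGroup.eq.mp hg
  obtain ⟨u, hu⟩ := h1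
  rw [inv_val]
  refine ⟨(u : X.presheaf.stalk y.1), ?_⟩
  have := congrArg (fun z : (KStalk X y.1)ˣ => (z : KStalk X y.1)) hu
  simpa using this

/-- if `f⁻¹` satisfies the divisor condition for `D'` (class of `f'`), then `f⁻¹ f'` is integral. -/
theorem exists_of_divCond (D' : Divisor X) {U U' : X.Opens} (f : (Γ(kmod X, U))ˣ)
    (f' : (Γ(kmod X, U'))ˣ) (y : X) (hy : y ∈ U) (hy' : y ∈ U')
    (hD' : D'.1 y = germOf f' ⟨y, hy'⟩)
    (h : DivCond D' y (((f⁻¹ : (Γ(kmod X, U))ˣ) : Γ(kmod X, U)).1 ⟨y, hy⟩)) :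
    ∃ a : X.presheaf.stalk y, algebraMap _ (KStalk X y) a =
      (((Units.map (evalK X U ⟨y, hy⟩).toMonoidHom f)⁻¹ *
        (Units.map (evalK X U' ⟨y, hy'⟩).toMonoidHom f') : (KStalk X y)ˣ) : KStalk X y) := by
  obtain ⟨a, ha⟩ := h _ hD'
  refine ⟨a, ?_⟩
  rw [ha, inv_val]
  simp

theorem eq_of_forall (D D' : Mero.Divisor X)
    (h : ∀ (U : X.Opens) (t : Γ(Mero.kmod X, U)),
      (∀ x : ↥U, Mero.DivCond D x.1 (t.1 x)) ↔ (∀ x : ↥U, Mero.DivCond D' x.1 (t.1 x))) :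
    D = D' := by
  apply Subtype.ext
  funext x
  obtain ⟨U, hx, f, hf⟩ := D.2 x
  obtain ⟨U', hx', f', hf'⟩ := D'.2 x
  set W : X.Opens := U ⊓ U' with hW
  have hxW : x ∈ W := ⟨hx, hx'⟩
  -- restrictions of the inverses
  let t : Γ(kmod X, W) := (kmod X).presheaf.map (homOfLE (inf_le_left : W ≤ U)).op
    ((f⁻¹ : (Γ(kmod X, U))ˣ) : Γ(kmod X, U))
  let t' : Γ(kmod X, W) := (kmod X).presheaf.map (homOfLE (inf_le_right : W ≤ U')).op
    ((f'⁻¹ : (Γ(kmod X, U'))ˣ) : Γ(kmod X, U'))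
  have ht : ∀ y : W, t.1 y = ((f⁻¹ : (Γ(kmod X, U))ˣ) : Γ(kmod X, U)).1 ⟨y.1, y.2.1⟩ := fun y => rfl
  have ht' : ∀ y : W, t'.1 y = ((f'⁻¹ : (Γ(kmod X, U'))ˣ) : Γ(kmod X, U')).1 ⟨y.1, y.2.2⟩ :=
    fun y => rfl
  have h1 : ∀ y : W, DivCond D y.1 (t.1 y) := fun y => by
    rw [ht]; exact divCond_inv D f ⟨y.1, y.2.1⟩ (hf ⟨y.1, y.2.1⟩)
  have h1' : ∀ y : W, DivCond D' y.1 (t'.1 y) := fun y => by
    rw [ht']; exact divCond_inv D' f' ⟨y.1, y.2.2⟩ (hf' ⟨y.1, y.2.2⟩)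
  have h2 := (h W t).mp h1 ⟨x, hxW⟩
  have h2' := (h W t').mpr h1' ⟨x, hxW⟩
  rw [ht] at h2
  rw [ht'] at h2'
  obtain ⟨a, ha⟩ := exists_of_divCond D' f f' x hx hx' (hf' ⟨x, hx'⟩) h2
  obtain ⟨b, hb⟩ := exists_of_divCond D f' f x hx' hx (hf ⟨x, hx⟩) h2'
  have hab : a * b = 1 := by
    apply algebraMap_KStalk_injective x
    rw [map_mul, ha, hb, map_one, ← Units.val_mul]
    simp
  have hf0 := hf ⟨x, hx⟩
  have hf0' := hf' ⟨x, hx'⟩
  simp only at hf0 hf0'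
  rw [hf0, hf0']
  apply QuotientGroup.eq.mpr
  refine ⟨Units.mkOfMulEqOne a b hab, ?_⟩
  apply Units.ext
  simpa using ha

end Groth.Agent.Helper2.MeroDiv1
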