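import Groth.Prelude.Def_KZero
import Mathlib

set_option autoImplicit false

namespace Groth.Agent.Helper2.KZ1

open CategoryTheory CategoryTheory.Limits

universe v u

section Alt

variable {G : Type*} [AddCommGroup G]

/-- alternating sum of a finitely supported family indexed by `ℤ` -/
noncomputable def alt (u : ℤ → G) : G := ∑ᶠ i : ℤ, ((i.negOnePow : ℤˣ) : ℤ) • u i

lemma support_smul_subset (u : ℤ → G) :
    Function.support (fun i : ℤ => ((i.negOnePow : ℤˣ) : ℤ) • u i) ⊆ Function.support u := by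
  intro i hi
  simp only [Function.mem_support, ne_eq] at hi ⊢
  intro h
  exact hi (by rw [h, smul_zero])

lemma alt_add (u v : ℤ → G) (hu : (Function.support u).Finite) (hv : (Function.support v).Finite) :
    alt (fun i => u i + v i) = alt u + alt v := by
  unfold alt
  simp only [smul_add]
  exact finsum_add_distrib (hu.subset (support_smul_subset u)) (hv.subset (support_smul_subset v))

lemma alt_shift (u : ℤ → G) : alt (fun i => u (i + 1)) = - alt u := by
  unfold alt
  rw [← finsum_comp_equiv (Equiv.addRight (1 : ℤ))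
    (f := fun i : ℤ => ((i.negOnePow : ℤˣ) : ℤ) • u i), ← finsum_neg_distrib]
  congr 1
  ext i
  simp only [Equiv.coe_addRight, Int.negOnePow_succ, Units.val_neg, neg_smul, neg_neg]

lemma alt_eq_zero (u : ℤ → G) (h : ∀ i, u i = 0) : alt u = 0 := by
  unfold alt
  simp [h]

lemma alt_single (u : ℤ → G) (n : ℤ) (h : ∀ i, i ≠ n → u i = 0) :
    alt u = ((n.negOnePow : ℤˣ) : ℤ) • u n := by
  unfold alt
  exact finsum_eq_single _ n (fun i hi => by rw [h i hi, smul_zero])

end Alt

section Sub

variable {A : Type u} [Category.{v} A] [Abelian A] (P : ObjectProperty A)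

/-- class of an object of `P` -/
def cls (X : A) (h : P X) : KZero.K0sub P := QuotientAddGroup.mk (FreeAbelianGroup.of ⟨X, h⟩)

lemma clSub_eq (X : A) (h : P X) : KZero.clSub P X = cls P X h := by
  unfold KZero.clSub cls
  rw [dif_pos h]

lemma cls_shortExact (S : ShortComplex A) (hS : S.ShortExact) (h₁ : P S.X₁) (h₂ : P S.X₂)
    (h₃ : P S.X₃) : cls P S.X₂ h₂ = cls P S.X₁ h₁ + cls P S.X₃ h₃ := by
  have hmem : FreeAbelianGroup.of (⟨S.X₂, h₂⟩ : Subtype P) - FreeAbelianGroup.of ⟨S.X₁, h₁⟩ -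
      FreeAbelianGroup.of ⟨S.X₃, h₃⟩ ∈ KZero.relSub P :=
    AddSubgroup.subset_closure ⟨S, h₁, h₂, h₃, hS, rfl⟩
  have h0 := (QuotientAddGroup.eq_zero_iff _).2 hmem
  rw [QuotientAddGroup.mk_sub, QuotientAddGroup.mk_sub, sub_sub, sub_eq_zero] at h0
  exact h0

lemma cls_zero (Z : A) (hZ : IsZero Z) (h : P Z) : cls P Z h = 0 := by
  have hS : (ShortComplex.mk (0 : Z ⟶ Z) (0 : Z ⟶ Z) zero_comp).ShortExact :=
    { exact := ShortComplex.exact_of_isZero_X₂ _ hZ
      mono_f := ⟨fun _ _ _ => hZ.eq_of_tgt _ _⟩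
      epi_g := ⟨fun _ _ _ => hZ.eq_of_src _ _⟩ }
  have := cls_shortExact P _ hS h h h
  simpa using this

variable [P.IsClosedUnderIsomorphisms] [P.ContainsZero]

lemma cls_iso {X Y : A} (e : X ≅ Y) (hX : P X) (hY : P Y) : cls P X hX = cls P Y hY := by
  have hS : (ShortComplex.mk (0 : kernel e.hom ⟶ X) e.hom zero_comp).ShortExact :=
    { exact := (ShortComplex.exact_iff_mono _ rfl).2 (inferInstanceAs (Mono e.hom))
      mono_f := ⟨fun _ _ _ => (isZero_kernel_of_mono e.hom).eq_of_tgt _ _⟩
      epi_g := inferInstanceAs (Epi e.hom) }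
  have hz : IsZero (kernel e.hom) := isZero_kernel_of_mono e.hom
  have := cls_shortExact P _ hS (P.prop_of_isZero hz) hX hY
  rw [this, cls_zero P _ hz, zero_add]

/-- an exact sequence `X ⟶ Y ⟶ Z` gives `[X] = [ker f] + [ker g]` -/
lemma cls_exact {X Y Z : A} (f : X ⟶ Y) (g : Y ⟶ Z) (w : f ≫ g = 0)
    (hex : (ShortComplex.mk f g w).Exact) (hX : P X) (hkf : P (kernel f)) (hkg : P (kernel g)) :
    cls P X hX = cls P (kernel f) hkf + cls P (kernel g) hkg := by
  have hepi : Epi (kernel.lift g f w) :=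
    (ShortComplex.exact_iff_epi_kernel_lift (ShortComplex.mk f g w)).1 hex
  have w' : kernel.ι f ≫ kernel.lift g f w = 0 := by
    rw [← cancel_mono (kernel.ι g), Category.assoc, kernel.lift_ι, kernel.condition, zero_comp]
  have hS : (ShortComplex.mk (kernel.ι f) (kernel.lift g f w) w').ShortExact :=
    { exact := ShortComplex.exact_of_f_is_kernel _
        (isKernelOfComp (kernel.ι g) f (kernelIsKernel f) w' (kernel.lift_ι _ _ _))
      mono_f := inferInstanceAs (Mono (kernel.ι f))
      epi_g := hepi }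
  exact cls_shortExact P _ hS hkf hX hkg

end Sub

end Groth.Agent.Helper2.KZ1
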