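import Mathlib
import Groth.Agent.Helper5.AffFlat3

set_option autoImplicit false
open TensorProduct
universe u

namespace Groth.Agent.Helper2.FibFD

section SmulTop

variable {A : Type u} [CommRing A] {S : Type u} [CommRing S] [Algebra A S] (I : Ideal A)
  {M : Type u} [AddCommGroup M] [Module S M] [Module A M] [IsScalarTower A S M]

lemma mem_map_smul_top_of_mem {x : M} (hx : x ∈ I • (⊤ : Submodule A M)) :
    x ∈ I.map (algebraMap A S) • (⊤ : Submodule S M) := by
  refine Submodule.smul_induction_on hx ?_ ?_
  · intro a ha m _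
    rw [← algebraMap_smul S a m]
    exact Submodule.smul_mem_smul (Ideal.mem_map_of_mem _ ha) trivial
  · intro x y hx hy
    exact add_mem hx hy

lemma mem_smul_top_of_mem_map {x : M} (hx : x ∈ I.map (algebraMap A S) • (⊤ : Submodule S M)) :
    x ∈ I • (⊤ : Submodule A M) := by
  refine Submodule.smul_induction_on hx ?_ ?_
  · intro s hs m _
    rw [Ideal.map] at hs
    induction hs using Submodule.span_induction generalizing m with
    | mem s hs =>
      obtain ⟨a, ha, rfl⟩ := hs
      rw [algebraMap_smul]
      exact Submodule.smul_mem_smul ha trivial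
    | zero =>
      rw [zero_smul]
      exact zero_mem _
    | add s t _ _ h1 h2 =>
      rw [add_smul]
      exact add_mem (h1 m trivial) (h2 m trivial)
    | smul r s _ h1 =>
      rw [smul_eq_mul, mul_smul, ← mul_smul, mul_comm, mul_smul]
      exact h1 (r • m) trivial
  · intro x y hx hy
    exact add_mem hx hy

lemma restrictScalars_map_smul_top :
    (I.map (algebraMap A S) • (⊤ : Submodule S M)).restrictScalars A =
      I • (⊤ : Submodule A M) := by
  ext x
  exact ⟨fun h => mem_smul_top_of_mem_map I h, fun h => mem_map_smul_top_of_mem I h⟩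

/-- `M/(IS)M ≃ M/IM` -/
noncomputable def quotMapSMulEquiv :
    (M ⧸ (I.map (algebraMap A S) • (⊤ : Submodule S M))) ≃ₗ[A] (M ⧸ I • (⊤ : Submodule A M)) :=
  (Submodule.Quotient.restrictScalarsEquiv A _).symm ≪≫ₗ
    Submodule.quotEquivOfEq _ _ (restrictScalars_map_smul_top I)

end SmulTop

end Groth.Agent.Helper2.FibFD
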