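import Mathlib

set_option autoImplicit false
set_option linter.style.haveILetI false
set_option linter.unusedSectionVars false
set_option linter.unusedVariables false

universe u v w

/-! Essential Artin–Tate, part 1: Nakayama for local homomorphisms. -/

namespace Groth.Agent.Helper2.ATate

open TensorProduct IsLocalRing

section LemmaN

variable (R : Type u) (R' : Type v) (Q : Type w) [CommRing R] [IsLocalRing R] [CommRing R']
  [IsLocalRing R']
  [Algebra R R'] [IsLocalHom (algebraMap R R')] [AddCommGroup Q] [Module R Q] [Module.Finite R Q]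

/-- Nakayama for a local homomorphism: a finite module dying after base change along a local
homomorphism of local rings is zero. -/
theorem subsingleton_of_subsingleton_tensor (h : Subsingleton (R' ⊗[R] Q)) : Subsingleton Q := by
  rw [← IsLocalRing.subsingleton_tensorProduct (R := R)]
  let k := ResidueField R
  let k' := ResidueField R'
  have e1 : k' ⊗[k] (k ⊗[R] Q) ≃ₗ[k'] k' ⊗[R] Q :=
    AlgebraTensorModule.cancelBaseChange R k k' k' Q
  have e2 : k' ⊗[R'] (R' ⊗[R] Q) ≃ₗ[k'] k' ⊗[R] Q :=
    AlgebraTensorModule.cancelBaseChange R R' k' k' Q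
  haveI : Subsingleton (k' ⊗[R'] (R' ⊗[R] Q)) := by
    refine ⟨fun x y => ?_⟩
    have h0 : ∀ z : k' ⊗[R'] (R' ⊗[R] Q), z = 0 := by
      intro z
      induction z using TensorProduct.induction_on with
      | zero => rfl
      | tmul a b => rw [Subsingleton.elim b 0, tmul_zero]
      | add a b ha hb => rw [ha, hb, add_zero]
    rw [h0 x, h0 y]
  haveI : Subsingleton (k' ⊗[k] (k ⊗[R] Q)) := (e1.trans e2.symm).toEquiv.subsingleton
  exact (Module.FaithfullyFlat.subsingleton_tensorProduct_iff_right k k').1 inferInstance

end LemmaN

end Groth.Agent.Helper2.ATate
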