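import Mathlib
import Groth.Prelude
import Groth.Agent.Lead.FD21

set_option autoImplicit false
open Function TensorProduct CategoryTheory CategoryTheory.Limits
universe u

namespace Groth.Agent.Helper2.KerFP

/-- Schanuel-type transfer: if one surjection from a finite projective module onto `C` has
finitely presented kernel, so has every surjection from a finitely presented module. -/
theorem fp_ker_of_fp_ker {B : Type u} [CommRing B] {C P Q : Type u} [AddCommGroup C] [Module B C]
    [AddCommGroup P] [Module B P] [AddCommGroup Q] [Module B Q]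
    [Module.FinitePresentation B P] [Module.Projective B Q] [Module.Finite B Q]
    (π : P →ₗ[B] C) (hπ : Surjective π) (π' : Q →ₗ[B] C) (hπ' : Surjective π')
    [Module.FinitePresentation B (LinearMap.ker π')] :
    Module.FinitePresentation B (LinearMap.ker π) := by
  obtain ⟨σ, hσ⟩ := Module.projective_lifting_property π π' hπ
  have hσ' : ∀ y, π (σ y) = π' y := fun y => LinearMap.congr_fun hσ y
  let ψ : (LinearMap.ker π × Q) →ₗ[B] P := (LinearMap.ker π).subtype.coprod σ
  have hψ_apply : ∀ z : LinearMap.ker π × Q, ψ z = (z.1 : P) + σ z.2 := fun z => by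
    simp [ψ, LinearMap.coprod_apply]
  have hψ : Surjective ψ := by
    intro x
    obtain ⟨y, hy⟩ := hπ' (π x)
    have hk : x - σ y ∈ LinearMap.ker π := by
      rw [LinearMap.mem_ker, map_sub, hσ', hy, sub_self]
    refine ⟨(⟨x - σ y, hk⟩, y), ?_⟩
    rw [hψ_apply]
    simp
  have hmem : ∀ z : LinearMap.ker ψ, (z.1.2 : Q) ∈ LinearMap.ker π' := by
    intro z
    have hz : ψ z.1 = 0 := z.2
    rw [hψ_apply] at hz
    rw [LinearMap.mem_ker, ← hσ']
    have h1 : σ z.1.2 = -(z.1.1 : P) := by
      rw [eq_neg_iff_add_eq_zero, add_comm]; exact hz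
    rw [h1, map_neg]
    have : π (z.1.1 : P) = 0 := z.1.1.2
    rw [this, neg_zero]
  let θ : LinearMap.ker ψ →ₗ[B] LinearMap.ker π' :=
    LinearMap.codRestrict _ ((LinearMap.snd B _ Q).comp (LinearMap.ker ψ).subtype) hmem
  have hθ : Bijective θ := by
    constructor
    · rw [← LinearMap.ker_eq_bot, LinearMap.ker_eq_bot']
      intro z hz
      have h2 : (z.1.2 : Q) = 0 := congrArg Subtype.val hz
      have hz' : ψ z.1 = 0 := z.2
      rw [hψ_apply, h2, map_zero, add_zero] at hz'
      apply Subtype.ext
      apply Prod.ext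
      · apply Subtype.ext
        exact hz'
      · exact h2
    · intro y
      have hk : -σ y.1 ∈ LinearMap.ker π := by
        rw [LinearMap.mem_ker, map_neg, hσ']
        have : π' y.1 = 0 := y.2
        rw [this, neg_zero]
      have hz : ((⟨-σ y.1, hk⟩ : LinearMap.ker π), (y.1 : Q)) ∈ LinearMap.ker ψ := by
        rw [LinearMap.mem_ker, hψ_apply]
        simp
      exact ⟨⟨_, hz⟩, Subtype.ext rfl⟩
  haveI : Module.FinitePresentation B (LinearMap.ker ψ) :=
    Module.FinitePresentation.of_equiv (LinearEquiv.ofBijective θ hθ).symm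
  haveI : Module.FinitePresentation B (LinearMap.ker π × Q) :=
    Module.finitePresentation_of_ker ψ hψ
  refine Module.finitePresentation_of_surjective (LinearMap.fst B (LinearMap.ker π) Q)
    LinearMap.fst_surjective ?_
  rw [LinearMap.ker_fst, LinearMap.range_eq_map]
  exact (Module.Finite.fg_top).map _

section Model
variable {R₀ A D₀ B : Type u} [CommRing R₀] [CommRing A] [CommRing D₀] [CommRing B]
  [Algebra R₀ A] [Algebra R₀ D₀] [Algebra A B] [Algebra D₀ B] [Algebra R₀ B]
  [IsScalarTower R₀ A B] [IsScalarTower R₀ D₀ B] [Algebra.IsPushout R₀ A D₀ B]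

/-- naturality of `Algebra.IsPushout.cancelBaseChange`. -/
theorem baseChange_cancel_symm {X Y : Type u} [AddCommGroup X] [Module R₀ X] [Module D₀ X]
    [IsScalarTower R₀ D₀ X] [AddCommGroup Y] [Module R₀ Y] [Module D₀ Y] [IsScalarTower R₀ D₀ Y]
    (g : X →ₗ[D₀] Y) (w : A ⊗[R₀] X) :
    g.baseChange B ((Algebra.IsPushout.cancelBaseChange R₀ A D₀ B X).symm w) =
      (Algebra.IsPushout.cancelBaseChange R₀ A D₀ B Y).symm
        ((g.restrictScalars R₀).lTensor A w) := by
  induction w with
  | zero => simp
  | add x y hx hy => simp only [map_add, hx, hy]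
  | tmul a x =>
    rw [Algebra.IsPushout.cancelBaseChange_symm_tmul, LinearMap.baseChange_tmul,
      LinearMap.lTensor_tmul, Algebra.IsPushout.cancelBaseChange_symm_tmul]
    rfl

include A in
/-- base change to `B = A ⊗ D₀` keeps the kernel inclusion injective when the cokernel is flat
over `R₀`. -/
theorem baseChange_injective_of_flat {X Y N : Type u} [AddCommGroup X] [Module R₀ X] [Module D₀ X]
    [IsScalarTower R₀ D₀ X] [AddCommGroup Y] [Module R₀ Y] [Module D₀ Y] [IsScalarTower R₀ D₀ Y]
    [AddCommGroup N] [Module R₀ N] [Module D₀ N] [IsScalarTower R₀ D₀ N] [Module.Flat R₀ N]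
    (g : X →ₗ[D₀] Y) (f : Y →ₗ[D₀] N) (hg : Injective g) (hf : Surjective f)
    (hex : Function.Exact g f) : Injective (g.baseChange B) := by
  have hinj : Injective ((g.restrictScalars R₀).lTensor A) :=
    LinearMap.lTensor_injective_of_exact_of_flat (f.restrictScalars R₀) hf
      (g.restrictScalars R₀) hg hex A
  rw [← LinearMap.ker_eq_bot, LinearMap.ker_eq_bot']
  intro z hz
  obtain ⟨w, rfl⟩ := (Algebra.IsPushout.cancelBaseChange R₀ A D₀ B X).symm.surjective z
  rw [baseChange_cancel_symm] at hz
  have h1 : (g.restrictScalars R₀).lTensor A w = 0 :=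
    (Algebra.IsPushout.cancelBaseChange R₀ A D₀ B Y).symm.injective (by rw [hz, map_zero])
  have h2 : w = 0 := hinj (by rw [h1, map_zero])
  rw [h2, map_zero]

end Model

set_option maxHeartbeats 800000 in
/-- a finitely presented module over a finitely presented algebra which is flat over the base
admits a surjection from a finite free module with finitely presented kernel. -/
theorem exists_free_surj_fp_ker {A B : Type u} [CommRing A] [CommRing B] [Algebra A B]
    [Algebra.FinitePresentation A B]
    (C : Type u) [AddCommGroup C] [Module A C] [Module B C] [IsScalarTower A B C]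
    [Module.FinitePresentation B C] [Module.Flat A C] :
    ∃ (Q : Type u) (_ : AddCommGroup Q) (_ : Module B Q) (_ : Module.Free B Q)
      (_ : Module.Finite B Q) (π' : Q →ₗ[B] C),
      Surjective π' ∧ Module.FinitePresentation B (LinearMap.ker π') := by
  obtain ⟨R₀, D₀, _, _, _, α, β, N₀, _, _, _, _, hpo, hft1, hft2, hfin, hne, hflat⟩ :=
    Groth.Agent.Lead.FD21.exists_noeth_model_module (A := A) (B := B) C
  letI algR₀A : Algebra R₀ A := α.toAlgebra
  letI algD₀B : Algebra D₀ B := β.toAlgebra
  letI algR₀B : Algebra R₀ B := ((algebraMap A B).comp α).toAlgebra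
  haveI : IsScalarTower R₀ A B := IsScalarTower.of_algebraMap_eq (fun _ => rfl)
  haveI : IsScalarTower R₀ D₀ B := IsScalarTower.of_algebraMap_eq (fun r => by
    have h := congrArg (fun φ => φ.hom r) hpo.w
    exact h.symm)
  have hpo' : IsPushout (CommRingCat.ofHom (algebraMap R₀ D₀)) (CommRingCat.ofHom (algebraMap R₀ A))
      (CommRingCat.ofHom (algebraMap D₀ B)) (CommRingCat.ofHom (algebraMap A B)) := hpo
  have hpo'' : Algebra.IsPushout R₀ D₀ A B := CommRingCat.isPushout_iff_isPushout.mp hpo'
  haveI : Algebra.IsPushout R₀ A D₀ B := hpo''.symm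
  haveI : IsNoetherianRing R₀ := Algebra.FiniteType.isNoetherianRing ℤ R₀
  haveI : IsNoetherianRing D₀ := Algebra.FiniteType.isNoetherianRing R₀ D₀
  haveI : Module.Flat R₀ N₀ := hflat inferInstance
  obtain ⟨eC⟩ := hne
  obtain ⟨m, π₀, hπ₀⟩ := Module.Finite.exists_fin' D₀ N₀
  let K₀ := LinearMap.ker π₀
  haveI : Module.Finite D₀ K₀ := Module.IsNoetherian.finite D₀ K₀
  haveI : Module.FinitePresentation D₀ K₀ := Module.finitePresentation_of_finite D₀ K₀
  have hex : Function.Exact K₀.subtype π₀ := LinearMap.exact_subtype_ker_map π₀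
  have hinj : Injective (K₀.subtype.baseChange B) :=
    baseChange_injective_of_flat (R₀ := R₀) (A := A) K₀.subtype π₀ K₀.subtype_injective hπ₀ hex
  have hexB : Function.Exact (K₀.subtype.baseChange B) (π₀.baseChange B) := by
    have h := lTensor_exact B hex hπ₀
    intro z
    exact h z
  have hsurjB : Surjective (π₀.baseChange B) := by
    have h := LinearMap.lTensor_surjective B hπ₀
    intro z
    exact h z
  refine ⟨B ⊗[D₀] (Fin m → D₀), inferInstance, inferInstance, inferInstance, inferInstance,
    eC.symm.toLinearMap ∘ₗ π₀.baseChange B, ?_, ?_⟩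
  · exact eC.symm.surjective.comp hsurjB
  · have hker : LinearMap.ker (eC.symm.toLinearMap ∘ₗ π₀.baseChange B) =
        LinearMap.range (K₀.subtype.baseChange B) := by
      rw [LinearMap.ker_comp, LinearEquiv.ker, Submodule.comap_bot, LinearMap.exact_iff.mp hexB]
    rw [hker]
    exact Module.FinitePresentation.of_equiv (LinearEquiv.ofInjective _ hinj)

/-- **Kernel lemma**: `B` a finitely presented `A`-algebra, `C` a finitely presented `B`-module
flat over `A`; the kernel of any surjection from a finitely presented `B`-module onto `C` is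
finitely presented. -/
theorem fp_ker_of_flat {A B : Type u} [CommRing A] [CommRing B] [Algebra A B]
    [Algebra.FinitePresentation A B]
    (C : Type u) [AddCommGroup C] [Module A C] [Module B C] [IsScalarTower A B C]
    [Module.FinitePresentation B C] [Module.Flat A C]
    {P : Type u} [AddCommGroup P] [Module B P] [Module.FinitePresentation B P]
    (π : P →ₗ[B] C) (hπ : Surjective π) :
    Module.FinitePresentation B (LinearMap.ker π) := by
  obtain ⟨Q, _, _, _, _, π', hπ', hfp⟩ := exists_free_surj_fp_ker (A := A) (B := B) C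
  exact fp_ker_of_fp_ker π hπ π' hπ'

end Groth.Agent.Helper2.KerFP
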