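import Mathlib

set_option autoImplicit false
open RingTheory.Sequence Pointwise Function TensorProduct
universe u v

namespace Groth.Agent.Helper2.FlatRegQuot
variable {A B : Type u} [CommRing A] [CommRing B] [Algebra A B] {M : Type u} [AddCommGroup M]
  [Module B M] [Module A M] [IsScalarTower A B M]

lemma take_succ_smul_top (fs : List B) (i : ℕ) (hi : i < fs.length) :
    (Ideal.ofList (fs.take (i + 1)) • (⊤ : Submodule B M)) =
      (Ideal.ofList (fs.take i) • (⊤ : Submodule B M)) ⊔ fs[i] • (⊤ : Submodule B M) := by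
  rw [List.take_succ_eq_append_getElem hi, Ideal.ofList_append, Ideal.ofList_singleton,
    Submodule.sup_smul, Submodule.ideal_span_singleton_smul]

lemma exact_aux (fs : List B) (i : ℕ) (hi : i < fs.length) :
    Function.Exact
      (((LinearMap.lsmul B (M ⧸ (Ideal.ofList (fs.take i) • (⊤ : Submodule B M)))) fs[i]).restrictScalars A)
      ((Submodule.factor (show (Ideal.ofList (fs.take i) • (⊤ : Submodule B M)) ≤
        (Ideal.ofList (fs.take (i + 1)) • (⊤ : Submodule B M)) by
          rw [take_succ_smul_top fs i hi]; exact le_sup_left)).restrictScalars A) := by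
  intro x
  obtain ⟨x, rfl⟩ := Submodule.Quotient.mk_surjective _ x
  simp only [LinearMap.coe_restrictScalars, LinearMap.lsmul_apply, Set.mem_range]
  erw [Submodule.factor_mk]
  rw [Submodule.mkQ_apply, Submodule.Quotient.mk_eq_zero, take_succ_smul_top fs i hi,
    Submodule.mem_sup]
  constructor
  · rintro ⟨u, hu, w, hw, rfl⟩
    rw [Submodule.mem_smul_pointwise_iff_exists] at hw
    obtain ⟨y, -, rfl⟩ := hw
    refine ⟨Submodule.Quotient.mk y, ?_⟩
    rw [← Submodule.Quotient.mk_smul, Submodule.Quotient.eq]
    simpa using hu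
  · rintro ⟨y, hy⟩
    obtain ⟨y, rfl⟩ := Submodule.Quotient.mk_surjective _ y
    rw [← Submodule.Quotient.mk_smul, Submodule.Quotient.eq] at hy
    refine ⟨x - fs[i] • y, ?_, fs[i] • y, Submodule.smul_mem_pointwise_smul _ _ _ trivial, by abel⟩
    rw [← neg_sub]
    exact neg_mem hy

end Groth.Agent.Helper2.FlatRegQuot
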