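import Mathlib
import Groth.Agent.Helper2.FlatFibre
import Groth.Agent.Helper2.FlatRegQuot

set_option autoImplicit false
open RingTheory.Sequence Pointwise Function TensorProduct IsLocalRing
universe u v

namespace Groth.Agent.Helper2.FlatFibre2

lemma mk_mem_smul_top_iff {B : Type u} [CommRing B] {M : Type v} [AddCommGroup M] [Module B M]
    (I : Ideal B) (Q : Submodule B M) (x : M) :
    (Submodule.Quotient.mk x : M ⧸ Q) ∈ (I • ⊤ : Submodule B (M ⧸ Q)) ↔
      x ∈ I • (⊤ : Submodule B M) ⊔ Q := by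
  have h : (I • ⊤ : Submodule B (M ⧸ Q)) = Submodule.map Q.mkQ (I • ⊤) := by
    rw [Submodule.map_smul'', Submodule.map_top, Submodule.range_mkQ]
  rw [h, ← Submodule.mkQ_apply, ← Submodule.mem_comap, Submodule.comap_map_mkQ, sup_comm]

variable {A B : Type u} [CommRing A] [CommRing B] [IsLocalRing A] [IsLocalRing B]
  [IsNoetherianRing A] [IsNoetherianRing B] [Algebra A B] [IsLocalHom (algebraMap A B)]
  {M : Type u} [AddCommGroup M] [Module B M] [Module A M] [IsScalarTower A B M]
  [Module.Finite B M]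

lemma fibre_hyp (fs : List B)
    (hreg : IsWeaklyRegular
      (M ⧸ ((maximalIdeal A).map (algebraMap A B) • (⊤ : Submodule B M))) fs)
    (i : ℕ) (hi : i < fs.length)
    (z : M ⧸ (Ideal.ofList (fs.take i) • (⊤ : Submodule B M)))
    (hz : fs[i] • z ∈ ((maximalIdeal A).map (algebraMap A B) • ⊤ :
      Submodule B (M ⧸ (Ideal.ofList (fs.take i) • (⊤ : Submodule B M))))) :
    z ∈ ((maximalIdeal A).map (algebraMap A B) • ⊤ :
      Submodule B (M ⧸ (Ideal.ofList (fs.take i) • (⊤ : Submodule B M)))) := by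
  obtain ⟨z, rfl⟩ := Submodule.Quotient.mk_surjective _ z
  rw [← Submodule.Quotient.mk_smul, mk_mem_smul_top_iff] at hz
  rw [mk_mem_smul_top_iff]
  have h1 := hreg.regular_mod_prev i hi
  have h2 : fs[i] • (Submodule.Quotient.mk (Submodule.Quotient.mk z) :
      (M ⧸ ((maximalIdeal A).map (algebraMap A B) • (⊤ : Submodule B M))) ⧸
        (Ideal.ofList (fs.take i) • ⊤ : Submodule B
          (M ⧸ ((maximalIdeal A).map (algebraMap A B) • (⊤ : Submodule B M))))) = 0 := by
    rw [← Submodule.Quotient.mk_smul, ← Submodule.Quotient.mk_smul,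
      Submodule.Quotient.mk_eq_zero, mk_mem_smul_top_iff, sup_comm]
    exact hz
  have h3 := h1.right_eq_zero_of_smul h2
  rw [Submodule.Quotient.mk_eq_zero, mk_mem_smul_top_iff, sup_comm] at h3
  exact h3

lemma flat_all [Module.Flat A M] (fs : List B)
    (hreg : IsWeaklyRegular
      (M ⧸ ((maximalIdeal A).map (algebraMap A B) • (⊤ : Submodule B M))) fs) :
    ∀ i, i ≤ fs.length →
      Module.Flat A (M ⧸ (Ideal.ofList (fs.take i) • (⊤ : Submodule B M))) := by
  intro i
  induction i with
  | zero =>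
    intro _
    have h0 : (Ideal.ofList (fs.take 0) • (⊤ : Submodule B M)) = ⊥ := by
      rw [List.take_zero, Ideal.ofList_nil, Submodule.bot_smul]
    exact Module.Flat.of_linearEquiv
      ((Submodule.quotEquivOfEqBot _ h0).restrictScalars A)
  | succ i ih =>
    intro hi
    have := ih (Nat.le_of_succ_le hi)
    have hex := Groth.Agent.Helper2.FlatRegQuot.exact_aux (A := B) (M := M) fs i hi
    refine Groth.Agent.Helper2.FlatFibre.flat_quot (A := A) (fs[i])
      (fibre_hyp fs hreg i hi) _ ?_ hex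
    intro x
    obtain ⟨x, rfl⟩ := Submodule.Quotient.mk_surjective _ x
    exact ⟨Submodule.Quotient.mk x, rfl⟩

end Groth.Agent.Helper2.FlatFibre2
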