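import Mathlib
import Groth.Agent.Helper2.ContentIdeal
import Groth.Agent.Helper1.AssTensor

set_option autoImplicit false
open TensorProduct Function LinearMap IsLocalRing
universe u

namespace Groth.Agent.Helper2.InjModMax

open Groth.Agent.Helper2.TorReg Groth.Agent.Helper2.ContentIdeal

section
variable {R : Type u} [CommRing R] [IsLocalRing R] {M N : Type u} [AddCommGroup M] [Module R M]
  [AddCommGroup N] [Module R N]

/-- `V ⊗ u` is injective for `V` killed by the maximal ideal. -/
lemma lTensor_injective_of_killed (u : N →ₗ[R] M)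
    (h : Injective (lTensor (R ⧸ maximalIdeal R) u))
    (V : Type u) [AddCommGroup V] [Module R V]
    (hV : Module.IsTorsionBySet R V (maximalIdeal R)) : Injective (lTensor V u) := by
  let _ := hV.module
  let _ : Field (R ⧸ maximalIdeal R) := Ideal.Quotient.field (maximalIdeal R)
  let ubar : (R ⧸ maximalIdeal R) ⊗[R] N →ₗ[R ⧸ maximalIdeal R] (R ⧸ maximalIdeal R) ⊗[R] M :=
    AlgebraTensorModule.lTensor (R ⧸ maximalIdeal R) (R ⧸ maximalIdeal R) u
  have hubar : Injective ubar := h
  have h2 : Injective (lTensor V ubar) :=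
    Module.Flat.lTensor_preserves_injective_linearMap ubar hubar
  let eN := AlgebraTensorModule.cancelBaseChange R (R ⧸ maximalIdeal R) (R ⧸ maximalIdeal R) V N
  let eM := AlgebraTensorModule.cancelBaseChange R (R ⧸ maximalIdeal R) (R ⧸ maximalIdeal R) V M
  have hnat : ∀ y, lTensor V u (eN y) = eM (lTensor V ubar y) := by
    intro y
    induction y using TensorProduct.induction_on with
    | zero => simp
    | add a b ha hb => simp only [map_add, ha, hb]
    | tmul v w =>
      induction w using TensorProduct.induction_on with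
      | zero => simp
      | add a b ha hb => simp only [tmul_add, map_add, ha, hb]
      | tmul a n => simp [eN, eM, ubar]
  rw [injective_iff_map_eq_zero]
  intro x hx
  have h1 : lTensor V ubar (eN.symm x) = 0 := by
    apply eM.injective
    rw [← hnat, LinearEquiv.apply_symm_apply, hx, map_zero]
  have := (injective_iff_map_eq_zero _).1 h2 _ h1
  simpa using this


lemma one_tmul_eq_zero_iff (𝔟 : Ideal R) (P : Type u) [AddCommGroup P] [Module R P] (z : P) :
    (Ideal.Quotient.mk 𝔟 1 : R ⧸ 𝔟) ⊗ₜ[R] z = 0 ↔ z ∈ (𝔟 • ⊤ : Submodule R P) := by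
  rw [← (TensorProduct.quotTensorEquivQuotSMul P 𝔟).map_eq_zero_iff,
    TensorProduct.quotTensorEquivQuotSMul_mk_tmul, one_smul, Submodule.Quotient.mk_eq_zero]

/-- key step -/
lemma mem_smul_of_map_mem [Module.Flat R M] (u : N →ₗ[R] M)
    (h : Injective (lTensor (R ⧸ maximalIdeal R) u))
    (𝔞 𝔟 : Ideal R) (hab : maximalIdeal R * 𝔞 ≤ 𝔟) (z : N)
    (hz : z ∈ (𝔞 • ⊤ : Submodule R N)) (huz : u z ∈ (𝔟 • ⊤ : Submodule R M)) :
    z ∈ (𝔟 • ⊤ : Submodule R N) := by
  let V : Submodule R (R ⧸ 𝔟) := Submodule.map (𝔟.mkQ) 𝔞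
  have hV : Module.IsTorsionBySet R V (maximalIdeal R) := by
    rintro ⟨v, hv⟩ ⟨r, hr⟩
    obtain ⟨a, ha, rfl⟩ := hv
    ext
    show r • (𝔟.mkQ a) = 0
    rw [← map_smul, Submodule.mkQ_apply, Submodule.Quotient.mk_eq_zero]
    exact hab (Ideal.mul_mem_mul hr ha)
  have hinjV := lTensor_injective_of_killed u h V hV
  have hex : ∀ z' : N, z' ∈ (𝔞 • ⊤ : Submodule R N) →
      ∃ zt : V ⊗[R] N, rTensor N V.subtype zt = (Ideal.Quotient.mk 𝔟 1 : R ⧸ 𝔟) ⊗ₜ[R] z' := by
    intro z' hz'
    induction hz' using Submodule.smul_induction_on' with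
    | smul a ha n hn =>
      refine ⟨(⟨𝔟.mkQ a, ⟨a, ha, rfl⟩⟩ : V) ⊗ₜ n, ?_⟩
      rw [LinearMap.rTensor_tmul, ← TensorProduct.smul_tmul]
      congr 1
      show Ideal.Quotient.mk 𝔟 a = a • Ideal.Quotient.mk 𝔟 1
      rw [Algebra.smul_def, Ideal.Quotient.algebraMap_eq, ← map_mul, mul_one]
    | add x hx y hy hx' hy' =>
      obtain ⟨x1, h1⟩ := hx'
      obtain ⟨y1, h2⟩ := hy'
      exact ⟨x1 + y1, by rw [map_add, h1, h2, TensorProduct.tmul_add]⟩
  obtain ⟨zt, hzt⟩ := hex z hz
  have hinjM : Injective (rTensor M V.subtype) :=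
    Module.Flat.rTensor_preserves_injective_linearMap V.subtype Subtype.val_injective
  have h0 : lTensor V u zt = 0 := by
    apply hinjM
    rw [map_zero, ← LinearMap.comp_apply, LinearMap.rTensor_comp_lTensor,
      ← LinearMap.lTensor_comp_rTensor, LinearMap.comp_apply, hzt, LinearMap.lTensor_tmul]
    exact (one_tmul_eq_zero_iff 𝔟 M (u z)).2 huz
  have hzt0 : zt = 0 := (injective_iff_map_eq_zero _).1 hinjV zt h0
  rw [hzt0, map_zero] at hzt
  exact (one_tmul_eq_zero_iff 𝔟 N z).1 hzt.symm

end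


section main

open Groth.Agent.Helper1.AssTensor in
/-- `u⁻¹(IM) = IN`. -/
theorem mem_smul_top_of_map_mem {R : Type u} (S : Type u) [CommRing R] [CommRing S] [IsLocalRing R]
    [IsLocalRing S] [IsNoetherianRing S] [Algebra R S] [IsLocalHom (algebraMap R S)]
    {M N : Type u} [AddCommGroup M] [Module R M] [Module.Flat R M]
    [AddCommGroup N] [Module R N] [Module S N] [IsScalarTower R S N] [Module.Finite S N]
    (u : N →ₗ[R] M)
    (h : Injective (lTensor (R ⧸ maximalIdeal R) u)) (I : Ideal R) (x : N)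
    (hx : u x ∈ (I • ⊤ : Submodule R M)) : x ∈ (I • ⊤ : Submodule R N) := by
  have hmapI : ∀ y : N, y ∈ (I • ⊤ : Submodule R N) → u y ∈ (I • ⊤ : Submodule R M) := by
    intro y hy
    induction hy using Submodule.smul_induction_on' with
    | smul a ha n hn => rw [map_smul]; exact Submodule.smul_mem_smul ha trivial
    | add x hx y hy hx' hy' => rw [map_add]; exact add_mem hx' hy'
  have key : ∀ n : ℕ, x ∈ (I • ⊤ ⊔ maximalIdeal R ^ n • ⊤ : Submodule R N) := by
    intro n
    induction n with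
    | zero => simp
    | succ n ih =>
      obtain ⟨y, hy, z, hz, hyz⟩ := Submodule.mem_sup.1 ih
      have huz : u z ∈ (I • ⊤ : Submodule R M) := by
        have : u z = u x - u y := by rw [← hyz, map_add]; abel
        rw [this]
        exact sub_mem hx (hmapI y hy)
      have hz' := mem_smul_of_map_mem u h (maximalIdeal R ^ n) (I ⊔ maximalIdeal R ^ (n + 1))
        (by rw [pow_succ']; exact le_sup_right) z hz
        (Submodule.smul_mono_left le_sup_left huz)
      rw [Submodule.sup_smul] at hz'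
      rw [← hyz]
      exact add_mem (Submodule.mem_sup_left hy) hz'
  -- Krull
  set N' : Submodule S N := (I.map (algebraMap R S) • ⊤ : Submodule S N) with hN'
  set J : Ideal S := (maximalIdeal R).map (algebraMap R S) with hJ
  have hJle : J ≤ Ideal.jacobson ⊥ := by
    refine le_trans ?_ (IsLocalRing.maximalIdeal_le_jacobson _)
    rw [hJ, Ideal.map_le_iff_le_comap]
    intro r hr
    exact (mem_maximalIdeal _).2 (fun hu => (mem_maximalIdeal r).1 hr (isUnit_of_map_unit _ r hu))
  have hkrull := Ideal.iInf_pow_smul_eq_bot_of_le_jacobson (M := N ⧸ N') J hJle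
  have hxbar : (Submodule.Quotient.mk x : N ⧸ N') ∈ (⨅ i : ℕ, J ^ i • ⊤ : Submodule S (N ⧸ N')) := by
    rw [Submodule.mem_iInf]
    intro n
    obtain ⟨y, hy, z, hz, hyz⟩ := Submodule.mem_sup.1 (key n)
    have hy0 : (Submodule.Quotient.mk y : N ⧸ N') = 0 := by
      rw [Submodule.Quotient.mk_eq_zero, hN', mem_map_smul_top_iff]
      exact hy
    have hzS : z ∈ (J ^ n • ⊤ : Submodule S N) := by
      rw [hJ, ← Ideal.map_pow, mem_map_smul_top_iff]
      exact hz
    rw [← hyz, Submodule.Quotient.mk_add, hy0, zero_add]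
    have : (J ^ n • ⊤ : Submodule S N).map N'.mkQ ≤ (J ^ n • ⊤ : Submodule S (N ⧸ N')) := by
      rw [Submodule.map_smul'']
      exact Submodule.smul_mono le_rfl le_top
    exact this ⟨z, hzS, rfl⟩
  rw [hkrull, Submodule.mem_bot, Submodule.Quotient.mk_eq_zero, hN', mem_map_smul_top_iff] at hxbar
  exact hxbar

end main

end Groth.Agent.Helper2.InjModMax
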