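import Mathlib

namespace Groth.Agent.Helper2.KRLoc

open Function

universe u

variable {S : Type*} [CommRing S] (Q : Ideal S) [Q.IsPrime]

/-- `N` vanishes after localizing at `Q`, elementwise. -/
def LocZero (N : Type*) [AddCommGroup N] [Module S N] : Prop :=
  ∀ z : N, ∃ s : S, s ∉ Q ∧ s • z = 0

variable {Q}

/-- Nakayama, elementwise localized form. -/
theorem locZero_of_smul_surj {N : Type*} [AddCommGroup N] [Module S N] [Module.Finite S N]
    (f : S) (hf : f ∈ Q)
    (h : ∀ y : N, ∃ s : S, s ∉ Q ∧ ∃ x : N, s • y = f • x) : LocZero Q N := by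
  let S' := Localization.AtPrime Q
  let N' := LocalizedModule Q.primeCompl N
  have hfm : algebraMap S S' f ∈ IsLocalRing.maximalIdeal S' :=
    (IsLocalization.AtPrime.to_map_mem_maximal_iff S' Q f).2 hf
  have h1 : (⊤ : Submodule S' N') ≤ (IsLocalRing.maximalIdeal S') • (⊤ : Submodule S' N') := by
    intro z _
    induction z using LocalizedModule.induction_on with
    | h y t =>
      obtain ⟨s, hs, x, hx⟩ := h y
      have : LocalizedModule.mk y t =
          algebraMap S S' f • LocalizedModule.mk x (⟨s, hs⟩ * t : Q.primeCompl) := by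
        rw [algebraMap_smul, LocalizedModule.smul'_mk, ← hx, LocalizedModule.mk_eq]
        refine ⟨1, ?_⟩
        simp only [one_smul, Submonoid.smul_def, mul_smul]
        rw [smul_comm]
      rw [this]
      exact Submodule.smul_mem_smul hfm Submodule.mem_top
  have h2 : (⊤ : Submodule S' N') = ⊥ :=
    Submodule.eq_bot_of_le_smul_of_le_jacobson_bot (IsLocalRing.maximalIdeal S') ⊤
      Module.Finite.fg_top h1 (IsLocalRing.maximalIdeal_le_jacobson _)
  haveI : Subsingleton N' := (Submodule.subsingleton_iff S').1 (subsingleton_of_bot_eq_top h2.symm)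
  intro z
  obtain ⟨r, hr, hrz⟩ := LocalizedModule.subsingleton_iff.1 ‹Subsingleton N'› z
  exact ⟨r, hr, hrz⟩

/-- membership in `J • ⊤` of the localized module, elementwise. -/
theorem mk_mem_smul_top_iff {M : Type*} [AddCommGroup M] [Module S M] (J : Ideal S) (m : M)
    (t : Q.primeCompl) :
    LocalizedModule.mk m t ∈ J • (⊤ : Submodule S (LocalizedModule Q.primeCompl M)) ↔
      ∃ s : S, s ∉ Q ∧ s • m ∈ J • (⊤ : Submodule S M) := by
  constructor
  · intro h
    have key : ∀ x ∈ J • (⊤ : Submodule S (LocalizedModule Q.primeCompl M)),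
        ∃ (m₀ : M) (t₀ : Q.primeCompl), x = LocalizedModule.mk m₀ t₀ ∧
          m₀ ∈ J • (⊤ : Submodule S M) := by
      intro x hx
      refine Submodule.smul_induction_on hx ?_ ?_
      · intro a ha n _
        induction n using LocalizedModule.induction_on with
        | h n t' =>
          exact ⟨a • n, t', LocalizedModule.smul'_mk a n t',
            Submodule.smul_mem_smul ha Submodule.mem_top⟩
      · rintro x y ⟨m₁, t₁, rfl, h₁⟩ ⟨m₂, t₂, rfl, h₂⟩
        refine ⟨t₂ • m₁ + t₁ • m₂, t₁ * t₂, LocalizedModule.mk_add_mk, ?_⟩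
        exact Submodule.add_mem _ (Submodule.smul_mem _ _ h₁) (Submodule.smul_mem _ _ h₂)
    obtain ⟨m₀, t₀, heq, hm₀⟩ := key _ h
    rw [LocalizedModule.mk_eq] at heq
    obtain ⟨u, hu⟩ := heq
    refine ⟨(u * t₀ : Q.primeCompl), (u * t₀).2, ?_⟩
    have : ((u * t₀ : Q.primeCompl) : S) • m = (u : S) • (t : S) • m₀ := by
      have := hu
      simp only [Submonoid.smul_def] at this
      rw [Submonoid.coe_mul, mul_smul, this]
    rw [this]
    exact Submodule.smul_mem _ _ (Submodule.smul_mem _ _ hm₀)
  · rintro ⟨s, hs, hsm⟩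
    have h1 : LocalizedModule.mk m t =
        LocalizedModule.mk (s • m) (⟨s, hs⟩ * t : Q.primeCompl) := by
      rw [LocalizedModule.mk_eq]
      refine ⟨1, ?_⟩
      simp only [one_smul, Submonoid.smul_def, mul_smul]
      rw [smul_comm]
    rw [h1]
    have key : ∀ x ∈ J • (⊤ : Submodule S M), ∀ t' : Q.primeCompl,
        LocalizedModule.mk x t' ∈ J • (⊤ : Submodule S (LocalizedModule Q.primeCompl M)) := by
      intro x hx
      refine Submodule.smul_induction_on hx ?_ ?_
      · intro a ha n _ t'
        rw [← LocalizedModule.smul'_mk]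
        exact Submodule.smul_mem_smul ha Submodule.mem_top
      · intro x y hx hy t'
        have : LocalizedModule.mk (x + y) t' = LocalizedModule.mk x t' + LocalizedModule.mk y t' := by
          rw [LocalizedModule.mk_add_mk, LocalizedModule.mk_eq]
          refine ⟨1, ?_⟩
          simp only [one_smul, Submonoid.smul_def, mul_smul, smul_add]
        rw [this]
        exact Submodule.add_mem _ (hx t') (hy t')
    exact key _ hsm _

end Groth.Agent.Helper2.KRLoc
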