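import Mathlib
import Groth.Prelude
import Groth.Agent.S0393
import Groth.Agent.Helper2.FlatDescCore
import Groth.Agent.Helper2.KRLoc
import Groth.Agent.Helper2.InjModMax

set_option autoImplicit false
open Function TensorProduct LinearMap IsLocalRing
universe u

namespace Groth.Agent.Helper2.InjFlatN

open Groth.Agent.Helper2.FlatDescCore

variable {D : Type u} [CommRing D] [IsLocalRing D]
  {P : Type u} [CommRing P] [Algebra D P] [IsNoetherianRing P] (q : Ideal P) [q.IsPrime]
  {M N : Type u} [AddCommGroup M] [Module P M] [Module D M] [IsScalarTower D P M]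
  [AddCommGroup N] [Module P N] [Module D N] [IsScalarTower D P N] [Module.Finite P M]

omit [IsNoetherianRing P] in
lemma isLocalHom_of_comap (hq : q.comap (algebraMap D P) = maximalIdeal D) :
    IsLocalHom (algebraMap D (Localization.AtPrime q)) := by
  constructor
  intro a ha
  by_contra hna
  have h1 : a ∈ maximalIdeal D := (mem_maximalIdeal a).2 hna
  rw [← hq, Ideal.mem_comap] at h1
  rw [IsScalarTower.algebraMap_apply D P (Localization.AtPrime q)] at ha
  have h2 := (IsLocalization.AtPrime.isUnit_to_map_iff (Localization.AtPrime q) q _).1 ha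
  exact h2 h1

variable (D) in
/-- the localized map, `D`-linear -/
noncomputable def locMap (u : M →ₗ[P] N) :
    LocalizedModule q.primeCompl M →ₗ[D] LocalizedModule q.primeCompl N :=
  (LocalizedModule.map q.primeCompl u).restrictScalars D

omit [IsLocalRing D] [IsNoetherianRing P] [Module.Finite P M] in
lemma locMap_mk (u : M →ₗ[P] N) (m : M) (s : q.primeCompl) :
    locMap D q u (LocalizedModule.mk m s) = LocalizedModule.mk (u m) s := by
  simp [locMap, LocalizedModule.map_mk]

lemma fibre_injective (u : M →ₗ[P] N)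
    (hb : ∀ x : M, (∃ s : P, s ∉ q ∧ s • u x ∈
        ((maximalIdeal D).map (algebraMap D P)) • (⊤ : Submodule P N)) →
      ∃ s : P, s ∉ q ∧ s • x ∈ ((maximalIdeal D).map (algebraMap D P)) • (⊤ : Submodule P M)) :
    Injective (lTensor (D ⧸ maximalIdeal D) (locMap D q u)) := by
  rw [injective_iff_map_eq_zero]
  intro z hz
  obtain ⟨e, rfl⟩ : ∃ e : LocalizedModule q.primeCompl M,
      (Ideal.Quotient.mk (maximalIdeal D) 1) ⊗ₜ[D] e = z := by
    obtain ⟨e', he'⟩ := (TensorProduct.quotTensorEquivQuotSMul
      (LocalizedModule q.primeCompl M) (maximalIdeal D)).symm.surjective z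
    obtain ⟨e, rfl⟩ := Submodule.Quotient.mk_surjective _ e'
    refine ⟨e, ?_⟩
    rw [← he', TensorProduct.quotTensorEquivQuotSMul_symm_mk, map_one]
  rw [lTensor_tmul, Groth.Agent.Helper2.InjModMax.one_tmul_eq_zero_iff] at hz
  rw [Groth.Agent.Helper2.InjModMax.one_tmul_eq_zero_iff]
  induction e using LocalizedModule.induction_on with
  | h x s =>
    rw [locMap_mk] at hz
    have hz' := mem_map_smul_top_of_mem_smul_top (P₀ := P) (maximalIdeal D) _ hz
    rw [Groth.Agent.Helper2.KRLoc.mk_mem_smul_top_iff] at hz'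
    obtain ⟨t, ht, htx⟩ := hb x hz'
    have h3 : LocalizedModule.mk x s ∈ ((maximalIdeal D).map (algebraMap D P)) •
        (⊤ : Submodule P (LocalizedModule q.primeCompl M)) :=
      (Groth.Agent.Helper2.KRLoc.mk_mem_smul_top_iff _ _ _).2 ⟨t, ht, htx⟩
    exact mem_smul_top_of_mem_map_smul_top P (maximalIdeal D) _ h3

/-- **Noetherian stage**: injectivity on the fibre at `q` gives injectivity at `q` and flatness of
the cokernel at `q`. -/
theorem noeth_stage (hq : q.comap (algebraMap D P) = maximalIdeal D) (u : M →ₗ[P] N)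
    (hflat : Module.Flat D (LocalizedModule q.primeCompl N))
    (hb : ∀ x : M, (∃ s : P, s ∉ q ∧ s • u x ∈
        ((maximalIdeal D).map (algebraMap D P)) • (⊤ : Submodule P N)) →
      ∃ s : P, s ∉ q ∧ s • x ∈ ((maximalIdeal D).map (algebraMap D P)) • (⊤ : Submodule P M)) :
    (∀ x : M, (∃ s : P, s ∉ q ∧ s • u x = 0) → ∃ s : P, s ∉ q ∧ s • x = 0) ∧
      Module.Flat D (LocalizedModule q.primeCompl (N ⧸ LinearMap.range u)) := by
  haveI := isLocalHom_of_comap q hq
  obtain ⟨hinj, hfl⟩ := Groth.Agent.S0393.result (R := D) (S := Localization.AtPrime q)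
    (locMap D q u) (fibre_injective q u hb)
  refine ⟨?_, ?_⟩
  · rintro x ⟨s, hs, hsx⟩
    have h0 : locMap D q u (LocalizedModule.mk x 1) = 0 := by
      rw [locMap_mk, ← LocalizedModule.zero_mk 1, LocalizedModule.mk_eq]
      refine ⟨⟨s, hs⟩, ?_⟩
      simp only [Submonoid.smul_def, smul_zero, Submonoid.coe_one, one_smul]
      exact hsx
    have h1 : LocalizedModule.mk x (1 : q.primeCompl) = 0 := hinj (h0.trans (map_zero _).symm)
    rw [← LocalizedModule.zero_mk 1, LocalizedModule.mk_eq] at h1
    obtain ⟨c, hc⟩ := h1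
    refine ⟨c, c.2, ?_⟩
    simpa [Submonoid.smul_def] using hc
  · set π : N →ₗ[P] N ⧸ LinearMap.range u := (LinearMap.range u).mkQ with hπ
    have hex : Exact (LocalizedModule.map q.primeCompl u) (LocalizedModule.map q.primeCompl π) :=
      LocalizedModule.map_exact q.primeCompl u π (LinearMap.exact_map_mkQ_range u)
    have hsurj : Surjective ((LocalizedModule.map q.primeCompl π).restrictScalars D) :=
      LocalizedModule.map_surjective q.primeCompl π (LinearMap.range u).mkQ_surjective
    have hker : LinearMap.ker ((LocalizedModule.map q.primeCompl π).restrictScalars D) =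
        LinearMap.range (locMap D q u) := by
      ext y
      rw [LinearMap.mem_ker, LinearMap.restrictScalars_apply, hex y]
      rfl
    exact Module.Flat.of_linearEquiv
      ((LinearMap.quotKerEquivOfSurjective _ hsurj).symm ≪≫ₗ Submodule.quotEquivOfEq _ _ hker)

end Groth.Agent.Helper2.InjFlatN
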