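import Mathlib
import Groth.Prelude
import Groth.Agent.Helper2.FlatDescPoly
import Groth.Agent.Helper2.FlatDescApp
import Groth.Agent.Helper2.FlatFibre2
import Groth.Agent.Helper2.InjFlatN

set_option autoImplicit false
open Function TensorProduct LinearMap IsLocalRing
universe u

namespace Groth.Agent.Helper2.InjFlatP

open Groth.Agent.Helper2.FlatDescCore Groth.Agent.Helper2.FlatDescPoly
  Groth.Agent.Helper2.FlatDescApp

attribute [local instance] MvPolynomial.algebraMvPolynomial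

section Defs
variable {n t1 t2 : ℕ} {R₀ : Type u} [CommRing R₀] (w : Fin t1 → Fm n t2 R₀)

/-- the matrix map over `B` -/
noncomputable def UB (B : Type u) [CommRing B] [Algebra R₀ B] :
    Fm n t1 B →ₗ[MvPolynomial (Fin n) B] Fm n t2 B :=
  Fintype.linearCombination (MvPolynomial (Fin n) B) (fun j => fmap R₀ B (w j))

lemma UB_apply (B : Type u) [CommRing B] [Algebra R₀ B] (v : Fm n t1 B) :
    UB w B v = ∑ j, v j • fmap R₀ B (w j) := by
  rw [UB, Fintype.linearCombination_apply]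

lemma UB_fmap (B C : Type u) [CommRing B] [CommRing C] [Algebra R₀ B] [Algebra B C] [Algebra R₀ C]
    [IsScalarTower R₀ B C] (v : Fm n t1 B) :
    UB w C (fmap B C v) = fmap B C (UB w B v) := by
  rw [UB_apply, UB_apply, map_sum]
  refine Finset.sum_congr rfl (fun j _ => ?_)
  rw [fmap_smul', fmap_comp, fmap_apply]

lemma UB_fmap₀ (B : Type u) [CommRing B] [Algebra R₀ B] (k : Fm n t1 R₀) :
    UB w B (fmap R₀ B k) = fmap R₀ B (∑ j, k j • w j) := by
  rw [UB_apply, map_sum]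
  refine Finset.sum_congr rfl (fun j _ => ?_)
  rw [fmap_smul', fmap_apply]

lemma range_UB (B : Type u) [CommRing B] [Algebra R₀ B] :
    LinearMap.range (UB w B) = KB R₀ B (Submodule.span (MvPolynomial (Fin n) R₀) (Set.range w)) := by
  rw [UB, Fintype.range_linearCombination]
  unfold KB
  apply le_antisymm
  · rw [Submodule.span_le]
    rintro _ ⟨j, rfl⟩
    exact Submodule.subset_span ⟨w j, Submodule.subset_span ⟨j, rfl⟩, rfl⟩
  · rw [Submodule.span_le]
    rintro _ ⟨k, hk, rfl⟩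
    rw [SetLike.mem_coe] at hk ⊢
    refine Submodule.span_induction ?_ ?_ ?_ ?_ hk
    · rintro _ ⟨j, rfl⟩
      exact Submodule.subset_span ⟨j, rfl⟩
    · rw [map_zero]; exact zero_mem _
    · intro x y _ _ hx hy
      rw [map_add]; exact add_mem hx hy
    · intro c x _ hx
      rw [fmap_smul']
      exact Submodule.smul_mem _ _ hx

lemma KB_sup (B : Type u) [CommRing B] [Algebra R₀ B] {t : ℕ}
    (K K' : Submodule (MvPolynomial (Fin n) R₀) (Fm n t R₀)) :
    KB R₀ B (K ⊔ K') = KB R₀ B K ⊔ KB R₀ B K' := by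
  unfold KB
  apply le_antisymm
  · rw [Submodule.span_le]
    rintro _ ⟨k, hk, rfl⟩
    obtain ⟨a, ha, b, hb, rfl⟩ := Submodule.mem_sup.1 hk
    rw [map_add]
    exact add_mem (Submodule.mem_sup_left (Submodule.subset_span ⟨a, ha, rfl⟩))
      (Submodule.mem_sup_right (Submodule.subset_span ⟨b, hb, rfl⟩))
  · rw [sup_le_iff]
    constructor
    · exact Submodule.span_mono (Set.image_mono (fun x hx => Submodule.mem_sup_left hx))
    · exact Submodule.span_mono (Set.image_mono (fun x hx => Submodule.mem_sup_right hx))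

end Defs

section Quot
variable {n t1 t2 : ℕ} {R₀ : Type u} [CommRing R₀]
  (K1 : Submodule (MvPolynomial (Fin n) R₀) (Fm n t1 R₀))
  (K2 : Submodule (MvPolynomial (Fin n) R₀) (Fm n t2 R₀)) (w : Fin t1 → Fm n t2 R₀)
  (hU : ∀ k ∈ K1, ∑ j, k j • w j ∈ K2)
  (B : Type u) [CommRing B] [Algebra R₀ B]

include hU in
lemma UB_mem_KB (y : Fm n t1 B) (hy : y ∈ KB R₀ B K1) : UB w B y ∈ KB R₀ B K2 := by
  unfold KB at hy
  refine Submodule.span_induction ?_ ?_ ?_ ?_ hy
  · rintro _ ⟨k, hk, rfl⟩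
    rw [UB_fmap₀]
    exact Submodule.subset_span ⟨_, hU k hk, rfl⟩
  · rw [map_zero]; exact zero_mem _
  · intro x y _ _ hx hy
    rw [map_add]; exact add_mem hx hy
  · intro c x _ hx
    rw [map_smul]; exact Submodule.smul_mem _ _ hx

/-- the induced map on the quotients -/
noncomputable def uB : (Fm n t1 B ⧸ KB R₀ B K1) →ₗ[MvPolynomial (Fin n) B]
    (Fm n t2 B ⧸ KB R₀ B K2) :=
  Submodule.mapQ _ _ (UB w B) (fun y hy => UB_mem_KB K1 K2 w hU B y hy)

@[simp] lemma uB_mk (x : Fm n t1 B) :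
    uB K1 K2 w hU B (Submodule.Quotient.mk x) = Submodule.Quotient.mk (UB w B x) := rfl

/-- the module defining the cokernel -/
noncomputable abbrev K3 : Submodule (MvPolynomial (Fin n) R₀) (Fm n t2 R₀) :=
  K2 ⊔ Submodule.span (MvPolynomial (Fin n) R₀) (Set.range w)

lemma KB_K3 : KB R₀ B (K3 K2 w) = KB R₀ B K2 ⊔ LinearMap.range (UB w B) := by
  rw [K3, KB_sup, range_UB]

lemma range_uB : LinearMap.range (uB K1 K2 w hU B) =
    (KB R₀ B (K3 K2 w)).map (KB R₀ B K2).mkQ := by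
  rw [KB_K3, Submodule.map_sup, uB, Submodule.mapQ, Submodule.range_liftQ, LinearMap.range_comp]
  have : Submodule.map (KB R₀ B K2).mkQ (KB R₀ B K2) = ⊥ := by
    rw [← LinearMap.le_ker_iff_map, Submodule.ker_mkQ]
  rw [this, bot_sup_eq]

/-- the cokernel of `uB` is `F₂ ⧸ K₃`. -/
noncomputable def cokerEquiv :
    ((Fm n t2 B ⧸ KB R₀ B K2) ⧸ LinearMap.range (uB K1 K2 w hU B)) ≃ₗ[MvPolynomial (Fin n) B]
      (Fm n t2 B ⧸ KB R₀ B (K3 K2 w)) :=
  Submodule.quotEquivOfEq _ _ (range_uB K1 K2 w hU B) ≪≫ₗ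
    Submodule.quotientQuotientEquivQuotient (KB R₀ B K2) (KB R₀ B (K3 K2 w))
      (by rw [KB_K3]; exact le_sup_left)

end Quot

section Noeth
variable {n t1 t2 : ℕ} {R₀ : Type u} [CommRing R₀]
  (K1 : Submodule (MvPolynomial (Fin n) R₀) (Fm n t1 R₀))
  (K2 : Submodule (MvPolynomial (Fin n) R₀) (Fm n t2 R₀)) (w : Fin t1 → Fm n t2 R₀)
  (hU : ∀ k ∈ K1, ∑ j, k j • w j ∈ K2)
  (D : Type u) [CommRing D] [IsLocalRing D] [IsNoetherianRing D] [Algebra R₀ D]
  (q : Ideal (MvPolynomial (Fin n) D)) [q.IsPrime]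

include hU in
/-- **Noetherian stage, polynomial form.** -/
theorem poly_noeth (hq : q.comap (algebraMap D (MvPolynomial (Fin n) D)) = maximalIdeal D)
    (hflat : Module.Flat D (LocalizedModule q.primeCompl (Fm n t2 D ⧸ KB R₀ D K2)))
    (hb : ∀ x : Fm n t1 D, (∃ s : MvPolynomial (Fin n) D, s ∉ q ∧ s • UB w D x ∈
        ((maximalIdeal D).map (algebraMap D (MvPolynomial (Fin n) D))) • ⊤ ⊔ KB R₀ D K2) →
      ∃ s : MvPolynomial (Fin n) D, s ∉ q ∧ s • x ∈
        ((maximalIdeal D).map (algebraMap D (MvPolynomial (Fin n) D))) • ⊤ ⊔ KB R₀ D K1) :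
    (∀ x : Fm n t1 D, (∃ s : MvPolynomial (Fin n) D, s ∉ q ∧ s • UB w D x ∈ KB R₀ D K2) →
      ∃ s : MvPolynomial (Fin n) D, s ∉ q ∧ s • x ∈ KB R₀ D K1) ∧
    Module.Flat D (LocalizedModule q.primeCompl (Fm n t2 D ⧸ KB R₀ D (K3 K2 w))) := by
  have hb' : ∀ m : Fm n t1 D ⧸ KB R₀ D K1,
      (∃ s : MvPolynomial (Fin n) D, s ∉ q ∧ s • uB K1 K2 w hU D m ∈
        ((maximalIdeal D).map (algebraMap D (MvPolynomial (Fin n) D))) •
          (⊤ : Submodule (MvPolynomial (Fin n) D) (Fm n t2 D ⧸ KB R₀ D K2))) →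
      ∃ s : MvPolynomial (Fin n) D, s ∉ q ∧ s • m ∈
        ((maximalIdeal D).map (algebraMap D (MvPolynomial (Fin n) D))) •
          (⊤ : Submodule (MvPolynomial (Fin n) D) (Fm n t1 D ⧸ KB R₀ D K1)) := by
    intro m
    obtain ⟨x, rfl⟩ := Submodule.Quotient.mk_surjective _ m
    rintro ⟨s, hs, hsx⟩
    rw [uB_mk, ← Submodule.Quotient.mk_smul, ← map_smul,
      Groth.Agent.Helper2.FlatFibre2.mk_mem_smul_top_iff] at hsx
    obtain ⟨s', hs', hx'⟩ := hb x ⟨s, hs, by rw [← map_smul]; exact hsx⟩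
    refine ⟨s', hs', ?_⟩
    rw [← Submodule.Quotient.mk_smul, Groth.Agent.Helper2.FlatFibre2.mk_mem_smul_top_iff]
    exact hx'
  obtain ⟨h1, h2⟩ := Groth.Agent.Helper2.InjFlatN.noeth_stage q hq (uB K1 K2 w hU D) hflat hb'
  refine ⟨?_, ?_⟩
  · rintro x ⟨s, hs, hsx⟩
    obtain ⟨s', hs', hx'⟩ := h1 (Submodule.Quotient.mk x) ⟨s, hs, by
      rw [uB_mk, ← Submodule.Quotient.mk_smul, Submodule.Quotient.mk_eq_zero]; exact hsx⟩
    refine ⟨s', hs', ?_⟩
    rw [← Submodule.Quotient.mk_smul, Submodule.Quotient.mk_eq_zero] at hx'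
    exact hx'
  · refine flat_localized_transfer ((cokerEquiv K1 K2 w hU D).restrictScalars D)
      q.primeCompl q.primeCompl (fun s hs => ⟨s, hs, fun m => ?_⟩) h2
    rw [LinearEquiv.restrictScalars_apply, LinearEquiv.restrictScalars_apply, map_smul]

end Noeth

end Groth.Agent.Helper2.InjFlatP
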