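import Mathlib

set_option autoImplicit false
open Function LinearMap
universe u

namespace Groth.Agent.Helper2.ExtKill

variable {R : Type u} [CommRing R] (𝔪 : Ideal R) [𝔪.IsMaximal]
  {V W Z : Type u} [AddCommGroup V] [Module R V] [AddCommGroup W] [Module R W]
  [AddCommGroup Z] [Module R Z]

lemma isSemisimpleModule_of_killed (hW : Module.IsTorsionBySet R W 𝔪) : IsSemisimpleModule R W := by
  letI : Field (R ⧸ 𝔪) := Ideal.Quotient.field 𝔪
  letI := hW.module
  rw [← hW.isSemisimpleModule_iff]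
  infer_instance

/-- extension of linear maps into a module killed by a maximal ideal -/
theorem exists_extend (hW : Module.IsTorsionBySet R W 𝔪) (φ : V →ₗ[R] W) (π : V →ₗ[R] Z)
    (h : LinearMap.ker φ ≤ LinearMap.ker π) : ∃ l : W →ₗ[R] Z, l ∘ₗ φ = π := by
  haveI := isSemisimpleModule_of_killed 𝔪 hW
  let ι : (V ⧸ LinearMap.ker φ) →ₗ[R] W := (LinearMap.ker φ).liftQ φ le_rfl
  have hι : Injective ι := by
    rw [← LinearMap.ker_eq_bot]
    exact Submodule.ker_liftQ_eq_bot _ _ _ le_rfl
  let πb : (V ⧸ LinearMap.ker φ) →ₗ[R] Z := (LinearMap.ker φ).liftQ π h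
  obtain ⟨l, hl⟩ := IsSemisimpleModule.extension_property ι hι πb
  refine ⟨l, ?_⟩
  ext v
  have := congrArg (fun f => f (Submodule.Quotient.mk v)) hl
  simpa [ι, πb] using this

end Groth.Agent.Helper2.ExtKill
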