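import Mathlib
import Groth.Prelude
import Groth.Agent.Helper2.InjFlatP
import Groth.Agent.Helper2.ExtKill

set_option autoImplicit false
open Function TensorProduct LinearMap IsLocalRing
universe u

namespace Groth.Agent.Helper2.InjFlatT

open Groth.Agent.Helper2.FlatDescCore Groth.Agent.Helper2.FlatDescPoly
  Groth.Agent.Helper2.FlatDescApp Groth.Agent.Helper2.InjFlatP

attribute [local instance] MvPolynomial.algebraMvPolynomial

section Transfer
variable {n t : ℕ} {R₀ D A : Type u} [CommRing R₀] [CommRing D] [CommRing A] [IsLocalRing D]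
  [IsLocalRing A] [Algebra R₀ D] [Algebra D A] [Algebra R₀ A] [IsScalarTower R₀ D A]
  [IsLocalHom (algebraMap D A)]
  (K : Submodule (MvPolynomial (Fin n) R₀) (Fm n t R₀))
  (q : Ideal (MvPolynomial (Fin n) A)) [q.IsPrime]

omit [IsLocalRing D] [IsLocalRing A] [IsLocalHom (algebraMap D A)] [q.IsPrime] in
/-- `fmap D A` is a base change along `D → A`. -/
lemma isBaseChange_fmap_base :
    IsBaseChange A ((fmap (n := n) (t := t) D A).restrictScalars D) := by
  refine IsBaseChange.of_equiv (theta (fmap D A) (isBaseChange_fmap D A)) ?_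
  intro x
  rw [theta_tmul, one_smul]
  rfl

include q in
lemma comap_eq_maximalIdeal (hq : q.comap (algebraMap A (MvPolynomial (Fin n) A)) = maximalIdeal A) :
    (q.comap (algebraMap (MvPolynomial (Fin n) D) (MvPolynomial (Fin n) A))).comap
      (algebraMap D (MvPolynomial (Fin n) D)) = maximalIdeal D := by
  rw [Ideal.comap_comap, ← IsScalarTower.algebraMap_eq,
    IsScalarTower.algebraMap_eq D A (MvPolynomial (Fin n) A), ← Ideal.comap_comap, hq]
  exact IsLocalRing.maximalIdeal_comap (algebraMap D A)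

/-- **Transfer of the fibre condition** from `A` down to `D`. -/
theorem fibre_transfer
    (hq : q.comap (algebraMap A (MvPolynomial (Fin n) A)) = maximalIdeal A) (x' : Fm n t D)
    (h : ∃ s : MvPolynomial (Fin n) A, s ∉ q ∧ s • fmap D A x' ∈
      ((maximalIdeal A).map (algebraMap A (MvPolynomial (Fin n) A))) • ⊤ ⊔ KB R₀ A K) :
    ∃ s' : MvPolynomial (Fin n) D,
      s' ∉ q.comap (algebraMap (MvPolynomial (Fin n) D) (MvPolynomial (Fin n) A)) ∧
      s' • x' ∈ ((maximalIdeal D).map (algebraMap D (MvPolynomial (Fin n) D))) • ⊤ ⊔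
        KB R₀ D K := by
  classical
  by_contra hcon
  push Not at hcon
  obtain ⟨s, hs, hsx⟩ := h
  set q' := q.comap (algebraMap (MvPolynomial (Fin n) D) (MvPolynomial (Fin n) A)) with hq'
  have hq'D := comap_eq_maximalIdeal (D := D) q hq
  set L' : Submodule (MvPolynomial (Fin n) D) (Fm n t D) :=
    ((maximalIdeal D).map (algebraMap D (MvPolynomial (Fin n) D))) • ⊤ ⊔ KB R₀ D K with hL'
  have hcon' : ∀ r : MvPolynomial (Fin n) D, r • x' ∈ L' → r ∈ q' := by
    intro r hr
    by_contra hrq
    exact hcon r hrq hr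
  -- `W'` is killed by the maximal ideal
  have hW : Module.IsTorsionBySet D (Fm n t D ⧸ L') (maximalIdeal D) := by
    intro y a
    obtain ⟨y, rfl⟩ := Submodule.Quotient.mk_surjective _ y
    change (a : D) • (Submodule.Quotient.mk y : Fm n t D ⧸ L') = 0
    rw [← Submodule.Quotient.mk_smul, Submodule.Quotient.mk_eq_zero, ← algebraMap_smul
      (MvPolynomial (Fin n) D) (a : D) y]
    exact Submodule.mem_sup_left
      (Submodule.smul_mem_smul (Ideal.mem_map_of_mem _ a.2) Submodule.mem_top)
  let φ₀ : MvPolynomial (Fin n) D →ₗ[D] (Fm n t D ⧸ L') :=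
    (LinearMap.toSpanSingleton (MvPolynomial (Fin n) D) (Fm n t D ⧸ L')
      (Submodule.Quotient.mk x')).restrictScalars D
  let π₀ : MvPolynomial (Fin n) D →ₗ[D] (MvPolynomial (Fin n) D ⧸ q') :=
    (Submodule.mkQ q').restrictScalars D
  have hker : LinearMap.ker φ₀ ≤ LinearMap.ker π₀ := by
    intro r hr
    rw [LinearMap.mem_ker] at hr ⊢
    change r • (Submodule.Quotient.mk x' : Fm n t D ⧸ L') = 0 at hr
    rw [← Submodule.Quotient.mk_smul, Submodule.Quotient.mk_eq_zero] at hr
    change (Submodule.Quotient.mk r : MvPolynomial (Fin n) D ⧸ q') = 0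
    rw [Submodule.Quotient.mk_eq_zero]
    exact hcon' r hr
  obtain ⟨l', hl'⟩ := Groth.Agent.Helper2.ExtKill.exists_extend (maximalIdeal D) hW φ₀ π₀ hker
  let ψ : (MvPolynomial (Fin n) D ⧸ q') →ₗ[D] (MvPolynomial (Fin n) A ⧸ q) :=
    (Ideal.quotientMapₐ q (IsScalarTower.toAlgHom D (MvPolynomial (Fin n) D)
      (MvPolynomial (Fin n) A)) le_rfl).toLinearMap
  let g : Fm n t D →ₗ[D] (MvPolynomial (Fin n) A ⧸ q) :=
    ψ ∘ₗ l' ∘ₗ (L'.mkQ.restrictScalars D)
  have hbc := isBaseChange_fmap_base (n := n) (t := t) (D := D) (A := A)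
  let Λ : Fm n t A →ₗ[A] (MvPolynomial (Fin n) A ⧸ q) := hbc.lift g
  have hΛ : ∀ y : Fm n t D, Λ (fmap D A y) = g y := fun y => hbc.lift_eq g y
  have hg0 : ∀ y ∈ L', g y = 0 := by
    intro y hy
    change ψ (l' (L'.mkQ y)) = 0
    rw [Submodule.mkQ_apply, (Submodule.Quotient.mk_eq_zero L').2 hy, map_zero, map_zero]
  have hgx : ∀ r : MvPolynomial (Fin n) D, g (r • x') =
      Ideal.Quotient.mk q (algebraMap (MvPolynomial (Fin n) D) (MvPolynomial (Fin n) A) r) := by
    intro r
    have h1 : l' (Submodule.Quotient.mk (r • x')) = π₀ r := by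
      rw [← hl']
      rfl
    change ψ (l' (Submodule.Quotient.mk (r • x'))) = _
    rw [h1]
    rfl
  -- monomial decomposition
  have hmon : ∀ (m : Fin n →₀ ℕ) (a : A) (y : Fm n t D),
      Λ (MvPolynomial.monomial m a • fmap D A y) =
        a • g (MvPolynomial.monomial m (1 : D) • y) := by
    intro m a y
    have : MvPolynomial.monomial m a • fmap D A y =
        a • fmap D A (MvPolynomial.monomial m (1 : D) • y) := by
      rw [fmap_smul', MvPolynomial.map_monomial, map_one, ← smul_assoc,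
        MvPolynomial.smul_monomial, smul_eq_mul, mul_one]
    rw [this, map_smul, hΛ]
  -- evaluation on multiples of `x'`
  have key1 : ∀ c : MvPolynomial (Fin n) A, Λ (c • fmap D A x') = Ideal.Quotient.mk q c := by
    intro c
    induction c using MvPolynomial.induction_on' with
    | monomial m a =>
      rw [hmon, hgx, MvPolynomial.algebraMap_def, MvPolynomial.map_monomial, map_one]
      change a • (Submodule.Quotient.mk (MvPolynomial.monomial m (1 : A)) :
        MvPolynomial (Fin n) A ⧸ q) = _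
      rw [← Submodule.Quotient.mk_smul, MvPolynomial.smul_monomial, smul_eq_mul, mul_one]
      rfl
    | add c₁ c₂ h₁ h₂ => rw [add_smul, map_add, h₁, h₂, map_add]
  -- vanishing on `KB`
  have key2 : ∀ y ∈ KB R₀ A K, ∀ c : MvPolynomial (Fin n) A, Λ (c • y) = 0 := by
    intro y hy
    unfold KB at hy
    refine Submodule.span_induction ?_ ?_ ?_ ?_ hy
    · rintro _ ⟨k, hk, rfl⟩ c
      rw [← fmap_comp R₀ D A k]
      induction c using MvPolynomial.induction_on' with
      | monomial m a =>
        rw [hmon, hg0, smul_zero]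
        exact Submodule.mem_sup_right (Submodule.smul_mem _ _
          (Submodule.subset_span ⟨k, hk, rfl⟩))
      | add c₁ c₂ h₁ h₂ => rw [add_smul, map_add, h₁, h₂, add_zero]
    · intro c; rw [smul_zero, map_zero]
    · intro y₁ y₂ _ _ h₁ h₂ c
      rw [smul_add, map_add, h₁, h₂, add_zero]
    · intro c' y₁ _ h₁ c
      rw [← mul_smul]
      exact h₁ _
  -- vanishing on the fibre part
  have hkillA : ∀ (a : A), a ∈ maximalIdeal A → ∀ z : MvPolynomial (Fin n) A ⧸ q, a • z = 0 := by
    intro a ha z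
    obtain ⟨z, rfl⟩ := Ideal.Quotient.mk_surjective z
    change a • (Submodule.Quotient.mk z : MvPolynomial (Fin n) A ⧸ q) = 0
    rw [← Submodule.Quotient.mk_smul, Submodule.Quotient.mk_eq_zero, Algebra.smul_def]
    refine Ideal.mul_mem_right _ _ ?_
    rw [← hq] at ha
    exact ha
  have key3 : ∀ r ∈ (maximalIdeal A).map (algebraMap A (MvPolynomial (Fin n) A)),
      ∀ y : Fm n t A, Λ (r • y) = 0 := by
    intro r hr
    refine Submodule.span_induction ?_ ?_ ?_ ?_ hr
    · rintro _ ⟨a, ha, rfl⟩ y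
      rw [algebraMap_smul, map_smul]
      exact hkillA a ha _
    · intro y; rw [zero_smul, map_zero]
    · intro r₁ r₂ _ _ h₁ h₂ y
      rw [add_smul, map_add, h₁, h₂, add_zero]
    · intro c r₁ _ h₁ y
      rw [smul_eq_mul, mul_comm, mul_smul]
      exact h₁ _
  have key4 : ∀ y ∈ ((maximalIdeal A).map (algebraMap A (MvPolynomial (Fin n) A))) •
      (⊤ : Submodule (MvPolynomial (Fin n) A) (Fm n t A)), Λ y = 0 := by
    intro y hy
    refine Submodule.smul_induction_on hy ?_ ?_
    · intro r hr y _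
      exact key3 r hr y
    · intro y₁ y₂ h₁ h₂
      rw [map_add, h₁, h₂, add_zero]
  obtain ⟨y₁, hy₁, y₂, hy₂, hsum⟩ := Submodule.mem_sup.1 hsx
  have h0 : Λ (s • fmap D A x') = 0 := by
    rw [← hsum, map_add, key4 y₁ hy₁]
    have := key2 y₂ hy₂ 1
    rw [one_smul] at this
    rw [this, add_zero]
  rw [key1, Ideal.Quotient.eq_zero_iff_mem] at h0
  exact hs h0

end Transfer

end Groth.Agent.Helper2.InjFlatT
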