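import Mathlib
import Groth.Prelude
import Groth.Agent.Helper2.InjFlatP
import Groth.Agent.Helper2.InjFlatT

set_option autoImplicit false
open Function TensorProduct LinearMap IsLocalRing
universe u

namespace Groth.Agent.Helper2.InjFlatS

open Groth.Agent.Helper2.FlatDescCore Groth.Agent.Helper2.FlatDescPoly
  Groth.Agent.Helper2.FlatDescApp Groth.Agent.Helper2.InjFlatP Groth.Agent.Helper2.InjFlatT

attribute [local instance] MvPolynomial.algebraMvPolynomial

section Push
variable {n t : ℕ} {R₀ D A : Type u} [CommRing R₀] [CommRing D] [CommRing A]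
  [Algebra R₀ D] [Algebra D A] [Algebra R₀ A] [IsScalarTower R₀ D A]
  (K : Submodule (MvPolynomial (Fin n) R₀) (Fm n t R₀))

lemma fmap_mem_KB (y : Fm n t D) (hy : y ∈ KB R₀ D K) : fmap D A y ∈ KB R₀ A K := by
  rw [← KB_trans (B := D) (C := A) K]
  exact Submodule.subset_span ⟨y, hy, rfl⟩

omit [Algebra R₀ D] [Algebra R₀ A] in
lemma fmap_mem_smul_top' (J : Ideal D) (J' : Ideal A) (hJ : J.map (algebraMap D A) ≤ J')
    (y : Fm n t D) (hy : y ∈ (J.map (algebraMap D (MvPolynomial (Fin n) D))) •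
      (⊤ : Submodule (MvPolynomial (Fin n) D) (Fm n t D))) :
    fmap D A y ∈ (J'.map (algebraMap A (MvPolynomial (Fin n) A))) •
      (⊤ : Submodule (MvPolynomial (Fin n) A) (Fm n t A)) := by
  refine Submodule.smul_induction_on hy ?_ ?_
  · intro r hr m _
    rw [fmap_smul']
    refine Submodule.smul_mem_smul ?_ Submodule.mem_top
    have h1 : (J.map (algebraMap D (MvPolynomial (Fin n) D))).map
        (algebraMap (MvPolynomial (Fin n) D) (MvPolynomial (Fin n) A)) ≤
        J'.map (algebraMap A (MvPolynomial (Fin n) A)) := by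
      rw [Ideal.map_map, ← IsScalarTower.algebraMap_eq,
        IsScalarTower.algebraMap_eq D A (MvPolynomial (Fin n) A), ← Ideal.map_map]
      exact Ideal.map_mono hJ
    exact h1 (Ideal.mem_map_of_mem _ hr)
  · intro x y hx hy
    rw [map_add]
    exact add_mem hx hy

end Push

section Stage
variable {n t1 t2 : ℕ} {R₀ : Type u} [CommRing R₀]
  (K1 : Submodule (MvPolynomial (Fin n) R₀) (Fm n t1 R₀))
  (K2 : Submodule (MvPolynomial (Fin n) R₀) (Fm n t2 R₀)) (w : Fin t1 → Fm n t2 R₀)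
  (hU : ∀ k ∈ K1, ∑ j, k j • w j ∈ K2)
  {D A : Type u} [CommRing D] [CommRing A] [IsLocalRing D] [IsNoetherianRing D] [IsLocalRing A]
  [Algebra R₀ D] [Algebra D A] [Algebra R₀ A] [IsScalarTower R₀ D A] [IsLocalHom (algebraMap D A)]
  (q : Ideal (MvPolynomial (Fin n) A)) [q.IsPrime]

include hU in
/-- the conclusions at a Noetherian local stage `D → A`. -/
theorem stage_thm (hq : q.comap (algebraMap A (MvPolynomial (Fin n) A)) = maximalIdeal A)
    (hflatD : Module.Flat D (LocalizedModule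
      (q.comap (algebraMap (MvPolynomial (Fin n) D) (MvPolynomial (Fin n) A))).primeCompl
      (Fm n t2 D ⧸ KB R₀ D K2)))
    (hb : ∀ x : Fm n t1 A, (∃ s : MvPolynomial (Fin n) A, s ∉ q ∧ s • UB w A x ∈
        ((maximalIdeal A).map (algebraMap A (MvPolynomial (Fin n) A))) • ⊤ ⊔ KB R₀ A K2) →
      ∃ s : MvPolynomial (Fin n) A, s ∉ q ∧ s • x ∈
        ((maximalIdeal A).map (algebraMap A (MvPolynomial (Fin n) A))) • ⊤ ⊔ KB R₀ A K1) :
    (∀ x : Fm n t1 D, (∃ s : MvPolynomial (Fin n) D,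
        s ∉ q.comap (algebraMap (MvPolynomial (Fin n) D) (MvPolynomial (Fin n) A)) ∧
          s • UB w D x ∈ KB R₀ D K2) →
      ∃ s : MvPolynomial (Fin n) D,
        s ∉ q.comap (algebraMap (MvPolynomial (Fin n) D) (MvPolynomial (Fin n) A)) ∧
          s • x ∈ KB R₀ D K1) ∧
    Module.Flat A (LocalizedModule q.primeCompl (Fm n t2 A ⧸ KB R₀ A (K3 K2 w))) := by
  have hqD := comap_eq_maximalIdeal (D := D) q hq
  have hmax : (maximalIdeal D).map (algebraMap D A) ≤ maximalIdeal A :=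
    IsLocalRing.map_maximalIdeal_le (algebraMap D A)
  have hbD : ∀ x : Fm n t1 D, (∃ s : MvPolynomial (Fin n) D,
        s ∉ q.comap (algebraMap (MvPolynomial (Fin n) D) (MvPolynomial (Fin n) A)) ∧
        s • UB w D x ∈
        ((maximalIdeal D).map (algebraMap D (MvPolynomial (Fin n) D))) • ⊤ ⊔ KB R₀ D K2) →
      ∃ s : MvPolynomial (Fin n) D,
        s ∉ q.comap (algebraMap (MvPolynomial (Fin n) D) (MvPolynomial (Fin n) A)) ∧ s • x ∈
        ((maximalIdeal D).map (algebraMap D (MvPolynomial (Fin n) D))) • ⊤ ⊔ KB R₀ D K1 := by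
    rintro x ⟨s, hs, hsx⟩
    refine fibre_transfer K1 q hq x (hb (fmap D A x) ⟨MvPolynomial.map (algebraMap D A) s, hs, ?_⟩)
    obtain ⟨y₁, hy₁, y₂, hy₂, hsum⟩ := Submodule.mem_sup.1 hsx
    rw [UB_fmap, ← fmap_smul', ← hsum, map_add]
    exact Submodule.add_mem_sup (fmap_mem_smul_top' _ _ hmax y₁ hy₁) (fmap_mem_KB K2 y₂ hy₂)
  obtain ⟨h1, h2⟩ := poly_noeth K1 K2 w hU D _ hqD hflatD hbD
  exact ⟨h1, flat_of_stage (B := D) (C := A) (K3 K2 w) q h2⟩

end Stage

end Groth.Agent.Helper2.InjFlatS
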