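import Mathlib
import Groth.Prelude
import Groth.Agent.Helper2.InjFlatS

set_option autoImplicit false
open Function TensorProduct LinearMap IsLocalRing
universe u

namespace Groth.Agent.Helper2.InjFlatM

open Groth.Agent.Helper2.FlatDescCore Groth.Agent.Helper2.FlatDescPoly
  Groth.Agent.Helper2.FlatDescApp Groth.Agent.Helper2.InjFlatP Groth.Agent.Helper2.InjFlatT
  Groth.Agent.Helper2.InjFlatS

attribute [local instance] MvPolynomial.algebraMvPolynomial

section Desc
variable {n t : ℕ} {R₀ A : Type u} [CommRing R₀] [CommRing A] [Algebra R₀ A]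
  (K : Submodule (MvPolynomial (Fin n) R₀) (Fm n t R₀))

lemma exists_fm_eq (B' : Subalgebra R₀ A) (x : Fm n t A)
    (hx : ∀ i, ((x i).coeffs : Set A) ⊆ B') : ∃ x' : Fm n t B', fmap B' A x' = x := by
  choose x' hx' using fun i => exists_map_eq B' (x i) (hx i)
  exact ⟨x', funext fun i => by rw [fmap_apply, hx']⟩

/-- descent of membership in `KB`. -/
lemma exists_finset_KB (y : Fm n t A) (hy : y ∈ KB R₀ A K) :
    ∃ S : Finset A, ∀ B' : Subalgebra R₀ A, (S : Set A) ⊆ B' →
      ∃ y' : Fm n t B', y' ∈ KB R₀ B' K ∧ fmap B' A y' = y := by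
  classical
  unfold KB at hy
  rw [Submodule.mem_span_set'] at hy
  obtain ⟨m, c, g, hg⟩ := hy
  have hg' : ∀ i, ∃ k ∈ K, fmap R₀ A k = (g i : Fm n t A) := fun i => (g i).2
  choose k hk hgk using hg'
  refine ⟨Finset.univ.biUnion (fun i => (c i).coeffs), fun B' hB' => ?_⟩
  have hcB : ∀ i, ((c i).coeffs : Set A) ⊆ B' := by
    intro i x hx
    refine hB' ?_
    rw [Finset.mem_coe, Finset.mem_biUnion]
    exact ⟨i, Finset.mem_univ _, hx⟩
  choose c' hc' using fun i => exists_map_eq B' (c i) (hcB i)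
  refine ⟨∑ i, c' i • fmap R₀ B' (k i), ?_, ?_⟩
  · refine Submodule.sum_mem _ (fun i _ => Submodule.smul_mem _ _ ?_)
    exact Submodule.subset_span ⟨k i, hk i, rfl⟩
  · rw [map_sum, ← hg]
    refine Finset.sum_congr rfl (fun i _ => ?_)
    rw [fmap_smul', hc', fmap_comp, hgk]

end Desc

section LocStage
variable (E A : Type u) [CommRing E] [CommRing A] [IsLocalRing A] [Algebra E A]

/-- the prime of `E` below the maximal ideal of `A`. -/
abbrev pE : Ideal E := (maximalIdeal A).comap (algebraMap E A)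

instance : (pE E A).IsPrime := Ideal.comap_isPrime _ _

/-- the canonical map `E_p → A`. -/
noncomputable def locToA : Localization.AtPrime (pE E A) →+* A :=
  IsLocalization.lift (M := (pE E A).primeCompl) (g := algebraMap E A) (fun y => by
    have hy : (y : E) ∉ pE E A := y.2
    rw [Ideal.mem_comap, mem_maximalIdeal, mem_nonunits_iff, not_not] at hy
    exact hy)

lemma locToA_algebraMap (e : E) :
    locToA E A (algebraMap E (Localization.AtPrime (pE E A)) e) = algebraMap E A e :=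
  IsLocalization.lift_eq _ e

lemma isLocalHom_locToA : IsLocalHom (locToA E A) := by
  constructor
  intro a ha
  obtain ⟨⟨b, s⟩, hbs⟩ := IsLocalization.surj (pE E A).primeCompl a
  simp only at hbs
  have h1 : IsUnit (locToA E A (a * algebraMap E _ (s : E))) := by
    rw [map_mul]
    refine ha.mul ?_
    rw [locToA_algebraMap]
    have hy : (s : E) ∉ pE E A := s.2
    rw [Ideal.mem_comap, mem_maximalIdeal, mem_nonunits_iff, not_not] at hy
    exact hy
  rw [hbs, locToA_algebraMap] at h1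
  have hb : b ∉ pE E A := by
    rw [Ideal.mem_comap, mem_maximalIdeal, mem_nonunits_iff, not_not]
    exact h1
  have h2 : IsUnit (algebraMap E (Localization.AtPrime (pE E A)) b) :=
    (IsLocalization.AtPrime.isUnit_to_map_iff _ (pE E A) b).2 hb
  rw [← hbs] at h2
  exact isUnit_of_mul_isUnit_left h2

end LocStage

section Comap
variable {n : ℕ} (B D A : Type u) [CommRing B] [CommRing D] [CommRing A] [Algebra B D]
  [Algebra D A] [Algebra B A] [IsScalarTower B D A]

lemma map_map_pol (s : MvPolynomial (Fin n) B) :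
    MvPolynomial.map (algebraMap D A) (MvPolynomial.map (algebraMap B D) s) =
      MvPolynomial.map (algebraMap B A) s := by
  rw [MvPolynomial.map_map, ← IsScalarTower.algebraMap_eq]

lemma comap_pol (q : Ideal (MvPolynomial (Fin n) A)) :
    (q.comap (algebraMap (MvPolynomial (Fin n) D) (MvPolynomial (Fin n) A))).comap
      (algebraMap (MvPolynomial (Fin n) B) (MvPolynomial (Fin n) D)) =
      q.comap (algebraMap (MvPolynomial (Fin n) B) (MvPolynomial (Fin n) A)) := by
  ext s
  simp only [Ideal.mem_comap, MvPolynomial.algebraMap_def, map_map_pol]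

end Comap

section Main
variable {n t1 t2 : ℕ} {R₀ : Type u} [CommRing R₀] [IsNoetherianRing R₀]
  (K1 : Submodule (MvPolynomial (Fin n) R₀) (Fm n t1 R₀))
  (K2 : Submodule (MvPolynomial (Fin n) R₀) (Fm n t2 R₀)) (w : Fin t1 → Fm n t2 R₀)
  (hU : ∀ k ∈ K1, ∑ j, k j • w j ∈ K2)
  {A : Type u} [CommRing A] [IsLocalRing A] [Algebra R₀ A]
  (q : Ideal (MvPolynomial (Fin n) A)) [q.IsPrime]

include hU in
/-- conclusions for every large enough finitely generated subalgebra. -/
theorem stage_of_subalgebra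
    (hq : q.comap (algebraMap A (MvPolynomial (Fin n) A)) = maximalIdeal A)
    (hb : ∀ x : Fm n t1 A, (∃ s : MvPolynomial (Fin n) A, s ∉ q ∧ s • UB w A x ∈
        ((maximalIdeal A).map (algebraMap A (MvPolynomial (Fin n) A))) • ⊤ ⊔ KB R₀ A K2) →
      ∃ s : MvPolynomial (Fin n) A, s ∉ q ∧ s • x ∈
        ((maximalIdeal A).map (algebraMap A (MvPolynomial (Fin n) A))) • ⊤ ⊔ KB R₀ A K1)
    (B'' : Subalgebra R₀ A) (hfg : B''.FG)
    (hflat : Module.Flat B'' (LocalizedModule
      (q.comap (algebraMap (MvPolynomial (Fin n) B'') (MvPolynomial (Fin n) A))).primeCompl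
      (Fm n t2 B'' ⧸ KB R₀ B'' K2))) :
    (∀ x : Fm n t1 B'', (∃ s : MvPolynomial (Fin n) B'',
        s ∉ q.comap (algebraMap (MvPolynomial (Fin n) B'') (MvPolynomial (Fin n) A)) ∧
          s • UB w B'' x ∈ KB R₀ B'' K2) →
      ∃ s : MvPolynomial (Fin n) A, s ∉ q ∧ s • fmap B'' A x ∈ KB R₀ A K1) ∧
    Module.Flat A (LocalizedModule q.primeCompl (Fm n t2 A ⧸ KB R₀ A (K3 K2 w))) := by
  haveI : Algebra.FiniteType R₀ B'' := (Subalgebra.fg_iff_finiteType B'').1 hfg
  haveI : IsNoetherianRing B'' := Algebra.FiniteType.isNoetherianRing R₀ B''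
  let D := Localization.AtPrime (pE B'' A)
  letI algDA : Algebra D A := (locToA B'' A).toAlgebra
  haveI t1' : IsScalarTower B'' D A :=
    IsScalarTower.of_algebraMap_eq (fun e => (locToA_algebraMap B'' A e).symm)
  haveI t2' : IsScalarTower R₀ D A := by
    refine IsScalarTower.of_algebraMap_eq (fun r => ?_)
    rw [IsScalarTower.algebraMap_apply R₀ B'' D, IsScalarTower.algebraMap_apply R₀ B'' A,
      IsScalarTower.algebraMap_apply B'' D A]
  haveI : IsLocalHom (algebraMap D A) := isLocalHom_locToA B'' A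
  set qD := q.comap (algebraMap (MvPolynomial (Fin n) D) (MvPolynomial (Fin n) A)) with hqD
  have hflatD : Module.Flat D (LocalizedModule qD.primeCompl (Fm n t2 D ⧸ KB R₀ D K2)) := by
    refine flat_of_stage (B := B'') (C := D) K2 qD ?_
    refine Groth.Agent.Helper2.FlatAtElem.flat_localized_mono _ ?_ hflat
    intro s hs
    change s ∉ _ at hs ⊢
    rw [hqD, comap_pol B'' D A q]
    exact hs
  obtain ⟨h1, h2⟩ := stage_thm K1 K2 w hU (D := D) (A := A) q hq hflatD hb
  refine ⟨?_, h2⟩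
  rintro x ⟨s, hs, hsx⟩
  have hs' : MvPolynomial.map (algebraMap B'' D) s ∉ qD := by
    intro hmem
    apply hs
    rw [hqD, Ideal.mem_comap, MvPolynomial.algebraMap_def, map_map_pol] at hmem
    exact hmem
  obtain ⟨s', hs'q, hs'x⟩ := h1 (fmap B'' D x) ⟨_, hs', by
    rw [UB_fmap, ← fmap_smul']
    exact fmap_mem_KB K2 _ hsx⟩
  refine ⟨MvPolynomial.map (algebraMap D A) s', hs'q, ?_⟩
  have := fmap_mem_KB (A := A) K1 _ hs'x
  rw [fmap_smul', fmap_comp] at this
  exact this

include hU in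
/-- **Theorem B** (polynomial form): injectivity modulo the maximal ideal at `q` implies
injectivity at `q` and flatness of the cokernel at `q`. -/
theorem poly_main
    (hq : q.comap (algebraMap A (MvPolynomial (Fin n) A)) = maximalIdeal A)
    (hflat : Module.Flat A (LocalizedModule q.primeCompl (Fm n t2 A ⧸ KB R₀ A K2)))
    (hb : ∀ x : Fm n t1 A, (∃ s : MvPolynomial (Fin n) A, s ∉ q ∧ s • UB w A x ∈
        ((maximalIdeal A).map (algebraMap A (MvPolynomial (Fin n) A))) • ⊤ ⊔ KB R₀ A K2) →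
      ∃ s : MvPolynomial (Fin n) A, s ∉ q ∧ s • x ∈
        ((maximalIdeal A).map (algebraMap A (MvPolynomial (Fin n) A))) • ⊤ ⊔ KB R₀ A K1) :
    (∀ x : Fm n t1 A, (∃ s : MvPolynomial (Fin n) A, s ∉ q ∧ s • UB w A x ∈ KB R₀ A K2) →
      ∃ s : MvPolynomial (Fin n) A, s ∉ q ∧ s • x ∈ KB R₀ A K1) ∧
    Module.Flat A (LocalizedModule q.primeCompl (Fm n t2 A ⧸ KB R₀ A (K3 K2 w))) := by
  classical
  obtain ⟨B', hfg, hB'⟩ := exists_fg_flat K2 q hflat
  refine ⟨?_, (stage_of_subalgebra K1 K2 w hU q hq hb B' hfg (hB' B' le_rfl hfg)).2⟩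
  rintro x ⟨s, hs, hsx⟩
  obtain ⟨S₁, hS₁⟩ := exists_finset_KB K2 (s • UB w A x) hsx
  set S₂ : Finset A := s.coeffs ∪ Finset.univ.biUnion (fun i => (x i).coeffs) with hS₂
  set B'' : Subalgebra R₀ A := B' ⊔ Algebra.adjoin R₀ ((S₁ ∪ S₂ : Finset A) : Set A) with hB''
  have hfg'' : B''.FG := hfg.sup (Subalgebra.fg_adjoin_finset _)
  have hsub : ((S₁ ∪ S₂ : Finset A) : Set A) ⊆ B'' := fun a ha =>
    (le_sup_right : Algebra.adjoin R₀ ((S₁ ∪ S₂ : Finset A) : Set A) ≤ B'')
      (Algebra.subset_adjoin ha)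
  have hS₁B : (S₁ : Set A) ⊆ B'' := fun a ha => hsub (by
    rw [Finset.coe_union]; exact Or.inl ha)
  have hsB : (s.coeffs : Set A) ⊆ B'' := fun a ha => hsub (by
    rw [Finset.coe_union, hS₂, Finset.coe_union]; exact Or.inr (Or.inl ha))
  have hxB : ∀ i, ((x i).coeffs : Set A) ⊆ B'' := fun i a ha => hsub (by
    rw [Finset.coe_union, hS₂, Finset.coe_union]
    refine Or.inr (Or.inr ?_)
    rw [Finset.mem_coe, Finset.mem_biUnion]
    exact ⟨i, Finset.mem_univ _, ha⟩)
  obtain ⟨y', hy'K, hy'⟩ := hS₁ B'' hS₁B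
  obtain ⟨s', hs'⟩ := exists_map_eq B'' s hsB
  obtain ⟨x', hx'⟩ := exists_fm_eq B'' x hxB
  have heq : s' • UB w B'' x' = y' := by
    apply fmap_injective (↥B'') A Subtype.val_injective
    rw [fmap_smul', hs', ← UB_fmap, hx', hy']
  obtain ⟨h1, -⟩ := stage_of_subalgebra K1 K2 w hU q hq hb B'' hfg'' (hB' B'' le_sup_left hfg'')
  have := h1 x' ⟨s', ?_, by rw [heq]; exact hy'K⟩
  · rw [hx'] at this
    exact this
  · intro hmem
    apply hs
    rw [Ideal.mem_comap, MvPolynomial.algebraMap_def, hs'] at hmem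
    exact hmem

end Main

end Groth.Agent.Helper2.InjFlatM
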