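import Mathlib
import Groth.Prelude
import Groth.Agent.Helper2.InjFlatM

set_option autoImplicit false
open Function TensorProduct LinearMap IsLocalRing
universe u

namespace Groth.Agent.Helper2.InjFlatJ

open Groth.Agent.Helper2.FlatDescCore Groth.Agent.Helper2.FlatDescPoly
  Groth.Agent.Helper2.FlatDescApp Groth.Agent.Helper2.InjFlatP Groth.Agent.Helper2.InjFlatM

attribute [local instance] MvPolynomial.algebraMvPolynomial

section
variable {n t : ℕ}

lemma KB_span_range {R₀ A : Type u} [CommRing R₀] [CommRing A] [Algebra R₀ A] {m : ℕ}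
    (g₀ : Fin m → Fm n t R₀) :
    KB R₀ A (Submodule.span (MvPolynomial (Fin n) R₀) (Set.range g₀)) =
      Submodule.span (MvPolynomial (Fin n) A) (Set.range (fun i => fmap R₀ A (g₀ i))) := by
  unfold KB
  apply le_antisymm
  · rw [Submodule.span_le]
    rintro _ ⟨k, hk, rfl⟩
    rw [SetLike.mem_coe] at hk ⊢
    refine Submodule.span_induction ?_ ?_ ?_ ?_ hk
    · rintro _ ⟨j, rfl⟩
      exact Submodule.subset_span ⟨j, rfl⟩
    · rw [map_zero]; exact zero_mem _
    · intro x y _ _ hx hy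
      rw [map_add]; exact add_mem hx hy
    · intro c x _ hx
      rw [fmap_smul']
      exact Submodule.smul_mem _ _ hx
  · rw [Submodule.span_le]
    rintro _ ⟨j, rfl⟩
    exact Submodule.subset_span ⟨g₀ j, Submodule.subset_span ⟨j, rfl⟩, rfl⟩

end

section Joint
variable {n t1 t2 : ℕ} {A : Type u} [CommRing A]

lemma exists_fm_eq' {t : ℕ} (B' : Subalgebra ℤ A) (x : Fm n t A)
    (hx : ∀ i, ((x i).coeffs : Set A) ⊆ B') : ∃ x' : Fm n t B', fmap B' A x' = x := by
  choose x' hx' using fun i => exists_map_eq' B' (x i) (hx i)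
  exact ⟨x', funext fun i => by rw [fmap_apply, hx']⟩

/-- a joint model of two finitely generated submodules and a matrix between them. -/
theorem exists_joint_model
    (K1 : Submodule (MvPolynomial (Fin n) A) (Fm n t1 A)) (hK1 : K1.FG)
    (K2 : Submodule (MvPolynomial (Fin n) A) (Fm n t2 A)) (hK2 : K2.FG)
    (wA : Fin t1 → Fm n t2 A) (hUA : ∀ k ∈ K1, ∑ j, k j • wA j ∈ K2) :
    ∃ (R₀ : Subalgebra ℤ A) (_ : R₀.FG)
      (K1₀ : Submodule (MvPolynomial (Fin n) R₀) (Fm n t1 R₀))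
      (K2₀ : Submodule (MvPolynomial (Fin n) R₀) (Fm n t2 R₀))
      (w₀ : Fin t1 → Fm n t2 R₀),
      KB R₀ A K1₀ = K1 ∧ KB R₀ A K2₀ = K2 ∧ (∀ j, fmap R₀ A (w₀ j) = wA j) ∧
        ∀ k ∈ K1₀, ∑ j, k j • w₀ j ∈ K2₀ := by
  classical
  obtain ⟨m1, g1, hg1⟩ := Submodule.fg_iff_exists_fin_generating_family.1 hK1
  obtain ⟨m2, g2, hg2⟩ := Submodule.fg_iff_exists_fin_generating_family.1 hK2
  have hc : ∀ i : Fin m1, ∃ c : Fin m2 → MvPolynomial (Fin n) A,
      ∑ l, c l • g2 l = ∑ j, g1 i j • wA j := by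
    intro i
    have h1 : ∑ j, g1 i j • wA j ∈ K2 := hUA (g1 i) (by rw [← hg1]; exact Submodule.subset_span ⟨i, rfl⟩)
    rw [← hg2] at h1
    exact (Submodule.mem_span_range_iff_exists_fun _).1 h1
  choose c hc using hc
  set S : Finset A :=
    (Finset.univ.biUnion (fun i : Fin m1 => Finset.univ.biUnion (fun a : Fin t1 => (g1 i a).coeffs))) ∪
    (Finset.univ.biUnion (fun i : Fin m2 => Finset.univ.biUnion (fun a : Fin t2 => (g2 i a).coeffs))) ∪
    (Finset.univ.biUnion (fun j : Fin t1 => Finset.univ.biUnion (fun a : Fin t2 => (wA j a).coeffs))) ∪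
    (Finset.univ.biUnion (fun i : Fin m1 => Finset.univ.biUnion (fun l : Fin m2 => (c i l).coeffs)))
    with hS
  set R₀ : Subalgebra ℤ A := Algebra.adjoin ℤ (S : Set A) with hR₀
  have hsub : (S : Set A) ⊆ R₀ := Algebra.subset_adjoin
  have h1 : ∀ i, ∃ g : Fm n t1 R₀, fmap R₀ A g = g1 i := by
    intro i
    refine exists_fm_eq' R₀ (g1 i) (fun a x hx => hsub (a := x) ?_)
    rw [hS, Finset.mem_coe]
    refine Finset.mem_union_left _ (Finset.mem_union_left _ (Finset.mem_union_left _ ?_))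
    exact Finset.mem_biUnion.2 ⟨i, Finset.mem_univ _, Finset.mem_biUnion.2 ⟨a, Finset.mem_univ _, hx⟩⟩
  have h2 : ∀ i, ∃ g : Fm n t2 R₀, fmap R₀ A g = g2 i := by
    intro i
    refine exists_fm_eq' R₀ (g2 i) (fun a x hx => hsub (a := x) ?_)
    rw [hS, Finset.mem_coe]
    refine Finset.mem_union_left _ (Finset.mem_union_left _ (Finset.mem_union_right _ ?_))
    exact Finset.mem_biUnion.2 ⟨i, Finset.mem_univ _, Finset.mem_biUnion.2 ⟨a, Finset.mem_univ _, hx⟩⟩
  have h3 : ∀ j, ∃ g : Fm n t2 R₀, fmap R₀ A g = wA j := by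
    intro j
    refine exists_fm_eq' R₀ (wA j) (fun a x hx => hsub (a := x) ?_)
    rw [hS, Finset.mem_coe]
    refine Finset.mem_union_left _ (Finset.mem_union_right _ ?_)
    exact Finset.mem_biUnion.2 ⟨j, Finset.mem_univ _, Finset.mem_biUnion.2 ⟨a, Finset.mem_univ _, hx⟩⟩
  have h4 : ∀ i l, ∃ p : MvPolynomial (Fin n) R₀, MvPolynomial.map (algebraMap R₀ A) p = c i l := by
    intro i l
    refine exists_map_eq' R₀ (c i l) (fun x hx => hsub ?_)
    rw [hS, Finset.mem_coe]
    refine Finset.mem_union_right _ ?_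
    exact Finset.mem_biUnion.2 ⟨i, Finset.mem_univ _, Finset.mem_biUnion.2 ⟨l, Finset.mem_univ _, hx⟩⟩
  choose g1₀ hg1₀ using h1
  choose g2₀ hg2₀ using h2
  choose w₀ hw₀ using h3
  choose c₀ hc₀ using h4
  refine ⟨R₀, Subalgebra.fg_adjoin_finset _, Submodule.span _ (Set.range g1₀),
    Submodule.span _ (Set.range g2₀), w₀, ?_, ?_, hw₀, ?_⟩
  · rw [KB_span_range, ← hg1]
    congr 2
    funext i
    exact hg1₀ i
  · rw [KB_span_range, ← hg2]
    congr 2
    funext i
    exact hg2₀ i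
  · intro k hk
    refine Submodule.span_induction ?_ ?_ ?_ ?_ hk
    · rintro _ ⟨i, rfl⟩
      have : ∑ j, g1₀ i j • w₀ j = ∑ l, c₀ i l • g2₀ l := by
        apply fmap_injective (↥R₀) A Subtype.val_injective
        rw [map_sum, map_sum]
        simp only [fmap_smul', hw₀, hg2₀, hc₀]
        rw [hc i]
        refine Finset.sum_congr rfl (fun j _ => ?_)
        rw [← hg1₀ i, fmap_apply]
      rw [this]
      exact Submodule.sum_mem _ (fun l _ => Submodule.smul_mem _ _ (Submodule.subset_span ⟨l, rfl⟩))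
    · simp
    · intro x y _ _ hx hy
      simp only [Pi.add_apply, add_smul, Finset.sum_add_distrib]
      exact add_mem hx hy
    · intro a x _ hx
      simp only [Pi.smul_apply, smul_eq_mul, mul_smul, ← Finset.smul_sum]
      exact Submodule.smul_mem _ _ hx

end Joint

end Groth.Agent.Helper2.InjFlatJ
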