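import Mathlib
import Groth.Prelude
import Groth.Agent.Helper2.InjFlatJ
import Groth.Agent.Helper2.KRLoc

set_option autoImplicit false
open Function TensorProduct LinearMap IsLocalRing
universe u

namespace Groth.Agent.Helper2.InjFlatA

open Groth.Agent.Helper2.FlatDescCore Groth.Agent.Helper2.FlatDescPoly
  Groth.Agent.Helper2.FlatDescApp Groth.Agent.Helper2.InjFlatP Groth.Agent.Helper2.InjFlatM
  Groth.Agent.Helper2.InjFlatJ

attribute [local instance] MvPolynomial.algebraMvPolynomial

section LocIdeal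
variable {P : Type u} [CommRing P] (q : Ideal P) [q.IsPrime] (I : Ideal P)
  {X Y : Type u} [AddCommGroup X] [Module P X] [AddCommGroup Y] [Module P Y]
  (f : X →ₗ[P] Y) [IsLocalizedModule q.primeCompl f]

lemma map_mem_smul_top (g : X →ₗ[P] Y) (x : X) (hx : x ∈ I • (⊤ : Submodule P X)) :
    g x ∈ I • (⊤ : Submodule P Y) := by
  have : (I • (⊤ : Submodule P X)).map g ≤ I • (⊤ : Submodule P Y) := by
    rw [Submodule.map_smul'']
    exact Submodule.smul_mono le_rfl le_top
  exact this ⟨x, hx, rfl⟩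

/-- membership in `I • ⊤` of a localization, elementwise. -/
lemma map_mem_smul_top_iff (y : X) :
    f y ∈ I • (⊤ : Submodule P Y) ↔ ∃ t : P, t ∉ q ∧ t • y ∈ I • (⊤ : Submodule P X) := by
  rw [← Groth.Agent.Helper2.KRLoc.mk_mem_smul_top_iff (Q := q) I y 1]
  have h1 : f y = IsLocalizedModule.iso q.primeCompl f (LocalizedModule.mk y 1) :=
    (IsLocalizedModule.iso_mk_one q.primeCompl f y).symm
  rw [h1]
  constructor
  · intro h
    have := map_mem_smul_top I (IsLocalizedModule.iso q.primeCompl f).symm.toLinearMap _ h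
    simpa using this
  · intro h
    exact map_mem_smul_top I (IsLocalizedModule.iso q.primeCompl f).toLinearMap _ h

include f in
/-- elements outside `q` act invertibly, compatibly with `I • ⊤`. -/
lemma mem_smul_top_of_smul_mem (t : P) (ht : t ∉ q) (z : Y)
    (hz : t • z ∈ I • (⊤ : Submodule P Y)) : z ∈ I • (⊤ : Submodule P Y) := by
  have hu := IsLocalizedModule.map_units f (⟨t, ht⟩ : q.primeCompl)
  rw [Module.End.isUnit_iff] at hu
  let e : Y ≃ₗ[P] Y := LinearEquiv.ofBijective _ hu
  have h1 := map_mem_smul_top I e.symm.toLinearMap _ hz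
  have h2 : e.symm (t • z) = z := by
    rw [LinearEquiv.symm_apply_eq]
    rfl
  rw [LinearEquiv.coe_coe, h2] at h1
  exact h1

include f in
lemma eq_zero_of_smul_eq_zero (t : P) (ht : t ∉ q) (z : Y) (hz : t • z = 0) : z = 0 := by
  have hu := IsLocalizedModule.map_units f (⟨t, ht⟩ : q.primeCompl)
  rw [Module.End.isUnit_iff] at hu
  apply hu.1
  rw [map_zero]
  exact hz

end LocIdeal

section MainAbs
variable {n t1 t2 : ℕ} {R : Type u} [CommRing R] [IsLocalRing R]
  (q : Ideal (MvPolynomial (Fin n) R)) [q.IsPrime]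
  {M N : Type u} [AddCommGroup M] [Module (MvPolynomial (Fin n) R) M] [Module R M]
  [IsScalarTower R (MvPolynomial (Fin n) R) M]
  [AddCommGroup N] [Module (MvPolynomial (Fin n) R) N] [Module R N]
  [IsScalarTower R (MvPolynomial (Fin n) R) N]
  (K1 : Submodule (MvPolynomial (Fin n) R) (Fm n t1 R))
  (K2 : Submodule (MvPolynomial (Fin n) R) (Fm n t2 R))
  (FM : (Fm n t1 R ⧸ K1) →ₗ[MvPolynomial (Fin n) R] M) [IsLocalizedModule q.primeCompl FM]
  (FN : (Fm n t2 R ⧸ K2) →ₗ[MvPolynomial (Fin n) R] N) [IsLocalizedModule q.primeCompl FN]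

include FM FN in
/-- **Abstract form**: `M`, `N` localizations at `q` of finitely presented modules over a
polynomial ring over the local ring `R`, `N` flat over `R`, `u` injective modulo the maximal
ideal. Then `u` is injective with `R`-flat cokernel. -/
theorem main_abstract
    (hq : q.comap (algebraMap R (MvPolynomial (Fin n) R)) = maximalIdeal R)
    (hK1 : K1.FG) (hK2 : K2.FG) [Module.Flat R N] (u : M →ₗ[MvPolynomial (Fin n) R] N)
    (hu : ∀ x : M, u x ∈ ((maximalIdeal R).map (algebraMap R (MvPolynomial (Fin n) R))) •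
        (⊤ : Submodule (MvPolynomial (Fin n) R) N) →
      x ∈ ((maximalIdeal R).map (algebraMap R (MvPolynomial (Fin n) R))) •
        (⊤ : Submodule (MvPolynomial (Fin n) R) M)) :
    Injective u ∧ Module.Flat R (N ⧸ LinearMap.range u) := by
  classical
  haveI : Module.FinitePresentation (MvPolynomial (Fin n) R) (Fm n t1 R ⧸ K1) :=
    Module.finitePresentation_of_free_of_surjective K1.mkQ K1.mkQ_surjective
      (by rw [Submodule.ker_mkQ]; exact hK1)
  obtain ⟨h, s, hhs⟩ := Module.FinitePresentation.exists_lift_of_isLocalizedModule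
    q.primeCompl FN (u ∘ₗ FM)
  have hw : ∀ j : Fin t1, ∃ y : Fm n t2 R, (Submodule.Quotient.mk y : Fm n t2 R ⧸ K2) =
      h (Submodule.Quotient.mk (Pi.single j 1)) := fun j => Submodule.Quotient.mk_surjective _ _
  choose wA hwA using hw
  have hh : ∀ x : Fm n t1 R, h (Submodule.Quotient.mk x) =
      Submodule.Quotient.mk (∑ j, x j • wA j) := by
    intro x
    have hx : x = ∑ j, x j • (Pi.single j (1 : MvPolynomial (Fin n) R) : Fm n t1 R) := by
      funext i
      simp [Finset.sum_apply, Pi.single_apply]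
    change (h ∘ₗ K1.mkQ) x = K2.mkQ (∑ j, x j • wA j)
    conv_lhs => rw [hx]
    rw [map_sum, map_sum]
    refine Finset.sum_congr rfl (fun j _ => ?_)
    rw [map_smul, map_smul]
    congr 1
    exact (hwA j).symm
  have hUA : ∀ k ∈ K1, ∑ j, k j • wA j ∈ K2 := by
    intro k hk
    rw [← Submodule.Quotient.mk_eq_zero, ← hh, (Submodule.Quotient.mk_eq_zero K1).2 hk, map_zero]
  obtain ⟨R₀, hfg, K1₀, K2₀, w₀, rfl, rfl, hw₀, hU₀⟩ := exists_joint_model K1 hK1 K2 hK2 wA hUA
  haveI : Algebra.FiniteType ℤ R₀ := (Subalgebra.fg_iff_finiteType R₀).1 hfg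
  haveI : IsNoetherianRing R₀ := Algebra.FiniteType.isNoetherianRing ℤ R₀
  have hUBw : ∀ x : Fm n t1 R, UB w₀ R x = ∑ j, x j • wA j := by
    intro x
    rw [UB_apply]
    simp only [hw₀]
  have hFNh : ∀ x : Fm n t1 R, FN (Submodule.Quotient.mk (UB w₀ R x)) =
      (s : MvPolynomial (Fin n) R) • u (FM (Submodule.Quotient.mk x)) := by
    intro x
    rw [hUBw, ← hh]
    exact LinearMap.congr_fun hhs (Submodule.Quotient.mk x)
  have hflat : Module.Flat R (LocalizedModule q.primeCompl (Fm n t2 R ⧸ KB R₀ R K2₀)) :=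
    Module.Flat.of_linearEquiv ((IsLocalizedModule.iso q.primeCompl FN).restrictScalars R)
  have hb : ∀ x : Fm n t1 R, (∃ s' : MvPolynomial (Fin n) R, s' ∉ q ∧ s' • UB w₀ R x ∈
        ((maximalIdeal R).map (algebraMap R (MvPolynomial (Fin n) R))) • ⊤ ⊔ KB R₀ R K2₀) →
      ∃ s' : MvPolynomial (Fin n) R, s' ∉ q ∧ s' • x ∈
        ((maximalIdeal R).map (algebraMap R (MvPolynomial (Fin n) R))) • ⊤ ⊔ KB R₀ R K1₀ := by
    rintro x ⟨s', hs', hx⟩
    have h1 : s' • (Submodule.Quotient.mk (UB w₀ R x) : Fm n t2 R ⧸ KB R₀ R K2₀) ∈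
        ((maximalIdeal R).map (algebraMap R (MvPolynomial (Fin n) R))) •
          (⊤ : Submodule (MvPolynomial (Fin n) R) (Fm n t2 R ⧸ KB R₀ R K2₀)) := by
      rw [← Submodule.Quotient.mk_smul, Groth.Agent.Helper2.FlatFibre2.mk_mem_smul_top_iff]
      exact hx
    have h2 := map_mem_smul_top _ FN _ h1
    rw [map_smul, hFNh] at h2
    have h4 := mem_smul_top_of_smul_mem q _ FN s' hs' _ h2
    have h5 := mem_smul_top_of_smul_mem q _ FN s s.2 _ h4
    have h6 := hu _ h5
    obtain ⟨t, ht, htx⟩ := (map_mem_smul_top_iff q _ FM (Submodule.Quotient.mk x)).1 h6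
    refine ⟨t, ht, ?_⟩
    rw [← Submodule.Quotient.mk_smul, Groth.Agent.Helper2.FlatFibre2.mk_mem_smul_top_iff] at htx
    exact htx
  obtain ⟨c1, c2⟩ := poly_main K1₀ K2₀ w₀ hU₀ q hq hflat hb
  have hinj : Injective u := by
    rw [injective_iff_map_eq_zero]
    intro m hm
    obtain ⟨⟨y, t⟩, hy⟩ := IsLocalizedModule.surj q.primeCompl FM m
    obtain ⟨x, rfl⟩ := Submodule.Quotient.mk_surjective _ y
    simp only [Submonoid.smul_def] at hy
    have h1 : FN (Submodule.Quotient.mk (UB w₀ R x)) = 0 := by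
      rw [hFNh, ← hy, map_smul, hm, smul_zero, smul_zero]
    obtain ⟨t', ht'⟩ := (IsLocalizedModule.eq_zero_iff q.primeCompl FN).1 h1
    have h2 : (t' : MvPolynomial (Fin n) R) • UB w₀ R x ∈ KB R₀ R K2₀ := by
      rw [Submonoid.smul_def, ← Submodule.Quotient.mk_smul, Submodule.Quotient.mk_eq_zero] at ht'
      exact ht'
    obtain ⟨s'', hs'', hx''⟩ := c1 x ⟨t', t'.2, h2⟩
    have h3 : FM (Submodule.Quotient.mk x) = 0 := by
      apply eq_zero_of_smul_eq_zero q FM s'' hs''
      rw [← map_smul, ← Submodule.Quotient.mk_smul, (Submodule.Quotient.mk_eq_zero _).2 hx'',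
        map_zero]
    rw [h3] at hy
    exact eq_zero_of_smul_eq_zero q FM t t.2 m hy
  refine ⟨hinj, ?_⟩
  -- the cokernel is the localization of `F₂ ⧸ K₃`
  have hle : KB R₀ R (K3 K2₀ w₀) ≤ LinearMap.ker
      ((LinearMap.range u).mkQ ∘ₗ FN ∘ₗ (KB R₀ R K2₀).mkQ) := by
    rw [KB_K3, sup_le_iff]
    constructor
    · intro z hz
      simp only [LinearMap.mem_ker, LinearMap.comp_apply, Submodule.mkQ_apply]
      rw [(Submodule.Quotient.mk_eq_zero _).2 hz, map_zero, Submodule.Quotient.mk_zero]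
    · rintro _ ⟨x, rfl⟩
      simp only [LinearMap.mem_ker, LinearMap.comp_apply, Submodule.mkQ_apply]
      rw [hFNh, Submodule.Quotient.mk_eq_zero, ← map_smul]
      exact ⟨_, rfl⟩
  let G : (Fm n t2 R ⧸ KB R₀ R (K3 K2₀ w₀)) →ₗ[MvPolynomial (Fin n) R] (N ⧸ LinearMap.range u) :=
    (KB R₀ R (K3 K2₀ w₀)).liftQ _ hle
  have hG : ∀ z : Fm n t2 R, G (Submodule.Quotient.mk z) =
      Submodule.Quotient.mk (FN (Submodule.Quotient.mk z)) := fun z => rfl
  haveI : IsLocalizedModule q.primeCompl G := by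
    refine ⟨?_, ?_, ?_⟩
    · intro t
      rw [Module.End.isUnit_iff]
      have hN := IsLocalizedModule.map_units FN t
      have hM := IsLocalizedModule.map_units FM t
      rw [Module.End.isUnit_iff] at hN hM
      constructor
      · rw [injective_iff_map_eq_zero]
        intro y hy
        obtain ⟨y, rfl⟩ := Submodule.Quotient.mk_surjective _ y
        change (t : MvPolynomial (Fin n) R) • (Submodule.Quotient.mk y : N ⧸ LinearMap.range u) = 0
          at hy
        rw [← Submodule.Quotient.mk_smul, Submodule.Quotient.mk_eq_zero] at hy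
        obtain ⟨m, hm⟩ := hy
        obtain ⟨m', hm'⟩ := hM.2 m
        have : (t : MvPolynomial (Fin n) R) • u m' = (t : MvPolynomial (Fin n) R) • y := by
          rw [← map_smul, ← hm]
          congr 1
        have h2 : u m' = y := hN.1 this
        rw [Submodule.Quotient.mk_eq_zero]
        exact ⟨m', h2⟩
      · intro y
        obtain ⟨y, rfl⟩ := Submodule.Quotient.mk_surjective _ y
        obtain ⟨y', hy'⟩ := hN.2 y
        refine ⟨Submodule.Quotient.mk y', ?_⟩
        change (t : MvPolynomial (Fin n) R) • (Submodule.Quotient.mk y' : N ⧸ LinearMap.range u) = _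
        rw [← Submodule.Quotient.mk_smul]
        congr 1
    · intro y
      obtain ⟨y, rfl⟩ := Submodule.Quotient.mk_surjective _ y
      obtain ⟨⟨z, t⟩, hz⟩ := IsLocalizedModule.surj q.primeCompl FN y
      obtain ⟨z, rfl⟩ := Submodule.Quotient.mk_surjective _ z
      refine ⟨⟨Submodule.Quotient.mk z, t⟩, ?_⟩
      simp only [Submonoid.smul_def] at hz ⊢
      rw [hG, ← hz, Submodule.Quotient.mk_smul]
    · intro a b hab
      have key : ∀ d, G d = 0 → ∃ c : q.primeCompl, c • d = 0 := by
        intro d hd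
        obtain ⟨z, rfl⟩ := Submodule.Quotient.mk_surjective _ d
        rw [hG, Submodule.Quotient.mk_eq_zero] at hd
        obtain ⟨m, hm⟩ := hd
        obtain ⟨⟨y, t⟩, hy⟩ := IsLocalizedModule.surj q.primeCompl FM m
        obtain ⟨x, rfl⟩ := Submodule.Quotient.mk_surjective _ y
        simp only [Submonoid.smul_def] at hy
        have h1 : FN (Submodule.Quotient.mk (((s : MvPolynomial (Fin n) R) * t) • z - UB w₀ R x)) = 0 := by
          rw [Submodule.Quotient.mk_sub, map_sub, hFNh, ← hy, Submodule.Quotient.mk_smul, map_smul,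
            ← hm, map_smul, mul_smul, sub_self]
        obtain ⟨t', ht'⟩ := (IsLocalizedModule.eq_zero_iff q.primeCompl FN).1 h1
        rw [Submonoid.smul_def, ← Submodule.Quotient.mk_smul, Submodule.Quotient.mk_eq_zero] at ht'
        refine ⟨t' * (s * t), ?_⟩
        rw [Submonoid.smul_def, ← Submodule.Quotient.mk_smul, Submodule.Quotient.mk_eq_zero, KB_K3]
        have : ((t' * (s * t) : q.primeCompl) : MvPolynomial (Fin n) R) • z =
            (t' : MvPolynomial (Fin n) R) • (((s : MvPolynomial (Fin n) R) * t) • z - UB w₀ R x) +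
              UB w₀ R ((t' : MvPolynomial (Fin n) R) • x) := by
          rw [map_smul, smul_sub, sub_add_cancel, Submonoid.coe_mul, Submonoid.coe_mul, mul_smul]
        rw [this]
        exact Submodule.add_mem_sup ht' ⟨_, rfl⟩
      obtain ⟨c, hc⟩ := key (a - b) (by rw [map_sub, hab, sub_self])
      exact ⟨c, by rwa [smul_sub, sub_eq_zero] at hc⟩
  exact Module.Flat.of_linearEquiv ((IsLocalizedModule.iso q.primeCompl G).symm.restrictScalars R)

end MainAbs

end Groth.Agent.Helper2.InjFlatA
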