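import Mathlib
import Groth.Agent.Helper4.FPDescent

set_option autoImplicit false
open Function TensorProduct LinearMap
universe u

namespace Groth.Agent.Helper2.SpreadOut

open Groth.Agent.Helper4.FPDescent

/-- A finitely presented module over a localization is the base change of a finitely presented
module. -/
theorem exists_fp_model {S₀ S : Type u} [CommRing S₀] [CommRing S] [Algebra S₀ S]
    (Mon : Submonoid S₀) [IsLocalization Mon S]
    (M : Type u) [AddCommGroup M] [Module S M] [Module S₀ M] [IsScalarTower S₀ S M]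
    [Module.FinitePresentation S M] :
    ∃ (M₁ : Type u) (_ : AddCommGroup M₁) (_ : Module S₀ M₁)
      (_ : Module.FinitePresentation S₀ M₁) (f : M₁ →ₗ[S₀] M), IsBaseChange S f := by
  classical
  obtain ⟨k, m, p, g, hp, hpg⟩ := Module.FinitePresentation.exists_fin' S M
  -- clear denominators columnwise
  have hb : ∀ j : Fin m, ∃ b : Mon, ∀ l : Fin k,
      IsLocalization.IsInteger S₀ ((b : S₀) • g (Pi.single j 1) l) := fun j =>
    IsLocalization.exist_integer_multiples_of_finite Mon (fun l => g (Pi.single j 1) l)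
  choose b hb using hb
  choose w hw using hb
  -- the diagonal automorphism
  let Dg : (Fin m → S) →ₗ[S] (Fin m → S) :=
    LinearMap.pi (fun j => (algebraMap S₀ S (b j)) • LinearMap.proj j)
  have hDsurj : Surjective Dg := by
    intro y
    have hu : ∀ j, IsUnit (algebraMap S₀ S (b j)) := fun j => IsLocalization.map_units S (b j)
    refine ⟨fun j => ((hu j).unit⁻¹ : Sˣ) * y j, ?_⟩
    funext j
    simp only [Dg, LinearMap.pi_apply, LinearMap.smul_apply, LinearMap.proj_apply, smul_eq_mul]
    rw [← mul_assoc, IsUnit.mul_val_inv, one_mul]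
  let g' : (Fin m → S) →ₗ[S] (Fin k → S) := g ∘ₗ Dg
  have hrange : LinearMap.range g' = LinearMap.range g :=
    LinearMap.range_comp_of_range_eq_top g (LinearMap.range_eq_top.2 hDsurj)
  have hw' : ∀ j l, algebraMap S₀ S (w j l) = g' (Pi.single j 1) l := by
    intro j l
    rw [hw j l]
    have : Dg (Pi.single j 1) = algebraMap S₀ S (b j) • (Pi.single j 1 : Fin m → S) := by
      funext i
      simp only [Dg, LinearMap.pi_apply, LinearMap.smul_apply, LinearMap.proj_apply,
        Pi.smul_apply, smul_eq_mul]
      by_cases h : i = j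
      · subst h; simp
      · simp [Pi.single_apply, h]
    change _ = g (Dg (Pi.single j 1)) l
    rw [this, map_smul, Pi.smul_apply, Algebra.smul_def, smul_eq_mul]
  obtain ⟨e⟩ := nonempty_equiv g' w hw'
  have hker : LinearMap.ker p = LinearMap.range g' := by
    rw [hrange]; exact (LinearMap.exact_iff.mp hpg)
  let E : S ⊗[S₀] ((Fin k → S₀) ⧸ LinearMap.range (gR w)) ≃ₗ[S] M :=
    e.symm ≪≫ₗ (Submodule.quotEquivOfEq _ _ hker).symm ≪≫ₗ
      LinearMap.quotKerEquivOfSurjective p hp
  refine ⟨(Fin k → S₀) ⧸ LinearMap.range (gR w), inferInstance, inferInstance,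
    finitePresentation_coker w,
    (E.toLinearMap.restrictScalars S₀) ∘ₗ (TensorProduct.mk S₀ S _ 1), ?_⟩
  exact IsBaseChange.of_equiv E (fun x => rfl)

end Groth.Agent.Helper2.SpreadOut
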