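import Mathlib
import Groth.Prelude
import Groth.Agent.Helper2.SpreadOut
import Groth.Agent.Helper3.RelFP

set_option autoImplicit false
open Function TensorProduct LinearMap
universe u

namespace Groth.Agent.Helper2.InjFlatQ

/-- presentation, over a ring `P` surjecting onto `S₀`, of a finitely presented module over a
localization `S` of `S₀`. -/
theorem exists_pres {P S₀ S : Type u} [CommRing P] [CommRing S₀] [CommRing S]
    [Algebra P S₀] [Algebra S₀ S] [Algebra P S] [IsScalarTower P S₀ S]
    (hs : Surjective (algebraMap P S₀)) (hk : (RingHom.ker (algebraMap P S₀)).FG)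
    (T : Submonoid P) [IsLocalization (Algebra.algebraMapSubmonoid S₀ T) S]
    (X : Type u) [AddCommGroup X] [Module S X] [Module S₀ X] [Module P X]
    [IsScalarTower S₀ S X] [IsScalarTower P S₀ X] [Module.FinitePresentation S X] :
    ∃ (t : ℕ) (K : Submodule P (Fin t → P)) (_ : K.FG) (F : ((Fin t → P) ⧸ K) →ₗ[P] X),
      IsLocalizedModule T F := by
  obtain ⟨M₁, _, _, hfp, f, hf⟩ :=
    Groth.Agent.Helper2.SpreadOut.exists_fp_model (S := S) (Algebra.algebraMapSubmonoid S₀ T) X
  haveI : IsLocalizedModule (Algebra.algebraMapSubmonoid S₀ T) f :=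
    (isLocalizedModule_iff_isBaseChange (Algebra.algebraMapSubmonoid S₀ T) S f).2 hf
  letI : Module P M₁ := Module.compHom M₁ (algebraMap P S₀)
  haveI : IsScalarTower P S₀ M₁ := IsScalarTower.of_algebraMap_smul (fun _ _ => rfl)
  haveI : IsLocalizedModule T (f.restrictScalars P) := IsLocalizedModule.restrictScalars T f
  haveI : Module.FinitePresentation P M₁ :=
    Groth.Agent.Helper3.RelFP.of_surjective_fg (P₁ := P) (P₂ := S₀) hs hk
  obtain ⟨t, m, p, g, hp, hpg⟩ := Module.FinitePresentation.exists_fin' P M₁
  have hK : (LinearMap.ker p).FG := by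
    rw [LinearMap.exact_iff.mp hpg, LinearMap.range_eq_map]
    exact Submodule.FG.map _ Module.Finite.fg_top
  refine ⟨t, LinearMap.ker p, hK,
    (f.restrictScalars P) ∘ₗ (p.quotKerEquivOfSurjective hp).toLinearMap, ?_⟩
  exact IsLocalizedModule.of_linearEquiv_right T (f.restrictScalars P) _

end Groth.Agent.Helper2.InjFlatQ
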