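import Mathlib
import Groth.Prelude
import Groth.Agent.Helper2.InjFlatA
import Groth.Agent.Helper2.InjFlatQ

set_option autoImplicit false
open Function TensorProduct LinearMap IsLocalRing
universe u

namespace Groth.Agent.Helper2.InjFlatFin

open Groth.Agent.Helper2.FlatDescCore Groth.Agent.Helper2.FlatDescPoly

attribute [local instance] MvPolynomial.algebraMvPolynomial

/-- comparison of `𝔪S • ⊤` and `𝔪P • ⊤`. -/
lemma mem_smul_top_iff {R P S : Type u} [CommRing R] [CommRing P] [CommRing S] [Algebra R P]
    [Algebra R S] (I : Ideal R)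
    (X : Type u) [AddCommGroup X] [Module S X] [Module P X] [Module R X]
    [IsScalarTower R S X] [IsScalarTower R P X] (x : X) :
    x ∈ (I.map (algebraMap R S)) • (⊤ : Submodule S X) ↔
      x ∈ (I.map (algebraMap R P)) • (⊤ : Submodule P X) := by
  constructor
  · intro h
    exact mem_map_smul_top_of_mem_smul_top (P₀ := P) I x (mem_smul_top_of_mem_map_smul_top S I x h)
  · intro h
    exact mem_map_smul_top_of_mem_smul_top (P₀ := S) I x (mem_smul_top_of_mem_map_smul_top P I x h)

/-- **S2107**: injectivity modulo the maximal ideal for essentially finitely presented local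
algebras. -/
theorem s2107 {R S M N : Type u} [CommRing R] [CommRing S] [IsLocalRing R]
    [IsLocalRing S] [Algebra R S] [IsLocalHom (algebraMap R S)]
    (hS : CAlgX.IsEssFinitePresentation R S)
    [AddCommGroup M] [Module S M] [Module R M] [IsScalarTower R S M] [Module.FinitePresentation S M]
    [AddCommGroup N] [Module S N] [Module R N] [IsScalarTower R S N] [Module.FinitePresentation S N]
    [Module.Flat R N] (u : M →ₗ[S] N)
    (hu : ∀ x : M, u x ∈ (maximalIdeal R).map (algebraMap R S) • (⊤ : Submodule S N) →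
      x ∈ (maximalIdeal R).map (algebraMap R S) • (⊤ : Submodule S M)) :
    Function.Injective u ∧ Module.Flat R (N ⧸ LinearMap.range u) := by
  obtain ⟨S₀, _, _, _, _, Mon, hfp, hloc⟩ := hS
  obtain ⟨n, π, hπ, hker⟩ := hfp.out
  letI algPS₀ : Algebra (MvPolynomial (Fin n) R) S₀ := π.toRingHom.toAlgebra
  haveI : IsScalarTower R (MvPolynomial (Fin n) R) S₀ :=
    IsScalarTower.of_algebraMap_eq' (by ext r; exact (π.commutes r).symm)
  letI algPS : Algebra (MvPolynomial (Fin n) R) S :=
    ((algebraMap S₀ S).comp π.toRingHom).toAlgebra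
  haveI : IsScalarTower (MvPolynomial (Fin n) R) S₀ S :=
    IsScalarTower.of_algebraMap_eq (fun _ => rfl)
  haveI : IsScalarTower R (MvPolynomial (Fin n) R) S := by
    refine IsScalarTower.of_algebraMap_eq (fun r => ?_)
    rw [IsScalarTower.algebraMap_apply (MvPolynomial (Fin n) R) S₀ S,
      ← IsScalarTower.algebraMap_apply R (MvPolynomial (Fin n) R) S₀,
      ← IsScalarTower.algebraMap_apply R S₀ S]
  -- module structures
  letI : Module S₀ M := Module.compHom M (algebraMap S₀ S)
  haveI : IsScalarTower S₀ S M := IsScalarTower.of_algebraMap_smul (fun _ _ => rfl)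
  letI : Module (MvPolynomial (Fin n) R) M := Module.compHom M (algebraMap (MvPolynomial (Fin n) R) S)
  haveI : IsScalarTower (MvPolynomial (Fin n) R) S M :=
    IsScalarTower.of_algebraMap_smul (fun _ _ => rfl)
  haveI : IsScalarTower (MvPolynomial (Fin n) R) S₀ M :=
    IsScalarTower.of_algebraMap_smul (fun _ _ => rfl)
  haveI : IsScalarTower R (MvPolynomial (Fin n) R) M := by
    refine IsScalarTower.of_algebraMap_smul (fun r x => ?_)
    rw [← algebraMap_smul S (algebraMap R (MvPolynomial (Fin n) R) r) x,
      ← IsScalarTower.algebraMap_apply R (MvPolynomial (Fin n) R) S, algebraMap_smul]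
  letI : Module S₀ N := Module.compHom N (algebraMap S₀ S)
  haveI : IsScalarTower S₀ S N := IsScalarTower.of_algebraMap_smul (fun _ _ => rfl)
  letI : Module (MvPolynomial (Fin n) R) N := Module.compHom N (algebraMap (MvPolynomial (Fin n) R) S)
  haveI : IsScalarTower (MvPolynomial (Fin n) R) S N :=
    IsScalarTower.of_algebraMap_smul (fun _ _ => rfl)
  haveI : IsScalarTower (MvPolynomial (Fin n) R) S₀ N :=
    IsScalarTower.of_algebraMap_smul (fun _ _ => rfl)
  haveI : IsScalarTower R (MvPolynomial (Fin n) R) N := by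
    refine IsScalarTower.of_algebraMap_smul (fun r x => ?_)
    rw [← algebraMap_smul S (algebraMap R (MvPolynomial (Fin n) R) r) x,
      ← IsScalarTower.algebraMap_apply R (MvPolynomial (Fin n) R) S, algebraMap_smul]
  -- primes
  set qb : Ideal S₀ := (maximalIdeal S).comap (algebraMap S₀ S) with hqb
  set q : Ideal (MvPolynomial (Fin n) R) :=
    (maximalIdeal S).comap (algebraMap (MvPolynomial (Fin n) R) S) with hqdef
  haveI : qb.IsPrime := Ideal.comap_isPrime _ _
  haveI : q.IsPrime := Ideal.comap_isPrime _ _
  have hq : q.comap (algebraMap R (MvPolynomial (Fin n) R)) = maximalIdeal R := by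
    rw [hqdef, Ideal.comap_comap, ← IsScalarTower.algebraMap_eq]
    exact IsLocalRing.maximalIdeal_comap (algebraMap R S)
  have hsub : Algebra.algebraMapSubmonoid S₀ q.primeCompl = qb.primeCompl := by
    ext x
    constructor
    · rintro ⟨t, ht, rfl⟩
      intro hmem
      apply ht
      change t ∈ q
      rw [hqdef, Ideal.mem_comap, IsScalarTower.algebraMap_apply (MvPolynomial (Fin n) R) S₀ S]
      exact hmem
    · intro hx
      obtain ⟨t, rfl⟩ := hπ x
      refine ⟨t, ?_, rfl⟩
      intro hmem
      apply hx
      change t ∈ q at hmem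
      rw [hqdef, Ideal.mem_comap, IsScalarTower.algebraMap_apply (MvPolynomial (Fin n) R) S₀ S]
        at hmem
      exact hmem
  haveI : IsLocalization (Algebra.algebraMapSubmonoid S₀ q.primeCompl) S := by
    rw [hsub]
    refine IsLocalization.of_le (M := Mon) qb.primeCompl ?_ ?_
    · intro m hm hmem
      change m ∈ Ideal.comap (algebraMap S₀ S) (maximalIdeal S) at hmem
      rw [Ideal.mem_comap, mem_maximalIdeal, mem_nonunits_iff] at hmem
      exact hmem (IsLocalization.map_units S ⟨m, hm⟩)
    · intro r hr
      by_contra hnu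
      apply hr
      change r ∈ Ideal.comap (algebraMap S₀ S) (maximalIdeal S)
      rw [Ideal.mem_comap, mem_maximalIdeal, mem_nonunits_iff]
      exact hnu
  obtain ⟨t1, K1, hK1, FM, hFM⟩ := Groth.Agent.Helper2.InjFlatQ.exists_pres (S := S)
    (hπ : Surjective (algebraMap (MvPolynomial (Fin n) R) S₀)) hker q.primeCompl M
  obtain ⟨t2, K2, hK2, FN, hFN⟩ := Groth.Agent.Helper2.InjFlatQ.exists_pres (S := S)
    (hπ : Surjective (algebraMap (MvPolynomial (Fin n) R) S₀)) hker q.primeCompl N
  obtain ⟨h1, h2⟩ := Groth.Agent.Helper2.InjFlatA.main_abstract q K1 K2 FM FN hq hK1 hK2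
    (u.restrictScalars (MvPolynomial (Fin n) R))
    (fun x hx => (mem_smul_top_iff (P := MvPolynomial (Fin n) R) (S := S) _ M x).1
      (hu x ((mem_smul_top_iff (P := MvPolynomial (Fin n) R) (S := S) _ N (u x)).2 hx)))
  refine ⟨h1, ?_⟩
  have hrange : (LinearMap.range (u.restrictScalars (MvPolynomial (Fin n) R))).restrictScalars R =
      (LinearMap.range u).restrictScalars R := by
    ext y
    simp
  exact Module.Flat.of_linearEquiv
    ((Submodule.Quotient.restrictScalarsEquiv R (LinearMap.range u)).symm ≪≫ₗ
      (Submodule.quotEquivOfEq _ _ hrange).symm ≪≫ₗ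
      Submodule.Quotient.restrictScalarsEquiv R
        (LinearMap.range (u.restrictScalars (MvPolynomial (Fin n) R))))

end Groth.Agent.Helper2.InjFlatFin
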