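import Mathlib
import Groth.Prelude

set_option autoImplicit false
open Function TensorProduct
universe u

namespace Groth.Agent.Helper2.EssFP

attribute [local instance] Algebra.TensorProduct.rightAlgebra

/-- localizations at primes of a finitely presented algebra are essentially of finite
presentation over the localization of the base. -/
theorem essFP_of_atPrime {A B : Type u} [CommRing A] [CommRing B] [Algebra A B]
    [Algebra.FinitePresentation A B]
    (p : Ideal A) [p.IsPrime] (q : Ideal B) [q.IsPrime]
    (hpq : ∀ a : A, a ∉ p → algebraMap A B a ∉ q)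
    (R S : Type u) [CommRing R] [CommRing S] [Algebra A R] [Algebra B S] [Algebra A S]
    [Algebra R S] [IsScalarTower A B S] [IsScalarTower A R S]
    [IsLocalization.AtPrime R p] [IsLocalization.AtPrime S q] :
    CAlgX.IsEssFinitePresentation R S := by
  let φ : R ⊗[A] B →ₐ[A] S :=
    Algebra.TensorProduct.lift (IsScalarTower.toAlgHom A R S) (IsScalarTower.toAlgHom A B S)
      (fun _ _ => Commute.all _ _)
  letI algS₀S : Algebra (R ⊗[A] B) S := φ.toRingHom.toAlgebra
  haveI t1 : IsScalarTower R (R ⊗[A] B) S := by
    refine IsScalarTower.of_algebraMap_eq (fun r => ?_)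
    change algebraMap R S r = φ (r ⊗ₜ 1)
    simp [φ]
  haveI t2 : IsScalarTower B (R ⊗[A] B) S := by
    refine IsScalarTower.of_algebraMap_eq (fun b => ?_)
    change algebraMap B S b = φ (1 ⊗ₜ b)
    simp [φ]
  haveI : IsLocalization (Algebra.algebraMapSubmonoid B p.primeCompl) (R ⊗[A] B) :=
    IsLocalization.tensorRight R p.primeCompl
  have hle : Algebra.algebraMapSubmonoid B p.primeCompl ≤ q.primeCompl := by
    rintro _ ⟨a, ha, rfl⟩
    exact hpq a ha
  refine ⟨R ⊗[A] B, inferInstance, inferInstance, algS₀S, t1,
    q.primeCompl.map (algebraMap B (R ⊗[A] B)), inferInstance, ?_⟩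
  exact IsLocalization.isLocalization_of_submonoid_le (R ⊗[A] B) S
    (Algebra.algebraMapSubmonoid B p.primeCompl) q.primeCompl hle

end Groth.Agent.Helper2.EssFP
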