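import Mathlib
import Groth.Prelude
import Groth.Agent.Helper2.EssFP
import Groth.Agent.Helper4.StalkDict
import Groth.Agent.Helper4.FPGlue

set_option autoImplicit false
open Function AlgebraicGeometry CategoryTheory TopologicalSpace
universe u

namespace Groth.Agent.Helper2.StalkEssFP

open Groth.Agent.Helper4

/-- stalk maps of morphisms locally of finite presentation are essentially of finite
presentation. -/
theorem essFP_stalk {X Y : Scheme.{u}} (f : X ⟶ Y) [LocallyOfFinitePresentation f] (x : X) :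
    letI := (f.stalkMap x).hom.toAlgebra
    CAlgX.IsEssFinitePresentation (Y.presheaf.stalk (f x)) (X.presheaf.stalk x) := by
  letI algRS := (f.stalkMap x).hom.toAlgebra
  obtain ⟨V, hV, hfxV, -⟩ := (Opens.isBasis_iff_nbhd.1 Y.isBasis_affineOpens)
    (show f x ∈ (⊤ : Y.Opens) from trivial)
  obtain ⟨W, hW, hxW, e⟩ := (Opens.isBasis_iff_nbhd.1 X.isBasis_affineOpens)
    (show x ∈ f ⁻¹ᵁ V from hfxV)
  letI algAB : Algebra Γ(Y, V) Γ(X, W) := (f.appLE V W e).hom.toAlgebra
  have hfp : (f.appLE V W e).hom.FinitePresentation :=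
    HasRingHomProperty.appLE @LocallyOfFinitePresentation f inferInstance ⟨V, hV⟩ ⟨W, hW⟩ e
  haveI : Algebra.FinitePresentation Γ(Y, V) Γ(X, W) := hfp
  letI algAR : Algebra Γ(Y, V) (Y.presheaf.stalk (f x)) :=
    (Y.presheaf.germ V (f x) hfxV).hom.toAlgebra
  letI algBS : Algebra Γ(X, W) (X.presheaf.stalk x) := (X.presheaf.germ W x hxW).hom.toAlgebra
  letI algAS : Algebra Γ(Y, V) (X.presheaf.stalk x) :=
    ((X.presheaf.germ W x hxW).hom.comp (f.appLE V W e).hom).toAlgebra
  haveI : IsScalarTower Γ(Y, V) Γ(X, W) (X.presheaf.stalk x) :=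
    IsScalarTower.of_algebraMap_eq (fun _ => rfl)
  haveI : IsScalarTower Γ(Y, V) (Y.presheaf.stalk (f x)) (X.presheaf.stalk x) := by
    refine IsScalarTower.of_algebraMap_eq (fun r => ?_)
    show (X.presheaf.germ W x hxW) ((f.appLE V W e).hom r) =
      (f.stalkMap x).hom (Y.presheaf.germ V (f x) hfxV r)
    rw [Scheme.Hom.germ_stalkMap_apply, Scheme.Hom.appLE, CommRingCat.comp_apply,
      TopCat.Presheaf.germ_res_apply]
  haveI : IsLocalization.AtPrime (Y.presheaf.stalk (f x))
      (hV.primeIdealOf ⟨f x, hfxV⟩).asIdeal := hV.isLocalization_stalk ⟨f x, hfxV⟩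
  haveI : IsLocalization.AtPrime (X.presheaf.stalk x)
      (hW.primeIdealOf ⟨x, hxW⟩).asIdeal := hW.isLocalization_stalk ⟨x, hxW⟩
  refine Groth.Agent.Helper2.EssFP.essFP_of_atPrime (hV.primeIdealOf ⟨f x, hfxV⟩).asIdeal
    (hW.primeIdealOf ⟨x, hxW⟩).asIdeal ?_ _ _
  intro a ha
  have h1 : IsUnit (algebraMap Γ(Y, V) (Y.presheaf.stalk (f x)) a) :=
    (IsLocalization.AtPrime.isUnit_to_map_iff (Y.presheaf.stalk (f x))
      (hV.primeIdealOf ⟨f x, hfxV⟩).asIdeal a).2 ha
  have h2 : IsUnit (algebraMap Γ(X, W) (X.presheaf.stalk x) (algebraMap Γ(Y, V) Γ(X, W) a)) := by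
    rw [← IsScalarTower.algebraMap_apply Γ(Y, V) Γ(X, W) (X.presheaf.stalk x),
      IsScalarTower.algebraMap_apply Γ(Y, V) (Y.presheaf.stalk (f x)) (X.presheaf.stalk x)]
    exact h1.map _
  exact (IsLocalization.AtPrime.isUnit_to_map_iff (X.presheaf.stalk x)
    (hW.primeIdealOf ⟨x, hxW⟩).asIdeal _).1 h2

/-- stalks of finitely presented quasi-coherent modules are finitely presented over the local
ring. -/
theorem fp_stalk {X : Scheme.{u}} (F : X.Modules) [F.IsQuasicoherent]
    (hF : SheafOfModules.IsFinitePresentation (R := X.ringCatSheaf) F) (x : X) :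
    Module.FinitePresentation (X.presheaf.stalk x) (F.presheaf.stalk x) := by
  obtain ⟨W, hW, hxW, -⟩ := (Opens.isBasis_iff_nbhd.1 X.isBasis_affineOpens)
    (show x ∈ (⊤ : X.Opens) from trivial)
  letI algBS : Algebra Γ(X, W) (X.presheaf.stalk x) := (X.presheaf.germ W x hxW).hom.toAlgebra
  haveI : IsLocalization.AtPrime (X.presheaf.stalk x)
      (hW.primeIdealOf ⟨x, hxW⟩).asIdeal := hW.isLocalization_stalk ⟨x, hxW⟩
  letI mA : Module Γ(X, W) (F.presheaf.stalk x) := StalkDict.sectionModStalk F x hxW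
  haveI : IsScalarTower Γ(X, W) (X.presheaf.stalk x) (F.presheaf.stalk x) :=
    IsScalarTower.of_algebraMap_smul (fun _ _ => rfl)
  haveI := StalkDict.isLocalizedModule_germ hW F x hxW
  haveI : Module.FinitePresentation Γ(X, W) Γ(F, W) := FPGlue.fp_sections F hF hW
  exact _root_.FinitePresentation.of_isBaseChange (StalkDict.germLin F x hxW)
    (IsLocalizedModule.isBaseChange (hW.primeIdealOf ⟨x, hxW⟩).asIdeal.primeCompl
      (X.presheaf.stalk x) (StalkDict.germLin F x hxW))

end Groth.Agent.Helper2.StalkEssFP
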