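import Mathlib
import Groth.Prelude
import Groth.Agent.Helper2.InjFlatFin
import Groth.Agent.Helper2.StalkEssFP
import Groth.Agent.Helper4.StalkExact
import Groth.Agent.Helper4.EpiStalk

set_option autoImplicit false
open Function AlgebraicGeometry CategoryTheory CategoryTheory.Limits TopologicalSpace IsLocalRing
universe u

namespace Groth.Agent.Helper2.StalkInjFlat

open Groth.Agent.Helper4 Groth.Agent.Helper4.StalkDict Groth.Agent.Helper4.StalkExact
open Groth.Agent.Helper2.FlatDescCore

section Alg
variable {R M N C : Type u} [CommRing R] [AddCommGroup M] [Module R M] [AddCommGroup N]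
  [Module R N] [AddCommGroup C] [Module R C]

/-- injectivity modulo an ideal of an injective map with flat cokernel. -/
theorem mem_smul_top_of_flat_coker (I : Ideal R) (u : M →ₗ[R] N) (π : N →ₗ[R] C)
    (hu : Injective u) (hπ : Surjective π) (hex : Function.Exact u π) [Module.Flat R C]
    (m : M) (hm : u m ∈ I • (⊤ : Submodule R N)) : m ∈ I • (⊤ : Submodule R M) := by
  have hinj := LinearMap.lTensor_injective_of_exact_of_flat π hπ u hu hex (R ⧸ I)
  have key : ∀ (X : Type u) [AddCommGroup X] [Module R X] (x : X),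
      x ∈ I • (⊤ : Submodule R X) ↔ (1 : R ⧸ I) ⊗ₜ[R] x = 0 := by
    intro X _ _ x
    rw [← (TensorProduct.quotTensorEquivQuotSMul X I).map_eq_zero_iff,
      ← map_one (Ideal.Quotient.mk I), TensorProduct.quotTensorEquivQuotSMul_mk_tmul, one_smul,
      Submodule.Quotient.mk_eq_zero]
  rw [key] at hm ⊢
  apply hinj
  rw [LinearMap.lTensor_tmul, hm, map_zero]

end Alg

section Stalk
variable {X : Scheme.{u}}

theorem stalkLin_comp {F G H : X.Modules} (a : F ⟶ G) (b : G ⟶ H) (x : X)
    (m : F.presheaf.stalk x) : stalkLin (a ≫ b) x m = stalkLin b x (stalkLin a x m) := by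
  obtain ⟨V, hxV, m, rfl⟩ := TopCat.Presheaf.exists_germ_eq F.presheaf m
  rw [stalkLin_germ, stalkLin_germ, stalkLin_germ]
  rfl

/-- right exactness of stalks for a cokernel. -/
theorem stalkLin_exact_cokernel {F' F : X.Modules} (u : F' ⟶ F) (x : X) :
    Function.Exact (stalkLin u x) (stalkLin (cokernel.π u) x) := by
  have hS : (ShortComplex.mk (Abelian.image.ι u) (cokernel.π u)
      (kernel.condition (cokernel.π u))).Exact :=
    ShortComplex.exact_of_f_is_kernel _ (kernelIsKernel (cokernel.π u))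
  have hex := stalkLin_exact _ hS x
  have hsurj := Groth.Agent.Helper4.EpiStalk.stalkLin_surjective_of_epi (Abelian.factorThruImage u) x
  intro t
  rw [hex t]
  constructor
  · rintro ⟨n, rfl⟩
    obtain ⟨m, rfl⟩ := hsurj n
    refine ⟨m, ?_⟩
    rw [← stalkLin_comp, Abelian.image.fac]
  · rintro ⟨m, rfl⟩
    refine ⟨stalkLin (Abelian.factorThruImage u) x m, ?_⟩
    rw [← stalkLin_comp, Abelian.image.fac]

end Stalk

/-- **S4850**. -/
theorem s4850 {X Y : Scheme.{u}} (f : X ⟶ Y)
    [LocallyOfFinitePresentation f] (F F' : X.Modules) [Coh.IsQCoh F] [Coh.IsQCoh F']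
    (hF : CohB1.IsFP F) (hF' : CohB1.IsFP F') (u : F' ⟶ F) (x : X)
    (hflat : FlatMod.IsFlatOverAt f F x) :
    letI J : Ideal ↑(X.presheaf.stalk x) :=
      Ideal.map (f.stalkMap x).hom (IsLocalRing.maximalIdeal ↑(Y.presheaf.stalk (f x)))
    letI ux := (TopCat.Presheaf.stalkFunctor Ab x).map (Scheme.Modules.Hom.mapPresheaf u)
    (Function.Injective ux ∧ FlatMod.IsFlatOverAt f (cokernel u) x) ↔
      ∀ m : ↑(F'.presheaf.stalk x),
        ux m ∈ (J • (⊤ : Submodule ↑(X.presheaf.stalk x) ↑(F.presheaf.stalk x))) →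
          m ∈ (J • (⊤ : Submodule ↑(X.presheaf.stalk x) ↑(F'.presheaf.stalk x))) := by
  letI algRS : Algebra (Y.presheaf.stalk (f x)) (X.presheaf.stalk x) :=
    (f.stalkMap x).hom.toAlgebra
  haveI : IsLocalHom (algebraMap (Y.presheaf.stalk (f x)) (X.presheaf.stalk x)) :=
    inferInstanceAs (IsLocalHom (f.stalkMap x).hom)
  have hess := Groth.Agent.Helper2.StalkEssFP.essFP_stalk f x
  letI mM : Module (Y.presheaf.stalk (f x)) (F'.presheaf.stalk x) :=
    FlatMod.moduleStalkOver f F' x
  haveI : IsScalarTower (Y.presheaf.stalk (f x)) (X.presheaf.stalk x) (F'.presheaf.stalk x) :=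
    IsScalarTower.of_algebraMap_smul (fun _ _ => rfl)
  letI mN : Module (Y.presheaf.stalk (f x)) (F.presheaf.stalk x) :=
    FlatMod.moduleStalkOver f F x
  haveI : IsScalarTower (Y.presheaf.stalk (f x)) (X.presheaf.stalk x) (F.presheaf.stalk x) :=
    IsScalarTower.of_algebraMap_smul (fun _ _ => rfl)
  letI mC : Module (Y.presheaf.stalk (f x)) ((cokernel u).presheaf.stalk x) :=
    FlatMod.moduleStalkOver f (cokernel u) x
  haveI : IsScalarTower (Y.presheaf.stalk (f x)) (X.presheaf.stalk x)
      ((cokernel u).presheaf.stalk x) :=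
    IsScalarTower.of_algebraMap_smul (fun _ _ => rfl)
  haveI : Module.FinitePresentation (X.presheaf.stalk x) (F'.presheaf.stalk x) :=
    Groth.Agent.Helper2.StalkEssFP.fp_stalk F' hF' x
  haveI : Module.FinitePresentation (X.presheaf.stalk x) (F.presheaf.stalk x) :=
    Groth.Agent.Helper2.StalkEssFP.fp_stalk F hF x
  haveI : Module.Flat (Y.presheaf.stalk (f x)) (F.presheaf.stalk x) := hflat
  have hexact := stalkLin_exact_cokernel u x
  have hsurj := Groth.Agent.Helper4.EpiStalk.stalkLin_surjective_of_epi (cokernel.π u) x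
  constructor
  · rintro ⟨hinj, hCflat⟩ m hm
    haveI : Module.Flat (Y.presheaf.stalk (f x)) ((cokernel u).presheaf.stalk x) := hCflat
    have hm' : (stalkLin u x) m ∈ (maximalIdeal (Y.presheaf.stalk (f x))) •
        (⊤ : Submodule (Y.presheaf.stalk (f x)) (F.presheaf.stalk x)) :=
      mem_smul_top_of_mem_map_smul_top (A := Y.presheaf.stalk (f x)) (X.presheaf.stalk x)
        (maximalIdeal (Y.presheaf.stalk (f x))) _ hm
    have := mem_smul_top_of_flat_coker (maximalIdeal (Y.presheaf.stalk (f x)))
      ((stalkLin u x).restrictScalars (Y.presheaf.stalk (f x)))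
      ((stalkLin (cokernel.π u) x).restrictScalars (Y.presheaf.stalk (f x)))
      hinj hsurj hexact m hm'
    exact mem_map_smul_top_of_mem_smul_top (maximalIdeal (Y.presheaf.stalk (f x))) _ this
  · intro hfib
    obtain ⟨h1, h2⟩ := Groth.Agent.Helper2.InjFlatFin.s2107 hess (stalkLin u x) hfib
    refine ⟨h1, ?_⟩
    have hker : LinearMap.ker ((stalkLin (cokernel.π u) x).restrictScalars
        (Y.presheaf.stalk (f x))) =
        (LinearMap.range (stalkLin u x)).restrictScalars (Y.presheaf.stalk (f x)) := by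
      ext y
      rw [LinearMap.mem_ker, Submodule.restrictScalars_mem, LinearMap.mem_range]
      exact hexact y
    exact Module.Flat.of_linearEquiv
      ((LinearMap.quotKerEquivOfSurjective ((stalkLin (cokernel.π u) x).restrictScalars
          (Y.presheaf.stalk (f x))) hsurj).symm ≪≫ₗ
        (Submodule.quotEquivOfEq _ _ hker) ≪≫ₗ
        Submodule.Quotient.restrictScalarsEquiv (Y.presheaf.stalk (f x))
          (LinearMap.range (stalkLin u x)))

end Groth.Agent.Helper2.StalkInjFlat
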