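import Mathlib
import Groth.Prelude
import Groth.Agent.Helper2.KerFP
import Groth.Agent.Helper2.FlatLocusMod
import Groth.Agent.Helper2.StalkInjFlat
import Groth.Agent.Helper4.QcohEpi
import Groth.Agent.Helper4.FinLocFree5

set_option autoImplicit false
open Function AlgebraicGeometry CategoryTheory CategoryTheory.Limits TopologicalSpace
universe u

namespace Groth.Agent.Helper2.InjCokerOpen

open Groth.Agent.Helper4 Groth.Agent.Helper4.StalkDict Groth.Agent.Helper4.StalkExact
open Groth.Agent.Helper4.QcohEpi Groth.Agent.Helper2.StalkInjFlat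

section Dict
variable {X : Scheme.{u}} {F' F : X.Modules} (u : F' ⟶ F) {W : X.Opens} (hW : IsAffineOpen W)

theorem app_cokernel_π_app (m' : Γ(F', W)) : (cokernel.π u).app W (u.app W m') = 0 := by
  have h : (u ≫ cokernel.π u).app W m' = 0 := by
    rw [cokernel.condition]
    rfl
  exact h

/-- the canonical map from the algebraic cokernel of sections over `W` to the stalk of the sheaf
cokernel. -/
noncomputable def cokerGerm (x : X) (hx : x ∈ W) :
    letI := sectionModStalk (cokernel u) x hx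
    (Γ(F, W) ⧸ LinearMap.range (appLin u W)) →ₗ[Γ(X, W)] (cokernel u).presheaf.stalk x :=
  letI := sectionModStalk (cokernel u) x hx
  (LinearMap.range (appLin u W)).liftQ
    (germLin (cokernel u) x hx ∘ₗ appLin (cokernel.π u) W) (by
      rintro _ ⟨m', rfl⟩
      rw [LinearMap.mem_ker, LinearMap.comp_apply, appLin_apply, appLin_apply,
        app_cokernel_π_app, map_zero])

theorem cokerGerm_mk (x : X) (hx : x ∈ W) (m : Γ(F, W)) :
    cokerGerm u x hx (Submodule.Quotient.mk m) =
      stalkLin (cokernel.π u) x (F.presheaf.germ W x hx m) := by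
  rw [stalkLin_germ]
  rfl

include hW in
set_option backward.isDefEq.respectTransparency false in
/-- the stalk of the cokernel is the localization of the algebraic cokernel of sections. -/
theorem isLocalizedModule_cokerGerm [F.IsQuasicoherent] [F'.IsQuasicoherent] (x : X)
    (hx : x ∈ W) :
    letI := sectionModStalk (cokernel u) x hx
    IsLocalizedModule (hW.primeIdealOf ⟨x, hx⟩).asIdeal.primeCompl (cokerGerm u x hx) := by
  letI mC := sectionModStalk (cokernel u) x hx
  letI mF := sectionModStalk F x hx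
  letI mF' := sectionModStalk F' x hx
  haveI locF := isLocalizedModule_germ hW F x hx
  haveI locF' := isLocalizedModule_germ hW F' x hx
  have hexact := stalkLin_exact_cokernel u x
  have hsurj := Groth.Agent.Helper4.EpiStalk.stalkLin_surjective_of_epi (cokernel.π u) x
  -- linearity of stalk maps over sections
  have hlinπ : ∀ (s : Γ(X, W)) (z : F.presheaf.stalk x),
      stalkLin (cokernel.π u) x (s • z) = s • stalkLin (cokernel.π u) x z := fun s z => by
    change stalkLin (cokernel.π u) x (X.presheaf.germ W x hx s • z) =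
      X.presheaf.germ W x hx s • stalkLin (cokernel.π u) x z
    rw [map_smul]
  have hlinu : ∀ (s : Γ(X, W)) (z : F'.presheaf.stalk x),
      stalkLin u x (s • z) = s • stalkLin u x z := fun s z => by
    change stalkLin u x (X.presheaf.germ W x hx s • z) =
      X.presheaf.germ W x hx s • stalkLin u x z
    rw [map_smul]
  refine ⟨?_, ?_, ?_⟩
  · -- units
    rintro ⟨s, hs⟩
    have hs' : x ∈ X.basicOpen s := (mem_basicOpen_iff_notMem_primeIdealOf hW x hx s).mpr hs
    have hu : IsUnit (X.presheaf.germ W x hx s) := (X.mem_basicOpen s x hx).mp hs'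
    rw [Module.End.isUnit_iff]
    obtain ⟨v, hv⟩ := hu
    constructor
    · intro a b hab
      have hab' : X.presheaf.germ W x hx s • a = X.presheaf.germ W x hx s • b := hab
      rw [← hv] at hab'
      have := congrArg (fun z => (↑v⁻¹ : X.presheaf.stalk x) • z) hab'
      simpa [smul_smul] using this
    · intro b
      refine ⟨(↑v⁻¹ : X.presheaf.stalk x) • b, ?_⟩
      change X.presheaf.germ W x hx s • ((↑v⁻¹ : X.presheaf.stalk x) • b) = b
      rw [← hv, smul_smul]
      simp
  · -- surjectivity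
    intro y
    obtain ⟨z, rfl⟩ := hsurj y
    obtain ⟨⟨m, s⟩, hms⟩ := IsLocalizedModule.surj (hW.primeIdealOf ⟨x, hx⟩).asIdeal.primeCompl
      (germLin F x hx) z
    refine ⟨⟨Submodule.Quotient.mk m, s⟩, ?_⟩
    change (s : Γ(X, W)) • stalkLin (cokernel.π u) x z = cokerGerm u x hx (Submodule.Quotient.mk m)
    rw [cokerGerm_mk, ← hlinπ]
    congr 1
  · -- kernel
    intro c₁ c₂ h
    obtain ⟨m₁, rfl⟩ := Submodule.Quotient.mk_surjective _ c₁
    obtain ⟨m₂, rfl⟩ := Submodule.Quotient.mk_surjective _ c₂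
    rw [cokerGerm_mk, cokerGerm_mk, ← sub_eq_zero, ← map_sub, ← map_sub] at h
    obtain ⟨z, hz⟩ := (hexact _).mp h
    obtain ⟨⟨m', s⟩, hms⟩ := IsLocalizedModule.surj (hW.primeIdealOf ⟨x, hx⟩).asIdeal.primeCompl
      (germLin F' x hx) z
    have hms' : (s : Γ(X, W)) • z = F'.presheaf.germ W x hx m' := hms
    have h1 : germLin F x hx ((s : Γ(X, W)) • (m₁ - m₂)) = germLin F x hx (appLin u W m') := by
      rw [map_smul, germLin_apply, germLin_apply, appLin_apply, ← stalkLin_germ, ← hms', hlinu, hz]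
    obtain ⟨t, ht⟩ := IsLocalizedModule.exists_of_eq
      (S := (hW.primeIdealOf ⟨x, hx⟩).asIdeal.primeCompl) h1
    refine ⟨t * s, ?_⟩
    rw [← sub_eq_zero, ← smul_sub, ← Submodule.Quotient.mk_sub, ← Submodule.Quotient.mk_smul,
      Submodule.Quotient.mk_eq_zero]
    refine ⟨(t : Γ(X, W)) • m', ?_⟩
    rw [map_smul]
    have ht' : (t : Γ(X, W)) • (s : Γ(X, W)) • (m₁ - m₂) = (t : Γ(X, W)) • appLin u W m' := ht
    rw [← ht', smul_smul]
    rfl

include hW in
/-- injectivity of the stalk map forces elements of the kernel on sections to be killed by a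
function not vanishing at `x`. -/
theorem exists_smul_eq_zero_of_injective [F'.IsQuasicoherent] (x : X) (hx : x ∈ W)
    (hinj : Injective (stalkLin u x)) (m' : Γ(F', W)) (hm' : appLin u W m' = 0) :
    ∃ t : Γ(X, W), t ∉ (hW.primeIdealOf ⟨x, hx⟩).asIdeal ∧ t • m' = 0 := by
  letI mF' := sectionModStalk F' x hx
  haveI locF' := isLocalizedModule_germ hW F' x hx
  have h0 : stalkLin u x (F'.presheaf.germ W x hx m') = 0 := by
    rw [stalkLin_germ]
    have : u.app W m' = 0 := hm'
    rw [this, map_zero]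
  have h1 : F'.presheaf.germ W x hx m' = 0 := hinj (by rw [h0, map_zero])
  have h2 : germLin F' x hx m' = germLin F' x hx 0 := by
    rw [germLin_apply, h1, map_zero]
  obtain ⟨t, ht⟩ := IsLocalizedModule.exists_of_eq
    (S := (hW.primeIdealOf ⟨x, hx⟩).asIdeal.primeCompl) h2
  refine ⟨t, t.2, ?_⟩
  have : (t : Γ(X, W)) • m' = (t : Γ(X, W)) • (0 : Γ(F', W)) := ht
  rw [this, smul_zero]

include hW in
/-- conversely, if the kernel on sections is killed locally at `x`, the stalk map is injective. -/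
theorem injective_of_forall_exists_smul_eq_zero [F.IsQuasicoherent] [F'.IsQuasicoherent] (x : X)
    (hx : x ∈ W)
    (H : ∀ m' : Γ(F', W), appLin u W m' = 0 →
      ∃ t : Γ(X, W), t ∉ (hW.primeIdealOf ⟨x, hx⟩).asIdeal ∧ t • m' = 0) :
    Injective (stalkLin u x) := by
  letI mF := sectionModStalk F x hx
  letI mF' := sectionModStalk F' x hx
  haveI locF := isLocalizedModule_germ hW F x hx
  haveI locF' := isLocalizedModule_germ hW F' x hx
  have hlinu : ∀ (s : Γ(X, W)) (z : F'.presheaf.stalk x),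
      stalkLin u x (s • z) = s • stalkLin u x z := fun s z => by
    change stalkLin u x (X.presheaf.germ W x hx s • z) =
      X.presheaf.germ W x hx s • stalkLin u x z
    rw [map_smul]
  rw [← LinearMap.ker_eq_bot, LinearMap.ker_eq_bot']
  intro z hz
  obtain ⟨⟨m', s⟩, hms⟩ := IsLocalizedModule.surj (hW.primeIdealOf ⟨x, hx⟩).asIdeal.primeCompl
    (germLin F' x hx) z
  have hms' : (s : Γ(X, W)) • z = F'.presheaf.germ W x hx m' := hms
  -- `germ (u m') = 0`
  have h1 : germLin F x hx (appLin u W m') = germLin F x hx 0 := by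
    rw [germLin_apply, appLin_apply, ← stalkLin_germ, ← hms', hlinu, hz, smul_zero, map_zero]
  obtain ⟨c, hc⟩ := IsLocalizedModule.exists_of_eq
    (S := (hW.primeIdealOf ⟨x, hx⟩).asIdeal.primeCompl) h1
  have hc' : appLin u W ((c : Γ(X, W)) • m') = 0 := by
    rw [map_smul]
    have : (c : Γ(X, W)) • appLin u W m' = (c : Γ(X, W)) • (0 : Γ(F, W)) := hc
    rw [this, smul_zero]
  obtain ⟨t, ht, htm⟩ := H _ hc'
  -- `(t c s) • z = 0`
  have h2 : (t * c * s : Γ(X, W)) • z = 0 := by
    rw [mul_smul, hms', ← germLin_apply, ← map_smul, ← smul_smul, htm, map_zero]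
  have hmem : t * c * s ∈ (hW.primeIdealOf ⟨x, hx⟩).asIdeal.primeCompl :=
    Submonoid.mul_mem _ (Submonoid.mul_mem _ ht c.2) s.2
  have hinj := IsLocalizedModule.smul_injective (germLin F' x hx) ⟨t * c * s, hmem⟩
  exact hinj (by
    change (t * c * s : Γ(X, W)) • z = (t * c * s : Γ(X, W)) • (0 : F'.presheaf.stalk x)
    rw [h2, smul_zero])

end Dict

section Flat
variable {X Y : Scheme.{u}} (f : X ⟶ Y) {F' F : X.Modules} (u : F' ⟶ F)

/-- flatness of the cokernel sheaf at a point of an affine chart, in terms of the algebraic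
cokernel of sections. -/
theorem isFlatOverAt_cokernel_iff [F.IsQuasicoherent] [F'.IsQuasicoherent]
    {V : Y.Opens} (hV : IsAffineOpen V) {W : X.Opens} (hW : IsAffineOpen W)
    (e : W ≤ f ⁻¹ᵁ V) (x : X) (hx : x ∈ W) :
    letI := (f.appLE V W e).hom.toAlgebra
    letI : Module Γ(Y, V) Γ(F, W) := Module.compHom _ (f.appLE V W e).hom
    haveI : IsScalarTower Γ(Y, V) Γ(X, W) Γ(F, W) :=
      IsScalarTower.of_algebraMap_smul fun _ _ => rfl
    FlatMod.IsFlatOverAt f (cokernel u) x ↔
      Module.Flat Γ(Y, V) (LocalizedModule (hW.primeIdealOf ⟨x, hx⟩).asIdeal.primeCompl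
        (Γ(F, W) ⧸ LinearMap.range (appLin u W))) := by
  letI alg : Algebra Γ(Y, V) Γ(X, W) := (f.appLE V W e).hom.toAlgebra
  letI modR : Module Γ(Y, V) Γ(F, W) := Module.compHom _ (f.appLE V W e).hom
  haveI : IsScalarTower Γ(Y, V) Γ(X, W) Γ(F, W) :=
    IsScalarTower.of_algebraMap_smul fun r m => rfl
  letI mA : Module Γ(X, W) ((cokernel u).presheaf.stalk x) :=
    sectionModStalk (cokernel u) x hx
  letI mR : Module Γ(Y, V) ((cokernel u).presheaf.stalk x) :=
    Module.compHom _ ((X.presheaf.germ W x hx).hom.comp (f.appLE V W e).hom)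
  haveI : IsScalarTower Γ(Y, V) Γ(X, W) ((cokernel u).presheaf.stalk x) :=
    IsScalarTower.of_algebraMap_smul fun r m => rfl
  haveI := isLocalizedModule_cokerGerm u hW x hx
  let eq := IsLocalizedModule.iso (hW.primeIdealOf ⟨x, hx⟩).asIdeal.primeCompl
    (cokerGerm u x hx)
  rw [Groth.Agent.Helper5.AffFlat.isFlatOverAt_iff f (cokernel u) hV e x hx]
  exact ⟨fun h => Module.Flat.of_linearEquiv (eq.restrictScalars Γ(Y, V)),
    fun h => Module.Flat.of_linearEquiv (eq.symm.restrictScalars Γ(Y, V))⟩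

end Flat

/-- a finitely generated submodule whose elements are each killed by an element outside a prime
is killed by a single element outside the prime. -/
theorem exists_smul_eq_zero_of_fg {B M : Type u} [CommRing B] [AddCommGroup M] [Module B M]
    (q : Ideal B) [q.IsPrime] (K : Submodule B M) (hK : K.FG)
    (H : ∀ m ∈ K, ∃ t : B, t ∉ q ∧ t • m = 0) :
    ∃ t : B, t ∉ q ∧ ∀ m ∈ K, t • m = 0 := by
  classical
  obtain ⟨T, hT⟩ := hK
  have hsub : ∀ g ∈ T, g ∈ K := fun g hg => hT ▸ Submodule.subset_span hg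
  choose! τ hτ using H
  refine ⟨∏ g ∈ T, τ g, ?_, ?_⟩
  · intro hmem
    obtain ⟨g, hg, hgq⟩ := (Ideal.IsPrime.prod_mem_iff.mp hmem)
    exact (hτ g (hsub g hg)).1 hgq
  · intro m hm
    rw [← hT] at hm
    induction hm using Submodule.span_induction with
    | mem g hg =>
      obtain ⟨c, hc⟩ := Finset.dvd_prod_of_mem τ hg
      rw [hc, mul_comm, mul_smul, (hτ g (hsub g hg)).2, smul_zero]
    | zero => exact smul_zero _
    | add a b _ _ ha hb => rw [smul_add, ha, hb, add_zero]
    | smul r a _ ha => rw [smul_comm, ha, smul_zero]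

set_option maxHeartbeats 1000000 in
/-- **S4851**: openness of the locus where `u_x` is injective and `Coker u` is flat. -/
theorem s4851 {X Y : Scheme.{u}} (f : X ⟶ Y)
    [LocallyOfFinitePresentation f] (F F' : X.Modules) [F.IsQuasicoherent] [F'.IsQuasicoherent]
    (hF : SheafOfModules.IsFinitePresentation (R := X.ringCatSheaf) F)
    (hF' : SheafOfModules.IsFinitePresentation (R := X.ringCatSheaf) F') (u : F' ⟶ F) :
    IsOpen {x : X | Function.Injective (stalkLin u x) ∧
      FlatMod.IsFlatOverAt f (cokernel u) x} := by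
  rw [isOpen_iff_forall_mem_open]
  rintro x₀ ⟨hinj₀, hfl₀⟩
  obtain ⟨V, hV, hfxV, -⟩ := (Opens.isBasis_iff_nbhd.1 Y.isBasis_affineOpens)
    (show f x₀ ∈ (⊤ : Y.Opens) from trivial)
  obtain ⟨W₀, hW₀, hxW₀, e₀⟩ := (Opens.isBasis_iff_nbhd.1 X.isBasis_affineOpens)
    (show x₀ ∈ f ⁻¹ᵁ V from hfxV)
  -- step 1: the flat locus of the cokernel inside `W₀` is open
  have hU₁ : ∃ U₁ : X.Opens, x₀ ∈ U₁ ∧ U₁ ≤ W₀ ∧
      ∀ x ∈ U₁, FlatMod.IsFlatOverAt f (cokernel u) x := by
    letI alg : Algebra Γ(Y, V) Γ(X, W₀) := (f.appLE V W₀ e₀).hom.toAlgebra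
    letI modR : Module Γ(Y, V) Γ(F, W₀) := Module.compHom _ (f.appLE V W₀ e₀).hom
    haveI : IsScalarTower Γ(Y, V) Γ(X, W₀) Γ(F, W₀) :=
      IsScalarTower.of_algebraMap_smul fun _ _ => rfl
    have hfp : (f.appLE V W₀ e₀).hom.FinitePresentation :=
      HasRingHomProperty.appLE @LocallyOfFinitePresentation f inferInstance ⟨V, hV⟩ ⟨W₀, hW₀⟩ e₀
    haveI : Algebra.FinitePresentation Γ(Y, V) Γ(X, W₀) := hfp
    haveI : Module.FinitePresentation Γ(X, W₀) Γ(F, W₀) := FPGlue.fp_sections F hF hW₀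
    haveI : Module.FinitePresentation Γ(X, W₀) Γ(F', W₀) := FPGlue.fp_sections F' hF' hW₀
    haveI : Module.FinitePresentation Γ(X, W₀) (Γ(F, W₀) ⧸ LinearMap.range (appLin u W₀)) := by
      refine Module.finitePresentation_of_surjective (LinearMap.range (appLin u W₀)).mkQ
        (Submodule.mkQ_surjective _) ?_
      rw [Submodule.ker_mkQ, LinearMap.range_eq_map]
      exact (Module.Finite.fg_top).map _
    have hopen := Groth.Agent.Helper2.FlatDescApp.isOpen_flatLocus_fp (R := Γ(Y, V))
      (S := Γ(X, W₀)) (M := Γ(F, W₀) ⧸ LinearMap.range (appLin u W₀))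
    have hop2 : IsOpen (Subtype.val '' ((fun y : W₀ => IsAffineOpen.primeIdealOf hW₀ y) ⁻¹'
        {q : PrimeSpectrum Γ(X, W₀) | Module.Flat Γ(Y, V)
          (LocalizedModule q.asIdeal.primeCompl
            (Γ(F, W₀) ⧸ LinearMap.range (appLin u W₀)))})) :=
      W₀.2.isOpenEmbedding_subtypeVal.isOpenMap _
        (hopen.preimage (IsAffineOpen.isoSpec hW₀).hom.continuous)
    refine ⟨⟨_, hop2⟩, ?_, ?_, ?_⟩
    · exact ⟨⟨x₀, hxW₀⟩, (isFlatOverAt_cokernel_iff f u hV hW₀ e₀ x₀ hxW₀).1 hfl₀, rfl⟩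
    · rintro _ ⟨y, -, rfl⟩
      exact y.2
    · rintro _ ⟨y, hy, rfl⟩
      exact (isFlatOverAt_cokernel_iff f u hV hW₀ e₀ y.1 y.2).2 hy
  obtain ⟨U₁, hxU₁, hU₁W₀, hU₁fl⟩ := hU₁
  -- step 2: a smaller affine chart on which the cokernel is flat
  obtain ⟨W, hW, hxW, hWU₁⟩ := (Opens.isBasis_iff_nbhd.1 X.isBasis_affineOpens) hxU₁
  have e : W ≤ f ⁻¹ᵁ V := (hWU₁.trans hU₁W₀).trans e₀
  letI alg : Algebra Γ(Y, V) Γ(X, W) := (f.appLE V W e).hom.toAlgebra
  letI modR : Module Γ(Y, V) Γ(F, W) := Module.compHom _ (f.appLE V W e).hom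
  haveI : IsScalarTower Γ(Y, V) Γ(X, W) Γ(F, W) :=
    IsScalarTower.of_algebraMap_smul fun _ _ => rfl
  have hfp : (f.appLE V W e).hom.FinitePresentation :=
    HasRingHomProperty.appLE @LocallyOfFinitePresentation f inferInstance ⟨V, hV⟩ ⟨W, hW⟩ e
  haveI : Algebra.FinitePresentation Γ(Y, V) Γ(X, W) := hfp
  haveI : Module.FinitePresentation Γ(X, W) Γ(F, W) := FPGlue.fp_sections F hF hW
  haveI : Module.FinitePresentation Γ(X, W) Γ(F', W) := FPGlue.fp_sections F' hF' hW
  haveI hCfp : Module.FinitePresentation Γ(X, W) (Γ(F, W) ⧸ LinearMap.range (appLin u W)) := by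
    refine Module.finitePresentation_of_surjective (LinearMap.range (appLin u W)).mkQ
      (Submodule.mkQ_surjective _) ?_
    rw [Submodule.ker_mkQ, LinearMap.range_eq_map]
    exact (Module.Finite.fg_top).map _
  haveI hCflat : Module.Flat Γ(Y, V) (Γ(F, W) ⧸ LinearMap.range (appLin u W)) := by
    refine Module.flat_of_isLocalized_maximal Γ(X, W) (Γ(F, W) ⧸ LinearMap.range (appLin u W))
      (fun P _ => LocalizedModule P.primeCompl (Γ(F, W) ⧸ LinearMap.range (appLin u W)))
      (fun P _ => LocalizedModule.mkLinearMap P.primeCompl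
        (Γ(F, W) ⧸ LinearMap.range (appLin u W))) ?_
    intro P hP
    obtain ⟨y, hy, hyP⟩ := FinLocFree5.exists_point_of_prime hW ⟨P, hP.isPrime⟩
    have hfl := (isFlatOverAt_cokernel_iff f u hV hW e y hy).1 (hU₁fl y (hWU₁ hy))
    have hP' : (hW.primeIdealOf ⟨y, hy⟩).asIdeal = P := by rw [hyP]
    subst hP'
    exact hfl
  -- step 3: the image is finitely presented, hence the kernel finitely generated
  haveI hIfp : Module.FinitePresentation Γ(X, W)
      (LinearMap.ker (LinearMap.range (appLin u W)).mkQ) :=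
    Groth.Agent.Helper2.KerFP.fp_ker_of_flat (A := Γ(Y, V)) (B := Γ(X, W))
      (Γ(F, W) ⧸ LinearMap.range (appLin u W)) (LinearMap.range (appLin u W)).mkQ
      (Submodule.mkQ_surjective _)
  haveI : Module.FinitePresentation Γ(X, W) (LinearMap.range (appLin u W)) := by
    have h : LinearMap.ker (LinearMap.range (appLin u W)).mkQ = LinearMap.range (appLin u W) :=
      Submodule.ker_mkQ _
    rw [h] at hIfp
    exact hIfp
  have hKfg : (LinearMap.ker (appLin u W)).FG := by
    have h := Module.FinitePresentation.fg_ker (appLin u W).rangeRestrict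
      (LinearMap.surjective_rangeRestrict _)
    rwa [LinearMap.ker_rangeRestrict] at h
  -- step 4: kill the kernel near `x₀`
  obtain ⟨t, ht, htK⟩ := exists_smul_eq_zero_of_fg (hW.primeIdealOf ⟨x₀, hxW⟩).asIdeal
    (LinearMap.ker (appLin u W)) hKfg
    (fun m' hm' => exists_smul_eq_zero_of_injective u hW x₀ hxW hinj₀ m' hm')
  refine ⟨X.basicOpen t, ?_, (X.basicOpen t).2, ?_⟩
  · intro x hx
    have hxW' : x ∈ W := X.basicOpen_le t hx
    refine ⟨?_, hU₁fl x (hWU₁ hxW')⟩
    refine injective_of_forall_exists_smul_eq_zero u hW x hxW' (fun m' hm' => ⟨t, ?_, htK m' hm'⟩)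
    exact (mem_basicOpen_iff_notMem_primeIdealOf hW x hxW' t).mp hx
  · exact (mem_basicOpen_iff_notMem_primeIdealOf hW x₀ hxW t).mpr ht

end Groth.Agent.Helper2.InjCokerOpen
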