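import Mathlib
import Groth.Prelude
import Groth.Agent.Helper4.StalkDict
import Groth.Agent.Helper4.StalkExact

set_option autoImplicit false
open AlgebraicGeometry CategoryTheory CategoryTheory.Limits TopologicalSpace Opposite
universe u

namespace Groth.Agent.Helper2.MulSec

open Groth.Agent.Helper4.StalkDict Groth.Agent.Helper4.StalkExact

variable {X : Scheme.{u}}

/-- restriction of a global function to an open. -/
noncomputable def resTop (g : Γ(X, ⊤)) (U : X.Opens) : Γ(X, U) :=
  X.presheaf.map (homOfLE (le_top : U ≤ ⊤)).op g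

theorem resTop_map (g : Γ(X, ⊤)) {U V : X.Opens} (i : U ⟶ V) :
    X.presheaf.map i.op (resTop g V) = resTop g U := by
  unfold resTop
  rw [← CommRingCat.comp_apply, ← X.presheaf.map_comp]
  rfl

/-- multiplication by a global function, as an endomorphism of an `O_X`-module. -/
noncomputable def mulSec (F : X.Modules) (g : Γ(X, ⊤)) : F ⟶ F :=
  ⟨PresheafOfModules.homMk
    { app := fun U => F.smul (resTop g U.unop)
      naturality := fun U V i => by
        have h := Scheme.Modules.map_comp_smul (M := F) i.unop (resTop g U.unop)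
        rw [resTop_map] at h
        exact h.symm }
    (fun U r m => by
      let r' : Γ(X, U.unop) := r
      let m' : Γ(F, U.unop) := m
      change resTop g U.unop • (r' • m') = r' • (resTop g U.unop • m')
      rw [← mul_smul, ← mul_smul, mul_comm])⟩

theorem mulSec_app (F : X.Modules) (g : Γ(X, ⊤)) (U : X.Opens) (m : Γ(F, U)) :
    (mulSec F g).app U m = resTop g U • m := rfl

theorem germ_resTop (g : Γ(X, ⊤)) (U : X.Opens) (x : X) (hx : x ∈ U) :
    X.presheaf.germ U x hx (resTop g U) = X.presheaf.germ ⊤ x trivial g :=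
  TopCat.Presheaf.germ_res_apply X.presheaf (homOfLE (le_top : U ≤ ⊤)) x hx g

theorem stalkLin_mulSec (F : X.Modules) (g : Γ(X, ⊤)) (x : X) (m : F.presheaf.stalk x) :
    stalkLin (mulSec F g) x m = X.presheaf.germ ⊤ x trivial g • m := by
  obtain ⟨W, hxW, m, rfl⟩ := TopCat.Presheaf.exists_germ_eq F.presheaf m
  rw [stalkLin_germ, mulSec_app, germ_smul, germ_resTop]

end Groth.Agent.Helper2.MulSec
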