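import Mathlib
import Groth.Prelude
import Groth.Agent.Helper2.MulSec
import Groth.Agent.Helper2.StalkInjFlat
import Groth.Agent.Helper2.InjCokerOpen
import Groth.Agent.Helper2.FlatLocusMod
import Groth.Agent.Lead.ModDict18
import Groth.Agent.Lead.StalkPull
import Groth.Agent.Helper4.CohFP

set_option autoImplicit false
open Function AlgebraicGeometry CategoryTheory CategoryTheory.Limits TopologicalSpace IsLocalRing Pointwise
universe u

namespace Groth.Agent.Helper2.FibReg

section Alg

variable {S : Type*} [CommRing S] {N C : Type*} [AddCommGroup N] [Module S N] [AddCommGroup C]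
  [Module S C]

/-- the fibre of a quotient by an element: `C / J C ≃ (N / J N) / g (N / J N)` when
`C = N / g N`. -/
noncomputable def quotEquiv (J : Ideal S) (g : S) (π : N →ₗ[S] C) (hπ : Surjective π)
    (hker : LinearMap.ker π = g • (⊤ : Submodule S N)) :
    (C ⧸ J • (⊤ : Submodule S C)) ≃ₗ[S] QuotSMulTop g (N ⧸ J • (⊤ : Submodule S N)) := by
  let φ : N →ₗ[S] QuotSMulTop g (N ⧸ J • (⊤ : Submodule S N)) :=
    (g • (⊤ : Submodule S (N ⧸ J • (⊤ : Submodule S N)))).mkQ ∘ₗ (J • (⊤ : Submodule S N)).mkQ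
  let ψ : N →ₗ[S] C ⧸ J • (⊤ : Submodule S C) := (J • (⊤ : Submodule S C)).mkQ ∘ₗ π
  have hφ : Surjective φ :=
    (Submodule.mkQ_surjective _).comp (Submodule.mkQ_surjective _)
  have hψ : Surjective ψ := (Submodule.mkQ_surjective _).comp hπ
  have hJC : J • (⊤ : Submodule S C) = (J • (⊤ : Submodule S N)).map π := by
    rw [Submodule.map_smul'', Submodule.map_top, LinearMap.range_eq_top.mpr hπ]
  have hk : LinearMap.ker ψ = LinearMap.ker φ := by
    ext x
    simp only [LinearMap.mem_ker, φ, ψ, LinearMap.comp_apply, Submodule.mkQ_apply,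
      Submodule.Quotient.mk_eq_zero]
    rw [hJC, Submodule.mem_map, Submodule.mem_smul_pointwise_iff_exists]
    constructor
    · rintro ⟨z, hz, hzx⟩
      have h1 : x - z ∈ LinearMap.ker π := by
        rw [LinearMap.mem_ker, map_sub, hzx, sub_self]
      rw [hker, Submodule.mem_smul_pointwise_iff_exists] at h1
      obtain ⟨y, -, hy⟩ := h1
      refine ⟨Submodule.Quotient.mk y, trivial, ?_⟩
      rw [← Submodule.Quotient.mk_smul, hy, Submodule.Quotient.mk_sub, sub_eq_self,
        Submodule.Quotient.mk_eq_zero]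
      exact hz
    · rintro ⟨y, -, hy⟩
      obtain ⟨y, rfl⟩ := Submodule.Quotient.mk_surjective _ y
      rw [← Submodule.Quotient.mk_smul, Submodule.Quotient.eq] at hy
      refine ⟨x - g • y, ?_, ?_⟩
      · have := (J • (⊤ : Submodule S N)).neg_mem hy
        rwa [neg_sub] at this
      · rw [map_sub, sub_eq_self]
        have h1 : g • y ∈ LinearMap.ker π := by
          rw [hker]
          exact Submodule.smul_mem_pointwise_smul _ _ _ trivial
        exact h1
  exact (ψ.quotKerEquivOfSurjective hψ).symm ≪≫ₗ Submodule.quotEquivOfEq _ _ hk ≪≫ₗ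
    φ.quotKerEquivOfSurjective hφ

/-- regularity of an element on a quotient by `J • ⊤`. -/
theorem isSMulRegular_quot_iff (J : Ideal S) (g : S) :
    IsSMulRegular (N ⧸ J • (⊤ : Submodule S N)) g ↔
      ∀ x : N, g • x ∈ J • (⊤ : Submodule S N) → x ∈ J • (⊤ : Submodule S N) := by
  constructor
  · intro h x hx
    have h1 : g • (Submodule.Quotient.mk x : N ⧸ J • (⊤ : Submodule S N)) = g • 0 := by
      rw [smul_zero, ← Submodule.Quotient.mk_smul, Submodule.Quotient.mk_eq_zero]
      exact hx
    have h2 := h h1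
    rwa [Submodule.Quotient.mk_eq_zero] at h2
  · intro h a b hab
    obtain ⟨a, rfl⟩ := Submodule.Quotient.mk_surjective _ a
    obtain ⟨b, rfl⟩ := Submodule.Quotient.mk_surjective _ b
    simp only [← Submodule.Quotient.mk_smul] at hab
    rw [Submodule.Quotient.eq] at hab ⊢
    apply h
    rwa [smul_sub]

end Alg

section Sheaf

open Groth.Agent.Helper4 Groth.Agent.Helper4.StalkDict Groth.Agent.Helper4.StalkExact
  Groth.Agent.Lead.ModDict Groth.Agent.Lead.StalkPull Groth.Agent.Helper2.MulSec
  Groth.Agent.Helper2.StalkInjFlat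

variable {X Y : Scheme.{u}}

/-- the cokernel of a morphism of finitely presented quasi-coherent modules is finitely
presented. -/
theorem isFP_cokernel {F G : X.Modules} [F.IsQuasicoherent] [G.IsQuasicoherent]
    (hF : SheafOfModules.IsFinitePresentation (R := X.ringCatSheaf) F)
    (hG : SheafOfModules.IsFinitePresentation (R := X.ringCatSheaf) G) (δ : F ⟶ G) :
    SheafOfModules.IsFinitePresentation (R := X.ringCatSheaf) (cokernel δ) := by
  refine @FPGlue.isFinitePresentation_of_fp_sections X (cokernel δ)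
    (QcohLimits.isQuasicoherent_cokernel δ) ?_
  intro x
  obtain ⟨W, hW, hxW, -⟩ := (Opens.isBasis_iff_nbhd.1 X.isBasis_affineOpens)
    (show x ∈ (⊤ : X.Opens) from trivial)
  refine ⟨W, hW, hxW, ?_⟩
  haveI : Module.FinitePresentation Γ(X, W) ((secF hW).obj F) := fp_secF hW F hF
  haveI : Module.FinitePresentation Γ(X, W) ((secF hW).obj (cokernel δ)) :=
    fp_secF_cokernel hW δ inferInstance (fp_secF hW G hG)
  let eq' : Γ(cokernel δ, W) ≃ₗ[Γ(X, W)] ((secF hW).obj (cokernel δ)) := secFEquiv hW (cokernel δ)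
  exact Module.FinitePresentation.of_equiv eq'.symm

variable (f : X ⟶ Y)

/-- pointwise step. -/
theorem weaklyRegular_cons_iff [LocallyOfFinitePresentation f] (F : X.Modules)
    [F.IsQuasicoherent] (hF : SheafOfModules.IsFinitePresentation (R := X.ringCatSheaf) F)
    (g₀ : Γ(X, ⊤)) (x : X) (rest : List (X.presheaf.stalk x))
    (hfl : FlatMod.IsFlatOverAt f F x) :
    RingTheory.Sequence.IsWeaklyRegular
      (↑(F.presheaf.stalk x) ⧸ (Ideal.map (f.stalkMap x).hom
        (IsLocalRing.maximalIdeal ↑(Y.presheaf.stalk (f x))) •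
          (⊤ : Submodule ↑(X.presheaf.stalk x) ↑(F.presheaf.stalk x))))
      (X.presheaf.germ ⊤ x trivial g₀ :: rest) ↔
    (Function.Injective (stalkLin (mulSec F g₀) x) ∧
        FlatMod.IsFlatOverAt f (cokernel (mulSec F g₀)) x) ∧
      RingTheory.Sequence.IsWeaklyRegular
        (↑((cokernel (mulSec F g₀)).presheaf.stalk x) ⧸ (Ideal.map (f.stalkMap x).hom
          (IsLocalRing.maximalIdeal ↑(Y.presheaf.stalk (f x))) •
            (⊤ : Submodule ↑(X.presheaf.stalk x) ↑((cokernel (mulSec F g₀)).presheaf.stalk x))))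
        rest := by
  set J : Ideal (X.presheaf.stalk x) := Ideal.map (f.stalkMap x).hom
    (IsLocalRing.maximalIdeal ↑(Y.presheaf.stalk (f x))) with hJ
  set u := mulSec F g₀ with hu
  have h50 := s4850 f F F hF hF u x hfl
  have hfib : (Function.Injective (stalkLin u x) ∧ FlatMod.IsFlatOverAt f (cokernel u) x) ↔
      IsSMulRegular (↑(F.presheaf.stalk x) ⧸ J • (⊤ : Submodule ↑(X.presheaf.stalk x)
        ↑(F.presheaf.stalk x))) (X.presheaf.germ ⊤ x trivial g₀) := by
    rw [isSMulRegular_quot_iff]
    refine Iff.trans h50 ?_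
    refine forall_congr' (fun m => ?_)
    have hm : ((TopCat.Presheaf.stalkFunctor Ab x).map (Scheme.Modules.Hom.mapPresheaf u)) m =
        X.presheaf.germ ⊤ x trivial g₀ • m := by
      rw [← stalkLin_mulSec F g₀ x m]
      rfl
    rw [hm]
    exact Iff.rfl
  rw [RingTheory.Sequence.isWeaklyRegular_cons_iff, ← hfib]
  refine and_congr_right (fun h => ?_)
  -- identify the fibres
  have hsurj := Groth.Agent.Helper4.EpiStalk.stalkLin_surjective_of_epi (cokernel.π u) x
  have hexact := stalkLin_exact_cokernel u x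
  have hker : LinearMap.ker (stalkLin (cokernel.π u) x) =
      X.presheaf.germ ⊤ x trivial g₀ • (⊤ : Submodule ↑(X.presheaf.stalk x)
        ↑(F.presheaf.stalk x)) := by
    ext t
    rw [LinearMap.mem_ker, hexact t, Submodule.mem_smul_pointwise_iff_exists]
    constructor
    · rintro ⟨m, rfl⟩
      exact ⟨m, trivial, (stalkLin_mulSec F g₀ x m).symm⟩
    · rintro ⟨m, -, rfl⟩
      exact ⟨m, stalkLin_mulSec F g₀ x m⟩
  exact ((quotEquiv J (X.presheaf.germ ⊤ x trivial g₀) (stalkLin (cokernel.π u) x) hsurj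
    hker).isWeaklyRegular_congr rest).symm

/-- **Openness** of the locus where `F` is flat and the germs of `g` form a weakly regular
sequence on the fibre module. -/
theorem isOpen_flat_weaklyRegular [LocallyOfFinitePresentation f] (n : ℕ) :
    ∀ (F : X.Modules) [F.IsQuasicoherent]
      (_ : SheafOfModules.IsFinitePresentation (R := X.ringCatSheaf) F) (g : Fin n → Γ(X, ⊤)),
    IsOpen {x : X | FlatMod.IsFlatOverAt f F x ∧
      RingTheory.Sequence.IsWeaklyRegular
        (↑(F.presheaf.stalk x) ⧸ (Ideal.map (f.stalkMap x).hom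
          (IsLocalRing.maximalIdeal ↑(Y.presheaf.stalk (f x))) •
            (⊤ : Submodule ↑(X.presheaf.stalk x) ↑(F.presheaf.stalk x))))
        (List.ofFn fun i => (X.presheaf.germ ⊤ x trivial) (g i))} := by
  induction n with
  | zero =>
    intro F _ hF g
    have h := Groth.Agent.Helper2.FlatLocusMod.isOpen_isFlatOverAt f F hF
    convert h using 2
    ext x
    simp only [List.ofFn_zero, Set.mem_ofPred_eq, and_iff_left_iff_imp]
    intro _
    exact RingTheory.Sequence.IsWeaklyRegular.nil _ _
  | succ n ih =>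
    intro F _ hF g
    set u := mulSec F (g 0) with hu
    haveI : (cokernel u).IsQuasicoherent := QcohLimits.isQuasicoherent_cokernel u
    have hC : SheafOfModules.IsFinitePresentation (R := X.ringCatSheaf) (cokernel u) :=
      isFP_cokernel hF hF u
    have h1 := Groth.Agent.Helper2.FlatLocusMod.isOpen_isFlatOverAt f F hF
    have h2 := Groth.Agent.Helper2.InjCokerOpen.s4851 f F F hF hF u
    have h3 := ih (cokernel u) hC (fun i => g i.succ)
    convert (h1.inter h2).inter h3 using 1
    ext x
    simp only [Set.mem_ofPred_eq, Set.mem_inter_iff, List.ofFn_succ]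
    constructor
    · rintro ⟨hfl, hreg⟩
      have := (weaklyRegular_cons_iff f F hF (g 0) x _ hfl).1 hreg
      exact ⟨⟨hfl, this.1⟩, this.1.2, this.2⟩
    · rintro ⟨⟨hfl, hinj⟩, -, hreg⟩
      exact ⟨hfl, (weaklyRegular_cons_iff f F hF (g 0) x _ hfl).2 ⟨hinj, hreg⟩⟩

/-- **S4866**. -/
theorem s4866 [IsLocallyNoetherian Y] [LocallyOfFiniteType f] (F : X.Modules)
    (hF : Coh.IsCoh F) (hflat : FlatMod.IsFlatOver f F) (n : ℕ) (g : Fin n → Γ(X, ⊤)) :
    IsOpen {x : X |
      RingTheory.Sequence.IsWeaklyRegular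
        (↑(F.presheaf.stalk x) ⧸ (Ideal.map (f.stalkMap x).hom
          (IsLocalRing.maximalIdeal ↑(Y.presheaf.stalk (f x))) •
            (⊤ : Submodule ↑(X.presheaf.stalk x) ↑(F.presheaf.stalk x))))
        (List.ofFn fun i => (X.presheaf.germ ⊤ x trivial) (g i))} := by
  haveI : IsLocallyNoetherian X := LocallyOfFiniteType.isLocallyNoetherian f
  haveI : F.IsQuasicoherent := hF.1
  have hfp := Groth.Agent.Helper4.CohFP.isFP_of_isCoh F hF.1 hF.2
  have h := isOpen_flat_weaklyRegular f n F hfp g
  convert h using 2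
  ext x
  simp only [Set.mem_ofPred_eq, iff_and_self]
  intro _
  exact hflat x

end Sheaf

end Groth.Agent.Helper2.FibReg
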