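import Mathlib
import Groth.Prelude.Def_FSch3
import Groth.Agent.Lead.ThickBC
import Groth.Agent.Lead.ThickBC2
import Groth.Agent.Lead.Thick4
import Groth.Agent.S2306
import Groth.Agent.S2305

set_option autoImplicit false
set_option linter.style.haveILetI false
set_option linter.unusedSectionVars false
set_option linter.unusedVariables false

open CategoryTheory CategoryTheory.Limits AlgebraicGeometry TopologicalSpace

universe u

namespace Groth.Agent.Helper2.FThick


variable {X X' S S' : Scheme.{u}} {iX : X ⟶ X'} {iS : S ⟶ S'} {f : X ⟶ S} {f' : X' ⟶ S'}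

/-- kernel of a surjective closed immersion into a locally noetherian scheme is locally nilpotent -/
theorem hnil [IsLocallyNoetherian S'] (iS : S ⟶ S') [IsClosedImmersion iS] [Surjective iS]
    (V' : S'.affineOpens) : ∃ n : ℕ, (RingHom.ker (iS.app V'.1).hom) ^ n = ⊥ := by
  haveI : IsNoetherianRing Γ(S', V'.1) := IsLocallyNoetherian.component_noetherian V'
  have hfg : (iS.ker.ideal V').FG := IsNoetherian.noetherian _
  have hsupp : ((⊥ : S'.IdealSheafData).support : Set S') ⊆ (iS.ker.support : Set S') := by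
    rw [Scheme.Hom.support_ker]
    intro y _
    have : Set.range iS = Set.univ := Set.range_eq_univ.mpr iS.surjective
    simp [this]
  obtain ⟨n, hn⟩ := Groth.Agent.S7846.local_pow_le iS.ker ⊥ V' hfg hsupp
  refine ⟨n, ?_⟩
  rw [← Scheme.Hom.ker_apply]
  have : (⊥ : S'.IdealSheafData).ideal V' = ⊥ := rfl
  rw [this] at hn
  exact le_bot_iff.mp hn

theorem surjective_of_isPullback (hc : IsPullback iX f f' iS) [Surjective iS] : Surjective iX :=
  MorphismProperty.of_isPullback hc.flip ‹_›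

theorem quasiCompact_of_comp_surjective {A B C : Scheme.{u}} (a : A ⟶ B) (b : B ⟶ C)
    [QuasiCompact (a ≫ b)] [Surjective a] : QuasiCompact b := by
  constructor
  intro U hU hUc
  have h1 : IsCompact ((a ≫ b) ⁻¹' U) := QuasiCompact.isCompact_preimage U hU hUc
  have h2 : b ⁻¹' U = a '' ((a ≫ b) ⁻¹' U) := by
    ext y
    constructor
    · intro hy
      obtain ⟨x, rfl⟩ := a.surjective y
      exact ⟨x, by simpa using hy, rfl⟩
    · rintro ⟨x, hx, rfl⟩
      simpa using hx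
  rw [h2]
  exact h1.image a.continuous

theorem isProper_of_isPullback [IsLocallyNoetherian S'] (hc : IsPullback iX f f' iS)
    [IsClosedImmersion iS] [Surjective iS] [IsProper f] : IsProper f' := by
  haveI : IsClosedImmersion iX := Groth.Agent.Lead.ThickBC.isClosedImmersion_of_isPullback hc
  haveI : Surjective iX := surjective_of_isPullback hc
  haveI : IsSeparated f' :=
    (Groth.Agent.S2306.result f' f iX iS hc.w.symm).2 inferInstance
  haveI : LocallyOfFiniteType f' :=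
    Groth.Agent.Lead.ThickBC.locallyOfFiniteType_of_isPullback hc (hnil iS)
  haveI hcomp : IsProper (iX ≫ f') := by
    rw [hc.w]; infer_instance
  haveI : QuasiCompact f' := quasiCompact_of_comp_surjective iX f'
  haveI : UniversallyClosed f' := UniversallyClosed.of_comp_surjective iX f'
  exact {}





theorem isAffineHom_of_isPullback (hc : IsPullback iX f f' iS)
    [IsClosedImmersion iS] [Surjective iS] [IsAffineHom f] : IsAffineHom f' := by
  haveI : IsClosedImmersion iX := Groth.Agent.Lead.ThickBC.isClosedImmersion_of_isPullback hc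
  haveI : Surjective iX := surjective_of_isPullback hc
  constructor
  intro U hU
  let W : X'.Opens := f' ⁻¹ᵁ U
  have heq : iX ⁻¹ᵁ W = f ⁻¹ᵁ (iS ⁻¹ᵁ U) := by
    show iX ⁻¹ᵁ (f' ⁻¹ᵁ U) = f ⁻¹ᵁ (iS ⁻¹ᵁ U)
    rw [← Scheme.Hom.comp_preimage, ← Scheme.Hom.comp_preimage, hc.w]
  have h1 : IsAffineOpen (iS ⁻¹ᵁ U) := hU.preimage iS
  have h2 : IsAffineOpen (f ⁻¹ᵁ (iS ⁻¹ᵁ U)) := h1.preimage f
  have h3 : IsAffineOpen (iX ⁻¹ᵁ W) := heq ▸ h2
  haveI : IsAffine ((iX ⁻¹ᵁ W : X.Opens) : Scheme.{u}) := h3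
  have hsurj : Function.Surjective (iX ∣_ W) := by
    rintro ⟨w, hw⟩
    obtain ⟨x, rfl⟩ := iX.surjective w
    refine ⟨⟨x, hw⟩, ?_⟩
    apply Subtype.ext
    rw [morphismRestrict_base_coe]
  exact Groth.Agent.Lead.Thick.isAffine_of_thickening (iX ∣_ W) hsurj



theorem surjective_of_nilpotent {A' B' A B : Type u} [CommRing A'] [CommRing B'] [CommRing A]
    [CommRing B] (φ' : A' →+* B') (φ : A →+* B) (πA : A' →+* A) (πB : B' →+* B)
    (hcomm : φ.comp πA = πB.comp φ') (hπA : Function.Surjective πA)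
    (n : ℕ) (hnil : (RingHom.ker πA) ^ n = ⊥)
    (hker : RingHom.ker πB = (RingHom.ker πA).map φ') (hφ : Function.Surjective φ) :
    Function.Surjective φ' := by
  algebraize [φ']
  let N : Submodule A' B' := LinearMap.range (Algebra.linearMap A' B')
  have hsup : N ⊔ (RingHom.ker πA) • (⊤ : Submodule A' B') = ⊤ := by
    rw [eq_top_iff]
    intro b' _
    obtain ⟨a, ha⟩ := hφ (πB b')
    obtain ⟨a', rfl⟩ := hπA a
    have h1 : b' - φ' a' ∈ RingHom.ker πB := by
      rw [RingHom.mem_ker, map_sub, ← ha]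
      have := congrArg (fun g => g a') hcomm
      simp only [RingHom.comp_apply] at this
      rw [this, sub_self]
    rw [hker] at h1
    have h2 : b' - φ' a' ∈ (RingHom.ker πA) • (⊤ : Submodule A' B') := by
      rw [Ideal.smul_top_eq_map]
      exact h1
    have h3 : φ' a' ∈ N := ⟨a', rfl⟩
    have : b' = φ' a' + (b' - φ' a') := by ring
    rw [this]
    exact Submodule.add_mem_sup h3 h2
  have hN : N = ⊤ := Groth.Agent.Lead.ThickBC.eq_top_of_sup_smul_top _ n hnil N hsup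
  intro b'
  have : b' ∈ N := hN ▸ Submodule.mem_top
  obtain ⟨a', ha'⟩ := this
  exact ⟨a', ha'⟩


variable {X X' S S' : Scheme.{u}} {iX : X ⟶ X'} {iS : S ⟶ S'} {f : X ⟶ S} {f' : X' ⟶ S'}

theorem isFinite_of_isPullback [IsLocallyNoetherian S'] (hc : IsPullback iX f f' iS)
    [IsClosedImmersion iS] [Surjective iS] [IsFinite f] : IsFinite f' := by
  rw [IsFinite.iff_isProper_and_isAffineHom]
  exact ⟨isProper_of_isPullback hc, isAffineHom_of_isPullback hc⟩

open Groth.Agent.Lead.ThickBC in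
theorem isClosedImmersion_of_isPullback' [IsLocallyNoetherian S'] (hc : IsPullback iX f f' iS)
    [IsClosedImmersion iS] [Surjective iS] [IsClosedImmersion f] : IsClosedImmersion f' := by
  haveI : IsAffineHom f' := isAffineHom_of_isPullback hc
  rw [isClosedImmersion_iff_isAffineHom]
  refine ⟨inferInstance, fun V hV => ?_⟩
  let V' : S'.affineOpens := ⟨V, hV⟩
  let U' : X'.affineOpens := ⟨f' ⁻¹ᵁ V, hV.preimage f'⟩
  obtain ⟨hcomm, hs1, hs2, hker⟩ := square_facts hc V' U' le_rfl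
  obtain ⟨n, hn⟩ := hnil iS V'
  have hle : iX ⁻¹ᵁ U'.1 ≤ f ⁻¹ᵁ (iS ⁻¹ᵁ V) := preimage_le hc V U'.1 le_rfl
  have hge : f ⁻¹ᵁ (iS ⁻¹ᵁ V) ≤ iX ⁻¹ᵁ U'.1 := by
    show f ⁻¹ᵁ (iS ⁻¹ᵁ V) ≤ iX ⁻¹ᵁ (f' ⁻¹ᵁ V)
    rw [← Scheme.Hom.comp_preimage, ← Scheme.Hom.comp_preimage, hc.w]
  have hφ : Function.Surjective (f.appLE (iS ⁻¹ᵁ V) (iX ⁻¹ᵁ U'.1) hle).hom := by
    have h1 : Function.Surjective (f.app (iS ⁻¹ᵁ V)) := f.app_surjective _ (hV.preimage iS)
    have h2 : Function.Surjective (X.presheaf.map (homOfLE hle).op) := by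
      intro t
      refine ⟨X.presheaf.map (homOfLE hge).op t, ?_⟩
      rw [← CommRingCat.comp_apply, ← Functor.map_comp]
      have : (homOfLE hge).op ≫ (homOfLE hle).op = 𝟙 _ := rfl
      rw [this, X.presheaf.map_id]
      rfl
    unfold Scheme.Hom.appLE
    rw [CommRingCat.hom_comp]
    exact h2.comp h1
  have := surjective_of_nilpotent (f'.appLE V U'.1 le_rfl).hom
    (f.appLE (iS ⁻¹ᵁ V) (iX ⁻¹ᵁ U'.1) hle).hom (iS.app V).hom (iX.app U'.1).hom hcomm hs1 n hn
    hker hφ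
  rw [Scheme.Hom.appLE_eq_app] at this
  exact this

theorem levelwise_finite {𝔛 𝔜 : FSch.Sys.{u}} (f : 𝔛 ⟶ 𝔜)
    (h𝔜 : 𝔜.IsLocNoethFormal) (hf : FSch.IsAdicHom f) [IsFinite ((f : FSch.Hom 𝔛 𝔜).app 0)] (n : ℕ) :
    IsFinite ((f : FSch.Hom 𝔛 𝔜).app n) := by
  induction n with
  | zero => infer_instance
  | succ n ih =>
    haveI := ih
    haveI : IsLocallyNoetherian (𝔜.X (n + 1)) := h𝔜.2.2 (n + 1)
    haveI : IsClosedImmersion (𝔜.ι n) := (h𝔜.1 n).1
    haveI : Surjective (𝔜.ι n) := ⟨(h𝔜.1 n).2⟩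
    exact isFinite_of_isPullback (hf n)

theorem levelwise_closedImmersion {𝔛 𝔜 : FSch.Sys.{u}} (f : 𝔛 ⟶ 𝔜)
    (h𝔜 : 𝔜.IsLocNoethFormal) (hf : FSch.IsAdicHom f)
    [IsClosedImmersion ((f : FSch.Hom 𝔛 𝔜).app 0)] (n : ℕ) :
    IsClosedImmersion ((f : FSch.Hom 𝔛 𝔜).app n) := by
  induction n with
  | zero => infer_instance
  | succ n ih =>
    haveI := ih
    haveI : IsLocallyNoetherian (𝔜.X (n + 1)) := h𝔜.2.2 (n + 1)
    haveI : IsClosedImmersion (𝔜.ι n) := (h𝔜.1 n).1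
    haveI : Surjective (𝔜.ι n) := ⟨(h𝔜.1 n).2⟩
    exact isClosedImmersion_of_isPullback' (hf n)

theorem levelwise_proper {𝔛 𝔜 : FSch.Sys.{u}} (f : 𝔛 ⟶ 𝔜)
    (h𝔜 : 𝔜.IsLocNoethFormal) (hf : FSch.IsAdicHom f)
    [IsProper ((f : FSch.Hom 𝔛 𝔜).app 0)] (n : ℕ) :
    IsProper ((f : FSch.Hom 𝔛 𝔜).app n) := by
  induction n with
  | zero => infer_instance
  | succ n ih =>
    haveI := ih
    haveI : IsLocallyNoetherian (𝔜.X (n + 1)) := h𝔜.2.2 (n + 1)
    haveI : IsClosedImmersion (𝔜.ι n) := (h𝔜.1 n).1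
    haveI : Surjective (𝔜.ι n) := ⟨(h𝔜.1 n).2⟩
    exact isProper_of_isPullback (hf n)

end Groth.Agent.Helper2.FThick
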