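import Mathlib

set_option autoImplicit false
universe u
open CategoryTheory CategoryTheory.Limits MonoidalCategory CartesianMonoidalCategory MonObj GrpObj AlgebraicGeometry

namespace Groth.Agent.Helper2.SmoothGrp

variable {K : Type u} [Field K] {G : Scheme.{u}} (f : G ⟶ Spec (.of K))
    [LocallyOfFiniteType f] [GrpObj (Over.mk f)]

/-- variant of Mathlib's private `smooth_of_grpObj_of_isAlgClosed` assuming only that the smooth
locus is nonempty -/
lemma smooth_of_grpObj_of_isAlgClosed' [IsAlgClosed K]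
    (hne : (f.smoothLocus : Set G).Nonempty) : Smooth f := by
  have := LocallyOfFiniteType.jacobsonSpace f
  rw [← Scheme.Hom.smoothLocus_eq_top_iff, ← TopologicalSpace.Opens.coe_eq_univ,
    ← not_ne_iff, ← Set.nonempty_compl]
  intro H
  obtain ⟨x, hx, hxc⟩ :=
    nonempty_inter_closedPoints H f.smoothLocus.2.isClosed_compl.isLocallyClosed
  obtain ⟨y, hy : y ∈ f.smoothLocus, hyc⟩ := nonempty_inter_closedPoints
    hne f.smoothLocus.2.isLocallyClosed
  let x' : 𝟙_ _ ⟶ Over.mk f := Over.homMk _ ((pointEquivClosedPoint f).symm ⟨x, hxc⟩).2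
  let y' : 𝟙_ _ ⟶ Over.mk f := Over.homMk _ ((pointEquivClosedPoint f).symm ⟨y, hyc⟩).2
  let α := (GrpObj.mulRight (A := Over.mk f) x').symm ≪≫
    (GrpObj.mulRight (A := Over.mk f) y')
  have hα : x' ≫ α.hom = y' := by
    dsimp only [Iso.trans_hom, Iso.symm_hom, α]
    rw [← Category.assoc, ← Iso.eq_comp_inv]
    simp [comp_lift_assoc]
  have hα' : α.hom.left x = y := by
    simpa [x', y', pointEquivClosedPoint] using congr(($hα).left (IsLocalRing.closedPoint K))
  rw! [← hα', ← α.hom.left.mem_preimage, Scheme.Hom.preimage_smoothLocus_eq,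
    show α.hom.left ≫ f = f from α.hom.w] at hy
  exact hx hy


omit [LocallyOfFiniteType f] [GrpObj (Over.mk f)] in
lemma smooth_smoothLocus_ι {X Y : Scheme.{u}} (f : X ⟶ Y) [LocallyOfFinitePresentation f] :
    Smooth (f.smoothLocus.ι ≫ f) := by
  rw [← Scheme.Hom.smoothLocus_eq_top_iff, ← Scheme.Hom.preimage_smoothLocus_eq]
  exact Scheme.Opens.ι_preimage_self _

omit [LocallyOfFiniteType f] [GrpObj (Over.mk f)] in
lemma le_smoothLocus_of_smooth {X Y : Scheme.{u}} (f : X ⟶ Y) [LocallyOfFinitePresentation f]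
    (U : X.Opens) [Smooth (U.ι ≫ f)] : U ≤ f.smoothLocus := by
  have h := Scheme.Hom.smoothLocus_eq_top (U.ι ≫ f)
  rw [← Scheme.Hom.preimage_smoothLocus_eq] at h
  intro x hx
  have : (⟨x, hx⟩ : U) ∈ U.ι ⁻¹ᵁ f.smoothLocus := by rw [h]; trivial
  exact this

omit [LocallyOfFiniteType f] [GrpObj (Over.mk f)] in
/-- the preimage of the smooth locus lies in the smooth locus of the base change -/
lemma preimage_smoothLocus_le {X Y Y' : Scheme.{u}} (f : X ⟶ Y) (g : Y' ⟶ Y)
    [LocallyOfFinitePresentation f] :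
    pullback.fst f g ⁻¹ᵁ f.smoothLocus ≤ (pullback.snd f g).smoothLocus := by
  haveI := smooth_smoothLocus_ι f
  have h1 := isPullback_morphismRestrict (pullback.fst f g) f.smoothLocus
  have h2 : IsPullback (pullback.fst f g) (pullback.snd f g) f g := IsPullback.of_hasPullback f g
  have h3 := h1.paste_vert h2
  haveI : Smooth ((pullback.fst f g ⁻¹ᵁ f.smoothLocus).ι ≫ pullback.snd f g) :=
    MorphismProperty.of_isPullback (P := @Smooth) h3 inferInstance
  exact le_smoothLocus_of_smooth _ _

/-- reduced group schemes locally of finite type over a perfect field are smooth -/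
theorem smooth_of_perfect_reduced [PerfectField K] [IsReduced G] : Smooth f := by
  let Ω : Type u := AlgebraicClosure K
  let g : Spec (.of Ω) ⟶ Spec (.of K) := Spec.map (CommRingCat.ofHom <| algebraMap K Ω)
  apply MorphismProperty.of_pullback_snd_of_descendsAlong
    (Q := @Surjective ⊓ @Flat ⊓ @QuasiCompact) (g := g)
  · exact ⟨⟨inferInstance, inferInstance⟩, inferInstance⟩
  · let : GrpObj (Over.mk (pullback.snd f g)) := Over.grpObjMkPullbackSnd
    apply smooth_of_grpObj_of_isAlgClosed'
    have : Nonempty G := ⟨η[Over.mk f].1 (IsLocalRing.closedPoint _)⟩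
    obtain ⟨x, hx⟩ := f.dense_smoothLocus_of_perfectField.nonempty
    obtain ⟨x', rfl⟩ := (pullback.fst f g).surjective x
    exact ⟨x', preimage_smoothLocus_le f g hx⟩

end Groth.Agent.Helper2.SmoothGrp
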