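import Mathlib
import Groth.Agent.Helper2.SmoothGrp

set_option autoImplicit false
universe u

namespace Groth.Agent.Helper2.RedNhd

/-- if a localization of a noetherian ring at a prime is reduced, so is the localization at some
element outside the prime -/
lemma exists_isReduced_away {A : Type u} [CommRing A] [IsNoetherianRing A] (p : Ideal A)
    [p.IsPrime] (Ap : Type u) [CommRing Ap] [Algebra A Ap] [IsLocalization.AtPrime Ap p]
    [IsReduced Ap] :
    ∃ f : A, f ∉ p ∧ ∀ (Af : Type u) [CommRing Af] [Algebra A Af] [IsLocalization.Away f Af],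
      IsReduced Af := by
  classical
  obtain ⟨s, hs⟩ := (isNoetherianRing_iff_ideal_fg A).mp inferInstance (nilradical A)
  have h1 : ∀ n ∈ s, ∃ t : A, t ∉ p ∧ t * n = 0 := by
    intro n hn
    have hnil : IsNilpotent n := by
      have : n ∈ nilradical A := hs ▸ Ideal.subset_span hn
      exact this
    have h0 : algebraMap A Ap n = 0 := (hnil.map (algebraMap A Ap)).eq_zero
    obtain ⟨⟨t, ht⟩, hte⟩ := (IsLocalization.map_eq_zero_iff p.primeCompl Ap n).mp h0
    exact ⟨t, ht, hte⟩
  choose! t ht using h1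
  refine ⟨∏ n ∈ s, t n, ?_, ?_⟩
  · intro hmem
    obtain ⟨n, hn, hn'⟩ := (Ideal.IsPrime.prod_mem_iff).mp hmem
    exact (ht n hn).1 hn'
  · intro Af _ _ _
    set f := ∏ n ∈ s, t n with hf
    have hfN : ∀ a ∈ nilradical A, f * a = 0 := by
      intro a ha
      rw [← hs] at ha
      refine Submodule.span_induction ?_ ?_ ?_ ?_ ha
      · intro n hn
        obtain ⟨c, hc⟩ := Finset.dvd_prod_of_mem t hn
        rw [hf, hc, mul_comm (t n) c, mul_assoc, (ht n hn).2, mul_zero]
      · rw [mul_zero]
      · intro x y _ _ hx hy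
        rw [mul_add, hx, hy, add_zero]
      · intro c x _ hx
        rw [smul_eq_mul, mul_left_comm, hx, mul_zero]
    constructor
    intro y hy
    obtain ⟨q, hq⟩ := hy
    obtain ⟨a, ⟨d, hd⟩, rfl⟩ := IsLocalization.exists_mk'_eq (Submonoid.powers f) y
    rw [← IsLocalization.mk'_pow, IsLocalization.mk'_eq_zero_iff] at hq
    obtain ⟨⟨_, l, rfl⟩, hl⟩ := hq
    have hl' : f ^ l * a ^ q = 0 := hl
    have hnil : f ^ l * a ∈ nilradical A := by
      refine ⟨q + 1, ?_⟩
      calc (f ^ l * a) ^ (q + 1) = (f ^ l) ^ q * a * (f ^ l * a ^ q) := by ring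
        _ = 0 := by rw [hl', mul_zero]
    have h2 : f ^ (l + 1) * a = 0 := by
      rw [pow_succ', mul_assoc]
      exact hfN _ hnil
    rw [IsLocalization.mk'_eq_zero_iff]
    exact ⟨⟨f ^ (l + 1), l + 1, rfl⟩, h2⟩

end Groth.Agent.Helper2.RedNhd

namespace Groth.Agent.Helper2.RedNhd

open AlgebraicGeometry CategoryTheory CategoryTheory.Limits

/-- a locally noetherian scheme with reduced stalk at `x` is reduced in a neighbourhood of `x` -/
lemma exists_isReduced_nhd {X : Scheme.{u}} [IsLocallyNoetherian X] (x : X)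
    [_root_.IsReduced (X.presheaf.stalk x)] :
    ∃ U : X.Opens, x ∈ U ∧ AlgebraicGeometry.IsReduced (U : Scheme) := by
  obtain ⟨_, ⟨V, hV, rfl⟩, hxV, -⟩ :=
    X.isBasis_affineOpens.exists_subset_of_mem_open (Set.mem_univ x) isOpen_univ
  haveI : IsNoetherianRing Γ(X, V) := IsLocallyNoetherian.component_noetherian ⟨V, hV⟩
  let _ := TopCat.Presheaf.algebra_section_stalk X.presheaf (⟨x, hxV⟩ : V)
  have hloc := hV.isLocalization_stalk ⟨x, hxV⟩
  obtain ⟨f, hfp, hred⟩ :=
    exists_isReduced_away (hV.primeIdealOf ⟨x, hxV⟩).asIdeal (X.presheaf.stalk x)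
  refine ⟨X.basicOpen f, ?_, ?_⟩
  · rw [Scheme.mem_basicOpen _ _ _ hxV]
    exact IsLocalization.map_units (M := (hV.primeIdealOf ⟨x, hxV⟩).asIdeal.primeCompl)
      (X.presheaf.stalk x) ⟨f, hfp⟩
  · have hloc2 : IsLocalization.Away f Γ(X, X.basicOpen f) := hV.isLocalization_basicOpen f
    haveI : _root_.IsReduced Γ(X, X.basicOpen f) := hred Γ(X, X.basicOpen f)
    haveI : IsAffine (X.basicOpen f : Scheme) := hV.basicOpen f
    haveI : _root_.IsReduced Γ((X.basicOpen f : Scheme), ⊤) :=
      isReduced_of_injective ((X.basicOpen f).topIso).hom.hom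
        ((X.basicOpen f).topIso).commRingCatIsoToRingEquiv.injective
    exact isReduced_of_isAffine_isReduced _

end Groth.Agent.Helper2.RedNhd

namespace Groth.Agent.Helper2.RedNhd

open CategoryTheory MonoidalCategory CartesianMonoidalCategory AlgebraicGeometry CategoryTheory.Limits
open Groth.Agent.Helper2

/-- a group scheme locally of finite type over an algebraically closed field with one reduced
local ring is smooth -/
lemma smooth_of_exists_isReduced_stalk {K : Type u} [Field K] [IsAlgClosed K] {G : Scheme.{u}}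
    (f : G ⟶ Spec (.of K)) [LocallyOfFiniteType f] [GrpObj (Over.mk f)] (x : G)
    [_root_.IsReduced (G.presheaf.stalk x)] : Smooth f := by
  haveI : IsLocallyNoetherian G := LocallyOfFiniteType.isLocallyNoetherian f
  obtain ⟨U, hxU, hU⟩ := exists_isReduced_nhd x
  apply SmoothGrp.smooth_of_grpObj_of_isAlgClosed'
  haveI : Nonempty U := ⟨⟨x, hxU⟩⟩
  obtain ⟨y, hy⟩ := (U.ι ≫ f).dense_smoothLocus_of_perfectField.nonempty
  rw [← Scheme.Hom.preimage_smoothLocus_eq] at hy
  exact ⟨U.ι y, hy⟩

end Groth.Agent.Helper2.RedNhd
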