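import Mathlib

set_option autoImplicit false
set_option linter.unusedVariables false
open TensorProduct IsLocalRing
universe u

namespace Groth.Agent.Helper2.AssTens

/-- a nonzero element killed by the maximal ideal gives an associated prime. -/
theorem isAssociatedPrime_maximalIdeal_of_smul_eq_zero {R N : Type*} [CommRing R] [IsLocalRing R]
    [AddCommGroup N] [Module R N] (x : N) (hx : x ≠ 0)
    (h : ∀ r ∈ maximalIdeal R, r • x = 0) : IsAssociatedPrime (maximalIdeal R) N := by
  have hcol : (Submodule.colon (⊥ : Submodule R N) {x} : Ideal R) = maximalIdeal R := by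
    have hle : maximalIdeal R ≤ Submodule.colon (⊥ : Submodule R N) {x} := by
      intro r hr
      rw [Submodule.mem_colon_singleton, Submodule.mem_bot]
      exact h r hr
    have hne : (Submodule.colon (⊥ : Submodule R N) {x} : Ideal R) ≠ ⊤ := by
      intro htop
      apply hx
      have : (1 : R) ∈ (Submodule.colon (⊥ : Submodule R N) {x} : Ideal R) := by
        rw [htop]; trivial
      rw [Submodule.mem_colon_singleton, Submodule.mem_bot, one_smul] at this
      exact this
    exact ((IsLocalRing.maximalIdeal.isMaximal R).eq_of_le hne hle).symm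
  refine ⟨inferInstance, x, ?_⟩
  rw [hcol]
  exact (Ideal.IsPrime.radical inferInstance).symm

/-- over a Noetherian local ring, the maximal ideal is associated iff some nonzero element is
killed by it. -/
theorem exists_of_isAssociatedPrime_maximalIdeal {R N : Type*} [CommRing R] [IsLocalRing R]
    [IsNoetherianRing R] [AddCommGroup N] [Module R N]
    (h : IsAssociatedPrime (maximalIdeal R) N) :
    ∃ x : N, x ≠ 0 ∧ ∀ r ∈ maximalIdeal R, r • x = 0 := by
  rw [isAssociatedPrime_iff] at h
  obtain ⟨hp, x, hx⟩ := h
  refine ⟨x, ?_, ?_⟩
  · rintro rfl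
    have : (1 : R) ∈ maximalIdeal R := by
      rw [hx, Submodule.mem_colon_singleton, Submodule.mem_bot, smul_zero]
    exact (Ideal.ne_top_iff_one _).1 hp.ne_top this
  · intro r hr
    rw [hx, Submodule.mem_colon_singleton, Submodule.mem_bot] at hr
    exact hr

/-- flat tensor products commute with torsion by a finite set. -/
theorem mem_range_lTensor_torsionBySet {A M E : Type*} [CommRing A] [AddCommGroup M] [Module A M]
    [Module.Flat A M] [AddCommGroup E] [Module A E] (s : Finset A) (t : M ⊗[A] E)
    (ht : ∀ a ∈ s, a • t = 0) :
    t ∈ LinearMap.range (LinearMap.lTensor M (Submodule.torsionBySet A E (s : Set A)).subtype) := by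
  classical
  let g : E →ₗ[A] (s → E) := LinearMap.pi (fun a => LinearMap.lsmul A E (a : A))
  have hex : Function.Exact (Submodule.torsionBySet A E (s : Set A)).subtype g := by
    intro y
    constructor
    · intro hy
      refine ⟨⟨y, ?_⟩, rfl⟩
      rw [Submodule.mem_torsionBySet_iff]
      intro a
      have := congrFun hy ⟨a.1, a.2⟩
      simpa [g] using this
    · rintro ⟨y', rfl⟩
      ext a
      have := (Submodule.mem_torsionBySet_iff _ _).1 y'.2 ⟨a.1, a.2⟩
      simpa [g] using this
  have hex2 := Module.Flat.lTensor_exact M hex
  apply (hex2 t).1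
  apply (TensorProduct.piRight A A M (fun _ : s => E)).injective
  rw [map_zero]
  ext a
  have key : ∀ t : M ⊗[A] E,
      (TensorProduct.piRight A A M (fun _ : s => E)) (LinearMap.lTensor M g t) a = (a : A) • t := by
    intro t
    induction t using TensorProduct.induction_on with
    | zero => simp
    | tmul m e => simp [g, TensorProduct.tmul_smul]
    | add x y hx hy => simp only [map_add, Pi.add_apply, smul_add, hx, hy]
  rw [key]
  exact ht a.1 a.2

end Groth.Agent.Helper2.AssTens
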