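import Mathlib
import Groth.Agent.Helper2.AssTens1

set_option autoImplicit false
set_option linter.unusedVariables false
open TensorProduct IsLocalRing
universe u

namespace Groth.Agent.Helper2.AssTens

section
variable {A B M E : Type u} [CommRing A] [CommRing B] [Algebra A B] [IsLocalRing A] [IsLocalRing B]
  [IsLocalHom (algebraMap A B)] [AddCommGroup M] [Module A M] [Module B M] [IsScalarTower A B M]
  [AddCommGroup E] [Module A E]

theorem algebraMap_smul_tensor (a : A) (t : M ⊗[A] E) : (algebraMap A B a) • t = a • t := by
  rw [algebraMap_smul]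

/-- elements of `m_A` kill what `m_B` kills. -/
theorem smul_eq_zero_of_mem_maximalIdeal (t : M ⊗[A] E) (ht : ∀ b ∈ maximalIdeal B, b • t = 0)
    (a : A) (ha : a ∈ maximalIdeal A) : a • t = 0 := by
  rw [← algebraMap_smul B a t]
  exact ht _ (_root_.map_nonunit (algebraMap A B) a ha)

variable [Module.Flat A M]

theorem isAssociatedPrime_tensor_of [IsNoetherianRing A]
    (h1 : IsAssociatedPrime (maximalIdeal A) E)
    (h2 : IsAssociatedPrime (maximalIdeal B) (M ⊗[A] (A ⧸ maximalIdeal A))) :
    IsAssociatedPrime (maximalIdeal B) (M ⊗[A] E) := by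
  obtain ⟨e, he0, he⟩ := exists_of_isAssociatedPrime_maximalIdeal h1
  let ι : (A ⧸ maximalIdeal A) →ₗ[A] E :=
    Submodule.liftQ _ (LinearMap.toSpanSingleton A E e) (by
      intro a ha
      rw [LinearMap.mem_ker, LinearMap.toSpanSingleton_apply]
      exact he a ha)
  have hι : Function.Injective ι := by
    rw [← LinearMap.ker_eq_bot, Submodule.ker_liftQ_eq_bot']
    refine le_antisymm ?_ ?_
    · intro a ha
      rw [LinearMap.mem_ker, LinearMap.toSpanSingleton_apply]
      exact he a ha
    · intro a ha
      rw [LinearMap.mem_ker, LinearMap.toSpanSingleton_apply] at ha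
      by_contra hna
      have hu : IsUnit a := by
        by_contra hnu
        exact hna ((IsLocalRing.mem_maximalIdeal a).2 hnu)
      apply he0
      have := congrArg (fun z => (hu.unit⁻¹ : Aˣ) • z) ha
      simpa [Units.smul_def, smul_smul] using this
  have hinj : Function.Injective (TensorProduct.AlgebraTensorModule.lTensor B M ι) :=
    Module.Flat.lTensor_preserves_injective_linearMap ι hι
  exact h2.map_of_injective (TensorProduct.AlgebraTensorModule.lTensor B M ι) hinj

end

end Groth.Agent.Helper2.AssTens
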