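import Mathlib
import Groth.Agent.Helper2.AssTens1
import Groth.Agent.Helper2.AssTens2

set_option autoImplicit false
set_option linter.unusedVariables false
open TensorProduct IsLocalRing
universe u

namespace Groth.Agent.Helper2.AssTens

section
variable {A B M E : Type u} [CommRing A] [CommRing B] [Algebra A B] [IsLocalRing A] [IsLocalRing B]
  [IsLocalHom (algebraMap A B)] [AddCommGroup M] [Module A M] [Module B M] [IsScalarTower A B M]
  [AddCommGroup E] [Module A E]

/-- a nonzero element of `M ⊗ V`, `V` a vector space over the residue field, has a nonzero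
coordinate. -/
theorem exists_coord_ne_zero (V : Type u) [AddCommGroup V] [Module A V]
    [Module (ResidueField A) V] [IsScalarTower A (ResidueField A) V]
    (t : M ⊗[A] V) (ht : t ≠ 0) :
    ∃ l : V →ₗ[A] ResidueField A, TensorProduct.AlgebraTensorModule.lTensor B M l t ≠ 0 := by
  classical
  let b := Module.Free.chooseBasis (ResidueField A) V
  let ι := Module.Free.ChooseBasisIndex (ResidueField A) V
  let r : V ≃ₗ[A] (ι →₀ ResidueField A) := b.repr.restrictScalars A
  let e : M ⊗[A] V ≃ₗ[A] (ι →₀ M ⊗[A] ResidueField A) :=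
    (LinearEquiv.lTensor M r) ≪≫ₗ TensorProduct.finsuppRight A A M (ResidueField A) ι
  have hne : e t ≠ 0 := fun h => ht (e.map_eq_zero_iff.1 h)
  obtain ⟨i, hi⟩ := Finsupp.ne_iff.1 hne
  refine ⟨(Finsupp.lapply i) ∘ₗ r.toLinearMap, ?_⟩
  rw [Finsupp.zero_apply] at hi
  have key : ∀ t : M ⊗[A] V, e t i =
      TensorProduct.AlgebraTensorModule.lTensor B M ((Finsupp.lapply i) ∘ₗ r.toLinearMap) t := by
    intro t
    induction t using TensorProduct.induction_on with
    | zero => simp
    | tmul m v => simp [e]
    | add x y hx hy => simp only [map_add, Finsupp.add_apply, hx, hy]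
  rwa [key] at hi

end

end Groth.Agent.Helper2.AssTens

namespace Groth.Agent.Helper2.AssTens

section
variable {A B M E : Type u} [CommRing A] [CommRing B] [Algebra A B] [IsLocalRing A] [IsLocalRing B]
  [IsLocalHom (algebraMap A B)] [AddCommGroup M] [Module A M] [Module B M] [IsScalarTower A B M]
  [AddCommGroup E] [Module A E]

/-- the residue field as a quotient module. -/
noncomputable def resEquiv (A : Type u) [CommRing A] [IsLocalRing A] :
    ResidueField A ≃ₗ[A] A ⧸ maximalIdeal A where
  toFun := id
  invFun := id
  map_add' := fun _ _ => rfl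
  map_smul' := fun a x => by
    obtain ⟨y, rfl⟩ := Ideal.Quotient.mk_surjective x
    rfl
  left_inv := fun _ => rfl
  right_inv := fun _ => rfl

omit [IsLocalHom (algebraMap A B)] in
theorem isAssociatedPrime_residueField_iff :
    IsAssociatedPrime (maximalIdeal B) (M ⊗[A] ResidueField A) ↔
      IsAssociatedPrime (maximalIdeal B) (M ⊗[A] (A ⧸ maximalIdeal A)) :=
  LinearEquiv.isAssociatedPrime_iff
    (TensorProduct.AlgebraTensorModule.congr (LinearEquiv.refl B M) (resEquiv A))

theorem isAssociatedPrime_of_tensor [IsNoetherianRing A] [IsNoetherianRing B] [Module.Flat A M]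
    (h : IsAssociatedPrime (maximalIdeal B) (M ⊗[A] E)) :
    IsAssociatedPrime (maximalIdeal A) E ∧
      IsAssociatedPrime (maximalIdeal B) (M ⊗[A] ResidueField A) := by
  obtain ⟨t, ht0, ht⟩ := exists_of_isAssociatedPrime_maximalIdeal h
  have hA : ∀ a ∈ maximalIdeal A, a • t = 0 := by
    intro a ha
    rw [← algebraMap_smul B a t]
    exact ht _ (_root_.map_nonunit (algebraMap A B) a ha)
  obtain ⟨s, hs⟩ := (isNoetherianRing_iff_ideal_fg A).1 inferInstance (maximalIdeal A)
  have hmem := mem_range_lTensor_torsionBySet (M := M) (E := E) s t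
    (fun a ha => hA a (hs ▸ Ideal.subset_span ha))
  obtain ⟨t', ht'⟩ := hmem
  have hV : Module.IsTorsionBySet A (Submodule.torsionBySet A E (s : Set A))
      (maximalIdeal A : Set A) := by
    rw [← hs, ← Module.isTorsionBySet_iff_is_torsion_by_span]
    exact Submodule.torsionBySet_isTorsionBySet _
  letI modk : Module (ResidueField A) (Submodule.torsionBySet A E (s : Set A)) :=
    Module.IsTorsionBySet.module hV
  haveI : IsScalarTower A (ResidueField A) (Submodule.torsionBySet A E (s : Set A)) :=
    Module.IsTorsionBySet.isScalarTower hV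
  have ht'0 : t' ≠ 0 := by
    rintro rfl
    exact ht0 (by rw [← ht', map_zero])
  have hinj : Function.Injective (TensorProduct.AlgebraTensorModule.lTensor B M
      (Submodule.torsionBySet A E (s : Set A)).subtype) :=
    Module.Flat.lTensor_preserves_injective_linearMap _ (Submodule.subtype_injective _)
  have ht'' : TensorProduct.AlgebraTensorModule.lTensor B M
      (Submodule.torsionBySet A E (s : Set A)).subtype t' = t := ht'
  have hB' : ∀ b ∈ maximalIdeal B, b • t' = 0 := by
    intro b hb
    apply hinj
    rw [map_smul, ht'', map_zero]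
    exact ht b hb
  refine ⟨?_, ?_⟩
  · have hnt : ∃ v : Submodule.torsionBySet A E (s : Set A), v ≠ 0 := by
      by_contra hcon
      push Not at hcon
      haveI : Subsingleton (Submodule.torsionBySet A E (s : Set A)) :=
        ⟨fun a b => (hcon a).trans (hcon b).symm⟩
      exact ht'0 (Subsingleton.elim _ _)
    obtain ⟨v, hv⟩ := hnt
    refine isAssociatedPrime_maximalIdeal_of_smul_eq_zero (v : E) (fun h0 => hv (Subtype.ext h0)) ?_
    intro a ha
    have := @hV v ⟨a, ha⟩
    exact congrArg Subtype.val this
  · obtain ⟨l, hl⟩ := exists_coord_ne_zero (A := A) (B := B) (M := M)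
      (Submodule.torsionBySet A E (s : Set A)) t' ht'0
    refine isAssociatedPrime_maximalIdeal_of_smul_eq_zero
      (TensorProduct.AlgebraTensorModule.lTensor B M l t') hl ?_
    intro b hb
    rw [← map_smul, hB' b hb, map_zero]

theorem isAssociatedPrime_tensor_iff [IsNoetherianRing A] [IsNoetherianRing B] [Module.Flat A M] :
    IsAssociatedPrime (maximalIdeal B) (M ⊗[A] E) ↔
      IsAssociatedPrime (maximalIdeal A) E ∧
        IsAssociatedPrime (maximalIdeal B) (M ⊗[A] ResidueField A) :=
  ⟨isAssociatedPrime_of_tensor, fun h => isAssociatedPrime_tensor_of h.1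
    (isAssociatedPrime_residueField_iff.1 h.2)⟩

end

end Groth.Agent.Helper2.AssTens
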