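import Mathlib
import Groth.Agent.Helper2.AssTens3

set_option autoImplicit false
set_option linter.unusedVariables false
open TensorProduct IsLocalRing
universe u

namespace Groth.Agent.Helper2.AssTens

/-- associated-ness of the maximal ideal along a surjection of local rings. -/
theorem isAssociatedPrime_maximalIdeal_iff_of_surjective {B B' P : Type u} [CommRing B]
    [CommRing B'] [IsLocalRing B] [IsLocalRing B'] [IsNoetherianRing B] [Algebra B B']
    (hπ : Function.Surjective (algebraMap B B'))
    [AddCommGroup P] [Module B P] [Module B' P] [IsScalarTower B B' P] :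
    IsAssociatedPrime (maximalIdeal B') P ↔ IsAssociatedPrime (maximalIdeal B) P := by
  haveI : IsNoetherianRing B' := isNoetherianRing_of_surjective B B' (algebraMap B B') hπ
  constructor
  · intro h
    obtain ⟨x, hx0, hx⟩ := exists_of_isAssociatedPrime_maximalIdeal h
    refine isAssociatedPrime_maximalIdeal_of_smul_eq_zero x hx0 ?_
    intro b hb
    rw [← algebraMap_smul B' b x]
    apply hx
    rw [mem_maximalIdeal, mem_nonunits_iff] at hb ⊢
    intro hu
    apply hb
    haveI : IsLocalHom (algebraMap B B') := IsLocalHom.of_surjective _ hπ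
    exact isUnit_of_map_unit (algebraMap B B') b hu
  · intro h
    obtain ⟨x, hx0, hx⟩ := exists_of_isAssociatedPrime_maximalIdeal h
    refine isAssociatedPrime_maximalIdeal_of_smul_eq_zero x hx0 ?_
    intro b' hb'
    obtain ⟨b, rfl⟩ := hπ b'
    rw [algebraMap_smul]
    apply hx
    rw [mem_maximalIdeal, mem_nonunits_iff] at hb' ⊢
    intro hu
    exact hb' (hu.map (algebraMap B B'))

end Groth.Agent.Helper2.AssTens

namespace Groth.Agent.Helper2.AssTens

/-- algebra dictionary: associated-ness at a point of the fibre. -/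
theorem isAssociatedPrime_fibre_dict {A B B' M N : Type u} [CommRing A] [CommRing B] [CommRing B']
    [IsLocalRing A] [IsLocalRing B] [IsLocalRing B'] [IsNoetherianRing B]
    [Algebra A B] [AddCommGroup M] [Module B M] [Module A M] [IsScalarTower A B M]
    [AddCommGroup N] [Module B' N]
    (πB : B →+* B') (hπB : Function.Surjective πB)
    (hkB : RingHom.ker πB = (maximalIdeal A).map (algebraMap A B))
    (E : letI := πB.toAlgebra; N ≃ₗ[B'] B' ⊗[B] M) :
    IsAssociatedPrime (maximalIdeal B') N ↔
      IsAssociatedPrime (maximalIdeal B) (M ⊗[A] ResidueField A) := by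
  letI algBB' : Algebra B B' := πB.toAlgebra
  have hπ : Function.Surjective (algebraMap B B') := hπB
  let K : Ideal B := RingHom.ker πB
  have hK : K = (maximalIdeal A).map (algebraMap A B) := hkB
  let e0 : (B ⧸ K) ≃ₐ[B] B' :=
    Ideal.quotientKerAlgEquivOfSurjective (f := Algebra.ofId B B') hπB
  let e1 : (B ⧸ K) ≃ₐ[B] (B ⧸ (maximalIdeal A).map (algebraMap A B)) :=
    Ideal.quotientEquivAlgOfEq B hK
  let e2 : (B ⧸ (maximalIdeal A).map (algebraMap A B)) ≃ₐ[B] B ⊗[A] (A ⧸ maximalIdeal A) :=
    Algebra.TensorProduct.quotIdealMapEquivTensorQuot B (maximalIdeal A)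
  let e3 : B' ≃ₗ[B] B ⊗[A] (A ⧸ maximalIdeal A) :=
    e0.symm.toLinearEquiv ≪≫ₗ e1.toLinearEquiv ≪≫ₗ e2.toLinearEquiv
  let e4 : B' ⊗[B] M ≃ₗ[B] M ⊗[A] (A ⧸ maximalIdeal A) :=
    TensorProduct.congr e3 (LinearEquiv.refl B M) ≪≫ₗ TensorProduct.comm B _ _ ≪≫ₗ
      TensorProduct.AlgebraTensorModule.cancelBaseChange A B B M (A ⧸ maximalIdeal A)
  rw [E.isAssociatedPrime_iff, isAssociatedPrime_maximalIdeal_iff_of_surjective hπ,
    e4.isAssociatedPrime_iff, isAssociatedPrime_residueField_iff]

end Groth.Agent.Helper2.AssTens
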