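import Mathlib
import Groth.Prelude
import Groth.Agent.Helper2.FibFD1
import Groth.Agent.Helper5.FibStalk
import Groth.Agent.Lead.StalkPull2

set_option autoImplicit false
set_option linter.unusedVariables false
open CategoryTheory CategoryTheory.Limits AlgebraicGeometry TopologicalSpace Topology TensorProduct
open IsLocalRing
universe u

namespace Groth.Agent.Helper2.FibNT

open Groth.Agent.Helper2.FibFD

/-- algebra dictionary: the fibre stalk is trivial iff `J M = M`. -/
theorem subsingleton_fibre_dict {A B B' M N : Type u} [CommRing A] [CommRing B] [CommRing B']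
    [Algebra A B] [AddCommGroup M] [Module B M] [Module A M] [IsScalarTower A B M]
    [AddCommGroup N] [Module B' N] (J : Ideal A)
    (πB : B →+* B') (hπB : Function.Surjective πB)
    (hkB : RingHom.ker πB = J.map (algebraMap A B))
    (E : letI := πB.toAlgebra; N ≃ₗ[B'] B' ⊗[B] M) :
    Subsingleton N ↔ J • (⊤ : Submodule A M) = ⊤ := by
  letI algBB' : Algebra B B' := πB.toAlgebra
  let K : Ideal B := RingHom.ker πB
  let e0 : (B ⧸ K) ≃ₐ[B] B' :=
    Ideal.quotientKerAlgEquivOfSurjective (f := Algebra.ofId B B') hπB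
  let e1 : (B ⧸ K) ⊗[B] M ≃ₗ[B] B' ⊗[B] M :=
    TensorProduct.congr e0.toLinearEquiv (LinearEquiv.refl B M)
  let e2 : (B ⧸ K) ⊗[B] M ≃ₗ[B] M ⧸ (K • (⊤ : Submodule B M)) :=
    TensorProduct.quotTensorEquivQuotSMul M K
  have h1 : Subsingleton N ↔ Subsingleton (M ⧸ (K • (⊤ : Submodule B M))) := by
    constructor
    · intro h
      haveI : Subsingleton (B' ⊗[B] M) := E.symm.toEquiv.subsingleton
      exact (e2.symm.trans e1).toEquiv.subsingleton
    · intro h
      haveI : Subsingleton (B' ⊗[B] M) := (e1.symm.trans e2).toEquiv.subsingleton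
      exact E.toEquiv.subsingleton
  rw [h1, Submodule.Quotient.subsingleton_iff]
  have hK : K = J.map (algebraMap A B) := hkB
  rw [hK]
  constructor
  · intro h
    have := restrictScalars_map_smul_top (S := B) J (M := M)
    rw [h] at this
    rw [← this]
    rfl
  · intro h
    have := restrictScalars_map_smul_top (S := B) J (M := M)
    rw [h] at this
    apply Submodule.restrictScalars_injective A
    rw [this]
    rfl

/-- the stalk of the restriction of `F` to a fibre is trivial iff `m_s F_x = F_x`. -/
theorem subsingleton_stalk_fibre_iff {X S : Scheme.{u}} (f : X ⟶ S) (F : X.Modules)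
    [F.IsQuasicoherent] (s : S) (z : ↥(f.fiber s)) :
    Subsingleton (((Scheme.Modules.pullback (f.fiberι s)).obj F).presheaf.stalk z) ↔
      (letI := FlatMod.moduleStalkOver f F (f.fiberι s z)
       maximalIdeal (S.presheaf.stalk (f (f.fiberι s z))) •
        (⊤ : Submodule (S.presheaf.stalk (f (f.fiberι s z))) (F.presheaf.stalk (f.fiberι s z)))
          = ⊤) := by
  let x : X := f.fiberι s z
  letI algAB : Algebra (S.presheaf.stalk (f x)) (X.presheaf.stalk x) :=
    (f.stalkMap x).hom.toAlgebra
  letI modAM : Module (S.presheaf.stalk (f x)) (F.presheaf.stalk x) :=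
    FlatMod.moduleStalkOver f F x
  haveI : IsScalarTower (S.presheaf.stalk (f x)) (X.presheaf.stalk x) (F.presheaf.stalk x) :=
    IsScalarTower.of_algebraMap_smul (fun _ _ => rfl)
  have hX := Groth.Agent.Helper5.FibStalk.s9501 f s z
  obtain ⟨E⟩ := Groth.Agent.Lead.StalkPull.nonempty_stalk_pullback_equiv (f.fiberι s) F z
  exact subsingleton_fibre_dict
    (A := S.presheaf.stalk (f x)) (B := X.presheaf.stalk x) (M := F.presheaf.stalk x)
    (maximalIdeal (S.presheaf.stalk (f x)))
    ((f.fiberι s).stalkMap z).hom hX.1 hX.2 E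

end Groth.Agent.Helper2.FibNT

namespace Groth.Agent.Helper2.FibNT

/-- the stalk of a pullback along a flat morphism is trivial iff the stalk downstairs is. -/
theorem subsingleton_stalk_pullback_iff_of_flat {X' X : Scheme.{u}} (φ : X' ⟶ X) [Flat φ]
    (G : X.Modules) [G.IsQuasicoherent] (z' : X') :
    Subsingleton (((Scheme.Modules.pullback φ).obj G).presheaf.stalk z') ↔
      Subsingleton (G.presheaf.stalk (φ z')) := by
  letI alg : Algebra (X.presheaf.stalk (φ z')) (X'.presheaf.stalk z') :=
    (φ.stalkMap z').hom.toAlgebra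
  obtain ⟨E⟩ := Groth.Agent.Lead.StalkPull.nonempty_stalk_pullback_equiv φ G z'
  haveI : Module.Flat (X.presheaf.stalk (φ z')) (X'.presheaf.stalk z') :=
    Flat.stalkMap φ z'
  haveI : IsLocalHom (algebraMap (X.presheaf.stalk (φ z')) (X'.presheaf.stalk z')) :=
    inferInstanceAs (IsLocalHom (φ.stalkMap z').hom)
  haveI : Module.FaithfullyFlat (X.presheaf.stalk (φ z')) (X'.presheaf.stalk z') :=
    Module.FaithfullyFlat.of_flat_of_isLocalHom
  have key := Module.FaithfullyFlat.subsingleton_tensorProduct_iff_right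
    (X.presheaf.stalk (φ z')) (X'.presheaf.stalk z') (N := G.presheaf.stalk (φ z'))
  rw [← key]
  exact ⟨fun h => E.symm.toEquiv.subsingleton, fun h => E.toEquiv.subsingleton⟩

end Groth.Agent.Helper2.FibNT
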