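import Mathlib
import Groth.Prelude
import Groth.Agent.Helper2.FlatDescApp
import Groth.Agent.Helper3.LocFlatCrit

set_option autoImplicit false
open Function AlgebraicGeometry CategoryTheory TopologicalSpace
universe u

namespace Groth.Agent.Helper2.FlatLocusSch

open Groth.Agent.Helper2.FlatDescApp

/-- converse of `Helper3.LocFlatCrit.localRingHom_flat`. -/
theorem flat_of_localRingHom_flat {R T : Type u} [CommRing R] [CommRing T] (φ : R →+* T)
    (p : Ideal R) [p.IsPrime] (q : Ideal T) [q.IsPrime] (hpq : p = q.comap φ)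
    (h : (Localization.localRingHom p q φ hpq).Flat) :
    ((algebraMap T (Localization.AtPrime q)).comp φ).Flat := by
  have h1 : (algebraMap R (Localization.AtPrime p)).Flat :=
    RingHom.flat_algebraMap_iff.2 inferInstance
  have h2 : (algebraMap T (Localization.AtPrime q)).comp φ =
      (Localization.localRingHom p q φ hpq).comp (algebraMap R (Localization.AtPrime p)) := by
    ext r
    rw [RingHom.comp_apply, RingHom.comp_apply, Localization.localRingHom_to_map]
  rw [h2]
  exact RingHom.Flat.comp h1 h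

/-- flatness of `B_q` over `A` in the two models of the localization. -/
theorem flat_localization_iff (A B : Type u) [CommRing A] [CommRing B] [Algebra A B]
    (q : Ideal B) [q.IsPrime] :
    Module.Flat A (Localization.AtPrime q) ↔ Module.Flat A (LocalizedModule q.primeCompl B) := by
  let e : LocalizedModule q.primeCompl B ≃ₗ[B] Localization.AtPrime q :=
    IsLocalizedModule.iso q.primeCompl (Algebra.linearMap B (Localization.AtPrime q))
  exact ⟨fun h => Module.Flat.of_linearEquiv (e.restrictScalars A),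
    fun h => Module.Flat.of_linearEquiv (e.symm.restrictScalars A)⟩

/-- pointwise comparison on an affine chart. -/
theorem flat_stalkMap_iff {X S : Scheme.{u}} (f : X ⟶ S) {U : S.Opens} (hU : IsAffineOpen U)
    {V : X.Opens} (hV : IsAffineOpen V) (e : V ≤ f ⁻¹ᵁ U) (x : X) (hx : x ∈ V) :
    letI := (f.appLE U V e).hom.toAlgebra
    (f.stalkMap x).hom.Flat ↔
      Module.Flat Γ(S, U) (LocalizedModule (hV.primeIdealOf ⟨x, hx⟩).asIdeal.primeCompl Γ(X, V)) := by
  letI := (f.appLE U V e).hom.toAlgebra
  rw [← flat_localization_iff]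
  have hcomp : ((algebraMap Γ(X, V) (Localization.AtPrime (hV.primeIdealOf ⟨x, hx⟩).asIdeal)).comp
      (f.appLE U V e).hom) =
        algebraMap Γ(S, U) (Localization.AtPrime (hV.primeIdealOf ⟨x, hx⟩).asIdeal) := rfl
  constructor
  · intro h
    rw [RingHom.Flat.respectsIso.arrow_mk_iso_iff
      (IsAffineOpen.arrowStalkMapIso f U hU V hV e hx)] at h
    have h2 := flat_of_localRingHom_flat (f.appLE U V e).hom _ _
      congr($(IsAffineOpen.comap_primeIdealOf_appLE U hU V hV e hx).1).symm h
    rw [hcomp, RingHom.flat_algebraMap_iff] at h2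
    exact h2
  · intro h
    apply Groth.Agent.Helper3.LocFlatCrit.flat_stalkMap f hU hV e x hx
    rw [hcomp, RingHom.flat_algebraMap_iff]
    exact h

/-- **Openness of the flat locus** of a morphism locally of finite presentation. -/
theorem isOpen_flat_locus {X S : Scheme.{u}} (f : X ⟶ S) [LocallyOfFinitePresentation f] :
    IsOpen {x : X | (f.stalkMap x).hom.Flat} := by
  rw [isOpen_iff_forall_mem_open]
  intro x hx
  obtain ⟨U, hU, hfxU, -⟩ := (Opens.isBasis_iff_nbhd.1 S.isBasis_affineOpens)
    (show f x ∈ (⊤ : S.Opens) from trivial)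
  obtain ⟨V, hV, hxV, e⟩ := (Opens.isBasis_iff_nbhd.1 X.isBasis_affineOpens)
    (show x ∈ f ⁻¹ᵁ U from hfxU)
  letI := (f.appLE U V e).hom.toAlgebra
  have hfp : (f.appLE U V e).hom.FinitePresentation :=
    HasRingHomProperty.appLE @LocallyOfFinitePresentation f inferInstance ⟨U, hU⟩ ⟨V, hV⟩ e
  haveI : Algebra.FinitePresentation Γ(S, U) Γ(X, V) := hfp
  have hopen := isOpen_flatLocus_fp (R := Γ(S, U)) (S := Γ(X, V)) (M := Γ(X, V))
  refine ⟨Subtype.val '' ((fun y : V => IsAffineOpen.primeIdealOf hV y) ⁻¹'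
    {q : PrimeSpectrum Γ(X, V) |
      Module.Flat Γ(S, U) (LocalizedModule q.asIdeal.primeCompl Γ(X, V))}), ?_, ?_, ?_⟩
  · rintro _ ⟨y, hy, rfl⟩
    exact (flat_stalkMap_iff f hU hV e y.1 y.2).2 hy
  · exact V.2.isOpenEmbedding_subtypeVal.isOpenMap _
      (hopen.preimage (IsAffineOpen.isoSpec hV).hom.continuous)
  · exact ⟨⟨x, hxV⟩, (flat_stalkMap_iff f hU hV e x hxV).1 hx, rfl⟩

end Groth.Agent.Helper2.FlatLocusSch
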