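import Mathlib
import Groth.Prelude

set_option autoImplicit false
open Function TensorProduct
universe u

namespace Groth.Agent.Helper2.FibreKer

section K0
variable {R : Type u} [CommRing R] (p : Ideal R) [p.IsPrime] (N : Type u) [AddCommGroup N]
  [Module R N]

/-- elements of `p • N` die in `κ(p) ⊗ N`. -/
lemma tmul_eq_zero_of_mem (x : N) (hx : x ∈ p • (⊤ : Submodule R N)) :
    (1 : p.ResidueField) ⊗ₜ[R] x = 0 := by
  refine Submodule.smul_induction_on hx ?_ ?_
  · intro r hr n _
    rw [TensorProduct.tmul_smul, TensorProduct.smul_tmul', Algebra.smul_def, mul_one]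
    have : algebraMap R p.ResidueField r = 0 := by
      rw [← RingHom.mem_ker, Ideal.ker_algebraMap_residueField]
      exact hr
    rw [this, TensorProduct.zero_tmul]
  · intro a b ha hb
    rw [TensorProduct.tmul_add, ha, hb, add_zero]

/-- kernel of `N → κ(p) ⊗ N`. -/
lemma exists_smul_mem_of_tmul_eq_zero (x : N) (h : (1 : p.ResidueField) ⊗ₜ[R] x = 0) :
    ∃ s : R, s ∉ p ∧ s • x ∈ p • (⊤ : Submodule R N) := by
  -- the base change to `D = R/p`
  let D := R ⧸ p
  let y : D ⊗[R] N := (1 : D) ⊗ₜ[R] x
  have hbc : IsBaseChange p.ResidueField (TensorProduct.mk D p.ResidueField (D ⊗[R] N) 1) :=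
    TensorProduct.isBaseChange D (D ⊗[R] N) p.ResidueField
  haveI : IsLocalizedModule (nonZeroDivisors D)
      (TensorProduct.mk D p.ResidueField (D ⊗[R] N) 1) :=
    (isLocalizedModule_iff_isBaseChange (nonZeroDivisors D) p.ResidueField _).2 hbc
  have h0 : (TensorProduct.mk D p.ResidueField (D ⊗[R] N) 1) y = 0 := by
    have := congrArg (TensorProduct.AlgebraTensorModule.cancelBaseChange R D p.ResidueField
      p.ResidueField N).symm h
    rw [map_zero] at this
    rw [← this]
    simp [y]
  obtain ⟨d, hd⟩ := (IsLocalizedModule.eq_zero_iff (nonZeroDivisors D) _).1 h0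
  obtain ⟨s, hs⟩ := Ideal.Quotient.mk_surjective (d : D)
  refine ⟨s, ?_, ?_⟩
  · intro hsp
    have : (d : D) = 0 := by rw [← hs]; exact Ideal.Quotient.eq_zero_iff_mem.2 hsp
    exact nonZeroDivisors.coe_ne_zero d this
  · have h1 : (1 : D) ⊗ₜ[R] (s • x) = 0 := by
      rw [TensorProduct.tmul_smul, TensorProduct.smul_tmul']
      have : s • (1 : D) = (d : D) • (1 : D) := by
        rw [← hs, Algebra.smul_def, Algebra.smul_def]
        rfl
      have h2 : ((d : D) • (1 : D)) ⊗ₜ[R] x = d • y := by
        rw [Submonoid.smul_def, TensorProduct.smul_tmul']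
      rw [this, h2, hd]
    have h3 := congrArg (TensorProduct.quotTensorEquivQuotSMul N p) h1
    rw [map_zero, ← map_one (Ideal.Quotient.mk p),
      TensorProduct.quotTensorEquivQuotSMul_mk_tmul, one_smul] at h3
    exact (Submodule.Quotient.mk_eq_zero _).1 h3

end K0

end Groth.Agent.Helper2.FibreKer
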