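import Mathlib
import Groth.Prelude
import Groth.Agent.Helper2.InjFlatFin
import Groth.Agent.Helper2.FibreKer
import Groth.Agent.Helper5.FlatAss1

set_option autoImplicit false
open Function TensorProduct LinearMap IsLocalRing
universe u

namespace Groth.Agent.Helper2.NzdUI

open Groth.Agent.Helper2.FlatDescCore

attribute [local instance] Algebra.TensorProduct.rightAlgebra

section Fib
variable {R S : Type u} [CommRing R] [CommRing S] [Algebra R S]
variable (p : Ideal R) [p.IsPrime] (N : Type u) [AddCommGroup N] [Module S N]
  [Module R N] [IsScalarTower R S N]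

lemma fiberModEquiv_toFiberMod (x : N) : Groth.Agent.Helper5.FlatAss.fiberModEquiv p N
    (FlatCA.toFiberMod p S N x) = x ⊗ₜ[R] (1 : p.ResidueField) := by
  change (TensorProduct.AlgebraTensorModule.cancelBaseChange R S S N p.ResidueField)
      ((TensorProduct.AlgebraTensorModule.congr (LinearEquiv.refl S N)
        (Algebra.TensorProduct.commRight R S p.ResidueField).symm.toLinearEquiv)
        ((TensorProduct.comm S (p.Fiber S) N)
          (((1 : p.ResidueField) ⊗ₜ[R] (1 : S) : p.Fiber S) ⊗ₜ[S] x))) = _
  rw [TensorProduct.comm_tmul, TensorProduct.AlgebraTensorModule.congr_tmul]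
  simp

lemma toFiberMod_eq_zero_iff (x : N) :
    FlatCA.toFiberMod p S N x = 0 ↔ (1 : p.ResidueField) ⊗ₜ[R] x = 0 := by
  rw [← (Groth.Agent.Helper5.FlatAss.fiberModEquiv p N).map_eq_zero_iff,
    fiberModEquiv_toFiberMod,
    ← (TensorProduct.comm R N p.ResidueField).map_eq_zero_iff, TensorProduct.comm_tmul]

lemma toFiberMod_eq_zero_of_mem (x : N) (hx : x ∈ p • (⊤ : Submodule R N)) :
    FlatCA.toFiberMod p S N x = 0 :=
  (toFiberMod_eq_zero_iff p N x).2 (Groth.Agent.Helper2.FibreKer.tmul_eq_zero_of_mem p N x hx)

lemma exists_of_toFiberMod_eq_zero (x : N) (h : FlatCA.toFiberMod p S N x = 0) :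
    ∃ s : R, s ∉ p ∧ s • x ∈ p • (⊤ : Submodule R N) :=
  Groth.Agent.Helper2.FibreKer.exists_smul_mem_of_tmul_eq_zero p N x
    ((toFiberMod_eq_zero_iff p N x).1 h)

end Fib

section Main
variable {R S : Type u} [CommRing R] [IsLocalRing R] [CommRing S] [IsLocalRing S] [Algebra R S]
  [IsLocalHom (algebraMap R S)]
  (N : Type u) [AddCommGroup N] [Module S N] [Module R N] [IsScalarTower R S N]

/-- multiplication by an element acting injectively on the closed fibre is injective with flat
cokernel. -/
theorem crit (hS : CAlgX.IsEssFinitePresentation R S) [Module.FinitePresentation S N]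
    [Module.Flat R N] (s : S) (hs : s ∈ FlatCA.nzdFiber R S N) :
    Injective (LinearMap.lsmul S N s) ∧ Module.Flat R (N ⧸ LinearMap.range (LinearMap.lsmul S N s)) := by
  apply Groth.Agent.Helper2.InjFlatFin.s2107 hS (LinearMap.lsmul S N s)
  intro x hx
  have hx' := mem_smul_top_of_mem_map_smul_top (A := R) S (maximalIdeal R) _ hx
  have h0 : FlatCA.toFiberMod (maximalIdeal R) S N x = 0 := by
    apply (mem_nonZeroSMulDivisors_iff.1 hs)
    rw [← map_smul]
    exact toFiberMod_eq_zero_of_mem (maximalIdeal R) N _ hx'
  obtain ⟨r, hr, hrx⟩ := exists_of_toFiberMod_eq_zero (maximalIdeal R) N x h0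
  have hunit : IsUnit r := by
    by_contra hnu
    exact hr ((mem_maximalIdeal r).2 hnu)
  obtain ⟨v, rfl⟩ := hunit
  have : x = (↑v⁻¹ : R) • ((v : R) • x) := by
    rw [smul_smul, Units.inv_mul, one_smul]
  rw [this]
  exact mem_map_smul_top_of_mem_smul_top (maximalIdeal R) _
    (Submodule.smul_mem _ _ hrx)

end Main

section UL
variable {R S : Type u} [CommRing R] [CommRing S] [Algebra R S]
  (N : Type u) [AddCommGroup N] [Module S N] [Module R N] [IsScalarTower R S N]

/-- if all elements of a submonoid act universally injectively, the localization map is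
universally injective. -/
theorem univInj_mkLinearMap (T : Submonoid S)
    (h : ∀ s ∈ T, FlatCA.UnivInj R ((LinearMap.lsmul S N s).restrictScalars R)) :
    FlatCA.UnivInj R ((LocalizedModule.mkLinearMap T N).restrictScalars R) := by
  intro Q _ _
  have hnat1 : ∀ z : Q ⊗[R] N,
      (TensorProduct.AlgebraTensorModule.rTensor R Q (LocalizedModule.mkLinearMap T N))
        (TensorProduct.comm R Q N z) =
        TensorProduct.comm R Q (LocalizedModule T N)
          (((LocalizedModule.mkLinearMap T N).restrictScalars R).lTensor Q z) := by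
    intro z
    induction z using TensorProduct.induction_on with
    | zero => simp
    | add a b ha hb => simp only [map_add] at ha hb ⊢; rw [ha, hb]
    | tmul q n => simp
  have hnat2 : ∀ (s : S) (z : Q ⊗[R] N), s • (TensorProduct.comm R Q N z) =
      TensorProduct.comm R Q N (((LinearMap.lsmul S N s).restrictScalars R).lTensor Q z) := by
    intro s z
    induction z using TensorProduct.induction_on with
    | zero => simp
    | add a b ha hb => simp only [map_add, smul_add] at ha hb ⊢; rw [ha, hb]
    | tmul q n => simp [TensorProduct.smul_tmul']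
  rw [injective_iff_map_eq_zero]
  intro z hz
  have h1 : (TensorProduct.AlgebraTensorModule.rTensor R Q (LocalizedModule.mkLinearMap T N))
      (TensorProduct.comm R Q N z) = 0 := by
    rw [hnat1, hz, map_zero]
  obtain ⟨s, hs⟩ := (IsLocalizedModule.eq_zero_iff T
    (TensorProduct.AlgebraTensorModule.rTensor R Q (LocalizedModule.mkLinearMap T N))).1 h1
  have h3 : ((LinearMap.lsmul S N (s : S)).restrictScalars R).lTensor Q z = 0 := by
    apply (TensorProduct.comm R Q N).injective
    rw [← hnat2, map_zero]
    exact hs
  apply h (s : S) s.2 Q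
  rw [h3, map_zero]

end UL

/-- **S1194**. -/
theorem s1194 {R S : Type u} [CommRing R] [IsLocalRing R] [CommRing S] [IsLocalRing S]
    [Algebra R S] [IsLocalHom (algebraMap R S)] (hS : FlatCA.EssFinitePresentation R S)
    (N : Type u) [AddCommGroup N] [Module S N] [Module R N] [IsScalarTower R S N]
    [Module.FinitePresentation S N] [Module.Flat R N] :
    (∀ s ∈ FlatCA.nzdFiber R S N,
      FlatCA.UnivInj R ((LinearMap.lsmul S N s).restrictScalars R)) ∧
    FlatCA.UnivInj R
      ((LocalizedModule.mkLinearMap (FlatCA.nzdFiber R S N) N).restrictScalars R) := by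
  have h1 : ∀ s ∈ FlatCA.nzdFiber R S N,
      FlatCA.UnivInj R ((LinearMap.lsmul S N s).restrictScalars R) := by
    intro s hs Q _ _
    obtain ⟨hinj, hflat⟩ := crit N hS s hs
    haveI : Module.Flat R (N ⧸ LinearMap.range ((LinearMap.lsmul S N s).restrictScalars R)) := by
      have hrange : (LinearMap.range ((LinearMap.lsmul S N s).restrictScalars R)) =
          (LinearMap.range (LinearMap.lsmul S N s)).restrictScalars R := by
        ext y
        simp
      exact Module.Flat.of_linearEquiv
        ((Submodule.quotEquivOfEq _ _ hrange) ≪≫ₗ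
          Submodule.Quotient.restrictScalarsEquiv R (LinearMap.range (LinearMap.lsmul S N s)))
    exact LinearMap.lTensor_injective_of_exact_of_flat
      (LinearMap.range ((LinearMap.lsmul S N s).restrictScalars R)).mkQ
      (Submodule.mkQ_surjective _) ((LinearMap.lsmul S N s).restrictScalars R) hinj
      (LinearMap.exact_map_mkQ_range _) Q
  exact ⟨h1, univInj_mkLinearMap N _ h1⟩

end Groth.Agent.Helper2.NzdUI
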