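import Mathlib
import Groth.Agent.Helper2.LocCrit
import Groth.Agent.Helper2.RegFlat2
import Groth.Agent.S6352

set_option autoImplicit false
open TensorProduct Function LinearMap IsLocalRing
universe u v w w'

namespace Groth.Agent.Helper2.CofinalFlat

open Groth.Agent.Helper2.RegFlat2

section tors
variable {S : Type u} [CommRing S] (J : Ideal S) {M : Type v} [AddCommGroup M] [Module S M]

lemma lTensor_injective_of_torsion
    {N' : Type w} {N : Type w'} [AddCommGroup N'] [Module S N']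
    [AddCommGroup N] [Module S N]
    (hN' : Module.IsTorsionBySet S N' J) (hN : Module.IsTorsionBySet S N J)
    (ι : N' →ₗ[S] N) (hι : Injective ι)
    [Module.Flat (S ⧸ J) ((S ⧸ J) ⊗[S] M)] : Injective (lTensor M ι) := by
  have h := rTensor_injective_of_torsion (M := M) J hN' hN ι hι
  have : lTensor M ι = (TensorProduct.comm S N M).toLinearMap ∘ₗ rTensor M ι ∘ₗ
      (TensorProduct.comm S M N').toLinearMap := by
    ext; simp
  rw [this]
  exact (TensorProduct.comm S N M).injective.comp (h.comp (TensorProduct.comm S M N').injective)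

end tors

section krull
variable {A B : Type u} [CommRing A] [CommRing B] [IsLocalRing A] [IsLocalRing B]
  [IsNoetherianRing A] [IsNoetherianRing B] [Algebra A B] [IsLocalHom (algebraMap A B)]
  {M : Type u} [AddCommGroup M] [Module A M] [Module B M] [IsScalarTower A B M]

/-- local criterion: flatness modulo a cofinal family of ideals -/
theorem flat_of_flat_quot_cofinal [Module.Finite B M]
    (h : ∀ n : ℕ, ∃ 𝔞 : Ideal A, 𝔞 ≤ maximalIdeal A ^ n ∧
      Module.Flat (A ⧸ 𝔞) ((A ⧸ 𝔞) ⊗[A] M)) : Module.Flat A M := by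
  have hle : (maximalIdeal A).map (algebraMap A B) ≤ Ideal.jacobson ⊥ := by
    refine le_trans ?_ (IsLocalRing.maximalIdeal_le_jacobson _)
    rw [Ideal.map_le_iff_le_comap]
    intro x hx
    exact (mem_maximalIdeal _).2 (fun hu => (mem_maximalIdeal x).1 hx (isUnit_of_map_unit _ x hu))
  refine Groth.Agent.Helper1.FlatKrull.flat_of_ker_le_iInf
    ((maximalIdeal A).map (algebraMap A B)) hle ?_
  intro J x hx n
  obtain ⟨c, hc⟩ := Ideal.exists_pow_inf_eq_pow_smul (maximalIdeal A) (J : Submodule A A)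
  have hAR : J ⊓ maximalIdeal A ^ (n + c) ≤ maximalIdeal A ^ n • J := by
    have := hc (n + c) (by omega)
    rw [Nat.add_sub_cancel] at this
    intro y hy
    have hy' : y ∈ maximalIdeal A ^ (n + c) • (⊤ : Submodule A A) ⊓ J := by
      refine ⟨?_, hy.1⟩
      simpa using hy.2
    rw [this] at hy'
    exact Submodule.smul_mono le_rfl inf_le_right hy'
  obtain ⟨𝔞, h𝔞, hflat⟩ := h (n + c)
  let K' : Submodule A J := Submodule.comap J.subtype 𝔞
  let ιq : (J ⧸ K') →ₗ[A] (A ⧸ 𝔞) := Submodule.mapQ K' 𝔞 J.subtype le_rfl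
  have hιq : Injective ιq := by
    rw [← LinearMap.ker_eq_bot, eq_bot_iff]
    intro a ha
    obtain ⟨l, rfl⟩ := Submodule.Quotient.mk_surjective _ a
    rw [LinearMap.mem_ker, Submodule.mapQ_apply, Submodule.Quotient.mk_eq_zero] at ha
    rw [Submodule.mem_bot, Submodule.Quotient.mk_eq_zero]
    exact ha
  have htorsJ : Module.IsTorsionBySet A (J ⧸ K') (𝔞 : Set A) := by
    intro a s
    obtain ⟨a, rfl⟩ := Submodule.Quotient.mk_surjective _ a
    rw [← Submodule.Quotient.mk_smul, Submodule.Quotient.mk_eq_zero]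
    show J.subtype ((s : A) • a) ∈ 𝔞
    rw [map_smul]
    exact 𝔞.mul_mem_right _ s.2
  have htorsA : Module.IsTorsionBySet A (A ⧸ 𝔞) (𝔞 : Set A) := by
    intro a s
    obtain ⟨a, rfl⟩ := Submodule.Quotient.mk_surjective _ a
    rw [← Submodule.Quotient.mk_smul, Submodule.Quotient.mk_eq_zero]
    exact 𝔞.mul_mem_right _ s.2
  have hinjq := lTensor_injective_of_torsion (M := M) 𝔞 htorsJ htorsA ιq hιq
  have hex := lTensor_exact M (LinearMap.exact_subtype_mkQ K') (Submodule.mkQ_surjective K')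
  have h2 : lTensor M K'.mkQ x = 0 := by
    apply hinjq
    rw [map_zero, ← LinearMap.comp_apply, ← LinearMap.lTensor_comp]
    have : ιq ∘ₗ K'.mkQ = (Submodule.mkQ 𝔞) ∘ₗ J.subtype := by ext a; rfl
    rw [this, LinearMap.lTensor_comp, LinearMap.comp_apply, hx, map_zero]
  obtain ⟨w, rfl⟩ := (hex x).1 h2
  have hK' : ∀ k : K', (J.subtype ∘ₗ K'.subtype) k ∈ maximalIdeal A ^ n • J :=
    fun k => hAR ⟨k.1.2, h𝔞 k.2⟩
  let κ : K' →ₗ[A] ↥(maximalIdeal A ^ n • J) :=
    LinearMap.codRestrict _ (J.subtype ∘ₗ K'.subtype) hK'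
  have hκ : K'.subtype = Submodule.inclusion
      (show maximalIdeal A ^ n • J ≤ J from Submodule.smul_le_right) ∘ₗ κ := by
    ext; rfl
  apply Groth.Agent.Helper2.LocCrit.mem_smul_top_of_mem_range J n
  exact ⟨lTensor M κ w, by rw [← LinearMap.comp_apply, ← LinearMap.lTensor_comp, ← hκ]⟩

end krull

section step1
variable {A B A' : Type u} [CommRing A] [CommRing B] [CommRing A'] [IsLocalRing A]
  [Algebra A B] [Algebra A A']

theorem flat_quot_comap (𝔯 : Ideal A')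
    (h𝔯 : (maximalIdeal A).map (algebraMap A A') ≤ 𝔯)
    [Module.Flat A' (A' ⊗[A] B)] (N : ℕ) :
    Module.Flat (A ⧸ (𝔯 ^ N).comap (algebraMap A A'))
      ((A ⧸ (𝔯 ^ N).comap (algebraMap A A')) ⊗[A] B) := by
  set 𝔞 : Ideal A := (𝔯 ^ N).comap (algebraMap A A') with h𝔞
  letI alg : Algebra (A ⧸ 𝔞) (A' ⧸ 𝔯 ^ N) :=
    (Ideal.quotientMap (𝔯 ^ N) (algebraMap A A') le_rfl).toAlgebra
  have tower : IsScalarTower A (A ⧸ 𝔞) (A' ⧸ 𝔯 ^ N) :=
    IsScalarTower.of_algebraMap_eq (fun a => rfl)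
  have hinj : Injective (algebraMap (A ⧸ 𝔞) (A' ⧸ 𝔯 ^ N)) := Ideal.quotientMap_injective
  set I : Ideal (A ⧸ 𝔞) := (maximalIdeal A).map (Ideal.Quotient.mk 𝔞) with hIdef
  have hmN : maximalIdeal A ^ N ≤ 𝔞 := by
    rw [h𝔞, ← Ideal.map_le_iff_le_comap, Ideal.map_pow]
    exact Ideal.pow_right_mono h𝔯 N
  have hI : IsNilpotent I := by
    refine ⟨N, ?_⟩
    rw [hIdef, ← Ideal.map_pow, Ideal.zero_eq_bot, Ideal.map_eq_bot_iff_le_ker, Ideal.mk_ker]
    exact hmN
  by_cases htop : 𝔞 = ⊤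
  · -- everything trivial
    have : Subsingleton (A ⧸ 𝔞) := by
      rw [Ideal.Quotient.subsingleton_iff]; exact htop
    have : Subsingleton ((A ⧸ 𝔞) ⊗[A] B) := by
      refine ⟨fun a b => ?_⟩
      have h0 : ∀ z : (A ⧸ 𝔞) ⊗[A] B, z = 0 := by
        intro z
        induction z using TensorProduct.induction_on with
        | zero => rfl
        | add a b ha hb => rw [ha, hb, add_zero]
        | tmul a b => rw [Subsingleton.elim a 0, zero_tmul]
      rw [h0 a, h0 b]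
    infer_instance
  have h𝔞m : 𝔞 ≤ maximalIdeal A := IsLocalRing.le_maximalIdeal htop
  have hmax : I.IsMaximal := by
    apply Ideal.IsMaximal.map_of_surjective_of_ker_le Ideal.Quotient.mk_surjective
    rw [Ideal.mk_ker]
    exact h𝔞m
  have hflat1 : Module.Flat ((A ⧸ 𝔞) ⧸ I) (((A ⧸ 𝔞) ⧸ I) ⊗[A ⧸ 𝔞] ((A ⧸ 𝔞) ⊗[A] B)) := by
    letI := Ideal.Quotient.field I
    infer_instance
  have hflat2 : Module.Flat (A' ⧸ 𝔯 ^ N) ((A' ⧸ 𝔯 ^ N) ⊗[A ⧸ 𝔞] ((A ⧸ 𝔞) ⊗[A] B)) := by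
    let e1 := TensorProduct.AlgebraTensorModule.cancelBaseChange A (A ⧸ 𝔞) (A' ⧸ 𝔯 ^ N)
      (A' ⧸ 𝔯 ^ N) B
    let e2 := TensorProduct.AlgebraTensorModule.cancelBaseChange A A' (A' ⧸ 𝔯 ^ N)
      (A' ⧸ 𝔯 ^ N) B
    exact Module.Flat.of_linearEquiv (e1 ≪≫ₗ e2.symm)
  exact Groth.Agent.S6352.result (A ⧸ 𝔞) (A' ⧸ 𝔯 ^ N) hinj I hI ((A ⧸ 𝔞) ⊗[A] B)

end step1

end Groth.Agent.Helper2.CofinalFlat
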