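import Mathlib
import Groth.Prelude
import Groth.Agent.Helper2.FlatCL4
import Groth.Agent.Helper2.FibCrit
import Groth.Agent.Helper2.CofinalFlat
import Groth.Agent.Helper2.NormFlatLoc

set_option autoImplicit false
open TensorProduct Function LinearMap IsLocalRing
universe u

namespace Groth.Agent.Helper2.FlatOff

open Groth.Agent.Helper2.AdicFlat Groth.Agent.Helper2.FlatCL1 Groth.Agent.Helper2.FlatCL4

section Star
variable {A B : Type u} [CommRing A] [CommRing B] [Algebra A B]
  (M : Type u) [AddCommGroup M] [Module B M] [Module A M] [IsScalarTower A B M]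

/-- (★): if `M` is `A`-flat at the primes of `B` not containing `r`, then kernels of
`M ⊗ X' → M ⊗ X` are `r`-power torsion. -/
lemma exists_pow_smul_eq_zero (r : B)
    (hU : ∀ (q : Ideal B) [q.IsPrime], r ∉ q → Module.Flat A (LocalizedModule q.primeCompl M))
    {X' X : Type u} [AddCommGroup X'] [AddCommGroup X] [Module A X'] [Module A X]
    (ι : X' →ₗ[A] X) (hι : Injective ι) (y : M ⊗[A] X')
    (hy : (AlgebraTensorModule.lTensor (R := A) B M ι) y = 0) : ∃ N : ℕ, r ^ N • y = 0 := by
  let 𝔟 : Ideal B := LinearMap.ker (LinearMap.toSpanSingleton B (M ⊗[A] X') y)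
  by_cases hr : r ∈ 𝔟.radical
  · obtain ⟨N, hN⟩ := hr
    exact ⟨N, by simpa using LinearMap.mem_ker.1 hN⟩
  · exfalso
    rw [Ideal.radical_eq_sInf, Submodule.mem_sInf] at hr
    push Not at hr
    obtain ⟨(q : Ideal B), ⟨hbq, hqp⟩, hrq⟩ := hr
    haveI := hqp
    have hflat := hU q hrq
    let g' := LocalizedModule.mkLinearMap q.primeCompl M
    have h2 := IsLocalizedModule.map_lTensor (R := A) B q.primeCompl ι g'
    have h1 : Injective (AlgebraTensorModule.lTensor B (LocalizedModule q.primeCompl M) ι) :=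
      Module.Flat.lTensor_preserves_injective_linearMap ι hι
    rw [← h2] at h1
    obtain ⟨s, hs⟩ := exists_smul_eq_zero_of_map_injective q.primeCompl _ _ _ h1 y hy
    have hsb : s.1 ∈ 𝔟 := by
      change LinearMap.toSpanSingleton B (M ⊗[A] X') y s.1 = 0
      rw [LinearMap.toSpanSingleton_apply]
      exact hs
    exact s.2 (hbq hsb)

end Star

section VLemma
variable {A B : Type u} [CommRing A] [CommRing B] [IsLocalRing A] [Algebra A B]
  (M : Type u) [AddCommGroup M] [Module B M] [Module A M] [IsScalarTower A B M]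

/-- `k ⊗ M ≃ M / 𝔪_A B M` -/
noncomputable def fibEquiv :
    (A ⧸ maximalIdeal A) ⊗[A] M ≃ₗ[A]
      M ⧸ ((maximalIdeal A).map (algebraMap A B) • (⊤ : Submodule B M)) :=
  let e0 : (A ⧸ maximalIdeal A) ⊗[A] M ≃ₗ[A] M ⧸ (maximalIdeal A • (⊤ : Submodule A M)) :=
    TensorProduct.quotTensorEquivQuotSMul M (maximalIdeal A)
  let e1 : (M ⧸ ((maximalIdeal A).map (algebraMap A B) • (⊤ : Submodule B M)).restrictScalars A)
      ≃ₗ[A] M ⧸ ((maximalIdeal A).map (algebraMap A B) • (⊤ : Submodule B M)) :=
    Submodule.Quotient.restrictScalarsEquiv A _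
  let e2 : (M ⧸ ((maximalIdeal A).map (algebraMap A B) • (⊤ : Submodule B M)).restrictScalars A)
      ≃ₗ[A] (M ⧸ (maximalIdeal A • (⊤ : Submodule A M))) :=
    Submodule.quotEquivOfEq _ _
      (Groth.Agent.Helper2.NormFlatLoc.restrictScalars_map_smul_top A (maximalIdeal A) B M)
  e0.trans (e2.symm.trans e1)

lemma fibEquiv_tmul (c : A) (x : M) :
    fibEquiv (B := B) M ((Ideal.Quotient.mk (maximalIdeal A) c) ⊗ₜ[A] x) =
      Submodule.Quotient.mk (c • x) := by
  simp only [fibEquiv, LinearEquiv.trans_apply]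
  rw [TensorProduct.quotTensorEquivQuotSMul_mk_tmul]
  rfl

/-- V-lemma: `r` regular on the fibre module is regular on `M ⊗ X` for `X` killed by `𝔪`. -/
lemma smul_regular_of_torsion (r : B)
    (hreg : IsSMulRegular (M ⧸ ((maximalIdeal A).map (algebraMap A B) • (⊤ : Submodule B M))) r)
    (X : Type u) [AddCommGroup X] [Module A X]
    (hX : Module.IsTorsionBySet A X (maximalIdeal A : Set A))
    (y : M ⊗[A] X) (hy : r • y = 0) : y = 0 := by
  letI : Field (A ⧸ maximalIdeal A) := Ideal.Quotient.field _
  letI : Module (A ⧸ maximalIdeal A) X := hX.module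
  haveI : IsScalarTower A (A ⧸ maximalIdeal A) X := hX.isScalarTower
  let ρ : M →ₗ[A] M := (LinearMap.lsmul B M r).restrictScalars A
  let ρk : (A ⧸ maximalIdeal A) ⊗[A] M →ₗ[A ⧸ maximalIdeal A] (A ⧸ maximalIdeal A) ⊗[A] M :=
    AlgebraTensorModule.lTensor (A ⧸ maximalIdeal A) (A ⧸ maximalIdeal A) ρ
  have hρk : Injective ρk := by
    have hcomm : ∀ z, fibEquiv (B := B) M (ρk z) = r • fibEquiv (B := B) M z := by
      intro z
      induction z using TensorProduct.induction_on with
      | zero => simp
      | add a b ha hb => rw [map_add, map_add, ha, hb, map_add, smul_add]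
      | tmul c x =>
        obtain ⟨c, rfl⟩ := Ideal.Quotient.mk_surjective c
        change fibEquiv (B := B) M ((Ideal.Quotient.mk (maximalIdeal A) c) ⊗ₜ[A] (r • x)) = _
        rw [fibEquiv_tmul, fibEquiv_tmul, smul_comm, Submodule.Quotient.mk_smul]
    intro z₁ z₂ h
    have h' : r • fibEquiv (B := B) M z₁ = r • fibEquiv (B := B) M z₂ := by
      rw [← hcomm, ← hcomm, h]
    exact (fibEquiv (B := B) M).injective (hreg h')
  have h1 : Injective (lTensor X (ρk.restrictScalars (A ⧸ maximalIdeal A))) :=
    Module.Flat.lTensor_preserves_injective_linearMap _ hρk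
  have h2 : Injective (lTensor X ρ) := by
    intro z₁ z₂ h
    obtain ⟨w₁, rfl⟩ := (AlgebraTensorModule.cancelBaseChange A (A ⧸ maximalIdeal A)
      (A ⧸ maximalIdeal A) X M).surjective z₁
    obtain ⟨w₂, rfl⟩ := (AlgebraTensorModule.cancelBaseChange A (A ⧸ maximalIdeal A)
      (A ⧸ maximalIdeal A) X M).surjective z₂
    rw [← Groth.Agent.Helper2.FibCrit.cancel_natural_right,
      ← Groth.Agent.Helper2.FibCrit.cancel_natural_right] at h
    rw [h1 ((AlgebraTensorModule.cancelBaseChange A (A ⧸ maximalIdeal A)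
      (A ⧸ maximalIdeal A) X M).injective h)]
  have h3 : ∀ y : M ⊗[A] X, r • y = (TensorProduct.comm A X M) (lTensor X ρ
      ((TensorProduct.comm A M X) y)) := by
    intro y
    induction y using TensorProduct.induction_on with
    | zero => simp
    | add a b ha hb => rw [smul_add, ha, hb, map_add, map_add, map_add]
    | tmul m x =>
      rw [TensorProduct.smul_tmul', TensorProduct.comm_tmul, LinearMap.lTensor_tmul,
        TensorProduct.comm_tmul]
      rfl
  rw [h3] at hy
  have h4 : lTensor X ρ ((TensorProduct.comm A M X) y) = 0 :=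
    (TensorProduct.comm A X M).injective (by rw [hy, map_zero])
  have h5 : (TensorProduct.comm A M X) y = 0 := h2 (by rw [h4, map_zero])
  exact (TensorProduct.comm A M X).injective (by rw [h5, map_zero])

end VLemma

section Main
variable {A B : Type u} [CommRing A] [CommRing B] [IsLocalRing A] [Algebra A B]
  (M : Type u) [AddCommGroup M] [Module B M] [Module A M] [IsScalarTower A B M]

lemma pow_smul_regular {P : Type u} [AddCommGroup P] [Module B P] (r : B)
    (h : ∀ z : P, r • z = 0 → z = 0) (k : ℕ) : ∀ z : P, r ^ k • z = 0 → z = 0 := by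
  induction k with
  | zero => intro z hz; simpa using hz
  | succ k ihk =>
    intro z hz
    rw [pow_succ, mul_smul] at hz
    exact h z (ihk _ hz)

lemma regular_of_torsion_pow (r : B)
    (hU : ∀ (q : Ideal B) [q.IsPrime], r ∉ q → Module.Flat A (LocalizedModule q.primeCompl M))
    (hreg : IsSMulRegular (M ⧸ ((maximalIdeal A).map (algebraMap A B) • (⊤ : Submodule B M))) r)
    (n : ℕ) :
    ∀ (X : Type u) [AddCommGroup X] [Module A X],
      Module.IsTorsionBySet A X ((maximalIdeal A ^ n : Ideal A) : Set A) →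
      ∀ y : M ⊗[A] X, r • y = 0 → y = 0 := by
  induction n with
  | zero =>
    intro X _ _ hX y _
    have h1 : ∀ x : X, x = 0 := fun x => by
      have := @hX x ⟨1, by simp⟩
      simpa using this
    haveI : Subsingleton X := ⟨fun a b => by rw [h1 a, h1 b]⟩
    exact Subsingleton.elim _ _
  | succ n ih =>
    intro X _ _ hX y hy
    let X₁ : Submodule A X := maximalIdeal A • ⊤
    have hX₁ : Module.IsTorsionBySet A X₁ ((maximalIdeal A ^ n : Ideal A) : Set A) := by
      intro x a
      obtain ⟨x, hx⟩ := x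
      apply Subtype.ext
      change (a : A) • x = 0
      refine Submodule.smul_induction_on hx ?_ ?_
      · intro c hc z _
        rw [smul_smul]
        exact @hX z ⟨(a : A) * c, by
          rw [pow_succ]; exact Ideal.mul_mem_mul a.2 hc⟩
      · intro u v hu hv
        rw [smul_add, hu, hv, add_zero]
    have hX₂ : Module.IsTorsionBySet A (X ⧸ X₁) (maximalIdeal A : Set A) := by
      intro x a
      obtain ⟨x, rfl⟩ := Submodule.Quotient.mk_surjective _ x
      rw [← Submodule.Quotient.mk_smul, Submodule.Quotient.mk_eq_zero]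
      exact Submodule.smul_mem_smul a.2 trivial
    have hex : Function.Exact (lTensor M X₁.subtype) (lTensor M X₁.mkQ) :=
      lTensor_exact M (LinearMap.exact_subtype_mkQ X₁) (Submodule.mkQ_surjective X₁)
    have h1 : (lTensor M X₁.mkQ) y = 0 := by
      apply smul_regular_of_torsion M r hreg (X ⧸ X₁) hX₂
      change r • (AlgebraTensorModule.lTensor (R := A) B M X₁.mkQ) y = 0
      rw [← map_smul, hy, map_zero]
    obtain ⟨y₁, hy₁⟩ := (hex y).1 h1
    have h2 : (AlgebraTensorModule.lTensor (R := A) B M X₁.subtype) (r • y₁) = 0 := by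
      rw [map_smul]
      change r • (lTensor M X₁.subtype y₁) = 0
      rw [hy₁, hy]
    obtain ⟨N, hN⟩ := exists_pow_smul_eq_zero M r hU X₁.subtype X₁.injective_subtype (r • y₁) h2
    have h3 : y₁ = 0 := by
      apply pow_smul_regular r (ih X₁ hX₁) (N + 1)
      rw [pow_succ, mul_smul]
      exact hN
    rw [← hy₁, h3, map_zero]

theorem torsionFlat_pow (r : B)
    (hU : ∀ (q : Ideal B) [q.IsPrime], r ∉ q → Module.Flat A (LocalizedModule q.primeCompl M))
    (hreg : IsSMulRegular (M ⧸ ((maximalIdeal A).map (algebraMap A B) • (⊤ : Submodule B M))) r)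
    (n : ℕ) : TorsionFlat (maximalIdeal A ^ n) M := by
  intro X' X _ _ _ _ hX' hX ι hι
  rw [injective_iff_map_eq_zero]
  intro y hy
  obtain ⟨N, hN⟩ := exists_pow_smul_eq_zero M r hU ι hι y hy
  exact pow_smul_regular r (regular_of_torsion_pow M r hU hreg n X' hX') N y hN

theorem flat_of_regular_fibre [IsNoetherianRing A] [IsNoetherianRing B] [IsLocalRing B]
    [IsLocalHom (algebraMap A B)] [Module.Finite B M] (r : B)
    (hU : ∀ (q : Ideal B) [q.IsPrime], r ∉ q → Module.Flat A (LocalizedModule q.primeCompl M))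
    (hreg : IsSMulRegular (M ⧸ ((maximalIdeal A).map (algebraMap A B) • (⊤ : Submodule B M))) r) :
    Module.Flat A M := by
  apply Groth.Agent.Helper2.CofinalFlat.flat_of_flat_quot_cofinal (B := B)
  intro n
  exact ⟨maximalIdeal A ^ n, le_rfl, flat_of_torsionFlat _ M (torsionFlat_pow M r hU hreg n)⟩

theorem s18705 [IsNoetherianRing A] [IsNoetherianRing B] [IsLocalRing B]
    [IsLocalHom (algebraMap A B)] [Module.Finite B M] (J : Ideal B)
    (hU : ∀ q : PrimeSpectrum B, ¬ J ≤ q.asIdeal → FlatCA.FlatAt A q.asIdeal M)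
    (h1 : 1 ≤ LocCoh.idealDepth J (EGA4.FibMod A B M)) : Module.Flat A M := by
  have hU' : ∀ r ∈ J, ∀ (q : Ideal B) [q.IsPrime], r ∉ q →
      Module.Flat A (LocalizedModule q.primeCompl M) := by
    intro r hr q _ hrq
    exact hU ⟨q, inferInstance⟩ (fun hle => hrq (hle hr))
  unfold LocCoh.idealDepth at h1
  split_ifs at h1 with htop
  · by_cases hJ : J = ⊤
    · refine flat_of_regular_fibre M (1 : B) (hU' 1 (by rw [hJ]; trivial)) ?_
      intro a b hab
      simpa using hab
    · have hJm : J ≤ maximalIdeal B := le_maximalIdeal hJ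
      have hbot : (⊤ : Submodule B (EGA4.FibMod A B M)) = ⊥ :=
        Submodule.eq_bot_of_le_smul_of_le_jacobson_bot J ⊤ Module.Finite.fg_top
          (le_of_eq htop.symm) (hJm.trans (IsLocalRing.maximalIdeal_le_jacobson _))
      haveI : Subsingleton (EGA4.FibMod A B M) := by
        rw [← Submodule.subsingleton_iff B, ← subsingleton_iff_bot_eq_top]  
        exact hbot.symm
      refine flat_of_regular_fibre M (0 : B) (hU' 0 J.zero_mem) ?_
      intro a b _
      exact Subsingleton.elim _ _
  · have hex : ∃ rs : List B, (RingTheory.Sequence.IsWeaklyRegular (EGA4.FibMod A B M) rs ∧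
        ∀ r ∈ rs, r ∈ J) ∧ 1 ≤ rs.length := by
      by_contra hcon
      push Not at hcon
      have hle : (⨆ (rs : List B) (_ : RingTheory.Sequence.IsWeaklyRegular (EGA4.FibMod A B M) rs ∧
          ∀ r ∈ rs, r ∈ J), (rs.length : ℕ∞)) ≤ 0 := by
        refine iSup₂_le (fun rs hrs => ?_)
        have := hcon rs hrs
        have h0 : rs.length = 0 := by omega
        rw [h0]; rfl
      have : (1 : ℕ∞) ≤ 0 := h1.trans hle
      simp at this
    obtain ⟨rs, ⟨hrs, hrJ⟩, hlen⟩ := hex
    cases rs with
    | nil => simp at hlen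
    | cons r rs' =>
      have hr := ((RingTheory.Sequence.isWeaklyRegular_cons_iff _ r rs').1 hrs).1
      exact flat_of_regular_fibre M r (hU' r (hrJ r (by simp))) hr

end Main

end Groth.Agent.Helper2.FlatOff
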