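import Mathlib
import Groth.Prelude
import Groth.Agent.Helper2.FlatOff
import Groth.Agent.Helper2.FlatFibre
import Groth.Agent.Helper2.DepthCM3
import Groth.Agent.Helper2.DepthCM

set_option autoImplicit false
universe u
open TensorProduct Function IsLocalRing RingTheory.Sequence Pointwise

namespace Groth.Agent.Helper2.FlatOff2

section tensor
variable {A B : Type u} [CommRing A] [CommRing B] [Algebra A B]
  {M : Type u} [AddCommGroup M] [Module B M] [Module A M] [IsScalarTower A B M]
  {P : Type u} [AddCommGroup P] [Module B P] [Module A P] [IsScalarTower A B P]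

/-- multiplication by `r` on `M ⊗[A] X` is `rTensor` of multiplication by `r` on `M`. -/
lemma smul_eq_rTensor (r : B) (X : Type u) [AddCommGroup X] [Module A X] (y : M ⊗[A] X) :
    r • y = LinearMap.rTensor X ((LinearMap.lsmul B M r).restrictScalars A) y := by
  induction y using TensorProduct.induction_on with
  | zero => simp
  | tmul m x => simp [TensorProduct.smul_tmul']
  | add a b ha hb => rw [smul_add, ha, hb, map_add]

/-- `r` regular on `M` with flat cokernel `P` ⇒ `r` regular on `M ⊗[A] X`. -/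
lemma smul_regular_tensor (r : B) (hr : IsSMulRegular M r) [Module.Flat A P]
    (π : M →ₗ[B] P) (hπ : Surjective π) (hex : Exact (LinearMap.lsmul B M r) π)
    (X : Type u) [AddCommGroup X] [Module A X] : IsSMulRegular (M ⊗[A] X) r := by
  have h1 : Injective (LinearMap.lTensor X ((LinearMap.lsmul B M r).restrictScalars A)) :=
    LinearMap.lTensor_injective_of_exact_of_flat (π.restrictScalars A) hπ
      ((LinearMap.lsmul B M r).restrictScalars A) hr hex X
  have h2 : Injective (LinearMap.rTensor X ((LinearMap.lsmul B M r).restrictScalars A)) :=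
    (LinearMap.lTensor_inj_iff_rTensor_inj X _).1 h1
  intro a b hab
  apply h2
  simpa [smul_eq_rTensor] using hab

/-- `rTensor` of a `B`-linear map commutes with the `B`-action. -/
lemma rTensor_smul (π : M →ₗ[B] P) (X : Type u) [AddCommGroup X] [Module A X] (r : B)
    (y : M ⊗[A] X) :
    LinearMap.rTensor X (π.restrictScalars A) (r • y) =
      r • LinearMap.rTensor X (π.restrictScalars A) y := by
  induction y using TensorProduct.induction_on with
  | zero => simp
  | tmul m x => simp [TensorProduct.smul_tmul']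
  | add a b ha hb => rw [smul_add, map_add, ha, hb, map_add, smul_add]

/-- second step: `r₂` regular on `(M ⊗ X)/r₁`. -/
lemma smul_regular_quot_tensor (r1 r2 : B)
    (π : M →ₗ[B] P) (hπ : Surjective π) (hex : Exact (LinearMap.lsmul B M r1) π)
    (X : Type u) [AddCommGroup X] [Module A X]
    (h2 : IsSMulRegular (P ⊗[A] X) r2) :
    IsSMulRegular (QuotSMulTop r1 (M ⊗[A] X)) r2 := by
  unfold QuotSMulTop
  rw [isSMulRegular_on_quot_iff_lsmul_comap_le]
  intro y hy
  rw [Submodule.mem_comap, LinearMap.lsmul_apply] at hy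
  have hex' : Exact (LinearMap.rTensor X ((LinearMap.lsmul B M r1).restrictScalars A))
      (LinearMap.rTensor X (π.restrictScalars A)) :=
    rTensor_exact X (f := (LinearMap.lsmul B M r1).restrictScalars A)
      (g := π.restrictScalars A) hex hπ
  obtain ⟨z, -, hz⟩ := (Submodule.mem_smul_pointwise_iff_exists _ _ _).1 hy
  have h0 : r2 • LinearMap.rTensor X (π.restrictScalars A) y = 0 := by
    rw [← rTensor_smul, ← hz, smul_eq_rTensor]
    exact (hex' _).2 ⟨z, rfl⟩
  have h1 : LinearMap.rTensor X (π.restrictScalars A) y = 0 := by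
    apply h2
    simpa using h0
  obtain ⟨w, hw⟩ := (hex' _).1 h1
  rw [← hw, ← smul_eq_rTensor]
  exact Submodule.smul_mem_pointwise_smul w r1 ⊤ trivial

/-- the pair is weakly regular on `M ⊗ X`. -/
lemma isWeaklyRegular_pair_tensor (r1 r2 : B) {P2 : Type u} [AddCommGroup P2] [Module B P2]
    [Module A P2] [IsScalarTower A B P2] [Module.Flat A P] [Module.Flat A P2]
    (hr1 : IsSMulRegular M r1)
    (π : M →ₗ[B] P) (hπ : Surjective π) (hex : Exact (LinearMap.lsmul B M r1) π)
    (hr2 : IsSMulRegular P r2)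
    (π2 : P →ₗ[B] P2) (hπ2 : Surjective π2) (hex2 : Exact (LinearMap.lsmul B P r2) π2)
    (X : Type u) [AddCommGroup X] [Module A X] :
    IsWeaklyRegular (M ⊗[A] X) [r1, r2] := by
  rw [isWeaklyRegular_cons_iff, isWeaklyRegular_singleton_iff]
  exact ⟨smul_regular_tensor r1 hr1 π hπ hex X,
    smul_regular_quot_tensor r1 r2 π hπ hex X (smul_regular_tensor r2 hr2 π2 hπ2 hex2 X)⟩

end tensor

section iso
variable {A B : Type u} [CommRing A] [CommRing B] [Algebra A B]
  (M : Type u) [AddCommGroup M] [Module B M] [Module A M] [IsScalarTower A B M]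

/-- `M ⊗[A] A/I ≃ M/(IB)M`, `B`-linearly. -/
noncomputable def tensorQuotEquiv (I : Ideal A) :
    M ⊗[A] (A ⧸ I) ≃ₗ[B] M ⧸ (I.map (algebraMap A B) • (⊤ : Submodule B M)) where
  __ := TensorProduct.tensorQuotEquivQuotSMul M I ≪≫ₗ
    Submodule.quotEquivOfEq _ _
      (Groth.Agent.Helper2.NormFlatLoc.restrictScalars_map_smul_top A I B M).symm ≪≫ₗ
    Submodule.Quotient.restrictScalarsEquiv A _
  map_smul' := by
    intro r y
    simp only [AddHom.toFun_eq_coe, LinearMap.coe_toAddHom, LinearEquiv.coe_coe, RingHom.id_apply]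
    induction y using TensorProduct.induction_on with
    | zero => simp
    | add x y hx hy => simp only [smul_add, map_add, hx, hy]
    | tmul x y =>
      obtain ⟨a, rfl⟩ := Ideal.Quotient.mk_surjective y
      rw [TensorProduct.smul_tmul']
      simp only [LinearEquiv.trans_apply, TensorProduct.tensorQuotEquivQuotSMul_tmul_mk]
      rw [smul_comm a r x]
      rfl

end iso

section quot
variable {B : Type u} [CommRing B] {M : Type u} [AddCommGroup M] [Module B M]

lemma isSMulRegular_quot_quot_iff (N1 N2 : Submodule B M) (r : B) :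
    IsSMulRegular ((M ⧸ N1) ⧸ (N2.map N1.mkQ)) r ↔ ∀ m : M, r • m ∈ N1 ⊔ N2 → m ∈ N1 ⊔ N2 := by
  rw [isSMulRegular_on_quot_iff_lsmul_comap_le]
  have key : ∀ m : M, N1.mkQ m ∈ N2.map N1.mkQ ↔ m ∈ N1 ⊔ N2 := by
    intro m
    rw [← Submodule.comap_map_mkQ, Submodule.mem_comap]
  constructor
  · intro h m hm
    rw [← key]
    apply h
    rw [Submodule.mem_comap, LinearMap.lsmul_apply, ← map_smul, key]
    exact hm
  · intro h z hz
    obtain ⟨m, rfl⟩ := N1.mkQ_surjective z
    rw [Submodule.mem_comap, LinearMap.lsmul_apply, ← map_smul, key] at hz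
    rw [key]
    exact h m hz

lemma smul_top_quot (N1 : Submodule B M) (r : B) :
    (r • (⊤ : Submodule B (M ⧸ N1))) = (r • (⊤ : Submodule B M)).map N1.mkQ := by
  rw [Submodule.map_pointwise_smul, Submodule.map_top, Submodule.range_mkQ]

lemma ideal_smul_top_quot (N1 : Submodule B M) (I : Ideal B) :
    (I • (⊤ : Submodule B (M ⧸ N1))) = (I • (⊤ : Submodule B M)).map N1.mkQ := by
  rw [Submodule.map_smul'', Submodule.map_top, Submodule.range_mkQ]

/-- swap the two quotients -/
lemma regular_swap (I : Ideal B) (r1 r2 : B)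
    (h : IsSMulRegular (QuotSMulTop r1 (M ⧸ (I • (⊤ : Submodule B M)))) r2) :
    ∀ z : M ⧸ (r1 • (⊤ : Submodule B M)),
      r2 • z ∈ (I • (⊤ : Submodule B (M ⧸ (r1 • (⊤ : Submodule B M))))) →
      z ∈ (I • (⊤ : Submodule B (M ⧸ (r1 • (⊤ : Submodule B M))))) := by
  unfold QuotSMulTop at h
  rw [smul_top_quot, isSMulRegular_quot_quot_iff] at h
  have h' := (isSMulRegular_quot_quot_iff (r1 • (⊤ : Submodule B M)) (I • (⊤ : Submodule B M))
    r2).2 (by rw [sup_comm]; exact h)
  rw [← ideal_smul_top_quot, isSMulRegular_on_quot_iff_lsmul_comap_le] at h'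
  intro z hz
  exact h' hz

end quot

section main
variable {A B : Type u} [CommRing A] [CommRing B] [IsNoetherianRing A] [IsNoetherianRing B]
  [IsLocalRing A] [IsLocalRing B] [Algebra A B] [IsLocalHom (algebraMap A B)]
  (M : Type u) [AddCommGroup M] [Module B M] [Module A M] [IsScalarTower A B M] [Module.Finite B M]

theorem s18706 (J : Ideal B)
    (hU : ∀ q : PrimeSpectrum B, ¬ J ≤ q.asIdeal → FlatCA.FlatAt A q.asIdeal M)
    (h2 : 2 ≤ LocCoh.idealDepth J (EGA4.FibMod A B M)) (n : ℕ) :
    2 ≤ LocCoh.idealDepth J (M ⧸ ((EGA4.mB A B) ^ (n + 1) • (⊤ : Submodule B M))) := by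
  haveI hflat : Module.Flat A M :=
    Groth.Agent.Helper2.FlatOff.s18705 M J hU (le_trans (by norm_num) h2)
  by_cases htop : J • (⊤ : Submodule B (EGA4.FibMod A B M)) = ⊤
  · have key : J • (⊤ : Submodule B (M ⧸ ((EGA4.mB A B) ^ (n + 1) • (⊤ : Submodule B M)))) = ⊤ := by
      by_cases hJ : J = ⊤
      · rw [hJ, Submodule.top_smul]
      · have hJm : J ≤ maximalIdeal B := le_maximalIdeal hJ
        have hbot : (⊤ : Submodule B (EGA4.FibMod A B M)) = ⊥ :=
          Submodule.eq_bot_of_le_smul_of_le_jacobson_bot J ⊤ Module.Finite.fg_top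
            (le_of_eq htop.symm) (hJm.trans (IsLocalRing.maximalIdeal_le_jacobson _))
        haveI : Subsingleton (EGA4.FibMod A B M) := by
          rw [← Submodule.subsingleton_iff B, ← subsingleton_iff_bot_eq_top]
          exact hbot.symm
        have hmtop : (EGA4.mB A B • ⊤ : Submodule B M) = ⊤ :=
          Submodule.Quotient.subsingleton_iff.1 ‹_›
        have hle : EGA4.mB A B ≤ Ideal.jacobson ⊥ :=
          (IsLocalRing.map_maximalIdeal_le (algebraMap A B)).trans
            (IsLocalRing.maximalIdeal_le_jacobson _)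
        have hMbot : (⊤ : Submodule B M) = ⊥ :=
          Submodule.eq_bot_of_le_smul_of_le_jacobson_bot (EGA4.mB A B) ⊤ Module.Finite.fg_top
            (le_of_eq hmtop.symm) hle
        haveI : Subsingleton M := by
          rw [← Submodule.subsingleton_iff B, ← subsingleton_iff_bot_eq_top]
          exact hMbot.symm
        haveI : Subsingleton (M ⧸ ((EGA4.mB A B) ^ (n + 1) • (⊤ : Submodule B M))) :=
          (Submodule.mkQ_surjective _).subsingleton
        exact Subsingleton.elim _ _
    unfold LocCoh.idealDepth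
    rw [if_pos key]
    exact le_top
  · unfold LocCoh.idealDepth at h2
    rw [if_neg htop] at h2
    obtain ⟨rs, ⟨hreg, hmem⟩, hlen⟩ : ∃ rs : List B,
        (IsWeaklyRegular (EGA4.FibMod A B M) rs ∧ ∀ r ∈ rs, r ∈ J) ∧ 2 ≤ rs.length := by
      by_contra hcon
      push Not at hcon
      have hle : (⨆ (rs : List B)
          (_ : IsWeaklyRegular (EGA4.FibMod A B M) rs ∧ ∀ r ∈ rs, r ∈ J), (rs.length : ℕ∞)) ≤ 1 := by
        refine iSup₂_le (fun rs h => ?_)
        have := hcon rs h
        have h1 : rs.length ≤ 1 := by omega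
        exact_mod_cast h1
      have := le_trans h2 hle
      norm_num at this
    obtain ⟨r1, r2, rs', rfl⟩ : ∃ r1 r2 rs', rs = r1 :: r2 :: rs' := by
      match rs, hlen with
      | r1 :: r2 :: rs', _ => exact ⟨r1, r2, rs', rfl⟩
    rw [isWeaklyRegular_cons_iff, isWeaklyRegular_cons_iff] at hreg
    obtain ⟨hr1F, hr2F, -⟩ := hreg
    have hr1J : r1 ∈ J := hmem r1 (by simp)
    have hr2J : r2 ∈ J := hmem r2 (by simp)
    -- first step
    have hf1 : ∀ z : M, r1 • z ∈ (EGA4.mB A B • ⊤ : Submodule B M) →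
        z ∈ (EGA4.mB A B • ⊤ : Submodule B M) := by
      intro z hz
      exact (isSMulRegular_on_quot_iff_lsmul_comap_le _ _).1 hr1F hz
    have hr1 : IsSMulRegular M r1 := Groth.Agent.Helper2.FlatFibre.regular r1 hf1
    haveI hflat1 : Module.Flat A (M ⧸ (r1 • (⊤ : Submodule B M))) :=
      Groth.Agent.Helper2.FlatFibre.flat_quot r1 hf1 (r1 • (⊤ : Submodule B M)).mkQ
        (Submodule.mkQ_surjective _) (LinearMap.exact_lsmul_mkQ_smul_top M r1)
    -- second step
    have hf2 := regular_swap (EGA4.mB A B) r1 r2 hr2F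
    have hr2 : IsSMulRegular (M ⧸ (r1 • (⊤ : Submodule B M))) r2 :=
      Groth.Agent.Helper2.FlatFibre.regular r2 hf2
    haveI hflat2 : Module.Flat A
        ((M ⧸ (r1 • (⊤ : Submodule B M))) ⧸
          (r2 • (⊤ : Submodule B (M ⧸ (r1 • (⊤ : Submodule B M)))))) :=
      Groth.Agent.Helper2.FlatFibre.flat_quot r2 hf2
        (r2 • (⊤ : Submodule B (M ⧸ (r1 • (⊤ : Submodule B M))))).mkQ
        (Submodule.mkQ_surjective _) (LinearMap.exact_lsmul_mkQ_smul_top _ r2)
    have hW := isWeaklyRegular_pair_tensor (A := A) r1 r2 hr1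
      (r1 • (⊤ : Submodule B M)).mkQ
      (Submodule.mkQ_surjective _) (LinearMap.exact_lsmul_mkQ_smul_top M r1) hr2
      (r2 • (⊤ : Submodule B (M ⧸ (r1 • (⊤ : Submodule B M))))).mkQ
      (Submodule.mkQ_surjective _) (LinearMap.exact_lsmul_mkQ_smul_top _ r2)
      (A ⧸ (maximalIdeal A) ^ (n + 1))
    rw [(tensorQuotEquiv (B := B) M ((maximalIdeal A) ^ (n + 1))).isWeaklyRegular_congr] at hW
    have hlen2 := Groth.Agent.Helper2.DepthCM3.length_le_idealDepth (I := J) [r1, r2] hW
      (by
        intro x hx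
        simp only [List.mem_cons, List.not_mem_nil, or_false] at hx
        rcases hx with rfl | rfl
        · exact hr1J
        · exact hr2J)
    have heq : ((maximalIdeal A) ^ (n + 1)).map (algebraMap A B) = (EGA4.mB A B) ^ (n + 1) :=
      Ideal.map_pow _ _ _
    rw [heq] at hlen2
    exact_mod_cast hlen2

end main

end Groth.Agent.Helper2.FlatOff2
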