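import Mathlib
import Groth.Prelude
import Groth.Agent.Helper2.FlatOff2
import Groth.Agent.Helper9.DepthKer

set_option autoImplicit false
universe u
open TensorProduct Function IsLocalRing RingTheory.Sequence Pointwise

namespace Groth.Agent.Helper2.FourTerm
open Groth.Agent.Helper2.FlatFibre Groth.Agent.Helper2.FlatOff2

section Loc
variable {A B : Type u} [CommRing A] [CommRing B] [Algebra A B]
  (M : Type u) [AddCommGroup M] [Module B M] [Module A M] [IsScalarTower A B M]

/-- localizing an `A`-flat `B`-module at a submonoid of `B` keeps it `A`-flat. -/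
lemma flat_localizedModule [Module.Flat A M] (S : Submonoid B) :
    Module.Flat A (LocalizedModule S M) := by
  rw [Module.Flat.iff_lTensor_preserves_injective_linearMap]
  intro X' X _ _ _ _ ι hι
  have h2 := IsLocalizedModule.map_lTensor (R := A) B S ι (LocalizedModule.mkLinearMap S M)
  have h1 : Injective (AlgebraTensorModule.lTensor B M ι) :=
    Module.Flat.lTensor_preserves_injective_linearMap ι hι
  have h3 := IsLocalizedModule.map_injective S
    (AlgebraTensorModule.rTensor A X' (LocalizedModule.mkLinearMap S M))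
    (AlgebraTensorModule.rTensor A X (LocalizedModule.mkLinearMap S M)) _ h1
  rw [h2] at h3
  exact h3

end Loc

section Loc2
variable {A B : Type u} [CommRing A] [CommRing B] [Algebra A B]
  {K N P : Type u} [AddCommGroup K] [Module B K] [Module A K] [IsScalarTower A B K]
  [AddCommGroup N] [Module B N] [Module A N] [IsScalarTower A B N]
  [AddCommGroup P] [Module B P] [Module A P] [IsScalarTower A B P]

lemma flat_localized_of_exact (i : K →ₗ[B] N) (p : N →ₗ[B] P) (hi : Injective i)
    (hex : Exact i p) (hp : Surjective p) [Module.Flat A N] (S : Submonoid B)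
    (hP : Module.Flat A (LocalizedModule S P)) : Module.Flat A (LocalizedModule S K) := by
  haveI := flat_localizedModule (A := A) N S
  exact Groth.Agent.Helper2.FlatFibre.flat_of_exact_of_flat
    ((IsLocalizedModule.map S (LocalizedModule.mkLinearMap S K) (LocalizedModule.mkLinearMap S N)
      i).restrictScalars A)
    ((IsLocalizedModule.map S (LocalizedModule.mkLinearMap S N) (LocalizedModule.mkLinearMap S P)
      p).restrictScalars A)
    (IsLocalizedModule.map_injective S _ _ _ hi)
    (IsLocalizedModule.map_exact S _ _ _ _ _ hex)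
    (IsLocalizedModule.map_surjective S _ _ _ hp)

end Loc2

section Chase
variable {A B : Type u} [CommRing A] [IsLocalRing A] [CommRing B] [Algebra A B]
  {N' N P : Type u} [AddCommGroup N'] [Module B N'] [Module A N'] [IsScalarTower A B N']
  [AddCommGroup N] [Module B N] [Module A N] [IsScalarTower A B N]
  [AddCommGroup P] [Module B P] [Module A P] [IsScalarTower A B P]

lemma mu_smul (r : B) (t : N ⊗[A] maximalIdeal A) : mu A N (r • t) = r • mu A N t := by
  induction t using TensorProduct.induction_on with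
  | zero => simp
  | add a b ha hb => rw [smul_add, map_add, ha, hb, map_add, smul_add]
  | tmul n a => rw [TensorProduct.smul_tmul', mu_tmul, mu_tmul, smul_comm]

/-- the basic diagram chase. -/
lemma chase (g : N' →ₗ[B] N) (h : N →ₗ[B] P) (hex : Exact g h) (hh : Surjective h)
    (r : B) (t : N ⊗[A] maximalIdeal A)
    (ht : r • LinearMap.rTensor (maximalIdeal A) (h.restrictScalars A) t = 0) :
    r • mu A N t ∈ Submodule.map g
      ((maximalIdeal A).map (algebraMap A B) • (⊤ : Submodule B N')) := by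
  have hex' : Exact (LinearMap.rTensor (maximalIdeal A) (g.restrictScalars A))
      (LinearMap.rTensor (maximalIdeal A) (h.restrictScalars A)) :=
    rTensor_exact (maximalIdeal A) (f := g.restrictScalars A) (g := h.restrictScalars A) hex hh
  rw [← rTensor_smul] at ht
  obtain ⟨t', ht'⟩ := (hex' _).1 ht
  refine ⟨mu A N' t', mu_mem A t', ?_⟩
  rw [← mu_smul, ← ht']
  exact (mu_natural A (g.restrictScalars A) t').symm

/-- `Tor₁(P,k) = 0` concretely: if `P` is flat, `range g ∩ 𝔪N = g(𝔪N')`. -/
lemma mem_map_of_flat [Module.Flat A P] (g : N' →ₗ[B] N) (h : N →ₗ[B] P) (hex : Exact g h)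
    (hh : Surjective h) (z : N) (hz : z ∈ LinearMap.range g)
    (hzm : z ∈ ((maximalIdeal A).map (algebraMap A B) • (⊤ : Submodule B N))) :
    z ∈ Submodule.map g ((maximalIdeal A).map (algebraMap A B) • (⊤ : Submodule B N')) := by
  obtain ⟨t, rfl⟩ := exists_mu_eq A z hzm
  have h0 : LinearMap.rTensor (maximalIdeal A) (h.restrictScalars A) t = 0 := by
    apply mu_injective A (N := P)
    rw [mu_natural, map_zero]
    exact (hex _).2 hz
  have := chase g h hex hh (1 : B) t (by rw [one_smul]; exact h0)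
  rwa [one_smul] at this

/-- `Tor₁(P,k)` is `r`-power torsion if `P` is flat at the primes not containing `r`. -/
lemma exists_pow_smul_mem_map (g : N' →ₗ[B] N) (h : N →ₗ[B] P) (hex : Exact g h)
    (hh : Surjective h) (r : B)
    (hU : ∀ (q : Ideal B) [q.IsPrime], r ∉ q → Module.Flat A (LocalizedModule q.primeCompl P))
    (z : N) (hz : z ∈ LinearMap.range g)
    (hzm : z ∈ ((maximalIdeal A).map (algebraMap A B) • (⊤ : Submodule B N))) :
    ∃ n : ℕ, r ^ n • z ∈
      Submodule.map g ((maximalIdeal A).map (algebraMap A B) • (⊤ : Submodule B N')) := by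
  obtain ⟨t, rfl⟩ := exists_mu_eq A z hzm
  have h0 : mu A P (LinearMap.rTensor (maximalIdeal A) (h.restrictScalars A) t) = 0 := by
    rw [mu_natural]
    exact (hex _).2 hz
  obtain ⟨n, hn⟩ := Groth.Agent.Helper2.FlatOff.exists_pow_smul_eq_zero P r hU
    (maximalIdeal A).subtype (maximalIdeal A).injective_subtype
    (LinearMap.rTensor (maximalIdeal A) (h.restrictScalars A) t) (by
      have : (TensorProduct.rid A P) ((AlgebraTensorModule.lTensor (R := A) B P
          (maximalIdeal A).subtype) (LinearMap.rTensor (maximalIdeal A) (h.restrictScalars A) t))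
          = 0 := h0
      simpa using this)
  exact ⟨n, chase g h hex hh (r ^ n) t hn⟩

/-- local criterion for a cokernel. -/
lemma flat_coker [IsNoetherianRing A] [IsNoetherianRing B] [IsLocalRing B]
    [IsLocalHom (algebraMap A B)] [Module.Finite B P] [Module.Flat A N]
    (g : N' →ₗ[B] N) (h : N →ₗ[B] P) (hex : Exact g h) (hh : Surjective h)
    (H : ∀ z ∈ LinearMap.range g,
      z ∈ ((maximalIdeal A).map (algebraMap A B) • (⊤ : Submodule B N)) →
      z ∈ Submodule.map g ((maximalIdeal A).map (algebraMap A B) • (⊤ : Submodule B N'))) :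
    Module.Flat A P := by
  apply Groth.Agent.Helper2.LocCrit.flat_of_lTensor_injective (S := B)
  rw [injective_iff_map_eq_zero]
  intro w hw
  obtain ⟨t, rfl⟩ := LinearMap.rTensor_surjective (maximalIdeal A)
    (show Surjective (h.restrictScalars A) from hh) w
  have h0 : h (mu A N t) = 0 := by
    have h1 := mu_natural A (h.restrictScalars A) t
    have h2 : mu A P (LinearMap.rTensor (maximalIdeal A) (h.restrictScalars A) t) = 0 := by
      unfold mu
      rw [LinearMap.comp_apply, hw, map_zero]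
    rw [h2] at h1
    exact h1.symm
  obtain ⟨n', hn', hn'eq⟩ := H _ ((hex _).1 h0) (mu_mem A t)
  obtain ⟨t', rfl⟩ := exists_mu_eq A n' hn'
  have htt : t = LinearMap.rTensor (maximalIdeal A) (g.restrictScalars A) t' := by
    apply mu_injective A (N := N)
    rw [mu_natural]
    exact hn'eq.symm
  rw [htt, ← LinearMap.comp_apply, ← LinearMap.rTensor_comp]
  have : h.restrictScalars A ∘ₗ g.restrictScalars A = 0 := by
    ext n
    exact (hex _).2 ⟨n, rfl⟩
  rw [this]
  simp

end Chase

section Depth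
variable {B : Type u} [CommRing B] [IsLocalRing B] (J : Ideal B)
  (N : Type u) [AddCommGroup N] [Module B N] [Module.Finite B N]

lemma subsingleton_of_smul_top_eq_top (hJ : J ≠ ⊤) (htop : J • (⊤ : Submodule B N) = ⊤) :
    Subsingleton N := by
  have hJm : J ≤ maximalIdeal B := le_maximalIdeal hJ
  have hbot : (⊤ : Submodule B N) = ⊥ :=
    Submodule.eq_bot_of_le_smul_of_le_jacobson_bot J ⊤ Module.Finite.fg_top
      (le_of_eq htop.symm) (hJm.trans (IsLocalRing.maximalIdeal_le_jacobson _))
  rw [← Submodule.subsingleton_iff B, ← subsingleton_iff_bot_eq_top]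
  exact hbot.symm

omit [IsLocalRing B] [Module.Finite B N] in
lemma exists_list_of_le (n : ℕ) (htop : ¬ J • (⊤ : Submodule B N) = ⊤)
    (h : (n : ℕ∞) ≤ LocCoh.idealDepth J N) :
    ∃ rs : List B, (IsWeaklyRegular N rs ∧ ∀ r ∈ rs, r ∈ J) ∧ n ≤ rs.length := by
  unfold LocCoh.idealDepth at h
  rw [if_neg htop] at h
  rcases Nat.eq_zero_or_pos n with rfl | hn
  · exact ⟨[], ⟨IsWeaklyRegular.nil B N, by simp⟩, le_rfl⟩
  by_contra hcon
  push Not at hcon
  have hle : (⨆ (rs : List B)
      (_ : IsWeaklyRegular N rs ∧ ∀ r ∈ rs, r ∈ J), (rs.length : ℕ∞)) ≤ (n - 1 : ℕ) := by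
    refine iSup₂_le (fun rs h => ?_)
    have := hcon rs h
    have h1 : rs.length ≤ n - 1 := by omega
    exact_mod_cast h1
  have := le_trans h hle
  have h3 : n ≤ n - 1 := by exact_mod_cast this
  omega

lemma exists_regular_of_one_le (h : 1 ≤ LocCoh.idealDepth J N) :
    ∃ s ∈ J, IsSMulRegular N s := by
  by_cases htop : J • (⊤ : Submodule B N) = ⊤
  · by_cases hJ : J = ⊤
    · exact ⟨1, by rw [hJ]; trivial, fun a b hab => by simpa using hab⟩
    · haveI := subsingleton_of_smul_top_eq_top J N hJ htop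
      exact ⟨0, J.zero_mem, fun a b _ => Subsingleton.elim a b⟩
  · obtain ⟨rs, ⟨hreg, hmem⟩, hlen⟩ := exists_list_of_le J N 1 htop (by exact_mod_cast h)
    match rs, hlen with
    | r :: rs', _ =>
      rw [isWeaklyRegular_cons_iff] at hreg
      exact ⟨r, hmem r (by simp), hreg.1⟩

lemma exists_pair_of_two_le (h : 2 ≤ LocCoh.idealDepth J N) :
    ∃ r1 ∈ J, ∃ r2 ∈ J, IsWeaklyRegular N [r1, r2] := by
  by_cases htop : J • (⊤ : Submodule B N) = ⊤
  · by_cases hJ : J = ⊤
    · refine ⟨1, by rw [hJ]; trivial, 1, by rw [hJ]; trivial, ?_⟩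
      rw [isWeaklyRegular_cons_iff, isWeaklyRegular_singleton_iff]
      exact ⟨fun a b hab => by simpa using hab, fun a b hab => by simpa using hab⟩
    · haveI := subsingleton_of_smul_top_eq_top J N hJ htop
      refine ⟨0, J.zero_mem, 0, J.zero_mem, ?_⟩
      rw [isWeaklyRegular_cons_iff, isWeaklyRegular_singleton_iff]
      haveI : Subsingleton (QuotSMulTop (0 : B) N) :=
        (Submodule.mkQ_surjective _).subsingleton
      exact ⟨fun a b _ => Subsingleton.elim a b, fun a b _ => Subsingleton.elim a b⟩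
  · obtain ⟨rs, ⟨hreg, hmem⟩, hlen⟩ := exists_list_of_le J N 2 htop (by exact_mod_cast h)
    match rs, hlen with
    | r1 :: r2 :: rs', _ =>
      rw [isWeaklyRegular_cons_iff, isWeaklyRegular_cons_iff] at hreg
      refine ⟨r1, hmem r1 (by simp), r2, hmem r2 (by simp), ?_⟩
      rw [isWeaklyRegular_cons_iff, isWeaklyRegular_singleton_iff]
      exact ⟨hreg.1, hreg.2.1⟩

end Depth

section EL
variable {B : Type u} [CommRing B] {F' E : Type u} [AddCommGroup F'] [Module B F']
  [AddCommGroup E] [Module B E]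

/-- elementary depth lemma (`Hom(B/J, E/F') = 0`). -/
lemma mem_range_of_smul_mem (ι : F' →ₗ[B] E) (hι : Injective ι) (r1 r2 s : B)
    (hreg : IsWeaklyRegular F' [r1, r2]) (hs : IsSMulRegular E s) (x : E)
    (h1 : r1 • x ∈ LinearMap.range ι) (h2 : r2 • x ∈ LinearMap.range ι)
    (h3 : s • x ∈ LinearMap.range ι) : x ∈ LinearMap.range ι := by
  rw [isWeaklyRegular_cons_iff, isWeaklyRegular_singleton_iff] at hreg
  obtain ⟨hr1, hr2⟩ := hreg
  obtain ⟨y1, hy1⟩ := h1
  obtain ⟨y2, hy2⟩ := h2
  obtain ⟨y3, hy3⟩ := h3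
  have e1 : r2 • y1 = r1 • y2 := by
    apply hι
    rw [map_smul, map_smul, hy1, hy2, smul_comm]
  unfold QuotSMulTop at hr2
  rw [isSMulRegular_on_quot_iff_lsmul_comap_le] at hr2
  have hy1mem : y1 ∈ (r1 • (⊤ : Submodule B F')) := by
    apply hr2
    rw [Submodule.mem_comap, LinearMap.lsmul_apply, e1]
    exact Submodule.smul_mem_pointwise_smul y2 r1 ⊤ trivial
  obtain ⟨y, -, hy⟩ := (Submodule.mem_smul_pointwise_iff_exists _ _ _).1 hy1mem
  have e2 : y3 = s • y := by
    apply hr1
    apply hι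
    show ι (r1 • y3) = ι (r1 • s • y)
    rw [map_smul, hy3, smul_comm r1 s y, map_smul, hy, hy1, smul_comm]
  refine ⟨y, ?_⟩
  apply hs
  simp only
  rw [← hy3, e2, map_smul]

end EL

section EL2
variable {B : Type u} [CommRing B] {F' E : Type u} [AddCommGroup F'] [Module B F']
  [AddCommGroup E] [Module B E]

lemma mem_range_of_monomials (ι : F' →ₗ[B] E) (hι : Injective ι) (r1 r2 s : B)
    (hreg : IsWeaklyRegular F' [r1, r2]) (hs : IsSMulRegular E s) :
    ∀ (n : ℕ) (x : E),
      (∀ a b c : ℕ, a + b + c = n → (r1 ^ a * r2 ^ b * s ^ c) • x ∈ LinearMap.range ι) →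
      x ∈ LinearMap.range ι := by
  intro n
  induction n with
  | zero =>
    intro x h
    simpa using h 0 0 0 rfl
  | succ n ih =>
    intro x h
    apply ih
    intro a b c habc
    apply mem_range_of_smul_mem ι hι r1 r2 s hreg hs
    · have := h (a + 1) b c (by omega)
      rw [smul_smul]
      convert this using 2
      ring
    · have := h a (b + 1) c (by omega)
      rw [smul_smul]
      convert this using 2
      ring
    · have := h a b (c + 1) (by omega)
      rw [smul_smul]
      convert this using 2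
      ring

lemma mem_range_of_pow (ι : F' →ₗ[B] E) (hι : Injective ι) (r1 r2 s : B)
    (hreg : IsWeaklyRegular F' [r1, r2]) (hs : IsSMulRegular E s) (x : E) (N : ℕ)
    (h1 : r1 ^ N • x ∈ LinearMap.range ι) (h2 : r2 ^ N • x ∈ LinearMap.range ι)
    (h3 : s ^ N • x ∈ LinearMap.range ι) : x ∈ LinearMap.range ι := by
  apply mem_range_of_monomials ι hι r1 r2 s hreg hs (3 * N) x
  intro a b c habc
  have : N ≤ a ∨ N ≤ b ∨ N ≤ c := by omega
  rcases this with h | h | h
  · obtain ⟨k, rfl⟩ := Nat.exists_eq_add_of_le h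
    have e : (r1 ^ (N + k) * r2 ^ b * s ^ c) • x = (r1 ^ k * r2 ^ b * s ^ c) • (r1 ^ N • x) := by
      rw [smul_smul]; congr 1; ring
    rw [e]
    exact Submodule.smul_mem _ _ h1
  · obtain ⟨k, rfl⟩ := Nat.exists_eq_add_of_le h
    have e : (r1 ^ a * r2 ^ (N + k) * s ^ c) • x = (r1 ^ a * r2 ^ k * s ^ c) • (r2 ^ N • x) := by
      rw [smul_smul]; congr 1; ring
    rw [e]
    exact Submodule.smul_mem _ _ h2
  · obtain ⟨k, rfl⟩ := Nat.exists_eq_add_of_le h
    have e : (r1 ^ a * r2 ^ b * s ^ (N + k)) • x = (r1 ^ a * r2 ^ b * s ^ k) • (s ^ N • x) := by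
      rw [smul_smul]; congr 1; ring
    rw [e]
    exact Submodule.smul_mem _ _ h3

end EL2

section FibMap
variable {A B : Type u} [CommRing A] [IsLocalRing A] [CommRing B] [Algebra A B]
  {N' N P : Type u} [AddCommGroup N'] [Module B N'] [AddCommGroup N] [Module B N]
  [AddCommGroup P] [Module B P]

/-- the induced map on closed fibres. -/
noncomputable def fibMap (g : N' →ₗ[B] N) : EGA4.FibMod A B N' →ₗ[B] EGA4.FibMod A B N :=
  Submodule.mapQ _ _ g (by
    rw [← Submodule.map_le_iff_le_comap, Submodule.map_smul'']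
    exact Submodule.smul_mono le_rfl le_top)

@[simp] lemma fibMap_mk (g : N' →ₗ[B] N) (y : N') :
    fibMap (A := A) g (Submodule.Quotient.mk y) = Submodule.Quotient.mk (g y) := rfl

lemma fibMap_injective (g : N' →ₗ[B] N)
    (H : ∀ y, g y ∈ (EGA4.mB A B • ⊤ : Submodule B N) → y ∈ (EGA4.mB A B • ⊤ : Submodule B N')) :
    Injective (fibMap (A := A) g) := by
  rw [injective_iff_map_eq_zero]
  intro z hz
  obtain ⟨y, rfl⟩ := Submodule.Quotient.mk_surjective _ z
  rw [fibMap_mk, Submodule.Quotient.mk_eq_zero] at hz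
  rw [Submodule.Quotient.mk_eq_zero]
  exact H y hz

lemma fibMap_exact (g : N' →ₗ[B] N) (h : N →ₗ[B] P) (hgh : ∀ y, h (g y) = 0)
    (H : ∀ x, h x ∈ (EGA4.mB A B • ⊤ : Submodule B P) →
      ∃ y, x - g y ∈ (EGA4.mB A B • ⊤ : Submodule B N)) :
    Exact (fibMap (A := A) g) (fibMap (A := A) h) := by
  intro z
  obtain ⟨x, rfl⟩ := Submodule.Quotient.mk_surjective _ z
  constructor
  · intro hz
    rw [fibMap_mk, Submodule.Quotient.mk_eq_zero] at hz
    obtain ⟨y, hy⟩ := H x hz
    refine ⟨Submodule.Quotient.mk y, ?_⟩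
    rw [fibMap_mk, eq_comm, ← sub_eq_zero, ← Submodule.Quotient.mk_sub,
      Submodule.Quotient.mk_eq_zero]
    exact hy
  · rintro ⟨w, hw⟩
    obtain ⟨y, rfl⟩ := Submodule.Quotient.mk_surjective _ w
    rw [← hw, fibMap_mk, fibMap_mk, hgh]
    rfl

end FibMap

section Main
variable {A B : Type u} [CommRing A] [CommRing B] [IsNoetherianRing A] [IsNoetherianRing B]
  [IsLocalRing A] [IsLocalRing B] [Algebra A B] [IsLocalHom (algebraMap A B)] (J : Ideal B)
  {F E0 E1 G : Type u} [AddCommGroup F] [Module B F] [Module A F] [IsScalarTower A B F]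
  [Module.Finite B F]
  [AddCommGroup E0] [Module B E0] [Module A E0] [IsScalarTower A B E0] [Module.Finite B E0]
  [Module.Flat A E0]
  [AddCommGroup E1] [Module B E1] [Module A E1] [IsScalarTower A B E1] [Module.Finite B E1]
  [Module.Flat A E1]
  [AddCommGroup G] [Module B G] [Module A G] [IsScalarTower A B G] [Module.Finite B G]
  (f : F →ₗ[B] E0) (u : E0 →ₗ[B] E1) (v : E1 →ₗ[B] G)

omit [IsNoetherianRing A] [IsNoetherianRing B] [IsLocalRing A] [IsLocalRing B]
  [IsLocalHom (algebraMap A B)] [Module A F] [IsScalarTower A B F] [Module.Finite B F]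
  [Module A E0] [IsScalarTower A B E0] [Module.Finite B E0] [Module.Flat A E0]
  [Module A E1] [IsScalarTower A B E1] [Module.Finite B E1] [Module.Flat A E1] [Algebra A B] in
lemma exact_rangeRestrict (hfu : Exact f u) : Exact f u.rangeRestrict := by
  intro x
  rw [← hfu x]
  constructor
  · intro h
    exact congrArg Subtype.val h
  · intro h
    exact Subtype.ext h

omit [IsNoetherianRing A] [IsNoetherianRing B] [IsLocalRing A] [IsLocalRing B]
  [IsLocalHom (algebraMap A B)] [Module.Finite B E0] [Module.Flat A E0]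
  [Module.Finite B E1] [Module.Finite B G] [Module A E0] [IsScalarTower A B E0] in
lemma flat_range (huv : Exact u v) (hv : Surjective v) [Module.Flat A G] :
    Module.Flat A (LinearMap.range u) :=
  Groth.Agent.Helper2.FlatFibre.flat_of_exact_of_flat
    ((LinearMap.range u).subtype.restrictScalars A) (v.restrictScalars A)
    (LinearMap.range u).injective_subtype
    (by
      intro x
      show v x = 0 ↔ x ∈ Set.range (LinearMap.range u).subtype
      rw [huv x]
      constructor
      · intro h; exact ⟨⟨x, h⟩, rfl⟩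
      · rintro ⟨y, rfl⟩; exact y.2) hv

omit [IsNoetherianRing A] [IsNoetherianRing B] [IsLocalRing A] [IsLocalRing B]
  [IsLocalHom (algebraMap A B)] [Module.Finite B F] [Module.Finite B E0]
  [Module.Finite B E1] [Module.Finite B G] in
lemma flat_F (hf : Injective f) (hfu : Exact f u) (huv : Exact u v) (hv : Surjective v)
    [Module.Flat A G] : Module.Flat A F := by
  haveI := flat_range (A := A) u v huv hv
  exact Groth.Agent.Helper2.FlatFibre.flat_of_exact_of_flat
    (f.restrictScalars A) (u.rangeRestrict.restrictScalars A) hf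
    (exact_rangeRestrict f u hfu) u.surjective_rangeRestrict

omit [IsLocalRing B] [IsLocalHom (algebraMap A B)] [IsNoetherianRing A] [Module.Finite B G]
  [Module.Flat A E0] [Module.Finite B F] in
/-- (⇐) of (1). -/
lemma depth_fib_of_flat (hf : Injective f) (hfu : Exact f u) (huv : Exact u v)
    (hv : Surjective v) [Module.Flat A G]
    (h0 : 2 ≤ LocCoh.idealDepth J (EGA4.FibMod A B E0))
    (h1 : 1 ≤ LocCoh.idealDepth J (EGA4.FibMod A B E1)) :
    2 ≤ LocCoh.idealDepth J (EGA4.FibMod A B F) := by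
  haveI := flat_range (A := A) u v huv hv
  have hinj : Injective (fibMap (A := A) f) := by
    apply fibMap_injective
    intro y hy
    obtain ⟨y', hy', hyy⟩ := mem_map_of_flat (P := LinearMap.range u) f u.rangeRestrict
      (exact_rangeRestrict f u hfu) u.surjective_rangeRestrict (f y) ⟨y, rfl⟩ hy
    rwa [← hf hyy]
  have hex : Exact (fibMap (A := A) f) (fibMap (A := A) u) := by
    apply fibMap_exact
    · intro y
      exact (hfu _).2 ⟨y, rfl⟩
    · intro x hx
      obtain ⟨x', hx', hxx⟩ := mem_map_of_flat (P := G) u v huv hv (u x) ⟨x, rfl⟩ hx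
      have h3 : u (x - x') = 0 := by rw [map_sub, hxx, sub_self]
      obtain ⟨y, hy⟩ := (hfu _).1 h3
      refine ⟨y, ?_⟩
      rw [hy, sub_sub_cancel]
      exact hx'
  let e : EGA4.FibMod A B F ≃ₗ[B] LinearMap.ker (fibMap (A := A) u) :=
    LinearEquiv.ofBijective
      (LinearMap.codRestrict (LinearMap.ker (fibMap (A := A) u)) (fibMap (A := A) f)
        (fun y => (hex _).2 ⟨y, rfl⟩))
      ⟨fun a b hab => hinj (congrArg Subtype.val hab), by
        rintro ⟨z, hz⟩
        obtain ⟨y, hy⟩ := (hex z).1 hz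
        exact ⟨y, Subtype.ext hy⟩⟩
  rw [Groth.Agent.Helper2.DepthCM.idealDepth_congr J e]
  exact Groth.Agent.Helper9.DepthKer.depth_ker_two (fibMap (A := A) u) h0 h1

omit [Module.Flat A E0] [Module.Finite B E1] in
/-- (⇒) of (1). -/
lemma flat_of_depth_fib (hf : Injective f) (hfu : Exact f u) (huv : Exact u v)
    (hv : Surjective v)
    (hGU : ∀ q : PrimeSpectrum B, ¬ J ≤ q.asIdeal → FlatCA.FlatAt A q.asIdeal G)
    (h0 : 1 ≤ LocCoh.idealDepth J (EGA4.FibMod A B E0))
    (h2 : 2 ≤ LocCoh.idealDepth J (EGA4.FibMod A B F)) : Module.Flat A G := by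
  obtain ⟨r1, hr1J, r2, hr2J, hreg⟩ := exists_pair_of_two_le J (EGA4.FibMod A B F) h2
  obtain ⟨s, hsJ, hs⟩ := exists_regular_of_one_le J (EGA4.FibMod A B E0) h0
  have hUG : ∀ r ∈ J, ∀ (q : Ideal B) [q.IsPrime], r ∉ q →
      Module.Flat A (LocalizedModule q.primeCompl G) := by
    intro r hr q _ hrq
    exact hGU ⟨q, inferInstance⟩ (fun hle => hrq (hle hr))
  have hUK : ∀ r ∈ J, ∀ (q : Ideal B) [q.IsPrime], r ∉ q →
      Module.Flat A (LocalizedModule q.primeCompl (LinearMap.range u)) := by
    intro r hr q _ hrq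
    exact flat_localized_of_exact (LinearMap.range u).subtype v
      (LinearMap.range u).injective_subtype
      (by
        intro x
        rw [huv x]
        constructor
        · intro h; exact ⟨⟨x, h⟩, rfl⟩
        · rintro ⟨y, rfl⟩; exact y.2) hv q.primeCompl (hUG r hr q hrq)
  have hr1F : IsSMulRegular (EGA4.FibMod A B F) r1 :=
    ((isWeaklyRegular_cons_iff _ _ _).1 hreg).1
  -- (i)
  have hinj : Injective (fibMap (A := A) f) := by
    apply fibMap_injective
    intro y hy
    obtain ⟨n, y', hy', hyy⟩ := exists_pow_smul_mem_map (P := LinearMap.range u) f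
      u.rangeRestrict (exact_rangeRestrict f u hfu) u.surjective_rangeRestrict r1
      (hUK r1 hr1J) (f y) ⟨y, rfl⟩ hy
    rw [← map_smul] at hyy
    have h3 : r1 ^ n • y ∈ (EGA4.mB A B • ⊤ : Submodule B F) := by rwa [← hf hyy]
    have h4 : r1 ^ n • (Submodule.Quotient.mk y : EGA4.FibMod A B F) = r1 ^ n • 0 := by
      rw [smul_zero, ← Submodule.Quotient.mk_smul, Submodule.Quotient.mk_eq_zero]
      exact h3
    have h5 := (hr1F.pow n) h4
    exact (Submodule.Quotient.mk_eq_zero _).1 h5
  -- (ii)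
  have hpow : ∀ r ∈ J, ∀ x : E0, u x ∈ (EGA4.mB A B • ⊤ : Submodule B E1) →
      ∃ n : ℕ, r ^ n • (Submodule.Quotient.mk x : EGA4.FibMod A B E0) ∈
        LinearMap.range (fibMap (A := A) f) := by
    intro r hr x hx
    obtain ⟨n, x', hx', hxx⟩ := exists_pow_smul_mem_map (P := G) u v huv hv r (hUG r hr)
      (u x) ⟨x, rfl⟩ hx
    have h3 : u (r ^ n • x - x') = 0 := by rw [map_sub, hxx, map_smul, sub_self]
    obtain ⟨y, hy⟩ := (hfu _).1 h3
    refine ⟨n, Submodule.Quotient.mk y, ?_⟩
    rw [fibMap_mk, hy, ← Submodule.Quotient.mk_smul, eq_comm, ← sub_eq_zero,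
      ← Submodule.Quotient.mk_sub, Submodule.Quotient.mk_eq_zero, sub_sub_cancel]
    exact hx'
  have hH : ∀ x : E0, u x ∈ (EGA4.mB A B • ⊤ : Submodule B E1) →
      ∃ y, x - f y ∈ (EGA4.mB A B • ⊤ : Submodule B E0) := by
    intro x hx
    obtain ⟨n1, hn1⟩ := hpow r1 hr1J x hx
    obtain ⟨n2, hn2⟩ := hpow r2 hr2J x hx
    obtain ⟨n3, hn3⟩ := hpow s hsJ x hx
    have up : ∀ (r : B) (n N : ℕ), n ≤ N →
        r ^ n • (Submodule.Quotient.mk x : EGA4.FibMod A B E0) ∈
          LinearMap.range (fibMap (A := A) f) →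
        r ^ N • (Submodule.Quotient.mk x : EGA4.FibMod A B E0) ∈
          LinearMap.range (fibMap (A := A) f) := by
      intro r n N hnN h
      obtain ⟨k, rfl⟩ := Nat.exists_eq_add_of_le hnN
      rw [add_comm, pow_add, mul_smul]
      exact Submodule.smul_mem _ _ h
    have hmem := mem_range_of_pow (fibMap (A := A) f) hinj r1 r2 s hreg hs
      (Submodule.Quotient.mk x) (max n1 (max n2 n3))
      (up r1 n1 _ (le_max_left _ _) hn1)
      (up r2 n2 _ ((le_max_left _ _).trans (le_max_right _ _)) hn2)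
      (up s n3 _ ((le_max_right _ _).trans (le_max_right _ _)) hn3)
    obtain ⟨w, hw⟩ := hmem
    obtain ⟨y, rfl⟩ := Submodule.Quotient.mk_surjective _ w
    refine ⟨y, ?_⟩
    rw [fibMap_mk, eq_comm, ← sub_eq_zero, ← Submodule.Quotient.mk_sub,
      Submodule.Quotient.mk_eq_zero] at hw
    exact hw
  -- (iii)
  apply flat_coker (A := A) (B := B) u v huv hv
  rintro z ⟨x, rfl⟩ hz
  obtain ⟨y, hy⟩ := hH x hz
  refine ⟨x - f y, hy, ?_⟩
  rw [map_sub, (hfu _).2 ⟨y, rfl⟩, sub_zero]

theorem s18708 (hf : Injective f) (hfu : Exact f u) (huv : Exact u v)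
    (hv : Surjective v)
    (hGU : ∀ q : PrimeSpectrum B, ¬ J ≤ q.asIdeal → FlatCA.FlatAt A q.asIdeal G)
    (h0 : 2 ≤ LocCoh.idealDepth J (EGA4.FibMod A B E0))
    (h1 : 1 ≤ LocCoh.idealDepth J (EGA4.FibMod A B E1)) :
    (2 ≤ LocCoh.idealDepth J (EGA4.FibMod A B F) ↔ Module.Flat A G) ∧
    (Module.Flat A G ↔ ∀ n : ℕ,
      2 ≤ LocCoh.idealDepth J (F ⧸ ((EGA4.mB A B) ^ (n + 1) • (⊤ : Submodule B F)))) ∧
    (Module.Flat A G → Module.Flat A F) := by
  have h01 : 1 ≤ LocCoh.idealDepth J (EGA4.FibMod A B E0) := le_trans (by norm_num) h0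
  refine ⟨⟨fun h2 => flat_of_depth_fib J f u v hf hfu huv hv hGU h01 h2,
    fun hG => depth_fib_of_flat J f u v hf hfu huv hv h0 h1⟩, ⟨fun hG n => ?_, fun h => ?_⟩,
    fun hG => flat_F (A := A) f u v hf hfu huv hv⟩
  · haveI := flat_F (A := A) f u v hf hfu huv hv
    refine Groth.Agent.Helper2.FlatOff2.s18706 F J (fun q _ => ?_)
      (depth_fib_of_flat J f u v hf hfu huv hv h0 h1) n
    exact flat_localizedModule F q.asIdeal.primeCompl
  · have h2 := h 0
    rw [Groth.Agent.Helper2.DepthCM.idealDepth_congr J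
      (Submodule.quotEquivOfEq _ (EGA4.mB A B • (⊤ : Submodule B F))
        (by rw [zero_add, pow_one]))] at h2
    exact flat_of_depth_fib J f u v hf hfu huv hv hGU h01 h2

end Main

end Groth.Agent.Helper2.FourTerm
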