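import Mathlib
import Groth.Prelude
import Groth.Agent.Helper2.InjFlatFin
import Groth.Agent.Helper2.EssFP
import Groth.Agent.Helper2.FourTerm

set_option autoImplicit false
open Function TensorProduct LinearMap IsLocalRing
universe u

namespace Groth.Agent.Helper2.InjFlatG

variable {A B M N : Type u} [CommRing A] [CommRing B] [Algebra A B]
  [AddCommGroup M] [Module B M] [Module A M] [IsScalarTower A B M]
  [AddCommGroup N] [Module B N] [Module A N] [IsScalarTower A B N]

/-- **Global form of S2107 at a prime.** -/
theorem inj_flat_at_prime [Algebra.FinitePresentation A B] [Module.FinitePresentation B M]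
    [Module.FinitePresentation B N]
    (u : M →ₗ[B] N) (q : Ideal B) [q.IsPrime] (p : Ideal A) [p.IsPrime] [q.LiesOver p]
    (hflat : Module.Flat A (LocalizedModule q.primeCompl N))
    (hu : ∀ m : M,
      (∃ t : B, t ∉ q ∧ t • u m ∈ p.map (algebraMap A B) • (⊤ : Submodule B N)) →
      ∃ t : B, t ∉ q ∧ t • m ∈ p.map (algebraMap A B) • (⊤ : Submodule B M)) :
    Injective (LocalizedModule.map q.primeCompl u) ∧
      Module.Flat A (LocalizedModule q.primeCompl (N ⧸ LinearMap.range u)) := by
  letI algRS := Localization.AtPrime.algebraOfLiesOver p q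
  set R := Localization.AtPrime p with hR
  set S := Localization.AtPrime q with hS
  haveI : IsLocalHom (algebraMap R S) :=
    Localization.isLocalHom_localRingHom p q (algebraMap A B) Ideal.LiesOver.over
  have hpq : ∀ a : A, a ∉ p → algebraMap A B a ∉ q := by
    intro a ha hmem
    apply ha
    rw [Ideal.LiesOver.over (p := p) (P := q)]
    exact hmem
  have hess : CAlgX.IsEssFinitePresentation R S :=
    Groth.Agent.Helper2.EssFP.essFP_of_atPrime p q hpq R S
  -- module structures
  set Mq := LocalizedModule q.primeCompl M with hMq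
  set Nq := LocalizedModule q.primeCompl N with hNq
  letI : Module R Mq := Module.compHom Mq (algebraMap R S)
  haveI : IsScalarTower R S Mq := IsScalarTower.of_algebraMap_smul (fun _ _ => rfl)
  haveI : IsScalarTower A R Mq := by
    refine IsScalarTower.of_algebraMap_smul (fun a x => ?_)
    change algebraMap R S (algebraMap A R a) • x = a • x
    rw [← IsScalarTower.algebraMap_apply A R S, algebraMap_smul]
  letI : Module R Nq := Module.compHom Nq (algebraMap R S)
  haveI : IsScalarTower R S Nq := IsScalarTower.of_algebraMap_smul (fun _ _ => rfl)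
  haveI : IsScalarTower A R Nq := by
    refine IsScalarTower.of_algebraMap_smul (fun a x => ?_)
    change algebraMap R S (algebraMap A R a) • x = a • x
    rw [← IsScalarTower.algebraMap_apply A R S, algebraMap_smul]
  haveI : Module.Flat R Nq := (Module.flat_iff_of_isLocalization R p.primeCompl Nq).2 hflat
  let uq : Mq →ₗ[S] Nq :=
    (LocalizedModule.map q.primeCompl u).extendScalarsOfIsLocalization q.primeCompl S
  have hconv : ∀ (X : Type u) [AddCommGroup X] [Module B X] [Module A X] [IsScalarTower A B X]
      [Module S X] [IsScalarTower B S X] [IsScalarTower A S X] (x : X),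
      x ∈ (maximalIdeal R).map (algebraMap R S) • (⊤ : Submodule S X) ↔
        x ∈ p.map (algebraMap A B) • (⊤ : Submodule B X) := by
    intro X _ _ _ _ _ _ _ x
    rw [← Localization.AtPrime.map_eq_maximalIdeal, Ideal.map_map,
      ← IsScalarTower.algebraMap_eq A R S]
    exact Groth.Agent.Helper2.InjFlatFin.mem_smul_top_iff (P := B) (S := S) p X x
  have huq : ∀ x : Mq, uq x ∈ (maximalIdeal R).map (algebraMap R S) • (⊤ : Submodule S Nq) →
      x ∈ (maximalIdeal R).map (algebraMap R S) • (⊤ : Submodule S Mq) := by
    intro x hx
    rw [hconv] at hx ⊢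
    induction x using LocalizedModule.induction_on with
    | h m t =>
      have h1 : uq (LocalizedModule.mk m t) = LocalizedModule.mk (u m) t := by
        change LocalizedModule.map q.primeCompl u (LocalizedModule.mk m t) = _
        rw [LocalizedModule.map_mk]
      rw [h1, Groth.Agent.Helper2.KRLoc.mk_mem_smul_top_iff] at hx
      rw [Groth.Agent.Helper2.KRLoc.mk_mem_smul_top_iff]
      exact hu m hx
  obtain ⟨h1, h2⟩ := Groth.Agent.Helper2.InjFlatFin.s2107 hess uq huq
  refine ⟨h1, ?_⟩
  -- the cokernel
  let π : N →ₗ[B] (N ⧸ LinearMap.range u) := (LinearMap.range u).mkQ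
  let πq : Nq →ₗ[B] LocalizedModule q.primeCompl (N ⧸ LinearMap.range u) :=
    LocalizedModule.map q.primeCompl π
  have hex : Function.Exact (LocalizedModule.map q.primeCompl u) πq :=
    LocalizedModule.map_exact q.primeCompl u π
      (LinearMap.exact_map_mkQ_range u)
  have hsurj : Surjective πq :=
    LocalizedModule.map_surjective q.primeCompl π (LinearMap.range u).mkQ_surjective
  have hker : LinearMap.ker (πq.restrictScalars A) = (LinearMap.range uq).restrictScalars A := by
    ext y
    rw [LinearMap.mem_ker, Submodule.restrictScalars_mem, LinearMap.mem_range]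
    exact hex y
  haveI : Module.Flat A (Nq ⧸ LinearMap.range uq) := Module.Flat.trans A R _
  exact Module.Flat.of_linearEquiv
    ((LinearMap.quotKerEquivOfSurjective (πq.restrictScalars A) hsurj).symm ≪≫ₗ
      (Submodule.quotEquivOfEq _ _ hker) ≪≫ₗ
      Submodule.Quotient.restrictScalarsEquiv A (LinearMap.range uq))

end Groth.Agent.Helper2.InjFlatG
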