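import Mathlib
import Groth.Prelude
import Groth.Agent.Helper2.InjFlatG
import Groth.Agent.Helper2.FibreKer

set_option autoImplicit false
open Function TensorProduct LinearMap
universe u

namespace Groth.Agent.Helper2.RelS1

open Groth.Agent.Helper2.FlatDescCore

section Fib
variable {A B : Type u} [CommRing A] [CommRing B] [Algebra A B] (p : Ideal A) [p.IsPrime]
  (M : Type u) [AddCommGroup M] [Module B M] [Module A M] [IsScalarTower A B M]

/-- the fibre module as `M ⊗ κ(p)`. -/
noncomputable def fibEquiv :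
    (B ⊗[A] p.ResidueField) ⊗[B] M ≃ₗ[B] M ⊗[A] p.ResidueField :=
  TensorProduct.comm B _ M ≪≫ₗ
    TensorProduct.AlgebraTensorModule.cancelBaseChange A B B M p.ResidueField

lemma fibEquiv_one_tmul (m : M) :
    fibEquiv p M ((1 : B ⊗[A] p.ResidueField) ⊗ₜ[B] m) = m ⊗ₜ[A] (1 : p.ResidueField) := by
  simp [fibEquiv, Algebra.TensorProduct.one_def]

lemma one_tmul_eq_zero_iff (m : M) :
    (1 : B ⊗[A] p.ResidueField) ⊗ₜ[B] m = 0 ↔ (1 : p.ResidueField) ⊗ₜ[A] m = 0 := by
  rw [← (fibEquiv p M).map_eq_zero_iff, fibEquiv_one_tmul,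
    ← (TensorProduct.comm A M p.ResidueField).map_eq_zero_iff, TensorProduct.comm_tmul]

lemma one_tmul_eq_zero_of_mem (m : M) (hm : m ∈ p • (⊤ : Submodule A M)) :
    (1 : B ⊗[A] p.ResidueField) ⊗ₜ[B] m = 0 :=
  (one_tmul_eq_zero_iff p M m).2 (Groth.Agent.Helper2.FibreKer.tmul_eq_zero_of_mem p M m hm)

lemma exists_of_one_tmul_eq_zero (m : M) (h : (1 : B ⊗[A] p.ResidueField) ⊗ₜ[B] m = 0) :
    ∃ s : A, s ∉ p ∧ s • m ∈ p • (⊤ : Submodule A M) :=
  Groth.Agent.Helper2.FibreKer.exists_smul_mem_of_tmul_eq_zero p M m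
    ((one_tmul_eq_zero_iff p M m).1 h)

lemma isNoetherianRing_fibre [Algebra.FiniteType A B] :
    IsNoetherianRing (B ⊗[A] p.ResidueField) := by
  haveI : IsNoetherianRing (p.ResidueField ⊗[A] B) :=
    Algebra.FiniteType.isNoetherianRing p.ResidueField (p.ResidueField ⊗[A] B)
  exact isNoetherianRing_of_ringEquiv (p.ResidueField ⊗[A] B)
    (Algebra.TensorProduct.comm A p.ResidueField B).toRingEquiv

end Fib

/-- **S19195**. -/
theorem s19195 (A B M : Type u) [CommRing A] [CommRing B] [Algebra A B]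
    [Algebra.FinitePresentation A B] [AddCommGroup M] [Module B M] [Module A M]
    [IsScalarTower A B M] [Module.FinitePresentation B M] [Module.Flat A M]
    (hS1 : ∀ (p : Ideal A) [p.IsPrime],
      associatedPrimes (B ⊗[A] p.ResidueField) ((B ⊗[A] p.ResidueField) ⊗[B] M) ⊆
        (Module.annihilator (B ⊗[A] p.ResidueField) ((B ⊗[A] p.ResidueField) ⊗[B] M)).minimalPrimes)
    (a : B)
    (ha : ∀ (p : Ideal A) [p.IsPrime],
      ∀ P ∈ (Module.annihilator (B ⊗[A] p.ResidueField) ((B ⊗[A] p.ResidueField) ⊗[B] M)).minimalPrimes,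
        a ⊗ₜ[A] (1 : p.ResidueField) ∉ P) :
    IsSMulRegular M a := by
  rw [isSMulRegular_iff_right_eq_zero_of_smul]
  intro m hm
  refine Module.eq_zero_of_localization_maximal
    (fun (P : Ideal B) [P.IsMaximal] => LocalizedModule P.primeCompl M)
    (fun (P : Ideal B) [P.IsMaximal] => LocalizedModule.mkLinearMap P.primeCompl M) m ?_
  intro q hq
  set p : Ideal A := q.under A with hp
  haveI : q.LiesOver p := ⟨rfl⟩
  haveI : IsNoetherianRing (B ⊗[A] p.ResidueField) := isNoetherianRing_fibre p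
  -- regularity on the fibre
  have hreg : IsSMulRegular ((B ⊗[A] p.ResidueField) ⊗[B] M) (a ⊗ₜ[A] (1 : p.ResidueField)) := by
    by_contra hnot
    have hmem : (a ⊗ₜ[A] (1 : p.ResidueField)) ∈
        ⋃ P ∈ associatedPrimes (B ⊗[A] p.ResidueField) ((B ⊗[A] p.ResidueField) ⊗[B] M),
          (P : Set (B ⊗[A] p.ResidueField)) := by
      rw [biUnion_associatedPrimes_eq_compl_regular]
      exact hnot
    simp only [Set.mem_iUnion, SetLike.mem_coe, exists_prop] at hmem
    obtain ⟨P, hP, haP⟩ := hmem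
    exact ha p P (hS1 p hP) haP
  have hflat : Module.Flat A (LocalizedModule q.primeCompl M) :=
    Groth.Agent.Helper2.FourTerm.flat_localizedModule M q.primeCompl
  obtain ⟨hinj, -⟩ := Groth.Agent.Helper2.InjFlatG.inj_flat_at_prime
    (LinearMap.lsmul B M a) q p hflat (by
      rintro x ⟨t, ht, hx⟩
      have hx' := mem_smul_top_of_mem_map_smul_top (A := A) B p (t • (LinearMap.lsmul B M a) x) hx
      have h0 : (1 : B ⊗[A] p.ResidueField) ⊗ₜ[B] (t • x) = 0 := by
        apply hreg.right_eq_zero_of_smul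
        have := one_tmul_eq_zero_of_mem (B := B) p M _ hx'
        rw [← this, LinearMap.lsmul_apply, TensorProduct.smul_tmul', smul_eq_mul, mul_one,
          smul_comm t a x, TensorProduct.tmul_smul a, TensorProduct.smul_tmul',
          Algebra.TensorProduct.one_def, TensorProduct.smul_tmul', smul_eq_mul, mul_one]
      obtain ⟨s, hs, hsx⟩ := exists_of_one_tmul_eq_zero (B := B) p M _ h0
      refine ⟨algebraMap A B s * t, ?_, ?_⟩
      · intro hmem
        rcases (inferInstance : q.IsPrime).mem_or_mem hmem with h | h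
        · apply hs
          rw [hp]
          exact h
        · exact ht h
      · rw [mul_smul, algebraMap_smul]
        exact mem_map_smul_top_of_mem_smul_top p _ hsx)
  apply hinj
  rw [map_zero]
  change LocalizedModule.map q.primeCompl (LinearMap.lsmul B M a) (LocalizedModule.mk m 1) = 0
  rw [LocalizedModule.map_mk, LinearMap.lsmul_apply, hm, LocalizedModule.zero_mk]

end Groth.Agent.Helper2.RelS1
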