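import Mathlib
import Groth.Prelude
import Groth.Agent.Helper2.NzdUI
import Groth.Agent.Helper5.NzdLoc2
import Groth.Agent.Helper2.RelS1

set_option autoImplicit false
open Function TensorProduct LinearMap IsLocalRing
universe u

namespace Groth.Agent.Helper2.AssCover

attribute [local instance] Algebra.TensorProduct.rightAlgebra

section Claim
variable {S S' : Type u} [CommRing S] [CommRing S'] [Algebra S S'] (T : Submonoid S)

/-- if `T⁻¹S → T⁻¹S'` is faithfully flat and `T` acts injectively on `X` then
`X → S' ⊗ X` is injective. -/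
theorem injective_mk_of_ff
    (hff : Module.FaithfullyFlat (Localization T) (Localization T ⊗[S] S'))
    (X : Type u) [AddCommGroup X] [Module S X] (hX : ∀ s ∈ T, ∀ x : X, s • x = 0 → x = 0) :
    Injective (TensorProduct.mk S S' X 1) := by
  rw [injective_iff_map_eq_zero]
  intro x hx
  have hx' : (1 : S') ⊗ₜ[S] x = 0 := hx
  let ψ : S' →ₗ[S] (Localization T ⊗[S] S') :=
    (Algebra.TensorProduct.includeRight : S' →ₐ[S] Localization T ⊗[S] S').toLinearMap
  have h1 : (1 : Localization T ⊗[S] S') ⊗ₜ[S] x = 0 := by
    have := congrArg (LinearMap.rTensor X ψ) hx'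
    rw [LinearMap.rTensor_tmul, map_zero] at this
    rw [← this]
    simp [ψ, Algebra.TensorProduct.one_def]
  have h2 : (1 : Localization T ⊗[S] S') ⊗ₜ[Localization T] ((1 : Localization T) ⊗ₜ[S] x) = 0 := by
    have := congrArg (TensorProduct.AlgebraTensorModule.cancelBaseChange S (Localization T)
      (Localization T ⊗[S] S') (Localization T ⊗[S] S') X).symm h1
    rw [map_zero, TensorProduct.AlgebraTensorModule.cancelBaseChange_symm_tmul] at this
    exact this
  have h3 : (1 : Localization T) ⊗ₜ[S] x = 0 :=
    (Module.FaithfullyFlat.one_tmul_eq_zero_iff (Localization T) _ _).1 h2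
  obtain ⟨s, hs⟩ := (IsLocalizedModule.eq_zero_iff T
    (TensorProduct.mk S (Localization T) X 1)).1 h3
  exact hX s s.2 x hs

/-- faithful flatness of `T⁻¹S → T⁻¹S'` when all maximal ideals lift. -/
theorem faithfullyFlat_of_maximal_lift [Module.Flat S S']
    (h : ∀ m : Ideal (Localization T), m.IsMaximal → ∃ q' : Ideal S', q'.IsPrime ∧
      q'.comap (algebraMap S S') = m.comap (algebraMap S (Localization T))) :
    Module.FaithfullyFlat (Localization T) (Localization T ⊗[S] S') := by
  refine ⟨fun m hm => ?_⟩
  obtain ⟨q', hq'prime, hq'⟩ := h m hm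
  haveI : IsLocalization (Algebra.algebraMapSubmonoid S' T) (Localization T ⊗[S] S') :=
    IsLocalization.tensorRight (Localization T) T
  have hdisj : Disjoint (Algebra.algebraMapSubmonoid S' T : Set S') (q' : Set S') := by
    rw [Set.disjoint_left]
    rintro _ ⟨σ, hσ, rfl⟩ hmem
    have h1 : σ ∈ m.comap (algebraMap S (Localization T)) := by
      rw [← hq']
      exact hmem
    exact hm.ne_top (Ideal.eq_top_of_isUnit_mem _ h1 (IsLocalization.map_units _ ⟨σ, hσ⟩))
  set P : Ideal (Localization T ⊗[S] S') :=
    q'.map (algebraMap S' (Localization T ⊗[S] S')) with hP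
  have hPprime : P.IsPrime :=
    IsLocalization.isPrime_of_isPrime_disjoint (Algebra.algebraMapSubmonoid S' T) _ q' hq'prime
      hdisj
  have hPcomap : P.comap (algebraMap S' (Localization T ⊗[S] S')) = q' :=
    IsLocalization.under_map_of_isPrime_disjoint (Algebra.algebraMapSubmonoid S' T) _ hq'prime
      hdisj
  have hcomm : ∀ s : S, algebraMap (Localization T) (Localization T ⊗[S] S')
      (algebraMap S (Localization T) s) =
      algebraMap S' (Localization T ⊗[S] S') (algebraMap S S' s) := by
    intro s
    rw [Algebra.TensorProduct.algebraMap_apply]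
    change _ = (1 : Localization T) ⊗ₜ[S] (algebraMap S S' s)
    simp only [Algebra.algebraMap_self, RingHom.id_apply]
    rw [Algebra.algebraMap_eq_smul_one, Algebra.algebraMap_eq_smul_one s,
      TensorProduct.smul_tmul]
  have hle : m.map (algebraMap (Localization T) (Localization T ⊗[S] S')) ≤ P := by
    rw [← IsLocalization.map_under T (Localization T) m, Ideal.map_map, Ideal.map_le_iff_le_comap]
    intro s hs
    rw [Ideal.mem_comap, RingHom.comp_apply, hcomm]
    apply Ideal.mem_map_of_mem
    have : s ∈ q'.comap (algebraMap S S') := by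
      rw [hq']
      exact hs
    exact this
  rw [Ideal.smul_top_eq_map]
  refine (Submodule.restrictScalars_eq_top_iff _ _ _).ne.mpr fun top => ?_
  exact hPprime.ne_top (top_le_iff.mp (top ▸ hle))

end Claim

section Noeth
variable {R S : Type u} [CommRing R] [CommRing S] [Algebra R S]

/-- the fibre rings of an essentially finitely presented algebra are Noetherian. -/
theorem isNoetherianRing_fiber_of_essFP (hS : FlatCA.EssFinitePresentation R S) (p : Ideal R)
    [p.IsPrime] : IsNoetherianRing (p.Fiber S) := by
  obtain ⟨S₀, _, _, _, _, Mon, hfp, hloc⟩ := hS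
  haveI : IsNoetherianRing (S₀ ⊗[R] p.ResidueField) :=
    Groth.Agent.Helper2.RelS1.isNoetherianRing_fibre p
  haveI : IsLocalization (Algebra.algebraMapSubmonoid (S₀ ⊗[R] p.ResidueField) Mon)
      ((S₀ ⊗[R] p.ResidueField) ⊗[S₀] S) := IsLocalization.tensor S Mon
  haveI : IsNoetherianRing ((S₀ ⊗[R] p.ResidueField) ⊗[S₀] S) :=
    IsLocalization.isNoetherianRing (Algebra.algebraMapSubmonoid (S₀ ⊗[R] p.ResidueField) Mon) _
      inferInstance
  let e : ((S₀ ⊗[R] p.ResidueField) ⊗[S₀] S) ≃+* p.ResidueField ⊗[R] S :=
    (Algebra.TensorProduct.comm S₀ (S₀ ⊗[R] p.ResidueField) S).toRingEquiv.trans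
      ((Algebra.TensorProduct.cancelBaseChange R S₀ S₀ S p.ResidueField).toRingEquiv.trans
        (Algebra.TensorProduct.comm R S p.ResidueField).toRingEquiv)
  exact isNoetherianRing_of_ringEquiv _ e

end Noeth

/-- **S1196**. -/
theorem s1196 {R S S' : Type u} [CommRing R] [IsLocalRing R] [CommRing S] [IsLocalRing S]
    [CommRing S'] [Algebra R S] [IsLocalHom (algebraMap R S)] [Algebra S S'] [Algebra R S']
    [IsScalarTower R S S']
    (hS : FlatCA.EssFinitePresentation R S) [Module.Flat S S']
    (N : Type u) [AddCommGroup N] [Module S N] [Module R N] [IsScalarTower R S N]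
    [Module.FinitePresentation S N] [Module.Flat R N]
    (h : ∀ q ∈ associatedPrimes S (FlatCA.fiberMod (maximalIdeal R) S N),
      ∃ q' : Ideal S', q'.IsPrime ∧ q'.comap (algebraMap S S') = q) :
    FlatCA.UnivInj R ((TensorProduct.mk S S' N 1).restrictScalars R) := by
  haveI : IsNoetherianRing ((maximalIdeal R).Fiber S) :=
    isNoetherianRing_fiber_of_essFP hS (maximalIdeal R)
  haveI : Module.Finite ((maximalIdeal R).Fiber S) (FlatCA.fiberMod (maximalIdeal R) S N) :=
    inferInstanceAs (Module.Finite ((maximalIdeal R).Fiber S) (((maximalIdeal R).Fiber S) ⊗[S] N))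
  obtain ⟨-, -, hmax⟩ := Groth.Agent.Helper5.NzdLoc.s1193 (R := R) (S := S) N
  have hff : Module.FaithfullyFlat (Localization (FlatCA.nzdFiber R S N))
      (Localization (FlatCA.nzdFiber R S N) ⊗[S] S') := by
    apply faithfullyFlat_of_maximal_lift
    intro m hm
    exact h _ ((hmax m).1 hm).2.prop
  obtain ⟨h1, -⟩ := Groth.Agent.Helper2.NzdUI.s1194 hS N
  intro Q _ _
  have hnat2 : ∀ (s : S) (z : Q ⊗[R] N), s • (TensorProduct.comm R Q N z) =
      TensorProduct.comm R Q N (((LinearMap.lsmul S N s).restrictScalars R).lTensor Q z) := by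
    intro s z
    induction z using TensorProduct.induction_on with
    | zero => simp
    | add a b ha hb => simp only [map_add, smul_add] at ha hb ⊢; rw [ha, hb]
    | tmul q n => simp [TensorProduct.smul_tmul']
  have hX : ∀ s ∈ FlatCA.nzdFiber R S N, ∀ w : N ⊗[R] Q, s • w = 0 → w = 0 := by
    intro s hs w hw
    obtain ⟨z, rfl⟩ := (TensorProduct.comm R Q N).surjective w
    rw [hnat2, LinearEquiv.map_eq_zero_iff] at hw
    have := h1 s hs Q (by rw [hw, map_zero] :
      ((LinearMap.lsmul S N s).restrictScalars R).lTensor Q z =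
        ((LinearMap.lsmul S N s).restrictScalars R).lTensor Q 0)
    rw [this, map_zero]
  have hinj := injective_mk_of_ff (S' := S') (FlatCA.nzdFiber R S N) hff (N ⊗[R] Q) hX
  have hnat : ∀ z : Q ⊗[R] N,
      TensorProduct.mk S S' (N ⊗[R] Q) 1 (TensorProduct.comm R Q N z) =
        TensorProduct.AlgebraTensorModule.assoc R S S' S' N Q
          (TensorProduct.comm R Q (S' ⊗[S] N)
            (((TensorProduct.mk S S' N 1).restrictScalars R).lTensor Q z)) := by
    intro z
    induction z using TensorProduct.induction_on with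
    | zero => simp
    | add a b ha hb => simp only [map_add] at ha hb ⊢; rw [ha, hb]
    | tmul q n => simp
  rw [injective_iff_map_eq_zero]
  intro z hz
  have h0 : TensorProduct.mk S S' (N ⊗[R] Q) 1 (TensorProduct.comm R Q N z) = 0 := by
    rw [hnat, hz, map_zero, map_zero]
  have := hinj (h0.trans (map_zero _).symm)
  exact (TensorProduct.comm R Q N).injective (this.trans (map_zero _).symm)

end Groth.Agent.Helper2.AssCover
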