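import Mathlib
import Groth.Prelude
import Groth.Agent.Helper2.InjFlatFin
import Groth.Agent.Helper2.AssCover
import Groth.Agent.Helper2.FibreKer

set_option autoImplicit false
open Function IsLocalRing TensorProduct
universe u

namespace Groth.Agent.Helper2.LocCritFP

section Noeth
variable {S P : Type u} [CommRing S] [CommRing P] [IsLocalRing S] [Algebra S P]

/-- the closed fibre of an essentially finitely presented algebra over a local ring is
Noetherian (quotient form). -/
theorem isNoetherianRing_quot_of_essFP (hP : CAlgX.IsEssFinitePresentation S P) :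
    IsNoetherianRing (P ⧸ (maximalIdeal S).map (algebraMap S P)) := by
  haveI : IsNoetherianRing ((maximalIdeal S).Fiber P) :=
    Groth.Agent.Helper2.AssCover.isNoetherianRing_fiber_of_essFP hP (maximalIdeal S)
  let f : P →+* (maximalIdeal S).Fiber P :=
    (Algebra.TensorProduct.includeRight (R := S) (A := (maximalIdeal S).ResidueField)
      (B := P)).toRingHom
  have hf : Surjective f := Algebra.TensorProduct.includeRight_surjective P
    (Ideal.algebraMap_residueField_surjective (maximalIdeal S))
  have hker : RingHom.ker f = (maximalIdeal S).map (algebraMap S P) := by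
    ext p
    rw [RingHom.mem_ker]
    change (1 : (maximalIdeal S).ResidueField) ⊗ₜ[S] p = 0 ↔ _
    have hset : p ∈ (maximalIdeal S).map (algebraMap S P) ↔
        p ∈ (maximalIdeal S) • (⊤ : Submodule S P) := by
      rw [Ideal.smul_top_eq_map]
      rfl
    rw [hset]
    constructor
    · intro h
      obtain ⟨s, hs, hsp⟩ :=
        Groth.Agent.Helper2.FibreKer.exists_smul_mem_of_tmul_eq_zero (maximalIdeal S) P p h
      have hu : IsUnit s := by
        by_contra hnu
        exact hs ((mem_maximalIdeal s).2 hnu)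
      obtain ⟨v, rfl⟩ := hu
      have := Submodule.smul_mem _ (↑v⁻¹ : S) hsp
      rwa [smul_smul, Units.inv_mul, one_smul] at this
    · intro h
      exact Groth.Agent.Helper2.FibreKer.tmul_eq_zero_of_mem (maximalIdeal S) P p h
  exact isNoetherianRing_of_ringEquiv _
    ((RingHom.quotientKerEquivOfSurjective hf).symm.trans (Ideal.quotEquivOfEq hker))

end Noeth

section Gen
variable {P : Type u} [CommRing P] (J : Ideal P) [IsNoetherianRing (P ⧸ J)]
  {G : Type u} [AddCommGroup G] [Module P G] [Module.Finite P G]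

/-- the quotient map as a semilinear map over `P → P/J`. -/
def mkS : G →ₛₗ[Ideal.Quotient.mk J] (G ⧸ J • (⊤ : Submodule P G)) where
  toFun := Submodule.Quotient.mk
  map_add' _ _ := rfl
  map_smul' _ _ := rfl

/-- every submodule is finitely generated modulo `J`. -/
theorem exists_fg_le_sup (W : Submodule P G) :
    ∃ W₀ : Submodule P G, W₀.FG ∧ W₀ ≤ W ∧ W ≤ W₀ ⊔ J • (⊤ : Submodule P G) := by
  classical
  haveI : Module.Finite (P ⧸ J) (G ⧸ J • (⊤ : Submodule P G)) :=
    Module.Finite.of_restrictScalars_finite P _ _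
  have hfg : (W.map (mkS J)).FG := IsNoetherian.noetherian _
  obtain ⟨T, hT⟩ := hfg
  have hTW : ∀ t ∈ T, ∃ w ∈ W, mkS J w = t := by
    intro t ht
    have : t ∈ W.map (mkS J) := by rw [← hT]; exact Submodule.subset_span ht
    exact this
  choose! c hcW hc using hTW
  refine ⟨Submodule.span P (c '' (T : Set _)), ?_, ?_, ?_⟩
  · exact Submodule.fg_span ((T.finite_toSet).image c)
  · rw [Submodule.span_le]
    rintro _ ⟨t, ht, rfl⟩
    exact hcW t ht
  · intro w hw
    have h1 : mkS J w ∈ Submodule.span (P ⧸ J) (T : Set (G ⧸ J • (⊤ : Submodule P G))) := by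
      rw [hT]; exact ⟨w, hw, rfl⟩
    have h2 : (T : Set (G ⧸ J • (⊤ : Submodule P G))) = mkS J '' (c '' (T : Set _)) := by
      ext t
      constructor
      · intro ht
        exact ⟨c t, ⟨t, ht, rfl⟩, hc t ht⟩
      · rintro ⟨_, ⟨t', ht', rfl⟩, rfl⟩
        rw [hc t' ht']
        exact ht'
    rw [h2, ← Submodule.map_span] at h1
    obtain ⟨w₀, hw₀, he⟩ := h1
    have h3 : w - w₀ ∈ J • (⊤ : Submodule P G) := by
      rw [← Submodule.Quotient.mk_eq_zero, Submodule.Quotient.mk_sub]
      change mkS J w - mkS J w₀ = 0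
      rw [he, sub_self]
    have : w = w₀ + (w - w₀) := by abel
    rw [this]
    exact Submodule.add_mem_sup hw₀ h3

end Gen

section LC
variable {S P : Type u} [CommRing S] [CommRing P] [IsLocalRing S] [IsLocalRing P] [Algebra S P]
  [IsLocalHom (algebraMap S P)]
  {M F : Type u} [AddCommGroup M] [Module P M] [Module S M] [IsScalarTower S P M]
  [AddCommGroup F] [Module P F] [Module S F] [IsScalarTower S P F]

/-- **Local criterion of flatness, essentially finitely presented form** (from S2107): if `F` is a
finitely presented `P`-module flat over `S`, `π : F → M` is surjective with finitely generated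
kernel `K`, and `K ∩ 𝔪_S F ⊆ 𝔪_S K`, then `M` is flat over `S`. -/
theorem flat_of_tor_vanish (hP : CAlgX.IsEssFinitePresentation S P)
    [Module.FinitePresentation P F] [Module.Flat S F]
    (π : F →ₗ[P] M) (hπ : Surjective π) (hK : (LinearMap.ker π).FG)
    (H : ∀ k ∈ LinearMap.ker π,
      k ∈ ((maximalIdeal S).map (algebraMap S P)) • (⊤ : Submodule P F) →
      k ∈ ((maximalIdeal S).map (algebraMap S P)) • (LinearMap.ker π)) :
    Module.Flat S M := by
  classical
  set J : Ideal P := (maximalIdeal S).map (algebraMap S P) with hJ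
  haveI : IsNoetherianRing (P ⧸ J) := isNoetherianRing_quot_of_essFP hP
  obtain ⟨m, g, hg⟩ := Submodule.fg_iff_exists_fin_generating_family.1 hK
  let γ : (Fin m → P) →ₗ[P] F := Fintype.linearCombination P g
  have hγ : LinearMap.range γ = LinearMap.ker π := by
    rw [Fintype.range_linearCombination, hg]
  obtain ⟨W₀, hW₀fg, hW₀le, hW₀sup⟩ := exists_fg_le_sup J (LinearMap.ker γ)
  haveI : Module.FinitePresentation P ((Fin m → P) ⧸ W₀) :=
    Module.finitePresentation_of_surjective W₀.mkQ W₀.mkQ_surjective (by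
      rw [Submodule.ker_mkQ]; exact hW₀fg)
  let u : ((Fin m → P) ⧸ W₀) →ₗ[P] F := W₀.liftQ γ hW₀le
  have hu : ∀ x : (Fin m → P) ⧸ W₀, u x ∈ J • (⊤ : Submodule P F) →
      x ∈ J • (⊤ : Submodule P ((Fin m → P) ⧸ W₀)) := by
    intro x hx
    obtain ⟨v, rfl⟩ := W₀.mkQ_surjective x
    have hux : u (W₀.mkQ v) = γ v := rfl
    rw [hux] at hx
    have hk : γ v ∈ LinearMap.ker π := by rw [← hγ]; exact ⟨v, rfl⟩
    have h1 := H _ hk hx
    rw [← hγ, LinearMap.range_eq_map, ← Submodule.map_smul''] at h1
    obtain ⟨v', hv', he⟩ := h1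
    have h2 : v - v' ∈ LinearMap.ker γ := by
      rw [LinearMap.mem_ker, map_sub, he, sub_self]
    have h3 : v ∈ W₀ ⊔ J • (⊤ : Submodule P (Fin m → P)) := by
      have : v = (v - v') + v' := by abel
      rw [this]
      exact add_mem (hW₀sup h2) (Submodule.mem_sup_right hv')
    obtain ⟨a, ha, b, hb, rfl⟩ := Submodule.mem_sup.1 h3
    rw [map_add, (Submodule.mkQ_apply W₀ a), (Submodule.Quotient.mk_eq_zero W₀).2 ha, zero_add]
    have : W₀.mkQ b ∈ (J • (⊤ : Submodule P (Fin m → P))).map W₀.mkQ := ⟨b, hb, rfl⟩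
    rw [Submodule.map_smul'', Submodule.map_top, Submodule.range_mkQ] at this
    exact this
  obtain ⟨-, hfl⟩ := Groth.Agent.Helper2.InjFlatFin.s2107 hP u hu
  have hrange : LinearMap.range u = LinearMap.ker π := by
    rw [← hγ]
    exact Submodule.range_liftQ W₀ γ hW₀le
  have hker : LinearMap.ker (π.restrictScalars S) =
      (LinearMap.range u).restrictScalars S := by
    rw [hrange]
    rfl
  exact Module.Flat.of_linearEquiv
    ((LinearMap.quotKerEquivOfSurjective (π.restrictScalars S) hπ).symm ≪≫ₗ
      (Submodule.quotEquivOfEq _ _ hker) ≪≫ₗ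
      Submodule.Quotient.restrictScalarsEquiv S (LinearMap.range u))

end LC

end Groth.Agent.Helper2.LocCritFP
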