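import Mathlib
import Groth.Prelude
import Groth.Agent.Helper2.StalkInjFlat

set_option autoImplicit false
open Function IsLocalRing
universe u

namespace Groth.Agent.Helper2.TorVan

open Groth.Agent.Helper2.FlatDescCore

section Quot
variable {S : Type u} [CommRing S] (I 𝔪 : Ideal S)
  {X : Type u} [AddCommGroup X] [Module S X]

lemma exists_mk_eq_of_mem (z : X ⧸ I • (⊤ : Submodule S X))
    (hz : z ∈ (𝔪.map (Ideal.Quotient.mk I)) •
      (⊤ : Submodule (S ⧸ I) (X ⧸ I • (⊤ : Submodule S X)))) :
    ∃ x' ∈ 𝔪 • (⊤ : Submodule S X), Submodule.Quotient.mk x' = z := by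
  refine Submodule.smul_induction_on hz ?_ ?_
  · intro a ha w _
    obtain ⟨a', ha', rfl⟩ := (Ideal.mem_map_iff_of_surjective _ Ideal.Quotient.mk_surjective).1 ha
    obtain ⟨y, rfl⟩ := Submodule.Quotient.mk_surjective _ w
    exact ⟨a' • y, Submodule.smul_mem_smul ha' Submodule.mem_top, rfl⟩
  · rintro _ _ ⟨x₁, h₁, rfl⟩ ⟨x₂, h₂, rfl⟩
    exact ⟨x₁ + x₂, add_mem h₁ h₂, rfl⟩

/-- membership in `𝔪̄ • ⊤` of the quotient `X/IX` over `S/I`. -/
lemma mk_mem_map_smul_top_iff (hI : I ≤ 𝔪) (x : X) :
    (Submodule.Quotient.mk x : X ⧸ I • (⊤ : Submodule S X)) ∈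
      (𝔪.map (Ideal.Quotient.mk I)) •
        (⊤ : Submodule (S ⧸ I) (X ⧸ I • (⊤ : Submodule S X))) ↔
    x ∈ 𝔪 • (⊤ : Submodule S X) := by
  constructor
  · intro h
    obtain ⟨x', hx', he⟩ := exists_mk_eq_of_mem I 𝔪 _ h
    have h1 : x' - x ∈ I • (⊤ : Submodule S X) := by
      rw [← Submodule.Quotient.mk_eq_zero, Submodule.Quotient.mk_sub, he, sub_self]
    have h2 : x' - x ∈ 𝔪 • (⊤ : Submodule S X) := Submodule.smul_mono_left hI h1
    have : x = x' - (x' - x) := by abel
    rw [this]
    exact sub_mem hx' h2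
  · intro h
    refine Submodule.smul_induction_on h ?_ ?_
    · intro a ha y _
      have : (Submodule.Quotient.mk (a • y) : X ⧸ I • (⊤ : Submodule S X)) =
          (Ideal.Quotient.mk I a) • Submodule.Quotient.mk y := rfl
      rw [this]
      exact Submodule.smul_mem_smul (Ideal.mem_map_of_mem _ ha) Submodule.mem_top
    · intro a b ha hb
      rw [Submodule.Quotient.mk_add]
      exact add_mem ha hb

end Quot

section Main
variable {R S : Type u} [CommRing R] [CommRing S] [IsLocalRing R] [IsLocalRing S] [Algebra R S]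
  [IsLocalHom (algebraMap R S)]
  {F M : Type u} [AddCommGroup F] [Module S F] [AddCommGroup M] [Module S M] [Module R M]
  [IsScalarTower R S M]

/-- step 1: flatness over `R` of the cokernel gives `K ∩ IF = IK` for `I = 𝔪_R S`. -/
theorem step1 [Module.Flat R M] (π : F →ₗ[S] M) (hπ : Surjective π)
    (k : LinearMap.ker π)
    (hk : (k : F) ∈ ((maximalIdeal R).map (algebraMap R S)) • (⊤ : Submodule S F)) :
    k ∈ ((maximalIdeal R).map (algebraMap R S)) • (⊤ : Submodule S (LinearMap.ker π)) := by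
  letI : Module R F := Module.compHom F (algebraMap R S)
  haveI : IsScalarTower R S F := IsScalarTower.of_algebraMap_smul (fun _ _ => rfl)
  letI : Module R (LinearMap.ker π) := Module.compHom _ (algebraMap R S)
  haveI : IsScalarTower R S (LinearMap.ker π) := IsScalarTower.of_algebraMap_smul (fun _ _ => rfl)
  have h1 : (k : F) ∈ (maximalIdeal R) • (⊤ : Submodule R F) :=
    mem_smul_top_of_mem_map_smul_top (A := R) S (maximalIdeal R) _ hk
  have h2 := Groth.Agent.Helper2.StalkInjFlat.mem_smul_top_of_flat_coker (maximalIdeal R)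
    ((LinearMap.ker π).subtype.restrictScalars R) (π.restrictScalars R)
    (LinearMap.ker π).injective_subtype hπ
    (fun y => by
      constructor
      · intro hy
        exact ⟨⟨y, hy⟩, rfl⟩
      · rintro ⟨z, rfl⟩
        exact z.2) k h1
  exact mem_map_smul_top_of_mem_smul_top (maximalIdeal R) _ h2

/-- **Tor vanishing**: if `M` is flat over `R`, `F` is flat over `S` and `M/𝔪_R M` is flat over
`S/𝔪_R S`, then `K ∩ 𝔪_S F = 𝔪_S K` for `K = ker (F → M)`. -/
theorem tor_vanish [Module.Flat R M] [Module.Flat S F] (π : F →ₗ[S] M) (hπ : Surjective π)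
    (hfib : Module.Flat (S ⧸ (maximalIdeal R).map (algebraMap R S))
      (M ⧸ ((maximalIdeal R).map (algebraMap R S)) • (⊤ : Submodule S M)))
    (k : LinearMap.ker π) (hk : (k : F) ∈ (maximalIdeal S) • (⊤ : Submodule S F)) :
    k ∈ (maximalIdeal S) • (⊤ : Submodule S (LinearMap.ker π)) := by
  set I : Ideal S := (maximalIdeal R).map (algebraMap R S) with hI
  have hIle : I ≤ maximalIdeal S := by
    rw [hI, Ideal.map_le_iff_le_comap]
    intro r hr
    exact map_nonunit (algebraMap R S) r hr
  -- the maps on quotients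
  have hle1 : (I • (⊤ : Submodule S (LinearMap.ker π))) ≤ (I • (⊤ : Submodule S F)).comap (LinearMap.ker π).subtype := by
    rw [← Submodule.map_le_iff_le_comap, Submodule.map_smul'']
    exact Submodule.smul_mono le_rfl le_top
  have hle2 : (I • (⊤ : Submodule S F)) ≤ (I • (⊤ : Submodule S M)).comap π := by
    rw [← Submodule.map_le_iff_le_comap, Submodule.map_smul'']
    exact Submodule.smul_mono le_rfl le_top
  let ubar : ((LinearMap.ker π) ⧸ I • (⊤ : Submodule S (LinearMap.ker π))) →ₗ[S ⧸ I] (F ⧸ I • (⊤ : Submodule S F)) :=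
    (Submodule.mapQ _ _ (LinearMap.ker π).subtype hle1).extendScalarsOfSurjective Ideal.Quotient.mk_surjective
  let pbar : (F ⧸ I • (⊤ : Submodule S F)) →ₗ[S ⧸ I] (M ⧸ I • (⊤ : Submodule S M)) :=
    (Submodule.mapQ _ _ π hle2).extendScalarsOfSurjective Ideal.Quotient.mk_surjective
  have hubar : ∀ x : (LinearMap.ker π), ubar (Submodule.Quotient.mk x) = Submodule.Quotient.mk (x : F) := fun _ => rfl
  have hpbar : ∀ x : F, pbar (Submodule.Quotient.mk x) = Submodule.Quotient.mk (π x) := fun _ => rfl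
  have hinj : Injective ubar := by
    rw [injective_iff_map_eq_zero]
    intro z hz
    obtain ⟨x, rfl⟩ := Submodule.Quotient.mk_surjective _ z
    rw [hubar, Submodule.Quotient.mk_eq_zero] at hz
    rw [Submodule.Quotient.mk_eq_zero]
    exact step1 π hπ x hz
  have hsurj : Surjective pbar := by
    intro z
    obtain ⟨m, rfl⟩ := Submodule.Quotient.mk_surjective _ z
    obtain ⟨f, rfl⟩ := hπ m
    exact ⟨Submodule.Quotient.mk f, rfl⟩
  have hex : Function.Exact ubar pbar := by
    intro y
    obtain ⟨f, rfl⟩ := Submodule.Quotient.mk_surjective _ y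
    constructor
    · intro h0
      rw [hpbar, Submodule.Quotient.mk_eq_zero] at h0
      have : π f ∈ (I • (⊤ : Submodule S F)).map π := by
        rw [Submodule.map_smul'', Submodule.map_top, LinearMap.range_eq_top.2 hπ]
        exact h0
      obtain ⟨f', hf', he⟩ := this
      have hk' : f - f' ∈ (LinearMap.ker π) := by
        rw [LinearMap.mem_ker, map_sub, he, sub_self]
      refine ⟨Submodule.Quotient.mk ⟨f - f', hk'⟩, ?_⟩
      rw [hubar]
      change (Submodule.Quotient.mk (f - f') : F ⧸ I • (⊤ : Submodule S F)) = _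
      rw [Submodule.Quotient.mk_sub, (Submodule.Quotient.mk_eq_zero _).2 hf', sub_zero]
    · rintro ⟨z, hz⟩
      obtain ⟨x, rfl⟩ := Submodule.Quotient.mk_surjective _ z
      rw [← hz, hubar, hpbar]
      have : π (x : F) = 0 := x.2
      rw [this, Submodule.Quotient.mk_zero]
  haveI : Module.Flat (S ⧸ I) (M ⧸ I • (⊤ : Submodule S M)) := hfib
  have h3 := Groth.Agent.Helper2.StalkInjFlat.mem_smul_top_of_flat_coker
    ((maximalIdeal S).map (Ideal.Quotient.mk I)) ubar pbar hinj hsurj hex
    (Submodule.Quotient.mk k) (by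
      rw [hubar]
      exact (mk_mem_map_smul_top_iff I (maximalIdeal S) hIle (k : F)).2 hk)
  exact (mk_mem_map_smul_top_iff I (maximalIdeal S) hIle k).1 h3

end Main

end Groth.Agent.Helper2.TorVan
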