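import Mathlib
import Groth.Prelude
import Groth.Agent.Helper2.LocCritFP
import Groth.Agent.Helper2.TorVan
import Groth.Agent.Helper2.FibCrit

set_option autoImplicit false
open Function IsLocalRing TensorProduct
universe u

namespace Groth.Agent.Helper2.FibCritFP

open Groth.Agent.Helper2.FlatDescCore

/-- **Fibrewise criterion of flatness**, essentially finitely presented form (no hypothesis on
`R → S`): `R → S → S'` local homomorphisms of local rings with `S'` essentially of finite
presentation over `S`, `M` a nonzero finitely presented `S'`-module flat over `R` whose closed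
fibre is flat over the closed fibre of `S`. Then `S` is flat over `R` and `M` is flat over `S`. -/
theorem fibre_criterion {R S S' M : Type u} [CommRing R] [CommRing S] [CommRing S']
    [IsLocalRing R] [IsLocalRing S] [IsLocalRing S'] [Algebra R S] [Algebra S S']
    [IsLocalHom (algebraMap R S)] [IsLocalHom (algebraMap S S')]
    (hS' : CAlgX.IsEssFinitePresentation S S')
    [AddCommGroup M] [Module S' M] [Module S M] [Module R M] [IsScalarTower S S' M]
    [IsScalarTower R S M] [Module.FinitePresentation S' M] [Nontrivial M] [Module.Flat R M]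
    (hfib : Module.Flat (S ⧸ (maximalIdeal R).map (algebraMap R S))
      (M ⧸ (maximalIdeal R).map (algebraMap R S) • (⊤ : Submodule S M))) :
    Module.Flat R S ∧ Module.Flat S M := by
  obtain ⟨S₀, _, _, _, _, Mon, hfp, hloc⟩ := hS'
  obtain ⟨n, φ, hφ, hker⟩ := hfp.out
  letI algQS₀ : Algebra (MvPolynomial (Fin n) S) S₀ := φ.toRingHom.toAlgebra
  haveI : IsScalarTower S (MvPolynomial (Fin n) S) S₀ :=
    IsScalarTower.of_algebraMap_eq' (by ext r; exact (φ.commutes r).symm)
  letI algQS' : Algebra (MvPolynomial (Fin n) S) S' :=
    ((algebraMap S₀ S').comp φ.toRingHom).toAlgebra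
  haveI : IsScalarTower (MvPolynomial (Fin n) S) S₀ S' :=
    IsScalarTower.of_algebraMap_eq (fun _ => rfl)
  haveI : IsScalarTower S (MvPolynomial (Fin n) S) S' := by
    refine IsScalarTower.of_algebraMap_eq (fun r => ?_)
    rw [IsScalarTower.algebraMap_apply (MvPolynomial (Fin n) S) S₀ S',
      ← IsScalarTower.algebraMap_apply S (MvPolynomial (Fin n) S) S₀,
      ← IsScalarTower.algebraMap_apply S S₀ S']
  letI : Module S₀ M := Module.compHom M (algebraMap S₀ S')
  haveI : IsScalarTower S₀ S' M := IsScalarTower.of_algebraMap_smul (fun _ _ => rfl)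
  letI : Module (MvPolynomial (Fin n) S) M :=
    Module.compHom M (algebraMap (MvPolynomial (Fin n) S) S')
  haveI : IsScalarTower (MvPolynomial (Fin n) S) S' M :=
    IsScalarTower.of_algebraMap_smul (fun _ _ => rfl)
  haveI : IsScalarTower (MvPolynomial (Fin n) S) S₀ M :=
    IsScalarTower.of_algebraMap_smul (fun _ _ => rfl)
  haveI : IsScalarTower S (MvPolynomial (Fin n) S) M := by
    refine IsScalarTower.of_algebraMap_smul (fun r x => ?_)
    rw [← algebraMap_smul S' (algebraMap S (MvPolynomial (Fin n) S) r) x,
      ← IsScalarTower.algebraMap_apply S (MvPolynomial (Fin n) S) S', algebraMap_smul]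
  set qb : Ideal S₀ := (maximalIdeal S').comap (algebraMap S₀ S') with hqb
  set q : Ideal (MvPolynomial (Fin n) S) :=
    (maximalIdeal S').comap (algebraMap (MvPolynomial (Fin n) S) S') with hqdef
  haveI : qb.IsPrime := Ideal.comap_isPrime _ _
  haveI : q.IsPrime := Ideal.comap_isPrime _ _
  have hq : q.comap (algebraMap S (MvPolynomial (Fin n) S)) = maximalIdeal S := by
    rw [hqdef, Ideal.comap_comap, ← IsScalarTower.algebraMap_eq]
    exact IsLocalRing.maximalIdeal_comap (algebraMap S S')
  have hπ : Surjective (algebraMap (MvPolynomial (Fin n) S) S₀) := hφ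
  have hsub : Algebra.algebraMapSubmonoid S₀ q.primeCompl = qb.primeCompl := by
    ext x
    constructor
    · rintro ⟨t, ht, rfl⟩
      intro hmem
      apply ht
      change t ∈ q
      rw [hqdef, Ideal.mem_comap, IsScalarTower.algebraMap_apply (MvPolynomial (Fin n) S) S₀ S']
      exact hmem
    · intro hx
      obtain ⟨t, rfl⟩ := hπ x
      refine ⟨t, ?_, rfl⟩
      intro hmem
      apply hx
      change t ∈ q at hmem
      rw [hqdef, Ideal.mem_comap, IsScalarTower.algebraMap_apply (MvPolynomial (Fin n) S) S₀ S']
        at hmem
      exact hmem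
  haveI : IsLocalization (Algebra.algebraMapSubmonoid S₀ q.primeCompl) S' := by
    rw [hsub]
    refine IsLocalization.of_le (M := Mon) qb.primeCompl ?_ ?_
    · intro m hm hmem
      change m ∈ Ideal.comap (algebraMap S₀ S') (maximalIdeal S') at hmem
      rw [Ideal.mem_comap, mem_maximalIdeal, mem_nonunits_iff] at hmem
      exact hmem (IsLocalization.map_units S' ⟨m, hm⟩)
    · intro r hr
      by_contra hnu
      apply hr
      change r ∈ Ideal.comap (algebraMap S₀ S') (maximalIdeal S')
      rw [Ideal.mem_comap, mem_maximalIdeal, mem_nonunits_iff]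
      exact hnu
  obtain ⟨t1, K1, hK1, FM, hFM⟩ := Groth.Agent.Helper2.InjFlatQ.exists_pres (S := S')
    (hπ : Surjective (algebraMap (MvPolynomial (Fin n) S) S₀)) hker q.primeCompl M
  -- the local ring `P'`
  have hunits : ∀ y : q.primeCompl, IsUnit (algebraMap (MvPolynomial (Fin n) S) S' y) := by
    intro y
    by_contra hnu
    exact y.2 ((mem_maximalIdeal _).2 hnu)
  let ψ : Localization.AtPrime q →+* S' := IsLocalization.lift hunits
  letI algP'S' : Algebra (Localization.AtPrime q) S' := ψ.toAlgebra
  haveI : IsScalarTower (MvPolynomial (Fin n) S) (Localization.AtPrime q) S' :=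
    IsScalarTower.of_algebraMap_eq (fun x => (IsLocalization.lift_eq hunits x).symm)
  letI : Module (Localization.AtPrime q) M := Module.compHom M ψ
  haveI : IsScalarTower (Localization.AtPrime q) S' M :=
    IsScalarTower.of_algebraMap_smul (fun _ _ => rfl)
  haveI : IsScalarTower (MvPolynomial (Fin n) S) (Localization.AtPrime q) M := by
    refine IsScalarTower.of_algebraMap_smul (fun r x => ?_)
    rw [← algebraMap_smul S' (algebraMap (MvPolynomial (Fin n) S) (Localization.AtPrime q) r) x,
      ← IsScalarTower.algebraMap_apply (MvPolynomial (Fin n) S) (Localization.AtPrime q) S',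
      algebraMap_smul]
  haveI : IsScalarTower S (Localization.AtPrime q) M := by
    refine IsScalarTower.of_algebraMap_smul (fun r x => ?_)
    rw [IsScalarTower.algebraMap_apply S (MvPolynomial (Fin n) S) (Localization.AtPrime q),
      algebraMap_smul, algebraMap_smul]
  haveI : IsLocalHom (algebraMap S (Localization.AtPrime q)) :=
    Groth.Agent.Helper2.InjFlatN.isLocalHom_of_comap q hq
  have hP' : CAlgX.IsEssFinitePresentation S (Localization.AtPrime q) :=
    ⟨MvPolynomial (Fin n) S, inferInstance, inferInstance, inferInstance, inferInstance,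
      q.primeCompl, inferInstance, inferInstance⟩
  -- `M` is finitely presented over `P'`
  haveI : Module.FinitePresentation (MvPolynomial (Fin n) S) ((Fin t1 → MvPolynomial (Fin n) S) ⧸ K1) :=
    Module.finitePresentation_of_surjective K1.mkQ K1.mkQ_surjective (by
      rw [Submodule.ker_mkQ]; exact hK1)
  haveI : Module.FinitePresentation (Localization.AtPrime q) M :=
    _root_.FinitePresentation.of_isBaseChange FM
      (IsLocalizedModule.isBaseChange q.primeCompl (Localization.AtPrime q) FM)
  obtain ⟨a, b, π, g, hπs, hπg⟩ := Module.FinitePresentation.exists_fin' (Localization.AtPrime q) M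
  have hKfg : (LinearMap.ker π).FG := by
    rw [LinearMap.exact_iff.mp hπg, LinearMap.range_eq_map]
    exact Submodule.FG.map _ Module.Finite.fg_top
  haveI : Module.Flat S (Localization.AtPrime q) :=
    Module.Flat.trans S (MvPolynomial (Fin n) S) (Localization.AtPrime q)
  haveI : Module.Flat S (Fin a → Localization.AtPrime q) :=
    Module.Flat.of_linearEquiv (DFinsupp.linearEquivFunOnFintype (R := S) (ι := Fin a)
      (M := fun _ => Localization.AtPrime q)).symm
  have hMflat : Module.Flat S M := by
    refine Groth.Agent.Helper2.LocCritFP.flat_of_tor_vanish hP' π hπs hKfg ?_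
    intro k hk hkJ
    have h1 : k ∈ (maximalIdeal S) • (⊤ : Submodule S (Fin a → Localization.AtPrime q)) :=
      mem_smul_top_of_mem_map_smul_top (A := S) (Localization.AtPrime q) (maximalIdeal S) k hkJ
    have h2 := Groth.Agent.Helper2.TorVan.tor_vanish (R := R) (π.restrictScalars S) hπs hfib
      ⟨k, hk⟩ h1
    have key : ∀ x : LinearMap.ker (π.restrictScalars S),
        x ∈ (maximalIdeal S) • (⊤ : Submodule S (LinearMap.ker (π.restrictScalars S))) →
        (x : Fin a → Localization.AtPrime q) ∈
          ((maximalIdeal S).map (algebraMap S (Localization.AtPrime q))) • (LinearMap.ker π) := by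
      intro x hx
      refine Submodule.smul_induction_on hx ?_ ?_
      · intro r hr y _
        rw [Submodule.coe_smul, ← algebraMap_smul (Localization.AtPrime q) r
          (y : Fin a → Localization.AtPrime q)]
        exact Submodule.smul_mem_smul (Ideal.mem_map_of_mem _ hr) y.2
      · intro x y hx hy
        rw [Submodule.coe_add]
        exact add_mem hx hy
    exact key _ h2
  haveI := hMflat
  haveI : Module.FaithfullyFlat S M :=
    Groth.Agent.Helper2.FibCrit.faithfullyFlat_of_flat (B := S) (C := S') M
  exact ⟨Groth.Agent.Helper2.FibCrit.flat_of_faithfullyFlat (A := R) (B := S) (M := M), hMflat⟩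

end Groth.Agent.Helper2.FibCritFP
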