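import Mathlib
import Groth.Prelude
import Groth.Agent.Helper2.FibCritFP
import Groth.Agent.Helper2.LfpComp
import Groth.Agent.Helper2.StalkEssFP

set_option autoImplicit false
open Function IsLocalRing AlgebraicGeometry CategoryTheory
universe u

namespace Groth.Agent.Helper2.FibCritSch

/-- the algebraic fibre criterion as an equivalence. -/
theorem fibre_criterion_iff {R S S' M : Type u} [CommRing R] [CommRing S] [CommRing S']
    [IsLocalRing R] [IsLocalRing S] [IsLocalRing S'] [Algebra R S] [Algebra S S']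
    [IsLocalHom (algebraMap R S)] [IsLocalHom (algebraMap S S')]
    (hS' : CAlgX.IsEssFinitePresentation S S')
    [AddCommGroup M] [Module S' M] [Module S M] [Module R M] [IsScalarTower S S' M]
    [IsScalarTower R S M] [Module.FinitePresentation S' M] [Nontrivial M] :
    (Module.Flat R M ∧ Module.Flat (S ⧸ (maximalIdeal R).map (algebraMap R S))
      (M ⧸ (maximalIdeal R).map (algebraMap R S) • (⊤ : Submodule S M))) ↔
    (Module.Flat R S ∧ Module.Flat S M) := by
  constructor
  · rintro ⟨h1, h2⟩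
    exact Groth.Agent.Helper2.FibCritFP.fibre_criterion hS' h2
  · rintro ⟨h1, h2⟩
    exact ⟨Module.Flat.trans R S M, Module.Flat.of_linearEquiv
      (Groth.Agent.Helper2.FibCrit.quotEquiv _ M).symm⟩

theorem s1483 {X Y S : Scheme.{u}} (f : X ⟶ Y) (g : Y ⟶ S)
    [LocallyOfFinitePresentation (f ≫ g)] [LocallyOfFiniteType g]
    (F : X.Modules) (hq : Coh.IsQCoh F) (hfp : CohB1.IsFP F) (x : X)
    (hx : Nontrivial ↑(F.presheaf.stalk x)) :
    letI := FlatMod.moduleStalkOver f F x
    (FlatMod.IsFlatOverAt (f ≫ g) F x ∧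
      Module.Flat (↑(Y.presheaf.stalk (f x)) ⧸ Ideal.map (g.stalkMap (f x)).hom
          (IsLocalRing.maximalIdeal ↑(S.presheaf.stalk (g (f x)))))
        (↑(F.presheaf.stalk x) ⧸ (Ideal.map (g.stalkMap (f x)).hom
          (IsLocalRing.maximalIdeal ↑(S.presheaf.stalk (g (f x)))) •
          (⊤ : Submodule ↑(Y.presheaf.stalk (f x)) ↑(F.presheaf.stalk x))))) ↔
    ((g.stalkMap (f x)).hom.Flat ∧ FlatMod.IsFlatOverAt f F x) := by
  haveI : LocallyOfFinitePresentation f :=
    Groth.Agent.Helper2.LfpComp.locallyOfFinitePresentation_of_comp f g inferInstance inferInstance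
  letI mB : Module (Y.presheaf.stalk (f x)) (F.presheaf.stalk x) :=
    FlatMod.moduleStalkOver f F x
  haveI : F.IsQuasicoherent := hq
  haveI : Module.FinitePresentation (X.presheaf.stalk x) (F.presheaf.stalk x) :=
    Groth.Agent.Helper2.StalkEssFP.fp_stalk F hfp x
  letI algAB : Algebra (S.presheaf.stalk (g (f x))) (Y.presheaf.stalk (f x)) :=
    (g.stalkMap (f x)).hom.toAlgebra
  letI algBC : Algebra (Y.presheaf.stalk (f x)) (X.presheaf.stalk x) :=
    (f.stalkMap x).hom.toAlgebra
  letI mA : Module (S.presheaf.stalk (g (f x))) (F.presheaf.stalk x) :=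
    FlatMod.moduleStalkOver (f ≫ g) F x
  haveI : IsLocalHom (algebraMap (S.presheaf.stalk (g (f x))) (Y.presheaf.stalk (f x))) :=
    inferInstanceAs (IsLocalHom (g.stalkMap (f x)).hom)
  haveI : IsLocalHom (algebraMap (Y.presheaf.stalk (f x)) (X.presheaf.stalk x)) :=
    inferInstanceAs (IsLocalHom (f.stalkMap x).hom)
  haveI : IsScalarTower (Y.presheaf.stalk (f x)) (X.presheaf.stalk x) (F.presheaf.stalk x) :=
    IsScalarTower.of_algebraMap_smul (fun _ _ => rfl)
  haveI : IsScalarTower (S.presheaf.stalk (g (f x))) (Y.presheaf.stalk (f x))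
      (F.presheaf.stalk x) :=
    IsScalarTower.of_algebraMap_smul (fun a m => by
      change (f.stalkMap x).hom ((g.stalkMap (f x)).hom a) • m = ((f ≫ g).stalkMap x).hom a • m
      rw [Scheme.Hom.stalkMap_comp]
      rfl)
  have hess := Groth.Agent.Helper2.StalkEssFP.essFP_stalk f x
  exact fibre_criterion_iff (R := S.presheaf.stalk (g (f x)))
    (S := Y.presheaf.stalk (f x)) (S' := X.presheaf.stalk x) (M := F.presheaf.stalk x) hess

end Groth.Agent.Helper2.FibCritSch
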