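import Mathlib
import Groth.Prelude.Def_Grpd

set_option autoImplicit false
universe u
open CategoryTheory CategoryTheory.Limits AlgebraicGeometry
open Grpd

namespace Groth.Agent.Helper2.Grpd2

variable {S : Scheme.{u}} (G : Grpd.GroupoidScheme S) {T : Scheme.{u}}

/-- product of `T`-points of the groupoid -/
noncomputable def mul (α β : T ⟶ G.R) (h : α ≫ G.s = β ≫ G.t) : T ⟶ G.R :=
  pullback.lift α β h ≫ G.c

lemma mul_congr {α α' β β' : T ⟶ G.R} (h : α ≫ G.s = β ≫ G.t) (h' : α' ≫ G.s = β' ≫ G.t)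
    (hα : α = α') (hβ : β = β') : mul G α β h = mul G α' β' h' := by
  subst hα hβ; rfl

lemma comp_mul {T' : Scheme.{u}} (f : T' ⟶ T) (α β : T ⟶ G.R) (h : α ≫ G.s = β ≫ G.t)
    (h' : (f ≫ α) ≫ G.s = (f ≫ β) ≫ G.t) :
    f ≫ mul G α β h = mul G (f ≫ α) (f ≫ β) h' := by
  unfold mul
  rw [← Category.assoc]
  congr 1
  apply pullback.hom_ext
  · rw [Category.assoc, pullback.lift_fst, pullback.lift_fst]
  · rw [Category.assoc, pullback.lift_snd, pullback.lift_snd]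

lemma mul_s (α β : T ⟶ G.R) (h : α ≫ G.s = β ≫ G.t) : mul G α β h ≫ G.s = β ≫ G.s :=
  G.comp_s α β h

lemma mul_t (α β : T ⟶ G.R) (h : α ≫ G.s = β ≫ G.t) : mul G α β h ≫ G.t = α ≫ G.t :=
  G.comp_t α β h

lemma mul_assoc (α β γ : T ⟶ G.R) (h₁ : α ≫ G.s = β ≫ G.t) (h₂ : β ≫ G.s = γ ≫ G.t)
    (h₃ : mul G α β h₁ ≫ G.s = γ ≫ G.t) (h₄ : α ≫ G.s = mul G β γ h₂ ≫ G.t) :
    mul G (mul G α β h₁) γ h₃ = mul G α (mul G β γ h₂) h₄ :=
  G.assoc α β γ h₁ h₂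

lemma mul_e (α : T ⟶ G.R) (h : α ≫ G.s = (α ≫ G.s ≫ G.e) ≫ G.t) :
    mul G α (α ≫ G.s ≫ G.e) h = α := G.comp_e α

lemma e_mul (α : T ⟶ G.R) (h : (α ≫ G.t ≫ G.e) ≫ G.s = α ≫ G.t) :
    mul G (α ≫ G.t ≫ G.e) α h = α := G.e_comp α

lemma mul_i (α : T ⟶ G.R) (h : α ≫ G.s = (α ≫ G.i) ≫ G.t) :
    mul G α (α ≫ G.i) h = α ≫ G.t ≫ G.e := G.comp_i α

lemma i_mul (α : T ⟶ G.R) (h : (α ≫ G.i) ≫ G.s = α ≫ G.t) :
    mul G (α ≫ G.i) α h = α ≫ G.s ≫ G.e := G.i_comp α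

lemma c_eq : G.c = mul G (pullback.fst G.s G.t) (pullback.snd G.s G.t) pullback.condition := by
  unfold mul
  have h1 : pullback.lift (pullback.fst G.s G.t) (pullback.snd G.s G.t) pullback.condition = 𝟙 _ := by
    apply pullback.hom_ext <;> simp
  rw [h1, Category.id_comp]

lemma i_s' (α : T ⟶ G.R) : (α ≫ G.i) ≫ G.s = α ≫ G.t := by rw [Category.assoc, G.i_s]
lemma i_t' (α : T ⟶ G.R) : (α ≫ G.i) ≫ G.t = α ≫ G.s := by rw [Category.assoc, G.i_t]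
lemma e_s' (a : T ⟶ G.U) : (a ≫ G.e) ≫ G.s = a := by rw [Category.assoc, G.e_s, Category.comp_id]
lemma e_t' (a : T ⟶ G.U) : (a ≫ G.e) ≫ G.t = a := by rw [Category.assoc, G.e_t, Category.comp_id]

/-- `α⁻¹ (α β) = β` -/
lemma i_mul_mul (α β : T ⟶ G.R) (h : α ≫ G.s = β ≫ G.t)
    (h' : (α ≫ G.i) ≫ G.s = mul G α β h ≫ G.t) :
    mul G (α ≫ G.i) (mul G α β h) h' = β := by
  have h1 : (α ≫ G.i) ≫ G.s = α ≫ G.t := i_s' G α
  have h2 : mul G (α ≫ G.i) α h1 ≫ G.s = β ≫ G.t := by rw [mul_s, h]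
  rw [← mul_assoc G (α ≫ G.i) α β h1 h h2 h']
  have h3 : (β ≫ G.t ≫ G.e) ≫ G.s = β ≫ G.t := by
    rw [← Category.assoc]; exact e_s' G _
  rw [mul_congr G h2 h3 (by rw [i_mul, ← Category.assoc, h, Category.assoc]) rfl]
  exact e_mul G β h3

/-- `α (α⁻¹ β) = β` -/
lemma mul_i_mul (α β : T ⟶ G.R) (h : (α ≫ G.i) ≫ G.s = β ≫ G.t)
    (h' : α ≫ G.s = mul G (α ≫ G.i) β h ≫ G.t) :
    mul G α (mul G (α ≫ G.i) β h) h' = β := by
  have h1 : α ≫ G.s = (α ≫ G.i) ≫ G.t := (i_t' G α).symm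
  have h2 : mul G α (α ≫ G.i) h1 ≫ G.s = β ≫ G.t := by rw [mul_s, h]
  rw [← mul_assoc G α (α ≫ G.i) β h1 h h2 h']
  have h3 : (β ≫ G.t ≫ G.e) ≫ G.s = β ≫ G.t := by
    rw [← Category.assoc]; exact e_s' G _
  have hαβ : α ≫ G.t = β ≫ G.t := by rw [← h, i_s']
  rw [mul_congr G h2 h3 (by rw [mul_i, ← Category.assoc, hαβ, Category.assoc]) rfl]
  exact e_mul G β h3

/-- `(α β) β⁻¹ = α` -/
lemma mul_mul_i (α β : T ⟶ G.R) (h : α ≫ G.s = β ≫ G.t)
    (h' : mul G α β h ≫ G.s = (β ≫ G.i) ≫ G.t) :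
    mul G (mul G α β h) (β ≫ G.i) h' = α := by
  have h1 : β ≫ G.s = (β ≫ G.i) ≫ G.t := (i_t' G β).symm
  have h2 : α ≫ G.s = mul G β (β ≫ G.i) h1 ≫ G.t := by rw [mul_t, h]
  rw [mul_assoc G α β (β ≫ G.i) h h1 h' h2]
  have h3 : α ≫ G.s = (α ≫ G.s ≫ G.e) ≫ G.t := by
    rw [← Category.assoc]; exact (e_t' G _).symm
  rw [mul_congr G h2 h3 rfl (by rw [mul_i, ← Category.assoc, ← h, Category.assoc])]
  exact mul_e G α h3

/-- `(α β⁻¹) β = α` -/
lemma mul_i_mul' (α β : T ⟶ G.R) (h : α ≫ G.s = (β ≫ G.i) ≫ G.t)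
    (h' : mul G α (β ≫ G.i) h ≫ G.s = β ≫ G.t) :
    mul G (mul G α (β ≫ G.i) h) β h' = α := by
  have h1 : (β ≫ G.i) ≫ G.s = β ≫ G.t := i_s' G β
  have h2 : α ≫ G.s = mul G (β ≫ G.i) β h1 ≫ G.t := by rw [mul_t, h]
  rw [mul_assoc G α (β ≫ G.i) β h h1 h' h2]
  have h3 : α ≫ G.s = (α ≫ G.s ≫ G.e) ≫ G.t := by
    rw [← Category.assoc]; exact (e_t' G _).symm
  have hαβ : α ≫ G.s = β ≫ G.s := by rw [h, i_t']
  rw [mul_congr G h2 h3 rfl (by rw [i_mul, ← Category.assoc, ← hαβ, Category.assoc])]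
  exact mul_e G α h3

lemma shear_comp_c (φ : pullback G.t G.t ⟶ pullback G.s G.t)
    (h1 : φ ≫ pullback.fst G.s G.t = pullback.fst G.t G.t)
    (hw : (pullback.fst G.t G.t ≫ G.i) ≫ G.s = pullback.snd G.t G.t ≫ G.t)
    (h2 : φ ≫ pullback.snd G.s G.t =
      mul G (pullback.fst G.t G.t ≫ G.i) (pullback.snd G.t G.t) hw) :
    φ ≫ G.c = pullback.snd G.t G.t := by
  have hc : (φ ≫ pullback.fst G.s G.t) ≫ G.s = (φ ≫ pullback.snd G.s G.t) ≫ G.t := by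
    rw [Category.assoc, pullback.condition, Category.assoc]
  have hc' : pullback.fst G.t G.t ≫ G.s =
      mul G (pullback.fst G.t G.t ≫ G.i) (pullback.snd G.t G.t) hw ≫ G.t := by
    rw [mul_t, i_t']
  rw [c_eq G, comp_mul G φ _ _ pullback.condition hc, mul_congr G hc hc' h1 h2]
  exact mul_i_mul G _ _ hw hc'

theorem shear_isIso (φ : pullback G.t G.t ⟶ pullback G.s G.t)
    (h1 : φ ≫ pullback.fst G.s G.t = pullback.fst G.t G.t)
    (hw : (pullback.fst G.t G.t ≫ G.i) ≫ G.s = pullback.snd G.t G.t ≫ G.t)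
    (h2 : φ ≫ pullback.snd G.s G.t =
      mul G (pullback.fst G.t G.t ≫ G.i) (pullback.snd G.t G.t) hw) :
    IsIso φ := by
  have hct : pullback.fst G.s G.t ≫ G.t = G.c ≫ G.t := by
    rw [c_eq G, mul_t]
  let ψ : pullback G.s G.t ⟶ pullback G.t G.t := pullback.lift (pullback.fst G.s G.t) G.c hct
  have hψ1 : ψ ≫ pullback.fst G.t G.t = pullback.fst G.s G.t := pullback.lift_fst _ _ _
  have hψ2 : ψ ≫ pullback.snd G.t G.t = G.c := pullback.lift_snd _ _ _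
  refine ⟨ψ, ?_, ?_⟩
  · apply pullback.hom_ext
    · rw [Category.assoc, hψ1, h1, Category.id_comp]
    · rw [Category.assoc, hψ2, shear_comp_c G φ h1 hw h2, Category.id_comp]
  · apply pullback.hom_ext
    · rw [Category.assoc, h1, hψ1, Category.id_comp]
    · rw [Category.assoc, h2, Category.id_comp]
      have hw' : (ψ ≫ pullback.fst G.t G.t ≫ G.i) ≫ G.s = (ψ ≫ pullback.snd G.t G.t) ≫ G.t := by
        rw [Category.assoc, Category.assoc, G.i_s, Category.assoc, pullback.condition]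
      rw [comp_mul G ψ _ _ hw hw']
      have hw'' : (pullback.fst G.s G.t ≫ G.i) ≫ G.s =
          mul G (pullback.fst G.s G.t) (pullback.snd G.s G.t) pullback.condition ≫ G.t := by
        rw [mul_t, i_s']
      rw [mul_congr G hw' hw'' (by rw [← Category.assoc, hψ1]) (by rw [hψ2, c_eq G])]
      exact i_mul_mul G _ _ pullback.condition hw''

theorem isPullback_c : IsPullback G.c (pullback.snd G.s G.t) G.s G.s := by
  have hw : G.c ≫ G.s = pullback.snd G.s G.t ≫ G.s := by rw [c_eq G, mul_s]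
  refine ⟨⟨hw⟩, ⟨PullbackCone.IsLimit.mk hw (fun s => ?_) (fun s => ?_) (fun s => ?_) (fun s m hm1 hm2 => ?_)⟩⟩
  · have ha : s.fst ≫ G.s = (s.snd ≫ G.i) ≫ G.t := by rw [i_t', s.condition]
    have hb : mul G s.fst (s.snd ≫ G.i) ha ≫ G.s = s.snd ≫ G.t := by rw [mul_s, i_s']
    exact pullback.lift (mul G s.fst (s.snd ≫ G.i) ha) s.snd hb
  · have ha : s.fst ≫ G.s = (s.snd ≫ G.i) ≫ G.t := by rw [i_t', s.condition]
    have hb : mul G s.fst (s.snd ≫ G.i) ha ≫ G.s = s.snd ≫ G.t := by rw [mul_s, i_s']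
    change pullback.lift (mul G s.fst (s.snd ≫ G.i) ha) s.snd hb ≫ G.c = s.fst
    have hc : (pullback.lift (mul G s.fst (s.snd ≫ G.i) ha) s.snd hb ≫ pullback.fst G.s G.t) ≫ G.s =
        (pullback.lift (mul G s.fst (s.snd ≫ G.i) ha) s.snd hb ≫ pullback.snd G.s G.t) ≫ G.t := by
      rw [Category.assoc, pullback.condition, Category.assoc]
    rw [c_eq G, comp_mul G _ _ _ pullback.condition hc,
      mul_congr G hc hb (pullback.lift_fst _ _ _) (pullback.lift_snd _ _ _)]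
    exact mul_i_mul' G _ _ ha hb
  · exact pullback.lift_snd _ _ _
  · have ha : s.fst ≫ G.s = (s.snd ≫ G.i) ≫ G.t := by rw [i_t', s.condition]
    have hb : mul G s.fst (s.snd ≫ G.i) ha ≫ G.s = s.snd ≫ G.t := by rw [mul_s, i_s']
    have hc : (m ≫ pullback.fst G.s G.t) ≫ G.s = (m ≫ pullback.snd G.s G.t) ≫ G.t := by
      rw [Category.assoc, pullback.condition, Category.assoc]
    have hc' : (m ≫ pullback.fst G.s G.t) ≫ G.s = s.snd ≫ G.t := by rw [hc, hm2]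
    have hx : s.fst = mul G (m ≫ pullback.fst G.s G.t) s.snd hc' := by
      rw [← hm1, c_eq G, comp_mul G m _ _ pullback.condition hc]
      exact mul_congr G hc hc' rfl hm2
    apply pullback.hom_ext
    · rw [pullback.lift_fst]
      have hd : mul G (m ≫ pullback.fst G.s G.t) s.snd hc' ≫ G.s = (s.snd ≫ G.i) ≫ G.t := by
        rw [mul_s, i_t']
      rw [mul_congr G ha hd hx rfl]
      exact (mul_mul_i G _ _ hc' hd).symm
    · rw [pullback.lift_snd, hm2]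

end Groth.Agent.Helper2.Grpd2
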