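import Mathlib
import Groth.Prelude.Def_EGA4Misc
import Groth.Agent.Helper5.ConsLc3
import Groth.Agent.Lead.FlatUnivJ

/-!
# Constructible properties of modules on the fibres: base change and the Noetherian case
-/

set_option autoImplicit false
universe u
open CategoryTheory CategoryTheory.Limits AlgebraicGeometry TopologicalSpace Topology

noncomputable section

namespace Groth.Agent.Helper2.ConsMod

open Groth.Agent.Helper5.ConsPr Groth.Agent.Helper5.ConsLc

variable {P : ∀ ⦃Y T : Scheme.{u}⦄, (Y ⟶ T) → Y.Modules → Prop}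

set_option backward.isDefEq.respectTransparency false in
/-- the pulled back module on the fibre of a base change -/
def fibreModIso {X' X Y' Y : Scheme.{u}} {e : X' ⟶ X} {f' : X' ⟶ Y'} {f : X ⟶ Y} {g : Y' ⟶ Y}
    (sq : IsPullback e f' f g) (F : X.Modules) (y' : Y') :
    (Scheme.Modules.pullback (f'.fiberι y')).obj ((Scheme.Modules.pullback e).obj F) ≅
      (Scheme.Modules.pullback
        (pullback.map _ _ _ _ e (Spec.map (g.residueFieldMap y')) g sq.w.symm (by simp))).obj
        ((Scheme.Modules.pullback (f.fiberι (g y'))).obj F) :=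
  (Scheme.Modules.pullbackComp (f'.fiberι y') e).app F ≪≫
    (Scheme.Modules.pullbackCongr (by
      simp [Scheme.Hom.fiberι])).app F ≪≫
    ((Scheme.Modules.pullbackComp
      (pullback.map _ _ _ _ e (Spec.map (g.residueFieldMap y')) g sq.w.symm (by simp))
      (f.fiberι (g y'))).app F).symm

set_option backward.isDefEq.respectTransparency false in
/-- a field-stable relation with a module takes the same value on the fibres of a base change -/
theorem fibreMod_iff_of_isPullback (hP : ConsProp.IsFieldStableMod P)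
    {X' X Y' Y : Scheme.{u}} {e : X' ⟶ X} {f' : X' ⟶ Y'} {f : X ⟶ Y} {g : Y' ⟶ Y}
    (sq : IsPullback e f' f g) [LocallyOfFiniteType f] [QuasiCompact f] (F : X.Modules)
    (hF : Coh.IsCoh F) (y' : Y') :
    P (f'.fiberToSpecResidueField y')
        ((Scheme.Modules.pullback (f'.fiberι y')).obj ((Scheme.Modules.pullback e).obj F)) ↔
      P (f.fiberToSpecResidueField (g y')) ((Scheme.Modules.pullback (f.fiberι (g y'))).obj F) :=
  (hP (f.fiberToSpecResidueField (g y')) (f'.fiberToSpecResidueField y') _
    (Spec.map (g.residueFieldMap y'))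
    (isPullback_fiberToSpecResidueField_of_isPullback sq y')
    ((Scheme.Modules.pullback (f.fiberι (g y'))).obj F) _
    (Groth.Agent.Lead.FlatUnivJ.isCoh_pullback _ F hF) (fibreModIso sq F y')).symm

/-- the locus of a field-stable relation with a module is compatible with base change -/
theorem locusMod_of_isPullback (hP : ConsProp.IsFieldStableMod P)
    {X' X Y' Y : Scheme.{u}} {e : X' ⟶ X} {f' : X' ⟶ Y'} {f : X ⟶ Y} {g : Y' ⟶ Y}
    (sq : IsPullback e f' f g) [LocallyOfFiniteType f] [QuasiCompact f] (F : X.Modules)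
    (hF : Coh.IsCoh F) :
    ConsProp.locusMod P f' ((Scheme.Modules.pullback e).obj F) =
      g ⁻¹' ConsProp.locusMod P f F := by
  ext y'
  exact fibreMod_iff_of_isPullback hP sq F hF y'

set_option backward.isDefEq.respectTransparency false in
/-- the locus only depends on the isomorphism class of the module -/
theorem locusMod_congr (hP : ConsProp.IsFieldStableMod P) {X S : Scheme.{u}} (u : X ⟶ S)
    [LocallyOfFiniteType u] [QuasiCompact u] {F F' : X.Modules} (hF : Coh.IsCoh F)
    (e : F' ≅ F) : ConsProp.locusMod P u F' = ConsProp.locusMod P u F := by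
  ext s
  have sq : IsPullback (𝟙 (u.fiber s)) (u.fiberToSpecResidueField s)
      (u.fiberToSpecResidueField s) (𝟙 _) := IsPullback.of_id_fst
  exact (hP (u.fiberToSpecResidueField s) (u.fiberToSpecResidueField s) (𝟙 _) (𝟙 _) sq
    ((Scheme.Modules.pullback (u.fiberι s)).obj F) ((Scheme.Modules.pullback (u.fiberι s)).obj F')
    (Groth.Agent.Lead.FlatUnivJ.isCoh_pullback _ F hF)
    ((Scheme.Modules.pullback (u.fiberι s)).mapIso e ≪≫
      ((Scheme.Modules.pullbackId _).app _).symm)).symm

section Noeth

variable {X S : Scheme.{u}} (u : X ⟶ S) [IsNoetherian S] [LocallyOfFiniteType u] [QuasiCompact u]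
  (F : X.Modules) (hF : Coh.IsCoh F)

include hF in
theorem mod_decided (hP : ConsProp.IsConsMod P)
    (Z : Set S) (hZ : IsClosed Z) (hirr : IsIrreducible Z) :
    ∃ O : Set S, IsOpen O ∧ (Z ∩ O).Nonempty ∧
      (Z ∩ O ⊆ ConsProp.locusMod P u F ∨ Z ∩ O ⊆ (ConsProp.locusMod P u F)ᶜ) := by
  obtain ⟨T, i, hi, hT, hrange⟩ := exists_integral_subscheme Z hZ hirr
  have hT1 : IsLocallyNoetherian T := LocallyOfFiniteType.isLocallyNoetherian i
  have hT2 : CompactSpace T := QuasiCompact.compactSpace_of_compactSpace i
  have hTN : IsNoetherian T := {}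
  have hloc := locusMod_of_isPullback hP.1 (IsPullback.of_hasPullback u i) F hF
  rcases hP.2 (pullback.snd u i) ((Scheme.Modules.pullback (pullback.fst u i)).obj F)
    (Groth.Agent.Lead.FlatUnivJ.isCoh_pullback _ F hF) with h | h
  · rw [hloc] at h
    obtain ⟨O, hO, hne, hsub⟩ := exists_open_of_interior_preimage i Z hrange _ h
    exact ⟨O, hO, hne, Or.inl hsub⟩
  · rw [hloc] at h
    obtain ⟨O, hO, hne, hsub⟩ := exists_open_of_interior_preimage i Z hrange
      (ConsProp.locusMod P u F)ᶜ h
    exact ⟨O, hO, hne, Or.inr hsub⟩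

include hF in
theorem mod_ind_decided (hP : ConsProp.IsIndConsMod P)
    (Z : Set S) (hZ : IsClosed Z) (hirr : IsIrreducible Z)
    (hgen : ∀ z, IsGenericPoint z Z → z ∈ ConsProp.locusMod P u F) :
    ∃ O : Set S, IsOpen O ∧ (Z ∩ O).Nonempty ∧ Z ∩ O ⊆ ConsProp.locusMod P u F := by
  obtain ⟨T, i, hi, hT, hrange⟩ := exists_integral_subscheme Z hZ hirr
  have hT1 : IsLocallyNoetherian T := LocallyOfFiniteType.isLocallyNoetherian i
  have hT2 : CompactSpace T := QuasiCompact.compactSpace_of_compactSpace i
  have hTN : IsNoetherian T := {}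
  have hloc := locusMod_of_isPullback hP.1 (IsPullback.of_hasPullback u i) F hF
  have hgenT : genericPoint T ∈ ConsProp.locusMod P (pullback.snd u i)
      ((Scheme.Modules.pullback (pullback.fst u i)).obj F) := by
    rw [hloc]
    exact hgen _ (isGenericPoint_image_genericPoint i Z hZ hrange)
  have h := hP.2 (pullback.snd u i) ((Scheme.Modules.pullback (pullback.fst u i)).obj F)
    (Groth.Agent.Lead.FlatUnivJ.isCoh_pullback _ F hF) hgenT
  rw [hloc] at h
  exact exists_open_of_interior_preimage i Z hrange _ h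

include hF in
theorem isConstructible_locusMod_of_noeth (hP : ConsProp.IsConsMod P) :
    IsConstructible (ConsProp.locusMod P u F) :=
  isConstructible_of_noeth _ (mod_decided u F hF hP)

include hF in
theorem exists_cover_locusMod_of_noeth (hP : ConsProp.IsIndConsMod P) :
    ∃ 𝒮 : Set (Set S), (∀ T ∈ 𝒮, IsConstructible T) ∧ ConsProp.locusMod P u F = ⋃₀ 𝒮 :=
  exists_constructible_cover_of_noeth _ (mod_ind_decided u F hF hP)

end Noeth

end Groth.Agent.Helper2.ConsMod

end
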