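import Mathlib
import Groth.Agent.Helper4.QcohLimits
import Groth.Agent.Helper4.SubExt2

/-!
# Modification of a quasi-coherent module over an open

`j : Y ⟶ X` a quasi-compact open immersion, `H` on `X`, `N'` on `Y` with `α : N' ⟶ H|_Y`.
`Mod H α := H ×_{j_* j^* H} j_* N'` restricts to `N'` on `Y`, and the projection to `H` is an
isomorphism over every open `T` of `X` such that `α` is an isomorphism over `j⁻¹ T`.
-/

set_option autoImplicit false
universe u
open CategoryTheory CategoryTheory.Limits AlgebraicGeometry TopologicalSpace Opposite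

namespace Groth.Agent.Helper2.FPExt

open Groth.Agent.Helper4

variable {X Y : Scheme.{u}} (j : Y ⟶ X) [IsOpenImmersion j]

/-- bijectivity on small sections gives an isomorphism of the restriction -/
theorem isIso_restrict_of_app_bijective {A B : X.Modules} (φ : A ⟶ B) (T : X.Opens)
    (h : ∀ T₁ : X.Opens, T₁ ≤ T → Function.Bijective (φ.app T₁)) :
    IsIso ((Scheme.Modules.restrictFunctor T.ι).map φ) := by
  rw [Scheme.Modules.Hom.isIso_iff_isIso_app]
  intro W
  rw [ConcreteCategory.isIso_iff_bijective]
  have hle : T.ι ''ᵁ W ≤ T := by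
    rintro _ ⟨z, -, rfl⟩
    exact z.2
  exact h (T.ι ''ᵁ W) hle

variable (H : X.Modules) (N' : Y.Modules) (α : N' ⟶ H.restrict j)

/-- the modification -/
noncomputable abbrev modObj : X.Modules :=
  Limits.pullback ((Scheme.Modules.pushforward j).map α)
    ((Scheme.Modules.restrictAdjunction j).unit.app H)

/-- the projection of the modification -/
noncomputable abbrev modπ : modObj j H N' α ⟶ H :=
  Limits.pullback.snd _ _

theorem isQuasicoherent_modObj [QuasiCompact j] [H.IsQuasicoherent] [N'.IsQuasicoherent] :
    (modObj j H N' α).IsQuasicoherent := by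
  haveI : ((Scheme.Modules.pushforward j).obj N').IsQuasicoherent :=
    QcohGlue.isQuasicoherent_pushforward j N'
  haveI : (H.restrict j).IsQuasicoherent := Scheme.Modules.isQuasicoherent_restrictFunctor j H
  haveI : ((Scheme.Modules.pushforward j).obj (H.restrict j)).IsQuasicoherent :=
    QcohGlue.isQuasicoherent_pushforward j _
  haveI : ((𝟭 X.Modules).obj H).IsQuasicoherent := ‹H.IsQuasicoherent›
  exact QcohLimits.isQuasicoherent_pullback _ _

/-- the restriction of the modification to `Y` is `N'` -/
theorem exists_modIso :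
    ∃ e : (modObj j H N' α).restrict j ≅ N',
      e.hom ≫ α = (Scheme.Modules.restrictFunctor j).map (modπ j H N' α) := by
  let R := Scheme.Modules.restrictFunctor j
  let P := Scheme.Modules.pushforward j
  let adj := Scheme.Modules.restrictAdjunction j
  let a : P.obj N' ⟶ P.obj (H.restrict j) := P.map α
  let b : H ⟶ P.obj (H.restrict j) := adj.unit.app H
  have hpb : IsPullback (R.map (Limits.pullback.fst a b)) (R.map (Limits.pullback.snd a b))
      (R.map a) (R.map b) := (IsPullback.of_hasPullback a b).map R
  have htri : R.map b ≫ adj.counit.app (R.obj H) = 𝟙 _ := adj.left_triangle_components H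
  haveI : IsIso (adj.counit.app (R.obj H)) := inferInstance
  haveI : IsIso (R.map b) := by
    have : R.map b = inv (adj.counit.app (R.obj H)) := by
      rw [← cancel_mono (adj.counit.app (R.obj H)), htri, IsIso.inv_hom_id]
    rw [this]; infer_instance
  have h1 : IsIso (R.map (Limits.pullback.fst a b)) := hpb.isIso_fst_of_isIso
  haveI : IsIso (adj.counit.app N') := inferInstance
  refine ⟨(@asIso _ _ _ _ (R.map (Limits.pullback.fst a b)) h1) ≪≫ asIso (adj.counit.app N'), ?_⟩
  have hnat : adj.counit.app N' ≫ α = R.map a ≫ adj.counit.app (R.obj H) :=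
    (adj.counit.naturality α).symm
  simp only [Iso.trans_hom, asIso_hom, Category.assoc]
  rw [hnat, ← Category.assoc, hpb.w, Category.assoc, htri, Category.comp_id]

/-- the projection is an isomorphism over `T` if `α` is one over `j⁻¹ T` -/
theorem isIso_restrict_modπ (T : X.Opens)
    [IsIso ((Scheme.Modules.restrictFunctor (j ⁻¹ᵁ T).ι).map α)] :
    IsIso ((Scheme.Modules.restrictFunctor T.ι).map (modπ j H N' α)) := by
  let RT := Scheme.Modules.restrictFunctor T.ι
  let P := Scheme.Modules.pushforward j
  let adj := Scheme.Modules.restrictAdjunction j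
  let a : P.obj N' ⟶ P.obj (H.restrict j) := P.map α
  let b : H ⟶ P.obj (H.restrict j) := adj.unit.app H
  have hpb : IsPullback (RT.map (Limits.pullback.fst a b)) (RT.map (Limits.pullback.snd a b))
      (RT.map a) (RT.map b) := (IsPullback.of_hasPullback a b).map RT
  haveI : IsIso (RT.map a) := by
    apply isIso_restrict_of_app_bijective
    intro T₁ hT₁
    have hle : j ⁻¹ᵁ T₁ ≤ j ⁻¹ᵁ T := fun _ hx => hT₁ hx
    exact SubExt.app_bijective_of_isIso_restrict α (j ⁻¹ᵁ T) (j ⁻¹ᵁ T₁) hle
  exact hpb.isIso_snd_of_isIso

end Groth.Agent.Helper2.FPExt
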