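import Mathlib

/-!
# Algebra for the finite presentation approximation
-/

set_option autoImplicit false
universe u

namespace Groth.Agent.Helper2.FPExt

open Submodule

section gens
variable {R : Type*} [CommRing R] (f : R) {A : Type*} [CommRing A] [Algebra R A]
  [IsLocalization.Away f A]
  {N Nf : Type*} [AddCommGroup N] [Module R N] [AddCommGroup Nf] [Module R Nf] [Module A Nf]
  [IsScalarTower R A Nf] (l : N →ₗ[R] Nf) [IsLocalizedModule (Submonoid.powers f) l]

include A in
/-- elements of `N` whose images span the localization span `N` up to powers of `f` -/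
theorem pow_smul_mem_span_of_span_eq_top (s : Set N)
    (hs : span A (l '' s) = ⊤) (y : N) : ∃ K : ℕ, f ^ K • y ∈ span R s := by
  have hy : l y ∈ span A (l '' s) := by rw [hs]; trivial
  obtain ⟨t, ht⟩ := multiple_mem_span_of_mem_localization_span (Submonoid.powers f) A
    (l '' s) (l y) hy
  rw [← Submodule.map_span] at ht
  obtain ⟨w, hw, hwe⟩ := ht
  obtain ⟨⟨_, a, rfl⟩, rfl⟩ : ∃ t' : Submonoid.powers f, t' = t := ⟨t, rfl⟩
  have h1 : l w = l (f ^ a • y) := by
    rw [hwe, map_smul]; rfl
  obtain ⟨⟨_, b, rfl⟩, hc⟩ := IsLocalizedModule.exists_of_eq (S := Submonoid.powers f) h1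
  refine ⟨b + a, ?_⟩
  have h2 : f ^ (b + a) • y = f ^ b • w := by
    rw [pow_add, mul_smul]
    exact hc.symm
  rw [h2]
  exact Submodule.smul_mem _ _ hw

include A l in
/-- finitely many elements of `N` generate the finite localization up to powers of `f` -/
theorem exists_gens_of_finite [Module.Finite A Nf] :
    ∃ (n : ℕ) (v : Fin n → N), ∀ y : N, ∃ K : ℕ, f ^ K • y ∈ span R (Set.range v) := by
  classical
  obtain ⟨n, g, hg⟩ := Module.Finite.exists_fin (R := A) (M := Nf)
  have hex : ∀ i, ∃ (w : N) (k : ℕ), f ^ k • g i = l w := by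
    intro i
    obtain ⟨⟨w, ⟨_, k, rfl⟩⟩, hw⟩ := IsLocalizedModule.surj (Submonoid.powers f) l (g i)
    exact ⟨w, k, hw⟩
  choose w k hw using hex
  refine ⟨n, w, fun y => pow_smul_mem_span_of_span_eq_top (A := A) f l (Set.range w) ?_ y⟩
  rw [eq_top_iff, ← hg, Submodule.span_le]
  rintro _ ⟨i, rfl⟩
  -- `g i = (1 / f ^ k i) • l (w i)`
  have hu : IsUnit (algebraMap R A (f ^ k i)) := by
    rw [map_pow]
    exact (IsLocalization.Away.algebraMap_isUnit (S := A) f).pow _
  obtain ⟨c, hc⟩ := hu.exists_left_inv
  have h2 : g i = c • l (w i) := by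
    rw [← hw i, ← algebraMap_smul A (f ^ k i) (g i), smul_smul, hc, one_smul]
  rw [h2]
  apply Submodule.smul_mem
  apply Submodule.subset_span
  rw [← Set.range_comp]
  exact ⟨i, rfl⟩

end gens

section rels
variable {R : Type u} [CommRing R] (f : R) {A : Type u} [CommRing A] [Algebra R A]
  [IsLocalization.Away f A]
  {N Nf : Type u} [AddCommGroup N] [Module R N] [AddCommGroup Nf] [Module R Nf] [Module A Nf]
  [IsScalarTower R A Nf] (l : N →ₗ[R] Nf) [IsLocalizedModule (Submonoid.powers f) l]

include A l in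
/-- finitely many relations generate the kernel up to powers of `f`, if the localization is
finitely presented -/
theorem exists_rels_of_finitePresentation [Module.FinitePresentation A Nf]
    {M : Type u} [AddCommGroup M] [Module R M] [Module.Finite R M] (π : M →ₗ[R] N)
    (hπ : ∀ y : N, ∃ (K : ℕ) (x : M), f ^ K • y = π x) :
    ∃ (n : ℕ) (w : Fin n → M), (∀ i, π (w i) = 0) ∧
      ∀ x : M, π x = 0 → ∃ K : ℕ, f ^ K • x ∈ span R (Set.range w) := by
  classical
  let p := Submonoid.powers f
  let φ : M →ₗ[R] TensorProduct R A M := TensorProduct.mk R A M 1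
  haveI : IsLocalizedModule p φ := inferInstance
  let πf : TensorProduct R A M →ₗ[A] Nf :=
    (IsLocalizedModule.map p φ l π).extendScalarsOfIsLocalization p A
  have hπf : ∀ x, πf (φ x) = l (π x) := fun x => IsLocalizedModule.map_apply p φ l π x
  have hsurj : Function.Surjective πf := by
    intro z
    obtain ⟨⟨y, ⟨_, k, rfl⟩⟩, hy⟩ := IsLocalizedModule.surj p l z
    obtain ⟨K, x, hx⟩ := hπ y
    have hu : IsUnit (algebraMap R A (f ^ (K + k))) := by
      rw [map_pow]
      exact (IsLocalization.Away.algebraMap_isUnit (S := A) f).pow _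
    obtain ⟨c, hc⟩ := hu.exists_left_inv
    refine ⟨c • φ x, ?_⟩
    rw [map_smul, hπf, ← hx, map_smul]
    have h3 : (f ^ k) • z = l y := hy
    rw [← h3, smul_smul, ← pow_add, ← algebraMap_smul A (f ^ (K + k)) z, smul_smul, hc, one_smul]
  have hfg : (LinearMap.ker πf).FG := Module.FinitePresentation.fg_ker πf hsurj
  have hker : (LinearMap.ker π).localized' A p φ = LinearMap.ker πf :=
    LinearMap.localized'_ker_eq_ker_localizedMap A p φ l π
  -- the localization map of the kernel
  let KA : Submodule A (TensorProduct R A M) := (LinearMap.ker π).localized' A p φ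
  let lk : LinearMap.ker π →ₗ[R] KA := Submodule.toLocalized' A p φ (LinearMap.ker π)
  haveI hlk : IsLocalizedModule p lk := inferInstance
  have hfg' : KA.FG := by
    show ((LinearMap.ker π).localized' A p φ).FG
    rw [hker]; exact hfg
  haveI : Module.Finite A KA := Module.Finite.iff_fg.2 hfg'
  obtain ⟨n, v, hv⟩ := exists_gens_of_finite (A := A) (N := LinearMap.ker π) (Nf := KA) f lk
  refine ⟨n, fun i => (v i : M), fun i => (v i).2, fun x hx => ?_⟩
  obtain ⟨K, hK⟩ := hv ⟨x, hx⟩
  refine ⟨K, ?_⟩
  have h4 : ((f ^ K • (⟨x, hx⟩ : LinearMap.ker π) : LinearMap.ker π) : M) ∈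
      Submodule.map (LinearMap.ker π).subtype (span R (Set.range v)) := ⟨_, hK, rfl⟩
  rw [Submodule.map_span, ← Set.range_comp] at h4
  exact h4

end rels

section bij
variable {R : Type*} [CommRing R] (S : Submonoid R)
  {M N M' N' : Type*} [AddCommGroup M] [AddCommGroup N] [AddCommGroup M'] [AddCommGroup N']
  [Module R M] [Module R N] [Module R M'] [Module R N']

/-- bijectivity criterion for a localized map -/
theorem bijective_of_localized' (a : M →ₗ[R] M') [IsLocalizedModule S a] (b : N →ₗ[R] N')
    [IsLocalizedModule S b] (i : M →ₗ[R] N)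
    (hinj : ∀ m : M, i m = 0 → ∃ s : S, s • m = 0)
    (hsurj : ∀ n : N, ∃ (s : S) (m : M), s • n = i m)
    (g : M' →ₗ[R] N') (hg : ∀ m, g (a m) = b (i m)) : Function.Bijective g := by
  have hgmap : g = IsLocalizedModule.map S a b i := by
    apply IsLocalizedModule.linearMap_ext S a b
    rw [IsLocalizedModule.map_comp]
    ext m
    exact hg m
  constructor
  · rw [← LinearMap.ker_eq_bot, LinearMap.ker_eq_bot']
    intro x hx
    obtain ⟨⟨m, s⟩, hm⟩ := IsLocalizedModule.surj S a x
    have h1 : b (i m) = 0 := by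
      rw [← hg, ← hm, LinearMap.map_smul_of_tower, hx, smul_zero]
    obtain ⟨c, hc⟩ := (IsLocalizedModule.eq_zero_iff S b).1 h1
    have h2 : i (c • m) = 0 := by
      rw [LinearMap.map_smul_of_tower]; exact hc
    obtain ⟨d, hd⟩ := hinj _ h2
    have h3 : a m = 0 := by
      rw [IsLocalizedModule.eq_zero_iff S a]
      exact ⟨d * c, by rw [mul_smul]; exact hd⟩
    have h4 : s • x = 0 := by rw [hm, h3]
    have hu := IsLocalizedModule.map_units a s
    have hinj' := ((Module.End.isUnit_iff _).1 hu).injective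
    apply hinj'
    rw [map_zero]
    exact h4
  · intro y
    obtain ⟨⟨n, s⟩, hn⟩ := IsLocalizedModule.surj S b y
    obtain ⟨t, m, htm⟩ := hsurj n
    have hu := IsLocalizedModule.map_units a (t * s)
    obtain ⟨x, hx⟩ := ((Module.End.isUnit_iff _).1 hu).surjective (a m)
    refine ⟨x, ?_⟩
    have hu' := IsLocalizedModule.map_units b (t * s)
    apply ((Module.End.isUnit_iff _).1 hu').injective
    have h5 : (t * s) • g x = g ((t * s) • x) := (LinearMap.map_smul_of_tower g (t * s) x).symm
    have h6 : (t * s) • x = a m := hx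
    change (t * s) • g x = (t * s) • y
    rw [h5, h6, hg, ← htm, LinearMap.map_smul_of_tower, mul_smul, hn]

end bij

end Groth.Agent.Helper2.FPExt
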