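import Mathlib
import Groth.Agent.Helper4.SubExt2
import Groth.Agent.Helper4.FPGlue

/-!
# Finite presentation of the sections over the affine opens inside an open
(mirror of `Groth.Agent.Helper4.SubExt.FinOn`)
-/

set_option autoImplicit false
universe u
open CategoryTheory CategoryTheory.Limits AlgebraicGeometry TopologicalSpace Opposite

noncomputable section

namespace Groth.Agent.Helper2.FPExt

open Groth.Agent.Helper4 Groth.Agent.Helper4.SubExt

variable {X Y : Scheme.{u}} (j : Y ⟶ X) [IsOpenImmersion j]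

set_option backward.isDefEq.respectTransparency false in
open Classical in
theorem fp_restrict_iff (M : X.Modules) (T' : Y.Opens) :
    Module.FinitePresentation Γ(Y, T') Γ(M.restrict j, T') ↔
      Module.FinitePresentation Γ(X, j ''ᵁ T') Γ(M, j ''ᵁ T') := by
  let σ : Γ(Y, T') →+* Γ(X, j ''ᵁ T') := (j.appIso T').inv.hom
  let τ : Γ(X, j ''ᵁ T') →+* Γ(Y, T') := (j.appIso T').hom.hom
  have hστ : ∀ r, σ (τ r) = r := fun r => by
    change ((j.appIso T').hom ≫ (j.appIso T').inv).hom r = r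
    rw [Iso.hom_inv_id]; rfl
  have hτσ : ∀ r, τ (σ r) = r := fun r => by
    change ((j.appIso T').inv ≫ (j.appIso T').hom).hom r = r
    rw [Iso.inv_hom_id]; rfl
  letI : Algebra Γ(Y, T') Γ(X, j ''ᵁ T') := σ.toAlgebra
  have halg : ∀ r : Γ(Y, T'), algebraMap Γ(Y, T') Γ(X, j ''ᵁ T') r = σ r := fun _ => rfl
  letI : Module Γ(Y, T') Γ(M, j ''ᵁ T') :=
    inferInstanceAs (Module Γ(Y, T') Γ(M.restrict j, T'))
  haveI : IsScalarTower Γ(Y, T') Γ(X, j ''ᵁ T') Γ(M, j ''ᵁ T') := by
    constructor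
    intro a b p
    change (σ a * b) • p = (show Γ(M.restrict j, T') from a • (show Γ(M.restrict j, T') from b • p))
    rw [smul_restrict_eq, mul_smul]
  have hbij : Function.Bijective (Algebra.linearMap Γ(Y, T') Γ(X, j ''ᵁ T')) :=
    ⟨fun a b h => by
      have := congrArg τ h
      simpa [Algebra.linearMap_apply, halg, hτσ] using this,
     fun r => ⟨τ r, by simp [Algebra.linearMap_apply, halg, hστ]⟩⟩
  let e : Γ(Y, T') ≃ₗ[Γ(Y, T')] Γ(X, j ''ᵁ T') := LinearEquiv.ofBijective _ hbij
  haveI : Module.FinitePresentation Γ(Y, T') Γ(X, j ''ᵁ T') :=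
    Module.FinitePresentation.of_equiv e
  haveI : Module.Finite Γ(Y, T') Γ(X, j ''ᵁ T') := Module.Finite.equiv e
  constructor
  · intro h
    haveI : Module.FinitePresentation Γ(Y, T') Γ(M, j ''ᵁ T') := h
    exact FPGlue.finitePresentation_of_restrictScalars Γ(Y, T') Γ(X, j ''ᵁ T') Γ(M, j ''ᵁ T')
  · intro h
    haveI := h
    exact Module.FinitePresentation.trans Γ(Y, T') Γ(M, j ''ᵁ T') Γ(X, j ''ᵁ T')

/-- finitely presented sections over all affine opens inside `V` -/
def FPOn (H : X.Modules) (V : X.Opens) : Prop :=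
  ∀ T : X.Opens, IsAffineOpen T → T ≤ V → Module.FinitePresentation Γ(X, T) Γ(H, T)

theorem FPOn.mono {H : X.Modules} {V V' : X.Opens} (h : FPOn H V) (hle : V' ≤ V) : FPOn H V' :=
  fun T hT hTV => h T hT (hTV.trans hle)

/-- local criterion for the restriction of a quasi-coherent module to be finitely presented -/
theorem isFP_restrict_of_local (H : X.Modules) [H.IsQuasicoherent]
    (h : ∀ y : Y, ∃ D : X.Opens, IsAffineOpen D ∧ j y ∈ D ∧ D ≤ j.opensRange ∧
      Module.FinitePresentation Γ(X, D) Γ(H, D)) :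
    SheafOfModules.IsFinitePresentation (R := Y.ringCatSheaf) (H.restrict j) := by
  haveI : (H.restrict j).IsQuasicoherent := inferInstance
  apply FPGlue.isFinitePresentation_of_fp_sections
  intro y
  obtain ⟨D, hD, hyD, hDle, hfin⟩ := h y
  refine ⟨j ⁻¹ᵁ D, isAffineOpen_preimage_of_le j hD hDle, hyD, ?_⟩
  rw [fp_restrict_iff, image_preimage_of_le j hDle]
  exact hfin

theorem fpOn_of_isFP_restrict (H : X.Modules) [H.IsQuasicoherent]
    (h : SheafOfModules.IsFinitePresentation (R := Y.ringCatSheaf) (H.restrict j)) :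
    FPOn H j.opensRange := by
  intro T hT hle
  haveI : (H.restrict j).IsQuasicoherent := inferInstance
  have h1 := FPGlue.fp_sections (H.restrict j) h (isAffineOpen_preimage_of_le j hT hle)
  rw [fp_restrict_iff, image_preimage_of_le j hle] at h1
  exact h1

theorem isFP_restrict_of_fpOn (H : X.Modules) [H.IsQuasicoherent] {V : X.Opens}
    (h : FPOn H V) (hj : j.opensRange ≤ V) :
    SheafOfModules.IsFinitePresentation (R := Y.ringCatSheaf) (H.restrict j) := by
  apply isFP_restrict_of_local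
  intro y
  obtain ⟨D, hD, hyD, hDle⟩ := FinLocFree2.exists_affine_nhd_le (j y) j.opensRange ⟨y, rfl⟩
  exact ⟨D, hD, hyD, hDle, h D hD (hDle.trans hj)⟩

theorem FPOn.sup {H : X.Modules} [H.IsQuasicoherent] {V₁ V₂ : X.Opens} (h1 : FPOn H V₁)
    (h2 : FPOn H V₂) : FPOn H (V₁ ⊔ V₂) := by
  intro T hT hle
  have hr : T.ι.opensRange = T := Scheme.Opens.opensRange_ι T
  have hFP : SheafOfModules.IsFinitePresentation (R := (T : Scheme.{u}).ringCatSheaf)
      (H.restrict T.ι) := by
    apply isFP_restrict_of_local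
    intro y
    have hy : (T.ι y) ∈ V₁ ⊔ V₂ := hle y.2
    rcases hy with hy | hy
    · obtain ⟨D, hD, hyD, hDle⟩ := FinLocFree2.exists_affine_nhd_le (T.ι y) (V₁ ⊓ T) ⟨hy, y.2⟩
      exact ⟨D, hD, hyD, hr.ge.trans' (hDle.trans inf_le_right), h1 D hD (hDle.trans inf_le_left)⟩
    · obtain ⟨D, hD, hyD, hDle⟩ := FinLocFree2.exists_affine_nhd_le (T.ι y) (V₂ ⊓ T) ⟨hy, y.2⟩
      exact ⟨D, hD, hyD, hr.ge.trans' (hDle.trans inf_le_right), h2 D hD (hDle.trans inf_le_left)⟩
  exact fpOn_of_isFP_restrict T.ι H hFP T hT hr.ge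

theorem FPOn.of_bijective {H H' : X.Modules} (m : H' ⟶ H) {V : X.Opens}
    (hbij : ∀ T : X.Opens, T ≤ V → Function.Bijective (m.app T)) (h : FPOn H V) :
    FPOn H' V := by
  intro T hT hle
  haveI := h T hT hle
  exact Module.FinitePresentation.of_equiv
    (LinearEquiv.ofBijective (QcohEpi.appLin m T) (hbij T hle)).symm

theorem isFP_of_fpOn_top (H : X.Modules) [H.IsQuasicoherent] (h : FPOn H ⊤) :
    SheafOfModules.IsFinitePresentation (R := X.ringCatSheaf) H := by
  apply FPGlue.isFinitePresentation_of_fp_sections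
  intro x
  obtain ⟨D, hD, hxD⟩ := QcohLimits.exists_affine_nhd x
  exact ⟨D, hD, hxD, h D hD le_top⟩

theorem fpOn_top_of_isFP (H : X.Modules)
    (h : SheafOfModules.IsFinitePresentation (R := X.ringCatSheaf) H) : FPOn H ⊤ :=
  fun _ hT _ => FPGlue.fp_sections H h hT

end Groth.Agent.Helper2.FPExt

end
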