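import Mathlib
import Groth.Agent.Helper2.FPExt2
import Groth.Agent.Helper2.FPExt3
import Groth.Agent.Helper4.CohExt
import Groth.Agent.Helper4.QcohLocal

/-!
# Finitely presented approximation of a module on an affine scheme over a quasi-compact open
-/

set_option autoImplicit false
universe u
open CategoryTheory CategoryTheory.Limits AlgebraicGeometry TopologicalSpace Opposite

noncomputable section

namespace Groth.Agent.Helper2.FPExt

open Groth.Agent.Helper4 Groth.Agent.Helper4.SubExt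

theorem tilde_map_app_bijective' (R : CommRingCat.{u}) {M N : ModuleCat.{u} R} (i : M ⟶ N)
    (f : R) (hinj : ∀ m : M, i.hom m = 0 → ∃ K : ℕ, f ^ K • m = 0)
    (hf : ∀ y : N, ∃ (K : ℕ) (m : M), f ^ K • y = i.hom m) :
    Function.Bijective ((tilde.map i).app (PrimeSpectrum.basicOpen f)) := by
  have hcomm := tilde.toOpen_map_app i (PrimeSpectrum.basicOpen f)
  exact bijective_of_localized' (Submonoid.powers f)
    (tilde.toOpen M (PrimeSpectrum.basicOpen f)).hom
    (tilde.toOpen N (PrimeSpectrum.basicOpen f)).hom i.hom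
    (by
      intro m hm
      obtain ⟨K, hK⟩ := hinj m hm
      exact ⟨⟨f ^ K, K, rfl⟩, hK⟩)
    (by
      intro n
      obtain ⟨K, m, hK⟩ := hf n
      exact ⟨⟨f ^ K, K, rfl⟩, m, hK⟩)
    ((modulesSpecToSheaf.map (tilde.map i)).1.app (op (PrimeSpectrum.basicOpen f))).hom
    (by
      intro m
      exact congrArg (fun φ => φ.hom m) hcomm)

theorem isAffineOpen_basicOpen (R : CommRingCat.{u}) (f : R) :
    IsAffineOpen (show (Spec R).Opens from PrimeSpectrum.basicOpen f) := by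
  have hD : (show (Spec R).Opens from PrimeSpectrum.basicOpen f) =
      (Spec R).basicOpen ((Scheme.ΓSpecIso R).inv f) := (basicOpen_eq_of_affine f).symm
  rw [hD]
  exact (isAffineOpen_top (Spec R)).basicOpen _

/-- basic opens as opens of the scheme -/
abbrev DD (R : CommRingCat.{u}) (g : R) : (Spec R).Opens := PrimeSpectrum.basicOpen g

set_option maxHeartbeats 800000 in
theorem exists_fp_approx (R : CommRingCat.{u}) (W : (Spec R).Opens)
    (hW : IsCompact (W : Set (Spec R))) (N : ModuleCat.{u} R)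
    (hFP : SheafOfModules.IsFinitePresentation (R := (W : Scheme.{u}).ringCatSheaf)
      ((tilde N).restrict W.ι)) {n₀ : ℕ} (v₀ : Fin n₀ → N) :
    ∃ (N' : ModuleCat.{u} R) (β : N' ⟶ N), Module.FinitePresentation R N' ∧
      IsIso ((Scheme.Modules.restrictFunctor W.ι).map (tilde.map β)) ∧
      ∀ i, v₀ i ∈ LinearMap.range β.hom := by
  classical
  have key : ∀ x : W, ∃ f : R, x.1 ∈ DD R f ∧ DD R f ≤ W := by
    intro x
    obtain ⟨_, ⟨f, rfl⟩, hxf, hfW⟩ :=
      (Opens.isBasis_iff_nbhd.1 PrimeSpectrum.isBasis_basic_opens) x.2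
    exact ⟨f, hxf, hfW⟩
  choose f hxf hfW using key
  have hfon : FPOn (tilde N) W := by
    have := fpOn_of_isFP_restrict W.ι (tilde N) hFP
    rwa [Scheme.Opens.opensRange_ι] at this
  have hfp : ∀ x : W, Module.FinitePresentation Γ(Spec R, DD R (f x)) Γ(tilde N, DD R (f x)) :=
    fun x => hfon _ (isAffineOpen_basicOpen R (f x)) (hfW x)
  obtain ⟨t, ht⟩ := hW.elim_nhds_subcover'
    (fun x hx => (SetLike.coe (DD R (f ⟨x, hx⟩)) : Set (Spec R)))
    (fun x hx => (DD R (f ⟨x, hx⟩)).isOpen.mem_nhds (hxf ⟨x, hx⟩))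
  -- generators
  have hgens : ∀ x : W, ∃ (n : ℕ) (v : Fin n → N), ∀ y : N, ∃ K : ℕ,
      (f x) ^ K • y ∈ Submodule.span R (Set.range v) := by
    intro x
    haveI := hfp x
    haveI : Module.Finite Γ(Spec R, DD R (f x)) Γ(tilde N, DD R (f x)) := inferInstance
    let l : N →ₗ[R] Γ(tilde N, DD R (f x)) := (tilde.toOpen N (DD R (f x))).hom
    haveI : IsLocalizedModule (Submonoid.powers (f x)) l :=
      inferInstanceAs (IsLocalizedModule (Submonoid.powers (f x)) (tilde.toOpen N (DD R (f x))).hom)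
    exact exists_gens_of_finite (A := Γ(Spec R, DD R (f x))) (f x) l
  choose n v hv using hgens
  let ι : Type u := (Σ x : {x // x ∈ t}, Fin (n x.1)) ⊕ ULift.{u} (Fin n₀)
  let vv : ι → N := Sum.elim (fun p => v p.1.1 p.2) (fun i => v₀ i.down)
  let M : Type u := ι →₀ R
  let π : M →ₗ[R] N := Finsupp.linearCombination R vv
  have hrange : LinearMap.range π = Submodule.span R (Set.range vv) :=
    Finsupp.range_linearCombination R
  have hπ : ∀ x : {x // x ∈ t}, ∀ y : N, ∃ (K : ℕ) (z : M), (f x.1) ^ K • y = π z := by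
    intro x y
    obtain ⟨K, hK⟩ := hv x.1 y
    have h1 : (f x.1) ^ K • y ∈ LinearMap.range π := by
      rw [hrange]
      refine Submodule.span_mono ?_ hK
      rintro _ ⟨i, rfl⟩
      exact ⟨Sum.inl ⟨x, i⟩, rfl⟩
    obtain ⟨z, hz⟩ := h1
    exact ⟨K, z, hz.symm⟩
  -- relations
  have hrels : ∀ x : {x // x ∈ t}, ∃ (m : ℕ) (w : Fin m → M), (∀ i, π (w i) = 0) ∧
      ∀ z : M, π z = 0 → ∃ K : ℕ, (f x.1) ^ K • z ∈ Submodule.span R (Set.range w) := by
    intro x
    haveI := hfp x.1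
    let l : N →ₗ[R] Γ(tilde N, DD R (f x.1)) := (tilde.toOpen N (DD R (f x.1))).hom
    haveI : IsLocalizedModule (Submonoid.powers (f x.1)) l :=
      inferInstanceAs (IsLocalizedModule (Submonoid.powers (f x.1))
        (tilde.toOpen N (DD R (f x.1))).hom)
    haveI : IsScalarTower R Γ(Spec R, DD R (f x.1)) Γ(tilde N, DD R (f x.1)) := inferInstance
    exact exists_rels_of_finitePresentation (A := Γ(Spec R, DD R (f x.1))) (f x.1) l π (hπ x)
  choose m w hw0 hw using hrels
  let K₀ : Submodule R M := Submodule.span R (⋃ x : {x // x ∈ t}, Set.range (w x))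
  have hK₀fg : K₀.FG :=
    Submodule.fg_span (Set.finite_iUnion fun _ => Set.finite_range _)
  have hK₀le : K₀ ≤ LinearMap.ker π := by
    apply Submodule.span_le.2
    rintro _ ⟨_, ⟨x, rfl⟩, ⟨i, rfl⟩⟩
    exact hw0 x i
  let β₀ : (M ⧸ K₀) →ₗ[R] N := K₀.liftQ π hK₀le
  let N' : ModuleCat.{u} R := ModuleCat.of R (M ⧸ K₀)
  let β : N' ⟶ N := ModuleCat.ofHom β₀
  have hfpN' : Module.FinitePresentation R (M ⧸ K₀) := by
    refine Module.finitePresentation_of_free_of_surjective K₀.mkQ (Submodule.mkQ_surjective K₀) ?_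
    rw [Submodule.ker_mkQ]; exact hK₀fg
  have hbij : ∀ x : {x // x ∈ t}, ∀ W' : (Spec R).Opens, W' = DD R (f x.1) →
      Function.Bijective ((tilde.map β).app W') := by
    rintro x _ rfl
    apply tilde_map_app_bijective' R β (f x.1)
    · intro q hq
      obtain ⟨z, rfl⟩ := Submodule.mkQ_surjective K₀ q
      have hz : π z = 0 := hq
      obtain ⟨K, hK⟩ := hw x z hz
      refine ⟨K, ?_⟩
      have h2 : (f x.1) ^ K • z ∈ K₀ := by
        refine Submodule.span_mono ?_ hK
        exact Set.subset_iUnion (fun x : {x // x ∈ t} => Set.range (w x)) x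
      have h3 : K₀.mkQ ((f x.1) ^ K • z) = 0 := (Submodule.Quotient.mk_eq_zero K₀).2 h2
      rw [map_smul] at h3
      exact h3
    · intro y
      obtain ⟨K, z, hz⟩ := hπ x y
      exact ⟨K, K₀.mkQ z, hz⟩
  refine ⟨N', β, hfpN', ?_, ?_⟩
  · apply QcohLocal.isIso_of_app_bijective_of_affine_cover
    intro x
    obtain ⟨_, ⟨x₀, rfl⟩, _, ⟨hx₀, rfl⟩, hxx₀⟩ := ht x.2
    have himg : W.ι ''ᵁ (W.ι ⁻¹ᵁ (DD R (f x₀))) = DD R (f x₀) := by
      rw [Scheme.Hom.image_preimage_eq_opensRange_inf, Scheme.Opens.opensRange_ι]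
      exact inf_eq_right.mpr (hfW x₀)
    refine ⟨W.ι ⁻¹ᵁ (DD R (f x₀)), ?_, hxx₀, ?_⟩
    · rw [← Scheme.Hom.isAffineOpen_iff_of_isOpenImmersion W.ι, himg]
      exact isAffineOpen_basicOpen R (f x₀)
    · exact hbij ⟨x₀, hx₀⟩ _ himg
  · intro i
    refine ⟨K₀.mkQ (Finsupp.single (Sum.inr ⟨i⟩) 1), ?_⟩
    change π (Finsupp.single (Sum.inr ⟨i⟩) 1) = v₀ i
    rw [Finsupp.linearCombination_single, one_smul]
    rfl

end Groth.Agent.Helper2.FPExt

end
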