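import Mathlib
import Groth.Agent.Helper2.FPExt1
import Groth.Agent.Helper2.FPExt4
import Groth.Agent.S9827

/-!
# One step of the finitely presented extension
-/

set_option autoImplicit false
universe u
open CategoryTheory CategoryTheory.Limits AlgebraicGeometry TopologicalSpace Opposite

noncomputable section

namespace Groth.Agent.Helper2.FPExt

open Groth.Agent.Helper4 Groth.Agent.Helper4.SubExt

variable {X : Scheme.{u}}

theorem isFP_of_iso {Y : Scheme.{u}} {M N : Y.Modules} (e : M ≅ N)
    (h : SheafOfModules.IsFinitePresentation (R := Y.ringCatSheaf) M) :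
    SheafOfModules.IsFinitePresentation (R := Y.ringCatSheaf) N :=
  (SheafOfModules.isFinitePresentation Y.ringCatSheaf).prop_of_iso e h

/-- the preimage of a quasi-compact open under an open immersion from a quasi-compact scheme into
a quasi-separated scheme is quasi-compact -/
theorem isCompact_preimage [QuasiSeparatedSpace X] {Y : Scheme.{u}} (j : Y ⟶ X)
    [IsOpenImmersion j] [CompactSpace Y] (U : X.Opens) (hU : IsCompact (U : Set X)) :
    IsCompact ((j ⁻¹ᵁ U : Y.Opens) : Set Y) := by
  have h1 : IsCompact ((U ⊓ j.opensRange : X.Opens) : Set X) := by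
    apply QuasiSeparatedSpace.inter_isCompact _ _ U.isOpen hU j.opensRange.isOpen
    rw [Scheme.Hom.coe_opensRange]
    exact isCompact_range j.continuous
  have h2 : (j ⁻¹ᵁ U : Set Y) = j ⁻¹' ((U ⊓ j.opensRange : X.Opens) : Set X) := by
    ext y
    simp only [Opens.map_coe, Set.mem_preimage, SetLike.mem_coe, Opens.coe_inf, Set.mem_inter_iff,
      Scheme.Hom.coe_opensRange, Set.mem_range, exists_apply_eq_apply, and_true]
  rw [h2]
  exact j.isOpenEmbedding.isInducing.isCompact_preimage'
    h1 (by rw [Opens.coe_inf, Scheme.Hom.coe_opensRange]; exact Set.inter_subset_right)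

set_option maxHeartbeats 800000 in
/-- one step: make `H` finitely presented over one more affine open, without changing it over
`U` -/
theorem step [QuasiSeparatedSpace X] (H : X.Modules) [H.IsQuasicoherent] (U : X.Opens)
    (hU : IsCompact (U : Set X)) (hfp : FPOn H U) (V : X.Opens) (hV : IsAffineOpen V) :
    ∃ (H' : X.Modules) (m : H' ⟶ H), H'.IsQuasicoherent ∧ FPOn H' (U ⊔ V) ∧
      IsIso ((Scheme.Modules.restrictFunctor U.ι).map m) := by
  let R : CommRingCat.{u} := Γ(X, V)
  let j : Spec R ⟶ X := hV.fromSpec
  have hrange : j.opensRange = V := hV.opensRange_fromSpec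
  haveI : QuasiCompact j := inferInstance
  let N₁ : (Spec R).Modules := H.restrict j
  haveI : N₁.IsQuasicoherent := inferInstance
  haveI : IsIso N₁.fromTildeΓ := inferInstance
  let N : ModuleCat.{u} R := (modulesSpecToSheaf.obj N₁).presheaf.obj (op ⊤)
  let ε : tilde N ≅ N₁ := asIso N₁.fromTildeΓ
  let W : (Spec R).Opens := j ⁻¹ᵁ U
  have hW : IsCompact (W : Set (Spec R)) := isCompact_preimage j U hU
  have hFP1 : SheafOfModules.IsFinitePresentation (R := (W : Scheme.{u}).ringCatSheaf)
      (N₁.restrict W.ι) := by
    have h0 := isFP_restrict_of_fpOn (W.ι ≫ j) H hfp (opensRange_ι_comp_le j U)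
    exact isFP_of_iso ((Scheme.Modules.restrictFunctorComp W.ι j).app H) h0
  have hFP : SheafOfModules.IsFinitePresentation (R := (W : Scheme.{u}).ringCatSheaf)
      ((tilde N).restrict W.ι) :=
    isFP_of_iso ((Scheme.Modules.restrictFunctor W.ι).mapIso ε).symm hFP1
  obtain ⟨N', β, hN', hiso, -⟩ := exists_fp_approx R W hW N hFP (n₀ := 0) Fin.elim0
  let α : tilde N' ⟶ H.restrict j := tilde.map β ≫ ε.hom
  haveI : IsIso ((Scheme.Modules.restrictFunctor (j ⁻¹ᵁ U).ι).map α) := by
    change IsIso ((Scheme.Modules.restrictFunctor W.ι).map (tilde.map β ≫ ε.hom))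
    rw [Functor.map_comp]
    infer_instance
  haveI : (tilde N').IsQuasicoherent := inferInstance
  refine ⟨modObj j H (tilde N') α, modπ j H (tilde N') α,
    isQuasicoherent_modObj j H (tilde N') α, ?_, isIso_restrict_modπ j H (tilde N') α U⟩
  haveI := isQuasicoherent_modObj j H (tilde N') α
  haveI := isIso_restrict_modπ j H (tilde N') α U
  apply FPOn.sup
  · exact FPOn.of_bijective (modπ j H (tilde N') α)
      (fun T hT => app_bijective_of_isIso_restrict (modπ j H (tilde N') α) U T hT) hfp
  · obtain ⟨e, -⟩ := exists_modIso j H (tilde N') α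
    have h1 : SheafOfModules.IsFinitePresentation (R := (Spec R).ringCatSheaf) (tilde N') :=
      (Groth.Agent.S9827.result R N').2 hN'
    have h2 := fpOn_of_isFP_restrict j (modObj j H (tilde N') α) (isFP_of_iso e.symm h1)
    rwa [hrange] at h2

end Groth.Agent.Helper2.FPExt

end
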