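import Mathlib
import Groth.Agent.Helper2.FPExt5

/-!
# Extension of finitely presented modules with a map (Stacks 01PI)
-/

set_option autoImplicit false
universe u
open CategoryTheory CategoryTheory.Limits AlgebraicGeometry TopologicalSpace Opposite

noncomputable section

namespace Groth.Agent.Helper2.FPExt

open Groth.Agent.Helper4 Groth.Agent.Helper4.SubExt

variable {X Y : Scheme.{u}}

theorem isIso_restrict_of_le {A B : X.Modules} (φ : A ⟶ B) {U U₁ : X.Opens} (hle : U ≤ U₁)
    [IsIso ((Scheme.Modules.restrictFunctor U₁.ι).map φ)] :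
    IsIso ((Scheme.Modules.restrictFunctor U.ι).map φ) :=
  isIso_restrict_of_app_bijective φ U
    (fun T hT => app_bijective_of_isIso_restrict φ U₁ T (hT.trans hle))

theorem steps [QuasiSeparatedSpace X] (s : Finset X.affineOpens) :
    ∀ (H : X.Modules) (_ : H.IsQuasicoherent) (U : X.Opens), IsCompact (U : Set X) → FPOn H U →
      ∃ (H' : X.Modules) (m : H' ⟶ H), H'.IsQuasicoherent ∧
        FPOn H' (U ⊔ ⨆ W ∈ s, (W : X.Opens)) ∧
        IsIso ((Scheme.Modules.restrictFunctor U.ι).map m) := by
  classical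
  induction s using Finset.induction_on with
  | empty =>
    intro H hH U hU hfp
    refine ⟨H, 𝟙 H, hH, hfp.mono (by simp), ?_⟩
    rw [CategoryTheory.Functor.map_id]
    infer_instance
  | insert W s hWs ih =>
    intro H hH U hU hfp
    haveI := hH
    obtain ⟨H₁, m₁, hq₁, hfp₁, hiso₁⟩ := step H U hU hfp W.1 W.2
    have hUW : IsCompact ((U ⊔ W.1 : X.Opens) : Set X) := by
      have : ((U ⊔ W.1 : X.Opens) : Set X) = (U : Set X) ∪ (W.1 : Set X) := rfl
      rw [this]
      exact hU.union W.2.isCompact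
    obtain ⟨H₂, m₂, hq₂, hfp₂, hiso₂⟩ := ih H₁ hq₁ (U ⊔ W.1) hUW hfp₁
    refine ⟨H₂, m₂ ≫ m₁, hq₂, hfp₂.mono ?_, ?_⟩
    · rw [Finset.iSup_insert, sup_assoc]
    · haveI := hiso₁
      haveI := hiso₂
      haveI : IsIso ((Scheme.Modules.restrictFunctor U.ι).map m₂) :=
        isIso_restrict_of_le m₂ (le_sup_left : U ≤ U ⊔ W.1)
      rw [CategoryTheory.Functor.map_comp]
      infer_instance

/-- **extension of a finitely presented module with a map** on a qcqs scheme, for an arbitrary open
immersion with quasi-compact source -/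
theorem exists_fp_extension [CompactSpace X] [QuasiSeparatedSpace X] (j : Y ⟶ X)
    [IsOpenImmersion j] [CompactSpace Y] (F : X.Modules) [F.IsQuasicoherent] (G : Y.Modules)
    (hG : SheafOfModules.IsFinitePresentation (R := Y.ringCatSheaf) G) (φ : G ⟶ F.restrict j) :
    ∃ (G' : X.Modules) (φ' : G' ⟶ F) (e : G'.restrict j ≅ G),
      SheafOfModules.IsFinitePresentation (R := X.ringCatSheaf) G' ∧
      e.hom ≫ φ = (Scheme.Modules.restrictFunctor j).map φ' := by
  haveI : QuasiCompact j := inferInstance
  haveI := hG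
  haveI : G.IsQuasicoherent := inferInstance
  haveI hq₀ : (modObj j F G φ).IsQuasicoherent := isQuasicoherent_modObj j F G φ
  obtain ⟨e₀, he₀⟩ := exists_modIso j F G φ
  have hfp₀ : FPOn (modObj j F G φ) j.opensRange :=
    fpOn_of_isFP_restrict j _ (isFP_of_iso e₀.symm hG)
  have hcomp : IsCompact ((j.opensRange : X.Opens) : Set X) := by
    have : ((j.opensRange : X.Opens) : Set X) = Set.range j := rfl
    rw [this]
    exact isCompact_range j.continuous
  obtain ⟨s, hs, htop⟩ := isCompact_iff_finite_and_eq_biUnion_affineOpens.mp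
    (show IsCompact ((⊤ : X.Opens) : Set X) from isCompact_univ)
  obtain ⟨G', m, hq, hfp, hiso⟩ :=
    steps hs.toFinset (modObj j F G φ) hq₀ j.opensRange hcomp hfp₀
  have hfp' : FPOn G' ⊤ := by
    refine hfp.mono ?_
    rw [htop]
    refine le_sup_of_le_right ?_
    simp only [Set.Finite.mem_toFinset]
    exact le_rfl
  haveI := hq
  haveI := hiso
  -- `m` is an isomorphism after restriction along `j`
  haveI : IsIso ((Scheme.Modules.restrictFunctor j).map m) := by
    rw [Scheme.Modules.Hom.isIso_iff_isIso_app]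
    intro T'
    rw [ConcreteCategory.isIso_iff_bijective]
    have hle : j ''ᵁ T' ≤ j.opensRange := by
      rintro _ ⟨z, -, rfl⟩
      exact ⟨z, rfl⟩
    exact app_bijective_of_isIso_restrict m j.opensRange (j ''ᵁ T') hle
  refine ⟨G', m ≫ modπ j F G φ, asIso ((Scheme.Modules.restrictFunctor j).map m) ≪≫ e₀,
    isFP_of_fpOn_top G' hfp', ?_⟩
  rw [Iso.trans_hom, asIso_hom, Category.assoc, he₀, ← CategoryTheory.Functor.map_comp]

end Groth.Agent.Helper2.FPExt

end
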