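import Mathlib
import Groth.Agent.Helper2.FPExt6
import Groth.Agent.Helper4.SubExt3
import Groth.Agent.Helper4.SubSum

/-!
# Finitely presented modules mapping onto sections / onto a module of finite type
-/

set_option autoImplicit false
universe u
open CategoryTheory CategoryTheory.Limits AlgebraicGeometry TopologicalSpace Opposite

noncomputable section

namespace Groth.Agent.Helper2.FPExt

open Groth.Agent.Helper4 Groth.Agent.Helper4.SubExt

variable {X : Scheme.{u}}

/-- a binary biproduct of finitely presented modules is finitely presented -/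
theorem isFP_biprod (G1 G2 : X.Modules)
    (h1 : SheafOfModules.IsFinitePresentation (R := X.ringCatSheaf) G1)
    (h2 : SheafOfModules.IsFinitePresentation (R := X.ringCatSheaf) G2) :
    SheafOfModules.IsFinitePresentation (R := X.ringCatSheaf) (G1 ⊞ G2 : X.Modules) := by
  haveI := h1
  haveI := h2
  haveI : G1.IsQuasicoherent := inferInstance
  haveI : G2.IsQuasicoherent := inferInstance
  haveI : (G1 ⊞ G2).IsQuasicoherent := QcohLimits.isQuasicoherent_biprod _ _
  apply isFP_of_fpOn_top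
  intro U hU _
  haveI : Module.FinitePresentation Γ(X, U) Γ(G1, U) := fpOn_top_of_isFP G1 h1 U hU le_top
  haveI : Module.FinitePresentation Γ(X, U) Γ(G2, U) := fpOn_top_of_isFP G2 h2 U hU le_top
  let f : (Γ(G1, U) × Γ(G2, U)) →ₗ[Γ(X, U)] Γ(G1 ⊞ G2, U) :=
    (QcohEpi.appLin (biprod.inl : G1 ⟶ G1 ⊞ G2) U).coprod
      (QcohEpi.appLin (biprod.inr : G2 ⟶ G1 ⊞ G2) U)
  have hf : ∀ a b, f (a, b) = (biprod.inl : G1 ⟶ G1 ⊞ G2).app U a +
      (biprod.inr : G2 ⟶ G1 ⊞ G2).app U b := fun a b => rfl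
  have hsurj : Function.Surjective f := by
    intro z
    refine ⟨((biprod.fst : G1 ⊞ G2 ⟶ G1).app U z, (biprod.snd : G1 ⊞ G2 ⟶ G2).app U z), ?_⟩
    exact SubSum.biprod_total_app U z
  have hinj : Function.Injective f := by
    rw [← LinearMap.ker_eq_bot, LinearMap.ker_eq_bot']
    rintro ⟨a, b⟩ hab
    rw [hf] at hab
    have ha : a = 0 := by
      have h := congrArg ((biprod.fst : G1 ⊞ G2 ⟶ G1).app U) hab
      rw [map_add, map_zero] at h
      have e1 : (biprod.fst : G1 ⊞ G2 ⟶ G1).app U ((biprod.inl : G1 ⟶ G1 ⊞ G2).app U a) = a := by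
        have := congrArg (fun φ : G1 ⟶ G1 => φ.app U a) (biprod.inl_fst (X := G1) (Y := G2))
        exact this
      have e2 : (biprod.fst : G1 ⊞ G2 ⟶ G1).app U ((biprod.inr : G2 ⟶ G1 ⊞ G2).app U b) = 0 := by
        have := congrArg (fun φ : G2 ⟶ G1 => φ.app U b) (biprod.inr_fst (X := G1) (Y := G2))
        exact this
      rw [e1, e2, add_zero] at h
      exact h
    have hb : b = 0 := by
      have h := congrArg ((biprod.snd : G1 ⊞ G2 ⟶ G2).app U) hab
      rw [map_add, map_zero] at h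
      have e1 : (biprod.snd : G1 ⊞ G2 ⟶ G2).app U ((biprod.inl : G1 ⟶ G1 ⊞ G2).app U a) = 0 := by
        have := congrArg (fun φ : G1 ⟶ G2 => φ.app U a) (biprod.inl_snd (X := G1) (Y := G2))
        exact this
      have e2 : (biprod.snd : G1 ⊞ G2 ⟶ G2).app U ((biprod.inr : G2 ⟶ G1 ⊞ G2).app U b) = b := by
        have := congrArg (fun φ : G2 ⟶ G2 => φ.app U b) (biprod.inr_snd (X := G1) (Y := G2))
        exact this
      rw [e1, e2, zero_add] at h
      exact h
    rw [ha, hb]
    rfl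
  exact Module.FinitePresentation.of_equiv (LinearEquiv.ofBijective f ⟨hinj, hsurj⟩)

set_option backward.isDefEq.respectTransparency false in
/-- every section over a quasi-compact open of a quasi-coherent module on a qcqs scheme is hit by
a map from a finitely presented module -/
theorem exists_fp_through_section [CompactSpace X] [QuasiSeparatedSpace X]
    (F : X.Modules) [F.IsQuasicoherent] (U : X.Opens) (hU : IsCompact (U : Set X))
    (s : Γ(F, U)) :
    ∃ (G : X.Modules) (φ : G ⟶ F),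
      SheafOfModules.IsFinitePresentation (R := X.ringCatSheaf) G ∧
      ∃ g : Γ(G, U), φ.app U g = s := by
  haveI : CompactSpace (U : Scheme.{u}) := isCompact_iff_compactSpace.mp hU
  have htop : U.ι ''ᵁ ⊤ = U := Scheme.Opens.ι_image_top U
  let s' : (F.restrict U.ι).val.obj (op ⊤) := F.val.map (homOfLE htop.le).op s
  obtain ⟨σ, hσ⟩ := exists_unit_hom_of_section (F.restrict U.ι) s'
  let O : (U : Scheme.{u}).Modules := SheafOfModules.unit (U : Scheme.{u}).ringCatSheaf
  have hOfp : SheafOfModules.IsFinitePresentation (R := (U : Scheme.{u}).ringCatSheaf) O :=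
    FinLocFree6.isFinitePresentation_unit
  obtain ⟨G, φ, e, hfp, he⟩ := exists_fp_extension U.ι F O hOfp σ
  refine ⟨G, φ, hfp, ?_⟩
  let t : O.val.obj (op ⊤) := (1 : (U : Scheme.{u}).ringCatSheaf.obj.obj (op ⊤))
  let g' : G.val.obj (op (U.ι ''ᵁ ⊤)) := (e.inv.val.app (op ⊤)).hom t
  have hg' : (φ.val.app (op (U.ι ''ᵁ ⊤))).hom g' = s' := by
    have h1 : e.inv ≫ (Scheme.Modules.restrictFunctor U.ι).map φ = σ := by
      rw [← he, Iso.inv_hom_id_assoc]
    have h2 : (φ.val.app (op (U.ι ''ᵁ ⊤))).hom g' =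
        ((e.inv ≫ (Scheme.Modules.restrictFunctor U.ι).map φ).val.app (op ⊤)).hom t := rfl
    rw [h2, h1]
    exact hσ
  refine ⟨G.val.map (homOfLE htop.ge).op g', ?_⟩
  change (φ.val.app (op U)).hom (G.val.map (homOfLE htop.ge).op g') = s
  rw [PresheafOfModules.naturality_apply, hg']
  change F.val.map (homOfLE htop.ge).op (F.val.map (homOfLE htop.le).op s) = s
  rw [← PresheafOfModules.map_comp_apply]
  have : ((homOfLE htop.le).op ≫ (homOfLE htop.ge).op : op U ⟶ op U) = 𝟙 _ :=
    Subsingleton.elim _ _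
  rw [this, F.val.map_id]
  rfl

/-- finitely many sections over quasi-compact opens are hit by a map from one finitely presented
module -/
theorem exists_fp_through_sections [CompactSpace X] [QuasiSeparatedSpace X]
    (F : X.Modules) [F.IsQuasicoherent] :
    ∀ (l : List (Σ U : X.Opens, Γ(F, U))), (∀ p ∈ l, IsCompact (p.1 : Set X)) →
    ∃ (G : X.Modules) (φ : G ⟶ F),
      SheafOfModules.IsFinitePresentation (R := X.ringCatSheaf) G ∧
      ∀ p ∈ l, ∃ g : Γ(G, p.1), φ.app p.1 g = p.2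
  | [], _ => by
    obtain ⟨G, φ, hfp, -⟩ := exists_fp_through_section F ⊤ isCompact_univ (0 : Γ(F, ⊤))
    exact ⟨G, φ, hfp, fun p hp => absurd hp List.not_mem_nil⟩
  | p :: l, hl => by
    obtain ⟨G1, φ1, hfp1, hg1⟩ := exists_fp_through_sections F l
      (fun q hq => hl q (List.mem_cons_of_mem _ hq))
    obtain ⟨G2, φ2, hfp2, g2, hg2⟩ :=
      exists_fp_through_section F p.1 (hl p List.mem_cons_self) p.2
    refine ⟨G1 ⊞ G2, biprod.desc φ1 φ2, isFP_biprod G1 G2 hfp1 hfp2, ?_⟩
    intro q hq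
    rcases List.mem_cons.mp hq with rfl | hq
    · refine ⟨(biprod.inr : G2 ⟶ G1 ⊞ G2).app q.1 g2, ?_⟩
      have := congrArg (fun ψ : G2 ⟶ F => ψ.app q.1 g2) (biprod.inr_desc φ1 φ2)
      exact this.trans hg2
    · obtain ⟨g, hg⟩ := hg1 q hq
      refine ⟨(biprod.inl : G1 ⟶ G1 ⊞ G2).app q.1 g, ?_⟩
      have := congrArg (fun ψ : G1 ⟶ F => ψ.app q.1 g) (biprod.inl_desc φ1 φ2)
      exact this.trans hg

/-- a quasi-coherent module of finite type on a qcqs scheme is a quotient of a finitely presented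
module -/
theorem exists_fp_epi [CompactSpace X] [QuasiSeparatedSpace X]
    (F : X.Modules) [F.IsQuasicoherent]
    (hF : SheafOfModules.IsFiniteType (R := X.ringCatSheaf) F) :
    ∃ (G : X.Modules) (φ : G ⟶ F),
      SheafOfModules.IsFinitePresentation (R := X.ringCatSheaf) G ∧ Epi φ := by
  classical
  obtain ⟨𝒰, h𝒰, htop⟩ := isCompact_iff_finite_and_eq_biUnion_affineOpens.mp
    (show IsCompact ((⊤ : X.Opens) : Set X) from isCompact_univ)
  have hfin : ∀ V : X.affineOpens, Module.Finite Γ(X, V.1) Γ(F, V.1) :=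
    fun V => SecDict.finite_sections V.2 F inferInstance hF
  have hgen : ∀ V : X.affineOpens, ∃ S : Finset Γ(F, V.1),
      Submodule.span Γ(X, V.1) (S : Set Γ(F, V.1)) = ⊤ := fun V => (hfin V).fg_top
  choose S hS using hgen
  let l : List (Σ U : X.Opens, Γ(F, U)) :=
    h𝒰.toFinset.toList.flatMap (fun V => (S V).toList.map (fun s => ⟨V.1, s⟩))
  have hl : ∀ p ∈ l, IsCompact (p.1 : Set X) := by
    intro p hp
    obtain ⟨V, -, hp⟩ := List.mem_flatMap.mp hp
    obtain ⟨s, -, rfl⟩ := List.mem_map.mp hp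
    exact V.2.isCompact
  obtain ⟨G, φ, hfp, hg⟩ := exists_fp_through_sections F l hl
  refine ⟨G, φ, hfp, ?_⟩
  apply QcohLocal.epi_of_app_surjective_of_affine_cover
  intro x
  have hx : x ∈ (⊤ : X.Opens) := trivial
  rw [htop] at hx
  simp only [Opens.mem_iSup] at hx
  obtain ⟨V, hV, hxV⟩ := hx
  refine ⟨V.1, V.2, hxV, ?_⟩
  have hrange : LinearMap.range (QcohEpi.appLin φ V.1) = ⊤ := by
    rw [eq_top_iff, ← hS V, Submodule.span_le]
    intro s hs
    have hmem : (⟨V.1, s⟩ : Σ U : X.Opens, Γ(F, U)) ∈ l := by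
      refine List.mem_flatMap.mpr ⟨V, ?_, ?_⟩
      · simpa using hV
      · exact List.mem_map.mpr ⟨s, by simpa using hs, rfl⟩
    obtain ⟨g, hg⟩ := hg _ hmem
    exact (LinearMap.mem_range (f := QcohEpi.appLin φ V.1)).mpr ⟨g, hg⟩
  intro z
  have hz : z ∈ LinearMap.range (QcohEpi.appLin φ V.1) := by
    rw [hrange]
    exact Submodule.mem_top
  obtain ⟨g, hg⟩ := hz
  exact ⟨g, hg⟩

end Groth.Agent.Helper2.FPExt

end
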