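import Mathlib
import Groth.Agent.Helper2.FPQuot1

/-!
# Quotients of finitely presented modules by submodules of finite type; Stacks 01PK part
-/

set_option autoImplicit false
universe u
open CategoryTheory CategoryTheory.Limits AlgebraicGeometry TopologicalSpace Opposite

noncomputable section

namespace Groth.Agent.Helper2.FPExt

open Groth.Agent.Helper4 Groth.Agent.Helper4.SubExt

variable {X : Scheme.{u}}

/-- the quotient of a finitely presented module by a quasi-coherent submodule of finite type is
finitely presented -/
theorem isFP_cokernel_of_mono {G K' : X.Modules} (i : K' ⟶ G) [Mono i] [K'.IsQuasicoherent]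
    (hK' : SheafOfModules.IsFiniteType (R := X.ringCatSheaf) K')
    (hG : SheafOfModules.IsFinitePresentation (R := X.ringCatSheaf) G) :
    SheafOfModules.IsFinitePresentation (R := X.ringCatSheaf) (cokernel i : X.Modules) := by
  haveI := hG
  haveI : G.IsQuasicoherent := inferInstance
  haveI : (cokernel i).IsQuasicoherent := QcohLimits.isQuasicoherent_cokernel i
  apply isFP_of_fpOn_top
  intro T hT _
  haveI : Module.FinitePresentation Γ(X, T) Γ(G, T) := fpOn_top_of_isFP G hG T hT le_top
  haveI : Module.Finite Γ(X, T) Γ(K', T) := SecDict.finite_sections hT K' inferInstance hK'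
  have hsurj : Function.Surjective (QcohEpi.appLin (cokernel.π i) T) :=
    QcohEpi.app_surjective_of_epi (cokernel.π i) hT
  refine Module.finitePresentation_of_surjective (QcohEpi.appLin (cokernel.π i) T) hsurj ?_
  have hker : LinearMap.ker (QcohEpi.appLin (cokernel.π i) T) =
      LinearMap.range (QcohEpi.appLin i T) := by
    ext x
    rw [LinearMap.mem_ker, LinearMap.mem_range]
    exact SubSec.cokernel_π_app_eq_zero_iff i T x
  rw [hker, LinearMap.range_eq_map]
  exact (Module.Finite.fg_top).map _

/-- the kernel of an epimorphism from a module with finite sections onto a module with finitely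
presented sections has finite sections -/
theorem finite_kernel_sections {G F : X.Modules} (φ : G ⟶ F) [Epi φ] [G.IsQuasicoherent]
    [F.IsQuasicoherent] {T : X.Opens} (hT : IsAffineOpen T)
    [Module.Finite Γ(X, T) Γ(G, T)] [Module.FinitePresentation Γ(X, T) Γ(F, T)] :
    Module.Finite Γ(X, T) Γ(kernel φ, T) := by
  have hsurj : Function.Surjective (QcohEpi.appLin φ T) := QcohEpi.app_surjective_of_epi φ hT
  have hfg : (LinearMap.ker (QcohEpi.appLin φ T)).FG :=
    Module.FinitePresentation.fg_ker (QcohEpi.appLin φ T) hsurj
  have hinj : Function.Injective (QcohEpi.appLin (kernel.ι φ) T) :=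
    AffineDict.app_injective_of_mono (kernel.ι φ) T
  have hrange : LinearMap.range (QcohEpi.appLin (kernel.ι φ) T) =
      LinearMap.ker (QcohEpi.appLin φ T) := by
    ext x
    rw [LinearMap.mem_ker, LinearMap.mem_range]
    exact SubSec.exists_kernel_section_iff φ T x
  haveI : Module.Finite Γ(X, T) (LinearMap.range (QcohEpi.appLin (kernel.ι φ) T)) := by
    rw [hrange]
    exact Module.Finite.iff_fg.mpr hfg
  exact Module.Finite.equiv (LinearEquiv.ofInjective (QcohEpi.appLin (kernel.ι φ) T) hinj).symm

set_option backward.isDefEq.respectTransparency false in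
/-- Stacks 01PK-part: on a qcqs scheme, given an epimorphism `φ₃ : G₃ ⟶ F` from a finitely
presented module onto a quasi-coherent module which is finitely presented over the quasi-compact
open `U`, the kernel contains a quasi-coherent submodule of finite type equal to the kernel over
`U`. -/
theorem exists_ft_sub_kernel [CompactSpace X] [QuasiSeparatedSpace X] {G₃ F : X.Modules}
    [F.IsQuasicoherent] (hG₃ : SheafOfModules.IsFinitePresentation (R := X.ringCatSheaf) G₃)
    (φ₃ : G₃ ⟶ F) [Epi φ₃] (U : X.Opens) (hU : IsCompact (U : Set X)) (hFU : FPOn F U) :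
    ∃ (K' : X.Modules) (i : K' ⟶ kernel φ₃), Mono i ∧ K'.IsQuasicoherent ∧
      SheafOfModules.IsFiniteType (R := X.ringCatSheaf) K' ∧
      IsIso ((Scheme.Modules.restrictFunctor U.ι).map i) := by
  haveI := hG₃
  haveI : G₃.IsQuasicoherent := inferInstance
  haveI : CompactSpace (U : Scheme.{u}) := isCompact_iff_compactSpace.mp hU
  haveI hKq : (kernel φ₃).IsQuasicoherent := QcohLimits.isQuasicoherent_kernel φ₃
  have hfin : FinOn (kernel φ₃) U := by
    intro T hT hle
    haveI : Module.FinitePresentation Γ(X, T) Γ(F, T) := hFU T hT hle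
    haveI : Module.FinitePresentation Γ(X, T) Γ(G₃, T) := fpOn_top_of_isFP G₃ hG₃ T hT le_top
    exact finite_kernel_sections φ₃ hT
  have hr : U.ι.opensRange = U := Scheme.Opens.opensRange_ι U
  have hft : SheafOfModules.IsFiniteType (R := (U : Scheme.{u}).ringCatSheaf)
      ((kernel φ₃).restrict U.ι) := isFT_restrict_of_finOn U.ι (kernel φ₃) hfin hr.le
  haveI : ((kernel φ₃).restrict U.ι).IsQuasicoherent := inferInstance
  obtain ⟨K', i, e, hi, hq, hft', he⟩ :=
    exists_extension U.ι (kernel φ₃) ((kernel φ₃).restrict U.ι) hft (𝟙 _)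
  refine ⟨K', i, hi, hq, hft', ?_⟩
  rw [← he, Category.comp_id]
  infer_instance

end Groth.Agent.Helper2.FPExt

end
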