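import Mathlib
import Groth.Agent.Helper2.FPQuot2

/-!
# Stacks 01PK-part: finitely presented quotient isomorphic over an open
-/

set_option autoImplicit false
universe u
open CategoryTheory CategoryTheory.Limits AlgebraicGeometry TopologicalSpace Opposite

noncomputable section

namespace Groth.Agent.Helper2.FPExt

open Groth.Agent.Helper4 Groth.Agent.Helper4.SubExt

variable {X : Scheme.{u}}

/-- the quotient map `G₃/K' ⟶ F` induced by an epimorphism `φ₃ : G₃ ⟶ F` and a subobject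
`K'` of its kernel -/
abbrev quotDesc {G₃ F K' : X.Modules} (φ₃ : G₃ ⟶ F) (i : K' ⟶ kernel φ₃) :
    cokernel (i ≫ kernel.ι φ₃) ⟶ F :=
  cokernel.desc (i ≫ kernel.ι φ₃) φ₃ (by rw [Category.assoc, kernel.condition, comp_zero])

theorem epi_quotDesc {G₃ F K' : X.Modules} (φ₃ : G₃ ⟶ F) [Epi φ₃] (i : K' ⟶ kernel φ₃) :
    Epi (quotDesc φ₃ i) := by
  have h : cokernel.π (i ≫ kernel.ι φ₃) ≫ quotDesc φ₃ i = φ₃ := cokernel.π_desc _ _ _
  haveI : Epi (cokernel.π (i ≫ kernel.ι φ₃) ≫ quotDesc φ₃ i) := by rw [h]; infer_instance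
  exact epi_of_epi (cokernel.π (i ≫ kernel.ι φ₃)) (quotDesc φ₃ i)

set_option backward.isDefEq.respectTransparency false in
theorem quotDesc_app_injective {G₃ F K' : X.Modules} [G₃.IsQuasicoherent] [F.IsQuasicoherent]
    [K'.IsQuasicoherent] (φ₃ : G₃ ⟶ F) (i : K' ⟶ kernel φ₃) [Mono i] {D : X.Opens}
    (hD : IsAffineOpen D) (hbij : Function.Surjective (i.app D)) :
    Function.Injective ((quotDesc φ₃ i).app D) := by
  haveI : Mono (i ≫ kernel.ι φ₃) := mono_comp _ _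
  haveI : (cokernel (i ≫ kernel.ι φ₃)).IsQuasicoherent :=
    QcohLimits.isQuasicoherent_cokernel (i ≫ kernel.ι φ₃)
  have h : cokernel.π (i ≫ kernel.ι φ₃) ≫ quotDesc φ₃ i = φ₃ := cokernel.π_desc _ _ _
  rw [injective_iff_map_eq_zero]
  intro g hg
  obtain ⟨g₃, rfl⟩ := QcohEpi.app_surjective_of_epi (cokernel.π (i ≫ kernel.ι φ₃)) hD g
  have h1 : φ₃.app D g₃ = 0 := by
    have := congrArg (fun ψ : G₃ ⟶ F => ψ.app D g₃) h
    exact this.symm.trans hg
  obtain ⟨k, hk⟩ := (SubSec.exists_kernel_section_iff φ₃ D g₃).mpr h1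
  obtain ⟨k', rfl⟩ := hbij k
  rw [SubSec.cokernel_π_app_eq_zero_iff]
  exact ⟨k', hk⟩

set_option backward.isDefEq.respectTransparency false in
theorem isIso_restrict_quotDesc {G₃ F K' : X.Modules} [G₃.IsQuasicoherent] [F.IsQuasicoherent]
    [K'.IsQuasicoherent] (φ₃ : G₃ ⟶ F) [Epi φ₃] (i : K' ⟶ kernel φ₃) [Mono i] (U : X.Opens)
    [IsIso ((Scheme.Modules.restrictFunctor U.ι).map i)] :
    IsIso ((Scheme.Modules.restrictFunctor U.ι).map (quotDesc φ₃ i)) := by
  haveI : Mono (i ≫ kernel.ι φ₃) := mono_comp _ _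
  haveI : (cokernel (i ≫ kernel.ι φ₃)).IsQuasicoherent :=
    QcohLimits.isQuasicoherent_cokernel (i ≫ kernel.ι φ₃)
  haveI := epi_quotDesc φ₃ i
  have hr : U.ι.opensRange = U := Scheme.Opens.opensRange_ι U
  haveI : ((cokernel (i ≫ kernel.ι φ₃)).restrict U.ι).IsQuasicoherent := inferInstance
  haveI : (F.restrict U.ι).IsQuasicoherent := inferInstance
  refine QcohLocal.isIso_of_app_bijective_of_affine_cover
    (F := (cokernel (i ≫ kernel.ι φ₃)).restrict U.ι) (G := F.restrict U.ι)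
    ((Scheme.Modules.restrictFunctor U.ι).map (quotDesc φ₃ i)) ?_
  intro y
  obtain ⟨D, hD, hyD, hDle⟩ := FinLocFree2.exists_affine_nhd_le (U.ι y) U.ι.opensRange ⟨y, rfl⟩
  refine ⟨U.ι ⁻¹ᵁ D, isAffineOpen_preimage_of_le U.ι hD hDle, hyD, ?_⟩
  have h2 : Function.Bijective ((quotDesc φ₃ i).app (U.ι ''ᵁ (U.ι ⁻¹ᵁ D))) := by
    rw [image_preimage_of_le U.ι hDle]
    exact ⟨quotDesc_app_injective φ₃ i hD
        (app_bijective_of_isIso_restrict i U D (hDle.trans hr.le)).2,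
      QcohEpi.app_surjective_of_epi (quotDesc φ₃ i) hD⟩
  exact h2

set_option backward.isDefEq.respectTransparency false in
/-- **Stacks 01PK-part** -/
theorem exists_fp_epi_iso_on [CompactSpace X] [QuasiSeparatedSpace X] (F : X.Modules)
    [F.IsQuasicoherent] (hF : SheafOfModules.IsFiniteType (R := X.ringCatSheaf) F) (U : X.Opens)
    (hU : IsCompact (U : Set X))
    (hFU : SheafOfModules.IsFinitePresentation (R := (U : Scheme.{u}).ringCatSheaf)
      (F.restrict U.ι)) :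
    ∃ (G : X.Modules) (φ : G ⟶ F),
      SheafOfModules.IsFinitePresentation (R := X.ringCatSheaf) G ∧ Epi φ ∧
      IsIso ((Scheme.Modules.restrictFunctor U.ι).map φ) := by
  obtain ⟨G₃, φ₃, hG₃, hepi⟩ := exists_fp_epi F hF
  haveI := hepi
  haveI := hG₃
  haveI : G₃.IsQuasicoherent := inferInstance
  have hr : U.ι.opensRange = U := Scheme.Opens.opensRange_ι U
  have hFPOn : FPOn F U := (fpOn_of_isFP_restrict U.ι F hFU).mono hr.ge
  obtain ⟨K', i, hi, hq, hft, hiso⟩ := exists_ft_sub_kernel hG₃ φ₃ U hU hFPOn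
  haveI := hi
  haveI := hq
  haveI := hiso
  haveI : Mono (i ≫ kernel.ι φ₃) := mono_comp _ _
  exact ⟨cokernel (i ≫ kernel.ι φ₃), quotDesc φ₃ i,
    isFP_cokernel_of_mono (i ≫ kernel.ι φ₃) hft hG₃, epi_quotDesc φ₃ i,
    isIso_restrict_quotDesc φ₃ i U⟩

end Groth.Agent.Helper2.FPExt

end
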