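import Mathlib
import Groth.Agent.Helper2.FPQuot3
import Groth.Agent.Lead.BCMap1
import Groth.Agent.Lead.HomDescH

/-!
# A module of finite type on the source of an affine morphism is a quotient of the pullback of a
finitely presented module on a qcqs target
-/

set_option autoImplicit false
universe u
open CategoryTheory CategoryTheory.Limits AlgebraicGeometry TopologicalSpace Opposite

noncomputable section

namespace Groth.Agent.Helper2.LimDesc

open Groth.Agent.Helper4 Groth.Agent.Helper2.FPExt Groth.Agent.Lead.BCMap Scheme.Modules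

variable {X Y : Scheme.{u}}

set_option backward.isDefEq.respectTransparency false in
theorem exists_fp_epi_pullback (f : X ⟶ Y) [IsAffineHom f] [CompactSpace Y]
    [QuasiSeparatedSpace Y] (F : X.Modules) [F.IsQuasicoherent]
    (hF : SheafOfModules.IsFiniteType (R := X.ringCatSheaf) F) :
    ∃ (G₀ : Y.Modules) (ψ : (Scheme.Modules.pullback f).obj G₀ ⟶ F),
      SheafOfModules.IsFinitePresentation (R := Y.ringCatSheaf) G₀ ∧ Epi ψ := by
  classical
  let P : Y.Modules := (Scheme.Modules.pushforward f).obj F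
  haveI : P.IsQuasicoherent := QcohGlue.isQuasicoherent_pushforward f F
  obtain ⟨𝒰, h𝒰, htop⟩ := isCompact_iff_finite_and_eq_biUnion_affineOpens.mp
    (show IsCompact ((⊤ : Y.Opens) : Set Y) from isCompact_univ)
  have haff : ∀ V : Y.affineOpens, IsAffineOpen (f ⁻¹ᵁ V.1) := fun V => V.2.preimage f
  have hfin : ∀ V : Y.affineOpens, Module.Finite Γ(X, f ⁻¹ᵁ V.1) Γ(F, f ⁻¹ᵁ V.1) :=
    fun V => SecDict.finite_sections (haff V) F inferInstance hF
  have hgen : ∀ V : Y.affineOpens, ∃ S : Finset Γ(F, f ⁻¹ᵁ V.1),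
      Submodule.span Γ(X, f ⁻¹ᵁ V.1) (S : Set Γ(F, f ⁻¹ᵁ V.1)) = ⊤ := fun V => (hfin V).fg_top
  choose S hS using hgen
  let l : List (Σ U : Y.Opens, Γ(P, U)) :=
    h𝒰.toFinset.toList.flatMap (fun V => (S V).toList.map (fun s => ⟨V.1, s⟩))
  have hl : ∀ p ∈ l, IsCompact (p.1 : Set Y) := by
    intro p hp
    obtain ⟨V, -, hp⟩ := List.mem_flatMap.mp hp
    obtain ⟨s, -, rfl⟩ := List.mem_map.mp hp
    exact V.2.isCompact
  obtain ⟨G₀, ψ₀, hfp, hg⟩ := exists_fp_through_sections P l hl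
  let adj := Scheme.Modules.pullbackPushforwardAdjunction f
  let ψ : (Scheme.Modules.pullback f).obj G₀ ⟶ F := (adj.homEquiv G₀ F).symm ψ₀
  have hψ : (adj.homEquiv G₀ F) ψ = ψ₀ := Equiv.apply_symm_apply _ _
  refine ⟨G₀, ψ, hfp, ?_⟩
  apply QcohLocal.epi_of_app_surjective_of_affine_cover
  intro x
  have hx : f x ∈ (⊤ : Y.Opens) := trivial
  rw [htop] at hx
  simp only [Opens.mem_iSup] at hx
  obtain ⟨V, hV, hxV⟩ := hx
  refine ⟨f ⁻¹ᵁ V.1, haff V, hxV, ?_⟩
  have hrange : LinearMap.range (QcohEpi.appLin ψ (f ⁻¹ᵁ V.1)) = ⊤ := by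
    rw [eq_top_iff, ← hS V, Submodule.span_le]
    intro s hs
    have hmem : (⟨V.1, s⟩ : Σ U : Y.Opens, Γ(P, U)) ∈ l := by
      refine List.mem_flatMap.mpr ⟨V, ?_, ?_⟩
      · simpa using hV
      · exact List.mem_map.mpr ⟨s, by simpa using hs, rfl⟩
    obtain ⟨g, hg⟩ := hg _ hmem
    have h1 := homEquiv_app f G₀ ψ V.1 (f ⁻¹ᵁ V.1) le_rfl g
    rw [hψ] at h1
    refine (LinearMap.mem_range (f := QcohEpi.appLin ψ (f ⁻¹ᵁ V.1))).mpr
      ⟨pbSec f G₀ V.1 (f ⁻¹ᵁ V.1) le_rfl g, ?_⟩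
    change ψ.app (f ⁻¹ᵁ V.1) _ = s
    rw [← h1, Groth.Agent.Lead.HomDesc.res_self]
    exact hg
  intro z
  have hz : z ∈ LinearMap.range (QcohEpi.appLin ψ (f ⁻¹ᵁ V.1)) := by
    rw [hrange]
    exact Submodule.mem_top
  obtain ⟨g, hg⟩ := hz
  exact ⟨g, hg⟩

/-- the kernel of an epimorphism from a finitely presented module onto a finitely presented
module is of finite type -/
theorem isFiniteType_kernel {G F : X.Modules} (φ : G ⟶ F) [Epi φ]
    (hG : SheafOfModules.IsFinitePresentation (R := X.ringCatSheaf) G)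
    (hF : SheafOfModules.IsFinitePresentation (R := X.ringCatSheaf) F) :
    SheafOfModules.IsFiniteType (R := X.ringCatSheaf) (kernel φ : X.Modules) := by
  haveI := hG
  haveI := hF
  haveI : G.IsQuasicoherent := inferInstance
  haveI : F.IsQuasicoherent := inferInstance
  haveI : (kernel φ).IsQuasicoherent := QcohLimits.isQuasicoherent_kernel φ
  apply FTGlue.isFiniteType_of_finite_sections
  intro x
  obtain ⟨T, hT, hxT⟩ := QcohLimits.exists_affine_nhd x
  refine ⟨T, hT, hxT, ?_⟩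
  haveI : Module.FinitePresentation Γ(X, T) Γ(F, T) := fpOn_top_of_isFP F hF T hT le_top
  haveI : Module.FinitePresentation Γ(X, T) Γ(G, T) := fpOn_top_of_isFP G hG T hT le_top
  exact finite_kernel_sections φ hT

end Groth.Agent.Helper2.LimDesc

end
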