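import Mathlib
import Groth.Agent.Helper2.LimDesc1
import Groth.Agent.Lead.LimPres
import Groth.Agent.S4811

/-!
# Descent of finitely presented modules along a cofiltered limit with affine transition maps
-/

set_option autoImplicit false
universe u
open CategoryTheory CategoryTheory.Limits AlgebraicGeometry TopologicalSpace Opposite

noncomputable section

namespace Groth.Agent.Helper2.LimDesc

open Groth.Agent.Helper4 Groth.Agent.Helper2.FPExt Scheme.Modules

section Abstract

variable {C : Type*} [Category C] [Abelian C]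

/-- if `a` is an epimorphism and `b` is an epimorphism onto its kernel, then the target of `a` is
the cokernel of `b ≫ kernel.ι a` -/
def cokernelIsoOfEpiKernel {H G F : C} (a : G ⟶ F) [Epi a] (b : H ⟶ kernel a) [Epi b] :
    cokernel (b ≫ kernel.ι a) ≅ F where
  hom := cokernel.desc (b ≫ kernel.ι a) a (by rw [Category.assoc, kernel.condition, comp_zero])
  inv := Abelian.epiDesc a (cokernel.π (b ≫ kernel.ι a)) (by
    rw [← cancel_epi b, ← Category.assoc, cokernel.condition, comp_zero])
  hom_inv_id := by
    rw [← cancel_epi (cokernel.π (b ≫ kernel.ι a)), cokernel.π_desc_assoc,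
      Abelian.comp_epiDesc, Category.comp_id]
  inv_hom_id := by
    rw [← cancel_epi a, Abelian.comp_epiDesc_assoc, cokernel.π_desc, Category.comp_id]

@[reassoc (attr := simp)]
lemma π_cokernelIsoOfEpiKernel_hom {H G F : C} (a : G ⟶ F) [Epi a] (b : H ⟶ kernel a) [Epi b] :
    cokernel.π (b ≫ kernel.ι a) ≫ (cokernelIsoOfEpiKernel a b).hom = a :=
  cokernel.π_desc _ _ _

end Abstract

variable {X : Scheme.{u}}

/-- the cokernel of a map from a quasi-coherent module of finite type to a finitely presented
module is finitely presented -/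
theorem isFP_cokernel {A B : X.Modules} (h : A ⟶ B) [A.IsQuasicoherent]
    (hA : SheafOfModules.IsFiniteType (R := X.ringCatSheaf) A)
    (hB : SheafOfModules.IsFinitePresentation (R := X.ringCatSheaf) B) :
    SheafOfModules.IsFinitePresentation (R := X.ringCatSheaf) (cokernel h : X.Modules) := by
  haveI := hB
  haveI : B.IsQuasicoherent := inferInstance
  haveI hIq : (Abelian.image h).IsQuasicoherent := QcohLimits.isQuasicoherent_image h
  have hIft : SheafOfModules.IsFiniteType (R := X.ringCatSheaf) (Abelian.image h : X.Modules) :=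
    QcohEpi.isFiniteType_of_epi (Abelian.factorThruImage h) hA
  have h1 := isFP_cokernel_of_mono (Abelian.image.ι h) hIft hB
  let e : cokernel (Abelian.image.ι h) ≅ cokernel h :=
    (cokernelEpiComp (Abelian.factorThruImage h) (Abelian.image.ι h)).symm ≪≫
      cokernelIsoOfEq (Abelian.image.fac h)
  exact isFP_of_iso e h1

section Descend

variable {I : Type u} [SmallCategory I] [IsCofiltered I] (D : I ⥤ Scheme.{u}) (c : Cone D)
  (hc : IsLimit c) [∀ (i j : I) (f : i ⟶ j), IsAffineHom (D.map f)] (i₀ : I)
  [CompactSpace (D.obj i₀)] [QuasiSeparatedSpace (D.obj i₀)]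

include hc in
theorem isAffineHom_π (i : I) : IsAffineHom (c.π.app i) := by
  haveI : ∀ {i j : I} (f : i ⟶ j), IsAffineHom (D.map f) := fun f => inferInstance
  exact isAffineHom_π_app D c hc i

include hc in
set_option backward.isDefEq.respectTransparency false in
/-- a finitely presented module on the limit is, up to isomorphism, the pullback of a finitely
presented module on some stage -/
theorem exists_descend (F : c.pt.Modules)
    (hFfp : SheafOfModules.IsFinitePresentation (R := c.pt.ringCatSheaf) F) :
    ∃ (i : I) (_ : i ⟶ i₀) (Fi : (D.obj i).Modules), Fi.IsQuasicoherent ∧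
      SheafOfModules.IsFinitePresentation (R := (D.obj i).ringCatSheaf) Fi ∧
      Nonempty ((Scheme.Modules.pullback (c.π.app i)).obj Fi ≅ F) := by
  haveI := hFfp
  haveI : F.IsQuasicoherent := inferInstance
  haveI : IsAffineHom (c.π.app i₀) := isAffineHom_π D c hc i₀
  have hFft : SheafOfModules.IsFiniteType (R := c.pt.ringCatSheaf) F :=
    FinLocFree2.isFiniteType_of_isFinitePresentation F hFfp
  obtain ⟨G₀, a, hG₀, ha⟩ := exists_fp_epi_pullback (c.π.app i₀) F hFft
  haveI := ha
  haveI := hG₀
  haveI : G₀.IsQuasicoherent := inferInstance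
  have hG : SheafOfModules.IsFinitePresentation (R := c.pt.ringCatSheaf)
      ((Scheme.Modules.pullback (c.π.app i₀)).obj G₀) :=
    Groth.Agent.Lead.LimPres.isFP_pullback (c.π.app i₀) G₀ hG₀
  haveI : ((Scheme.Modules.pullback (c.π.app i₀)).obj G₀).IsQuasicoherent :=
    Groth.Agent.Lead.StalkPull.isQuasicoherent_pullbackObj (c.π.app i₀) G₀
  have hK : SheafOfModules.IsFiniteType (R := c.pt.ringCatSheaf) (kernel a : c.pt.Modules) :=
    isFiniteType_kernel a hG hFfp
  haveI : (kernel a).IsQuasicoherent := QcohLimits.isQuasicoherent_kernel a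
  obtain ⟨H₀, b, hH₀, hb⟩ := exists_fp_epi_pullback (c.π.app i₀) (kernel a) hK
  haveI := hb
  haveI := hH₀
  haveI : H₀.IsQuasicoherent := inferInstance
  obtain ⟨j, φ, hj, hhj⟩ := Groth.Agent.S4811.result D c hc i₀ H₀ G₀ hH₀ (b ≫ kernel.ι a)
  have hHj : SheafOfModules.IsFinitePresentation (R := (D.obj j).ringCatSheaf)
      ((Scheme.Modules.pullback (D.map φ)).obj H₀) :=
    Groth.Agent.Lead.LimPres.isFP_pullback (D.map φ) H₀ hH₀
  have hGj : SheafOfModules.IsFinitePresentation (R := (D.obj j).ringCatSheaf)
      ((Scheme.Modules.pullback (D.map φ)).obj G₀) :=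
    Groth.Agent.Lead.LimPres.isFP_pullback (D.map φ) G₀ hG₀
  haveI : ((Scheme.Modules.pullback (D.map φ)).obj H₀).IsQuasicoherent :=
    Groth.Agent.Lead.StalkPull.isQuasicoherent_pullbackObj (D.map φ) H₀
  haveI : ((Scheme.Modules.pullback (D.map φ)).obj G₀).IsQuasicoherent :=
    Groth.Agent.Lead.StalkPull.isQuasicoherent_pullbackObj (D.map φ) G₀
  refine ⟨j, φ, cokernel hj, QcohLimits.isQuasicoherent_cokernel hj,
    isFP_cokernel hj (FinLocFree2.isFiniteType_of_isFinitePresentation _ hHj) hGj, ⟨?_⟩⟩
  let eH := (Scheme.Modules.pullbackComp (c.π.app j) (D.map φ) ≪≫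
    Scheme.Modules.pullbackCongr (c.w φ)).app H₀
  let eG := (Scheme.Modules.pullbackComp (c.π.app j) (D.map φ) ≪≫
    Scheme.Modules.pullbackCongr (c.w φ)).app G₀
  have hw : (Scheme.Modules.pullback (c.π.app j)).map hj ≫ eG.hom =
      eH.hom ≫ (b ≫ kernel.ι a) := by
    rw [← hhj, Iso.hom_inv_id_assoc]
  exact PreservesCokernel.iso (Scheme.Modules.pullback (c.π.app j)) hj ≪≫
    cokernel.mapIso _ _ eH eG hw ≪≫ cokernelIsoOfEpiKernel a b

end Descend

end Groth.Agent.Helper2.LimDesc

end
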