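import Mathlib
import Groth.Agent.Helper2.ConsMod1
import Groth.Agent.Helper2.LimDesc2
import Groth.Agent.Helper5.ConsLc5
import Groth.Agent.Lead.LimHom

/-!
# Noetherian models of a morphism of finite presentation with a finitely presented module
-/

set_option autoImplicit false
universe u
open CategoryTheory CategoryTheory.Limits AlgebraicGeometry TopologicalSpace Topology

noncomputable section

namespace Groth.Agent.Helper2.ConsMod

open Groth.Agent.Helper5.ConsLc Groth.Agent.Lead.LimPullback Groth.Agent.Lead.LimHom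
open Groth.Agent.Lead Groth.Agent.Helper2.LimDesc

section Stage

variable {I : Type u} [SmallCategory I] [IsCofiltered I]
  (D : I ⥤ Scheme.{u}) (c : Limits.Cone D) (hc : Limits.IsLimit c)
  [∀ (i j : I) (f : i ⟶ j), IsAffineHom (D.map f)]

include hc in
/-- a finitely presented module on the base change to the limit of a qcqs scheme over a stage
descends to the base change to a later stage -/
theorem exists_descend_pb (k : I) {Xk : Scheme.{u}} (uk : Xk ⟶ D.obj k) [CompactSpace Xk]
    [QuasiSeparatedSpace Xk] (F : (pullback (c.π.app k) uk).Modules)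
    (hF : SheafOfModules.IsFinitePresentation (R := (pullback (c.π.app k) uk).ringCatSheaf) F) :
    ∃ (j : Over k) (Fj : (pullback (D.map j.hom) uk).Modules), Fj.IsQuasicoherent ∧
      SheafOfModules.IsFinitePresentation (R := (pullback (D.map j.hom) uk).ringCatSheaf) Fj ∧
      Nonempty ((Scheme.Modules.pullback ((pbCone D c k uk).π.app j)).obj Fj ≅ F) := by
  haveI hA' : ∀ {i j : I} (f : i ⟶ j), IsAffineHom (D.map f) := fun f => inferInstance
  haveI : ∀ (i j : Over k) (f : i ⟶ j), IsAffineHom ((pbDiag D k uk).map f) :=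
    fun _ _ f => isAffineHom_pbDiag_map k uk f
  haveI : CompactSpace ((pbDiag D k uk).obj (Over.mk (𝟙 k))) :=
    compactSpace_pbDiag D k uk (Over.mk (𝟙 k))
  haveI : QuasiSeparatedSpace ((pbDiag D k uk).obj (Over.mk (𝟙 k))) :=
    quasiSeparatedSpace_pbDiag D k uk (Over.mk (𝟙 k))
  obtain ⟨j, -, Fj, hq, hfp, hiso⟩ := exists_descend (pbDiag D k uk) (pbCone D c k uk)
    (pbConeIsLimit k uk hc) (Over.mk (𝟙 k)) F hF
  exact ⟨j, Fj, hq, hfp, hiso⟩

end Stage

section Noeth

variable {S : Scheme.{u}} [IsAffine S]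

set_option backward.isDefEq.respectTransparency false in
/-- Noetherian approximation of a morphism of finite presentation to an affine scheme together
with a finitely presented module on its source -/
theorem exists_noeth_model_mod {X : Scheme.{u}} (u : X ⟶ S)
    [LocallyOfFinitePresentation u] [QuasiCompact u] [QuasiSeparated u] (F : X.Modules)
    (hF : SheafOfModules.IsFinitePresentation (R := X.ringCatSheaf) F) :
    ∃ (S₀ X₀ : Scheme.{u}) (u₀ : X₀ ⟶ S₀) (π : S ⟶ S₀) (q : X ⟶ X₀) (F₀ : X₀.Modules),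
      IsNoetherian S₀ ∧ LocallyOfFiniteType u₀ ∧ QuasiCompact u₀ ∧ IsPullback q u u₀ π ∧
        Coh.IsCoh F₀ ∧ Nonempty (F ≅ (Scheme.Modules.pullback q).obj F₀) := by
  haveI := hF
  haveI : F.IsQuasicoherent := inferInstance
  have hfg : (⊥ : Subalgebra ℤ Γ(S, ⊤)).FG := Subalgebra.fg_bot
  haveI := SubalgSys.isCofiltered hfg
  have hc : IsLimit (SubalgSys.cone Γ(S, ⊤) ⊥) := SubalgSys.coneIsLimit hfg
  haveI : ∀ (i j : (SubalgSys.Idx Γ(S, ⊤) ⊥)ᵒᵖ) (f : i ⟶ j),
      IsAffineHom ((SubalgSys.D Γ(S, ⊤) ⊥).map f) := fun _ _ f => inferInstance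
  haveI : ∀ i, CompactSpace ((SubalgSys.D Γ(S, ⊤) ⊥).obj i) := fun i => inferInstance
  haveI : ∀ i, QuasiSeparatedSpace ((SubalgSys.D Γ(S, ⊤) ⊥).obj i) := fun i => inferInstance
  let s : S ≅ (SubalgSys.cone Γ(S, ⊤) ⊥).pt := S.isoSpec
  obtain ⟨k, -, Xk, uk, q, h1, h2, h3, H⟩ :=
    exists_stage_model (SubalgSys.D Γ(S, ⊤) ⊥) (SubalgSys.cone Γ(S, ⊤) ⊥) hc
      (u ≫ s.hom) (Opposite.op (SubalgSys.base _ ⊥ hfg))
  haveI := h1
  haveI := h2
  haveI := h3
  haveI : CompactSpace Xk := QuasiCompact.compactSpace_of_compactSpace uk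
  haveI : QuasiSeparatedSpace Xk := quasiSeparatedSpace_of_quasiSeparated uk
  let D := SubalgSys.D Γ(S, ⊤) ⊥
  let c := SubalgSys.cone Γ(S, ⊤) ⊥
  let e : X ≅ pullback (c.π.app k) uk := H.flip.isoPullback
  have he1 : e.hom ≫ pullback.fst (c.π.app k) uk = u ≫ s.hom := H.flip.isoPullback_hom_fst
  have he2 : e.hom ≫ pullback.snd (c.π.app k) uk = q := H.flip.isoPullback_hom_snd
  let F' : (pullback (c.π.app k) uk).Modules := (Scheme.Modules.pullback e.inv).obj F
  have hF' : SheafOfModules.IsFinitePresentation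
      (R := (pullback (c.π.app k) uk).ringCatSheaf) F' :=
    Groth.Agent.Lead.LimPres.isFP_pullback e.inv F hF
  obtain ⟨j, Fj, hq, hfp, ⟨α⟩⟩ := exists_descend_pb D c hc k uk F' hF'
  let πj := (pbCone D c k uk).π.app j
  have hπ1 : πj ≫ pullback.fst (D.map j.hom) uk =
      pullback.fst (c.π.app k) uk ≫ c.π.app j.left := by
    simp [πj, pbCone]
  have hπ2 : πj ≫ pullback.snd (D.map j.hom) uk = pullback.snd (c.π.app k) uk := by
    simp [πj, pbCone]
  have hw : c.π.app j.left ≫ D.map j.hom = c.π.app k := c.w j.hom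
  have hbig : IsPullback ((e.hom ≫ πj) ≫ pullback.snd (D.map j.hom) uk) u uk
      ((s.hom ≫ c.π.app j.left) ≫ D.map j.hom) := by
    rw [Category.assoc, hπ2, he2, Category.assoc, hw]
    exact isPullback_of_comp_iso s H
  have hsq : IsPullback (e.hom ≫ πj) u (pullback.fst (D.map j.hom) uk)
      (s.hom ≫ c.π.app j.left) := by
    refine IsPullback.of_right hbig ?_ (IsPullback.of_hasPullback (D.map j.hom) uk).flip
    rw [Category.assoc, hπ1, reassoc_of% he1]
  haveI := hfp
  refine ⟨D.obj j.left, pullback (D.map j.hom) uk, pullback.fst (D.map j.hom) uk,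
    s.hom ≫ c.π.app j.left, e.hom ≫ πj, Fj, isNoetherian_stage j.left,
    MorphismProperty.pullback_fst _ _ (inferInstance : LocallyOfFiniteType uk),
    MorphismProperty.pullback_fst _ _ (inferInstance : QuasiCompact uk), hsq,
    ⟨hq, Groth.Agent.Helper4.FinLocFree2.isFiniteType_of_isFinitePresentation Fj hfp⟩, ⟨?_⟩⟩
  exact ((Scheme.Modules.pullbackId X).app F).symm ≪≫
    (Scheme.Modules.pullbackCongr e.hom_inv_id.symm).app F ≪≫
    ((Scheme.Modules.pullbackComp e.hom e.inv).app F).symm ≪≫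
    (Scheme.Modules.pullback e.hom).mapIso α.symm ≪≫
    (Scheme.Modules.pullbackComp e.hom πj).app Fj

end Noeth

end Groth.Agent.Helper2.ConsMod

end
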