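import Mathlib
import Groth.Agent.Helper2.ConsMod2
import Groth.Agent.Helper5.ConsLc6
import Groth.Agent.Helper5.ConsLc7
import Groth.Prelude.Def_ProCons

/-!
# Constructibility of the locus of a constructible relation with a module (S5878, S5879, S5892)
-/

set_option autoImplicit false
universe u
open CategoryTheory CategoryTheory.Limits AlgebraicGeometry TopologicalSpace Topology

noncomputable section

namespace Groth.Agent.Helper2.ConsMod

open Groth.Agent.Helper5.ConsLc Groth.Agent.Lead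

variable {P : ∀ ⦃Y T : Scheme.{u}⦄, (Y ⟶ T) → Y.Modules → Prop}
  {X S : Scheme.{u}} (u : X ⟶ S)
  [LocallyOfFinitePresentation u] [QuasiCompact u] [QuasiSeparated u]
  (F : X.Modules) (hF : SheafOfModules.IsFinitePresentation (R := X.ringCatSheaf) F)

include hF in
theorem isCoh_of_isFP : Coh.IsCoh F := by
  haveI := hF
  exact ⟨inferInstance, Groth.Agent.Helper4.FinLocFree2.isFiniteType_of_isFinitePresentation F hF⟩

include hF in
theorem locusMod_affine_cons [IsAffine S] (hP : ConsProp.IsConsMod P) :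
    IsConstructible (ConsProp.locusMod P u F) := by
  obtain ⟨S₀, X₀, u₀, π, q, F₀, hN, h1, h2, H, hcoh, ⟨e⟩⟩ := exists_noeth_model_mod u F hF
  rw [locusMod_congr hP.1 u (Groth.Agent.Lead.FlatUnivJ.isCoh_pullback q F₀ hcoh) e,
    locusMod_of_isPullback hP.1 H F₀ hcoh]
  exact π.isConstructible_preimage (isConstructible_locusMod_of_noeth u₀ F₀ hcoh hP)

include hF in
theorem locusMod_affine_ind [IsAffine S] (hP : ConsProp.IsIndConsMod P) :
    ∃ 𝒮 : Set (Set S), (∀ T ∈ 𝒮, IsConstructible T) ∧ ConsProp.locusMod P u F = ⋃₀ 𝒮 := by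
  obtain ⟨S₀, X₀, u₀, π, q, F₀, hN, h1, h2, H, hcoh, ⟨e⟩⟩ := exists_noeth_model_mod u F hF
  obtain ⟨𝒮₀, h𝒮₀, heq⟩ := exists_cover_locusMod_of_noeth u₀ F₀ hcoh hP
  refine ⟨(fun T => π ⁻¹' T) '' 𝒮₀, ?_, ?_⟩
  · rintro _ ⟨T, hT, rfl⟩
    exact π.isConstructible_preimage (h𝒮₀ T hT)
  · rw [locusMod_congr hP.1 u (Groth.Agent.Lead.FlatUnivJ.isCoh_pullback q F₀ hcoh) e,
      locusMod_of_isPullback hP.1 H F₀ hcoh, heq, Set.preimage_sUnion, Set.sUnion_image]

include hF in
theorem locusMod_restrict (hP : ConsProp.IsFieldStableMod P) (U : S.Opens) :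
    ConsProp.locusMod P (u ∣_ U) ((Scheme.Modules.pullback (u ⁻¹ᵁ U).ι).obj F) =
      U.ι ⁻¹' ConsProp.locusMod P u F :=
  locusMod_of_isPullback hP (isPullback_morphismRestrict u U).flip F (isCoh_of_isFP F hF)

include hF in
theorem s5878 (hP : ConsProp.IsConsMod P) :
    Topology.IsLocallyConstructible (ConsProp.locusMod P u F) := by
  haveI := hF
  haveI : F.IsQuasicoherent := inferInstance
  apply IsLocallyConstructible.of_isOpenCover (U := fun U : S.affineOpens => U.1)
    (iSup_affineOpens_eq_top S)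
  intro U
  haveI : IsAffine (U.1 : Scheme.{u}) := U.2
  have h := locusMod_affine_cons (u ∣_ U.1) ((Scheme.Modules.pullback (u ⁻¹ᵁ U.1).ι).obj F)
    (Groth.Agent.Lead.LimPres.isFP_pullback _ F hF) hP
  rw [locusMod_restrict u F hF hP.1 U.1] at h
  exact h.isLocallyConstructible

include hF in
theorem s5879 (hP : ConsProp.IsIndConsMod P) :
    ProCons.IsIndConstructible (ConsProp.locusMod P u F) := by
  haveI := hF
  haveI : F.IsQuasicoherent := inferInstance
  intro x
  obtain ⟨_, ⟨U, hU, rfl⟩, hxU, -⟩ :=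
    S.isBasis_affineOpens.exists_subset_of_mem_open (Set.mem_univ x) isOpen_univ
  haveI : IsAffine (U : Scheme.{u}) := hU
  obtain ⟨𝒮, h𝒮, heq⟩ := locusMod_affine_ind (u ∣_ U)
    ((Scheme.Modules.pullback (u ⁻¹ᵁ U).ι).obj F)
    (Groth.Agent.Lead.LimPres.isFP_pullback _ F hF) hP
  rw [locusMod_restrict u F hF hP.1 U] at heq
  exact ⟨(U : Set S), U.isOpen, hxU, 𝒮, fun T hT => (h𝒮 T hT).isLocallyConstructible, heq⟩

end Groth.Agent.Helper2.ConsMod

end
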