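import Mathlib
import Groth.Prelude
import Groth.Agent.Helper5.ImmCons1
import Groth.Agent.Helper4.CohFP
import Groth.Agent.Helper4.FinLocFree2
import Groth.Agent.Helper2.FinLocFreeLim
import Groth.Agent.Lead.StalkPull2
import Groth.Agent.Lead.LocLift6

set_option autoImplicit false
set_option linter.unusedVariables false
open CategoryTheory CategoryTheory.Limits AlgebraicGeometry TopologicalSpace Topology TensorProduct
universe u

namespace Groth.Agent.Helper2.FibLF

open Groth.Agent.Helper4 Groth.Agent.Helper5.ConsPr

/-- flatness of the stalk descends along a morphism which is flat at the point -/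
theorem flat_stalk_of_flat_stalk_pullback {Y' Y : Scheme.{u}} (e : Y' ⟶ Y) (F : Y.Modules)
    [F.IsQuasicoherent] (y' : Y') (hfl : (e.stalkMap y').hom.Flat)
    (h : Module.Flat (Y'.presheaf.stalk y')
      (((Scheme.Modules.pullback e).obj F).presheaf.stalk y')) :
    Module.Flat (Y.presheaf.stalk (e y')) (F.presheaf.stalk (e y')) := by
  letI := (e.stalkMap y').hom.toAlgebra
  haveI : Module.Flat (Y.presheaf.stalk (e y')) (Y'.presheaf.stalk y') := hfl
  haveI : IsLocalHom (algebraMap (Y.presheaf.stalk (e y')) (Y'.presheaf.stalk y')) :=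
    inferInstanceAs (IsLocalHom (e.stalkMap y').hom)
  haveI : Module.FaithfullyFlat (Y.presheaf.stalk (e y')) (Y'.presheaf.stalk y') :=
    Module.FaithfullyFlat.of_flat_of_isLocalHom
  obtain ⟨E⟩ := Groth.Agent.Lead.StalkPull.nonempty_stalk_pullback_equiv e F y'
  haveI : Module.Flat (Y'.presheaf.stalk y')
      ((Y'.presheaf.stalk y') ⊗[Y.presheaf.stalk (e y')] (F.presheaf.stalk (e y'))) :=
    Module.Flat.of_linearEquiv E.symm
  exact Module.Flat.of_flat_tensorProduct _ _ (Y'.presheaf.stalk y')

/-- freeness of the stalk passes to pullbacks -/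
theorem flat_stalk_pullback_of_flat_stalk {Y' Y : Scheme.{u}} (e : Y' ⟶ Y) (F : Y.Modules)
    [F.IsQuasicoherent] (y' : Y')
    (h : Module.Flat (Y.presheaf.stalk (e y')) (F.presheaf.stalk (e y'))) :
    Module.Flat (Y'.presheaf.stalk y')
      (((Scheme.Modules.pullback e).obj F).presheaf.stalk y') := by
  letI := (e.stalkMap y').hom.toAlgebra
  obtain ⟨E⟩ := Groth.Agent.Lead.StalkPull.nonempty_stalk_pullback_equiv e F y'
  exact Module.Flat.of_linearEquiv E

theorem fieldStable_isFinLocFree :
    ConsProp.IsFieldStableMod (fun _ _ _ M => FlatMod.IsFinLocFree M) := by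
  intro Y Y' T T' g g' e h _ _ _ _ _ _ sq F F' hF iso
  constructor
  · intro hM
    exact FinLocFree2.isFinLocFree_of_iso iso.symm
      (Groth.Agent.Lead.LocLift.isFinLocFree_pullback e hM)
  · intro hM'
    have hM : FlatMod.IsFinLocFree ((Scheme.Modules.pullback e).obj F) :=
      FinLocFree2.isFinLocFree_of_iso iso hM'
    have : Nonempty T' := inferInstance
    have hh : Surjective h := surjective_of_subsingleton h
    have hfl : Flat h := inferInstance
    have hesurj : Surjective e := MorphismProperty.of_isPullback sq.flip hh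
    have hefl : Flat e := MorphismProperty.of_isPullback sq.flip hfl
    haveI : IsNoetherian T := Groth.Agent.Helper5.ImmCons.isNoetherian_of_onePoint T
    haveI : IsLocallyNoetherian Y := LocallyOfFiniteType.isLocallyNoetherian g
    haveI : F.IsQuasicoherent := hF.1
    have hfp := CohFP.isFP_of_isCoh F hF.1 hF.2
    haveI : ((Scheme.Modules.pullback e).obj F).IsQuasicoherent :=
      Groth.Agent.Lead.StalkPull.isQuasicoherent_pullbackObj e F
    refine Groth.Agent.Helper2.FinLocFreeLim.isFinLocFree_of_fp_of_isFlat F hfp (fun y => ?_)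
    obtain ⟨y', rfl⟩ := hesurj.surj y
    have hfree := FinLocFree2.free_stalk_of_isFinLocFree _ hM y'
    exact flat_stalk_of_flat_stalk_pullback e F y'
      ((Flat.iff_flat_stalkMap e).mp hefl y') inferInstance

end Groth.Agent.Helper2.FibLF
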