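import Mathlib
import Groth.Prelude
import Groth.Agent.Helper2.InjFlatFin
import Groth.Agent.Helper2.StalkEssFP
import Groth.Agent.Helper4.FinLocFree2

set_option autoImplicit false
open Function IsLocalRing
universe u

namespace Groth.Agent.Helper2.FibFree

section Pi
variable {S : Type u} [CommRing S] (I : Ideal S) {n : ℕ}

lemma mem_smul_top_pi (v : Fin n → S) (hv : ∀ i, v i ∈ I) :
    v ∈ I • (⊤ : Submodule S (Fin n → S)) := by
  have : v = ∑ i, v i • (Pi.single i (1 : S) : Fin n → S) := by
    ext j
    simp [Finset.sum_apply, Pi.single_apply]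
  rw [this]
  exact Submodule.sum_mem _ (fun i _ => Submodule.smul_mem_smul (hv i) Submodule.mem_top)

end Pi

/-- fibrewise freeness criterion, essentially finitely presented form: a finitely presented module
over `S`, flat over `R`, whose fibre is flat over the fibre ring, is free. -/
theorem free_of_flat_fibre {R S M : Type u} [CommRing R] [CommRing S] [IsLocalRing R]
    [IsLocalRing S] [Algebra R S] [IsLocalHom (algebraMap R S)]
    (hS : CAlgX.IsEssFinitePresentation R S)
    [AddCommGroup M] [Module S M] [Module R M] [IsScalarTower R S M] [Module.FinitePresentation S M]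
    [Module.Flat R M]
    (h : Module.Flat (S ⧸ (maximalIdeal R).map (algebraMap R S))
      (M ⧸ ((maximalIdeal R).map (algebraMap R S)) • (⊤ : Submodule S M))) :
    Module.Free S M := by
  set I : Ideal S := (maximalIdeal R).map (algebraMap R S) with hI
  have hIle : I ≤ maximalIdeal S := by
    rw [hI, Ideal.map_le_iff_le_comap]
    intro r hr
    exact map_nonunit (algebraMap R S) r hr
  haveI : Nontrivial (S ⧸ I) :=
    Ideal.Quotient.nontrivial_iff.2 (fun h => (maximalIdeal.isMaximal S).ne_top (top_le_iff.1 (h ▸ hIle)))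
  haveI : IsLocalRing (S ⧸ I) :=
    IsLocalRing.of_surjective' (Ideal.Quotient.mk I) Ideal.Quotient.mk_surjective
  haveI : Module.Finite (S ⧸ I) (M ⧸ I • (⊤ : Submodule S M)) :=
    Module.Finite.of_restrictScalars_finite S _ _
  haveI : Module.Free (S ⧸ I) (M ⧸ I • (⊤ : Submodule S M)) :=
    Module.free_of_flat_of_isLocalRing
  let b := Module.finBasis (S ⧸ I) (M ⧸ I • (⊤ : Submodule S M))
  set n := Module.finrank (S ⧸ I) (M ⧸ I • (⊤ : Submodule S M)) with hn
  choose c hc using fun i => Submodule.Quotient.mk_surjective (I • (⊤ : Submodule S M)) (b i)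
  let u : (Fin n → S) →ₗ[S] M := Fintype.linearCombination S c
  have hmk : ∀ v : Fin n → S, Submodule.Quotient.mk (p := I • (⊤ : Submodule S M)) (u v) =
      ∑ i, Ideal.Quotient.mk I (v i) • b i := by
    intro v
    rw [Fintype.linearCombination_apply, ← Submodule.mkQ_apply, map_sum]
    refine Finset.sum_congr rfl (fun i _ => ?_)
    rw [Submodule.mkQ_apply, Submodule.Quotient.mk_smul, hc]
    rfl
  have hu : ∀ v : Fin n → S, u v ∈ I • (⊤ : Submodule S M) →
      v ∈ I • (⊤ : Submodule S (Fin n → S)) := by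
    intro v hv
    apply mem_smul_top_pi
    rw [← Submodule.Quotient.mk_eq_zero, hmk] at hv
    have := Fintype.linearIndependent_iff.1 b.linearIndependent _ hv
    intro i
    exact Ideal.Quotient.eq_zero_iff_mem.1 (this i)
  obtain ⟨hinj, -⟩ := Groth.Agent.Helper2.InjFlatFin.s2107 hS u hu
  have hsurj : Surjective u := by
    rw [← LinearMap.range_eq_top]
    have hfg : (⊤ : Submodule S M).FG := Module.Finite.fg_top
    refine top_le_iff.1 (Submodule.le_of_le_smul_of_le_jacobson_bot (I := I) hfg ?_ ?_)
    · rw [IsLocalRing.jacobson_eq_maximalIdeal ⊥ bot_ne_top]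
      exact hIle
    · intro m _
      obtain ⟨v, hv⟩ : ∃ v : Fin n → S, Submodule.Quotient.mk (p := I • (⊤ : Submodule S M)) m =
          ∑ i, Ideal.Quotient.mk I (v i) • b i := by
        have := b.sum_repr (Submodule.Quotient.mk (p := I • (⊤ : Submodule S M)) m)
        choose w hw using fun i => Ideal.Quotient.mk_surjective (I := I)
          (b.repr (Submodule.Quotient.mk (p := I • (⊤ : Submodule S M)) m) i)
        exact ⟨w, by simp_rw [hw]; exact this.symm⟩
      rw [← hmk, eq_comm, ← sub_eq_zero, ← Submodule.Quotient.mk_sub,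
        Submodule.Quotient.mk_eq_zero] at hv
      have : m = u v - (u v - m) := by abel
      rw [this]
      exact Submodule.sub_mem _ (Submodule.mem_sup_left ⟨v, rfl⟩) (Submodule.mem_sup_right hv)
  exact Module.Free.of_equiv (LinearEquiv.ofBijective u ⟨hinj, hsurj⟩)

open AlgebraicGeometry CategoryTheory Limits in
theorem s1393 {X S : Scheme.{u}} (f : X ⟶ S) [LocallyOfFinitePresentation f]
    (F : X.Modules) (hFq : Coh.IsQCoh F) (hFp : CohB1.IsFP F) (x : X)
    (h1 : FlatMod.IsFlatOverAt f F x)
    (h2 : Module.Flat (↑(X.presheaf.stalk x) ⧸ Ideal.map (f.stalkMap x).hom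
        (IsLocalRing.maximalIdeal ↑(S.presheaf.stalk (f x))))
      (↑(F.presheaf.stalk x) ⧸ (Ideal.map (f.stalkMap x).hom
        (IsLocalRing.maximalIdeal ↑(S.presheaf.stalk (f x))) •
          (⊤ : Submodule ↑(X.presheaf.stalk x) ↑(F.presheaf.stalk x))))) :
    ∃ (U : X.Opens) (n : ℕ), x ∈ U ∧ Nonempty (F.restrict U.ι ≅ FlatMod.freeMod (↑U) n) := by
  letI algRS : Algebra (S.presheaf.stalk (f x)) (X.presheaf.stalk x) :=
    (f.stalkMap x).hom.toAlgebra
  haveI : IsLocalHom (algebraMap (S.presheaf.stalk (f x)) (X.presheaf.stalk x)) :=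
    inferInstanceAs (IsLocalHom (f.stalkMap x).hom)
  have hess := Groth.Agent.Helper2.StalkEssFP.essFP_stalk f x
  letI mN : Module (S.presheaf.stalk (f x)) (F.presheaf.stalk x) :=
    FlatMod.moduleStalkOver f F x
  haveI : IsScalarTower (S.presheaf.stalk (f x)) (X.presheaf.stalk x) (F.presheaf.stalk x) :=
    IsScalarTower.of_algebraMap_smul (fun _ _ => rfl)
  haveI : F.IsQuasicoherent := hFq
  haveI : Module.FinitePresentation (X.presheaf.stalk x) (F.presheaf.stalk x) :=
    Groth.Agent.Helper2.StalkEssFP.fp_stalk F hFp x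
  haveI : Module.Flat (S.presheaf.stalk (f x)) (F.presheaf.stalk x) := h1
  haveI hfree : Module.Free (X.presheaf.stalk x) (F.presheaf.stalk x) :=
    free_of_flat_fibre hess h2
  obtain ⟨V, n, hxV, hV⟩ :=
    Groth.Agent.Helper4.FinLocFree2.exists_isFreeAlong_of_fp_of_flat_stalk F hFp x inferInstance
  exact ⟨V, n, hxV, hV⟩

end Groth.Agent.Helper2.FibFree
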