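import Mathlib

set_option autoImplicit false
open TensorProduct
universe u

namespace Groth.Agent.Helper2.FibLF

/-- if the base change of `M` to a quotient `B' = B/J` is flat, then `M/JM` is flat over `B/J`. -/
theorem flat_quot_of_flat_tensor {B B' M : Type u} [CommRing B] [CommRing B'] [AddCommGroup M]
    [Module B M] (π : B →+* B') (hπ : Function.Surjective π) (J : Ideal B)
    (hJ : RingHom.ker π = J)
    (h : letI := π.toAlgebra; Module.Flat B' (B' ⊗[B] M)) :
    Module.Flat (B ⧸ J) (M ⧸ J • (⊤ : Submodule B M)) := by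
  subst hJ
  letI algπ : Algebra B B' := π.toAlgebra
  let eB : B ⧸ RingHom.ker π ≃+* B' := RingHom.quotientKerEquivOfSurjective hπ
  letI alg2 : Algebra B' (B ⧸ RingHom.ker π) := eB.symm.toRingHom.toAlgebra
  haveI : IsScalarTower B B' (B ⧸ RingHom.ker π) := by
    refine IsScalarTower.of_algebraMap_eq (fun b => ?_)
    show Ideal.Quotient.mk _ b = eB.symm (π b)
    rw [RingEquiv.eq_symm_apply]
    rfl
  haveI : Module.Flat B' (B' ⊗[B] M) := h
  have h1 : Module.Flat (B ⧸ RingHom.ker π) ((B ⧸ RingHom.ker π) ⊗[B'] (B' ⊗[B] M)) :=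
    inferInstance
  let e1 := AlgebraTensorModule.cancelBaseChange B B' (B ⧸ RingHom.ker π) (B ⧸ RingHom.ker π) M
  let e2 : ((B ⧸ RingHom.ker π) ⊗[B] M) ≃ₗ[B ⧸ RingHom.ker π]
      (M ⧸ (RingHom.ker π) • (⊤ : Submodule B M)) :=
    (quotTensorEquivQuotSMul M (RingHom.ker π)).extendScalarsOfSurjective
      Ideal.Quotient.mk_surjective
  exact Module.Flat.of_linearEquiv (e1.trans e2).symm

end Groth.Agent.Helper2.FibLF
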