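import Mathlib
import Groth.Prelude
import Groth.Agent.Helper2.FibLF2a
import Groth.Agent.Helper2.FibFree
import Groth.Agent.Helper5.FibStalk
import Groth.Agent.Lead.StalkPull2

set_option autoImplicit false
set_option linter.unusedVariables false
open CategoryTheory CategoryTheory.Limits AlgebraicGeometry TopologicalSpace Topology TensorProduct
universe u

namespace Groth.Agent.Helper2.FibLF

/-- if `F` is flat over the base at a point `x` of the fibre `X_s` and the stalk of `F_s` at `x`
is flat over the local ring of the fibre, then `F` is free in a neighbourhood of `x` in `X`. -/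
theorem exists_free_nhd_of_fibre {X S : Scheme.{u}} (f : X ⟶ S) [LocallyOfFinitePresentation f]
    (F : X.Modules) (hq : Coh.IsQCoh F) (hfp : CohB1.IsFP F) (s : S) (x' : ↥(f.fiber s))
    (h1 : FlatMod.IsFlatOverAt f F (f.fiberι s x'))
    (h2 : Module.Flat ((f.fiber s).presheaf.stalk x')
      (((Scheme.Modules.pullback (f.fiberι s)).obj F).presheaf.stalk x')) :
    ∃ (U : X.Opens) (n : ℕ), f.fiberι s x' ∈ U ∧
      Nonempty (F.restrict U.ι ≅ FlatMod.freeMod (↑U) n) := by
  haveI : F.IsQuasicoherent := hq
  obtain ⟨hsurj, hker⟩ := Groth.Agent.Helper5.FibStalk.s9501 f s x'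
  refine Groth.Agent.Helper2.FibFree.s1393 f F hq hfp (f.fiberι s x') h1 ?_
  refine flat_quot_of_flat_tensor ((f.fiberι s).stalkMap x').hom hsurj _ hker ?_
  letI := ((f.fiberι s).stalkMap x').hom.toAlgebra
  obtain ⟨E⟩ := Groth.Agent.Lead.StalkPull.nonempty_stalk_pullback_equiv (f.fiberι s) F x'
  exact Module.Flat.of_linearEquiv E.symm

end Groth.Agent.Helper2.FibLF
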