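import Mathlib
import Groth.Prelude
import Groth.Agent.Helper5.KLem11
import Groth.Agent.Helper5.ConsLc1

set_option autoImplicit false
set_option linter.unusedVariables false
open CategoryTheory CategoryTheory.Limits AlgebraicGeometry TopologicalSpace Topology
universe u

namespace Groth.Agent.Helper2.FibLF

/-- Abstract "generic decision" lemma: over an integral Noetherian base, a set `L` of points which,
over a nonempty open `U₀`, is the set of points whose fibre lies in a given open subset `W` of `X`,
is generically decided. -/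
theorem decided_of_open_criterion {X S : Scheme.{u}} (u : X ⟶ S) [IsIntegral S] [IsNoetherian S]
    [LocallyOfFiniteType u] [QuasiCompact u] (U₀ : S.Opens) (hU₀ : (U₀ : Set S).Nonempty)
    (W : Set X) (hW : IsOpen W) (L : Set S)
    (hL : ∀ s ∈ U₀, s ∈ L ↔ ∀ x : X, u x = s → x ∈ W) :
    (interior L).Nonempty ∨ (interior Lᶜ).Nonempty := by
  have hXN1 : IsLocallyNoetherian X := LocallyOfFiniteType.isLocallyNoetherian u
  have hXN2 : CompactSpace X := QuasiCompact.compactSpace_of_compactSpace u
  have hXN : IsNoetherian X := {}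
  have hufp : LocallyOfFinitePresentation u :=
    LocallyOfFinitePresentation.iff_locallyOfFiniteType.mpr inferInstance
  have hZ : IsLocallyConstructible Wᶜ :=
    (Groth.Agent.Helper5.ConsLc.isConstructible_of_isClosed_noeth
      hW.isClosed_compl).isLocallyConstructible
  have hB : IsLocallyConstructible (u '' Wᶜ) := u.isLocallyConstructible_image hZ
  let η := genericPoint S
  have hηmax : ∀ η' : S, η' ⤳ η → η' = η := by
    intro η' hη'
    have h1 : η ⤳ η' := by
      rw [specializes_iff_mem_closure, genericPoint_closure]; trivial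
    exact (hη'.antisymm h1).eq
  have hηU : η ∈ U₀ := by
    obtain ⟨t, ht⟩ := hU₀
    have h1 : η ⤳ t := by
      rw [specializes_iff_mem_closure, genericPoint_closure]; trivial
    exact h1.mem_open U₀.isOpen ht
  have hU₀n : (U₀ : Set S) ∈ nhds η := U₀.isOpen.mem_nhds hηU
  by_cases hη : η ∈ u '' Wᶜ
  · right
    refine ⟨η, mem_interior_iff_mem_nhds.mpr ?_⟩
    have h1 : u '' Wᶜ ∈ nhds η := by
      refine Groth.Agent.Helper5.KLem.mem_nhds_of_isLocallyConstructible _ hB η ?_
      intro t ht
      rw [hηmax t ht]
      exact hη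
    refine Filter.mem_of_superset (Filter.inter_mem h1 hU₀n) ?_
    rintro s ⟨⟨x, hxW, rfl⟩, hsU⟩ hsL
    exact hxW (((hL _ hsU).mp hsL) x rfl)
  · left
    refine ⟨η, mem_interior_iff_mem_nhds.mpr ?_⟩
    have h1 : (u '' Wᶜ)ᶜ ∈ nhds η := by
      refine Groth.Agent.Helper5.KLem.mem_nhds_of_isLocallyConstructible _
        (Groth.Agent.Helper5.KLem.isLocallyConstructible_compl hB) η ?_
      intro t ht
      rw [hηmax t ht]
      exact hη
    refine Filter.mem_of_superset (Filter.inter_mem h1 hU₀n) ?_
    rintro s ⟨hsB, hsU⟩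
    refine (hL _ hsU).mpr (fun x hx => ?_)
    by_contra hxW
    exact hsB ⟨x, hxW, hx⟩

end Groth.Agent.Helper2.FibLF
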