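import Mathlib
import Groth.Prelude
import Groth.Agent.Helper2.FibLF1
import Groth.Agent.Helper2.FibLF2
import Groth.Agent.Helper2.FibLF3
import Groth.Agent.Helper5.GenFlat3
import Groth.Agent.Helper2.ConsMod3

set_option autoImplicit false
set_option linter.unusedVariables false
open CategoryTheory CategoryTheory.Limits AlgebraicGeometry TopologicalSpace Topology TensorProduct
universe u

namespace Groth.Agent.Helper2.FibLF

open Groth.Agent.Helper4 Groth.Agent.Helper4.FinLocFree

/-- the relation "the module is finite locally free" -/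
def PLF : ∀ ⦃Y T : Scheme.{u}⦄, (Y ⟶ T) → Y.Modules → Prop := fun _ _ _ M => FlatMod.IsFinLocFree M

theorem isConsMod_isFinLocFree : ConsProp.IsConsMod (PLF.{u}) := by
  refine ⟨fieldStable_isFinLocFree, ?_⟩
  intro X S u _ _ _ _ F hF
  have hXN1 : IsLocallyNoetherian X := LocallyOfFiniteType.isLocallyNoetherian u
  have hufp : LocallyOfFinitePresentation u :=
    LocallyOfFinitePresentation.iff_locallyOfFiniteType.mpr inferInstance
  haveI : F.IsQuasicoherent := hF.1
  have hfp := CohFP.isFP_of_isCoh F hF.1 hF.2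
  obtain ⟨U₀, hU₀, hflat⟩ := Groth.Agent.Helper5.GenFlat.main u F hF.1 hF.2
  let W : Set X := {x | ∃ (V : X.Opens) (n : ℕ), x ∈ V ∧ IsFreeAlong F V.ι n}
  have hW : IsOpen W := by
    rw [isOpen_iff_forall_mem_open]
    rintro x ⟨V, n, hxV, hV⟩
    exact ⟨V, fun y hy => ⟨V, n, hy, hV⟩, V.isOpen, hxV⟩
  refine decided_of_open_criterion u U₀ hU₀ W hW _ (fun s hs => ?_)
  haveI : ((Scheme.Modules.pullback (u.fiberι s)).obj F).IsQuasicoherent :=
    Groth.Agent.Lead.StalkPull.isQuasicoherent_pullbackObj _ F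
  constructor
  · intro hL x hx
    have hxr : x ∈ Set.range (u.fiberι s) := by
      rw [Scheme.Hom.range_fiberι]; exact hx
    obtain ⟨x', rfl⟩ := hxr
    have hfree := FinLocFree2.free_stalk_of_isFinLocFree _ hL x'
    have hfl : FlatMod.IsFlatOverAt u F (u.fiberι s x') := hflat _ (by rw [hx]; exact hs)
    obtain ⟨V, n, hxV, hV⟩ := exists_free_nhd_of_fibre u F hF.1 hfp s x' hfl inferInstance
    exact ⟨V, n, hxV, hV⟩
  · intro h x'
    obtain ⟨V, n, hxV, hV⟩ := h (u.fiberι s x') (Groth.Agent.Helper5.FibStalk.fiberι_apply u s x')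
    exact ⟨(u.fiberι s) ⁻¹ᵁ V, n, hxV,
      Groth.Agent.Helper2.FinLocFreeLim.isFreeAlong_pullback (u.fiberι s) hV⟩

theorem s4819 {X S : Scheme.{u}} (f : X ⟶ S)
    [LocallyOfFinitePresentation f] [QuasiCompact f] [QuasiSeparated f]
    (F : X.Modules) [Coh.IsQCoh F] (hF : CohB1.IsFP F) :
    Topology.IsLocallyConstructible
      {s : S | FlatMod.IsFinLocFree ((Scheme.Modules.pullback (f.fiberι s)).obj F)} :=
  Groth.Agent.Helper2.ConsMod.s5878 f F hF isConsMod_isFinLocFree

end Groth.Agent.Helper2.FibLF
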