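import Mathlib
import Groth.Prelude
import Groth.Agent.Helper2.FibLF4
import Groth.Agent.Helper1.Dev1

set_option autoImplicit false
set_option linter.unusedVariables false
open CategoryTheory CategoryTheory.Limits AlgebraicGeometry TopologicalSpace Topology TensorProduct
universe u

namespace Groth.Agent.Helper2.FibLF

open Groth.Agent.Helper4 Groth.Agent.Helper4.FinLocFree Groth.Agent.Helper4.StalkDict
open Groth.Agent.Helper5.ConsPr

/-- flatness of a stalk only depends on the isomorphism class of the module -/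
theorem flat_stalk_of_iso {X : Scheme.{u}} {F G : X.Modules} (e : F ≅ G) (x : X)
    (h : Module.Flat (X.presheaf.stalk x) (F.presheaf.stalk x)) :
    Module.Flat (X.presheaf.stalk x) (G.presheaf.stalk x) := by
  let E : F.presheaf.stalk x ≃ₗ[X.presheaf.stalk x] G.presheaf.stalk x :=
    LinearEquiv.ofBijective (stalkLin e.hom x)
      (Groth.Agent.Helper1.Dev.stalkLin_bijective_of_isIso e.hom x)
  exact Module.Flat.of_linearEquiv E.symm

/-- the morphism between fibres induced by a base change is flat -/
theorem flat_fibreMap_of_isPullback {X' X S' S : Scheme.{u}} {g' : X' ⟶ X} {f' : X' ⟶ S'}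
    {f : X ⟶ S} {g : S' ⟶ S} (hc : IsPullback g' f' f g) (s' : S') :
    Flat (pullback.map _ _ _ _ g' (Spec.map (g.residueFieldMap s')) g hc.w.symm (by simp) :
      f'.fiber s' ⟶ f.fiber (g s')) := by
  have sq := isPullback_fiberToSpecResidueField_of_isPullback hc s'
  have hfl : Flat (Spec.map (g.residueFieldMap s')) := inferInstance
  exact MorphismProperty.of_isPullback sq.flip hfl

set_option backward.isDefEq.respectTransparency false in
/-- descent of freeness along a base change for a module flat over the base -/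
theorem exists_free_nhd_of_baseChange {X S X' S' : Scheme.{u}} (f : X ⟶ S)
    [LocallyOfFinitePresentation f] (F : X.Modules) (hq : Coh.IsQCoh F) (hfp : CohB1.IsFP F)
    (g : S' ⟶ S) (f' : X' ⟶ S') (g' : X' ⟶ X) (hc : IsPullback g' f' f g)
    (s' : S') (z : ↥(f'.fiber s'))
    (hfl : ∀ x, FlatMod.IsFlatOverAt f F x)
    (h : Module.Flat (X'.presheaf.stalk (f'.fiberι s' z))
      (((Scheme.Modules.pullback g').obj F).presheaf.stalk (f'.fiberι s' z))) :
    ∃ (V : X.Opens) (n : ℕ), g' (f'.fiberι s' z) ∈ V ∧ IsFreeAlong F V.ι n := by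
  haveI : F.IsQuasicoherent := hq
  haveI : ((Scheme.Modules.pullback g').obj F).IsQuasicoherent :=
    Groth.Agent.Lead.StalkPull.isQuasicoherent_pullbackObj _ F
  haveI : ((Scheme.Modules.pullback (f.fiberι (g s'))).obj F).IsQuasicoherent :=
    Groth.Agent.Lead.StalkPull.isQuasicoherent_pullbackObj _ F
  let φ : f'.fiber s' ⟶ f.fiber (g s') :=
    pullback.map _ _ _ _ g' (Spec.map (g.residueFieldMap s')) g hc.w.symm (by simp)
  have hφ : φ ≫ f.fiberι (g s') = f'.fiberι s' ≫ g' := pullback.lift_fst _ _ _
  have h1 := flat_stalk_pullback_of_flat_stalk (f'.fiberι s') ((Scheme.Modules.pullback g').obj F) z h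
  have h2 := flat_stalk_of_iso (Groth.Agent.Helper2.ConsMod.fibreModIso hc F s') z h1
  have hφfl : Flat φ := flat_fibreMap_of_isPullback hc s'
  have h3 := flat_stalk_of_flat_stalk_pullback φ ((Scheme.Modules.pullback (f.fiberι (g s'))).obj F) z
    ((Flat.iff_flat_stalkMap φ).mp hφfl z) h2
  obtain ⟨V, n, hV, hfree⟩ := exists_free_nhd_of_fibre f F hq hfp (g s') (φ z) (hfl _) h3
  refine ⟨V, n, ?_, hfree⟩
  have : f.fiberι (g s') (φ z) = g' (f'.fiberι s' z) := by
    rw [← Scheme.Hom.comp_apply, hφ, Scheme.Hom.comp_apply]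
  rw [← this]
  exact hV

end Groth.Agent.Helper2.FibLF
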