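import Mathlib
import Groth.Prelude
import Groth.Agent.Helper2.FibNT1
import Groth.Agent.Helper2.FibLF7
import Groth.Agent.Lead.FlatBC2

set_option autoImplicit false
set_option linter.unusedVariables false
open CategoryTheory CategoryTheory.Limits AlgebraicGeometry TopologicalSpace Topology TensorProduct
open IsLocalRing
universe u

namespace Groth.Agent.Helper2.FibNT

open Groth.Agent.Helper4.StalkDict

/-- triviality of a stalk only depends on the isomorphism class of the module -/
theorem subsingleton_stalk_of_iso {X : Scheme.{u}} {F G : X.Modules} (e : F ≅ G) (x : X)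
    (h : Subsingleton (F.presheaf.stalk x)) : Subsingleton (G.presheaf.stalk x) := by
  let E : F.presheaf.stalk x ≃ₗ[X.presheaf.stalk x] G.presheaf.stalk x :=
    LinearEquiv.ofBijective (stalkLin e.hom x)
      (Groth.Agent.Helper1.Dev.stalkLin_bijective_of_isIso e.hom x)
  exact E.symm.toEquiv.subsingleton

set_option backward.isDefEq.respectTransparency false in
/-- base change of a point with non-trivial fibre stalk -/
theorem exists_point_of_isPullback {X S X' S' : Scheme.{u}} {f : X ⟶ S} {f' : X' ⟶ S'}
    {g' : X' ⟶ X} {g : S' ⟶ S} (hc : IsPullback g' f' f g) (F : X.Modules) [F.IsQuasicoherent]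
    (s' : S') (x : X) (hx : f x = g s')
    (hne : letI := FlatMod.moduleStalkOver f F x
      maximalIdeal (S.presheaf.stalk (f x)) •
        (⊤ : Submodule (S.presheaf.stalk (f x)) (F.presheaf.stalk x)) ≠ ⊤) :
    ∃ x' : X', f' x' = s' ∧ g' x' = x ∧
      (letI := FlatMod.moduleStalkOver f' ((Scheme.Modules.pullback g').obj F) x'
       maximalIdeal (S'.presheaf.stalk (f' x')) •
        (⊤ : Submodule (S'.presheaf.stalk (f' x'))
          (((Scheme.Modules.pullback g').obj F).presheaf.stalk x')) ≠ ⊤) := by
  haveI : ((Scheme.Modules.pullback g').obj F).IsQuasicoherent :=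
    Groth.Agent.Lead.StalkPull.isQuasicoherent_pullbackObj _ F
  haveI : ((Scheme.Modules.pullback (f.fiberι (g s'))).obj F).IsQuasicoherent :=
    Groth.Agent.Lead.StalkPull.isQuasicoherent_pullbackObj _ F
  -- the point of the fibre
  obtain ⟨z, rfl⟩ : ∃ z : ↥(f.fiber (g s')), f.fiberι (g s') z = x := by
    have : x ∈ Set.range (f.fiberι (g s')) := by
      rw [Scheme.Hom.range_fiberι]; exact hx
    exact this
  -- the map between the fibres
  let φ : f'.fiber s' ⟶ f.fiber (g s') :=
    pullback.map _ _ _ _ g' (Spec.map (g.residueFieldMap s')) g hc.w.symm (by simp)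
  have hφι : φ ≫ f.fiberι (g s') = f'.fiberι s' ≫ g' := by
    simp [φ, Scheme.Hom.fiberι]
  haveI hφfl : Flat φ := Groth.Agent.Helper2.FibLF.flat_fibreMap_of_isPullback hc s'
  have sq := isPullback_fiberToSpecResidueField_of_isPullback hc s'
  haveI hφs : Surjective φ := by
    have h0 : Surjective (Spec.map (g.residueFieldMap s')) := inferInstance
    exact MorphismProperty.of_isPullback sq.flip h0
  obtain ⟨z', rfl⟩ := hφs.surj z
  refine ⟨f'.fiberι s' z', Groth.Agent.Helper5.FibStalk.fiberι_apply f' s' z', ?_, ?_⟩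
  · rw [← Scheme.Hom.comp_apply, ← hφι, Scheme.Hom.comp_apply]
  · intro htop
    apply hne
    rw [← subsingleton_stalk_fibre_iff f F (g s') (φ z')]
    rw [← subsingleton_stalk_fibre_iff f' ((Scheme.Modules.pullback g').obj F) s' z'] at htop
    -- transport along the isomorphism of pullbacks
    let e : (Scheme.Modules.pullback (f'.fiberι s')).obj ((Scheme.Modules.pullback g').obj F) ≅
        (Scheme.Modules.pullback φ).obj ((Scheme.Modules.pullback (f.fiberι (g s'))).obj F) :=
      (Scheme.Modules.pullbackComp (f'.fiberι s') g').app F ≪≫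
        (Scheme.Modules.pullbackCongr hφι.symm).app F ≪≫
        ((Scheme.Modules.pullbackComp φ (f.fiberι (g s'))).app F).symm
    have h2 := subsingleton_stalk_of_iso e z' htop
    exact (subsingleton_stalk_pullback_iff_of_flat φ _ z').mp h2

end Groth.Agent.Helper2.FibNT

namespace Groth.Agent.Helper2.FibNT

theorem s4680 {X Y Y' : Scheme.{u}} (f : X ⟶ Y) (g : Y' ⟶ Y)
    (F : X.Modules) (hF : Coh.IsQCoh F) (hFfl : FlatMod.IsFlatOver f F)
    (hFff : (∀ y : ↥Y, ∃ x : ↥X, f x = y ∧
      letI := FlatMod.moduleStalkOver f F x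
      IsLocalRing.maximalIdeal (Y.presheaf.stalk (f x)) • (⊤ : Submodule (Y.presheaf.stalk (f x)) (F.presheaf.stalk x)) ≠ ⊤)) :
    FlatMod.IsFlatOver (pullback.snd f g) ((Scheme.Modules.pullback (pullback.fst f g)).obj F) ∧
      (∀ y' : ↥Y', ∃ x' : ↥(pullback f g), (pullback.snd f g) x' = y' ∧
      letI := FlatMod.moduleStalkOver (pullback.snd f g) ((Scheme.Modules.pullback (pullback.fst f g)).obj F) x'
      IsLocalRing.maximalIdeal (Y'.presheaf.stalk ((pullback.snd f g) x')) • (⊤ : Submodule (Y'.presheaf.stalk ((pullback.snd f g) x')) (((Scheme.Modules.pullback (pullback.fst f g)).obj F).presheaf.stalk x')) ≠ ⊤) := by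
  haveI : F.IsQuasicoherent := hF
  refine ⟨fun x' => Groth.Agent.Lead.FlatBC.main_baseChange f (pullback.snd f g)
    (pullback.fst f g) g (IsPullback.of_hasPullback f g) F hF x' (hFfl _), fun y' => ?_⟩
  obtain ⟨x, hx, hne⟩ := hFff (g y')
  obtain ⟨x', h1, -, h3⟩ := exists_point_of_isPullback (IsPullback.of_hasPullback f g) F y' x hx hne
  exact ⟨x', h1, h3⟩

end Groth.Agent.Helper2.FibNT
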