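import Mathlib

set_option autoImplicit false
open TensorProduct
universe u

namespace Groth.Agent.Helper2.FlatTens

open TensorProduct.AlgebraTensorModule in
/-- `M` flat over `B`, `G` a `B`-module flat over `A`: then `M ⊗_B G` is flat over `A`. -/
theorem flat_tensor_mixed (A B M G : Type u) [CommRing A] [CommRing B] [Algebra A B]
    [AddCommGroup M] [Module B M] [Module A M] [IsScalarTower A B M]
    [AddCommGroup G] [Module B G] [Module A G] [IsScalarTower A B G]
    [Module.Flat B M] [Module.Flat A G] : Module.Flat A (M ⊗[B] G) := by
  rw [Module.Flat.iff_lTensor_preserves_injective_linearMap]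
  intro N N' _ _ _ _ f hf
  -- the inner map is injective and `B`-linear
  have h1 : Function.Injective (lTensor B G f) := by
    rw [coe_lTensor]
    exact Module.Flat.lTensor_preserves_injective_linearMap f hf
  have h2 : Function.Injective ((lTensor B G f).lTensor M) :=
    Module.Flat.lTensor_preserves_injective_linearMap _ h1
  have hsq : ∀ t, (assoc A B B M G N') (f.lTensor (M ⊗[B] G) t) =
      ((lTensor B G f).lTensor M) (assoc A B B M G N t) := by
    intro t
    induction t using TensorProduct.induction_on with
    | zero => simp
    | add x y hx hy => simp only [map_add, hx, hy]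
    | tmul mg n =>
      induction mg using TensorProduct.induction_on with
      | zero => simp
      | add x y hx hy => simp only [TensorProduct.add_tmul, map_add, hx, hy]
      | tmul m g => rfl
  intro t t' htt
  apply (assoc A B B M G N).injective
  apply h2
  rw [← hsq, ← hsq, htt]

open TensorProduct.AlgebraTensorModule in
/-- `M` faithfully flat over `B` and `M ⊗_B G` flat over `A`: then `G` is flat over `A`. -/
theorem flat_of_flat_tensor_mixed (A B M G : Type u) [CommRing A] [CommRing B] [Algebra A B]
    [AddCommGroup M] [Module B M] [Module A M] [IsScalarTower A B M]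
    [AddCommGroup G] [Module B G] [Module A G] [IsScalarTower A B G]
    [Module.FaithfullyFlat B M] (h : Module.Flat A (M ⊗[B] G)) : Module.Flat A G := by
  rw [Module.Flat.iff_lTensor_preserves_injective_linearMap]
  intro N N' _ _ _ _ f hf
  have h0 : Function.Injective (f.lTensor (M ⊗[B] G)) :=
    Module.Flat.lTensor_preserves_injective_linearMap f hf
  have hsq : ∀ t, (assoc A B B M G N') (f.lTensor (M ⊗[B] G) t) =
      ((lTensor B G f).lTensor M) (assoc A B B M G N t) := by
    intro t
    induction t using TensorProduct.induction_on with
    | zero => simp
    | add x y hx hy => simp only [map_add, hx, hy]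
    | tmul mg n =>
      induction mg using TensorProduct.induction_on with
      | zero => simp
      | add x y hx hy => simp only [TensorProduct.add_tmul, map_add, hx, hy]
      | tmul m g => rfl
  have h2 : Function.Injective ((lTensor B G f).lTensor M) := by
    intro t t' htt
    obtain ⟨s, rfl⟩ := (assoc A B B M G N).surjective t
    obtain ⟨s', rfl⟩ := (assoc A B B M G N).surjective t'
    rw [← hsq, ← hsq] at htt
    rw [h0 ((assoc A B B M G N').injective htt)]
  have h1 : Function.Injective (lTensor B G f) :=
    (Module.FaithfullyFlat.lTensor_injective_iff_injective B M _).mp h2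
  rw [coe_lTensor] at h1
  exact h1

/-- `M` faithfully flat over `B`: `M ⊗_B G` is trivial iff `G` is. -/
theorem subsingleton_tensor_iff (B M G : Type u) [CommRing B]
    [AddCommGroup M] [Module B M] [AddCommGroup G] [Module B G]
    [Module.FaithfullyFlat B M] : Subsingleton (M ⊗[B] G) ↔ Subsingleton G :=
  Module.FaithfullyFlat.subsingleton_tensorProduct_iff_right B M

end Groth.Agent.Helper2.FlatTens
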