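import Mathlib
import Groth.Agent.Helper2.FlatTens1

set_option autoImplicit false
set_option linter.unusedVariables false
open TensorProduct
universe u

namespace Groth.Agent.Helper2.FlatTens

/-- `J P = P` iff `P ⊗ A/J = 0` -/
theorem smul_top_eq_top_iff {A P : Type u} [CommRing A] [AddCommGroup P] [Module A P]
    (J : Ideal A) : J • (⊤ : Submodule A P) = ⊤ ↔ Subsingleton (P ⊗[A] (A ⧸ J)) := by
  rw [← Submodule.Quotient.subsingleton_iff]
  exact ⟨fun h => (TensorProduct.tensorQuotEquivQuotSMul P J).toEquiv.subsingleton,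
    fun h => (TensorProduct.tensorQuotEquivQuotSMul P J).symm.toEquiv.subsingleton⟩

section Dict

variable {A B C T M N G : Type u} [CommRing A] [CommRing B] [CommRing C]
  [AddCommGroup T] [Module C T] [AddCommGroup M] [Module C M] [AddCommGroup N] [Module C N]
  [AddCommGroup G] [Module B G]
  (φ : A →+* B) (ψ : B →+* C) (χ : A →+* C) (hχ : χ = ψ.comp φ)

include hχ in
/-- the dictionary for the stalk `T = M ⊗_C N`, `N = C ⊗_B G` of a tensor product `P ⊗ q^*G'` -/
theorem dict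
    (E₁ : T ≃ₗ[C] M ⊗[C] N)
    (E₂ : letI := ψ.toAlgebra; N ≃ₗ[C] C ⊗[B] G) :
    ((letI := Module.compHom M ψ; Module.Flat B M) →
      (letI := Module.compHom G φ; Module.Flat A G) →
      (letI := Module.compHom T χ; Module.Flat A T)) ∧
    ((letI := Module.compHom M ψ; Module.FaithfullyFlat B M) →
      (letI := Module.compHom T χ; Module.Flat A T) →
      (letI := Module.compHom G φ; Module.Flat A G)) ∧
    (∀ J : Ideal A, (letI := Module.compHom G φ; J • (⊤ : Submodule A G) = ⊤) →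
      (letI := Module.compHom T χ; J • (⊤ : Submodule A T) = ⊤)) ∧
    ((letI := Module.compHom M ψ; Module.FaithfullyFlat B M) → ∀ J : Ideal A,
      (letI := Module.compHom T χ; J • (⊤ : Submodule A T) = ⊤) →
        (letI := Module.compHom G φ; J • (⊤ : Submodule A G) = ⊤)) := by
  subst hχ
  letI algBC : Algebra B C := ψ.toAlgebra
  letI algAB : Algebra A B := φ.toAlgebra
  letI algAC : Algebra A C := (ψ.comp φ).toAlgebra
  haveI : IsScalarTower A B C := IsScalarTower.of_algebraMap_eq (fun a => rfl)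
  letI mBM : Module B M := Module.compHom M ψ
  letI mAM : Module A M := Module.compHom M (ψ.comp φ)
  letI mAT : Module A T := Module.compHom T (ψ.comp φ)
  letI mAG : Module A G := Module.compHom G φ
  haveI : IsScalarTower B C M := IsScalarTower.of_algebraMap_smul (fun _ _ => rfl)
  haveI : IsScalarTower A C M := IsScalarTower.of_algebraMap_smul (fun _ _ => rfl)
  haveI : IsScalarTower A B M := IsScalarTower.of_algebraMap_smul (fun _ _ => rfl)
  haveI : IsScalarTower A C T := IsScalarTower.of_algebraMap_smul (fun _ _ => rfl)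
  haveI : IsScalarTower A B G := IsScalarTower.of_algebraMap_smul (fun _ _ => rfl)
  let e1 : T ≃ₗ[C] M ⊗[C] (C ⊗[B] G) := E₁ ≪≫ₗ TensorProduct.congr (LinearEquiv.refl C M) E₂
  let e2 : M ⊗[C] (C ⊗[B] G) ≃ₗ[C] M ⊗[B] G :=
    TensorProduct.AlgebraTensorModule.cancelBaseChange B C C M G
  let Φ : T ≃ₗ[A] M ⊗[B] G := (e1 ≪≫ₗ e2).restrictScalars A
  refine ⟨fun hM hG => ?_, fun hM hT => ?_, fun J => ?_, fun hM J => ?_⟩
  · haveI := hM
    haveI := hG
    haveI : Module.Flat A (M ⊗[B] G) := flat_tensor_mixed A B M G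
    exact Module.Flat.of_linearEquiv Φ
  · haveI := hM
    haveI := hT
    have h1 : Module.Flat A (M ⊗[B] G) := Module.Flat.of_linearEquiv Φ.symm
    exact flat_of_flat_tensor_mixed A B M G h1
  · rw [smul_top_eq_top_iff, smul_top_eq_top_iff]
    let Ψ : T ⊗[A] (A ⧸ J) ≃ₗ[A] (M ⊗[B] G) ⊗[A] (A ⧸ J) :=
      TensorProduct.congr Φ (LinearEquiv.refl A _)
    let Θ : (M ⊗[B] G) ⊗[A] (A ⧸ J) ≃ₗ[B] M ⊗[B] (G ⊗[A] (A ⧸ J)) :=
      TensorProduct.AlgebraTensorModule.assoc A B B M G (A ⧸ J)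
    intro h
    haveI : Subsingleton (M ⊗[B] (G ⊗[A] (A ⧸ J))) := inferInstance
    haveI : Subsingleton ((M ⊗[B] G) ⊗[A] (A ⧸ J)) := Θ.toEquiv.subsingleton
    exact Ψ.toEquiv.subsingleton
  · haveI := hM
    rw [smul_top_eq_top_iff, smul_top_eq_top_iff]
    let Ψ : T ⊗[A] (A ⧸ J) ≃ₗ[A] (M ⊗[B] G) ⊗[A] (A ⧸ J) :=
      TensorProduct.congr Φ (LinearEquiv.refl A _)
    let Θ : (M ⊗[B] G) ⊗[A] (A ⧸ J) ≃ₗ[B] M ⊗[B] (G ⊗[A] (A ⧸ J)) :=
      TensorProduct.AlgebraTensorModule.assoc A B B M G (A ⧸ J)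
    have hff : Subsingleton (M ⊗[B] (G ⊗[A] (A ⧸ J))) ↔ Subsingleton (G ⊗[A] (A ⧸ J)) :=
      subsingleton_tensor_iff B M _
    intro h
    haveI : Subsingleton ((M ⊗[B] G) ⊗[A] (A ⧸ J)) := Ψ.symm.toEquiv.subsingleton
    haveI : Subsingleton (M ⊗[B] (G ⊗[A] (A ⧸ J))) := Θ.symm.toEquiv.subsingleton
    exact hff.mp inferInstance

end Dict

end Groth.Agent.Helper2.FlatTens
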