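import Mathlib
import Groth.Prelude
import Groth.Agent.Helper2.FlatTens2
import Groth.Agent.Helper9.PullMon4
import Groth.Agent.Lead.StalkPull2

set_option autoImplicit false
set_option linter.unusedVariables false
open CategoryTheory CategoryTheory.Limits AlgebraicGeometry TopologicalSpace Topology TensorProduct
open IsLocalRing
universe u

namespace Groth.Agent.Helper2.FlatTens

/-- the stalk of a tensor product, as a linear equivalence -/
noncomputable def stalkTensorEquiv {X : Scheme.{u}} (P Q : X.Modules) (x : X) :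
    (CohB1.tensorMod P Q).presheaf.stalk x ≃ₗ[X.presheaf.stalk x]
      (P.presheaf.stalk x) ⊗[X.presheaf.stalk x] (Q.presheaf.stalk x) :=
  (Groth.Agent.Helper9.PullMon4.stIso' x P Q).toLinearEquiv.symm

set_option backward.isDefEq.respectTransparency false in
/-- flatness and faithfulness dictionary for the stalk of `P ⊗ q^*G'` -/
theorem stalk_dict {X' Y' Z : Scheme.{u}} (q : X' ⟶ Y') (h : Y' ⟶ Z) (P : X'.Modules)
    (G' : Y'.Modules) [G'.IsQuasicoherent] (x' : X') :
    (FlatMod.IsFlatOverAt q P x' → FlatMod.IsFlatOverAt h G' (q x') →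
      FlatMod.IsFlatOverAt (q ≫ h)
        (CohB1.tensorMod P ((Scheme.Modules.pullback q).obj G')) x') ∧
    ((letI := FlatMod.moduleStalkOver q P x';
      Module.FaithfullyFlat (Y'.presheaf.stalk (q x')) (P.presheaf.stalk x')) →
      FlatMod.IsFlatOverAt (q ≫ h)
        (CohB1.tensorMod P ((Scheme.Modules.pullback q).obj G')) x' →
      FlatMod.IsFlatOverAt h G' (q x')) ∧
    (((letI := FlatMod.moduleStalkOver h G' (q x');
        maximalIdeal (Z.presheaf.stalk (h (q x'))) •
          (⊤ : Submodule (Z.presheaf.stalk (h (q x'))) (G'.presheaf.stalk (q x'))) = ⊤) →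
      (letI := FlatMod.moduleStalkOver (q ≫ h)
          (CohB1.tensorMod P ((Scheme.Modules.pullback q).obj G')) x';
        maximalIdeal (Z.presheaf.stalk ((q ≫ h) x')) •
          (⊤ : Submodule (Z.presheaf.stalk ((q ≫ h) x'))
            ((CohB1.tensorMod P ((Scheme.Modules.pullback q).obj G')).presheaf.stalk x')) = ⊤))) ∧
    ((letI := FlatMod.moduleStalkOver q P x';
      Module.FaithfullyFlat (Y'.presheaf.stalk (q x')) (P.presheaf.stalk x')) →
      ((letI := FlatMod.moduleStalkOver (q ≫ h)
          (CohB1.tensorMod P ((Scheme.Modules.pullback q).obj G')) x';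
        maximalIdeal (Z.presheaf.stalk ((q ≫ h) x')) •
          (⊤ : Submodule (Z.presheaf.stalk ((q ≫ h) x'))
            ((CohB1.tensorMod P ((Scheme.Modules.pullback q).obj G')).presheaf.stalk x')) = ⊤) →
       (letI := FlatMod.moduleStalkOver h G' (q x');
        maximalIdeal (Z.presheaf.stalk (h (q x'))) •
          (⊤ : Submodule (Z.presheaf.stalk (h (q x'))) (G'.presheaf.stalk (q x'))) = ⊤))) := by
  obtain ⟨E₂⟩ := Groth.Agent.Lead.StalkPull.nonempty_stalk_pullback_equiv q G' x'
  have hχ : ((q ≫ h).stalkMap x').hom = (q.stalkMap x').hom.comp (h.stalkMap (q x')).hom := by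
    rw [Scheme.Hom.stalkMap_comp]
    rfl
  have D := dict (A := Z.presheaf.stalk (h (q x'))) (B := Y'.presheaf.stalk (q x'))
    (C := X'.presheaf.stalk x')
    (T := (CohB1.tensorMod P ((Scheme.Modules.pullback q).obj G')).presheaf.stalk x')
    (M := P.presheaf.stalk x') (N := ((Scheme.Modules.pullback q).obj G').presheaf.stalk x')
    (G := G'.presheaf.stalk (q x'))
    (h.stalkMap (q x')).hom (q.stalkMap x').hom ((q ≫ h).stalkMap x').hom hχ
    (stalkTensorEquiv P ((Scheme.Modules.pullback q).obj G') x') E₂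
  refine ⟨fun h1 h2 => D.1 h1 h2, fun h1 h2 => D.2.1 h1 h2, fun h1 => D.2.2.1 _ h1,
    fun h1 h2 => D.2.2.2 h1 _ h2⟩

end Groth.Agent.Helper2.FlatTens
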