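import Mathlib
import Groth.Prelude
import Groth.Agent.Helper2.FlatTens3
import Groth.Agent.Helper2.FibNT2
import Groth.Agent.Lead.FlatBC2

set_option autoImplicit false
set_option linter.unusedVariables false
open CategoryTheory CategoryTheory.Limits AlgebraicGeometry TopologicalSpace Topology TensorProduct
open IsLocalRing
universe u

namespace Groth.Agent.Helper2.FlatTens

theorem s4678 {X Y Y' Z : Scheme.{u}} (f : X ⟶ Y) (g : Y' ⟶ Y) (h : Y' ⟶ Z)
    (F : X.Modules) (hF : Coh.IsQCoh F) (G' : Y'.Modules) (hG' : Coh.IsQCoh G') (x' : ↥(pullback f g))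
    (hFx : FlatMod.IsFlatOverAt f F (pullback.fst f g x')) (hGy : FlatMod.IsFlatOverAt h G' (pullback.snd f g x')) :
    FlatMod.IsFlatOverAt (pullback.snd f g ≫ h) (CohB1.tensorMod ((Scheme.Modules.pullback (pullback.fst f g)).obj F) ((Scheme.Modules.pullback (pullback.snd f g)).obj G')) x' := by
  haveI : G'.IsQuasicoherent := hG'
  exact (stalk_dict (pullback.snd f g) h ((Scheme.Modules.pullback (pullback.fst f g)).obj F) G' x').1
    (Groth.Agent.Lead.FlatBC.main_baseChange f (pullback.snd f g) (pullback.fst f g) g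
      (IsPullback.of_hasPullback f g) F hF x' hFx) hGy

theorem faithfullyFlat_local {B M : Type u} [CommRing B] [IsLocalRing B] [AddCommGroup M]
    [Module B M] [Module.Flat B M] (h : maximalIdeal B • (⊤ : Submodule B M) ≠ ⊤) :
    Module.FaithfullyFlat B M :=
  ⟨fun m hm => by rw [IsLocalRing.eq_maximalIdeal hm]; exact h⟩

theorem s4679 {X Y Y' Z : Scheme.{u}} (f : X ⟶ Y) (g : Y' ⟶ Y)
    (h : Y' ⟶ Z) (F : X.Modules) (hF : Coh.IsQCoh F) (hFfl : FlatMod.IsFlatOver f F)
    (hFff : ∀ y : ↥Y, ∃ x : ↥X, f x = y ∧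
      letI := FlatMod.moduleStalkOver f F x
      IsLocalRing.maximalIdeal (Y.presheaf.stalk (f x)) • (⊤ : Submodule (Y.presheaf.stalk (f x)) (F.presheaf.stalk x)) ≠ ⊤)
    (G' : Y'.Modules) (hG' : Coh.IsQCoh G') :
    (FlatMod.IsFlatOver h G' ↔ FlatMod.IsFlatOver (pullback.snd f g ≫ h) (CohB1.tensorMod ((Scheme.Modules.pullback (pullback.fst f g)).obj F) ((Scheme.Modules.pullback (pullback.snd f g)).obj G'))) ∧
    ((FlatMod.IsFlatOver h G' ∧ ∀ z : ↥Z, ∃ y' : ↥Y', h y' = z ∧
        letI := FlatMod.moduleStalkOver h G' y'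
        IsLocalRing.maximalIdeal (Z.presheaf.stalk (h y')) • (⊤ : Submodule (Z.presheaf.stalk (h y')) (G'.presheaf.stalk y')) ≠ ⊤) ↔
      (FlatMod.IsFlatOver (pullback.snd f g ≫ h) (CohB1.tensorMod ((Scheme.Modules.pullback (pullback.fst f g)).obj F) ((Scheme.Modules.pullback (pullback.snd f g)).obj G')) ∧
        ∀ z : ↥Z, ∃ x' : ↥(pullback f g), (pullback.snd f g ≫ h) x' = z ∧
          letI := FlatMod.moduleStalkOver (pullback.snd f g ≫ h) (CohB1.tensorMod ((Scheme.Modules.pullback (pullback.fst f g)).obj F) ((Scheme.Modules.pullback (pullback.snd f g)).obj G')) x'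
          IsLocalRing.maximalIdeal (Z.presheaf.stalk ((pullback.snd f g ≫ h) x')) •
            (⊤ : Submodule (Z.presheaf.stalk ((pullback.snd f g ≫ h) x')) ((CohB1.tensorMod ((Scheme.Modules.pullback (pullback.fst f g)).obj F) ((Scheme.Modules.pullback (pullback.snd f g)).obj G')).presheaf.stalk x')) ≠ ⊤)) := by
  haveI : G'.IsQuasicoherent := hG'
  haveI : F.IsQuasicoherent := hF
  -- flatness of `p^*F` over `Y'`
  have hPfl : ∀ x', FlatMod.IsFlatOverAt (pullback.snd f g)
      ((Scheme.Modules.pullback (pullback.fst f g)).obj F) x' := fun x' =>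
    Groth.Agent.Lead.FlatBC.main_baseChange f (pullback.snd f g) (pullback.fst f g) g
      (IsPullback.of_hasPullback f g) F hF x' (hFfl _)
  -- faithfully flat points
  have hPff : ∀ y' : Y', ∃ x' : ↥(pullback f g), pullback.snd f g x' = y' ∧
      (letI := FlatMod.moduleStalkOver (pullback.snd f g)
        ((Scheme.Modules.pullback (pullback.fst f g)).obj F) x';
       Module.FaithfullyFlat (Y'.presheaf.stalk (pullback.snd f g x'))
        (((Scheme.Modules.pullback (pullback.fst f g)).obj F).presheaf.stalk x')) := by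
    intro y'
    obtain ⟨x, hx, hne⟩ := hFff (g y')
    obtain ⟨x', h1, -, h3⟩ := Groth.Agent.Helper2.FibNT.exists_point_of_isPullback
      (IsPullback.of_hasPullback f g) F y' x hx hne
    refine ⟨x', h1, ?_⟩
    letI := FlatMod.moduleStalkOver (pullback.snd f g)
        ((Scheme.Modules.pullback (pullback.fst f g)).obj F) x'
    haveI : Module.Flat (Y'.presheaf.stalk (pullback.snd f g x'))
        (((Scheme.Modules.pullback (pullback.fst f g)).obj F).presheaf.stalk x') := hPfl x'
    exact faithfullyFlat_local h3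
  have hiff : FlatMod.IsFlatOver h G' ↔ FlatMod.IsFlatOver (pullback.snd f g ≫ h)
      (CohB1.tensorMod ((Scheme.Modules.pullback (pullback.fst f g)).obj F)
        ((Scheme.Modules.pullback (pullback.snd f g)).obj G')) := by
    constructor
    · intro hG x'
      exact (stalk_dict (pullback.snd f g) h
        ((Scheme.Modules.pullback (pullback.fst f g)).obj F) G' x').1 (hPfl x') (hG _)
    · intro hT y'
      obtain ⟨x', rfl, hff⟩ := hPff y'
      exact (stalk_dict (pullback.snd f g) h
        ((Scheme.Modules.pullback (pullback.fst f g)).obj F) G' x').2.1 hff (hT x')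
  refine ⟨hiff, ?_⟩
  constructor
  · rintro ⟨hG, hz⟩
    refine ⟨hiff.mp hG, fun z => ?_⟩
    obtain ⟨y', hy', hne⟩ := hz z
    obtain ⟨x', rfl, hff⟩ := hPff y'
    refine ⟨x', hy', fun htop => hne ?_⟩
    exact (stalk_dict (pullback.snd f g) h
      ((Scheme.Modules.pullback (pullback.fst f g)).obj F) G' x').2.2.2 hff htop
  · rintro ⟨hT, hz⟩
    refine ⟨hiff.mpr hT, fun z => ?_⟩
    obtain ⟨x', hx', hne⟩ := hz z
    refine ⟨pullback.snd f g x', hx', fun htop => hne ?_⟩
    exact (stalk_dict (pullback.snd f g) h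
      ((Scheme.Modules.pullback (pullback.fst f g)).obj F) G' x').2.2.1 htop

end Groth.Agent.Helper2.FlatTens
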