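import Mathlib
import Groth.Prelude
import Groth.Agent.Helper9.SkyMod4

set_option autoImplicit false
set_option linter.unusedVariables false
open CategoryTheory CategoryTheory.Limits AlgebraicGeometry TopologicalSpace Topology TensorProduct
universe u

namespace Groth.Agent.Helper2.GenStalk

open Groth.Agent.Helper9.SkyMod4

/-- the stalk of a pullback of an arbitrary module is the base change of the stalk -/
theorem nonempty_stalk_pullback_equiv {X S : Scheme.{u}} (f : X ⟶ S) (G : S.Modules) (x : X) :
    letI := (f.stalkMap x).hom.toAlgebra
    Nonempty (((Scheme.Modules.pullback f).obj G).presheaf.stalk x ≃ₗ[X.presheaf.stalk x]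
      (X.presheaf.stalk x) ⊗[S.presheaf.stalk (f x)] (G.presheaf.stalk (f x))) := by
  letI := (f.stalkMap x).hom.toAlgebra
  exact ⟨((pullStalkIso x f).app G).toLinearEquiv⟩

end Groth.Agent.Helper2.GenStalk
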