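import Mathlib
import Groth.Prelude
import Groth.Agent.Helper2.AssTens4
import Groth.Agent.Helper2.FlatTens4
import Groth.Agent.Helper2.GenStalk1
import Groth.Agent.Helper2.FibNT1

set_option autoImplicit false
set_option linter.unusedVariables false
open CategoryTheory CategoryTheory.Limits AlgebraicGeometry TopologicalSpace Topology TensorProduct
open IsLocalRing
universe u

namespace Groth.Agent.Helper2.AssTens

/-- pointwise criterion: the associated points of `f^*E ⊗ F` for `F` flat over the base. -/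
theorem isAssPoint_tensor_iff {X Y : Scheme.{u}} (f : X ⟶ Y) (F : X.Modules) [F.IsQuasicoherent]
    (E : Y.Modules) (s : Y) (z : ↥(f.fiber s))
    [IsNoetherianRing (X.presheaf.stalk (f.fiberι s z))]
    [IsNoetherianRing (Y.presheaf.stalk (f (f.fiberι s z)))]
    (hfl : FlatMod.IsFlatOverAt f F (f.fiberι s z)) :
    Curv2.IsAssPoint (CohB1.tensorMod ((Scheme.Modules.pullback f).obj E) F) (f.fiberι s z) ↔
      Curv2.IsAssPoint E (f (f.fiberι s z)) ∧
        Curv2.IsAssPoint ((Scheme.Modules.pullback (f.fiberι s)).obj F) z := by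
  let x : X := f.fiberι s z
  letI algAB : Algebra (Y.presheaf.stalk (f x)) (X.presheaf.stalk x) :=
    (f.stalkMap x).hom.toAlgebra
  letI modAM : Module (Y.presheaf.stalk (f x)) (F.presheaf.stalk x) :=
    FlatMod.moduleStalkOver f F x
  haveI : IsScalarTower (Y.presheaf.stalk (f x)) (X.presheaf.stalk x) (F.presheaf.stalk x) :=
    IsScalarTower.of_algebraMap_smul (fun _ _ => rfl)
  haveI : IsLocalHom (algebraMap (Y.presheaf.stalk (f x)) (X.presheaf.stalk x)) :=
    inferInstanceAs (IsLocalHom (f.stalkMap x).hom)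
  haveI : Module.Flat (Y.presheaf.stalk (f x)) (F.presheaf.stalk x) := hfl
  obtain ⟨e1⟩ := Groth.Agent.Helper2.GenStalk.nonempty_stalk_pullback_equiv f E x
  let e2 := Groth.Agent.Helper2.FlatTens.stalkTensorEquiv ((Scheme.Modules.pullback f).obj E) F x
  let e3 := e2 ≪≫ₗ TensorProduct.congr e1 (LinearEquiv.refl _ _)
  let e : (CohB1.tensorMod ((Scheme.Modules.pullback f).obj E) F).presheaf.stalk x ≃ₗ[X.presheaf.stalk x]
      (F.presheaf.stalk x) ⊗[Y.presheaf.stalk (f x)] (E.presheaf.stalk (f x)) :=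
    e3 ≪≫ₗ (TensorProduct.comm _ _ _) ≪≫ₗ
      TensorProduct.AlgebraTensorModule.cancelBaseChange (Y.presheaf.stalk (f x))
        (X.presheaf.stalk x) (X.presheaf.stalk x) (F.presheaf.stalk x) (E.presheaf.stalk (f x))
  have hX := Groth.Agent.Helper5.FibStalk.s9501 f s z
  obtain ⟨E'⟩ := Groth.Agent.Lead.StalkPull.nonempty_stalk_pullback_equiv (f.fiberι s) F z
  have h2 := isAssociatedPrime_fibre_dict
    (A := Y.presheaf.stalk (f x)) (B := X.presheaf.stalk x) (M := F.presheaf.stalk x)
    ((f.fiberι s).stalkMap z).hom hX.1 hX.2 E'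
  show IsAssociatedPrime _ _ ↔ IsAssociatedPrime _ _ ∧ IsAssociatedPrime _ _
  rw [e.isAssociatedPrime_iff, isAssociatedPrime_tensor_iff, h2]

end Groth.Agent.Helper2.AssTens
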