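import Mathlib
import Groth.Prelude

set_option autoImplicit false
set_option linter.unusedVariables false
open TensorProduct
open IsLocalRing
universe u

namespace Groth.Agent.Helper2.MaxSupp

/-- torsion-freeness of `M/pM` over `A/p` for flat `M`. -/
theorem mem_smul_top_of_smul_mem {A M : Type u} [CommRing A] [AddCommGroup M] [Module A M]
    [Module.Flat A M] (p : Ideal A) [p.IsPrime] {a : A} (ha : a ∉ p) {m : M}
    (h : a • m ∈ p • (⊤ : Submodule A M)) : m ∈ p • (⊤ : Submodule A M) := by
  have hinj : Function.Injective (LinearMap.lsmul A (A ⧸ p) a) := by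
    intro u v huv
    simp only [LinearMap.lsmul_apply] at huv
    have ha' : (Ideal.Quotient.mk p a) ≠ 0 := by
      rwa [Ne, Ideal.Quotient.eq_zero_iff_mem]
    have h1 : (Ideal.Quotient.mk p a) * u = (Ideal.Quotient.mk p a) * v := by
      have e1 : ∀ w : A ⧸ p, a • w = (Ideal.Quotient.mk p a) * w := fun w => by
        rw [Algebra.smul_def]; rfl
      rw [← e1, ← e1]
      exact huv
    exact mul_left_cancel₀ ha' h1
  have hinj2 := Module.Flat.lTensor_preserves_injective_linearMap (M := M) _ hinj
  let e := TensorProduct.tensorQuotEquivQuotSMul M p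
  have h1 : (LinearMap.lsmul A (A ⧸ p) a).lTensor M (m ⊗ₜ[A] (Ideal.Quotient.mk p 1)) = 0 := by
    rw [LinearMap.lTensor_tmul, LinearMap.lsmul_apply]
    have : a • (Ideal.Quotient.mk p 1) = Ideal.Quotient.mk p a := by
      rw [Algebra.smul_def, map_one, mul_one]; rfl
    rw [this]
    apply e.injective
    rw [map_zero, TensorProduct.tensorQuotEquivQuotSMul_tmul_mk]
    exact (Submodule.Quotient.mk_eq_zero _).2 h
  have h2 : m ⊗ₜ[A] (Ideal.Quotient.mk p 1) = 0 := hinj2 (by rw [h1, map_zero])
  have h3 : (Submodule.Quotient.mk ((1 : A) • m) : M ⧸ (p • (⊤ : Submodule A M))) = 0 := by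
    rw [← TensorProduct.tensorQuotEquivQuotSMul_tmul_mk, h2, map_zero]
  rw [one_smul] at h3
  exact (Submodule.Quotient.mk_eq_zero _).1 h3

/-- **Going down for supports of flat modules**: if `M` is a `B`-module, flat over `A`, and
`M/pM ≠ 0` for a prime `p` of `A`, then there is a prime `q` of `B` over `p` such that some element
of `M` has annihilator inside `q`. -/
theorem exists_prime_lift {A B M : Type u} [CommRing A] [CommRing B] [Algebra A B]
    [AddCommGroup M] [Module A M] [Module B M] [IsScalarTower A B M] [Module.Flat A M]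
    (p : Ideal A) [p.IsPrime] (hne : p • (⊤ : Submodule A M) ≠ ⊤) :
    ∃ (q : Ideal B) (_ : q.IsPrime) (m : M), q.comap (algebraMap A B) = p ∧
      ∀ b : B, b • m = 0 → b ∈ q := by
  obtain ⟨m, hm⟩ : ∃ m : M, m ∉ p • (⊤ : Submodule A M) := by
    by_contra hcon
    push Not at hcon
    exact hne (eq_top_iff.2 fun m _ => hcon m)
  -- the ideal of `b` with `b • m ∈ pM`
  let pM : Submodule B M := (p.map (algebraMap A B)) • (⊤ : Submodule B M)
  have hpM : ∀ n : M, n ∈ pM ↔ n ∈ p • (⊤ : Submodule A M) := by
    intro n
    constructor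
    · intro hn
      refine Submodule.smul_induction_on hn ?_ ?_
      · intro b hb n _
        refine Submodule.span_induction (p := fun b _ => b • n ∈ p • (⊤ : Submodule A M))
          ?_ ?_ ?_ ?_ hb
        · rintro _ ⟨a, ha, rfl⟩
          rw [algebraMap_smul]
          exact Submodule.smul_mem_smul ha trivial
        · simp
        · intro x y _ _ hx hy
          rw [add_smul]
          exact add_mem hx hy
        · intro c x _ hx
          rw [smul_eq_mul, mul_smul]
          -- `c • (x • n)` with `x • n ∈ pM`
          refine Submodule.smul_induction_on hx ?_ ?_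
          · intro a ha n' _
            rw [← algebraMap_smul B a n', ← mul_smul, mul_comm, mul_smul, algebraMap_smul]
            exact Submodule.smul_mem_smul ha trivial
          · intro x y hx hy
            rw [smul_add]
            exact add_mem hx hy
      · intro x y hx hy
        exact add_mem hx hy
    · intro hn
      refine Submodule.smul_induction_on hn ?_ ?_
      · intro a ha n' _
        rw [← algebraMap_smul B a n']
        exact Submodule.smul_mem_smul (Ideal.mem_map_of_mem _ ha) trivial
      · intro x y hx hy
        exact add_mem hx hy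
  let I : Ideal B :=
    { carrier := {b | b • m ∈ pM}
      add_mem' := fun {a b} ha hb => by
        simp only [Set.mem_setOf_eq] at *
        rw [add_smul]; exact add_mem ha hb
      zero_mem' := by simp
      smul_mem' := fun c {b} hb => by
        simp only [Set.mem_setOf_eq, smul_eq_mul] at *
        rw [mul_smul]; exact Submodule.smul_mem _ c hb }
  have hI : ∀ b, b ∈ I ↔ b • m ∈ pM := fun b => Iff.rfl
  have hdisj : Disjoint (I : Set B) (Algebra.algebraMapSubmonoid B p.primeCompl : Set B) := by
    rw [Set.disjoint_left]
    rintro _ hb ⟨a, ha, rfl⟩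
    have h1 : a • m ∈ p • (⊤ : Submodule A M) := by
      rw [← hpM, ← algebraMap_smul B a m]
      exact (hI _).1 hb
    exact hm (mem_smul_top_of_smul_mem p ha h1)
  obtain ⟨q, hq, hIq, hqd⟩ := Ideal.exists_le_prime_disjoint I _ hdisj
  refine ⟨q, hq, m, ?_, ?_⟩
  · ext a
    rw [Ideal.mem_comap]
    constructor
    · intro ha
      by_contra hap
      exact (Set.disjoint_left.1 hqd) ha ⟨a, hap, rfl⟩
    · intro ha
      apply hIq
      rw [hI, algebraMap_smul, hpM]
      exact Submodule.smul_mem_smul ha trivial
  · intro b hb
    apply hIq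
    rw [hI, hb]
    exact zero_mem _

end Groth.Agent.Helper2.MaxSupp
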