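import Mathlib
import Groth.Prelude
import Groth.Agent.Helper2.MaxSupp1

set_option autoImplicit false
set_option linter.unusedVariables false
open TensorProduct
open IsLocalRing
universe u

namespace Groth.Agent.Helper2.MaxSupp

/-- Nakayama along a local homomorphism: `m_A M = M` iff `M = 0`, for `M` finite over `B`. -/
theorem smul_top_eq_top_iff_subsingleton {A B M : Type u} [CommRing A] [CommRing B] [Algebra A B]
    [IsLocalRing B] [AddCommGroup M] [Module A M] [Module B M] [IsScalarTower A B M]
    [Module.Finite B M] (I : Ideal A) (hI : I.map (algebraMap A B) ≤ maximalIdeal B) :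
    I • (⊤ : Submodule A M) = ⊤ ↔ Subsingleton M := by
  constructor
  · intro h
    have h1 : (⊤ : Submodule B M) ≤ (maximalIdeal B) • (⊤ : Submodule B M) := by
      intro n _
      have hn : n ∈ I • (⊤ : Submodule A M) := by rw [h]; trivial
      refine Submodule.smul_induction_on hn ?_ ?_
      · intro a ha n' _
        rw [← algebraMap_smul B a n']
        exact Submodule.smul_mem_smul (hI (Ideal.mem_map_of_mem _ ha)) trivial
      · intro x y hx hy
        exact add_mem hx hy
    have h2 := Submodule.eq_bot_of_le_smul_of_le_jacobson_bot (maximalIdeal B)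
      (⊤ : Submodule B M) Module.Finite.fg_top h1
      (by rw [IsLocalRing.jacobson_eq_maximalIdeal ⊥ bot_ne_top])
    exact (Submodule.subsingleton_iff B).1 (subsingleton_of_bot_eq_top h2.symm)
  · intro h
    exact Subsingleton.elim _ _

theorem exists_prime_le {R₀ R M₀ : Type u} [CommRing R₀] [CommRing R] [Algebra R₀ R]
    [AddCommGroup M₀] [Module R M₀] [Module R₀ M₀] [IsScalarTower R₀ R M₀] [Module.Finite R M₀]
    (P : Ideal R) [P.IsPrime]
    [Module.Flat R₀ (LocalizedModule P.primeCompl M₀)]
    [Nontrivial (LocalizedModule P.primeCompl M₀)]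
    (Q₀ : Ideal R₀) [Q₀.IsPrime] (hQ₀ : Q₀ ≤ P.comap (algebraMap R₀ R)) :
    ∃ (Q : Ideal R) (_ : Q.IsPrime), Q ≤ P ∧ Q.comap (algebraMap R₀ R) = Q₀ ∧
      Nontrivial (LocalizedModule Q.primeCompl M₀) := by
  let B := Localization.AtPrime P
  let M := LocalizedModule P.primeCompl M₀
  haveI : Module.Finite B M := inferInstance
  have hmap : Q₀.map (algebraMap R₀ B) ≤ maximalIdeal B := by
    rw [Ideal.map_le_iff_le_comap]
    intro a ha
    rw [Ideal.mem_comap, IsScalarTower.algebraMap_apply R₀ R B]
    exact (IsLocalization.AtPrime.to_map_mem_maximal_iff B P _).2 (hQ₀ ha)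
  have hne : Q₀ • (⊤ : Submodule R₀ M) ≠ ⊤ := by
    intro h
    have := (smul_top_eq_top_iff_subsingleton (A := R₀) (B := B) (M := M) Q₀ hmap).1 h
    exact not_subsingleton M this
  obtain ⟨q, hq, m, hqc, hann⟩ := exists_prime_lift (A := R₀) (B := B) (M := M) Q₀ hne
  refine ⟨q.comap (algebraMap R B), inferInstance, ?_, ?_, ?_⟩
  · intro x hx
    by_contra hxP
    have hu : IsUnit (algebraMap R B x) := IsLocalization.map_units B (⟨x, hxP⟩ : P.primeCompl)
    exact hq.ne_top (Ideal.eq_top_of_isUnit_mem _ hx hu)
  · rw [Ideal.comap_comap, ← IsScalarTower.algebraMap_eq]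
    exact hqc
  · induction m using LocalizedModule.induction_on with
    | h m₀ s =>
      have hne0 : (LocalizedModule.mk m₀ (1 : (q.comap (algebraMap R B)).primeCompl) :
          LocalizedModule (q.comap (algebraMap R B)).primeCompl M₀) ≠ 0 := by
        intro h0
        rw [← LocalizedModule.zero_mk 1, LocalizedModule.mk_eq] at h0
        obtain ⟨u, hu⟩ := h0
        simp only [one_smul, smul_zero] at hu
        have h1 : (algebraMap R B (u : R)) • (LocalizedModule.mk m₀ s : M) = 0 := by
          rw [algebraMap_smul, LocalizedModule.smul'_mk]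
          have : (u : R) • m₀ = 0 := hu
          rw [this, LocalizedModule.zero_mk]
        exact u.2 (hann _ h1)
      exact ⟨⟨_, _, hne0⟩⟩

end Groth.Agent.Helper2.MaxSupp
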