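import Mathlib
import Groth.Prelude
import Groth.Agent.Helper2.MaxSupp2
import Groth.Agent.Helper2.FlatLocusMod
import Groth.Agent.Helper4.SecDict

set_option autoImplicit false
set_option linter.unusedVariables false
open CategoryTheory CategoryTheory.Limits AlgebraicGeometry TopologicalSpace Topology TensorProduct
open IsLocalRing
universe u

namespace Groth.Agent.Helper2.MaxSupp

open Groth.Agent.Helper4

/-- the stalk at a point of an affine open is trivial iff the localization of the sections is. -/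
theorem subsingleton_stalk_iff {X : Scheme.{u}} (F : X.Modules) [F.IsQuasicoherent]
    {U : X.Opens} (hU : IsAffineOpen U) (x : X) (hx : x ∈ U) :
    Subsingleton (F.presheaf.stalk x) ↔
      Subsingleton (LocalizedModule (hU.primeIdealOf ⟨x, hx⟩).asIdeal.primeCompl Γ(F, U)) := by
  letI mA : Module Γ(X, U) (F.presheaf.stalk x) := StalkDict.sectionModStalk F x hx
  haveI := StalkDict.isLocalizedModule_germ hU F x hx
  let eq := IsLocalizedModule.iso (hU.primeIdealOf ⟨x, hx⟩).asIdeal.primeCompl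
    (StalkDict.germLin F x hx)
  exact ⟨fun h => eq.toEquiv.subsingleton, fun h => eq.symm.toEquiv.subsingleton⟩

/-- **Lifting generizations into the support of a flat module**. -/
theorem exists_generization_lift {X Y : Scheme.{u}} (f : X ⟶ Y) (F : X.Modules)
    [F.IsQuasicoherent] (hft : SheafOfModules.IsFiniteType (R := X.ringCatSheaf) F) (x : X)
    (hfl : FlatMod.IsFlatOverAt f F x) (hx : ¬ Subsingleton (F.presheaf.stalk x)) (w : Y)
    (hw : w ⤳ f x) :
    ∃ z : X, z ⤳ x ∧ f z = w ∧ ¬ Subsingleton (F.presheaf.stalk z) := by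
  obtain ⟨V, hV, hfxV, -⟩ := (Opens.isBasis_iff_nbhd.1 Y.isBasis_affineOpens)
    (show f x ∈ (⊤ : Y.Opens) from trivial)
  obtain ⟨U, hU, hxU, e⟩ := (Opens.isBasis_iff_nbhd.1 X.isBasis_affineOpens)
    (show x ∈ f ⁻¹ᵁ V from hfxV)
  letI alg : Algebra Γ(Y, V) Γ(X, U) := (f.appLE V U e).hom.toAlgebra
  letI modR : Module Γ(Y, V) Γ(F, U) := Module.compHom _ (f.appLE V U e).hom
  haveI : IsScalarTower Γ(Y, V) Γ(X, U) Γ(F, U) :=
    IsScalarTower.of_algebraMap_smul fun _ _ => rfl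
  haveI : Module.Finite Γ(X, U) Γ(F, U) := SecDict.finite_sections hU F inferInstance hft
  haveI hflat : Module.Flat Γ(Y, V)
      (LocalizedModule (hU.primeIdealOf ⟨x, hxU⟩).asIdeal.primeCompl Γ(F, U)) :=
    (Groth.Agent.Helper2.FlatLocusMod.isFlatOverAt_iff_localized f F hV hU e x hxU).1 hfl
  haveI hnt : Nontrivial
      (LocalizedModule (hU.primeIdealOf ⟨x, hxU⟩).asIdeal.primeCompl Γ(F, U)) := by
    rw [← not_subsingleton_iff_nontrivial, ← subsingleton_stalk_iff F hU x hxU]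
    exact hx
  have hwV : w ∈ V := hw.mem_open V.isOpen hfxV
  have hle : (hV.primeIdealOf ⟨w, hwV⟩).asIdeal ≤
      (hU.primeIdealOf ⟨x, hxU⟩).asIdeal.comap (algebraMap Γ(Y, V) Γ(X, U)) := by
    have h1 := IsAffineOpen.comap_primeIdealOf_appLE (f := f) V hV U hU e hxU
    have h2 : hV.primeIdealOf ⟨w, hwV⟩ ⤳ hV.primeIdealOf ⟨f x, e hxU⟩ := by
      have h3 : (⟨w, hwV⟩ : V) ⤳ ⟨f x, e hxU⟩ := (subtype_specializes_iff _ _).2 hw
      exact h3.map hV.isoSpec.hom.continuous
    have h4 := (PrimeSpectrum.le_iff_specializes _ _).2 h2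
    rw [← h1] at h4
    exact h4
  obtain ⟨Q, hQ, hQP, hQc, hQnt⟩ := exists_prime_le (R₀ := Γ(Y, V)) (R := Γ(X, U))
    (M₀ := Γ(F, U)) (hU.primeIdealOf ⟨x, hxU⟩).asIdeal (hV.primeIdealOf ⟨w, hwV⟩).asIdeal hle
  let z : X := hU.fromSpec ⟨Q, hQ⟩
  have hzU : z ∈ U := by
    have : z ∈ Set.range hU.fromSpec := ⟨_, rfl⟩
    rw [hU.range_fromSpec] at this
    exact this
  have hzQ : hU.primeIdealOf ⟨z, hzU⟩ = ⟨Q, hQ⟩ := by
    apply hU.fromSpec.isOpenEmbedding.injective
    rw [hU.fromSpec_primeIdealOf]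
  refine ⟨z, ?_, ?_, ?_⟩
  · have h1 : (⟨Q, hQ⟩ : PrimeSpectrum Γ(X, U)) ⤳ hU.primeIdealOf ⟨x, hxU⟩ :=
      (PrimeSpectrum.le_iff_specializes _ _).1 hQP
    have h2 := h1.map hU.fromSpec.continuous
    rw [hU.fromSpec_primeIdealOf] at h2
    exact h2
  · have h1 := IsAffineOpen.comap_primeIdealOf_appLE (f := f) V hV U hU e hzU
    rw [hzQ] at h1
    have h2 : hV.primeIdealOf ⟨f z, e hzU⟩ = hV.primeIdealOf ⟨w, hwV⟩ := by
      rw [← h1]
      apply PrimeSpectrum.ext
      exact hQc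
    have h3 := congrArg (fun q => hV.fromSpec q) h2
    simp only [hV.fromSpec_primeIdealOf] at h3
    exact h3
  · rw [subsingleton_stalk_iff F hU z hzU, hzQ, not_subsingleton_iff_nontrivial]
    exact hQnt

end Groth.Agent.Helper2.MaxSupp
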