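import Mathlib
import Groth.Prelude
import Groth.Agent.Helper2.MaxSupp3
import Groth.Agent.Helper2.FlatTens4
import Groth.Agent.Helper2.GenStalk1
import Groth.Agent.Helper2.FibNT1
import Groth.Agent.Helper4.FinLocFree2

set_option autoImplicit false
set_option linter.unusedVariables false
open CategoryTheory CategoryTheory.Limits AlgebraicGeometry TopologicalSpace Topology TensorProduct
open IsLocalRing
universe u

namespace Groth.Agent.Helper2.MaxSupp

theorem map_maximalIdeal_le {A B : Type u} [CommRing A] [CommRing B] [Algebra A B]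
    [IsLocalRing A] [IsLocalRing B] [IsLocalHom (algebraMap A B)] :
    (maximalIdeal A).map (algebraMap A B) ≤ maximalIdeal B := by
  rw [Ideal.map_le_iff_le_comap]
  intro a ha
  exact _root_.map_nonunit (algebraMap A B) a ha

theorem subsingleton_tensor_baseChange_iff {A B G M : Type u} [CommRing A] [CommRing B]
    [Algebra A B] [IsLocalRing A] [IsLocalRing B] [IsLocalHom (algebraMap A B)]
    [AddCommGroup G] [Module A G] [AddCommGroup M] [Module A M] [Module B M]
    [IsScalarTower A B M] [Module.Finite B M] [Module.Flat A M] :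
    Subsingleton ((B ⊗[A] G) ⊗[B] M) ↔ Subsingleton G ∨ Subsingleton M := by
  let e : (B ⊗[A] G) ⊗[B] M ≃ₗ[B] M ⊗[A] G :=
    (TensorProduct.comm B _ _) ≪≫ₗ TensorProduct.AlgebraTensorModule.cancelBaseChange A B B M G
  rw [e.toEquiv.subsingleton_congr]
  by_cases hM : Subsingleton M
  · exact ⟨fun _ => Or.inr hM, fun _ => inferInstance⟩
  · have hne : maximalIdeal A • (⊤ : Submodule A M) ≠ ⊤ := fun h =>
      hM ((smul_top_eq_top_iff_subsingleton (A := A) (B := B) (M := M) _ map_maximalIdeal_le).1 h)
    haveI := Groth.Agent.Helper2.FlatTens.faithfullyFlat_local hne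
    rw [Module.FaithfullyFlat.subsingleton_tensorProduct_iff_right A M]
    exact ⟨fun h => Or.inl h, fun h => h.resolve_right hM⟩

/-- the support of `f^*E ⊗ F` for `F` flat over the base. -/
theorem subsingleton_stalk_tensor_iff {X Y : Scheme.{u}} (f : X ⟶ Y) (F : X.Modules)
    [F.IsQuasicoherent] (hft : SheafOfModules.IsFiniteType (R := X.ringCatSheaf) F)
    (E : Y.Modules) (z : X) (hfl : FlatMod.IsFlatOverAt f F z) :
    Subsingleton ((CohB1.tensorMod ((Scheme.Modules.pullback f).obj E) F).presheaf.stalk z) ↔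
      Subsingleton (E.presheaf.stalk (f z)) ∨ Subsingleton (F.presheaf.stalk z) := by
  letI algAB : Algebra (Y.presheaf.stalk (f z)) (X.presheaf.stalk z) :=
    (f.stalkMap z).hom.toAlgebra
  letI modAM : Module (Y.presheaf.stalk (f z)) (F.presheaf.stalk z) :=
    FlatMod.moduleStalkOver f F z
  haveI : IsScalarTower (Y.presheaf.stalk (f z)) (X.presheaf.stalk z) (F.presheaf.stalk z) :=
    IsScalarTower.of_algebraMap_smul (fun _ _ => rfl)
  haveI : IsLocalHom (algebraMap (Y.presheaf.stalk (f z)) (X.presheaf.stalk z)) :=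
    inferInstanceAs (IsLocalHom (f.stalkMap z).hom)
  haveI : Module.Finite (X.presheaf.stalk z) (F.presheaf.stalk z) :=
    Groth.Agent.Helper4.FinLocFree2.finite_stalk F hft z
  haveI : Module.Flat (Y.presheaf.stalk (f z)) (F.presheaf.stalk z) := hfl
  obtain ⟨e1⟩ := Groth.Agent.Helper2.GenStalk.nonempty_stalk_pullback_equiv f E z
  let e2 := Groth.Agent.Helper2.FlatTens.stalkTensorEquiv ((Scheme.Modules.pullback f).obj E) F z
  let e3 := e2 ≪≫ₗ TensorProduct.congr e1 (LinearEquiv.refl _ _)
  rw [e3.toEquiv.subsingleton_congr]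
  exact subsingleton_tensor_baseChange_iff

/-- the support of the restriction of a finite type module to a fibre. -/
theorem subsingleton_stalk_fibre_iff' {X S : Scheme.{u}} (f : X ⟶ S) (F : X.Modules)
    [F.IsQuasicoherent] (hft : SheafOfModules.IsFiniteType (R := X.ringCatSheaf) F)
    (s : S) (z : ↥(f.fiber s)) :
    Subsingleton (((Scheme.Modules.pullback (f.fiberι s)).obj F).presheaf.stalk z) ↔
      Subsingleton (F.presheaf.stalk (f.fiberι s z)) := by
  rw [Groth.Agent.Helper2.FibNT.subsingleton_stalk_fibre_iff]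
  let x : X := f.fiberι s z
  letI algAB : Algebra (S.presheaf.stalk (f x)) (X.presheaf.stalk x) :=
    (f.stalkMap x).hom.toAlgebra
  letI modAM : Module (S.presheaf.stalk (f x)) (F.presheaf.stalk x) :=
    FlatMod.moduleStalkOver f F x
  haveI : IsScalarTower (S.presheaf.stalk (f x)) (X.presheaf.stalk x) (F.presheaf.stalk x) :=
    IsScalarTower.of_algebraMap_smul (fun _ _ => rfl)
  haveI : IsLocalHom (algebraMap (S.presheaf.stalk (f x)) (X.presheaf.stalk x)) :=
    inferInstanceAs (IsLocalHom (f.stalkMap x).hom)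
  haveI : Module.Finite (X.presheaf.stalk x) (F.presheaf.stalk x) :=
    Groth.Agent.Helper4.FinLocFree2.finite_stalk F hft x
  exact smul_top_eq_top_iff_subsingleton (A := S.presheaf.stalk (f x))
    (B := X.presheaf.stalk x) (M := F.presheaf.stalk x) _ map_maximalIdeal_le

end Groth.Agent.Helper2.MaxSupp
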