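import Mathlib
import Groth.Prelude
import Groth.Agent.Helper2.AssTens5
import Groth.Agent.Helper2.MaxSupp4
import Groth.Agent.Helper4.AssMax2

set_option autoImplicit false
set_option linter.unusedVariables false
open CategoryTheory CategoryTheory.Limits AlgebraicGeometry TopologicalSpace Topology TensorProduct
open IsLocalRing
universe u

namespace Groth.Agent.Helper2.AssTens

open Groth.Agent.Helper2.MaxSupp

section
variable {X Y : Scheme.{u}} [IsLocallyNoetherian X] [IsLocallyNoetherian Y]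
    (f : X ⟶ Y) (E : Y.Modules) (F : X.Modules) (hF : Coh.IsCoh F)
    (hflat : FlatMod.IsFlatOver f F)

theorem map_fiberι (s : Y) (z : ↥(f.fiber s)) : f (f.fiberι s z) = s := by
  have : f.fiberι s z ∈ Set.range (f.fiberι s) := ⟨z, rfl⟩
  rw [f.range_fiberι] at this
  exact this

include hF hflat in
theorem mem_ass_tensor_iff (s : Y) (z : ↥(f.fiber s)) :
    f.fiberι s z ∈ AssSch.Ass (CohB1.tensorMod ((Scheme.Modules.pullback f).obj E) F) ↔
      s ∈ AssSch.Ass E ∧ z ∈ AssSch.Ass ((Scheme.Modules.pullback (f.fiberι s)).obj F) := by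
  haveI : F.IsQuasicoherent := hF.1
  have := isAssPoint_tensor_iff f F E s z (hflat _)
  rw [map_fiberι f s z] at this
  exact this

include hF in
theorem mem_support_fibre_iff (s : Y) (z : ↥(f.fiber s)) :
    ¬ Subsingleton (((Scheme.Modules.pullback (f.fiberι s)).obj F).presheaf.stalk z) ↔
      ¬ Subsingleton (F.presheaf.stalk (f.fiberι s z)) := by
  haveI : F.IsQuasicoherent := hF.1
  rw [subsingleton_stalk_fibre_iff' f F hF.2 s z]

include hF hflat in
/-- above an associated point of `E` in the image of the support of `F` there are associated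
points of the tensor product. -/
theorem exists_ass_tensor (y : Y) (hy : y ∈ AssSch.Ass E) (x : X) (hx : f x = y)
    (hxF : ¬ Subsingleton (F.presheaf.stalk x)) :
    ∃ x1 : X, x1 ∈ AssSch.Ass (CohB1.tensorMod ((Scheme.Modules.pullback f).obj E) F) ∧
      x1 ⤳ x ∧ f x1 = y ∧ ¬ Subsingleton (F.presheaf.stalk x1) := by
  haveI : F.IsQuasicoherent := hF.1
  have hxr : x ∈ Set.range (f.fiberι y) := by
    rw [f.range_fiberι]; exact hx
  obtain ⟨z, rfl⟩ := hxr
  haveI : ((Scheme.Modules.pullback (f.fiberι y)).obj F).IsQuasicoherent :=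
    Groth.Agent.Lead.StalkPull.isQuasicoherent_pullbackObj _ _
  have hz : ¬ Subsingleton (((Scheme.Modules.pullback (f.fiberι y)).obj F).presheaf.stalk z) :=
    (mem_support_fibre_iff f F hF y z).2 hxF
  obtain ⟨z1, hz1, hz1z⟩ := Groth.Agent.Helper4.AssMax2.exists_isAssPoint_specializes
    ((Scheme.Modules.pullback (f.fiberι y)).obj F) z (not_subsingleton_iff_nontrivial.1 hz)
  refine ⟨f.fiberι y z1, (mem_ass_tensor_iff f E F hF hflat y z1).2 ⟨hy, hz1⟩,
    hz1z.map (f.fiberι y).continuous, map_fiberι f y z1, ?_⟩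
  rw [← mem_support_fibre_iff f F hF y z1, not_subsingleton_iff_nontrivial]
  exact Groth.Agent.Helper4.AssMax2.nontrivial_of_isAssPoint _ z1 hz1

include hF hflat in
theorem s2545 :
    AssSch.NoEmbedded (CohB1.tensorMod ((Scheme.Modules.pullback f).obj E) F) ↔
      ∀ y ∈ AssSch.Ass E ∩ f.base '' CohB1.support F,
        (∀ y' ∈ AssSch.Ass E, y' ⤳ y → y' = y) ∧
          AssSch.NoEmbedded ((Scheme.Modules.pullback (f.fiberι y)).obj F) := by
  haveI : F.IsQuasicoherent := hF.1
  constructor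
  · rintro hNE y ⟨hyE, x0, hx0F, hx0⟩
    have hx0' : f x0 = y := hx0
    refine ⟨?_, ?_⟩
    · intro y' hy'E hy'y
      obtain ⟨x1, hx1T, -, hfx1, hx1F⟩ := exists_ass_tensor f E F hF hflat y hyE x0 hx0' hx0F
      obtain ⟨w, hwx1, hfw, hwF⟩ := exists_generization_lift f F hF.2 x1 (hflat x1) hx1F y'
        (by rw [hfx1]; exact hy'y)
      obtain ⟨x2, hx2T, hx2w, hfx2, -⟩ := exists_ass_tensor f E F hF hflat y' hy'E w hfw hwF
      have := hNE x1 hx1T x2 hx2T (hx2w.trans hwx1)
      rw [← hfx1, ← hfx2, this]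
    · intro z hz z' hz' hsp
      have h1 := (mem_ass_tensor_iff f E F hF hflat y z).2 ⟨hyE, hz⟩
      have h2 := (mem_ass_tensor_iff f E F hF hflat y z').2 ⟨hyE, hz'⟩
      have := hNE _ h1 _ h2 (hsp.map (f.fiberι y).continuous)
      exact (f.fiberι y).isEmbedding.injective this
  · intro hR x hxT x' hx'T hsp
    obtain ⟨s, hs⟩ : ∃ s, s = f x := ⟨_, rfl⟩
    have hxr : x ∈ Set.range (f.fiberι s) := by
      rw [f.range_fiberι]; exact hs.symm
    obtain ⟨z, rfl⟩ := hxr
    obtain ⟨hsE, hzA⟩ := (mem_ass_tensor_iff f E F hF hflat s z).1 hxT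
    have hzF : ¬ Subsingleton (F.presheaf.stalk (f.fiberι s z)) := by
      rw [← mem_support_fibre_iff f F hF s z, not_subsingleton_iff_nontrivial]
      exact Groth.Agent.Helper4.AssMax2.nontrivial_of_isAssPoint _ z hzA
    obtain ⟨hmax, hne⟩ := hR s ⟨hsE, f.fiberι s z, hzF, hs.symm⟩
    obtain ⟨s', hs'⟩ : ∃ s', s' = f x' := ⟨_, rfl⟩
    have hx'r : x' ∈ Set.range (f.fiberι s') := by
      rw [f.range_fiberι]; exact hs'.symm
    obtain ⟨z', rfl⟩ := hx'r
    obtain ⟨hs'E, hz'A⟩ := (mem_ass_tensor_iff f E F hF hflat s' z').1 hx'T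
    have hss' : s' = s := by
      apply hmax s' hs'E
      rw [hs, hs']
      exact hsp.map f.continuous
    subst hss'
    have hzz' : z' ⤳ z := by
      rw [← (f.fiberι s').isEmbedding.isInducing.specializes_iff]
      exact hsp
    rw [hne z hzA z' hz'A hzz']

end

end Groth.Agent.Helper2.AssTens
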