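import Mathlib
import Groth.Agent.Helper2.AssTens4

set_option autoImplicit false
set_option linter.unusedVariables false
open TensorProduct IsLocalRing
universe u

namespace Groth.Agent.Helper2.AssTens

section
variable {A B M E : Type u} [CommRing A] [CommRing B] [Algebra A B] [IsLocalRing A] [IsLocalRing B]
  [AddCommGroup M] [Module A M] [Module B M] [IsScalarTower A B M]
  [AddCommGroup E] [Module A E]

/-- a module of length one over a local ring is the residue field. -/
theorem nonempty_equiv_residueField_of_length_eq_one (h : Module.length A E = 1) :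
    Nonempty (E ≃ₗ[A] ResidueField A) := by
  rw [Module.length_eq_one_iff] at h
  obtain ⟨I, hI, ⟨e⟩⟩ := isSimpleModule_iff_quot_maximal.mp h
  have := IsLocalRing.eq_maximalIdeal hI
  subst this
  exact ⟨e ≪≫ₗ (resEquiv A).symm⟩

theorem length_tensor_of_length_eq_one (h : Module.length A E = 1) :
    Module.length B (M ⊗[A] E) = Module.length B (M ⊗[A] ResidueField A) := by
  obtain ⟨e⟩ := nonempty_equiv_residueField_of_length_eq_one h
  exact (TensorProduct.AlgebraTensorModule.congr (LinearEquiv.refl B M) e).length_eq

theorem length_residueField : Module.length A (ResidueField A) = 1 := by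
  rw [(resEquiv A).length_eq, Module.length_eq_one_iff]
  exact isSimpleModule_iff_quot_maximal.mpr ⟨maximalIdeal A, inferInstance, ⟨LinearEquiv.refl _ _⟩⟩

/-- an embedding of the residue field from an associated maximal ideal. -/
theorem exists_injective_of_isAssociatedPrime [IsNoetherianRing A]
    (h1 : IsAssociatedPrime (maximalIdeal A) E) :
    ∃ ι : ResidueField A →ₗ[A] E, Function.Injective ι := by
  obtain ⟨e, he0, he⟩ := exists_of_isAssociatedPrime_maximalIdeal h1
  let ι : (A ⧸ maximalIdeal A) →ₗ[A] E :=
    Submodule.liftQ _ (LinearMap.toSpanSingleton A E e) (by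
      intro a ha
      rw [LinearMap.mem_ker, LinearMap.toSpanSingleton_apply]
      exact he a ha)
  have hι : Function.Injective ι := by
    rw [← LinearMap.ker_eq_bot, Submodule.ker_liftQ_eq_bot']
    refine le_antisymm ?_ ?_
    · intro a ha
      rw [LinearMap.mem_ker, LinearMap.toSpanSingleton_apply]
      exact he a ha
    · intro a ha
      rw [LinearMap.mem_ker, LinearMap.toSpanSingleton_apply] at ha
      by_contra hna
      have hu : IsUnit a := by
        by_contra hnu
        exact hna ((IsLocalRing.mem_maximalIdeal a).2 hnu)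
      apply he0
      have := congrArg (fun z => (hu.unit⁻¹ : Aˣ) • z) ha
      simpa [Units.smul_def, smul_smul] using this
  exact ⟨ι ∘ₗ (resEquiv A).toLinearMap, hι.comp (resEquiv A).injective⟩

theorem faithfullyFlat_of_nontrivial_tensor [Module.Flat A M]
    (hnt : Nontrivial (M ⊗[A] ResidueField A)) : Module.FaithfullyFlat A M := by
  refine ⟨fun m hm => ?_⟩
  rw [IsLocalRing.eq_maximalIdeal hm]
  intro htop
  have e1 : M ⊗[A] ResidueField A ≃ₗ[A] M ⧸ (maximalIdeal A • (⊤ : Submodule A M)) :=
    (LinearEquiv.lTensor M (resEquiv A)) ≪≫ₗ TensorProduct.tensorQuotEquivQuotSMul M (maximalIdeal A)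
  haveI : Subsingleton (M ⧸ (maximalIdeal A • (⊤ : Submodule A M))) := by
    rw [Submodule.Quotient.subsingleton_iff]; exact htop
  haveI : Subsingleton (M ⊗[A] ResidueField A) := e1.toEquiv.subsingleton
  exact not_subsingleton _ ‹_›

theorem length_eq_one_of_length_tensor [IsNoetherianRing A] [Module.Flat A M]
    (h : Module.length B (M ⊗[A] E) = 1) (h1 : IsAssociatedPrime (maximalIdeal A) E)
    (hnt : Nontrivial (M ⊗[A] ResidueField A)) : Module.length A E = 1 := by
  obtain ⟨ι, hι⟩ := exists_injective_of_isAssociatedPrime h1
  haveI := faithfullyFlat_of_nontrivial_tensor (M := M) hnt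
  rw [Module.length_eq_one_iff] at h
  have hinj : Function.Injective (TensorProduct.AlgebraTensorModule.lTensor B M ι) :=
    Module.Flat.lTensor_preserves_injective_linearMap ι hι
  have hr := eq_bot_or_eq_top (LinearMap.range (TensorProduct.AlgebraTensorModule.lTensor B M ι))
  have hsurj : Function.Surjective (TensorProduct.AlgebraTensorModule.lTensor B M ι) := by
    rcases hr with hr | hr
    · exfalso
      obtain ⟨a, b, hab⟩ := hnt
      apply hab
      apply hinj
      have ha : TensorProduct.AlgebraTensorModule.lTensor B M ι a ∈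
          LinearMap.range (TensorProduct.AlgebraTensorModule.lTensor B M ι) := ⟨a, rfl⟩
      have hb : TensorProduct.AlgebraTensorModule.lTensor B M ι b ∈
          LinearMap.range (TensorProduct.AlgebraTensorModule.lTensor B M ι) := ⟨b, rfl⟩
      rw [hr, Submodule.mem_bot] at ha hb
      rw [ha, hb]
    · exact LinearMap.range_eq_top.1 hr
  have hsurj' : Function.Surjective (LinearMap.lTensor M ι) := hsurj
  rw [Module.FaithfullyFlat.lTensor_surjective_iff_surjective] at hsurj'
  rw [← (LinearEquiv.ofBijective ι ⟨hι, hsurj'⟩).length_eq]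
  exact length_residueField

end

end Groth.Agent.Helper2.AssTens
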