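import Mathlib
import Groth.Agent.Helper2.AssTens7

set_option autoImplicit false
set_option linter.unusedVariables false
open TensorProduct IsLocalRing
universe u

namespace Groth.Agent.Helper2.AssTens

/-- algebra dictionary: the stalk at a point of the fibre as a tensor product with the residue
field. -/
theorem nonempty_fibre_equiv {A B B' M : Type u} [CommRing A] [CommRing B] [CommRing B']
    [IsLocalRing A] [Algebra A B] [Algebra B B'] [AddCommGroup M] [Module B M] [Module A M]
    [IsScalarTower A B M]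
    (hπB : Function.Surjective (algebraMap B B'))
    (hkB : RingHom.ker (algebraMap B B') = (maximalIdeal A).map (algebraMap A B)) :
    Nonempty (B' ⊗[B] M ≃ₗ[B] M ⊗[A] ResidueField A) := by
  let K : Ideal B := RingHom.ker (algebraMap B B')
  have hK : K = (maximalIdeal A).map (algebraMap A B) := hkB
  let e0 : (B ⧸ K) ≃ₐ[B] B' :=
    Ideal.quotientKerAlgEquivOfSurjective (f := Algebra.ofId B B') hπB
  let e1 : (B ⧸ K) ≃ₐ[B] (B ⧸ (maximalIdeal A).map (algebraMap A B)) :=
    Ideal.quotientEquivAlgOfEq B hK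
  let e2 : (B ⧸ (maximalIdeal A).map (algebraMap A B)) ≃ₐ[B] B ⊗[A] (A ⧸ maximalIdeal A) :=
    Algebra.TensorProduct.quotIdealMapEquivTensorQuot B (maximalIdeal A)
  let e3 : B' ≃ₗ[B] B ⊗[A] (A ⧸ maximalIdeal A) :=
    e0.symm.toLinearEquiv ≪≫ₗ e1.toLinearEquiv ≪≫ₗ e2.toLinearEquiv
  exact ⟨TensorProduct.congr e3 (LinearEquiv.refl B M) ≪≫ₗ TensorProduct.comm B _ _ ≪≫ₗ
      TensorProduct.AlgebraTensorModule.cancelBaseChange A B B M (A ⧸ maximalIdeal A) ≪≫ₗ
      (TensorProduct.AlgebraTensorModule.congr (LinearEquiv.refl B M) (resEquiv A)).symm⟩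

/-- algebra dictionary: the length of the stalk at a point of the fibre. -/
theorem length_fibre_dict {A B B' M N : Type u} [CommRing A] [CommRing B] [CommRing B']
    [IsLocalRing A] [Algebra A B] [AddCommGroup M] [Module B M] [Module A M] [IsScalarTower A B M]
    [AddCommGroup N] [Module B' N]
    (πB : B →+* B') (hπB : Function.Surjective πB)
    (hkB : RingHom.ker πB = (maximalIdeal A).map (algebraMap A B))
    (E : letI := πB.toAlgebra; N ≃ₗ[B'] B' ⊗[B] M) :
    Module.length B' N = Module.length B (M ⊗[A] ResidueField A) := by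
  letI algBB' : Algebra B B' := πB.toAlgebra
  have hπ : Function.Surjective (algebraMap B B') := hπB
  obtain ⟨e⟩ := nonempty_fibre_equiv (A := A) (M := M) hπ hkB
  rw [E.length_eq, ← Module.length_eq_of_surjective (S := B) (R := B') hπ, e.length_eq]

end Groth.Agent.Helper2.AssTens
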