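import Mathlib
import Groth.Prelude
import Groth.Agent.Helper2.AssTens8
import Groth.Agent.Helper2.AssTens6

set_option autoImplicit false
set_option linter.unusedVariables false
open CategoryTheory CategoryTheory.Limits AlgebraicGeometry TopologicalSpace Topology TensorProduct
open IsLocalRing
universe u

namespace Groth.Agent.Helper2.AssTens

/-- pointwise length dictionary for `f^*E ⊗ F`, `F` flat over the base. -/
theorem length_dict {X Y : Scheme.{u}} (f : X ⟶ Y) (F : X.Modules) [F.IsQuasicoherent]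
    (E : Y.Modules) (s : Y) (z : ↥(f.fiber s))
    [IsNoetherianRing (X.presheaf.stalk (f.fiberι s z))]
    [IsNoetherianRing (Y.presheaf.stalk (f (f.fiberι s z)))]
    (hfl : FlatMod.IsFlatOverAt f F (f.fiberι s z)) :
    (Module.length (Y.presheaf.stalk (f (f.fiberι s z))) (E.presheaf.stalk (f (f.fiberι s z))) = 1 →
      Module.length (X.presheaf.stalk (f.fiberι s z))
        ((CohB1.tensorMod ((Scheme.Modules.pullback f).obj E) F).presheaf.stalk (f.fiberι s z)) =
      Module.length ((f.fiber s).presheaf.stalk z)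
        (((Scheme.Modules.pullback (f.fiberι s)).obj F).presheaf.stalk z)) ∧
    (Module.length (X.presheaf.stalk (f.fiberι s z))
        ((CohB1.tensorMod ((Scheme.Modules.pullback f).obj E) F).presheaf.stalk (f.fiberι s z)) = 1 →
      Curv2.IsAssPoint E (f (f.fiberι s z)) →
      ¬ Subsingleton (((Scheme.Modules.pullback (f.fiberι s)).obj F).presheaf.stalk z) →
      Module.length (Y.presheaf.stalk (f (f.fiberι s z)))
        (E.presheaf.stalk (f (f.fiberι s z))) = 1) := by
  let x : X := f.fiberι s z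
  letI algAB : Algebra (Y.presheaf.stalk (f x)) (X.presheaf.stalk x) :=
    (f.stalkMap x).hom.toAlgebra
  letI modAM : Module (Y.presheaf.stalk (f x)) (F.presheaf.stalk x) :=
    FlatMod.moduleStalkOver f F x
  haveI : IsScalarTower (Y.presheaf.stalk (f x)) (X.presheaf.stalk x) (F.presheaf.stalk x) :=
    IsScalarTower.of_algebraMap_smul (fun _ _ => rfl)
  haveI : IsLocalHom (algebraMap (Y.presheaf.stalk (f x)) (X.presheaf.stalk x)) :=
    inferInstanceAs (IsLocalHom (f.stalkMap x).hom)
  haveI : Module.Flat (Y.presheaf.stalk (f x)) (F.presheaf.stalk x) := hfl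
  obtain ⟨e1⟩ := Groth.Agent.Helper2.GenStalk.nonempty_stalk_pullback_equiv f E x
  let e2 := Groth.Agent.Helper2.FlatTens.stalkTensorEquiv ((Scheme.Modules.pullback f).obj E) F x
  let e3 := e2 ≪≫ₗ TensorProduct.congr e1 (LinearEquiv.refl _ _)
  let e : (CohB1.tensorMod ((Scheme.Modules.pullback f).obj E) F).presheaf.stalk x ≃ₗ[X.presheaf.stalk x]
      (F.presheaf.stalk x) ⊗[Y.presheaf.stalk (f x)] (E.presheaf.stalk (f x)) :=
    e3 ≪≫ₗ (TensorProduct.comm _ _ _) ≪≫ₗ
      TensorProduct.AlgebraTensorModule.cancelBaseChange (Y.presheaf.stalk (f x))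
        (X.presheaf.stalk x) (X.presheaf.stalk x) (F.presheaf.stalk x) (E.presheaf.stalk (f x))
  have hX := Groth.Agent.Helper5.FibStalk.s9501 f s z
  obtain ⟨E'⟩ := Groth.Agent.Lead.StalkPull.nonempty_stalk_pullback_equiv (f.fiberι s) F z
  have h3 := length_fibre_dict
    (A := Y.presheaf.stalk (f x)) (B := X.presheaf.stalk x) (M := F.presheaf.stalk x)
    ((f.fiberι s).stalkMap z).hom hX.1 hX.2 E'
  refine ⟨?_, ?_⟩
  · intro h
    rw [h3]
    exact e.length_eq.trans (length_tensor_of_length_eq_one h)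
  · intro h hass hnt
    have hnt' : Nontrivial ((F.presheaf.stalk x) ⊗[Y.presheaf.stalk (f x)]
        ResidueField (Y.presheaf.stalk (f x))) := by
      rw [← Module.length_pos_iff (R := X.presheaf.stalk x), ← h3, Module.length_pos_iff]
      exact not_subsingleton_iff_nontrivial.1 hnt
    exact length_eq_one_of_length_tensor (B := X.presheaf.stalk x) (M := F.presheaf.stalk x)
      (e.length_eq ▸ h) hass hnt'

section
variable {X Y : Scheme.{u}} [IsLocallyNoetherian X] [IsLocallyNoetherian Y]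
    (f : X ⟶ Y) (E : Y.Modules) (F : X.Modules) (hF : Coh.IsCoh F)
    (hflat : FlatMod.IsFlatOver f F)

include hF hflat in
theorem s2546 :
    AssSch.IsReducedMod (CohB1.tensorMod ((Scheme.Modules.pullback f).obj E) F) ↔
      ∀ y ∈ AssSch.Ass E ∩ f.base '' CohB1.support F,
        (∀ y' ∈ AssSch.Ass E, y' ⤳ y → y' = y) ∧
          Module.length (Y.presheaf.stalk y) (E.presheaf.stalk y) = 1 ∧
          AssSch.IsReducedMod ((Scheme.Modules.pullback (f.fiberι y)).obj F) := by
  haveI : F.IsQuasicoherent := hF.1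
  constructor
  · rintro ⟨hNE, hlen⟩ y hy
    obtain ⟨hmax, hne⟩ := (s2545 f E F hF hflat).1 hNE y hy
    obtain ⟨hyE, x0, hx0F, hx0⟩ := hy
    have hlenE : Module.length (Y.presheaf.stalk y) (E.presheaf.stalk y) = 1 := by
      obtain ⟨x1, hx1T, -, hfx1, hx1F⟩ := exists_ass_tensor f E F hF hflat y hyE x0 hx0 hx0F
      have hxr : x1 ∈ Set.range (f.fiberι y) := by
        rw [f.range_fiberι]; exact hfx1
      obtain ⟨z1, rfl⟩ := hxr
      obtain ⟨-, hz1⟩ := (mem_ass_tensor_iff f E F hF hflat y z1).1 hx1T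
      have hE' : Curv2.IsAssPoint E (f (f.fiberι y z1)) := by
        rw [map_fiberι f y z1]; exact hyE
      have := (length_dict f F E y z1 (hflat _)).2 (hlen _ hx1T) hE'
        ((mem_support_fibre_iff f F hF y z1).2 hx1F)
      rwa [map_fiberι f y z1] at this
    refine ⟨hmax, hlenE, hne, ?_⟩
    intro z hz
    have hxT := (mem_ass_tensor_iff f E F hF hflat y z).2 ⟨hyE, hz⟩
    have hE1 : Module.length (Y.presheaf.stalk (f (f.fiberι y z)))
        (E.presheaf.stalk (f (f.fiberι y z))) = 1 := by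
      rw [map_fiberι f y z]; exact hlenE
    rw [← (length_dict f F E y z (hflat _)).1 hE1]
    exact hlen _ hxT
  · intro hR
    refine ⟨(s2545 f E F hF hflat).2 (fun y hy => ⟨(hR y hy).1, (hR y hy).2.2.1⟩), ?_⟩
    intro x hxT
    obtain ⟨s, hs⟩ : ∃ s, s = f x := ⟨_, rfl⟩
    have hxr : x ∈ Set.range (f.fiberι s) := by
      rw [f.range_fiberι]; exact hs.symm
    obtain ⟨z, rfl⟩ := hxr
    obtain ⟨hsE, hzA⟩ := (mem_ass_tensor_iff f E F hF hflat s z).1 hxT
    have hzF : ¬ Subsingleton (F.presheaf.stalk (f.fiberι s z)) := by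
      rw [← mem_support_fibre_iff f F hF s z, not_subsingleton_iff_nontrivial]
      exact Groth.Agent.Helper4.AssMax2.nontrivial_of_isAssPoint _ z hzA
    obtain ⟨-, hlenE, -, hlenF⟩ := hR s ⟨hsE, f.fiberι s z, hzF, hs.symm⟩
    have hE1 : Module.length (Y.presheaf.stalk (f (f.fiberι s z)))
        (E.presheaf.stalk (f (f.fiberι s z))) = 1 := by
      rw [map_fiberι f s z]; exact hlenE
    rw [(length_dict f F E s z (hflat _)).1 hE1]
    exact hlenF z hzA

end

end Groth.Agent.Helper2.AssTens
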