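import Mathlib
import Groth.Prelude
import Groth.Agent.Helper2.AssTens9
import Groth.Agent.Lead.AssRestr
import Groth.Agent.Lead.HomShH
import Groth.Agent.Lead.PicComplA
import Groth.Agent.Lead.CartSecB

set_option autoImplicit false
set_option linter.unusedVariables false
open CategoryTheory CategoryTheory.Limits AlgebraicGeometry TopologicalSpace Topology TensorProduct
open IsLocalRing
universe u

namespace Groth.Agent.Helper2.RedBC

open Groth.Agent.Helper2.AssTens

theorem ass_eq_of_iso {X : Scheme.{u}} {G G' : X.Modules} (ε : G ≅ G') :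
    AssSch.Ass G = AssSch.Ass G' := by
  ext x
  exact Groth.Agent.Lead.AssRestr.isAssPoint_iff_of_iso ε x

theorem isReducedMod_iff_of_iso {X : Scheme.{u}} {G G' : X.Modules} (ε : G ≅ G') :
    AssSch.IsReducedMod G ↔ AssSch.IsReducedMod G' := by
  unfold AssSch.IsReducedMod AssSch.NoEmbedded
  rw [ass_eq_of_iso ε]
  constructor
  · rintro ⟨h1, h2⟩
    exact ⟨h1, fun x hx => (Groth.Agent.Lead.AssRestr.length_eq_of_iso ε x).symm.trans (h2 x hx)⟩
  · rintro ⟨h1, h2⟩
    exact ⟨h1, fun x hx => (Groth.Agent.Lead.AssRestr.length_eq_of_iso ε x).trans (h2 x hx)⟩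

theorem support_structureModule (X : Scheme.{u}) :
    CohB1.support (Coh.structureModule X) = Set.univ := by
  ext t
  simp only [CohB1.support, Set.mem_setOf_eq, Set.mem_univ, iff_true]
  rw [not_subsingleton_iff_nontrivial]
  exact (Groth.Agent.Lead.CartSec.unitStalkEquiv t).symm.toEquiv.nontrivial

/-- the structure sheaf is flat over the base of a flat morphism. -/
theorem isFlatOver_unit {X' X : Scheme.{u}} (π : X' ⟶ X) [Flat π] :
    FlatMod.IsFlatOver π (Coh.structureModule X') := by
  intro x'
  letI algAB : Algebra (X.presheaf.stalk (π x')) (X'.presheaf.stalk x') :=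
    (π.stalkMap x').hom.toAlgebra
  letI modAM : Module (X.presheaf.stalk (π x')) ((Coh.structureModule X').presheaf.stalk x') :=
    FlatMod.moduleStalkOver π (Coh.structureModule X') x'
  haveI : IsScalarTower (X.presheaf.stalk (π x')) (X'.presheaf.stalk x')
      ((Coh.structureModule X').presheaf.stalk x') :=
    IsScalarTower.of_algebraMap_smul (fun _ _ => rfl)
  haveI : Module.Flat (X.presheaf.stalk (π x')) (X'.presheaf.stalk x') := Flat.stalkMap π x'
  exact Module.Flat.of_linearEquiv
    ((Groth.Agent.Lead.CartSec.unitStalkEquiv x').restrictScalars (X.presheaf.stalk (π x'))).symm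

/-- reducedness of the pullback of a coherent module along a flat morphism. -/
theorem isReducedMod_pullback_iff_of_flat {X' X : Scheme.{u}} [IsLocallyNoetherian X']
    [IsLocallyNoetherian X] (π : X' ⟶ X) [Flat π] (E : X.Modules) (hE : Coh.IsCoh E) :
    AssSch.IsReducedMod ((Scheme.Modules.pullback π).obj E) ↔
      ∀ x ∈ AssSch.Ass E ∩ Set.range π,
        (∀ x1 ∈ AssSch.Ass E, x1 ⤳ x → x1 = x) ∧
          Module.length (X.presheaf.stalk x) (E.presheaf.stalk x) = 1 ∧
          AssSch.IsReducedMod (Coh.structureModule (π.fiber x)) := by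
  have hfl : FlatMod.IsFlatOver π (Coh.structureModule X') := isFlatOver_unit π
  have h := s2546 π E (Coh.structureModule X') (Groth.Agent.Lead.HomShH.isCoh_unit X') hfl
  rw [isReducedMod_iff_of_iso (SecTwist.unitorR ((Scheme.Modules.pullback π).obj E)),
    support_structureModule, Set.image_univ] at h
  rw [h]
  refine forall_congr' (fun x => forall_congr' (fun hx => ?_))
  rw [isReducedMod_iff_of_iso (Groth.Agent.Lead.PicCompl.pullbackUnitIso (π.fiberι x))]

end Groth.Agent.Helper2.RedBC
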