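import Mathlib
set_option autoImplicit false
universe u
open IsLocalRing

namespace Groth.Agent.Helper2.MatlisLen

variable {A : Type u} [CommRing A] [IsLocalRing A]

/-- identity as a linear equivalence between the two module structures on `A/m` -/
noncomputable def quotEquivResidueField : (A ⧸ maximalIdeal A) ≃ₗ[A] ResidueField A where
  toFun x := x
  invFun x := x
  map_add' _ _ := rfl
  map_smul' r x := by
    obtain ⟨a, rfl⟩ := Ideal.Quotient.mk_surjective x
    rfl
  left_inv _ := rfl
  right_inv _ := rfl

/-- a simple module over a local ring is isomorphic to the residue field -/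
lemma nonempty_equiv_residueField (S : Type u) [AddCommGroup S] [Module A S] [IsSimpleModule A S] :
    Nonempty (S ≃ₗ[A] ResidueField A) := by
  obtain ⟨I, hI, ⟨e⟩⟩ := (isSimpleModule_iff_quot_maximal (R := A) (M := S)).1 inferInstance
  have hIm : I = maximalIdeal A := IsLocalRing.eq_maximalIdeal hI
  subst hIm
  exact ⟨e.trans quotEquivResidueField⟩

variable {E : Type u} [AddCommGroup E] [Module A E]

lemma key (hsimple : IsSimpleModule A (ResidueField A →ₗ[A] E)) (hinj : Module.Injective A E) :
    ∀ (M : Type u) [AddCommGroup M] [Module A M], IsFiniteLength A M →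
      Module.length A (M →ₗ[A] E) = Module.length A M := by
  intro M _ _ hM
  induction hM with
  | of_subsingleton =>
    rw [Module.length_eq_zero, Module.length_eq_zero]
  | @of_simple_quotient M _ _ N hS hN ih =>
    -- the exact sequence of Hom's
    let f : (M ⧸ N →ₗ[A] E) →ₗ[A] (M →ₗ[A] E) := LinearMap.lcomp A E N.mkQ
    let g : (M →ₗ[A] E) →ₗ[A] (N →ₗ[A] E) := LinearMap.lcomp A E N.subtype
    have hf : Function.Injective f := by
      intro φ ψ h
      ext x
      exact LinearMap.congr_fun h x
    have hg : Function.Surjective g := by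
      intro φ
      obtain ⟨ψ, hψ⟩ := Module.Injective.extension_property A E N M N.subtype
        N.injective_subtype φ
      exact ⟨ψ, hψ⟩
    have hex : Function.Exact f g := by
      intro φ
      constructor
      · intro h
        have hker : N ≤ LinearMap.ker φ := by
          intro x hx
          rw [LinearMap.mem_ker]
          exact LinearMap.congr_fun h ⟨x, hx⟩
        refine ⟨N.liftQ φ hker, ?_⟩
        ext x
        rfl
      · rintro ⟨ψ, rfl⟩
        ext x
        change ψ (N.mkQ (x : M)) = 0
        rw [Submodule.mkQ_apply, (Submodule.Quotient.mk_eq_zero N).2 x.2, map_zero]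
    have h1 := Module.length_eq_add_of_exact f g hf hg hex
    have h2 := Module.length_eq_add_of_exact N.subtype N.mkQ N.injective_subtype
      N.mkQ_surjective (LinearMap.exact_subtype_mkQ N)
    obtain ⟨e⟩ := nonempty_equiv_residueField (A := A) (M ⧸ N)
    have hs : IsSimpleModule A (M ⧸ N →ₗ[A] E) :=
      IsSimpleModule.congr (LinearEquiv.congrLeft E A e)
    rw [h1, h2, ih, Module.length_eq_one A (M ⧸ N →ₗ[A] E), Module.length_eq_one A (M ⧸ N), add_comm]

end Groth.Agent.Helper2.MatlisLen
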