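import Mathlib
set_option autoImplicit false
universe u
open IsLocalRing

namespace Groth.Agent.Helper2.Socle

variable {A : Type u} [CommRing A] [IsLocalRing A] {E : Type u} [AddCommGroup E] [Module A E]

lemma smul_one_eq (r : A) : r • (1 : ResidueField A) = residue A r := by
  rw [Algebra.smul_def, mul_one]
  rfl

lemma apply_residue (ψ : ResidueField A →ₗ[A] E) (r : A) : ψ (residue A r) = r • ψ 1 := by
  rw [← smul_one_eq, map_smul]

lemma ext_one {ψ ψ' : ResidueField A →ₗ[A] E} (h : ψ 1 = ψ' 1) : ψ = ψ' := by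
  ext z
  obtain ⟨r, rfl⟩ := residue_surjective z
  rw [apply_residue, apply_residue, h]

lemma smul_apply_one_eq_zero (ψ : ResidueField A →ₗ[A] E) (a : A) (ha : a ∈ maximalIdeal A) :
    a • ψ 1 = 0 := by
  rw [← apply_residue, (residue_eq_zero_iff a).2 ha, map_zero]

/-- the homomorphism `k → E` attached to a socle element -/
noncomputable def ofSocle (y : E) (hy : ∀ a ∈ maximalIdeal A, a • y = 0) :
    ResidueField A →ₗ[A] E :=
  (maximalIdeal A).liftQ (LinearMap.toSpanSingleton A E y) (by
    intro a ha
    rw [LinearMap.mem_ker, LinearMap.toSpanSingleton_apply]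
    exact hy a ha)

lemma ofSocle_one (y : E) (hy : ∀ a ∈ maximalIdeal A, a • y = 0) : ofSocle y hy 1 = y := by
  have : ofSocle y hy 1 = LinearMap.toSpanSingleton A E y 1 := rfl
  rw [this, LinearMap.toSpanSingleton_apply, one_smul]

/-- a nonzero homomorphism from the residue field is injective -/
lemma injective_of_ne_zero (f : ResidueField A →ₗ[A] E) (hf : f ≠ 0) : Function.Injective f := by
  rw [← LinearMap.ker_eq_bot, eq_bot_iff]
  intro z hz
  rw [LinearMap.mem_ker] at hz
  rw [Submodule.mem_bot]
  by_contra hz0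
  apply hf
  apply ext_one
  obtain ⟨r, rfl⟩ := residue_surjective z
  have hr : r ∉ maximalIdeal A := fun h => hz0 ((residue_eq_zero_iff r).2 h)
  have hu : IsUnit r := by
    rw [mem_maximalIdeal, mem_nonunits_iff, not_not] at hr
    exact hr
  rw [apply_residue] at hz
  obtain ⟨u, rfl⟩ := hu
  have := congrArg (fun e => (↑u⁻¹ : A) • e) hz
  simp only [smul_zero, smul_smul, Units.inv_mul, one_smul] at this
  rw [this, LinearMap.zero_apply]

end Groth.Agent.Helper2.Socle
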