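import Mathlib
import Groth.Prelude.Def_Wider
import Groth.Agent.S6292
import Groth.Agent.Helper2.MatlisLen
open IsLocalRing

set_option autoImplicit false
universe u

namespace Groth.Agent.Helper2.Coext


section S1


open CategoryTheory

variable (A B : Type u) [CommRing A] [IsLocalRing A] [IsNoetherianRing A] [CommRing B]
  [IsLocalRing B] [IsNoetherianRing B] [Algebra A B] [Module.Finite A B]

lemma algebraMap_mem (a : A) (ha : a ∈ maximalIdeal A) : algebraMap A B a ∈ maximalIdeal B := by
  have : Algebra.IsIntegral A B := Algebra.IsIntegral.of_finite A B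
  have hmax : ((maximalIdeal B).comap (algebraMap A B)).IsMaximal :=
    Ideal.isMaximal_comap_of_isIntegral_of_isMaximal (maximalIdeal B)
  have h := IsLocalRing.eq_maximalIdeal hmax
  have : a ∈ (maximalIdeal B).comap (algebraMap A B) := by rw [h]; exact ha
  exact this

lemma exists_pow_le : ∃ N : ℕ, maximalIdeal B ^ N ≤ (maximalIdeal A).map (algebraMap A B) := by
  have : Algebra.IsIntegral A B := Algebra.IsIntegral.of_finite A B
  apply Ideal.exists_pow_le_of_le_radical_of_fg
  · rw [Ideal.radical_eq_sInf]
    apply le_sInf
    rintro P ⟨hP, hPprime⟩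
    have hc : (maximalIdeal A) ≤ P.comap (algebraMap A B) := by
      rw [← Ideal.map_le_iff_le_comap]; exact hP
    have hcm : (P.comap (algebraMap A B)).IsMaximal := by
      have hne : P.comap (algebraMap A B) ≠ ⊤ := (Ideal.IsPrime.comap (algebraMap A B)).ne_top
      have := (maximalIdeal.isMaximal A).eq_of_le hne hc
      rw [← this]; infer_instance
    have hPm : P.IsMaximal := Ideal.isMaximal_of_isIntegral_of_isMaximal_comap P hcm
    rw [IsLocalRing.eq_maximalIdeal hPm]
  · exact IsNoetherian.noetherian _

variable (E : Type u) [AddCommGroup E] [Module A E]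

lemma injective_coext (hinj : Module.Injective A E) :
    Module.Injective B ((ModuleCat.coextendScalars (algebraMap A B)).obj (ModuleCat.of A E)) := by
  have h1 : CategoryTheory.Injective (ModuleCat.of A E) :=
    Module.injective_object_of_injective_module A E
  have h2 : CategoryTheory.Injective
      ((ModuleCat.coextendScalars (algebraMap A B)).obj (ModuleCat.of A E)) :=
    CategoryTheory.Injective.injective_of_adjoint
      (ModuleCat.restrictCoextendScalarsAdj (algebraMap A B)) _
  exact Module.injective_module_of_injective_object B _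


end S1

section S2


open CategoryTheory

variable {A B : Type u} [CommRing A] [CommRing B] [Algebra A B]
variable {E : Type u} [AddCommGroup E] [Module A E]

/-- underlying `A`-linear map of an element of the coextension. -/
noncomputable def toLin (g : (ModuleCat.coextendScalars (algebraMap A B)).obj (ModuleCat.of A E)) : B →ₗ[A] E where
  toFun b := ModuleCat.CoextendScalars.equiv (algebraMap A B) (ModuleCat.of A E) g b
  map_add' x y := map_add (ModuleCat.CoextendScalars.equiv (algebraMap A B) (ModuleCat.of A E) g) x y
  map_smul' a b := by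
    have := (ModuleCat.CoextendScalars.equiv (algebraMap A B) (ModuleCat.of A E) g).map_smul a b
    rw [Algebra.smul_def]
    exact this

noncomputable def ofLin (φ : B →ₗ[A] E) : (ModuleCat.coextendScalars (algebraMap A B)).obj (ModuleCat.of A E) :=
  (ModuleCat.CoextendScalars.equiv (algebraMap A B) (ModuleCat.of A E)).symm
    { toFun := fun b => φ b
      map_add' := fun x y => map_add φ x y
      map_smul' := fun a b => by
        have := φ.map_smul a b
        rw [Algebra.smul_def] at this
        exact this }

lemma toLin_ofLin (φ : B →ₗ[A] E) : toLin (ofLin φ) = φ := by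
  ext b
  rfl

lemma toLin_injective : Function.Injective (toLin (A := A) (B := B) (E := E)) := by
  intro g g' h
  apply ModuleCat.CoextendScalars.ext
  ext b
  exact LinearMap.congr_fun h b

lemma toLin_smul (s : B) (g : (ModuleCat.coextendScalars (algebraMap A B)).obj (ModuleCat.of A E))
    (b : B) : toLin (s • g) b = toLin g (b * s) := rfl

lemma toLin_add (g g' : (ModuleCat.coextendScalars (algebraMap A B)).obj (ModuleCat.of A E)) :
    toLin (g + g') = toLin g + toLin g' := by
  ext b
  rfl

lemma toLin_zero :
    toLin (0 : (ModuleCat.coextendScalars (algebraMap A B)).obj (ModuleCat.of A E)) = 0 := by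
  ext b
  rfl

lemma powerTorsion_coext [IsLocalRing A] [IsLocalRing B] [Module.Finite A B]
    (N : ℕ) (hN : maximalIdeal B ^ N ≤ (maximalIdeal A).map (algebraMap A B))
    (htor : LocCoh.IsPowerTorsion (maximalIdeal A) E) :
    LocCoh.IsPowerTorsion (maximalIdeal B)
      ((ModuleCat.coextendScalars (algebraMap A B)).obj (ModuleCat.of A E)) := by
  intro g
  obtain ⟨S, hS⟩ := (Module.finite_def (R := A) (M := B)).1 inferInstance
  choose n hn using fun b : B => htor (toLin g b)
  have hk : ∀ a ∈ maximalIdeal A ^ (S.sup n), ∀ b : B, a • toLin g b = 0 := by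
    intro a ha b
    have hb : b ∈ Submodule.span A (S : Set B) := by rw [hS]; trivial
    induction hb using Submodule.span_induction with
    | mem x hx =>
      exact hn x a (Ideal.pow_le_pow_right (Finset.le_sup hx) ha)
    | zero => rw [map_zero, smul_zero]
    | add x y _ _ hx hy => rw [map_add, smul_add, hx, hy, add_zero]
    | smul c x _ hx => rw [map_smul, smul_comm, hx, smul_zero]
  have hk2 : ∀ s ∈ (maximalIdeal A ^ (S.sup n)).map (algebraMap A B), ∀ b : B,
      toLin g (b * s) = 0 := by
    intro s hs
    induction hs using Submodule.span_induction with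
    | mem x hx =>
      obtain ⟨a, ha, rfl⟩ := hx
      intro b
      rw [mul_comm, ← Algebra.smul_def, map_smul]
      exact hk a ha b
    | zero => intro b; rw [mul_zero, map_zero]
    | add x y _ _ hx hy => intro b; rw [mul_add, map_add, hx, hy, add_zero]
    | smul c x _ hx => intro b; rw [smul_eq_mul, ← mul_assoc]; exact hx (b * c)
  refine ⟨N * S.sup n, ?_⟩
  intro s hs
  have hs' : s ∈ (maximalIdeal A ^ (S.sup n)).map (algebraMap A B) := by
    rw [Ideal.map_pow]
    rw [pow_mul] at hs
    exact Ideal.pow_right_mono hN _ hs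
  apply toLin_injective
  ext b
  rw [toLin_smul, toLin_zero, LinearMap.zero_apply]
  exact hk2 s hs' b


end S2

section S3


open CategoryTheory

variable {A B : Type u} [CommRing A] [CommRing B] [Algebra A B]
variable {E : Type u} [AddCommGroup E] [Module A E]
variable [IsLocalRing B]

lemma mem_smul_residueField_eq_zero (b : B) (hb : b ∈ maximalIdeal B) (x : ResidueField B) :
    b • x = 0 := by
  rw [Algebra.smul_def]
  have : algebraMap B (ResidueField B) b = 0 := by
    rw [ResidueField.algebraMap_eq, residue_eq_zero_iff]
    exact hb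
  rw [this, zero_mul]

/-- the map `b ↦ θ0 (b • -)`. -/
noncomputable def Phi (θ0 : ResidueField B →ₗ[A] E) : B →ₗ[A] (ResidueField B →ₗ[A] E) where
  toFun b :=
    { toFun := fun c => θ0 (b • c)
      map_add' := fun x y => by rw [smul_add, map_add]
      map_smul' := fun a x => by rw [smul_comm, map_smul, RingHom.id_apply] }
  map_add' x y := by
    ext c
    simp only [LinearMap.coe_mk, AddHom.coe_mk, LinearMap.add_apply, add_smul, map_add]
  map_smul' a x := by
    ext c
    simp only [LinearMap.coe_mk, AddHom.coe_mk, LinearMap.smul_apply, RingHom.id_apply,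
      smul_assoc, map_smul]

lemma Phi_apply (θ0 : ResidueField B →ₗ[A] E) (b : B) (c : ResidueField B) :
    Phi θ0 b c = θ0 (b • c) := rfl

lemma ker_Phi (θ0 : ResidueField B →ₗ[A] E) (h0 : θ0 ≠ 0) :
    LinearMap.ker (Phi θ0) = (maximalIdeal B).restrictScalars A := by
  ext b
  rw [LinearMap.mem_ker, Submodule.restrictScalars_mem]
  constructor
  · intro h
    by_contra hb
    rw [mem_maximalIdeal, mem_nonunits_iff, not_not] at hb
    obtain ⟨u, rfl⟩ := hb
    apply h0
    ext c
    have := LinearMap.congr_fun h ((↑u⁻¹ : B) • c)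
    rw [Phi_apply, smul_smul, Units.mul_inv, one_smul] at this
    rw [this, LinearMap.zero_apply, LinearMap.zero_apply]
  · intro hb
    ext c
    rw [Phi_apply, mem_smul_residueField_eq_zero b hb, map_zero, LinearMap.zero_apply]

variable [IsLocalRing A] [IsNoetherianRing A] [Module.Finite A B]

lemma smul_residueField_eq_zero (hloc : ∀ a ∈ maximalIdeal A, algebraMap A B a ∈ maximalIdeal B)
    (a : A) (ha : a ∈ maximalIdeal A) (x : ResidueField B) : a • x = 0 := by
  obtain ⟨b, rfl⟩ := residue_surjective x
  rw [← algebraMap_smul B a (residue B b)]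
  rw [Algebra.smul_def]
  have : algebraMap B (ResidueField B) (algebraMap A B a) = 0 := by
    rw [ResidueField.algebraMap_eq, residue_eq_zero_iff]
    exact hloc a ha
  rw [this, zero_mul]

lemma length_residueField_ne_top (hloc : ∀ a ∈ maximalIdeal A, algebraMap A B a ∈ maximalIdeal B) :
    Module.length A (ResidueField B) ≠ ⊤ :=
  Groth.Agent.S6292.length_ne_top_of_torsion (maximalIdeal A) (ResidueField B)
    (smul_residueField_eq_zero hloc)

lemma range_Phi (hsimple : IsSimpleModule A (ResidueField A →ₗ[A] E)) (hinj : Module.Injective A E)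
    (hloc : ∀ a ∈ maximalIdeal A, algebraMap A B a ∈ maximalIdeal B)
    (θ0 : ResidueField B →ₗ[A] E) (h0 : θ0 ≠ 0) :
    LinearMap.range (Phi θ0) = ⊤ := by
  have hfl : IsFiniteLength A (ResidueField B) :=
    Module.length_ne_top_iff.1 (length_residueField_ne_top hloc)
  have hT : Module.length A (ResidueField B →ₗ[A] E) = Module.length A (ResidueField B) :=
    Groth.Agent.Helper2.MatlisLen.key hsimple hinj (ResidueField B) hfl
  have hTfl : IsFiniteLength A (ResidueField B →ₗ[A] E) := by
    rw [← Module.length_ne_top_iff, hT]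
    exact length_residueField_ne_top hloc
  obtain ⟨hN, hAr⟩ := isFiniteLength_iff_isNoetherian_isArtinian.1 hTfl
  by_contra hne
  have hlt := Submodule.length_lt hne
  have e1 : (B ⧸ LinearMap.ker (Phi θ0)) ≃ₗ[A] LinearMap.range (Phi θ0) :=
    LinearMap.quotKerEquivRange (Phi θ0)
  have e2 : (B ⧸ (maximalIdeal B).restrictScalars A) ≃ₗ[A] (B ⧸ maximalIdeal B) :=
    Submodule.Quotient.restrictScalarsEquiv A (maximalIdeal B)
  have e3 : (B ⧸ LinearMap.ker (Phi θ0)) ≃ₗ[A] (B ⧸ (maximalIdeal B).restrictScalars A) :=
    Submodule.quotEquivOfEq _ _ (ker_Phi θ0 h0)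
  have e4 : (B ⧸ maximalIdeal B) ≃ₗ[A] ResidueField B := LinearEquiv.refl A _
  have hlen : Module.length A (LinearMap.range (Phi θ0)) = Module.length A (ResidueField B) := by
    rw [← e1.length_eq, e3.length_eq, e2.length_eq, e4.length_eq]
  rw [hlen, hT] at hlt
  exact lt_irrefl _ hlt


end S3

section S4

open CategoryTheory

variable {A B : Type u} [CommRing A] [CommRing B] [Algebra A B]
variable {E : Type u} [AddCommGroup E] [Module A E]
variable [IsLocalRing B]

/-- `B`-linear map `k_B → Hom_A(B,E)` from an `A`-linear map `k_B → E`. -/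
noncomputable def lift (θ : ResidueField B →ₗ[A] E) :
    ResidueField B →ₗ[B] (ModuleCat.coextendScalars (algebraMap A B)).obj (ModuleCat.of A E) where
  toFun c := ofLin ((Phi θ).flip c)
  map_add' x y := by
    apply toLin_injective
    rw [toLin_add, toLin_ofLin, toLin_ofLin, toLin_ofLin, map_add]
  map_smul' s c := by
    apply toLin_injective
    ext b
    rw [RingHom.id_apply, toLin_smul, toLin_ofLin, toLin_ofLin, LinearMap.flip_apply,
      LinearMap.flip_apply, Phi_apply, Phi_apply, smul_smul]

lemma toLin_lift (θ : ResidueField B →ₗ[A] E) (c : ResidueField B) (b : B) :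
    toLin (lift θ c) b = θ (b • c) := by
  show toLin (ofLin ((Phi θ).flip c)) b = _
  rw [toLin_ofLin, LinearMap.flip_apply, Phi_apply]

/-- `A`-linear map `k_B → E` from a `B`-linear map `k_B → Hom_A(B,E)`. -/
noncomputable def unlift
    (ψ : ResidueField B →ₗ[B] (ModuleCat.coextendScalars (algebraMap A B)).obj (ModuleCat.of A E)) :
    ResidueField B →ₗ[A] E where
  toFun c := toLin (ψ c) 1
  map_add' x y := by rw [map_add, toLin_add, LinearMap.add_apply]
  map_smul' a c := by
    rw [RingHom.id_apply, ← algebraMap_smul B a c, map_smul, toLin_smul, one_mul,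
      ← mul_one (algebraMap A B a), ← Algebra.smul_def, map_smul]

lemma unlift_apply
    (ψ : ResidueField B →ₗ[B] (ModuleCat.coextendScalars (algebraMap A B)).obj (ModuleCat.of A E))
    (c : ResidueField B) : unlift ψ c = toLin (ψ c) 1 := rfl

lemma toLin_apply_eq
    (ψ : ResidueField B →ₗ[B] (ModuleCat.coextendScalars (algebraMap A B)).obj (ModuleCat.of A E))
    (c : ResidueField B) (b : B) : toLin (ψ c) b = unlift ψ (b • c) := by
  rw [unlift_apply, map_smul, toLin_smul, one_mul]

lemma unlift_eq_zero_iff
    (ψ : ResidueField B →ₗ[B] (ModuleCat.coextendScalars (algebraMap A B)).obj (ModuleCat.of A E)) :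
    unlift ψ = 0 ↔ ψ = 0 := by
  constructor
  · intro h
    refine LinearMap.ext fun c => ?_
    apply toLin_injective
    ext b
    rw [toLin_apply_eq, h, LinearMap.zero_apply, LinearMap.zero_apply, toLin_zero,
      LinearMap.zero_apply]
  · rintro rfl
    ext c
    rw [unlift_apply, LinearMap.zero_apply, toLin_zero, LinearMap.zero_apply, LinearMap.zero_apply]

lemma unlift_lift (θ : ResidueField B →ₗ[A] E) : unlift (lift θ) = θ := by
  ext c
  rw [unlift_apply, toLin_lift, one_smul]

end S4


end Groth.Agent.Helper2.Coext
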