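import Mathlib
set_option autoImplicit false
universe u

namespace Groth.Agent.Helper2.LocSupp

variable {A : Type u} [CommRing A]

/-- a prime of `A_q` lying over a point of the support of `N` is in the support of `N_q` -/
lemma mem_support_localized (q : Ideal A) [q.IsPrime] (N : Type*) [AddCommGroup N] [Module A N]
    (x' : PrimeSpectrum A) (hle : x'.asIdeal ≤ q) (hx' : x' ∈ Module.support A N)
    (P : PrimeSpectrum (Localization.AtPrime q))
    (hP : P.asIdeal.comap (algebraMap A (Localization.AtPrime q)) = x'.asIdeal) :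
    P ∈ Module.support (Localization.AtPrime q) (LocalizedModule q.primeCompl N) := by
  rw [Module.mem_support_iff'] at hx' ⊢
  obtain ⟨m, hm⟩ := hx'
  refine ⟨LocalizedModule.mk m 1, fun r' hr' h0 => ?_⟩
  obtain ⟨a, s, rfl⟩ := IsLocalization.exists_mk'_eq q.primeCompl r'
  have ha : a ∉ x'.asIdeal := by
    intro ha
    apply hr'
    rw [IsLocalization.mk'_mem_iff]
    rw [← hP] at ha
    exact ha
  rw [← Localization.mk_eq_mk', LocalizedModule.mk_smul_mk, ← LocalizedModule.zero_mk (s * 1),
    LocalizedModule.mk_eq] at h0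
  obtain ⟨t, ht⟩ := h0
  rw [smul_zero, smul_zero] at ht
  have ht' : (t : A) ∉ x'.asIdeal := fun h => t.2 (hle h)
  have hs' : ((s * 1 : q.primeCompl) : A) ∉ x'.asIdeal := fun h => (s * 1).2 (hle h)
  have h1 : (t : A) * ((s * 1 : q.primeCompl) : A) * a ∉ x'.asIdeal := by
    intro h
    rcases x'.2.mem_or_mem h with h | h
    · rcases x'.2.mem_or_mem h with h | h
      · exact ht' h
      · exact hs' h
    · exact ha h
  apply hm _ h1
  rw [mul_smul, mul_smul]
  exact ht

end Groth.Agent.Helper2.LocSupp
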