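import Mathlib
import Groth.Prelude
import Groth.Agent.Helper5.FibStalk
import Groth.Agent.Helper2.FibCritSch
import Groth.Agent.Helper2.FlatLocusSch

set_option autoImplicit false
open Function IsLocalRing AlgebraicGeometry CategoryTheory CategoryTheory.Limits
universe u

namespace Groth.Agent.Helper2.FibFlatDict

/-- flatness of a map between quotient rings, in module-quotient form. -/
theorem flat_quot_iff {B C B' C' : Type u} [CommRing B] [CommRing C] [CommRing B'] [CommRing C']
    [Algebra B C] (J : Ideal B)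
    (πB : B →+* B') (hπB : Function.Surjective πB) (hkB : RingHom.ker πB = J)
    (πC : C →+* C') (hπC : Function.Surjective πC)
    (hkC : RingHom.ker πC = J.map (algebraMap B C))
    (ψ : B' →+* C') (hsq : ψ.comp πB = πC.comp (algebraMap B C)) :
    ψ.Flat ↔ Module.Flat (B ⧸ J) (C ⧸ J • (⊤ : Submodule B C)) := by
  subst hkB
  let JC : Ideal C := (RingHom.ker πB).map (algebraMap B C)
  let q : B ⧸ RingHom.ker πB →+* C ⧸ JC :=
    Ideal.quotientMap JC (algebraMap B C) Ideal.le_comap_map
  let eB : B ⧸ RingHom.ker πB ≃+* B' := RingHom.quotientKerEquivOfSurjective hπB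
  let eC : C ⧸ JC ≃+* C' :=
    (Ideal.quotEquivOfEq hkC.symm).trans (RingHom.quotientKerEquivOfSurjective hπC)
  have hcomm : ψ.comp eB.toRingHom = eC.toRingHom.comp q := by
    apply Ideal.Quotient.ringHom_ext
    ext b
    have h0 := RingHom.congr_fun hsq b
    show ψ (eB (Ideal.Quotient.mk _ b)) = eC (q (Ideal.Quotient.mk _ b))
    have hq : q (Ideal.Quotient.mk _ b) = Ideal.Quotient.mk JC (algebraMap B C b) := rfl
    have hB : eB (Ideal.Quotient.mk _ b) = πB b := rfl
    have hC : eC (Ideal.Quotient.mk JC (algebraMap B C b)) = πC (algebraMap B C b) := rfl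
    rw [hq, hB, hC]
    exact h0
  have h1 : ψ.Flat ↔ q.Flat := by
    constructor
    · intro h
      have h2 : (ψ.comp eB.toRingHom).Flat := RingHom.Flat.respectsIso.2 ψ eB h
      rw [hcomm] at h2
      have h3 := RingHom.Flat.respectsIso.1 (eC.toRingHom.comp q) eC.symm h2
      have e : eC.symm.toRingHom.comp (eC.toRingHom.comp q) = q := by
        ext a
        simp
      rwa [e] at h3
    · intro h
      have h2 : (eC.toRingHom.comp q).Flat := RingHom.Flat.respectsIso.1 q eC h
      rw [← hcomm] at h2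
      have h3 := RingHom.Flat.respectsIso.2 (ψ.comp eB.toRingHom) eB.symm h2
      have e : (ψ.comp eB.toRingHom).comp eB.symm.toRingHom = ψ := by
        ext a
        simp
      rwa [e] at h3
  rw [h1]
  letI algq : Algebra (B ⧸ RingHom.ker πB) (C ⧸ JC) := q.toAlgebra
  haveI : IsScalarTower B (B ⧸ RingHom.ker πB) (C ⧸ JC) := by
    refine IsScalarTower.of_algebraMap_smul (fun b m => ?_)
    obtain ⟨c, rfl⟩ := Ideal.Quotient.mk_surjective m
    show q (Ideal.Quotient.mk _ b) * _ = _
    rw [Algebra.smul_def]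
    rfl
  let e0 : (C ⧸ (RingHom.ker πB) • (⊤ : Submodule B C)) ≃ₗ[B] (C ⧸ JC) :=
    (Submodule.quotEquivOfEq _ _ (Ideal.smul_top_eq_map (RingHom.ker πB))).trans
      (Submodule.Quotient.restrictScalarsEquiv B JC)
  let e1 : (C ⧸ (RingHom.ker πB) • (⊤ : Submodule B C)) ≃ₗ[B ⧸ RingHom.ker πB] (C ⧸ JC) :=
    e0.extendScalarsOfSurjective Ideal.Quotient.mk_surjective
  constructor
  · intro h
    have : Module.Flat (B ⧸ RingHom.ker πB) (C ⧸ JC) := h
    exact Module.Flat.of_linearEquiv e1
  · intro h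
    exact Module.Flat.of_linearEquiv e1.symm

theorem fiberMap_fst {X Y S : Scheme.{u}} (f : X ⟶ Y) (g : Y ⟶ S) (s : S) :
    MoreMor.fiberMap f g s ≫ g.fiberι s = (f ≫ g).fiberι s ≫ f :=
  pullback.lift_fst _ _ _

/-- `FibStalk.s9501` transported to a point equal to the image of the fibre point. -/
theorem ker_transport {Y S : Scheme.{u}} (g : Y ⟶ S) (s : S) (y' : g.fiber s) (y : Y)
    (hy : g.fiberι s y' = y) :
    Function.Surjective
        ((Y.presheaf.stalkCongr (.of_eq hy)).inv ≫ (g.fiberι s).stalkMap y').hom ∧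
      RingHom.ker ((Y.presheaf.stalkCongr (.of_eq hy)).inv ≫ (g.fiberι s).stalkMap y').hom =
        Ideal.map (g.stalkMap y).hom (maximalIdeal (S.presheaf.stalk (g y))) := by
  subst hy
  have h := Groth.Agent.Helper5.FibStalk.s9501 g s y'
  have e : (Y.presheaf.stalkCongr (.of_eq rfl)).inv ≫ (g.fiberι s).stalkMap y' =
      (g.fiberι s).stalkMap y' := by
    simp [TopCat.Presheaf.stalkCongr]
  rw [e]
  exact h

/-- the square of stalk maps attached to the morphism of fibres. -/
theorem stalk_square {X Y S : Scheme.{u}} (f : X ⟶ Y) (g : Y ⟶ S) (s : S)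
    (x' : (f ≫ g).fiber s)
    (hy : g.fiberι s (MoreMor.fiberMap f g s x') = f ((f ≫ g).fiberι s x')) :
    ((Y.presheaf.stalkCongr (.of_eq hy)).inv ≫
        (g.fiberι s).stalkMap (MoreMor.fiberMap f g s x')) ≫
      (MoreMor.fiberMap f g s).stalkMap x' =
    f.stalkMap ((f ≫ g).fiberι s x') ≫ ((f ≫ g).fiberι s).stalkMap x' := by
  have h1 := Scheme.Hom.stalkMap_congr_hom _ _ (fiberMap_fst f g s) x'
  rw [Scheme.Hom.stalkMap_comp, Scheme.Hom.stalkMap_comp] at h1
  rw [Category.assoc, h1]
  exact Iso.inv_hom_id_assoc _ _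

set_option maxHeartbeats 800000 in
/-- fibrewise flatness criterion at a point of the fibre. -/
theorem fibre_flat_iff {X Y S : Scheme.{u}} (f : X ⟶ Y) (g : Y ⟶ S)
    [LocallyOfFinitePresentation (f ≫ g)] [LocallyOfFiniteType g] (s : S)
    (x' : (f ≫ g).fiber s) :
    (((f ≫ g).stalkMap ((f ≫ g).fiberι s x')).hom.Flat ∧
        ((MoreMor.fiberMap f g s).stalkMap x').hom.Flat) ↔
      ((g.stalkMap (f ((f ≫ g).fiberι s x'))).hom.Flat ∧
        (f.stalkMap ((f ≫ g).fiberι s x')).hom.Flat) := by
  haveI : LocallyOfFinitePresentation f :=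
    Groth.Agent.Helper2.LfpComp.locallyOfFinitePresentation_of_comp f g inferInstance inferInstance
  let x : X := (f ≫ g).fiberι s x'
  let y' : g.fiber s := MoreMor.fiberMap f g s x'
  have hy : g.fiberι s y' = f x := by
    show g.fiberι s (MoreMor.fiberMap f g s x') = f ((f ≫ g).fiberι s x')
    rw [← Scheme.Hom.comp_apply, fiberMap_fst, Scheme.Hom.comp_apply]
  letI algAB : Algebra (S.presheaf.stalk (g (f x))) (Y.presheaf.stalk (f x)) :=
    (g.stalkMap (f x)).hom.toAlgebra
  letI algBC : Algebra (Y.presheaf.stalk (f x)) (X.presheaf.stalk x) :=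
    (f.stalkMap x).hom.toAlgebra
  letI algAC : Algebra (S.presheaf.stalk (g (f x))) (X.presheaf.stalk x) :=
    ((f ≫ g).stalkMap x).hom.toAlgebra
  haveI : IsLocalHom (algebraMap (S.presheaf.stalk (g (f x))) (Y.presheaf.stalk (f x))) :=
    inferInstanceAs (IsLocalHom (g.stalkMap (f x)).hom)
  haveI : IsLocalHom (algebraMap (Y.presheaf.stalk (f x)) (X.presheaf.stalk x)) :=
    inferInstanceAs (IsLocalHom (f.stalkMap x).hom)
  haveI : IsScalarTower (S.presheaf.stalk (g (f x))) (Y.presheaf.stalk (f x))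
      (X.presheaf.stalk x) :=
    IsScalarTower.of_algebraMap_eq (fun a => by
      change ((f ≫ g).stalkMap x).hom a = (f.stalkMap x).hom ((g.stalkMap (f x)).hom a)
      rw [Scheme.Hom.stalkMap_comp]
      rfl)
  have hess := Groth.Agent.Helper2.StalkEssFP.essFP_stalk f x
  have key := Groth.Agent.Helper2.FibCritSch.fibre_criterion_iff
    (R := S.presheaf.stalk (g (f x)))
    (S := Y.presheaf.stalk (f x)) (S' := X.presheaf.stalk x) (M := X.presheaf.stalk x) hess
  have hP := ker_transport g s y' (f x) hy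
  have hX := Groth.Agent.Helper5.FibStalk.s9501 (f ≫ g) s x'
  have hkC : RingHom.ker (((f ≫ g).fiberι s).stalkMap x').hom =
      ((maximalIdeal (S.presheaf.stalk (g (f x)))).map
        (algebraMap (S.presheaf.stalk (g (f x))) (Y.presheaf.stalk (f x)))).map
        (algebraMap (Y.presheaf.stalk (f x)) (X.presheaf.stalk x)) := by
    rw [hX.2, Ideal.map_map]
    congr 1
    rw [Scheme.Hom.stalkMap_comp]
    rfl
  have hsq := stalk_square f g s x' hy
  have hdict := flat_quot_iff
    (B := Y.presheaf.stalk (f x)) (C := X.presheaf.stalk x)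
    ((maximalIdeal (S.presheaf.stalk (g (f x)))).map
        (algebraMap (S.presheaf.stalk (g (f x))) (Y.presheaf.stalk (f x))))
    ((Y.presheaf.stalkCongr (.of_eq hy)).inv ≫ (g.fiberι s).stalkMap y').hom hP.1 hP.2
    (((f ≫ g).fiberι s).stalkMap x').hom hX.1 hkC
    ((MoreMor.fiberMap f g s).stalkMap x').hom
    (by
      have h0 := congrArg CommRingCat.Hom.hom hsq
      exact h0)
  rw [hdict]
  exact key

end Groth.Agent.Helper2.FibFlatDict
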