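import Mathlib
import Groth.Prelude
import Groth.Agent.Helper2.FibFlatDict

set_option autoImplicit false
open Function IsLocalRing AlgebraicGeometry CategoryTheory CategoryTheory.Limits
universe u

namespace Groth.Agent.Helper2.FibFlatMain

theorem s1386 {X Y S : Scheme.{u}} (f : X ⟶ Y) (g : Y ⟶ S)
    [LocallyOfFinitePresentation (f ≫ g)] [LocallyOfFiniteType g] :
    (∀ x : X, ((f ≫ g).stalkMap x).hom.Flat ∧
        ((MoreMor.fiberMap f g (g (f x))).stalkMap ((f ≫ g).asFiber x)).hom.Flat ↔
        (g.stalkMap (f x)).hom.Flat ∧ (f.stalkMap x).hom.Flat) ∧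
      IsOpen {x : ↑X | (g.stalkMap (f x)).hom.Flat ∧ (f.stalkMap x).hom.Flat} := by
  haveI : LocallyOfFinitePresentation f :=
    Groth.Agent.Helper2.LfpComp.locallyOfFinitePresentation_of_comp f g inferInstance inferInstance
  have hQ' := RingHom.Flat.respectsIso
  refine ⟨fun x => ?_, ?_⟩
  · have key := Groth.Agent.Helper2.FibFlatDict.fibre_flat_iff f g (g (f x)) ((f ≫ g).asFiber x)
    have hx : (f ≫ g).fiberι (g (f x)) ((f ≫ g).asFiber x) = x :=
      Scheme.Hom.fiberι_asFiber _ _
    rw [hQ'.arrow_mk_iso_iff ((f ≫ g).arrowStalkMapIsoOfEq hx),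
      hQ'.arrow_mk_iso_iff (g.arrowStalkMapIsoOfEq (congrArg f hx)),
      hQ'.arrow_mk_iso_iff (f.arrowStalkMapIsoOfEq hx)] at key
    exact key
  · have h1 : IsOpen {x : X | ((f ≫ g).stalkMap x).hom.Flat} :=
      Groth.Agent.Helper2.FlatLocusSch.isOpen_flat_locus (f ≫ g)
    have h2 : IsOpen {x : X | (f.stalkMap x).hom.Flat} :=
      Groth.Agent.Helper2.FlatLocusSch.isOpen_flat_locus f
    have e : {x : ↑X | (g.stalkMap (f x)).hom.Flat ∧ (f.stalkMap x).hom.Flat} =
        {x : X | ((f ≫ g).stalkMap x).hom.Flat} ∩ {x : X | (f.stalkMap x).hom.Flat} := by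
      ext x
      simp only [Set.mem_ofPred_eq, Set.mem_inter_iff]
      constructor
      · rintro ⟨hg, hf⟩
        refine ⟨?_, hf⟩
        rw [Scheme.Hom.stalkMap_comp]
        exact RingHom.Flat.comp hg hf
      · rintro ⟨hfg, hf⟩
        refine ⟨?_, hf⟩
        letI algAB : Algebra (S.presheaf.stalk (g (f x))) (Y.presheaf.stalk (f x)) :=
          (g.stalkMap (f x)).hom.toAlgebra
        letI algBC : Algebra (Y.presheaf.stalk (f x)) (X.presheaf.stalk x) :=
          (f.stalkMap x).hom.toAlgebra
        letI algAC : Algebra (S.presheaf.stalk (g (f x))) (X.presheaf.stalk x) :=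
          ((f ≫ g).stalkMap x).hom.toAlgebra
        haveI : IsLocalHom (algebraMap (Y.presheaf.stalk (f x)) (X.presheaf.stalk x)) :=
          inferInstanceAs (IsLocalHom (f.stalkMap x).hom)
        haveI : IsScalarTower (S.presheaf.stalk (g (f x))) (Y.presheaf.stalk (f x))
            (X.presheaf.stalk x) :=
          IsScalarTower.of_algebraMap_eq (fun a => by
            change ((f ≫ g).stalkMap x).hom a = (f.stalkMap x).hom ((g.stalkMap (f x)).hom a)
            rw [Scheme.Hom.stalkMap_comp]
            rfl)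
        haveI : Module.Flat (Y.presheaf.stalk (f x)) (X.presheaf.stalk x) := hf
        haveI : Module.Flat (S.presheaf.stalk (g (f x))) (X.presheaf.stalk x) := hfg
        haveI : Module.FaithfullyFlat (Y.presheaf.stalk (f x)) (X.presheaf.stalk x) :=
          Module.FaithfullyFlat.of_flat_of_isLocalHom
        exact Groth.Agent.Helper2.FibCrit.flat_of_faithfullyFlat
          (A := S.presheaf.stalk (g (f x))) (B := Y.presheaf.stalk (f x))
          (M := X.presheaf.stalk x)
    rw [e]
    exact h1.inter h2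

end Groth.Agent.Helper2.FibFlatMain
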