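import Mathlib
import Groth.Agent.Helper2.SplitLoc
import Groth.Agent.Helper2.FieldFiber

namespace Groth.Agent.Helper2.LeftInvLocal
open TensorProduct IsLocalRing Groth.Agent.Helper2.SplitLoc Groth.Agent.Helper2.FieldFiber

universe u
variable {A : Type u} [CommRing A] [IsLocalRing A] {M N : Type u} [AddCommGroup M] [Module A M]
  [AddCommGroup N] [Module A N]

theorem ker_algebraMap_residueField :
    RingHom.ker (algebraMap A (ResidueField A)) = maximalIdeal A := by
  ext x
  rw [RingHom.mem_ker]
  exact IsLocalRing.residue_eq_zero_iff x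

theorem span_tmul_eq_top_of_span_eq_top {m : ℕ} (x : Fin m → M)
    (hx : Submodule.span A (Set.range x) = ⊤) :
    Submodule.span (ResidueField A)
      (Set.range fun i => (1 : ResidueField A) ⊗ₜ[A] x i) = ⊤ := by
  apply span_tmul_eq_top_of_exists_smul_mem_span (q := maximalIdeal A) ker_algebraMap_residueField
  intro y
  refine ⟨1, fun h => ?_, by rw [one_smul, hx]; exact Submodule.mem_top⟩
  exact (maximalIdeal.isMaximal A).ne_top ((Ideal.eq_top_iff_one _).mpr h)

theorem leftInverse_of_generators [Module.Finite A M] [Module.Projective A N] (u : M →ₗ[A] N)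
    {m : ℕ} (x : Fin m → M) (hx : Submodule.span A (Set.range x) = ⊤)
    (hli : LinearIndependent (ResidueField A) (fun i => (1 : ResidueField A) ⊗ₜ[A] u (x i))) :
    ∃ w : N →ₗ[A] M, w ∘ₗ u = LinearMap.id := by
  have hinj : Function.Injective (u.lTensor (ResidueField A)) := by
    have hfun : ∀ z, u.lTensor (ResidueField A) z = u.baseChange (ResidueField A) z := fun z => rfl
    rw [injective_iff_map_eq_zero]
    intro y hy
    have hy' : y ∈ Submodule.span (ResidueField A)
        (Set.range fun i => (1 : ResidueField A) ⊗ₜ[A] x i) :=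
      (span_tmul_eq_top_of_span_eq_top x hx) ▸ Submodule.mem_top
    obtain ⟨c, rfl⟩ := (Submodule.mem_span_range_iff_exists_fun (ResidueField A)).mp hy'
    rw [hfun, map_sum] at hy
    simp only [map_smul, LinearMap.baseChange_tmul] at hy
    have hc := Fintype.linearIndependent_iff.mp hli c hy
    simp [hc]
  obtain ⟨s, hs, w, hw⟩ := exists_smul_retraction_of_field (q := maximalIdeal A)
    ker_algebraMap_residueField u hinj
  have hsu : IsUnit s := by
    by_contra h
    exact hs ((IsLocalRing.mem_maximalIdeal s).mpr h)
  obtain ⟨t, ht⟩ := hsu.exists_left_inv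
  refine ⟨t • w, ?_⟩
  rw [LinearMap.smul_comp, hw, smul_smul, ht, one_smul]

theorem exists_basis_of_generators [Module.Finite A M] [Module.Projective A N] (u : M →ₗ[A] N)
    {m : ℕ} (x : Fin m → M) (hx : Submodule.span A (Set.range x) = ⊤)
    (hli : LinearIndependent (ResidueField A) (fun i => (1 : ResidueField A) ⊗ₜ[A] u (x i))) :
    ∃ b : Module.Basis (Fin m) A M, ∀ i, b i = x i := by
  obtain ⟨w, hw⟩ := leftInverse_of_generators u x hx hli
  haveI : Module.Projective A M := Module.Projective.of_split u w hw
  have hli' : LinearIndependent (ResidueField A) (TensorProduct.mk A (ResidueField A) M 1 ∘ x) := by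
    have : (fun i => (1 : ResidueField A) ⊗ₜ[A] u (x i)) =
        (u.baseChange (ResidueField A)) ∘ (TensorProduct.mk A (ResidueField A) M 1 ∘ x) := by
      funext i
      simp
    rw [this] at hli
    exact LinearIndependent.of_comp _ hli
  have hliA : LinearIndependent A x := Module.IsLocalRing.linearIndependent_of_flat x hli'
  exact ⟨Module.Basis.mk hliA hx.ge, fun i => by simp⟩

theorem leftInverse_iff_generators [Module.Finite A M] [Module.Projective A N] (u : M →ₗ[A] N) :
    (∃ w : N →ₗ[A] M, w ∘ₗ u = LinearMap.id) ↔
      ∃ (m : ℕ) (x : Fin m → M), Submodule.span A (Set.range x) = ⊤ ∧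
        LinearIndependent (ResidueField A) (fun i => (1 : ResidueField A) ⊗ₜ[A] u (x i)) := by
  constructor
  · rintro ⟨w, hw⟩
    haveI : Module.Projective A M := Module.Projective.of_split u w hw
    haveI : Module.Free A M := Module.free_of_flat_of_isLocalRing
    let b := Module.finBasis A M
    refine ⟨_, b, b.span_eq, ?_⟩
    have hb := (b.baseChange (ResidueField A)).linearIndependent
    have hinj : LinearMap.ker (u.baseChange (ResidueField A)) = ⊥ := by
      rw [LinearMap.ker_eq_bot]
      have : w.baseChange (ResidueField A) ∘ₗ u.baseChange (ResidueField A) = LinearMap.id := by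
        rw [← LinearMap.baseChange_comp, hw, LinearMap.baseChange_id]
      exact Function.HasLeftInverse.injective ⟨_, LinearMap.congr_fun this⟩
    have := hb.map' _ hinj
    have hfun : (fun i => (1 : ResidueField A) ⊗ₜ[A] u (b i)) =
        ⇑(u.baseChange (ResidueField A)) ∘ ⇑(b.baseChange (ResidueField A)) := by
      funext i
      simp [Module.Basis.baseChange_apply]
    rw [hfun]
    exact this
  · rintro ⟨m, x, hx, hli⟩
    exact leftInverse_of_generators u x hx hli

end Groth.Agent.Helper2.LeftInvLocal
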