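import Mathlib
import Groth.Prelude.Def_CAlgX
import Groth.Agent.Helper2.FieldFiber
import Groth.Agent.Helper2.LeftInvLocal

namespace Groth.Agent.Helper2.AdicJac
open TensorProduct KaehlerDifferential IsLocalRing

universe u

section stage
variable {A₀ R S : Type u} [CommRing A₀] [CommRing R] [CommRing S]
  [Algebra A₀ R] [Algebra R S] [Algebra A₀ S] [IsScalarTower A₀ R S] [IsLocalRing R]
  [IsLocalRing S]

theorem ker_le_maximalIdeal : RingHom.ker (algebraMap R S) ≤ maximalIdeal R :=
  IsLocalRing.le_maximalIdeal (RingHom.ker_ne_top _)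

theorem maximalIdeal_pow_le_map (hsurj : Function.Surjective (algebraMap R S)) (n : ℕ) :
    maximalIdeal S ^ n ≤ (maximalIdeal R ^ n).map (algebraMap R S) := by
  rw [Ideal.map_pow]
  apply Ideal.pow_right_mono
  intro x hx
  obtain ⟨r, rfl⟩ := hsurj x
  apply Ideal.mem_map_of_mem
  rw [IsLocalRing.mem_maximalIdeal, mem_nonunits_iff] at hx ⊢
  intro hr
  exact hx (hr.map _)

/-- One stage of the approximation: if `dj ∈ 𝔫 Ω` then `j ∈ 𝔫 J + 𝔫 ^ n`. -/
theorem mem_stage (hsurj : Function.Surjective (algebraMap R S))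
    (hadic : CAlgX.IsAdicFormallySmooth A₀ S (maximalIdeal S)) (n : ℕ) (j : R)
    (hj : j ∈ RingHom.ker (algebraMap R S))
    (hω : KaehlerDifferential.D A₀ R j ∈ (maximalIdeal R) • (⊤ : Submodule R Ω[R⁄A₀])) :
    j ∈ maximalIdeal R * RingHom.ker (algebraMap R S) ⊔ maximalIdeal R ^ n := by
  set J := RingHom.ker (algebraMap R S) with hJ
  set K : Ideal R := maximalIdeal R * J ⊔ maximalIdeal R ^ n with hK
  set N : Ideal (R ⧸ K) := J.map (Ideal.Quotient.mk K) with hN
  have hN2 : N ^ 2 = ⊥ := by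
    rw [hN, ← Ideal.map_pow, Ideal.map_eq_bot_iff_le_ker, Ideal.mk_ker, pow_two]
    exact le_sup_of_le_left (Ideal.mul_mono_left ker_le_maximalIdeal)
  -- the test map
  let g₀ : R →ₐ[A₀] (R ⧸ K) ⧸ N := (Ideal.Quotient.mkₐ A₀ N).comp (Ideal.Quotient.mkₐ A₀ K)
  have hg₀ : RingHom.ker (algebraMap R S) ≤ RingHom.ker (g₀ : R →+* (R ⧸ K) ⧸ N) := by
    intro r hr
    rw [RingHom.mem_ker]
    change Ideal.Quotient.mk N (Ideal.Quotient.mk K r) = 0
    rw [Ideal.Quotient.eq_zero_iff_mem]
    exact Ideal.mem_map_of_mem _ hr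
  let ψ₀ : S →+* (R ⧸ K) ⧸ N :=
    (algebraMap R S).liftOfSurjective hsurj ⟨(g₀ : R →+* (R ⧸ K) ⧸ N), hg₀⟩
  have hψ₀ : ∀ r, ψ₀ (algebraMap R S r) = Ideal.Quotient.mk N (Ideal.Quotient.mk K r) := fun r =>
    (algebraMap R S).liftOfSurjective_comp_apply hsurj ⟨(g₀ : R →+* (R ⧸ K) ⧸ N), hg₀⟩ r
  let ψ : S →ₐ[A₀] (R ⧸ K) ⧸ N :=
    { ψ₀ with
      commutes' := fun a => by
        change ψ₀ (algebraMap A₀ S a) = _
        rw [IsScalarTower.algebraMap_apply A₀ R S, hψ₀]
        rfl }
  have hψ : ∀ r, ψ (algebraMap R S r) = Ideal.Quotient.mk N (Ideal.Quotient.mk K r) := hψ₀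
  have hψk : ∃ k : ℕ, ∀ x ∈ maximalIdeal S ^ k, ψ x = 0 := by
    refine ⟨n, fun x hx => ?_⟩
    have hx' := maximalIdeal_pow_le_map hsurj n hx
    obtain ⟨r, hr, rfl⟩ := (Ideal.mem_map_iff_of_surjective _ hsurj).mp hx'
    rw [hψ, (Ideal.Quotient.eq_zero_iff_mem (I := K)).mpr (Ideal.mem_sup_right hr), map_zero]
  obtain ⟨χ, hχ⟩ := hadic (R ⧸ K) N hN2 ψ hψk
  let f₁ : R →ₐ[A₀] R ⧸ K := χ.comp (IsScalarTower.toAlgHom A₀ R S)
  have e : (Ideal.Quotient.mkₐ A₀ N).comp f₁ = IsScalarTower.toAlgHom A₀ R ((R ⧸ K) ⧸ N) := by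
    ext r
    have := AlgHom.congr_fun hχ (algebraMap R S r)
    simp only [AlgHom.coe_comp, Function.comp_apply] at this
    change (Ideal.Quotient.mkₐ A₀ N) (χ (algebraMap R S r)) = _
    rw [this, hψ]
    rfl
  let D := derivationToSquareZeroOfLift N hN2 f₁ e
  have hDj : ((D j : N) : R ⧸ K) = - Ideal.Quotient.mk K j := by
    rw [derivationToSquareZeroOfLift_apply]
    change χ (algebraMap R S j) - Ideal.Quotient.mk K j = _
    rw [RingHom.mem_ker.mp hj, map_zero, zero_sub]
  have hsmul : (maximalIdeal R) • (⊤ : Submodule R N) = ⊥ := by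
    rw [eq_bot_iff, Submodule.smul_le]
    intro a ha y _
    rw [Submodule.mem_bot]
    obtain ⟨y, hy⟩ := y
    obtain ⟨j', hj', rfl⟩ := (Ideal.mem_map_iff_of_surjective _ Ideal.Quotient.mk_surjective).mp hy
    apply Subtype.ext
    change a • Ideal.Quotient.mk K j' = 0
    rw [Algebra.smul_def, Ideal.Quotient.algebraMap_eq, ← map_mul, Ideal.Quotient.eq_zero_iff_mem]
    exact Ideal.mem_sup_left (Ideal.mul_mem_mul ha hj')
  have hlift : D.liftKaehlerDifferential (KaehlerDifferential.D A₀ R j) ∈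
      (maximalIdeal R) • (⊤ : Submodule R N) := by
    have := Submodule.mem_map_of_mem (f := D.liftKaehlerDifferential) hω
    rw [Submodule.map_smul''] at this
    exact Submodule.smul_mono le_rfl le_top this
  rw [hsmul, Submodule.mem_bot, Derivation.liftKaehlerDifferential_comp_D] at hlift
  have : Ideal.Quotient.mk K j = 0 := by
    have h2 := congrArg (Subtype.val) hlift
    rw [hDj] at h2
    simpa using h2
  exact Ideal.Quotient.eq_zero_iff_mem.mp this

end stage

section krull
variable {R : Type u} [CommRing R] [IsLocalRing R] [IsNoetherianRing R]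

theorem mem_mul_of_forall_stage (J : Ideal R) (j : R)
    (h : ∀ n, j ∈ maximalIdeal R * J ⊔ maximalIdeal R ^ n) : j ∈ maximalIdeal R * J := by
  have hk := Ideal.iInf_pow_smul_eq_bot_of_isLocalRing (maximalIdeal R)
    (M := R ⧸ (maximalIdeal R * J)) (maximalIdeal.isMaximal R).ne_top
  have hmem : (Ideal.Quotient.mk (maximalIdeal R * J) j : R ⧸ (maximalIdeal R * J)) ∈
      (⨅ i : ℕ, maximalIdeal R ^ i • ⊤ : Submodule R (R ⧸ (maximalIdeal R * J))) := by
    rw [Submodule.mem_iInf]
    intro i
    obtain ⟨a, ha, b, hb, hab⟩ := Submodule.mem_sup.mp (h i)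
    have h1 : (Ideal.Quotient.mk (maximalIdeal R * J) j : R ⧸ (maximalIdeal R * J)) =
        b • (Ideal.Quotient.mk (maximalIdeal R * J) 1) := by
      rw [← hab, map_add, Ideal.Quotient.eq_zero_iff_mem.mpr ha, zero_add, Algebra.smul_def,
        Ideal.Quotient.algebraMap_eq, map_one, mul_one]
    rw [h1]
    exact Submodule.smul_mem_smul hb Submodule.mem_top
  rw [hk, Submodule.mem_bot] at hmem
  exact Ideal.Quotient.eq_zero_iff_mem.mp hmem

end krull

theorem mem_smul_top_of_tmul_eq_zero {R k M : Type*} [CommRing R] [CommRing k] [Algebra R k]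
    (hk : Function.Surjective (algebraMap R k)) [AddCommGroup M] [Module R M] (m : M)
    (h : (1 : k) ⊗ₜ[R] m = 0) : m ∈ (RingHom.ker (algebraMap R k)) • (⊤ : Submodule R M) := by
  have hk' : Function.Surjective (Algebra.ofId R k) := hk
  let e : (R ⧸ RingHom.ker (Algebra.ofId R k)) ≃ₐ[R] k := Ideal.quotientKerAlgEquivOfSurjective hk'
  have h1 : (TensorProduct.congr e.symm.toLinearEquiv (LinearEquiv.refl R M)) ((1 : k) ⊗ₜ[R] m) =
      (1 : R ⧸ RingHom.ker (Algebra.ofId R k)) ⊗ₜ[R] m := by
    simp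
  rw [h, map_zero] at h1
  have h2 : m ∈ LinearMap.ker (TensorProduct.mk R (R ⧸ RingHom.ker (Algebra.ofId R k)) M 1) := by
    rw [LinearMap.mem_ker]
    exact h1.symm
  rw [LinearMap.ker_tensorProductMk] at h2
  exact h2

section main
variable {A₀ R S : Type u} [CommRing A₀] [CommRing R] [CommRing S]
  [Algebra A₀ R] [Algebra R S] [Algebra A₀ S] [IsScalarTower A₀ R S] [IsLocalRing R]
  [IsLocalRing S] [IsNoetherianRing R] [Algebra.FormallySmooth A₀ R]

open Groth.Agent.Helper2.FieldFiber Groth.Agent.Helper2.LeftInvLocal in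
/-- CORE: adic formal smoothness of a quotient of a formally smooth Noetherian local algebra implies
(discrete) formal smoothness. -/
theorem formallySmooth_of_isAdicFormallySmooth (hsurj : Function.Surjective (algebraMap R S))
    (hadic : CAlgX.IsAdicFormallySmooth A₀ S (maximalIdeal S)) : Algebra.FormallySmooth A₀ S := by
  let P : Algebra.Extension.{u} A₀ S :=
    { Ring := R, σ := Function.surjInv hsurj, algebraMap_σ := Function.surjInv_eq hsurj }
  haveI : Algebra.FormallySmooth A₀ P.Ring := ‹Algebra.FormallySmooth A₀ R›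
  haveI hfin : Module.Finite S P.Cotangent := by
    have : Module.Finite P.Ring P.Cotangent :=
      have : Module.Finite P.Ring P.ker := .of_fg (IsNoetherian.noetherian (P.ker : Ideal R))
      .of_surjective _ Algebra.Extension.Cotangent.mk_surjective
    exact Module.Finite.of_restrictScalars_finite P.Ring _ _
  have hk : Function.Surjective (algebraMap R (ResidueField S)) := by
    rw [IsScalarTower.algebraMap_eq R S (ResidueField S)]
    exact (IsLocalRing.residue_surjective).comp hsurj
  have hker : RingHom.ker (algebraMap R (ResidueField S)) = maximalIdeal R := by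
    ext r
    rw [RingHom.mem_ker, IsScalarTower.algebraMap_apply R S (ResidueField S)]
    change IsLocalRing.residue S (algebraMap R S r) = 0 ↔ _
    rw [IsLocalRing.residue_eq_zero_iff, IsLocalRing.mem_maximalIdeal, IsLocalRing.mem_maximalIdeal,
      mem_nonunits_iff, mem_nonunits_iff, not_iff_not]
    constructor
    · intro h
      haveI := IsLocalHom.of_surjective (algebraMap R S) hsurj
      exact isUnit_of_map_unit (algebraMap R S) r h
    · exact fun h => h.map _
  have hinj : Function.Injective (P.cotangentComplex.lTensor (ResidueField S)) := by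
    rw [injective_iff_map_eq_zero]
    intro x hx
    obtain ⟨y, rfl⟩ := TensorProduct.mk_surjective S P.Cotangent (ResidueField S)
      IsLocalRing.residue_surjective x
    obtain ⟨⟨j, hj⟩, rfl⟩ := Algebra.Extension.Cotangent.mk_surjective y
    rw [TensorProduct.mk_apply, LinearMap.lTensor_tmul, Algebra.Extension.cotangentComplex_mk] at hx
    rw [TensorProduct.mk_apply]
    have h1 : (1 : ResidueField S) ⊗ₜ[R] (KaehlerDifferential.D A₀ R j) = 0 := by
      have := congrArg (AlgebraTensorModule.cancelBaseChange R S (ResidueField S) (ResidueField S)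
        Ω[R⁄A₀]) hx
      rw [AlgebraTensorModule.cancelBaseChange_tmul, map_zero, one_smul] at this
      exact this
    have h2 := mem_smul_top_of_tmul_eq_zero hk _ h1
    rw [hker] at h2
    have h3 : j ∈ maximalIdeal R * RingHom.ker (algebraMap R S) :=
      mem_mul_of_forall_stage _ j (fun n => mem_stage hsurj hadic n j hj h2)
    -- conclude
    let Φ : P.ker →ₗ[R] (ResidueField S) ⊗[S] P.Cotangent :=
      ((TensorProduct.mk S (ResidueField S) P.Cotangent 1).restrictScalars R) ∘ₗ
        (Algebra.Extension.Cotangent.mk (P := P))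
    have hΦ : ∀ z ∈ (maximalIdeal R) • (⊤ : Submodule R P.ker), Φ z = 0 := by
      intro z hz
      refine Submodule.smul_induction_on hz ?_ ?_
      · intro a ha y _
        rw [map_smul, ← algebraMap_smul (ResidueField S) a (Φ y)]
        have : algebraMap R (ResidueField S) a = 0 := by
          rw [← RingHom.mem_ker, hker]; exact ha
        rw [this, zero_smul]
      · intro a b ha hb
        rw [map_add, ha, hb, add_zero]
    have h4 : (⟨j, hj⟩ : P.ker) ∈ (maximalIdeal R) • (⊤ : Submodule R P.ker) := by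
      rw [Submodule.mem_smul_top_iff]
      exact h3
    exact hΦ _ h4
  obtain ⟨s, hs, w, hw⟩ := exists_smul_retraction_of_field (q := maximalIdeal S)
    ker_algebraMap_residueField P.cotangentComplex hinj
  have hsu : IsUnit s := by
    by_contra h
    exact hs ((IsLocalRing.mem_maximalIdeal s).mpr h)
  obtain ⟨t, ht⟩ := hsu.exists_left_inv
  rw [P.formallySmooth_iff_split_injection]
  refine ⟨t • w, ?_⟩
  rw [LinearMap.smul_comp, hw, smul_smul, ht, one_smul]

end main

end Groth.Agent.Helper2.AdicJac
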