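import Mathlib
import Groth.Prelude.Def_CAlgX
import Groth.Agent.Helper2.AdicJac

namespace Groth.Agent.Helper2.AdicJacArt
open TensorProduct KaehlerDifferential IsLocalRing Groth.Agent.Helper2.AdicJac

universe u

/-- Artinian lifting property, strong form: only surjective test maps to quotients of Artinian
local algebras by ideals killed by the maximal ideal. -/
def ArtLiftS (A₀ S : Type u) [CommRing A₀] [CommRing S] [Algebra A₀ S] : Prop :=
  ∀ (E : Type u) [CommRing E] [IsLocalRing E] [IsArtinianRing E] [Algebra A₀ E] (N : Ideal E),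
    N ≠ ⊤ → N * maximalIdeal E = ⊥ → ∀ ψ : S →ₐ[A₀] E ⧸ N, Function.Surjective ψ →
      ∃ χ : S →ₐ[A₀] E, (Ideal.Quotient.mkₐ A₀ N).comp χ = ψ

section stage
variable {A₀ R S : Type u} [CommRing A₀] [CommRing R] [CommRing S]
  [Algebra A₀ R] [Algebra R S] [Algebra A₀ S] [IsScalarTower A₀ R S] [IsLocalRing R]
  [IsLocalRing S] [IsNoetherianRing R]

/-- One stage of the approximation under the Artinian lifting property. -/
theorem mem_stage_art (hsurj : Function.Surjective (algebraMap R S))
    (hart : ArtLiftS A₀ S) (n : ℕ) (j : R)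
    (hj : j ∈ RingHom.ker (algebraMap R S))
    (hω : KaehlerDifferential.D A₀ R j ∈ (maximalIdeal R) • (⊤ : Submodule R Ω[R⁄A₀])) :
    j ∈ maximalIdeal R * RingHom.ker (algebraMap R S) ⊔ maximalIdeal R ^ n := by
  rcases Nat.eq_zero_or_pos n with hn0 | hnpos
  · subst hn0
    rw [pow_zero, Ideal.one_eq_top, sup_top_eq]
    trivial
  set J := RingHom.ker (algebraMap R S) with hJ
  set K : Ideal R := maximalIdeal R * J ⊔ maximalIdeal R ^ n with hK
  have hKle : K ≤ maximalIdeal R := by
    refine sup_le Ideal.mul_le_left ?_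
    exact Ideal.pow_le_self hnpos.ne'
  have hKtop : K ≠ ⊤ := fun h => (maximalIdeal.isMaximal R).ne_top (top_le_iff.mp (h ▸ hKle))
  haveI : Nontrivial (R ⧸ K) := Ideal.Quotient.nontrivial_iff.mpr hKtop
  haveI : IsLocalRing (R ⧸ K) :=
    IsLocalRing.of_surjective' (Ideal.Quotient.mk K) Ideal.Quotient.mk_surjective
  have hmE : maximalIdeal (R ⧸ K) ≤ (maximalIdeal R).map (Ideal.Quotient.mk K) := by
    intro x hx
    obtain ⟨r, rfl⟩ := Ideal.Quotient.mk_surjective x
    apply Ideal.mem_map_of_mem
    rw [IsLocalRing.mem_maximalIdeal, mem_nonunits_iff] at hx ⊢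
    exact fun hr => hx (hr.map _)
  haveI : IsArtinianRing (R ⧸ K) := by
    rw [isArtinianRing_iff_isNilpotent_maximalIdeal]
    refine ⟨n, ?_⟩
    rw [Ideal.zero_eq_bot, eq_bot_iff]
    refine (Ideal.pow_right_mono hmE n).trans ?_
    rw [← Ideal.map_pow, Ideal.map_le_iff_le_comap]
    intro r hr
    rw [Ideal.mem_comap, Ideal.mem_bot, Ideal.Quotient.eq_zero_iff_mem]
    exact Ideal.mem_sup_right hr
  set N : Ideal (R ⧸ K) := J.map (Ideal.Quotient.mk K) with hN
  have hN2 : N ^ 2 = ⊥ := by
    rw [hN, ← Ideal.map_pow, Ideal.map_eq_bot_iff_le_ker, Ideal.mk_ker, pow_two]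
    exact le_sup_of_le_left (Ideal.mul_mono_left ker_le_maximalIdeal)
  have hNtop : N ≠ ⊤ := by
    intro h
    rw [h, Ideal.top_pow] at hN2
    exact top_ne_bot hN2
  have hNm : N * maximalIdeal (R ⧸ K) = ⊥ := by
    rw [eq_bot_iff]
    refine (Ideal.mul_mono_right hmE).trans ?_
    rw [hN, ← Ideal.map_mul, Ideal.map_le_iff_le_comap]
    intro r hr
    rw [Ideal.mem_comap, Ideal.mem_bot, Ideal.Quotient.eq_zero_iff_mem]
    rw [mul_comm] at hr
    exact Ideal.mem_sup_left hr
  -- the test map
  let g₀ : R →ₐ[A₀] (R ⧸ K) ⧸ N := (Ideal.Quotient.mkₐ A₀ N).comp (Ideal.Quotient.mkₐ A₀ K)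
  have hg₀ : RingHom.ker (algebraMap R S) ≤ RingHom.ker (g₀ : R →+* (R ⧸ K) ⧸ N) := by
    intro r hr
    rw [RingHom.mem_ker]
    change Ideal.Quotient.mk N (Ideal.Quotient.mk K r) = 0
    rw [Ideal.Quotient.eq_zero_iff_mem]
    exact Ideal.mem_map_of_mem _ hr
  let ψ₀ : S →+* (R ⧸ K) ⧸ N :=
    (algebraMap R S).liftOfSurjective hsurj ⟨(g₀ : R →+* (R ⧸ K) ⧸ N), hg₀⟩
  have hψ₀ : ∀ r, ψ₀ (algebraMap R S r) = Ideal.Quotient.mk N (Ideal.Quotient.mk K r) := fun r =>
    (algebraMap R S).liftOfSurjective_comp_apply hsurj ⟨(g₀ : R →+* (R ⧸ K) ⧸ N), hg₀⟩ r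
  let ψ : S →ₐ[A₀] (R ⧸ K) ⧸ N :=
    { ψ₀ with
      commutes' := fun a => by
        change ψ₀ (algebraMap A₀ S a) = _
        rw [IsScalarTower.algebraMap_apply A₀ R S, hψ₀]
        rfl }
  have hψ : ∀ r, ψ (algebraMap R S r) = Ideal.Quotient.mk N (Ideal.Quotient.mk K r) := hψ₀
  have hψsurj : Function.Surjective ψ := by
    intro y
    obtain ⟨y', rfl⟩ := Ideal.Quotient.mk_surjective y
    obtain ⟨r, rfl⟩ := Ideal.Quotient.mk_surjective y'
    exact ⟨algebraMap R S r, hψ r⟩
  obtain ⟨χ, hχ⟩ := hart (R ⧸ K) N hNtop hNm ψ hψsurj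
  let f₁ : R →ₐ[A₀] R ⧸ K := χ.comp (IsScalarTower.toAlgHom A₀ R S)
  have e : (Ideal.Quotient.mkₐ A₀ N).comp f₁ = IsScalarTower.toAlgHom A₀ R ((R ⧸ K) ⧸ N) := by
    ext r
    have := AlgHom.congr_fun hχ (algebraMap R S r)
    simp only [AlgHom.coe_comp, Function.comp_apply] at this
    change (Ideal.Quotient.mkₐ A₀ N) (χ (algebraMap R S r)) = _
    rw [this, hψ]
    rfl
  let D := derivationToSquareZeroOfLift N hN2 f₁ e
  have hDj : ((D j : N) : R ⧸ K) = - Ideal.Quotient.mk K j := by
    rw [derivationToSquareZeroOfLift_apply]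
    change χ (algebraMap R S j) - Ideal.Quotient.mk K j = _
    rw [RingHom.mem_ker.mp hj, map_zero, zero_sub]
  have hsmul : (maximalIdeal R) • (⊤ : Submodule R N) = ⊥ := by
    rw [eq_bot_iff, Submodule.smul_le]
    intro a ha y _
    rw [Submodule.mem_bot]
    obtain ⟨y, hy⟩ := y
    obtain ⟨j', hj', rfl⟩ := (Ideal.mem_map_iff_of_surjective _ Ideal.Quotient.mk_surjective).mp hy
    apply Subtype.ext
    change a • Ideal.Quotient.mk K j' = 0
    rw [Algebra.smul_def, Ideal.Quotient.algebraMap_eq, ← map_mul, Ideal.Quotient.eq_zero_iff_mem]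
    exact Ideal.mem_sup_left (Ideal.mul_mem_mul ha hj')
  have hlift : D.liftKaehlerDifferential (KaehlerDifferential.D A₀ R j) ∈
      (maximalIdeal R) • (⊤ : Submodule R N) := by
    have := Submodule.mem_map_of_mem (f := D.liftKaehlerDifferential) hω
    rw [Submodule.map_smul''] at this
    exact Submodule.smul_mono le_rfl le_top this
  rw [hsmul, Submodule.mem_bot, Derivation.liftKaehlerDifferential_comp_D] at hlift
  have : Ideal.Quotient.mk K j = 0 := by
    have h2 := congrArg (Subtype.val) hlift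
    rw [hDj] at h2
    simpa using h2
  exact Ideal.Quotient.eq_zero_iff_mem.mp this

end stage

section main
variable {A₀ R S : Type u} [CommRing A₀] [CommRing R] [CommRing S]
  [Algebra A₀ R] [Algebra R S] [Algebra A₀ S] [IsScalarTower A₀ R S] [IsLocalRing R]
  [IsLocalRing S] [IsNoetherianRing R] [Algebra.FormallySmooth A₀ R]

open Groth.Agent.Helper2.FieldFiber Groth.Agent.Helper2.LeftInvLocal in
/-- CORE (Artinian form): the Artinian lifting property for a quotient of a formally smooth
Noetherian local algebra implies formal smoothness. -/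
theorem formallySmooth_of_artLift (hsurj : Function.Surjective (algebraMap R S))
    (hart : ArtLiftS A₀ S) : Algebra.FormallySmooth A₀ S := by
  let P : Algebra.Extension.{u} A₀ S :=
    { Ring := R, σ := Function.surjInv hsurj, algebraMap_σ := Function.surjInv_eq hsurj }
  haveI : Algebra.FormallySmooth A₀ P.Ring := ‹Algebra.FormallySmooth A₀ R›
  haveI hfin : Module.Finite S P.Cotangent := by
    have : Module.Finite P.Ring P.Cotangent :=
      have : Module.Finite P.Ring P.ker := .of_fg (IsNoetherian.noetherian (P.ker : Ideal R))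
      .of_surjective _ Algebra.Extension.Cotangent.mk_surjective
    exact Module.Finite.of_restrictScalars_finite P.Ring _ _
  have hk : Function.Surjective (algebraMap R (ResidueField S)) := by
    rw [IsScalarTower.algebraMap_eq R S (ResidueField S)]
    exact (IsLocalRing.residue_surjective).comp hsurj
  have hker : RingHom.ker (algebraMap R (ResidueField S)) = maximalIdeal R := by
    ext r
    rw [RingHom.mem_ker, IsScalarTower.algebraMap_apply R S (ResidueField S)]
    change IsLocalRing.residue S (algebraMap R S r) = 0 ↔ _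
    rw [IsLocalRing.residue_eq_zero_iff, IsLocalRing.mem_maximalIdeal, IsLocalRing.mem_maximalIdeal,
      mem_nonunits_iff, mem_nonunits_iff, not_iff_not]
    constructor
    · intro h
      haveI := IsLocalHom.of_surjective (algebraMap R S) hsurj
      exact isUnit_of_map_unit (algebraMap R S) r h
    · exact fun h => h.map _
  have hinj : Function.Injective (P.cotangentComplex.lTensor (ResidueField S)) := by
    rw [injective_iff_map_eq_zero]
    intro x hx
    obtain ⟨y, rfl⟩ := TensorProduct.mk_surjective S P.Cotangent (ResidueField S)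
      IsLocalRing.residue_surjective x
    obtain ⟨⟨j, hj⟩, rfl⟩ := Algebra.Extension.Cotangent.mk_surjective y
    rw [TensorProduct.mk_apply, LinearMap.lTensor_tmul, Algebra.Extension.cotangentComplex_mk] at hx
    rw [TensorProduct.mk_apply]
    have h1 : (1 : ResidueField S) ⊗ₜ[R] (KaehlerDifferential.D A₀ R j) = 0 := by
      have := congrArg (AlgebraTensorModule.cancelBaseChange R S (ResidueField S) (ResidueField S)
        Ω[R⁄A₀]) hx
      rw [AlgebraTensorModule.cancelBaseChange_tmul, map_zero, one_smul] at this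
      exact this
    have h2 := mem_smul_top_of_tmul_eq_zero hk _ h1
    rw [hker] at h2
    have h3 : j ∈ maximalIdeal R * RingHom.ker (algebraMap R S) :=
      mem_mul_of_forall_stage _ j (fun n => mem_stage_art hsurj hart n j hj h2)
    -- conclude
    let Φ : P.ker →ₗ[R] (ResidueField S) ⊗[S] P.Cotangent :=
      ((TensorProduct.mk S (ResidueField S) P.Cotangent 1).restrictScalars R) ∘ₗ
        (Algebra.Extension.Cotangent.mk (P := P))
    have hΦ : ∀ z ∈ (maximalIdeal R) • (⊤ : Submodule R P.ker), Φ z = 0 := by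
      intro z hz
      refine Submodule.smul_induction_on hz ?_ ?_
      · intro a ha y _
        rw [map_smul, ← algebraMap_smul (ResidueField S) a (Φ y)]
        have : algebraMap R (ResidueField S) a = 0 := by
          rw [← RingHom.mem_ker, hker]; exact ha
        rw [this, zero_smul]
      · intro a b ha hb
        rw [map_add, ha, hb, add_zero]
    have h4 : (⟨j, hj⟩ : P.ker) ∈ (maximalIdeal R) • (⊤ : Submodule R P.ker) := by
      rw [Submodule.mem_smul_top_iff]
      exact h3
    exact hΦ _ h4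
  obtain ⟨s, hs, w, hw⟩ := exists_smul_retraction_of_field (q := maximalIdeal S)
    ker_algebraMap_residueField P.cotangentComplex hinj
  have hsu : IsUnit s := by
    by_contra h
    exact hs ((IsLocalRing.mem_maximalIdeal s).mpr h)
  obtain ⟨t, ht⟩ := hsu.exists_left_inv
  rw [P.formallySmooth_iff_split_injection]
  refine ⟨t • w, ?_⟩
  rw [LinearMap.smul_comp, hw, smul_smul, ht, one_smul]

end main

end Groth.Agent.Helper2.AdicJacArt
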