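import Mathlib
import Groth.Agent.Helper2.AdicJacArt

namespace Groth.Agent.Helper2.ArtStalk
open IsLocalRing Groth.Agent.Helper2.AdicJacArt

universe u

/-- A local ring essentially of finite type over a Noetherian ring is a quotient of a formally smooth
Noetherian local algebra. -/
theorem exists_presentation (A₀ S : Type u) [CommRing A₀] [CommRing S] [Algebra A₀ S]
    [IsLocalRing S] [IsNoetherianRing A₀] [Algebra.EssFiniteType A₀ S] :
    ∃ (R : Type u) (_ : CommRing R) (_ : IsLocalRing R) (_ : IsNoetherianRing R)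
      (_ : Algebra A₀ R) (_ : Algebra R S) (_ : IsScalarTower A₀ R S)
      (_ : Algebra.FormallySmooth A₀ R), Function.Surjective (algebraMap R S) := by
  classical
  let σ : Finset S := Algebra.EssFiniteType.finset A₀ S
  let φ : MvPolynomial σ A₀ →ₐ[A₀] S := MvPolynomial.aeval (fun s : σ => (s : S))
  have hrange : φ.range = Algebra.EssFiniteType.subalgebra A₀ S := by
    rw [← Algebra.adjoin_range_eq_range_aeval]
    congr 1
    ext x
    simp [σ]
  let q : Ideal (MvPolynomial σ A₀) := (maximalIdeal S).comap φ.toRingHom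
  haveI : q.IsPrime := Ideal.comap_isPrime _ _
  have hunits : ∀ y : q.primeCompl, IsUnit (φ.toRingHom y) := by
    intro y
    have hy : (y : MvPolynomial σ A₀) ∉ q := y.2
    by_contra hc
    exact hy ((IsLocalRing.mem_maximalIdeal _).mpr hc)
  letI algPS : Algebra (MvPolynomial σ A₀) S := φ.toRingHom.toAlgebra
  haveI : IsScalarTower A₀ (MvPolynomial σ A₀) S := .of_algebraMap_eq' φ.comp_algebraMap.symm
  letI algRS : Algebra (Localization.AtPrime q) S := (IsLocalization.lift hunits).toAlgebra
  haveI tPRS : IsScalarTower (MvPolynomial σ A₀) (Localization.AtPrime q) S :=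
    .of_algebraMap_eq' (IsLocalization.lift_comp hunits).symm
  haveI tARS : IsScalarTower A₀ (Localization.AtPrime q) S := by
    refine .of_algebraMap_eq' ?_
    ext a
    rw [RingHom.comp_apply,
      IsScalarTower.algebraMap_apply A₀ (MvPolynomial σ A₀) (Localization.AtPrime q),
      ← IsScalarTower.algebraMap_apply (MvPolynomial σ A₀) (Localization.AtPrime q) S,
      ← IsScalarTower.algebraMap_apply A₀ (MvPolynomial σ A₀) S]
  have hsurj : Function.Surjective (algebraMap (Localization.AtPrime q) S) := by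
    intro s
    obtain ⟨⟨b, m⟩, hbm⟩ := IsLocalization.surj (Algebra.EssFiniteType.submonoid A₀ S) s
    have hb : (b : S) ∈ φ.range := by rw [hrange]; exact b.2
    have hm : ((m : Algebra.EssFiniteType.subalgebra A₀ S) : S) ∈ φ.range := by
      rw [hrange]; exact m.1.2
    obtain ⟨pb, hpb'⟩ := hb
    obtain ⟨pm, hpm'⟩ := hm
    have hpb : φ pb = b := hpb'
    have hpm : φ pm = ((m : Algebra.EssFiniteType.subalgebra A₀ S) : S) := hpm'
    have hmunit : IsUnit (φ pm) := by
      rw [hpm]
      exact m.2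
    have hpmq : pm ∈ q.primeCompl := by
      intro hc
      exact ((IsLocalRing.mem_maximalIdeal _).mp hc) hmunit
    refine ⟨IsLocalization.mk' _ pb ⟨pm, hpmq⟩, ?_⟩
    change IsLocalization.lift hunits _ = s
    rw [IsLocalization.lift_mk'_spec]
    change φ pb = φ pm * s
    rw [hpb, hpm, mul_comm]
    exact hbm.symm
  exact ⟨Localization.AtPrime q, inferInstance, inferInstance, inferInstance, inferInstance,
    algRS, tARS, inferInstance, hsurj⟩

theorem formallySmooth_of_artLiftS {A₀ S : Type u} [CommRing A₀] [CommRing S] [Algebra A₀ S]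
    [IsLocalRing S] [IsNoetherianRing A₀] [Algebra.EssFiniteType A₀ S]
    (hart : ArtLiftS A₀ S) : Algebra.FormallySmooth A₀ S := by
  obtain ⟨R, _, _, _, _, _, _, _, hsurj⟩ := exists_presentation A₀ S
  exact formallySmooth_of_artLift (R := R) hsurj hart

/-- Artinian lifting property in ring-hom form. -/
def ArtLiftHom {A B : Type u} [CommRing A] [CommRing B] [IsLocalRing A] [IsLocalRing B]
    (φ : A →+* B) : Prop :=
  ∀ (A' : Type u) [CommRing A'] [IsLocalRing A'] [IsArtinianRing A']
    (h : A →+* A') [IsLocalHom h]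
    (I : Ideal A') (_ : I ≠ ⊤) (_ : I * IsLocalRing.maximalIdeal A' = ⊥)
    (g₀ : B →+* A' ⧸ I),
    g₀.comp φ = (Ideal.Quotient.mk I).comp h →
    (∀ b ∈ IsLocalRing.maximalIdeal B,
      g₀ b ∈ (IsLocalRing.maximalIdeal A').map (Ideal.Quotient.mk I)) →
    (∀ a' : A', ∃ b : B,
      g₀ b - Ideal.Quotient.mk I a' ∈ (IsLocalRing.maximalIdeal A').map (Ideal.Quotient.mk I)) →
    ∃ g : B →+* A', g.comp φ = h ∧ (Ideal.Quotient.mk I).comp g = g₀

/-- nonunits of a quotient of a local ring come from the maximal ideal. -/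
theorem mem_map_maximalIdeal_of_not_isUnit {E : Type u} [CommRing E] [IsLocalRing E] (N : Ideal E)
    (x : E ⧸ N) (hx : ¬ IsUnit x) : x ∈ (maximalIdeal E).map (Ideal.Quotient.mk N) := by
  obtain ⟨e, rfl⟩ := Ideal.Quotient.mk_surjective x
  apply Ideal.mem_map_of_mem
  rw [IsLocalRing.mem_maximalIdeal, mem_nonunits_iff]
  exact fun he => hx (he.map _)

theorem not_isUnit_of_mem_map_maximalIdeal {E : Type u} [CommRing E] [IsLocalRing E] (N : Ideal E)
    (hN : N ≠ ⊤) (x : E ⧸ N) (hx : x ∈ (maximalIdeal E).map (Ideal.Quotient.mk N)) :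
    ¬ IsUnit x := by
  intro hu
  have hle : N ≤ maximalIdeal E := IsLocalRing.le_maximalIdeal hN
  have h1 : (maximalIdeal E).map (Ideal.Quotient.mk N) = ⊤ := Ideal.eq_top_of_isUnit_mem _ hx hu
  have h2 := congrArg (Ideal.comap (Ideal.Quotient.mk N)) h1
  rw [Ideal.comap_map_of_surjective _ Ideal.Quotient.mk_surjective, Ideal.comap_top,
    ← RingHom.ker_eq_comap_bot, Ideal.mk_ker, sup_eq_left.mpr hle] at h2
  exact (maximalIdeal.isMaximal E).ne_top h2

theorem artLiftS_of_artLiftHom {A B : Type u} [CommRing A] [CommRing B] [IsLocalRing A]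
    [IsLocalRing B] [Algebra A B] [IsLocalHom (algebraMap A B)]
    (H : ArtLiftHom (algebraMap A B)) : ArtLiftS A B := by
  intro E _ _ _ _ N hN hNm ψ hψ
  haveI : Nontrivial (E ⧸ N) := Ideal.Quotient.nontrivial_iff.mpr hN
  -- ψ reflects units
  have hψunit : ∀ b : B, IsUnit (ψ b) → IsUnit b := by
    intro b hb
    by_contra hnb
    obtain ⟨y, hy⟩ := hb.exists_right_inv
    obtain ⟨b', rfl⟩ := hψ y
    have h1 : ψ (b * b' - 1) = 0 := by rw [map_sub, map_mul, hy, map_one, sub_self]
    have h2 : b * b' ∈ maximalIdeal B :=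
      Ideal.mul_mem_right _ _ ((IsLocalRing.mem_maximalIdeal b).mpr hnb)
    have h3 : IsUnit (b * b' - 1) := by
      have : IsUnit (1 - b * b') := by
        by_contra hc
        have h4 : 1 - b * b' ∈ maximalIdeal B := (IsLocalRing.mem_maximalIdeal _).mpr hc
        have h5 : (1 : B) ∈ maximalIdeal B := by
          have := Ideal.add_mem _ h4 h2
          simpa using this
        exact (maximalIdeal.isMaximal B).ne_top ((Ideal.eq_top_iff_one _).mpr h5)
      have h6 : b * b' - 1 = -(1 - b * b') := by ring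
      rw [h6]
      exact this.neg
    have h7 := h3.map ψ
    rw [h1] at h7
    exact not_isUnit_zero h7
  haveI hloc : IsLocalHom (algebraMap A E) := by
    constructor
    intro a ha
    have h1 : IsUnit (Ideal.Quotient.mk N (algebraMap A E a)) := ha.map _
    have h2 : Ideal.Quotient.mk N (algebraMap A E a) = ψ (algebraMap A B a) := by
      rw [AlgHom.commutes]; rfl
    rw [h2] at h1
    exact isUnit_of_map_unit (algebraMap A B) a (hψunit _ h1)
  obtain ⟨g, hg1, hg2⟩ := H E (algebraMap A E) N hN hNm ψ.toRingHom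
    (by
      ext a
      simp only [RingHom.comp_apply, AlgHom.toRingHom_eq_coe, RingHom.coe_coe]
      rw [AlgHom.commutes]; rfl)
    (by
      intro b hb
      apply mem_map_maximalIdeal_of_not_isUnit
      intro hu
      exact ((IsLocalRing.mem_maximalIdeal b).mp hb) (hψunit b hu))
    (by
      intro e
      obtain ⟨b, hb⟩ := hψ (Ideal.Quotient.mk N e)
      refine ⟨b, ?_⟩
      change ψ b - _ ∈ _
      rw [hb, sub_self]
      exact Ideal.zero_mem _)
  refine ⟨{ g with commutes' := fun a => RingHom.congr_fun hg1 a }, ?_⟩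
  ext b
  exact RingHom.congr_fun hg2 b

theorem artLiftHom_of_formallySmooth {A B : Type u} [CommRing A] [CommRing B] [IsLocalRing A]
    [IsLocalRing B] [Algebra A B] [Algebra.FormallySmooth A B] :
    ArtLiftHom (algebraMap A B) := by
  intro A' _ _ _ h _ I hI hIm g₀ hg₀ _ _
  letI : Algebra A A' := h.toAlgebra
  have hle : I ≤ maximalIdeal A' := IsLocalRing.le_maximalIdeal hI
  have hI2 : I ^ 2 = ⊥ := by
    rw [eq_bot_iff, pow_two, ← hIm]
    exact Ideal.mul_mono_right hle
  let g₀' : B →ₐ[A] A' ⧸ I :=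
    { g₀ with commutes' := fun a => RingHom.congr_fun hg₀ a }
  obtain ⟨g, hg⟩ := Algebra.FormallySmooth.exists_lift I ⟨2, hI2⟩ g₀'
  refine ⟨g.toRingHom, ?_, ?_⟩
  · ext a
    exact g.commutes a
  · ext b
    exact AlgHom.congr_fun hg b

theorem formallySmooth_iff_artLiftHom {A B : Type u} [CommRing A] [CommRing B] [IsLocalRing A]
    [IsLocalRing B] [IsNoetherianRing A] [Algebra A B] [IsLocalHom (algebraMap A B)]
    [Algebra.EssFiniteType A B] :
    Algebra.FormallySmooth A B ↔ ArtLiftHom (algebraMap A B) :=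
  ⟨fun _ => artLiftHom_of_formallySmooth,
    fun H => formallySmooth_of_artLiftS (artLiftS_of_artLiftHom H)⟩

end Groth.Agent.Helper2.ArtStalk
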