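import Mathlib
import Groth.Agent.Helper2.ArtStalk
import Groth.Agent.Helper2.PtDesc

namespace Groth.Agent.Helper2.ArtSch
open IsLocalRing AlgebraicGeometry CategoryTheory Groth.Agent.Helper2.ArtStalk

universe u

theorem lfp_of_lft_noeth {X Y : Scheme.{u}} (f : X ⟶ Y) [LocallyOfFiniteType f]
    [IsLocallyNoetherian Y] : LocallyOfFinitePresentation f := by
  constructor
  intro U hU V hV e
  haveI : IsNoetherianRing Γ(Y, U) := IsLocallyNoetherian.component_noetherian ⟨U, hU⟩
  exact RingHom.FinitePresentation.of_finiteType.mp (f.finiteType_appLE hU hV e)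

theorem smooth_nbhd_iff_artLiftHom {X Y : Scheme.{u}} (f : X ⟶ Y) [LocallyOfFiniteType f]
    [IsLocallyNoetherian Y] (x : X) :
    (∃ U : X.Opens, x ∈ U ∧ Smooth (U.ι ≫ f)) ↔ ArtLiftHom (f.stalkMap x).hom := by
  haveI : LocallyOfFinitePresentation f := lfp_of_lft_noeth f
  rw [Groth.Agent.Helper2.PtDesc.smooth_nbhd_iff f x]
  letI : Algebra (Y.presheaf.stalk (f.base x)) (X.presheaf.stalk x) :=
    (f.stalkMap x).hom.toAlgebra
  haveI : IsLocalHom (algebraMap (Y.presheaf.stalk (f.base x)) (X.presheaf.stalk x)) :=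
    inferInstanceAs (IsLocalHom (f.stalkMap x).hom)
  haveI : Algebra.EssFiniteType (Y.presheaf.stalk (f.base x)) (X.presheaf.stalk x) :=
    LocallyOfFiniteType.stalkMap f x
  exact formallySmooth_iff_artLiftHom (A := Y.presheaf.stalk (f.base x))
    (B := X.presheaf.stalk x)

end Groth.Agent.Helper2.ArtSch
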