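import Mathlib
import Groth.Prelude.Def_EGA4b
import Groth.Agent.Helper2.DepthCM2
import Groth.Agent.Helper2.TorReg
import Groth.Agent.Helper2.LocCrit

namespace Groth.Agent.Helper2.Miracle
open IsLocalRing TensorProduct RingTheory.Sequence

universe u

/-- a regular local ring has a generating list of its maximal ideal of length the dimension -/
theorem exists_list (A : Type u) [CommRing A] [IsRegularLocalRing A] :
    ∃ xs : List A, (xs.length : WithBot ℕ∞) = ringKrullDim A ∧
      Ideal.ofList xs = maximalIdeal A := by
  classical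
  obtain ⟨s, hs1, hs2⟩ := Submodule.FG.exists_span_finset_card_eq_spanFinrank
    ((isNoetherianRing_iff_ideal_fg A).1 inferInstance (maximalIdeal A))
  refine ⟨s.toList, ?_, ?_⟩
  · rw [Finset.length_toList, hs1, IsRegularLocalRing.spanFinrank_maximalIdeal]
  · rw [← hs2]
    unfold Ideal.ofList
    congr 1
    ext x
    simp

/-- miracle flatness, module version -/
theorem flat_of_cm (A B : Type u) [CommRing A] [CommRing B] [IsRegularLocalRing A]
    [IsNoetherianRing B] [IsLocalRing B] [Algebra A B] [IsLocalHom (algebraMap A B)]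
    (M : Type u) [AddCommGroup M] [Module B M] [Module A M] [IsScalarTower A B M]
    [Module.Finite B M]
    (hCM : LocCoh.IsCohenMacaulayModule B M)
    (hdim : Module.supportDim B M = ringKrullDim A + Module.supportDim B (EGA4.FibMod A B M)) :
    Module.Flat A M := by
  obtain ⟨xs, hlen, hxs⟩ := exists_list A
  set ys := xs.map (algebraMap A B) with hys
  have hmem : ∀ y ∈ ys, y ∈ maximalIdeal B := by
    intro y hy
    rw [hys, List.mem_map] at hy
    obtain ⟨x, hx, rfl⟩ := hy
    have hxm : x ∈ maximalIdeal A := by
      rw [← hxs]; exact Ideal.subset_span hx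
    exact IsLocalRing.map_maximalIdeal_le (algebraMap A B) (Ideal.mem_map_of_mem _ hxm)
  have hofl : Ideal.ofList ys = EGA4.mB A B := by
    rw [hys, ← Ideal.map_ofList, hxs]
  have hd : Module.supportDim B (M ⧸ Ideal.ofList ys • (⊤ : Submodule B M)) + ys.length =
      Module.supportDim B M := by
    rw [hdim, hofl, hys, List.length_map, hlen, add_comm]
  have hreg : IsWeaklyRegular M ys :=
    Groth.Agent.Helper2.DepthCM2.weaklyRegular_of_dim_drop ys M hCM hmem hd
  rw [hys, isWeaklyRegular_map_algebraMap_iff] at hreg
  have hinj := Groth.Agent.Helper2.TorReg.rTensor_injective_of_isWeaklyRegular xs hreg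
  apply Groth.Agent.Helper2.LocCrit.flat_of_rTensor_injective (S := B)
  rw [hxs] at hinj
  exact hinj

/-- miracle flatness -/
theorem flat_of_cm_ring {R S : Type u} [CommRing R] [CommRing S] [IsRegularLocalRing R]
    [LocCoh.IsCohenMacaulayLocalRing S] [Algebra R S] [IsLocalHom (algebraMap R S)]
    (hdim : ringKrullDim S = ringKrullDim R +
      ringKrullDim (S ⧸ (IsLocalRing.maximalIdeal R).map (algebraMap R S))) :
    Module.Flat R S := by
  apply flat_of_cm R S S LocCoh.IsCohenMacaulayLocalRing.supportDim_eq_depth
  rw [Module.supportDim_self_eq_ringKrullDim, hdim]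
  congr 1
  have heq : (EGA4.mB R S • (⊤ : Submodule S S)) = EGA4.mB R S := by simp
  rw [Module.supportDim_eq_of_equiv (Submodule.quotEquivOfEq _ _ heq),
    Module.supportDim_quotient_eq_ringKrullDim]

end Groth.Agent.Helper2.Miracle
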