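import Mathlib
import Groth.Prelude
import Groth.Agent.Helper3.HensLocal
import Groth.Agent.Helper1.HensTransfer
set_option autoImplicit false
universe u
open IsLocalRing TensorProduct

namespace Groth.Agent.Helper2.HensInt

open Groth.Agent.Helper3 Groth.Agent.Helper3.HensLocal

/-- a local ring integral over a henselian local ring is henselian -/
theorem henselianLocalRing_of_isIntegral (R : Type u) [CommRing R] [HenselianLocalRing R]
    (S : Type u) [CommRing S] [IsLocalRing S] [Algebra R S] [Algebra.IsIntegral R S] :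
    HenselianLocalRing S := by
  have h2 : HenselianRing S ((IsLocalRing.maximalIdeal R).map (algebraMap R S)) :=
    HensRows.hens_of_isIntegral R _ S
  have hle : (IsLocalRing.maximalIdeal R).map (algebraMap R S) ≤ IsLocalRing.maximalIdeal S := by
    rw [← IsLocalRing.jacobson_eq_maximalIdeal (⊥ : Ideal S) bot_ne_top]
    exact h2.jac
  have hrad : ((IsLocalRing.maximalIdeal R).map (algebraMap R S)).radical =
      IsLocalRing.maximalIdeal S := by
    apply le_antisymm
    · exact (Ideal.IsPrime.radical_le_iff (IsLocalRing.maximalIdeal.isMaximal S).isPrime).2 hle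
    · rw [Ideal.radical_eq_sInf, le_sInf_iff]
      rintro P ⟨hP, hPp⟩
      have h3 : IsLocalRing.maximalIdeal R ≤ P.comap (algebraMap R S) :=
        Ideal.map_le_iff_le_comap.1 hP
      have h4 : P.comap (algebraMap R S) = IsLocalRing.maximalIdeal R :=
        ((IsLocalRing.maximalIdeal.isMaximal R).eq_of_le
          (Ideal.comap_ne_top _ hPp.ne_top) h3).symm
      have h5 : P.IsMaximal := by
        refine Ideal.isMaximal_of_isIntegral_of_isMaximal_comap (R := R) P ?_
        rw [h4]; exact IsLocalRing.maximalIdeal.isMaximal R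
      rw [IsLocalRing.eq_maximalIdeal h5]
  have h3 : HenselianRing S (IsLocalRing.maximalIdeal S) := hrad ▸ hens_radical _
  exact henselianLocalRing_of_henselianRing S

section
open Groth.Agent.Helper1.Hens

variable (A B S : Type u) [CommRing A] [IsLocalRing A]
    [CommRing B] [IsLocalRing B] [Algebra A B] [IsLocalHom (algebraMap A B)]
    [Algebra.IsIntegral A B]
    [CommRing S] [IsLocalRing S] [Algebra A S] [IsLocalHom (algebraMap A S)]
    [Hensel.IsHenselization A S]

/-- the candidate maximal ideal -/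
def J : Ideal (B ⊗[A] S) :=
  (maximalIdeal B).map (Algebra.TensorProduct.includeLeft : B →ₐ[A] B ⊗[A] S).toRingHom ⊔
    (maximalIdeal S).map (Algebra.TensorProduct.includeRight : S →ₐ[A] B ⊗[A] S).toRingHom

theorem exists_sub_mem_J (x : B ⊗[A] S) : ∃ b : B, x - b ⊗ₜ[A] (1 : S) ∈ J A B S := by
  induction x using TensorProduct.induction_on with
  | zero => exact ⟨0, by simp⟩
  | tmul b s =>
    obtain ⟨a, ha⟩ := exists_sub_mem_of_isHenselization A S s
    refine ⟨a • b, ?_⟩
    have h1 : b ⊗ₜ[A] s - (a • b) ⊗ₜ[A] (1 : S) = (b ⊗ₜ[A] (1 : S)) * ((1 : B) ⊗ₜ[A] (s - algebraMap A S a)) := by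
      rw [Algebra.TensorProduct.tmul_mul_tmul, mul_one, one_mul, TensorProduct.tmul_sub,
        TensorProduct.smul_tmul, Algebra.smul_def, mul_one]
    rw [h1]
    apply Ideal.mul_mem_left
    apply Ideal.mem_sup_right
    exact Ideal.mem_map_of_mem _ ha
  | add x y hx hy =>
    obtain ⟨b1, h1⟩ := hx
    obtain ⟨b2, h2⟩ := hy
    refine ⟨b1 + b2, ?_⟩
    have : x + y - (b1 + b2) ⊗ₜ[A] (1 : S) = (x - b1 ⊗ₜ[A] (1 : S)) + (y - b2 ⊗ₜ[A] (1 : S)) := by
      rw [TensorProduct.add_tmul]; ring
    rw [this]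
    exact Ideal.add_mem _ h1 h2

theorem isIntegral_right :
    letI : Algebra S (B ⊗[A] S) :=
      (Algebra.TensorProduct.includeRight : S →ₐ[A] B ⊗[A] S).toRingHom.toAlgebra
    Algebra.IsIntegral S (B ⊗[A] S) := by
  letI : Algebra S (B ⊗[A] S) :=
    (Algebra.TensorProduct.includeRight : S →ₐ[A] B ⊗[A] S).toRingHom.toAlgebra
  refine ⟨fun p => ?_⟩
  induction p using TensorProduct.induction_on with
  | zero => exact isIntegral_zero
  | tmul b s =>
    have h1 : IsIntegral S (b ⊗ₜ[A] (1 : S)) := by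
      refine (Algebra.IsIntegral.isIntegral (R := A) b).map_of_comp_eq (algebraMap A S)
        (Algebra.TensorProduct.includeLeft : B →ₐ[A] B ⊗[A] S).toRingHom ?_
      ext a
      show (1 : B) ⊗ₜ[A] (algebraMap A S a) = (algebraMap A B a) ⊗ₜ[A] (1 : S)
      rw [Algebra.algebraMap_eq_smul_one, Algebra.algebraMap_eq_smul_one, TensorProduct.smul_tmul]
    have h2 : b ⊗ₜ[A] s = (b ⊗ₜ[A] (1 : S)) * algebraMap S (B ⊗[A] S) s := by
      show _ = (b ⊗ₜ[A] (1 : S)) * ((1 : B) ⊗ₜ[A] s)
      rw [Algebra.TensorProduct.tmul_mul_tmul, mul_one, one_mul]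
    rw [h2]
    exact h1.mul isIntegral_algebraMap
  | add x y hx hy => exact hx.add hy

theorem eq_J_of_isMaximal (M : Ideal (B ⊗[A] S)) (hM : M.IsMaximal) : M = J A B S := by
  letI : Algebra S (B ⊗[A] S) :=
    (Algebra.TensorProduct.includeRight : S →ₐ[A] B ⊗[A] S).toRingHom.toAlgebra
  haveI : Algebra.IsIntegral S (B ⊗[A] S) := isIntegral_right A B S
  haveI := hM
  have hS : M.comap (algebraMap S (B ⊗[A] S)) = maximalIdeal S :=
    IsLocalRing.eq_maximalIdeal (Ideal.isMaximal_comap_of_isIntegral_of_isMaximal (R := S) M)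
  have hcomapA : (M.comap (Algebra.TensorProduct.includeLeft : B →ₐ[A] B ⊗[A] S).toRingHom).comap
      (algebraMap A B) = maximalIdeal A := by
    rw [Ideal.comap_comap]
    have h1 : (Algebra.TensorProduct.includeLeft : B →ₐ[A] B ⊗[A] S).toRingHom.comp (algebraMap A B)
        = (algebraMap S (B ⊗[A] S)).comp (algebraMap A S) := by
      ext a
      show (algebraMap A B a) ⊗ₜ[A] (1 : S) = (1 : B) ⊗ₜ[A] (algebraMap A S a)
      rw [Algebra.algebraMap_eq_smul_one, Algebra.algebraMap_eq_smul_one, TensorProduct.smul_tmul]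
    rw [h1, ← Ideal.comap_comap, hS]
    exact IsLocalRing.maximalIdeal_comap (algebraMap A S)
  have hB : M.comap (Algebra.TensorProduct.includeLeft : B →ₐ[A] B ⊗[A] S).toRingHom =
      maximalIdeal B := by
    haveI : (M.comap (Algebra.TensorProduct.includeLeft : B →ₐ[A] B ⊗[A] S).toRingHom).IsPrime :=
      Ideal.comap_isPrime _ _
    apply IsLocalRing.eq_maximalIdeal
    refine Ideal.isMaximal_of_isIntegral_of_isMaximal_comap (R := A) _ ?_
    rw [hcomapA]
    exact maximalIdeal.isMaximal A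
  have hJM : J A B S ≤ M := by
    apply sup_le
    · rw [Ideal.map_le_iff_le_comap, hB]
    · rw [Ideal.map_le_iff_le_comap]
      exact hS.ge
  apply le_antisymm _ hJM
  intro x hx
  obtain ⟨b, hb⟩ := exists_sub_mem_J A B S x
  have h1 : b ⊗ₜ[A] (1 : S) ∈ M := by
    have := M.sub_mem hx (hJM hb)
    rwa [sub_sub_cancel] at this
  have h2 : b ∈ maximalIdeal B := by
    rw [← hB]
    exact h1
  have h3 : b ⊗ₜ[A] (1 : S) ∈ J A B S :=
    Ideal.mem_sup_left (Ideal.mem_map_of_mem _ h2)
  have := (J A B S).add_mem hb h3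
  rwa [sub_add_cancel] at this

theorem isLocalRing_tensor : IsLocalRing (B ⊗[A] S) := by
  haveI := faithfullyFlat_of_isHenselization A S
  haveI : Nontrivial (B ⊗[A] S) := Module.FaithfullyFlat.rTensor_nontrivial A S B
  obtain ⟨M, hM⟩ := Ideal.exists_maximal (B ⊗[A] S)
  refine IsLocalRing.of_unique_max_ideal ⟨M, hM, fun M' hM' => ?_⟩
  rw [eq_J_of_isMaximal A B S M hM, eq_J_of_isMaximal A B S M' hM']

/-- the statement S2801 -/
theorem main :
    ∃ (_ : IsLocalRing (B ⊗[A] S)) (_ : IsLocalHom (algebraMap B (B ⊗[A] S))),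
      Hensel.IsHenselization B (B ⊗[A] S) := by
  haveI hloc : IsLocalRing (B ⊗[A] S) := isLocalRing_tensor A B S
  have hJ : maximalIdeal (B ⊗[A] S) = J A B S :=
    eq_J_of_isMaximal A B S _ (maximalIdeal.isMaximal _)
  have hlh : IsLocalHom (algebraMap B (B ⊗[A] S)) := by
    refine ⟨fun b hb => ?_⟩
    by_contra hnu
    have h1 : b ∈ maximalIdeal B := (mem_maximalIdeal b).mpr hnu
    have h2 : algebraMap B (B ⊗[A] S) b ∈ maximalIdeal (B ⊗[A] S) := by
      rw [hJ]
      exact Ideal.mem_sup_left (Ideal.mem_map_of_mem _ h1)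
    exact (mem_maximalIdeal _).mp h2 hb
  refine ⟨hloc, hlh, ?_⟩
  letI : Algebra S (B ⊗[A] S) :=
    (Algebra.TensorProduct.includeRight : S →ₐ[A] B ⊗[A] S).toRingHom.toAlgebra
  haveI : Algebra.IsIntegral S (B ⊗[A] S) := isIntegral_right A B S
  haveI : HenselianLocalRing S := Hensel.IsHenselization.henselian (R := A)
  have hhens : HenselianLocalRing (B ⊗[A] S) := henselianLocalRing_of_isIntegral S _
  refine ⟨hhens, ?_⟩
  intro T _ _ f hf
  haveI : IsLocalHom (f.comp (algebraMap A B)) := RingHom.isLocalHom_comp _ _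
  obtain ⟨h, hh, huniq⟩ := Hensel.IsHenselization.universal (R := A) (S := S) T
    (f.comp (algebraMap A B)) inferInstance
  letI : Algebra A T := (f.comp (algebraMap A B)).toAlgebra
  let fa : B →ₐ[A] T := { f with commutes' := fun a => rfl }
  let ha : S →ₐ[A] T := { h with commutes' := fun a => RingHom.congr_fun hh a }
  let g : B ⊗[A] S →ₐ[A] T := Algebra.TensorProduct.lift fa ha (fun _ _ => Commute.all _ _)
  refine ⟨g.toRingHom, ?_, ?_⟩
  · ext b
    show g (b ⊗ₜ[A] (1 : S)) = f b
    simp only [g, Algebra.TensorProduct.lift_tmul, map_one, mul_one]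
    rfl
  · intro g' hg'
    have h1 : g'.comp (Algebra.TensorProduct.includeRight : S →ₐ[A] B ⊗[A] S).toRingHom = h := by
      apply huniq
      ext a
      show g' ((1 : B) ⊗ₜ[A] (algebraMap A S a)) = f (algebraMap A B a)
      rw [← hg']
      show g' ((1 : B) ⊗ₜ[A] (algebraMap A S a)) = g' ((algebraMap A B a) ⊗ₜ[A] (1 : S))
      congr 1
      rw [Algebra.algebraMap_eq_smul_one, Algebra.algebraMap_eq_smul_one, TensorProduct.smul_tmul]
    apply RingHom.ext
    intro x
    induction x using TensorProduct.induction_on with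
    | zero => simp
    | tmul b s =>
      have h2 : b ⊗ₜ[A] s = (b ⊗ₜ[A] (1 : S)) * ((1 : B) ⊗ₜ[A] s) := by
        rw [Algebra.TensorProduct.tmul_mul_tmul, mul_one, one_mul]
      rw [h2, map_mul, map_mul]
      congr 1
      · have := RingHom.congr_fun hg' b
        show g' (b ⊗ₜ[A] (1 : S)) = g (b ⊗ₜ[A] (1 : S))
        simp only [g, Algebra.TensorProduct.lift_tmul, map_one, mul_one]
        exact this
      · have := RingHom.congr_fun h1 s
        show g' ((1 : B) ⊗ₜ[A] s) = g ((1 : B) ⊗ₜ[A] s)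
        simp only [g, Algebra.TensorProduct.lift_tmul, map_one, one_mul]
        exact this
    | add x y hx hy => rw [map_add, map_add, hx, hy]

end

end Groth.Agent.Helper2.HensInt
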