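import Mathlib
import Groth.Prelude
import Groth.Agent.Helper2.HensInt
import Groth.Agent.Helper3.StrictHensFinite
import Groth.Agent.Helper6.TensorLocal
set_option autoImplicit false
universe u
open IsLocalRing TensorProduct

namespace Groth.Agent.Helper2.HensTensBij

section Abstract
variable {LB LC LD Bsh Csh Dsh P : Type u} [CommRing LB] [CommRing LC] [CommRing LD]
  [CommRing Bsh] [CommRing Csh] [CommRing Dsh] [CommRing P]
  [IsLocalRing LB] [IsLocalRing LC] [IsLocalRing LD] [IsLocalRing Bsh] [IsLocalRing Csh]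
  [IsLocalRing Dsh]
  [Algebra LB Bsh] [IsLocalHom (algebraMap LB Bsh)] [Hensel.IsStrictHenselization LB Bsh]
  [Algebra LC Csh] [IsLocalHom (algebraMap LC Csh)] [Hensel.IsStrictHenselization LC Csh]
  [Algebra LD Dsh] [IsLocalHom (algebraMap LD Dsh)] [Hensel.IsStrictHenselization LD Dsh]

theorem abstract_bijective [HenselianLocalRing P] (ιB : Bsh →+* P) [IsLocalHom ιB]
    (ιC : Csh →+* P) [IsLocalHom ιC] (Ψ : P →+* Dsh) [IsLocalHom Ψ]
    (δ : LD →+* P) [IsLocalHom δ] (hΨδ : Ψ.comp δ = algebraMap LD Dsh)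
    (bD : LB →+* LD) (hB : δ.comp bD = ιB.comp (algebraMap LB Bsh))
    (cD : LC →+* LD) (hC : δ.comp cD = ιC.comp (algebraMap LC Csh))
    (hsurj : Function.Surjective (ResidueField.map Ψ))
    (hepi : ∀ (u v : P →+* P), u.comp ιB = v.comp ιB → u.comp ιC = v.comp ιC → u = v) :
    Function.Bijective Ψ := by
  haveI hD : HenselianLocalRing Dsh := Hensel.IsStrictHenselization.henselian LD
  have hΨδx : ∀ x, Ψ (δ x) = algebraMap LD Dsh x := fun x => congrArg (fun k => k x) hΨδ
  let τeq : ResidueField P ≃+* ResidueField Dsh :=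
    RingEquiv.ofBijective (ResidueField.map Ψ) ⟨(ResidueField.map Ψ).injective, hsurj⟩
  have hτeq : ∀ x : P, τeq (residue P x) = residue Dsh (Ψ x) := fun x => rfl
  -- h : Dsh → P
  have hcompat : (τeq.symm : ResidueField Dsh →+* ResidueField P).comp
      (ResidueField.map (algebraMap LD Dsh)) = ResidueField.map δ := by
    refine RingHom.ext fun z => ?_
    obtain ⟨x, rfl⟩ := residue_surjective z
    apply τeq.injective
    show τeq (τeq.symm (residue Dsh (algebraMap LD Dsh x))) = τeq (residue P (δ x))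
    rw [τeq.apply_symm_apply, hτeq, hΨδx]
  obtain ⟨h, ⟨hh, hhres⟩, -⟩ := Hensel.IsStrictHenselization.universal (R := LD) (S := Dsh) P
    δ (τeq.symm : ResidueField Dsh →+* ResidueField P) hcompat
  have hhres' : ∀ x : Dsh, residue P (h x) = τeq.symm (residue Dsh x) := hhres
  -- Ψ ∘ h = id
  have hΨh : Ψ.comp h = RingHom.id Dsh := by
    have hc : (RingHom.id (ResidueField Dsh)).comp (ResidueField.map (algebraMap LD Dsh)) =
        ResidueField.map (algebraMap LD Dsh) := RingHom.id_comp _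
    obtain ⟨w, -, hw⟩ := Hensel.IsStrictHenselization.universal (R := LD) (S := Dsh) Dsh
      (algebraMap LD Dsh) (RingHom.id _) hc
    have e1 : (Ψ.comp h).comp (algebraMap LD Dsh) = algebraMap LD Dsh ∧
        ∀ x : Dsh, residue Dsh ((Ψ.comp h) x) = RingHom.id _ (residue Dsh x) := by
      refine ⟨?_, fun x => ?_⟩
      · rw [RingHom.comp_assoc, hh, hΨδ]
      · show residue Dsh (Ψ (h x)) = residue Dsh x
        rw [← hτeq, hhres']
        exact τeq.apply_symm_apply _
    have e2 : (RingHom.id Dsh).comp (algebraMap LD Dsh) = algebraMap LD Dsh ∧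
        ∀ x : Dsh, residue Dsh ((RingHom.id Dsh) x) = RingHom.id _ (residue Dsh x) :=
      ⟨RingHom.id_comp _, fun x => rfl⟩
    rw [hw (Ψ.comp h) e1, hw (RingHom.id Dsh) e2]
  -- h ∘ Ψ = id : generic step
  have step : ∀ {L₀ S₀ : Type u} [CommRing L₀] [CommRing S₀] [IsLocalRing L₀] [IsLocalRing S₀]
      [Algebra L₀ S₀] [IsLocalHom (algebraMap L₀ S₀)] [Hensel.IsStrictHenselization L₀ S₀]
      (ι : S₀ →+* P) [IsLocalHom ι] (b : L₀ →+* LD) (_ : δ.comp b = ι.comp (algebraMap L₀ S₀)),
      (h.comp Ψ).comp ι = (RingHom.id P).comp ι := by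
    intro L₀ S₀ _ _ _ _ _ _ _ ι _ b hb
    haveI hloc : IsLocalHom (ι.comp (algebraMap L₀ S₀)) := RingHom.isLocalHom_comp _ _
    have hc : (ResidueField.map ι).comp (ResidueField.map (algebraMap L₀ S₀)) =
        ResidueField.map (ι.comp (algebraMap L₀ S₀)) := by
      refine RingHom.ext fun z => ?_
      obtain ⟨x, rfl⟩ := residue_surjective z
      rfl
    obtain ⟨w, -, hw⟩ := Hensel.IsStrictHenselization.universal (R := L₀) (S := S₀) P
      (ι.comp (algebraMap L₀ S₀)) (ResidueField.map ι) hc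
    have e1 : ((h.comp Ψ).comp ι).comp (algebraMap L₀ S₀) = ι.comp (algebraMap L₀ S₀) ∧
        ∀ x : S₀, residue P (((h.comp Ψ).comp ι) x) = ResidueField.map ι (residue S₀ x) := by
      refine ⟨?_, fun x => ?_⟩
      · have hδ : (h.comp Ψ).comp δ = δ := by rw [RingHom.comp_assoc, hΨδ, hh]
        rw [RingHom.comp_assoc, ← hb, ← RingHom.comp_assoc, hδ]
      · show residue P (h (Ψ (ι x))) = residue P (ι x)
        rw [hhres', ← hτeq]
        exact τeq.symm_apply_apply _
    have e2 : ((RingHom.id P).comp ι).comp (algebraMap L₀ S₀) = ι.comp (algebraMap L₀ S₀) ∧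
        ∀ x : S₀, residue P (((RingHom.id P).comp ι) x) = ResidueField.map ι (residue S₀ x) :=
      ⟨by rw [RingHom.id_comp], fun x => rfl⟩
    rw [hw ((h.comp Ψ).comp ι) e1, hw ((RingHom.id P).comp ι) e2]
  have hhΨ : h.comp Ψ = RingHom.id P :=
    hepi _ _ (step ιB bD hB) (step ιC cD hC)
  refine ⟨?_, ?_⟩
  · intro x y hxy
    have := congrArg h hxy
    have hx : h (Ψ x) = x := congrArg (fun k => k x) hhΨ
    have hy : h (Ψ y) = y := congrArg (fun k => k y) hhΨ
    rw [hx, hy] at this
    exact this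
  · intro y
    exact ⟨h y, congrArg (fun k => k y) hΨh⟩

end Abstract

section IntegralRight

/-- base change of an integral algebra, seen over the right factor -/
theorem isIntegral_right' (R X Y : Type u) [CommRing R] [CommRing X] [CommRing Y] [Algebra R X]
    [Algebra R Y] [Algebra.IsIntegral R X] :
    letI : Algebra Y (X ⊗[R] Y) :=
      (Algebra.TensorProduct.includeRight : Y →ₐ[R] X ⊗[R] Y).toRingHom.toAlgebra
    Algebra.IsIntegral Y (X ⊗[R] Y) := by
  letI : Algebra Y (X ⊗[R] Y) :=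
    (Algebra.TensorProduct.includeRight : Y →ₐ[R] X ⊗[R] Y).toRingHom.toAlgebra
  refine ⟨fun z => ?_⟩
  induction z using TensorProduct.induction_on with
  | zero => exact isIntegral_zero
  | tmul b s =>
    have h1 : IsIntegral Y (b ⊗ₜ[R] (1 : Y)) := by
      refine (Algebra.IsIntegral.isIntegral (R := R) b).map_of_comp_eq (algebraMap R Y)
        (Algebra.TensorProduct.includeLeft : X →ₐ[R] X ⊗[R] Y).toRingHom ?_
      ext a
      show (1 : X) ⊗ₜ[R] (algebraMap R Y a) = (algebraMap R X a) ⊗ₜ[R] (1 : Y)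
      rw [Algebra.algebraMap_eq_smul_one, Algebra.algebraMap_eq_smul_one, TensorProduct.smul_tmul]
    have h2 : b ⊗ₜ[R] s = (b ⊗ₜ[R] (1 : Y)) * algebraMap Y (X ⊗[R] Y) s := by
      show _ = (b ⊗ₜ[R] (1 : Y)) * ((1 : X) ⊗ₜ[R] s)
      rw [Algebra.TensorProduct.tmul_mul_tmul, mul_one, one_mul]
    rw [h2]
    exact h1.mul isIntegral_algebraMap
  | add x y hx hy => exact hx.add hy

end IntegralRight

section Concrete

variable (A B C : Type u) [CommRing A] [CommRing B]
    [CommRing C] [Algebra A B] [Algebra A C]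
    (pA : Ideal A) [pA.IsPrime] (pB : Ideal B) [pB.IsPrime] [pB.LiesOver pA]
    (pC : Ideal C) [pC.IsPrime] [pC.LiesOver pA]
    (pD : Ideal (B ⊗[A] C)) [pD.IsPrime] [pD.LiesOver pB]
    (hDC : pD.comap (Algebra.TensorProduct.includeRight : C →ₐ[A] B ⊗[A] C).toRingHom = pC)
    (Ash : Type u) [CommRing Ash] [IsLocalRing Ash] [Algebra (Localization.AtPrime pA) Ash]
    [IsLocalHom (algebraMap (Localization.AtPrime pA) Ash)]
    [Hensel.IsStrictHenselization (Localization.AtPrime pA) Ash] [Algebra A Ash]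
    [IsScalarTower A (Localization.AtPrime pA) Ash]
    (Bsh : Type u) [CommRing Bsh] [IsLocalRing Bsh] [Algebra (Localization.AtPrime pB) Bsh]
    [IsLocalHom (algebraMap (Localization.AtPrime pB) Bsh)]
    [Hensel.IsStrictHenselization (Localization.AtPrime pB) Bsh] [Algebra B Bsh]
    [IsScalarTower B (Localization.AtPrime pB) Bsh] [Algebra A Bsh] [IsScalarTower A B Bsh]
    [Algebra Ash Bsh] [IsScalarTower A Ash Bsh] [IsLocalHom (algebraMap Ash Bsh)]
    (Csh : Type u) [CommRing Csh] [IsLocalRing Csh] [Algebra (Localization.AtPrime pC) Csh]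
    [IsLocalHom (algebraMap (Localization.AtPrime pC) Csh)]
    [Hensel.IsStrictHenselization (Localization.AtPrime pC) Csh] [Algebra C Csh]
    [IsScalarTower C (Localization.AtPrime pC) Csh] [Algebra A Csh] [IsScalarTower A C Csh]
    [Algebra Ash Csh] [IsScalarTower A Ash Csh] [IsLocalHom (algebraMap Ash Csh)]
    (Dsh : Type u) [CommRing Dsh] [IsLocalRing Dsh] [Algebra (Localization.AtPrime pD) Dsh]
    [IsLocalHom (algebraMap (Localization.AtPrime pD) Dsh)]
    [Hensel.IsStrictHenselization (Localization.AtPrime pD) Dsh] [Algebra (B ⊗[A] C) Dsh]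
    [IsScalarTower (B ⊗[A] C) (Localization.AtPrime pD) Dsh]
    [Algebra Bsh Dsh] [IsLocalHom (algebraMap Bsh Dsh)] [Algebra B Dsh] [IsScalarTower B Bsh Dsh]
    [IsScalarTower B (B ⊗[A] C) Dsh]
    [Algebra Csh Dsh] [IsLocalHom (algebraMap Csh Dsh)]
    (hC : ∀ c : C, algebraMap Csh Dsh (algebraMap C Csh c) = algebraMap (B ⊗[A] C) Dsh (1 ⊗ₜ[A] c))
    [Algebra Ash Dsh] [IsScalarTower Ash Bsh Dsh] [IsScalarTower Ash Csh Dsh]

include pA pB pC pD hDC hC in
/-- the comparison map is bijective as soon as `Bsh` is integral over `Ash`. -/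
theorem general [Algebra.IsIntegral Ash Bsh] :
    Function.Bijective (Algebra.TensorProduct.lift (IsScalarTower.toAlgHom Ash Bsh Dsh)
      (IsScalarTower.toAlgHom Ash Csh Dsh) (fun _ _ => Commute.all _ _)) := by
  haveI hAsh : HenselianLocalRing Ash :=
    Hensel.IsStrictHenselization.henselian (Localization.AtPrime pA)
  haveI hCshH : HenselianLocalRing Csh :=
    Hensel.IsStrictHenselization.henselian (Localization.AtPrime pC)
  haveI : IsSepClosed (ResidueField Ash) :=
    (Hensel.IsStrictHenselization.isSepClosure (R := Localization.AtPrime pA) (S := Ash)).sep_closed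
  haveI : IsSepClosed (ResidueField Csh) :=
    (Hensel.IsStrictHenselization.isSepClosure (R := Localization.AtPrime pC) (S := Csh)).sep_closed
  haveI : Algebra.IsSeparable (ResidueField (Localization.AtPrime pD)) (ResidueField Dsh) :=
    (Hensel.IsStrictHenselization.isSepClosure (R := Localization.AtPrime pD) (S := Dsh)).separable
  -- residue field of Bsh is purely inseparable over that of Ash
  haveI : Algebra.IsIntegral (ResidueField Ash) (ResidueField Bsh) := by
    refine ⟨fun z => ?_⟩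
    obtain ⟨x, rfl⟩ := residue_surjective z
    refine (Algebra.IsIntegral.isIntegral (R := Ash) x).map_of_comp_eq (residue Ash)
      (residue Bsh) ?_
    ext a
    rfl
  haveI : Algebra.IsAlgebraic (ResidueField Ash) (ResidueField Bsh) := inferInstance
  haveI : IsPurelyInseparable (ResidueField Ash) (ResidueField Bsh) := by
    have hbot : separableClosure (ResidueField Ash) (ResidueField Bsh) = ⊥ :=
      IntermediateField.eq_bot_of_isSepClosed_of_isSeparable _
    exact (separableClosure.eq_bot_iff).mp hbot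
  obtain ⟨hPloc, hinclR, -⟩ := Groth.Agent.Helper6.TensorLocal.main Ash Bsh Csh
  haveI := hPloc
  letI algCP : Algebra Csh (Bsh ⊗[Ash] Csh) :=
    (Algebra.TensorProduct.includeRight : Csh →ₐ[Ash] Bsh ⊗[Ash] Csh).toRingHom.toAlgebra
  haveI : Algebra.IsIntegral Csh (Bsh ⊗[Ash] Csh) := isIntegral_right' Ash Bsh Csh
  haveI hPh : HenselianLocalRing (Bsh ⊗[Ash] Csh) :=
    Groth.Agent.Helper2.HensInt.henselianLocalRing_of_isIntegral Csh _
  let Ψ₀ : Bsh ⊗[Ash] Csh →ₐ[Ash] Dsh :=
    Algebra.TensorProduct.lift (IsScalarTower.toAlgHom Ash Bsh Dsh)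
      (IsScalarTower.toAlgHom Ash Csh Dsh) (fun _ _ => Commute.all _ _)
  let Ψ : Bsh ⊗[Ash] Csh →+* Dsh := Ψ₀.toRingHom
  have hΨl : ∀ x : Bsh, Ψ (x ⊗ₜ 1) = algebraMap Bsh Dsh x := fun x => by simp [Ψ, Ψ₀]
  have hΨr : ∀ y : Csh, Ψ (1 ⊗ₜ y) = algebraMap Csh Dsh y := fun y => by simp [Ψ, Ψ₀]
  let ιB : Bsh →+* Bsh ⊗[Ash] Csh :=
    (Algebra.TensorProduct.includeLeft : Bsh →ₐ[Ash] Bsh ⊗[Ash] Csh).toRingHom
  let ιC : Csh →+* Bsh ⊗[Ash] Csh := algebraMap Csh (Bsh ⊗[Ash] Csh)
  have hιB : ∀ x, ιB x = x ⊗ₜ 1 := fun x => rfl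
  have hιC : ∀ y, ιC y = 1 ⊗ₜ y := fun y => rfl
  -- Ψ is local
  haveI hΨloc : IsLocalHom Ψ := by
    have hmax : (Ideal.comap Ψ (maximalIdeal Dsh)).IsMaximal := by
      refine Ideal.isMaximal_of_isIntegral_of_isMaximal_comap (R := Csh) _ ?_
      have : (Ideal.comap Ψ (maximalIdeal Dsh)).comap (algebraMap Csh (Bsh ⊗[Ash] Csh)) =
          maximalIdeal Csh := by
        ext y
        show Ψ (1 ⊗ₜ y) ∈ maximalIdeal Dsh ↔ _
        rw [hΨr]
        constructor
        · intro h hy
          exact h (hy.map _)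
        · intro h hy
          exact h (isUnit_of_map_unit (algebraMap Csh Dsh) y hy)
      rw [this]
      exact maximalIdeal.isMaximal Csh
    have h2 : Ideal.comap Ψ (maximalIdeal Dsh) = maximalIdeal (Bsh ⊗[Ash] Csh) :=
      IsLocalRing.eq_maximalIdeal hmax
    have h3 := (local_hom_TFAE Ψ).out 0 4
    exact h3.mpr h2
  haveI hιBloc : IsLocalHom ιB := by
    constructor
    intro x hx
    have h1 : IsUnit (Ψ (ιB x)) := hx.map Ψ
    rw [hιB, hΨl] at h1
    exact isUnit_of_map_unit (algebraMap Bsh Dsh) x h1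
  haveI hιCloc : IsLocalHom ιC := by
    constructor
    intro x hx
    have h1 : IsUnit (Ψ (ιC x)) := hx.map Ψ
    rw [hιC, hΨr] at h1
    exact isUnit_of_map_unit (algebraMap Csh Dsh) x h1
  -- the map D → P
  let β₀ : B →ₐ[A] Bsh ⊗[Ash] Csh :=
    { ιB.comp (algebraMap B Bsh) with
      commutes' := fun a => by
        show (algebraMap B Bsh (algebraMap A B a)) ⊗ₜ[Ash] (1 : Csh) = (algebraMap A Bsh a) ⊗ₜ 1
        rw [← IsScalarTower.algebraMap_apply A B Bsh] }
  let γ₀ : C →ₐ[A] Bsh ⊗[Ash] Csh :=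
    { ιC.comp (algebraMap C Csh) with
      commutes' := fun a => by
        show (1 : Bsh) ⊗ₜ[Ash] (algebraMap C Csh (algebraMap A C a)) = (algebraMap A Bsh a) ⊗ₜ 1
        rw [← IsScalarTower.algebraMap_apply A C Csh, IsScalarTower.algebraMap_apply A Ash Csh,
          IsScalarTower.algebraMap_apply A Ash Bsh, Algebra.algebraMap_eq_smul_one,
          Algebra.algebraMap_eq_smul_one (R := Ash) (A := Bsh), TensorProduct.smul_tmul] }
  let d₀ : B ⊗[A] C →ₐ[A] Bsh ⊗[Ash] Csh :=
    Algebra.TensorProduct.lift β₀ γ₀ (fun _ _ => Commute.all _ _)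
  have hd₀l : ∀ b : B, d₀ (b ⊗ₜ 1) = (algebraMap B Bsh b) ⊗ₜ 1 := fun b => by
    simp [d₀, β₀, ιB]
  have hd₀r : ∀ c : C, d₀ (1 ⊗ₜ c) = 1 ⊗ₜ (algebraMap C Csh c) := fun c => by
    simp [d₀, γ₀, ιC, hιC]
  have hΨd₀ : ∀ d : B ⊗[A] C, Ψ (d₀ d) = algebraMap (B ⊗[A] C) Dsh d := by
    intro d
    induction d using TensorProduct.induction_on with
    | zero => simp
    | tmul b c =>
      have hbc : b ⊗ₜ[A] c = (b ⊗ₜ[A] (1 : C)) * ((1 : B) ⊗ₜ[A] c) := by
        rw [Algebra.TensorProduct.tmul_mul_tmul, mul_one, one_mul]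
      rw [hbc, map_mul, map_mul, map_mul, hd₀l, hd₀r, hΨl, hΨr, hC,
        ← IsScalarTower.algebraMap_apply B Bsh Dsh,
        IsScalarTower.algebraMap_apply B (B ⊗[A] C) Dsh]
      rfl
    | add x y hx hy => rw [map_add, map_add, map_add, hx, hy]
  -- pD is the preimage of the maximal ideal
  have hmemD : ∀ d : B ⊗[A] C, algebraMap (B ⊗[A] C) Dsh d ∈ maximalIdeal Dsh ↔ d ∈ pD := by
    intro d
    rw [IsScalarTower.algebraMap_apply (B ⊗[A] C) (Localization.AtPrime pD) Dsh]
    constructor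
    · intro hy
      by_contra hd
      have h1 : IsUnit (algebraMap (B ⊗[A] C) (Localization.AtPrime pD) d) :=
        IsLocalization.map_units _ (⟨d, hd⟩ : pD.primeCompl)
      exact hy (h1.map _)
    · intro hd
      have h1 : algebraMap (B ⊗[A] C) (Localization.AtPrime pD) d ∈
          maximalIdeal (Localization.AtPrime pD) :=
        (IsLocalization.AtPrime.to_map_mem_maximal_iff (Localization.AtPrime pD) pD d).mpr hd
      intro hu
      exact h1 (isUnit_of_map_unit (algebraMap (Localization.AtPrime pD) Dsh) _ hu)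
  have hunits : ∀ y : pD.primeCompl, IsUnit (d₀.toRingHom y) := by
    intro y
    have hy : (y : B ⊗[A] C) ∉ pD := y.2
    rw [← hmemD, ← hΨd₀] at hy
    have h1 : IsUnit (Ψ (d₀ y)) := by
      by_contra hnu
      exact hy hnu
    exact isUnit_of_map_unit Ψ _ h1
  let δ : Localization.AtPrime pD →+* Bsh ⊗[Ash] Csh :=
    IsLocalization.lift (M := pD.primeCompl) hunits
  have hδeq : ∀ d, δ (algebraMap (B ⊗[A] C) (Localization.AtPrime pD) d) = d₀ d := fun d =>
    IsLocalization.lift_eq hunits d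
  have hΨδ : Ψ.comp δ = algebraMap (Localization.AtPrime pD) Dsh := by
    apply IsLocalization.ringHom_ext pD.primeCompl
    refine RingHom.ext fun d => ?_
    simp only [RingHom.comp_apply]
    rw [hδeq, hΨd₀, ← IsScalarTower.algebraMap_apply (B ⊗[A] C) (Localization.AtPrime pD) Dsh]
  haveI hδloc : IsLocalHom δ := by
    constructor
    intro x hx
    have h1 : IsUnit (Ψ (δ x)) := hx.map Ψ
    have h2 : Ψ (δ x) = algebraMap (Localization.AtPrime pD) Dsh x :=
      congrArg (fun k => k x) hΨδ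
    rw [h2] at h1
    exact isUnit_of_map_unit (algebraMap (Localization.AtPrime pD) Dsh) x h1
  -- the maps from the local rings of B and C
  let bD : Localization.AtPrime pB →+* Localization.AtPrime pD :=
    Localization.localRingHom pB pD (algebraMap B (B ⊗[A] C)) Ideal.LiesOver.over
  let cD : Localization.AtPrime pC →+* Localization.AtPrime pD :=
    Localization.localRingHom pC pD
      (Algebra.TensorProduct.includeRight : C →ₐ[A] B ⊗[A] C).toRingHom hDC.symm
  have hB' : δ.comp bD = ιB.comp (algebraMap (Localization.AtPrime pB) Bsh) := by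
    apply IsLocalization.ringHom_ext pB.primeCompl
    refine RingHom.ext fun b => ?_
    simp only [RingHom.comp_apply]
    have h1 : bD (algebraMap B (Localization.AtPrime pB) b) =
        algebraMap (B ⊗[A] C) (Localization.AtPrime pD) (algebraMap B (B ⊗[A] C) b) :=
      Localization.localRingHom_to_map _ _ _ _ _
    rw [h1, hδeq, ← IsScalarTower.algebraMap_apply B (Localization.AtPrime pB) Bsh, hιB]
    exact hd₀l b
  have hC' : δ.comp cD = ιC.comp (algebraMap (Localization.AtPrime pC) Csh) := by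
    apply IsLocalization.ringHom_ext pC.primeCompl
    refine RingHom.ext fun c => ?_
    simp only [RingHom.comp_apply]
    have h1 : cD (algebraMap C (Localization.AtPrime pC) c) =
        algebraMap (B ⊗[A] C) (Localization.AtPrime pD) ((1 : B) ⊗ₜ[A] c) :=
      Localization.localRingHom_to_map _ _ _ _ _
    rw [h1, hδeq, ← IsScalarTower.algebraMap_apply C (Localization.AtPrime pC) Csh, hιC]
    exact hd₀r c
  -- residue fields
  have hsurj : Function.Surjective (ResidueField.map Ψ) := by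
    haveI : Algebra.IsIntegral (ResidueField Csh) (ResidueField (Bsh ⊗[Ash] Csh)) := by
      haveI : IsLocalHom (algebraMap Csh (Bsh ⊗[Ash] Csh)) := hιCloc
      refine ⟨fun z => ?_⟩
      obtain ⟨x, rfl⟩ := residue_surjective z
      refine (Algebra.IsIntegral.isIntegral (R := Csh) x).map_of_comp_eq (residue Csh)
        (residue (Bsh ⊗[Ash] Csh)) ?_
      ext a
      rfl
    haveI : IsLocalHom (algebraMap Csh (Bsh ⊗[Ash] Csh)) := hιCloc
    haveI : Algebra.IsAlgebraic (ResidueField Csh) (ResidueField (Bsh ⊗[Ash] Csh)) := inferInstance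
    haveI : IsSepClosed (ResidueField (Bsh ⊗[Ash] Csh)) :=
      Groth.Agent.Helper3.StrictHensFinite.isSepClosed_of_isAlgebraic (ResidueField Csh) _
    letI : Algebra (ResidueField (Bsh ⊗[Ash] Csh)) (ResidueField Dsh) :=
      (ResidueField.map Ψ).toAlgebra
    letI : Algebra (ResidueField (Localization.AtPrime pD)) (ResidueField (Bsh ⊗[Ash] Csh)) :=
      (ResidueField.map δ).toAlgebra
    haveI : IsScalarTower (ResidueField (Localization.AtPrime pD))
        (ResidueField (Bsh ⊗[Ash] Csh)) (ResidueField Dsh) := by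
      refine IsScalarTower.of_algebraMap_eq fun z => ?_
      obtain ⟨x, rfl⟩ := residue_surjective z
      show residue Dsh (algebraMap (Localization.AtPrime pD) Dsh x) = residue Dsh (Ψ (δ x))
      have h2 : Ψ (δ x) = algebraMap (Localization.AtPrime pD) Dsh x :=
        congrArg (fun k => k x) hΨδ
      rw [h2]
    haveI : Algebra.IsSeparable (ResidueField (Bsh ⊗[Ash] Csh)) (ResidueField Dsh) :=
      Algebra.isSeparable_tower_top_of_isSeparable (ResidueField (Localization.AtPrime pD)) _ _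
    exact IsSepClosed.algebraMap_surjective (ResidueField (Bsh ⊗[Ash] Csh)) (ResidueField Dsh)
  -- epi
  have hepi : ∀ (u v : Bsh ⊗[Ash] Csh →+* Bsh ⊗[Ash] Csh),
      u.comp ιB = v.comp ιB → u.comp ιC = v.comp ιC → u = v := by
    intro u v h1 h2
    refine RingHom.ext fun d => ?_
    induction d using TensorProduct.induction_on with
    | zero => simp
    | tmul x y =>
      have hxy : x ⊗ₜ[Ash] y = (x ⊗ₜ[Ash] (1 : Csh)) * ((1 : Bsh) ⊗ₜ[Ash] y) := by
        rw [Algebra.TensorProduct.tmul_mul_tmul, mul_one, one_mul]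
      rw [hxy, map_mul, map_mul]
      have e1 : u (x ⊗ₜ 1) = v (x ⊗ₜ 1) := congrArg (fun k => k x) h1
      have e2 : u (1 ⊗ₜ y) = v (1 ⊗ₜ y) := congrArg (fun k => k y) h2
      rw [e1, e2]
    | add d₁ d₂ hd₁ hd₂ => rw [map_add, map_add, hd₁, hd₂]
  exact abstract_bijective (LB := Localization.AtPrime pB) (LC := Localization.AtPrime pC)
    (LD := Localization.AtPrime pD) (Bsh := Bsh) (Csh := Csh) (Dsh := Dsh)
    (P := Bsh ⊗[Ash] Csh) ιB ιC Ψ δ hΨδ bD hB' cD hC' hsurj hepi

end Concrete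

end Groth.Agent.Helper2.HensTensBij
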