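import Mathlib
import Groth.Prelude
import Groth.Agent.Helper2.HensInt
import Groth.Agent.Helper3.StrictHensFinite
import Groth.Agent.Helper6.TensorLocal
import Groth.Agent.Helper2.HensTensBij
set_option autoImplicit false
universe u
open IsLocalRing TensorProduct

namespace Groth.Agent.Helper2.HensIntS

variable (A B S : Type u) [CommRing A] [IsLocalRing A]
    [CommRing B] [IsLocalRing B] [Algebra A B] [IsLocalHom (algebraMap A B)]
    [Algebra.IsIntegral A B] [IsPurelyInseparable (ResidueField A) (ResidueField B)]
    [CommRing S] [IsLocalRing S] [Algebra A S] [IsLocalHom (algebraMap A S)]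
    [Hensel.IsStrictHenselization A S]

attribute [local instance] Algebra.TensorProduct.rightAlgebra

theorem isLocalRing_tensor : IsLocalRing (B ⊗[A] S) :=
  (Groth.Agent.Helper6.TensorLocal.main A B S).1

theorem isLocalHom_left :
    letI := isLocalRing_tensor A B S
    IsLocalHom (algebraMap B (B ⊗[A] S)) := by
  letI := isLocalRing_tensor A B S
  refine ⟨fun b hb => ?_⟩
  by_contra hnu
  have h1 : b ∈ maximalIdeal B := hnu
  rw [← Groth.Agent.Helper6.TensorLocal.comap_includeLeft A B S (maximalIdeal (B ⊗[A] S))] at h1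
  exact h1 hb

theorem isLocalHom_right :
    letI := isLocalRing_tensor A B S
    IsLocalHom (algebraMap S (B ⊗[A] S)) := by
  letI := isLocalRing_tensor A B S
  exact (Groth.Agent.Helper6.TensorLocal.main A B S).2.1

theorem isSepClosure_tensor :
    letI := isLocalRing_tensor A B S
    letI := isLocalHom_left A B S
    IsSepClosure (ResidueField B) (ResidueField (B ⊗[A] S)) := by
  letI hloc := isLocalRing_tensor A B S
  letI hL := isLocalHom_left A B S
  letI hR := isLocalHom_right A B S
  haveI : IsLocalHom (algebraMap A (B ⊗[A] S)) := by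
    rw [IsScalarTower.algebraMap_eq A B (B ⊗[A] S)]
    exact RingHom.isLocalHom_comp _ _
  haveI : IsSepClosed (ResidueField S) :=
    (Hensel.IsStrictHenselization.isSepClosure (R := A) (S := S)).sep_closed
  haveI : Algebra.IsSeparable (ResidueField A) (ResidueField S) :=
    (Hensel.IsStrictHenselization.isSepClosure (R := A) (S := S)).separable
  haveI : Algebra.IsIntegral S (B ⊗[A] S) :=
    Groth.Agent.Helper2.HensTensBij.isIntegral_right' A B S
  haveI : Algebra.IsIntegral (ResidueField S) (ResidueField (B ⊗[A] S)) := by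
    refine ⟨fun z => ?_⟩
    obtain ⟨x, rfl⟩ := residue_surjective z
    refine (Algebra.IsIntegral.isIntegral (R := S) x).map_of_comp_eq (residue S)
      (residue (B ⊗[A] S)) ?_
    ext a
    rfl
  haveI : Algebra.IsAlgebraic (ResidueField S) (ResidueField (B ⊗[A] S)) := inferInstance
  refine ⟨Groth.Agent.Helper3.StrictHensFinite.isSepClosed_of_isAlgebraic (ResidueField S) _, ?_⟩
  rw [← separableClosure.eq_top_iff, eq_top_iff]
  intro z _
  obtain ⟨x, rfl⟩ := residue_surjective z
  clear * -
  induction x using TensorProduct.induction_on with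
  | zero => rw [map_zero]; exact zero_mem _
  | tmul b s =>
    have h2 : b ⊗ₜ[A] s = (b ⊗ₜ[A] (1 : S)) * ((1 : B) ⊗ₜ[A] s) := by
      rw [Algebra.TensorProduct.tmul_mul_tmul, mul_one, one_mul]
    rw [h2, map_mul]
    refine mul_mem ?_ ?_
    · have : residue (B ⊗[A] S) (b ⊗ₜ[A] (1 : S)) =
          algebraMap (ResidueField B) (ResidueField (B ⊗[A] S)) (residue B b) := rfl
      rw [this]
      exact IntermediateField.algebraMap_mem _ _
    · have h3 : residue (B ⊗[A] S) ((1 : B) ⊗ₜ[A] s) =
          IsScalarTower.toAlgHom (ResidueField A) (ResidueField S) (ResidueField (B ⊗[A] S))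
            (residue S s) := rfl
      rw [h3, mem_separableClosure_iff]
      have h4 : IsSeparable (ResidueField A)
          (IsScalarTower.toAlgHom (ResidueField A) (ResidueField S) (ResidueField (B ⊗[A] S))
            (residue S s)) := by
        rw [← mem_separableClosure_iff, map_mem_separableClosure_iff, mem_separableClosure_iff]
        exact Algebra.IsSeparable.isSeparable _ _
      exact h4.tower_top (ResidueField B)
  | add x y hx hy => rw [map_add]; exact add_mem hx hy

/-- base change of a strict henselization along an integral local homomorphism with purely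
inseparable residue field extension is a strict henselization. -/
theorem main :
    ∃ (_ : IsLocalRing (B ⊗[A] S)) (_ : IsLocalHom (algebraMap B (B ⊗[A] S))),
      Hensel.IsStrictHenselization B (B ⊗[A] S) := by
  letI hloc := isLocalRing_tensor A B S
  letI hL := isLocalHom_left A B S
  letI hR := isLocalHom_right A B S
  refine ⟨hloc, hL, ?_⟩
  haveI : Algebra.IsIntegral S (B ⊗[A] S) :=
    Groth.Agent.Helper2.HensTensBij.isIntegral_right' A B S
  haveI : HenselianLocalRing S := Hensel.IsStrictHenselization.henselian (R := A)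
  have hhens : HenselianLocalRing (B ⊗[A] S) :=
    Groth.Agent.Helper2.HensInt.henselianLocalRing_of_isIntegral S _
  refine ⟨hhens, isSepClosure_tensor A B S, ?_⟩
  intro T _ _ f hf τ hτ
  haveI : IsLocalHom (f.comp (algebraMap A B)) := RingHom.isLocalHom_comp _ _
  have hτ' : ∀ b : B, τ (residue (B ⊗[A] S) (b ⊗ₜ[A] (1 : S))) = residue T (f b) := by
    intro b
    exact RingHom.congr_fun hτ (residue B b)
  let τS : ResidueField S →+* ResidueField T :=
    τ.comp (ResidueField.map (algebraMap S (B ⊗[A] S)))
  have hτS : τS.comp (ResidueField.map (algebraMap A S)) =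
      ResidueField.map (f.comp (algebraMap A B)) := by
    ext z
    obtain ⟨a, rfl⟩ := residue_surjective z
    show τ (residue (B ⊗[A] S) ((1 : B) ⊗ₜ[A] (algebraMap A S a))) = residue T (f (algebraMap A B a))
    rw [← hτ']
    congr 2
    rw [Algebra.algebraMap_eq_smul_one, Algebra.algebraMap_eq_smul_one, TensorProduct.smul_tmul]
  obtain ⟨h, ⟨hh, hhres⟩, huniq⟩ := Hensel.IsStrictHenselization.universal (R := A) (S := S) T
    (f.comp (algebraMap A B)) τS hτS
  letI : Algebra A T := (f.comp (algebraMap A B)).toAlgebra
  let fa : B →ₐ[A] T := { f with commutes' := fun a => rfl }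
  let ha : S →ₐ[A] T := { h with commutes' := fun a => RingHom.congr_fun hh a }
  let g : B ⊗[A] S →ₐ[A] T := Algebra.TensorProduct.lift fa ha (fun _ _ => Commute.all _ _)
  have hgl : ∀ b : B, g (b ⊗ₜ[A] (1 : S)) = f b := by
    intro b
    simp only [g, Algebra.TensorProduct.lift_tmul, map_one, mul_one]
    rfl
  have hgr : ∀ s : S, g ((1 : B) ⊗ₜ[A] s) = h s := by
    intro s
    simp only [g, Algebra.TensorProduct.lift_tmul, map_one, one_mul]
    rfl
  refine ⟨g.toRingHom, ⟨?_, ?_⟩, ?_⟩
  · ext b
    exact hgl b
  · intro x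
    show residue T (g x) = τ (residue (B ⊗[A] S) x)
    induction x using TensorProduct.induction_on with
    | zero => simp
    | tmul b s =>
      have h2 : b ⊗ₜ[A] s = (b ⊗ₜ[A] (1 : S)) * ((1 : B) ⊗ₜ[A] s) := by
        rw [Algebra.TensorProduct.tmul_mul_tmul, mul_one, one_mul]
      rw [h2, map_mul, map_mul, map_mul, map_mul, hgl, hgr, hτ', hhres]
      rfl
    | add x y hx hy => rw [map_add, map_add, map_add, map_add, hx, hy]
  · rintro g' ⟨hg', hg'res⟩
    have h1 : g'.comp (algebraMap S (B ⊗[A] S)) = h := by
      apply huniq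
      refine ⟨?_, ?_⟩
      · ext a
        show g' ((1 : B) ⊗ₜ[A] (algebraMap A S a)) = f (algebraMap A B a)
        rw [← hg']
        show g' ((1 : B) ⊗ₜ[A] (algebraMap A S a)) = g' ((algebraMap A B a) ⊗ₜ[A] (1 : S))
        congr 1
        rw [Algebra.algebraMap_eq_smul_one, Algebra.algebraMap_eq_smul_one, TensorProduct.smul_tmul]
      · intro s
        exact hg'res _
    apply RingHom.ext
    intro x
    induction x using TensorProduct.induction_on with
    | zero => simp
    | tmul b s =>
      have h2 : b ⊗ₜ[A] s = (b ⊗ₜ[A] (1 : S)) * ((1 : B) ⊗ₜ[A] s) := by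
        rw [Algebra.TensorProduct.tmul_mul_tmul, mul_one, one_mul]
      rw [h2, map_mul, map_mul]
      congr 1
      · have := RingHom.congr_fun hg' b
        show g' (b ⊗ₜ[A] (1 : S)) = g (b ⊗ₜ[A] (1 : S))
        rw [hgl]
        exact this
      · have := RingHom.congr_fun h1 s
        show g' ((1 : B) ⊗ₜ[A] s) = g ((1 : B) ⊗ₜ[A] s)
        rw [hgr]
        exact this
    | add x y hx hy => rw [map_add, map_add, hx, hy]

end Groth.Agent.Helper2.HensIntS
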