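import Mathlib
import Groth.Prelude.Def_Found
import Groth.Prelude.Def_EGA4b
import Groth.Agent.Helper1.HensRed
import Groth.Agent.Helper1.HensTransfer
import Groth.Agent.Helper4.NormalLocal
import Groth.Agent.Helper5.SmNorm5
set_option autoImplicit false
set_option linter.dupNamespace false
universe u
open IsLocalRing TensorProduct Polynomial

namespace Groth.Agent.Helper2.HensNor

open Groth.Agent.Helper1.Hens Groth.Agent.Helper4.NormalLocal

variable {R : Type u} [CommRing R] {Ω : Type u} [Field Ω] [Algebra R Ω]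

theorem isUnit_ι_of_notMem {D : Type u} [CommRing D] [Algebra R D] [Algebra.Etale R D]
    (δ : D →ₐ[R] Ω) (u : D) (hu : u ∉ RingHom.ker δ.toRingHom) : IsUnit (Hens.ι δ u) := by
  rw [Hens.isUnit_iff, Hens.γ_ι]
  exact hu

theorem isDomain_hens (hR : EGA4.IsNormalRing R) : IsDomain (Hens R Ω) := by
  classical
  haveI : NoZeroDivisors (Hens R Ω) := by
    refine ⟨fun {x y} hxy => ?_⟩
    obtain ⟨C, _, _, _, γ, hC⟩ := Hens.exists_ι_eq_finset ({x, y} : Finset (Hens R Ω))
    obtain ⟨c, rfl⟩ := hC x (by simp)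
    obtain ⟨c', rfl⟩ := hC y (by simp)
    rw [← map_mul] at hxy
    obtain ⟨D, _, _, _, δ, φ, hφ, h0⟩ := Hens.exists_of_ι_eq_zero γ (c * c') hxy
    haveI : (RingHom.ker δ.toRingHom).IsPrime := RingHom.ker_isPrime _
    have hD : EGA4.IsNormalRing D := (Groth.Agent.Helper5.SmNorm.s1182 R D).1 hR
    obtain ⟨hd, hi⟩ := hD (RingHom.ker δ.toRingHom)
    have hDP : DProp (RingHom.ker δ.toRingHom) := dProp_of_isDomain _
    have h1 : (1 : D) ∉ RingHom.ker δ.toRingHom := fun h =>
      (Ideal.IsPrime.ne_top inferInstance) ((Ideal.eq_top_iff_one _).2 h)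
    rw [map_mul] at h0
    rcases hDP (φ c) (φ c') ⟨1, h1, by rw [one_mul, h0]⟩ with ⟨u, hu, huc⟩ | ⟨u, hu, huc⟩
    · left
      have h2 : Hens.ι δ u * Hens.ι δ (φ c) = 0 := by rw [← map_mul, huc, map_zero]
      rw [← Hens.ι_comp γ δ φ hφ c]
      exact (isUnit_ι_of_notMem δ u hu).mul_right_eq_zero.mp h2
    · right
      have h2 : Hens.ι δ u * Hens.ι δ (φ c') = 0 := by rw [← map_mul, huc, map_zero]
      rw [← Hens.ι_comp γ δ φ hφ c']
      exact (isUnit_ι_of_notMem δ u hu).mul_right_eq_zero.mp h2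
  exact NoZeroDivisors.to_isDomain _

theorem nProp_hens (hR : EGA4.IsNormalRing R) : NProp (maximalIdeal (Hens R Ω)) := by
  classical
  intro a b P hP hb ⟨u, hu, hE⟩
  have huu : IsUnit u := by
    by_contra hnu
    exact hu ((mem_maximalIdeal u).mpr hnu)
  have hE0 : (P.scaleRoots b).eval a = 0 := huu.mul_right_eq_zero.mp hE
  have hb0 : b ≠ 0 := by
    have := hb 1 (fun h => (Ideal.IsPrime.ne_top inferInstance) ((Ideal.eq_top_iff_one _).2 h))
    rwa [one_mul] at this
  obtain ⟨C, _, _, _, γ, hC⟩ := Hens.exists_ι_eq_finset (insert a (insert b P.coeffs))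
  obtain ⟨a', rfl⟩ := hC a (by simp)
  obtain ⟨b', rfl⟩ := hC b (by simp)
  haveI : Nontrivial C := RingHom.domain_nontrivial γ.toRingHom
  have hPl : P ∈ Polynomial.lifts (Hens.ι γ).toRingHom := by
    rw [Polynomial.lifts_iff_coeff_lifts]
    intro n
    by_cases h0 : P.coeff n = 0
    · exact ⟨0, by rw [h0]; exact map_zero _⟩
    · exact hC _ (by
        simp only [Finset.mem_insert]
        right; right
        exact Polynomial.coeff_mem_coeffs h0)
  obtain ⟨P', hP'P, -, hP'⟩ := Polynomial.lifts_and_degree_eq_and_monic hPl hP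
  have hev : ∀ {D : Type u} [CommRing D] (f : C →+* D),
      f ((P'.scaleRoots b').eval a') = ((P'.map f).scaleRoots (f b')).eval (f a') := by
    intro D _ f
    by_cases hD : Nontrivial D
    · rw [← Polynomial.map_scaleRoots _ _ _ (by rw [hP'.leadingCoeff, map_one]; exact one_ne_zero),
        Polynomial.eval_map]
      exact (Polynomial.eval₂_at_apply f a').symm
    · haveI := not_nontrivial_iff_subsingleton.mp hD
      exact Subsingleton.elim _ _
  have hE' : Hens.ι γ ((P'.scaleRoots b').eval a') = 0 := by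
    have := hev (Hens.ι γ).toRingHom
    rw [hP'P] at this
    exact this.trans hE0
  obtain ⟨D, _, _, _, δ, φ, hφ, h0⟩ := Hens.exists_of_ι_eq_zero γ _ hE'
  haveI : (RingHom.ker δ.toRingHom).IsPrime := RingHom.ker_isPrime _
  have hD : EGA4.IsNormalRing D := (Groth.Agent.Helper5.SmNorm.s1182 R D).1 hR
  obtain ⟨hd, hi⟩ := hD (RingHom.ker δ.toRingHom)
  have hNP : NProp (RingHom.ker δ.toRingHom) := nProp_of_isIntegrallyClosed _
  have h1 : (1 : D) ∉ RingHom.ker δ.toRingHom := fun h =>
    (Ideal.IsPrime.ne_top inferInstance) ((Ideal.eq_top_iff_one _).2 h)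
  have hb'' : ∀ u, u ∉ RingHom.ker δ.toRingHom → u * φ b' ≠ 0 := by
    intro u hu h
    apply hb0
    have h2 : Hens.ι δ u * Hens.ι δ (φ b') = 0 := by rw [← map_mul, h, map_zero]
    rw [← Hens.ι_comp γ δ φ hφ b']
    exact (isUnit_ι_of_notMem δ u hu).mul_right_eq_zero.mp h2
  obtain ⟨w, z, hw, hwz⟩ := hNP (φ a') (φ b') (P'.map φ.toRingHom) (hP'.map _) hb''
    ⟨1, h1, by
      rw [one_mul]
      have := hev φ.toRingHom
      exact this.symm.trans h0⟩
  refine ⟨Hens.ι δ w, Hens.ι δ z, ?_, ?_⟩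
  · intro hmem
    exact ((mem_maximalIdeal _).mp hmem) (isUnit_ι_of_notMem δ w hw)
  · rw [← Hens.ι_comp γ δ φ hφ a', ← Hens.ι_comp γ δ φ hφ b', ← map_mul, ← map_mul, hwz]

theorem normal_hens (hR : EGA4.IsNormalRing R) :
    IsDomain (Hens R Ω) ∧ IsIntegrallyClosed (Hens R Ω) := by
  haveI := isDomain_hens (Ω := Ω) hR
  refine ⟨inferInstance, ?_⟩
  have hunit : (maximalIdeal (Hens R Ω)).primeCompl ≤ IsUnit.submonoid (Hens R Ω) := by
    intro t ht
    by_contra hnu
    exact ht ((mem_maximalIdeal t).mpr hnu)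
  let e : Hens R Ω ≃ₐ[Hens R Ω] Localization.AtPrime (maximalIdeal (Hens R Ω)) :=
    IsLocalization.atUnits _ (maximalIdeal (Hens R Ω)).primeCompl hunit
  haveI : IsDomain (Localization.AtPrime (maximalIdeal (Hens R Ω))) :=
    e.symm.toMulEquiv.isDomain _
  haveI : IsIntegrallyClosed (Localization.AtPrime (maximalIdeal (Hens R Ω))) :=
    isIntegrallyClosed_of_nProp _ (nProp_hens hR)
  exact IsIntegrallyClosed.of_equiv e.symm.toRingEquiv

/-- an integrally closed domain is a normal ring. -/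
theorem isNormalRing_of_isIntegrallyClosed (R : Type u) [CommRing R] [IsDomain R]
    [IsIntegrallyClosed R] : EGA4.IsNormalRing R := by
  intro p hp
  exact ⟨IsLocalization.isDomain_localization p.primeCompl_le_nonZeroDivisors,
    isIntegrallyClosed_of_isLocalization _ p.primeCompl p.primeCompl_le_nonZeroDivisors⟩

theorem s0515 (R : Type u) [CommRing R] [IsLocalRing R] (S : Type u) [CommRing S] [IsLocalRing S]
    [Algebra R S] [IsLocalHom (algebraMap R S)] [Hensel.IsHenselization R S] :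
    (IsDomain R ∧ IsIntegrallyClosed R) ↔ (IsDomain S ∧ IsIntegrallyClosed S) := by
  constructor
  · rintro ⟨h1, h2⟩
    obtain ⟨h3, h4⟩ := normal_hens (Ω := ResidueField R) (isNormalRing_of_isIntegrallyClosed R)
    let e := (equivOfIsHenselization (R := R) S).toRingEquiv
    exact ⟨e.toMulEquiv.isDomain _, IsIntegrallyClosed.of_equiv e.symm⟩
  · rintro ⟨h1, h2⟩
    haveI := faithfullyFlat_of_isHenselization R S
    exact Groth.Agent.Helper5.SmNorm.normal_descent R S

theorem s2748 (R S : Type u) [CommRing R] [IsLocalRing R] [CommRing S] [IsLocalRing S]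
    [Algebra R S] [IsLocalHom (algebraMap R S)] [Hensel.IsStrictHenselization R S] :
    (IsDomain S ∧ IsIntegrallyClosed S) ↔ (IsDomain R ∧ IsIntegrallyClosed R) := by
  constructor
  · rintro ⟨h1, h2⟩
    haveI := faithfullyFlat_of_isStrictHenselization R S
    exact Groth.Agent.Helper5.SmNorm.normal_descent R S
  · rintro ⟨h1, h2⟩
    obtain ⟨h3, h4⟩ := normal_hens (Ω := ResidueField S) (isNormalRing_of_isIntegrallyClosed R)
    let e := (equivOfIsStrictHenselization R S).toRingEquiv
    exact ⟨e.toMulEquiv.isDomain _, IsIntegrallyClosed.of_equiv e.symm⟩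

end Groth.Agent.Helper2.HensNor
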