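import Mathlib
import Groth.Prelude
import Groth.Agent.Helper2.HensInt
import Groth.Agent.Helper2.HensNor
import Groth.Agent.Helper3.HensProd2
set_option autoImplicit false
universe u
open IsLocalRing TensorProduct

namespace Groth.Agent.Helper2.Unibr1

/-- a domain which is isomorphic to a finite product of local rings is local -/
theorem isUnit_or_of_pi {T : Type u} [CommRing T] [IsDomain T]
    {ι : Type u} [Fintype ι] (A : ι → Type u) [∀ i, CommRing (A i)] (hA : ∀ i, IsLocalRing (A i))
    (φ : T ≃+* (∀ i, A i)) (x : T) : IsUnit x ∨ IsUnit (1 - x) := by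
  classical
  have hsub : ∀ i j : ι, i = j := by
    intro i j
    by_contra hij
    have h1 : φ.symm (Pi.single i 1) * φ.symm (Pi.single j 1) = 0 := by
      rw [← map_mul, ← Pi.single_mul_left, Pi.single_eq_of_ne hij, mul_zero, Pi.single_zero, map_zero]
    haveI := hA i
    haveI := hA j
    rcases mul_eq_zero.1 h1 with h | h
    · have h2 : (Pi.single i 1 : ∀ i, A i) = 0 := by
        simpa using congrArg φ h
      have := congrFun h2 i
      simp at this
    · have h2 : (Pi.single j 1 : ∀ i, A i) = 0 := by
        simpa using congrArg φ h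
      have := congrFun h2 j
      simp at this
  rcases isEmpty_or_nonempty ι with hι | ⟨⟨i0⟩⟩
  · exfalso
    have : (1 : T) = 0 := φ.injective (Subsingleton.elim _ _)
    exact one_ne_zero this
  · haveI := hA i0
    have key : ∀ y : T, IsUnit (φ y i0) → IsUnit y := by
      intro y hy
      have : IsUnit (φ y) := by
        rw [Pi.isUnit_iff]
        intro i
        rw [hsub i i0]
        exact hy
      exact (isUnit_map_iff φ y).1 this
    rcases IsLocalRing.isUnit_or_isUnit_one_sub_self (φ x i0) with h | h
    · exact Or.inl (key x h)
    · refine Or.inr (key (1 - x) ?_)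
      rw [map_sub, map_one]
      exact h

/-- a domain integral over a henselian local ring is local -/
theorem isLocalRing_of_isIntegral_of_isDomain (H : Type u) [CommRing H] [HenselianLocalRing H]
    (T : Type u) [CommRing T] [IsDomain T] [Algebra H T] [Algebra.IsIntegral H T] :
    IsLocalRing T := by
  refine IsLocalRing.of_isUnit_or_isUnit_one_sub_self (fun x => ?_)
  let T' : Subalgebra H T := Algebra.adjoin H {x}
  haveI : Module.Finite H T' :=
    Module.Finite.iff_fg.mpr (Algebra.IsIntegral.isIntegral (R := H) x).fg_adjoin_singleton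
  obtain ⟨ι, _, A, _, hA, ⟨φ⟩⟩ := Groth.Agent.Helper3.HensProd.finite_pi_of_hens H T'
  let x' : T' := ⟨x, Algebra.self_mem_adjoin_singleton H x⟩
  rcases isUnit_or_of_pi A hA φ x' with h | h
  · left
    exact h.map T'.val
  · right
    have := h.map T'.val
    simpa [x'] using this

end Groth.Agent.Helper2.Unibr1
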