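import Mathlib
import Groth.Prelude
import Groth.Agent.Helper2.Unibr1
import Groth.Agent.Helper2.HensTensBij
set_option autoImplicit false
universe u
open IsLocalRing TensorProduct

namespace Groth.Agent.Helper2.Unibr2

open Groth.Agent.Helper1.Hens

section Forward

variable (R N S : Type u) [CommRing R] [IsLocalRing R]
    [CommRing N] [IsLocalRing N] [Algebra R N] [IsLocalHom (algebraMap R N)]
    [Algebra.IsIntegral R N]
    [CommRing S] [IsLocalRing S] [Algebra R S] [IsLocalHom (algebraMap R S)]
    [Hensel.IsHenselization R S]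

/-- forward core: if `N` is a normal local domain, integral over `R` and containing `R`, then the
henselization of `R` is a domain. -/
theorem isDomain_of_normal [IsDomain N] [IsIntegrallyClosed N]
    (hinj : Function.Injective (algebraMap R N)) : IsDomain S := by
  obtain ⟨hloc, hlh, hH⟩ := Groth.Agent.Helper2.HensInt.main R N S
  haveI := hloc
  haveI := hlh
  haveI := hH
  have h1 : IsDomain (N ⊗[R] S) :=
    ((Groth.Agent.Helper2.HensNor.s0515 N (N ⊗[R] S)).1 ⟨inferInstance, inferInstance⟩).1
  haveI := faithfullyFlat_of_isHenselization R S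
  have h2 : Function.Injective (Algebra.TensorProduct.includeRight : S →ₐ[R] N ⊗[R] S) :=
    Algebra.TensorProduct.includeRight_injective hinj
  exact Function.Injective.isDomain
    (Algebra.TensorProduct.includeRight : S →ₐ[R] N ⊗[R] S).toRingHom h2

end Forward

section Backward


attribute [local instance] Algebra.TensorProduct.rightAlgebra

theorem isDomain_tensor (R N K S : Type u) [CommRing R] [IsLocalRing R] [IsDomain R]
    [CommRing N] [IsDomain N] [Algebra R N] [Algebra.IsIntegral R N]
    [Field K] [Algebra R K] [IsFractionRing R K] [Algebra N K] [IsScalarTower R N K]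
    [CommRing S] [IsLocalRing S] [Algebra R S] [IsLocalHom (algebraMap R S)]
    [Hensel.IsHenselization R S]
    [IsDomain S] (hNK : Function.Injective (algebraMap N K)) :
    IsDomain (N ⊗[R] S) := by
  haveI := faithfullyFlat_of_isHenselization R S
  have hRS : Function.Injective (algebraMap R S) := FaithfulSMul.algebraMap_injective R S
  have hM : Algebra.algebraMapSubmonoid S (nonZeroDivisors R) ≤ nonZeroDivisors S := by
    rintro _ ⟨r, hr, rfl⟩
    refine mem_nonZeroDivisors_of_ne_zero ?_
    intro h0
    exact (nonZeroDivisors.ne_zero hr) (hRS (by rw [h0, map_zero]))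
  haveI : IsLocalization (Algebra.algebraMapSubmonoid S (nonZeroDivisors R)) (K ⊗[R] S) :=
    IsLocalization.tensorRight K (nonZeroDivisors R)
  haveI : IsDomain (K ⊗[R] S) := IsLocalization.isDomain_of_le_nonZeroDivisors (K ⊗[R] S) hM
  let f : N ⊗[R] S →ₐ[R] K ⊗[R] S :=
    Algebra.TensorProduct.map (IsScalarTower.toAlgHom R N K) (AlgHom.id R S)
  have hf : Function.Injective f := by
    have := Module.Flat.rTensor_preserves_injective_linearMap (M := S)
      (IsScalarTower.toAlgHom R N K).toLinearMap hNK
    intro a b hab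
    apply this
    exact hab
  exact Function.Injective.isDomain f.toRingHom hf

/-- backward core -/
theorem isLocalRing_of_isDomain (R N K S : Type u) [CommRing R] [IsLocalRing R] [IsDomain R]
    [CommRing N] [IsDomain N] [Algebra R N] [Algebra.IsIntegral R N]
    [Field K] [Algebra R K] [IsFractionRing R K] [Algebra N K] [IsScalarTower R N K]
    [CommRing S] [IsLocalRing S] [Algebra R S] [IsLocalHom (algebraMap R S)]
    [Hensel.IsHenselization R S]
    [IsDomain S] (hNK : Function.Injective (algebraMap N K)) :
    IsLocalRing N := by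
  haveI := faithfullyFlat_of_isHenselization R S
  haveI : IsDomain (N ⊗[R] S) := isDomain_tensor R N K S hNK
  haveI : Algebra.IsIntegral S (N ⊗[R] S) := Groth.Agent.Helper2.HensTensBij.isIntegral_right' R N S
  haveI : HenselianLocalRing S := Hensel.IsHenselization.henselian (R := R)
  haveI hT : IsLocalRing (N ⊗[R] S) :=
    Groth.Agent.Helper2.Unibr1.isLocalRing_of_isIntegral_of_isDomain S (N ⊗[R] S)
  haveI : Module.FaithfullyFlat N (N ⊗[R] S) := inferInstance
  have key : ∀ M : Ideal N, M.IsMaximal →
      M = (maximalIdeal (N ⊗[R] S)).comap (algebraMap N (N ⊗[R] S)) := by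
    intro M hM
    have h1 : M • (⊤ : Submodule N (N ⊗[R] S)) ≠ ⊤ :=
      Module.FaithfullyFlat.submodule_ne_top hM
    have h2 : M.map (algebraMap N (N ⊗[R] S)) ≠ ⊤ := by
      intro h
      apply h1
      rw [Ideal.smul_top_eq_map, h]
      rfl
    have h3 : M.map (algebraMap N (N ⊗[R] S)) ≤ maximalIdeal (N ⊗[R] S) :=
      IsLocalRing.le_maximalIdeal h2
    have h4 : M ≤ (maximalIdeal (N ⊗[R] S)).comap (algebraMap N (N ⊗[R] S)) :=
      Ideal.map_le_iff_le_comap.1 h3
    exact hM.eq_of_le (Ideal.comap_ne_top _ (maximalIdeal.isMaximal _).ne_top) h4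
  obtain ⟨M, hM⟩ := Ideal.exists_maximal N
  refine IsLocalRing.of_unique_max_ideal ⟨M, hM, fun M' hM' => ?_⟩
  rw [key M hM, key M' hM']

end Backward

end Groth.Agent.Helper2.Unibr2
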