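import Mathlib
import Groth.Prelude
import Groth.Agent.Helper2.Unibr2
set_option autoImplicit false
universe u
open IsLocalRing TensorProduct

namespace Groth.Agent.Helper2.Unibr3

open Groth.Agent.Helper1.Hens

/-- if `R → B` is bijective then `S → B ⊗[R] S` is bijective. -/
theorem includeRight_bijective (R B S : Type u) [CommRing R] [CommRing B] [CommRing S]
    [Algebra R B] [Algebra R S] (hb : Function.Bijective (algebraMap R B)) :
    Function.Bijective (Algebra.TensorProduct.includeRight : S →ₐ[R] B ⊗[R] S) := by
  let e : R ≃ₐ[R] B := AlgEquiv.ofBijective (Algebra.ofId R B) hb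
  let φ : B →ₐ[R] S := (Algebra.ofId R S).comp e.symm.toAlgHom
  let g : B ⊗[R] S →ₐ[R] S := Algebra.TensorProduct.lift φ (AlgHom.id R S) (fun _ _ => Commute.all _ _)
  constructor
  · intro s t hst
    have := congrArg g hst
    simpa [g] using this
  · intro x
    induction x using TensorProduct.induction_on with
    | zero => exact ⟨0, map_zero _⟩
    | tmul b s =>
      obtain ⟨r, rfl⟩ := hb.2 b
      refine ⟨r • s, ?_⟩
      show (1 : B) ⊗ₜ[R] (r • s) = (algebraMap R B r) ⊗ₜ[R] s
      rw [Algebra.algebraMap_eq_smul_one, TensorProduct.smul_tmul]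
    | add x y hx hy =>
      obtain ⟨a, rfl⟩ := hx
      obtain ⟨b, rfl⟩ := hy
      exact ⟨a + b, map_add _ _ _⟩

section

variable (R : Type u) [CommRing R] [IsLocalRing R]

instance : Nontrivial (CAlg2.red R) := by
  refine Ideal.Quotient.nontrivial_iff.2 (fun h => ?_)
  have h1 : nilradical R ≤ maximalIdeal R := nilradical_le_prime _
  exact (maximalIdeal.isMaximal R).ne_top (top_le_iff.1 (h ▸ h1))

instance : IsLocalRing (CAlg2.red R) :=
  IsLocalRing.of_surjective' (Ideal.Quotient.mk (nilradical R)) Ideal.Quotient.mk_surjective

instance : IsLocalHom (algebraMap R (CAlg2.red R)) :=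
  IsLocalHom.of_surjective _ Ideal.Quotient.mk_surjective

instance : Algebra.IsIntegral R (CAlg2.red R) :=
  Algebra.isIntegral_of_surjective Ideal.Quotient.mk_surjective

end

section Core

variable (B Bh : Type u) [CommRing B] [IsLocalRing B] [IsDomain B]
    [CommRing Bh] [IsLocalRing Bh] [Algebra B Bh] [IsLocalHom (algebraMap B Bh)]
    [Hensel.IsHenselization B Bh]

/-- core: for a local domain `B` with henselization `Bh`, the normalization of `B` is local iff
`Bh` is a domain. -/
theorem core : IsLocalRing (integralClosure B (FractionRing B)) ↔ IsDomain Bh := by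
  haveI : IsIntegrallyClosed (integralClosure B (FractionRing B)) :=
    integralClosure.isIntegrallyClosedOfFiniteExtension (FractionRing B)
  have hinj : Function.Injective (algebraMap B (integralClosure B (FractionRing B))) := by
    intro a b hab
    have := congrArg (algebraMap (integralClosure B (FractionRing B)) (FractionRing B)) hab
    rw [← IsScalarTower.algebraMap_apply, ← IsScalarTower.algebraMap_apply] at this
    exact IsFractionRing.injective B (FractionRing B) this
  constructor
  · intro hloc
    haveI : FaithfulSMul B (integralClosure B (FractionRing B)) :=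
      (faithfulSMul_iff_algebraMap_injective _ _).2 hinj
    exact Unibr2.isDomain_of_normal B (integralClosure B (FractionRing B)) Bh hinj
  · intro hdom
    exact Unibr2.isLocalRing_of_isDomain B (integralClosure B (FractionRing B)) (FractionRing B) Bh
      Subtype.val_injective

end Core

section Main

variable (R S : Type u) [CommRing R] [IsLocalRing R]
    [CommRing S] [IsLocalRing S] [Algebra R S] [IsLocalHom (algebraMap R S)]
    [Hensel.IsHenselization R S]

theorem algebraMap_red_bijective [IsReduced R] :
    Function.Bijective (algebraMap R (CAlg2.red R)) := by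
  refine ⟨?_, Ideal.Quotient.mk_surjective⟩
  rw [injective_iff_map_eq_zero]
  intro a ha
  have h1 : a ∈ nilradical R := Ideal.Quotient.eq_zero_iff_mem.1 ha
  rw [nilradical_eq_zero] at h1
  exact h1

theorem s2749 : (IsReduced R ∧ CAlg2.IsUnibranch R) ↔ IsDomain S := by
  obtain ⟨hloc, hlh, hH⟩ := Groth.Agent.Helper2.HensInt.main R (CAlg2.red R) S
  haveI := hloc
  haveI := hlh
  haveI := hH
  constructor
  · rintro ⟨hred, hdom, hN⟩
    haveI := hdom
    have hbij := algebraMap_red_bijective R
    have h1 : IsDomain (CAlg2.red R ⊗[R] S) := (core (CAlg2.red R) (CAlg2.red R ⊗[R] S)).1 hN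
    exact Function.Injective.isDomain
      (Algebra.TensorProduct.includeRight : S →ₐ[R] CAlg2.red R ⊗[R] S).toRingHom
      (includeRight_bijective R (CAlg2.red R) S hbij).1
  · intro hS
    haveI := faithfullyFlat_of_isHenselization R S
    have hRS : Function.Injective (algebraMap R S) := FaithfulSMul.algebraMap_injective R S
    haveI : IsDomain R := Function.Injective.isDomain (algebraMap R S) hRS
    have hred : IsReduced R := inferInstance
    have hbij := algebraMap_red_bijective R
    haveI : IsDomain (CAlg2.red R) :=
      (RingEquiv.ofBijective (algebraMap R (CAlg2.red R)) hbij).symm.toMulEquiv.isDomain R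
    have h1 : IsDomain (CAlg2.red R ⊗[R] S) :=
      (RingEquiv.ofBijective
        (Algebra.TensorProduct.includeRight : S →ₐ[R] CAlg2.red R ⊗[R] S).toRingHom
        (includeRight_bijective R (CAlg2.red R) S hbij)).symm.toMulEquiv.isDomain S
    exact ⟨hred, inferInstance, (core (CAlg2.red R) (CAlg2.red R ⊗[R] S)).2 h1⟩

end Main

end Groth.Agent.Helper2.Unibr3
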