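import Mathlib
import Groth.Prelude
import Groth.Agent.Helper2.Unibr3
import Groth.Agent.Helper1.HensRed
set_option autoImplicit false
universe u
open IsLocalRing TensorProduct

namespace Groth.Agent.Helper2.Unibr4

open Groth.Agent.Helper1.Hens

/-- the nilradical is prime iff there is a unique minimal prime. -/
theorem nilradical_isPrime_iff (T : Type u) [CommRing T] :
    (nilradical T).IsPrime ↔ CAlgX.HasUniqueMinimalPrime T := by
  constructor
  · intro hP
    refine ⟨nilradical T, ?_, ?_⟩
    · refine ⟨⟨hP, bot_le⟩, fun q hq _ => ?_⟩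
      haveI := hq.1
      exact nilradical_le_prime q
    · intro P' hP'
      haveI := hP'.1.1
      have h1 : nilradical T ≤ P' := nilradical_le_prime P'
      exact le_antisymm (hP'.2 ⟨hP, bot_le⟩ h1) h1
  · rintro ⟨P, hP, huniq⟩
    haveI := hP.1.1
    have h1 : nilradical T = P := by
      apply le_antisymm (nilradical_le_prime P)
      rw [nilradical_eq_sInf, le_sInf_iff]
      intro q hq
      haveI : q.IsPrime := hq
      obtain ⟨p, hp, hpq⟩ := Ideal.exists_minimalPrimes_le (I := ⊥) (J := q) bot_le
      rw [huniq p hp] at hpq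
      exact hpq
    rw [h1]
    exact hP.1.1

/-- for an ideal `J` of nilpotent elements with reduced quotient: the quotient is a domain iff
there is a unique minimal prime. -/
theorem isDomain_quotient_iff (T : Type u) [CommRing T] (J : Ideal T) (hJ : J ≤ nilradical T)
    (hred : IsReduced (T ⧸ J)) : IsDomain (T ⧸ J) ↔ CAlgX.HasUniqueMinimalPrime T := by
  have h1 : J = nilradical T := by
    apply le_antisymm hJ
    have h2 : J.IsRadical := (Ideal.isRadical_iff_quotient_reduced J).2 hred
    intro x hx
    apply h2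
    obtain ⟨n, hn⟩ := hx
    exact ⟨n, by rw [hn]; exact J.zero_mem⟩
  rw [Ideal.Quotient.isDomain_iff_prime, h1]
  exact nilradical_isPrime_iff T

/-- the version with tensor products. -/
theorem isDomain_tensor_iff (A Ah : Type u) [CommRing A] [CommRing Ah] [Algebra A Ah]
    (hred : IsReduced (CAlg2.red A ⊗[A] Ah)) :
    IsDomain (CAlg2.red A ⊗[A] Ah) ↔ CAlgX.HasUniqueMinimalPrime Ah := by
  let e := Algebra.TensorProduct.quotIdealMapEquivQuotTensor Ah (nilradical A)
  have hJ : (nilradical A).map (algebraMap A Ah) ≤ nilradical Ah := by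
    rw [Ideal.map_le_iff_le_comap]
    intro a ha
    exact IsNilpotent.map ha (algebraMap A Ah)
  have hred' : IsReduced (Ah ⧸ (nilradical A).map (algebraMap A Ah)) :=
    isReduced_of_injective e.toRingEquiv.toRingHom e.injective
  rw [← isDomain_quotient_iff Ah _ hJ hred']
  exact ⟨fun h => e.toRingEquiv.toMulEquiv.isDomain _, fun h => e.symm.toRingEquiv.toMulEquiv.isDomain _⟩

section Main

variable (A Ah : Type u) [CommRing A] [IsLocalRing A]
    [CommRing Ah] [IsLocalRing Ah] [Algebra A Ah] [IsLocalHom (algebraMap A Ah)]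
    [Hensel.IsHenselization A Ah]

instance : IsReduced (CAlg2.red A) :=
  (Ideal.isRadical_iff_quotient_reduced _).1 (Ideal.radical_isRadical _)

theorem s2052 : CAlg2.IsUnibranch A ↔ CAlgX.HasUniqueMinimalPrime Ah := by
  obtain ⟨hloc, hlh, hH⟩ := Groth.Agent.Helper2.HensInt.main A (CAlg2.red A) Ah
  haveI := hloc
  haveI := hlh
  haveI := hH
  have hred : IsReduced (CAlg2.red A ⊗[A] Ah) :=
    (isReduced_iff_of_isHenselization (CAlg2.red A) (CAlg2.red A ⊗[A] Ah)).1 inferInstance
  rw [← isDomain_tensor_iff A Ah hred]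
  constructor
  · rintro ⟨hdom, hN⟩
    haveI := hdom
    exact (Unibr3.core (CAlg2.red A) (CAlg2.red A ⊗[A] Ah)).1 hN
  · intro hdom
    haveI := faithfullyFlat_of_isHenselization (CAlg2.red A) (CAlg2.red A ⊗[A] Ah)
    haveI : IsDomain (CAlg2.red A) :=
      Function.Injective.isDomain (algebraMap (CAlg2.red A) (CAlg2.red A ⊗[A] Ah))
        (FaithfulSMul.algebraMap_injective _ _)
    exact ⟨inferInstance, (Unibr3.core (CAlg2.red A) (CAlg2.red A ⊗[A] Ah)).2 hdom⟩

end Main

end Groth.Agent.Helper2.Unibr4
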