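import Mathlib
import Groth.Prelude
set_option autoImplicit false
universe u
open IsLocalRing TensorProduct Polynomial

namespace Groth.Agent.Helper2.Unibr5

/-- in a local ring, if a product of elements `u - ι β` (with `ι` a ring hom from a field)
vanishes, then `u = ι β` for some `β`. -/
theorem exists_eq_of_prod_eq_zero {F Ω : Type u} [CommRing F] [IsLocalRing F] [Field Ω]
    (ι : Ω →+* F) (u : F) (s : Finset Ω) (h : ∏ β ∈ s, (u - ι β) = 0) :
    ∃ β ∈ s, u = ι β := by
  classical
  have h1 : ¬ IsUnit (∏ β ∈ s, (u - ι β)) := by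
    rw [h]; exact not_isUnit_zero
  rw [IsUnit.prod_iff] at h1
  push Not at h1
  obtain ⟨β0, hβ0, hnu⟩ := h1
  refine ⟨β0, hβ0, ?_⟩
  have h2 : ∀ β ∈ s.erase β0, IsUnit (u - ι β) := by
    intro β hβ
    have hne : β0 - β ≠ 0 := sub_ne_zero.2 (Finset.ne_of_mem_erase hβ).symm
    have hu : IsUnit (ι (β0 - β)) := (isUnit_iff_ne_zero.2 hne).map ι
    by_contra hcon
    have h3 : (u - ι β) + (-(u - ι β0)) ∈ nonunits F :=
      IsLocalRing.nonunits_add hcon (by rw [mem_nonunits_iff, IsUnit.neg_iff]; exact hnu)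
    apply h3
    have : (u - ι β) + (-(u - ι β0)) = ι (β0 - β) := by rw [map_sub]; ring
    rw [this]
    exact hu
  have h4 : IsUnit (∏ β ∈ s.erase β0, (u - ι β)) := IsUnit.prod_iff.2 h2
  rw [← Finset.mul_prod_erase s _ hβ0] at h
  have := (h4.mul_left_eq_zero).1 h
  exact sub_eq_zero.1 this

section Main

variable (B N S : Type u) [CommRing B] [IsLocalRing B] [CommRing N] [IsLocalRing N] [Algebra B N]
    [IsLocalHom (algebraMap B N)] [Algebra.IsIntegral B N]
    [CommRing S] [IsLocalRing S] [Algebra B S] [IsLocalHom (algebraMap B S)]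

local notation "κ" => ResidueField B
local notation "L" => ResidueField N
local notation "Ω" => ResidueField S

/-- the linear map `L ⊗[B] Ω → Ω` induced by a functional on `L`. -/
noncomputable def Φ (φ : L →ₗ[κ] κ) : L ⊗[B] Ω →ₗ[B] Ω :=
  LinearMap.mul' B Ω ∘ₗ TensorProduct.map
    (((Algebra.linearMap κ Ω).restrictScalars B) ∘ₗ (φ.restrictScalars B)) LinearMap.id

theorem Φ_tmul (φ : L →ₗ[κ] κ) (l : L) (ω : Ω) :
    Φ B N S φ (l ⊗ₜ[B] ω) = algebraMap κ Ω (φ l) * ω := rfl

theorem nontrivial_tensor : Nontrivial (L ⊗[B] Ω) := by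
  obtain ⟨φ, hφ⟩ := LinearMap.exists_leftInverse_of_injective (Algebra.linearMap κ L)
    (LinearMap.ker_eq_bot.2 (algebraMap κ L).injective)
  refine ⟨⟨1, 0, fun h => ?_⟩⟩
  have h1 := congrArg (Φ B N S φ) h
  rw [Algebra.TensorProduct.one_def, Φ_tmul, map_zero] at h1
  have h2 : φ 1 = 1 := by
    have := LinearMap.congr_fun hφ 1
    simpa using this
  rw [h2, map_one, mul_one] at h1
  exact one_ne_zero h1

theorem mem_range_of_tmul_eq (y : L) (β : Ω) (h : y ⊗ₜ[B] (1 : Ω) = (1 : L) ⊗ₜ[B] β) :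
    y ∈ (algebraMap κ L).range := by
  by_contra hy
  have hy' : y ∉ LinearMap.range (Algebra.linearMap κ L) := fun ⟨c, hc⟩ => hy ⟨c, hc⟩
  obtain ⟨φ, hφy, hφ⟩ := Submodule.exists_dual_map_eq_bot_of_notMem hy' inferInstance
  have h1 : φ 1 = 0 := by
    have : φ 1 ∈ Submodule.map φ (LinearMap.range (Algebra.linearMap κ L)) :=
      ⟨1, ⟨1, by simp⟩, rfl⟩
    rw [hφ] at this
    exact this
  have h2 := congrArg (Φ B N S φ) h
  rw [Φ_tmul, Φ_tmul, h1, map_zero, zero_mul, mul_one] at h2
  exact hφy ((algebraMap κ Ω).injective (by rw [h2, map_zero]))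

theorem isPurelyInseparable [IsSepClosed Ω] (hT : IsLocalRing (N ⊗[B] S)) :
    IsPurelyInseparable κ L := by
  haveI := hT
  let π : N ⊗[B] S →ₐ[B] L ⊗[B] Ω :=
    Algebra.TensorProduct.map (IsScalarTower.toAlgHom B N L) (IsScalarTower.toAlgHom B S Ω)
  have hπ : Function.Surjective π :=
    TensorProduct.map_surjective (g := (IsScalarTower.toAlgHom B N L).toLinearMap)
      (g' := (IsScalarTower.toAlgHom B S Ω).toLinearMap) (residue_surjective (R := N))
      (residue_surjective (R := S))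
  haveI := nontrivial_tensor B N S
  haveI : IsLocalRing (L ⊗[B] Ω) := IsLocalRing.of_surjective' π.toRingHom hπ
  haveI : Algebra.IsIntegral κ L := by
    refine ⟨fun z => ?_⟩
    obtain ⟨x, rfl⟩ := residue_surjective z
    refine (Algebra.IsIntegral.isIntegral (R := B) x).map_of_comp_eq (residue B) (residue N) ?_
    ext a
    rfl
  haveI : Algebra.IsAlgebraic κ L := inferInstance
  rw [← separableClosure.eq_bot_iff, eq_bot_iff]
  intro y hy
  rw [mem_separableClosure_iff] at hy
  rw [IntermediateField.mem_bot]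
  let ιN : L →+* L ⊗[B] Ω := (Algebra.TensorProduct.includeLeft : L →ₐ[B] L ⊗[B] Ω).toRingHom
  let ιS : Ω →+* L ⊗[B] Ω := (Algebra.TensorProduct.includeRight : Ω →ₐ[B] L ⊗[B] Ω).toRingHom
  have hcomp : ιN.comp (algebraMap κ L) = ιS.comp (algebraMap κ Ω) := by
    ext z
    obtain ⟨b, rfl⟩ := residue_surjective z
    show (algebraMap B L b) ⊗ₜ[B] (1 : Ω) = (1 : L) ⊗ₜ[B] (algebraMap B Ω b)
    rw [Algebra.algebraMap_eq_smul_one, Algebra.algebraMap_eq_smul_one, TensorProduct.smul_tmul]
  have hsep : (minpoly κ y).Separable := hy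
  have hsplit : ((minpoly κ y).map (algebraMap κ Ω)).Splits :=
    IsSepClosed.splits_codomain _ hsep
  have hmonic : ((minpoly κ y).map (algebraMap κ Ω)).Monic := (minpoly.monic hy.isIntegral).map _
  have hprod := hsplit.eq_prod_roots_of_monic hmonic
  have hnodup : ((minpoly κ y).map (algebraMap κ Ω)).roots.Nodup := nodup_roots hsep.map
  let s : Finset Ω := ⟨_, hnodup⟩
  have hzero : ∏ β ∈ s, (ιN y - ιS β) = 0 := by
    have h1 : eval (ιN y) (((minpoly κ y).map (algebraMap κ Ω)).map ιS) = 0 := by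
      rw [Polynomial.map_map, ← hcomp, ← Polynomial.map_map, eval_map, eval₂_hom, eval_map,
        ← aeval_def, minpoly.aeval, map_zero]
    rw [hprod, Polynomial.map_multiset_prod, eval_multiset_prod, Multiset.map_map,
      Multiset.map_map] at h1
    rw [Finset.prod_mk]
    have h2 : Multiset.map (fun β => ιN y - ιS β)
        ((minpoly κ y).map (algebraMap κ Ω)).roots =
        Multiset.map ((eval (ιN y) ∘ Polynomial.map ιS) ∘ fun x => X - C x)
          ((minpoly κ y).map (algebraMap κ Ω)).roots := by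
      apply Multiset.map_congr rfl
      intro β _
      simp
    rw [h2]
    exact h1
  obtain ⟨β, _, hβ⟩ := exists_eq_of_prod_eq_zero ιS (ιN y) s hzero
  exact mem_range_of_tmul_eq B N S y β hβ

end Main

end Groth.Agent.Helper2.Unibr5
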