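import Mathlib
import Groth.Prelude
import Groth.Agent.Helper2.Unibr2b
import Groth.Agent.Helper2.Unibr4
import Groth.Agent.Helper2.Unibr5
import Groth.Agent.Helper2.HensIntS
import Groth.Agent.Helper1.HensStrict
set_option autoImplicit false
universe u
open IsLocalRing TensorProduct

namespace Groth.Agent.Helper2.Unibr6

open Groth.Agent.Helper1.Hens

/-- the raw form of the purely inseparable condition, as in `CAlg2.IsGeomUnibranch`. -/
def PIcond (B N : Type u) [CommRing B] [CommRing N] [Algebra B N] : Prop :=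
  ∀ (m' : Ideal N) [m'.IsMaximal], ∀ x : N ⧸ m', ∃ n : ℕ,
    x ^ (ringExpChar (N ⧸ m')) ^ n ∈ ((Ideal.Quotient.mk m').comp (algebraMap B N)).range

theorem picond_iff (B N : Type u) [CommRing B] [IsLocalRing B] [CommRing N] [IsLocalRing N]
    [Algebra B N] [IsLocalHom (algebraMap B N)] :
    PIcond B N ↔ IsPurelyInseparable (ResidueField B) (ResidueField N) := by
  haveI : ExpChar (ResidueField B) (ringExpChar (ResidueField N)) :=
    (algebraMap (ResidueField B) (ResidueField N)).expChar
      (algebraMap (ResidueField B) (ResidueField N)).injective _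
  rw [isPurelyInseparable_iff_pow_mem (ResidueField B) (ringExpChar (ResidueField N))]
  constructor
  · intro h x
    obtain ⟨n, b, hb⟩ := h (maximalIdeal N) x
    exact ⟨n, residue B b, hb⟩
  · intro h m' hm' x
    obtain rfl := IsLocalRing.eq_maximalIdeal hm'
    obtain ⟨n, c, hc⟩ := h x
    obtain ⟨b, rfl⟩ := residue_surjective c
    exact ⟨n, b, hc⟩

section CoreS

variable (B Bsh : Type u) [CommRing B] [IsLocalRing B] [IsDomain B]
    [CommRing Bsh] [IsLocalRing Bsh] [Algebra B Bsh] [IsLocalHom (algebraMap B Bsh)]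
    [Hensel.IsStrictHenselization B Bsh]

local notation "N" => integralClosure B (FractionRing B)

/-- strict core: for a local domain `B` with strict henselization `Bsh`, the normalization of `B`
is local with purely inseparable residue field extension iff `Bsh` is a domain. -/
theorem coreS : (IsLocalRing N ∧ PIcond B N) ↔ IsDomain Bsh := by
  haveI : IsIntegrallyClosed N :=
    integralClosure.isIntegrallyClosedOfFiniteExtension (FractionRing B)
  have hinj : Function.Injective (algebraMap B N) := by
    intro a b hab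
    have := congrArg (algebraMap N (FractionRing B)) hab
    rw [← IsScalarTower.algebraMap_apply, ← IsScalarTower.algebraMap_apply] at this
    exact IsFractionRing.injective B (FractionRing B) this
  haveI : FaithfulSMul B N := (faithfulSMul_iff_algebraMap_injective _ _).2 hinj
  haveI := faithfullyFlat_of_isStrictHenselization B Bsh
  constructor
  · rintro ⟨hloc, hpi⟩
    haveI := hloc
    haveI : IsLocalHom (algebraMap B N) := inferInstance
    haveI : IsPurelyInseparable (ResidueField B) (ResidueField N) := (picond_iff B N).1 hpi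
    obtain ⟨hlocT, hlh, hH⟩ := Groth.Agent.Helper2.HensIntS.main B N Bsh
    haveI := hlocT
    haveI := hlh
    haveI := hH
    have h1 : IsDomain (N ⊗[B] Bsh) :=
      ((Groth.Agent.Helper2.HensNor.s2748 N (N ⊗[B] Bsh)).2 ⟨inferInstance, inferInstance⟩).1
    exact Function.Injective.isDomain
      (Algebra.TensorProduct.includeRight : Bsh →ₐ[B] N ⊗[B] Bsh).toRingHom
      (Algebra.TensorProduct.includeRight_injective hinj)
  · intro hdom
    haveI : HenselianLocalRing Bsh := Hensel.IsStrictHenselization.henselian (R := B)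
    have hT : IsLocalRing (N ⊗[B] Bsh) :=
      Unibr2b.isLocalRing_tensor B N (FractionRing B) Bsh Subtype.val_injective
    have hloc : IsLocalRing N := Unibr2b.isLocalRing_of_tensor B N Bsh hT
    haveI := hloc
    haveI : IsLocalHom (algebraMap B N) := inferInstance
    refine ⟨hloc, (picond_iff B N).2 ?_⟩
    haveI : IsSepClosed (ResidueField Bsh) :=
      (Hensel.IsStrictHenselization.isSepClosure (R := B) (S := Bsh)).sep_closed
    exact Unibr5.isPurelyInseparable B N Bsh hT

end CoreS

section Main

variable (A Ash : Type u) [CommRing A] [IsLocalRing A]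
    [CommRing Ash] [IsLocalRing Ash] [Algebra A Ash] [IsLocalHom (algebraMap A Ash)]
    [Hensel.IsStrictHenselization A Ash]

omit [IsLocalRing Ash] [IsLocalHom (algebraMap A Ash)] [Hensel.IsStrictHenselization A Ash]
  [CommRing Ash] [Algebra A Ash] in
theorem geomUnibranch_iff : CAlg2.IsGeomUnibranch A ↔
    (IsDomain (CAlg2.red A) ∧ IsLocalRing (CAlg2.normRed A)) ∧
      PIcond (CAlg2.red A) (CAlg2.normRed A) := by
  unfold CAlg2.IsGeomUnibranch CAlg2.IsUnibranch PIcond
  refine and_congr Iff.rfl ?_
  constructor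
  · intro h m' hm' x
    obtain ⟨n, a, ha⟩ := h m' x
    exact ⟨n, Ideal.Quotient.mk (nilradical A) a, ha⟩
  · intro h m' hm' x
    obtain ⟨n, c, hc⟩ := h m' x
    obtain ⟨a, rfl⟩ := Ideal.Quotient.mk_surjective c
    exact ⟨n, a, hc⟩

omit [IsLocalRing Ash] [IsLocalHom (algebraMap A Ash)] [Hensel.IsStrictHenselization A Ash]
  [CommRing Ash] [Algebra A Ash] in
instance : IsPurelyInseparable (ResidueField A) (ResidueField (CAlg2.red A)) := by
  rw [isPurelyInseparable_iff_pow_mem (ResidueField A) (ringExpChar (ResidueField A))]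
  intro x
  refine ⟨0, ?_⟩
  obtain ⟨c, rfl⟩ := residue_surjective x
  obtain ⟨a, rfl⟩ := Ideal.Quotient.mk_surjective c
  exact ⟨residue A a, by simp⟩

theorem s2135 : CAlg2.IsGeomUnibranch A ↔ CAlgX.HasUniqueMinimalPrime Ash := by
  obtain ⟨hloc, hlh, hH⟩ := Groth.Agent.Helper2.HensIntS.main A (CAlg2.red A) Ash
  haveI := hloc
  haveI := hlh
  haveI := hH
  have hred : IsReduced (CAlg2.red A ⊗[A] Ash) :=
    (isReduced_iff_of_isStrictHenselization (CAlg2.red A) (CAlg2.red A ⊗[A] Ash)).1 inferInstance
  rw [← Unibr4.isDomain_tensor_iff A Ash hred, geomUnibranch_iff]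
  constructor
  · rintro ⟨⟨hdom, hN⟩, hpi⟩
    haveI := hdom
    exact (coreS (CAlg2.red A) (CAlg2.red A ⊗[A] Ash)).1 ⟨hN, hpi⟩
  · intro hdom
    haveI := faithfullyFlat_of_isStrictHenselization (CAlg2.red A) (CAlg2.red A ⊗[A] Ash)
    haveI : IsDomain (CAlg2.red A) :=
      Function.Injective.isDomain (algebraMap (CAlg2.red A) (CAlg2.red A ⊗[A] Ash))
        (FaithfulSMul.algebraMap_injective _ _)
    obtain ⟨h1, h2⟩ := (coreS (CAlg2.red A) (CAlg2.red A ⊗[A] Ash)).2 hdom
    exact ⟨⟨inferInstance, h1⟩, h2⟩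

theorem s2750 : (IsReduced A ∧ CAlg2.IsGeomUnibranch A) ↔ IsDomain Ash := by
  obtain ⟨hloc, hlh, hH⟩ := Groth.Agent.Helper2.HensIntS.main A (CAlg2.red A) Ash
  haveI := hloc
  haveI := hlh
  haveI := hH
  rw [geomUnibranch_iff]
  constructor
  · rintro ⟨hred, ⟨hdom, hN⟩, hpi⟩
    haveI := hdom
    have hbij := Unibr3.algebraMap_red_bijective A
    have h1 : IsDomain (CAlg2.red A ⊗[A] Ash) :=
      (coreS (CAlg2.red A) (CAlg2.red A ⊗[A] Ash)).1 ⟨hN, hpi⟩
    exact Function.Injective.isDomain
      (Algebra.TensorProduct.includeRight : Ash →ₐ[A] CAlg2.red A ⊗[A] Ash).toRingHom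
      (Unibr3.includeRight_bijective A (CAlg2.red A) Ash hbij).1
  · intro hS
    haveI := faithfullyFlat_of_isStrictHenselization A Ash
    have hRS : Function.Injective (algebraMap A Ash) := FaithfulSMul.algebraMap_injective A Ash
    haveI : IsDomain A := Function.Injective.isDomain (algebraMap A Ash) hRS
    have hred : IsReduced A := inferInstance
    have hbij := Unibr3.algebraMap_red_bijective A
    haveI : IsDomain (CAlg2.red A) :=
      (RingEquiv.ofBijective (algebraMap A (CAlg2.red A)) hbij).symm.toMulEquiv.isDomain A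
    have h1 : IsDomain (CAlg2.red A ⊗[A] Ash) :=
      (RingEquiv.ofBijective
        (Algebra.TensorProduct.includeRight : Ash →ₐ[A] CAlg2.red A ⊗[A] Ash).toRingHom
        (Unibr3.includeRight_bijective A (CAlg2.red A) Ash hbij)).symm.toMulEquiv.isDomain Ash
    obtain ⟨h2, h3⟩ := (coreS (CAlg2.red A) (CAlg2.red A ⊗[A] Ash)).2 h1
    exact ⟨hred, ⟨inferInstance, h2⟩, h3⟩

end Main

end Groth.Agent.Helper2.Unibr6
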