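import Mathlib
import Groth.Prelude
import Groth.Agent.Helper2.Unibr6
set_option autoImplicit false
universe u
open IsLocalRing TensorProduct

/-! A normalization criterion for geometric unibranchness. -/

namespace Groth.Agent.Helper2.SmGU1

open Groth.Agent.Helper2.Unibr6

section NormEquiv

variable (C E : Type u) [CommRing C] [IsDomain C] [CommRing E] [IsDomain E]
  [Algebra C E]

variable {C E}

theorem isFractionRing (hinj : Function.Injective (algebraMap C E))
    (hfrac : ∀ e : E, ∃ b c : C, c ≠ 0 ∧ algebraMap C E c * e = algebraMap C E b) :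
    IsFractionRing C (FractionRing E) := by
  have hinjK : Function.Injective (algebraMap C (FractionRing E)) := by
    rw [IsScalarTower.algebraMap_eq C E (FractionRing E)]
    exact (IsFractionRing.injective E (FractionRing E)).comp hinj
  haveI : FaithfulSMul C (FractionRing E) := (faithfulSMul_iff_algebraMap_injective _ _).2 hinjK
  refine IsFractionRing.of_field (R := C) (K := FractionRing E) fun z => ?_
  obtain ⟨e₁, e₂, he₂, rfl⟩ := IsFractionRing.div_surjective (A := E) z
  have he₂0 : (e₂ : E) ≠ 0 := nonZeroDivisors.ne_zero he₂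
  obtain ⟨b₁, c₁, hc₁, h₁⟩ := hfrac e₁
  obtain ⟨b₂, c₂, hc₂, h₂⟩ := hfrac e₂
  have hc₁E : algebraMap C E c₁ ≠ 0 := (map_ne_zero_iff _ hinj).2 hc₁
  have hc₂E : algebraMap C E c₂ ≠ 0 := (map_ne_zero_iff _ hinj).2 hc₂
  have hb₂E : algebraMap C E b₂ ≠ 0 := by
    rw [← h₂]; exact mul_ne_zero hc₂E he₂0
  refine ⟨b₁ * c₂, c₁ * b₂, ?_⟩
  have hK : Function.Injective (algebraMap E (FractionRing E)) := IsFractionRing.injective E _
  have h1 : algebraMap E (FractionRing E) e₂ ≠ 0 := (map_ne_zero_iff _ hK).2 he₂0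
  have h2 : algebraMap C (FractionRing E) (c₁ * b₂) ≠ 0 := by
    rw [IsScalarTower.algebraMap_apply C E (FractionRing E), map_mul]
    exact (map_ne_zero_iff _ hK).2 (mul_ne_zero hc₁E hb₂E)
  rw [div_eq_div_iff h1 h2]
  rw [IsScalarTower.algebraMap_apply C E (FractionRing E), IsScalarTower.algebraMap_apply C E (FractionRing E),
    ← map_mul, ← map_mul]
  congr 1
  rw [map_mul, map_mul, ← h₁, ← h₂]
  ring

variable [IsIntegrallyClosed E] [Algebra.IsIntegral C E]

theorem isIntegralClosure : IsIntegralClosure E C (FractionRing E) where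
  algebraMap_injective := IsFractionRing.injective E _
  isIntegral_iff := by
    intro x
    constructor
    · intro hx
      have h1 : IsIntegral E x := hx.tower_top
      exact IsIntegrallyClosed.algebraMap_eq_of_integral h1
    · rintro ⟨y, rfl⟩
      exact (Algebra.IsIntegral.isIntegral y).algebraMap

theorem nonempty_algEquiv (hinj : Function.Injective (algebraMap C E))
    (hfrac : ∀ e : E, ∃ b c : C, c ≠ 0 ∧ algebraMap C E c * e = algebraMap C E b) :
    Nonempty (E ≃ₐ[C] integralClosure C (FractionRing C)) := by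
  haveI := isFractionRing hinj hfrac
  haveI := isIntegralClosure (C := C) (E := E)
  let f : FractionRing C ≃ₐ[C] FractionRing E := FractionRing.algEquiv C (FractionRing E)
  let e1 : E ≃ₐ[C] integralClosure C (FractionRing E) :=
    IsIntegralClosure.equiv C E (FractionRing E) (integralClosure C (FractionRing E))
  let e2 : integralClosure C (FractionRing C) ≃ₐ[C]
      (integralClosure C (FractionRing C)).map (f : FractionRing C →ₐ[C] FractionRing E) :=
    (integralClosure C (FractionRing C)).equivMapOfInjective (f : FractionRing C →ₐ[C] FractionRing E)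
      f.injective
  let e3 : ((integralClosure C (FractionRing C)).map (f : FractionRing C →ₐ[C] FractionRing E) : Subalgebra C (FractionRing E)) ≃ₐ[C]
      integralClosure C (FractionRing E) :=
    Subalgebra.equivOfEq _ _ (integralClosure_map_algEquiv f)
  exact ⟨e1.trans (e2.trans e3).symm⟩

end NormEquiv

end Groth.Agent.Helper2.SmGU1

namespace Groth.Agent.Helper2.SmGU1

open Groth.Agent.Helper2.Unibr6

theorem picond_transfer {C E N : Type u} [CommRing C] [CommRing E] [CommRing N] [Algebra C E]
    [Algebra C N] (ψ : E ≃ₐ[C] N) (h : PIcond C E) : PIcond C N := by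
  intro m' hm' x
  let m'' : Ideal E := m'.comap (ψ : E →+* N)
  haveI : m''.IsMaximal := Ideal.comap_isMaximal_of_surjective (ψ : E →+* N) ψ.surjective
  have hmap : m' = m''.map (ψ.toRingEquiv : E →+* N) := by
    show m' = (m'.comap (ψ : E →+* N)).map (ψ : E →+* N)
    exact (Ideal.map_comap_of_surjective (ψ : E →+* N) ψ.surjective m').symm
  let φ : E ⧸ m'' ≃+* N ⧸ m' := Ideal.quotientEquiv m'' m' ψ.toRingEquiv hmap
  obtain ⟨n, c, hc⟩ := h m'' (φ.symm x)
  haveI : ExpChar (N ⧸ m') (ringExpChar (E ⧸ m'')) :=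
    expChar_of_injective_ringHom (f := (φ : E ⧸ m'' →+* N ⧸ m')) φ.injective _
  have hq : ringExpChar (N ⧸ m') = ringExpChar (E ⧸ m'') := ringExpChar.eq _ _
  refine ⟨n, c, ?_⟩
  rw [hq]
  have h2 := congrArg φ hc
  rw [map_pow, RingEquiv.apply_symm_apply] at h2
  rw [← h2]
  simp only [RingHom.comp_apply]
  show Ideal.Quotient.mk m' (algebraMap C N c) = φ (Ideal.Quotient.mk m'' (algebraMap C E c))
  rw [Ideal.quotientEquiv_mk]
  congr 1
  exact (ψ.commutes c).symm

theorem geomUnibranch_of_cover (B E : Type u) [CommRing B] [IsLocalRing B] [CommRing E] [IsDomain E]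
    [IsIntegrallyClosed E] [IsLocalRing E] [Algebra B E] [Algebra.IsIntegral B E]
    (hker : ∀ b : B, algebraMap B E b = 0 → IsNilpotent b)
    (hfrac : ∀ e : E, ∃ b c : B, algebraMap B E c ≠ 0 ∧ algebraMap B E c * e = algebraMap B E b)
    (hpi : PIcond B E) : CAlg2.IsGeomUnibranch B := by
  letI algCE : Algebra (CAlg2.red B) E :=
    (Ideal.Quotient.lift (nilradical B) (algebraMap B E)
      (fun b hb => IsNilpotent.eq_zero ((mem_nilradical.1 hb).map _))).toAlgebra
  haveI : IsScalarTower B (CAlg2.red B) E := IsScalarTower.of_algebraMap_eq (fun b => rfl)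
  have hinj : Function.Injective (algebraMap (CAlg2.red B) E) := by
    rw [injective_iff_map_eq_zero]
    intro c hc
    obtain ⟨b, rfl⟩ := Ideal.Quotient.mk_surjective c
    have : algebraMap B E b = 0 := hc
    exact Ideal.Quotient.eq_zero_iff_mem.2 (mem_nilradical.2 (hker b this))
  haveI : IsDomain (CAlg2.red B) := Function.Injective.isDomain (algebraMap (CAlg2.red B) E) hinj
  haveI : Algebra.IsIntegral (CAlg2.red B) E := Algebra.IsIntegral.tower_top (R := B)
  have hfrac' : ∀ e : E, ∃ b c : CAlg2.red B, c ≠ 0 ∧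
      algebraMap (CAlg2.red B) E c * e = algebraMap (CAlg2.red B) E b := by
    intro e
    obtain ⟨b, c, hc, h⟩ := hfrac e
    refine ⟨Ideal.Quotient.mk _ b, Ideal.Quotient.mk _ c, ?_, h⟩
    intro h0
    apply hc
    have : algebraMap B E c = algebraMap (CAlg2.red B) E (Ideal.Quotient.mk _ c) := rfl
    rw [this, h0, map_zero]
  obtain ⟨ψ⟩ := nonempty_algEquiv hinj hfrac'
  rw [geomUnibranch_iff]
  refine ⟨⟨inferInstance, ψ.toRingEquiv.isLocalRing⟩, ?_⟩
  apply picond_transfer ψ
  intro m' hm' x
  obtain ⟨n, b, hb⟩ := hpi m' x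
  exact ⟨n, Ideal.Quotient.mk _ b, hb⟩

end Groth.Agent.Helper2.SmGU1
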