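import Mathlib
import Groth.Prelude
import Groth.Agent.Helper2.SmGU1
import Groth.Agent.Helper6.TensorLocal
import Groth.Agent.Helper5.SmNorm5
set_option autoImplicit false
universe u
open IsLocalRing TensorProduct

/-! Smooth algebras over a geometrically unibranch local ring are geometrically unibranch at primes
over the closed point. -/

namespace Groth.Agent.Helper2.SmGU2

open Groth.Agent.Helper2.Unibr6

/-- a normal domain is a normal ring. -/
theorem isNormalRing_of_isIntegrallyClosed (N : Type u) [CommRing N] [IsDomain N]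
    [IsIntegrallyClosed N] : EGA4.IsNormalRing N := by
  intro q hq
  exact ⟨inferInstance, isIntegrallyClosed_of_isLocalization _ q.primeCompl q.primeCompl_le_nonZeroDivisors⟩

/-- a local localization of a normal ring is a normal domain. -/
theorem normal_of_isLocalization (T E : Type u) [CommRing T] [CommRing E] [IsLocalRing E]
    [Algebra T E] (M : Submonoid T) [IsLocalization M E] (hT : EGA4.IsNormalRing T) :
    IsDomain E ∧ IsIntegrallyClosed E := by
  haveI : IsLocalization.AtPrime E (maximalIdeal E) :=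
    IsLocalization.self (fun x hx => by
      by_contra h
      exact hx ((mem_maximalIdeal x).2 h))
  haveI h1 : IsLocalization.AtPrime E ((maximalIdeal E).comap (algebraMap T E)) :=
    IsLocalization.isLocalization_isLocalization_atPrime_isLocalization M E (maximalIdeal E)
  set Q := (maximalIdeal E).comap (algebraMap T E) with hQ
  obtain ⟨hd, hic⟩ := hT Q
  let e : Localization.AtPrime Q ≃ₐ[T] E := IsLocalization.algEquiv Q.primeCompl _ _
  haveI := hd
  haveI := hic
  haveI : IsDomain E := e.toRingEquiv.toMulEquiv.isDomain_iff.1 hd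
  exact ⟨inferInstance, IsIntegrallyClosed.of_equiv e.toRingEquiv⟩

theorem algebraMap_red_normRed_injective (A : Type u) [CommRing A] :
    Function.Injective (algebraMap (CAlg2.red A) (CAlg2.normRed A)) := by
  intro a b hab
  have := congrArg (algebraMap (CAlg2.normRed A) (FractionRing (CAlg2.red A))) hab
  rw [← IsScalarTower.algebraMap_apply, ← IsScalarTower.algebraMap_apply] at this
  exact IsFractionRing.injective (CAlg2.red A) (FractionRing (CAlg2.red A)) this

theorem isNilpotent_of_mem_smul_top (A B : Type u) [CommRing A] [CommRing B] [Algebra A B] (b : B)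
    (hb : b ∈ (nilradical A • ⊤ : Submodule A B)) : IsNilpotent b := by
  refine Submodule.smul_induction_on hb ?_ ?_
  · intro a ha b' _
    rw [Algebra.smul_def]
    exact (Commute.all _ b').isNilpotent_mul_right ((mem_nilradical.1 ha).map (algebraMap A B))
  · intro x y hx hy
    exact Commute.isNilpotent_add (Commute.all x y) hx hy

theorem mem_of_tmul_eq_zero (A B : Type u) [CommRing A] [CommRing B] [Algebra A B]
    [Module.Flat A B] (b : B) (h : (1 : CAlg2.normRed A) ⊗ₜ[A] b = 0) :
    b ∈ (nilradical A • ⊤ : Submodule A B) := by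
  let j : CAlg2.red A →ₗ[A] CAlg2.normRed A :=
    (IsScalarTower.toAlgHom A (CAlg2.red A) (CAlg2.normRed A)).toLinearMap
  have hj : Function.Injective (j.rTensor B) :=
    Module.Flat.rTensor_preserves_injective_linearMap j (algebraMap_red_normRed_injective A)
  have h1 : (1 : CAlg2.red A) ⊗ₜ[A] b = 0 := by
    apply hj
    rw [map_zero, LinearMap.rTensor_tmul]
    show (algebraMap (CAlg2.red A) (CAlg2.normRed A) 1) ⊗ₜ[A] b = 0
    rw [map_one, h]
  have h2 := congrArg (TensorProduct.quotTensorEquivQuotSMul B (nilradical A)) h1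
  rw [TensorProduct.quotTensorEquivQuotSMul_mk_one_tmul, map_zero,
    Submodule.Quotient.mk_eq_zero] at h2
  exact h2

theorem isNilpotent_of_tmul_eq_zero (A B : Type u) [CommRing A] [CommRing B] [Algebra A B]
    [Module.Flat A B] (b : B) (h : (1 : CAlg2.normRed A) ⊗ₜ[A] b = 0) : IsNilpotent b :=
  isNilpotent_of_mem_smul_top A B b (mem_of_tmul_eq_zero A B b h)

theorem exists_den (A : Type u) [CommRing A] [IsDomain (CAlg2.red A)] (n : CAlg2.normRed A) :
    ∃ a a' : A, algebraMap A (CAlg2.normRed A) a ≠ 0 ∧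
      algebraMap A (CAlg2.normRed A) a * n = algebraMap A (CAlg2.normRed A) a' := by
  obtain ⟨⟨d', d⟩, h⟩ := IsLocalization.surj (nonZeroDivisors (CAlg2.red A))
    (n : FractionRing (CAlg2.red A))
  obtain ⟨a, ha⟩ := Ideal.Quotient.mk_surjective (d : CAlg2.red A)
  obtain ⟨a', ha'⟩ := Ideal.Quotient.mk_surjective d'
  have e1 : ∀ x : A, algebraMap A (CAlg2.normRed A) x =
      algebraMap (CAlg2.red A) (CAlg2.normRed A) (Ideal.Quotient.mk _ x) := fun x =>
    IsScalarTower.algebraMap_apply A (CAlg2.red A) (CAlg2.normRed A) x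
  refine ⟨a, a', ?_, ?_⟩
  · rw [e1, ha]
    exact (map_ne_zero_iff _ (algebraMap_red_normRed_injective A)).2 (nonZeroDivisors.ne_zero d.2)
  · rw [e1, e1, ha, ha']
    apply Subtype.ext
    simp only [] at h
    rw [mul_comm] at h
    exact h

theorem exists_frac (A B : Type u) [CommRing A] [CommRing B] [Algebra A B] [IsDomain (CAlg2.red A)]
    [IsDomain (CAlg2.normRed A ⊗[A] B)]
    (hinj : Function.Injective (algebraMap (CAlg2.normRed A) (CAlg2.normRed A ⊗[A] B)))
    (e : CAlg2.normRed A ⊗[A] B) :
    ∃ b c : B, (1 : CAlg2.normRed A) ⊗ₜ[A] c ≠ 0 ∧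
      ((1 : CAlg2.normRed A) ⊗ₜ[A] c) * e = (1 : CAlg2.normRed A) ⊗ₜ[A] b := by
  induction e using TensorProduct.induction_on with
  | zero =>
    refine ⟨0, 1, ?_, by simp⟩
    exact one_ne_zero (α := CAlg2.normRed A ⊗[A] B)
  | tmul n b₀ =>
    obtain ⟨a, a', ha, haa'⟩ := exists_den A n
    have key : ∀ x : A, (1 : CAlg2.normRed A) ⊗ₜ[A] (algebraMap A B x) =
        (algebraMap A (CAlg2.normRed A) x) ⊗ₜ[A] (1 : B) := by
      intro x
      rw [Algebra.algebraMap_eq_smul_one, Algebra.algebraMap_eq_smul_one, TensorProduct.smul_tmul]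
    refine ⟨a' • b₀, algebraMap A B a, ?_, ?_⟩
    · rw [key]
      have : (algebraMap A (CAlg2.normRed A) a) ⊗ₜ[A] (1 : B) =
          algebraMap (CAlg2.normRed A) (CAlg2.normRed A ⊗[A] B) (algebraMap A (CAlg2.normRed A) a) := rfl
      rw [this]
      exact (map_ne_zero_iff _ hinj).2 ha
    · rw [key, Algebra.TensorProduct.tmul_mul_tmul, haa', one_mul,
        Algebra.algebraMap_eq_smul_one, TensorProduct.smul_tmul]
  | add e₁ e₂ h₁ h₂ =>
    obtain ⟨b₁, c₁, hc₁, h₁⟩ := h₁
    obtain ⟨b₂, c₂, hc₂, h₂⟩ := h₂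
    refine ⟨c₂ * b₁ + c₁ * b₂, c₁ * c₂, ?_, ?_⟩
    · have : (1 : CAlg2.normRed A) ⊗ₜ[A] (c₁ * c₂) =
          ((1 : CAlg2.normRed A) ⊗ₜ[A] c₁) * ((1 : CAlg2.normRed A) ⊗ₜ[A] c₂) := by
        rw [Algebra.TensorProduct.tmul_mul_tmul, one_mul]
      rw [this]
      exact mul_ne_zero hc₁ hc₂
    · have e1 : (1 : CAlg2.normRed A) ⊗ₜ[A] (c₁ * c₂) =
          ((1 : CAlg2.normRed A) ⊗ₜ[A] c₁) * ((1 : CAlg2.normRed A) ⊗ₜ[A] c₂) := by
        rw [Algebra.TensorProduct.tmul_mul_tmul, one_mul]
      have e2 : (1 : CAlg2.normRed A) ⊗ₜ[A] (c₂ * b₁ + c₁ * b₂) =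
          ((1 : CAlg2.normRed A) ⊗ₜ[A] c₂) * ((1 : CAlg2.normRed A) ⊗ₜ[A] b₁) +
          ((1 : CAlg2.normRed A) ⊗ₜ[A] c₁) * ((1 : CAlg2.normRed A) ⊗ₜ[A] b₂) := by
        rw [Algebra.TensorProduct.tmul_mul_tmul, Algebra.TensorProduct.tmul_mul_tmul, one_mul,
          TensorProduct.tmul_add]
      rw [e1, e2, ← h₁, ← h₂]
      ring

section Main

variable (A R' : Type u) [CommRing A] [IsLocalRing A] [CommRing R'] [Algebra A R']
  (p : Ideal R') [p.IsPrime]

theorem isLocalHom_atPrime (hp : (maximalIdeal A).map (algebraMap A R') ≤ p) :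
    IsLocalHom (algebraMap A (Localization.AtPrime p)) := by
  constructor
  intro a ha
  by_contra hna
  have h1 : a ∈ maximalIdeal A := hna
  have h2 : algebraMap A R' a ∈ p := hp (Ideal.mem_map_of_mem _ h1)
  have h3 : algebraMap R' (Localization.AtPrime p) (algebraMap A R' a) ∈
      maximalIdeal (Localization.AtPrime p) :=
    (IsLocalization.AtPrime.to_map_mem_maximal_iff _ p _).2 h2
  rw [← IsScalarTower.algebraMap_apply] at h3
  exact h3 ha

attribute [local instance] Algebra.TensorProduct.rightAlgebra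

variable [Algebra.Smooth A R']

theorem main (hp : (maximalIdeal A).map (algebraMap A R') ≤ p) (hA : CAlg2.IsGeomUnibranch A) :
    CAlg2.IsGeomUnibranch (Localization.AtPrime p) ∧
      (IsReduced A → IsDomain (Localization.AtPrime p)) := by
  rw [geomUnibranch_iff] at hA
  obtain ⟨⟨hD, hN⟩, hpi⟩ := hA
  haveI := hD
  haveI := hN
  haveI hAB := isLocalHom_atPrime A R' p hp
  haveI : Module.Flat A (Localization.AtPrime p) := Module.Flat.trans A R' _
  haveI : Module.FaithfullyFlat A (Localization.AtPrime p) :=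
    Module.FaithfullyFlat.of_flat_of_isLocalHom
  haveI : FaithfulSMul (CAlg2.red A) (CAlg2.normRed A) :=
    (faithfulSMul_iff_algebraMap_injective _ _).2 (algebraMap_red_normRed_injective A)
  haveI : IsLocalHom (algebraMap (CAlg2.red A) (CAlg2.normRed A)) := inferInstance
  haveI : IsLocalHom (algebraMap A (CAlg2.normRed A)) := by
    rw [IsScalarTower.algebraMap_eq A (CAlg2.red A) (CAlg2.normRed A)]
    exact RingHom.isLocalHom_comp _ _
  haveI : Algebra.IsIntegral A (CAlg2.normRed A) := Algebra.IsIntegral.trans (CAlg2.red A)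
  have hpiA : PIcond A (CAlg2.normRed A) := fun m' hm' x => by
    obtain ⟨n, c, hc⟩ := hpi m' x
    obtain ⟨a, rfl⟩ := Ideal.Quotient.mk_surjective c
    exact ⟨n, a, hc⟩
  haveI : IsPurelyInseparable (ResidueField A) (ResidueField (CAlg2.normRed A)) :=
    (picond_iff A (CAlg2.normRed A)).1 hpiA
  obtain ⟨hEloc, hEhom, hEpi⟩ :=
    Groth.Agent.Helper6.TensorLocal.main A (CAlg2.normRed A) (Localization.AtPrime p)
  haveI := hEloc
  haveI := hEhom
  -- integrality
  haveI hint : Algebra.IsIntegral (Localization.AtPrime p)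
      (CAlg2.normRed A ⊗[A] Localization.AtPrime p) :=
    ⟨fun x => Groth.Agent.Helper6.TensorLocal.includeRight_isIntegral A (CAlg2.normRed A)
      (Localization.AtPrime p) x⟩
  haveI : IsLocalHom (algebraMap (Localization.AtPrime p)
      (CAlg2.normRed A ⊗[A] Localization.AtPrime p)) := hEhom
  -- normality
  haveI : IsIntegrallyClosed (CAlg2.normRed A) :=
    integralClosure.isIntegrallyClosedOfFiniteExtension (FractionRing (CAlg2.red A))
  have hT : EGA4.IsNormalRing (CAlg2.normRed A ⊗[A] R') :=
    (Groth.Agent.Helper5.SmNorm.s1182 (CAlg2.normRed A) (CAlg2.normRed A ⊗[A] R')).1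
      (isNormalRing_of_isIntegrallyClosed _)
  let fTE : (CAlg2.normRed A ⊗[A] R') →ₐ[CAlg2.normRed A]
      (CAlg2.normRed A ⊗[A] Localization.AtPrime p) :=
    Algebra.TensorProduct.map (AlgHom.id (CAlg2.normRed A) (CAlg2.normRed A))
      (IsScalarTower.toAlgHom A R' (Localization.AtPrime p))
  letI algTE : Algebra (CAlg2.normRed A ⊗[A] R') (CAlg2.normRed A ⊗[A] Localization.AtPrime p) :=
    fTE.toRingHom.toAlgebra
  haveI : IsScalarTower (CAlg2.normRed A) (CAlg2.normRed A ⊗[A] R')
      (CAlg2.normRed A ⊗[A] Localization.AtPrime p) := IsScalarTower.of_algHom fTE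
  let M : Submonoid (CAlg2.normRed A ⊗[A] R') := p.primeCompl.map
      (Algebra.TensorProduct.includeRight (R := A) (A := CAlg2.normRed A) (B := R'))
  haveI hloc : IsLocalization M (CAlg2.normRed A ⊗[A] Localization.AtPrime p) :=
    IsLocalization.tensorProduct_tensorProduct_right A (CAlg2.normRed A) p.primeCompl
      (Localization.AtPrime p) (by
        ext r
        simp [RingHom.algebraMap_toAlgebra, fTE])
  obtain ⟨hEd, hEic⟩ := normal_of_isLocalization (CAlg2.normRed A ⊗[A] R')
    (CAlg2.normRed A ⊗[A] Localization.AtPrime p) M hT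
  haveI := hEd
  haveI := hEic
  -- injectivity of N → E
  have hinjN : Function.Injective (algebraMap (CAlg2.normRed A)
      (CAlg2.normRed A ⊗[A] Localization.AtPrime p)) := by
    have h1 := Module.FaithfullyFlat.tensorProduct_mk_injective (A := A)
      (B := Localization.AtPrime p) (CAlg2.normRed A)
    have h2 : (algebraMap (CAlg2.normRed A) (CAlg2.normRed A ⊗[A] Localization.AtPrime p) :
        CAlg2.normRed A → _) =
        (TensorProduct.comm A (Localization.AtPrime p) (CAlg2.normRed A)) ∘
          (TensorProduct.mk A (Localization.AtPrime p) (CAlg2.normRed A) 1) := by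
      funext n
      simp [Algebra.TensorProduct.algebraMap_apply]
    rw [h2]
    exact (TensorProduct.comm A (Localization.AtPrime p) (CAlg2.normRed A)).injective.comp h1
  have halg : ∀ b : Localization.AtPrime p,
      algebraMap (Localization.AtPrime p) (CAlg2.normRed A ⊗[A] Localization.AtPrime p) b =
        (1 : CAlg2.normRed A) ⊗ₜ[A] b := fun b => rfl
  -- purely inseparable residue extension
  have hpiE : PIcond (Localization.AtPrime p) (CAlg2.normRed A ⊗[A] Localization.AtPrime p) := by
    rw [picond_iff]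
    rw [isPurelyInseparable_iff_pow_mem (ResidueField (Localization.AtPrime p))
      (ringExpChar (ResidueField (Localization.AtPrime p)))]
    intro x
    obtain ⟨x, rfl⟩ := residue_surjective x
    obtain ⟨n, b, hnb⟩ := hEpi x
    refine ⟨n, residue _ b, ?_⟩
    rw [← map_pow]
    symm
    show residue _ _ = residue _ ((1 : CAlg2.normRed A) ⊗ₜ[A] b)
    exact Ideal.Quotient.eq.2 hnb
  refine ⟨Groth.Agent.Helper2.SmGU1.geomUnibranch_of_cover (Localization.AtPrime p)
    (CAlg2.normRed A ⊗[A] Localization.AtPrime p) ?_ ?_ hpiE, ?_⟩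
  · intro b hb
    rw [halg] at hb
    exact isNilpotent_of_tmul_eq_zero A (Localization.AtPrime p) b hb
  · intro e
    obtain ⟨b, c, hc, h⟩ := exists_frac A (Localization.AtPrime p) hinjN e
    exact ⟨b, c, hc, h⟩
  · intro hred
    have hinjB : Function.Injective (algebraMap (Localization.AtPrime p)
        (CAlg2.normRed A ⊗[A] Localization.AtPrime p)) := by
      rw [injective_iff_map_eq_zero]
      intro b hb
      rw [halg] at hb
      have h1 := mem_of_tmul_eq_zero A (Localization.AtPrime p) b hb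
      rw [nilradical_eq_zero, Ideal.zero_eq_bot, Submodule.bot_smul] at h1
      exact (Submodule.mem_bot A).1 h1
    exact Function.Injective.isDomain _ hinjB

end Main

end Groth.Agent.Helper2.SmGU2
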