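import Mathlib

universe u

namespace Groth.Agent.Helper2.LemmaF

open Polynomial IntermediateField

/-- Transfer of separability of an element between two base fields, when the coefficients of the
minimal polynomial over the first are available in the second (everything compared in a common
overfield `Ω`). -/
theorem isSeparable_transfer {F₁ F₂ Ω₁ Ω₂ Ω : Type*} [Field F₁] [Field F₂] [Field Ω₁] [Field Ω₂]
    [Field Ω] [Algebra F₁ Ω₁] [Algebra F₂ Ω₂]
    (ι₁ : Ω₁ →+* Ω) (ι₂ : Ω₂ →+* Ω) (g₁ : Ω₁) (g₂ : Ω₂) (hg : ι₁ g₁ = ι₂ g₂)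
    (hsep : IsSeparable F₁ g₁)
    (h : ∀ n, ι₁ (algebraMap F₁ Ω₁ ((minpoly F₁ g₁).coeff n)) ∈
      (ι₂.comp (algebraMap F₂ Ω₂)).range) :
    IsSeparable F₂ g₂ := by
  set P := (minpoly F₁ g₁).map (ι₁.comp (algebraMap F₁ Ω₁)) with hPdef
  have hP : P ∈ Polynomial.lifts (ι₂.comp (algebraMap F₂ Ω₂)) := by
    rw [Polynomial.lifts_iff_coeff_lifts]
    intro n
    rw [hPdef, Polynomial.coeff_map]
    exact h n
  obtain ⟨Q, hQ⟩ := hP
  rw [Polynomial.coe_mapRingHom] at hQ
  have hQsep : Q.Separable := by
    have h1 : (Q.map (ι₂.comp (algebraMap F₂ Ω₂))).Separable := by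
      rw [hQ, hPdef]
      exact Polynomial.Separable.map hsep
    exact (Polynomial.separable_map _).mp h1
  have hQroot : Polynomial.aeval g₂ Q = 0 := by
    apply ι₂.injective
    rw [map_zero, Polynomial.aeval_def, Polynomial.hom_eval₂, ← Polynomial.eval_map, hQ, hPdef,
      Polynomial.eval_map, ← hg, ← Polynomial.hom_eval₂, ← Polynomial.aeval_def, minpoly.aeval,
      map_zero]
  exact hQsep.of_dvd (minpoly.dvd _ _ hQroot)

/-- Variant: the whole first base field is available in the second. -/
theorem isSeparable_transfer' {F₁ F₂ Ω₁ Ω₂ Ω : Type*} [Field F₁] [Field F₂] [Field Ω₁] [Field Ω₂]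
    [Field Ω] [Algebra F₁ Ω₁] [Algebra F₂ Ω₂]
    (ι₁ : Ω₁ →+* Ω) (ι₂ : Ω₂ →+* Ω) (g₁ : Ω₁) (g₂ : Ω₂) (hg : ι₁ g₁ = ι₂ g₂)
    (hsep : IsSeparable F₁ g₁)
    (h : ∀ c : F₁, ι₁ (algebraMap F₁ Ω₁ c) ∈ (ι₂.comp (algebraMap F₂ Ω₂)).range) :
    IsSeparable F₂ g₂ :=
  isSeparable_transfer ι₁ ι₂ g₁ g₂ hg hsep fun _ => h _

/-- Finitary character of `adjoin` over an intermediate field. -/
theorem exists_finset_adjoin {k Ω : Type*} [Field k] [Field Ω] [Algebra k Ω]
    (E : IntermediateField k Ω) (S : Set Ω) (X : Finset Ω)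
    (hX : ∀ x ∈ X, x ∈ IntermediateField.adjoin E S) :
    ∃ T : Finset Ω, (∀ t ∈ T, t ∈ E) ∧
      ∀ x ∈ X, x ∈ IntermediateField.adjoin k ((T : Set Ω) ∪ S) := by
  classical
  induction X using Finset.induction_on with
  | empty => exact ⟨∅, by simp, by simp⟩
  | insert a X ha ih =>
    obtain ⟨T, hT, hTX⟩ := ih fun x hx => hX x (Finset.mem_insert_of_mem hx)
    have ha' : a ∈ (IntermediateField.adjoin E S).restrictScalars k :=
      hX a (Finset.mem_insert_self _ _)
    rw [IntermediateField.restrictScalars_adjoin] at ha'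
    obtain ⟨T₀, hT₀, haT₀⟩ := IntermediateField.exists_finset_of_mem_adjoin ha'
    refine ⟨T ∪ T₀.filter (· ∈ E), ?_, ?_⟩
    · intro t ht
      rcases Finset.mem_union.mp ht with h | h
      · exact hT t h
      · exact (Finset.mem_filter.mp h).2
    · intro x hx
      rcases Finset.mem_insert.mp hx with rfl | hx
      · refine IntermediateField.adjoin.mono k _ _ ?_ haT₀
        intro y hy
        rcases hT₀ hy with h | h
        · left
          simp only [Finset.coe_union, Finset.coe_filter, Set.mem_union, Set.mem_ofPred_eq]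
          right
          exact ⟨hy, h⟩
        · right; exact h
      · refine IntermediateField.adjoin.mono k _ _ ?_ (hTX x hx)
        intro y hy
        rcases hy with h | h
        · left
          simp only [Finset.coe_union, Set.mem_union]
          left; exact h
        · right; exact h


section main

variable (k K : Type u) [Field k] [Field K] [Algebra k K] [Algebra.EssFiniteType k K]

set_option maxHeartbeats 1000000 in
theorem main_aux :
    ∃ (Ω : Type u) (_ : Field Ω) (_ : Algebra k Ω) (_ : Algebra K Ω) (_ : IsScalarTower k K Ω)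
      (k₁ : IntermediateField k Ω) (K₁ : IntermediateField k₁ Ω),
      Module.Finite k k₁ ∧ IsPurelyInseparable k k₁ ∧ Algebra.EssFiniteType k₁ K₁ ∧
        Algebra.FormallySmooth k₁ K₁ ∧ ∀ x : K, algebraMap K Ω x ∈ K₁ := by
  classical
  let Ω := AlgebraicClosure K
  let E : IntermediateField k Ω := perfectClosure k Ω
  obtain ⟨G, hG⟩ := IntermediateField.fg_top k K
  let G' : Finset Ω := G.image (algebraMap K Ω)
  let M : IntermediateField E Ω := IntermediateField.adjoin E (G' : Set Ω)
  haveI : Algebra.EssFiniteType E M :=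
    IntermediateField.essFiniteType_iff.mpr (IntermediateField.fg_adjoin_finset G')
  obtain ⟨s, hs, hsep⟩ := exists_isTranscendenceBasis_and_isSeparable_of_perfectField E M
  let w : s → Ω := fun x => ((x : M) : Ω)
  let s' : Finset Ω := s.image (fun x : M => (x : Ω))
  have hs'w : (s' : Set Ω) = Set.range w := by
    ext y
    simp only [s', w, Finset.coe_image, Set.mem_image, Finset.mem_coe, Set.mem_range,
      Subtype.exists, exists_prop]
  let F : IntermediateField E Ω := IntermediateField.adjoin E (s' : Set Ω)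
  -- Claim A
  have hliftF : IntermediateField.lift (IntermediateField.adjoin E (s : Set M)) = F := by
    rw [IntermediateField.lift_adjoin]
    congr 1
    simp [s']
  have claimA : ∀ g ∈ G', IsSeparable F g := by
    intro g hg
    have hgM : g ∈ M := IntermediateField.subset_adjoin _ _ hg
    have h1 : IsSeparable (IntermediateField.adjoin E (s : Set M)) (⟨g, hgM⟩ : M) :=
      Algebra.IsSeparable.isSeparable _ _
    refine isSeparable_transfer' (algebraMap M Ω) (RingHom.id Ω) (⟨g, hgM⟩ : M) g rfl h1 ?_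
    intro c
    have hc : ((c : M) : Ω) ∈ F := by
      rw [← hliftF]
      exact (IntermediateField.mem_lift (c : M)).mpr c.2
    exact ⟨⟨_, hc⟩, rfl⟩
  -- finitary descent
  have hs'M : ∀ x ∈ s', x ∈ IntermediateField.adjoin E (G' : Set Ω) := by
    intro x hx
    obtain ⟨y, -, rfl⟩ := Finset.mem_image.mp hx
    exact y.2
  obtain ⟨T₁, hT₁E, hT₁⟩ := exists_finset_adjoin E (G' : Set Ω) s' hs'M
  let C : Finset Ω := G'.biUnion fun g => ((minpoly F g).coeffs.image (algebraMap F Ω))
  have hCF : ∀ c ∈ C, c ∈ IntermediateField.adjoin E (s' : Set Ω) := by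
    intro c hc
    obtain ⟨g, -, hc⟩ := Finset.mem_biUnion.mp hc
    obtain ⟨y, -, rfl⟩ := Finset.mem_image.mp hc
    exact y.2
  obtain ⟨T₂, hT₂E, hT₂⟩ := exists_finset_adjoin E (s' : Set Ω) C hCF
  let T : Finset Ω := T₁ ∪ T₂
  have hTE : ∀ t ∈ T, t ∈ E := by
    intro t ht
    rcases Finset.mem_union.mp ht with h | h
    exacts [hT₁E t h, hT₂E t h]
  let k₁ : IntermediateField k Ω := IntermediateField.adjoin k (T : Set Ω)
  have hk₁E : k₁ ≤ E := IntermediateField.adjoin_le_iff.mpr fun t ht => hTE t ht
  haveI hpi : IsPurelyInseparable k k₁ := (le_perfectClosure_iff k Ω k₁).mp hk₁E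
  haveI hfin : Module.Finite k k₁ := by
    apply IntermediateField.finiteDimensional_adjoin
    intro t ht
    have : IsIntegral k (⟨t, hTE t ht⟩ : E) := Algebra.IsIntegral.isIntegral _
    exact (IntermediateField.isIntegral_iff).mp this
  let K₁ : IntermediateField k₁ Ω := IntermediateField.adjoin k₁ (G' : Set Ω)
  let F₂ : IntermediateField k₁ Ω := IntermediateField.adjoin k₁ (s' : Set Ω)
  have hK₁ : K₁.restrictScalars k = IntermediateField.adjoin k ((T : Set Ω) ∪ G') :=
    IntermediateField.adjoin_adjoin_left k _ _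
  have hF₂ : F₂.restrictScalars k = IntermediateField.adjoin k ((T : Set Ω) ∪ s') :=
    IntermediateField.adjoin_adjoin_left k _ _
  have hs'K₁ : ∀ x ∈ s', x ∈ K₁ := by
    intro x hx
    have : x ∈ K₁.restrictScalars k := by
      rw [hK₁]
      refine IntermediateField.adjoin.mono k _ _ ?_ (hT₁ x hx)
      exact Set.union_subset_union_left _ (by simp [T])
    exact this
  have hCF₂ : ∀ c ∈ C, c ∈ F₂ := by
    intro c hc
    have : c ∈ F₂.restrictScalars k := by
      rw [hF₂]
      refine IntermediateField.adjoin.mono k _ _ ?_ (hT₂ c hc)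
      exact Set.union_subset_union_left _ (by simp [T])
    exact this
  have claimB : ∀ g ∈ G', IsSeparable F₂ g := by
    intro g hg
    refine isSeparable_transfer (RingHom.id Ω) (RingHom.id Ω) g g rfl (claimA g hg) ?_
    intro n
    by_cases h0 : (minpoly F g).coeff n = 0
    · rw [h0]; simp
    · have hc : algebraMap F Ω ((minpoly F g).coeff n) ∈ C := by
        refine Finset.mem_biUnion.mpr ⟨g, hg, Finset.mem_image.mpr ⟨_, ?_, rfl⟩⟩
        exact Polynomial.coeff_mem_coeffs h0
      exact ⟨⟨_, hCF₂ _ hc⟩, rfl⟩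
  have claimC : ∀ y ∈ K₁, IsSeparable F₂ y := by
    have hle : K₁ ≤ (separableClosure F₂ Ω).restrictScalars k₁ := by
      refine IntermediateField.adjoin_le_iff.mpr fun g hg => ?_
      exact mem_separableClosure_iff.mpr (claimB g hg)
    intro y hy
    exact mem_separableClosure_iff.mp (hle hy)
  -- the transcendence basis inside K₁
  let v : s → K₁ := fun x => ⟨w x, hs'K₁ _ (Finset.mem_image.mpr ⟨x.1, x.2, rfl⟩)⟩
  have hv : AlgebraicIndependent k₁ v := by
    letI : Algebra k₁ E := (IntermediateField.inclusion hk₁E).toRingHom.toAlgebra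
    haveI : IsScalarTower k₁ E Ω := IsScalarTower.of_algebraMap_eq fun x => rfl
    have h1 : AlgebraicIndependent E w := by
      have := hs.1.map' (f := M.val) M.val.injective
      exact this
    have h2 : AlgebraicIndependent k₁ w :=
      h1.restrictScalars (algebraMap k₁ E).injective
    exact AlgebraicIndependent.of_comp K₁.val h2
  have hliftv : IntermediateField.lift (IntermediateField.adjoin k₁ (Set.range v)) = F₂ := by
    rw [IntermediateField.lift_adjoin]
    congr 1
    rw [hs'w, ← Set.range_comp]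
    rfl
  haveI hsepK₁ : Algebra.IsSeparable (IntermediateField.adjoin k₁ (Set.range v)) K₁ := by
    refine ⟨fun y => ?_⟩
    refine isSeparable_transfer' (RingHom.id Ω) (algebraMap K₁ Ω) (y : Ω) y rfl (claimC y y.2) ?_
    intro c
    have hc : (c : Ω) ∈ IntermediateField.lift (IntermediateField.adjoin k₁ (Set.range v)) := by
      rw [hliftv]; exact c.2
    obtain ⟨c', hc', hcc'⟩ := (IntermediateField.mem_map _).mp hc
    exact ⟨⟨c', hc'⟩, hcc'⟩
  have hsmooth : Algebra.FormallySmooth k₁ K₁ :=
    Algebra.FormallySmooth.of_algebraicIndependent_of_isSeparable hv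
  have hess : Algebra.EssFiniteType k₁ K₁ :=
    IntermediateField.essFiniteType_iff.mpr (IntermediateField.fg_adjoin_finset G')
  refine ⟨Ω, inferInstance, inferInstance, inferInstance, inferInstance, k₁, K₁, hfin, hpi, hess,
    hsmooth, ?_⟩
  intro x
  have hx : x ∈ IntermediateField.adjoin k (G : Set K) := by rw [hG]; trivial
  have h3 : algebraMap K Ω x ∈ (IntermediateField.adjoin k (G : Set K)).map
      (IsScalarTower.toAlgHom k K Ω) := (IntermediateField.mem_map _).mpr ⟨x, hx, rfl⟩
  rw [IntermediateField.adjoin_map] at h3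
  have h4 : algebraMap K Ω x ∈ K₁.restrictScalars k := by
    rw [hK₁]
    refine IntermediateField.adjoin.mono k _ _ ?_ h3
    intro y hy
    right
    simpa [G'] using hy
  exact h4

/-- **Lemma F** (EGA IV 4.6.6): for a finitely generated field extension `K/k` there are a finite
purely inseparable extension `k₁/k` and a finitely generated separable (formally smooth) extension
`K₁/k₁` containing `K` over `k`. -/
theorem exists_fields :
    ∃ (k₁ K₁ : Type u) (_ : Field k₁) (_ : Field K₁) (_ : Algebra k k₁) (_ : Algebra k₁ K₁)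
      (_ : Algebra k K₁) (_ : Algebra K K₁) (_ : IsScalarTower k k₁ K₁) (_ : IsScalarTower k K K₁),
      Module.Finite k k₁ ∧ IsPurelyInseparable k k₁ ∧ Algebra.EssFiniteType k₁ K₁ ∧
        Algebra.FormallySmooth k₁ K₁ := by
  obtain ⟨Ω, _, _, _, _, k₁, K₁, hfin, hpi, hess, hsm, hK⟩ := main_aux k K
  let φ : K →+* K₁ :=
    { toFun := fun x => ⟨algebraMap K Ω x, hK x⟩
      map_one' := Subtype.ext (map_one _)
      map_mul' := fun a b => Subtype.ext (map_mul _ _ _)
      map_zero' := Subtype.ext (map_zero _)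
      map_add' := fun a b => Subtype.ext (map_add _ _ _) }
  letI : Algebra K K₁ := φ.toAlgebra
  haveI : IsScalarTower k K K₁ := IsScalarTower.of_algebraMap_eq fun x =>
    Subtype.ext (IsScalarTower.algebraMap_apply k K Ω x)
  exact ⟨k₁, K₁, inferInstance, inferInstance, inferInstance, inferInstance, inferInstance,
    inferInstance, inferInstance, inferInstance, hfin, hpi, hess, hsm⟩

end main

end Groth.Agent.Helper2.LemmaF
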