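import Mathlib
import Groth.Prelude.Def_Found
import Groth.Agent.Helper2.RegHom

namespace Groth.Agent.Helper2.RegHom2
open IsLocalRing TensorProduct

universe u

theorem isRegularRing_of_smooth_field (K C : Type u) [Field K] [CommRing C] [Algebra K C]
    [Algebra.Smooth K C] : IsRegularRing C := by
  haveI : Algebra.FiniteType K C := inferInstance
  haveI : IsNoetherianRing C := Algebra.FiniteType.isNoetherianRing K C
  rw [isRegularRing_iff]
  intro q hq
  apply Groth.Agent.Helper2.RegSmooth2.isRegularLocalRing_of_isSmoothAt K C q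
  have h : (⟨q, hq⟩ : PrimeSpectrum C) ∈ Algebra.smoothLocus K C := by
    rw [Algebra.smoothLocus_eq_univ]; trivial
  exact h

theorem isRegularHom_of_smooth (A B : Type u) [CommRing A] [CommRing B] [Algebra A B]
    [Algebra.Smooth A B] : CAlg.IsRegularHom A B := by
  refine ⟨inferInstance, fun p hp => ?_⟩
  haveI : Algebra.Smooth p.ResidueField (p.Fiber B) := inferInstance
  refine ⟨Algebra.FiniteType.isNoetherianRing p.ResidueField _, ?_⟩
  intro k' _ _ hfin
  haveI : Algebra.Smooth k' (k' ⊗[p.ResidueField] p.Fiber B) := inferInstance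
  exact isRegularRing_of_smooth_field k' _

end Groth.Agent.Helper2.RegHom2
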