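import Mathlib

namespace Groth.Agent.Helper2.PdDescent
open IsLocalRing CategoryTheory TensorProduct

universe u

variable (R S : Type u) [CommRing R] [CommRing S] [Algebra R S] [IsNoetherianRing R]
  [Module.FaithfullyFlat R S]

/-- finite projective dimension of finite modules descends along faithfully flat maps -/
theorem pdLT_of_pdLT_baseChange :
    ∀ (n : ℕ) (M : Type u) [AddCommGroup M] [Module R M] [Module.Finite R M],
      HasProjectiveDimensionLT (ModuleCat.of S (S ⊗[R] M)) (n + 1) →
      HasProjectiveDimensionLT (ModuleCat.of R M) (n + 1) := by
  intro n
  induction n with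
  | zero =>
    intro M _ _ _ h
    haveI : Projective (ModuleCat.of S (S ⊗[R] M)) :=
      projective_iff_hasProjectiveDimensionLT_one.mpr h
    haveI : Module.Projective S (S ⊗[R] M) := (IsProjective.iff_projective (S ⊗[R] M)).2 inferInstance
    haveI : Module.Flat R M := (Module.Flat.iff_flat_tensorProduct (R := R) (M := M) S).1 inferInstance
    haveI : Module.FinitePresentation R M := Module.finitePresentation_of_finite R M
    haveI : Module.Projective R M := Module.Flat.projective_of_finitePresentation
    haveI : Projective (ModuleCat.of R M) := (IsProjective.iff_projective M).1 inferInstance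
    infer_instance
  | succ n ih =>
    intro M _ _ _ h
    obtain ⟨k, f, hf⟩ := Module.Finite.exists_fin' R M
    have hS : f.shortComplexKer.ShortExact := LinearMap.shortExact_shortComplexKer hf
    have hproj : Projective f.shortComplexKer.X₂ :=
      (IsProjective.iff_projective (Fin k → R)).1 inferInstance
    let ι : LinearMap.ker f →ₗ[R] (Fin k → R) := (LinearMap.ker f).subtype
    have hex : Function.Exact ι f := by
      intro y
      constructor
      · intro hy
        exact ⟨⟨y, hy⟩, rfl⟩
      · rintro ⟨z, rfl⟩
        exact z.2
    have hinj : Function.Injective (ι.baseChange S) :=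
      Module.Flat.lTensor_preserves_injective_linearMap ι (LinearMap.ker f).injective_subtype
    have hsurj : Function.Surjective (f.baseChange S) := LinearMap.lTensor_surjective S hf
    have hexq : Function.Exact (ι.baseChange S) (f.baseChange S) := lTensor_exact S hex hf
    let S' : ShortComplex (ModuleCat.{u} S) :=
      ShortComplex.mk (ModuleCat.ofHom (ι.baseChange S)) (ModuleCat.ofHom (f.baseChange S)) (by
        apply ModuleCat.hom_ext
        apply LinearMap.ext
        intro y
        exact hexq.apply_apply_eq_zero y)
    have hS' : S'.ShortExact :=
      { exact := (ShortComplex.ShortExact.moduleCat_exact_iff_function_exact _).mpr hexq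
        mono_f := (ModuleCat.mono_iff_injective _).mpr hinj
        epi_g := (ModuleCat.epi_iff_surjective _).mpr hsurj }
    have hproj' : Projective S'.X₂ :=
      (IsProjective.iff_projective (S ⊗[R] (Fin k → R))).1 inferInstance
    have h1 : HasProjectiveDimensionLT (ModuleCat.of S (S ⊗[R] LinearMap.ker f)) (n + 1) :=
      (hS'.hasProjectiveDimensionLT_X₃_iff n hproj').mp h
    have h2 := ih (LinearMap.ker f) h1
    exact (hS.hasProjectiveDimensionLT_X₃_iff n hproj).mpr h2

end Groth.Agent.Helper2.PdDescent
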