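import Mathlib
import Groth.Agent.Helper2.SerreC
import Groth.Agent.Helper2.PdDescent
import Groth.Agent.Helper1.RegGlobalDim

namespace Groth.Agent.Helper2.RegDescent
open IsLocalRing CategoryTheory TensorProduct

universe u

/-- regularity descends along flat local homomorphisms -/
theorem isRegularLocalRing_of_flat (R S : Type u) [CommRing R] [IsLocalRing R] [IsNoetherianRing R]
    [CommRing S] [IsRegularLocalRing S] [Algebra R S] [IsLocalHom (algebraMap R S)]
    [Module.Flat R S] : IsRegularLocalRing R := by
  haveI : Module.FaithfullyFlat R S := Module.FaithfullyFlat.of_flat_of_isLocalHom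
  obtain ⟨d, hd⟩ : ∃ d : ℕ, ringKrullDim S = d :=
    ⟨(maximalIdeal S).spanFinrank, (IsRegularLocalRing.spanFinrank_maximalIdeal).symm⟩
  have h1 := Groth.Agent.Helper1.TorLib.hasProjectiveDimensionLT_of_isRegularLocalRing d hd
    (ModuleCat.of S (S ⊗[R] ResidueField R))
  have h2 := Groth.Agent.Helper2.PdDescent.pdLT_of_pdLT_baseChange R S d (ResidueField R) h1
  exact Groth.Agent.Helper2.SerreC.isRegularLocalRing_of_pdLT R (d + 1) h2

/-- regularity descends along faithfully flat ring maps -/
theorem isRegularRing_of_faithfullyFlat (R S : Type u) [CommRing R] [CommRing S]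
    [Algebra R S] [Module.FaithfullyFlat R S] [IsRegularRing S] : IsRegularRing R := by
  haveI : IsNoetherianRing R := by
    have h : IsNoetherian S (S ⊗[R] R) :=
      isNoetherian_of_linearEquiv (TensorProduct.AlgebraTensorModule.rid R S S).symm
    exact Submodule.IsNoetherian.of_isNoetherian_tensorProduct_of_faithfullyFlat h
  rw [isRegularRing_iff]
  intro p hp
  obtain ⟨q, hq⟩ := PrimeSpectrum.comap_surjective_of_faithfullyFlat (B := S) ⟨p, hp⟩
  haveI : q.asIdeal.LiesOver p := ⟨by
    have := congrArg PrimeSpectrum.asIdeal hq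
    exact this.symm⟩
  letI := Localization.AtPrime.algebraOfLiesOver p q.asIdeal
  haveI : IsLocalHom (algebraMap (Localization.AtPrime p) (Localization.AtPrime q.asIdeal)) :=
    Localization.isLocalHom_localRingHom _ _ _ Ideal.LiesOver.over
  exact isRegularLocalRing_of_flat (Localization.AtPrime p) (Localization.AtPrime q.asIdeal)

end Groth.Agent.Helper2.RegDescent
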