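import Mathlib
import Groth.Agent.Helper2.RegDescent

namespace Groth.Agent.Helper2.RkDescent
open IsLocalRing TensorProduct

universe u

theorem isNoetherianRing_of_faithfullyFlat (R S : Type u) [CommRing R] [CommRing S]
    [Algebra R S] [Module.FaithfullyFlat R S] [IsNoetherianRing S] : IsNoetherianRing R := by
  have h : IsNoetherian S (S ⊗[R] R) :=
    isNoetherian_of_linearEquiv (TensorProduct.AlgebraTensorModule.rid R S S).symm
  exact Submodule.IsNoetherian.of_isNoetherian_tensorProduct_of_faithfullyFlat h

/-- for faithfully flat `R → S` with `S` noetherian and `p` a prime of `R` there is a prime `q` of `S`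
over `p` minimal over `pS`, and `ht q ≤ ht p`. -/
theorem exists_liesOver_minimal (R S : Type u) [CommRing R] [CommRing S]
    [Algebra R S] [Module.FaithfullyFlat R S] [IsNoetherianRing S] (p : Ideal R) [hp : p.IsPrime] :
    ∃ q : Ideal S, q.IsPrime ∧ q.LiesOver p ∧ q ∈ (p.map (algebraMap R S)).minimalPrimes ∧
      q.height ≤ p.height := by
  haveI := isNoetherianRing_of_faithfullyFlat R S
  obtain ⟨q', hq'⟩ := PrimeSpectrum.comap_surjective_of_faithfullyFlat (B := S) ⟨p, hp⟩
  have hq'p : q'.asIdeal.comap (algebraMap R S) = p := congrArg PrimeSpectrum.asIdeal hq'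
  have hle : p.map (algebraMap R S) ≤ q'.asIdeal := by
    rw [Ideal.map_le_iff_le_comap, hq'p]
  obtain ⟨q, hqmin, hqle⟩ := Ideal.exists_minimalPrimes_le hle
  haveI hqprime : q.IsPrime := hqmin.1.1
  have hover : q.LiesOver p := ⟨by
    apply le_antisymm
    · rw [Ideal.under_def, ← Ideal.map_le_iff_le_comap]; exact hqmin.1.2
    · rw [Ideal.under_def]
      calc q.comap (algebraMap R S) ≤ q'.asIdeal.comap (algebraMap R S) := Ideal.comap_mono hqle
        _ = p := hq'p⟩
  refine ⟨q, hqprime, hover, hqmin, ?_⟩
  have h1 := Ideal.height_le_height_add_of_liesOver p q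
  have hker : RingHom.ker (Ideal.Quotient.mk (p.map (algebraMap R S))) ≤ q := by
    rw [Ideal.mk_ker]; exact hqmin.1.2
  haveI : (q.map (Ideal.Quotient.mk (p.map (algebraMap R S)))).IsPrime :=
    Ideal.map_isPrime_of_surjective Ideal.Quotient.mk_surjective hker
  have h2 : (q.map (Ideal.Quotient.mk (p.map (algebraMap R S)))).height = 0 := by
    rw [Ideal.height_eq_zero_iff]
    have h3 := hqmin
    rw [Ideal.minimalPrimes_eq_comap] at h3
    obtain ⟨P, hP, hPq⟩ := h3
    rw [← hPq, Ideal.map_comap_of_surjective _ Ideal.Quotient.mk_surjective]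
    exact hP
  rw [h2, add_zero] at h1
  exact h1

/-- `(R_k)` descends along faithfully flat ring maps -/
theorem main (k : ℕ) (R : Type u) [CommRing R] (S : Type u) [CommRing S]
    [Algebra R S] [Module.FaithfullyFlat R S] [IsNoetherianRing S]
    (hS : ∀ (q : Ideal S) [q.IsPrime], q.height ≤ k → IsRegularLocalRing (Localization.AtPrime q)) :
    IsNoetherianRing R ∧
      ∀ (p : Ideal R) [p.IsPrime], p.height ≤ k → IsRegularLocalRing (Localization.AtPrime p) := by
  haveI := isNoetherianRing_of_faithfullyFlat R S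
  refine ⟨inferInstance, ?_⟩
  intro p hp hpk
  obtain ⟨q, hq, hover, -, hqh⟩ := exists_liesOver_minimal R S p
  haveI := hS q (hqh.trans hpk)
  letI := Localization.AtPrime.algebraOfLiesOver p q
  haveI : IsLocalHom (algebraMap (Localization.AtPrime p) (Localization.AtPrime q)) :=
    Localization.isLocalHom_localRingHom _ _ _ Ideal.LiesOver.over
  exact Groth.Agent.Helper2.RegDescent.isRegularLocalRing_of_flat
    (Localization.AtPrime p) (Localization.AtPrime q)

end Groth.Agent.Helper2.RkDescent
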