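import Mathlib
import Groth.Prelude.Def_Found
import Groth.Agent.Helper2.RegHom2
import Groth.Agent.Helper2.RkDescent

namespace Groth.Agent.Helper2.RkSmooth
open IsLocalRing TensorProduct

universe u

section
variable (R S : Type u) [CommRing R] [CommRing S] [Algebra R S]

/-- pointwise key local statement -/
theorem key' [IsNoetherianRing R] [IsNoetherianRing S] [Module.Flat R S]
    (p : Ideal R) [p.IsPrime] [IsRegularLocalRing (Localization.AtPrime p)]
    (hF : IsRegularRing (p.Fiber S))
    (q : Ideal (p.Fiber S)) [q.IsPrime] :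
    IsRegularLocalRing (Localization.AtPrime
      (q.comap (Algebra.TensorProduct.includeRight : S →ₐ[R] p.Fiber S))) := by
  set r := q.comap (Algebra.TensorProduct.includeRight : S →ₐ[R] p.Fiber S) with hr
  letI := Localization.AtPrime.algebraOfLiesOver p r
  have e := Ideal.Fiber.localizationAlgEquivQuotient p q
  haveI : IsLocalHom (algebraMap (Localization.AtPrime p) (Localization.AtPrime r)) :=
    Localization.isLocalHom_localRingHom _ _ _ Ideal.LiesOver.over
  have hmap : (maximalIdeal (Localization.AtPrime p)).map
      (algebraMap (Localization.AtPrime p) (Localization.AtPrime r)) =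
      p.map (algebraMap R (Localization.AtPrime r)) := by
    rw [← Localization.AtPrime.map_eq_maximalIdeal, Ideal.map_map,
      ← IsScalarTower.algebraMap_eq]
  have hreg : IsRegularLocalRing (Localization.AtPrime q) := inferInstance
  apply Groth.Agent.Helper2.RegFlat.isRegularLocalRing_of_flat_of_fibre
    (A := Localization.AtPrime p) (B := Localization.AtPrime r)
  rw [hmap]
  exact IsRegularLocalRing.of_ringEquiv (R := Localization.AtPrime q) e.toRingEquiv

/-- pointwise: regular hom, `R_p` regular at `p = r ∩ R` implies `S_r` regular. -/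
theorem isRegularLocalRing_of_isRegularHom [IsNoetherianRing R] [IsNoetherianRing S]
    (h : CAlg.IsRegularHom R S) (r : Ideal S) [hr : r.IsPrime]
    (hp : IsRegularLocalRing (Localization.AtPrime (r.comap (algebraMap R S)))) :
    IsRegularLocalRing (Localization.AtPrime r) := by
  obtain ⟨hflat, hfib⟩ := h
  let p := r.comap (algebraMap R S)
  haveI : p.IsPrime := Ideal.comap_isPrime _ _
  obtain ⟨hN, hgr⟩ := hfib p
  have hregF : IsRegularRing (p.Fiber S) :=
    Groth.Agent.Helper2.RegHom.isRegularRing_of_isGeometricallyRegular _ _ hgr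
  let q := PrimeSpectrum.preimageEquivFiber R S ⟨p, inferInstance⟩ ⟨⟨r, hr⟩, rfl⟩
  have hq : q.asIdeal.comap (Algebra.TensorProduct.includeRight : S →ₐ[R] p.Fiber S) = r := by
    have := (PrimeSpectrum.preimageEquivFiber R S ⟨p, inferInstance⟩).left_inv ⟨⟨r, hr⟩, rfl⟩
    exact congrArg (fun x => x.1.asIdeal) this
  haveI : IsRegularLocalRing (Localization.AtPrime p) := hp
  exact Groth.Agent.Helper2.RegHom.transport hq (key' R S p hregF q.asIdeal)

/-- `(R_k)` ascends along regular homomorphisms -/
theorem hasRk_of_isRegularHom [IsNoetherianRing R] [IsNoetherianRing S]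
    (h : CAlg.IsRegularHom R S) (k : ℕ)
    (hR : ∀ (p : Ideal R) [p.IsPrime], p.height ≤ k → IsRegularLocalRing (Localization.AtPrime p)) :
    ∀ (q : Ideal S) [q.IsPrime], q.height ≤ k → IsRegularLocalRing (Localization.AtPrime q) := by
  intro q hq hqk
  haveI : Module.Flat R S := h.1
  haveI : q.LiesOver (q.comap (algebraMap R S)) := ⟨rfl⟩
  have hht : (q.comap (algebraMap R S)).height ≤ q.height := by
    rw [Ideal.height_eq_height_add_of_liesOver_of_hasGoingDown (q.comap (algebraMap R S)) q]
    exact le_self_add
  exact isRegularLocalRing_of_isRegularHom R S h q (hR _ (hht.trans hqk))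

end

end Groth.Agent.Helper2.RkSmooth
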