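import Mathlib
import Groth.Prelude.Def_Found
import Groth.Agent.Helper2.RkSmooth

namespace Groth.Agent.Helper2.RegComp
open IsLocalRing TensorProduct

universe u

section
variable (R S : Type u) [CommRing R] [CommRing S] [Algebra R S]

/-- pointwise: flat, `R_p` regular at `p = r ∩ R` and regular fibre over `p` imply `S_r` regular. -/
theorem isRegularLocalRing_of_fiber [IsNoetherianRing R] [IsNoetherianRing S] [Module.Flat R S]
    (r : Ideal S) [hr : r.IsPrime]
    (hp : IsRegularLocalRing (Localization.AtPrime (r.comap (algebraMap R S))))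
    (hregF : IsRegularRing ((r.comap (algebraMap R S)).Fiber S)) :
    IsRegularLocalRing (Localization.AtPrime r) := by
  let p := r.comap (algebraMap R S)
  haveI : p.IsPrime := Ideal.comap_isPrime _ _
  let q := PrimeSpectrum.preimageEquivFiber R S ⟨p, inferInstance⟩ ⟨⟨r, hr⟩, rfl⟩
  have hq : q.asIdeal.comap (Algebra.TensorProduct.includeRight : S →ₐ[R] p.Fiber S) = r := by
    have := (PrimeSpectrum.preimageEquivFiber R S ⟨p, inferInstance⟩).left_inv ⟨⟨r, hr⟩, rfl⟩
    exact congrArg (fun x => x.1.asIdeal) this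
  haveI : IsRegularLocalRing (Localization.AtPrime p) := hp
  exact Groth.Agent.Helper2.RegHom.transport hq
    (Groth.Agent.Helper2.RkSmooth.key' R S p hregF q.asIdeal)

end

section Pushout
variable (B C B' C' : Type u) [CommRing B] [CommRing C] [CommRing B'] [CommRing C']
  [Algebra B C] [Algebra B B'] [Algebra B' C'] [Algebra C C'] [Algebra B C']
  [IsScalarTower B B' C'] [IsScalarTower B C C'] [Algebra.IsPushout B C B' C']

/-- the fibre of `B' → C'` over `q'` as a base change of the fibre of `B → C`. -/
theorem fiber_ringEquiv (q' : Ideal B') [q'.IsPrime] :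
    letI := Localization.AtPrime.algebraOfLiesOver (q'.under B) q'
    IsRegularRing (q'.ResidueField ⊗[(q'.under B).ResidueField] ((q'.under B).Fiber C)) →
      IsRegularRing (q'.Fiber C') := by
  letI := Localization.AtPrime.algebraOfLiesOver (q'.under B) q'
  let κ := (q'.under B).ResidueField
  let κ' := q'.ResidueField
  let e1 : κ' ⊗[κ] (κ ⊗[B] C) ≃ₐ[κ'] κ' ⊗[B] C :=
    Algebra.TensorProduct.cancelBaseChange B κ κ' κ' C
  let e2 : κ' ⊗[B] C ≃ₐ[B] C ⊗[B] κ' := Algebra.TensorProduct.comm B κ' C
  let e3 : C' ⊗[B'] κ' ≃ₐ[C] C ⊗[B] κ' := Algebra.IsPushout.cancelBaseChangeAlg B C B' C' κ'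
  let e4 : κ' ⊗[B'] C' ≃ₐ[B'] C' ⊗[B'] κ' := Algebra.TensorProduct.comm B' κ' C'
  intro h
  exact IsRegularRing.of_ringEquiv
    ((e1.toRingEquiv.trans e2.toRingEquiv).trans (e3.toRingEquiv.symm.trans e4.toRingEquiv.symm))

/-- base change of a regular homomorphism along a quasi-finite map to a regular ring
gives a regular ring -/
theorem isRegularRing_of_pushout (hBC : CAlg.IsRegularHom B C) [IsRegularRing B']
    [IsNoetherianRing C'] [Algebra.QuasiFinite B B'] : IsRegularRing C' := by
  haveI : Module.Flat B C := hBC.1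
  haveI : Module.Flat B' C' := by
    have hpo : Algebra.IsPushout B B' C C' := Algebra.IsPushout.symm inferInstance
    exact Module.Flat.isBaseChange (R := B) (S := B') (M := C) (N := C') hpo.out
  rw [isRegularRing_iff]
  intro Q hQ
  apply isRegularLocalRing_of_fiber B' C' Q
  · infer_instance
  · set q' := Q.comap (algebraMap B' C') with hq'
    letI := Localization.AtPrime.algebraOfLiesOver (q'.under B) q'
    have hfin : Module.Finite (q'.under B).ResidueField q'.ResidueField := inferInstance
    exact fiber_ringEquiv B C B' C' q' ((hBC.2 (q'.under B)).2 q'.ResidueField hfin)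

end Pushout

section Comp
variable (A B C : Type u) [CommRing A] [CommRing B] [CommRing C]
    [Algebra A B] [Algebra B C] [Algebra A C] [IsScalarTower A B C]

theorem regular_baseChange_finite (p : Ideal A) [p.IsPrime] (k' : Type u) [Field k']
    [Algebra p.ResidueField k'] [Algebra A k'] [IsScalarTower A p.ResidueField k']
    [Module.Finite p.ResidueField k']
    (hAB : CAlg.IsRegularHom A B) (hBC : CAlg.IsRegularHom B C) [IsNoetherianRing (p.Fiber C)] :
    IsRegularRing (k' ⊗[p.ResidueField] (p.Fiber C)) := by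
  -- (a)
  haveI hB'' : IsRegularRing (B ⊗[A] k') := by
    haveI : IsRegularRing (k' ⊗[p.ResidueField] (p.Fiber B)) := (hAB.2 p).2 k' inferInstance
    exact IsRegularRing.of_ringEquiv
      ((Algebra.TensorProduct.cancelBaseChange A p.ResidueField k' k' B).toRingEquiv.trans
        (Algebra.TensorProduct.comm A k' B).toRingEquiv)
  -- (b)
  have eC : (k' ⊗[p.ResidueField] (p.Fiber C)) ≃+* (C ⊗[A] k') :=
    (Algebra.TensorProduct.cancelBaseChange A p.ResidueField k' k' C).toRingEquiv.trans
        (Algebra.TensorProduct.comm A k' C).toRingEquiv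
  haveI hC'' : IsNoetherianRing (C ⊗[A] k') := by
    haveI : IsNoetherianRing ((p.Fiber C) ⊗[p.ResidueField] k') :=
      IsNoetherianRing.of_finite (p.Fiber C) _
    have e1 : ((p.Fiber C) ⊗[p.ResidueField] k') ≃+* (k' ⊗[p.ResidueField] (p.Fiber C)) :=
      (Algebra.TensorProduct.comm p.ResidueField (p.Fiber C) k').toRingEquiv
    exact isNoetherianRing_of_ringEquiv _ (e1.trans eC)
  -- (c)
  letI : Algebra (B ⊗[A] k') (C ⊗[A] k') :=
    (Algebra.TensorProduct.map (IsScalarTower.toAlgHom A B C) (AlgHom.id A k')).toRingHom.toAlgebra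
  haveI : IsScalarTower B (B ⊗[A] k') (C ⊗[A] k') := by
    refine IsScalarTower.of_algebraMap_eq (R := B) (S := B ⊗[A] k') (A := C ⊗[A] k') (fun x => ?_)
    rw [RingHom.algebraMap_toAlgebra
      (Algebra.TensorProduct.map (IsScalarTower.toAlgHom A B C) (AlgHom.id A k')).toRingHom]
    simp only [Algebra.TensorProduct.algebraMap_apply, AlgHom.toRingHom_eq_coe, RingHom.coe_coe,
      Algebra.TensorProduct.map_tmul, map_one]
    rfl
  haveI hpo : Algebra.IsPushout B C (B ⊗[A] k') (C ⊗[A] k') :=
    Algebra.IsPushout.tensorProduct_tensorProduct A k' B C (by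
      ext c
      simp [RingHom.algebraMap_toAlgebra])
  -- (d)
  haveI : Algebra.QuasiFinite A k' := Algebra.QuasiFinite.trans A p.ResidueField k'
  haveI : Algebra.QuasiFinite B (B ⊗[A] k') := inferInstance
  -- (e)
  haveI := isRegularRing_of_pushout B C (B ⊗[A] k') (C ⊗[A] k') hBC
  exact IsRegularRing.of_ringEquiv eC.symm

/-- composition of regular homomorphisms -/
theorem isRegularHom_comp (hAB : CAlg.IsRegularHom A B) (hBC : CAlg.IsRegularHom B C)
    (hN : ∀ (p : Ideal A) [p.IsPrime], IsNoetherianRing (p.Fiber C)) :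
    CAlg.IsRegularHom A C := by
  haveI := hAB.1
  haveI := hBC.1
  refine ⟨Module.Flat.trans A B C, fun p hp => ⟨hN p, ?_⟩⟩
  intro k' _ _ hfin
  letI : Algebra A k' := ((algebraMap p.ResidueField k').comp (algebraMap A p.ResidueField)).toAlgebra
  haveI : IsScalarTower A p.ResidueField k' := IsScalarTower.of_algebraMap_eq (fun _ => rfl)
  haveI := hN p
  exact regular_baseChange_finite A B C p k' hAB hBC

end Comp

end Groth.Agent.Helper2.RegComp
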