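import Mathlib
import Groth.Prelude.Def_Found
import Groth.Agent.Helper1.SerreFlatU
import Groth.Agent.Helper1.FieldSmooth7
import Groth.Agent.Helper2.RegSmooth2
import Groth.Agent.Helper2.RegSmoothLoc
import Groth.Agent.Helper2.RegComp
import Groth.Agent.Helper2.RegDescent
set_option autoImplicit false
universe u
open IsLocalRing TensorProduct

namespace Groth.Agent.Helper2.SepTensorReg

section P1
variable (k A : Type u) [Field k] [CommRing A] [Algebra k A] [IsLocalRing A]
  [Algebra.EssFiniteType k A]

open Groth.Agent.Helper2.RegSmoothLoc in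
/-- an essentially finite type formally smooth local algebra over a field is regular -/
theorem regular_of_formallySmooth_local [Algebra.FormallySmooth k A] : IsRegularLocalRing A := by
  have h1 : Algebra.FormallySmooth k (Localization.AtPrime (q₀ k A)) :=
    Algebra.FormallySmooth.of_equiv ((e₀ k A).restrictScalars k).symm
  haveI h2 : IsRegularLocalRing (Localization.AtPrime (q₀ k A)) :=
    Groth.Agent.Helper2.RegSmooth2.isRegularLocalRing_of_isSmoothAt k
      (Algebra.EssFiniteType.subalgebra k A) (q₀ k A) h1
  exact IsRegularLocalRing.of_ringEquiv (e₀ k A).toRingEquiv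

end P1

section P2

theorem isNoetherianRing_of_essFiniteType (K B : Type u) [Field K] [CommRing B] [Algebra K B]
    [Algebra.EssFiniteType K B] : IsNoetherianRing B := by
  haveI : IsNoetherianRing (Algebra.EssFiniteType.subalgebra K B) :=
    Algebra.FiniteType.isNoetherianRing K _
  exact IsLocalization.isNoetherianRing (Algebra.EssFiniteType.submonoid K B) B inferInstance

/-- an essentially finite type formally smooth algebra over a field is a regular ring -/
theorem isRegularRing_of_formallySmooth (K B : Type u) [Field K] [CommRing B] [Algebra K B]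
    [Algebra.EssFiniteType K B] [Algebra.FormallySmooth K B] : IsRegularRing B := by
  haveI := isNoetherianRing_of_essFiniteType K B
  rw [isRegularRing_iff]
  intro Q hQ
  haveI : Algebra.EssFiniteType B (Localization.AtPrime Q) :=
    Algebra.EssFiniteType.of_isLocalization _ Q.primeCompl
  haveI : Algebra.EssFiniteType K (Localization.AtPrime Q) :=
    Algebra.EssFiniteType.comp K B _
  haveI : Algebra.FormallySmooth B (Localization.AtPrime Q) :=
    Algebra.FormallySmooth.of_isLocalization Q.primeCompl
  haveI : Algebra.FormallySmooth K (Localization.AtPrime Q) :=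
    Algebra.FormallySmooth.comp K B _
  exact regular_of_formallySmooth_local K _

/-- `K ⊗ L` is regular for a finitely generated separable extension `L/k`. -/
theorem isRegularRing_tensor_of_essFiniteType (k K L : Type u) [Field k] [Field K] [Field L]
    [Algebra k K] [Algebra k L] [Algebra.IsGeometricallyReduced k L] [Algebra.EssFiniteType k L] :
    IsRegularRing (K ⊗[k] L) := by
  haveI : Algebra.FormallySmooth k L :=
    Groth.Agent.Helper1.FieldSmooth.formallySmooth_iff_isGeometricallyReduced.2 inferInstance
  haveI : Algebra.FormallySmooth K (K ⊗[k] L) := inferInstance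
  haveI : Algebra.EssFiniteType K (K ⊗[k] L) := inferInstance
  exact isRegularRing_of_formallySmooth K _

end P2

section Capture
variable (k : Type u) [Field k] (C : Type u) [CommRing C] [Algebra k C]
variable (K : Type u) [Field K] [Algebra k K]

/-- a finite subset of `C ⊗ K` comes from `C ⊗ K'` for a finitely generated subextension `K'`. -/
theorem exists_intermediateField (s : Set (C ⊗[k] K)) (hs : s.Finite) :
    ∃ K' : IntermediateField k K, K'.FG ∧
      s ⊆ Set.range (Algebra.TensorProduct.map (AlgHom.id k C) K'.val) := by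
  obtain ⟨M', hfin, hM'⟩ := TensorProduct.exists_finite_submodule_right_of_setFinite s hs
  obtain ⟨T, hT⟩ := (Module.Finite.iff_fg).1 hfin
  let K' : IntermediateField k K := IntermediateField.adjoin k (T : Set K)
  have hle : M' ≤ K'.toSubalgebra.toSubmodule := by
    rw [← hT, Submodule.span_le]
    exact IntermediateField.subset_adjoin k _
  refine ⟨K', ⟨T, rfl⟩, ?_⟩
  let ι : M' →ₗ[k] K' := Submodule.inclusion hle
  have key : ∀ z : C ⊗[k] M', Algebra.TensorProduct.map (AlgHom.id k C) K'.val (ι.lTensor C z) =
      M'.subtype.lTensor C z := by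
    intro z
    induction z using TensorProduct.induction_on with
    | zero => simp only [map_zero]
    | tmul c a =>
      rw [LinearMap.lTensor_tmul, Algebra.TensorProduct.map_tmul, LinearMap.lTensor_tmul]
      rfl
    | add a b ha hb => simp only [map_add, ha, hb]
  intro y hy
  obtain ⟨z, rfl⟩ := hM' hy
  exact ⟨ι.lTensor C z, key z⟩

variable (K' : Type u) [Field K'] [Algebra k K'] [Algebra K' K] [IsScalarTower k K' K]

/-- flatness of `C ⊗ K' → C ⊗ K`. -/
theorem flat_map :
    letI : Algebra (C ⊗[k] K') (C ⊗[k] K) :=
      (Algebra.TensorProduct.map (AlgHom.id k C) (IsScalarTower.toAlgHom k K' K)).toRingHom.toAlgebra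
    Module.Flat (C ⊗[k] K') (C ⊗[k] K) := by
  have h1 : RingHom.Flat (AlgHom.id k C : C →+* C) := RingHom.Flat.id C
  have h2 : RingHom.Flat (IsScalarTower.toAlgHom k K' K : K' →+* K) :=
    RingHom.Flat.of_isField (Field.toIsField K') _
  exact RingHom.Flat.tensorProductMap (S := k) (R := k) h1 h2

/-- local regularity ascends from a finitely generated level (pointwise version) -/
theorem regular_at [IsNoetherianRing (C ⊗[k] K')] [IsNoetherianRing (C ⊗[k] K)]
    (Q : Ideal (C ⊗[k] K)) [hQ : Q.IsPrime] (s : Set (C ⊗[k] K))
    (hs : Ideal.span s = Q)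
    (hK' : s ⊆ Set.range
      (Algebra.TensorProduct.map (AlgHom.id k C) (IsScalarTower.toAlgHom k K' K)))
    (hreg : IsRegularLocalRing (Localization.AtPrime (Q.comap
      (Algebra.TensorProduct.map (AlgHom.id k C) (IsScalarTower.toAlgHom k K' K)).toRingHom))) :
    IsRegularLocalRing (Localization.AtPrime Q) := by
  letI : Algebra (C ⊗[k] K') (C ⊗[k] K) :=
    (Algebra.TensorProduct.map (AlgHom.id k C) (IsScalarTower.toAlgHom k K' K)).toRingHom.toAlgebra
  haveI : Module.Flat (C ⊗[k] K') (C ⊗[k] K) := flat_map k C K K'
  have hU : Groth.Agent.Helper1.SerreFlatU.UnrAt (C ⊗[k] K') (C ⊗[k] K) Q := by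
    intro x hx
    refine ⟨1, fun h1 => hQ.ne_top ((Ideal.eq_top_iff_one _).2 h1), ?_⟩
    rw [one_mul]
    have hle : Q ≤ (Q.under (C ⊗[k] K')).map (algebraMap (C ⊗[k] K') (C ⊗[k] K)) := by
      rw [← hs, Ideal.span_le]
      intro y hy
      obtain ⟨y', rfl⟩ := hK' hy
      have hy' : (Algebra.TensorProduct.map (AlgHom.id k C) (IsScalarTower.toAlgHom k K' K)) y' ∈
          Ideal.span s := Ideal.subset_span hy
      have hy'' : y' ∈ (Ideal.span s).under (C ⊗[k] K') := hy'
      exact Ideal.mem_map_of_mem (algebraMap (C ⊗[k] K') (C ⊗[k] K)) hy''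
    exact hle hx
  rw [Groth.Agent.Helper1.SerreFlatU.regular_atPrime' Q hU]
  exact hreg

end Capture

section Fields
variable (k K L : Type u) [Field k] [Field K] [Field L] [Algebra k K] [Algebra k L]

/-- abstract intermediate field version of the capture argument for `K ⊗ L` -/
theorem regular_at_of_sub [Algebra.IsGeometricallyReduced k L] [IsNoetherianRing (K ⊗[k] L)]
    (L' : Type u) [Field L'] [Algebra k L'] [Algebra L' L] [IsScalarTower k L' L]
    [Algebra.EssFiniteType k L']
    (Q : Ideal (K ⊗[k] L)) [hQ : Q.IsPrime] (s : Set (K ⊗[k] L)) (hs : Ideal.span s = Q)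
    (hL' : s ⊆ Set.range
      (Algebra.TensorProduct.map (AlgHom.id k K) (IsScalarTower.toAlgHom k L' L))) :
    IsRegularLocalRing (Localization.AtPrime Q) := by
  haveI : Algebra.IsGeometricallyReduced k L' :=
    Algebra.IsGeometricallyReduced.of_injective (IsScalarTower.toAlgHom k L' L)
      (RingHom.injective _)
  haveI : IsRegularRing (K ⊗[k] L') := isRegularRing_tensor_of_essFiniteType k K L'
  exact regular_at k K L L' Q s hs hL' inferInstance

/-- EGA IV 6.7.4.1-type statement: `K ⊗ L` is regular if `L/k` is separable and one of the two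
extensions is finitely generated. -/
theorem isRegularRing_tensor [Algebra.IsGeometricallyReduced k L]
    (h : Algebra.EssFiniteType k K ∨ Algebra.EssFiniteType k L) [IsNoetherianRing (K ⊗[k] L)] :
    IsRegularRing (K ⊗[k] L) := by
  rcases h with h | h
  · rw [isRegularRing_iff]
    intro Q hQ
    obtain ⟨s, hs⟩ := (isNoetherianRing_iff_ideal_fg _).1 inferInstance Q
    obtain ⟨L', hFG, hL'⟩ := exists_intermediateField k K L (s : Set (K ⊗[k] L)) s.finite_toSet
    haveI : Algebra.EssFiniteType k L' := IntermediateField.essFiniteType_iff.2 hFG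
    exact regular_at_of_sub k K L L' Q (s : Set (K ⊗[k] L)) hs hL'
  · exact isRegularRing_tensor_of_essFiniteType k K L

end Fields

section BaseChange
variable (k S k' : Type u) [Field k] [CommRing S] [Algebra k S] [IsNoetherianRing S]
  [Field k'] [Algebra k k']

/-- regularity descends from `S ⊗ k'` to `S`. -/
theorem regular_descent [IsNoetherianRing (S ⊗[k] k')] (q' : Ideal (S ⊗[k] k')) [q'.IsPrime]
    (h : IsRegularLocalRing (Localization.AtPrime q')) :
    IsRegularLocalRing (Localization.AtPrime (q'.comap (algebraMap S (S ⊗[k] k')))) := by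
  haveI : q'.LiesOver (q'.comap (algebraMap S (S ⊗[k] k'))) := ⟨rfl⟩
  letI := Localization.AtPrime.algebraOfLiesOver (q'.comap (algebraMap S (S ⊗[k] k'))) q'
  haveI : IsLocalHom (algebraMap (Localization.AtPrime (q'.comap (algebraMap S (S ⊗[k] k'))))
      (Localization.AtPrime q')) :=
    Localization.isLocalHom_localRingHom _ _ _ Ideal.LiesOver.over
  exact Groth.Agent.Helper2.RegDescent.isRegularLocalRing_of_flat
    (Localization.AtPrime (q'.comap (algebraMap S (S ⊗[k] k')))) (Localization.AtPrime q')

/-- regularity ascends to `S ⊗ k'` for a finitely generated separable extension `k'`. -/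
theorem regular_ascent_essFiniteType [Algebra.EssFiniteType k k']
    [Algebra.IsGeometricallyReduced k k'] [IsNoetherianRing (S ⊗[k] k')]
    (q' : Ideal (S ⊗[k] k')) [q'.IsPrime]
    (h : IsRegularLocalRing (Localization.AtPrime (q'.comap (algebraMap S (S ⊗[k] k'))))) :
    IsRegularLocalRing (Localization.AtPrime q') := by
  apply Groth.Agent.Helper2.RegComp.isRegularLocalRing_of_fiber S (S ⊗[k] k') q' h
  set p := q'.comap (algebraMap S (S ⊗[k] k')) with hp
  haveI : IsRegularRing (p.ResidueField ⊗[k] k') :=
    isRegularRing_tensor_of_essFiniteType k p.ResidueField k'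
  have e : p.ResidueField ⊗[S] (S ⊗[k] k') ≃ₐ[p.ResidueField] p.ResidueField ⊗[k] k' :=
    Algebra.TensorProduct.cancelBaseChange k S p.ResidueField p.ResidueField k'
  exact IsRegularRing.of_ringEquiv e.symm.toRingEquiv

end BaseChange

section BaseChange2
variable (k S k' : Type u) [Field k] [CommRing S] [Algebra k S] [IsNoetherianRing S]
  [Field k'] [Algebra k k']

/-- abstract intermediate field version of the ascent for `S` of finite type -/
theorem regular_ascent_of_sub [Algebra.FiniteType k S] [Algebra.IsGeometricallyReduced k k']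
    [IsNoetherianRing (S ⊗[k] k')]
    (k'' : Type u) [Field k''] [Algebra k k''] [Algebra k'' k'] [IsScalarTower k k'' k']
    [Algebra.EssFiniteType k k'']
    (q' : Ideal (S ⊗[k] k')) [q'.IsPrime] (s : Set (S ⊗[k] k')) (hs : Ideal.span s = q')
    (hk'' : s ⊆ Set.range
      (Algebra.TensorProduct.map (AlgHom.id k S) (IsScalarTower.toAlgHom k k'' k')))
    (h : IsRegularLocalRing (Localization.AtPrime (q'.comap (algebraMap S (S ⊗[k] k'))))) :
    IsRegularLocalRing (Localization.AtPrime q') := by
  haveI : Algebra.IsGeometricallyReduced k k'' :=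
    Algebra.IsGeometricallyReduced.of_injective (IsScalarTower.toAlgHom k k'' k')
      (RingHom.injective _)
  haveI : IsNoetherianRing (k'' ⊗[k] S) := Algebra.FiniteType.isNoetherianRing k'' _
  haveI : IsNoetherianRing (S ⊗[k] k'') :=
    isNoetherianRing_of_ringEquiv (k'' ⊗[k] S) (Algebra.TensorProduct.comm k k'' S).toRingEquiv
  apply regular_at k S k' k'' q' s hs hk''
  haveI : (q'.comap (Algebra.TensorProduct.map (AlgHom.id k S)
      (IsScalarTower.toAlgHom k k'' k')).toRingHom).IsPrime := Ideal.comap_isPrime _ _
  apply regular_ascent_essFiniteType k S k'' (q'.comap (Algebra.TensorProduct.map (AlgHom.id k S)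
      (IsScalarTower.toAlgHom k k'' k')).toRingHom)
  have heq : q'.comap (algebraMap S (S ⊗[k] k')) =
      (q'.comap (Algebra.TensorProduct.map (AlgHom.id k S)
        (IsScalarTower.toAlgHom k k'' k')).toRingHom).comap (algebraMap S (S ⊗[k] k'')) := by
    rw [Ideal.comap_comap]
    congr 1
    ext x
    simp
  exact Groth.Agent.Helper2.RegHom.transport heq h

/-- the statement S4733 -/
theorem main (hft : Algebra.FiniteType k S ∨ Algebra.EssFiniteType k k')
    [IsNoetherianRing (S ⊗[k] k')] (q' : Ideal (S ⊗[k] k')) [q'.IsPrime] :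
    (IsRegularLocalRing (Localization.AtPrime q') →
        IsRegularLocalRing (Localization.AtPrime (q'.comap (algebraMap S (S ⊗[k] k'))))) ∧
      (Algebra.IsGeometricallyReduced k k' →
        IsRegularLocalRing (Localization.AtPrime (q'.comap (algebraMap S (S ⊗[k] k')))) →
          IsRegularLocalRing (Localization.AtPrime q')) := by
  refine ⟨regular_descent k S k' q', ?_⟩
  intro hsep h
  rcases hft with hft | hft
  · obtain ⟨s, hs⟩ := (isNoetherianRing_iff_ideal_fg _).1 inferInstance q'
    obtain ⟨k'', hFG, hk''⟩ := exists_intermediateField k S k' (s : Set (S ⊗[k] k')) s.finite_toSet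
    haveI : Algebra.EssFiniteType k k'' := IntermediateField.essFiniteType_iff.2 hFG
    exact regular_ascent_of_sub k S k' k'' q' (s : Set (S ⊗[k] k')) hs hk'' h
  · exact regular_ascent_essFiniteType k S k' q' h

end BaseChange2

end Groth.Agent.Helper2.SepTensorReg
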