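import Mathlib
import Groth.Prelude.Def_Found
import Groth.Agent.Helper2.LemmaF
import Groth.Agent.Helper2.SepTensorReg
set_option autoImplicit false
universe u
open IsLocalRing TensorProduct

namespace Groth.Agent.Helper2.GeomReg

/-- an essentially finite type algebra over a Noetherian ring is Noetherian -/
theorem isNoetherianRing_of_essFiniteType (R B : Type u) [CommRing R] [IsNoetherianRing R]
    [CommRing B] [Algebra R B] [Algebra.EssFiniteType R B] : IsNoetherianRing B := by
  haveI : IsNoetherianRing (Algebra.EssFiniteType.subalgebra R B) :=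
    Algebra.FiniteType.isNoetherianRing R _
  exact IsLocalization.isNoetherianRing (Algebra.EssFiniteType.submonoid R B) B inferInstance


section R
variable (k S : Type u) [Field k] [CommRing S] [Algebra k S]

/-- regularity of `k' ⊗ S` for all finite purely inseparable `k'` implies regularity of `K ⊗ S` for
all finitely generated field extensions `K`. -/
theorem regular_of_purelyInseparable
    (hb : ∀ (k' : Type u) [Field k'] [Algebra k k'], Module.Finite k k' → IsPurelyInseparable k k' →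
      IsRegularRing (k' ⊗[k] S))
    (K : Type u) [Field K] [Algebra k K] [Algebra.EssFiniteType k K] :
    IsRegularRing (K ⊗[k] S) := by
  obtain ⟨k₁, K₁, _, _, _, _, _, _, _, _, hfin, hpi, hess, hsm⟩ :=
    Groth.Agent.Helper2.LemmaF.exists_fields k K
  haveI hR₁ : IsRegularRing (k₁ ⊗[k] S) := hb k₁ hfin hpi
  haveI : Algebra.IsGeometricallyReduced k₁ K₁ :=
    Groth.Agent.Helper1.FieldSmooth.formallySmooth_iff_isGeometricallyReduced.mp hsm
  haveI : IsNoetherianRing ((k₁ ⊗[k] S) ⊗[k₁] K₁) :=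
    isNoetherianRing_of_essFiniteType (k₁ ⊗[k] S) _
  haveI hR₂ : IsRegularRing ((k₁ ⊗[k] S) ⊗[k₁] K₁) := by
    rw [isRegularRing_iff]
    intro q' hq'
    exact Groth.Agent.Helper2.SepTensorReg.regular_ascent_essFiniteType k₁ (k₁ ⊗[k] S) K₁ q'
      (isRegularRing_iff.mp hR₁ _)
  let e1 : (k₁ ⊗[k] S) ⊗[k₁] K₁ ≃+* K₁ ⊗[k₁] (k₁ ⊗[k] S) :=
    (Algebra.TensorProduct.comm k₁ (k₁ ⊗[k] S) K₁).toRingEquiv
  let e2 : K₁ ⊗[k₁] (k₁ ⊗[k] S) ≃+* K₁ ⊗[k] S :=
    (Algebra.TensorProduct.cancelBaseChange k k₁ K₁ K₁ S).toRingEquiv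
  let e3 : K₁ ⊗[K] (K ⊗[k] S) ≃+* K₁ ⊗[k] S :=
    (Algebra.TensorProduct.cancelBaseChange k K K₁ K₁ S).toRingEquiv
  let e4 : (K ⊗[k] S) ⊗[K] K₁ ≃+* K₁ ⊗[K] (K ⊗[k] S) :=
    (Algebra.TensorProduct.comm K (K ⊗[k] S) K₁).toRingEquiv
  haveI : IsRegularRing ((K ⊗[k] S) ⊗[K] K₁) :=
    IsRegularRing.of_ringEquiv ((e1.trans e2).trans (e3.symm.trans e4.symm))
  exact Groth.Agent.Helper2.RegDescent.isRegularRing_of_faithfullyFlat (K ⊗[k] S)
    ((K ⊗[k] S) ⊗[K] K₁)

/-- EGA IV 6.7.7, equivalence a) ⇔ b) ⇔ c) for regularity. -/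
theorem geomRegular_iff :
    (CAlg.IsGeometricallyRegular k S ↔
        ∀ (k' : Type u) [Field k'] [Algebra k k'], Module.Finite k k' → IsPurelyInseparable k k' →
          IsRegularRing (k' ⊗[k] S)) ∧
      (CAlg.IsGeometricallyRegular k S ↔
        ∀ (K : Type u) [Field K] [Algebra k K], Algebra.EssFiniteType k K →
          IsRegularRing (K ⊗[k] S)) := by
  refine ⟨⟨fun h k' _ _ hfin _ => h k' hfin, fun hb k' _ _ hfin => ?_⟩,
    ⟨fun h K _ _ hK => ?_, fun hc k' _ _ hfin => ?_⟩⟩
  · haveI := hfin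
    exact regular_of_purelyInseparable k S hb k'
  · haveI := hK
    exact regular_of_purelyInseparable k S (fun k' _ _ hfin _ => h k' hfin) K
  · haveI := hfin
    exact hc k' inferInstance

/-- geometric regularity gives regularity after every finitely generated field extension. -/
theorem regular_of_geomRegular (h : CAlg.IsGeometricallyRegular k S)
    (K : Type u) [Field K] [Algebra k K] [Algebra.EssFiniteType k K] :
    IsRegularRing (K ⊗[k] S) :=
  (geomRegular_iff k S).2.mp h K inferInstance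

/-- geometric regularity ascends along finitely generated field extensions. -/
theorem geomRegular_ascent (h : CAlg.IsGeometricallyRegular k S)
    (K : Type u) [Field K] [Algebra k K] [Algebra.EssFiniteType k K] :
    CAlg.IsGeometricallyRegular K (K ⊗[k] S) := by
  intro K' _ _ hfin
  haveI := hfin
  letI : Algebra k K' := ((algebraMap K K').comp (algebraMap k K)).toAlgebra
  haveI : IsScalarTower k K K' := IsScalarTower.of_algebraMap_eq fun x => rfl
  haveI : Algebra.EssFiniteType k K' := Algebra.EssFiniteType.comp k K K'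
  haveI : IsRegularRing (K' ⊗[k] S) := regular_of_geomRegular k S h K'
  exact IsRegularRing.of_ringEquiv
    (Algebra.TensorProduct.cancelBaseChange k K K' K' S).toRingEquiv.symm

/-- geometric regularity descends along arbitrary field extensions. -/
theorem geomRegular_descent (K : Type u) [Field K] [Algebra k K]
    (h : CAlg.IsGeometricallyRegular K (K ⊗[k] S)) : CAlg.IsGeometricallyRegular k S := by
  intro k' _ _ hfin
  haveI := hfin
  obtain ⟨m, hm⟩ := Ideal.exists_maximal (K ⊗[k] k')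
  let L := (K ⊗[k] k') ⧸ m
  letI : Field L := Ideal.Quotient.field m
  letI : Algebra k' L := ((Ideal.Quotient.mk m).comp
    (Algebra.TensorProduct.includeRight : k' →ₐ[k] K ⊗[k] k').toRingHom).toAlgebra
  haveI : IsScalarTower k k' L := IsScalarTower.of_algebraMap_eq fun x => by
    change Ideal.Quotient.mk m (algebraMap k (K ⊗[k] k') x) =
      Ideal.Quotient.mk m (1 ⊗ₜ algebraMap k k' x)
    congr 1
    rw [Algebra.TensorProduct.algebraMap_apply, Algebra.algebraMap_eq_smul_one,
      Algebra.algebraMap_eq_smul_one, TensorProduct.smul_tmul]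
  haveI : Module.Finite K L := inferInstance
  haveI h1 : IsRegularRing (L ⊗[K] (K ⊗[k] S)) := h L inferInstance
  let e1 : L ⊗[K] (K ⊗[k] S) ≃+* L ⊗[k] S :=
    (Algebra.TensorProduct.cancelBaseChange k K L L S).toRingEquiv
  let e2 : L ⊗[k'] (k' ⊗[k] S) ≃+* L ⊗[k] S :=
    (Algebra.TensorProduct.cancelBaseChange k k' L L S).toRingEquiv
  let e3 : (k' ⊗[k] S) ⊗[k'] L ≃+* L ⊗[k'] (k' ⊗[k] S) :=
    (Algebra.TensorProduct.comm k' (k' ⊗[k] S) L).toRingEquiv
  haveI : IsRegularRing ((k' ⊗[k] S) ⊗[k'] L) :=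
    IsRegularRing.of_ringEquiv (e1.trans (e2.symm.trans e3.symm))
  exact Groth.Agent.Helper2.RegDescent.isRegularRing_of_faithfullyFlat (k' ⊗[k] S)
    ((k' ⊗[k] S) ⊗[k'] L)

end R

end Groth.Agent.Helper2.GeomReg
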