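import Mathlib
import Groth.Prelude.Def_CAlg
import Groth.Prelude.Def_EGA4b
import Groth.Agent.Helper2.FlatAscent
import Groth.Agent.Helper2.SepTensorReg
import Groth.Agent.Helper4.RegNormal
import Groth.Agent.Lead.RegLocal
import Groth.Agent.S2610
set_option autoImplicit false
universe u
open IsLocalRing TensorProduct

namespace Groth.Agent.Helper2.NormalPt

open Groth.Agent.Helper1.SerreFlatU Groth.Agent.Helper6.SerreNormal

section Pt
variable (B : Type u) [CommRing B] [IsNoetherianRing B]

/-- `(S_k)` of `B_q` from pointwise conditions at the primes below `q`. -/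
theorem hasSk_loc_of_pointwise (k : ℕ) (q : Ideal B) [q.IsPrime]
    (h : ∀ (q' : Ideal B) [q'.IsPrime], q' ≤ q → min (k : ℕ∞) q'.height ≤
      LocCoh.depth (Localization.AtPrime q') (Localization.AtPrime q')) :
    LocCoh.HasSk k (Localization.AtPrime q) (Localization.AtPrime q) := by
  rw [hasSk_iff]
  intro Q hQ
  rw [dim_atPrime' Q (unr_loc B q Q), depth_atPrime' Q (unr_loc B q Q)]
  have hle : Q.under B ≤ q := by
    intro x hx
    by_contra hxq
    have hu : IsUnit (algebraMap B (Localization.AtPrime q) x) :=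
      IsLocalization.map_units _ (⟨x, hxq⟩ : q.primeCompl)
    exact hQ.ne_top (Ideal.eq_top_of_isUnit_mem _ hx hu)
  have h0 := h (Q.under B) hle
  rw [IsLocalization.AtPrime.ringKrullDim_eq_height (Q.under B)
    (Localization.AtPrime (Q.under B))]
  have h3 : ((k : ℕ) : WithBot ℕ∞) = (((k : ℕ∞)) : WithBot ℕ∞) := rfl
  rw [h3, ← WithBot.coe_min, WithBot.coe_le_coe]
  exact h0

/-- the pointwise condition of Serre's criterion at a prime -/
def Cond (q' : Ideal B) [q'.IsPrime] : Prop :=
  (q'.height ≤ 1 → IsRegularLocalRing (Localization.AtPrime q')) ∧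
    min (2 : ℕ∞) q'.height ≤ LocCoh.depth (Localization.AtPrime q') (Localization.AtPrime q')

/-- Serre's criterion for the local ring at `q`, pointwise form. -/
theorem normal_iff (q : Ideal B) [q.IsPrime] :
    (IsDomain (Localization.AtPrime q) ∧ IsIntegrallyClosed (Localization.AtPrime q)) ↔
      ∀ (q' : Ideal B) [q'.IsPrime], q' ≤ q → Cond B q' := by
  constructor
  · rintro ⟨hd, hic⟩
    obtain ⟨h1, h2⟩ := NorLift.serre_of_normal (Localization.AtPrime q)
    intro q' _ hle
    refine ⟨fun hht => ?_, ?_⟩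
    · exact (Groth.Agent.Helper4.RkLocus.hasRkAt_iff 1 q).1 h1 q' hle (by exact_mod_cast hht)
    · exact_mod_cast FlatAscent.sk_below B 2 q h2 q' hle
  · intro h
    have h1 : EGA4.HasRkAt 1 B q :=
      (Groth.Agent.Helper4.RkLocus.hasRkAt_iff 1 q).2
        (fun q' _ hle hht => (h q' hle).1 (by exact_mod_cast hht))
    have h2 : LocCoh.HasSk 2 (Localization.AtPrime q) (Localization.AtPrime q) :=
      hasSk_loc_of_pointwise B 2 q (fun q' _ hle => by exact_mod_cast (h q' hle).2)
    exact NorLift.normal_of_local (Localization.AtPrime q)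
      ((Groth.Agent.S0601.result (Localization.AtPrime q)).2 ⟨h1, h2⟩)

end Pt

section Fib
variable (A B : Type u) [CommRing A] [CommRing B] [Algebra A B]

/-- the local ring of a regular fibre is regular -/
theorem fibLocRing_regular (Q : Ideal B) [hQ : Q.IsPrime]
    (hregF : IsRegularRing ((Q.comap (algebraMap A B)).Fiber B)) :
    IsRegularLocalRing (EGA4.FibLocRing A B Q) := by
  set p := Q.comap (algebraMap A B) with hp
  haveI : p.IsPrime := Ideal.comap_isPrime _ _
  let q := PrimeSpectrum.preimageEquivFiber A B ⟨p, inferInstance⟩ ⟨⟨Q, hQ⟩, rfl⟩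
  have hq : q.asIdeal.comap (Algebra.TensorProduct.includeRight : B →ₐ[A] p.Fiber B) = Q := by
    have := (PrimeSpectrum.preimageEquivFiber A B ⟨p, inferInstance⟩).left_inv ⟨⟨Q, hQ⟩, rfl⟩
    exact congrArg (fun x => x.1.asIdeal) this
  letI := Localization.AtPrime.algebraOfLiesOver p
    (q.asIdeal.comap (Algebra.TensorProduct.includeRight : B →ₐ[A] p.Fiber B))
  have e := Ideal.Fiber.localizationAlgEquivQuotient p q.asIdeal
  haveI hreg : IsRegularLocalRing (Localization.AtPrime q.asIdeal) := inferInstance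
  have h1 := IsRegularLocalRing.of_ringEquiv (R := Localization.AtPrime q.asIdeal) e.toRingEquiv
  have key : ∀ (r : Ideal B) [r.IsPrime], r = Q →
      IsRegularLocalRing (Localization.AtPrime r ⧸ p.map (algebraMap A (Localization.AtPrime r))) →
      IsRegularLocalRing (Localization.AtPrime Q ⧸ p.map (algebraMap A (Localization.AtPrime Q))) := by
    rintro r _ rfl h
    exact h
  exact key _ hq h1

end Fib

section Gen
variable (B : Type u) [CommRing B] [IsNoetherianRing B]

theorem normal_of_le (p q : Ideal B) [p.IsPrime] [q.IsPrime] (hle : p ≤ q)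
    (h : IsDomain (Localization.AtPrime q) ∧ IsIntegrallyClosed (Localization.AtPrime q)) :
    IsDomain (Localization.AtPrime p) ∧ IsIntegrallyClosed (Localization.AtPrime p) := by
  rw [normal_iff] at h ⊢
  intro r _ hr
  exact h r (hr.trans hle)

omit [IsNoetherianRing B] in
theorem normal_congr (p q : Ideal B) [p.IsPrime] [q.IsPrime] (heq : p = q)
    (h : IsDomain (Localization.AtPrime p) ∧ IsIntegrallyClosed (Localization.AtPrime p)) :
    IsDomain (Localization.AtPrime q) ∧ IsIntegrallyClosed (Localization.AtPrime q) := by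
  subst heq
  exact h

end Gen

section BaseChange
variable (k S k' : Type u) [Field k] [CommRing S] [Algebra k S] [IsNoetherianRing S]
  [Field k'] [Algebra k k']

/-- normality ascends to `S ⊗ k'` for a finitely generated separable extension `k'`. -/
theorem normal_ascent_essFiniteType [Algebra.EssFiniteType k k']
    [Algebra.IsGeometricallyReduced k k'] [IsNoetherianRing (S ⊗[k] k')]
    (q' : Ideal (S ⊗[k] k')) [q'.IsPrime]
    (h : IsDomain (Localization.AtPrime (q'.comap (algebraMap S (S ⊗[k] k')))) ∧
      IsIntegrallyClosed (Localization.AtPrime (q'.comap (algebraMap S (S ⊗[k] k'))))) :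
    IsDomain (Localization.AtPrime q') ∧ IsIntegrallyClosed (Localization.AtPrime q') := by
  obtain ⟨h1, h2⟩ := h
  refine FlatAscent.normal_ascent S (S ⊗[k] k') ?_ q'
  intro Q hQ
  have hreg : IsRegularLocalRing (EGA4.FibLocRing S (S ⊗[k] k') Q) := by
    apply fibLocRing_regular
    set p := Q.comap (algebraMap S (S ⊗[k] k')) with hp
    haveI : IsRegularRing (p.ResidueField ⊗[k] k') :=
      SepTensorReg.isRegularRing_tensor_of_essFiniteType k p.ResidueField k'
    have e : p.ResidueField ⊗[S] (S ⊗[k] k') ≃ₐ[p.ResidueField] p.ResidueField ⊗[k] k' :=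
      Algebra.TensorProduct.cancelBaseChange k S p.ResidueField p.ResidueField k'
    exact IsRegularRing.of_ringEquiv e.symm.toRingEquiv
  exact ⟨Groth.Agent.Lead.RegLocal.isDomain_of_isRegularLocalRing _,
    Groth.Agent.Helper4.RegNormal.isIntegrallyClosed_of_isRegularLocalRing _⟩

/-- the pointwise Serre condition at a prime captured by a finitely generated subfield -/
theorem cond_of_sub [Algebra.FiniteType k S] [Algebra.IsGeometricallyReduced k k']
    [IsNoetherianRing (S ⊗[k] k')]
    (k'' : Type u) [Field k''] [Algebra k k''] [Algebra k'' k'] [IsScalarTower k k'' k']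
    [Algebra.EssFiniteType k k'']
    (Q : Ideal (S ⊗[k] k')) [hQ : Q.IsPrime] (s : Set (S ⊗[k] k')) (hs : Ideal.span s = Q)
    (hk'' : s ⊆ Set.range
      (Algebra.TensorProduct.map (AlgHom.id k S) (IsScalarTower.toAlgHom k k'' k')))
    (h : IsDomain (Localization.AtPrime (Q.comap (algebraMap S (S ⊗[k] k')))) ∧
      IsIntegrallyClosed (Localization.AtPrime (Q.comap (algebraMap S (S ⊗[k] k'))))) :
    Cond (S ⊗[k] k') Q := by
  haveI : Algebra.IsGeometricallyReduced k k'' :=
    Algebra.IsGeometricallyReduced.of_injective (IsScalarTower.toAlgHom k k'' k')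
      (RingHom.injective _)
  haveI : IsNoetherianRing (k'' ⊗[k] S) := Algebra.FiniteType.isNoetherianRing k'' _
  haveI : IsNoetherianRing (S ⊗[k] k'') :=
    isNoetherianRing_of_ringEquiv (k'' ⊗[k] S) (Algebra.TensorProduct.comm k k'' S).toRingEquiv
  letI : Algebra (S ⊗[k] k'') (S ⊗[k] k') :=
    (Algebra.TensorProduct.map (AlgHom.id k S) (IsScalarTower.toAlgHom k k'' k')).toRingHom.toAlgebra
  haveI : Module.Flat (S ⊗[k] k'') (S ⊗[k] k') := SepTensorReg.flat_map k S k' k''
  have hU : UnrAt (S ⊗[k] k'') (S ⊗[k] k') Q := by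
    intro x hx
    refine ⟨1, fun h1 => hQ.ne_top ((Ideal.eq_top_iff_one _).2 h1), ?_⟩
    rw [one_mul]
    have hle : Q ≤ (Q.under (S ⊗[k] k'')).map (algebraMap (S ⊗[k] k'') (S ⊗[k] k')) := by
      rw [← hs, Ideal.span_le]
      intro y hy
      obtain ⟨y', rfl⟩ := hk'' hy
      have hy' : (Algebra.TensorProduct.map (AlgHom.id k S) (IsScalarTower.toAlgHom k k'' k')) y' ∈
          Ideal.span s := Ideal.subset_span hy
      have hy'' : y' ∈ (Ideal.span s).under (S ⊗[k] k'') := hy'
      exact Ideal.mem_map_of_mem (algebraMap (S ⊗[k] k'') (S ⊗[k] k')) hy''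
    exact hle hx
  have heq : Q.comap (algebraMap S (S ⊗[k] k')) =
      (Q.under (S ⊗[k] k'')).comap (algebraMap S (S ⊗[k] k'')) := by
    rw [Ideal.under_def, Ideal.comap_comap]
    congr 1
    ext x
    simp [RingHom.algebraMap_toAlgebra]
  have hN'' := normal_ascent_essFiniteType k S k'' (Q.under (S ⊗[k] k''))
    (normal_congr S _ _ heq h)
  have hC := (normal_iff (S ⊗[k] k'') (Q.under (S ⊗[k] k''))).1 hN'' (Q.under (S ⊗[k] k'')) le_rfl
  unfold Cond at hC ⊢
  rw [height_eq' Q hU, depth_atPrime' Q hU, regular_atPrime' Q hU]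
  exact hC

/-- normality ascends to `S ⊗ k'` for `S` of finite type and `k'` separable. -/
theorem normal_ascent_finiteType [Algebra.FiniteType k S] [Algebra.IsGeometricallyReduced k k']
    [IsNoetherianRing (S ⊗[k] k')] (q' : Ideal (S ⊗[k] k')) [q'.IsPrime]
    (h : IsDomain (Localization.AtPrime (q'.comap (algebraMap S (S ⊗[k] k')))) ∧
      IsIntegrallyClosed (Localization.AtPrime (q'.comap (algebraMap S (S ⊗[k] k'))))) :
    IsDomain (Localization.AtPrime q') ∧ IsIntegrallyClosed (Localization.AtPrime q') := by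
  rw [normal_iff]
  intro Q hQ hle
  obtain ⟨s, hs⟩ := (isNoetherianRing_iff_ideal_fg _).1 inferInstance Q
  obtain ⟨k'', hFG, hk''⟩ :=
    SepTensorReg.exists_intermediateField k S k' (s : Set (S ⊗[k] k')) s.finite_toSet
  haveI : Algebra.EssFiniteType k k'' := IntermediateField.essFiniteType_iff.2 hFG
  apply cond_of_sub k S k' k'' Q (s : Set (S ⊗[k] k')) hs hk''
  exact normal_of_le S _ _ (Ideal.comap_mono hle) h

/-- the statement S4748 -/
theorem main (hft : Algebra.FiniteType k S ∨ Algebra.EssFiniteType k k')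
    [IsNoetherianRing (S ⊗[k] k')] (q' : Ideal (S ⊗[k] k')) [q'.IsPrime] :
    ((IsDomain (Localization.AtPrime q') ∧ IsIntegrallyClosed (Localization.AtPrime q')) →
        (IsDomain (Localization.AtPrime (q'.comap (algebraMap S (S ⊗[k] k')))) ∧
          IsIntegrallyClosed (Localization.AtPrime (q'.comap (algebraMap S (S ⊗[k] k')))))) ∧
      (Algebra.IsGeometricallyReduced k k' →
        (IsDomain (Localization.AtPrime (q'.comap (algebraMap S (S ⊗[k] k')))) ∧
          IsIntegrallyClosed (Localization.AtPrime (q'.comap (algebraMap S (S ⊗[k] k'))))) →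
          (IsDomain (Localization.AtPrime q') ∧ IsIntegrallyClosed (Localization.AtPrime q'))) := by
  constructor
  · rintro ⟨h1, h2⟩
    exact Groth.Agent.S2610.result S (S ⊗[k] k') q'
  · intro hsep h
    rcases hft with hft | hft
    · exact normal_ascent_finiteType k S k' q' h
    · exact normal_ascent_essFiniteType k S k' q' h

end BaseChange

end Groth.Agent.Helper2.NormalPt
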