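import Mathlib
import Groth.Prelude.Def_Found
import Groth.Prelude.Def_EGA4b
import Groth.Agent.Helper2.LemmaF
import Groth.Agent.Helper2.GeomReg
import Groth.Agent.Helper2.NormalPt
set_option autoImplicit false
universe u
open IsLocalRing TensorProduct

namespace Groth.Agent.Helper2.GeomNor

theorem isNormalRing_of_ringEquiv {R R' : Type u} [CommRing R] [CommRing R'] (e : R ≃+* R')
    (h : EGA4.IsNormalRing R) : EGA4.IsNormalRing R' := by
  intro p' hp'
  haveI : (p'.comap (e : R →+* R')).IsPrime := Ideal.comap_isPrime _ _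
  let e' := Localization.localRingEquiv (p'.comap (e : R →+* R')) p' e rfl
  obtain ⟨h1, h2⟩ := h (p'.comap (e : R →+* R'))
  exact ⟨e'.symm.toMulEquiv.isDomain, IsIntegrallyClosed.of_equiv e'⟩

/-- normality descends along faithfully flat maps of Noetherian rings -/
theorem isNormalRing_of_faithfullyFlat (A B : Type u) [CommRing A] [CommRing B]
    [IsNoetherianRing A] [IsNoetherianRing B] [Algebra A B] [Module.FaithfullyFlat A B]
    (h : EGA4.IsNormalRing B) : EGA4.IsNormalRing A := by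
  intro p hp
  obtain ⟨q, hq⟩ := PrimeSpectrum.comap_surjective_of_faithfullyFlat (B := B) ⟨p, hp⟩
  have hqp : q.asIdeal.comap (algebraMap A B) = p := congrArg PrimeSpectrum.asIdeal hq
  obtain ⟨h1, h2⟩ := h q.asIdeal
  exact Groth.Agent.Helper2.NormalPt.normal_congr A _ p hqp
    (Groth.Agent.S2610.result A B q.asIdeal)

/-- `K ⊗ S` is Noetherian for a finitely generated field extension `K` and Noetherian `S` -/
theorem isNoetherianRing_tensor (k S K : Type u) [Field k] [CommRing S] [Algebra k S]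
    [IsNoetherianRing S] [Field K] [Algebra k K] [Algebra.EssFiniteType k K] :
    IsNoetherianRing (K ⊗[k] S) := by
  haveI : IsNoetherianRing (S ⊗[k] K) :=
    Groth.Agent.Helper2.GeomReg.isNoetherianRing_of_essFiniteType S _
  exact isNoetherianRing_of_ringEquiv _ (Algebra.TensorProduct.comm k S K).toRingEquiv

section N
variable (k S : Type u) [Field k] [CommRing S] [Algebra k S] [IsNoetherianRing S]

theorem normal_of_purelyInseparable
    (hb : ∀ (k' : Type u) [Field k'] [Algebra k k'], Module.Finite k k' → IsPurelyInseparable k k' →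
      EGA4.IsNormalRing (k' ⊗[k] S))
    (K : Type u) [Field K] [Algebra k K] [Algebra.EssFiniteType k K] :
    EGA4.IsNormalRing (K ⊗[k] S) := by
  obtain ⟨k₁, K₁, _, _, _, _, _, _, _, _, hfin, hpi, hess, hsm⟩ :=
    Groth.Agent.Helper2.LemmaF.exists_fields k K
  have hR₁ : EGA4.IsNormalRing (k₁ ⊗[k] S) := hb k₁ hfin hpi
  haveI : Algebra.IsGeometricallyReduced k₁ K₁ :=
    Groth.Agent.Helper1.FieldSmooth.formallySmooth_iff_isGeometricallyReduced.mp hsm
  haveI : IsNoetherianRing (k₁ ⊗[k] S) := isNoetherianRing_tensor k S k₁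
  haveI : IsNoetherianRing ((k₁ ⊗[k] S) ⊗[k₁] K₁) :=
    Groth.Agent.Helper2.GeomReg.isNoetherianRing_of_essFiniteType (k₁ ⊗[k] S) _
  have hR₂ : EGA4.IsNormalRing ((k₁ ⊗[k] S) ⊗[k₁] K₁) := by
    intro q' hq'
    exact Groth.Agent.Helper2.NormalPt.normal_ascent_essFiniteType k₁ (k₁ ⊗[k] S) K₁ q' (hR₁ _)
  let e1 : (k₁ ⊗[k] S) ⊗[k₁] K₁ ≃+* K₁ ⊗[k₁] (k₁ ⊗[k] S) :=
    (Algebra.TensorProduct.comm k₁ (k₁ ⊗[k] S) K₁).toRingEquiv
  let e2 : K₁ ⊗[k₁] (k₁ ⊗[k] S) ≃+* K₁ ⊗[k] S :=
    (Algebra.TensorProduct.cancelBaseChange k k₁ K₁ K₁ S).toRingEquiv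
  let e3 : K₁ ⊗[K] (K ⊗[k] S) ≃+* K₁ ⊗[k] S :=
    (Algebra.TensorProduct.cancelBaseChange k K K₁ K₁ S).toRingEquiv
  let e4 : (K ⊗[k] S) ⊗[K] K₁ ≃+* K₁ ⊗[K] (K ⊗[k] S) :=
    (Algebra.TensorProduct.comm K (K ⊗[k] S) K₁).toRingEquiv
  have h3 : EGA4.IsNormalRing ((K ⊗[k] S) ⊗[K] K₁) :=
    isNormalRing_of_ringEquiv ((e1.trans e2).trans (e3.symm.trans e4.symm)) hR₂
  haveI : IsNoetherianRing (K ⊗[k] S) := isNoetherianRing_tensor k S K
  haveI : IsNoetherianRing ((K ⊗[k] S) ⊗[K] K₁) :=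
    isNoetherianRing_of_ringEquiv _ ((e1.trans e2).trans (e3.symm.trans e4.symm))
  exact isNormalRing_of_faithfullyFlat (K ⊗[k] S) ((K ⊗[k] S) ⊗[K] K₁) h3

/-- EGA IV 6.7.7, equivalence a) ⇔ b) ⇔ c) for normality. -/
theorem geomNormal_iff :
    (EGA4.IsGeomNormal k S ↔
        ∀ (k' : Type u) [Field k'] [Algebra k k'], Module.Finite k k' → IsPurelyInseparable k k' →
          EGA4.IsNormalRing (k' ⊗[k] S)) ∧
      (EGA4.IsGeomNormal k S ↔
        ∀ (K : Type u) [Field K] [Algebra k K], Algebra.EssFiniteType k K →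
          EGA4.IsNormalRing (K ⊗[k] S)) := by
  refine ⟨⟨fun h k' _ _ hfin _ => h k' hfin, fun hb k' _ _ hfin => ?_⟩,
    ⟨fun h K _ _ hK => ?_, fun hc k' _ _ hfin => ?_⟩⟩
  · haveI := hfin
    exact normal_of_purelyInseparable k S hb k'
  · haveI := hK
    exact normal_of_purelyInseparable k S (fun k' _ _ hfin _ => h k' hfin) K
  · haveI := hfin
    exact hc k' inferInstance

theorem normal_of_geomNormal (h : EGA4.IsGeomNormal k S)
    (K : Type u) [Field K] [Algebra k K] [Algebra.EssFiniteType k K] :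
    EGA4.IsNormalRing (K ⊗[k] S) :=
  (geomNormal_iff k S).2.mp h K inferInstance

/-- geometric normality ascends along finitely generated field extensions. -/
theorem geomNormal_ascent (h : EGA4.IsGeomNormal k S)
    (K : Type u) [Field K] [Algebra k K] [Algebra.EssFiniteType k K] :
    EGA4.IsGeomNormal K (K ⊗[k] S) := by
  intro K' _ _ hfin
  haveI := hfin
  letI : Algebra k K' := ((algebraMap K K').comp (algebraMap k K)).toAlgebra
  haveI : IsScalarTower k K K' := IsScalarTower.of_algebraMap_eq fun x => rfl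
  haveI : Algebra.EssFiniteType k K' := Algebra.EssFiniteType.comp k K K'
  have h1 : EGA4.IsNormalRing (K' ⊗[k] S) := normal_of_geomNormal k S h K'
  exact isNormalRing_of_ringEquiv
    (Algebra.TensorProduct.cancelBaseChange k K K' K' S).toRingEquiv.symm h1

/-- geometric normality descends along finitely generated field extensions. -/
theorem geomNormal_descent (K : Type u) [Field K] [Algebra k K] [Algebra.EssFiniteType k K]
    (h : EGA4.IsGeomNormal K (K ⊗[k] S)) : EGA4.IsGeomNormal k S := by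
  intro k' _ _ hfin
  haveI := hfin
  obtain ⟨m, hm⟩ := Ideal.exists_maximal (K ⊗[k] k')
  let L := (K ⊗[k] k') ⧸ m
  letI : Field L := Ideal.Quotient.field m
  letI : Algebra k' L := ((Ideal.Quotient.mk m).comp
    (Algebra.TensorProduct.includeRight : k' →ₐ[k] K ⊗[k] k').toRingHom).toAlgebra
  haveI : IsScalarTower k k' L := IsScalarTower.of_algebraMap_eq fun x => by
    change Ideal.Quotient.mk m (algebraMap k (K ⊗[k] k') x) =
      Ideal.Quotient.mk m (1 ⊗ₜ algebraMap k k' x)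
    congr 1
    rw [Algebra.TensorProduct.algebraMap_apply, Algebra.algebraMap_eq_smul_one,
      Algebra.algebraMap_eq_smul_one, TensorProduct.smul_tmul]
  haveI : Module.Finite K L := inferInstance
  haveI : Algebra.EssFiniteType k L := Algebra.EssFiniteType.comp k K L
  have h1 : EGA4.IsNormalRing (L ⊗[K] (K ⊗[k] S)) := h L inferInstance
  let e1 : L ⊗[K] (K ⊗[k] S) ≃+* L ⊗[k] S :=
    (Algebra.TensorProduct.cancelBaseChange k K L L S).toRingEquiv
  let e2 : L ⊗[k'] (k' ⊗[k] S) ≃+* L ⊗[k] S :=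
    (Algebra.TensorProduct.cancelBaseChange k k' L L S).toRingEquiv
  let e3 : (k' ⊗[k] S) ⊗[k'] L ≃+* L ⊗[k'] (k' ⊗[k] S) :=
    (Algebra.TensorProduct.comm k' (k' ⊗[k] S) L).toRingEquiv
  have h2 : EGA4.IsNormalRing ((k' ⊗[k] S) ⊗[k'] L) :=
    isNormalRing_of_ringEquiv (e1.trans (e2.symm.trans e3.symm)) h1
  haveI : IsNoetherianRing (k' ⊗[k] S) := isNoetherianRing_tensor k S k'
  haveI : IsNoetherianRing (L ⊗[k] S) := isNoetherianRing_tensor k S L
  haveI : IsNoetherianRing ((k' ⊗[k] S) ⊗[k'] L) :=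
    isNoetherianRing_of_ringEquiv _ (e2.symm.trans e3.symm)
  exact isNormalRing_of_faithfullyFlat (k' ⊗[k] S) ((k' ⊗[k] S) ⊗[k'] L) h2

end N

end Groth.Agent.Helper2.GeomNor
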