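import Mathlib
import Groth.Prelude.Def_Found
import Groth.Agent.Helper1.SerreFlatU
import Groth.Agent.Helper1.FieldSmooth6
import Groth.Agent.Helper2.RegSmooth
import Groth.Agent.Helper2.RegHom2

namespace Groth.Agent.Helper2.GeomRegSmooth
open IsLocalRing TensorProduct

universe u

section
variable (k : Type u) [Field k] (C : Type u) [CommRing C] [Algebra k C]
variable (K : Type u) [Field K] [Algebra k K]

/-- a finite subset of `K ⊗ C` comes from `k' ⊗ C` for a finite subextension `k'` (`K/k` algebraic). -/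
theorem exists_intermediateField [Algebra.IsAlgebraic k K] (s : Set (K ⊗[k] C)) (hs : s.Finite) :
    ∃ k' : IntermediateField k K, Module.Finite k k' ∧
      s ⊆ Set.range (Algebra.TensorProduct.map k'.val (AlgHom.id k C)) := by
  obtain ⟨M', hfin, hM'⟩ := TensorProduct.exists_finite_submodule_left_of_setFinite s hs
  obtain ⟨T, hT⟩ := (Module.Finite.iff_fg).1 hfin
  haveI : Finite (T : Set K) := T.finite_toSet.to_subtype
  let k' : IntermediateField k K := IntermediateField.adjoin k (T : Set K)
  have hfd : Module.Finite k k' :=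
    IntermediateField.finiteDimensional_adjoin
      (fun x _ => Algebra.IsIntegral.isIntegral x)
  have hle : M' ≤ k'.toSubalgebra.toSubmodule := by
    rw [← hT, Submodule.span_le]
    exact IntermediateField.subset_adjoin k _
  refine ⟨k', hfd, ?_⟩
  let ι : M' →ₗ[k] k' := Submodule.inclusion hle
  have key : ∀ z : M' ⊗[k] C, Algebra.TensorProduct.map k'.val (AlgHom.id k C) (ι.rTensor C z) =
      M'.subtype.rTensor C z := by
    intro z
    induction z using TensorProduct.induction_on with
    | zero => simp only [map_zero]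
    | tmul a c =>
      rw [LinearMap.rTensor_tmul, Algebra.TensorProduct.map_tmul, LinearMap.rTensor_tmul]
      rfl
    | add a b ha hb => simp only [map_add, ha, hb]
  intro y hy
  obtain ⟨z, rfl⟩ := hM' hy
  exact ⟨ι.rTensor C z, key z⟩

variable (k' : Type u) [Field k'] [Algebra k k'] [Algebra k' K] [IsScalarTower k k' K]

/-- flatness of `k' ⊗ C → K ⊗ C`. -/
theorem flat_map :
    letI : Algebra (k' ⊗[k] C) (K ⊗[k] C) :=
      (Algebra.TensorProduct.map (IsScalarTower.toAlgHom k k' K) (AlgHom.id k C)).toRingHom.toAlgebra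
    Module.Flat (k' ⊗[k] C) (K ⊗[k] C) := by
  letI : Algebra (k' ⊗[k] C) (K ⊗[k] C) :=
    (Algebra.TensorProduct.map (IsScalarTower.toAlgHom k k' K) (AlgHom.id k C)).toRingHom.toAlgebra
  haveI : IsScalarTower k' (k' ⊗[k] C) (K ⊗[k] C) := by
    refine IsScalarTower.of_algebraMap_eq (R := k') (S := k' ⊗[k] C) (A := K ⊗[k] C) (fun x => ?_)
    rw [RingHom.algebraMap_toAlgebra
      (Algebra.TensorProduct.map (IsScalarTower.toAlgHom k k' K) (AlgHom.id k C)).toRingHom]
    simp only [Algebra.TensorProduct.algebraMap_apply, AlgHom.toRingHom_eq_coe, RingHom.coe_coe,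
      Algebra.TensorProduct.map_tmul, map_one]
    rfl
  have hpo : Algebra.IsPushout k' K (k' ⊗[k] C) (K ⊗[k] C) :=
    Algebra.IsPushout.tensorProduct_tensorProduct k C k' K (by
      ext c
      simp [RingHom.algebraMap_toAlgebra])
  have hpo' := hpo.symm
  exact Module.Flat.isBaseChange (R := k') (S := k' ⊗[k] C) (M := K) (N := K ⊗[k] C) hpo'.out

/-- local regularity descends from a finite level -/
theorem regular_at [IsNoetherianRing (K ⊗[k] C)]
    [IsRegularRing (k' ⊗[k] C)] (Q : Ideal (K ⊗[k] C)) [hQ : Q.IsPrime] (s : Set (K ⊗[k] C))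
    (hs : Ideal.span s = Q)
    (hk' : s ⊆ Set.range
      (Algebra.TensorProduct.map (IsScalarTower.toAlgHom k k' K) (AlgHom.id k C))) :
    IsRegularLocalRing (Localization.AtPrime Q) := by
  letI : Algebra (k' ⊗[k] C) (K ⊗[k] C) :=
    (Algebra.TensorProduct.map (IsScalarTower.toAlgHom k k' K) (AlgHom.id k C)).toRingHom.toAlgebra
  haveI : Module.Flat (k' ⊗[k] C) (K ⊗[k] C) := flat_map k C K k'
  have hU : Groth.Agent.Helper1.SerreFlatU.UnrAt (k' ⊗[k] C) (K ⊗[k] C) Q := by
    intro x hx
    refine ⟨1, fun h1 => hQ.ne_top ((Ideal.eq_top_iff_one _).2 h1), ?_⟩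
    rw [one_mul]
    have hle : Q ≤ (Q.under (k' ⊗[k] C)).map (algebraMap (k' ⊗[k] C) (K ⊗[k] C)) := by
      rw [← hs, Ideal.span_le]
      intro y hy
      obtain ⟨y', rfl⟩ := hk' hy
      have hy' : (Algebra.TensorProduct.map (IsScalarTower.toAlgHom k k' K) (AlgHom.id k C)) y' ∈
          Ideal.span s := Ideal.subset_span hy
      have hy'' : y' ∈ (Ideal.span s).under (k' ⊗[k] C) := hy'
      exact Ideal.mem_map_of_mem (algebraMap (k' ⊗[k] C) (K ⊗[k] C)) hy''
    exact hle hx
  rw [Groth.Agent.Helper1.SerreFlatU.regular_atPrime' Q hU]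
  infer_instance

/-- a geometrically regular algebra of finite type stays regular after any algebraic extension -/
theorem isRegularRing_tensor_of_isAlgebraic [Algebra.FiniteType k C] [Algebra.IsAlgebraic k K]
    (h : CAlg.IsGeometricallyRegular k C) : IsRegularRing (K ⊗[k] C) := by
  haveI : IsNoetherianRing (K ⊗[k] C) := Algebra.FiniteType.isNoetherianRing K _
  rw [isRegularRing_iff]
  intro Q hQ
  obtain ⟨s, hs⟩ := (isNoetherianRing_iff_ideal_fg _).1 inferInstance Q
  obtain ⟨k', hfd, hk'⟩ := exists_intermediateField k C K (s : Set (K ⊗[k] C)) s.finite_toSet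
  haveI : IsRegularRing (k' ⊗[k] C) := h k' hfd
  exact regular_at k C K k' Q (s : Set (K ⊗[k] C)) hs hk'

/-- a geometrically regular algebra of finite type over a field is smooth -/
theorem smooth_of_isGeometricallyRegular [Algebra.FiniteType k C]
    (h : CAlg.IsGeometricallyRegular k C) : Algebra.Smooth k C := by
  haveI : IsRegularRing (AlgebraicClosure k ⊗[k] C) :=
    isRegularRing_tensor_of_isAlgebraic k C (AlgebraicClosure k) h
  haveI : Algebra.FinitePresentation (AlgebraicClosure k) (AlgebraicClosure k ⊗[k] C) :=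
    Algebra.FinitePresentation.of_finiteType.1 inferInstance
  haveI : Algebra.Smooth (AlgebraicClosure k) (AlgebraicClosure k ⊗[k] C) := by
    refine ⟨?_, inferInstance⟩
    refine Algebra.smoothLocus_eq_univ_iff.mp (Set.eq_univ_iff_forall.mpr fun q => ?_)
    haveI : Algebra.IsGeometricallyReduced (AlgebraicClosure k) q.asIdeal.ResidueField :=
      Groth.Agent.Helper1.FieldSmooth.isGeometricallyReduced_of_perfectField
    change Algebra.IsSmoothAt (AlgebraicClosure k) q.asIdeal
    rw [Groth.Agent.Helper2.RegSmooth.isSmoothAt_iff_isRegularLocalRing]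
    infer_instance
  exact Algebra.Smooth.of_smooth_tensorProduct_of_faithfullyFlat (AlgebraicClosure k)

end

end Groth.Agent.Helper2.GeomRegSmooth
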