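import Mathlib
import Groth.Prelude.Def_Found
import Groth.Agent.Helper2.GeomReg
import Groth.Agent.Helper2.GeomNor
import Groth.Agent.Helper2.GeomRegSmooth
import Groth.Agent.Helper2.RegComp
set_option autoImplicit false
universe u
open IsLocalRing TensorProduct

namespace Groth.Agent.Helper2.GeomReg2

/-- a geometrically regular algebra of finite type stays regular after any field extension -/
theorem regular_tensor_of_finiteType (k T : Type u) [Field k] [CommRing T] [Algebra k T]
    [Algebra.FiniteType k T] (hT : CAlg.IsGeometricallyRegular k T)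
    (K : Type u) [Field K] [Algebra k K] : IsRegularRing (K ⊗[k] T) := by
  haveI : Algebra.Smooth k T :=
    Groth.Agent.Helper2.GeomRegSmooth.smooth_of_isGeometricallyRegular k T hT
  haveI : Algebra.Smooth K (K ⊗[k] T) := inferInstance
  exact Groth.Agent.Helper2.SepTensorReg.isRegularRing_of_formallySmooth K (K ⊗[k] T)

section Tensor
variable (k S T : Type u) [Field k] [CommRing S] [CommRing T] [Algebra k S] [Algebra k T]

theorem regular_tensor [IsNoetherianRing S] [IsNoetherianRing (S ⊗[k] T)]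
    (hft : Algebra.FiniteType k S ∨ Algebra.FiniteType k T)
    (hS : IsRegularRing S) (hT : CAlg.IsGeometricallyRegular k T) :
    IsRegularRing (S ⊗[k] T) := by
  rw [isRegularRing_iff]
  intro r hr
  apply Groth.Agent.Helper2.RegComp.isRegularLocalRing_of_fiber S (S ⊗[k] T) r
    (isRegularRing_iff.mp hS _)
  set p := r.comap (algebraMap S (S ⊗[k] T)) with hp
  have e : p.ResidueField ⊗[S] (S ⊗[k] T) ≃ₐ[p.ResidueField] p.ResidueField ⊗[k] T :=
    Algebra.TensorProduct.cancelBaseChange k S p.ResidueField p.ResidueField T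
  haveI : IsRegularRing (p.ResidueField ⊗[k] T) := by
    rcases hft with hft | hft
    · haveI : Algebra.EssFiniteType k p.ResidueField := Algebra.EssFiniteType.comp k S _
      exact Groth.Agent.Helper2.GeomReg.regular_of_geomRegular k T hT p.ResidueField
    · exact regular_tensor_of_finiteType k T hT p.ResidueField
  exact IsRegularRing.of_ringEquiv e.symm.toRingEquiv

theorem geomRegular_tensor [IsNoetherianRing S] [IsNoetherianRing (S ⊗[k] T)]
    (hft : Algebra.FiniteType k S ∨ Algebra.FiniteType k T)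
    (hS : CAlg.IsGeometricallyRegular k S) (hT : CAlg.IsGeometricallyRegular k T) :
    CAlg.IsGeometricallyRegular k (S ⊗[k] T) := by
  intro k' _ _ hfin
  haveI := hfin
  let e1 : (k' ⊗[k] S) ⊗[k'] (k' ⊗[k] T) ≃+* (k' ⊗[k] S) ⊗[k] T :=
    (Algebra.TensorProduct.cancelBaseChange k k' k' (k' ⊗[k] S) T).toRingEquiv
  let e2 : (k' ⊗[k] S) ⊗[k] T ≃+* k' ⊗[k] (S ⊗[k] T) :=
    (Algebra.TensorProduct.assoc k k k' k' S T).toRingEquiv
  haveI : IsNoetherianRing (k' ⊗[k] S) := Groth.Agent.Helper2.GeomNor.isNoetherianRing_tensor k S k'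
  haveI : IsNoetherianRing (k' ⊗[k] (S ⊗[k] T)) :=
    Groth.Agent.Helper2.GeomNor.isNoetherianRing_tensor k (S ⊗[k] T) k'
  haveI : IsNoetherianRing ((k' ⊗[k] S) ⊗[k'] (k' ⊗[k] T)) :=
    isNoetherianRing_of_ringEquiv _ (e1.trans e2).symm
  have hft' : Algebra.FiniteType k' (k' ⊗[k] S) ∨ Algebra.FiniteType k' (k' ⊗[k] T) := by
    rcases hft with h | h
    · left; infer_instance
    · right; infer_instance
  haveI : IsRegularRing ((k' ⊗[k] S) ⊗[k'] (k' ⊗[k] T)) :=
    regular_tensor k' (k' ⊗[k] S) (k' ⊗[k] T) hft' (hS k' hfin)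
      (Groth.Agent.Helper2.GeomReg.geomRegular_ascent k T hT k')
  exact IsRegularRing.of_ringEquiv (e1.trans e2)

end Tensor

end Groth.Agent.Helper2.GeomReg2
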