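import Mathlib
import Groth.Prelude.Def_Found
import Groth.Prelude.Def_EGA4b
import Groth.Agent.Helper2.GeomNor
import Groth.Agent.Helper2.GeomReg2
set_option autoImplicit false
universe u
open IsLocalRing TensorProduct

namespace Groth.Agent.Helper2.GeomNor2

open Groth.Agent.Helper1.SerreFlatU Groth.Agent.Helper6.SerreNormal Groth.Agent.Helper2.NormalPt
open Groth.Agent.Helper2.GeomNor

section Fib
variable (A B : Type u) [CommRing A] [CommRing B] [Algebra A B]

/-- the local ring of a normal fibre is a normal domain -/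
theorem fibLocRing_normal (Q : Ideal B) [hQ : Q.IsPrime]
    (hF : EGA4.IsNormalRing ((Q.comap (algebraMap A B)).Fiber B)) :
    IsDomain (EGA4.FibLocRing A B Q) ∧ IsIntegrallyClosed (EGA4.FibLocRing A B Q) := by
  set p := Q.comap (algebraMap A B) with hp
  haveI : p.IsPrime := Ideal.comap_isPrime _ _
  let q := PrimeSpectrum.preimageEquivFiber A B ⟨p, inferInstance⟩ ⟨⟨Q, hQ⟩, rfl⟩
  have hq : q.asIdeal.comap (Algebra.TensorProduct.includeRight : B →ₐ[A] p.Fiber B) = Q := by
    have := (PrimeSpectrum.preimageEquivFiber A B ⟨p, inferInstance⟩).left_inv ⟨⟨Q, hQ⟩, rfl⟩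
    exact congrArg (fun x => x.1.asIdeal) this
  letI := Localization.AtPrime.algebraOfLiesOver p
    (q.asIdeal.comap (Algebra.TensorProduct.includeRight : B →ₐ[A] p.Fiber B))
  have e := Ideal.Fiber.localizationAlgEquivQuotient p q.asIdeal
  obtain ⟨hd, hic⟩ := hF q.asIdeal
  have h1 : IsDomain (Localization.AtPrime
        (q.asIdeal.comap (Algebra.TensorProduct.includeRight : B →ₐ[A] p.Fiber B)) ⧸
        p.map (algebraMap A (Localization.AtPrime
          (q.asIdeal.comap (Algebra.TensorProduct.includeRight : B →ₐ[A] p.Fiber B))))) ∧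
      IsIntegrallyClosed (Localization.AtPrime
        (q.asIdeal.comap (Algebra.TensorProduct.includeRight : B →ₐ[A] p.Fiber B)) ⧸
        p.map (algebraMap A (Localization.AtPrime
          (q.asIdeal.comap (Algebra.TensorProduct.includeRight : B →ₐ[A] p.Fiber B))))) :=
    ⟨e.symm.toRingEquiv.toMulEquiv.isDomain, IsIntegrallyClosed.of_equiv (R := Localization.AtPrime q.asIdeal) e.toRingEquiv⟩
  have key : ∀ (r : Ideal B) [r.IsPrime], r = Q →
      (IsDomain (Localization.AtPrime r ⧸ p.map (algebraMap A (Localization.AtPrime r))) ∧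
        IsIntegrallyClosed
          (Localization.AtPrime r ⧸ p.map (algebraMap A (Localization.AtPrime r)))) →
      (IsDomain (Localization.AtPrime Q ⧸ p.map (algebraMap A (Localization.AtPrime Q))) ∧
        IsIntegrallyClosed
          (Localization.AtPrime Q ⧸ p.map (algebraMap A (Localization.AtPrime Q)))) := by
    rintro r _ rfl h
    exact h
  exact key _ hq h1

/-- normality ascends along a flat map of Noetherian rings with normal fibre rings -/
theorem isNormalRing_of_flat [IsNoetherianRing A] [IsNoetherianRing B] [Module.Flat A B]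
    (hA : EGA4.IsNormalRing A)
    (hfib : ∀ (p : Ideal A) [p.IsPrime], EGA4.IsNormalRing (p.Fiber B)) :
    EGA4.IsNormalRing B := by
  intro q hq
  obtain ⟨h1, h2⟩ := hA (q.comap (algebraMap A B))
  exact Groth.Agent.Helper2.FlatAscent.normal_ascent A B
    (fun Q _ => fibLocRing_normal A B Q (hfib _)) q

end Fib

section Sub
variable (k S k' : Type u) [Field k] [CommRing S] [Algebra k S] [Field k'] [Algebra k k']

/-- the pointwise Serre condition at a prime captured by a subfield over which `S ⊗ -` is normal -/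
theorem cond_of_sub' [Algebra.FiniteType k S] [IsNoetherianRing (S ⊗[k] k')]
    (k'' : Type u) [Field k''] [Algebra k k''] [Algebra k'' k'] [IsScalarTower k k'' k']
    (Q : Ideal (S ⊗[k] k')) [hQ : Q.IsPrime] (s : Set (S ⊗[k] k')) (hs : Ideal.span s = Q)
    (hk'' : s ⊆ Set.range
      (Algebra.TensorProduct.map (AlgHom.id k S) (IsScalarTower.toAlgHom k k'' k')))
    (h : EGA4.IsNormalRing (S ⊗[k] k'')) :
    Cond (S ⊗[k] k') Q := by
  haveI : IsNoetherianRing (k'' ⊗[k] S) := Algebra.FiniteType.isNoetherianRing k'' _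
  haveI : IsNoetherianRing (S ⊗[k] k'') :=
    isNoetherianRing_of_ringEquiv (k'' ⊗[k] S) (Algebra.TensorProduct.comm k k'' S).toRingEquiv
  letI : Algebra (S ⊗[k] k'') (S ⊗[k] k') :=
    (Algebra.TensorProduct.map (AlgHom.id k S) (IsScalarTower.toAlgHom k k'' k')).toRingHom.toAlgebra
  haveI : Module.Flat (S ⊗[k] k'') (S ⊗[k] k') := SepTensorReg.flat_map k S k' k''
  have hU : UnrAt (S ⊗[k] k'') (S ⊗[k] k') Q := by
    intro x hx
    refine ⟨1, fun h1 => hQ.ne_top ((Ideal.eq_top_iff_one _).2 h1), ?_⟩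
    rw [one_mul]
    have hle : Q ≤ (Q.under (S ⊗[k] k'')).map (algebraMap (S ⊗[k] k'') (S ⊗[k] k')) := by
      rw [← hs, Ideal.span_le]
      intro y hy
      obtain ⟨y', rfl⟩ := hk'' hy
      have hy' : (Algebra.TensorProduct.map (AlgHom.id k S) (IsScalarTower.toAlgHom k k'' k')) y' ∈
          Ideal.span s := Ideal.subset_span hy
      have hy'' : y' ∈ (Ideal.span s).under (S ⊗[k] k'') := hy'
      exact Ideal.mem_map_of_mem (algebraMap (S ⊗[k] k'') (S ⊗[k] k')) hy''
    exact hle hx
  have hN'' := h (Q.under (S ⊗[k] k''))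
  have hC := (normal_iff (S ⊗[k] k'') (Q.under (S ⊗[k] k''))).1 hN'' (Q.under (S ⊗[k] k'')) le_rfl
  unfold Cond at hC ⊢
  rw [height_eq' Q hU, depth_atPrime' Q hU, regular_atPrime' Q hU]
  exact hC

/-- a geometrically normal algebra of finite type stays normal after any field extension -/
theorem normal_tensor_of_finiteType' [Algebra.FiniteType k S] (hS : EGA4.IsGeomNormal k S) :
    EGA4.IsNormalRing (S ⊗[k] k') := by
  haveI : IsNoetherianRing S := Algebra.FiniteType.isNoetherianRing k S
  haveI : IsNoetherianRing (k' ⊗[k] S) := Algebra.FiniteType.isNoetherianRing k' _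
  haveI : IsNoetherianRing (S ⊗[k] k') :=
    isNoetherianRing_of_ringEquiv (k' ⊗[k] S) (Algebra.TensorProduct.comm k k' S).toRingEquiv
  intro q' hq'
  rw [normal_iff]
  intro Q hQ hle
  obtain ⟨s, hs⟩ := (isNoetherianRing_iff_ideal_fg _).1 inferInstance Q
  obtain ⟨k'', hFG, hk''⟩ :=
    SepTensorReg.exists_intermediateField k S k' (s : Set (S ⊗[k] k')) s.finite_toSet
  haveI : Algebra.EssFiniteType k k'' := IntermediateField.essFiniteType_iff.2 hFG
  apply cond_of_sub' k S k' k'' Q (s : Set (S ⊗[k] k')) hs hk''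
  exact isNormalRing_of_ringEquiv (Algebra.TensorProduct.comm k k'' S).toRingEquiv
    (normal_of_geomNormal k S hS k'')

theorem normal_tensor_of_finiteType [Algebra.FiniteType k S] (hS : EGA4.IsGeomNormal k S) :
    EGA4.IsNormalRing (k' ⊗[k] S) :=
  isNormalRing_of_ringEquiv (Algebra.TensorProduct.comm k S k').toRingEquiv
    (normal_tensor_of_finiteType' k S k' hS)

end Sub

section Tensor
variable (k S T : Type u) [Field k] [CommRing S] [CommRing T] [Algebra k S] [Algebra k T]

theorem normal_tensor [IsNoetherianRing S] [IsNoetherianRing T] [IsNoetherianRing (S ⊗[k] T)]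
    (hft : Algebra.FiniteType k S ∨ Algebra.FiniteType k T)
    (hS : EGA4.IsNormalRing S) (hT : EGA4.IsGeomNormal k T) :
    EGA4.IsNormalRing (S ⊗[k] T) := by
  apply isNormalRing_of_flat S (S ⊗[k] T) hS
  intro p hp
  have e : p.ResidueField ⊗[S] (S ⊗[k] T) ≃ₐ[p.ResidueField] p.ResidueField ⊗[k] T :=
    Algebra.TensorProduct.cancelBaseChange k S p.ResidueField p.ResidueField T
  have h1 : EGA4.IsNormalRing (p.ResidueField ⊗[k] T) := by
    rcases hft with hft | hft
    · haveI : Algebra.EssFiniteType k p.ResidueField := Algebra.EssFiniteType.comp k S _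
      exact normal_of_geomNormal k T hT p.ResidueField
    · exact normal_tensor_of_finiteType k T p.ResidueField hT
  exact isNormalRing_of_ringEquiv e.symm.toRingEquiv h1

theorem geomNormal_tensor [IsNoetherianRing S] [IsNoetherianRing T] [IsNoetherianRing (S ⊗[k] T)]
    (hft : Algebra.FiniteType k S ∨ Algebra.FiniteType k T)
    (hS : EGA4.IsGeomNormal k S) (hT : EGA4.IsGeomNormal k T) :
    EGA4.IsGeomNormal k (S ⊗[k] T) := by
  intro k' _ _ hfin
  haveI := hfin
  let e1 : (k' ⊗[k] S) ⊗[k'] (k' ⊗[k] T) ≃+* (k' ⊗[k] S) ⊗[k] T :=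
    (Algebra.TensorProduct.cancelBaseChange k k' k' (k' ⊗[k] S) T).toRingEquiv
  let e2 : (k' ⊗[k] S) ⊗[k] T ≃+* k' ⊗[k] (S ⊗[k] T) :=
    (Algebra.TensorProduct.assoc k k k' k' S T).toRingEquiv
  haveI : IsNoetherianRing (k' ⊗[k] S) := isNoetherianRing_tensor k S k'
  haveI : IsNoetherianRing (k' ⊗[k] T) := isNoetherianRing_tensor k T k'
  haveI : IsNoetherianRing (k' ⊗[k] (S ⊗[k] T)) := isNoetherianRing_tensor k (S ⊗[k] T) k'
  haveI : IsNoetherianRing ((k' ⊗[k] S) ⊗[k'] (k' ⊗[k] T)) :=
    isNoetherianRing_of_ringEquiv _ (e1.trans e2).symm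
  have hft' : Algebra.FiniteType k' (k' ⊗[k] S) ∨ Algebra.FiniteType k' (k' ⊗[k] T) := by
    rcases hft with h | h
    · left; infer_instance
    · right; infer_instance
  have h3 : EGA4.IsNormalRing ((k' ⊗[k] S) ⊗[k'] (k' ⊗[k] T)) :=
    normal_tensor k' (k' ⊗[k] S) (k' ⊗[k] T) hft' (hS k' hfin) (geomNormal_ascent k T hT k')
  exact isNormalRing_of_ringEquiv (e1.trans e2) h3

end Tensor

end Groth.Agent.Helper2.GeomNor2
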