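import Mathlib
import Groth.Prelude.Def_Found
import Groth.Agent.Helper2.GeomReg
import Groth.Agent.Helper2.GeomNor
import Groth.Agent.Helper2.GeomReg2
set_option autoImplicit false
universe u
open IsLocalRing TensorProduct

namespace Groth.Agent.Helper2.RegBC

/-- transport of geometric regularity along an isomorphism of algebras -/
theorem geomRegular_of_algEquiv {K X Y : Type u} [Field K] [CommRing X] [CommRing Y] [Algebra K X]
    [Algebra K Y] (e : X ≃ₐ[K] Y) (h : CAlg.IsGeometricallyRegular K X) :
    CAlg.IsGeometricallyRegular K Y := by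
  intro k' _ _ hfin
  haveI := h k' hfin
  exact IsRegularRing.of_ringEquiv
    (Algebra.TensorProduct.congr (AlgEquiv.refl : k' ≃ₐ[K] k') e).toRingEquiv

/-- a geometrically regular algebra of finite type stays geometrically regular after any
field extension -/
theorem geomRegular_baseChange_of_finiteType (k T : Type u) [Field k] [CommRing T] [Algebra k T]
    [Algebra.FiniteType k T] (hT : CAlg.IsGeometricallyRegular k T)
    (K : Type u) [Field K] [Algebra k K] : CAlg.IsGeometricallyRegular K (K ⊗[k] T) := by
  intro K' _ _ hfin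
  letI : Algebra k K' := ((algebraMap K K').comp (algebraMap k K)).toAlgebra
  haveI : IsScalarTower k K K' := IsScalarTower.of_algebraMap_eq fun x => rfl
  haveI : IsRegularRing (K' ⊗[k] T) :=
    Groth.Agent.Helper2.GeomReg2.regular_tensor_of_finiteType k T hT K'
  exact IsRegularRing.of_ringEquiv
    (Algebra.TensorProduct.cancelBaseChange k K K' K' T).toRingEquiv.symm

section Fib
variable (A A' B : Type u) [CommRing A] [CommRing A'] [CommRing B] [Algebra A A'] [Algebra A B]
  (p : Ideal A) [p.IsPrime] (p' : Ideal A') [p'.IsPrime] [p'.LiesOver p]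

/-- the fibre of `A' → A' ⊗ B` over `p'` is the base change of the fibre of `A → B` over `p`. -/
theorem nonempty_fiber_algEquiv :
    letI := Localization.AtPrime.algebraOfLiesOver p p'
    Nonempty (p'.Fiber (A' ⊗[A] B) ≃ₐ[p'.ResidueField]
      p'.ResidueField ⊗[p.ResidueField] (p.Fiber B)) := by
  letI := Localization.AtPrime.algebraOfLiesOver p p'
  let κ := p.ResidueField
  let κ' := p'.ResidueField
  let e1 : κ' ⊗[A'] (A' ⊗[A] B) ≃ₐ[κ'] κ' ⊗[A] B :=
    Algebra.TensorProduct.cancelBaseChange A A' κ' κ' B
  let e2 : κ' ⊗[κ] (κ ⊗[A] B) ≃ₐ[κ'] κ' ⊗[A] B :=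
    Algebra.TensorProduct.cancelBaseChange A κ κ' κ' B
  exact ⟨e1.trans e2.symm⟩

end Fib

section Main
variable (A B A' : Type u) [CommRing A] [CommRing B] [CommRing A'] [Algebra A B] [Algebra A A']

theorem isNoetherianRing_fiber [IsNoetherianRing B] (p : Ideal A) [p.IsPrime] : IsNoetherianRing (p.Fiber B) := by
  haveI : IsNoetherianRing (B ⊗[A] p.ResidueField) :=
    Groth.Agent.Helper2.GeomReg.isNoetherianRing_of_essFiniteType B _
  exact isNoetherianRing_of_ringEquiv _
    (Algebra.TensorProduct.comm A B p.ResidueField).toRingEquiv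

theorem isRegularHom_baseChange (hft : Algebra.FiniteType A B ∨ Algebra.FiniteType A A')
    (h : CAlg.IsRegularHom A B) : CAlg.IsRegularHom A' (A' ⊗[A] B) := by
  haveI : Module.Flat A B := h.1
  refine ⟨inferInstance, fun p' hp' => ?_⟩
  set p := p'.under A with hp
  letI := Localization.AtPrime.algebraOfLiesOver p p'
  obtain ⟨e⟩ := nonempty_fiber_algEquiv A A' B p p'
  obtain ⟨hN, hG⟩ := h.2 p
  rcases hft with hft | hft
  · haveI : Algebra.FiniteType p.ResidueField (p.Fiber B) := inferInstance
    refine ⟨?_, ?_⟩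
    · haveI : Algebra.FiniteType p'.ResidueField (p'.Fiber (A' ⊗[A] B)) := inferInstance
      exact Algebra.FiniteType.isNoetherianRing p'.ResidueField _
    · exact geomRegular_of_algEquiv e.symm
        (geomRegular_baseChange_of_finiteType p.ResidueField (p.Fiber B) hG p'.ResidueField)
  · haveI : Algebra.EssFiniteType p.ResidueField p'.ResidueField := inferInstance
    refine ⟨?_, ?_⟩
    · haveI := Groth.Agent.Helper2.GeomNor.isNoetherianRing_tensor p.ResidueField (p.Fiber B)
        p'.ResidueField
      exact isNoetherianRing_of_ringEquiv _ e.symm.toRingEquiv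
    · exact geomRegular_of_algEquiv e.symm
        (Groth.Agent.Helper2.GeomReg.geomRegular_ascent p.ResidueField (p.Fiber B) hG
          p'.ResidueField)

theorem isRegularHom_of_baseChange [IsNoetherianRing B] [Module.FaithfullyFlat A A']
    (h : CAlg.IsRegularHom A' (A' ⊗[A] B)) : CAlg.IsRegularHom A B := by
  haveI : Module.Flat A' (A' ⊗[A] B) := h.1
  refine ⟨Module.Flat.of_flat_tensorProduct A B A', fun p hp => ⟨isNoetherianRing_fiber A B p, ?_⟩⟩
  obtain ⟨q, hq⟩ := PrimeSpectrum.comap_surjective_of_faithfullyFlat (B := A') ⟨p, hp⟩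
  haveI : q.asIdeal.LiesOver p := ⟨by
    have := congrArg PrimeSpectrum.asIdeal hq
    exact this.symm⟩
  letI := Localization.AtPrime.algebraOfLiesOver p q.asIdeal
  obtain ⟨e⟩ := nonempty_fiber_algEquiv A A' B p q.asIdeal
  exact Groth.Agent.Helper2.GeomReg.geomRegular_descent p.ResidueField (p.Fiber B)
    q.asIdeal.ResidueField (geomRegular_of_algEquiv e (h.2 q.asIdeal).2)

end Main

end Groth.Agent.Helper2.RegBC
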