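import Mathlib
import Groth.Prelude.Def_Found
import Groth.Prelude.Def_EGA4b
import Groth.Agent.Helper2.GeomNor2
import Groth.Agent.Helper2.RegBC
set_option autoImplicit false
universe u
open IsLocalRing TensorProduct

namespace Groth.Agent.Helper2.NorBC

open Groth.Agent.Helper2.GeomNor Groth.Agent.Helper2.GeomNor2

/-- transport of geometric normality along an isomorphism of algebras -/
theorem geomNormal_of_algEquiv {K X Y : Type u} [Field K] [CommRing X] [CommRing Y] [Algebra K X]
    [Algebra K Y] (e : X ≃ₐ[K] Y) (h : EGA4.IsGeomNormal K X) : EGA4.IsGeomNormal K Y := by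
  intro k' _ _ hfin
  exact isNormalRing_of_ringEquiv
    (Algebra.TensorProduct.congr (AlgEquiv.refl : k' ≃ₐ[K] k') e).toRingEquiv (h k' hfin)

/-- a geometrically normal algebra of finite type stays geometrically normal after any
field extension -/
theorem geomNormal_baseChange_of_finiteType (k T : Type u) [Field k] [CommRing T] [Algebra k T]
    [Algebra.FiniteType k T] (hT : EGA4.IsGeomNormal k T)
    (K : Type u) [Field K] [Algebra k K] : EGA4.IsGeomNormal K (K ⊗[k] T) := by
  intro K' _ _ hfin
  letI : Algebra k K' := ((algebraMap K K').comp (algebraMap k K)).toAlgebra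
  haveI : IsScalarTower k K K' := IsScalarTower.of_algebraMap_eq fun x => rfl
  have h1 : EGA4.IsNormalRing (K' ⊗[k] T) := normal_tensor_of_finiteType k T K' hT
  exact isNormalRing_of_ringEquiv
    (Algebra.TensorProduct.cancelBaseChange k K K' K' T).toRingEquiv.symm h1

/-- geometric normality descends along arbitrary field extensions (Noetherian case). -/
theorem geomNormal_descent' (k S : Type u) [Field k] [CommRing S] [Algebra k S]
    [IsNoetherianRing S] (K : Type u) [Field K] [Algebra k K] [IsNoetherianRing (K ⊗[k] S)]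
    (h : EGA4.IsGeomNormal K (K ⊗[k] S)) : EGA4.IsGeomNormal k S := by
  intro k' _ _ hfin
  haveI := hfin
  obtain ⟨m, hm⟩ := Ideal.exists_maximal (K ⊗[k] k')
  let L := (K ⊗[k] k') ⧸ m
  letI : Field L := Ideal.Quotient.field m
  letI : Algebra k' L := ((Ideal.Quotient.mk m).comp
    (Algebra.TensorProduct.includeRight : k' →ₐ[k] K ⊗[k] k').toRingHom).toAlgebra
  haveI : IsScalarTower k k' L := IsScalarTower.of_algebraMap_eq fun x => by
    change Ideal.Quotient.mk m (algebraMap k (K ⊗[k] k') x) =
      Ideal.Quotient.mk m (1 ⊗ₜ algebraMap k k' x)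
    congr 1
    rw [Algebra.TensorProduct.algebraMap_apply, Algebra.algebraMap_eq_smul_one,
      Algebra.algebraMap_eq_smul_one, TensorProduct.smul_tmul]
  haveI : Module.Finite K L := inferInstance
  have h1 : EGA4.IsNormalRing (L ⊗[K] (K ⊗[k] S)) := h L inferInstance
  let e1 : L ⊗[K] (K ⊗[k] S) ≃+* L ⊗[k] S :=
    (Algebra.TensorProduct.cancelBaseChange k K L L S).toRingEquiv
  let e2 : L ⊗[k'] (k' ⊗[k] S) ≃+* L ⊗[k] S :=
    (Algebra.TensorProduct.cancelBaseChange k k' L L S).toRingEquiv
  let e3 : (k' ⊗[k] S) ⊗[k'] L ≃+* L ⊗[k'] (k' ⊗[k] S) :=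
    (Algebra.TensorProduct.comm k' (k' ⊗[k] S) L).toRingEquiv
  have h2 : EGA4.IsNormalRing ((k' ⊗[k] S) ⊗[k'] L) :=
    isNormalRing_of_ringEquiv (e1.trans (e2.symm.trans e3.symm)) h1
  haveI : IsNoetherianRing (k' ⊗[k] S) := isNoetherianRing_tensor k S k'
  haveI : IsNoetherianRing (L ⊗[K] (K ⊗[k] S)) := isNoetherianRing_tensor K (K ⊗[k] S) L
  haveI : IsNoetherianRing ((k' ⊗[k] S) ⊗[k'] L) :=
    isNoetherianRing_of_ringEquiv _ (e1.trans (e2.symm.trans e3.symm))
  exact isNormalRing_of_faithfullyFlat (k' ⊗[k] S) ((k' ⊗[k] S) ⊗[k'] L) h2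

section Main
variable (A B A' : Type u) [CommRing A] [CommRing B] [CommRing A'] [Algebra A B] [Algebra A A']

theorem isNormalHom_baseChange [IsNoetherianRing B]
    (hft : Algebra.FiniteType A B ∨ Algebra.FiniteType A A')
    (h : EGA4.IsNormalHom A B) : EGA4.IsNormalHom A' (A' ⊗[A] B) := by
  haveI : Module.Flat A B := h.1
  refine ⟨inferInstance, fun p' hp' => ?_⟩
  set p := p'.under A with hp
  letI := Localization.AtPrime.algebraOfLiesOver p p'
  obtain ⟨e⟩ := Groth.Agent.Helper2.RegBC.nonempty_fiber_algEquiv A A' B p p'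
  have hG := h.2 p
  haveI := Groth.Agent.Helper2.RegBC.isNoetherianRing_fiber A B p
  rcases hft with hft | hft
  · haveI : Algebra.FiniteType p.ResidueField (p.Fiber B) := inferInstance
    exact geomNormal_of_algEquiv e.symm
      (geomNormal_baseChange_of_finiteType p.ResidueField (p.Fiber B) hG p'.ResidueField)
  · haveI : Algebra.EssFiniteType p.ResidueField p'.ResidueField := inferInstance
    exact geomNormal_of_algEquiv e.symm
      (geomNormal_ascent p.ResidueField (p.Fiber B) hG p'.ResidueField)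

theorem isNormalHom_of_baseChange [IsNoetherianRing B] [IsNoetherianRing (A' ⊗[A] B)]
    [Module.FaithfullyFlat A A']
    (h : EGA4.IsNormalHom A' (A' ⊗[A] B)) : EGA4.IsNormalHom A B := by
  haveI : Module.Flat A' (A' ⊗[A] B) := h.1
  refine ⟨Module.Flat.of_flat_tensorProduct A B A', fun p hp => ?_⟩
  obtain ⟨q, hq⟩ := PrimeSpectrum.comap_surjective_of_faithfullyFlat (B := A') ⟨p, hp⟩
  haveI : q.asIdeal.LiesOver p := ⟨by
    have := congrArg PrimeSpectrum.asIdeal hq
    exact this.symm⟩
  letI := Localization.AtPrime.algebraOfLiesOver p q.asIdeal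
  obtain ⟨e⟩ := Groth.Agent.Helper2.RegBC.nonempty_fiber_algEquiv A A' B p q.asIdeal
  haveI := Groth.Agent.Helper2.RegBC.isNoetherianRing_fiber A B p
  haveI := Groth.Agent.Helper2.RegBC.isNoetherianRing_fiber A' (A' ⊗[A] B) q.asIdeal
  haveI : IsNoetherianRing (q.asIdeal.ResidueField ⊗[p.ResidueField] p.Fiber B) :=
    isNoetherianRing_of_ringEquiv _ e.toRingEquiv
  exact geomNormal_descent' p.ResidueField (p.Fiber B)
    q.asIdeal.ResidueField (geomNormal_of_algEquiv e (h.2 q.asIdeal))

/-- the statement S4749 -/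
theorem main [IsNoetherianRing B] [IsNoetherianRing A']
    (hft : Algebra.FiniteType A B ∨ Algebra.FiniteType A A') :
    (EGA4.IsNormalHom A B → EGA4.IsNormalHom A' (A' ⊗[A] B)) ∧
      (Module.FaithfullyFlat A A' → EGA4.IsNormalHom A' (A' ⊗[A] B) → EGA4.IsNormalHom A B) := by
  refine ⟨fun h => isNormalHom_baseChange A B A' hft h, fun hff h => ?_⟩
  haveI := hff
  haveI : IsNoetherianRing (A' ⊗[A] B) := by
    rcases hft with hft | hft
    · exact Algebra.FiniteType.isNoetherianRing A' _
    · haveI : IsNoetherianRing (B ⊗[A] A') := Algebra.FiniteType.isNoetherianRing B _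
      exact isNoetherianRing_of_ringEquiv _ (Algebra.TensorProduct.comm A B A').toRingEquiv
  exact isNormalHom_of_baseChange A B A' h

end Main

end Groth.Agent.Helper2.NorBC
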