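import Mathlib
import Groth.Prelude.Def_Found
import Groth.Prelude.Def_EGA4b
import Groth.Agent.Helper2.FlatAscent
import Groth.Agent.S0602
set_option autoImplicit false
universe u
open IsLocalRing TensorProduct

namespace Groth.Agent.Helper2.RedAscent

section
variable (A B : Type u) [CommRing A] [CommRing B] [IsNoetherianRing A] [IsNoetherianRing B]
  [Algebra A B] [Module.Flat A B]

/-- reducedness ascends along flat maps with reduced fibres (pointwise) -/
theorem reduced_ascent
    (hfib : ∀ (q : Ideal B) [q.IsPrime], IsReduced (EGA4.FibLocRing A B q))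
    (q : Ideal B) [q.IsPrime] [IsReduced (Localization.AtPrime (q.comap (algebraMap A B)))] :
    IsReduced (Localization.AtPrime q) := by
  have hF : ∀ (q : Ideal B) [q.IsPrime], LocCoh.HasRk 0 (EGA4.FibLocRing A B q) ∧
      LocCoh.HasSk 1 (EGA4.FibLocRing A B q) (EGA4.FibLocRing A B q) := by
    intro q' hq'
    haveI := hfib q'
    exact (Groth.Agent.S0602.result (EGA4.FibLocRing A B q')).1 inferInstance
  obtain ⟨hA0, hA1⟩ :=
    (Groth.Agent.S0602.result (Localization.AtPrime (q.comap (algebraMap A B)))).1 inferInstance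
  have hB0 : LocCoh.HasRk 0 (Localization.AtPrime q) :=
    Groth.Agent.Helper2.FlatAscent.rk_ascent A B 0 (fun q' _ => (hF q').1) q hA0
  have hB1 : LocCoh.HasSk 1 (Localization.AtPrime q) (Localization.AtPrime q) :=
    Groth.Agent.Helper2.FlatAscent.sk_ascent A B 1 (fun q' _ => (hF q').2) q hA1
  exact (Groth.Agent.S0602.result (Localization.AtPrime q)).2 ⟨hB0, hB1⟩

end

section Fib
variable (A B : Type u) [CommRing A] [CommRing B] [Algebra A B]

/-- the local ring of a reduced fibre is reduced -/
theorem fibLocRing_reduced (Q : Ideal B) [hQ : Q.IsPrime]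
    (hF : IsReduced ((Q.comap (algebraMap A B)).Fiber B)) :
    IsReduced (EGA4.FibLocRing A B Q) := by
  set p := Q.comap (algebraMap A B) with hp
  haveI : p.IsPrime := Ideal.comap_isPrime _ _
  let q := PrimeSpectrum.preimageEquivFiber A B ⟨p, inferInstance⟩ ⟨⟨Q, hQ⟩, rfl⟩
  have hq : q.asIdeal.comap (Algebra.TensorProduct.includeRight : B →ₐ[A] p.Fiber B) = Q := by
    have := (PrimeSpectrum.preimageEquivFiber A B ⟨p, inferInstance⟩).left_inv ⟨⟨Q, hQ⟩, rfl⟩
    exact congrArg (fun x => x.1.asIdeal) this
  letI := Localization.AtPrime.algebraOfLiesOver p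
    (q.asIdeal.comap (Algebra.TensorProduct.includeRight : B →ₐ[A] p.Fiber B))
  have e := Ideal.Fiber.localizationAlgEquivQuotient p q.asIdeal
  haveI : IsReduced (Localization.AtPrime q.asIdeal) := inferInstance
  have h1 : IsReduced (Localization.AtPrime
        (q.asIdeal.comap (Algebra.TensorProduct.includeRight : B →ₐ[A] p.Fiber B)) ⧸
        p.map (algebraMap A (Localization.AtPrime
          (q.asIdeal.comap (Algebra.TensorProduct.includeRight : B →ₐ[A] p.Fiber B))))) :=
    isReduced_of_injective e.symm.toRingEquiv e.symm.injective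
  have key : ∀ (r : Ideal B) [r.IsPrime], r = Q →
      IsReduced (Localization.AtPrime r ⧸ p.map (algebraMap A (Localization.AtPrime r))) →
      IsReduced (Localization.AtPrime Q ⧸ p.map (algebraMap A (Localization.AtPrime Q))) := by
    rintro r _ rfl h
    exact h
  exact key _ hq h1

/-- reducedness ascends along a flat map of Noetherian rings with reduced fibre rings -/
theorem isReduced_of_flat [IsNoetherianRing A] [IsNoetherianRing B] [Module.Flat A B]
    [IsReduced A] (hfib : ∀ (p : Ideal A) [p.IsPrime], IsReduced (p.Fiber B)) :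
    IsReduced B := by
  apply isReduced_ofLocalizationMaximal
  intro q hq
  exact reduced_ascent A B (fun Q _ => fibLocRing_reduced A B Q (hfib _)) q

end Fib

end Groth.Agent.Helper2.RedAscent
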