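import Mathlib
import Groth.Prelude.Def_Found
import Groth.Prelude.Def_EGA4b
import Groth.Agent.Helper2.RedAscent
import Groth.Agent.Helper2.NorBC
set_option autoImplicit false
universe u
open IsLocalRing TensorProduct

namespace Groth.Agent.Helper2.RedBC

open Groth.Agent.Helper2.GeomNor

theorem reduced_of_normal {A : Type u} [CommRing A] (hn : EGA4.IsNormalRing A) : IsReduced A := by
  constructor
  intro x hx
  apply eq_zero_of_localization
  intro J hJ
  haveI := (hn J).1
  exact (hx.map (algebraMap A (Localization.AtPrime J))).eq_zero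

theorem normal_of_geomNormal_self {k F : Type u} [Field k] [CommRing F] [Algebra k F]
    (h : EGA4.IsGeomNormal k F) : EGA4.IsNormalRing F :=
  isNormalRing_of_ringEquiv (Algebra.TensorProduct.lid k F).toRingEquiv (h k inferInstance)

/-- the statement S2729 -/
theorem isReduced_baseChange_of_isNormalHom (A A' : Type u) [CommRing A] [CommRing A']
    [IsNoetherianRing A] [IsNoetherianRing A'] [Algebra A A']
    (h : EGA4.IsNormalHom A A') (B : Type u) [CommRing B] [Algebra A B] [IsReduced B] :
    IsReduced (A' ⊗[A] B) := by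
  haveI := h.1
  apply IsReduced.tensorProduct_of_flat_of_forall_fg
  intro B₀ hB₀
  haveI : Algebra.FiniteType A B₀ := (Subalgebra.fg_iff_finiteType B₀).mp hB₀
  haveI : IsNoetherianRing B₀ := Algebra.FiniteType.isNoetherianRing A B₀
  haveI : IsReduced B₀ := isReduced_of_injective B₀.val Subtype.val_injective
  have hN : EGA4.IsNormalHom B₀ (B₀ ⊗[A] A') :=
    Groth.Agent.Helper2.NorBC.isNormalHom_baseChange A A' B₀ (Or.inr inferInstance) h
  haveI : IsNoetherianRing (A' ⊗[A] B₀) := Algebra.FiniteType.isNoetherianRing A' _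
  haveI : IsNoetherianRing (B₀ ⊗[A] A') :=
    isNoetherianRing_of_ringEquiv _ (Algebra.TensorProduct.comm A A' B₀).toRingEquiv
  haveI := hN.1
  haveI : IsReduced (B₀ ⊗[A] A') :=
    Groth.Agent.Helper2.RedAscent.isReduced_of_flat B₀ (B₀ ⊗[A] A')
      (fun p _ => reduced_of_normal (normal_of_geomNormal_self (hN.2 p)))
  exact isReduced_of_injective (Algebra.TensorProduct.comm A A' B₀).toRingEquiv
    (Algebra.TensorProduct.comm A A' B₀).injective

end Groth.Agent.Helper2.RedBC
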