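import Mathlib
import Groth.Agent.Helper2.RkDescent
import Groth.Agent.Helper2.DepthFlat
import Groth.Agent.Helper1.SerreFlatU

namespace Groth.Agent.Helper2.SkDescent
open IsLocalRing TensorProduct

universe u

/-- if the maximal ideal of the noetherian local ring `B` is minimal over `m_A B`, the closed fibre
has finite length. -/
lemma isFiniteLength_fib (A B : Type u) [CommRing A] [IsLocalRing A] [CommRing B] [IsLocalRing B]
    [IsNoetherianRing B] [Algebra A B]
    (hmin : maximalIdeal B ∈ (EGA4.mB A B).minimalPrimes) :
    IsFiniteLength B (EGA4.FibMod A B B) := by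
  haveI : IsArtinianRing (B ⧸ EGA4.mB A B) :=
    IsLocalRing.quotient_artinian_of_mem_minimalPrimes_of_isLocalRing _ hmin
  have hart : IsArtinian B (B ⧸ EGA4.mB A B) :=
    isArtinian_of_surjective_algebraMap (S := B) (R := B ⧸ EGA4.mB A B) (M := B ⧸ EGA4.mB A B)
      Ideal.Quotient.mk_surjective
  have hfl : IsFiniteLength B (B ⧸ EGA4.mB A B) :=
    isFiniteLength_iff_isNoetherian_isArtinian.2 ⟨inferInstance, hart⟩
  have heq : (EGA4.mB A B • (⊤ : Submodule B B)) = EGA4.mB A B := by
    simp
  exact hfl.of_surjective (f := (Submodule.quotEquivOfEq _ _ heq.symm).toLinearMap)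
    (Submodule.quotEquivOfEq _ _ heq.symm).surjective

theorem depth_eq (A B : Type u) [CommRing A] [IsLocalRing A] [IsNoetherianRing A]
    [CommRing B] [IsLocalRing B] [IsNoetherianRing B] [Algebra A B] [IsLocalHom (algebraMap A B)]
    [Module.Flat A B]
    (hmin : maximalIdeal B ∈ (EGA4.mB A B).minimalPrimes) :
    LocCoh.depth B B = LocCoh.depth A A := by
  have h := Groth.Agent.Helper2.DepthFlat.main (A := A) (B := B) (M := A) (N := B)
    (isFiniteLength_fib A B hmin)
  rw [← h]
  exact Groth.Agent.Helper2.DepthCM.idealDepth_congr _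
    (TensorProduct.AlgebraTensorModule.rid A B B).symm

/-- the maximal ideal of `S_q` is minimal over `m_{R_p} S_q` when `q` is minimal over `pS`. -/
lemma maximalIdeal_mem_minimalPrimes (R S : Type u) [CommRing R] [CommRing S] [Algebra R S]
    (p : Ideal R) [p.IsPrime] (q : Ideal S) [q.IsPrime] [q.LiesOver p]
    (hq : q ∈ (p.map (algebraMap R S)).minimalPrimes) :
    letI := Localization.AtPrime.algebraOfLiesOver p q
    maximalIdeal (Localization.AtPrime q) ∈
      (EGA4.mB (Localization.AtPrime p) (Localization.AtPrime q)).minimalPrimes := by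
  letI := Localization.AtPrime.algebraOfLiesOver p q
  have h1 : EGA4.mB (Localization.AtPrime p) (Localization.AtPrime q) =
      (p.map (algebraMap R S)).map (algebraMap S (Localization.AtPrime q)) := by
    unfold EGA4.mB
    rw [← Localization.AtPrime.map_eq_maximalIdeal, Ideal.map_map, ← IsScalarTower.algebraMap_eq,
      IsScalarTower.algebraMap_eq R S (Localization.AtPrime q), ← Ideal.map_map]
  rw [h1, IsLocalization.minimalPrimes_map q.primeCompl, Set.mem_preimage,
    Localization.AtPrime.under_maximalIdeal]
  exact hq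

/-- `(S_k)` descends along faithfully flat ring maps -/
theorem main (k : ℕ) (R : Type u) [CommRing R] (S : Type u) [CommRing S]
    [Algebra R S] [Module.FaithfullyFlat R S] [IsNoetherianRing S] (hS : LocCoh.HasSk k S S) :
    IsNoetherianRing R ∧ LocCoh.HasSk k R R := by
  haveI := Groth.Agent.Helper2.RkDescent.isNoetherianRing_of_faithfullyFlat R S
  refine ⟨inferInstance, ?_⟩
  rw [Groth.Agent.Helper1.SerreFlatU.hasSk_iff] at hS ⊢
  intro p hp
  obtain ⟨q, hq, hover, hqmin, -⟩ := Groth.Agent.Helper2.RkDescent.exists_liesOver_minimal R S p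
  have h1 := hS q
  letI := Localization.AtPrime.algebraOfLiesOver p q
  haveI : IsLocalHom (algebraMap (Localization.AtPrime p) (Localization.AtPrime q)) :=
    Localization.isLocalHom_localRingHom _ _ _ Ideal.LiesOver.over
  rw [depth_eq (Localization.AtPrime p) (Localization.AtPrime q)
    (maximalIdeal_mem_minimalPrimes R S p q hqmin)] at h1
  refine le_trans (min_le_min le_rfl ?_) h1
  rw [IsLocalization.AtPrime.ringKrullDim_eq_height p, IsLocalization.AtPrime.ringKrullDim_eq_height q,
    Ideal.height_eq_height_add_of_liesOver_of_hasGoingDown p q]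
  exact_mod_cast le_self_add

end Groth.Agent.Helper2.SkDescent
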