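import Mathlib
import Groth.Prelude.Def_Found
import Groth.Prelude.Def_EGA4b
import Groth.Agent.Helper2.FlatAscent
import Groth.Agent.Helper2.NormalPt
import Groth.Agent.Helper2.SkLift
import Groth.Agent.Helper2.RegBC
set_option autoImplicit false
universe u
open IsLocalRing TensorProduct

namespace Groth.Agent.Helper2.SkFlat

/-- `(S_k)` is invariant under ring isomorphisms -/
theorem hasSk_of_ringEquiv {R R' : Type u} [CommRing R] [CommRing R'] [IsNoetherianRing R]
    [IsNoetherianRing R'] (e : R ≃+* R') (k : ℕ) (h : LocCoh.HasSk k R R) :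
    LocCoh.HasSk k R' R' := by
  rw [Groth.Agent.Helper2.SkLift.hasSk_iff'] at h ⊢
  intro p' hp'
  haveI : (p'.comap (e : R →+* R')).IsPrime := Ideal.comap_isPrime _ _
  have h0 := h (p'.comap (e : R →+* R'))
  have hht : (p'.comap (e : R →+* R')).height = p'.height := RingEquiv.height_comap e p'
  let e' := Localization.localRingEquiv (p'.comap (e : R →+* R')) p' e rfl
  rw [hht, Groth.Agent.Helper2.FlatAscent.depth_eq_of_ringEquiv e'] at h0
  exact h0

/-- `(S_k)` localizes -/
theorem hasSk_localization (R : Type u) [CommRing R] [IsNoetherianRing R] (k : ℕ)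
    (h : LocCoh.HasSk k R R) (q : Ideal R) [q.IsPrime] :
    LocCoh.HasSk k (Localization.AtPrime q) (Localization.AtPrime q) := by
  rw [Groth.Agent.Helper2.SkLift.hasSk_iff'] at h
  exact Groth.Agent.Helper2.NormalPt.hasSk_loc_of_pointwise R k q (fun q' _ _ => h q')

section Fib
variable (A B : Type u) [CommRing A] [CommRing B] [Algebra A B]

/-- the local ring of an `(S_k)` fibre is `(S_k)` -/
theorem fibLocRing_hasSk [IsNoetherianRing B] (k : ℕ) (Q : Ideal B) [hQ : Q.IsPrime]
    (hF : LocCoh.HasSk k ((Q.comap (algebraMap A B)).Fiber B) ((Q.comap (algebraMap A B)).Fiber B)) :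
    LocCoh.HasSk k (EGA4.FibLocRing A B Q) (EGA4.FibLocRing A B Q) := by
  set p := Q.comap (algebraMap A B) with hp
  haveI : p.IsPrime := Ideal.comap_isPrime _ _
  haveI := Groth.Agent.Helper2.RegBC.isNoetherianRing_fiber A B p
  let q := PrimeSpectrum.preimageEquivFiber A B ⟨p, inferInstance⟩ ⟨⟨Q, hQ⟩, rfl⟩
  have hq : q.asIdeal.comap (Algebra.TensorProduct.includeRight : B →ₐ[A] p.Fiber B) = Q := by
    have := (PrimeSpectrum.preimageEquivFiber A B ⟨p, inferInstance⟩).left_inv ⟨⟨Q, hQ⟩, rfl⟩
    exact congrArg (fun x => x.1.asIdeal) this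
  letI := Localization.AtPrime.algebraOfLiesOver p
    (q.asIdeal.comap (Algebra.TensorProduct.includeRight : B →ₐ[A] p.Fiber B))
  have e := Ideal.Fiber.localizationAlgEquivQuotient p q.asIdeal
  have h0 := hasSk_localization (p.Fiber B) k hF q.asIdeal
  have h1 := hasSk_of_ringEquiv e.toRingEquiv k h0
  have key : ∀ (r : Ideal B) [r.IsPrime], r = Q →
      LocCoh.HasSk k (Localization.AtPrime r ⧸ p.map (algebraMap A (Localization.AtPrime r)))
        (Localization.AtPrime r ⧸ p.map (algebraMap A (Localization.AtPrime r))) →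
      LocCoh.HasSk k (Localization.AtPrime Q ⧸ p.map (algebraMap A (Localization.AtPrime Q)))
        (Localization.AtPrime Q ⧸ p.map (algebraMap A (Localization.AtPrime Q))) := by
    rintro r _ rfl h
    exact h
  exact key _ hq h1

/-- `(S_k)` ascends along flat maps with `(S_k)` fibre rings (S2086) -/
theorem hasSk_of_flat_of_fibres [IsNoetherianRing A] [IsNoetherianRing B] [Module.Flat A B]
    (k : ℕ) (hA : LocCoh.HasSk k A A)
    (hfib : ∀ (p : Ideal A) [p.IsPrime], LocCoh.HasSk k (p.Fiber B) (p.Fiber B)) :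
    LocCoh.HasSk k B B := by
  rw [Groth.Agent.Helper2.SkLift.hasSk_iff']
  intro q hq
  have h1 : LocCoh.HasSk k (Localization.AtPrime q) (Localization.AtPrime q) :=
    Groth.Agent.Helper2.FlatAscent.sk_ascent A B k
      (fun Q _ => fibLocRing_hasSk A B k Q (hfib _)) q
      (hasSk_localization A k hA (q.comap (algebraMap A B)))
  exact Groth.Agent.Helper2.FlatAscent.sk_below B k q h1 q le_rfl

end Fib

end Groth.Agent.Helper2.SkFlat
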