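import Mathlib
import Groth.Prelude.Def_Found
import Groth.Prelude.Def_EGA4b
import Groth.Agent.Helper2.SkFlat
import Groth.Agent.Helper2.RedBC
import Groth.Agent.Helper2.GeomNor2
import Groth.Agent.Helper2.SkDescent
import Groth.Agent.S0543
set_option autoImplicit false
universe u
open IsLocalRing TensorProduct

namespace Groth.Agent.Helper2.CplIff

section
variable (A : Type u) [CommRing A] [IsNoetherianRing A] [IsLocalRing A]

theorem noeth : IsNoetherianRing (EGA4.Cpl A) := Groth.Agent.S0543.result A _

theorem ff : Module.FaithfullyFlat A (EGA4.Cpl A) := Module.FaithfullyFlat.of_flat_of_isLocalHom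

theorem reduced_iff (hA : EGA4.HasGeomReducedFormalFibres A) :
    IsReduced A ↔ IsReduced (EGA4.Cpl A) := by
  haveI := noeth A
  haveI := ff A
  constructor
  · intro h
    exact Groth.Agent.Helper2.RedAscent.isReduced_of_flat A (EGA4.Cpl A) (fun p _ => by
      haveI := hA p
      exact Algebra.isReduced_of_isGeometricallyReduced p.ResidueField)
  · intro h
    exact isReduced_of_injective (algebraMap A (EGA4.Cpl A))
      (FaithfulSMul.algebraMap_injective A (EGA4.Cpl A))

theorem normal_iff (hA : EGA4.HasGeomNormalFormalFibres A) :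
    EGA4.IsNormalRing A ↔ EGA4.IsNormalRing (EGA4.Cpl A) := by
  haveI := noeth A
  haveI := ff A
  constructor
  · intro h
    exact Groth.Agent.Helper2.GeomNor2.isNormalRing_of_flat A (EGA4.Cpl A) h
      (fun p _ => Groth.Agent.Helper2.RedBC.normal_of_geomNormal_self (hA p))
  · intro h
    exact Groth.Agent.Helper2.GeomNor.isNormalRing_of_faithfullyFlat A (EGA4.Cpl A) h

theorem hasSk_iff (n : ℕ) (hA : EGA4.HasSnFormalFibres n A) :
    LocCoh.HasSk n A A ↔ LocCoh.HasSk n (EGA4.Cpl A) (EGA4.Cpl A) := by
  haveI := noeth A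
  haveI := ff A
  constructor
  · intro h
    exact Groth.Agent.Helper2.SkFlat.hasSk_of_flat_of_fibres A (EGA4.Cpl A) n h (fun p _ => hA p)
  · intro h
    exact (Groth.Agent.Helper2.SkDescent.main n A (EGA4.Cpl A) h).2

end

end Groth.Agent.Helper2.CplIff
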