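import Mathlib
import Groth.Prelude.Def_Found
import Groth.Prelude.Def_EGA4b
import Groth.Agent.Helper3.ComplFlat
set_option autoImplicit false
universe u
open IsLocalRing TensorProduct

namespace Groth.Agent.Helper2.CplMap

section
variable (A A' : Type u) [CommRing A] [CommRing A'] [IsLocalRing A] [IsLocalRing A']
  [Algebra A A'] [IsLocalHom (algebraMap A A')]

lemma pow_le_comap (n : ℕ) :
    maximalIdeal A ^ n ≤ (maximalIdeal A' ^ n).comap (algebraMap A A') := by
  have h1 : maximalIdeal A = (maximalIdeal A').comap (algebraMap A A') :=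
    (IsLocalRing.maximalIdeal_comap (algebraMap A A')).symm
  rw [h1]
  exact Ideal.le_comap_pow _ n

/-- the level-`n` maps `Â → A'/m'^n` -/
noncomputable def f (n : ℕ) : AdicCompletion (maximalIdeal A) A →+* A' ⧸ maximalIdeal A' ^ n :=
  (Ideal.quotientMap (maximalIdeal A' ^ n) (algebraMap A A') (pow_le_comap A A' n)).comp
    (AdicCompletion.evalₐ (maximalIdeal A) n : AdicCompletion (maximalIdeal A) A →+* _)

lemma f_mk (n : ℕ) (s : AdicCompletion.AdicCauchySequence (maximalIdeal A) A) :
    f A A' n (AdicCompletion.mk (maximalIdeal A) A s) =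
      Ideal.Quotient.mk (maximalIdeal A' ^ n) (algebraMap A A' (s.val n)) := by
  simp only [f, RingHom.coe_comp, RingHom.coe_coe, Function.comp_apply, AdicCompletion.evalₐ_mk,
    Ideal.quotientMap_mk]

lemma f_compat {m n : ℕ} (hle : m ≤ n) :
    (Ideal.Quotient.factorPow (maximalIdeal A') hle).comp (f A A' n) = f A A' m := by
  ext x
  induction x using AdicCompletion.induction_on with
  | h s =>
    rw [RingHom.comp_apply, f_mk, f_mk, Ideal.Quotient.factorPow, Ideal.Quotient.factor_mk,
      Ideal.Quotient.mk_eq_mk_iff_sub_mem, ← map_sub]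
    apply pow_le_comap A A' m
    rw [← Ideal.Quotient.mk_eq_mk_iff_sub_mem]
    exact AdicCompletion.Ideal.mk_eq_mk (maximalIdeal A) hle s

/-- the induced map on completions -/
noncomputable def ψ : AdicCompletion (maximalIdeal A) A →+* AdicCompletion (maximalIdeal A') A' :=
  AdicCompletion.liftRingHom (maximalIdeal A') (f A A') (f_compat A A')

lemma ψ_comp : (ψ A A').comp (algebraMap A (AdicCompletion (maximalIdeal A) A)) =
    (algebraMap A' (AdicCompletion (maximalIdeal A') A')).comp (algebraMap A A') := by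
  refine RingHom.ext fun a => ?_
  apply AdicCompletion.ext_evalₐ
  intro n
  rw [RingHom.comp_apply, RingHom.comp_apply, ψ, AdicCompletion.evalₐ_liftRingHom]
  have h1 : algebraMap A (AdicCompletion (maximalIdeal A) A) a =
      AdicCompletion.of (maximalIdeal A) A a := rfl
  have h2 : algebraMap A' (AdicCompletion (maximalIdeal A') A') (algebraMap A A' a) =
      AdicCompletion.of (maximalIdeal A') A' (algebraMap A A' a) := rfl
  rw [h1, h2, AdicCompletion.evalₐ_of]
  simp only [f, RingHom.coe_comp, RingHom.coe_coe, Function.comp_apply, AdicCompletion.evalₐ_of,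
    Ideal.quotientMap_mk]

variable [IsNoetherianRing A] [IsNoetherianRing A']

lemma ψ_isLocalHom : IsLocalHom (ψ A A') := by
  apply ((IsLocalRing.local_hom_TFAE (ψ A A')).out 0 2).mpr
  rw [AdicCompletion.maximalIdeal_eq_map, AdicCompletion.maximalIdeal_eq_map, Ideal.map_map,
    ψ_comp, ← Ideal.map_map]
  exact Ideal.map_mono
    (Ideal.map_le_iff_le_comap.mpr (IsLocalRing.maximalIdeal_comap (algebraMap A A')).ge)

/-- the completion of a flat local homomorphism is faithfully flat, compatibly with `A`. -/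
theorem exists_algebra [Module.Flat A A'] :
    ∃ (_ : Algebra (EGA4.Cpl A) (EGA4.Cpl A')) (_ : IsScalarTower A (EGA4.Cpl A) (EGA4.Cpl A')),
      Module.FaithfullyFlat (EGA4.Cpl A) (EGA4.Cpl A') := by
  letI : Algebra (EGA4.Cpl A) (EGA4.Cpl A') := (ψ A A').toAlgebra
  haveI hst : IsScalarTower A (EGA4.Cpl A) (EGA4.Cpl A') := IsScalarTower.of_algebraMap_eq' (by
    rw [RingHom.algebraMap_toAlgebra, ψ_comp, ← IsScalarTower.algebraMap_eq])
  haveI : IsLocalHom (algebraMap (EGA4.Cpl A) (EGA4.Cpl A')) := ψ_isLocalHom A A'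
  haveI : Module.Flat (EGA4.Cpl A) (EGA4.Cpl A') :=
    Groth.Agent.Helper3.ComplFlat.flat_completion_map A A' (ψ A A') (ψ_comp A A')
  exact ⟨inferInstance, hst, Module.FaithfullyFlat.of_flat_of_isLocalHom⟩

end

end Groth.Agent.Helper2.CplMap
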