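import Mathlib
open TensorProduct

namespace Groth.Agent.Helper2.FFDesc
universe u
variable (A B C : Type u) [CommRing A] [CommRing B] [CommRing C] [Algebra A B] [Algebra B C]
  [Algebra A C] [IsScalarTower A B C]

/-- If `A → C` is flat and `B → C` is faithfully flat then `A → B` is flat. -/
lemma flat_of_flat_comp [Module.FaithfullyFlat B C] [Module.Flat A C] : Module.Flat A B := by
  rw [Module.Flat.iff_lTensor_preserves_injective_linearMap]
  intro N N' _ _ _ _ f hf
  let g : B ⊗[A] N →ₗ[B] B ⊗[A] N' := AlgebraTensorModule.lTensor B B f
  have hg : Function.Injective (g.lTensor C) := by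
    have h1 : Function.Injective (f.lTensor C) :=
      Module.Flat.lTensor_preserves_injective_linearMap f hf
    have sq := AlgebraTensorModule.lTensor_comp_cancelBaseChange (R := A) (A := B) (B := B)
      (M := C) f
    intro x y hxy
    have hx := LinearMap.congr_fun sq x
    have hy := LinearMap.congr_fun sq y
    simp only [LinearMap.coe_comp, LinearEquiv.coe_coe, Function.comp_apply] at hx hy
    have hxy' : (AlgebraTensorModule.lTensor B C (AlgebraTensorModule.lTensor B B f)) x =
        (AlgebraTensorModule.lTensor B C (AlgebraTensorModule.lTensor B B f)) y := hxy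
    rw [hxy', ← hy] at hx
    exact (AlgebraTensorModule.cancelBaseChange A B B C N).injective (h1 hx)
  exact (Module.FaithfullyFlat.lTensor_injective_iff_injective B C g).mp hg

/-- Faithfully flat maps induce injections on fibres. -/
lemma fiber_map_injective [Module.FaithfullyFlat B C] (κ : Type u) [CommRing κ] [Algebra A κ] :
    Function.Injective (Algebra.TensorProduct.map (AlgHom.id κ κ) (IsScalarTower.toAlgHom A B C) :
      κ ⊗[A] B →ₐ[κ] κ ⊗[A] C) := by
  have hm : Function.Injective (TensorProduct.mk B C (B ⊗[A] κ) 1) :=
    Module.FaithfullyFlat.tensorProduct_mk_injective (A := B) (B := C) (B ⊗[A] κ)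
  have key : ∀ x : κ ⊗[A] B,
      (Algebra.TensorProduct.map (AlgHom.id κ κ) (IsScalarTower.toAlgHom A B C)) x =
      (TensorProduct.comm A C κ) ((AlgebraTensorModule.cancelBaseChange A B B C κ)
        ((TensorProduct.mk B C (B ⊗[A] κ) 1) ((TensorProduct.comm A κ B) x))) := by
    intro x
    induction x using TensorProduct.induction_on with
    | zero => simp
    | tmul k b =>
      simp [Algebra.smul_def]
    | add x y hx hy =>
      rw [map_add, hx, hy]
      simp only [map_add]
  intro x y hxy
  rw [key, key] at hxy
  have h1 := (TensorProduct.comm A C κ).injective hxy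
  have h2 := (AlgebraTensorModule.cancelBaseChange A B B C κ).injective h1
  exact (TensorProduct.comm A κ B).injective (hm h2)

end Groth.Agent.Helper2.FFDesc
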