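import Mathlib
import Groth.Prelude.Def_Found
import Groth.Prelude.Def_EGA4b
import Groth.Agent.Helper2.SkFlat
import Groth.Agent.Helper2.SkDescent
import Groth.Agent.Helper2.FFDesc
import Groth.Agent.Helper2.RegBC
import Groth.Agent.Helper2.DepthCM4
set_option autoImplicit false
universe u
open IsLocalRing TensorProduct

namespace Groth.Agent.Helper2.SnFib

section Desc
variable (A B C : Type u) [CommRing A] [CommRing B] [CommRing C]
    [Algebra A B] [Algebra B C] [Algebra A C] [IsScalarTower A B C]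

/-- `B ⊗ k' → C ⊗ k'` is faithfully flat when `B → C` is. -/
theorem exists_ff [Module.FaithfullyFlat B C] (k' : Type u) [CommRing k'] [Algebra A k'] :
    ∃ (_ : Algebra (B ⊗[A] k') (C ⊗[A] k')), Module.FaithfullyFlat (B ⊗[A] k') (C ⊗[A] k') := by
  letI : Algebra (B ⊗[A] k') (C ⊗[A] k') :=
    (Algebra.TensorProduct.map (IsScalarTower.toAlgHom A B C) (AlgHom.id A k')).toRingHom.toAlgebra
  haveI : IsScalarTower B (B ⊗[A] k') (C ⊗[A] k') := by
    refine IsScalarTower.of_algebraMap_eq (R := B) (S := B ⊗[A] k') (A := C ⊗[A] k') (fun x => ?_)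
    rw [RingHom.algebraMap_toAlgebra
      (Algebra.TensorProduct.map (IsScalarTower.toAlgHom A B C) (AlgHom.id A k')).toRingHom]
    simp only [Algebra.TensorProduct.algebraMap_apply, AlgHom.toRingHom_eq_coe, RingHom.coe_coe,
      Algebra.TensorProduct.map_tmul, map_one]
    rfl
  haveI hpo : Algebra.IsPushout B C (B ⊗[A] k') (C ⊗[A] k') :=
    Algebra.IsPushout.tensorProduct_tensorProduct A k' B C (by
      ext c
      simp [RingHom.algebraMap_toAlgebra])
  haveI hpo' : Algebra.IsPushout B (B ⊗[A] k') C (C ⊗[A] k') := hpo.symm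
  exact ⟨inferInstance, Module.FaithfullyFlat.of_linearEquiv _ _
      (Algebra.IsPushout.equiv B (B ⊗[A] k') C (C ⊗[A] k')).symm.toLinearEquiv⟩

/-- the statement S4751 -/
theorem snFibres_descent (n : ℕ) [IsNoetherianRing B] [IsNoetherianRing C]
    [Module.FaithfullyFlat B C] [Module.Flat A C]
    (hAC : ∀ (p : Ideal A) [p.IsPrime], LocCoh.HasSk n (p.Fiber C) (p.Fiber C)) :
    Module.Flat A B ∧ ∀ (p : Ideal A) [p.IsPrime], LocCoh.HasSk n (p.Fiber B) (p.Fiber B) := by
  refine ⟨Groth.Agent.Helper2.FFDesc.flat_of_flat_comp A B C, fun p hp => ?_⟩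
  haveI := Groth.Agent.Helper2.RegBC.isNoetherianRing_fiber A B p
  haveI := Groth.Agent.Helper2.RegBC.isNoetherianRing_fiber A C p
  obtain ⟨_, hff⟩ := exists_ff A B C p.ResidueField
  let eB : p.ResidueField ⊗[A] B ≃+* B ⊗[A] p.ResidueField :=
    (Algebra.TensorProduct.comm A p.ResidueField B).toRingEquiv
  let eC : p.ResidueField ⊗[A] C ≃+* C ⊗[A] p.ResidueField :=
    (Algebra.TensorProduct.comm A p.ResidueField C).toRingEquiv
  haveI : IsNoetherianRing (B ⊗[A] p.ResidueField) := isNoetherianRing_of_ringEquiv _ eB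
  haveI : IsNoetherianRing (C ⊗[A] p.ResidueField) := isNoetherianRing_of_ringEquiv _ eC
  have h1 : LocCoh.HasSk n (C ⊗[A] p.ResidueField) (C ⊗[A] p.ResidueField) :=
    Groth.Agent.Helper2.SkFlat.hasSk_of_ringEquiv eC n (hAC p)
  have h2 := (Groth.Agent.Helper2.SkDescent.main n (B ⊗[A] p.ResidueField)
    (C ⊗[A] p.ResidueField) h1).2
  exact Groth.Agent.Helper2.SkFlat.hasSk_of_ringEquiv eB.symm n h2

end Desc

section ResField
variable (A B : Type u) [CommRing A] [CommRing B] [Algebra A B] (p : Ideal A) [p.IsPrime]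

theorem surjectiveOnStalks_residueField :
    (algebraMap A p.ResidueField).SurjectiveOnStalks := by
  rw [IsScalarTower.algebraMap_eq A (Localization.AtPrime p) p.ResidueField]
  exact (RingHom.surjectiveOnStalks_of_surjective IsLocalRing.residue_surjective).comp
    (RingHom.surjectiveOnStalks_of_isLocalization p.primeCompl (Localization.AtPrime p))

/-- the residue field extension for `B → B ⊗ κ(p)` is trivial -/
theorem bijective_algebraMap_residueField (Q : Ideal (B ⊗[A] p.ResidueField)) [Q.IsPrime] :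
    letI := Localization.AtPrime.algebraOfLiesOver (Q.under B) Q
    Function.Bijective (algebraMap (Q.under B).ResidueField Q.ResidueField) := by
  letI := Localization.AtPrime.algebraOfLiesOver (Q.under B) Q
  have H : (algebraMap B (B ⊗[A] p.ResidueField)).SurjectiveOnStalks :=
    RingHom.SurjectiveOnStalks.baseChange (surjectiveOnStalks_residueField A p)
  have hb := H.residueFieldMap_bijective (Q.under B) Q rfl
  have heq : (algebraMap (Q.under B).ResidueField Q.ResidueField) =
      Ideal.ResidueField.map (Q.under B) Q (algebraMap B (B ⊗[A] p.ResidueField)) rfl := by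
    ext x
    rfl
  rw [heq]
  exact hb

end ResField

section Comp
variable (A B C : Type u) [CommRing A] [CommRing B] [CommRing C]
    [Algebra A B] [Algebra B C] [Algebra A C] [IsScalarTower A B C]

/-- `(B ⊗ κ(p)) ⊗_B C` is the fibre of `C` over `p`. -/
noncomputable def fiberEquiv (p : Ideal A) [p.IsPrime] :
    (B ⊗[A] p.ResidueField) ⊗[B] C ≃+* p.Fiber C :=
  ((Algebra.TensorProduct.comm B (B ⊗[A] p.ResidueField) C).toRingEquiv.trans
    (Algebra.TensorProduct.cancelBaseChange A B B C p.ResidueField).toRingEquiv).trans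
    (Algebra.TensorProduct.comm A C p.ResidueField).toRingEquiv

omit [Algebra A C] [IsScalarTower A B C] in
/-- the fibres of `B ⊗ κ(p) → (B ⊗ κ(p)) ⊗_B C` are those of `B → C`. -/
theorem nonempty_fiber_ringEquiv (p : Ideal A) [p.IsPrime]
    (Q : Ideal (B ⊗[A] p.ResidueField)) [Q.IsPrime] :
    Nonempty ((Q.under B).Fiber C ≃+* Q.Fiber ((B ⊗[A] p.ResidueField) ⊗[B] C)) := by
  letI := Localization.AtPrime.algebraOfLiesOver (Q.under B) Q
  obtain ⟨e⟩ := Groth.Agent.Helper2.RegBC.nonempty_fiber_algEquiv B (B ⊗[A] p.ResidueField) C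
    (Q.under B) Q
  have hbij := bijective_algebraMap_residueField A B p Q
  let e0 : (Q.under B).ResidueField ≃ₐ[(Q.under B).ResidueField] Q.ResidueField :=
    AlgEquiv.ofBijective (Algebra.ofId (Q.under B).ResidueField Q.ResidueField) hbij
  let e1 : (Q.under B).ResidueField ⊗[(Q.under B).ResidueField] ((Q.under B).Fiber C) ≃ₐ[(Q.under B).ResidueField]
      Q.ResidueField ⊗[(Q.under B).ResidueField] ((Q.under B).Fiber C) :=
    Algebra.TensorProduct.congr e0 AlgEquiv.refl
  let e2 := Algebra.TensorProduct.lid (Q.under B).ResidueField ((Q.under B).Fiber C)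
  exact ⟨(e2.symm.toRingEquiv.trans e1.toRingEquiv).trans e.symm.toRingEquiv⟩

/-- the statement S4750 -/
theorem snFibres_comp (n : ℕ) [IsNoetherianRing B] [IsNoetherianRing C]
    [Module.Flat A B] [Module.Flat B C]
    (hAB : ∀ (p : Ideal A) [p.IsPrime], LocCoh.HasSk n (p.Fiber B) (p.Fiber B))
    (hBC : ∀ (q : Ideal B) [q.IsPrime], LocCoh.HasSk n (q.Fiber C) (q.Fiber C)) :
    Module.Flat A C ∧ ∀ (p : Ideal A) [p.IsPrime], LocCoh.HasSk n (p.Fiber C) (p.Fiber C) := by
  refine ⟨Module.Flat.trans A B C, fun p hp => ?_⟩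
  haveI := Groth.Agent.Helper2.RegBC.isNoetherianRing_fiber A B p
  haveI := Groth.Agent.Helper2.RegBC.isNoetherianRing_fiber A C p
  let eB : p.ResidueField ⊗[A] B ≃+* B ⊗[A] p.ResidueField :=
    (Algebra.TensorProduct.comm A p.ResidueField B).toRingEquiv
  haveI : IsNoetherianRing (B ⊗[A] p.ResidueField) := isNoetherianRing_of_ringEquiv _ eB
  haveI : IsNoetherianRing ((B ⊗[A] p.ResidueField) ⊗[B] C) :=
    isNoetherianRing_of_ringEquiv _ (fiberEquiv A B C p).symm
  have h1 : LocCoh.HasSk n (B ⊗[A] p.ResidueField) (B ⊗[A] p.ResidueField) :=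
    Groth.Agent.Helper2.SkFlat.hasSk_of_ringEquiv eB n (hAB p)
  have h2 : LocCoh.HasSk n ((B ⊗[A] p.ResidueField) ⊗[B] C) ((B ⊗[A] p.ResidueField) ⊗[B] C) := by
    apply Groth.Agent.Helper2.SkFlat.hasSk_of_flat_of_fibres (B ⊗[A] p.ResidueField) _ n h1
    intro Q hQ
    obtain ⟨e⟩ := nonempty_fiber_ringEquiv A B C p Q
    haveI := Groth.Agent.Helper2.RegBC.isNoetherianRing_fiber B C (Q.under B)
    haveI := Groth.Agent.Helper2.RegBC.isNoetherianRing_fiber (B ⊗[A] p.ResidueField)
      ((B ⊗[A] p.ResidueField) ⊗[B] C) Q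
    exact Groth.Agent.Helper2.SkFlat.hasSk_of_ringEquiv e n (hBC (Q.under B))
  exact Groth.Agent.Helper2.SkFlat.hasSk_of_ringEquiv (fiberEquiv A B C p) n h2

end Comp

section CM

/-- a Noetherian ring is Cohen–Macaulay iff it satisfies `(S_n)` for all `n`. -/
theorem isCohenMacaulayRing_iff (R : Type u) [CommRing R] [IsNoetherianRing R] :
    LocCoh.IsCohenMacaulayRing R ↔ ∀ n : ℕ, LocCoh.HasSk n R R := by
  constructor
  · intro h n
    rw [Groth.Agent.Helper1.SerreFlatU.hasSk_iff]
    intro p hp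
    have h1 := (h.isCohenMacaulayLocalRing_localization p).supportDim_eq_depth
    rw [Module.supportDim_self_eq_ringKrullDim] at h1
    rw [← h1]
    exact min_le_right _ _
  · intro h
    refine ⟨fun p hp => ⟨?_⟩⟩
    rw [Module.supportDim_self_eq_ringKrullDim]
    have hd : ringKrullDim (Localization.AtPrime p) = (p.height : WithBot ℕ∞) :=
      IsLocalization.AtPrime.ringKrullDim_eq_height p (Localization.AtPrime p)
    obtain ⟨d, hd'⟩ := ENat.ne_top_iff_exists.mp (Ideal.height_ne_top (I := p) hp.ne_top)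
    have h2 := h d
    rw [Groth.Agent.Helper1.SerreFlatU.hasSk_iff] at h2
    have h3 := h2 p
    rw [hd, ← hd'] at h3
    have h4 : ((LocCoh.depth (Localization.AtPrime p) (Localization.AtPrime p) : ℕ∞) : WithBot ℕ∞) ≤
        ringKrullDim (Localization.AtPrime p) := by
      have := Groth.Agent.Helper2.DepthCM4.depth_le_supportDim (A := Localization.AtPrime p)
        (Localization.AtPrime p)
      rwa [Module.supportDim_self_eq_ringKrullDim] at this
    rw [hd, ← hd'] at h4 ⊢
    refine le_antisymm ?_ h4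
    have h5 : min ((d : ℕ) : WithBot ℕ∞) (((d : ℕ∞)) : WithBot ℕ∞) = (((d : ℕ∞)) : WithBot ℕ∞) := by
      exact min_self _
    rw [h5] at h3
    exact h3

variable (A B C : Type u) [CommRing A] [CommRing B] [CommRing C]
    [Algebra A B] [Algebra B C] [Algebra A C] [IsScalarTower A B C]

/-- the statement S2717 -/
theorem cmFibres_comp [IsNoetherianRing B] [IsNoetherianRing C]
    [Module.Flat A B] [Module.Flat B C]
    (hAB : ∀ (p : Ideal A) [p.IsPrime], LocCoh.IsCohenMacaulayRing (p.Fiber B))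
    (hBC : ∀ (q : Ideal B) [q.IsPrime], LocCoh.IsCohenMacaulayRing (q.Fiber C)) :
    Module.Flat A C ∧ ∀ (p : Ideal A) [p.IsPrime], LocCoh.IsCohenMacaulayRing (p.Fiber C) := by
  refine ⟨Module.Flat.trans A B C, fun p hp => ?_⟩
  haveI := Groth.Agent.Helper2.RegBC.isNoetherianRing_fiber A C p
  rw [isCohenMacaulayRing_iff]
  intro n
  refine (snFibres_comp A B C n (fun p' _ => ?_) (fun q _ => ?_)).2 p
  · haveI := Groth.Agent.Helper2.RegBC.isNoetherianRing_fiber A B p'
    exact (isCohenMacaulayRing_iff _).mp (hAB p') n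
  · haveI := Groth.Agent.Helper2.RegBC.isNoetherianRing_fiber B C q
    exact (isCohenMacaulayRing_iff _).mp (hBC q) n

/-- the statement S2718 -/
theorem cmFibres_descent [IsNoetherianRing B] [IsNoetherianRing C]
    [Module.FaithfullyFlat B C] [Module.Flat A C]
    (hAC : ∀ (p : Ideal A) [p.IsPrime], LocCoh.IsCohenMacaulayRing (p.Fiber C)) :
    Module.Flat A B ∧ ∀ (p : Ideal A) [p.IsPrime], LocCoh.IsCohenMacaulayRing (p.Fiber B) := by
  refine ⟨Groth.Agent.Helper2.FFDesc.flat_of_flat_comp A B C, fun p hp => ?_⟩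
  haveI := Groth.Agent.Helper2.RegBC.isNoetherianRing_fiber A B p
  rw [isCohenMacaulayRing_iff]
  intro n
  refine (snFibres_descent A B C n (fun p' _ => ?_)).2 p
  haveI := Groth.Agent.Helper2.RegBC.isNoetherianRing_fiber A C p'
  exact (isCohenMacaulayRing_iff _).mp (hAC p') n

end CM

end Groth.Agent.Helper2.SnFib
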