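import Mathlib
import Groth.Prelude.Def_Found
import Groth.Prelude.Def_EGA4b
import Groth.Agent.Helper2.CplMap
import Groth.Agent.Helper2.CplIff
import Groth.Agent.Helper2.SnFib
import Groth.Agent.Helper2.RegCM
set_option autoImplicit false
universe u
open IsLocalRing TensorProduct

namespace Groth.Agent.Helper2.CplCM

theorem cm_of_isRegularRing (R : Type u) [CommRing R] [IsRegularRing R] :
    LocCoh.IsCohenMacaulayRing R := by
  refine ⟨fun p hp => ⟨?_⟩⟩
  exact Groth.Agent.Helper2.RegCM.cm_of_isRegularLocalRing (Localization.AtPrime p)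

theorem regular_of_geomRegular_self {k F : Type u} [Field k] [CommRing F] [Algebra k F]
    (h : CAlg.IsGeometricallyRegular k F) : IsRegularRing F := by
  haveI := h k inferInstance
  exact IsRegularRing.of_ringEquiv (Algebra.TensorProduct.lid k F).toRingEquiv

section
variable (A A' : Type u) [CommRing A] [CommRing A']
    [IsNoetherianRing A] [IsNoetherianRing A'] [IsLocalRing A] [IsLocalRing A'] [Algebra A A']
    [IsLocalHom (algebraMap A A')]

/-- the statement S4744 -/
theorem hasCMFormalFibres [Module.Flat A A']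
    (hf : ∀ (p : Ideal A) [p.IsPrime], LocCoh.IsCohenMacaulayRing (p.Fiber A'))
    (hA' : CAlg.IsRegularHom A' (EGA4.Cpl A')) : EGA4.HasCMFormalFibres A := by
  haveI := Groth.Agent.Helper2.CplIff.noeth A
  haveI := Groth.Agent.Helper2.CplIff.noeth A'
  haveI := hA'.1
  have hBC : ∀ (q : Ideal A') [q.IsPrime], LocCoh.IsCohenMacaulayRing (q.Fiber (EGA4.Cpl A')) :=
    fun q _ => by
      haveI := regular_of_geomRegular_self (hA'.2 q).2
      exact cm_of_isRegularRing _
  obtain ⟨hflat, hAC⟩ := Groth.Agent.Helper2.SnFib.cmFibres_comp A A' (EGA4.Cpl A') hf hBC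
  obtain ⟨_, _, hff⟩ := Groth.Agent.Helper2.CplMap.exists_algebra A A'
  exact (Groth.Agent.Helper2.SnFib.cmFibres_descent A (EGA4.Cpl A) (EGA4.Cpl A') hAC).2

end

end Groth.Agent.Helper2.CplCM
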