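import Mathlib
import Groth.Prelude.Def_Found
import Groth.Prelude.Def_EGA4b
import Groth.Agent.Helper2.LemmaF
import Groth.Agent.Helper2.SnFib
import Groth.Agent.Helper2.CplCM
import Groth.Agent.Helper2.SepTensorReg
import Groth.Agent.Helper2.GeomNor
set_option autoImplicit false
universe u
open IsLocalRing TensorProduct

namespace Groth.Agent.Helper2.CMFields

open Groth.Agent.Helper2.SnFib Groth.Agent.Helper2.SkFlat

/-- an Artinian ring satisfies `(S_n)` for all `n` -/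
theorem hasSk_of_isArtinianRing (R : Type u) [CommRing R] [IsArtinianRing R] (n : ℕ) :
    LocCoh.HasSk n R R := by
  rw [Groth.Agent.Helper2.SkLift.hasSk_iff']
  intro p hp
  have h0 : p.height = 0 := by
    have h1 : (p.height : WithBot ℕ∞) ≤ ringKrullDim R :=
      Ideal.height_le_ringKrullDim_of_ne_top hp.ne_top
    have h2 : ringKrullDim R ≤ 0 := by
      have : Ring.KrullDimLE 0 R := inferInstance
      exact_mod_cast Ring.krullDimLE_iff.mp this
    have h3 : (p.height : WithBot ℕ∞) ≤ ((0 : ℕ∞) : WithBot ℕ∞) := h1.trans h2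
    exact le_antisymm (WithBot.coe_le_coe.mp h3) bot_le
  rw [h0]
  simp

/-- a regular ring satisfies all `(S_n)` -/
theorem hasSk_of_isRegularRing (R : Type u) [CommRing R] [IsRegularRing R] (n : ℕ) :
    LocCoh.HasSk n R R :=
  (isCohenMacaulayRing_iff R).mp (Groth.Agent.Helper2.CplCM.cm_of_isRegularRing R) n

section Fields
variable (k L K : Type u) [Field k] [Field L] [Field K] [Algebra k L] [Algebra k K]

/-- the tensor product of two field extensions, one of them finitely generated, is Cohen–Macaulay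
(stated as: it satisfies all `(S_n)`). -/
theorem hasSk_tensor_fields [Algebra.EssFiniteType k L] (n : ℕ) :
    LocCoh.HasSk n (L ⊗[k] K) (L ⊗[k] K) := by
  obtain ⟨k₁, L₁, _, _, _, _, _, _, _, _, hfin, hpi, hess, hsm⟩ :=
    Groth.Agent.Helper2.LemmaF.exists_fields k L
  haveI : Algebra.IsGeometricallyReduced k₁ L₁ :=
    Groth.Agent.Helper1.FieldSmooth.formallySmooth_iff_isGeometricallyReduced.mp hsm
  -- the Artinian ring `R = k₁ ⊗ K`
  haveI : IsArtinianRing (K ⊗[k] k₁) := IsArtinianRing.of_finite K _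
  haveI : IsArtinianRing (k₁ ⊗[k] K) :=
    RingEquiv.isArtinianRing (Algebra.TensorProduct.comm k K k₁).toRingEquiv
  haveI : IsNoetherianRing ((k₁ ⊗[k] K) ⊗[k₁] L₁) :=
    Groth.Agent.Helper2.GeomReg.isNoetherianRing_of_essFiniteType (k₁ ⊗[k] K) _
  have h1 : LocCoh.HasSk n ((k₁ ⊗[k] K) ⊗[k₁] L₁) ((k₁ ⊗[k] K) ⊗[k₁] L₁) := by
    apply hasSk_of_flat_of_fibres (k₁ ⊗[k] K) _ n (hasSk_of_isArtinianRing _ n)
    intro r hr
    haveI : IsRegularRing (r.ResidueField ⊗[k₁] L₁) :=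
      Groth.Agent.Helper2.SepTensorReg.isRegularRing_tensor_of_essFiniteType k₁ r.ResidueField L₁
    have e : r.ResidueField ⊗[k₁ ⊗[k] K] ((k₁ ⊗[k] K) ⊗[k₁] L₁) ≃ₐ[r.ResidueField]
        r.ResidueField ⊗[k₁] L₁ :=
      Algebra.TensorProduct.cancelBaseChange k₁ (k₁ ⊗[k] K) r.ResidueField r.ResidueField L₁
    haveI : IsRegularRing (r.Fiber ((k₁ ⊗[k] K) ⊗[k₁] L₁)) :=
      IsRegularRing.of_ringEquiv e.symm.toRingEquiv
    exact hasSk_of_isRegularRing _ n
  -- transfer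
  let e1 : (k₁ ⊗[k] K) ⊗[k₁] L₁ ≃+* L₁ ⊗[k₁] (k₁ ⊗[k] K) :=
    (Algebra.TensorProduct.comm k₁ (k₁ ⊗[k] K) L₁).toRingEquiv
  let e2 : L₁ ⊗[k₁] (k₁ ⊗[k] K) ≃+* L₁ ⊗[k] K :=
    (Algebra.TensorProduct.cancelBaseChange k k₁ L₁ L₁ K).toRingEquiv
  let e3 : L₁ ⊗[L] (L ⊗[k] K) ≃+* L₁ ⊗[k] K :=
    (Algebra.TensorProduct.cancelBaseChange k L L₁ L₁ K).toRingEquiv
  let e4 : (L ⊗[k] K) ⊗[L] L₁ ≃+* L₁ ⊗[L] (L ⊗[k] K) :=
    (Algebra.TensorProduct.comm L (L ⊗[k] K) L₁).toRingEquiv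
  let e := (e1.trans e2).trans (e3.symm.trans e4.symm)
  haveI : IsNoetherianRing ((L ⊗[k] K) ⊗[L] L₁) := isNoetherianRing_of_ringEquiv _ e
  have h2 : LocCoh.HasSk n ((L ⊗[k] K) ⊗[L] L₁) ((L ⊗[k] K) ⊗[L] L₁) :=
    hasSk_of_ringEquiv e n h1
  exact (Groth.Agent.Helper2.SkDescent.main n (L ⊗[k] K) ((L ⊗[k] K) ⊗[L] L₁) h2).2

theorem isNoetherianRing_tensor_fields [Algebra.EssFiniteType k L] :
    IsNoetherianRing (L ⊗[k] K) := Groth.Agent.Helper2.GeomNor.isNoetherianRing_tensor k K L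

theorem hasSk_tensor_fields' [Algebra.EssFiniteType k L] (n : ℕ) :
    LocCoh.HasSk n (K ⊗[k] L) (K ⊗[k] L) := by
  haveI := isNoetherianRing_tensor_fields k L K
  haveI : IsNoetherianRing (K ⊗[k] L) :=
    isNoetherianRing_of_ringEquiv _ (Algebra.TensorProduct.comm k L K).toRingEquiv
  exact hasSk_of_ringEquiv (Algebra.TensorProduct.comm k L K).toRingEquiv n
    (hasSk_tensor_fields k L K n)

end Fields

end Groth.Agent.Helper2.CMFields
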