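import Mathlib
import Groth.Agent.Helper2.PtDesc
open TensorProduct IsLocalRing Algebra

namespace Groth.Agent.Helper2.FiberSmooth
universe u

local notation "𝓀[" R "]" => ResidueField R

set_option backward.isDefEq.respectTransparency false in
theorem isSmoothAt_of_fiber {R S : Type u} [CommRing R] [CommRing S] [Algebra R S]
    [Algebra.FinitePresentation R S]
    (p : Ideal R) [p.IsPrime] (Q : Ideal (p.Fiber S)) [Q.IsPrime]
    (hflat : Module.Flat R (Localization.AtPrime
      (Q.comap (Algebra.TensorProduct.includeRight : S →ₐ[R] p.Fiber S))))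
    (hQ : Algebra.IsSmoothAt p.ResidueField Q) :
    Algebra.IsSmoothAt R (Q.comap (Algebra.TensorProduct.includeRight : S →ₐ[R] p.Fiber S)) := by
  set q := Q.comap (Algebra.TensorProduct.includeRight : S →ₐ[R] p.Fiber S) with hq
  have hqp : q.LiesOver p := by
    constructor
    have h1 : Q.LiesOver p := inferInstance
    rw [h1.over, hq]
    ext x
    simp only [Ideal.under, Ideal.mem_comap]
    have : (Algebra.TensorProduct.includeRight : S →ₐ[R] p.Fiber S) (algebraMap R S x) =
        algebraMap R (p.Fiber S) x := by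
      simp
    rw [this]
  let Rp := Localization.AtPrime p
  let Sp := Localization (algebraMapSubmonoid S p.primeCompl)
  let Sq := Localization.AtPrime q
  let := Localization.AtPrime.algebraOfLiesOver p q
  let f : Sp →ₐ[S] Sq := IsLocalization.liftAlgHom (M := algebraMapSubmonoid S p.primeCompl)
        (f := Algebra.ofId _ _) (by
      rintro ⟨_, x, hx, rfl⟩
      simpa using! IsLocalization.map_units (M := q.primeCompl) Sq ⟨algebraMap _ _ x,
        by simp_all [q.over_def p]⟩)
  algebraize [f.toRingHom]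
  have : IsScalarTower R Sp Sq := .to₁₃₄ _ S _ _
  have : IsScalarTower Rp Sp Sq := .of_algebraMap_eq' <| by
    apply IsLocalization.ringHom_ext p.primeCompl
    simp only [RingHom.comp_assoc, ← IsScalarTower.algebraMap_eq]
  have : IsLocalization (algebraMapSubmonoid Sp q.primeCompl) Sq :=
    .isLocalization_of_submonoid_le _ _ (algebraMapSubmonoid S p.primeCompl) _
    (by rintro _ ⟨x, hx, rfl⟩; simp_all [q.over_def p])
  have : FinitePresentation Rp Sp := by
    have : Algebra.IsPushout R Rp S Sp :=
      .symm <| Algebra.isPushout_of_isLocalization p.primeCompl _ _ _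
    exact .equiv (Algebra.IsPushout.equiv R Rp S Sp)
  have hfl : Module.Flat Rp Sq := by
    rw [Module.flat_iff_of_isLocalization Rp p.primeCompl]
    exact hflat
  have : FormallySmooth 𝓀[Rp] (𝓀[Rp] ⊗[Rp] Sq) := by
    have e1 : Localization.AtPrime Q ≃ₐ[Rp] Sq ⧸ p.map (algebraMap R Sq) :=
      Ideal.Fiber.localizationAlgEquivQuotient p Q
    have e2 : 𝓀[Rp] ⊗[Rp] Sq ≃ₐ[Rp] Sq ⧸ (maximalIdeal Rp).map (algebraMap Rp Sq) :=
      (Algebra.TensorProduct.comm _ _ _).trans
        ((TensorProduct.quotIdealMapEquivTensorQuot Sq (maximalIdeal Rp)).symm.restrictScalars _)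
    have hI : (maximalIdeal Rp).map (algebraMap Rp Sq) = p.map (algebraMap R Sq) := by
      rw [← Localization.AtPrime.map_eq_maximalIdeal, Ideal.map_map,
        ← IsScalarTower.algebraMap_eq]
    have e3 : (Sq ⧸ (maximalIdeal Rp).map (algebraMap Rp Sq)) ≃ₐ[Rp] (Sq ⧸ p.map (algebraMap R Sq)) :=
      Ideal.quotientEquivAlgOfEq Rp hI
    let e : Localization.AtPrime Q ≃ₐ[Rp] 𝓀[Rp] ⊗[Rp] Sq := e1.trans (e3.symm.trans e2.symm)
    have hsurj : Function.Surjective (algebraMap Rp 𝓀[Rp]) := IsLocalRing.residue_surjective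
    let e' : Localization.AtPrime Q ≃ₐ[𝓀[Rp]] 𝓀[Rp] ⊗[Rp] Sq :=
      { __ := e, commutes' := (e.extendScalarsOfSurjective hsurj).commutes' }
    have hQ' : FormallySmooth 𝓀[Rp] (Localization.AtPrime Q) := hQ
    exact @Algebra.FormallySmooth.of_equiv 𝓀[Rp] _ (Localization.AtPrime Q) (𝓀[Rp] ⊗[Rp] Sq) _ _ _ _ hQ' e'
  have := FormallySmooth.of_formallySmooth_residueField_tensor
    (R := Rp) (S := Sq) (P := Sp) (algebraMapSubmonoid _ q.primeCompl)
  exact .comp R Rp Sq


theorem smoothLocus_comap_algEquiv {R A B : Type*} [CommRing R] [CommRing A] [CommRing B]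
    [Algebra R A] [Algebra R B] (e : A ≃ₐ[R] B) (q : PrimeSpectrum B)
    (h : q ∈ Algebra.smoothLocus R B) :
    (⟨q.asIdeal.comap e, inferInstance⟩ : PrimeSpectrum A) ∈ Algebra.smoothLocus R A := by
  have h' : Algebra.FormallySmooth R (Localization.AtPrime q.asIdeal) := h
  exact Algebra.FormallySmooth.of_equiv
    (Localization.localAlgEquiv (q.asIdeal.comap e) q.asIdeal e rfl).symm

theorem flat_congr {R A : Type*} [CommRing R] [CommRing A] [Algebra R A] (I J : Ideal A)
    [I.IsPrime] [J.IsPrime] (h : I = J) (hJ : Module.Flat R (Localization.AtPrime J)) :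
    Module.Flat R (Localization.AtPrime I) := by
  subst h; exact hJ

theorem isSmoothAt_congr {R A : Type*} [CommRing R] [CommRing A] [Algebra R A] (I J : Ideal A)
    [I.IsPrime] [J.IsPrime] (h : I = J) (hJ : Algebra.IsSmoothAt R J) :
    Algebra.IsSmoothAt R I := by
  subst h; exact hJ

attribute [local instance] Algebra.TensorProduct.rightAlgebra in
set_option backward.isDefEq.respectTransparency false in
theorem smoothLocus_of_field_fiber (R K A : Type u) [CommRing R] [Field K] [CommRing A]
    [Algebra R K] [Algebra R A] [Algebra.FinitePresentation R A]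
    (q' : PrimeSpectrum (K ⊗[R] A))
    (hflat : Module.Flat R
      (Localization.AtPrime (q'.comap (algebraMap A (K ⊗[R] A))).asIdeal))
    (h : q' ∈ Algebra.smoothLocus K (K ⊗[R] A)) :
    q'.comap (algebraMap A (K ⊗[R] A)) ∈ Algebra.smoothLocus R A := by
  let p : Ideal R := RingHom.ker (algebraMap R K)
  have hp : p.IsPrime := RingHom.ker_isPrime _
  let φ : p.ResidueField →+* K := Ideal.ResidueField.lift p (algebraMap R K) le_rfl (by
    intro x hx
    simp only [Submonoid.mem_comap, IsUnit.mem_submonoid_iff]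
    have : algebraMap R K x ≠ 0 := fun h0 => hx (RingHom.mem_ker.mpr h0)
    exact this.isUnit)
  letI : Algebra p.ResidueField K := φ.toAlgebra
  have : IsScalarTower R p.ResidueField K := IsScalarTower.of_algebraMap_eq (fun r => by
    change _ = φ (algebraMap R p.ResidueField r)
    simp [φ])
  let c : K ⊗[p.ResidueField] (p.Fiber A) ≃ₐ[K] K ⊗[R] A :=
    Algebra.TensorProduct.cancelBaseChange R p.ResidueField K K A
  have h1 := smoothLocus_comap_algEquiv (R := K) (A := K ⊗[p.ResidueField] (p.Fiber A))
    (B := K ⊗[R] A) c q' h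
  have h2 := Groth.Agent.Helper2.PtDesc.smoothLocus_comap p.ResidueField K (p.Fiber A) _ h1
  set Q := PrimeSpectrum.comap (algebraMap (p.Fiber A) (K ⊗[p.ResidueField] (p.Fiber A)))
    (⟨q'.asIdeal.comap c, inferInstance⟩ : PrimeSpectrum (K ⊗[p.ResidueField] (p.Fiber A)))
    with hQdef
  have hQq : Q.asIdeal.comap (Algebra.TensorProduct.includeRight : A →ₐ[R] p.Fiber A) =
      (q'.comap (algebraMap A (K ⊗[R] A))).asIdeal := by
    ext a
    simp only [Ideal.mem_comap, PrimeSpectrum.comap_asIdeal, hQdef]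
    have : c (algebraMap (p.Fiber A) (K ⊗[p.ResidueField] (p.Fiber A))
        ((Algebra.TensorProduct.includeRight : A →ₐ[R] p.Fiber A) a)) =
        algebraMap A (K ⊗[R] A) a := by
      simp [c, Algebra.TensorProduct.right_algebraMap_apply]
    rw [← this]
  have key := isSmoothAt_of_fiber p Q.asIdeal (flat_congr _ _ hQq hflat) h2
  exact isSmoothAt_congr _ _ hQq.symm key

end Groth.Agent.Helper2.FiberSmooth
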