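import Mathlib
import Groth.Prelude.Def_Grpd

set_option autoImplicit false
universe u
open CategoryTheory CategoryTheory.Limits AlgebraicGeometry
open Grpd

namespace Groth.Agent.Helper2.Grpd1

variable {S : Scheme.{u}} (G : Grpd.GroupoidScheme S)

lemma c_s : G.c ≫ G.s = pullback.snd G.s G.t ≫ G.s := by
  have h := G.comp_s (pullback.fst G.s G.t) (pullback.snd G.s G.t) pullback.condition
  have h1 : pullback.lift (pullback.fst G.s G.t) (pullback.snd G.s G.t) pullback.condition = 𝟙 _ := by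
    apply pullback.hom_ext <;> simp
  rwa [h1, Category.id_comp] at h

lemma c_t : G.c ≫ G.t = pullback.fst G.s G.t ≫ G.t := by
  have h := G.comp_t (pullback.fst G.s G.t) (pullback.snd G.s G.t) pullback.condition
  have h1 : pullback.lift (pullback.fst G.s G.t) (pullback.snd G.s G.t) pullback.condition = 𝟙 _ := by
    apply pullback.hom_ext <;> simp
  rwa [h1, Category.id_comp] at h

/-- composing points -/
lemma exists_comp (r r' : G.R) (h : G.s r = G.t r') :
    ∃ r'' : G.R, G.s r'' = G.s r' ∧ G.t r'' = G.t r := by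
  obtain ⟨z, hz1, hz2⟩ := Scheme.Pullback.exists_preimage_pullback (f := G.s) (g := G.t) r r' h
  refine ⟨G.c z, ?_, ?_⟩
  · rw [← Scheme.Hom.comp_apply, c_s, Scheme.Hom.comp_apply, hz2]
  · rw [← Scheme.Hom.comp_apply, c_t, Scheme.Hom.comp_apply, hz1]

lemma invariant (W : Set G.U) :
    ⇑G.s ⁻¹' (⇑G.t '' (⇑G.s ⁻¹' W)) = ⇑G.t ⁻¹' (⇑G.t '' (⇑G.s ⁻¹' W)) := by
  ext r
  simp only [Set.mem_preimage, Set.mem_image]
  constructor
  · rintro ⟨r', hr'W, hr'⟩
    obtain ⟨r'', h1, h2⟩ := exists_comp G r r' hr'.symm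
    exact ⟨r'', by rw [h1]; exact hr'W, h2⟩
  · rintro ⟨r', hr'W, hr'⟩
    have hi_s : G.s (G.i r) = G.t r := by rw [← Scheme.Hom.comp_apply, G.i_s]
    have hi_t : G.t (G.i r) = G.s r := by rw [← Scheme.Hom.comp_apply, G.i_t]
    obtain ⟨r'', h1, h2⟩ := exists_comp G (G.i r) r' (by rw [hi_s, hr'])
    exact ⟨r'', by rw [h1]; exact hr'W, by rw [h2, hi_t]⟩

end Groth.Agent.Helper2.Grpd1
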