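import Mathlib
import Groth.Prelude.Def_Grpd
import Groth.Prelude.Def_Mor2
import Groth.Agent.Helper2.Grpd1
import Groth.Agent.Helper2.Grpd2

set_option autoImplicit false
universe u
open CategoryTheory CategoryTheory.Limits AlgebraicGeometry
open Grpd

namespace Groth.Agent.Helper2.Grpd19

open Groth.Agent.Helper2 Groth.Agent.Helper2.Grpd2

variable {S : Scheme.{u}} (G : Grpd.GroupoidScheme S)

lemma i_i {T : Scheme.{u}} (α : T ⟶ G.R) : (α ≫ G.i) ≫ G.i = α := by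
  have h1 : (α ≫ G.i) ≫ G.s = α ≫ G.t := i_s' G α
  have h2 : ((α ≫ G.i) ≫ G.i) ≫ G.s = (α ≫ G.i) ≫ G.t := i_s' G _
  have h3 : ((α ≫ G.i) ≫ G.i) ≫ G.s = α ≫ G.s := by rw [h2, i_t']
  have h4 := i_mul_mul G (α ≫ G.i) α h1 (by rw [h2, mul_t])
  have h5 : mul G (α ≫ G.i) α h1 = α ≫ G.s ≫ G.e := i_mul G α h1
  have h6 := mul_e G ((α ≫ G.i) ≫ G.i) (by
    simp only [Category.assoc, G.e_t, Category.comp_id])
  have h7 : ((α ≫ G.i) ≫ G.i) ≫ G.s ≫ G.e = α ≫ G.s ≫ G.e := by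
    rw [← Category.assoc, h3, Category.assoc]
  calc (α ≫ G.i) ≫ G.i = mul G ((α ≫ G.i) ≫ G.i) (((α ≫ G.i) ≫ G.i) ≫ G.s ≫ G.e) _ := h6.symm
    _ = mul G ((α ≫ G.i) ≫ G.i) (mul G (α ≫ G.i) α h1) _ :=
        mul_congr G _ _ rfl (by rw [h7, h5])
    _ = α := h4

lemma i_comp_i : G.i ≫ G.i = 𝟙 G.R := by
  have := i_i G (𝟙 G.R)
  simpa using this

instance : IsIso G.i := ⟨⟨G.i, i_comp_i G, i_comp_i G⟩⟩

theorem finrank_inv [IsFinite G.s] [Flat G.s] (x : G.R) :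
    G.s.finrank (G.s x) = G.s.finrank (G.t x) := by
  rw [← Scheme.Hom.finrank_of_isPullback (pullback.fst G.s G.t) (pullback.snd G.s G.t) G.s G.t
    (IsPullback.of_hasPullback _ _) x,
    ← Scheme.Hom.finrank_of_isPullback G.c (pullback.snd G.s G.t) G.s G.s (isPullback_c G) x]

theorem finrank_t [IsFinite G.s] [Flat G.s] [IsFinite G.t] [Flat G.t] : G.t.finrank = G.s.finrank := by
  have : G.t = G.i ≫ G.s := G.i_s.symm
  have h := Scheme.Hom.finrank_comp_left_of_isIso G.i G.s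
  convert h using 2

theorem finrank_restrict {X Y : Scheme.{u}} (f : X ⟶ Y) [IsFinite f] [Flat f] (V : Y.Opens)
    (y : V.toScheme) : (f ∣_ V).finrank y = f.finrank y.1 :=
  Scheme.Hom.finrank_of_isPullback (f ⁻¹ᵁ V).ι (f ∣_ V) f V.ι
    (isPullback_morphismRestrict f V).flip y

theorem main [IsFinite G.s] [Flat G.s] [LocallyOfFinitePresentation G.s] [IsFinite G.t]
    [Flat G.t] [LocallyOfFinitePresentation G.t] :
    ∃ V : ℕ → G.U.Opens, V 0 = ⊥ ∧ (∀ r r', r ≠ r' → Disjoint (V r) (V r')) ∧ (⨆ r, V r) = ⊤ ∧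
      ∀ r, G.s ⁻¹ᵁ V r = G.t ⁻¹ᵁ V r ∧ Mor2.IsFinLocFreeOfDeg r (G.s ∣_ V r) ∧
        Mor2.IsFinLocFreeOfDeg r (G.t ∣_ V r) := by
  have hpos : ∀ u : G.U, 1 ≤ G.s.finrank u := by
    intro u
    have h := Scheme.Hom.one_le_finrank_map G.s (G.e u)
    rwa [← Scheme.Hom.comp_apply, G.e_s] at h
  refine ⟨fun r => ⟨G.s.finrank ⁻¹' {r},
    (Scheme.Hom.isLocallyConstant_finrank G.s).isOpen_fiber r⟩, ?_, ?_, ?_, ?_⟩
  · ext u
    simp only [TopologicalSpace.Opens.coe_mk, Set.mem_preimage, Set.mem_singleton_iff,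
      TopologicalSpace.Opens.coe_bot, Set.mem_empty_iff_false, iff_false]
    have := hpos u
    omega
  · intro r r' hrr'
    rw [disjoint_iff]
    ext u
    simp only [TopologicalSpace.Opens.coe_inf, TopologicalSpace.Opens.coe_mk, Set.mem_inter_iff,
      Set.mem_preimage, Set.mem_singleton_iff, TopologicalSpace.Opens.coe_bot,
      Set.mem_empty_iff_false, iff_false, not_and]
    intro h1 h2
    exact hrr' (h1.symm.trans h2)
  · rw [eq_top_iff]
    intro u _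
    rw [TopologicalSpace.Opens.mem_iSup]
    exact ⟨G.s.finrank u, rfl⟩
  · intro r
    refine ⟨?_, ⟨⟨inferInstance, inferInstance, inferInstance⟩, fun y => ?_⟩,
      ⟨⟨inferInstance, inferInstance, inferInstance⟩, fun y => ?_⟩⟩
    · ext x
      change G.s.finrank (G.s x) = r ↔ G.s.finrank (G.t x) = r
      rw [finrank_inv G x]
    · rw [finrank_restrict]
      exact y.2
    · rw [finrank_restrict, finrank_t]
      exact y.2

end Groth.Agent.Helper2.Grpd19
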