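import Mathlib
import Groth.Prelude.Def_Grpd
import Groth.Agent.Helper2.Grpd2

set_option autoImplicit false
universe u
open CategoryTheory CategoryTheory.Limits AlgebraicGeometry
open Grpd Groth.Agent.Helper2.Grpd2

namespace Groth.Agent.Helper2.Grpd3

lemma isIntegral_subsingleton_of_iso {U : Scheme.{u}} (k : Type u) [Field k]
    (eU : U ≅ Spec (CommRingCat.of k)) : IsIntegral U ∧ Subsingleton U := by
  have hs : Subsingleton U := eU.hom.homeomorph.subsingleton
  have hn : Nonempty U := ⟨eU.inv (Classical.arbitrary _)⟩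
  exact ⟨isIntegral_of_isOpenImmersion eU.hom, hs⟩

end Groth.Agent.Helper2.Grpd3
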