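import Mathlib
import Groth.Agent.Helper2.PtDesc
import Groth.Agent.Helper2.Grpd3
import Groth.Agent.Helper2.Grpd19
open CategoryTheory CategoryTheory.Limits AlgebraicGeometry Opposite
universe u
open Grpd

namespace Groth.Agent.Helper2.GrpdSmooth
open Groth.Agent.Helper2 Groth.Agent.Helper2.Grpd2

/-- base change preserves smoothness at a point (neighbourhood form). -/
theorem smooth_nbhd_of_isPullback {X Y X' Y' : Scheme.{u}} {f : X ⟶ Y} {g : Y' ⟶ Y}
    {fst : X' ⟶ X} {snd : X' ⟶ Y'} (h : IsPullback fst snd f g) (x' : X')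
    (hs : ∃ U : X.Opens, fst x' ∈ U ∧ Smooth (U.ι ≫ f)) :
    ∃ U' : X'.Opens, x' ∈ U' ∧ Smooth (U'.ι ≫ snd) := by
  obtain ⟨U, hxU, hU⟩ := hs
  refine ⟨fst ⁻¹ᵁ U, hxU, ?_⟩
  have sq : IsPullback (fst ∣_ U) ((fst ⁻¹ᵁ U).ι ≫ snd) (U.ι ≫ f) g :=
    (isPullback_morphismRestrict fst U).paste_vert h
  exact MorphismProperty.of_isPullback (P := @Smooth) sq hU

variable {S : Scheme.{u}} (G : Grpd.GroupoidScheme S)

/-- for two arrows with the same target there is a composable pair `(w, b)` with `w ∘ b = r`. -/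
theorem exists_point (w r : G.R) (h : G.t w = G.t r) :
    ∃ z : ↑(pullback G.s G.t), pullback.fst G.s G.t z = w ∧ G.c z = r := by
  obtain ⟨y, hy1, hy2⟩ := Scheme.Pullback.exists_preimage_pullback (f := G.t) (g := G.t) w r h
  have hw : (pullback.fst G.t G.t ≫ G.i) ≫ G.s = pullback.snd G.t G.t ≫ G.t := by
    rw [i_s', pullback.condition]
  have hc : pullback.fst G.t G.t ≫ G.s =
      mul G (pullback.fst G.t G.t ≫ G.i) (pullback.snd G.t G.t) hw ≫ G.t := by
    rw [mul_t, i_t']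
  let φ : pullback G.t G.t ⟶ pullback G.s G.t :=
    pullback.lift (pullback.fst G.t G.t)
      (mul G (pullback.fst G.t G.t ≫ G.i) (pullback.snd G.t G.t) hw) hc
  have h1 : φ ≫ pullback.fst G.s G.t = pullback.fst G.t G.t := pullback.lift_fst _ _ _
  have h2 : φ ≫ pullback.snd G.s G.t =
      mul G (pullback.fst G.t G.t ≫ G.i) (pullback.snd G.t G.t) hw := pullback.lift_snd _ _ _
  have h3 : φ ≫ G.c = pullback.snd G.t G.t := shear_comp_c G φ h1 hw h2
  refine ⟨φ y, ?_, ?_⟩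
  · rw [← Scheme.Hom.comp_apply, h1, hy1]
  · rw [← Scheme.Hom.comp_apply, h3, hy2]

end Groth.Agent.Helper2.GrpdSmooth
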