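import Mathlib
import Groth.Agent.Helper2.PtDesc
import Groth.Agent.Helper2.FiberSmooth
import Groth.Agent.Helper2.GrpdSmooth
open TensorProduct IsLocalRing Algebra AlgebraicGeometry CategoryTheory CategoryTheory.Limits

namespace Groth.Agent.Helper2.FiberSmooth2
universe u
open Groth.Agent.Helper2.PtDesc Groth.Agent.Helper2.FiberSmooth

lemma localRingHom_flat_iff {R S : Type u} [CommRing R] [CommRing S] [Algebra R S]
    (q : Ideal S) [q.IsPrime] :
    (Localization.localRingHom (q.comap (algebraMap R S)) q (algebraMap R S)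
      rfl).Flat ↔ Module.Flat R (Localization.AtPrime q) := by
  have : q.LiesOver (q.comap (algebraMap R S)) := ⟨rfl⟩
  let := Localization.AtPrime.algebraOfLiesOver (q.comap (algebraMap R S)) q
  change Module.Flat (Localization.AtPrime (q.comap (algebraMap R S)))
      (Localization.AtPrime q) ↔ _
  exact Module.flat_iff_of_isLocalization (Localization.AtPrime (q.comap (algebraMap R S))) (q.comap (algebraMap R S)).primeCompl _

attribute [local instance] Algebra.TensorProduct.rightAlgebra in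
theorem stalkMap_Spec_smooth_field (R K A : Type u) [CommRing R] [Field K] [CommRing A]
    [Algebra R K] [Algebra R A] [Algebra.FinitePresentation R A]
    (q' : PrimeSpectrum (K ⊗[R] A))
    (hfl : ((Spec.map (CommRingCat.ofHom (algebraMap R A))).stalkMap
      (q'.comap (algebraMap A (K ⊗[R] A)))).hom.Flat)
    (h : ((Spec.map (CommRingCat.ofHom (algebraMap K (K ⊗[R] A)))).stalkMap q').hom.FormallySmooth) :
    ((Spec.map (CommRingCat.ofHom (algebraMap R A))).stalkMap
      (q'.comap (algebraMap A (K ⊗[R] A)))).hom.FormallySmooth := by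
  have e1 := RingHom.FormallySmooth.respectsIso.arrow_mk_iso_iff
    (Scheme.arrowStalkMapSpecIso (CommRingCat.ofHom (algebraMap K (K ⊗[R] A))) q')
  have e2 := RingHom.FormallySmooth.respectsIso.arrow_mk_iso_iff
    (Scheme.arrowStalkMapSpecIso (CommRingCat.ofHom (algebraMap R A))
      (q'.comap (algebraMap A (K ⊗[R] A))))
  have e3 := RingHom.Flat.respectsIso.arrow_mk_iso_iff
    (Scheme.arrowStalkMapSpecIso (CommRingCat.ofHom (algebraMap R A))
      (q'.comap (algebraMap A (K ⊗[R] A))))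
  have h1 := localRingHom_formallySmooth_iff (R := K) (S := K ⊗[R] A) q'.asIdeal
  have h2 := localRingHom_formallySmooth_iff (R := R) (S := A)
    (q'.comap (algebraMap A (K ⊗[R] A))).asIdeal
  have h3 := localRingHom_flat_iff (R := R) (S := A)
    (q'.comap (algebraMap A (K ⊗[R] A))).asIdeal
  exact e2.mpr (h2.mpr (smoothLocus_of_field_fiber R K A q' (h3.mp (e3.mp hfl)) (h1.mp (e1.mp h))))


set_option backward.isDefEq.respectTransparency false in
theorem stalkMap_formallySmooth_of_fst_field {X Y : Scheme.{u}} (f : X ⟶ Y)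
    [LocallyOfFinitePresentation f] (K : Type u) [Field K] (g : Spec (.of K) ⟶ Y)
    (x' : ↑(pullback g f))
    (hfl : (f.stalkMap (pullback.snd g f x')).hom.Flat)
    (hx' : ((pullback.fst g f).stalkMap x').hom.FormallySmooth) :
      (f.stalkMap ((pullback.snd g f) x')).hom.FormallySmooth := by
  have hQ' := RingHom.FormallySmooth.respectsIso
  have hF' := RingHom.Flat.respectsIso
  obtain ⟨W, hW, hsW, _⟩ := TopologicalSpace.Opens.isBasis_iff_nbhd.mp Y.isBasis_affineOpens
    (TopologicalSpace.Opens.mem_top <| f (pullback.snd g f x'))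
  obtain ⟨U, hU, hxU, eU⟩ := TopologicalSpace.Opens.isBasis_iff_nbhd.mp X.isBasis_affineOpens
    (show pullback.snd g f x' ∈ f ⁻¹ᵁ W from hsW)
  have hcond : g (pullback.fst g f x') = f (pullback.snd g f x') := by
    rw [← Scheme.Hom.comp_apply, ← Scheme.Hom.comp_apply, pullback.condition]
  have hW : IsAffineOpen W := hW
  have hU : IsAffineOpen U := hU
  have hrange : Set.range g ⊆ Set.range hW.fromSpec := by
    rw [hW.range_fromSpec]
    rintro _ ⟨z, rfl⟩
    have : z = pullback.fst g f x' := Subsingleton.elim _ _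
    rw [this, hcond]; exact hsW
  let g₀ : Spec (.of K) ⟶ Spec Γ(Y, W) := IsOpenImmersion.lift hW.fromSpec g hrange
  have hg₀ : g₀ ≫ hW.fromSpec = g := IsOpenImmersion.lift_fac _ _ _
  let φ : Γ(Y, W) ⟶ .of K := Spec.preimage g₀
  have hφ : Spec.map φ = g₀ := Spec.map_preimage _
  -- ring maps
  have hfp : (f.appLE W U eU).hom.FinitePresentation := f.finitePresentation_appLE hW hU eU
  algebraize [(f.appLE W U eU).hom, φ.hom]
  have wU : Spec.map (CommRingCat.ofHom (algebraMap Γ(Y, W) Γ(X, U))) ≫ hW.fromSpec =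
      hU.fromSpec ≫ f := hW.SpecMap_appLE_fromSpec f hU eU
  have wW' : Spec.map (CommRingCat.ofHom (algebraMap Γ(Y, W) K)) ≫ hW.fromSpec =
      𝟙 _ ≫ g := by
    rw [Category.id_comp, ← hg₀, ← hφ]; rfl
  let ι₀ := pullback.map (Spec.map (CommRingCat.ofHom (algebraMap Γ(Y, W) K)))
    (Spec.map (CommRingCat.ofHom (algebraMap Γ(Y, W) Γ(X, U)))) g f (𝟙 _) hU.fromSpec
    hW.fromSpec wW' wU
  let e := pullbackSpecIso Γ(Y, W) K Γ(X, U)
  let ι := e.inv ≫ ι₀
  have hι : x' ∈ Set.range ι := by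
    have h0 : x' ∈ Set.range ι₀ := by
      rw [Scheme.Pullback.range_map]
      refine ⟨?_, ?_⟩
      · simp
      · change pullback.snd g f x' ∈ Set.range hU.fromSpec
        rw [hU.range_fromSpec]; exact hxU
    obtain ⟨z, rfl⟩ := h0
    refine ⟨e.hom z, ?_⟩
    simp [ι]
  obtain ⟨z', rfl⟩ := hι
  let := Algebra.TensorProduct.rightAlgebra (R := Γ(Y, W)) (A := K) (B := Γ(X, U))
  have sqa : ι ≫ pullback.fst g f = Spec.map (CommRingCat.ofHom
      (algebraMap K (K ⊗[Γ(Y, W)] Γ(X, U)))) ≫ 𝟙 _ := by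
    simp only [ι, ι₀, Category.assoc]
    unfold pullback.map
    rw [pullback.lift_fst, ← Category.assoc, pullbackSpecIso_inv_fst]
    rfl
  have sqsnd : ι ≫ pullback.snd g f = Spec.map (CommRingCat.ofHom
      (algebraMap Γ(X, U) (K ⊗[Γ(Y, W)] Γ(X, U)))) ≫ hU.fromSpec := by
    simp only [ι, ι₀, Category.assoc]
    unfold pullback.map
    rw [pullback.lift_snd, ← Category.assoc, pullbackSpecIso_inv_snd]
    rfl
  rw [← Groth.Agent.Helper3.UnramBC.stalkMap_iff_of_square hQ' (pullback.fst g f) _ ι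
    (𝟙 _) sqa z'] at hx'
  have hpt : pullback.snd g f (ι z') = hU.fromSpec
      ((Spec.map (CommRingCat.ofHom
        (algebraMap Γ(X, U) (K ⊗[Γ(Y, W)] Γ(X, U))))) z') := by
    have : (ι ≫ pullback.snd g f) z' = (Spec.map (CommRingCat.ofHom
        (algebraMap Γ(X, U) (K ⊗[Γ(Y, W)] Γ(X, U)))) ≫ hU.fromSpec) z' := by
      rw [sqsnd]
    exact this
  rw [hF'.arrow_mk_iso_iff (f.arrowStalkMapIsoOfEq hpt),
    ← Groth.Agent.Helper3.UnramBC.stalkMap_iff_of_square hF' f _ hU.fromSpec hW.fromSpec wU.symm]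
    at hfl
  rw [hQ'.arrow_mk_iso_iff (f.arrowStalkMapIsoOfEq hpt),
    ← Groth.Agent.Helper3.UnramBC.stalkMap_iff_of_square hQ' f _ hU.fromSpec hW.fromSpec wU.symm]
  exact stalkMap_Spec_smooth_field Γ(Y, W) K Γ(X, U) z' hfl hx'


set_option backward.isDefEq.respectTransparency false in
theorem stalkMap_formallySmooth_of_isPullback_field {X Y X' : Scheme.{u}} {f : X ⟶ Y}
    (K : Type u) [Field K] {g : Spec (.of K) ⟶ Y}
    {fst : X' ⟶ X} {snd : X' ⟶ Spec (.of K)} (h : IsPullback fst snd f g)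
    [LocallyOfFinitePresentation f] (x' : X') (hfl : (f.stalkMap (fst x')).hom.Flat)
    (hs : (snd.stalkMap x').hom.FormallySmooth) : (f.stalkMap (fst x')).hom.FormallySmooth := by
  have hQ' := RingHom.FormallySmooth.respectsIso
  have hF' := RingHom.Flat.respectsIso
  let e := h.flip.isoPullback
  have w1 : e.hom ≫ pullback.fst g f = snd ≫ 𝟙 _ := by simp [e]
  have w2 : e.hom ≫ pullback.snd g f = fst := by simp [e]
  rw [Groth.Agent.Helper3.UnramBC.stalkMap_iff_of_square hQ' (pullback.fst g f) snd e.hom (𝟙 _)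
    w1 x'] at hs
  have hpt : fst x' = pullback.snd g f (e.hom x') := by
    rw [← Scheme.Hom.comp_apply, w2]
  rw [hF'.arrow_mk_iso_iff (f.arrowStalkMapIsoOfEq hpt)] at hfl
  have key := stalkMap_formallySmooth_of_fst_field f K g (e.hom x') hfl hs
  rw [hQ'.arrow_mk_iso_iff (f.arrowStalkMapIsoOfEq hpt)]
  exact key

theorem flat_stalk_of_smooth_nbhd {X Y : Scheme.{u}} (f : X ⟶ Y) (x : X)
    (h : ∃ U : X.Opens, x ∈ U ∧ Smooth (U.ι ≫ f)) : (f.stalkMap x).hom.Flat := by
  obtain ⟨U, hx, hU⟩ := h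
  rw [← Groth.Agent.Helper3.StalkNbhd.stalkMap_ι_comp_iff RingHom.Flat.respectsIso f U x hx]
  have : Flat (U.ι ≫ f) := inferInstance
  exact (Flat.iff_flat_stalkMap (U.ι ≫ f)).mp this ⟨x, hx⟩

theorem mem_smoothLocus_iff_flat_and_fiber {X S : Scheme.{u}} (f : X ⟶ S)
    [LocallyOfFinitePresentation f] (x : X)
    [LocallyOfFinitePresentation (f.fiberToSpecResidueField (f x))] :
    x ∈ f.smoothLocus ↔
      (f.stalkMap x).hom.Flat ∧ f.asFiber x ∈ (f.fiberToSpecResidueField (f x)).smoothLocus := by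
  have hQ' := RingHom.FormallySmooth.respectsIso
  have hF' := RingHom.Flat.respectsIso
  have hpb : IsPullback (f.fiberι (f x)) (f.fiberToSpecResidueField (f x)) f
      (S.fromSpecResidueField (f x)) := IsPullback.of_hasPullback _ _
  have hpt : f.fiberι (f x) (f.asFiber x) = x := f.fiberι_asFiber x
  constructor
  · intro hx
    have hn := (smooth_nbhd_iff f x).mpr hx
    refine ⟨flat_stalk_of_smooth_nbhd f x hn, ?_⟩
    have hn' : ∃ U : X.Opens, f.fiberι (f x) (f.asFiber x) ∈ U ∧ Smooth (U.ι ≫ f) := by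
      rw [hpt]; exact hn
    have := Groth.Agent.Helper2.GrpdSmooth.smooth_nbhd_of_isPullback hpb (f.asFiber x) hn'
    exact (smooth_nbhd_iff _ _).mp this
  · rintro ⟨hfl, hsm⟩
    rw [hF'.arrow_mk_iso_iff (f.arrowStalkMapIsoOfEq hpt.symm)] at hfl
    have key := stalkMap_formallySmooth_of_isPullback_field (S.residueField (f x)) hpb
      (f.asFiber x) hfl hsm
    rw [Scheme.Hom.mem_smoothLocus, hQ'.arrow_mk_iso_iff (f.arrowStalkMapIsoOfEq hpt.symm)]
    exact key

end Groth.Agent.Helper2.FiberSmooth2
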