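import Mathlib
import Groth.Prelude
import Groth.Agent.Helper2.FlatLoc
import Groth.Agent.Helper2.RegDescent
import Groth.Agent.Helper2.NormalPt
import Groth.Agent.Helper2.RegHom2
import Groth.Agent.Helper2.FiberSmooth2
import Groth.Agent.Helper2.ArtSch
set_option autoImplicit false
universe u
open IsLocalRing TensorProduct AlgebraicGeometry CategoryTheory

namespace Groth.Agent.Helper2.SmoothStalk

section Local
variable (A B : Type u) [CommRing A] [CommRing B] [IsLocalRing A] [IsLocalRing B]
  [IsNoetherianRing A] [IsNoetherianRing B] [Algebra A B] [IsLocalHom (algebraMap A B)]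
  [Module.Flat A B]

theorem dim_eq : ringKrullDim B = ringKrullDim A +
    ringKrullDim (B ⧸ (maximalIdeal A).map (algebraMap A B)) := by
  set I := (maximalIdeal A).map (algebraMap A B) with hI
  have hcomap : (maximalIdeal B).comap (algebraMap A B) = maximalIdeal A :=
    ((local_hom_TFAE (algebraMap A B)).out 0 4).mp ‹_›
  haveI : (maximalIdeal B).LiesOver (maximalIdeal A) := ⟨hcomap.symm⟩
  have hht := Ideal.height_eq_height_add_of_liesOver_of_hasGoingDown (maximalIdeal A)
    (maximalIdeal B)
  have hmax : (maximalIdeal B).map (Ideal.Quotient.mk I) = maximalIdeal (B ⧸ I) :=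
    IsLocalRing.map_maximalIdeal_of_surjective _ Ideal.Quotient.mk_surjective
  rw [hmax] at hht
  rw [← IsLocalRing.maximalIdeal_height_eq_ringKrullDim,
    ← IsLocalRing.maximalIdeal_height_eq_ringKrullDim,
    ← IsLocalRing.maximalIdeal_height_eq_ringKrullDim, hht]
  rfl

theorem depth_eq : LocCoh.depth B B = LocCoh.depth A A +
    LocCoh.depth (EGA4.FibRing A B) (EGA4.FibRing A B) := by
  have h := Groth.Agent.Helper2.DepthFlat2.depth_tensor (A := A) (B := B) A B
  have e1 : (B ⊗[A] A) ≃ₗ[B] B := TensorProduct.AlgebraTensorModule.rid _ _ _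
  have hc1 : LocCoh.depth B (B ⊗[A] A) = LocCoh.depth B B :=
    Groth.Agent.Helper2.DepthCM.idealDepth_congr (maximalIdeal B) e1
  rw [hc1] at h
  rw [h]
  congr 1
  have hI : (EGA4.mB A B • (⊤ : Submodule B B)) = EGA4.mB A B := by
    rw [smul_eq_mul, Ideal.mul_top]
  have e2 : EGA4.FibMod A B B ≃ₗ[B] EGA4.FibRing A B := Submodule.quotEquivOfEq _ _ hI
  have hc2 : LocCoh.depth B (EGA4.FibMod A B B) = LocCoh.depth B (EGA4.FibRing A B) :=
    Groth.Agent.Helper2.DepthCM.idealDepth_congr (maximalIdeal B) e2
  rw [hc2]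
  haveI : IsLocalHom (algebraMap B (EGA4.FibRing A B)) :=
    IsLocalHom.of_surjective _ Ideal.Quotient.mk_surjective
  haveI : Module.Finite B (EGA4.FibRing A B) :=
    Module.Finite.of_surjective (Algebra.linearMap _ _) Ideal.Quotient.mk_surjective
  exact Groth.Agent.Helper2.RegCM.depth_eq_of_isLocalHom B (EGA4.FibRing A B) (EGA4.FibRing A B)

theorem regular_iff (hF : IsRegularLocalRing (B ⧸ (maximalIdeal A).map (algebraMap A B))) :
    IsRegularLocalRing B ↔ IsRegularLocalRing A := by
  constructor
  · intro h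
    exact Groth.Agent.Helper2.RegDescent.isRegularLocalRing_of_flat A B
  · intro h
    exact Groth.Agent.Helper2.RegFlat.isRegularLocalRing_of_flat_of_fibre hF

theorem codepth_eq (hF : IsRegularLocalRing (B ⧸ (maximalIdeal A).map (algebraMap A B))) :
    ringKrullDim B + ((LocCoh.depth A A : ℕ∞) : WithBot ℕ∞) =
      ringKrullDim A + ((LocCoh.depth B B : ℕ∞) : WithBot ℕ∞) := by
  have hcm := Groth.Agent.Helper2.RegCM.cm_of_isRegularLocalRing
    (B ⧸ (maximalIdeal A).map (algebraMap A B))
  unfold LocCoh.IsCohenMacaulayModule at hcm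
  rw [Module.supportDim_self_eq_ringKrullDim] at hcm
  rw [dim_eq A B, depth_eq A B, hcm]
  push_cast
  abel

end Local

section Chart

/-- the property "the closed fibre of `φ` is a regular local ring" -/
def FibReg {R S : Type u} [CommRing R] [CommRing S] (φ : R →+* S) : Prop :=
  ∀ (h : IsLocalRing R), IsRegularLocalRing (S ⧸ (@maximalIdeal R _ h).map φ)

theorem fibReg_respectsIso : RingHom.RespectsIso (@FibReg) := by
  constructor
  · intro R S T _ _ _ φ e h hR
    have h1 := h hR
    have hJ : (maximalIdeal R).map (e.toRingHom.comp φ) =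
        ((maximalIdeal R).map φ).map (e : S →+* T) := by
      rw [Ideal.map_map]; rfl
    let E : (S ⧸ (maximalIdeal R).map φ) ≃+* (T ⧸ (maximalIdeal R).map (e.toRingHom.comp φ)) :=
      Ideal.quotientEquiv _ _ e hJ
    exact IsRegularLocalRing.of_ringEquiv E
  · intro R S T _ _ _ φ e h hR
    haveI hS : IsLocalRing S := e.isLocalRing
    have h1 := h hS
    have hJ : (maximalIdeal R).map (φ.comp e.toRingHom) = (maximalIdeal S).map φ := by
      rw [← Ideal.map_map]
      congr 1
      exact IsLocalRing.map_maximalIdeal_of_surjective _ e.surjective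
    rw [hJ]
    exact h1

theorem fibReg_localRingHom (R S : Type u) [CommRing R] [CommRing S] [Algebra R S]
    [Algebra.Smooth R S] (p : Ideal R) [p.IsPrime] (q : Ideal S) [q.IsPrime]
    (hpq : p = q.comap (algebraMap R S)) :
    FibReg (Localization.localRingHom p q (algebraMap R S) hpq) := by
  subst hpq
  intro hR
  obtain rfl : hR = Localization.AtPrime.isLocalRing (q.comap (algebraMap R S)) := Subsingleton.elim _ _
  haveI : q.LiesOver (q.comap (algebraMap R S)) := ⟨rfl⟩
  letI := Localization.AtPrime.algebraOfLiesOver (q.comap (algebraMap R S)) q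
  have hmap : (maximalIdeal (Localization.AtPrime (q.comap (algebraMap R S)))).map
      (Localization.localRingHom (q.comap (algebraMap R S)) q (algebraMap R S) rfl) =
      (q.comap (algebraMap R S)).map (algebraMap R (Localization.AtPrime q)) := by
    change (maximalIdeal (Localization.AtPrime (q.comap (algebraMap R S)))).map
      (algebraMap (Localization.AtPrime (q.comap (algebraMap R S))) (Localization.AtPrime q)) = _
    rw [← Localization.AtPrime.map_eq_maximalIdeal, Ideal.map_map, ← IsScalarTower.algebraMap_eq]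
  rw [hmap]
  haveI : Algebra.Smooth (q.comap (algebraMap R S)).ResidueField
      ((q.comap (algebraMap R S)).Fiber S) := inferInstance
  exact Groth.Agent.Helper2.NormalPt.fibLocRing_regular R S q
    (Groth.Agent.Helper2.RegHom2.isRegularRing_of_smooth_field
      (q.comap (algebraMap R S)).ResidueField _)

set_option backward.isDefEq.respectTransparency false in
theorem fibReg_stalkMap {X Y : Scheme.{u}} (f : X ⟶ Y) [LocallyOfFinitePresentation f] (x : X)
    (hx : (f.stalkMap x).hom.FormallySmooth) : FibReg (f.stalkMap x).hom := by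
  obtain ⟨U, hU, V, hV, hVU, hxV, H⟩ := exists_smooth_of_formallySmooth_stalk f x hx
  rw [fibReg_respectsIso.arrow_mk_iso_iff (IsAffineOpen.arrowStalkMapIso f U hU V hV hVU hxV)]
  algebraize [(f.appLE U V hVU).hom]
  exact fibReg_localRingHom Γ(Y, U) Γ(X, V) _ _
    (congr($(IsAffineOpen.comap_primeIdealOf_appLE U hU V hV hVU hxV).1).symm)

end Chart

section Statements
variable {X Y : Scheme.{u}} (f : X ⟶ Y) [IsLocallyNoetherian Y] [LocallyOfFiniteType f] (x : X)
  (hx : ∃ U : X.Opens, x ∈ U ∧ Smooth (U.ι ≫ f))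

include hx in
theorem fibReg_of_nbhd : FibReg (f.stalkMap x).hom := by
  haveI : LocallyOfFinitePresentation f := Groth.Agent.Helper2.ArtSch.lfp_of_lft_noeth f
  exact fibReg_stalkMap f x ((Groth.Agent.Helper2.PtDesc.smooth_nbhd_iff f x).mp hx)

include hx in
theorem s4990 :
    ringKrullDim ↑(X.presheaf.stalk x) =
      ringKrullDim ↑(Y.presheaf.stalk (f.base x)) +
        ringKrullDim (↑(X.presheaf.stalk x) ⧸
          (IsLocalRing.maximalIdeal ↑(Y.presheaf.stalk (f.base x))).map (f.stalkMap x).hom) := by
  haveI : IsLocallyNoetherian X := LocallyOfFiniteType.isLocallyNoetherian f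
  have hfl := Groth.Agent.Helper2.FiberSmooth2.flat_stalk_of_smooth_nbhd f x hx
  letI : Algebra (Y.presheaf.stalk (f.base x)) (X.presheaf.stalk x) :=
    (f.stalkMap x).hom.toAlgebra
  haveI : IsLocalHom (algebraMap (Y.presheaf.stalk (f.base x)) (X.presheaf.stalk x)) :=
    inferInstanceAs (IsLocalHom (f.stalkMap x).hom)
  haveI : Module.Flat (Y.presheaf.stalk (f.base x)) (X.presheaf.stalk x) := hfl
  exact dim_eq _ _

include hx in
theorem s4991 :
    IsRegularLocalRing ↑(X.presheaf.stalk x) ↔
      IsRegularLocalRing ↑(Y.presheaf.stalk (f.base x)) := by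
  haveI : IsLocallyNoetherian X := LocallyOfFiniteType.isLocallyNoetherian f
  have hfl := Groth.Agent.Helper2.FiberSmooth2.flat_stalk_of_smooth_nbhd f x hx
  have hF := fibReg_of_nbhd f x hx inferInstance
  letI : Algebra (Y.presheaf.stalk (f.base x)) (X.presheaf.stalk x) :=
    (f.stalkMap x).hom.toAlgebra
  haveI : IsLocalHom (algebraMap (Y.presheaf.stalk (f.base x)) (X.presheaf.stalk x)) :=
    inferInstanceAs (IsLocalHom (f.stalkMap x).hom)
  haveI : Module.Flat (Y.presheaf.stalk (f.base x)) (X.presheaf.stalk x) := hfl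
  exact regular_iff _ _ hF

include hx in
theorem s5025 :
    ringKrullDim ↑(X.presheaf.stalk x) +
        ((LocCoh.depth ↑(Y.presheaf.stalk (f.base x)) ↑(Y.presheaf.stalk (f.base x)) : ℕ∞) :
          WithBot ℕ∞) =
      ringKrullDim ↑(Y.presheaf.stalk (f.base x)) +
        ((LocCoh.depth ↑(X.presheaf.stalk x) ↑(X.presheaf.stalk x) : ℕ∞) : WithBot ℕ∞) := by
  haveI : IsLocallyNoetherian X := LocallyOfFiniteType.isLocallyNoetherian f
  have hfl := Groth.Agent.Helper2.FiberSmooth2.flat_stalk_of_smooth_nbhd f x hx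
  have hF := fibReg_of_nbhd f x hx inferInstance
  letI : Algebra (Y.presheaf.stalk (f.base x)) (X.presheaf.stalk x) :=
    (f.stalkMap x).hom.toAlgebra
  haveI : IsLocalHom (algebraMap (Y.presheaf.stalk (f.base x)) (X.presheaf.stalk x)) :=
    inferInstanceAs (IsLocalHom (f.stalkMap x).hom)
  haveI : Module.Flat (Y.presheaf.stalk (f.base x)) (X.presheaf.stalk x) := hfl
  exact codepth_eq _ _ hF

end Statements

end Groth.Agent.Helper2.SmoothStalk
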