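import Mathlib
import Groth.Prelude
import Groth.Agent.Helper2.SmoothStalk
import Groth.Agent.Helper2.FlatAscent
import Groth.Agent.Helper2.SkFlat
import Groth.Agent.Helper2.SerreLoc
import Groth.Agent.Helper2.CMFields
import Groth.Agent.S9437
import Groth.Agent.S9438
set_option autoImplicit false
universe u
open IsLocalRing TensorProduct AlgebraicGeometry CategoryTheory

namespace Groth.Agent.Helper2.SmoothStalk2

open Groth.Agent.Helper2.SmoothStalk

set_option backward.isDefEq.respectTransparency false in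
/-- an affine chart around a smooth point -/
theorem exists_chart {X Y : Scheme.{u}} (f : X ⟶ Y) [LocallyOfFinitePresentation f] (x : X)
    (hx : (f.stalkMap x).hom.FormallySmooth) :
    ∃ (R S : Type u) (_ : CommRing R) (_ : CommRing S) (_ : Algebra R S) (_ : Algebra.Smooth R S)
      (P : Ideal R) (_ : P.IsPrime) (Q : Ideal S) (_ : Q.IsPrime),
      P = Q.comap (algebraMap R S) ∧ (IsLocallyNoetherian Y → IsNoetherianRing R) ∧
      Nonempty (Y.presheaf.stalk (f x) ≃+* Localization.AtPrime P) ∧
      Nonempty (X.presheaf.stalk x ≃+* Localization.AtPrime Q) := by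
  obtain ⟨U, hU, V, hV, hVU, hxV, H⟩ := exists_smooth_of_formallySmooth_stalk f x hx
  have e := IsAffineOpen.arrowStalkMapIso f U hU V hV hVU hxV
  algebraize [(f.appLE U V hVU).hom]
  refine ⟨Γ(Y, U), Γ(X, V), inferInstance, inferInstance, inferInstance, inferInstance,
    (hU.primeIdealOf ⟨f x, hVU hxV⟩).asIdeal, inferInstance,
    (hV.primeIdealOf ⟨x, hxV⟩).asIdeal, inferInstance,
    congr($(IsAffineOpen.comap_primeIdealOf_appLE U hU V hV hVU hxV).1).symm, ?_, ?_, ?_⟩
  · intro hY
    exact IsLocallyNoetherian.component_noetherian ⟨U, hU⟩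
  · exact ⟨(Arrow.leftFunc.mapIso e).commRingCatIsoToRingEquiv⟩
  · exact ⟨(Arrow.rightFunc.mapIso e).commRingCatIsoToRingEquiv⟩

theorem hasRk_of_ringEquiv {R R' : Type u} [CommRing R] [CommRing R'] (e : R ≃+* R') (k : ℕ)
    (h : LocCoh.HasRk k R) : LocCoh.HasRk k R' := by
  intro p' hp' hht
  haveI : (p'.comap (e : R →+* R')).IsPrime := Ideal.comap_isPrime _ _
  have hht' : (p'.comap (e : R →+* R')).height = p'.height := RingEquiv.height_comap e p'
  have h0 := h (p'.comap (e : R →+* R')) (hht'.le.trans hht)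
  let e' := Localization.localRingEquiv (p'.comap (e : R →+* R')) p' e rfl
  exact IsRegularLocalRing.of_ringEquiv e'

theorem isRegularRing_of_isRegularLocalRing (F : Type u) [CommRing F] [IsRegularLocalRing F] :
    IsRegularRing F := by
  rw [isRegularRing_iff]
  intro p hp
  exact Groth.Agent.Helper2.SerreLoc.isRegularLocalRing_localization F p

section Statements
variable {X Y : Scheme.{u}} (f : X ⟶ Y) [IsLocallyNoetherian Y] [LocallyOfFiniteType f] (x : X)
  (hx : ∃ U : X.Opens, x ∈ U ∧ Smooth (U.ι ≫ f))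

include hx in
theorem s5024 (n : ℕ) :
    (LocCoh.HasSk n ↑(X.presheaf.stalk x) ↑(X.presheaf.stalk x) ↔
        LocCoh.HasSk n ↑(Y.presheaf.stalk (f.base x)) ↑(Y.presheaf.stalk (f.base x))) ∧
      (LocCoh.HasRk n ↑(X.presheaf.stalk x) ↔ LocCoh.HasRk n ↑(Y.presheaf.stalk (f.base x))) := by
  haveI : IsLocallyNoetherian X := LocallyOfFiniteType.isLocallyNoetherian f
  haveI : LocallyOfFinitePresentation f := Groth.Agent.Helper2.ArtSch.lfp_of_lft_noeth f
  have hfl := Groth.Agent.Helper2.FiberSmooth2.flat_stalk_of_smooth_nbhd f x hx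
  have hfs := (Groth.Agent.Helper2.PtDesc.smooth_nbhd_iff f x).mp hx
  obtain ⟨R, S, _, _, _, _, P, _, Q, _, rfl, hN, ⟨α⟩, ⟨β⟩⟩ := exists_chart f x hfs
  haveI : IsNoetherianRing R := hN inferInstance
  haveI : IsNoetherianRing S := Algebra.FiniteType.isNoetherianRing R S
  haveI : Module.Flat R S := inferInstance
  have hFreg : ∀ (q : Ideal S) [q.IsPrime], IsRegularLocalRing (EGA4.FibLocRing R S q) := by
    intro q _
    haveI : Algebra.Smooth (q.comap (algebraMap R S)).ResidueField
        ((q.comap (algebraMap R S)).Fiber S) := inferInstance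
    exact Groth.Agent.Helper2.NormalPt.fibLocRing_regular R S q
      (Groth.Agent.Helper2.RegHom2.isRegularRing_of_smooth_field
        (q.comap (algebraMap R S)).ResidueField _)
  letI : Algebra (Y.presheaf.stalk (f.base x)) (X.presheaf.stalk x) :=
    (f.stalkMap x).hom.toAlgebra
  haveI : IsLocalHom (algebraMap (Y.presheaf.stalk (f.base x)) (X.presheaf.stalk x)) :=
    inferInstanceAs (IsLocalHom (f.stalkMap x).hom)
  haveI : Module.Flat (Y.presheaf.stalk (f.base x)) (X.presheaf.stalk x) := hfl
  haveI : Module.FaithfullyFlat (Y.presheaf.stalk (f.base x)) (X.presheaf.stalk x) :=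
    Module.FaithfullyFlat.of_flat_of_isLocalHom
  refine ⟨⟨fun h => (Groth.Agent.S9437.result n _ _ h).2, fun h => ?_⟩,
    ⟨fun h => (Groth.Agent.S9438.result n _ _ h).2, fun h => ?_⟩⟩
  · have h1 : LocCoh.HasSk n (Localization.AtPrime (Q.comap (algebraMap R S)))
        (Localization.AtPrime (Q.comap (algebraMap R S))) :=
      Groth.Agent.Helper2.SkFlat.hasSk_of_ringEquiv α n h
    have h2 := Groth.Agent.Helper2.FlatAscent.sk_ascent R S n (fun q _ => by
      haveI := hFreg q
      haveI := isRegularRing_of_isRegularLocalRing (EGA4.FibLocRing R S q)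
      exact Groth.Agent.Helper2.CMFields.hasSk_of_isRegularRing _ n) Q h1
    exact Groth.Agent.Helper2.SkFlat.hasSk_of_ringEquiv β.symm n h2
  · have h1 : LocCoh.HasRk n (Localization.AtPrime (Q.comap (algebraMap R S))) :=
      hasRk_of_ringEquiv α n h
    have h2 := Groth.Agent.Helper2.FlatAscent.rk_ascent R S n (fun q _ => by
      haveI := hFreg q
      intro p hp _
      exact Groth.Agent.Helper2.SerreLoc.isRegularLocalRing_localization _ p) Q h1
    exact hasRk_of_ringEquiv β.symm n h2

end Statements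

end Groth.Agent.Helper2.SmoothStalk2
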