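import Mathlib
import Groth.Prelude
import Groth.Agent.Helper2.SmGU4
import Groth.Agent.Helper2.SmoothStalk2
import Groth.Agent.Helper5.GuBir3
import Groth.Agent.Lead.EtChartA
set_option autoImplicit false
universe u
open IsLocalRing TensorProduct

/-! Geometric unibranchness ascends along smooth morphisms. -/

namespace Groth.Agent.Helper2.SmGU7

section Ring

variable (R S : Type u) [CommRing R] [CommRing S] [Algebra R S] [Algebra.Smooth R S]
  (P : Ideal R) [P.IsPrime] (Q : Ideal S) [Q.IsPrime]

attribute [local instance] Algebra.TensorProduct.rightAlgebra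

theorem ring (hPQ : P = Q.comap (algebraMap R S))
    (hA : CAlg2.IsGeomUnibranch (Localization.AtPrime P)) :
    CAlg2.IsGeomUnibranch (Localization.AtPrime Q) := by
  let a : Localization.AtPrime P →+* Localization.AtPrime Q :=
    Localization.localRingHom P Q (algebraMap R S) hPQ
  letI algAB : Algebra (Localization.AtPrime P) (Localization.AtPrime Q) := a.toAlgebra
  haveI : IsLocalHom (algebraMap (Localization.AtPrime P) (Localization.AtPrime Q)) :=
    Localization.isLocalHom_localRingHom _ _ _ _
  haveI : IsScalarTower R (Localization.AtPrime P) (Localization.AtPrime Q) := by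
    refine IsScalarTower.of_algebraMap_eq (fun r => ?_)
    show _ = a (algebraMap R (Localization.AtPrime P) r)
    rw [Localization.localRingHom_to_map, ← IsScalarTower.algebraMap_apply]
  let φ : (Localization.AtPrime P) ⊗[R] S →ₐ[R] Localization.AtPrime Q :=
    Algebra.TensorProduct.lift (IsScalarTower.toAlgHom R (Localization.AtPrime P) (Localization.AtPrime Q))
      (IsScalarTower.toAlgHom R S (Localization.AtPrime Q)) (fun _ _ => Commute.all _ _)
  letI algTB : Algebra ((Localization.AtPrime P) ⊗[R] S) (Localization.AtPrime Q) :=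
    φ.toRingHom.toAlgebra
  haveI : IsScalarTower (Localization.AtPrime P) ((Localization.AtPrime P) ⊗[R] S)
      (Localization.AtPrime Q) :=
    IsScalarTower.of_algebraMap_eq (fun x => by
      show _ = φ (x ⊗ₜ 1)
      simp [φ])
  haveI : IsScalarTower S ((Localization.AtPrime P) ⊗[R] S) (Localization.AtPrime Q) :=
    IsScalarTower.of_algebraMap_eq (fun y => by
      show _ = φ (1 ⊗ₜ y)
      simp [φ])
  have hle : Algebra.algebraMapSubmonoid S P.primeCompl ≤ Q.primeCompl := by
    rintro _ ⟨r, hr, rfl⟩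
    intro hq
    apply hr
    rw [hPQ]
    exact hq
  haveI hloc : IsLocalization (Q.primeCompl.map (algebraMap S ((Localization.AtPrime P) ⊗[R] S)))
      (Localization.AtPrime Q) :=
    IsLocalization.isLocalization_of_submonoid_le ((Localization.AtPrime P) ⊗[R] S)
      (Localization.AtPrime Q) (Algebra.algebraMapSubmonoid S P.primeCompl) Q.primeCompl hle
  exact (Groth.Agent.Helper2.SmGU4.main (Localization.AtPrime P) ((Localization.AtPrime P) ⊗[R] S)
    (Localization.AtPrime Q) (Q.primeCompl.map (algebraMap S ((Localization.AtPrime P) ⊗[R] S)))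
    hA).1

end Ring

section Sch

open AlgebraicGeometry CategoryTheory

/-- geometric unibranchness ascends along a morphism which is smooth at the point. -/
theorem stalk_of_formallySmooth {X Y : Scheme.{u}} (f : X ⟶ Y) [LocallyOfFinitePresentation f]
    (x : X) (hx : (f.stalkMap x).hom.FormallySmooth)
    (hY : CAlg2.IsGeomUnibranch (Y.presheaf.stalk (f x))) :
    CAlg2.IsGeomUnibranch (X.presheaf.stalk x) := by
  obtain ⟨R, S, _, _, _, _, P, _, Q, _, hPQ, -, ⟨e1⟩, ⟨e2⟩⟩ :=
    Groth.Agent.Helper2.SmoothStalk2.exists_chart f x hx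
  have h1 : CAlg2.IsGeomUnibranch (Localization.AtPrime P) :=
    Groth.Agent.Helper5.GuBir.gu_of_ringEquiv e1 hY
  have h2 := ring R S P Q hPQ h1
  exact Groth.Agent.Helper5.GuBir.gu_of_ringEquiv e2.symm h2

theorem stalk_of_smooth {X Y : Scheme.{u}} (f : X ⟶ Y) [Smooth f] (x : X)
    (hY : CAlg2.IsGeomUnibranch (Y.presheaf.stalk (f x))) :
    CAlg2.IsGeomUnibranch (X.presheaf.stalk x) := by
  have hm : x ∈ f.smoothLocus := by rw [f.smoothLocus_eq_top]; trivial
  exact stalk_of_formallySmooth f x hm hY

theorem s4936 {Y : Scheme.{u}} (n : ℕ) (y' : ↥𝔸(ULift.{u} (Fin n); Y))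
    (hy : CAlg2.IsGeomUnibranch (Y.presheaf.stalk ((𝔸(ULift.{u} (Fin n); Y) ↘ Y).base y'))) :
    CAlg2.IsGeomUnibranch ((𝔸(ULift.{u} (Fin n); Y)).presheaf.stalk y') := by
  haveI := Groth.Agent.Lead.EtChartA.smooth_affineSpace (ULift.{u} (Fin n)) Y
  exact stalk_of_smooth (𝔸(ULift.{u} (Fin n); Y) ↘ Y) y' hy

end Sch

end Groth.Agent.Helper2.SmGU7
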