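import Mathlib
import Groth.Prelude.Def_Found
import Groth.Prelude.Def_EGA4b
import Groth.Agent.Helper2.CMFields
import Groth.Agent.Helper2.FlatLoc
import Groth.Agent.Helper2.SkDescent
import Groth.Agent.Helper2.DepthCM4
set_option autoImplicit false
universe u
open IsLocalRing TensorProduct

namespace Groth.Agent.Helper2.Codepth

open Groth.Agent.Helper2.SnFib Groth.Agent.Helper2.SkFlat Groth.Agent.Helper2.CMFields

/-- `(S_k)` only depends on the module up to isomorphism -/
theorem hasSk_congr {R M M' : Type u} [CommRing R] [AddCommGroup M] [Module R M]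
    [AddCommGroup M'] [Module R M'] (e : M ≃ₗ[R] M') (k : ℕ) :
    LocCoh.HasSk k R M ↔ LocCoh.HasSk k R M' := by
  unfold LocCoh.HasSk
  refine forall_congr' fun P => forall_congr' fun hP => ?_
  let eP : LocalizedModule P.primeCompl M ≃ₗ[Localization.AtPrime P]
      LocalizedModule P.primeCompl M' :=
    IsLocalizedModule.mapEquiv P.primeCompl (LocalizedModule.mkLinearMap P.primeCompl M)
      (LocalizedModule.mkLinearMap P.primeCompl M') (Localization.AtPrime P) e
  have hc : LocCoh.depth (Localization.AtPrime P) (LocalizedModule P.primeCompl M) =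
      LocCoh.depth (Localization.AtPrime P) (LocalizedModule P.primeCompl M') :=
    Groth.Agent.Helper2.DepthCM.idealDepth_congr _ eP
  rw [Module.supportDim_eq_of_equiv eP, hc]

/-- `(S_k)` at a prime for the ring itself -/
theorem hasSkAt_self_iff (R : Type u) [CommRing R] (p : Ideal R) [p.IsPrime] (k : ℕ) :
    EGA4.HasSkAt k R R p ↔
      LocCoh.HasSk k (Localization.AtPrime p) (Localization.AtPrime p) :=
  hasSk_congr (Groth.Agent.Helper1.SerreFlatU.selfEquiv p) k

section Main
variable (k S k' : Type u) [Field k] [CommRing S] [Algebra k S] [IsNoetherianRing S] [Field k']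
  [Algebra k k'] [IsNoetherianRing (S ⊗[k] k')]

omit [IsNoetherianRing S] in
/-- the fibre rings of `S → S ⊗ k'` satisfy all `(S_m)` -/
theorem fibre_hasSk (hft : Algebra.FiniteType k S ∨ Algebra.EssFiniteType k k')
    (p : Ideal S) [p.IsPrime] (m : ℕ) :
    LocCoh.HasSk m (p.Fiber (S ⊗[k] k')) (p.Fiber (S ⊗[k] k')) := by
  have e : p.ResidueField ⊗[S] (S ⊗[k] k') ≃ₐ[p.ResidueField] p.ResidueField ⊗[k] k' :=
    Algebra.TensorProduct.cancelBaseChange k S p.ResidueField p.ResidueField k'
  haveI := Groth.Agent.Helper2.RegBC.isNoetherianRing_fiber S (S ⊗[k] k') p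
  haveI : IsNoetherianRing (p.ResidueField ⊗[k] k') :=
    isNoetherianRing_of_ringEquiv _ e.toRingEquiv
  refine hasSk_of_ringEquiv e.symm.toRingEquiv m ?_
  rcases hft with h | h
  · haveI : Algebra.EssFiniteType k p.ResidueField := Algebra.EssFiniteType.comp k S _
    exact hasSk_tensor_fields k p.ResidueField k' m
  · exact hasSk_tensor_fields' k k' p.ResidueField m

theorem fibLoc_hasSk (hft : Algebra.FiniteType k S ∨ Algebra.EssFiniteType k k')
    (Q : Ideal (S ⊗[k] k')) [Q.IsPrime] (m : ℕ) :
    LocCoh.HasSk m (EGA4.FibLocRing S (S ⊗[k] k') Q) (EGA4.FibLocRing S (S ⊗[k] k') Q) :=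
  fibLocRing_hasSk S (S ⊗[k] k') m Q (fibre_hasSk k S k' hft _ m)

/-- the fibre local rings are Cohen–Macaulay -/
theorem fibLoc_cm (hft : Algebra.FiniteType k S ∨ Algebra.EssFiniteType k k')
    (Q : Ideal (S ⊗[k] k')) [Q.IsPrime] :
    LocCoh.depth (EGA4.FibLocRing S (S ⊗[k] k') Q) (EGA4.FibLocRing S (S ⊗[k] k') Q) =
      (maximalIdeal (EGA4.FibLocRing S (S ⊗[k] k') Q)).height := by
  set F := EGA4.FibLocRing S (S ⊗[k] k') Q with hF
  apply le_antisymm
  · have h1 := Groth.Agent.Helper2.DepthCM4.depth_le_supportDim (A := F) F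
    rw [Module.supportDim_self_eq_ringKrullDim,
      ← IsLocalRing.maximalIdeal_height_eq_ringKrullDim] at h1
    exact WithBot.coe_le_coe.mp h1
  · obtain ⟨d, hd⟩ := ENat.ne_top_iff_exists.mp
      (Ideal.height_ne_top (I := maximalIdeal F) (IsLocalRing.maximalIdeal.isMaximal F).ne_top)
    have h2 := Groth.Agent.Helper2.FlatAscent.sk_at_max F d (fibLoc_hasSk k S k' hft Q d)
    rw [← hd] at h2 ⊢
    simpa using h2

/-- the statement S2699 -/
theorem main (hft : Algebra.FiniteType k S ∨ Algebra.EssFiniteType k k')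
    (q' : Ideal (S ⊗[k] k')) [q'.IsPrime] (n : ℕ) :
    (ringKrullDim (Localization.AtPrime (q'.comap (algebraMap S (S ⊗[k] k')))) +
        ((LocCoh.depth (Localization.AtPrime q') (Localization.AtPrime q') : ℕ∞) : WithBot ℕ∞) =
      ringKrullDim (Localization.AtPrime q') +
        ((LocCoh.depth (Localization.AtPrime (q'.comap (algebraMap S (S ⊗[k] k'))))
          (Localization.AtPrime (q'.comap (algebraMap S (S ⊗[k] k')))) : ℕ∞) : WithBot ℕ∞)) ∧
    (EGA4.HasSkAt n S S (q'.comap (algebraMap S (S ⊗[k] k'))) ↔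
      EGA4.HasSkAt n (S ⊗[k] k') (S ⊗[k] k') q') := by
  constructor
  · rw [IsLocalization.AtPrime.ringKrullDim_eq_height (q'.comap (algebraMap S (S ⊗[k] k')))
        (Localization.AtPrime (q'.comap (algebraMap S (S ⊗[k] k')))),
      IsLocalization.AtPrime.ringKrullDim_eq_height q' (Localization.AtPrime q'),
      Groth.Agent.Helper2.FlatLoc.height_eq S (S ⊗[k] k') q',
      Groth.Agent.Helper2.FlatLoc.depth_eq S (S ⊗[k] k') q', fibLoc_cm k S k' hft q']
    push_cast
    abel
  · rw [hasSkAt_self_iff, hasSkAt_self_iff]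
    constructor
    · intro h
      exact Groth.Agent.Helper2.FlatAscent.sk_ascent S (S ⊗[k] k') n
        (fun Q _ => fibLoc_hasSk k S k' hft Q n) q' h
    · intro h
      letI := Localization.AtPrime.algebraOfLiesOver (q'.comap (algebraMap S (S ⊗[k] k'))) q'
      haveI : IsLocalHom (algebraMap (Localization.AtPrime (q'.comap (algebraMap S (S ⊗[k] k'))))
          (Localization.AtPrime q')) :=
        Localization.isLocalHom_localRingHom _ _ _ Ideal.LiesOver.over
      haveI : Module.FaithfullyFlat (Localization.AtPrime (q'.comap (algebraMap S (S ⊗[k] k'))))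
          (Localization.AtPrime q') := Module.FaithfullyFlat.of_flat_of_isLocalHom
      exact (Groth.Agent.Helper2.SkDescent.main n _ (Localization.AtPrime q') h).2

end Main

end Groth.Agent.Helper2.Codepth
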