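import Mathlib
import Groth.Prelude
import Groth.Agent.Helper3.SmFibNbhd
import Groth.Agent.Helper3.FiberSq
import Groth.Agent.Helper3.StalkNbhd2

set_option autoImplicit false

namespace Groth.Agent.Helper2.FibSmAt

open AlgebraicGeometry CategoryTheory CategoryTheory.Limits
open Groth.Agent.Helper3.SmFibNbhd

universe u

variable {X Y S : Scheme.{u}} (f : X ⟶ Y) (g : Y ⟶ S)

/-- if the composite and the second map are flat (local), the first is flat -/
theorem flat_of_comp_flat (x : X) (hfg : ((f ≫ g).stalkMap x).hom.Flat)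
    (hf : (f.stalkMap x).hom.Flat) : (g.stalkMap (f x)).hom.Flat := by
  letI algAB : Algebra (S.presheaf.stalk (g (f x))) (Y.presheaf.stalk (f x)) :=
    (g.stalkMap (f x)).hom.toAlgebra
  letI algBC : Algebra (Y.presheaf.stalk (f x)) (X.presheaf.stalk x) :=
    (f.stalkMap x).hom.toAlgebra
  letI algAC : Algebra (S.presheaf.stalk (g (f x))) (X.presheaf.stalk x) :=
    ((f ≫ g).stalkMap x).hom.toAlgebra
  haveI : IsLocalHom (algebraMap (Y.presheaf.stalk (f x)) (X.presheaf.stalk x)) :=
    inferInstanceAs (IsLocalHom (f.stalkMap x).hom)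
  haveI : IsScalarTower (S.presheaf.stalk (g (f x))) (Y.presheaf.stalk (f x))
      (X.presheaf.stalk x) :=
    IsScalarTower.of_algebraMap_eq (fun a => by
      change ((f ≫ g).stalkMap x).hom a = (f.stalkMap x).hom ((g.stalkMap (f x)).hom a)
      rw [Scheme.Hom.stalkMap_comp]
      rfl)
  haveI : Module.Flat (Y.presheaf.stalk (f x)) (X.presheaf.stalk x) := hf
  haveI : Module.Flat (S.presheaf.stalk (g (f x))) (X.presheaf.stalk x) := hfg
  haveI : Module.FaithfullyFlat (Y.presheaf.stalk (f x)) (X.presheaf.stalk x) :=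
    Module.FaithfullyFlat.of_flat_of_isLocalHom
  exact Groth.Agent.Helper2.FibCrit.flat_of_faithfullyFlat
    (A := S.presheaf.stalk (g (f x))) (B := Y.presheaf.stalk (f x))
    (M := X.presheaf.stalk x)

/-- flatness of `f` at a point of a fibre, given flatness of the composite -/
theorem flat_iff_fibre [LocallyOfFinitePresentation (f ≫ g)] [LocallyOfFiniteType g] (s : S)
    (x' : (f ≫ g).fiber s)
    (hflat : ((f ≫ g).stalkMap ((f ≫ g).fiberι s x')).hom.Flat) :
    (f.stalkMap ((f ≫ g).fiberι s x')).hom.Flat ↔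
      ((MoreMor.fiberMap f g s).stalkMap x').hom.Flat := by
  have key := Groth.Agent.Helper2.FibFlatDict.fibre_flat_iff f g s x'
  constructor
  · intro hf
    exact (key.mpr ⟨flat_of_comp_flat f g _ hflat hf, hf⟩).2
  · intro hφ
    exact (key.mp ⟨hflat, hφ⟩).2

theorem fiberι_injective {X Y : Scheme.{u}} (h : X ⟶ Y) (y : Y) :
    Function.Injective (h.fiberι y) := by
  intro a b hab
  apply (h.fiberHomeo y).injective
  apply Subtype.ext
  rw [Scheme.Hom.fiberHomeo_apply, Scheme.Hom.fiberHomeo_apply]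
  exact hab

theorem fiberMapOver_eq (s : S) :
    CohIII.fiberMapOver f (f ≫ g) g rfl s = MoreMor.fiberMap f g s := by
  have a1 : CohIII.fiberMapOver f (f ≫ g) g rfl s ≫ pullback.fst g (S.fromSpecResidueField s) =
      (f ≫ g).fiberι s ≫ f := pullback.lift_fst _ _ _
  have a2 : CohIII.fiberMapOver f (f ≫ g) g rfl s ≫ pullback.snd g (S.fromSpecResidueField s) =
      pullback.snd (f ≫ g) (S.fromSpecResidueField s) :=
    (pullback.lift_snd _ _ _).trans (Category.comp_id _)
  have b1 : MoreMor.fiberMap f g s ≫ pullback.fst g (S.fromSpecResidueField s) =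
      (f ≫ g).fiberι s ≫ f := pullback.lift_fst _ _ _
  have b2 : MoreMor.fiberMap f g s ≫ pullback.snd g (S.fromSpecResidueField s) =
      pullback.snd (f ≫ g) (S.fromSpecResidueField s) := pullback.lift_snd _ _ _
  apply pullback.hom_ext
  · exact a1.trans b1.symm
  · exact a2.trans b2.symm

/-- the fibre square -/
theorem sq (s : S) :
    IsPullback ((f ≫ g).fiberι s) (MoreMor.fiberMap f g s) f (g.fiberι s) := by
  have := Groth.Agent.Helper3.FiberSq.isPullback_fiberMapOver g (f ≫ g) f rfl s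
  rwa [fiberMapOver_eq] at this

section Smooth

variable [LocallyOfFinitePresentation f]

instance lfp_fiberMap (s : S) : LocallyOfFinitePresentation (MoreMor.fiberMap f g s) :=
  MorphismProperty.of_isPullback (P := @LocallyOfFinitePresentation) (sq f g s) inferInstance

open Groth.Agent.Helper2.PtDesc in
/-- smoothness passes to the fibre map -/
theorem fibre_smooth_of_smooth (s : S) (x' : (f ≫ g).fiber s)
    (h : (f ≫ g).fiberι s x' ∈ f.smoothLocus) :
    x' ∈ (MoreMor.fiberMap f g s).smoothLocus := by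
  have hn := (smooth_nbhd_iff f _).mpr h
  have := Groth.Agent.Helper2.GrpdSmooth.smooth_nbhd_of_isPullback (sq f g s) x' hn
  exact (smooth_nbhd_iff _ _).mp this

open Groth.Agent.Helper2.PtDesc in
/-- smoothness of the fibre map at the canonical point of the fibre gives smoothness of `f`,
if the composite is flat at the point -/
theorem smooth_of_fibre_smooth [LocallyOfFinitePresentation g]
    [LocallyOfFinitePresentation (f ≫ g)] (x : X)
    (hflat : ((f ≫ g).stalkMap x).hom.Flat)
    (h : (f ≫ g).asFiber x ∈ (MoreMor.fiberMap f g (g (f x))).smoothLocus) :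
    x ∈ f.smoothLocus := by
  have hF' := RingHom.Flat.respectsIso
  have hpt : (f ≫ g).fiberι (g (f x)) ((f ≫ g).asFiber x) = x :=
    Scheme.Hom.fiberι_asFiber _ _
  -- flatness of `f` at `x`
  have hn := (smooth_nbhd_iff _ _).mpr h
  have hφ : ((MoreMor.fiberMap f g (g (f x))).stalkMap ((f ≫ g).asFiber x)).hom.Flat :=
    Groth.Agent.Helper2.FiberSmooth2.flat_stalk_of_smooth_nbhd _ _ hn
  have hflat' : ((f ≫ g).stalkMap ((f ≫ g).fiberι (g (f x)) ((f ≫ g).asFiber x))).hom.Flat := by
    rw [hF'.arrow_mk_iso_iff ((f ≫ g).arrowStalkMapIsoOfEq hpt)]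
    exact hflat
  have hf : (f.stalkMap x).hom.Flat := by
    have := (flat_iff_fibre f g (g (f x)) ((f ≫ g).asFiber x) hflat').mpr hφ
    rwa [hF'.arrow_mk_iso_iff (f.arrowStalkMapIsoOfEq hpt)] at this
  -- the fibre of `f` over `f x`
  have hsq : IsPullback
      (pullback.lift (f.fiberι (f x)) (f.fiberToSpecResidueField (f x) ≫ g.asFiberHom (f x))
        (by rw [Category.assoc, g.asFiberHom_fiberι]; exact f.fiber_fac (f x)))
      (f.fiberToSpecResidueField (f x))
      (pullback.snd f (g.fiberι (g (f x)))) (g.asFiberHom (f x)) := by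
    refine IsPullback.of_right ?_ (pullback.lift_snd _ _ _) (IsPullback.of_hasPullback f _)
    rw [pullback.lift_fst, g.asFiberHom_fiberι]
    exact IsPullback.of_hasPullback f _
  set top := pullback.lift (f.fiberι (f x)) (f.fiberToSpecResidueField (f x) ≫ g.asFiberHom (f x))
        (by rw [Category.assoc, g.asFiberHom_fiberι]; exact f.fiber_fac (f x)) with htop
  have htop_fst : top ≫ pullback.fst f (g.fiberι (g (f x))) = f.fiberι (f x) :=
    pullback.lift_fst _ _ _
  -- the point
  have hq : (fibIso f g (g (f x))).hom (top (f.asFiber x)) = (f ≫ g).asFiber x := by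
    apply fiberι_injective (f ≫ g) (g (f x))
    rw [hpt, ← Scheme.Hom.comp_apply, fibIso_hom_fiberι, ← Scheme.Hom.comp_apply, htop_fst]
    exact f.fiberι_asFiber x
  -- smoothness of `pullback.snd` near the point
  have hiso : IsPullback (fibIso f g (g (f x))).hom (pullback.snd f (g.fiberι (g (f x))))
      (MoreMor.fiberMap f g (g (f x))) (𝟙 _) :=
    IsPullback.of_horiz_isIso ⟨by rw [fiberMap_eq, Category.comp_id]⟩
  have hn2 : ∃ U : (pullback f (g.fiberι (g (f x)))).Opens, top (f.asFiber x) ∈ U ∧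
      Smooth (U.ι ≫ pullback.snd f (g.fiberι (g (f x)))) := by
    apply Groth.Agent.Helper2.GrpdSmooth.smooth_nbhd_of_isPullback hiso
    rw [hq]
    exact hn
  have hn3 := Groth.Agent.Helper2.GrpdSmooth.smooth_nbhd_of_isPullback hsq (f.asFiber x) hn2
  haveI : LocallyOfFinitePresentation (f.fiberToSpecResidueField (f x)) :=
    MorphismProperty.of_isPullback (P := @LocallyOfFinitePresentation)
      (IsPullback.of_hasPullback f (Y.fromSpecResidueField (f x))) inferInstance
  rw [Groth.Agent.Helper2.FiberSmooth2.mem_smoothLocus_iff_flat_and_fiber]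
  exact ⟨hf, (smooth_nbhd_iff _ _).mp hn3⟩

end Smooth

open Groth.Agent.Helper2.PtDesc in
theorem s16763 {X Y S : Scheme.{u}} (g : Y ⟶ S) (h : X ⟶ S)
    [LocallyOfFinitePresentation g] [LocallyOfFinitePresentation h] (f : X ⟶ Y) (w : f ≫ g = h)
    (x : ↥X) (hflat : (h.stalkMap x).hom.Flat)
    (x' : ↥(h.fiber (h x))) (hx' : (h.fiberι (h x)) x' = x) :
    (∃ U : X.Opens, x ∈ U ∧ Smooth (U.ι ≫ f)) ↔
      ∃ V : (h.fiber (h x)).Opens, x' ∈ V ∧
        Smooth (V.ι ≫ CohIII.fiberMapOver f h g w (h x)) := by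
  subst w
  haveI : LocallyOfFinitePresentation f :=
    Groth.Agent.Helper2.LfpComp.locallyOfFinitePresentation_of_comp f g inferInstance inferInstance
  have hx'' : x' = (f ≫ g).asFiber x :=
    fiberι_injective _ _ (hx'.trans (Scheme.Hom.fiberι_asFiber _ _).symm)
  subst hx''
  have e : CohIII.fiberMapOver f (f ≫ g) g rfl ((f ≫ g) x) = MoreMor.fiberMap f g ((f ≫ g) x) :=
    fiberMapOver_eq f g ((f ≫ g) x)
  haveI : LocallyOfFinitePresentation (MoreMor.fiberMap f g ((f ≫ g) x)) := lfp_fiberMap f g _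
  rw [e, smooth_nbhd_iff, smooth_nbhd_iff]
  constructor
  · intro hs
    refine fibre_smooth_of_smooth f g ((f ≫ g) x) ((f ≫ g).asFiber x) ?_
    rw [Scheme.Hom.fiberι_asFiber]
    exact hs
  · intro hs
    exact smooth_of_fibre_smooth f g x hflat hs

theorem s16764 {X Y S : Scheme.{u}} (g : Y ⟶ S) (h : X ⟶ S)
    [LocallyOfFinitePresentation g] [LocallyOfFinitePresentation h] (f : X ⟶ Y) (w : f ≫ g = h)
    (x : ↥X) (hflat : (h.stalkMap x).hom.Flat)
    (x' : ↥(h.fiber (h x))) (hx' : (h.fiberι (h x)) x' = x) :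
    (∃ U : X.Opens, x ∈ U ∧ Etale (U.ι ≫ f)) ↔
      ∃ V : (h.fiber (h x)).Opens, x' ∈ V ∧
        Etale (V.ι ≫ CohIII.fiberMapOver f h g w (h x)) := by
  subst w
  haveI : LocallyOfFinitePresentation f :=
    Groth.Agent.Helper2.LfpComp.locallyOfFinitePresentation_of_comp f g inferInstance inferInstance
  have hx'' : x' = (f ≫ g).asFiber x :=
    fiberι_injective _ _ (hx'.trans (Scheme.Hom.fiberι_asFiber _ _).symm)
  subst hx''
  have e : CohIII.fiberMapOver f (f ≫ g) g rfl ((f ≫ g) x) = MoreMor.fiberMap f g ((f ≫ g) x) :=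
    fiberMapOver_eq f g ((f ≫ g) x)
  haveI : LocallyOfFinitePresentation (MoreMor.fiberMap f g ((f ≫ g) x)) := lfp_fiberMap f g _
  have hF' := RingHom.Flat.respectsIso
  have hU' := RingHom.FormallyUnramified.respectsIso
  have hflat' : ((f ≫ g).stalkMap
      ((f ≫ g).fiberι ((f ≫ g) x) ((f ≫ g).asFiber x))).hom.Flat := by
    rw [hF'.arrow_mk_iso_iff ((f ≫ g).arrowStalkMapIsoOfEq hx')]
    exact hflat
  have hfl := flat_iff_fibre f g ((f ≫ g) x) ((f ≫ g).asFiber x) hflat'
  rw [hF'.arrow_mk_iso_iff (f.arrowStalkMapIsoOfEq hx')] at hfl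
  have hun := Groth.Agent.Helper3.FiberSq.stalkMap_formallyUnramified_iff_of_isPullback
    (sq f g ((f ≫ g) x)) ((f ≫ g).asFiber x)
  rw [hU'.arrow_mk_iso_iff (f.arrowStalkMapIsoOfEq hx')] at hun
  rw [e, Groth.Agent.Helper3.StalkNbhd.etale_nbhd_iff,
    Groth.Agent.Helper3.StalkNbhd.etale_nbhd_iff, hfl, hun]

end Groth.Agent.Helper2.FibSmAt
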