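import Groth.Prelude.Def_Curv2
import Groth.Agent.Helper4.GeomRedPt2
import Mathlib

set_option autoImplicit false
universe u
open CategoryTheory CategoryTheory.Limits AlgebraicGeometry Opposite TensorProduct

namespace Groth.Agent.Helper2.StalkDict

open Groth.Agent.Helper5.GeomRed Groth.Agent.Helper5.StalkRed Groth.Agent.Helper4.GeomRedPt

/-- A flat morphism which is surjective on stalks induces isomorphisms on stalks. -/
theorem nonempty_stalkEquiv {A B : Scheme.{u}} (g : A ⟶ B) [Flat g] [SurjectiveOnStalks g] (a : A) :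
    Nonempty (B.presheaf.stalk (g a) ≃+* A.presheaf.stalk a) := by
  have hfl : (g.stalkMap a).hom.Flat := Flat.stalkMap g a
  have hsurj : Function.Surjective (g.stalkMap a).hom := g.stalkMap_surjective a
  algebraize [(g.stalkMap a).hom]
  have : IsLocalHom (algebraMap (B.presheaf.stalk (g a)) (A.presheaf.stalk a)) := by
    show IsLocalHom (g.stalkMap a).hom
    infer_instance
  have hff : Module.FaithfullyFlat (B.presheaf.stalk (g a)) (A.presheaf.stalk a) :=
    Module.FaithfullyFlat.of_flat_of_isLocalHom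
  have hinj : Function.Injective (algebraMap (B.presheaf.stalk (g a)) (A.presheaf.stalk a)) :=
    FaithfulSMul.algebraMap_injective _ _
  exact ⟨RingEquiv.ofBijective (algebraMap (B.presheaf.stalk (g a)) (A.presheaf.stalk a))
      ⟨hinj, hsurj⟩⟩

theorem nonempty_stalkEquiv' {A B : Scheme.{u}} (g : A ⟶ B) [Flat g] [SurjectiveOnStalks g] (a : A)
    (b : B) (hb : g a = b) : Nonempty (B.presheaf.stalk b ≃+* A.presheaf.stalk a) := by
  subst hb
  exact nonempty_stalkEquiv g a

section
variable {X S T U' : Scheme.{u}}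

/-- Step A: replace the first factor by a flat, stalk-surjective cover. -/
theorem stepA (f : X ⟶ S) (s : T ⟶ S) (g : U' ⟶ X) [Flat g] [SurjectiveOnStalks g]
    (f' : U' ⟶ S) (hf' : f' = g ≫ f) (z : ↥(pullback f s)) (u' : ↥U')
    (h : (pullback.fst f s) z = g u') :
    ∃ z₁ : ↥(pullback f' s), (pullback.fst f' s) z₁ = u' ∧
      (pullback.snd f' s) z₁ = (pullback.snd f s) z ∧
      Nonempty ((pullback f s).presheaf.stalk z ≃+* (pullback f' s).presheaf.stalk z₁) := by
  subst hf'
  obtain ⟨z₁, hz1, hz2⟩ := exists_lift_pbMap f s g z u' h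
  refine ⟨z₁, hz2, ?_, nonempty_stalkEquiv' (pbMap f s g) z₁ z hz1⟩
  rw [← hz1, ← Scheme.Hom.comp_apply]
  congr 2
  unfold pbMap
  rw [Category.assoc, pullbackRightPullbackFstIso_inv_snd_snd]

/-- Step A': replace the second factor by a flat, stalk-surjective cover. -/
theorem stepA' {T' : Scheme.{u}} (f : X ⟶ S) (s : T ⟶ S) (g : T' ⟶ T) [Flat g]
    [SurjectiveOnStalks g] (s' : T' ⟶ S) (hs' : s' = g ≫ s) (z : ↥(pullback f s)) (t' : ↥T')
    (h : (pullback.snd f s) z = g t') :
    ∃ z₁ : ↥(pullback f s'), (pullback.snd f s') z₁ = t' ∧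
      (pullback.fst f s') z₁ = (pullback.fst f s) z ∧
      Nonempty ((pullback f s).presheaf.stalk z ≃+* (pullback f s').presheaf.stalk z₁) := by
  have h1 : (pullback.fst s f) ((pullbackSymmetry f s).hom z) = g t' := by
    rw [← Scheme.Hom.comp_apply, pullbackSymmetry_hom_comp_fst]
    exact h
  obtain ⟨w, hw1, hw2, ⟨e⟩⟩ := stepA s f g s' hs' ((pullbackSymmetry f s).hom z) t' h1
  obtain ⟨e1⟩ := nonempty_stalkEquiv (pullbackSymmetry f s).hom z
  obtain ⟨e2⟩ := nonempty_stalkEquiv (pullbackSymmetry s' f).hom w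
  refine ⟨(pullbackSymmetry s' f).hom w, ?_, ?_, ⟨e1.symm.trans (e.trans e2.symm)⟩⟩
  · rw [← Scheme.Hom.comp_apply, pullbackSymmetry_hom_comp_snd]
    exact hw1
  · rw [← Scheme.Hom.comp_apply, pullbackSymmetry_hom_comp_fst, hw2,
      ← Scheme.Hom.comp_apply, pullbackSymmetry_hom_comp_snd]

end

section
variable {X S T U' : Scheme.{u}}

/-- converse of Step A: points of the cover give points below with the same stalk -/
theorem stepA_conv (f : X ⟶ S) (s : T ⟶ S) (g : U' ⟶ X) [Flat g] [SurjectiveOnStalks g]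
    (f' : U' ⟶ S) (hf' : f' = g ≫ f) (w : ↥(pullback f' s)) :
    ∃ z : ↥(pullback f s), (pullback.fst f s) z = g ((pullback.fst f' s) w) ∧
      Nonempty ((pullback f s).presheaf.stalk z ≃+* (pullback f' s).presheaf.stalk w) := by
  subst hf'
  refine ⟨pbMap f s g w, ?_, nonempty_stalkEquiv (pbMap f s g) w⟩
  rw [← Scheme.Hom.comp_apply, pbMap_fst, Scheme.Hom.comp_apply]

end

section Affine
variable (k R R' : Type u) [CommRing k] [CommRing R] [CommRing R'] [Algebra k R] [Algebra k R']

/-- stalks of `Spec R ×_k Spec R'` are localizations of `R ⊗ R'` -/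
theorem nonempty_stalk_pullbackSpec_equiv
    (w : ↥(pullback (Spec.map (CommRingCat.ofHom (algebraMap k R)))
      (Spec.map (CommRingCat.ofHom (algebraMap k R'))))) :
    Nonempty ((pullback (Spec.map (CommRingCat.ofHom (algebraMap k R)))
      (Spec.map (CommRingCat.ofHom (algebraMap k R')))).presheaf.stalk w ≃+*
        Localization.AtPrime ((pullbackSpecIso k R R').hom w).asIdeal) := by
  obtain ⟨e1⟩ := nonempty_stalkEquiv (pullbackSpecIso k R R').hom w
  exact ⟨e1.symm.trans (Spec.stalkIso (CommRingCat.of (R ⊗[k] R'))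
    ((pullbackSpecIso k R R').hom w)).commRingCatIsoToRingEquiv⟩

theorem fst_eq_comap
    (w : ↥(pullback (Spec.map (CommRingCat.ofHom (algebraMap k R)))
      (Spec.map (CommRingCat.ofHom (algebraMap k R'))))) :
    ((pullback.fst (Spec.map (CommRingCat.ofHom (algebraMap k R)))
      (Spec.map (CommRingCat.ofHom (algebraMap k R')))) w).asIdeal =
      ((pullbackSpecIso k R R').hom w).asIdeal.comap (algebraMap R (R ⊗[k] R')) := by
  rw [← pullbackSpecIso_hom_fst', Scheme.Hom.comp_apply]
  rfl

/-- every prime of `R ⊗ R'` comes from a point of `Spec R ×_k Spec R'` -/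
theorem exists_point (P : Ideal (R ⊗[k] R')) [hP : P.IsPrime] :
    ∃ w : ↥(pullback (Spec.map (CommRingCat.ofHom (algebraMap k R)))
      (Spec.map (CommRingCat.ofHom (algebraMap k R')))),
      ((pullbackSpecIso k R R').hom w).asIdeal = P := by
  refine ⟨(pullbackSpecIso k R R').inv ⟨P, hP⟩, ?_⟩
  rw [← Scheme.Hom.comp_apply, Iso.inv_hom_id]
  rfl

end Affine

end Groth.Agent.Helper2.StalkDict
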