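import Groth.Prelude.Def_Curv2
import Groth.Agent.Helper2.StalkDict
import Mathlib

set_option autoImplicit false
universe u
open CategoryTheory CategoryTheory.Limits AlgebraicGeometry Opposite TensorProduct

namespace Groth.Agent.Helper2.StalkDict2

open Groth.Agent.Helper5.GeomRed Groth.Agent.Helper5.StalkRed Groth.Agent.Helper4.GeomRedPt
  Groth.Agent.Helper2.StalkDict

section PI
variable {k : Type u} [Field k]

/-- Purely inseparable trick: `R ⊗ k'` is local, equal to its localization at the prime over the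
maximal ideal. -/
theorem nonempty_equiv_localization_of_pi (R k' : Type u) [CommRing R] [IsLocalRing R]
    [Algebra k R] [Field k'] [Algebra k k'] [IsPurelyInseparable k k'] (q : Ideal (R ⊗[k] k'))
    [q.IsPrime] (hq : q.comap (algebraMap R (R ⊗[k] k')) = IsLocalRing.maximalIdeal R) :
    Nonempty (R ⊗[k] k' ≃+* Localization.AtPrime q) := by
  have hunit : q.primeCompl ≤ IsUnit.submonoid (R ⊗[k] k') := by
    intro t ht
    obtain ⟨n, hn, a, ha⟩ := IsPurelyInseparable.exists_pow_mem_range_tensorProduct (k := k)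
      (K := k') (R := R) t
    have hta : t ^ n ∉ q := fun hmem => ht (Ideal.IsPrime.mem_of_pow_mem inferInstance n hmem)
    have ha' : a ∉ IsLocalRing.maximalIdeal R := by
      rw [← hq]
      intro hmem
      apply hta
      rw [← ha]
      exact hmem
    have hau : IsUnit a := by
      by_contra hnu
      exact ha' ((IsLocalRing.mem_maximalIdeal a).mpr hnu)
    have htu : IsUnit (t ^ n) := by
      rw [← ha]
      exact hau.map _
    exact (isUnit_pow_iff hn.ne').mp htu
  exact ⟨(IsLocalization.atUnits _ q.primeCompl (S := Localization.AtPrime q) hunit).toRingEquiv⟩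

end PI

section Sch
variable (k : Type u) [Field k] (X : Scheme.{u}) [X.Over (Spec (CommRingCat.of k))]

attribute [local instance] Curv2.stalkAlgebra

/-- points of `X_K` over `x` are primes of `O_{X,x} ⊗ K` over the maximal ideal, with the same
local ring -/
theorem exists_prime_of_point (x : X) (K : Type u) [Field K] [Algebra k K]
    (x' : ↥(Curv2.bc k X K)) (hx' : Curv2.bcFst k X K x' = x) :
    ∃ (q : Ideal (X.presheaf.stalk x ⊗[k] K)) (_ : q.IsPrime),
      q.comap (algebraMap (X.presheaf.stalk x) (X.presheaf.stalk x ⊗[k] K)) =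
        IsLocalRing.maximalIdeal (X.presheaf.stalk x) ∧
      Nonempty ((Curv2.bc k X K).presheaf.stalk x' ≃+* Localization.AtPrime q) := by
  haveI : Flat (X.fromSpecStalk x) := flat_fromSpecStalk X x
  have hf' : Spec.map (CommRingCat.ofHom (algebraMap k (X.presheaf.stalk x))) =
      X.fromSpecStalk x ≫ (X ↘ Spec (CommRingCat.of k)) := specMap_stalkMap x
  obtain ⟨z₁, hz₁, -, ⟨e⟩⟩ := stepA (X ↘ Spec (CommRingCat.of k))
    (Spec.map (CommRingCat.ofHom (algebraMap k K))) (X.fromSpecStalk x) _ hf' x'
    (IsLocalRing.closedPoint _) (hx'.trans Scheme.fromSpecStalk_closedPoint.symm)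
  obtain ⟨e'⟩ := nonempty_stalk_pullbackSpec_equiv k (X.presheaf.stalk x) K z₁
  refine ⟨((pullbackSpecIso k (X.presheaf.stalk x) K).hom z₁).asIdeal, inferInstance, ?_,
    ⟨e.trans e'⟩⟩
  rw [← fst_eq_comap, hz₁]
  rfl

/-- primes of `O_{X,x} ⊗ K` give points of `X_K` with the same local ring -/
theorem exists_point_of_prime (x : X) (K : Type u) [Field K] [Algebra k K]
    (q : Ideal (X.presheaf.stalk x ⊗[k] K)) [q.IsPrime] :
    ∃ x' : ↥(Curv2.bc k X K),
      Nonempty ((Curv2.bc k X K).presheaf.stalk x' ≃+* Localization.AtPrime q) ∧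
      (q.comap (algebraMap (X.presheaf.stalk x) (X.presheaf.stalk x ⊗[k] K)) =
        IsLocalRing.maximalIdeal (X.presheaf.stalk x) → Curv2.bcFst k X K x' = x) := by
  haveI : Flat (X.fromSpecStalk x) := flat_fromSpecStalk X x
  obtain ⟨w, hw⟩ := exists_point k (X.presheaf.stalk x) K q
  have hf' : Spec.map (CommRingCat.ofHom (algebraMap k (X.presheaf.stalk x))) =
      X.fromSpecStalk x ≫ (X ↘ Spec (CommRingCat.of k)) := specMap_stalkMap x
  obtain ⟨z, hz, ⟨e⟩⟩ := stepA_conv (X ↘ Spec (CommRingCat.of k))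
    (Spec.map (CommRingCat.ofHom (algebraMap k K))) (X.fromSpecStalk x) _ hf' w
  obtain ⟨e'⟩ := nonempty_stalk_pullbackSpec_equiv k (X.presheaf.stalk x) K w
  have hcomap := fst_eq_comap k (X.presheaf.stalk x) K w
  subst hw
  refine ⟨z, ⟨e.trans e'⟩, ?_⟩
  intro hq
  have h1 : (pullback.fst (Spec.map (CommRingCat.ofHom (algebraMap k (X.presheaf.stalk x))))
      (Spec.map (CommRingCat.ofHom (algebraMap k K)))) w =
      IsLocalRing.closedPoint (X.presheaf.stalk x) := by
    apply PrimeSpectrum.ext
    rw [hcomap, hq]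
    rfl
  exact hz.trans ((congrArg (fun a => (X.fromSpecStalk x) a) h1).trans
    Scheme.fromSpecStalk_closedPoint)

/-- there is a point of `X_K` over `x` -/
theorem exists_prime_over (x : X) (K : Type u) [Field K] [Algebra k K] :
    ∃ (q : Ideal (X.presheaf.stalk x ⊗[k] K)) (_ : q.IsPrime),
      q.comap (algebraMap (X.presheaf.stalk x) (X.presheaf.stalk x ⊗[k] K)) =
        IsLocalRing.maximalIdeal (X.presheaf.stalk x) := by
  haveI : Subsingleton ↥(Spec (CommRingCat.of k)) :=
    inferInstanceAs (Subsingleton (PrimeSpectrum k))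
  obtain ⟨y, hy1, -⟩ := Scheme.Pullback.exists_preimage_pullback
    (f := Spec.map (CommRingCat.ofHom (algebraMap k (X.presheaf.stalk x))))
    (g := Spec.map (CommRingCat.ofHom (algebraMap k K)))
    (IsLocalRing.closedPoint (X.presheaf.stalk x)) (IsLocalRing.closedPoint K)
    (Subsingleton.elim _ _)
  refine ⟨((pullbackSpecIso k (X.presheaf.stalk x) K).hom y).asIdeal, inferInstance, ?_⟩
  rw [← fst_eq_comap, hy1]
  rfl

end Sch

end Groth.Agent.Helper2.StalkDict2
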