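import Mathlib
import Groth.Prelude.Def_EGA4Misc
import Groth.Agent.Helper2.ConsMod1
import Groth.Agent.Helper5.ConsLc3

/-!
# Constructible properties of a morphism together with a module on its source, on the fibres
-/

set_option autoImplicit false
universe u
open CategoryTheory CategoryTheory.Limits AlgebraicGeometry TopologicalSpace Topology

noncomputable section

namespace Groth.Agent.Helper2.ConsMM

open Groth.Agent.Helper5.ConsPr Groth.Agent.Helper5.ConsLc Groth.Agent.Helper2.ConsMod

/-- invariance under extension of the base field of a relation `P(f, X, Y, F, k)` on a morphism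
`f : X ⟶ Y` of algebraic `k`-schemes and a coherent module `F` on `X`. -/
def IsFieldStableMM (P : ∀ ⦃X Y T : Scheme.{u}⦄, (X ⟶ Y) → (Y ⟶ T) → X.Modules → Prop) : Prop :=
  ∀ ⦃X X' Y Y' T T' : Scheme.{u}⦄ (f : X ⟶ Y) (g : Y ⟶ T) (f' : X' ⟶ Y') (g' : Y' ⟶ T')
    (eX : X' ⟶ X) (eY : Y' ⟶ Y) (h : T' ⟶ T)
    [IsIntegral T] [Subsingleton T] [IsIntegral T'] [Subsingleton T']
    [LocallyOfFiniteType g] [QuasiCompact g] [LocallyOfFiniteType (f ≫ g)] [QuasiCompact (f ≫ g)],
    IsPullback eY g' g h → IsPullback eX f' f eY →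
      ∀ (F : X.Modules) (F' : X'.Modules), Coh.IsCoh F →
        (F' ≅ (Scheme.Modules.pullback eX).obj F) → (P f g F ↔ P f' g' F')

/-- the set of points of the base at which the relation holds on the fibres -/
def locusMM (P : ∀ ⦃X Y T : Scheme.{u}⦄, (X ⟶ Y) → (Y ⟶ T) → X.Modules → Prop)
    {X Y S : Scheme.{u}} (f : X ⟶ Y) (g : Y ⟶ S) (F : X.Modules) : Set S :=
  {s | P (MoreMor.fiberMap f g s) (g.fiberToSpecResidueField s)
    ((Scheme.Modules.pullback ((f ≫ g).fiberι s)).obj F)}

/-- constructible relation -/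
def IsConsMM (P : ∀ ⦃X Y T : Scheme.{u}⦄, (X ⟶ Y) → (Y ⟶ T) → X.Modules → Prop) : Prop :=
  IsFieldStableMM P ∧
    ∀ ⦃X Y S : Scheme.{u}⦄ (f : X ⟶ Y) (g : Y ⟶ S) [IsIntegral S] [IsNoetherian S]
      [LocallyOfFiniteType g] [QuasiCompact g]
      [LocallyOfFiniteType (f ≫ g)] [QuasiCompact (f ≫ g)] (F : X.Modules), Coh.IsCoh F →
      (interior (locusMM P f g F)).Nonempty ∨ (interior (locusMM P f g F)ᶜ).Nonempty

variable {P : ∀ ⦃X Y T : Scheme.{u}⦄, (X ⟶ Y) → (Y ⟶ T) → X.Modules → Prop}

set_option backward.isDefEq.respectTransparency false in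
/-- the locus is compatible with base change -/
theorem locusMM_of_isPullback (hP : IsFieldStableMM P)
    {X' X Y' Y S' S : Scheme.{u}} {eX : X' ⟶ X} {f' : X' ⟶ Y'} {f : X ⟶ Y}
    {eY : Y' ⟶ Y} {g' : Y' ⟶ S'} {g : Y ⟶ S} {h : S' ⟶ S}
    (sqY : IsPullback eY g' g h) (sqX : IsPullback eX f' f eY)
    [LocallyOfFiniteType g] [QuasiCompact g] [LocallyOfFiniteType (f ≫ g)] [QuasiCompact (f ≫ g)]
    (F : X.Modules) (hF : Coh.IsCoh F) :
    locusMM P f' g' ((Scheme.Modules.pullback eX).obj F) = h ⁻¹' locusMM P f g F := by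
  ext s'
  have sqXS : IsPullback eX (f' ≫ g') (f ≫ g) h := sqX.paste_vert sqY
  have hY := isPullback_fiberToSpecResidueField_of_isPullback sqY s'
  have hXS := isPullback_fiberToSpecResidueField_of_isPullback sqXS s'
  have h2 : MoreMor.fiberMap f g (h s') ≫ g.fiberToSpecResidueField (h s') =
      (f ≫ g).fiberToSpecResidueField (h s') := pullback.lift_snd _ _ _
  have h2' : MoreMor.fiberMap f' g' s' ≫ g'.fiberToSpecResidueField s' =
      (f' ≫ g').fiberToSpecResidueField s' := pullback.lift_snd _ _ _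
  have hsq : IsPullback
      (pullback.map _ _ _ _ eX (Spec.map (h.residueFieldMap s')) h sqXS.w.symm (by simp))
      (MoreMor.fiberMap f' g' s') (MoreMor.fiberMap f g (h s'))
      (pullback.map _ _ _ _ eY (Spec.map (h.residueFieldMap s')) h sqY.w.symm (by simp)) := by
    refine IsPullback.of_bot (v₂₁ := g'.fiberToSpecResidueField s')
      (v₂₂ := g.fiberToSpecResidueField (h s')) (h₃₁ := Spec.map (h.residueFieldMap s')) ?_ ?_ hY
    · rw [h2, h2']
      exact hXS
    · have key : pullback.map (f' ≫ g') (S'.fromSpecResidueField s') (f ≫ g)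
            (S.fromSpecResidueField (h s')) eX (Spec.map (h.residueFieldMap s')) h sqXS.w.symm
            (by simp) ≫
          pullback.lift (pullback.fst (f ≫ g) (S.fromSpecResidueField (h s')) ≫ f)
            (pullback.snd (f ≫ g) (S.fromSpecResidueField (h s')))
            (by rw [Category.assoc]; exact pullback.condition) =
          pullback.lift (pullback.fst (f' ≫ g') (S'.fromSpecResidueField s') ≫ f')
            (pullback.snd (f' ≫ g') (S'.fromSpecResidueField s'))
            (by rw [Category.assoc]; exact pullback.condition) ≫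
          pullback.map g' (S'.fromSpecResidueField s') g (S.fromSpecResidueField (h s')) eY
            (Spec.map (h.residueFieldMap s')) h sqY.w.symm (by simp) := by
        apply pullback.hom_ext
        · simp [sqX.w]
        · simp
      exact key
  have hlft : LocallyOfFiniteType
      (MoreMor.fiberMap f g (h s') ≫ g.fiberToSpecResidueField (h s')) := by
    rw [h2]; infer_instance
  have hqc : QuasiCompact (MoreMor.fiberMap f g (h s') ≫ g.fiberToSpecResidueField (h s')) := by
    rw [h2]; infer_instance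
  exact (hP (MoreMor.fiberMap f g (h s')) (g.fiberToSpecResidueField (h s'))
    (MoreMor.fiberMap f' g' s') (g'.fiberToSpecResidueField s') _ _
    (Spec.map (h.residueFieldMap s')) hY hsq
    ((Scheme.Modules.pullback ((f ≫ g).fiberι (h s'))).obj F) _
    (Groth.Agent.Lead.FlatUnivJ.isCoh_pullback _ F hF) (fibreModIso sqXS F s')).symm

set_option backward.isDefEq.respectTransparency false in
/-- the locus only depends on the isomorphism class of the module -/
theorem locusMM_congr (hP : IsFieldStableMM P) {X Y S : Scheme.{u}} (f : X ⟶ Y) (g : Y ⟶ S)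
    [LocallyOfFiniteType g] [QuasiCompact g] [LocallyOfFiniteType (f ≫ g)] [QuasiCompact (f ≫ g)]
    {F F' : X.Modules} (hF : Coh.IsCoh F)
    (e : F' ≅ F) : locusMM P f g F' = locusMM P f g F := by
  ext s
  have h2 : MoreMor.fiberMap f g s ≫ g.fiberToSpecResidueField s =
      (f ≫ g).fiberToSpecResidueField s := pullback.lift_snd _ _ _
  have hlft : LocallyOfFiniteType (MoreMor.fiberMap f g s ≫ g.fiberToSpecResidueField s) := by
    rw [h2]; infer_instance
  have hqc : QuasiCompact (MoreMor.fiberMap f g s ≫ g.fiberToSpecResidueField s) := by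
    rw [h2]; infer_instance
  have sqY : IsPullback (𝟙 (g.fiber s)) (g.fiberToSpecResidueField s)
      (g.fiberToSpecResidueField s) (𝟙 _) := IsPullback.of_id_fst
  have sqX : IsPullback (𝟙 ((f ≫ g).fiber s)) (MoreMor.fiberMap f g s)
      (MoreMor.fiberMap f g s) (𝟙 _) := IsPullback.of_id_fst
  exact (hP (MoreMor.fiberMap f g s) (g.fiberToSpecResidueField s) (MoreMor.fiberMap f g s)
    (g.fiberToSpecResidueField s) (𝟙 _) (𝟙 _) (𝟙 _) sqY sqX
    ((Scheme.Modules.pullback ((f ≫ g).fiberι s)).obj F)
    ((Scheme.Modules.pullback ((f ≫ g).fiberι s)).obj F')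
    (Groth.Agent.Lead.FlatUnivJ.isCoh_pullback _ F hF)
    ((Scheme.Modules.pullback ((f ≫ g).fiberι s)).mapIso e ≪≫
      ((Scheme.Modules.pullbackId _).app _).symm)).symm

section Noeth

variable {X Y S : Scheme.{u}} (f : X ⟶ Y) (g : Y ⟶ S) [IsNoetherian S]
  [LocallyOfFiniteType g] [QuasiCompact g] [LocallyOfFiniteType (f ≫ g)] [QuasiCompact (f ≫ g)]
  (F : X.Modules) (hF : Coh.IsCoh F)

include hF in
theorem mm_decided (hP : IsConsMM P)
    (Z : Set S) (hZ : IsClosed Z) (hirr : IsIrreducible Z) :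
    ∃ O : Set S, IsOpen O ∧ (Z ∩ O).Nonempty ∧
      (Z ∩ O ⊆ locusMM P f g F ∨ Z ∩ O ⊆ (locusMM P f g F)ᶜ) := by
  obtain ⟨T, i, hi, hT, hrange⟩ := exists_integral_subscheme Z hZ hirr
  have hT1 : IsLocallyNoetherian T := LocallyOfFiniteType.isLocallyNoetherian i
  have hT2 : CompactSpace T := QuasiCompact.compactSpace_of_compactSpace i
  have hTN : IsNoetherian T := {}
  have hloc := locusMM_of_isPullback hP.1 (IsPullback.of_hasPullback g i)
    (IsPullback.of_hasPullback f (pullback.fst g i)) F hF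
  obtain ⟨hI1, hI2⟩ := mor_baseChange_instances f g i
  rcases hP.2 (pullback.snd f (pullback.fst g i)) (pullback.snd g i)
    ((Scheme.Modules.pullback (pullback.fst f (pullback.fst g i))).obj F)
    (Groth.Agent.Lead.FlatUnivJ.isCoh_pullback _ F hF) with h | h
  · rw [hloc] at h
    obtain ⟨O, hO, hne, hsub⟩ := exists_open_of_interior_preimage i Z hrange _ h
    exact ⟨O, hO, hne, Or.inl hsub⟩
  · rw [hloc] at h
    obtain ⟨O, hO, hne, hsub⟩ := exists_open_of_interior_preimage i Z hrange
      (locusMM P f g F)ᶜ h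
    exact ⟨O, hO, hne, Or.inr hsub⟩

include hF in
theorem isConstructible_locusMM_of_noeth (hP : IsConsMM P) :
    IsConstructible (locusMM P f g F) :=
  isConstructible_of_noeth _ (mm_decided f g F hF hP)

end Noeth

end Groth.Agent.Helper2.ConsMM

end
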