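import Mathlib
import Groth.Agent.Helper2.ConsMM1
import Groth.Agent.Helper2.ConsMod2

/-!
# Noetherian models of a morphism between schemes of finite presentation with a finitely
presented module on the source
-/

set_option autoImplicit false
universe u
open CategoryTheory CategoryTheory.Limits AlgebraicGeometry TopologicalSpace Topology

noncomputable section

namespace Groth.Agent.Helper2.ConsMM

open Groth.Agent.Helper5.ConsLc Groth.Agent.Lead.LimPullback Groth.Agent.Lead.LimHom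
open Groth.Agent.Lead Groth.Agent.Helper2.LimDesc Groth.Agent.Helper2.ConsMod

variable {S : Scheme.{u}} [IsAffine S]

set_option backward.isDefEq.respectTransparency false in
theorem exists_noeth_model_mm {X Y : Scheme.{u}} (f : X ⟶ Y) (g : Y ⟶ S)
    [LocallyOfFinitePresentation g] [QuasiCompact g] [QuasiSeparated g]
    [LocallyOfFinitePresentation (f ≫ g)] [QuasiCompact (f ≫ g)] [QuasiSeparated (f ≫ g)]
    (F : X.Modules) (hF : SheafOfModules.IsFinitePresentation (R := X.ringCatSheaf) F) :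
    ∃ (S₀ X₀ Y₀ : Scheme.{u}) (f₀ : X₀ ⟶ Y₀) (g₀ : Y₀ ⟶ S₀) (π : S ⟶ S₀) (qX : X ⟶ X₀)
      (qY : Y ⟶ Y₀) (F₀ : X₀.Modules), IsNoetherian S₀ ∧ LocallyOfFiniteType g₀ ∧ QuasiCompact g₀ ∧
        LocallyOfFiniteType (f₀ ≫ g₀) ∧ QuasiCompact (f₀ ≫ g₀) ∧
          IsPullback qY g g₀ π ∧ IsPullback qX f f₀ qY ∧
            Coh.IsCoh F₀ ∧ Nonempty (F ≅ (Scheme.Modules.pullback qX).obj F₀) := by
  haveI := hF
  haveI : F.IsQuasicoherent := inferInstance
  have hfg : (⊥ : Subalgebra ℤ Γ(S, ⊤)).FG := Subalgebra.fg_bot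
  haveI := SubalgSys.isCofiltered hfg
  have hc : IsLimit (SubalgSys.cone Γ(S, ⊤) ⊥) := SubalgSys.coneIsLimit hfg
  haveI : ∀ (i j : (SubalgSys.Idx Γ(S, ⊤) ⊥)ᵒᵖ) (f : i ⟶ j),
      IsAffineHom ((SubalgSys.D Γ(S, ⊤) ⊥).map f) := fun _ _ f => inferInstance
  haveI : ∀ i, CompactSpace ((SubalgSys.D Γ(S, ⊤) ⊥).obj i) := fun i => inferInstance
  haveI : ∀ i, QuasiSeparatedSpace ((SubalgSys.D Γ(S, ⊤) ⊥).obj i) := fun i => inferInstance
  let s : S ≅ (SubalgSys.cone Γ(S, ⊤) ⊥).pt := S.isoSpec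
  have e0 : f ≫ g ≫ s.hom = (f ≫ g) ≫ s.hom := (Category.assoc _ _ _).symm
  haveI : LocallyOfFinitePresentation (f ≫ g ≫ s.hom) := by rw [e0]; infer_instance
  haveI : QuasiCompact (f ≫ g ≫ s.hom) := by rw [e0]; infer_instance
  haveI : QuasiSeparated (f ≫ g ≫ s.hom) := by rw [e0]; infer_instance
  obtain ⟨k, -, Xk, Yk, fk, gk, qX, qY, h1, h2, h3, h4, h5, h6, HY, HX⟩ :=
    exists_stage_model_mor (SubalgSys.D Γ(S, ⊤) ⊥) (SubalgSys.cone Γ(S, ⊤) ⊥) hc
      f (g ≫ s.hom) (Opposite.op (SubalgSys.base _ ⊥ hfg))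
  haveI := h1
  haveI := h2
  haveI := h3
  haveI := h4
  haveI := h5
  haveI := h6
  let uk : Xk ⟶ (SubalgSys.D Γ(S, ⊤) ⊥).obj k := fk ≫ gk
  haveI : CompactSpace Xk := QuasiCompact.compactSpace_of_compactSpace uk
  haveI : QuasiSeparatedSpace Xk := quasiSeparatedSpace_of_quasiSeparated uk
  let D := SubalgSys.D Γ(S, ⊤) ⊥
  let c := SubalgSys.cone Γ(S, ⊤) ⊥
  have H : IsPullback qX ((f ≫ g) ≫ s.hom) uk (c.π.app k) := by
    have := HX.paste_vert HY
    rwa [e0] at this
  let e : X ≅ pullback (c.π.app k) uk := H.flip.isoPullback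
  have he1 : e.hom ≫ pullback.fst (c.π.app k) uk = (f ≫ g) ≫ s.hom := H.flip.isoPullback_hom_fst
  have he2 : e.hom ≫ pullback.snd (c.π.app k) uk = qX := H.flip.isoPullback_hom_snd
  let F' : (pullback (c.π.app k) uk).Modules := (Scheme.Modules.pullback e.inv).obj F
  have hF' : SheafOfModules.IsFinitePresentation
      (R := (pullback (c.π.app k) uk).ringCatSheaf) F' :=
    Groth.Agent.Lead.LimPres.isFP_pullback e.inv F hF
  obtain ⟨j, Fj, hq, hfp, ⟨α⟩⟩ := exists_descend_pb D c hc k uk F' hF'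
  let πj := (pbCone D c k uk).π.app j
  have hπ1 : πj ≫ pullback.fst (D.map j.hom) uk =
      pullback.fst (c.π.app k) uk ≫ c.π.app j.left := by
    simp [πj, pbCone]
  have hπ2 : πj ≫ pullback.snd (D.map j.hom) uk = pullback.snd (c.π.app k) uk := by
    simp [πj, pbCone]
  have hw : c.π.app j.left ≫ D.map j.hom = c.π.app k := c.w j.hom
  have hbig : IsPullback ((e.hom ≫ πj) ≫ pullback.snd (D.map j.hom) uk) (f ≫ g) uk
      ((s.hom ≫ c.π.app j.left) ≫ D.map j.hom) := by
    rw [Category.assoc, hπ2, he2, Category.assoc, hw]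
    exact isPullback_of_comp_iso s H
  have hsqX : IsPullback (e.hom ≫ πj) (f ≫ g) (pullback.fst (D.map j.hom) uk)
      (s.hom ≫ c.π.app j.left) := by
    refine IsPullback.of_right hbig ?_ (IsPullback.of_hasPullback (D.map j.hom) uk).flip
    rw [Category.assoc, hπ1, reassoc_of% he1]
    simp only [Category.assoc]
  -- the model of `Y`
  have hYw : (g ≫ s.hom ≫ c.π.app j.left) ≫ D.map j.hom = qY ≫ gk := by
    rw [Category.assoc, Category.assoc, hw, ← Category.assoc]
    exact HY.w.symm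
  let qY' : Y ⟶ pullback (D.map j.hom) gk := pullback.lift (g ≫ s.hom ≫ c.π.app j.left) qY hYw
  have hbigY : IsPullback (qY' ≫ pullback.snd (D.map j.hom) gk) g gk
      ((s.hom ≫ c.π.app j.left) ≫ D.map j.hom) := by
    rw [pullback.lift_snd, Category.assoc, hw]
    exact isPullback_of_comp_iso s HY
  have hsqY : IsPullback qY' g (pullback.fst (D.map j.hom) gk) (s.hom ≫ c.π.app j.left) := by
    refine IsPullback.of_right hbigY ?_ (IsPullback.of_hasPullback (D.map j.hom) gk).flip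
    rw [pullback.lift_fst]
  -- the model of `f`
  let f₀ : pullback (D.map j.hom) uk ⟶ pullback (D.map j.hom) gk :=
    pullback.lift (pullback.fst (D.map j.hom) uk) (pullback.snd (D.map j.hom) uk ≫ fk)
      (by rw [Category.assoc]; exact pullback.condition)
  have hf₀ : f₀ ≫ pullback.fst (D.map j.hom) gk = pullback.fst (D.map j.hom) uk :=
    pullback.lift_fst _ _ _
  have hcomm : (e.hom ≫ πj) ≫ f₀ = f ≫ qY' := by
    have hf₀' : f₀ ≫ pullback.snd (D.map j.hom) gk = pullback.snd (D.map j.hom) uk ≫ fk :=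
      pullback.lift_snd _ _ _
    have hq1 : qY' ≫ pullback.fst (D.map j.hom) gk = g ≫ s.hom ≫ c.π.app j.left :=
      pullback.lift_fst _ _ _
    have hq2 : qY' ≫ pullback.snd (D.map j.hom) gk = qY := pullback.lift_snd _ _ _
    apply pullback.hom_ext
    · have a1 : ((e.hom ≫ πj) ≫ f₀) ≫ pullback.fst (D.map j.hom) gk =
          (e.hom ≫ πj) ≫ pullback.fst (D.map j.hom) uk := by
        rw [Category.assoc, hf₀]
      have a2 : (f ≫ qY') ≫ pullback.fst (D.map j.hom) gk = f ≫ g ≫ s.hom ≫ c.π.app j.left := by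
        rw [Category.assoc, hq1]
      rw [a1, a2, hsqX.w]
      simp only [Category.assoc]
    · have a1 : ((e.hom ≫ πj) ≫ f₀) ≫ pullback.snd (D.map j.hom) gk =
          ((e.hom ≫ πj) ≫ pullback.snd (D.map j.hom) uk) ≫ fk := by
        rw [Category.assoc, hf₀']
        simp only [Category.assoc]
      have a2 : (f ≫ qY') ≫ pullback.snd (D.map j.hom) gk = f ≫ qY := by
        rw [Category.assoc, hq2]
      have a3 : (e.hom ≫ πj) ≫ pullback.snd (D.map j.hom) uk = qX := by
        rw [Category.assoc, hπ2, he2]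
      rw [a1, a2, a3]
      exact HX.w
  have hsqXY : IsPullback (e.hom ≫ πj) f f₀ qY' := by
    refine IsPullback.of_bot (v₂₁ := g) (v₂₂ := pullback.fst (D.map j.hom) gk)
      (h₃₁ := s.hom ≫ c.π.app j.left) ?_ hcomm hsqY
    rw [hf₀]
    exact hsqX
  haveI := hfp
  refine ⟨D.obj j.left, pullback (D.map j.hom) uk, pullback (D.map j.hom) gk, f₀,
    pullback.fst (D.map j.hom) gk, s.hom ≫ c.π.app j.left, e.hom ≫ πj, qY', Fj,
    isNoetherian_stage j.left,
    MorphismProperty.pullback_fst _ _ (inferInstance : LocallyOfFiniteType gk),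
    MorphismProperty.pullback_fst _ _ (inferInstance : QuasiCompact gk), ?_, ?_, hsqY, hsqXY,
    ⟨hq, Groth.Agent.Helper4.FinLocFree2.isFiniteType_of_isFinitePresentation Fj hfp⟩, ⟨?_⟩⟩
  · rw [hf₀]
    exact MorphismProperty.pullback_fst _ _ (inferInstance : LocallyOfFiniteType uk)
  · rw [hf₀]
    exact MorphismProperty.pullback_fst _ _ (inferInstance : QuasiCompact uk)
  · exact ((Scheme.Modules.pullbackId X).app F).symm ≪≫
      (Scheme.Modules.pullbackCongr e.hom_inv_id.symm).app F ≪≫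
      ((Scheme.Modules.pullbackComp e.hom e.inv).app F).symm ≪≫
      (Scheme.Modules.pullback e.hom).mapIso α.symm ≪≫
      (Scheme.Modules.pullbackComp e.hom πj).app Fj

end Groth.Agent.Helper2.ConsMM

end
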