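import Mathlib
import Groth.Agent.Helper2.ConsMM2
import Groth.Agent.Helper2.ConsMod3

/-!
# Local constructibility of the locus of a constructible relation on (morphism, module)
-/

set_option autoImplicit false
universe u
open CategoryTheory CategoryTheory.Limits AlgebraicGeometry TopologicalSpace Topology

noncomputable section

namespace Groth.Agent.Helper2.ConsMM

open Groth.Agent.Helper5.ConsLc Groth.Agent.Lead Groth.Agent.Helper2.ConsMod

variable {P : ∀ ⦃X Y T : Scheme.{u}⦄, (X ⟶ Y) → (Y ⟶ T) → X.Modules → Prop}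
  {X Y S : Scheme.{u}} (f : X ⟶ Y) (g : Y ⟶ S)
  [LocallyOfFinitePresentation g] [QuasiCompact g] [QuasiSeparated g]
  [LocallyOfFinitePresentation (f ≫ g)] [QuasiCompact (f ≫ g)] [QuasiSeparated (f ≫ g)]
  (F : X.Modules) (hF : SheafOfModules.IsFinitePresentation (R := X.ringCatSheaf) F)

include hF in
theorem locusMM_affine_cons [IsAffine S] (hP : IsConsMM P) :
    IsConstructible (locusMM P f g F) := by
  obtain ⟨S₀, X₀, Y₀, f₀, g₀, π, qX, qY, F₀, hN, h1, h2, h3, h4, HY, HX, hcoh, ⟨e⟩⟩ :=
    exists_noeth_model_mm f g F hF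
  rw [locusMM_congr hP.1 f g (Groth.Agent.Lead.FlatUnivJ.isCoh_pullback qX F₀ hcoh) e,
    locusMM_of_isPullback hP.1 HY HX F₀ hcoh]
  exact π.isConstructible_preimage (isConstructible_locusMM_of_noeth f₀ g₀ F₀ hcoh hP)

include hF in
theorem isLocallyConstructible_locusMM (hP : IsConsMM P) :
    Topology.IsLocallyConstructible (locusMM P f g F) := by
  haveI := hF
  haveI : F.IsQuasicoherent := inferInstance
  apply IsLocallyConstructible.of_isOpenCover (U := fun U : S.affineOpens => U.1)
    (iSup_affineOpens_eq_top S)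
  intro U
  haveI : IsAffine (U.1 : Scheme.{u}) := U.2
  obtain ⟨XU, YU, fU, gU, eX, eY, sqY, sqX, h1, h2, h3, h4, h5, h6⟩ := mor_restrict_data f g U.1
  have h := locusMM_affine_cons fU gU ((Scheme.Modules.pullback eX).obj F)
    (Groth.Agent.Lead.LimPres.isFP_pullback _ F hF) hP
  rw [locusMM_of_isPullback hP.1 sqY sqX F (isCoh_of_isFP F hF)] at h
  exact h.isLocallyConstructible

end Groth.Agent.Helper2.ConsMM

end
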