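import Mathlib
import Groth.Agent.Helper2.FibFD1

set_option autoImplicit false
open TensorProduct
universe u

namespace Groth.Agent.Helper2.FibFD

/-- Dictionary: flatness of the fibre module over the fibre ring, in tensor form and in quotient
form. -/
theorem flat_fibre_dict {B C B' C' M N' : Type u} [CommRing B] [CommRing C] [CommRing B']
    [CommRing C'] [Algebra B C] [AddCommGroup M] [Module C M] [Module B M] [IsScalarTower B C M]
    [AddCommGroup N'] [Module C' N'] (J : Ideal B)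
    (πB : B →+* B') (hπB : Function.Surjective πB) (hkB : RingHom.ker πB = J)
    (πC : C →+* C') (hπC : Function.Surjective πC)
    (hkC : RingHom.ker πC = J.map (algebraMap B C))
    (ψ : B' →+* C') (hsq : ψ.comp πB = πC.comp (algebraMap B C))
    (E : letI := πC.toAlgebra; N' ≃ₗ[C'] C' ⊗[C] M) :
    (letI := Module.compHom N' ψ; Module.Flat B' N') ↔
      Module.Flat (B ⧸ J) (M ⧸ J • (⊤ : Submodule B M)) := by
  subst hkB
  letI algCC' : Algebra C C' := πC.toAlgebra
  letI modCN : Module C N' := Module.compHom N' πC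
  haveI : IsScalarTower C C' N' := IsScalarTower.of_algebraMap_smul (fun _ _ => rfl)
  let JC : Ideal C := (RingHom.ker πB).map (algebraMap B C)
  -- step 1
  let e1 : N' ≃ₗ[C] C' ⊗[C] M := E.restrictScalars C
  -- step 2
  let eC : C ⧸ JC ≃+* C' :=
    (Ideal.quotEquivOfEq hkC.symm).trans (RingHom.quotientKerEquivOfSurjective hπC)
  have heC : ∀ c : C, eC (Ideal.Quotient.mk JC c) = πC c := fun c => rfl
  let τ : C' ≃ₗ[C] C ⧸ JC :=
    { eC.symm.toAddEquiv with
      map_smul' := fun c x => by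
        obtain ⟨y, rfl⟩ := eC.surjective x
        obtain ⟨d, rfl⟩ := Ideal.Quotient.mk_surjective y
        show eC.symm (πC c * eC (Ideal.Quotient.mk JC d)) = c • eC.symm (eC (Ideal.Quotient.mk JC d))
        rw [← heC c, ← map_mul, eC.symm_apply_apply, eC.symm_apply_apply]
        rfl }
  let e2 : C' ⊗[C] M ≃ₗ[C] (C ⧸ JC) ⊗[C] M := TensorProduct.congr τ (LinearEquiv.refl C M)
  let e3 : (C ⧸ JC) ⊗[C] M ≃ₗ[C] M ⧸ (JC • (⊤ : Submodule C M)) := quotTensorEquivQuotSMul M JC
  let e4 : (M ⧸ (JC • (⊤ : Submodule C M))) ≃ₗ[B] (M ⧸ (RingHom.ker πB) • (⊤ : Submodule B M)) :=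
    quotMapSMulEquiv (RingHom.ker πB)
  -- module structures on `N'`
  letI modBN : Module B N' := Module.compHom N' (algebraMap B C)
  haveI : IsScalarTower B C N' := IsScalarTower.of_algebraMap_smul (fun _ _ => rfl)
  let e123 : N' ≃ₗ[B] M ⧸ (JC • (⊤ : Submodule C M)) := (e1 ≪≫ₗ e2 ≪≫ₗ e3).restrictScalars B
  let etot : N' ≃ₗ[B] (M ⧸ (RingHom.ker πB) • (⊤ : Submodule B M)) := e123 ≪≫ₗ e4
  letI modB'N : Module B' N' := Module.compHom N' ψ
  let σ : B ⧸ RingHom.ker πB ≃+* B' := RingHom.quotientKerEquivOfSurjective hπB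
  have hσ : ∀ b : B, σ (Ideal.Quotient.mk _ b) = πB b := fun b => rfl
  rw [← Groth.Agent.Helper5.AffFlat.flat_iff_of_ringEquiv σ]
  letI modQN : Module (B ⧸ RingHom.ker πB) N' := Module.compHom N' σ.toRingHom
  haveI : IsScalarTower B (B ⧸ RingHom.ker πB) N' := by
    refine IsScalarTower.of_algebraMap_smul (fun b n => ?_)
    show ψ (σ (Ideal.Quotient.mk _ b)) • n = πC (algebraMap B C b) • n
    rw [hσ]
    have := RingHom.congr_fun hsq b
    simp only [RingHom.comp_apply] at this
    rw [this]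
  let eQ : N' ≃ₗ[B ⧸ RingHom.ker πB] (M ⧸ (RingHom.ker πB) • (⊤ : Submodule B M)) :=
    etot.extendScalarsOfSurjective Ideal.Quotient.mk_surjective
  exact ⟨fun h => Module.Flat.of_linearEquiv eQ.symm, fun h => Module.Flat.of_linearEquiv eQ⟩

end Groth.Agent.Helper2.FibFD
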