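import Mathlib
import Groth.Prelude
import Groth.Agent.Helper2.FibFD2
import Groth.Agent.Helper2.FibFlatDict
import Groth.Agent.Lead.StalkPull2

set_option autoImplicit false
set_option linter.unusedVariables false
open CategoryTheory CategoryTheory.Limits AlgebraicGeometry TopologicalSpace Topology TensorProduct
open IsLocalRing
universe u

namespace Groth.Agent.Helper2.FibFD

open Groth.Agent.Helper2.FibFlatDict

/-- flatness of `F_s` relative to `g_s : X_s ⟶ Y_s` at a point `x'` of the fibre, in terms of the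
stalk of `F` at the image `x` of `x'` in `X`. -/
theorem isFlatOverAt_fibre_iff {X Y S : Scheme.{u}} (g : X ⟶ Y) (h : Y ⟶ S) (F : X.Modules)
    [F.IsQuasicoherent] (s : S) (x' : ↥((g ≫ h).fiber s)) :
    FlatMod.IsFlatOverAt (MoreMor.fiberMap g h s)
        ((Scheme.Modules.pullback ((g ≫ h).fiberι s)).obj F) x' ↔
      (letI := FlatMod.moduleStalkOver g F ((g ≫ h).fiberι s x')
       Module.Flat
        (Y.presheaf.stalk (g ((g ≫ h).fiberι s x')) ⧸
          Ideal.map (h.stalkMap (g ((g ≫ h).fiberι s x'))).hom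
            (maximalIdeal (S.presheaf.stalk (h (g ((g ≫ h).fiberι s x'))))))
        (F.presheaf.stalk ((g ≫ h).fiberι s x') ⧸
          Ideal.map (h.stalkMap (g ((g ≫ h).fiberι s x'))).hom
            (maximalIdeal (S.presheaf.stalk (h (g ((g ≫ h).fiberι s x'))))) •
          (⊤ : Submodule (Y.presheaf.stalk (g ((g ≫ h).fiberι s x')))
            (F.presheaf.stalk ((g ≫ h).fiberι s x'))))) := by
  let x : X := (g ≫ h).fiberι s x'
  let y' : h.fiber s := MoreMor.fiberMap g h s x'
  have hy : h.fiberι s y' = g x := by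
    show h.fiberι s (MoreMor.fiberMap g h s x') = g ((g ≫ h).fiberι s x')
    rw [← Scheme.Hom.comp_apply, fiberMap_fst, Scheme.Hom.comp_apply]
  letI algBC : Algebra (Y.presheaf.stalk (g x)) (X.presheaf.stalk x) :=
    (g.stalkMap x).hom.toAlgebra
  letI modBM : Module (Y.presheaf.stalk (g x)) (F.presheaf.stalk x) :=
    FlatMod.moduleStalkOver g F x
  haveI : IsScalarTower (Y.presheaf.stalk (g x)) (X.presheaf.stalk x) (F.presheaf.stalk x) :=
    IsScalarTower.of_algebraMap_smul (fun _ _ => rfl)
  have hP := ker_transport h s y' (g x) hy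
  have hX := Groth.Agent.Helper5.FibStalk.s9501 (g ≫ h) s x'
  have hkC : RingHom.ker (((g ≫ h).fiberι s).stalkMap x').hom =
      (Ideal.map (h.stalkMap (g x)).hom (maximalIdeal (S.presheaf.stalk (h (g x))))).map
        (algebraMap (Y.presheaf.stalk (g x)) (X.presheaf.stalk x)) := by
    rw [hX.2, Ideal.map_map]
    congr 1
    rw [Scheme.Hom.stalkMap_comp]
    rfl
  have hsq := stalk_square g h s x' hy
  obtain ⟨E⟩ := Groth.Agent.Lead.StalkPull.nonempty_stalk_pullback_equiv ((g ≫ h).fiberι s) F x'
  exact flat_fibre_dict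
    (B := Y.presheaf.stalk (g x)) (C := X.presheaf.stalk x) (M := F.presheaf.stalk x)
    (Ideal.map (h.stalkMap (g x)).hom (maximalIdeal (S.presheaf.stalk (h (g x)))))
    ((Y.presheaf.stalkCongr (.of_eq hy)).inv ≫ (h.fiberι s).stalkMap y').hom hP.1 hP.2
    (((g ≫ h).fiberι s).stalkMap x').hom hX.1 hkC
    ((MoreMor.fiberMap g h s).stalkMap x').hom
    (by
      have h0 := congrArg CommRingCat.Hom.hom hsq
      exact h0) E

end Groth.Agent.Helper2.FibFD
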