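import Mathlib
import Groth.Prelude
import Groth.Agent.Helper2.FibFD3
import Groth.Agent.Helper2.FibCritFP
import Groth.Agent.Helper2.StalkEssFP

set_option autoImplicit false
set_option linter.unusedVariables false
open CategoryTheory CategoryTheory.Limits AlgebraicGeometry TopologicalSpace Topology TensorProduct
open IsLocalRing
universe u

namespace Groth.Agent.Helper2.FibFD

theorem flat_of_smul_eq {R M : Type u} [CommRing R] [AddCommGroup M] (m1 m2 : Module R M)
    (h : ∀ (r : R) (x : M), (haveI := m1; r • x) = (haveI := m2; r • x))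
    (hf : @Module.Flat R M _ _ m1) : @Module.Flat R M _ _ m2 := by
  have : m1 = m2 := Module.ext' _ _ h
  subst this
  exact hf

/-- flatness passes to the quotient by an ideal -/
theorem flat_quot_of_flat {S M : Type u} [CommRing S] [AddCommGroup M] [Module S M]
    (J : Ideal S) [Module.Flat S M] : Module.Flat (S ⧸ J) (M ⧸ J • (⊤ : Submodule S M)) := by
  let e2 : ((S ⧸ J) ⊗[S] M) ≃ₗ[S ⧸ J] (M ⧸ J • (⊤ : Submodule S M)) :=
    (quotTensorEquivQuotSMul M J).extendScalarsOfSurjective Ideal.Quotient.mk_surjective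
  exact Module.Flat.of_linearEquiv e2.symm

/-- base change direction: flatness of `F` over `Y` at `x` gives flatness of `F_s` over `Y_s`. -/
theorem isFlatOverAt_fibre_of_isFlatOverAt {X Y S : Scheme.{u}} (g : X ⟶ Y) (h : Y ⟶ S)
    (F : X.Modules) [F.IsQuasicoherent] (s : S) (x' : ↥((g ≫ h).fiber s))
    (hfl : FlatMod.IsFlatOverAt g F ((g ≫ h).fiberι s x')) :
    FlatMod.IsFlatOverAt (MoreMor.fiberMap g h s)
        ((Scheme.Modules.pullback ((g ≫ h).fiberι s)).obj F) x' := by
  rw [isFlatOverAt_fibre_iff]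
  letI := FlatMod.moduleStalkOver g F ((g ≫ h).fiberι s x')
  haveI : Module.Flat (Y.presheaf.stalk (g ((g ≫ h).fiberι s x')))
      (F.presheaf.stalk ((g ≫ h).fiberι s x')) := hfl
  exact flat_quot_of_flat _

/-- fibrewise criterion: if `F` is flat over `S` at `x` and `F_s` is flat over `Y_s` at `x`, then
`F` is flat over `Y` at `x`. -/
theorem isFlatOverAt_of_fibre {X Y S : Scheme.{u}} (g : X ⟶ Y) (h : Y ⟶ S)
    [LocallyOfFinitePresentation g]
    (F : X.Modules) [F.IsQuasicoherent] (hFp : CohB1.IsFP F) (s : S) (x' : ↥((g ≫ h).fiber s))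
    (h1 : FlatMod.IsFlatOverAt (g ≫ h) F ((g ≫ h).fiberι s x'))
    (h2 : FlatMod.IsFlatOverAt (MoreMor.fiberMap g h s)
        ((Scheme.Modules.pullback ((g ≫ h).fiberι s)).obj F) x') :
    FlatMod.IsFlatOverAt g F ((g ≫ h).fiberι s x') := by
  rw [isFlatOverAt_fibre_iff] at h2
  let x : X := (g ≫ h).fiberι s x'
  letI algRS : Algebra (S.presheaf.stalk (h (g x))) (Y.presheaf.stalk (g x)) :=
    (h.stalkMap (g x)).hom.toAlgebra
  letI algSS' : Algebra (Y.presheaf.stalk (g x)) (X.presheaf.stalk x) :=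
    (g.stalkMap x).hom.toAlgebra
  haveI : IsLocalHom (algebraMap (S.presheaf.stalk (h (g x))) (Y.presheaf.stalk (g x))) :=
    inferInstanceAs (IsLocalHom (h.stalkMap (g x)).hom)
  haveI : IsLocalHom (algebraMap (Y.presheaf.stalk (g x)) (X.presheaf.stalk x)) :=
    inferInstanceAs (IsLocalHom (g.stalkMap x).hom)
  have hess := Groth.Agent.Helper2.StalkEssFP.essFP_stalk g x
  letI modSM : Module (Y.presheaf.stalk (g x)) (F.presheaf.stalk x) :=
    FlatMod.moduleStalkOver g F x
  letI modRM : Module (S.presheaf.stalk (h (g x))) (F.presheaf.stalk x) :=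
    Module.compHom (F.presheaf.stalk x) (h.stalkMap (g x)).hom
  haveI : IsScalarTower (Y.presheaf.stalk (g x)) (X.presheaf.stalk x) (F.presheaf.stalk x) :=
    IsScalarTower.of_algebraMap_smul (fun _ _ => rfl)
  haveI : IsScalarTower (S.presheaf.stalk (h (g x))) (Y.presheaf.stalk (g x))
      (F.presheaf.stalk x) := IsScalarTower.of_algebraMap_smul (fun _ _ => rfl)
  haveI : Module.FinitePresentation (X.presheaf.stalk x) (F.presheaf.stalk x) :=
    Groth.Agent.Helper2.StalkEssFP.fp_stalk F hFp x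
  have hflR : Module.Flat (S.presheaf.stalk (h (g x))) (F.presheaf.stalk x) := by
    refine flat_of_smul_eq (FlatMod.moduleStalkOver (g ≫ h) F x) modRM (fun r m => ?_) h1
    show ((g ≫ h).stalkMap x).hom r • m = (g.stalkMap x).hom ((h.stalkMap (g x)).hom r) • m
    rw [Scheme.Hom.stalkMap_comp]
    rfl
  show Module.Flat (Y.presheaf.stalk (g x)) (F.presheaf.stalk x)
  rcases subsingleton_or_nontrivial (F.presheaf.stalk x) with hsub | hnt
  · infer_instance
  · exact (Groth.Agent.Helper2.FibCritFP.fibre_criterion hess h2).2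

end Groth.Agent.Helper2.FibFD
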