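import Mathlib
import Groth.Prelude
import Groth.Agent.Helper2.ConsMM3
import Groth.Agent.Helper2.FibFD4
import Groth.Agent.Helper2.FibLF3
import Groth.Agent.Helper2.FlatLocusMod
import Groth.Agent.Helper5.GenFlat3
import Groth.Agent.Helper5.ImmCons1
import Groth.Agent.Helper4.CohFP
import Groth.Agent.Helper1.Dev1
import Groth.Agent.Lead.FlatBC2
import Groth.Agent.Lead.StalkPull4

/-!
# Relative flatness of a module on the fibres is a constructible relation (S4868)
-/

set_option autoImplicit false
set_option linter.unusedVariables false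
universe u
open CategoryTheory CategoryTheory.Limits AlgebraicGeometry TopologicalSpace Topology

namespace Groth.Agent.Helper2.ConsMM

open Groth.Agent.Helper5.ConsPr Groth.Agent.Helper4 Groth.Agent.Helper4.StalkDict
open Groth.Agent.Helper2.FibFD Groth.Agent.Helper2.FibLF

/-- relative flatness at a point only depends on the isomorphism class of the module -/
theorem isFlatOverAt_of_iso {X S : Scheme.{u}} (f : X ⟶ S) {F G : X.Modules} (e : F ≅ G) (x : X)
    (h : FlatMod.IsFlatOverAt f F x) : FlatMod.IsFlatOverAt f G x := by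
  letI alg : Algebra (S.presheaf.stalk (f x)) (X.presheaf.stalk x) := (f.stalkMap x).hom.toAlgebra
  letI mF : Module (S.presheaf.stalk (f x)) (F.presheaf.stalk x) := FlatMod.moduleStalkOver f F x
  letI mG : Module (S.presheaf.stalk (f x)) (G.presheaf.stalk x) := FlatMod.moduleStalkOver f G x
  haveI : IsScalarTower (S.presheaf.stalk (f x)) (X.presheaf.stalk x) (F.presheaf.stalk x) :=
    IsScalarTower.of_algebraMap_smul (fun _ _ => rfl)
  haveI : IsScalarTower (S.presheaf.stalk (f x)) (X.presheaf.stalk x) (G.presheaf.stalk x) :=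
    IsScalarTower.of_algebraMap_smul (fun _ _ => rfl)
  let E : F.presheaf.stalk x ≃ₗ[X.presheaf.stalk x] G.presheaf.stalk x :=
    LinearEquiv.ofBijective (stalkLin e.hom x)
      (Groth.Agent.Helper1.Dev.stalkLin_bijective_of_isIso e.hom x)
  haveI : Module.Flat (S.presheaf.stalk (f x)) (F.presheaf.stalk x) := h
  exact Module.Flat.of_linearEquiv (E.restrictScalars (S.presheaf.stalk (f x))).symm

/-- the relation "the module is flat relatively to the morphism" -/
def PRF : ∀ ⦃X Y T : Scheme.{u}⦄, (X ⟶ Y) → (Y ⟶ T) → X.Modules → Prop :=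
  fun _ _ _ f _ F => FlatMod.IsFlatOver f F

theorem fieldStable_PRF : IsFieldStableMM (PRF.{u}) := by
  intro X X' Y Y' T T' f g f' g' eX eY h _ _ _ _ _ _ _ _ sqY sqX F F' hF iso
  have : Nonempty T' := inferInstance
  have hh : Surjective h := surjective_of_subsingleton h
  have hfl : Flat h := inferInstance
  have heYsurj : Surjective eY := MorphismProperty.of_isPullback sqY.flip hh
  have heYfl : Flat eY := MorphismProperty.of_isPullback sqY.flip hfl
  have heXsurj : Surjective eX := MorphismProperty.of_isPullback sqX.flip heYsurj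
  constructor
  · intro hM x'
    exact isFlatOverAt_of_iso f' iso.symm x'
      (Groth.Agent.Lead.FlatBC.main_baseChange f f' eX eY sqX F hF.1 x' (hM (eX x')))
  · intro hM x
    obtain ⟨x', rfl⟩ := heXsurj.surj x
    exact Groth.Agent.Lead.StalkPull.main_descent f f' eX eY sqX F hF.1 x'
      ((Flat.iff_flat_stalkMap eY).mp heYfl (f' x')) (isFlatOverAt_of_iso f' iso x' (hM x'))

theorem isConsMM_PRF : IsConsMM (PRF.{u}) := by
  refine ⟨fieldStable_PRF, ?_⟩
  intro X Y S f g _ _ _ _ _ _ F hF
  have hYN1 : IsLocallyNoetherian Y := LocallyOfFiniteType.isLocallyNoetherian g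
  have hXN1 : IsLocallyNoetherian X := LocallyOfFiniteType.isLocallyNoetherian (f ≫ g)
  have hflft : LocallyOfFiniteType f := locallyOfFiniteType_of_comp f g
  have hffp : LocallyOfFinitePresentation f :=
    LocallyOfFinitePresentation.iff_locallyOfFiniteType.mpr hflft
  haveI : F.IsQuasicoherent := hF.1
  have hfp := CohFP.isFP_of_isCoh F hF.1 hF.2
  obtain ⟨U₀, hU₀, hflat⟩ := Groth.Agent.Helper5.GenFlat.main (f ≫ g) F hF.1 hF.2
  let W : Set X := {x | FlatMod.IsFlatOverAt f F x}
  have hW : IsOpen W := Groth.Agent.Helper2.FlatLocusMod.isOpen_isFlatOverAt f F hfp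
  refine decided_of_open_criterion (f ≫ g) U₀ hU₀ W hW _ (fun s hs => ?_)
  constructor
  · intro hL x hx
    have hxr : x ∈ Set.range ((f ≫ g).fiberι s) := by
      rw [Scheme.Hom.range_fiberι]; exact hx
    obtain ⟨x', rfl⟩ := hxr
    exact isFlatOverAt_of_fibre f g F hfp s x' (hflat _ (by rw [hx]; exact hs)) (hL x')
  · intro h x'
    exact isFlatOverAt_fibre_of_isFlatOverAt f g F s x'
      (h _ (Groth.Agent.Helper5.FibStalk.fiberι_apply (f ≫ g) s x'))

theorem s4868 {X Y S : Scheme.{u}} (f : X ⟶ Y) (h : Y ⟶ S) (g : X ⟶ S)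
    (w : f ≫ h = g)
    [LocallyOfFinitePresentation g] [QuasiCompact g] [QuasiSeparated g]
    [LocallyOfFinitePresentation h] [QuasiCompact h] [QuasiSeparated h]
    (F : X.Modules) [Coh.IsQCoh F] (hF : CohB1.IsFP F) :
    Topology.IsLocallyConstructible {s : S | ∀ x : X, g x = s →
      letI := FlatMod.moduleStalkOver f F x
      Module.Flat (↑(Y.presheaf.stalk (f x)) ⧸ Ideal.map (h.stalkMap (f x)).hom (IsLocalRing.maximalIdeal ↑(S.presheaf.stalk (h (f x)))))
        (↑(F.presheaf.stalk x) ⧸ (Ideal.map (h.stalkMap (f x)).hom (IsLocalRing.maximalIdeal ↑(S.presheaf.stalk (h (f x)))) •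
          (⊤ : Submodule ↑(Y.presheaf.stalk (f x)) ↑(F.presheaf.stalk x))))} := by
  subst w
  haveI : F.IsQuasicoherent := ‹Coh.IsQCoh F›
  have key := isLocallyConstructible_locusMM f h F hF isConsMM_PRF
  convert key using 1
  ext s
  constructor
  · intro hs x'
    rw [isFlatOverAt_fibre_iff]
    exact hs _ (Groth.Agent.Helper5.FibStalk.fiberι_apply (f ≫ h) s x')
  · intro hs x hx
    have hxr : x ∈ Set.range ((f ≫ h).fiberι s) := by
      rw [Scheme.Hom.range_fiberι]; exact hx
    obtain ⟨x', rfl⟩ := hxr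
    have := hs x'
    rw [isFlatOverAt_fibre_iff] at this
    exact this

end Groth.Agent.Helper2.ConsMM
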