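import Mathlib
import Groth.Prelude
import Groth.Agent.Helper2.GenStalk2
import Groth.Agent.Helper2.FlatTens1
import Groth.Agent.Helper2.ConsMM4

set_option autoImplicit false
set_option linter.unusedVariables false
universe u
open CategoryTheory CategoryTheory.Limits AlgebraicGeometry TopologicalSpace Opposite TensorProduct

namespace Groth.Agent.Helper2.GenStalk

open Groth.Agent.Helper2.FlatTens

/-- algebra: `M` flat over `R`, `A → A'` flat: `A' ⊗_A M` is flat over `R`. -/
theorem flat_dict {R A A' M P : Type u} [CommRing R] [CommRing A] [CommRing A']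
    [AddCommGroup M] [Module A M] [AddCommGroup P] [Module A' P]
    (π : R →+* A) (j : A →+* A') (χ : R →+* A') (hχ : χ = j.comp π) (hj : j.Flat)
    (E : letI := j.toAlgebra; P ≃ₗ[A'] A' ⊗[A] M)
    (hM : letI := Module.compHom M π; Module.Flat R M) :
    letI := Module.compHom P χ; Module.Flat R P := by
  subst hχ
  letI algAA' : Algebra A A' := j.toAlgebra
  letI algRA : Algebra R A := π.toAlgebra
  letI algRA' : Algebra R A' := (j.comp π).toAlgebra
  haveI : IsScalarTower R A A' := IsScalarTower.of_algebraMap_eq (fun a => rfl)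
  letI mRM : Module R M := Module.compHom M π
  letI mRP : Module R P := Module.compHom P (j.comp π)
  haveI : IsScalarTower R A M := IsScalarTower.of_algebraMap_smul (fun _ _ => rfl)
  haveI : IsScalarTower R A' P := IsScalarTower.of_algebraMap_smul (fun _ _ => rfl)
  haveI : Module.Flat A A' := hj
  haveI : Module.Flat R M := hM
  haveI : Module.Flat R (A' ⊗[A] M) := flat_tensor_mixed R A A' M
  exact Module.Flat.of_linearEquiv (E.restrictScalars R)

set_option backward.isDefEq.respectTransparency false in
/-- pulling back along a morphism which is flat at a point preserves relative flatness. -/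
theorem isFlatOverAt_pullback_of_flat {W' W X : Scheme.{u}} (j : W' ⟶ W) (π : W ⟶ X)
    (G : W.Modules) (w' : W') (hj : (j.stalkMap w').hom.Flat)
    (hG : FlatMod.IsFlatOverAt π G (j w')) :
    FlatMod.IsFlatOverAt (j ≫ π) ((Scheme.Modules.pullback j).obj G) w' := by
  obtain ⟨E⟩ := nonempty_stalk_pullback_equiv j G w'
  have hχ : ((j ≫ π).stalkMap w').hom = (j.stalkMap w').hom.comp (π.stalkMap (j w')).hom := by
    rw [Scheme.Hom.stalkMap_comp]
    rfl
  exact flat_dict (R := X.presheaf.stalk (π (j w'))) (A := W.presheaf.stalk (j w'))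
    (A' := W'.presheaf.stalk w') (M := G.presheaf.stalk (j w'))
    (P := ((Scheme.Modules.pullback j).obj G).presheaf.stalk w')
    (π.stalkMap (j w')).hom (j.stalkMap w').hom ((j ≫ π).stalkMap w').hom hχ hj E hG

theorem flat_of_compHom_id {R M : Type u} [CommRing R] [AddCommGroup M] [inst : Module R M]
    (φ : R →+* R) (hφ : φ = RingHom.id R)
    (h : @Module.Flat R M _ _ (Module.compHom M φ)) : Module.Flat R M := by
  subst hφ
  exact h

/-- flatness over the identity is flatness -/
theorem isFlatAt_of_isFlatOverAt_id {X : Scheme.{u}} (F : X.Modules) (x : X)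
    (h : FlatMod.IsFlatOverAt (𝟙 X) F x) : FlatMod.IsFlatAt F x := by
  have h1 : ((𝟙 X : X ⟶ X).stalkMap x).hom = RingHom.id _ := by
    rw [Scheme.Hom.stalkMap_id]; rfl
  exact flat_of_compHom_id ((𝟙 X : X ⟶ X).stalkMap x).hom h1 h

end Groth.Agent.Helper2.GenStalk
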