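import Mathlib
import Groth.Prelude
import Groth.Agent.Helper2.GenStalk3

set_option autoImplicit false
set_option linter.unusedVariables false
universe u
open CategoryTheory CategoryTheory.Limits AlgebraicGeometry TopologicalSpace Opposite TensorProduct

namespace Groth.Agent.Helper2.GenStalk

theorem isFlatOverAt_congr {X S : Scheme.{u}} {f f' : X ⟶ S} (h : f = f') (F : X.Modules) (x : X)
    (hf : FlatMod.IsFlatOverAt f F x) : FlatMod.IsFlatOverAt f' F x := by
  subst h; exact hf

theorem s7177 {X Y : Scheme.{u}} (f : X ⟶ Y) [Flat (pullback.diagonal f)] (F : X.Modules)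
    (hF : FlatMod.IsFlatOver f F) : FlatMod.IsFlat F := by
  intro x
  have hc : IsPullback (pullback.snd f f) (pullback.fst f f) f f :=
    (IsPullback.of_hasPullback f f).flip
  have h1 : FlatMod.IsFlatOverAt (pullback.fst f f)
      ((Scheme.Modules.pullback (pullback.snd f f)).obj F) (pullback.diagonal f x) :=
    main_baseChange_gen f (pullback.fst f f) (pullback.snd f f) f hc F _ (hF _)
  have h2 := isFlatOverAt_pullback_of_flat (pullback.diagonal f) (pullback.fst f f)
    ((Scheme.Modules.pullback (pullback.snd f f)).obj F) x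
    (Flat.stalkMap (pullback.diagonal f) x) h1
  have h3 := isFlatOverAt_congr (pullback.diagonal_fst f) _ x h2
  let e : (Scheme.Modules.pullback (pullback.diagonal f)).obj
      ((Scheme.Modules.pullback (pullback.snd f f)).obj F) ≅ F :=
    (Scheme.Modules.pullbackComp (pullback.diagonal f) (pullback.snd f f)).app F ≪≫
      (Scheme.Modules.pullbackCongr (pullback.diagonal_snd f)).app F ≪≫
      (Scheme.Modules.pullbackId X).app F
  exact isFlatAt_of_isFlatOverAt_id F x
    (Groth.Agent.Helper2.ConsMM.isFlatOverAt_of_iso (𝟙 X) e x h3)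

end Groth.Agent.Helper2.GenStalk
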