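import Mathlib
import Groth.Prelude.Def_Found
import Groth.Prelude.Def_EGA4b
import Groth.Agent.Helper2.GeomNor2
import Groth.Agent.Helper2.RegBC
import Groth.Agent.Helper2.RegComp
set_option autoImplicit false
universe u
open IsLocalRing TensorProduct

namespace Groth.Agent.Helper2.NorComp

open Groth.Agent.Helper2.GeomNor Groth.Agent.Helper2.GeomNor2

section Pushout
variable (B C B' C' : Type u) [CommRing B] [CommRing C] [CommRing B'] [CommRing C']
  [Algebra B C] [Algebra B B'] [Algebra B' C'] [Algebra C C'] [Algebra B C']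
  [IsScalarTower B B' C'] [IsScalarTower B C C'] [Algebra.IsPushout B C B' C']

/-- the fibre of `B' → C'` over `q'` as a base change of the fibre of `B → C`. -/
theorem fiber_normal (q' : Ideal B') [q'.IsPrime] :
    letI := Localization.AtPrime.algebraOfLiesOver (q'.under B) q'
    EGA4.IsNormalRing (q'.ResidueField ⊗[(q'.under B).ResidueField] ((q'.under B).Fiber C)) →
      EGA4.IsNormalRing (q'.Fiber C') := by
  letI := Localization.AtPrime.algebraOfLiesOver (q'.under B) q'
  let κ := (q'.under B).ResidueField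
  let κ' := q'.ResidueField
  let e1 : κ' ⊗[κ] (κ ⊗[B] C) ≃ₐ[κ'] κ' ⊗[B] C :=
    Algebra.TensorProduct.cancelBaseChange B κ κ' κ' C
  let e2 : κ' ⊗[B] C ≃ₐ[B] C ⊗[B] κ' := Algebra.TensorProduct.comm B κ' C
  let e3 : C' ⊗[B'] κ' ≃ₐ[C] C ⊗[B] κ' := Algebra.IsPushout.cancelBaseChangeAlg B C B' C' κ'
  let e4 : κ' ⊗[B'] C' ≃ₐ[B'] C' ⊗[B'] κ' := Algebra.TensorProduct.comm B' κ' C'
  intro h
  exact isNormalRing_of_ringEquiv
    ((e1.toRingEquiv.trans e2.toRingEquiv).trans (e3.toRingEquiv.symm.trans e4.toRingEquiv.symm)) h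

/-- base change of a normal homomorphism along a quasi-finite map to a normal ring
gives a normal ring -/
theorem isNormalRing_of_pushout (hBC : EGA4.IsNormalHom B C) (hB' : EGA4.IsNormalRing B')
    [IsNoetherianRing B'] [IsNoetherianRing C'] [Algebra.QuasiFinite B B'] :
    EGA4.IsNormalRing C' := by
  haveI : Module.Flat B C := hBC.1
  haveI : Module.Flat B' C' := by
    have hpo : Algebra.IsPushout B B' C C' := Algebra.IsPushout.symm inferInstance
    exact Module.Flat.isBaseChange (R := B) (S := B') (M := C) (N := C') hpo.out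
  apply isNormalRing_of_flat B' C' hB'
  intro q' hq'
  letI := Localization.AtPrime.algebraOfLiesOver (q'.under B) q'
  have hfin : Module.Finite (q'.under B).ResidueField q'.ResidueField := inferInstance
  exact fiber_normal B C B' C' q' ((hBC.2 (q'.under B)) q'.ResidueField hfin)

end Pushout

section Comp
variable (A B C : Type u) [CommRing A] [CommRing B] [CommRing C]
    [Algebra A B] [Algebra B C] [Algebra A C] [IsScalarTower A B C]

theorem normal_baseChange_finite [IsNoetherianRing B] [IsNoetherianRing C]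
    (p : Ideal A) [p.IsPrime] (k' : Type u) [Field k']
    [Algebra p.ResidueField k'] [Algebra A k'] [IsScalarTower A p.ResidueField k']
    [Module.Finite p.ResidueField k']
    (hAB : EGA4.IsNormalHom A B) (hBC : EGA4.IsNormalHom B C) :
    EGA4.IsNormalRing (k' ⊗[p.ResidueField] (p.Fiber C)) := by
  haveI := Groth.Agent.Helper2.RegBC.isNoetherianRing_fiber A B p
  haveI := Groth.Agent.Helper2.RegBC.isNoetherianRing_fiber A C p
  -- (a)
  have eB : (k' ⊗[p.ResidueField] (p.Fiber B)) ≃+* (B ⊗[A] k') :=
    (Algebra.TensorProduct.cancelBaseChange A p.ResidueField k' k' B).toRingEquiv.trans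
        (Algebra.TensorProduct.comm A k' B).toRingEquiv
  have hB'' : EGA4.IsNormalRing (B ⊗[A] k') :=
    isNormalRing_of_ringEquiv eB ((hAB.2 p) k' inferInstance)
  haveI : IsNoetherianRing (B ⊗[A] k') := by
    haveI := isNoetherianRing_tensor p.ResidueField (p.Fiber B) k'
    exact isNoetherianRing_of_ringEquiv _ eB
  -- (b)
  have eC : (k' ⊗[p.ResidueField] (p.Fiber C)) ≃+* (C ⊗[A] k') :=
    (Algebra.TensorProduct.cancelBaseChange A p.ResidueField k' k' C).toRingEquiv.trans
        (Algebra.TensorProduct.comm A k' C).toRingEquiv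
  haveI hC'' : IsNoetherianRing (C ⊗[A] k') := by
    haveI := isNoetherianRing_tensor p.ResidueField (p.Fiber C) k'
    exact isNoetherianRing_of_ringEquiv _ eC
  -- (c)
  letI : Algebra (B ⊗[A] k') (C ⊗[A] k') :=
    (Algebra.TensorProduct.map (IsScalarTower.toAlgHom A B C) (AlgHom.id A k')).toRingHom.toAlgebra
  haveI : IsScalarTower B (B ⊗[A] k') (C ⊗[A] k') := by
    refine IsScalarTower.of_algebraMap_eq (R := B) (S := B ⊗[A] k') (A := C ⊗[A] k') (fun x => ?_)
    rw [RingHom.algebraMap_toAlgebra
      (Algebra.TensorProduct.map (IsScalarTower.toAlgHom A B C) (AlgHom.id A k')).toRingHom]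
    simp only [Algebra.TensorProduct.algebraMap_apply, AlgHom.toRingHom_eq_coe, RingHom.coe_coe,
      Algebra.TensorProduct.map_tmul, map_one]
    rfl
  haveI hpo : Algebra.IsPushout B C (B ⊗[A] k') (C ⊗[A] k') :=
    Algebra.IsPushout.tensorProduct_tensorProduct A k' B C (by
      ext c
      simp [RingHom.algebraMap_toAlgebra])
  -- (d)
  haveI : Algebra.QuasiFinite A k' := Algebra.QuasiFinite.trans A p.ResidueField k'
  haveI : Algebra.QuasiFinite B (B ⊗[A] k') := inferInstance
  -- (e)
  have := isNormalRing_of_pushout B C (B ⊗[A] k') (C ⊗[A] k') hBC hB''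
  exact isNormalRing_of_ringEquiv eC.symm this

/-- composition of normal homomorphisms -/
theorem isNormalHom_comp [IsNoetherianRing B] [IsNoetherianRing C]
    (hAB : EGA4.IsNormalHom A B) (hBC : EGA4.IsNormalHom B C) :
    EGA4.IsNormalHom A C := by
  haveI := hAB.1
  haveI := hBC.1
  refine ⟨Module.Flat.trans A B C, fun p hp => ?_⟩
  intro k' _ _ hfin
  letI : Algebra A k' := ((algebraMap p.ResidueField k').comp (algebraMap A p.ResidueField)).toAlgebra
  haveI : IsScalarTower A p.ResidueField k' := IsScalarTower.of_algebraMap_eq (fun _ => rfl)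
  exact normal_baseChange_finite A B C p k' hAB hBC

end Comp

end Groth.Agent.Helper2.NorComp
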