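import Mathlib
import Groth.Prelude.Def_Found
import Groth.Prelude.Def_EGA4b
import Groth.Agent.Helper2.CplMap
import Groth.Agent.Helper2.CplIff
import Groth.Agent.Helper2.RedComp
import Groth.Agent.Helper2.FFDesc
import Groth.Agent.Lead.RegLocal
import Groth.Agent.Helper2.NorComp
import Groth.Agent.Helper2.RegComp
import Groth.Agent.Helper4.RegNormal
set_option autoImplicit false
universe u
open IsLocalRing TensorProduct

namespace Groth.Agent.Helper2.CplDesc

theorem isReduced_of_isRegularRing (R : Type u) [CommRing R] [IsRegularRing R] : IsReduced R := by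
  apply isReduced_ofLocalizationMaximal
  intro q hq
  haveI : IsDomain (Localization.AtPrime q) :=
    Groth.Agent.Lead.RegLocal.isDomain_of_isRegularLocalRing _
  infer_instance

theorem geomReduced_of_geomRegular (k F : Type u) [Field k] [CommRing F] [Algebra k F]
    (h : CAlg.IsGeometricallyRegular k F) : Algebra.IsGeometricallyReduced k F := by
  apply Groth.Agent.Helper2.RedComp.isGeometricallyReduced_of_finite
  intro k' _ _ hfin
  haveI := h k' hfin
  exact isReduced_of_isRegularRing _

section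
variable (A A' : Type u) [CommRing A] [CommRing A']
    [IsNoetherianRing A] [IsNoetherianRing A'] [IsLocalRing A] [IsLocalRing A'] [Algebra A A']
    [IsLocalHom (algebraMap A A')]

/-- the statement S4705 -/
theorem hasGeomReducedFormalFibres [Module.Flat A A']
    (hf : ∀ (p : Ideal A) [p.IsPrime], Algebra.IsGeometricallyReduced p.ResidueField (p.Fiber A'))
    (hA' : CAlg.IsRegularHom A' (EGA4.Cpl A')) : EGA4.HasGeomReducedFormalFibres A := by
  haveI := Groth.Agent.Helper2.CplIff.noeth A
  haveI := Groth.Agent.Helper2.CplIff.noeth A'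
  haveI := hA'.1
  have hBC : ∀ (q : Ideal A') [q.IsPrime],
      Algebra.IsGeometricallyReduced q.ResidueField (q.Fiber (EGA4.Cpl A')) :=
    fun q _ => geomReduced_of_geomRegular _ _ (hA'.2 q).2
  obtain ⟨hflat, hAC⟩ := Groth.Agent.Helper2.RedComp.geomReducedFibres_comp A A' (EGA4.Cpl A') hf hBC
  obtain ⟨_, _, hff⟩ := Groth.Agent.Helper2.CplMap.exists_algebra A A'
  intro p hp
  have := hAC p
  exact Algebra.IsGeometricallyReduced.of_injective (k := p.ResidueField)
    (Algebra.TensorProduct.map (AlgHom.id _ _)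
      (IsScalarTower.toAlgHom A (EGA4.Cpl A) (EGA4.Cpl A')))
    (Groth.Agent.Helper2.FFDesc.fiber_map_injective A (EGA4.Cpl A) (EGA4.Cpl A') p.ResidueField)

end

section Desc
variable (A B C : Type u) [CommRing A] [CommRing B] [CommRing C]
    [Algebra A B] [Algebra B C] [Algebra A C] [IsScalarTower A B C]

/-- descent of regularity of `k' ⊗ fibre` along a faithfully flat `B → C`. -/
theorem regular_fiber_descent [IsNoetherianRing B] [Module.FaithfullyFlat B C]
    (p : Ideal A) [p.IsPrime] (k' : Type u) [Field k']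
    [Algebra p.ResidueField k'] [Algebra A k'] [IsScalarTower A p.ResidueField k']
    (h : IsRegularRing (k' ⊗[p.ResidueField] (p.Fiber C))) :
    IsRegularRing (k' ⊗[p.ResidueField] (p.Fiber B)) := by
  have eB : (k' ⊗[p.ResidueField] (p.Fiber B)) ≃+* (B ⊗[A] k') :=
    (Algebra.TensorProduct.cancelBaseChange A p.ResidueField k' k' B).toRingEquiv.trans
        (Algebra.TensorProduct.comm A k' B).toRingEquiv
  have eC : (k' ⊗[p.ResidueField] (p.Fiber C)) ≃+* (C ⊗[A] k') :=
    (Algebra.TensorProduct.cancelBaseChange A p.ResidueField k' k' C).toRingEquiv.trans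
        (Algebra.TensorProduct.comm A k' C).toRingEquiv
  letI : Algebra (B ⊗[A] k') (C ⊗[A] k') :=
    (Algebra.TensorProduct.map (IsScalarTower.toAlgHom A B C) (AlgHom.id A k')).toRingHom.toAlgebra
  haveI : IsScalarTower B (B ⊗[A] k') (C ⊗[A] k') := by
    refine IsScalarTower.of_algebraMap_eq (R := B) (S := B ⊗[A] k') (A := C ⊗[A] k') (fun x => ?_)
    rw [RingHom.algebraMap_toAlgebra
      (Algebra.TensorProduct.map (IsScalarTower.toAlgHom A B C) (AlgHom.id A k')).toRingHom]
    simp only [Algebra.TensorProduct.algebraMap_apply, AlgHom.toRingHom_eq_coe, RingHom.coe_coe,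
      Algebra.TensorProduct.map_tmul, map_one]
    rfl
  haveI hpo : Algebra.IsPushout B C (B ⊗[A] k') (C ⊗[A] k') :=
    Algebra.IsPushout.tensorProduct_tensorProduct A k' B C (by
      ext c
      simp [RingHom.algebraMap_toAlgebra])
  haveI hpo' : Algebra.IsPushout B (B ⊗[A] k') C (C ⊗[A] k') := hpo.symm
  haveI : Module.FaithfullyFlat (B ⊗[A] k') (C ⊗[A] k') :=
    Module.FaithfullyFlat.of_linearEquiv _ _
      (Algebra.IsPushout.equiv B (B ⊗[A] k') C (C ⊗[A] k')).symm.toLinearEquiv
  haveI : IsRegularRing (C ⊗[A] k') :=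
    IsRegularRing.of_ringEquiv (R := k' ⊗[p.ResidueField] (p.Fiber C)) eC
  haveI := Groth.Agent.Helper2.RegDescent.isRegularRing_of_faithfullyFlat (B ⊗[A] k') (C ⊗[A] k')
  exact IsRegularRing.of_ringEquiv (R := B ⊗[A] k') eB.symm

/-- descent of regular homomorphisms along a faithfully flat `B → C`. -/
theorem isRegularHom_descent [IsNoetherianRing B] [Module.FaithfullyFlat B C]
    (hAC : CAlg.IsRegularHom A C) : CAlg.IsRegularHom A B := by
  haveI := hAC.1
  refine ⟨Groth.Agent.Helper2.FFDesc.flat_of_flat_comp A B C, fun p hp =>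
    ⟨Groth.Agent.Helper2.RegBC.isNoetherianRing_fiber A B p, ?_⟩⟩
  intro k' _ _ hfin
  letI : Algebra A k' := ((algebraMap p.ResidueField k').comp (algebraMap A p.ResidueField)).toAlgebra
  haveI : IsScalarTower A p.ResidueField k' := IsScalarTower.of_algebraMap_eq (fun _ => rfl)
  exact regular_fiber_descent A B C p k' ((hAC.2 p).2 k' hfin)

/-- descent of normality of `k' ⊗ fibre` along a faithfully flat `B → C`. -/
theorem normal_fiber_descent [IsNoetherianRing B] [IsNoetherianRing C] [Module.FaithfullyFlat B C]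
    (p : Ideal A) [p.IsPrime] (k' : Type u) [Field k']
    [Algebra p.ResidueField k'] [Algebra A k'] [IsScalarTower A p.ResidueField k']
    [Module.Finite p.ResidueField k']
    (h : EGA4.IsNormalRing (k' ⊗[p.ResidueField] (p.Fiber C))) :
    EGA4.IsNormalRing (k' ⊗[p.ResidueField] (p.Fiber B)) := by
  haveI := Groth.Agent.Helper2.RegBC.isNoetherianRing_fiber A B p
  haveI := Groth.Agent.Helper2.RegBC.isNoetherianRing_fiber A C p
  have eB : (k' ⊗[p.ResidueField] (p.Fiber B)) ≃+* (B ⊗[A] k') :=
    (Algebra.TensorProduct.cancelBaseChange A p.ResidueField k' k' B).toRingEquiv.trans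
        (Algebra.TensorProduct.comm A k' B).toRingEquiv
  have eC : (k' ⊗[p.ResidueField] (p.Fiber C)) ≃+* (C ⊗[A] k') :=
    (Algebra.TensorProduct.cancelBaseChange A p.ResidueField k' k' C).toRingEquiv.trans
        (Algebra.TensorProduct.comm A k' C).toRingEquiv
  haveI : IsNoetherianRing (B ⊗[A] k') := by
    haveI := Groth.Agent.Helper2.GeomNor.isNoetherianRing_tensor p.ResidueField (p.Fiber B) k'
    exact isNoetherianRing_of_ringEquiv _ eB
  haveI : IsNoetherianRing (C ⊗[A] k') := by
    haveI := Groth.Agent.Helper2.GeomNor.isNoetherianRing_tensor p.ResidueField (p.Fiber C) k'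
    exact isNoetherianRing_of_ringEquiv _ eC
  letI : Algebra (B ⊗[A] k') (C ⊗[A] k') :=
    (Algebra.TensorProduct.map (IsScalarTower.toAlgHom A B C) (AlgHom.id A k')).toRingHom.toAlgebra
  haveI : IsScalarTower B (B ⊗[A] k') (C ⊗[A] k') := by
    refine IsScalarTower.of_algebraMap_eq (R := B) (S := B ⊗[A] k') (A := C ⊗[A] k') (fun x => ?_)
    rw [RingHom.algebraMap_toAlgebra
      (Algebra.TensorProduct.map (IsScalarTower.toAlgHom A B C) (AlgHom.id A k')).toRingHom]
    simp only [Algebra.TensorProduct.algebraMap_apply, AlgHom.toRingHom_eq_coe, RingHom.coe_coe,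
      Algebra.TensorProduct.map_tmul, map_one]
    rfl
  haveI hpo : Algebra.IsPushout B C (B ⊗[A] k') (C ⊗[A] k') :=
    Algebra.IsPushout.tensorProduct_tensorProduct A k' B C (by
      ext c
      simp [RingHom.algebraMap_toAlgebra])
  haveI hpo' : Algebra.IsPushout B (B ⊗[A] k') C (C ⊗[A] k') := hpo.symm
  haveI : Module.FaithfullyFlat (B ⊗[A] k') (C ⊗[A] k') :=
    Module.FaithfullyFlat.of_linearEquiv _ _
      (Algebra.IsPushout.equiv B (B ⊗[A] k') C (C ⊗[A] k')).symm.toLinearEquiv
  have hC : EGA4.IsNormalRing (C ⊗[A] k') :=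
    Groth.Agent.Helper2.GeomNor.isNormalRing_of_ringEquiv eC h
  have hB := Groth.Agent.Helper2.GeomNor.isNormalRing_of_faithfullyFlat
    (B ⊗[A] k') (C ⊗[A] k') hC
  exact Groth.Agent.Helper2.GeomNor.isNormalRing_of_ringEquiv eB.symm hB

/-- descent of normal homomorphisms along a faithfully flat `B → C`. -/
theorem isNormalHom_descent [IsNoetherianRing B] [IsNoetherianRing C] [Module.FaithfullyFlat B C]
    (hAC : EGA4.IsNormalHom A C) : EGA4.IsNormalHom A B := by
  haveI := hAC.1
  refine ⟨Groth.Agent.Helper2.FFDesc.flat_of_flat_comp A B C, fun p hp => ?_⟩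
  intro k' _ _ hfin
  letI : Algebra A k' := ((algebraMap p.ResidueField k').comp (algebraMap A p.ResidueField)).toAlgebra
  haveI : IsScalarTower A p.ResidueField k' := IsScalarTower.of_algebraMap_eq (fun _ => rfl)
  exact normal_fiber_descent A B C p k' ((hAC.2 p) k' hfin)

end Desc

section Local
variable (A A' : Type u) [CommRing A] [CommRing A']
    [IsNoetherianRing A] [IsNoetherianRing A'] [IsLocalRing A] [IsLocalRing A'] [Algebra A A']
    [IsLocalHom (algebraMap A A')]

/-- the statement S4704 -/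
theorem isRegularHom_cpl (hf : CAlg.IsRegularHom A A') (hA' : CAlg.IsRegularHom A' (EGA4.Cpl A')) :
    CAlg.IsRegularHom A (EGA4.Cpl A) := by
  haveI := Groth.Agent.Helper2.CplIff.noeth A
  haveI := Groth.Agent.Helper2.CplIff.noeth A'
  haveI := hf.1
  have hAC : CAlg.IsRegularHom A (EGA4.Cpl A') :=
    Groth.Agent.Helper2.RegComp.isRegularHom_comp A A' (EGA4.Cpl A') hf hA'
      (fun p _ => Groth.Agent.Helper2.RegBC.isNoetherianRing_fiber A (EGA4.Cpl A') p)
  obtain ⟨_, _, hff⟩ := Groth.Agent.Helper2.CplMap.exists_algebra A A'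
  exact isRegularHom_descent A (EGA4.Cpl A) (EGA4.Cpl A') hAC

theorem normal_of_isRegularRing (R : Type u) [CommRing R] [IsRegularRing R] :
    EGA4.IsNormalRing R := by
  intro p hp
  exact ⟨Groth.Agent.Lead.RegLocal.isDomain_of_isRegularLocalRing _,
    Groth.Agent.Helper4.RegNormal.isIntegrallyClosed_of_isRegularLocalRing _⟩

theorem isNormalHom_of_isRegularHom (R S : Type u) [CommRing R] [CommRing S] [Algebra R S]
    (h : CAlg.IsRegularHom R S) : EGA4.IsNormalHom R S := by
  refine ⟨h.1, fun p hp k' _ _ hfin => ?_⟩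
  haveI := (h.2 p).2 k' hfin
  exact normal_of_isRegularRing _

/-- the statement S4706 -/
theorem hasGeomNormalFormalFibres (hf : EGA4.IsNormalHom A A')
    (hA' : CAlg.IsRegularHom A' (EGA4.Cpl A')) : EGA4.HasGeomNormalFormalFibres A := by
  haveI := Groth.Agent.Helper2.CplIff.noeth A
  haveI := Groth.Agent.Helper2.CplIff.noeth A'
  haveI := hf.1
  have hAC : EGA4.IsNormalHom A (EGA4.Cpl A') :=
    Groth.Agent.Helper2.NorComp.isNormalHom_comp A A' (EGA4.Cpl A') hf
      (isNormalHom_of_isRegularHom _ _ hA')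
  obtain ⟨_, _, hff⟩ := Groth.Agent.Helper2.CplMap.exists_algebra A A'
  exact (isNormalHom_descent A (EGA4.Cpl A) (EGA4.Cpl A') hAC).2

end Local

end Groth.Agent.Helper2.CplDesc
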