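import Mathlib
import Groth.Prelude.Def_Found
import Groth.Prelude.Def_EGA4b
import Groth.Agent.Helper2.CplMap
import Groth.Agent.Helper3.ComplIso2
set_option autoImplicit false
universe u
open IsLocalRing TensorProduct

namespace Groth.Agent.Helper2.CplQuot

open Groth.Agent.Helper2.CplMap

section
variable (A : Type u) [CommRing A] [IsNoetherianRing A] [IsLocalRing A] (I : Ideal A)
  [Nontrivial (A ⧸ I)]

instance isLocalHom_mk : IsLocalHom (algebraMap A (A ⧸ I)) :=
  IsLocalHom.of_surjective _ Ideal.Quotient.mk_surjective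

lemma map_maximalIdeal :
    (maximalIdeal A).map (algebraMap A (A ⧸ I)) = maximalIdeal (A ⧸ I) := by
  rcases Ideal.map_eq_top_or_isMaximal_of_surjective (algebraMap A (A ⧸ I))
    Ideal.Quotient.mk_surjective (maximalIdeal.isMaximal A) with h | h
  · exact absurd h (IsLocalRing.map_maximalIdeal_lt_top (algebraMap A (A ⧸ I))).ne
  · exact IsLocalRing.eq_maximalIdeal h

lemma residue_surj : Function.Surjective (ResidueField.map (algebraMap A (A ⧸ I))) := by
  intro y
  obtain ⟨b, rfl⟩ := residue_surjective y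
  obtain ⟨a, rfl⟩ := Ideal.Quotient.mk_surjective b
  exact ⟨residue A a, by rw [ResidueField.map_residue]; rfl⟩

/-- the completion map of `A → A/I` is surjective -/
theorem ψ_surjective : Function.Surjective (ψ A (A ⧸ I)) :=
  Groth.Agent.Helper3.ComplIso2.completion_surjective A (A ⧸ I) (ψ A (A ⧸ I)) (ψ_comp A (A ⧸ I))
    (map_maximalIdeal A I) (residue_surj A I)

/-- the kernel of the completion map of `A → A/I` is `I Â`. -/
theorem ker_ψ_le : RingHom.ker (ψ A (A ⧸ I)) ≤
    I.map (algebraMap A (AdicCompletion (maximalIdeal A) A)) := by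
  intro x hx
  rw [RingHom.mem_ker] at hx
  set J := I.map (algebraMap A (AdicCompletion (maximalIdeal A) A)) with hJ
  have key : ∀ n : ℕ, ∃ a ∈ I, x - algebraMap A (AdicCompletion (maximalIdeal A) A) a ∈
      (maximalIdeal A ^ n • ⊤ : Submodule A (AdicCompletion (maximalIdeal A) A)) := by
    intro n
    obtain ⟨a', ha'⟩ := Ideal.Quotient.mk_surjective (AdicCompletion.evalₐ (maximalIdeal A) n x)
    have h1 : AdicCompletion.evalₐ (maximalIdeal A) n (x - algebraMap A _ a') = 0 := by
      rw [map_sub, AdicCompletion.algebraMap_apply, AdicCompletion.evalₐ_of, Algebra.algebraMap_self,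
        RingHom.id_apply, ha', sub_self]
    have h2 := Groth.Agent.Helper3.ComplIso2.eval_compat A (A ⧸ I) (ψ A (A ⧸ I))
      (ψ_comp A (A ⧸ I)) n _ h1
    rw [map_sub, hx, zero_sub, map_neg, neg_eq_zero,
      Groth.Agent.Helper3.ComplIso2.psi_of A (A ⧸ I) (ψ A (A ⧸ I)) (ψ_comp A (A ⧸ I)),
      AdicCompletion.algebraMap_apply, AdicCompletion.evalₐ_of, Algebra.algebraMap_self,
      RingHom.id_apply, Ideal.Quotient.eq_zero_iff_mem, ← map_maximalIdeal A I,
      ← Ideal.map_pow, ← Ideal.mem_comap, Ideal.comap_map_of_surjective (algebraMap A (A ⧸ I))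
        (Ideal.Quotient.mk_surjective (I := I))] at h2
    have hker : Ideal.comap (algebraMap A (A ⧸ I)) ⊥ = I := by
      rw [← RingHom.ker_eq_comap_bot]
      exact Ideal.mk_ker
    rw [hker] at h2
    obtain ⟨r, hr, i, hi, hri⟩ := Submodule.mem_sup.mp h2
    refine ⟨i, hi, ?_⟩
    have h3 : x - algebraMap A _ i = (x - algebraMap A _ a') + r • (1 : AdicCompletion (maximalIdeal A) A) := by
      rw [← hri, map_add, Algebra.smul_def, mul_one]
      ring
    rw [h3]
    refine Submodule.add_mem _ ?_ (Submodule.smul_mem_smul hr Submodule.mem_top)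
    rw [AdicCompletion.pow_smul_top_eq_ker_eval (maximalIdeal A).fg_of_isNoetherianRing,
      LinearMap.mem_ker, ← AdicCompletion.factor_evalₐ_eq_eval _ _ (by simp), h1, _root_.map_zero]
  haveI hH : IsHausdorff (maximalIdeal A) (AdicCompletion (maximalIdeal A) A ⧸ J) := by
    rw [← IsHausdorff.map_algebraMap_iff (S := AdicCompletion (maximalIdeal A) A),
      ← AdicCompletion.maximalIdeal_eq_map]
    infer_instance
  have h0 : Ideal.Quotient.mk J x = 0 := by
    apply hH.haus
    intro n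
    obtain ⟨a, ha, hxa⟩ := key n
    rw [SModEq.zero]
    have h4 : Ideal.Quotient.mk J x = (Submodule.mkQ J).restrictScalars A (x - algebraMap A _ a) := by
      have : Ideal.Quotient.mk J (algebraMap A _ a) = 0 :=
        Ideal.Quotient.eq_zero_iff_mem.mpr (Ideal.mem_map_of_mem _ ha)
      change _ = Ideal.Quotient.mk J (x - algebraMap A _ a)
      rw [map_sub, this, sub_zero]
    rw [h4]
    have h5 := Submodule.mem_map_of_mem (f := (Submodule.mkQ J).restrictScalars A) hxa
    rw [Submodule.map_smul''] at h5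
    exact Submodule.smul_mono le_rfl le_top h5
  exact Ideal.Quotient.eq_zero_iff_mem.mp h0

/-- `Cpl (A/I) ≅ (A/I) ⊗_A Cpl A`. -/
theorem nonempty_algEquiv :
    Nonempty ((A ⧸ I) ⊗[A] EGA4.Cpl A ≃ₐ[A ⧸ I] EGA4.Cpl (A ⧸ I)) := by
  haveI : IsScalarTower A (A ⧸ I) (EGA4.Cpl (A ⧸ I)) :=
    IsScalarTower.of_algebraMap_eq (fun a => rfl)
  let ψa : EGA4.Cpl A →ₐ[A] EGA4.Cpl (A ⧸ I) :=
    { ψ A (A ⧸ I) with commutes' := fun a => RingHom.congr_fun (ψ_comp A (A ⧸ I)) a }
  let f : (A ⧸ I) ⊗[A] EGA4.Cpl A →ₐ[A ⧸ I] EGA4.Cpl (A ⧸ I) :=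
    Algebra.TensorProduct.lift (Algebra.ofId _ _) ψa (fun _ _ => Commute.all _ _)
  have hf : ∀ x : EGA4.Cpl A, f ((1 : A ⧸ I) ⊗ₜ[A] x) = ψ A (A ⧸ I) x := by
    intro x
    simp only [f, Algebra.TensorProduct.lift_tmul, map_one, one_mul]
    rfl
  refine ⟨AlgEquiv.ofBijective f ⟨?_, ?_⟩⟩
  · rw [injective_iff_map_eq_zero]
    intro z hz
    obtain ⟨x, rfl⟩ := Algebra.TensorProduct.includeRight_surjective (R := A) (S := A ⧸ I)
      (EGA4.Cpl A) Ideal.Quotient.mk_surjective z
    rw [Algebra.TensorProduct.includeRight_apply, hf] at hz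
    have hx := ker_ψ_le A I hz
    have hle : I.map (algebraMap A (EGA4.Cpl A)) ≤
        RingHom.ker (Algebra.TensorProduct.includeRight : EGA4.Cpl A →ₐ[A] (A ⧸ I) ⊗[A] EGA4.Cpl A) := by
      rw [Ideal.map_le_iff_le_comap]
      intro a ha
      rw [Ideal.mem_comap, RingHom.mem_ker, Algebra.TensorProduct.includeRight_apply,
        Algebra.algebraMap_eq_smul_one, ← TensorProduct.smul_tmul, ← Algebra.algebraMap_eq_smul_one,
        Ideal.Quotient.algebraMap_eq, Ideal.Quotient.eq_zero_iff_mem.mpr ha, TensorProduct.zero_tmul]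
    exact hle hx
  · intro y
    obtain ⟨x, rfl⟩ := ψ_surjective A I y
    exact ⟨(1 : A ⧸ I) ⊗ₜ[A] x, hf x⟩

end
end Groth.Agent.Helper2.CplQuot
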