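import Mathlib
import Groth.Prelude.Def_Found
import Groth.Prelude.Def_EGA4b
import Groth.Agent.Helper2.RegBC
set_option autoImplicit false
universe u
open IsLocalRing TensorProduct

namespace Groth.Agent.Helper2.RedLoc

/-- geometric reducedness is preserved by algebraic base field extension -/
theorem geomReduced_baseChange_algebraic (k F K : Type u) [Field k] [CommRing F] [Algebra k F]
    [Field K] [Algebra k K] [Algebra.IsAlgebraic k K] [Algebra.IsGeometricallyReduced k F] :
    Algebra.IsGeometricallyReduced K (K ⊗[k] F) := by
  rw [Algebra.isGeometricallyReduced_field_iff]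
  haveI : Algebra.IsAlgebraic k (AlgebraicClosure K) := Algebra.IsAlgebraic.trans k K _
  haveI : IsReduced (AlgebraicClosure K ⊗[k] F) := inferInstance
  let e : AlgebraicClosure K ⊗[K] (K ⊗[k] F) ≃ₐ[AlgebraicClosure K] AlgebraicClosure K ⊗[k] F :=
    Algebra.TensorProduct.cancelBaseChange k K (AlgebraicClosure K) (AlgebraicClosure K) F
  exact isReduced_of_injective e.toRingEquiv e.injective

section
variable (A A' : Type u) [CommRing A] [CommRing A'] [Algebra A A']

/-- the residue field extension of a map which is surjective on stalks is trivial -/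
theorem bijective_algebraMap_residueField (H : (algebraMap A A').SurjectiveOnStalks)
    (p' : Ideal A') [p'.IsPrime] :
    letI := Localization.AtPrime.algebraOfLiesOver (p'.under A) p'
    Function.Bijective (algebraMap (p'.under A).ResidueField p'.ResidueField) := by
  letI := Localization.AtPrime.algebraOfLiesOver (p'.under A) p'
  have hb := H.residueFieldMap_bijective (p'.under A) p' rfl
  have heq : (algebraMap (p'.under A).ResidueField p'.ResidueField) =
      Ideal.ResidueField.map (p'.under A) p' (algebraMap A A') rfl := by
    ext x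
    rfl
  rw [heq]
  exact hb

end

section Loc
variable (A B : Type u) [CommRing A] [CommRing B] [Algebra A B] (S : Submonoid A)
    (A' B' : Type u) [CommRing A'] [CommRing B'] [Algebra A A'] [Algebra B B'] [Algebra A' B']
    [Algebra A B'] [IsScalarTower A A' B'] [IsScalarTower A B B'] [IsLocalization S A']
    [IsLocalization (Algebra.algebraMapSubmonoid B S) B']

include S in
/-- the statement S4757 -/
theorem geomReducedFibres_localization [Module.Flat A B]
    (h : ∀ (p : Ideal A) [p.IsPrime], Algebra.IsGeometricallyReduced p.ResidueField (p.Fiber B)) :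
    Module.Flat A' B' ∧ ∀ (p' : Ideal A') [p'.IsPrime],
      Algebra.IsGeometricallyReduced p'.ResidueField (p'.Fiber B') := by
  have hpo : Algebra.IsPushout A A' B B' := (Algebra.isPushout_of_isLocalization S A' B B').symm
  let e0 : A' ⊗[A] B ≃ₐ[A'] B' := Algebra.IsPushout.equiv A A' B B'
  refine ⟨Module.Flat.of_linearEquiv e0.toLinearEquiv.symm, fun p' hp' => ?_⟩
  set p := p'.under A with hp
  letI := Localization.AtPrime.algebraOfLiesOver p p'
  obtain ⟨e⟩ := Groth.Agent.Helper2.RegBC.nonempty_fiber_algEquiv A A' B p p'
  haveI := h p
  have hbij := bijective_algebraMap_residueField A A'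
    (RingHom.surjectiveOnStalks_of_isLocalization S A') p'
  haveI : Algebra.IsAlgebraic p.ResidueField p'.ResidueField :=
    ⟨fun x => by
      obtain ⟨y, rfl⟩ := hbij.2 x
      exact isAlgebraic_algebraMap y⟩
  haveI := geomReduced_baseChange_algebraic p.ResidueField (p.Fiber B) p'.ResidueField
  let e' : p'.Fiber B' ≃ₐ[p'.ResidueField] p'.Fiber (A' ⊗[A] B) :=
    Algebra.TensorProduct.congr (AlgEquiv.refl : p'.ResidueField ≃ₐ[p'.ResidueField] p'.ResidueField)
      e0.symm
  exact Algebra.IsGeometricallyReduced.of_injective (e'.trans e).toAlgHom (e'.trans e).injective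

end Loc

end Groth.Agent.Helper2.RedLoc
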