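import Mathlib
import Groth.Prelude.Def_Found
import Groth.Prelude.Def_EGA4b
import Groth.Agent.Helper2.RegBC
import Groth.Agent.Helper2.NorBC
set_option autoImplicit false
universe u
open IsLocalRing TensorProduct

namespace Groth.Agent.Helper2.RegBC2

open Groth.Agent.Helper2.GeomNor Groth.Agent.Helper2.GeomNor2 Groth.Agent.Helper2.RegBC
  Groth.Agent.Helper2.NorBC

section Main
variable (A B A' : Type u) [CommRing A] [CommRing B] [CommRing A'] [Algebra A B] [Algebra A A']

/-- base change of a regular homomorphism along an essentially finite type map -/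
theorem isRegularHom_baseChange_essFiniteType [Algebra.EssFiniteType A A']
    (h : CAlg.IsRegularHom A B) : CAlg.IsRegularHom A' (A' ⊗[A] B) := by
  haveI : Module.Flat A B := h.1
  refine ⟨inferInstance, fun p' hp' => ?_⟩
  set p := p'.under A with hp
  letI := Localization.AtPrime.algebraOfLiesOver p p'
  obtain ⟨e⟩ := nonempty_fiber_algEquiv A A' B p p'
  obtain ⟨hN, hG⟩ := h.2 p
  haveI : Algebra.EssFiniteType p.ResidueField p'.ResidueField := inferInstance
  refine ⟨?_, ?_⟩
  · haveI := isNoetherianRing_tensor p.ResidueField (p.Fiber B) p'.ResidueField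
    exact isNoetherianRing_of_ringEquiv _ e.symm.toRingEquiv
  · exact geomRegular_of_algEquiv e.symm
      (Groth.Agent.Helper2.GeomReg.geomRegular_ascent p.ResidueField (p.Fiber B) hG
        p'.ResidueField)

/-- base change of a normal homomorphism along an essentially finite type map -/
theorem isNormalHom_baseChange_essFiniteType [IsNoetherianRing B] [Algebra.EssFiniteType A A']
    (h : EGA4.IsNormalHom A B) : EGA4.IsNormalHom A' (A' ⊗[A] B) := by
  haveI : Module.Flat A B := h.1
  refine ⟨inferInstance, fun p' hp' => ?_⟩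
  set p := p'.under A with hp
  letI := Localization.AtPrime.algebraOfLiesOver p p'
  obtain ⟨e⟩ := nonempty_fiber_algEquiv A A' B p p'
  have hG := h.2 p
  haveI := isNoetherianRing_fiber A B p
  haveI : Algebra.EssFiniteType p.ResidueField p'.ResidueField := inferInstance
  exact geomNormal_of_algEquiv e.symm
    (geomNormal_ascent p.ResidueField (p.Fiber B) hG p'.ResidueField)

end Main

section Transport
variable (A X Y : Type u) [CommRing A] [CommRing X] [CommRing Y] [Algebra A X] [Algebra A Y]

theorem isRegularHom_of_algEquiv (e : X ≃ₐ[A] Y) (h : CAlg.IsRegularHom A X) :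
    CAlg.IsRegularHom A Y := by
  haveI := h.1
  refine ⟨Module.Flat.of_linearEquiv e.toLinearEquiv.symm, fun p hp => ?_⟩
  obtain ⟨hN, hG⟩ := h.2 p
  let e' : p.Fiber X ≃ₐ[p.ResidueField] p.Fiber Y :=
    Algebra.TensorProduct.congr (AlgEquiv.refl : p.ResidueField ≃ₐ[p.ResidueField] p.ResidueField) e
  exact ⟨isNoetherianRing_of_ringEquiv _ e'.toRingEquiv, geomRegular_of_algEquiv e' hG⟩

theorem isNormalHom_of_algEquiv (e : X ≃ₐ[A] Y) (h : EGA4.IsNormalHom A X) :
    EGA4.IsNormalHom A Y := by
  haveI := h.1
  refine ⟨Module.Flat.of_linearEquiv e.toLinearEquiv.symm, fun p hp => ?_⟩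
  let e' : p.Fiber X ≃ₐ[p.ResidueField] p.Fiber Y :=
    Algebra.TensorProduct.congr (AlgEquiv.refl : p.ResidueField ≃ₐ[p.ResidueField] p.ResidueField) e
  exact geomNormal_of_algEquiv e' (h.2 p)

end Transport

section Loc
variable (A B : Type u) [CommRing A] [CommRing B] [Algebra A B] (S : Submonoid A)
    (A' B' : Type u) [CommRing A'] [CommRing B'] [Algebra A A'] [Algebra B B'] [Algebra A' B']
    [Algebra A B'] [IsScalarTower A A' B'] [IsScalarTower A B B'] [IsLocalization S A']
    [IsLocalization (Algebra.algebraMapSubmonoid B S) B']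

include S in
theorem isRegularHom_localization (h : CAlg.IsRegularHom A B) : CAlg.IsRegularHom A' B' := by
  haveI : Algebra.EssFiniteType A A' := Algebra.EssFiniteType.of_isLocalization A' S
  have hpo : Algebra.IsPushout A A' B B' := (Algebra.isPushout_of_isLocalization S A' B B').symm
  exact isRegularHom_of_algEquiv A' _ _ (Algebra.IsPushout.equiv A A' B B')
    (isRegularHom_baseChange_essFiniteType A B A' h)

include S in
theorem isNormalHom_localization [IsNoetherianRing B] (h : EGA4.IsNormalHom A B) :
    EGA4.IsNormalHom A' B' := by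
  haveI : Algebra.EssFiniteType A A' := Algebra.EssFiniteType.of_isLocalization A' S
  have hpo : Algebra.IsPushout A A' B B' := (Algebra.isPushout_of_isLocalization S A' B B').symm
  exact isNormalHom_of_algEquiv A' _ _ (Algebra.IsPushout.equiv A A' B B')
    (isNormalHom_baseChange_essFiniteType A B A' h)

end Loc

end Groth.Agent.Helper2.RegBC2
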