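import Mathlib
import Groth.Prelude.Def_Found
import Groth.Prelude.Def_EGA4b
import Groth.Agent.Helper2.CplQuot
import Groth.Agent.Helper2.RegBC2
import Groth.Agent.Helper2.NorBC
import Groth.Agent.Helper2.CplIff
import Groth.Agent.Helper2.RedLoc
import Groth.Agent.Helper2.SnFib
set_option autoImplicit false
universe u
open IsLocalRing TensorProduct

namespace Groth.Agent.Helper2.CplQuot2

theorem isCohenMacaulayRing_of_ringEquiv {R R' : Type u} [CommRing R] [CommRing R']
    [IsNoetherianRing R] [IsNoetherianRing R'] (e : R ≃+* R') (h : LocCoh.IsCohenMacaulayRing R) :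
    LocCoh.IsCohenMacaulayRing R' := by
  rw [Groth.Agent.Helper2.SnFib.isCohenMacaulayRing_iff] at h ⊢
  exact fun n => Groth.Agent.Helper2.SkFlat.hasSk_of_ringEquiv e n (h n)

section BC
variable (A A' B : Type u) [CommRing A] [CommRing A'] [CommRing B] [Algebra A A'] [Algebra A B]

/-- base change of geometrically reduced fibres along a map which is surjective on stalks -/
theorem geomReducedFibres_baseChange (H : (algebraMap A A').SurjectiveOnStalks)
    (h : ∀ (p : Ideal A) [p.IsPrime], Algebra.IsGeometricallyReduced p.ResidueField (p.Fiber B))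
    (p' : Ideal A') [p'.IsPrime] :
    Algebra.IsGeometricallyReduced p'.ResidueField (p'.Fiber (A' ⊗[A] B)) := by
  set p := p'.under A with hp
  letI := Localization.AtPrime.algebraOfLiesOver p p'
  obtain ⟨e⟩ := Groth.Agent.Helper2.RegBC.nonempty_fiber_algEquiv A A' B p p'
  haveI := h p
  have hbij := Groth.Agent.Helper2.RedLoc.bijective_algebraMap_residueField A A' H p'
  haveI : Algebra.IsAlgebraic p.ResidueField p'.ResidueField :=
    ⟨fun x => by
      obtain ⟨y, rfl⟩ := hbij.2 x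
      exact isAlgebraic_algebraMap y⟩
  haveI := Groth.Agent.Helper2.RedLoc.geomReduced_baseChange_algebraic p.ResidueField (p.Fiber B)
    p'.ResidueField
  exact Algebra.IsGeometricallyReduced.of_injective e.toAlgHom e.injective

/-- the fibres of the base change along a map surjective on stalks are the original fibres -/
theorem nonempty_fiber_ringEquiv (H : (algebraMap A A').SurjectiveOnStalks)
    (p' : Ideal A') [p'.IsPrime] :
    Nonempty ((p'.under A).Fiber B ≃+* p'.Fiber (A' ⊗[A] B)) := by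
  set p := p'.under A with hp
  letI := Localization.AtPrime.algebraOfLiesOver p p'
  obtain ⟨e⟩ := Groth.Agent.Helper2.RegBC.nonempty_fiber_algEquiv A A' B p p'
  have hbij := Groth.Agent.Helper2.RedLoc.bijective_algebraMap_residueField A A' H p'
  let e0 : p.ResidueField ≃ₐ[p.ResidueField] p'.ResidueField :=
    AlgEquiv.ofBijective (Algebra.ofId p.ResidueField p'.ResidueField) hbij
  let e1 : p.ResidueField ⊗[p.ResidueField] (p.Fiber B) ≃ₐ[p.ResidueField]
      p'.ResidueField ⊗[p.ResidueField] (p.Fiber B) :=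
    Algebra.TensorProduct.congr e0 AlgEquiv.refl
  let e2 : p.ResidueField ⊗[p.ResidueField] (p.Fiber B) ≃ₐ[p.ResidueField] p.Fiber B :=
    Algebra.TensorProduct.lid p.ResidueField (p.Fiber B)
  exact ⟨(e2.symm.toRingEquiv.trans e1.toRingEquiv).trans e.symm.toRingEquiv⟩

end BC

section
variable (A : Type u) [CommRing A] [IsNoetherianRing A] [IsLocalRing A] (I : Ideal A)
  [Nontrivial (A ⧸ I)]

theorem isRegularHom_cpl_quotient (hA : CAlg.IsRegularHom A (EGA4.Cpl A)) :
    CAlg.IsRegularHom (A ⧸ I) (EGA4.Cpl (A ⧸ I)) := by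
  obtain ⟨e⟩ := Groth.Agent.Helper2.CplQuot.nonempty_algEquiv A I
  exact Groth.Agent.Helper2.RegBC2.isRegularHom_of_algEquiv (A ⧸ I) _ _ e
    (Groth.Agent.Helper2.RegBC.isRegularHom_baseChange A (EGA4.Cpl A) (A ⧸ I)
      (Or.inr inferInstance) hA)

theorem hasGeomNormalFormalFibres_quotient (hA : EGA4.HasGeomNormalFormalFibres A) :
    EGA4.HasGeomNormalFormalFibres (A ⧸ I) := by
  obtain ⟨e⟩ := Groth.Agent.Helper2.CplQuot.nonempty_algEquiv A I
  haveI := Groth.Agent.Helper2.CplIff.noeth A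
  haveI := Groth.Agent.Helper2.CplIff.ff A
  have h1 : EGA4.IsNormalHom A (EGA4.Cpl A) := ⟨inferInstance, hA⟩
  exact (Groth.Agent.Helper2.RegBC2.isNormalHom_of_algEquiv (A ⧸ I) _ _ e
    (Groth.Agent.Helper2.NorBC.isNormalHom_baseChange A (EGA4.Cpl A) (A ⧸ I)
      (Or.inr inferInstance) h1)).2

theorem hasGeomReducedFormalFibres_quotient (hA : EGA4.HasGeomReducedFormalFibres A) :
    EGA4.HasGeomReducedFormalFibres (A ⧸ I) := by
  obtain ⟨e⟩ := Groth.Agent.Helper2.CplQuot.nonempty_algEquiv A I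
  intro q hq
  haveI := geomReducedFibres_baseChange A (A ⧸ I) (EGA4.Cpl A)
    (RingHom.surjectiveOnStalks_of_surjective Ideal.Quotient.mk_surjective) hA q
  let e' : q.Fiber ((A ⧸ I) ⊗[A] EGA4.Cpl A) ≃ₐ[q.ResidueField] q.Fiber (EGA4.Cpl (A ⧸ I)) :=
    Algebra.TensorProduct.congr (AlgEquiv.refl : q.ResidueField ≃ₐ[q.ResidueField] q.ResidueField) e
  change Algebra.IsGeometricallyReduced q.ResidueField (q.Fiber (EGA4.Cpl (A ⧸ I)))
  let g : q.Fiber (EGA4.Cpl (A ⧸ I)) →ₐ[q.ResidueField] q.Fiber ((A ⧸ I) ⊗[A] EGA4.Cpl A) :=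
    e'.symm.toAlgHom
  have hg : Function.Injective g := e'.symm.injective
  exact Algebra.IsGeometricallyReduced.of_injective (k := q.ResidueField)
    (A := q.Fiber (EGA4.Cpl (A ⧸ I))) (B := q.Fiber ((A ⧸ I) ⊗[A] EGA4.Cpl A)) g hg

theorem hasCMFormalFibres_quotient (hA : EGA4.HasCMFormalFibres A) :
    EGA4.HasCMFormalFibres (A ⧸ I) := by
  obtain ⟨e⟩ := Groth.Agent.Helper2.CplQuot.nonempty_algEquiv A I
  intro q hq
  obtain ⟨e1⟩ := nonempty_fiber_ringEquiv A (A ⧸ I) (EGA4.Cpl A)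
    (RingHom.surjectiveOnStalks_of_surjective Ideal.Quotient.mk_surjective) q
  let e' : q.Fiber ((A ⧸ I) ⊗[A] EGA4.Cpl A) ≃ₐ[q.ResidueField] q.Fiber (EGA4.Cpl (A ⧸ I)) :=
    Algebra.TensorProduct.congr (AlgEquiv.refl : q.ResidueField ≃ₐ[q.ResidueField] q.ResidueField) e
  have h1 := hA (q.under A)
  haveI := Groth.Agent.Helper2.CplIff.noeth A
  haveI := Groth.Agent.Helper2.CplIff.noeth (A ⧸ I)
  haveI := Groth.Agent.Helper2.RegBC.isNoetherianRing_fiber A (EGA4.Cpl A) (q.under A)
  haveI := Groth.Agent.Helper2.RegBC.isNoetherianRing_fiber (A ⧸ I) (EGA4.Cpl (A ⧸ I)) q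
  exact isCohenMacaulayRing_of_ringEquiv (e1.trans e'.toRingEquiv) h1

end
end Groth.Agent.Helper2.CplQuot2
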