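import Mathlib
import Groth.Prelude.Def_Found
import Groth.Prelude.Def_EGA4b
import Groth.Agent.Helper2.RegBC
import Groth.Agent.Helper2.NormalPt
import Groth.Agent.Helper2.RedAscent
import Groth.Agent.Helper2.RedComp
import Groth.Agent.Helper2.CplCM
import Groth.Agent.Helper2.CplIff
import Groth.Agent.Helper2.CplDesc
import Groth.Agent.Helper2.GeomNor
import Groth.Agent.Helper2.CplQuot2
set_option autoImplicit false
universe u
open IsLocalRing TensorProduct

namespace Groth.Agent.Helper2.FinDom

section Constr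
variable (A : Type u) [CommRing A] (p : Ideal A) [p.IsPrime]
    (k' : Type u) [Field k'] [Algebra p.ResidueField k'] [Module.Finite p.ResidueField k']
    [Algebra A k'] [IsScalarTower A p.ResidueField k']

omit [Module.Finite p.ResidueField k'] in
lemma algebraMap_eq_zero_iff (d : A) : algebraMap A k' d = 0 ↔ d ∈ p := by
  rw [IsScalarTower.algebraMap_apply A p.ResidueField k', map_eq_zero_iff _ (algebraMap p.ResidueField k').injective,
    Ideal.algebraMap_residueField_eq_zero]

include p in
/-- every finite extension of `κ(p)` is the fraction field of a finite `A`-subalgebra. -/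
theorem exists_finite_domain :
    ∃ (B : Subalgebra A k'), Module.Finite A B ∧ IsFractionRing B k' := by
  classical
  letI : Algebra (A ⧸ p) k' :=
    ((algebraMap p.ResidueField k').comp (algebraMap (A ⧸ p) p.ResidueField)).toAlgebra
  haveI : IsScalarTower (A ⧸ p) p.ResidueField k' := IsScalarTower.of_algebraMap_eq fun _ => rfl
  haveI : IsScalarTower A (A ⧸ p) k' := IsScalarTower.of_algebraMap_eq fun a => by
    rw [IsScalarTower.algebraMap_apply A p.ResidueField k', RingHom.algebraMap_toAlgebra,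
      RingHom.comp_apply, ← IsScalarTower.algebraMap_apply A (A ⧸ p) p.ResidueField]
  obtain ⟨s, hs⟩ := (Module.Finite.fg_top : (⊤ : Submodule p.ResidueField k').FG)
  haveI : Algebra.IsAlgebraic (A ⧸ p) p.ResidueField :=
    IsLocalization.isAlgebraic _ (nonZeroDivisors (A ⧸ p))
  haveI : Algebra.IsAlgebraic p.ResidueField k' := inferInstance
  haveI : Algebra.IsAlgebraic (A ⧸ p) k' := Algebra.IsAlgebraic.trans (A ⧸ p) p.ResidueField k'
  obtain ⟨y, hy0, hy⟩ := Algebra.IsAlgebraic.exists_integral_multiples (A ⧸ p) s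
  obtain ⟨y', rfl⟩ := Ideal.Quotient.mk_surjective y
  have hy'p : y' ∉ p := fun h => hy0 (Ideal.Quotient.eq_zero_iff_mem.mpr h)
  let S' : Set k' := (fun z => y' • z) '' (s : Set k')
  have hsmul : ∀ z : k', Ideal.Quotient.mk p y' • z = y' • z := fun z => by
    rw [Algebra.smul_def, Algebra.smul_def, IsScalarTower.algebraMap_apply A (A ⧸ p) k']
    rfl
  refine ⟨Algebra.adjoin A S', ?_, ?_⟩
  · have hfin : S'.Finite := (Finset.finite_toSet s).image _
    have hint : ∀ x ∈ S', IsIntegral A x := by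
      rintro _ ⟨z, hz, rfl⟩
      have h1 : IsIntegral (A ⧸ p) (Ideal.Quotient.mk p y' • z) := hy z hz
      have h2 : IsIntegral A (Ideal.Quotient.mk p y' • z) := isIntegral_trans _ h1
      rw [hsmul] at h2
      exact h2
    exact Module.Finite.iff_fg.mpr (fg_adjoin_of_finite hfin hint)
  · have claim : ∀ z : k', ∃ d : A, d ∉ p ∧ d • z ∈ Algebra.adjoin A S' := by
      intro z
      have hz : z ∈ Submodule.span p.ResidueField (s : Set k') := by rw [hs]; trivial
      induction hz using Submodule.span_induction with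
      | mem x hx => exact ⟨y', hy'p, Algebra.subset_adjoin ⟨x, hx, rfl⟩⟩
      | zero => exact ⟨1, fun h => (Ideal.IsPrime.ne_top inferInstance) ((Ideal.eq_top_iff_one p).mpr h),
          by rw [smul_zero]; exact Subalgebra.zero_mem _⟩
      | add x₁ x₂ _ _ h₁ h₂ =>
        obtain ⟨d₁, hd₁, hm₁⟩ := h₁
        obtain ⟨d₂, hd₂, hm₂⟩ := h₂
        refine ⟨d₁ * d₂, fun h => ((Ideal.IsPrime.mem_or_mem inferInstance h).elim hd₁ hd₂), ?_⟩
        have : (d₁ * d₂) • (x₁ + x₂) = d₂ • (d₁ • x₁) + d₁ • (d₂ • x₂) := by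
          rw [smul_add, mul_comm d₁ d₂, mul_smul, mul_comm d₂ d₁, mul_smul]
        rw [this]
        exact Subalgebra.add_mem _ (Subalgebra.smul_mem _ hm₁ _) (Subalgebra.smul_mem _ hm₂ _)
      | smul c x _ h =>
        obtain ⟨d, hd, hm⟩ := h
        obtain ⟨⟨a, t⟩, hat⟩ := IsLocalization.surj (nonZeroDivisors (A ⧸ p)) c
        obtain ⟨a', rfl⟩ := Ideal.Quotient.mk_surjective a
        obtain ⟨t', ht'⟩ := Ideal.Quotient.mk_surjective (t : A ⧸ p)
        have ht'p : t' ∉ p := fun h => by
          have : (t : A ⧸ p) = 0 := by rw [← ht']; exact Ideal.Quotient.eq_zero_iff_mem.mpr h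
          exact nonZeroDivisors.coe_ne_zero t this
        refine ⟨t' * d, fun h => ((Ideal.IsPrime.mem_or_mem inferInstance h).elim ht'p hd), ?_⟩
        have : (t' * d) • (c • x) = a' • (d • x) := by
          simp only [Algebra.smul_def]
          have h1 : algebraMap A k' t' * algebraMap p.ResidueField k' c = algebraMap A k' a' := by
            rw [IsScalarTower.algebraMap_apply A p.ResidueField k' t',
              IsScalarTower.algebraMap_apply A p.ResidueField k' a', ← map_mul,
              IsScalarTower.algebraMap_apply A (A ⧸ p) p.ResidueField t',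
              IsScalarTower.algebraMap_apply A (A ⧸ p) p.ResidueField a']
            congr 1
            rw [mul_comm]
            simp only [Ideal.Quotient.algebraMap_eq, ht']
            exact hat
          rw [map_mul, ← h1]
          ring
        rw [this]
        exact Subalgebra.smul_mem _ hm _
    apply IsFractionRing.of_field
    intro z
    obtain ⟨d, hd, hm⟩ := claim z
    refine ⟨⟨d • z, hm⟩, ⟨algebraMap A k' d, Subalgebra.algebraMap_mem _ d⟩, ?_⟩
    have hd0 : algebraMap A k' d ≠ 0 := fun h => hd ((algebraMap_eq_zero_iff A p k' d).mp h)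
    change z = (d • z) / (algebraMap A k' d)
    rw [Algebra.smul_def, mul_div_cancel_left₀ _ hd0]

end Constr

section Loc
variable {B C K : Type u} [CommRing B] [IsDomain B] [CommRing C] [Algebra B C] [Field K]
    [Algebra B K] [IsFractionRing B K]

theorem comap_comap_eq_bot (Q : Ideal (C ⊗[B] K)) [Q.IsPrime] :
    (Q.comap (algebraMap C (C ⊗[B] K))).comap (algebraMap B C) = ⊥ := by
  rw [eq_bot_iff]
  intro b hb
  rw [Ideal.mem_comap, Ideal.mem_comap] at hb
  by_contra hb0
  have hbM : algebraMap B C b ∈ Algebra.algebraMapSubmonoid C (nonZeroDivisors B) :=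
    Algebra.mem_algebraMapSubmonoid_of_mem ⟨b, mem_nonZeroDivisors_of_ne_zero hb0⟩
  have hu := IsLocalization.map_units (C ⊗[B] K) ⟨_, hbM⟩
  exact (Ideal.IsPrime.ne_top inferInstance) (Ideal.eq_top_of_isUnit_mem _ hb hu)

noncomputable def locEquiv (Q : Ideal (C ⊗[B] K)) [Q.IsPrime] :
    Localization.AtPrime (Q.comap (algebraMap C (C ⊗[B] K))) ≃+* Localization.AtPrime Q :=
  haveI : IsLocalization.AtPrime (Localization.AtPrime Q) (Q.comap (algebraMap C (C ⊗[B] K))) :=
    IsLocalization.isLocalization_isLocalization_atPrime_isLocalization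
      (Algebra.algebraMapSubmonoid C (nonZeroDivisors B)) (Localization.AtPrime Q) Q
  (IsLocalization.algEquiv (Q.comap (algebraMap C (C ⊗[B] K))).primeCompl
    (Localization.AtPrime (Q.comap (algebraMap C (C ⊗[B] K)))) (Localization.AtPrime Q)).toRingEquiv

end Loc

section Fib
variable (B C : Type u) [CommRing B] [CommRing C] [Algebra B C]

/-- over the zero ideal the fibre local ring is the local ring -/
theorem nonempty_fibLocRing_equiv (q : Ideal C) [q.IsPrime] (hq : q.comap (algebraMap B C) = ⊥) :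
    Nonempty (EGA4.FibLocRing B C q ≃+* Localization.AtPrime q) := by
  have hI : (q.comap (algebraMap B C)).map (algebraMap B (Localization.AtPrime q)) = ⊥ := by
    rw [hq, Ideal.map_bot]
  exact ⟨(Ideal.quotEquivOfEq hI).trans (RingEquiv.quotientBot _)⟩

end Fib

theorem isReduced_of_forall_maximal (R : Type u) [CommRing R]
    (h : ∀ (Q : Ideal R) [Q.IsMaximal], IsReduced (Localization.AtPrime Q)) : IsReduced R :=
  isReduced_ofLocalizationMaximal R (fun Q _ => h Q)

section Main
variable (A : Type u) [CommRing A]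

/-- `k' ⊗_κ(p) (κ(p) ⊗_A Â) ≅ (B ⊗_A Â) ⊗_B k'` -/
theorem nonempty_equiv (p : Ideal A) [p.IsPrime] (k' : Type u) [Field k']
    [Algebra p.ResidueField k'] [Algebra A k'] [IsScalarTower A p.ResidueField k']
    (B : Type u) [CommRing B] [Algebra A B] [Algebra B k'] [IsScalarTower A B k']
    (Â : Type u) [CommRing Â] [Algebra A Â] :
    Nonempty (k' ⊗[p.ResidueField] (p.Fiber Â) ≃+* (B ⊗[A] Â) ⊗[B] k') := by
  let e1 : k' ⊗[p.ResidueField] (p.ResidueField ⊗[A] Â) ≃ₐ[k'] k' ⊗[A] Â :=
    Algebra.TensorProduct.cancelBaseChange A p.ResidueField k' k' Â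
  let e2 : k' ⊗[B] (B ⊗[A] Â) ≃ₐ[k'] k' ⊗[A] Â :=
    Algebra.TensorProduct.cancelBaseChange A B k' k' Â
  let e3 : (B ⊗[A] Â) ⊗[B] k' ≃ₐ[B] k' ⊗[B] (B ⊗[A] Â) := Algebra.TensorProduct.comm B _ _
  exact ⟨(e1.toRingEquiv.trans e2.symm.toRingEquiv).trans e3.symm.toRingEquiv⟩

variable [IsNoetherianRing A] [IsLocalRing A]

/-- the statement S4703 -/
theorem isRegularHom_cpl_iff :
    CAlg.IsRegularHom A (EGA4.Cpl A) ↔
      ∀ (B : Type u) [CommRing B] [IsDomain B] [Algebra A B] [Module.Finite A B]
        (q : Ideal (B ⊗[A] EGA4.Cpl A)) [q.IsPrime],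
        q.comap (algebraMap B (B ⊗[A] EGA4.Cpl A)) = ⊥ →
          IsRegularLocalRing (Localization.AtPrime q) := by
  haveI := Groth.Agent.Helper2.CplIff.noeth A
  haveI := Groth.Agent.Helper2.CplIff.ff A
  constructor
  · intro h B _ _ _ _ q _ hq
    have hBC : CAlg.IsRegularHom B (B ⊗[A] EGA4.Cpl A) :=
      Groth.Agent.Helper2.RegBC.isRegularHom_baseChange A (EGA4.Cpl A) B (Or.inr inferInstance) h
    have hreg : IsRegularRing ((q.comap (algebraMap B (B ⊗[A] EGA4.Cpl A))).Fiber
        (B ⊗[A] EGA4.Cpl A)) :=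
      Groth.Agent.Helper2.CplCM.regular_of_geomRegular_self (hBC.2 _).2
    have h1 := Groth.Agent.Helper2.NormalPt.fibLocRing_regular B (B ⊗[A] EGA4.Cpl A) q hreg
    obtain ⟨e⟩ := nonempty_fibLocRing_equiv B (B ⊗[A] EGA4.Cpl A) q hq
    exact IsRegularLocalRing.of_ringEquiv e
  · intro H
    refine ⟨inferInstance, fun p hp =>
      ⟨Groth.Agent.Helper2.RegBC.isNoetherianRing_fiber A (EGA4.Cpl A) p, ?_⟩⟩
    intro k' _ _ hfin
    haveI := hfin
    haveI := Groth.Agent.Helper2.RegBC.isNoetherianRing_fiber A (EGA4.Cpl A) p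
    letI : Algebra A k' :=
      ((algebraMap p.ResidueField k').comp (algebraMap A p.ResidueField)).toAlgebra
    haveI : IsScalarTower A p.ResidueField k' := IsScalarTower.of_algebraMap_eq fun _ => rfl
    obtain ⟨B, hBfin, hBfrac⟩ := exists_finite_domain A p k'
    obtain ⟨e⟩ := nonempty_equiv A p k' B (EGA4.Cpl A)
    haveI : IsNoetherianRing (k' ⊗[p.ResidueField] (p.Fiber (EGA4.Cpl A))) :=
      Groth.Agent.Helper2.GeomNor.isNoetherianRing_tensor _ _ _
    haveI : IsNoetherianRing ((B ⊗[A] EGA4.Cpl A) ⊗[B] k') :=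
      isNoetherianRing_of_ringEquiv (k' ⊗[p.ResidueField] (p.Fiber (EGA4.Cpl A))) e
    haveI : IsRegularRing ((B ⊗[A] EGA4.Cpl A) ⊗[B] k') := by
      rw [isRegularRing_iff]
      intro Q hQ
      haveI := H B (Q.comap (algebraMap _ _)) (comap_comap_eq_bot Q)
      exact IsRegularLocalRing.of_ringEquiv (locEquiv Q)
    exact IsRegularRing.of_ringEquiv e.symm

/-- the statement S4743 -/
theorem hasGeomReducedFormalFibres_iff :
    EGA4.HasGeomReducedFormalFibres A ↔
      ∀ (B : Type u) [CommRing B] [IsDomain B] [Algebra A B] [Module.Finite A B]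
        (q : Ideal (B ⊗[A] EGA4.Cpl A)) [q.IsPrime],
        q.comap (algebraMap B (B ⊗[A] EGA4.Cpl A)) = ⊥ → IsReduced (Localization.AtPrime q) := by
  haveI := Groth.Agent.Helper2.CplIff.noeth A
  haveI := Groth.Agent.Helper2.CplIff.ff A
  constructor
  · intro h B _ _ _ _ q _ hq
    set p₀ := q.comap (algebraMap B (B ⊗[A] EGA4.Cpl A)) with hp₀
    set p := p₀.under A with hp
    letI := Localization.AtPrime.algebraOfLiesOver p p₀
    obtain ⟨e⟩ := Groth.Agent.Helper2.RegBC.nonempty_fiber_algEquiv A B (EGA4.Cpl A) p p₀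
    haveI : Algebra.IsGeometricallyReduced p.ResidueField (p.Fiber (EGA4.Cpl A)) := h p
    haveI : Module.Finite p.ResidueField p₀.ResidueField := inferInstance
    haveI : Algebra.IsAlgebraic p.ResidueField p₀.ResidueField := inferInstance
    haveI := Groth.Agent.Helper2.RedLoc.geomReduced_baseChange_algebraic p.ResidueField
      (p.Fiber (EGA4.Cpl A)) p₀.ResidueField
    haveI : Algebra.IsGeometricallyReduced p₀.ResidueField (p₀.Fiber (B ⊗[A] EGA4.Cpl A)) :=
      Algebra.IsGeometricallyReduced.of_injective (k := p₀.ResidueField)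
        (A := p₀.Fiber (B ⊗[A] EGA4.Cpl A))
        (B := p₀.ResidueField ⊗[p.ResidueField] (p.Fiber (EGA4.Cpl A))) e.toAlgHom e.injective
    have hred : IsReduced (p₀.Fiber (B ⊗[A] EGA4.Cpl A)) :=
      Algebra.isReduced_of_isGeometricallyReduced (A := p₀.Fiber (B ⊗[A] EGA4.Cpl A))
        p₀.ResidueField
    have h1 := Groth.Agent.Helper2.RedAscent.fibLocRing_reduced B (B ⊗[A] EGA4.Cpl A) q hred
    obtain ⟨e'⟩ := nonempty_fibLocRing_equiv B (B ⊗[A] EGA4.Cpl A) q hq
    exact isReduced_of_injective e'.symm e'.symm.injective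
  · intro H p hp
    apply Groth.Agent.Helper2.RedComp.isGeometricallyReduced_of_finite
    intro k' _ _ hfin
    haveI := hfin
    letI : Algebra A k' :=
      ((algebraMap p.ResidueField k').comp (algebraMap A p.ResidueField)).toAlgebra
    haveI : IsScalarTower A p.ResidueField k' := IsScalarTower.of_algebraMap_eq fun _ => rfl
    obtain ⟨B, hBfin, hBfrac⟩ := exists_finite_domain A p k'
    obtain ⟨e⟩ := nonempty_equiv A p k' B (EGA4.Cpl A)
    haveI : IsReduced ((B ⊗[A] EGA4.Cpl A) ⊗[B] k') := by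
      refine isReduced_of_forall_maximal ((B ⊗[A] EGA4.Cpl A) ⊗[B] k') (fun Q hQ => ?_)
      haveI := H B (Q.comap (algebraMap _ _)) (comap_comap_eq_bot Q)
      exact isReduced_of_injective (locEquiv Q).symm (locEquiv Q).symm.injective
    exact isReduced_of_injective e e.injective

end Main

end Groth.Agent.Helper2.FinDom
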