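import Mathlib
import Groth.Prelude.Def_Found
import Groth.Prelude.Def_EGA4b
import Groth.Agent.Helper2.RegBC
import Groth.Agent.Helper2.GeomNor
import Groth.Agent.Helper2.RedComp
import Groth.Agent.Helper2.FinDom
set_option autoImplicit false
universe u
open IsLocalRing TensorProduct

namespace Groth.Agent.Helper2.LocHom

theorem isRegularRing_of_subsingleton (R : Type u) [CommRing R] [Subsingleton R] :
    IsRegularRing R := by
  rw [isRegularRing_iff]
  intro p hp
  exact absurd (Subsingleton.elim _ _) hp.ne_top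

theorem isNormalRing_of_subsingleton (R : Type u) [CommRing R] [Subsingleton R] :
    EGA4.IsNormalRing R := by
  intro p hp
  exact absurd (Subsingleton.elim _ _) hp.ne_top

theorem isNormalRing_of_field (K : Type u) [Field K] : EGA4.IsNormalRing K := by
  intro p hp
  exact ⟨inferInstance, inferInstance⟩

section L1
variable (A : Type u) [CommRing A] (S : Submonoid A) (A' : Type u) [CommRing A'] [Algebra A A']
    [IsLocalization S A']

include S in
theorem fibre_localization (p : Ideal A) [p.IsPrime] (k' : Type u) [Field k']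
    [Algebra p.ResidueField k'] :
    Subsingleton (k' ⊗[p.ResidueField] (p.Fiber A')) ∨
      Nonempty (k' ≃+* k' ⊗[p.ResidueField] (p.Fiber A')) := by
  letI : Algebra A k' :=
    ((algebraMap p.ResidueField k').comp (algebraMap A p.ResidueField)).toAlgebra
  haveI : IsScalarTower A p.ResidueField k' := IsScalarTower.of_algebraMap_eq fun _ => rfl
  let e1 : k' ⊗[p.ResidueField] (p.ResidueField ⊗[A] A') ≃ₐ[k'] k' ⊗[A] A' :=
    Algebra.TensorProduct.cancelBaseChange A p.ResidueField k' k' A'
  haveI : IsLocalization (Algebra.algebraMapSubmonoid k' S) (k' ⊗[A] A') :=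
    IsLocalization.tensor A' S
  by_cases h0 : (0 : k') ∈ Algebra.algebraMapSubmonoid k' S
  · left
    haveI : Subsingleton (k' ⊗[A] A') := IsLocalization.subsingleton h0
    exact e1.toEquiv.subsingleton
  · right
    have H : Algebra.algebraMapSubmonoid k' S ≤ IsUnit.submonoid k' := fun x hx => by
      have : x ≠ 0 := fun h => h0 (h ▸ hx)
      exact this.isUnit
    exact ⟨(IsLocalization.atUnits k' _ H).toRingEquiv.trans e1.symm.toRingEquiv⟩

include S in
theorem isNoetherianRing_fiber_localization (p : Ideal A) [p.IsPrime] :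
    IsNoetherianRing (p.Fiber A') := by
  haveI : IsLocalization (Algebra.algebraMapSubmonoid p.ResidueField S) (p.ResidueField ⊗[A] A') :=
    IsLocalization.tensor A' S
  exact IsLocalization.isNoetherianRing (Algebra.algebraMapSubmonoid p.ResidueField S) _ inferInstance

include S in
theorem isRegularHom_localization_self : CAlg.IsRegularHom A A' := by
  refine ⟨IsLocalization.flat A' S, fun p hp =>
    ⟨isNoetherianRing_fiber_localization A S A' p, ?_⟩⟩
  intro k' _ _ hfin
  rcases fibre_localization A S A' p k' with h | ⟨⟨e⟩⟩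
  · exact isRegularRing_of_subsingleton _
  · exact IsRegularRing.of_ringEquiv e

include S in
theorem isNormalHom_localization_self : EGA4.IsNormalHom A A' := by
  refine ⟨IsLocalization.flat A' S, fun p hp => ?_⟩
  intro k' _ _ hfin
  rcases fibre_localization A S A' p k' with h | ⟨⟨e⟩⟩
  · exact isNormalRing_of_subsingleton _
  · exact Groth.Agent.Helper2.GeomNor.isNormalRing_of_ringEquiv e (isNormalRing_of_field k')

include S in
theorem geomReducedFibres_localization_self (p : Ideal A) [p.IsPrime] :
    Algebra.IsGeometricallyReduced p.ResidueField (p.Fiber A') := by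
  apply Groth.Agent.Helper2.RedComp.isGeometricallyReduced_of_finite
  intro k' _ _ hfin
  rcases fibre_localization A S A' p k' with h | ⟨⟨e⟩⟩
  · infer_instance
  · exact isReduced_of_injective e.symm e.symm.injective

end L1

section L2
variable (B S : Type u) [CommRing B] [CommRing S] [Algebra B S]

/-- every local ring of a `B`-algebra `S` is a local ring of `S ⊗_B B_M` for a maximal `M`. -/
theorem exists_maximal_locEquiv (Q : Ideal S) [Q.IsPrime] :
    ∃ (M : Ideal B) (_ : M.IsMaximal) (Q' : Ideal (S ⊗[B] Localization.AtPrime M))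
      (_ : Q'.IsPrime), Nonempty (Localization.AtPrime Q ≃+* Localization.AtPrime Q') := by
  obtain ⟨M, hM, hle⟩ := Ideal.exists_le_maximal (Q.comap (algebraMap B S))
    (Ideal.comap_ne_top _ (Ideal.IsPrime.ne_top inferInstance))
  haveI := hM
  haveI hloc : IsLocalization (Algebra.algebraMapSubmonoid S M.primeCompl)
      (S ⊗[B] Localization.AtPrime M) := IsLocalization.tensor (Localization.AtPrime M) M.primeCompl
  have hdisj : Disjoint (Algebra.algebraMapSubmonoid S M.primeCompl : Set S) (Q : Set S) := by
    rw [Set.disjoint_left]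
    rintro _ ⟨b, hb, rfl⟩ hbQ
    exact hb (hle hbQ)
  haveI hQ' : (Q.map (algebraMap S (S ⊗[B] Localization.AtPrime M))).IsPrime :=
    IsLocalization.isPrime_of_isPrime_disjoint _ _ Q inferInstance hdisj
  have hcomap : (Q.map (algebraMap S (S ⊗[B] Localization.AtPrime M))).comap
      (algebraMap S (S ⊗[B] Localization.AtPrime M)) = Q :=
    IsLocalization.under_map_of_isPrime_disjoint _ _ inferInstance hdisj
  refine ⟨M, hM, Q.map (algebraMap S (S ⊗[B] Localization.AtPrime M)), hQ', ?_⟩
  have h1 : IsLocalization.AtPrime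
      (Localization.AtPrime (Q.map (algebraMap S (S ⊗[B] Localization.AtPrime M))))
      ((Q.map (algebraMap S (S ⊗[B] Localization.AtPrime M))).comap
        (algebraMap S (S ⊗[B] Localization.AtPrime M))) :=
    IsLocalization.isLocalization_isLocalization_atPrime_isLocalization
      (Algebra.algebraMapSubmonoid S M.primeCompl) _ _
  have key : ∀ (P : Ideal S) [P.IsPrime], P = Q →
      IsLocalization.AtPrime
        (Localization.AtPrime (Q.map (algebraMap S (S ⊗[B] Localization.AtPrime M)))) P →
      Nonempty (Localization.AtPrime Q ≃+*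
        Localization.AtPrime (Q.map (algebraMap S (S ⊗[B] Localization.AtPrime M)))) := by
    rintro P _ rfl h
    exact ⟨(IsLocalization.algEquiv P.primeCompl (Localization.AtPrime P) _).toRingEquiv⟩
  exact key _ hcomap h1

theorem isRegularRing_of_forall_maximal_tensor [IsNoetherianRing S]
    (h : ∀ (M : Ideal B) [M.IsMaximal], IsRegularRing (S ⊗[B] Localization.AtPrime M)) :
    IsRegularRing S := by
  rw [isRegularRing_iff]
  intro Q hQ
  obtain ⟨M, hM, Q', hQ', ⟨e⟩⟩ := exists_maximal_locEquiv B S Q
  haveI := h M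
  exact IsRegularLocalRing.of_ringEquiv (R := Localization.AtPrime Q') e.symm

theorem isNormalRing_of_forall_maximal_tensor
    (h : ∀ (M : Ideal B) [M.IsMaximal], EGA4.IsNormalRing (S ⊗[B] Localization.AtPrime M)) :
    EGA4.IsNormalRing S := by
  intro Q hQ
  obtain ⟨M, hM, Q', hQ', ⟨e⟩⟩ := exists_maximal_locEquiv B S Q
  obtain ⟨h1, h2⟩ := h M Q'
  exact ⟨e.toMulEquiv.isDomain _, IsIntegrallyClosed.of_equiv (R := Localization.AtPrime Q') e.symm⟩

theorem isReduced_of_forall_maximal_tensor
    (h : ∀ (M : Ideal B) [M.IsMaximal], IsReduced (S ⊗[B] Localization.AtPrime M)) :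
    IsReduced S := by
  refine Groth.Agent.Helper2.FinDom.isReduced_of_forall_maximal S (fun Q hQ => ?_)
  obtain ⟨M, hM, Q', hQ', ⟨e⟩⟩ := exists_maximal_locEquiv B S Q
  haveI := h M
  exact isReduced_of_injective e e.injective

end L2

section L2hom
variable (A B : Type u) [CommRing A] [CommRing B] [Algebra A B]

theorem nonempty_equiv_loc (p : Ideal A) [p.IsPrime] (k' : Type u) [Field k']
    [Algebra p.ResidueField k'] [Algebra A k'] [IsScalarTower A p.ResidueField k']
    (M : Ideal B) [M.IsPrime] :
    Nonempty ((B ⊗[A] k') ⊗[B] Localization.AtPrime M ≃+*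
      k' ⊗[p.ResidueField] (p.Fiber (Localization.AtPrime M))) := by
  let e1 : (B ⊗[A] k') ⊗[B] Localization.AtPrime M ≃ₐ[B]
      Localization.AtPrime M ⊗[B] (B ⊗[A] k') := Algebra.TensorProduct.comm B _ _
  let e2 : Localization.AtPrime M ⊗[B] (B ⊗[A] k') ≃ₐ[Localization.AtPrime M]
      Localization.AtPrime M ⊗[A] k' :=
    Algebra.TensorProduct.cancelBaseChange A B (Localization.AtPrime M) (Localization.AtPrime M) k'
  let e3 : Localization.AtPrime M ⊗[A] k' ≃ₐ[A] k' ⊗[A] Localization.AtPrime M :=
    Algebra.TensorProduct.comm A _ _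
  let e4 : k' ⊗[p.ResidueField] (p.ResidueField ⊗[A] Localization.AtPrime M) ≃ₐ[k']
      k' ⊗[A] Localization.AtPrime M :=
    Algebra.TensorProduct.cancelBaseChange A p.ResidueField k' k' (Localization.AtPrime M)
  exact ⟨((e1.toRingEquiv.trans e2.toRingEquiv).trans e3.toRingEquiv).trans e4.symm.toRingEquiv⟩

theorem nonempty_equiv_glob (p : Ideal A) [p.IsPrime] (k' : Type u) [Field k']
    [Algebra p.ResidueField k'] [Algebra A k'] [IsScalarTower A p.ResidueField k'] :
    Nonempty (k' ⊗[p.ResidueField] (p.Fiber B) ≃+* B ⊗[A] k') := by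
  let e4 : k' ⊗[p.ResidueField] (p.ResidueField ⊗[A] B) ≃ₐ[k'] k' ⊗[A] B :=
    Algebra.TensorProduct.cancelBaseChange A p.ResidueField k' k' B
  let e3 : k' ⊗[A] B ≃ₐ[A] B ⊗[A] k' := Algebra.TensorProduct.comm A _ _
  exact ⟨e4.toRingEquiv.trans e3.toRingEquiv⟩

theorem isRegularHom_of_forall_maximal [IsNoetherianRing B] [Module.Flat A B]
    (h : ∀ (M : Ideal B) [M.IsMaximal], CAlg.IsRegularHom A (Localization.AtPrime M)) :
    CAlg.IsRegularHom A B := by
  haveI := fun (p : Ideal A) [p.IsPrime] => Groth.Agent.Helper2.RegBC.isNoetherianRing_fiber A B p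
  refine ⟨inferInstance, fun p hp => ⟨inferInstance, ?_⟩⟩
  intro k' _ _ hfin
  haveI := hfin
  letI : Algebra A k' :=
    ((algebraMap p.ResidueField k').comp (algebraMap A p.ResidueField)).toAlgebra
  haveI : IsScalarTower A p.ResidueField k' := IsScalarTower.of_algebraMap_eq fun _ => rfl
  obtain ⟨e⟩ := nonempty_equiv_glob A B p k'
  haveI : IsNoetherianRing (k' ⊗[p.ResidueField] (p.Fiber B)) :=
    Groth.Agent.Helper2.GeomNor.isNoetherianRing_tensor _ _ _
  haveI : IsNoetherianRing (B ⊗[A] k') :=
    isNoetherianRing_of_ringEquiv (k' ⊗[p.ResidueField] (p.Fiber B)) e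
  haveI : IsRegularRing (B ⊗[A] k') := by
    apply isRegularRing_of_forall_maximal_tensor B
    intro M hM
    obtain ⟨e'⟩ := nonempty_equiv_loc A B p k' M
    haveI := ((h M).2 p).2 k' hfin
    exact IsRegularRing.of_ringEquiv
      (R := k' ⊗[p.ResidueField] (p.Fiber (Localization.AtPrime M))) e'.symm
  exact IsRegularRing.of_ringEquiv (R := B ⊗[A] k') e.symm

theorem isNormalHom_of_forall_maximal [Module.Flat A B]
    (h : ∀ (M : Ideal B) [M.IsMaximal], EGA4.IsNormalHom A (Localization.AtPrime M)) :
    EGA4.IsNormalHom A B := by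
  refine ⟨inferInstance, fun p hp => ?_⟩
  intro k' _ _ hfin
  haveI := hfin
  letI : Algebra A k' :=
    ((algebraMap p.ResidueField k').comp (algebraMap A p.ResidueField)).toAlgebra
  haveI : IsScalarTower A p.ResidueField k' := IsScalarTower.of_algebraMap_eq fun _ => rfl
  obtain ⟨e⟩ := nonempty_equiv_glob A B p k'
  have h1 : EGA4.IsNormalRing (B ⊗[A] k') := by
    apply isNormalRing_of_forall_maximal_tensor B
    intro M hM
    obtain ⟨e'⟩ := nonempty_equiv_loc A B p k' M
    exact Groth.Agent.Helper2.GeomNor.isNormalRing_of_ringEquiv e'.symm ((h M).2 p k' hfin)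
  exact Groth.Agent.Helper2.GeomNor.isNormalRing_of_ringEquiv e.symm h1

theorem geomReducedFibres_of_forall_maximal
    (h : ∀ (M : Ideal B) [M.IsMaximal] (p : Ideal A) [p.IsPrime],
      Algebra.IsGeometricallyReduced p.ResidueField (p.Fiber (Localization.AtPrime M)))
    (p : Ideal A) [p.IsPrime] :
    Algebra.IsGeometricallyReduced p.ResidueField (p.Fiber B) := by
  apply Groth.Agent.Helper2.RedComp.isGeometricallyReduced_of_finite
  intro k' _ _ hfin
  haveI := hfin
  letI : Algebra A k' :=
    ((algebraMap p.ResidueField k').comp (algebraMap A p.ResidueField)).toAlgebra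
  haveI : IsScalarTower A p.ResidueField k' := IsScalarTower.of_algebraMap_eq fun _ => rfl
  obtain ⟨e⟩ := nonempty_equiv_glob A B p k'
  haveI : IsReduced (B ⊗[A] k') := by
    apply isReduced_of_forall_maximal_tensor B
    intro M hM
    obtain ⟨e'⟩ := nonempty_equiv_loc A B p k' M
    haveI := h M p
    haveI : IsReduced (k' ⊗[p.ResidueField] (p.Fiber (Localization.AtPrime M))) := inferInstance
    exact isReduced_of_injective e' e'.injective
  exact isReduced_of_injective e e.injective

end L2hom

end Groth.Agent.Helper2.LocHom
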