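import Mathlib
import Groth.Prelude.Def_Found
import Groth.Prelude.Def_EGA4b
import Groth.Agent.Helper2.LocHom
import Groth.Agent.Helper2.GeomNor
import Groth.Agent.Helper1.FieldSmooth7
set_option autoImplicit false
universe u
open IsLocalRing TensorProduct

namespace Groth.Agent.Helper2.SepAlg

section G1
variable {R : Type u} [CommRing R] (M : Submonoid R) (S' : Type u) [CommRing S'] [Algebra R S']
    [IsLocalization M S']

include M in
/-- local rings of a localization are local rings of the ring -/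
theorem nonempty_locEquiv (Q : Ideal S') [Q.IsPrime] :
    Nonempty (Localization.AtPrime (Q.comap (algebraMap R S')) ≃+* Localization.AtPrime Q) := by
  haveI : IsLocalization.AtPrime (Localization.AtPrime Q) (Q.comap (algebraMap R S')) :=
    IsLocalization.isLocalization_isLocalization_atPrime_isLocalization M (Localization.AtPrime Q) Q
  exact ⟨(IsLocalization.algEquiv (Q.comap (algebraMap R S')).primeCompl
    (Localization.AtPrime (Q.comap (algebraMap R S'))) (Localization.AtPrime Q)).toRingEquiv⟩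

include M in
theorem isRegularRing_of_isLocalization [IsRegularRing R] : IsRegularRing S' := by
  haveI : IsNoetherianRing S' := IsLocalization.isNoetherianRing M S' inferInstance
  rw [isRegularRing_iff]
  intro Q hQ
  obtain ⟨e⟩ := nonempty_locEquiv M S' Q
  exact IsRegularLocalRing.of_ringEquiv (R := Localization.AtPrime (Q.comap (algebraMap R S'))) e

include M in
theorem isNormalRing_of_isLocalization (h : EGA4.IsNormalRing R) : EGA4.IsNormalRing S' := by
  intro Q hQ
  obtain ⟨e⟩ := nonempty_locEquiv M S' Q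
  obtain ⟨h1, h2⟩ := h (Q.comap (algebraMap R S'))
  exact ⟨e.symm.toMulEquiv.isDomain _,
    IsIntegrallyClosed.of_equiv (R := Localization.AtPrime (Q.comap (algebraMap R S'))) e⟩

end G1

section G2
variable (k' E : Type u) [Field k'] [CommRing E] [Algebra k' E] [Module.Finite k' E] [IsReduced E]
    (M : Ideal E) [M.IsPrime]

include k' in
theorem isField_localization : IsField (Localization.AtPrime M) := by
  haveI : IsArtinianRing E := IsArtinianRing.of_finite k' E
  haveI : IsReduced (Localization.AtPrime M) := inferInstance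
  exact IsArtinianRing.isField_of_isReduced_of_isLocalRing _

theorem finite_localization : Module.Finite k' (Localization.AtPrime M) := by
  haveI : IsArtinianRing E := IsArtinianRing.of_finite k' E
  have hs : Function.Surjective (algebraMap E (Localization.AtPrime M)) :=
    IsArtinianRing.localization_surjective M.primeCompl _
  exact Module.Finite.of_surjective (IsScalarTower.toAlgHom k' E (Localization.AtPrime M)).toLinearMap hs

/-- a field quotient of a reduced finite algebra over a field is one of its local rings -/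
theorem exists_locEquiv_of_surjective (K' : Type u) [Field K'] [Algebra k' K']
    (φ : E →ₐ[k'] K') (hφ : Function.Surjective φ) :
    ∃ (m : PrimeSpectrum E), Nonempty (Localization.AtPrime m.asIdeal ≃ₐ[k'] K') := by
  haveI hm : (RingHom.ker φ).IsPrime := by
    rw [RingHom.ker_eq_comap_bot]
    exact Ideal.comap_isPrime φ ⊥
  have hunit : ∀ y : (RingHom.ker φ).primeCompl, IsUnit (φ y) := fun y =>
    IsUnit.mk0 _ (fun h => y.2 ((RingHom.mem_ker).mpr h))
  let ψ : Localization.AtPrime (RingHom.ker φ) →ₐ[k'] K' :=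
    IsLocalization.liftAlgHom (M := (RingHom.ker φ).primeCompl) (f := φ) hunit
  have hψ : Function.Bijective ψ := by
    constructor
    · letI : Field (Localization.AtPrime (RingHom.ker φ)) :=
        (isField_localization k' E (RingHom.ker φ)).toField
      exact (ψ : Localization.AtPrime (RingHom.ker φ) →+* K').injective
    · intro y
      obtain ⟨x, rfl⟩ := hφ y
      exact ⟨algebraMap _ _ x, by simp [ψ]⟩
  exact ⟨⟨RingHom.ker φ, hm⟩, ⟨AlgEquiv.ofBijective ψ hψ⟩⟩

end G2

section Main
variable (k k' : Type u) [Field k] [Field k'] [Algebra k k'] [Algebra.IsSeparable k k']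

theorem isGeometricallyReduced : Algebra.IsGeometricallyReduced k k' := by
  haveI : Algebra.FormallyEtale k k' := Algebra.FormallyEtale.of_isSeparable k k'
  exact Groth.Agent.Helper1.FieldSmooth.formallySmooth_iff_isGeometricallyReduced.1 inferInstance

theorem isReduced_tensor (K : Type u) [Field K] [Algebra k K] [Algebra.IsAlgebraic k K] :
    IsReduced (k' ⊗[k] K) := by
  haveI := isGeometricallyReduced k k'
  haveI : IsReduced (K ⊗[k] k') := inferInstance
  exact isReduced_of_injective (Algebra.TensorProduct.comm k k' K).toRingEquiv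
    (Algebra.TensorProduct.comm k k' K).injective

variable (A : Type u) [CommRing A] [Algebra k' A] [Algebra k A] [IsScalarTower k k' A]

omit [Algebra.IsSeparable k k'] in
/-- `K ⊗_k A ≅ (k' ⊗_k K) ⊗_{k'} A` -/
theorem nonempty_iso1 (K : Type u) [CommRing K] [Algebra k K] :
    Nonempty (K ⊗[k] A ≃+* (k' ⊗[k] K) ⊗[k'] A) := by
  let ea : K ⊗[k] A ≃ₐ[k] A ⊗[k] K := Algebra.TensorProduct.comm k K A
  let eb : A ⊗[k'] (k' ⊗[k] K) ≃ₐ[k'] A ⊗[k] K :=
    Algebra.TensorProduct.cancelBaseChange k k' k' A K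
  let ec : (k' ⊗[k] K) ⊗[k'] A ≃ₐ[k'] A ⊗[k'] (k' ⊗[k] K) := Algebra.TensorProduct.comm k' _ _
  exact ⟨(ea.toRingEquiv.trans eb.symm.toRingEquiv).trans ec.symm.toRingEquiv⟩

omit [Algebra.IsSeparable k k'] [Algebra k A] [IsScalarTower k k' A] [Algebra k k'] in
/-- `(E ⊗_{k'} A) ⊗_E E_M ≅ E_M ⊗_{k'} A` -/
theorem nonempty_iso2 (E : Type u) [CommRing E] [Algebra k' E] (M : Ideal E) [M.IsPrime] :
    Nonempty ((E ⊗[k'] A) ⊗[E] Localization.AtPrime M ≃+* Localization.AtPrime M ⊗[k'] A) := by
  let e1 : (E ⊗[k'] A) ⊗[E] Localization.AtPrime M ≃ₐ[E]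
      Localization.AtPrime M ⊗[E] (E ⊗[k'] A) := Algebra.TensorProduct.comm E _ _
  let e2 : Localization.AtPrime M ⊗[E] (E ⊗[k'] A) ≃ₐ[Localization.AtPrime M]
      Localization.AtPrime M ⊗[k'] A :=
    Algebra.TensorProduct.cancelBaseChange k' E (Localization.AtPrime M) (Localization.AtPrime M) A
  exact ⟨e1.toRingEquiv.trans e2.toRingEquiv⟩

/-- geometric regularity over `k'` implies geometric regularity over `k` -/
theorem geomRegular_of_geomRegular_top [IsNoetherianRing A]
    (h' : CAlg.IsGeometricallyRegular k' A) : CAlg.IsGeometricallyRegular k A := by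
  intro K _ _ hfin
  haveI := hfin
  haveI := isReduced_tensor k k' K
  obtain ⟨e1⟩ := nonempty_iso1 k k' A K
  haveI : IsNoetherianRing (K ⊗[k] A) := Groth.Agent.Helper2.GeomNor.isNoetherianRing_tensor k A K
  haveI : IsNoetherianRing ((k' ⊗[k] K) ⊗[k'] A) := isNoetherianRing_of_ringEquiv (K ⊗[k] A) e1
  haveI : IsRegularRing ((k' ⊗[k] K) ⊗[k'] A) := by
    apply Groth.Agent.Helper2.LocHom.isRegularRing_of_forall_maximal_tensor (k' ⊗[k] K)
    intro M hM
    obtain ⟨e2⟩ := nonempty_iso2 k' A (k' ⊗[k] K) M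
    letI : Field (Localization.AtPrime M) := (isField_localization k' (k' ⊗[k] K) M).toField
    have hf := finite_localization k' (k' ⊗[k] K) M
    haveI := h' (Localization.AtPrime M) hf
    exact IsRegularRing.of_ringEquiv (R := Localization.AtPrime M ⊗[k'] A) e2.symm
  exact IsRegularRing.of_ringEquiv (R := (k' ⊗[k] K) ⊗[k'] A) e1.symm

/-- geometric normality over `k'` implies geometric normality over `k` -/
theorem geomNormal_of_geomNormal_top
    (h' : EGA4.IsGeomNormal k' A) : EGA4.IsGeomNormal k A := by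
  intro K _ _ hfin
  haveI := hfin
  haveI := isReduced_tensor k k' K
  obtain ⟨e1⟩ := nonempty_iso1 k k' A K
  have h1 : EGA4.IsNormalRing ((k' ⊗[k] K) ⊗[k'] A) := by
    apply Groth.Agent.Helper2.LocHom.isNormalRing_of_forall_maximal_tensor (k' ⊗[k] K)
    intro M hM
    obtain ⟨e2⟩ := nonempty_iso2 k' A (k' ⊗[k] K) M
    letI : Field (Localization.AtPrime M) := (isField_localization k' (k' ⊗[k] K) M).toField
    have hf := finite_localization k' (k' ⊗[k] K) M
    exact Groth.Agent.Helper2.GeomNor.isNormalRing_of_ringEquiv e2.symm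
      (h' (Localization.AtPrime M) hf)
  exact Groth.Agent.Helper2.GeomNor.isNormalRing_of_ringEquiv e1.symm h1

omit [Algebra k' A] [Algebra k A] [IsScalarTower k k' A] in
/-- a finite extension `K'` of `k'` is a local ring of `k' ⊗_k K₁` for a finite extension `K₁/k` -/
theorem exists_finite_sub (K' : Type u) [Field K'] [Algebra k' K'] [Module.Finite k' K']
    [Algebra k K'] [IsScalarTower k k' K'] :
    ∃ (K₁ : Type u) (_ : Field K₁) (_ : Algebra k K₁) (_ : Module.Finite k K₁)
      (m : PrimeSpectrum (k' ⊗[k] K₁)), Nonempty (Localization.AtPrime m.asIdeal ≃ₐ[k'] K') := by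
  classical
  obtain ⟨s, hs⟩ := (Module.Finite.fg_top : (⊤ : Submodule k' K').FG)
  haveI : Algebra.IsAlgebraic k' K' := inferInstance
  haveI : Algebra.IsAlgebraic k K' := Algebra.IsAlgebraic.trans k k' K'
  obtain ⟨K₁, hK₁def⟩ : ∃ K₁ : IntermediateField k K',
      K₁ = IntermediateField.adjoin k (s : Set K') := ⟨_, rfl⟩
  haveI hK₁ : Module.Finite k K₁ := by
    rw [hK₁def]
    exact IntermediateField.finiteDimensional_adjoin (fun x _ => Algebra.IsIntegral.isIntegral x)
  have hsub : (s : Set K') ⊆ K₁ := by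
    rw [hK₁def]
    exact IntermediateField.subset_adjoin k _
  let φ : k' ⊗[k] K₁ →ₐ[k'] K' :=
    Algebra.TensorProduct.lift (Algebra.ofId k' K') K₁.val (fun _ _ => Commute.all _ _)
  have hφ : Function.Surjective φ := by
    have hle : Submodule.span k' (s : Set K') ≤ Subalgebra.toSubmodule φ.range := by
      rw [Submodule.span_le]
      intro x hx
      refine ⟨(1 : k') ⊗ₜ[k] (⟨x, hsub hx⟩ : K₁), ?_⟩
      simp [φ]
    rw [hs, top_le_iff] at hle
    intro y
    have : y ∈ Subalgebra.toSubmodule φ.range := by rw [hle]; trivial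
    exact this
  haveI : IsReduced (k' ⊗[k] K₁) := isReduced_tensor k k' K₁
  obtain ⟨m, hm⟩ := exists_locEquiv_of_surjective k' (k' ⊗[k] K₁) K' φ hφ
  exact ⟨K₁, inferInstance, inferInstance, hK₁, m, hm⟩

/-- geometric regularity over `k` implies geometric regularity over `k'` -/
theorem geomRegular_of_geomRegular_bot
    (h : CAlg.IsGeometricallyRegular k A) : CAlg.IsGeometricallyRegular k' A := by
  intro K' _ _ hfin
  haveI := hfin
  letI : Algebra k K' := ((algebraMap k' K').comp (algebraMap k k')).toAlgebra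
  haveI : IsScalarTower k k' K' := IsScalarTower.of_algebraMap_eq (fun _ => rfl)
  obtain ⟨K₁, _, _, hK₁, m, ⟨ψ⟩⟩ := exists_finite_sub k k' K'
  haveI := h K₁ hK₁
  obtain ⟨e1⟩ := nonempty_iso1 k k' A K₁
  haveI : IsRegularRing ((k' ⊗[k] K₁) ⊗[k'] A) := IsRegularRing.of_ringEquiv (R := K₁ ⊗[k] A) e1
  haveI : IsRegularRing (((k' ⊗[k] K₁) ⊗[k'] A) ⊗[k' ⊗[k] K₁] Localization.AtPrime m.asIdeal) :=
    isRegularRing_of_isLocalization
      (Algebra.algebraMapSubmonoid ((k' ⊗[k] K₁) ⊗[k'] A) m.asIdeal.primeCompl) _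
  obtain ⟨e2⟩ := nonempty_iso2 k' A (k' ⊗[k] K₁) m.asIdeal
  haveI : IsRegularRing (Localization.AtPrime m.asIdeal ⊗[k'] A) :=
    IsRegularRing.of_ringEquiv
      (R := ((k' ⊗[k] K₁) ⊗[k'] A) ⊗[k' ⊗[k] K₁] Localization.AtPrime m.asIdeal) e2
  let e3 : Localization.AtPrime m.asIdeal ⊗[k'] A ≃ₐ[k'] K' ⊗[k'] A :=
    Algebra.TensorProduct.congr ψ AlgEquiv.refl
  exact IsRegularRing.of_ringEquiv (R := Localization.AtPrime m.asIdeal ⊗[k'] A) e3.toRingEquiv

/-- geometric normality over `k` implies geometric normality over `k'` -/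
theorem geomNormal_of_geomNormal_bot
    (h : EGA4.IsGeomNormal k A) : EGA4.IsGeomNormal k' A := by
  intro K' _ _ hfin
  haveI := hfin
  letI : Algebra k K' := ((algebraMap k' K').comp (algebraMap k k')).toAlgebra
  haveI : IsScalarTower k k' K' := IsScalarTower.of_algebraMap_eq (fun _ => rfl)
  obtain ⟨K₁, _, _, hK₁, m, ⟨ψ⟩⟩ := exists_finite_sub k k' K'
  have h0 := h K₁ hK₁
  obtain ⟨e1⟩ := nonempty_iso1 k k' A K₁
  have h1 : EGA4.IsNormalRing ((k' ⊗[k] K₁) ⊗[k'] A) :=
    Groth.Agent.Helper2.GeomNor.isNormalRing_of_ringEquiv e1 h0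
  have h2 : EGA4.IsNormalRing
      (((k' ⊗[k] K₁) ⊗[k'] A) ⊗[k' ⊗[k] K₁] Localization.AtPrime m.asIdeal) :=
    isNormalRing_of_isLocalization
      (Algebra.algebraMapSubmonoid ((k' ⊗[k] K₁) ⊗[k'] A) m.asIdeal.primeCompl) _ h1
  obtain ⟨e2⟩ := nonempty_iso2 k' A (k' ⊗[k] K₁) m.asIdeal
  have h3 : EGA4.IsNormalRing (Localization.AtPrime m.asIdeal ⊗[k'] A) :=
    Groth.Agent.Helper2.GeomNor.isNormalRing_of_ringEquiv e2 h2
  let e3 : Localization.AtPrime m.asIdeal ⊗[k'] A ≃ₐ[k'] K' ⊗[k'] A :=
    Algebra.TensorProduct.congr ψ AlgEquiv.refl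
  exact Groth.Agent.Helper2.GeomNor.isNormalRing_of_ringEquiv e3.toRingEquiv h3

end Main

end Groth.Agent.Helper2.SepAlg
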