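import Mathlib
import Groth.Prelude.Def_CAlgX

set_option autoImplicit false
universe u

namespace Groth.Agent.Helper2.H1Inj
open IsLocalRing Algebra

/-- lifting along a surjection with square-zero kernel. -/
theorem lift_of_surjective {R S : Type u} [CommRing R] [CommRing S] [Algebra R S] (𝔫 : Ideal S)
    (h : CAlgX.IsAdicFormallySmooth R S 𝔫) {E F : Type u} [CommRing E] [CommRing F] [Algebra R E]
    [Algebra R F] (π : E →ₐ[R] F) (hπ : Function.Surjective π)
    (hsq : (RingHom.ker (π : E →+* F)) ^ 2 = ⊥)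
    (g : S →ₐ[R] F) (hg : ∃ k : ℕ, ∀ x ∈ 𝔫 ^ k, g x = 0) : ∃ v : S →ₐ[R] E, π.comp v = g := by
  let e := Ideal.quotientKerAlgEquivOfSurjective hπ
  obtain ⟨v, hv⟩ := h E (RingHom.ker (π : E →+* F)) hsq (e.symm.toAlgHom.comp g) (by
    obtain ⟨k, hk⟩ := hg
    refine ⟨k, fun x hx => ?_⟩
    change e.symm (g x) = 0
    rw [hk x hx, map_zero])
  refine ⟨v, ?_⟩
  ext b
  have h1 := congrArg (fun φ => e (φ b)) hv
  have h2 : e (e.symm.toAlgHom (g b)) = g b := e.apply_symm_apply (g b)
  exact h1.trans h2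

theorem h1_injective (A B : Type u) [CommRing A] [CommRing B] [IsLocalRing B] [Algebra A B]
    (hfs : CAlgX.IsAdicFormallySmooth A B (maximalIdeal B)) :
    Function.Injective (Algebra.H1Cotangent.map A B (ResidueField B) (ResidueField B)) := by
  let K := ResidueField B
  let GA := Algebra.Generators.self A K
  let GB := Algebra.Generators.self B K
  let f : GA.Hom GB := Algebra.Generators.defaultHom GA GB
  change Function.Injective (Extension.H1Cotangent.map f.toExtensionHom)
  rw [injective_iff_map_eq_zero]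
  intro x hx
  obtain ⟨g, hg⟩ := Extension.Cotangent.mk_surjective x.1
  have h0 : Extension.Cotangent.map f.toExtensionHom x.1 = 0 := congrArg Subtype.val hx
  rw [← hg, Extension.Cotangent.map_mk, Extension.Cotangent.mk_eq_zero_iff] at h0
  have h0' : f.toAlgHom g.1 ∈ GB.toExtension.ker ^ 2 := h0
  suffices hsuff : g.1 ∈ GA.toExtension.ker ^ 2 by
    apply Subtype.ext
    rw [← hg]
    exact (Extension.Cotangent.mk_eq_zero_iff g).mpr hsuff
  -- test algebra
  let I : Ideal (MvPolynomial K A) := GA.toExtension.ker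
  have hI : ∀ p, p ∈ I ↔ MvPolynomial.aeval (R := A) (fun k : K => k) p = 0 := fun p => by
    rfl
  let π : (MvPolynomial K A ⧸ I ^ 2) →ₐ[A] K :=
    Ideal.Quotient.liftₐ (I ^ 2) (MvPolynomial.aeval (fun k : K => k)) (fun a ha =>
      (hI a).mp (Ideal.pow_le_self two_ne_zero ha))
  have hπmk : ∀ p, π (Ideal.Quotient.mk (I ^ 2) p) = MvPolynomial.aeval (fun k : K => k) p :=
    fun p => rfl
  have hπ : Function.Surjective π := by
    intro k
    exact ⟨Ideal.Quotient.mk _ (MvPolynomial.X k), by rw [hπmk, MvPolynomial.aeval_X]⟩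
  have hker : RingHom.ker (π : (MvPolynomial K A ⧸ I ^ 2) →+* K) = I.map (Ideal.Quotient.mk (I ^ 2)) := by
    ext c
    obtain ⟨p, rfl⟩ := Ideal.Quotient.mk_surjective c
    rw [RingHom.mem_ker]
    change π (Ideal.Quotient.mk (I ^ 2) p) = 0 ↔ _
    rw [hπmk, ← hI]
    constructor
    · intro hp
      exact Ideal.mem_map_of_mem _ hp
    · intro hp
      rw [Ideal.mem_map_iff_of_surjective _ Ideal.Quotient.mk_surjective] at hp
      obtain ⟨p', hp', hpp'⟩ := hp
      have : p' - p ∈ I ^ 2 := Ideal.Quotient.eq.mp hpp'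
      have h2 : p' - p ∈ I := Ideal.pow_le_self two_ne_zero this
      have : p = p' - (p' - p) := by ring
      rw [this]
      exact Ideal.sub_mem _ hp' h2
  have hsq : (RingHom.ker (π : (MvPolynomial K A ⧸ I ^ 2) →+* K)) ^ 2 = ⊥ := by
    rw [hker, ← Ideal.map_pow, Ideal.map_quotient_self]
  let ψ : B →ₐ[A] K := IsScalarTower.toAlgHom A B K
  have hψ : ∃ k : ℕ, ∀ x ∈ maximalIdeal B ^ k, ψ x = 0 := by
    refine ⟨1, fun x hx => ?_⟩
    rw [pow_one] at hx
    exact (IsLocalRing.residue_eq_zero_iff x).mpr hx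
  obtain ⟨χ, hχ⟩ := lift_of_surjective _ hfs π hπ hsq ψ hψ
  let χ' : MvPolynomial K B →+* (MvPolynomial K A ⧸ I ^ 2) :=
    MvPolynomial.eval₂Hom χ.toRingHom (fun k => Ideal.Quotient.mk (I ^ 2) (MvPolynomial.X k))
  have claim1 : χ'.comp f.toAlgHom.toRingHom = Ideal.Quotient.mk (I ^ 2) := by
    apply MvPolynomial.ringHom_ext
    · intro a
      simp only [RingHom.comp_apply, AlgHom.toRingHom_eq_coe, RingHom.coe_coe]
      rw [Algebra.Generators.Hom.toAlgHom_C]
      simp only [χ', MvPolynomial.coe_eval₂Hom, MvPolynomial.eval₂_C]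
      change χ (algebraMap A B a) = _
      rw [AlgHom.commutes]
      rfl
    · intro k
      simp only [RingHom.comp_apply, AlgHom.toRingHom_eq_coe, RingHom.coe_coe]
      rw [Algebra.Generators.Hom.toAlgHom_X]
      have : f.val k = MvPolynomial.X k := rfl
      rw [this]
      simp only [χ', MvPolynomial.coe_eval₂Hom, MvPolynomial.eval₂_X]
  have claim2 : (π : (MvPolynomial K A ⧸ I ^ 2) →+* K).comp χ' =
      (MvPolynomial.aeval (R := B) (fun k : K => k) : MvPolynomial K B →ₐ[B] K).toRingHom := by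
    apply MvPolynomial.ringHom_ext
    · intro b
      simp only [RingHom.comp_apply, AlgHom.toRingHom_eq_coe, RingHom.coe_coe, χ',
        MvPolynomial.coe_eval₂Hom, MvPolynomial.eval₂_C]
      have := AlgHom.congr_fun hχ b
      rw [MvPolynomial.aeval_C]
      exact this
    · intro k
      simp only [RingHom.comp_apply, AlgHom.toRingHom_eq_coe, RingHom.coe_coe, χ',
        MvPolynomial.coe_eval₂Hom, MvPolynomial.eval₂_X]
      rw [hπmk, MvPolynomial.aeval_X, MvPolynomial.aeval_X]
  have hχ'ker : GB.toExtension.ker.map χ' ≤ RingHom.ker (π : (MvPolynomial K A ⧸ I ^ 2) →+* K) := by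
    rw [Ideal.map_le_iff_le_comap]
    intro p hp
    rw [Ideal.mem_comap, RingHom.mem_ker]
    have := RingHom.congr_fun claim2 p
    rw [RingHom.comp_apply] at this
    exact this.trans hp
  have h3 : χ' (f.toAlgHom g.1) = 0 := by
    have h4 : χ' (f.toAlgHom g.1) ∈ (GB.toExtension.ker ^ 2).map χ' := Ideal.mem_map_of_mem _ h0'
    rw [Ideal.map_pow] at h4
    have h5 := Ideal.pow_right_mono hχ'ker 2 h4
    rwa [hsq] at h5
  have h6 : Ideal.Quotient.mk (I ^ 2) g.1 = 0 := by
    have h7 := RingHom.congr_fun claim1 g.1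
    rw [RingHom.comp_apply] at h7
    exact h7.symm.trans h3
  exact Ideal.Quotient.eq_zero_iff_mem.mp h6

end Groth.Agent.Helper2.H1Inj
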