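import Mathlib
import Groth.Prelude.Def_Found
import Groth.Prelude.Def_EGA4b
import Groth.Agent.Helper2.CMFields
set_option autoImplicit false
universe u
open IsLocalRing TensorProduct

namespace Groth.Agent.Helper2.CMPoly

open Groth.Agent.Helper2.SnFib Groth.Agent.Helper2.SkFlat Groth.Agent.Helper2.CMFields

/-- the statement S2614 -/
theorem cm_tensor_fields (k K L : Type u) [Field k] [Field K] [Field L] [Algebra k K] [Algebra k L]
    (h : Algebra.EssFiniteType k K ∨ Algebra.EssFiniteType k L) [IsNoetherianRing (K ⊗[k] L)] :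
    LocCoh.IsCohenMacaulayRing (K ⊗[k] L) := by
  rw [isCohenMacaulayRing_iff]
  intro n
  rcases h with h | h
  · exact hasSk_tensor_fields k K L n
  · exact hasSk_tensor_fields' k L K n

/-- the statement S2092 -/
theorem cm_mvPolynomial {R : Type u} [CommRing R] [LocCoh.IsCohenMacaulayRing R] (n : ℕ) :
    LocCoh.IsCohenMacaulayRing (MvPolynomial (Fin n) R) := by
  rw [isCohenMacaulayRing_iff]
  intro m
  apply hasSk_of_flat_of_fibres R _ m ((isCohenMacaulayRing_iff R).mp inferInstance m)
  intro p hp
  have e : p.ResidueField ⊗[R] MvPolynomial (Fin n) R ≃ₐ[p.ResidueField]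
      MvPolynomial (Fin n) p.ResidueField := MvPolynomial.algebraTensorAlgEquiv R p.ResidueField
  haveI : IsRegularRing (MvPolynomial (Fin n) p.ResidueField) := inferInstance
  haveI : IsRegularRing (p.Fiber (MvPolynomial (Fin n) R)) :=
    IsRegularRing.of_ringEquiv e.symm.toRingEquiv
  exact hasSk_of_isRegularRing _ m

end Groth.Agent.Helper2.CMPoly
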