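import Mathlib
set_option autoImplicit false

/-!
# The Jacobian criterion: `A[X₁..Xₙ, Y]/(f₁..fₙ, Y·det J - 1)` is étale over `A`.
-/

universe u

noncomputable section

namespace Groth.Agent.Helper2.JacEt

open MvPolynomial

variable {A : Type u} [CommRing A] {n : ℕ} (f : Fin n → MvPolynomial (Fin n) A)

/-- the Jacobian matrix -/
def jacMat : Matrix (Fin n) (Fin n) (MvPolynomial (Fin n) A) :=
  Matrix.of fun i j => pderiv i (f j)

/-- the Jacobian determinant -/
def jacDet : MvPolynomial (Fin n) A := (jacMat f).det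

/-- the relations -/
def rel : Fin n ⊕ Unit → MvPolynomial (Fin n ⊕ Unit) A
  | Sum.inl j => rename Sum.inl (f j)
  | Sum.inr _ => X (Sum.inr ()) * rename Sum.inl (jacDet f) - 1

/-- the standard étale algebra attached to the system `f` -/
abbrev JacAlg : Type u := MvPolynomial (Fin n ⊕ Unit) A ⧸ Ideal.span (Set.range (rel f))

/-- the presubmersive presentation -/
def pre : Algebra.PreSubmersivePresentation A (JacAlg f) (Fin n ⊕ Unit) (Fin n ⊕ Unit) :=
  Algebra.PreSubmersivePresentation.naive (v := rel f) id Function.injective_id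

theorem pderiv_inr_rename (p : MvPolynomial (Fin n) A) :
    pderiv (Sum.inr () : Fin n ⊕ Unit) (rename Sum.inl p) = 0 := by
  classical
  apply pderiv_eq_zero_of_notMem_vars
  intro h
  have := (vars_rename Sum.inl p) h
  simp at this

theorem jacobiMatrix_pre_det :
    (pre f).jacobiMatrix.det = rename Sum.inl (jacDet f) * rename Sum.inl (jacDet f) := by
  have hM : ∀ i j, (pre f).jacobiMatrix i j = pderiv i (rel f j) := fun i j =>
    Algebra.PreSubmersivePresentation.jacobiMatrix_naive (v := rel f) id Function.injective_id _ _ i j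
  rw [← Matrix.fromBlocks_toBlocks (pre f).jacobiMatrix]
  have h21 : (pre f).jacobiMatrix.toBlocks₂₁ = 0 := by
    refine Matrix.ext fun i j => ?_
    rw [Matrix.toBlocks₂₁, Matrix.of_apply, hM]
    exact pderiv_inr_rename (f j)
  have h11 : (pre f).jacobiMatrix.toBlocks₁₁ =
      ((rename Sum.inl : MvPolynomial (Fin n) A →ₐ[A] MvPolynomial (Fin n ⊕ Unit) A).toRingHom).mapMatrix
        (jacMat f) := by
    refine Matrix.ext fun i j => ?_
    rw [Matrix.toBlocks₁₁, Matrix.of_apply, hM]
    show pderiv (Sum.inl i) (rename Sum.inl (f j)) = rename Sum.inl (pderiv i (f j))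
    exact pderiv_rename Sum.inl_injective i (f j)
  have h22 : (pre f).jacobiMatrix.toBlocks₂₂ =
      Matrix.of fun _ _ => rename Sum.inl (jacDet f) := by
    refine Matrix.ext fun i j => ?_
    rw [Matrix.toBlocks₂₂, Matrix.of_apply, hM]
    show pderiv (Sum.inr ()) (X (Sum.inr ()) * rename Sum.inl (jacDet f) - 1) = _
    rw [map_sub, pderiv_one, sub_zero, pderiv_mul, pderiv_inr_rename, mul_zero, add_zero,
      pderiv_X_self, one_mul]
    rfl
  rw [h21, Matrix.det_fromBlocks_zero₂₁, h11, h22,
    Matrix.det_unique (Matrix.of fun (_ : Unit) (_ : Unit) => rename Sum.inl (jacDet f)),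
    Matrix.of_apply, ← RingHom.map_det]
  rfl

theorem isUnit_jacobian_pre : IsUnit (pre f).jacobian := by
  rw [Algebra.PreSubmersivePresentation.jacobian_eq_jacobiMatrix_det, jacobiMatrix_pre_det, map_mul]
  have hu : IsUnit (algebraMap (pre f).Ring (JacAlg f) (rename Sum.inl (jacDet f))) := by
    apply IsUnit.of_mul_eq_one (algebraMap (pre f).Ring (JacAlg f) (X (Sum.inr ())))
    rw [← map_mul, mul_comm]
    show Ideal.Quotient.mk _ (X (Sum.inr ()) * rename Sum.inl (jacDet f)) = 1
    rw [← map_one (Ideal.Quotient.mk _), Ideal.Quotient.eq]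
    exact Ideal.subset_span ⟨Sum.inr (), rfl⟩
  exact hu.mul hu

/-- the submersive presentation -/
def sub : Algebra.SubmersivePresentation A (JacAlg f) (Fin n ⊕ Unit) (Fin n ⊕ Unit) :=
  { pre f with jacobian_isUnit := isUnit_jacobian_pre f }

instance etale : Algebra.Etale A (JacAlg f) := by
  haveI : Algebra.IsStandardSmoothOfRelativeDimension 0 A (JacAlg f) :=
    (sub f).isStandardSmoothOfRelativeDimension (by simp [Algebra.Presentation.dimension])
  infer_instance

end Groth.Agent.Helper2.JacEt
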