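import Mathlib
import Groth.Agent.Helper2.JacEt
set_option autoImplicit false

universe u

noncomputable section

namespace Groth.Agent.Helper2.JacEt

open MvPolynomial

/-- an étale algebra has a presentation by `n` variables and `n` relations whose Jacobian
determinant is invertible -/
theorem exists_jac_presentation (k S : Type u) [CommRing k] [CommRing S] [Algebra k S]
    [Algebra.Etale k S] :
    ∃ (n : ℕ) (ρ : Fin n → MvPolynomial (Fin n) k) (x : Fin n → S),
      Function.Surjective (aeval x : MvPolynomial (Fin n) k →ₐ[k] S) ∧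
      RingHom.ker (aeval x : MvPolynomial (Fin n) k →ₐ[k] S) = Ideal.span (Set.range ρ) ∧
      IsUnit (aeval x (jacDet ρ)) := by
  classical
  obtain ⟨ι, σ, hσ, hι, P, hP⟩ :=
    (Algebra.Etale.iff_isStandardSmoothOfRelativeDimension_zero.mp
      (inferInstance : Algebra.Etale k S)).out
  have hle : Nat.card σ ≤ Nat.card ι := P.card_relations_le_card_vars_of_isFinite
  have hcard : Nat.card σ = Nat.card ι := by
    have : Nat.card ι - Nat.card σ = 0 := hP
    omega
  have hbij : Function.Bijective P.map := by
    rw [Nat.bijective_iff_injective_and_card]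
    exact ⟨P.map_inj, hcard⟩
  let fσ : Fin (Nat.card σ) ≃ σ := (Finite.equivFin σ).symm
  let eι : Fin (Nat.card σ) ≃ ι := fσ.trans (Equiv.ofBijective P.map hbij)
  let P' := P.reindex eι fσ
  have hmap : ∀ i, P'.map i = i := by
    intro i
    show eι.symm (P.map (fσ i)) = i
    rw [Equiv.symm_apply_eq]
    rfl
  refine ⟨Nat.card σ, P'.relation, P'.val, ?_, ?_, ?_⟩
  · have := P'.algebraMap_surjective
    rwa [P'.algebraMap_eq] at this
  · have := P'.span_range_relation_eq_ker
    rw [this]
    rfl
  · have h1 := P'.jacobian_isUnit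
    rw [Algebra.PreSubmersivePresentation.jacobian_eq_jacobiMatrix_det] at h1
    have h2 : P'.jacobiMatrix = jacMat P'.relation := by
      refine Matrix.ext fun i j => ?_
      rw [Algebra.PreSubmersivePresentation.jacobiMatrix_apply, hmap]
      rfl
    rw [h2, P'.algebraMap_eq] at h1
    exact h1

end Groth.Agent.Helper2.JacEt
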