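import Mathlib
import Groth.Agent.Helper2.JacEt
import Groth.Agent.Helper2.EtLiftA
set_option autoImplicit false

universe u

noncomputable section

namespace Groth.Agent.Helper2.JacEt

open MvPolynomial

theorem map_jacDet {A B : Type u} [CommRing A] [CommRing B] (φ : A →+* B) {n : ℕ}
    (f : Fin n → MvPolynomial (Fin n) A) :
    MvPolynomial.map φ (jacDet f) = jacDet (fun j => MvPolynomial.map φ (f j)) := by
  classical
  unfold jacDet
  rw [RingHom.map_det]
  congr 1
  refine Matrix.ext fun i j => ?_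
  rw [RingHom.mapMatrix_apply, Matrix.map_apply]
  show MvPolynomial.map φ (pderiv i (f j)) = pderiv i (MvPolynomial.map φ (f j))
  rw [pderiv_map]

variable {A : Type u} [CommRing A] (I : Ideal A) (S : Type u) [CommRing S] [Algebra A S]
  [Algebra (A ⧸ I) S] [IsScalarTower A (A ⧸ I) S] [Algebra.Etale (A ⧸ I) S]

/-- lifting an étale `A/I`-algebra to an étale `A`-algebra (of Jacobian type) -/
theorem exists_etale_lift :
    ∃ (n : ℕ) (f : Fin n → MvPolynomial (Fin n) A) (ν : JacAlg f →ₐ[A] S),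
      Function.Surjective ν ∧ RingHom.ker ν = I.map (algebraMap A (JacAlg f)) := by
  classical
  obtain ⟨n, ρ, x, hsurj, hker, hu⟩ := exists_jac_presentation (A ⧸ I) S
  have hmapsurj : Function.Surjective (MvPolynomial.map (Ideal.Quotient.mk I) :
      MvPolynomial (Fin n) A → MvPolynomial (Fin n) (A ⧸ I)) :=
    MvPolynomial.map_surjective _ Ideal.Quotient.mk_surjective
  choose f hf using fun j => hmapsurj (ρ j)
  have haev : ∀ p : MvPolynomial (Fin n) A,
      (aeval x : MvPolynomial (Fin n) A →ₐ[A] S) p =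
        (aeval x : MvPolynomial (Fin n) (A ⧸ I) →ₐ[A ⧸ I] S)
          (MvPolynomial.map (Ideal.Quotient.mk I) p) := by
    intro p
    exact (MvPolynomial.aeval_map_algebraMap (A ⧸ I) x p).symm
  have hdet : MvPolynomial.map (Ideal.Quotient.mk I) (jacDet f) = jacDet ρ := by
    rw [map_jacDet]
    congr 1
    exact funext hf
  obtain ⟨uinv, huinv⟩ := hu.exists_left_inv
  set E := JacAlg f with hE
  set mkE := Ideal.Quotient.mk (Ideal.span (Set.range (rel f))) with hmkE
  let ν₀ : MvPolynomial (Fin n ⊕ Unit) A →ₐ[A] S := aeval (Sum.elim x (fun _ => uinv))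
  have hν₀ren : ∀ p : MvPolynomial (Fin n) A, ν₀ (rename Sum.inl p) = aeval x p := by
    intro p
    show aeval _ (rename Sum.inl p) = _
    rw [aeval_rename]
    rfl
  have hρ0 : ∀ j, (aeval x : MvPolynomial (Fin n) (A ⧸ I) →ₐ[A ⧸ I] S) (ρ j) = 0 := by
    intro j
    have : ρ j ∈ RingHom.ker (aeval x : MvPolynomial (Fin n) (A ⧸ I) →ₐ[A ⧸ I] S) := by
      rw [hker]
      exact Ideal.subset_span ⟨j, rfl⟩
    exact this
  have hν₀rel : ∀ k, ν₀ (rel f k) = 0 := by
    intro k
    rcases k with j | u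
    · show ν₀ (rename Sum.inl (f j)) = 0
      rw [hν₀ren, haev, hf, hρ0]
    · show ν₀ (X (Sum.inr ()) * rename Sum.inl (jacDet f) - 1) = 0
      rw [map_sub, map_mul, map_one, hν₀ren, haev, hdet]
      show aeval _ (X (Sum.inr ())) * _ - 1 = 0
      rw [aeval_X]
      show uinv * _ - 1 = 0
      rw [huinv, sub_self]
  let ν : E →ₐ[A] S := Ideal.Quotient.liftₐ _ ν₀ (by
    intro p hp
    have : Ideal.span (Set.range (rel f)) ≤ RingHom.ker ν₀.toRingHom := by
      rw [Ideal.span_le]
      rintro _ ⟨k, rfl⟩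
      exact hν₀rel k
    exact this hp)
  have hνmk : ∀ p, ν (mkE p) = ν₀ p := fun p => rfl
  refine ⟨n, f, ν, ?_, ?_⟩
  · intro s
    obtain ⟨q, rfl⟩ := hsurj s
    obtain ⟨p, rfl⟩ := hmapsurj q
    exact ⟨mkE (rename Sum.inl p), by rw [hνmk, hν₀ren, haev]⟩
  set IE := I.map (algebraMap A E) with hIE
  apply le_antisymm
  swap
  · rw [hIE, Ideal.map_le_iff_le_comap]
    intro a ha
    rw [Ideal.mem_comap, RingHom.mem_ker, AlgHom.commutes,
      IsScalarTower.algebraMap_apply A (A ⧸ I) S]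
    have : algebraMap A (A ⧸ I) a = 0 := Ideal.Quotient.eq_zero_iff_mem.mpr ha
    rw [this, map_zero]
  -- the inverse map modulo `I`
  let qm : A ⧸ I →+* E ⧸ IE := Ideal.quotientMap IE (algebraMap A E) Ideal.le_comap_map
  let mkIE := Ideal.Quotient.mk IE
  let lam₀ : MvPolynomial (Fin n) (A ⧸ I) →+* E ⧸ IE :=
    eval₂Hom qm (fun i => mkIE (mkE (X (Sum.inl i))))
  have hlam₀ : ∀ p : MvPolynomial (Fin n) A,
      lam₀ (MvPolynomial.map (Ideal.Quotient.mk I) p) = mkIE (mkE (rename Sum.inl p)) := by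
    intro p
    have : lam₀.comp (MvPolynomial.map (Ideal.Quotient.mk I)) =
        (mkIE.comp mkE).comp (rename Sum.inl : MvPolynomial (Fin n) A →ₐ[A] _).toRingHom := by
      apply MvPolynomial.ringHom_ext
      · intro r
        show lam₀ (MvPolynomial.map (Ideal.Quotient.mk I) (C r)) = mkIE (mkE (rename Sum.inl (C r)))
        rw [map_C, rename_C]
        show eval₂ _ _ (C _) = _
        rw [eval₂_C]
        rfl
      · intro i
        show lam₀ (MvPolynomial.map (Ideal.Quotient.mk I) (X i)) = mkIE (mkE (rename Sum.inl (X i)))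
        rw [map_X, rename_X]
        show eval₂ _ _ (X _) = _
        rw [eval₂_X]
    exact congrArg (fun g => g p) this
  have hlam₀ker : RingHom.ker (aeval x : MvPolynomial (Fin n) (A ⧸ I) →ₐ[A ⧸ I] S).toRingHom ≤
      RingHom.ker lam₀ := by
    have h1 : RingHom.ker (aeval x : MvPolynomial (Fin n) (A ⧸ I) →ₐ[A ⧸ I] S).toRingHom =
        Ideal.span (Set.range ρ) := hker
    rw [h1, Ideal.span_le]
    rintro _ ⟨j, rfl⟩
    show lam₀ (ρ j) = 0
    rw [← hf, hlam₀]
    have : mkE (rename Sum.inl (f j)) = 0 :=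
      Ideal.Quotient.eq_zero_iff_mem.mpr (Ideal.subset_span ⟨Sum.inl j, rfl⟩)
    rw [this, map_zero]
  let lam : S →+* E ⧸ IE :=
    RingHom.liftOfSurjective (aeval x : MvPolynomial (Fin n) (A ⧸ I) →ₐ[A ⧸ I] S).toRingHom hsurj
      ⟨lam₀, hlam₀ker⟩
  have hlam : ∀ q, lam (aeval x q) = lam₀ q := fun q =>
    RingHom.liftOfSurjective_comp_apply
      (aeval x : MvPolynomial (Fin n) (A ⧸ I) →ₐ[A ⧸ I] S).toRingHom hsurj ⟨lam₀, hlam₀ker⟩ q
  have hY : mkIE (mkE (rename Sum.inl (jacDet f))) * mkIE (mkE (X (Sum.inr ()))) = 1 := by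
    rw [← map_mul, ← map_mul, ← map_one mkIE, ← map_one mkE]
    congr 1
    rw [Ideal.Quotient.eq, mul_comm]
    exact Ideal.subset_span ⟨Sum.inr (), rfl⟩
  have hcomp : (lam.comp ν.toRingHom).comp mkE = mkIE.comp mkE := by
    apply MvPolynomial.ringHom_ext
    · intro a
      show lam (ν₀ (C a)) = mkIE (mkE (C a))
      have h1 : ν₀ (C a) = (aeval x : MvPolynomial (Fin n) (A ⧸ I) →ₐ[A ⧸ I] S)
          (C (Ideal.Quotient.mk I a)) := by
        show aeval _ (C a) = _
        rw [aeval_C, aeval_C, IsScalarTower.algebraMap_apply A (A ⧸ I) S]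
        rfl
      rw [h1, hlam]
      show eval₂ _ _ (C _) = _
      rw [eval₂_C]
      rfl
    · intro k
      rcases k with i | u
      · show lam (ν₀ (X (Sum.inl i))) = mkIE (mkE (X (Sum.inl i)))
        have h1 : ν₀ (X (Sum.inl i)) = (aeval x : MvPolynomial (Fin n) (A ⧸ I) →ₐ[A ⧸ I] S)
            (X i) := by
          show aeval _ (X (Sum.inl i)) = _
          rw [aeval_X, aeval_X]
          rfl
        rw [h1, hlam]
        show eval₂ _ _ (X _) = _
        rw [eval₂_X]
      · show lam (ν₀ (X (Sum.inr ()))) = mkIE (mkE (X (Sum.inr ())))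
        have h1 : ν₀ (X (Sum.inr ())) = uinv := by
          show aeval _ (X (Sum.inr ())) = _
          rw [aeval_X]
          rfl
        rw [h1]
        have h2 : lam (aeval x (jacDet ρ)) = mkIE (mkE (rename Sum.inl (jacDet f))) := by
          rw [hlam, ← hdet, hlam₀]
        have h3 : lam uinv * lam (aeval x (jacDet ρ)) = 1 := by
          rw [← map_mul, huinv, map_one]
        calc lam uinv = lam uinv * (mkIE (mkE (rename Sum.inl (jacDet f))) *
              mkIE (mkE (X (Sum.inr ())))) := by rw [hY]; exact (mul_one (M := E ⧸ IE) _).symm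
          _ = (lam uinv * lam (aeval x (jacDet ρ))) * mkIE (mkE (X (Sum.inr ()))) := by
              rw [h2, mul_assoc]
          _ = mkIE (mkE (X (Sum.inr ()))) := by rw [h3]; exact one_mul (M := E ⧸ IE) _
  intro e he
  obtain ⟨p, rfl⟩ := Ideal.Quotient.mk_surjective e
  have h1 := congrArg (fun g => g p) hcomp
  have h2 : lam (ν (mkE p)) = mkIE (mkE p) := h1
  rw [RingHom.mem_ker] at he
  rw [he, map_zero] at h2
  exact Ideal.Quotient.eq_zero_iff_mem.mp h2.symm

end Groth.Agent.Helper2.JacEt
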