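import Mathlib
import Groth.Prelude
import Groth.Agent.Helper3.HensProj
set_option autoImplicit false
universe u
open TensorProduct

namespace Groth.Agent.Helper2.PairHensBC

attribute [local instance] Algebra.TensorProduct.rightAlgebra

/-- two henselizations of the same pair: any comparison map under `B` is bijective. -/
theorem bijective_of_isPairHenselization {B Bh C : Type u} [CommRing B] [CommRing Bh] [CommRing C]
    [Algebra B Bh] [Algebra B C] (J : Ideal B)
    (hB : Hens2.IsPairHenselization B J Bh) (hC : Hens2.IsPairHenselization B J C)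
    (ψ : C →+* Bh) (hψ : ψ.comp (algebraMap B C) = algebraMap B Bh) :
    Function.Bijective ψ := by
  obtain ⟨θ, hθ, -⟩ := hB.2 C (J.map (algebraMap B C)) (algebraMap B C) hC.1 le_rfl
  have h1 : ψ.comp θ = RingHom.id Bh := by
    obtain ⟨w, -, hw⟩ := hB.2 Bh (J.map (algebraMap B Bh)) (algebraMap B Bh) hB.1 le_rfl
    have e1 : (ψ.comp θ).comp (algebraMap B Bh) = algebraMap B Bh := by
      rw [RingHom.comp_assoc, hθ, hψ]
    have e2 : (RingHom.id Bh).comp (algebraMap B Bh) = algebraMap B Bh := RingHom.id_comp _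
    rw [hw _ e1, hw _ e2]
  have h2 : θ.comp ψ = RingHom.id C := by
    obtain ⟨w, -, hw⟩ := hC.2 C (J.map (algebraMap B C)) (algebraMap B C) hC.1 le_rfl
    have e1 : (θ.comp ψ).comp (algebraMap B C) = algebraMap B C := by
      rw [RingHom.comp_assoc, hψ, hθ]
    have e2 : (RingHom.id C).comp (algebraMap B C) = algebraMap B C := RingHom.id_comp _
    rw [hw _ e1, hw _ e2]
  refine ⟨?_, ?_⟩
  · intro x y hxy
    have := congrArg θ hxy
    have hx : θ (ψ x) = x := congrArg (fun k => k x) h2
    have hy : θ (ψ y) = y := congrArg (fun k => k y) h2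
    rw [hx, hy] at this
    exact this
  · intro y
    exact ⟨θ y, congrArg (fun k => k y) h1⟩

/-- base change of a pair henselization along an integral map is a pair henselization. -/
theorem isPairHenselization_baseChange {A B Ah : Type u} [CommRing A] [CommRing B] [CommRing Ah]
    [Algebra A B] (I : Ideal A) (J : Ideal B)
    (hIJ : I.map (algebraMap A B) ≤ J) (hrad : J.radical = (I.map (algebraMap A B)).radical)
    [Algebra.IsIntegral A B] [Algebra A Ah] (hA : Hens2.IsPairHenselization A I Ah) :
    Hens2.IsPairHenselization B J (Ah ⊗[A] B) := by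
  refine ⟨?_, ?_⟩
  · haveI := hA.1
    haveI h1 : HenselianRing (Ah ⊗[A] B)
        ((I.map (algebraMap A Ah)).map (algebraMap Ah (Ah ⊗[A] B))) :=
      Groth.Agent.Helper3.HensRows.hens_of_isIntegral Ah _ (Ah ⊗[A] B)
    haveI h2 := Groth.Agent.Helper3.HensLocal.hens_radical
      ((I.map (algebraMap A Ah)).map (algebraMap Ah (Ah ⊗[A] B)))
    refine @Groth.Agent.Helper3.HensProj.hens_of_le _ _
      ((I.map (algebraMap A Ah)).map (algebraMap Ah (Ah ⊗[A] B))).radical _ h2 ?_
    rw [Ideal.map_le_iff_le_comap]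
    intro j hj
    have hj' : j ∈ (I.map (algebraMap A B)).radical := hrad ▸ Ideal.le_radical hj
    obtain ⟨n, hn⟩ := hj'
    refine ⟨n, ?_⟩
    rw [← map_pow]
    have h3 : (I.map (algebraMap A Ah)).map (algebraMap Ah (Ah ⊗[A] B)) =
        (I.map (algebraMap A B)).map (algebraMap B (Ah ⊗[A] B)) := by
      rw [Ideal.map_map, Ideal.map_map]
      congr 1
      refine RingHom.ext fun a => ?_
      simp only [RingHom.comp_apply]
      change (algebraMap A Ah a) ⊗ₜ[A] (1 : B) = (1 : Ah) ⊗ₜ[A] (algebraMap A B a)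
      rw [Algebra.algebraMap_eq_smul_one, Algebra.algebraMap_eq_smul_one, TensorProduct.smul_tmul]
    rw [h3]
    exact Ideal.mem_map_of_mem _ hn
  · intro D _ K f hD hfK
    have hIK : I.map (f.comp (algebraMap A B)) ≤ K := by
      rw [← Ideal.map_map]
      exact (Ideal.map_mono hIJ).trans hfK
    obtain ⟨gA, hgA, huniq⟩ := hA.2 D K (f.comp (algebraMap A B)) hD hIK
    letI : Algebra A D := (f.comp (algebraMap A B)).toAlgebra
    let gA' : Ah →ₐ[A] D := ⟨gA, fun a => congrArg (fun k => k a) hgA⟩
    let f' : B →ₐ[A] D := ⟨f, fun a => rfl⟩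
    let g : Ah ⊗[A] B →+* D :=
      (Algebra.TensorProduct.lift gA' f' (fun _ _ => Commute.all _ _)).toRingHom
    have hg : ∀ x y, g (x ⊗ₜ y) = gA x * f y := fun x y => by
      simp [g, gA', f']
    refine ⟨g, ?_, ?_⟩
    · refine RingHom.ext fun b => ?_
      change g (1 ⊗ₜ b) = f b
      rw [hg, map_one, one_mul]
    · intro g' hg'
      have hg'r : ∀ b, g' (1 ⊗ₜ b) = f b := fun b => congrArg (fun k => k b) hg'
      have hl : g'.comp (algebraMap Ah (Ah ⊗[A] B)) = gA := by
        apply huniq
        refine RingHom.ext fun a => ?_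
        simp only [RingHom.comp_apply]
        change g' ((algebraMap A Ah a) ⊗ₜ[A] (1 : B)) = _
        have key : (algebraMap A Ah a) ⊗ₜ[A] (1 : B) = (1 : Ah) ⊗ₜ[A] (algebraMap A B a) := by
          rw [Algebra.algebraMap_eq_smul_one, Algebra.algebraMap_eq_smul_one,
            TensorProduct.smul_tmul]
        rw [key, hg'r]
      have hg'l : ∀ x, g' (x ⊗ₜ 1) = gA x := fun x => congrArg (fun k => k x) hl
      refine RingHom.ext fun d => ?_
      induction d using TensorProduct.induction_on with
      | zero => simp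
      | tmul x y =>
        have hxy : x ⊗ₜ[A] y = (x ⊗ₜ[A] (1 : B)) * ((1 : Ah) ⊗ₜ[A] y) := by
          rw [Algebra.TensorProduct.tmul_mul_tmul, mul_one, one_mul]
        rw [hg, hxy, map_mul, hg'l, hg'r]
      | add d₁ d₂ hd₁ hd₂ => rw [map_add, map_add, hd₁, hd₂]

theorem s9324 {A B Ah Bh : Type u} [CommRing A]
    [CommRing B] [CommRing Ah] [CommRing Bh] [Algebra A B] (I : Ideal A) (J : Ideal B)
    (hIJ : I.map (algebraMap A B) ≤ J) (hrad : J.radical = (I.map (algebraMap A B)).radical)
    [Algebra.IsIntegral A B] [Algebra A Ah] (hA : Hens2.IsPairHenselization A I Ah)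
    [Algebra B Bh] [Algebra A Bh] [IsScalarTower A B Bh] (hB : Hens2.IsPairHenselization B J Bh)
    (φ : Ah →ₐ[A] Bh) :
    Function.Bijective (Algebra.TensorProduct.productMap φ (IsScalarTower.toAlgHom A B Bh)) := by
  have hC := isPairHenselization_baseChange I J hIJ hrad hA
  refine bijective_of_isPairHenselization J hB hC
    (Algebra.TensorProduct.productMap φ (IsScalarTower.toAlgHom A B Bh)).toRingHom ?_
  refine RingHom.ext fun b => ?_
  change Algebra.TensorProduct.productMap φ (IsScalarTower.toAlgHom A B Bh) (1 ⊗ₜ b) = _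
  simp

end Groth.Agent.Helper2.PairHensBC
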