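import Mathlib
set_option autoImplicit false

/-!
# Construction of the henselization of a pair `(R, I)`

A *pointed étale algebra* is an étale `R`-algebra `C` with an `R`-algebra map `γ : C → R ⧸ I`.
We localize `C` at the elements mapping to units, and take the direct limit.
(Adapted from Helper1's construction of the henselization of a local ring.)
-/

universe u

noncomputable section

namespace Groth.Agent.Helper2.PairHens

open TensorProduct

variable {R : Type u} [CommRing R] {I : Ideal R}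

/-! ### Rigidity -/

/-- Rigidity for unramified algebras: two algebra maps which agree modulo an ideal contained in
the Jacobson radical are equal. -/
theorem algHom_eq_of_sub_mem {A A₁ B : Type*} [CommRing A] [CommRing A₁] [Algebra A A₁]
    [CommRing B] [Algebra A B] [Algebra.EssFiniteType A A₁]
    [Algebra.FormallyUnramified A A₁] (K : Ideal B) (hK : K ≤ Ideal.jacobson ⊥)
    (ψ ψ' : A₁ →ₐ[A] B) (h : ∀ x, ψ x - ψ' x ∈ K) : ψ = ψ' := by
  obtain ⟨t, ht1, ht2⟩ := (Algebra.FormallyUnramified.iff_exists_tensorProduct (R := A) (S := A₁)).1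
    inferInstance
  let φ : A₁ ⊗[A] A₁ →ₐ[A] B := Algebra.TensorProduct.productMap ψ ψ'
  have hφ : ∀ a b, φ (a ⊗ₜ b) = ψ a * ψ' b := fun a b => by simp [φ]
  have hres : ∀ z : A₁ ⊗[A] A₁, φ z - ψ (Algebra.TensorProduct.lmul' A z) ∈ K := by
    intro z
    induction z using TensorProduct.induction_on with
    | zero => simp
    | tmul a b =>
      rw [hφ, Algebra.TensorProduct.lmul'_apply_tmul, map_mul]
      have : ψ a * ψ' b - ψ a * ψ b = -(ψ a * (ψ b - ψ' b)) := by ring
      rw [this]
      exact K.neg_mem (K.mul_mem_left _ (h b))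
    | add x y hx hy =>
      rw [map_add, map_add, map_add]
      have : φ x + φ y - (ψ (Algebra.TensorProduct.lmul' A x) + ψ (Algebra.TensorProduct.lmul' A y)) =
          (φ x - ψ (Algebra.TensorProduct.lmul' A x)) + (φ y - ψ (Algebra.TensorProduct.lmul' A y)) := by
        ring
      rw [this]
      exact K.add_mem hx hy
  have hu : IsUnit (φ t) := by
    have h1 := hres t
    rw [ht2, map_one] at h1
    have h2 : φ t - 1 ∈ Ideal.jacobson (⊥ : Ideal B) := hK h1
    have h3 := Ideal.mem_jacobson_bot.mp h2 1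
    simpa using h3
  ext s
  have h5 := congr(φ $(ht1 s))
  rw [map_mul, map_sub, hφ, hφ, map_one, map_one, one_mul, mul_one, map_zero] at h5
  have h6 := (hu.mul_left_eq_zero).1 h5
  exact (sub_eq_zero.1 h6).symm

/-! ### Localisation of a pointed algebra at its point -/

section Point

variable {C : Type u} [CommRing C] [Algebra R C] (γ : C →ₐ[R] R ⧸ I)

/-- The submonoid of elements mapping to units. -/
def uSub : Submonoid C := (IsUnit.submonoid (R ⧸ I)).comap γ

lemma mem_uSub {c : C} : c ∈ uSub γ ↔ IsUnit (γ c) := Iff.rfl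

/-- The localization at the point. -/
abbrev Loc : Type u := Localization (uSub γ)

/-- The point extended to the localization. -/
def γLoc : Loc γ →ₐ[R] R ⧸ I :=
  IsLocalization.liftAlgHom (M := uSub γ) (f := γ) (fun y => y.2)

@[simp] lemma γLoc_algebraMap (c : C) : γLoc γ (algebraMap C (Loc γ) c) = γ c := by
  simp [γLoc]

lemma isUnit_iff_γLoc (x : Loc γ) : IsUnit x ↔ IsUnit (γLoc γ x) := by
  constructor
  · intro h
    exact h.map _
  · intro h
    obtain ⟨c, s, rfl⟩ := IsLocalization.exists_mk'_eq (uSub γ) x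
    have hs : IsUnit (γ (s : C)) := s.2
    have h1 : γLoc γ (IsLocalization.mk' (Loc γ) c s) * γ (s : C) = γ c := by
      rw [← γLoc_algebraMap γ (s : C), ← map_mul, IsLocalization.mk'_spec, γLoc_algebraMap]
    have hc : IsUnit (γ c) := by
      rw [← h1]
      exact h.mul hs
    have h2 : IsUnit (algebraMap C (Loc γ) c) :=
      IsLocalization.map_units (Loc γ) (⟨c, hc⟩ : uSub γ)
    rw [← IsLocalization.mk'_spec (Loc γ) c s] at h2
    exact isUnit_of_mul_isUnit_left h2

lemma ker_γLoc_le_jacobson : RingHom.ker (γLoc γ) ≤ Ideal.jacobson ⊥ := by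
  intro x hx
  rw [Ideal.mem_jacobson_bot]
  intro y
  rw [isUnit_iff_γLoc, map_add, map_mul, (RingHom.mem_ker).mp hx, zero_mul, zero_add, map_one]
  exact isUnit_one

end Point

/-! ### Maps between localisations -/

section LocMap

variable {C : Type u} [CommRing C] [Algebra R C] (γ : C →ₐ[R] R ⧸ I)
variable {D : Type u} [CommRing D] [Algebra R D] (δ : D →ₐ[R] R ⧸ I)

/-- The map induced on localizations by a map of pointed algebras. -/
def locMap (φ : C →ₐ[R] D) (hφ : ∀ c, δ (φ c) = γ c) : Loc γ →ₐ[R] Loc δ :=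
  IsLocalization.liftAlgHom (M := uSub γ)
    (f := (IsScalarTower.toAlgHom R D (Loc δ)).comp φ)
    (fun y => by
      show IsUnit (algebraMap D (Loc δ) (φ (y : C)))
      rw [isUnit_iff_γLoc, γLoc_algebraMap, hφ]
      exact y.2)

@[simp] lemma locMap_algebraMap (φ : C →ₐ[R] D) (hφ : ∀ c, δ (φ c) = γ c) (c : C) :
    locMap γ δ φ hφ (algebraMap C (Loc γ) c) = algebraMap D (Loc δ) (φ c) := by
  simp [locMap]

lemma γLoc_locMap (φ : C →ₐ[R] D) (hφ : ∀ c, δ (φ c) = γ c) (x : Loc γ) :
    γLoc δ (locMap γ δ φ hφ x) = γLoc γ x := by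
  have : (γLoc δ).toRingHom.comp (locMap γ δ φ hφ).toRingHom = (γLoc γ).toRingHom := by
    apply IsLocalization.ringHom_ext (uSub γ)
    ext c
    simp [hφ]
  exact congr($this x)

end LocMap

/-! ### Rigidity for localizations -/

section Rigid

variable {C : Type u} [CommRing C] [Algebra R C] [Algebra.Etale R C] (γ : C →ₐ[R] R ⧸ I)
variable {D : Type u} [CommRing D] [Algebra R D] (δ : D →ₐ[R] R ⧸ I)

instance : Algebra.EssFiniteType R (Loc γ) :=
  Algebra.EssFiniteType.comp R C (Loc γ)

instance : Algebra.FormallyEtale R (Loc γ) :=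
  haveI : Algebra.FormallyEtale C (Loc γ) := Algebra.FormallyEtale.of_isLocalization (uSub γ)
  Algebra.FormallyEtale.comp R C (Loc γ)

instance : Module.Flat R (Loc γ) := Module.Flat.trans R C (Loc γ)

/-- Two maps of localizations compatible with the points agree. -/
theorem locHom_ext (ψ ψ' : Loc γ →ₐ[R] Loc δ) (h : ∀ x, γLoc δ (ψ x) = γLoc γ x)
    (h' : ∀ x, γLoc δ (ψ' x) = γLoc γ x) : ψ = ψ' := by
  apply algHom_eq_of_sub_mem (RingHom.ker (γLoc δ)) (ker_γLoc_le_jacobson δ)
  intro x
  rw [RingHom.mem_ker, map_sub, h, h', sub_self]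

end Rigid

/-! ### The index category -/

variable (R I) in
/-- The small index type: quotients of polynomial rings in finitely many variables which are
étale over `R`, together with a point in `R ⧸ I`. -/
structure Idx where
  n : ℕ
  J : Ideal (MvPolynomial (Fin n) R)
  γ : (MvPolynomial (Fin n) R ⧸ J) →ₐ[R] R ⧸ I
  etale : Algebra.Etale R (MvPolynomial (Fin n) R ⧸ J)

namespace Idx

variable (i j k : Idx R I)

/-- The étale algebra underlying an index. -/
abbrev C : Type u := MvPolynomial (Fin i.n) R ⧸ i.J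

instance : Algebra.Etale R i.C := i.etale

/-- The localization at the point. -/
abbrev L : Type u := Loc i.γ

instance : Preorder (Idx R I) where
  le i j := ∃ φ : i.C →ₐ[R] j.C, ∀ c, j.γ (φ c) = i.γ c
  le_refl i := ⟨AlgHom.id R _, fun _ => rfl⟩
  le_trans i j k := fun ⟨φ, hφ⟩ ⟨ψ, hψ⟩ => ⟨ψ.comp φ, fun c => by
    rw [AlgHom.comp_apply, hψ, hφ]⟩

lemma le_def {i j : Idx R I} : i ≤ j ↔ ∃ φ : i.C →ₐ[R] j.C, ∀ c, j.γ (φ c) = i.γ c := Iff.rfl

/-- The transition maps. -/
def trans {i j : Idx R I} (h : i ≤ j) : i.L →ₐ[R] j.L :=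
  locMap i.γ j.γ h.choose h.choose_spec

lemma γLoc_trans {i j : Idx R I} (h : i ≤ j) (x : i.L) : γLoc j.γ (trans h x) = γLoc i.γ x :=
  γLoc_locMap _ _ _ _ x

lemma trans_eq {i j : Idx R I} (h : i ≤ j) (ψ : i.L →ₐ[R] j.L)
    (hψ : ∀ x, γLoc j.γ (ψ x) = γLoc i.γ x) : trans h = ψ :=
  locHom_ext _ _ _ _ (γLoc_trans h) hψ

lemma trans_eq_locMap {i j : Idx R I} (h : i ≤ j) (φ : i.C →ₐ[R] j.C)
    (hφ : ∀ c, j.γ (φ c) = i.γ c) : trans h = locMap i.γ j.γ φ hφ :=
  trans_eq h _ (γLoc_locMap _ _ _ _)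

instance : DirectedSystem (fun i : Idx R I => i.L) (fun _ _ h => (trans h : _ → _)) where
  map_self i x := by
    have : trans (le_refl i) = AlgHom.id R i.L := trans_eq _ _ (fun _ => rfl)
    exact congr($this x)
  map_map k j i hij hjk x := by
    have : trans (hij.trans hjk) = (trans hjk).comp (trans hij) :=
      trans_eq _ _ (fun x => by rw [AlgHom.comp_apply, γLoc_trans, γLoc_trans])
    exact congr($this x).symm

/-- Every pointed étale algebra has a small model. -/
theorem exists_equiv (C : Type u) [CommRing C] [Algebra R C] [Algebra.Etale R C]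
    (γ : C →ₐ[R] R ⧸ I) : ∃ (i : Idx R I) (e : C ≃ₐ[R] i.C), ∀ c, i.γ (e c) = γ c := by
  obtain ⟨n, f, hf⟩ := Algebra.FiniteType.iff_quotient_mvPolynomial''.1
    (inferInstance : Algebra.FiniteType R C)
  let e : (MvPolynomial (Fin n) R ⧸ RingHom.ker f.toRingHom) ≃ₐ[R] C :=
    Ideal.quotientKerAlgEquivOfSurjective hf
  refine ⟨⟨n, RingHom.ker f.toRingHom, γ.comp e.toAlgHom, Algebra.Etale.of_equiv e.symm⟩,
    e.symm, fun c => ?_⟩
  show γ (e (e.symm c)) = γ c
  rw [e.apply_symm_apply]

instance : IsDirectedOrder (Idx R I) where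
  directed i j := by
    haveI : Algebra.Etale i.C (i.C ⊗[R] j.C) := inferInstance
    haveI : Algebra.Etale R (i.C ⊗[R] j.C) := Algebra.Etale.comp R i.C _
    obtain ⟨k, e, he⟩ := exists_equiv (i.C ⊗[R] j.C) (Algebra.TensorProduct.productMap i.γ j.γ)
    refine ⟨k, ⟨e.toAlgHom.comp Algebra.TensorProduct.includeLeft, fun c => ?_⟩,
      ⟨e.toAlgHom.comp Algebra.TensorProduct.includeRight, fun c => ?_⟩⟩
    · show k.γ (e (c ⊗ₜ 1)) = _
      rw [he]; simp
    · show k.γ (e (1 ⊗ₜ c)) = _
      rw [he]; simp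

instance : Nonempty (Idx R I) := by
  obtain ⟨i, -, -⟩ := exists_equiv R (Algebra.ofId R (R ⧸ I))
  exact ⟨i⟩

end Idx

end Groth.Agent.Helper2.PairHens
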