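import Mathlib
import Groth.Agent.Helper2.PairHensBase
set_option autoImplicit false

/-!
# The ring `Hens I`
-/

universe u

noncomputable section

namespace Groth.Agent.Helper2.PairHens

open TensorProduct

variable {R : Type u} [CommRing R] (I : Ideal R)

/-- The direct limit of the localizations of all pointed étale `R`-algebras with point in `R ⧸ I`. -/
def Hens : Type u :=
  Ring.DirectLimit (fun i : Idx R I => i.L) (fun _ _ h => (Idx.trans h : _ → _))

instance : CommRing (Hens I) :=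
  inferInstanceAs (CommRing (Ring.DirectLimit (fun i : Idx R I => i.L)
    (fun _ _ h => (Idx.trans h : _ → _))))

variable {I}

/-- The canonical maps (as ring homs). -/
def Hens.of (i : Idx R I) : i.L →+* Hens I :=
  Ring.DirectLimit.of (fun i : Idx R I => i.L) (fun _ _ h => (Idx.trans h : _ → _)) i

lemma Hens.of_trans {i j : Idx R I} (h : i ≤ j) (x : i.L) :
    Hens.of j (Idx.trans h x) = Hens.of i x :=
  Ring.DirectLimit.of_f (G := fun i : Idx R I => i.L) (f := fun _ _ h => (Idx.trans h : _ → _)) h x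

lemma Hens.exists_of (z : Hens I) : ∃ (i : Idx R I) (x : i.L), Hens.of i x = z :=
  Ring.DirectLimit.exists_of z

lemma Hens.of_eq_zero {i : Idx R I} {x : i.L} (h : Hens.of i x = 0) :
    ∃ (j : Idx R I) (hij : i ≤ j), Idx.trans hij x = 0 :=
  Ring.DirectLimit.of.zero_exact (G := fun i : Idx R I => i.L)
    (f' := fun _ _ h => (Idx.trans h).toRingHom) h

lemma Hens.of_algebraMap (i j : Idx R I) (r : R) :
    Hens.of i (algebraMap R i.L r) = Hens.of j (algebraMap R j.L r) := by
  obtain ⟨k, hik, hjk⟩ := exists_ge_ge i j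
  rw [← Hens.of_trans hik, ← Hens.of_trans hjk, AlgHom.commutes, AlgHom.commutes]

instance : Algebra R (Hens I) :=
  ((Hens.of (Classical.arbitrary (Idx R I))).comp (algebraMap R _)).toAlgebra

lemma Hens.algebraMap_eq (i : Idx R I) (r : R) :
    algebraMap R (Hens I) r = Hens.of i (algebraMap R i.L r) :=
  Hens.of_algebraMap _ _ r

/-- The canonical maps (as algebra homs). -/
def Hens.ofAlg (i : Idx R I) : i.L →ₐ[R] Hens I :=
  { Hens.of i with commutes' := fun r => (Hens.algebraMap_eq i r).symm }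

@[simp] lemma Hens.ofAlg_apply (i : Idx R I) (x : i.L) : Hens.ofAlg i x = Hens.of i x := rfl

/-- The point of `Hens I` as a ring hom. -/
def Hens.γRing : Hens I →+* R ⧸ I :=
  Ring.DirectLimit.lift (fun i : Idx R I => i.L) (fun _ _ h => (Idx.trans h : _ → _)) (R ⧸ I)
      (fun i => (γLoc i.γ).toRingHom) (fun _ _ h x => Idx.γLoc_trans h x)

lemma Hens.γRing_of (i : Idx R I) (x : i.L) : Hens.γRing (Hens.of i x) = γLoc i.γ x :=
  Ring.DirectLimit.lift_of (G := fun i : Idx R I => i.L)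
    (f := fun _ _ h => (Idx.trans h : _ → _)) (R ⧸ I)
      (fun i => (γLoc i.γ).toRingHom) (fun _ _ h x => Idx.γLoc_trans h x) i x

/-- The point of `Hens I`. -/
def Hens.γ : Hens I →ₐ[R] R ⧸ I :=
  { Hens.γRing with
    commutes' := fun r => by
      rw [Hens.algebraMap_eq (Classical.arbitrary _) r]
      show Hens.γRing (Hens.of _ _) = _
      rw [Hens.γRing_of]
      exact (γLoc _).commutes r }

lemma Hens.γ_of (i : Idx R I) (x : i.L) : Hens.γ (Hens.of i x) = γLoc i.γ x :=
  Hens.γRing_of i x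

lemma Hens.γ_algebraMap (r : R) : Hens.γ (algebraMap R (Hens I) r) = Ideal.Quotient.mk I r :=
  Hens.γ.commutes r

lemma Hens.γ_surjective : Function.Surjective (Hens.γ (I := I)) := by
  intro y
  obtain ⟨r, rfl⟩ := Ideal.Quotient.mk_surjective y
  exact ⟨algebraMap R (Hens I) r, Hens.γ_algebraMap r⟩

/-- Finitely many elements come from a common stage. -/
lemma Hens.exists_of_family {l : Type*} [Finite l] (x : l → Hens I) :
    ∃ (i : Idx R I) (x' : l → i.L), ∀ k, Hens.of i (x' k) = x k := by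
  choose i₀ x₀ hx₀ using fun k => Hens.exists_of (x k)
  obtain ⟨i, hi⟩ := Finite.exists_le i₀
  exact ⟨i, fun k => Idx.trans (hi k) (x₀ k), fun k => by rw [Hens.of_trans, hx₀]⟩

lemma Hens.isUnit_iff (z : Hens I) : IsUnit z ↔ IsUnit (Hens.γ z) := by
  constructor
  · intro h
    exact h.map Hens.γ
  · intro h
    obtain ⟨i, x, rfl⟩ := Hens.exists_of z
    rw [Hens.γ_of] at h
    exact ((isUnit_iff_γLoc i.γ x).2 h).map (Hens.of i)

lemma Hens.ker_γ_le_jacobson : RingHom.ker (Hens.γ (I := I)) ≤ Ideal.jacobson ⊥ := by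
  intro x hx
  rw [Ideal.mem_jacobson_bot]
  intro y
  rw [Hens.isUnit_iff, map_add, map_mul, (RingHom.mem_ker).mp hx, zero_mul, zero_add, map_one]
  exact isUnit_one

/-- Rigidity: two maps from an étale algebra to `Hens I` inducing the same point agree. -/
theorem Hens.algHom_ext {C : Type u} [CommRing C] [Algebra R C] [Algebra.EssFiniteType R C]
    [Algebra.FormallyUnramified R C] (ψ ψ' : C →ₐ[R] Hens I)
    (h : ∀ c, Hens.γ (ψ c) = Hens.γ (ψ' c)) : ψ = ψ' := by
  apply algHom_eq_of_sub_mem (RingHom.ker (Hens.γ (I := I))) Hens.ker_γ_le_jacobson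
  intro x
  rw [RingHom.mem_ker, map_sub, h, sub_self]

section Iota

variable {C : Type u} [CommRing C] [Algebra R C] [Algebra.Etale R C] (γ : C →ₐ[R] R ⧸ I)
variable {D : Type u} [CommRing D] [Algebra R D] [Algebra.Etale R D] (δ : D →ₐ[R] R ⧸ I)

/-- The canonical map from a pointed étale algebra. -/
def Hens.ι : C →ₐ[R] Hens I :=
  ((Hens.ofAlg (Idx.exists_equiv C γ).choose).comp
    (IsScalarTower.toAlgHom R _ _)).comp (Idx.exists_equiv C γ).choose_spec.choose.toAlgHom

lemma Hens.γ_ι (c : C) : Hens.γ (Hens.ι γ c) = γ c := by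
  show Hens.γ (Hens.of _ (algebraMap _ _ ((Idx.exists_equiv C γ).choose_spec.choose c))) = _
  rw [Hens.γ_of, γLoc_algebraMap]
  exact (Idx.exists_equiv C γ).choose_spec.choose_spec c

lemma Hens.ι_unique (ψ : C →ₐ[R] Hens I) (h : ∀ c, Hens.γ (ψ c) = γ c) : ψ = Hens.ι γ :=
  Hens.algHom_ext _ _ (fun c => by rw [h, Hens.γ_ι])

lemma Hens.ι_comp (φ : C →ₐ[R] D) (hφ : ∀ c, δ (φ c) = γ c) (c : C) :
    Hens.ι δ (φ c) = Hens.ι γ c := by
  have : (Hens.ι δ).comp φ = Hens.ι γ :=
    Hens.ι_unique γ _ (fun c => by rw [AlgHom.comp_apply, Hens.γ_ι, hφ])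
  exact congr($this c)

/-- The canonical map from the localization of a pointed étale algebra. -/
def Hens.ιLoc : Loc γ →ₐ[R] Hens I :=
  IsLocalization.liftAlgHom (M := uSub γ) (f := Hens.ι γ)
    (fun y => by
      rw [Hens.isUnit_iff, Hens.γ_ι]
      exact y.2)

@[simp] lemma Hens.ιLoc_algebraMap (c : C) : Hens.ιLoc γ (algebraMap C (Loc γ) c) = Hens.ι γ c := by
  simp [Hens.ιLoc]

lemma Hens.γ_ιLoc (x : Loc γ) : Hens.γ (Hens.ιLoc γ x) = γLoc γ x := by
  have : (Hens.γ (I := I)).toRingHom.comp (Hens.ιLoc γ).toRingHom = (γLoc γ).toRingHom := by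
    apply IsLocalization.ringHom_ext (uSub γ)
    ext c
    simp [Hens.γ_ι]
  exact congr($this x)

lemma Hens.ofAlg_eq_ιLoc (i : Idx R I) : Hens.ofAlg i = Hens.ιLoc i.γ :=
  Hens.algHom_ext _ _ (fun x => by rw [Hens.γ_ιLoc, Hens.ofAlg_apply, Hens.γ_of])

lemma Hens.of_eq_ιLoc (i : Idx R I) (x : i.L) : Hens.of i x = Hens.ιLoc i.γ x :=
  congr($(Hens.ofAlg_eq_ιLoc i) x)

end Iota

end Groth.Agent.Helper2.PairHens
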