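import Mathlib
import Groth.Agent.Helper2.PairHensDef
set_option autoImplicit false

/-!
# `Hens I` is henselian along the kernel of its point
-/

universe u

noncomputable section

namespace Groth.Agent.Helper2.PairHens

open TensorProduct Polynomial

variable {R : Type u} [CommRing R] {I : Ideal R}

section Away

variable {C : Type u} [CommRing C] [Algebra R C] (γ : C →ₐ[R] R ⧸ I) (s : C) (hs : IsUnit (γ s))

/-- The point extended to a localization away from an element mapping to a unit. -/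
def γAway : Localization.Away s →ₐ[R] R ⧸ I :=
  IsLocalization.Away.liftAlgHom s (f := γ) hs

include hs in
@[simp] lemma γAway_algebraMap (c : C) : γAway γ s hs (algebraMap C _ c) = γ c := by
  simp [γAway, IsLocalization.Away.liftAlgHom_apply]

instance [Algebra.Etale R C] : Algebra.Etale R (Localization.Away s) :=
  haveI : Algebra.Etale C (Localization.Away s) := Algebra.Etale.of_isLocalizationAway s
  Algebra.Etale.comp R C _

end Away

lemma Hens.ι_eq_of {C : Type u} [CommRing C] [Algebra R C] [Algebra.Etale R C] (γ : C →ₐ[R] R ⧸ I)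
    (i : Idx R I) (e : C →ₐ[R] i.C) (he : ∀ c, i.γ (e c) = γ c) (c : C) :
    Hens.ι γ c = Hens.of i (algebraMap i.C i.L (e c)) := by
  have : ((Hens.ofAlg i).comp (IsScalarTower.toAlgHom R i.C i.L)).comp e = Hens.ι γ :=
    Hens.ι_unique γ _ (fun c => by
      show Hens.γ (Hens.of i (algebraMap i.C i.L (e c))) = _
      rw [Hens.γ_of, γLoc_algebraMap, he])
  exact congr($this c).symm

/-- Every element comes from a pointed étale algebra. -/
theorem Hens.exists_ι_eq (z : Hens I) :
    ∃ (C : Type u) (_ : CommRing C) (_ : Algebra R C) (_ : Algebra.Etale R C)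
      (γ : C →ₐ[R] R ⧸ I) (c : C), Hens.ι γ c = z := by
  obtain ⟨i, x, rfl⟩ := Hens.exists_of z
  obtain ⟨c, s, rfl⟩ := IsLocalization.exists_mk'_eq (uSub i.γ) x
  have hs : IsUnit (i.γ (s : i.C)) := s.2
  refine ⟨Localization.Away (s : i.C), inferInstance, inferInstance, inferInstance,
    γAway i.γ s hs, IsLocalization.mk' _ c (⟨s, Submonoid.mem_powers _⟩ : Submonoid.powers (s : i.C)), ?_⟩
  have h1 : ∀ c : i.C, Hens.ι (γAway i.γ (s : i.C) hs) (algebraMap i.C _ c) =
      Hens.of i (algebraMap i.C i.L c) := by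
    intro c
    have := Hens.ι_comp i.γ (γAway i.γ (s : i.C) hs) (IsScalarTower.toAlgHom R i.C _)
      (fun c => γAway_algebraMap i.γ _ hs c) c
    rw [IsScalarTower.coe_toAlgHom'] at this
    rw [this, Hens.ι_eq_of i.γ i (AlgHom.id R _) (fun _ => rfl)]
    rfl
  have hu : IsUnit (Hens.of i (algebraMap i.C i.L (s : i.C))) :=
    (IsLocalization.map_units i.L s).map _
  apply hu.mul_left_injective
  beta_reduce
  have e1 : Hens.of i (IsLocalization.mk' i.L c s) * Hens.of i (algebraMap i.C i.L (s : i.C)) =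
      Hens.of i (algebraMap i.C i.L c) := by
    rw [← map_mul, IsLocalization.mk'_spec]
  have e2 : Hens.ι (γAway i.γ (s : i.C) hs) (IsLocalization.mk' _ c
      (⟨s, Submonoid.mem_powers _⟩ : Submonoid.powers (s : i.C))) *
      Hens.ι (γAway i.γ (s : i.C) hs) (algebraMap i.C _ (s : i.C)) =
      Hens.ι (γAway i.γ (s : i.C) hs) (algebraMap i.C _ c) := by
    rw [← map_mul]
    congr 1
    exact IsLocalization.mk'_spec (Localization.Away (s : i.C)) c
      (⟨s, Submonoid.mem_powers _⟩ : Submonoid.powers (s : i.C))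
  rw [e1, ← h1 (s : i.C), e2, h1]

/-- Finitely many elements come from a common pointed étale algebra. -/
theorem Hens.exists_ι_eq_finset (t : Finset (Hens I)) :
    ∃ (C : Type u) (_ : CommRing C) (_ : Algebra R C) (_ : Algebra.Etale R C)
      (γ : C →ₐ[R] R ⧸ I), ∀ z ∈ t, ∃ c : C, Hens.ι γ c = z := by
  classical
  induction t using Finset.induction_on with
  | empty =>
    exact ⟨R, inferInstance, inferInstance, inferInstance, Algebra.ofId R (R ⧸ I), by simp⟩
  | insert a t _ ih =>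
    obtain ⟨C₁, _, _, _, γ₁, h₁⟩ := ih
    obtain ⟨C₂, _, _, _, γ₂, c₂, h₂⟩ := Hens.exists_ι_eq a
    haveI : Algebra.Etale C₁ (C₁ ⊗[R] C₂) := inferInstance
    haveI : Algebra.Etale R (C₁ ⊗[R] C₂) := Algebra.Etale.comp R C₁ _
    let δ : C₁ ⊗[R] C₂ →ₐ[R] R ⧸ I := Algebra.TensorProduct.productMap γ₁ γ₂
    have hδ₁ : ∀ c, δ ((Algebra.TensorProduct.includeLeft : C₁ →ₐ[R] C₁ ⊗[R] C₂) c) = γ₁ c := by
      intro c; simp [δ]
    have hδ₂ : ∀ c, δ ((Algebra.TensorProduct.includeRight : C₂ →ₐ[R] C₁ ⊗[R] C₂) c) = γ₂ c := by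
      intro c; simp [δ]
    refine ⟨C₁ ⊗[R] C₂, inferInstance, inferInstance, inferInstance, δ, ?_⟩
    intro z hz
    rw [Finset.mem_insert] at hz
    rcases hz with rfl | hz
    · refine ⟨1 ⊗ₜ c₂, ?_⟩
      rw [← h₂]
      exact Hens.ι_comp γ₂ δ Algebra.TensorProduct.includeRight hδ₂ c₂
    · obtain ⟨c, rfl⟩ := h₁ z hz
      exact ⟨c ⊗ₜ 1, Hens.ι_comp γ₁ δ Algebra.TensorProduct.includeLeft hδ₁ c⟩

/-- Simple roots in `R ⧸ I` of monic polynomials over pointed étale algebras lift to `Hens I`. -/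
theorem Hens.exists_root {C : Type u} [CommRing C] [Algebra R C] [Algebra.Etale R C]
    (γ : C →ₐ[R] R ⧸ I) (F : C[X]) (hF : F.Monic) (c₀ : C) (h0 : γ (F.eval c₀) = 0)
    (h1 : IsUnit (γ (F.derivative.eval c₀))) :
    ∃ a : Hens I, (F.map (Hens.ι γ).toRingHom).IsRoot a ∧ Hens.γ a = γ c₀ := by
  let P : StandardEtalePair C := ⟨F, hF, F.derivative, ⟨1, 0, 1, by simp⟩⟩
  letI : Algebra R P.Ring := ((algebraMap C P.Ring).comp (algebraMap R C)).toAlgebra
  haveI : IsScalarTower R C P.Ring := IsScalarTower.of_algebraMap_eq (fun _ => rfl)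
  haveI : Algebra.Etale R P.Ring := Algebra.Etale.comp R C P.Ring
  letI : Algebra C (R ⧸ I) := γ.toRingHom.toAlgebra
  haveI : IsScalarTower R C (R ⧸ I) := IsScalarTower.of_algebraMap_eq (fun r => (γ.commutes r).symm)
  have hmap : P.HasMap (γ c₀) := by
    refine ⟨?_, ?_⟩
    · show Polynomial.eval₂ γ.toRingHom (γ c₀) F = 0
      rw [show γ c₀ = γ.toRingHom c₀ from rfl, Polynomial.eval₂_hom]
      exact h0
    · show IsUnit (Polynomial.eval₂ γ.toRingHom (γ c₀) F.derivative)
      rw [show γ c₀ = γ.toRingHom c₀ from rfl, Polynomial.eval₂_hom]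
      exact h1
  let δ : P.Ring →ₐ[R] R ⧸ I := (P.lift (γ c₀) hmap).restrictScalars R
  have hδ : ∀ c, δ ((IsScalarTower.toAlgHom R C P.Ring) c) = γ c := fun c =>
    (P.lift (γ c₀) hmap).commutes c
  refine ⟨Hens.ι δ P.X, ?_, ?_⟩
  · have h2 : (Hens.ι γ).toRingHom = (Hens.ι δ).toRingHom.comp (algebraMap C P.Ring) := by
      ext c
      exact (Hens.ι_comp γ δ (IsScalarTower.toAlgHom R C P.Ring) hδ c).symm
    rw [IsRoot, h2, ← Polynomial.map_map, Polynomial.eval_map]
    show Polynomial.eval₂ (Hens.ι δ).toRingHom ((Hens.ι δ).toRingHom P.X) _ = 0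
    rw [Polynomial.eval₂_hom, Polynomial.eval_map_algebraMap]
    have := (P.hasMap_X).1
    rw [this, map_zero]
  · rw [Hens.γ_ι]
    exact P.lift_X _ hmap

lemma Hens.isUnit_mk_iff (z : Hens I) :
    IsUnit (Ideal.Quotient.mk (RingHom.ker (Hens.γ (I := I))) z) ↔ IsUnit (Hens.γ z) := by
  constructor
  · intro h
    obtain ⟨w, hw⟩ := h.exists_right_inv
    obtain ⟨w, rfl⟩ := Ideal.Quotient.mk_surjective w
    rw [← map_mul, ← map_one (Ideal.Quotient.mk _), Ideal.Quotient.eq, RingHom.mem_ker, map_sub,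
      map_mul, map_one, sub_eq_zero] at hw
    exact IsUnit.of_mul_eq_one _ hw
  · intro h
    exact ((Hens.isUnit_iff z).mpr h).map _

instance Hens.henselianRing : HenselianRing (Hens I) (RingHom.ker (Hens.γ (I := I))) where
  jac := Hens.ker_γ_le_jacobson
  is_henselian f hf a₀ h₁ h₂ := by
    classical
    rcases subsingleton_or_nontrivial (Hens I) with hs | hnt
    · exact ⟨a₀, Subsingleton.elim _ _, by rw [sub_self]; exact Ideal.zero_mem _⟩
    obtain ⟨C, _, _, _, γ, hC⟩ := Hens.exists_ι_eq_finset (f.coeffs ∪ {a₀})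
    have hlift : f ∈ Polynomial.lifts (Hens.ι γ).toRingHom := by
      rw [Polynomial.lifts_iff_coeff_lifts]
      intro n
      by_cases hn : f.coeff n = 0
      · exact ⟨0, by rw [hn, map_zero]⟩
      · obtain ⟨c, hc⟩ := hC (f.coeff n)
          (Finset.mem_union_left _ (Polynomial.coeff_mem_coeffs hn))
        exact ⟨c, hc⟩
    obtain ⟨F, hF, -, hmonic⟩ := Polynomial.lifts_and_degree_eq_and_monic hlift hf
    obtain ⟨c₀, hc₀⟩ := hC a₀ (Finset.mem_union_right _ (Finset.mem_singleton_self _))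
    have key : ∀ G : C[X], Hens.γ ((G.map (Hens.ι γ).toRingHom).eval a₀) = γ (G.eval c₀) := by
      intro G
      rw [← hc₀, Polynomial.eval_map]
      show Hens.γ (Polynomial.eval₂ (Hens.ι γ).toRingHom ((Hens.ι γ).toRingHom c₀) G) = _
      rw [Polynomial.eval₂_hom]
      exact Hens.γ_ι γ _
    have h0 : γ (F.eval c₀) = 0 := by
      rw [← key, hF]
      exact h₁
    have h1 : IsUnit (γ (F.derivative.eval c₀)) := by
      rw [← key, ← Polynomial.derivative_map, hF, ← Hens.isUnit_mk_iff]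
      exact h₂
    obtain ⟨a, ha, haγ⟩ := Hens.exists_root γ F hmonic c₀ h0 h1
    refine ⟨a, hF ▸ ha, ?_⟩
    rw [RingHom.mem_ker, map_sub, haγ, ← hc₀, Hens.γ_ι, sub_self]

end Groth.Agent.Helper2.PairHens
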