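import Mathlib
import Groth.Agent.Helper2.PairHensHens
set_option autoImplicit false

/-!
# The kernel of the point of `Hens I` is `I · Hens I`
-/

universe u

noncomputable section

namespace Groth.Agent.Helper2.PairHens

open TensorProduct Polynomial

variable {R : Type u} [CommRing R] {I : Ideal R}

theorem Hens.map_le_ker : I.map (algebraMap R (Hens I)) ≤ RingHom.ker (Hens.γ (I := I)) := by
  rw [Ideal.map_le_iff_le_comap]
  intro r hr
  rw [Ideal.mem_comap, RingHom.mem_ker, Hens.γ_algebraMap]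
  exact Ideal.Quotient.eq_zero_iff_mem.mpr hr

theorem Hens.ker_γ_eq : RingHom.ker (Hens.γ (I := I)) = I.map (algebraMap R (Hens I)) := by
  refine le_antisymm ?_ Hens.map_le_ker
  intro z hz
  obtain ⟨C, _, _, _, γC, c, rfl⟩ := Hens.exists_ι_eq z
  rw [RingHom.mem_ker, Hens.γ_ι] at hz
  let N : Ideal (Hens I) := I.map (algebraMap R (Hens I))
  let π : Hens I →ₐ[R] Hens I ⧸ N := Ideal.Quotient.mkₐ R N
  let β : R ⧸ I →ₐ[R] Hens I ⧸ N := Ideal.Quotient.liftₐ I (Algebra.ofId R (Hens I ⧸ N)) (by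
    intro r hr
    show algebraMap R (Hens I ⧸ N) r = 0
    rw [IsScalarTower.algebraMap_apply R (Hens I) (Hens I ⧸ N), Ideal.Quotient.algebraMap_eq,
      Ideal.Quotient.eq_zero_iff_mem]
    exact Ideal.mem_map_of_mem _ hr)
  have hβ : ∀ r : R, β (Ideal.Quotient.mk I r) = algebraMap R (Hens I ⧸ N) r := fun r => rfl
  let γbar : Hens I ⧸ N →ₐ[R] R ⧸ I := Ideal.Quotient.liftₐ N Hens.γ (by
    intro x hx
    exact (RingHom.mem_ker).mp (Hens.map_le_ker hx))
  have hγbar : ∀ x : Hens I, γbar (π x) = Hens.γ x := fun x => rfl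
  have hγβ : ∀ y : R ⧸ I, γbar (β y) = y := by
    intro y
    obtain ⟨r, rfl⟩ := Ideal.Quotient.mk_surjective y
    rw [hβ, AlgHom.commutes]
    rfl
  obtain ⟨t, ht1, ht2⟩ := (Algebra.FormallyUnramified.iff_exists_tensorProduct (R := R) (S := C)).1
    inferInstance
  let h : C ⊗[R] C →ₐ[R] Hens I ⧸ N :=
    Algebra.TensorProduct.productMap (π.comp (Hens.ι γC)) (β.comp γC)
  have hh : ∀ a b, h (a ⊗ₜ b) = π (Hens.ι γC a) * β (γC b) := fun a b => by simp [h]
  have h5 : (π (Hens.ι γC 1) * β (γC c) - π (Hens.ι γC c) * β (γC 1)) * h t = 0 := by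
    rw [← hh, ← hh, ← map_sub, ← map_mul, ht1, map_zero]
  simp only [map_one, mul_one, hz, map_zero, mul_zero, zero_sub, neg_mul, neg_eq_zero] at h5
  -- `h t` is a unit
  have hcomp : ∀ z : C ⊗[R] C, γbar (h z) = γC (Algebra.TensorProduct.lmul' R z) := by
    intro z
    induction z using TensorProduct.induction_on with
    | zero => simp
    | tmul a b =>
      rw [hh, map_mul, hγbar, Hens.γ_ι, hγβ, Algebra.TensorProduct.lmul'_apply_tmul, map_mul]
    | add x y hx hy => rw [map_add, map_add, hx, hy, map_add, map_add]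
  have hu : IsUnit (h t) := by
    obtain ⟨w, hw⟩ := Ideal.Quotient.mk_surjective (h t)
    have h1 : Hens.γ w = 1 := by
      have := hcomp t
      rw [ht2, map_one, ← hw] at this
      exact this
    have h2 : IsUnit w := (Hens.isUnit_iff w).mpr (h1 ▸ isUnit_one)
    rw [← hw]
    exact h2.map _
  have h6 := (hu.mul_left_eq_zero).1 h5
  exact Ideal.Quotient.eq_zero_iff_mem.mp h6

instance Hens.henselianRing_map : HenselianRing (Hens I) (I.map (algebraMap R (Hens I))) := by
  rw [← Hens.ker_γ_eq]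
  exact Hens.henselianRing

/-- every element of `Hens I` is congruent to an element of `R` modulo `I · Hens I`. -/
theorem Hens.exists_sub_mem (z : Hens I) :
    ∃ r : R, z - algebraMap R (Hens I) r ∈ I.map (algebraMap R (Hens I)) := by
  obtain ⟨r, hr⟩ := Ideal.Quotient.mk_surjective (Hens.γ z)
  refine ⟨r, ?_⟩
  rw [← Hens.ker_γ_eq, RingHom.mem_ker, map_sub, Hens.γ_algebraMap, hr, sub_self]

end Groth.Agent.Helper2.PairHens
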