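import Mathlib
import Groth.Prelude
import Groth.Agent.Helper2.PairHensKer
import Groth.Agent.Helper3.HensEtale
set_option autoImplicit false

/-!
# The universal property of `Hens I`
-/

universe u

noncomputable section

namespace Groth.Agent.Helper2.PairHens

open TensorProduct Polynomial

variable {R : Type u} [CommRing R] {I : Ideal R}
variable {D : Type u} [CommRing D] (K : Ideal D) [hD : HenselianRing D K] [Algebra R D]
  (τ : R ⧸ I →ₐ[R] D ⧸ K)

section

variable {C : Type u} [CommRing C] [Algebra R C] [Algebra.Etale R C] (γ : C →ₐ[R] R ⧸ I)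

theorem exists_liftLoc :
    ∃ χ : Loc γ →ₐ[R] D, ∀ x, Ideal.Quotient.mk K (χ x) = τ (γLoc γ x) := by
  let σ : D ⊗[R] C →ₐ[D] D ⧸ K :=
    Algebra.TensorProduct.lift (Algebra.ofId D (D ⧸ K)) (τ.comp γ) (fun _ _ => Commute.all _ _)
  obtain ⟨τ', hτ'⟩ := Groth.Agent.Helper3.HensEtale.etale_lift K (D ⊗[R] C) σ
  let χ₀ : C →ₐ[R] D := (τ'.restrictScalars R).comp Algebra.TensorProduct.includeRight
  have hχ₀ : ∀ c, Ideal.Quotient.mk K (χ₀ c) = τ (γ c) := by
    intro c
    have := congrArg (fun k => k ((1 : D) ⊗ₜ[R] c)) hτ'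
    simp only [AlgHom.comp_apply] at this
    rw [show σ ((1 : D) ⊗ₜ[R] c) = τ (γ c) by simp [σ]] at this
    exact this
  have hunit : ∀ y : uSub γ, IsUnit (χ₀ (y : C)) := by
    intro y
    have h1 : IsUnit (γ (y : C)) := y.2
    have h2 : IsUnit (Ideal.Quotient.mk K (χ₀ (y : C))) := by
      rw [hχ₀]
      exact h1.map τ
    exact Groth.Agent.Helper3.HensGabber.isUnit_of_isUnit_mk hD.jac h2
  let χq : Loc γ →ₐ[R] D := IsLocalization.liftAlgHom (M := uSub γ) (f := χ₀) hunit
  have hχq : ∀ c, χq (algebraMap C _ c) = χ₀ c := fun c => by simp [χq]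
  refine ⟨χq, ?_⟩
  have : ((Ideal.Quotient.mk K).comp χq.toRingHom) = τ.toRingHom.comp (γLoc γ).toRingHom := by
    apply IsLocalization.ringHom_ext (uSub γ)
    ext c
    simp only [RingHom.comp_apply, AlgHom.toRingHom_eq_coe, RingHom.coe_coe]
    rw [hχq, hχ₀, γLoc_algebraMap]
  intro x
  exact congr($this x)

/-- The lift of a localization of a pointed étale algebra to a henselian pair. -/
def liftLoc : Loc γ →ₐ[R] D := (exists_liftLoc K τ γ).choose

lemma mk_liftLoc (x : Loc γ) : Ideal.Quotient.mk K (liftLoc K τ γ x) = τ (γLoc γ x) :=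
  (exists_liftLoc K τ γ).choose_spec x

lemma liftLoc_unique (ψ : Loc γ →ₐ[R] D) (hψ : ∀ x, Ideal.Quotient.mk K (ψ x) = τ (γLoc γ x)) :
    ψ = liftLoc K τ γ := by
  apply algHom_eq_of_sub_mem K hD.jac
  intro x
  rw [← Ideal.Quotient.eq, hψ, mk_liftLoc]

end

/-- The lift of `Hens I` to a henselian pair, as a ring hom. -/
def Hens.liftRing : Hens I →+* D :=
  Ring.DirectLimit.lift (fun i : Idx R I => i.L) (fun _ _ h => (Idx.trans h : _ → _)) D
    (fun i => (liftLoc K τ i.γ).toRingHom) (fun i j h x => by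
      have : (liftLoc K τ j.γ).comp (Idx.trans h) = liftLoc K τ i.γ :=
        liftLoc_unique K τ i.γ _ (fun x => by
          rw [AlgHom.comp_apply, mk_liftLoc, Idx.γLoc_trans])
      exact congr($this x))

lemma Hens.liftRing_of (i : Idx R I) (x : i.L) :
    Hens.liftRing K τ (Hens.of i x) = liftLoc K τ i.γ x :=
  Ring.DirectLimit.lift_of (G := fun i : Idx R I => i.L)
    (f := fun _ _ h => (Idx.trans h : _ → _)) D _ _ i x

/-- The lift of `Hens I` to a henselian pair. -/
def Hens.lift : Hens I →ₐ[R] D :=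
  { Hens.liftRing K τ with
    commutes' := fun r => by
      rw [Hens.algebraMap_eq (Classical.arbitrary _) r]
      show Hens.liftRing K τ (Hens.of _ _) = _
      rw [Hens.liftRing_of, AlgHom.commutes] }

lemma Hens.lift_of (i : Idx R I) (x : i.L) :
    Hens.lift K τ (Hens.of i x) = liftLoc K τ i.γ x :=
  Hens.liftRing_of K τ i x

lemma Hens.mk_lift (z : Hens I) : Ideal.Quotient.mk K (Hens.lift K τ z) = τ (Hens.γ z) := by
  obtain ⟨i, x, rfl⟩ := Hens.exists_of z
  rw [Hens.lift_of, mk_liftLoc, Hens.γ_of]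

lemma Hens.lift_unique (g : Hens I →ₐ[R] D) (hg : ∀ z, Ideal.Quotient.mk K (g z) = τ (Hens.γ z)) :
    g = Hens.lift K τ := by
  ext z
  obtain ⟨i, x, rfl⟩ := Hens.exists_of z
  rw [Hens.lift_of]
  have : g.comp (Hens.ofAlg i) = liftLoc K τ i.γ :=
    liftLoc_unique K τ i.γ _ (fun x => by
      rw [AlgHom.comp_apply, hg, Hens.ofAlg_apply, Hens.γ_of])
  exact congr($this x)

/-- `Hens I` is a henselization of the pair `(R, I)`. -/
theorem Hens.isPairHenselization (R : Type u) [CommRing R] (I : Ideal R) :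
    Hens2.IsPairHenselization R I (Hens I) := by
  refine ⟨Hens.henselianRing_map, ?_⟩
  intro D _ K f hD hfK
  letI : Algebra R D := f.toAlgebra
  let τ : R ⧸ I →ₐ[R] D ⧸ K := Ideal.Quotient.liftₐ I (Algebra.ofId R (D ⧸ K)) (by
    intro r hr
    show algebraMap R (D ⧸ K) r = 0
    rw [IsScalarTower.algebraMap_apply R D (D ⧸ K), Ideal.Quotient.algebraMap_eq,
      Ideal.Quotient.eq_zero_iff_mem]
    exact hfK (Ideal.mem_map_of_mem f hr))
  have hτ : ∀ r : R, τ (Ideal.Quotient.mk I r) = Ideal.Quotient.mk K (f r) := fun r => rfl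
  refine ⟨(Hens.lift K τ).toRingHom, ?_, ?_⟩
  · ext r
    exact (Hens.lift K τ).commutes r
  · intro g hg
    let g' : Hens I →ₐ[R] D := { g with commutes' := fun r => congr($hg r) }
    have hg'I : ∀ n ∈ I.map (algebraMap R (Hens I)), g' n ∈ K := by
      intro n hn
      have hle : I.map (algebraMap R (Hens I)) ≤ K.comap g'.toRingHom := by
        rw [Ideal.map_le_iff_le_comap]
        intro r hr
        simp only [Ideal.mem_comap, AlgHom.toRingHom_eq_coe, RingHom.coe_coe, AlgHom.commutes]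
        exact hfK (Ideal.mem_map_of_mem f hr)
      exact hle hn
    have : g' = Hens.lift K τ := by
      apply Hens.lift_unique
      intro z
      obtain ⟨r, hr⟩ := Hens.exists_sub_mem z
      have h1 : Ideal.Quotient.mk K (g' z) = Ideal.Quotient.mk K (g' (algebraMap R (Hens I) r)) := by
        rw [Ideal.Quotient.eq, ← map_sub]
        exact hg'I _ hr
      have h2 : Hens.γ z = Ideal.Quotient.mk I r := by
        have := (RingHom.mem_ker).mp (Hens.map_le_ker hr)
        rw [map_sub, Hens.γ_algebraMap, sub_eq_zero] at this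
        exact this
      rw [h1, h2, hτ, AlgHom.commutes]
      rfl
    ext z
    exact congr($this z)

end Groth.Agent.Helper2.PairHens
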