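import Mathlib
import Groth.Prelude
import Groth.Agent.Helper2.PairHensUniv
import Groth.Agent.Helper2.PairHensBC
import Groth.Agent.Helper3.HensProj
import Groth.Agent.Helper3.HensBasic
set_option autoImplicit false

/-!
# Properties of henselizations of pairs: flatness, quotients, uniqueness
-/

universe u

noncomputable section

namespace Groth.Agent.Helper2.PairHens

open TensorProduct Polynomial

variable {R : Type u} [CommRing R] {I : Ideal R}

instance Hens.flat : Module.Flat R (Hens I) := by
  apply Module.Flat.of_forall_isTrivialRelation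
  intro l f x hfx
  obtain ⟨i, x', hx'⟩ := Hens.exists_of_family x
  have h1 : Hens.of i (∑ k, f k • x' k) = 0 := by
    rw [← hfx, map_sum]
    refine Finset.sum_congr rfl fun k _ => ?_
    rw [← hx' k, ← Hens.ofAlg_apply, ← Hens.ofAlg_apply, map_smul]
  obtain ⟨j, hij, h2⟩ := Hens.of_eq_zero h1
  rw [map_sum] at h2
  have h3 : ∑ k, f k • Idx.trans hij (x' k) = 0 := by
    rw [← h2]
    exact Finset.sum_congr rfl fun k _ => (map_smul _ _ _).symm
  obtain ⟨m, a, y, hy1, hy2⟩ := Module.Flat.isTrivialRelation_of_sum_smul_eq_zero (R := R)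
    (M := j.L) (f := f) (x := fun k => Idx.trans hij (x' k)) h3
  refine ⟨m, a, fun n => Hens.of j (y n), fun k => ?_, hy2⟩
  have hy1k : Idx.trans hij (x' k) = ∑ n, a k n • y n := hy1 k
  rw [← hx' k, ← Hens.of_trans hij, hy1k, map_sum]
  refine Finset.sum_congr rfl fun n _ => ?_
  beta_reduce
  rw [← Hens.ofAlg_apply, ← Hens.ofAlg_apply, map_smul]

section Uniq

variable {B : Type u} [CommRing B] [Algebra R B]

/-- Any henselization of the pair `(R, I)` is isomorphic to `Hens I`. -/
theorem exists_algEquiv (hB : Hens2.IsPairHenselization R I B) :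
    Nonempty (Hens I ≃ₐ[R] B) := by
  obtain ⟨ψ, hψ, -⟩ := (Hens.isPairHenselization R I).2 B (I.map (algebraMap R B))
    (algebraMap R B) hB.1 le_rfl
  have hbij := Groth.Agent.Helper2.PairHensBC.bijective_of_isPairHenselization I hB
    (Hens.isPairHenselization R I) ψ hψ
  let ψ' : Hens I →ₐ[R] B := { ψ with commutes' := fun r => congr($hψ r) }
  exact ⟨AlgEquiv.ofBijective ψ' hbij⟩

theorem flat_of_isPairHenselization (hB : Hens2.IsPairHenselization R I B) : Module.Flat R B := by
  obtain ⟨e⟩ := exists_algEquiv hB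
  exact Module.Flat.of_linearEquiv e.symm.toLinearEquiv

theorem exists_sub_mem_of_isPairHenselization (hB : Hens2.IsPairHenselization R I B) (b : B) :
    ∃ r : R, b - algebraMap R B r ∈ I.map (algebraMap R B) := by
  obtain ⟨e⟩ := exists_algEquiv hB
  obtain ⟨r, hr⟩ := Hens.exists_sub_mem (e.symm b)
  refine ⟨r, ?_⟩
  have h1 : e (e.symm b - algebraMap R (Hens I) r) ∈
      (I.map (algebraMap R (Hens I))).map (e : Hens I →+* B) :=
    Ideal.mem_map_of_mem _ hr
  rw [map_sub, e.apply_symm_apply, AlgEquiv.commutes, Ideal.map_map] at h1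
  have h2 : (e : Hens I →+* B).comp (algebraMap R (Hens I)) = algebraMap R B := by
    ext r
    exact e.commutes r
  rw [h2] at h1
  exact h1

theorem top_eq_sup_pow (hB : Hens2.IsPairHenselization R I B) (n : ℕ) :
    (⊤ : Submodule R B) = LinearMap.range (Algebra.linearMap R B) ⊔ (I ^ n) • (⊤ : Submodule R B) := by
  induction n with
  | zero =>
    rw [pow_zero, Ideal.one_eq_top, Submodule.top_smul]
    exact (sup_top_eq _).symm
  | succ n ih =>
    have h1 : (⊤ : Submodule R B) =
        LinearMap.range (Algebra.linearMap R B) ⊔ I • (⊤ : Submodule R B) := by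
      refine le_antisymm ?_ le_top
      intro b _
      obtain ⟨r, hr⟩ := exists_sub_mem_of_isPairHenselization hB b
      have hb : b = algebraMap R B r + (b - algebraMap R B r) := by ring
      rw [hb]
      refine Submodule.add_mem_sup ⟨r, rfl⟩ ?_
      rw [Ideal.smul_top_eq_map]
      exact hr
    refine le_antisymm ?_ le_top
    calc (⊤ : Submodule R B) = LinearMap.range (Algebra.linearMap R B) ⊔ (I ^ n) • (⊤ : Submodule R B) := ih
      _ = LinearMap.range (Algebra.linearMap R B) ⊔ (I ^ n) •
          (LinearMap.range (Algebra.linearMap R B) ⊔ I • (⊤ : Submodule R B)) := by rw [← h1]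
      _ ≤ LinearMap.range (Algebra.linearMap R B) ⊔ (I ^ (n + 1)) • (⊤ : Submodule R B) := by
        rw [Submodule.smul_sup, ← sup_assoc]
        refine sup_le_sup ?_ ?_
        · exact sup_le le_rfl Submodule.smul_le_right
        · rw [← Submodule.mul_smul, pow_succ]

theorem exists_sub_mem_pow (hB : Hens2.IsPairHenselization R I B) (n : ℕ) (b : B) :
    ∃ r : R, b - algebraMap R B r ∈ (I ^ n).map (algebraMap R B) := by
  have hb : b ∈ (⊤ : Submodule R B) := trivial
  rw [top_eq_sup_pow hB n, Submodule.mem_sup] at hb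
  obtain ⟨y, ⟨r, rfl⟩, z, hz, hyz⟩ := hb
  refine ⟨r, ?_⟩
  rw [Ideal.smul_top_eq_map] at hz
  have : b - algebraMap R B r = z := by
    rw [← hyz]
    simp
  rw [this]
  exact hz

theorem henselianRing_bot (A : Type*) [CommRing A] : HenselianRing A ⊥ where
  jac := bot_le
  is_henselian f _ a₀ h₁ _ := ⟨a₀, (Ideal.mem_bot.mp h₁), by simp⟩

theorem henselianRing_of_le_nilradical {A : Type u} [CommRing A] (J : Ideal A)
    (hJ : J ≤ nilradical A) : HenselianRing A J := by
  haveI := henselianRing_bot A
  haveI : HenselianRing A (⊥ : Ideal A).radical := Groth.Agent.Helper3.HensLocal.hens_radical ⊥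
  exact Groth.Agent.Helper3.HensProj.hens_of_le (⊥ : Ideal A).radical J hJ

theorem mem_pow_of_algebraMap_mem (hB : Hens2.IsPairHenselization R I B) (n : ℕ) (r : R)
    (hr : algebraMap R B r ∈ (I ^ n).map (algebraMap R B)) : r ∈ I ^ n := by
  let K : Ideal (R ⧸ I ^ n) := I.map (Ideal.Quotient.mk (I ^ n))
  have hK : K ≤ nilradical (R ⧸ I ^ n) := by
    intro x hx
    refine ⟨n, ?_⟩
    have h1 : x ^ n ∈ K ^ n := Ideal.pow_mem_pow hx n
    have h2 : K ^ n = ⊥ := by
      rw [← Ideal.map_pow, Ideal.map_quotient_self]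
    rw [h2] at h1
    exact h1
  have hhens := henselianRing_of_le_nilradical K hK
  obtain ⟨g, hg, -⟩ := hB.2 (R ⧸ I ^ n) K (Ideal.Quotient.mk (I ^ n)) hhens le_rfl
  have h1 : g (algebraMap R B r) ∈ ((I ^ n).map (algebraMap R B)).map g := Ideal.mem_map_of_mem _ hr
  rw [Ideal.map_map, hg, Ideal.map_quotient_self] at h1
  have h2 : g (algebraMap R B r) = Ideal.Quotient.mk (I ^ n) r := congr($hg r)
  rw [h2] at h1
  exact Ideal.Quotient.eq_zero_iff_mem.mp h1

theorem quotientMap_bijective (hB : Hens2.IsPairHenselization R I B) (n : ℕ) :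
    Function.Bijective
      (Ideal.quotientMap ((I ^ n).map (algebraMap R B)) (algebraMap R B) Ideal.le_comap_map) := by
  constructor
  · rw [injective_iff_map_eq_zero]
    intro x hx
    obtain ⟨r, rfl⟩ := Ideal.Quotient.mk_surjective x
    rw [Ideal.quotientMap_mk, Ideal.Quotient.eq_zero_iff_mem] at hx
    exact Ideal.Quotient.eq_zero_iff_mem.mpr (mem_pow_of_algebraMap_mem hB n r hx)
  · intro y
    obtain ⟨b, rfl⟩ := Ideal.Quotient.mk_surjective y
    obtain ⟨r, hr⟩ := exists_sub_mem_pow hB n b
    refine ⟨Ideal.Quotient.mk _ r, ?_⟩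
    rw [Ideal.quotientMap_mk]
    exact (Ideal.Quotient.eq.mpr hr).symm

end Uniq

end Groth.Agent.Helper2.PairHens
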