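import Mathlib
import Groth.Prelude
import Groth.Agent.Helper2.PairHensProps
set_option autoImplicit false

/-!
# Henselization of the pair `(A, m)` versus henselization of the local ring `A`
-/

universe u

noncomputable section

namespace Groth.Agent.Helper2.PairHens

open TensorProduct Polynomial IsLocalRing

/-- transport of pair henselizations along algebra isomorphisms -/
theorem isPairHenselization_of_algEquiv {R : Type u} [CommRing R] {I : Ideal R}
    {B B' : Type u} [CommRing B] [CommRing B'] [Algebra R B] [Algebra R B'] (e : B' ≃ₐ[R] B)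
    (h : Hens2.IsPairHenselization R I B') : Hens2.IsPairHenselization R I B := by
  have hcomp : (e : B' →+* B).comp (algebraMap R B') = algebraMap R B := by
    ext r
    exact e.commutes r
  have hcomp' : (e.symm : B →+* B').comp (algebraMap R B) = algebraMap R B' := by
    ext r
    exact e.symm.commutes r
  refine ⟨?_, ?_⟩
  · haveI := h.1
    have := Groth.Agent.Helper3.HensGabber.henselian_map_of_surjective
      (I.map (algebraMap R B')) (e : B' →+* B) e.surjective
    rw [Ideal.map_map, hcomp] at this
    exact this
  · intro C _ J f hC hfJ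
    obtain ⟨g', hg', huniq⟩ := h.2 C J f hC hfJ
    refine ⟨g'.comp (e.symm : B →+* B'), ?_, ?_⟩
    · show (g'.comp (e.symm : B →+* B')).comp (algebraMap R B) = f
      rw [RingHom.comp_assoc, hcomp', hg']
    · intro g₂ hg₂
      have hg₂' : g₂.comp (algebraMap R B) = f := hg₂
      have h1 : g₂.comp (e : B' →+* B) = g' := by
        apply huniq
        show (g₂.comp (e : B' →+* B)).comp (algebraMap R B') = f
        rw [RingHom.comp_assoc, hcomp, hg₂']
      rw [← h1]
      ext b
      simp

variable (A B : Type u) [CommRing A] [IsLocalRing A] [CommRing B] [IsLocalRing B] [Algebra A B]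
  [IsLocalHom (algebraMap A B)]

theorem map_maximalIdeal_eq_of_isPairHenselization
    (hB : Hens2.IsPairHenselization A (maximalIdeal A) B) :
    (maximalIdeal A).map (algebraMap A B) = maximalIdeal B := by
  have hle : (maximalIdeal A).map (algebraMap A B) ≤ maximalIdeal B :=
    ((local_hom_TFAE (algebraMap A B)).out 0 2 rfl rfl).mp inferInstance
  refine le_antisymm hle ?_
  intro b hb
  obtain ⟨r, hr⟩ := exists_sub_mem_of_isPairHenselization hB b
  have h1 : algebraMap A B r ∈ maximalIdeal B := by
    have := (maximalIdeal B).sub_mem hb (hle hr)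
    simpa using this
  have h2 : r ∈ maximalIdeal A := by
    rw [mem_maximalIdeal, mem_nonunits_iff]
    intro hu
    exact h1 (hu.map _)
  have h3 : b = algebraMap A B r + (b - algebraMap A B r) := by ring
  rw [h3]
  exact Ideal.add_mem _ (Ideal.mem_map_of_mem _ h2) hr

theorem isHenselization_of_isPairHenselization
    (hB : Hens2.IsPairHenselization A (maximalIdeal A) B) : Hensel.IsHenselization A B := by
  haveI h1 : HenselianRing B (maximalIdeal B) := by
    rw [← map_maximalIdeal_eq_of_isPairHenselization A B hB]
    exact hB.1
  refine ⟨Groth.Agent.Helper3.HensLocal.henselianLocalRing_of_henselianRing B, ?_⟩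
  intro T _ _ f hf
  have hle : (maximalIdeal A).map f ≤ maximalIdeal T :=
    ((local_hom_TFAE f).out 0 2 rfl rfl).mp hf
  exact hB.2 T (maximalIdeal T) f inferInstance hle

/-- uniqueness of henselizations of a local ring -/
theorem exists_algEquiv_of_isHenselization (B' : Type u) [CommRing B'] [IsLocalRing B']
    [Algebra A B'] [IsLocalHom (algebraMap A B')]
    [hB : Hensel.IsHenselization A B] [hB' : Hensel.IsHenselization A B'] :
    Nonempty (B' ≃ₐ[A] B) := by
  haveI : HenselianLocalRing B := hB.henselian
  haveI : HenselianLocalRing B' := hB'.henselian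
  obtain ⟨g, hg, -⟩ := hB'.universal B (algebraMap A B) inferInstance
  obtain ⟨g', hg', -⟩ := hB.universal B' (algebraMap A B') inferInstance
  have h1 : g.comp g' = RingHom.id B := by
    obtain ⟨w, -, hw⟩ := hB.universal B (algebraMap A B) inferInstance
    have e1 : (g.comp g').comp (algebraMap A B) = algebraMap A B := by
      rw [RingHom.comp_assoc, hg', hg]
    have e2 : (RingHom.id B).comp (algebraMap A B) = algebraMap A B := RingHom.id_comp _
    rw [hw _ e1, hw _ e2]
  have h2 : g'.comp g = RingHom.id B' := by
    obtain ⟨w, -, hw⟩ := hB'.universal B' (algebraMap A B') inferInstance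
    have e1 : (g'.comp g).comp (algebraMap A B') = algebraMap A B' := by
      rw [RingHom.comp_assoc, hg, hg']
    have e2 : (RingHom.id B').comp (algebraMap A B') = algebraMap A B' := RingHom.id_comp _
    rw [hw _ e1, hw _ e2]
  let gA : B' →ₐ[A] B := { g with commutes' := fun r => congr($hg r) }
  let gA' : B →ₐ[A] B' := { g' with commutes' := fun r => congr($hg' r) }
  exact ⟨AlgEquiv.ofAlgHom gA gA' (by ext b; exact congr($h1 b)) (by ext b; exact congr($h2 b))⟩

section HensLocal

variable {A}

instance Hens.nontrivial_of_local : Nontrivial (Hens (maximalIdeal A)) := by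
  refine ⟨⟨0, 1, fun h => ?_⟩⟩
  have := congr(Hens.γ (I := maximalIdeal A) $h)
  rw [map_zero, map_one] at this
  exact zero_ne_one this

lemma Hens.isUnit_iff_local (z : Hens (maximalIdeal A)) :
    IsUnit z ↔ Hens.γ z ≠ 0 := by
  rw [Hens.isUnit_iff]
  letI := Ideal.Quotient.field (maximalIdeal A)
  exact isUnit_iff_ne_zero

instance Hens.isLocalRing_of_local : IsLocalRing (Hens (maximalIdeal A)) := by
  refine IsLocalRing.of_nonunits_add ?_
  intro a b ha hb
  rw [mem_nonunits_iff, Hens.isUnit_iff_local, not_not] at ha hb ⊢
  rw [map_add, ha, hb, add_zero]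

instance Hens.isLocalHom_of_local : IsLocalHom (algebraMap A (Hens (maximalIdeal A))) := by
  constructor
  intro r hr
  rw [Hens.isUnit_iff_local, Hens.γ_algebraMap] at hr
  by_contra hnu
  exact hr (Ideal.Quotient.eq_zero_iff_mem.mpr ((mem_maximalIdeal r).mpr hnu))

end HensLocal

theorem isPairHenselization_of_isHenselization [hB : Hensel.IsHenselization A B] :
    Hens2.IsPairHenselization A (maximalIdeal A) B := by
  haveI := isHenselization_of_isPairHenselization A (Hens (maximalIdeal A))
    (Hens.isPairHenselization A (maximalIdeal A))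
  obtain ⟨e⟩ := exists_algEquiv_of_isHenselization A B (Hens (maximalIdeal A))
  exact isPairHenselization_of_algEquiv e (Hens.isPairHenselization A (maximalIdeal A))

theorem s1993 : Hens2.IsPairHenselization A (IsLocalRing.maximalIdeal A) B ↔
    Hensel.IsHenselization A B :=
  ⟨fun h => isHenselization_of_isPairHenselization A B h,
    fun h => isPairHenselization_of_isHenselization A B⟩

end Groth.Agent.Helper2.PairHens
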