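import Mathlib
import Groth.Prelude
import Groth.Agent.Helper2.PairHensLocal
set_option autoImplicit false

/-!
# Étale algebras and henselian pairs: lifting, and henselization along étale maps
-/

universe u

noncomputable section

namespace Groth.Agent.Helper2.PairHens

open TensorProduct Polynomial

/-- étale lifting into a henselian pair -/
theorem exists_algHom_of_etale {R : Type u} [CommRing R] {C : Type u} [CommRing C] (J : Ideal C)
    [hC : HenselianRing C J] [Algebra R C] (S : Type u) [CommRing S] [Algebra R S]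
    [Algebra.Etale R S] (σ : S →ₐ[R] C ⧸ J) :
    ∃ ρ : S →ₐ[R] C, ∀ s, Ideal.Quotient.mk J (ρ s) = σ s := by
  let σ' : C ⊗[R] S →ₐ[C] C ⧸ J :=
    Algebra.TensorProduct.lift (Algebra.ofId C (C ⧸ J)) σ (fun _ _ => Commute.all _ _)
  obtain ⟨τ', hτ'⟩ := Groth.Agent.Helper3.HensEtale.etale_lift J (C ⊗[R] S) σ'
  refine ⟨(τ'.restrictScalars R).comp Algebra.TensorProduct.includeRight, fun s => ?_⟩
  have := congrArg (fun k => k ((1 : C) ⊗ₜ[R] s)) hτ'
  simp only [AlgHom.comp_apply] at this
  rw [show σ' ((1 : C) ⊗ₜ[R] s) = σ s by simp [σ']] at this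
  exact this

/-- S17592: henselization along an étale map which is an isomorphism modulo `I`. -/
theorem isPairHenselization_of_etale (R : Type u) [CommRing R] (I : Ideal R)
    (S : Type u) [CommRing S] [Algebra R S] [Algebra.Etale R S]
    (hq : Function.Bijective
      (Ideal.quotientMap (I.map (algebraMap R S)) (algebraMap R S) Ideal.le_comap_map))
    (H : Type u) [CommRing H] [Algebra S H] [Algebra R H] [IsScalarTower R S H]
    (hH : Hens2.IsPairHenselization S (I.map (algebraMap R S)) H) :
    Hens2.IsPairHenselization R I H := by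
  have hmap : (I.map (algebraMap R S)).map (algebraMap S H) = I.map (algebraMap R H) := by
    rw [Ideal.map_map, ← IsScalarTower.algebraMap_eq]
  -- every element of `S` is congruent to an element of `R`
  have hS : ∀ s : S, ∃ r : R, s - algebraMap R S r ∈ I.map (algebraMap R S) := by
    intro s
    obtain ⟨y, hy⟩ := hq.2 (Ideal.Quotient.mk _ s)
    obtain ⟨r, rfl⟩ := Ideal.Quotient.mk_surjective y
    rw [Ideal.quotientMap_mk] at hy
    exact ⟨r, Ideal.Quotient.eq.mp hy.symm⟩
  refine ⟨hmap ▸ hH.1, ?_⟩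
  intro C _ J f hC hfJ
  letI : Algebra R C := f.toAlgebra
  let e : R ⧸ I ≃+* S ⧸ I.map (algebraMap R S) := RingEquiv.ofBijective _ hq
  have he : ∀ r : R, e (Ideal.Quotient.mk I r) =
      Ideal.Quotient.mk (I.map (algebraMap R S)) (algebraMap R S r) :=
    fun r => rfl
  let τ : R ⧸ I →+* C ⧸ J := Ideal.quotientMap J f (Ideal.map_le_iff_le_comap.mp hfJ)
  have hτ : ∀ r : R, τ (Ideal.Quotient.mk I r) = Ideal.Quotient.mk J (f r) :=
    fun r => rfl
  let σ : S →ₐ[R] C ⧸ J :=
    { τ.comp ((e.symm : S ⧸ I.map (algebraMap R S) →+* R ⧸ I).comp (Ideal.Quotient.mk _)) with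
      commutes' := fun r => by
        show τ (e.symm (Ideal.Quotient.mk (I.map (algebraMap R S)) (algebraMap R S r))) = _
        rw [← he, e.symm_apply_apply, hτ]
        rfl }
  obtain ⟨ρ, hρ⟩ := exists_algHom_of_etale J S σ
  have hρJ : ∀ (ρ' : S →ₐ[R] C), (I.map (algebraMap R S)).map (ρ' : S →+* C) ≤ J := by
    intro ρ'
    rw [Ideal.map_map, Ideal.map_le_iff_le_comap]
    intro i hi
    rw [Ideal.mem_comap, RingHom.comp_apply]
    show ρ' (algebraMap R S i) ∈ J
    rw [AlgHom.commutes]
    exact hfJ (Ideal.mem_map_of_mem f hi)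
  obtain ⟨g, hg, huniq⟩ := hH.2 C J (ρ : S →+* C) hC (hρJ ρ)
  have hg' : ∀ s, g (algebraMap S H s) = ρ s := fun s => congr($hg s)
  refine ⟨g, ?_, ?_⟩
  · ext r
    show g (algebraMap R H r) = f r
    rw [IsScalarTower.algebraMap_apply R S H, hg', AlgHom.commutes]
    rfl
  · intro g₂ hg₂
    have hg₂' : ∀ r, g₂ (algebraMap R H r) = f r := fun r => congr($hg₂ r)
    apply huniq
    let ρ₂ : S →ₐ[R] C :=
      { g₂.comp (algebraMap S H) with
        commutes' := fun r => by
          show g₂ (algebraMap S H (algebraMap R S r)) = _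
          rw [← IsScalarTower.algebraMap_apply R S H, hg₂']
          rfl }
    have : ρ₂ = ρ := by
      apply algHom_eq_of_sub_mem J hC.jac
      intro s
      obtain ⟨r, hr⟩ := hS s
      have h1 : ρ₂ (s - algebraMap R S r) ∈ J := hρJ ρ₂ (Ideal.mem_map_of_mem _ hr)
      have h2 : ρ (s - algebraMap R S r) ∈ J := hρJ ρ (Ideal.mem_map_of_mem _ hr)
      have h3 : ρ₂ s - ρ s = ρ₂ (s - algebraMap R S r) - ρ (s - algebraMap R S r) := by
        rw [map_sub, map_sub, AlgHom.commutes, AlgHom.commutes]
        ring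
      rw [h3]
      exact J.sub_mem h1 h2
    ext s
    exact congr($this s)

end Groth.Agent.Helper2.PairHens
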