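import Mathlib
import Groth.Prelude
import Groth.Agent.Helper2.PairHensEt
set_option autoImplicit false

/-!
# Maps between h-étale algebras over a henselian pair
-/

universe u

noncomputable section

namespace Groth.Agent.Helper2.PairHens

open TensorProduct Polynomial

/-- maps of an ideal extension under an algebra hom -/
theorem map_algHom_mem {A B B' : Type*} [CommRing A] [CommRing B] [CommRing B'] [Algebra A B]
    [Algebra A B'] (I : Ideal A) (φ : B →ₐ[A] B') {b : B} (hb : b ∈ I.map (algebraMap A B)) :
    φ b ∈ I.map (algebraMap A B') := by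
  have hle : I.map (algebraMap A B) ≤ (I.map (algebraMap A B')).comap (φ : B →+* B') := by
    rw [Ideal.map_le_iff_le_comap]
    intro a ha
    rw [Ideal.mem_comap, Ideal.mem_comap]
    show φ (algebraMap A B a) ∈ _
    rw [AlgHom.commutes]
    exact Ideal.mem_map_of_mem _ ha
  exact hle hb

/-- S17604 -/
theorem s17604 (A : Type u) [CommRing A]
    (I : Ideal A) [HenselianRing A I]
    (R : Type u) [CommRing R] [Algebra A R] [Algebra.Etale A R]
    (B : Type u) [CommRing B] [Algebra R B] [Algebra A B] [IsScalarTower A R B]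
    (hB : Hens2.IsPairHenselization R (I.map (algebraMap A R)) B)
    (R' : Type u) [CommRing R'] [Algebra A R'] [Algebra.Etale A R']
    (B' : Type u) [CommRing B'] [Algebra R' B'] [Algebra A B'] [IsScalarTower A R' B']
    (hB' : Hens2.IsPairHenselization R' (I.map (algebraMap A R')) B') :
    (∀ φ ψ : B →ₐ[A] B', (∀ b : B, φ b - ψ b ∈ I.map (algebraMap A B')) → φ = ψ) ∧
    ∀ χ : (B ⧸ I.map (algebraMap A B)) →ₐ[A] (B' ⧸ I.map (algebraMap A B')),
      ∃ φ : B →ₐ[A] B', ∀ b : B,
        Ideal.Quotient.mk (I.map (algebraMap A B')) (φ b) =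
          χ (Ideal.Quotient.mk (I.map (algebraMap A B)) b) := by
  have hmap' : (I.map (algebraMap A R')).map (algebraMap R' B') = I.map (algebraMap A B') := by
    rw [Ideal.map_map, ← IsScalarTower.algebraMap_eq]
  have hmap : (I.map (algebraMap A R)).map (algebraMap R B) = I.map (algebraMap A B) := by
    rw [Ideal.map_map, ← IsScalarTower.algebraMap_eq]
  haveI hhens' : HenselianRing B' (I.map (algebraMap A B')) := hmap' ▸ hB'.1
  -- uniqueness of extensions from `R` to `B`
  have hext : ∀ φ ψ : B →ₐ[A] B', (∀ r : R, φ (algebraMap R B r) = ψ (algebraMap R B r)) → φ = ψ := by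
    intro φ ψ h
    have hle : (I.map (algebraMap A R)).map ((φ : B →+* B').comp (algebraMap R B)) ≤
        I.map (algebraMap A B') := by
      rw [← Ideal.map_map, hmap, Ideal.map_le_iff_le_comap]
      intro b hb
      exact map_algHom_mem I φ hb
    obtain ⟨w, -, hw⟩ := hB.2 B' (I.map (algebraMap A B')) ((φ : B →+* B').comp (algebraMap R B))
      hhens' hle
    have e1 := hw (φ : B →+* B') rfl
    have e2 := hw (ψ : B →+* B') (by
      ext r
      exact (h r).symm)
    ext b
    have := e1.trans e2.symm
    exact congr($this b)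
  refine ⟨?_, ?_⟩
  · intro φ ψ h
    apply hext
    let φR : R →ₐ[A] B' := φ.comp (IsScalarTower.toAlgHom A R B)
    let ψR : R →ₐ[A] B' := ψ.comp (IsScalarTower.toAlgHom A R B)
    have : φR = ψR := by
      apply algHom_eq_of_sub_mem (I.map (algebraMap A B')) hhens'.jac
      intro r
      exact h _
    intro r
    exact congr($this r)
  · intro χ
    -- the point `R → B'/IB'`
    let σ : R →ₐ[A] B' ⧸ I.map (algebraMap A B') :=
      (χ.comp (Ideal.Quotient.mkₐ A (I.map (algebraMap A B)))).comp (IsScalarTower.toAlgHom A R B)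
    obtain ⟨ρ, hρ⟩ := exists_algHom_of_etale (I.map (algebraMap A B')) R σ
    have hle : (I.map (algebraMap A R)).map (ρ : R →+* B') ≤ I.map (algebraMap A B') := by
      rw [Ideal.map_le_iff_le_comap]
      intro b hb
      exact map_algHom_mem I ρ hb
    obtain ⟨g, hg, -⟩ := hB.2 B' (I.map (algebraMap A B')) (ρ : R →+* B') hhens' hle
    have hg' : ∀ r, g (algebraMap R B r) = ρ r := fun r => congr($hg r)
    let φ : B →ₐ[A] B' :=
      { g with
        commutes' := fun a => by
          show g (algebraMap A B a) = _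
          rw [IsScalarTower.algebraMap_apply A R B, hg', AlgHom.commutes] }
    refine ⟨φ, fun b => ?_⟩
    obtain ⟨r, hr⟩ := exists_sub_mem_of_isPairHenselization hB b
    rw [hmap] at hr
    have h1 : Ideal.Quotient.mk (I.map (algebraMap A B')) (φ b) =
        Ideal.Quotient.mk (I.map (algebraMap A B')) (φ (algebraMap R B r)) := by
      rw [Ideal.Quotient.eq, ← map_sub]
      exact map_algHom_mem I φ hr
    have h2 : Ideal.Quotient.mk (I.map (algebraMap A B)) b =
        Ideal.Quotient.mk (I.map (algebraMap A B)) (algebraMap R B r) :=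
      Ideal.Quotient.eq.mpr hr
    rw [h1, h2]
    show Ideal.Quotient.mk (I.map (algebraMap A B')) (g (algebraMap R B r)) = _
    rw [hg', hρ]
    rfl

/-- S17605 -/
theorem s17605 (A : Type u) [CommRing A]
    (I : Ideal A) (f₁ f₂ : A)
    (h : (PrimeSpectrum.basicOpen f₂ : Set (PrimeSpectrum A)) ∩ PrimeSpectrum.zeroLocus (I : Set A) ⊆
      (PrimeSpectrum.basicOpen f₁ : Set (PrimeSpectrum A)) ∩ PrimeSpectrum.zeroLocus (I : Set A))
    (H₁ : Type u) [CommRing H₁] [Algebra (Localization.Away f₁) H₁] [Algebra A H₁]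
    [IsScalarTower A (Localization.Away f₁) H₁]
    (hH₁ : Hens2.IsPairHenselization (Localization.Away f₁)
      (I.map (algebraMap A (Localization.Away f₁))) H₁)
    (H₂ : Type u) [CommRing H₂] [Algebra (Localization.Away f₂) H₂] [Algebra A H₂]
    [IsScalarTower A (Localization.Away f₂) H₂]
    (hH₂ : Hens2.IsPairHenselization (Localization.Away f₂)
      (I.map (algebraMap A (Localization.Away f₂))) H₂) :
    Nonempty (H₁ →ₐ[A] H₂) ∧ Subsingleton (H₁ →ₐ[A] H₂) := by
  have hmap₂ : (I.map (algebraMap A (Localization.Away f₂))).map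
      (algebraMap (Localization.Away f₂) H₂) = I.map (algebraMap A H₂) := by
    rw [Ideal.map_map, ← IsScalarTower.algebraMap_eq]
  haveI hhens₂ : HenselianRing H₂ (I.map (algebraMap A H₂)) := hmap₂ ▸ hH₂.1
  -- `f₁` is a unit in `H₂`
  have hunit : IsUnit (algebraMap A H₂ f₁) := by
    by_contra hnu
    obtain ⟨M, hM, hfM⟩ := exists_max_ideal_of_mem_nonunits hnu
    have hIM : I.map (algebraMap A H₂) ≤ M :=
      hhens₂.jac.trans (by
        haveI := hM
        calc Ideal.jacobson (⊥ : Ideal H₂) ≤ Ideal.jacobson M := Ideal.jacobson_mono bot_le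
          _ = M := Ideal.jacobson_eq_self_of_isMaximal)
    let p : PrimeSpectrum A := ⟨M.comap (algebraMap A H₂), inferInstance⟩
    have hp2 : p ∈ (PrimeSpectrum.basicOpen f₂ : Set (PrimeSpectrum A)) := by
      show f₂ ∉ M.comap (algebraMap A H₂)
      intro hf
      have h1 : IsUnit (algebraMap A H₂ f₂) := by
        rw [IsScalarTower.algebraMap_apply A (Localization.Away f₂) H₂]
        exact (IsLocalization.Away.algebraMap_isUnit f₂).map _
      exact hM.ne_top (Ideal.eq_top_of_isUnit_mem _ hf h1)
    have hpI : p ∈ PrimeSpectrum.zeroLocus (I : Set A) := by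
      intro a ha
      exact hIM (Ideal.mem_map_of_mem _ ha)
    have := (h ⟨hp2, hpI⟩).1
    exact this hfM
  let l : Localization.Away f₁ →+* H₂ := IsLocalization.Away.lift f₁ hunit
  have hl : l.comp (algebraMap A (Localization.Away f₁)) = algebraMap A H₂ :=
    IsLocalization.Away.lift_comp f₁ hunit
  have hle : (I.map (algebraMap A (Localization.Away f₁))).map l ≤
      (I.map (algebraMap A (Localization.Away f₂))).map (algebraMap (Localization.Away f₂) H₂) := by
    rw [Ideal.map_map, hl, hmap₂]
  obtain ⟨g, hg, huniq⟩ := hH₁.2 H₂ _ l hH₂.1 hle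
  have key : ∀ φ : H₁ →ₐ[A] H₂, (φ : H₁ →+* H₂).comp (algebraMap (Localization.Away f₁) H₁) = l := by
    intro φ
    apply IsLocalization.ringHom_ext (Submonoid.powers f₁)
    rw [hl]
    ext a
    show φ (algebraMap (Localization.Away f₁) H₁ (algebraMap A (Localization.Away f₁) a)) = _
    rw [← IsScalarTower.algebraMap_apply A (Localization.Away f₁) H₁, AlgHom.commutes]
  refine ⟨⟨{ g with
    commutes' := fun a => by
      show g (algebraMap A H₁ a) = _
      rw [IsScalarTower.algebraMap_apply A (Localization.Away f₁) H₁]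
      have := congr($hg (algebraMap A (Localization.Away f₁) a))
      rw [RingHom.comp_apply] at this
      rw [this]
      exact congr($hl a) }⟩, ⟨fun φ ψ => ?_⟩⟩
  have e1 := huniq (φ : H₁ →+* H₂) (key φ)
  have e2 := huniq (ψ : H₁ →+* H₂) (key ψ)
  ext b
  exact congr($(e1.trans e2.symm) b)

end Groth.Agent.Helper2.PairHens
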