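import Mathlib
import Groth.Prelude
import Groth.Agent.Helper2.PairHensEt2
set_option autoImplicit false

/-!
# Truncations of h-étale / h-smooth algebras
-/

universe u

noncomputable section

namespace Groth.Agent.Helper2.PairHens

open TensorProduct Polynomial

section Trunc

variable (A : Type u) [CommRing A] (I : Ideal A)
    (R : Type u) [CommRing R] [Algebra A R]
    (B : Type u) [CommRing B] [Algebra R B] [Algebra A B] [IsScalarTower A R B]

theorem truncation_bijective (hB : Hens2.IsPairHenselization R (I.map (algebraMap A R)) B) (r : ℕ) :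
    Function.Bijective (Ideal.quotientMapₐ ((I ^ r).map (algebraMap A B))
      (IsScalarTower.toAlgHom A R B)
      (by
        rw [← Ideal.map_le_iff_le_comap]
        show ((I ^ r).map (algebraMap A R)).map (algebraMap R B) ≤ _
        rw [Ideal.map_map, ← IsScalarTower.algebraMap_eq]) :
      (R ⧸ (I ^ r).map (algebraMap A R)) →ₐ[A] (B ⧸ (I ^ r).map (algebraMap A B))) := by
  have e1 : (I.map (algebraMap A R)) ^ r = (I ^ r).map (algebraMap A R) := (Ideal.map_pow _ _ _).symm
  have e2 : ((I.map (algebraMap A R)) ^ r).map (algebraMap R B) = (I ^ r).map (algebraMap A B) := by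
    rw [e1, Ideal.map_map, ← IsScalarTower.algebraMap_eq]
  constructor
  · rw [injective_iff_map_eq_zero]
    intro x hx
    obtain ⟨r', rfl⟩ := Ideal.Quotient.mk_surjective x
    rw [Ideal.quotient_map_mkₐ, Ideal.Quotient.mkₐ_eq_mk, Ideal.Quotient.eq_zero_iff_mem] at hx
    have hx' : algebraMap R B r' ∈ ((I.map (algebraMap A R)) ^ r).map (algebraMap R B) := by
      rw [e2]
      exact hx
    have := mem_pow_of_algebraMap_mem hB r r' hx'
    rw [e1] at this
    exact Ideal.Quotient.eq_zero_iff_mem.mpr this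
  · intro y
    obtain ⟨b, rfl⟩ := Ideal.Quotient.mk_surjective y
    obtain ⟨r', hr'⟩ := exists_sub_mem_pow hB r b
    rw [e2] at hr'
    refine ⟨Ideal.Quotient.mk _ r', ?_⟩
    rw [Ideal.quotient_map_mkₐ, Ideal.Quotient.mkₐ_eq_mk]
    exact (Ideal.Quotient.eq.mpr hr').symm

/-- the truncations of a henselization `B` of `(R, IR)` agree with those of `R`. -/
def truncationEquiv (hB : Hens2.IsPairHenselization R (I.map (algebraMap A R)) B) (r : ℕ) :
    (R ⧸ (I ^ r).map (algebraMap A R)) ≃ₐ[A ⧸ I ^ r] (B ⧸ (I ^ r).map (algebraMap A B)) :=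
  AlgEquiv.extendScalarsOfSurjective Ideal.Quotient.mk_surjective
    (AlgEquiv.ofBijective _ (truncation_bijective A I R B hB r))

theorem s17602 [Algebra.Etale A R]
    (hB : Hens2.IsPairHenselization R (I.map (algebraMap A R)) B) :
    Module.Flat A B ∧ ∀ r : ℕ, 1 ≤ r →
      Algebra.Etale (A ⧸ I ^ r) (B ⧸ (I ^ r).map (algebraMap A B)) := by
  refine ⟨?_, fun r _ => ?_⟩
  · haveI := flat_of_isPairHenselization hB
    exact Module.Flat.trans A R B
  · haveI : Algebra.Etale (A ⧸ I ^ r) (R ⧸ (I ^ r).map (algebraMap A R)) :=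
      Algebra.Etale.of_equiv (Algebra.TensorProduct.quotIdealMapEquivQuotTensor R (I ^ r)).symm
    exact Algebra.Etale.of_equiv (truncationEquiv A I R B hB r)

theorem s17603 [Algebra.Smooth A R]
    (hB : Hens2.IsPairHenselization R (I.map (algebraMap A R)) B) :
    Module.Flat A B ∧ ∀ r : ℕ, 1 ≤ r →
      Algebra.Smooth (A ⧸ I ^ r) (B ⧸ (I ^ r).map (algebraMap A B)) := by
  refine ⟨?_, fun r _ => ?_⟩
  · haveI := flat_of_isPairHenselization hB
    haveI : Module.Flat A R := inferInstance
    exact Module.Flat.trans A R B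
  · haveI : Algebra.Smooth (A ⧸ I ^ r) (R ⧸ (I ^ r).map (algebraMap A R)) :=
      Algebra.Smooth.of_equiv (Algebra.TensorProduct.quotIdealMapEquivQuotTensor R (I ^ r)).symm
    exact Algebra.Smooth.of_equiv (truncationEquiv A I R B hB r)

end Trunc

end Groth.Agent.Helper2.PairHens
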