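import Mathlib
import Groth.Prelude
import Groth.Agent.Helper2.PairHensEt3
set_option autoImplicit false

/-!
# Pair-étale neighbourhoods: the henselization as their colimit
-/

universe u

noncomputable section

namespace Groth.Agent.Helper2.PairHens

open TensorProduct Polynomial

variable {R : Type u} [CommRing R] {I : Ideal R}

/-- If an element of a pointed étale algebra dies in `Hens I`, it already dies in some
pointed étale algebra over it. -/
theorem Hens.exists_of_ι_eq_zero {C : Type u} [CommRing C] [Algebra R C] [Algebra.Etale R C]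
    (γ : C →ₐ[R] R ⧸ I) (c : C) (hc : Hens.ι γ c = 0) :
    ∃ (D : Type u) (_ : CommRing D) (_ : Algebra R D) (_ : Algebra.Etale R D) (δ : D →ₐ[R] R ⧸ I)
      (φ : C →ₐ[R] D), (∀ c, δ (φ c) = γ c) ∧ φ c = 0 := by
  obtain ⟨i, e, he⟩ := Idx.exists_equiv C γ
  rw [Hens.ι_eq_of γ i e.toAlgHom he] at hc
  obtain ⟨j, hij, h0⟩ := Hens.of_eq_zero hc
  obtain ⟨φ, hφ⟩ := hij
  rw [Idx.trans_eq_locMap _ φ hφ, locMap_algebraMap] at h0
  rw [IsLocalization.map_eq_zero_iff (uSub j.γ)] at h0
  obtain ⟨t, ht⟩ := h0
  have hts : IsUnit (j.γ (t : j.C)) := t.2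
  refine ⟨Localization.Away (t : j.C), inferInstance, inferInstance, inferInstance,
    γAway j.γ t hts, ((IsScalarTower.toAlgHom R j.C _).comp φ).comp e.toAlgHom, ?_, ?_⟩
  · intro c
    show γAway j.γ t hts (algebraMap j.C _ (φ (e c))) = _
    rw [γAway_algebraMap, hφ]
    exact he c
  · show algebraMap j.C (Localization.Away (t : j.C)) (φ (e c)) = 0
    rw [IsLocalization.map_eq_zero_iff (Submonoid.powers (t : j.C))]
    exact ⟨⟨t, Submonoid.mem_powers _⟩, ht⟩

/-- A pointed étale algebra can be shrunk to a pair-étale neighbourhood. -/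
theorem exists_shrink (C : Type u) [CommRing C] [Algebra R C] [Algebra.Etale R C]
    (γ : C →ₐ[R] R ⧸ I) :
    ∃ e : C, γ e = 1 ∧ Function.Bijective
      (Ideal.quotientMap (I.map (algebraMap R (Localization.Away e)))
        (algebraMap R (Localization.Away e)) Ideal.le_comap_map) := by
  let N : Ideal C := I.map (algebraMap R C)
  let π : C →ₐ[R] C ⧸ N := Ideal.Quotient.mkₐ R N
  let β : R ⧸ I →ₐ[R] C ⧸ N := Ideal.Quotient.liftₐ I (Algebra.ofId R (C ⧸ N)) (by
    intro r hr
    show algebraMap R (C ⧸ N) r = 0
    rw [IsScalarTower.algebraMap_apply R C (C ⧸ N), Ideal.Quotient.algebraMap_eq,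
      Ideal.Quotient.eq_zero_iff_mem]
    exact Ideal.mem_map_of_mem _ hr)
  have hβ : ∀ r : R, β (Ideal.Quotient.mk I r) = π (algebraMap R C r) := fun r => rfl
  have hγN : ∀ x ∈ N, γ x = 0 := by
    intro x hx
    have := map_algHom_mem I γ hx
    rw [Ideal.Quotient.algebraMap_eq, Ideal.map_quotient_self] at this
    exact this
  let γbar : C ⧸ N →ₐ[R] R ⧸ I := Ideal.Quotient.liftₐ N γ hγN
  have hγbar : ∀ x : C, γbar (π x) = γ x := fun x => rfl
  have hγβ : ∀ y : R ⧸ I, γbar (β y) = y := by
    intro y
    obtain ⟨r, rfl⟩ := Ideal.Quotient.mk_surjective y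
    rw [hβ, hγbar, AlgHom.commutes]
    rfl
  obtain ⟨t, ht1, ht2⟩ := (Algebra.FormallyUnramified.iff_exists_tensorProduct (R := R) (S := C)).1
    inferInstance
  let h : C ⊗[R] C →ₐ[R] C ⧸ N := Algebra.TensorProduct.productMap π (β.comp γ)
  have hh : ∀ a b, h (a ⊗ₜ b) = π a * β (γ b) := fun a b => by simp [h]
  have h5 : ∀ c : C, (β (γ c) - π c) * h t = 0 := by
    intro c
    have : (π 1 * β (γ c) - π c * β (γ 1)) * h t = 0 := by
      rw [← hh, ← hh, ← map_sub, ← map_mul, ht1, map_zero]
    simpa using this
  have hcomp : ∀ z : C ⊗[R] C, γbar (h z) = γ (Algebra.TensorProduct.lmul' R z) := by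
    intro z
    induction z using TensorProduct.induction_on with
    | zero => simp
    | tmul a b =>
      rw [hh, map_mul, hγbar, hγβ, Algebra.TensorProduct.lmul'_apply_tmul, map_mul]
    | add x y hx hy => rw [map_add, map_add, hx, hy, map_add, map_add]
  obtain ⟨e, he⟩ := Ideal.Quotient.mk_surjective (h t)
  have hγe : γ e = 1 := by
    have := hcomp t
    rw [ht2, map_one, ← he] at this
    exact this
  refine ⟨e, hγe, ?_⟩
  have hue : IsUnit (γ e) := hγe ▸ isUnit_one
  -- key congruence in `C`
  have key : ∀ (c : C) (a : R), Ideal.Quotient.mk I a = γ c → (algebraMap R C a - c) * e ∈ N := by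
    intro c a ha
    rw [← Ideal.Quotient.eq_zero_iff_mem, map_mul, map_sub]
    have := h5 c
    rw [← ha, hβ, ← he] at this
    exact this
  have hmapN : N.map (algebraMap C (Localization.Away e)) =
      I.map (algebraMap R (Localization.Away e)) := by
    rw [Ideal.map_map, ← IsScalarTower.algebraMap_eq]
  have hunit : IsUnit (algebraMap C (Localization.Away e) e) :=
    IsLocalization.Away.algebraMap_isUnit e
  have key' : ∀ (c : C) (a : R), Ideal.Quotient.mk I a = γ c →
      algebraMap R (Localization.Away e) a - algebraMap C (Localization.Away e) c ∈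
        I.map (algebraMap R (Localization.Away e)) := by
    intro c a ha
    have h1 : algebraMap C (Localization.Away e) ((algebraMap R C a - c) * e) ∈
        I.map (algebraMap R (Localization.Away e)) := by
      rw [← hmapN]
      exact Ideal.mem_map_of_mem _ (key c a ha)
    rw [map_mul, map_sub, ← IsScalarTower.algebraMap_apply] at h1
    obtain ⟨u, hu⟩ := hunit.exists_right_inv
    have h2 := Ideal.mul_mem_right u _ h1
    rw [mul_assoc, hu, mul_one] at h2
    exact h2
  constructor
  · rw [injective_iff_map_eq_zero]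
    intro x hx
    obtain ⟨a, rfl⟩ := Ideal.Quotient.mk_surjective x
    rw [Ideal.quotientMap_mk, Ideal.Quotient.eq_zero_iff_mem] at hx
    have := map_algHom_mem I (γAway γ e hue) hx
    rw [Ideal.Quotient.algebraMap_eq, Ideal.map_quotient_self, Ideal.mem_bot, AlgHom.commutes] at this
    exact this
  · intro y
    obtain ⟨a', rfl⟩ := Ideal.Quotient.mk_surjective y
    obtain ⟨c, s, rfl⟩ := IsLocalization.exists_mk'_eq (Submonoid.powers e) a'
    obtain ⟨n, hn⟩ := s.2
    obtain ⟨a, ha⟩ := Ideal.Quotient.mk_surjective (γ c)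
    refine ⟨Ideal.Quotient.mk I a, ?_⟩
    rw [Ideal.quotientMap_mk]
    -- in the quotient, `e = 1`
    set q := Ideal.Quotient.mk (I.map (algebraMap R (Localization.Away e))) with hq
    have hqe : q (algebraMap C (Localization.Away e) e) = 1 := by
      have := key' e 1 (by rw [map_one, hγe])
      rw [map_one] at this
      have h2 := Ideal.Quotient.eq.mpr this
      rw [map_one] at h2
      exact h2.symm
    have hqc : q (algebraMap R (Localization.Away e) a) = q (algebraMap C (Localization.Away e) c) :=
      Ideal.Quotient.eq.mpr (key' c a ha)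
    have hspec : q (IsLocalization.mk' (Localization.Away e) c s) *
        q (algebraMap C (Localization.Away e) (s : C)) = q (algebraMap C (Localization.Away e) c) := by
      rw [← map_mul, IsLocalization.mk'_spec]
    rw [← hn, map_pow, map_pow, hqe, one_pow, mul_one] at hspec
    rw [hqc, hspec]

end Groth.Agent.Helper2.PairHens
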