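import Mathlib
import Groth.Prelude
import Groth.Agent.Helper2.PairHensNbhd
set_option autoImplicit false

/-!
# S19568: the henselization of a pair as the colimit of its pair-étale neighbourhoods
-/

universe u

noncomputable section

namespace Groth.Agent.Helper2.PairHens

open TensorProduct Polynomial

section Nbhd

variable {A : Type u} [CommRing A] {I : Ideal A} {A' : Type u} [CommRing A'] [Algebra A A']
  (hq : Function.Bijective
    (Ideal.quotientMap (I.map (algebraMap A A')) (algebraMap A A') Ideal.le_comap_map))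

include hq in
theorem nbhd_exists_sub_mem (a' : A') :
    ∃ a : A, a' - algebraMap A A' a ∈ I.map (algebraMap A A') := by
  obtain ⟨y, hy⟩ := hq.2 (Ideal.Quotient.mk _ a')
  obtain ⟨r, rfl⟩ := Ideal.Quotient.mk_surjective y
  rw [Ideal.quotientMap_mk] at hy
  exact ⟨r, Ideal.Quotient.eq.mp hy.symm⟩

/-- the point of a pair-étale neighbourhood -/
def nbhdPoint : A' →ₐ[A] A ⧸ I :=
  { ((RingEquiv.ofBijective _ hq).symm : A' ⧸ I.map (algebraMap A A') →+* A ⧸ I).comp
      (Ideal.Quotient.mk (I.map (algebraMap A A'))) with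
    commutes' := fun r => by
      show (RingEquiv.ofBijective _ hq).symm
        (Ideal.Quotient.mk (I.map (algebraMap A A')) (algebraMap A A' r)) = _
      have : Ideal.Quotient.mk (I.map (algebraMap A A')) (algebraMap A A' r) =
          RingEquiv.ofBijective _ hq (Ideal.Quotient.mk I r) := rfl
      rw [this, RingEquiv.symm_apply_apply]
      rfl }

include hq in
/-- rigidity of maps out of a pair-étale neighbourhood -/
theorem nbhd_algHom_subsingleton [Algebra.Etale A A'] (T : Type u) [CommRing T] [Algebra A T]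
    (hT : I.map (algebraMap A T) ≤ Ideal.jacobson ⊥) : Subsingleton (A' →ₐ[A] T) := by
  refine ⟨fun φ ψ => ?_⟩
  apply algHom_eq_of_sub_mem (I.map (algebraMap A T)) hT
  intro a'
  obtain ⟨a, ha⟩ := nbhd_exists_sub_mem hq a'
  have h1 := map_algHom_mem I φ ha
  have h2 := map_algHom_mem I ψ ha
  have h3 : φ a' - ψ a' = φ (a' - algebraMap A A' a) - ψ (a' - algebraMap A A' a) := by
    rw [map_sub, map_sub, AlgHom.commutes, AlgHom.commutes]
    ring
  rw [h3]
  exact Ideal.sub_mem _ h1 h2

end Nbhd

theorem s19568 (A : Type u) [CommRing A] (I : Ideal A)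
    (B : Type u) [CommRing B] [Algebra A B] (hB : Hens2.IsPairHenselization A I B) :
    (∀ (A' : Type u) [CommRing A'] [Algebra A A'] [Algebra.Etale A A'],
        Function.Bijective (Ideal.quotientMap (I.map (algebraMap A A')) (algebraMap A A') Ideal.le_comap_map) →
          Nonempty (Unique (A' →ₐ[A] B))) ∧
    (∀ x : B, ∃ (A' : Type u) (_ : CommRing A') (_ : Algebra A A') (_ : Algebra.Etale A A'),
        Function.Bijective (Ideal.quotientMap (I.map (algebraMap A A')) (algebraMap A A') Ideal.le_comap_map) ∧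
          ∃ (φ : A' →ₐ[A] B) (s : A'), φ s = x) ∧
    (∀ (A' : Type u) [CommRing A'] [Algebra A A'] [Algebra.Etale A A'],
        Function.Bijective (Ideal.quotientMap (I.map (algebraMap A A')) (algebraMap A A') Ideal.le_comap_map) →
          ∀ (φ : A' →ₐ[A] B) (s : A'), φ s = 0 →
            ∃ (A'' : Type u) (_ : CommRing A'') (_ : Algebra A A'') (_ : Algebra.Etale A A''),
              Function.Bijective (Ideal.quotientMap (I.map (algebraMap A A'')) (algebraMap A A'') Ideal.le_comap_map) ∧
                ∃ ψ : A' →ₐ[A] A'', ψ s = 0) := by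
  obtain ⟨e⟩ := exists_algEquiv hB
  have hjac : I.map (algebraMap A B) ≤ Ideal.jacobson ⊥ := hB.1.jac
  refine ⟨?_, ?_, ?_⟩
  · intro A' _ _ _ hq
    haveI := nbhd_algHom_subsingleton hq B hjac
    exact ⟨Unique.mk' _ (h₁ := ⟨(e : Hens I →ₐ[A] B).comp (Hens.ι (nbhdPoint hq))⟩)⟩
  · intro x
    obtain ⟨C, _, _, _, γ, c, hz⟩ := Hens.exists_ι_eq (e.symm x)
    obtain ⟨e', hγe', hbij⟩ := exists_shrink C γ
    have hu : IsUnit (γ e') := hγe' ▸ isUnit_one
    refine ⟨Localization.Away e', inferInstance, inferInstance, inferInstance, hbij,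
      (e : Hens I →ₐ[A] B).comp (Hens.ι (γAway γ e' hu)), algebraMap C _ c, ?_⟩
    rw [AlgHom.comp_apply]
    have := Hens.ι_comp γ (γAway γ e' hu) (IsScalarTower.toAlgHom A C _)
      (fun c => γAway_algebraMap γ _ hu c) c
    rw [IsScalarTower.coe_toAlgHom'] at this
    rw [this, hz]
    exact e.apply_symm_apply x
  · intro A' _ _ _ hq φ s hs
    have h1 : (e.symm : B →ₐ[A] Hens I).comp φ = Hens.ι (nbhdPoint hq) := by
      haveI := nbhd_algHom_subsingleton hq (Hens I) (Hens.henselianRing_map (I := I)).jac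
      exact Subsingleton.elim _ _
    have h2 : Hens.ι (nbhdPoint hq) s = 0 := by
      rw [← h1, AlgHom.comp_apply, hs, map_zero]
    obtain ⟨D, _, _, _, δ, ψ₀, -, hψ₀⟩ := Hens.exists_of_ι_eq_zero (nbhdPoint hq) s h2
    obtain ⟨e'', -, hbij⟩ := exists_shrink D δ
    refine ⟨Localization.Away e'', inferInstance, inferInstance, inferInstance, hbij,
      (IsScalarTower.toAlgHom A D _).comp ψ₀, ?_⟩
    rw [AlgHom.comp_apply, hψ₀, map_zero]

end Groth.Agent.Helper2.PairHens
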