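import Mathlib
import Groth.Prelude
import Groth.Agent.Helper2.PairHensNbhd2
set_option autoImplicit false

/-!
# Quotients of henselizations of pairs
-/

universe u

noncomputable section

namespace Groth.Agent.Helper2.PairHens

open TensorProduct Polynomial

/-- the quotient of a henselization of `(R, I)` by `J` is a henselization of `(R/J, I(R/J))`. -/
theorem isPairHenselization_quotient {R : Type u} [CommRing R] {I : Ideal R}
    {P : Type u} [CommRing P] [Algebra R P] (hP : Hens2.IsPairHenselization R I P) (J : Ideal R) :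
    Hens2.IsPairHenselization (R ⧸ J) (I.map (Ideal.Quotient.mk J))
      (P ⧸ J.map (algebraMap R P)) := by
  have hcomp : (algebraMap (R ⧸ J) (P ⧸ J.map (algebraMap R P))).comp (Ideal.Quotient.mk J) =
      (Ideal.Quotient.mk (J.map (algebraMap R P))).comp (algebraMap R P) := by
    ext r
    rfl
  refine ⟨?_, ?_⟩
  · haveI := hP.1
    have := Groth.Agent.Helper3.HensGabber.henselian_map_of_surjective
      (I.map (algebraMap R P)) (Ideal.Quotient.mk (J.map (algebraMap R P)))
      Ideal.Quotient.mk_surjective
    rw [Ideal.map_map, ← hcomp, ← Ideal.map_map] at this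
    exact this
  · intro C _ K fb hC hfK
    have hfK' : I.map (fb.comp (Ideal.Quotient.mk J)) ≤ K := by
      rw [← Ideal.map_map]
      exact hfK
    obtain ⟨g, hg, huniq⟩ := hP.2 C K (fb.comp (Ideal.Quotient.mk J)) hC hfK'
    have hg' : ∀ r, g (algebraMap R P r) = fb (Ideal.Quotient.mk J r) := fun r => congr($hg r)
    have hkill : ∀ x ∈ J.map (algebraMap R P), g x = 0 := by
      intro x hx
      have hle : J.map (algebraMap R P) ≤ RingHom.ker g := by
        rw [Ideal.map_le_iff_le_comap]
        intro j hj
        rw [Ideal.mem_comap, RingHom.mem_ker, hg', Ideal.Quotient.eq_zero_iff_mem.mpr hj, map_zero]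
      exact hle hx
    refine ⟨Ideal.Quotient.lift _ g hkill, ?_, ?_⟩
    · refine RingHom.ext fun x => ?_
      obtain ⟨r, rfl⟩ := Ideal.Quotient.mk_surjective x
      show Ideal.Quotient.lift _ g hkill
        (algebraMap (R ⧸ J) (P ⧸ J.map (algebraMap R P)) (Ideal.Quotient.mk J r)) = _
      have : algebraMap (R ⧸ J) (P ⧸ J.map (algebraMap R P)) (Ideal.Quotient.mk J r) =
          Ideal.Quotient.mk _ (algebraMap R P r) := rfl
      rw [this, Ideal.Quotient.lift_mk, hg']
    · intro g₂ hg₂
      have hg₂' : ∀ y, g₂ (algebraMap (R ⧸ J) (P ⧸ J.map (algebraMap R P)) y) = fb y :=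
        fun y => congr($hg₂ y)
      have h1 : g₂.comp (Ideal.Quotient.mk (J.map (algebraMap R P))) = g := by
        apply huniq
        ext r
        show g₂ (Ideal.Quotient.mk _ (algebraMap R P r)) = fb (Ideal.Quotient.mk J r)
        rw [← hg₂']
        rfl
      refine RingHom.ext fun x => ?_
      obtain ⟨p, rfl⟩ := Ideal.Quotient.mk_surjective x
      rw [Ideal.Quotient.lift_mk, ← h1]
      rfl

/-- surjective base change: if `f : S → R` is surjective, `P` a henselization of `(S, I)` and
`B` a henselization of `(R, f(I)R)`, then the induced map `P → B` is surjective with kernel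
generated by `ker f`. -/
theorem surjective_and_ker_of_surjective {S R : Type u} [CommRing S] [CommRing R]
    (f : S →+* R) (hf : Function.Surjective f) (I : Ideal S)
    {P : Type u} [CommRing P] [Algebra S P] (hP : Hens2.IsPairHenselization S I P)
    {B : Type u} [CommRing B] [Algebra R B] (hB : Hens2.IsPairHenselization R (I.map f) B)
    (φ : P →+* B) (hφ : φ.comp (algebraMap S P) = (algebraMap R B).comp f) :
    Function.Surjective φ ∧ RingHom.ker φ = (RingHom.ker f).map (algebraMap S P) := by
  -- transport to `S ⧸ ker f`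
  let e : S ⧸ RingHom.ker f ≃+* R := RingHom.quotientKerEquivOfSurjective hf
  have he : ∀ s, e (Ideal.Quotient.mk _ s) = f s := fun s => rfl
  letI : Algebra (S ⧸ RingHom.ker f) B := ((algebraMap R B).comp (e : S ⧸ RingHom.ker f →+* R)).toAlgebra
  have halgB : ∀ s : S, algebraMap (S ⧸ RingHom.ker f) B (Ideal.Quotient.mk _ s) =
      algebraMap R B (f s) := fun s => rfl
  have hB' : Hens2.IsPairHenselization (S ⧸ RingHom.ker f)
      (I.map (Ideal.Quotient.mk (RingHom.ker f))) B := by
    have hideal : (I.map (Ideal.Quotient.mk (RingHom.ker f))).map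
        (algebraMap (S ⧸ RingHom.ker f) B) = (I.map f).map (algebraMap R B) := by
      rw [Ideal.map_map, Ideal.map_map]
      congr 1
    refine ⟨hideal ▸ hB.1, ?_⟩
    intro C _ K g hC hgK
    have hle : (I.map f).map (g.comp (e.symm : R →+* S ⧸ RingHom.ker f)) ≤ K := by
      rw [Ideal.map_map]
      have : (g.comp (e.symm : R →+* S ⧸ RingHom.ker f)).comp f =
          g.comp (Ideal.Quotient.mk (RingHom.ker f)) := by
        ext s
        show g (e.symm (f s)) = g (Ideal.Quotient.mk _ s)
        rw [← he, e.symm_apply_apply]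
      rw [this, ← Ideal.map_map]
      exact hgK
    obtain ⟨w, hw, huniq⟩ := hB.2 C K (g.comp (e.symm : R →+* S ⧸ RingHom.ker f)) hC hle
    refine ⟨w, ?_, ?_⟩
    · ext x
      show w (algebraMap R B (e x)) = g x
      have := congr($hw (e x))
      rw [RingHom.comp_apply, RingHom.comp_apply] at this
      rw [this]
      show g (e.symm (e x)) = g x
      rw [e.symm_apply_apply]
    · intro w₂ hw₂
      apply huniq
      ext r
      have := congr($hw₂ (e.symm r))
      show w₂ (algebraMap R B r) = g (e.symm r)
      rw [← this]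
      show w₂ (algebraMap R B r) = w₂ (algebraMap R B (e (e.symm r)))
      rw [e.apply_symm_apply]
  have hQ := isPairHenselization_quotient hP (RingHom.ker f)
  have hφ' : ∀ s, φ (algebraMap S P s) = algebraMap R B (f s) := fun s => congr($hφ s)
  have hkill : ∀ x ∈ (RingHom.ker f).map (algebraMap S P), φ x = 0 := by
    intro x hx
    have hle : (RingHom.ker f).map (algebraMap S P) ≤ RingHom.ker φ := by
      rw [Ideal.map_le_iff_le_comap]
      intro j hj
      rw [Ideal.mem_comap, RingHom.mem_ker, hφ', (RingHom.mem_ker).mp hj, map_zero]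
    exact hle hx
  let ψ : P ⧸ (RingHom.ker f).map (algebraMap S P) →+* B := Ideal.Quotient.lift _ φ hkill
  have hψ : ψ.comp (algebraMap (S ⧸ RingHom.ker f) (P ⧸ (RingHom.ker f).map (algebraMap S P))) =
      algebraMap (S ⧸ RingHom.ker f) B := by
    refine RingHom.ext fun x => ?_
    obtain ⟨s, rfl⟩ := Ideal.Quotient.mk_surjective x
    show ψ (Ideal.Quotient.mk _ (algebraMap S P s)) = _
    rw [Ideal.Quotient.lift_mk, hφ', halgB]
  have hbij := Groth.Agent.Helper2.PairHensBC.bijective_of_isPairHenselization _ hB' hQ ψ hψ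
  constructor
  · intro b
    obtain ⟨x, rfl⟩ := hbij.2 b
    obtain ⟨p, rfl⟩ := Ideal.Quotient.mk_surjective x
    exact ⟨p, rfl⟩
  · refine le_antisymm ?_ (fun x hx => (RingHom.mem_ker).mpr (hkill x hx))
    intro p hp
    have : ψ (Ideal.Quotient.mk _ p) = ψ 0 := by
      rw [map_zero]
      exact (RingHom.mem_ker).mp hp
    exact Ideal.Quotient.eq_zero_iff_mem.mp (hbij.1 this)

end Groth.Agent.Helper2.PairHens
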