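import Mathlib
import Groth.Prelude
import Groth.Agent.Helper2.PairHensQuot
set_option autoImplicit false

/-!
# S17607: two descriptions of henselian finitely presented maps
-/

universe u

noncomputable section

namespace Groth.Agent.Helper2.PairHens

open TensorProduct Polynomial

section Fwd

variable (A : Type u) [CommRing A] (I : Ideal A) (B : Type u) [CommRing B] [Algebra A B]

theorem hfp_of_fp (R : Type u) [CommRing R] [Algebra A R] [Algebra R B] [IsScalarTower A R B]
    [Algebra.FinitePresentation A R]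
    (hB : Hens2.IsPairHenselization R (I.map (algebraMap A R)) B) :
    ∃ (n : ℕ) (P : Type u) (_ : CommRing P) (_ : Algebra (MvPolynomial (Fin n) A) P) (_ : Algebra A P)
        (_ : IsScalarTower A (MvPolynomial (Fin n) A) P),
        Hens2.IsPairHenselization (MvPolynomial (Fin n) A)
          (I.map (algebraMap A (MvPolynomial (Fin n) A))) P ∧
        ∃ φ : P →ₐ[A] B, Function.Surjective φ ∧ (RingHom.ker φ).FG := by
  obtain ⟨n, f, hfsurj, hfker⟩ := Algebra.FinitePresentation.out (R := A) (A := R)
  let IS : Ideal (MvPolynomial (Fin n) A) := I.map (algebraMap A (MvPolynomial (Fin n) A))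
  letI algAP : Algebra A (Hens IS) :=
    ((algebraMap (MvPolynomial (Fin n) A) (Hens IS)).comp
      (algebraMap A (MvPolynomial (Fin n) A))).toAlgebra
  haveI tower : IsScalarTower A (MvPolynomial (Fin n) A) (Hens IS) :=
    IsScalarTower.of_algebraMap_eq (fun _ => rfl)
  have hP := Hens.isPairHenselization (MvPolynomial (Fin n) A) IS
  have hIS : IS.map (f : MvPolynomial (Fin n) A →+* R) = I.map (algebraMap A R) := by
    show (I.map (algebraMap A (MvPolynomial (Fin n) A))).map (f : MvPolynomial (Fin n) A →+* R) = _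
    rw [Ideal.map_map]
    congr 1
    ext a
    exact f.commutes a
  have hB' : Hens2.IsPairHenselization R (IS.map (f : MvPolynomial (Fin n) A →+* R)) B := hIS ▸ hB
  have hle : IS.map ((algebraMap R B).comp (f : MvPolynomial (Fin n) A →+* R)) ≤
      (IS.map (f : MvPolynomial (Fin n) A →+* R)).map (algebraMap R B) :=
    (Ideal.map_map (f : MvPolynomial (Fin n) A →+* R) (algebraMap R B)).ge
  obtain ⟨φ₀, hφ₀, -⟩ := hP.2 B _ ((algebraMap R B).comp (f : MvPolynomial (Fin n) A →+* R))
    hB'.1 hle
  obtain ⟨hsurj, hker⟩ := surjective_and_ker_of_surjective (f : MvPolynomial (Fin n) A →+* R)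
    hfsurj IS hP hB' φ₀ hφ₀
  let φ : Hens IS →ₐ[A] B :=
    { φ₀ with
      commutes' := fun a => by
        show φ₀ (algebraMap (MvPolynomial (Fin n) A) (Hens IS) (algebraMap A _ a)) = _
        have := congr($hφ₀ (algebraMap A (MvPolynomial (Fin n) A) a))
        rw [RingHom.comp_apply] at this
        rw [this, RingHom.comp_apply]
        show algebraMap R B (f (algebraMap A _ a)) = _
        rw [f.commutes, ← IsScalarTower.algebraMap_apply] }
  refine ⟨n, Hens IS, inferInstance, inferInstance, algAP, tower, hP, φ, hsurj, ?_⟩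
  show (RingHom.ker φ₀).FG
  rw [hker]
  exact Ideal.FG.map hfker _

end Fwd

/-- any finite set of elements of a henselization `P` of `(S, J)` comes from a pair-étale
neighbourhood `A'` of `(S, J)` over which `P` is again a henselization. -/
theorem exists_nbhd_of_finset {S : Type u} [CommRing S] {J : Ideal S} {P : Type u} [CommRing P]
    [Algebra S P] (hP : Hens2.IsPairHenselization S J P) (G : Finset P) :
    ∃ (A' : Type u) (_ : CommRing A') (_ : Algebra S A') (_ : Algebra.Etale S A')
      (_ : Algebra A' P) (_ : IsScalarTower S A' P),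
      Hens2.IsPairHenselization A' (J.map (algebraMap S A')) P ∧
      ∀ g ∈ G, ∃ c : A', algebraMap A' P c = g := by
  classical
  obtain ⟨e⟩ := exists_algEquiv hP
  obtain ⟨C, _, _, _, γ, hγ⟩ := Hens.exists_ι_eq_finset (G.image e.symm)
  obtain ⟨e₀, he₀, hbij⟩ := exists_shrink C γ
  have hue : IsUnit (γ e₀) := he₀ ▸ isUnit_one
  let γ' : Localization.Away e₀ →ₐ[S] S ⧸ J := γAway γ e₀ hue
  let θ : Localization.Away e₀ →ₐ[S] P := (e : Hens J →ₐ[S] P).comp (Hens.ι γ')
  letI algP : Algebra (Localization.Away e₀) P := θ.toRingHom.toAlgebra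
  haveI tower : IsScalarTower S (Localization.Away e₀) P :=
    IsScalarTower.of_algebraMap_eq (fun s => (θ.commutes s).symm)
  have hθ : ∀ x, algebraMap (Localization.Away e₀) P x = θ x := fun _ => rfl
  refine ⟨Localization.Away e₀, inferInstance, inferInstance, inferInstance, algP, tower, ?_, ?_⟩
  · -- `P` is a henselization of the neighbourhood
    let J' : Ideal (Localization.Away e₀) := J.map (algebraMap S (Localization.Away e₀))
    letI algSH : Algebra S (Hens J') :=
      ((algebraMap (Localization.Away e₀) (Hens J')).comp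
        (algebraMap S (Localization.Away e₀))).toAlgebra
    haveI towerH : IsScalarTower S (Localization.Away e₀) (Hens J') :=
      IsScalarTower.of_algebraMap_eq (fun _ => rfl)
    have hH' : Hens2.IsPairHenselization S J (Hens J') :=
      isPairHenselization_of_etale S J (Localization.Away e₀) hbij (Hens J')
        (Hens.isPairHenselization _ J')
    obtain ⟨e'⟩ := exists_algEquiv hH'
    let ε : Hens J' ≃ₐ[S] P := e'.symm.trans e
    haveI := hP.1
    have hjac : J.map (algebraMap S P) ≤ Ideal.jacobson ⊥ := HenselianRing.jac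
    have hsub := nbhd_algHom_subsingleton hbij P hjac
    have hεθ : (ε : Hens J' →ₐ[S] P).comp (IsScalarTower.toAlgHom S (Localization.Away e₀) (Hens J'))
        = θ := Subsingleton.elim _ _
    let ε' : Hens J' ≃ₐ[Localization.Away e₀] P :=
      { ε.toRingEquiv with
        commutes' := fun x => by
          show ε (algebraMap _ _ x) = θ x
          exact congr($hεθ x) }
    exact isPairHenselization_of_algEquiv ε' (Hens.isPairHenselization _ J')
  · intro g hg
    obtain ⟨c, hc⟩ := hγ (e.symm g) (Finset.mem_image_of_mem _ hg)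
    refine ⟨algebraMap C (Localization.Away e₀) c, ?_⟩
    rw [hθ]
    show e (Hens.ι γ' (algebraMap C (Localization.Away e₀) c)) = g
    have := Hens.ι_comp γ γ' (IsScalarTower.toAlgHom S C (Localization.Away e₀))
      (fun c => γAway_algebraMap γ e₀ hue c) c
    rw [IsScalarTower.toAlgHom_apply] at this
    rw [this, hc, AlgEquiv.apply_symm_apply]

/-- a general form: `S` finitely presented over `A`, `P` a henselization of `(S, IS)`,
`φ : P → B` surjective with finitely generated kernel. -/
theorem fp_of_hfp_aux (A : Type u) [CommRing A] (I : Ideal A) (B : Type u) [CommRing B]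
    [Algebra A B] (S : Type u) [CommRing S] [Algebra A S] [Algebra.FinitePresentation A S]
    (P : Type u) [CommRing P] [Algebra S P] [Algebra A P] [IsScalarTower A S P]
    (hP : Hens2.IsPairHenselization S (I.map (algebraMap A S)) P)
    (φ : P →ₐ[A] B) (hφ : Function.Surjective φ) (hker : (RingHom.ker φ).FG) :
    ∃ (R : Type u) (_ : CommRing R) (_ : Algebra A R) (_ : Algebra R B) (_ : IsScalarTower A R B),
      Algebra.FinitePresentation A R ∧ Hens2.IsPairHenselization R (I.map (algebraMap A R)) B := by
  classical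
  obtain ⟨G, hG⟩ := hker
  obtain ⟨A', _, _, _, _, _, hP', hc⟩ := exists_nbhd_of_finset hP G
  choose! c hc using hc
  letI algAA' : Algebra A A' := ((algebraMap S A').comp (algebraMap A S)).toAlgebra
  haveI towerA' : IsScalarTower A S A' := IsScalarTower.of_algebraMap_eq (fun _ => rfl)
  haveI towerP : IsScalarTower A A' P := IsScalarTower.of_algebraMap_eq (fun a => by
    rw [IsScalarTower.algebraMap_apply A S P, IsScalarTower.algebraMap_apply S A' P]
    rfl)
  haveI : Algebra.FinitePresentation S A' := inferInstance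
  haveI fpA' : Algebra.FinitePresentation A A' := Algebra.FinitePresentation.trans A S A'
  let 𝔠 : Ideal A' := Ideal.span ((G.image c : Finset A') : Set A')
  have h𝔠 : 𝔠.FG := ⟨G.image c, rfl⟩
  have hmap : 𝔠.map (algebraMap A' P) = RingHom.ker φ := by
    show (Ideal.span ((G.image c : Finset A') : Set A')).map (algebraMap A' P) = _
    rw [Ideal.map_span, ← hG]
    congr 1
    ext x
    simp only [Finset.coe_image, Set.mem_image, Finset.mem_coe, exists_exists_and_eq_and]
    constructor
    · rintro ⟨g, hg, rfl⟩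
      rw [hc g hg]
      exact hg
    · intro hx
      exact ⟨x, hx, hc x hx⟩
  haveI fpR : Algebra.FinitePresentation A (A' ⧸ 𝔠) := Algebra.FinitePresentation.quotient h𝔠
  -- the map `R → B`
  let ψ₀ : A' →+* B := (φ : P →+* B).comp (algebraMap A' P)
  have hψ₀ : ∀ x ∈ 𝔠, ψ₀ x = 0 := by
    intro x hx
    have : algebraMap A' P x ∈ RingHom.ker φ := hmap ▸ Ideal.mem_map_of_mem _ hx
    exact this
  letI algRB : Algebra (A' ⧸ 𝔠) B := (Ideal.Quotient.lift 𝔠 ψ₀ hψ₀).toAlgebra
  have halgRB : ∀ x : A', algebraMap (A' ⧸ 𝔠) B (Ideal.Quotient.mk 𝔠 x) = φ (algebraMap A' P x) :=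
    fun _ => rfl
  haveI towerB : IsScalarTower A (A' ⧸ 𝔠) B := IsScalarTower.of_algebraMap_eq (fun a => by
    rw [IsScalarTower.algebraMap_apply A A' (A' ⧸ 𝔠), Ideal.Quotient.algebraMap_eq, halgRB,
      ← IsScalarTower.algebraMap_apply, AlgHom.commutes])
  refine ⟨A' ⧸ 𝔠, inferInstance, inferInstance, algRB, towerB, fpR, ?_⟩
  have hQ := isPairHenselization_quotient hP' 𝔠
  -- the equivalence `P ⧸ 𝔠 P ≃ B`
  let ε₀ : (P ⧸ 𝔠.map (algebraMap A' P)) ≃+* B :=
    (Ideal.quotEquivOfEq hmap).trans (RingHom.quotientKerEquivOfSurjective hφ)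
  have hε₀ : ∀ p : P, ε₀ (Ideal.Quotient.mk _ p) = φ p := fun _ => rfl
  let ε : (P ⧸ 𝔠.map (algebraMap A' P)) ≃ₐ[A' ⧸ 𝔠] B :=
    { ε₀ with
      commutes' := fun x => by
        obtain ⟨a', rfl⟩ := Ideal.Quotient.mk_surjective x
        show ε₀ (Ideal.Quotient.mk _ (algebraMap A' P a')) = _
        rw [hε₀, halgRB] }
  have hI : ((I.map (algebraMap A S)).map (algebraMap S A')).map (Ideal.Quotient.mk 𝔠) =
      I.map (algebraMap A (A' ⧸ 𝔠)) := by
    rw [Ideal.map_map, Ideal.map_map]
    rfl
  rw [← hI]
  exact isPairHenselization_of_algEquiv ε hQ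

/-- direction (i) ⇒ (ii) of S17607. -/
theorem fp_of_hfp (A : Type u) [CommRing A] (I : Ideal A) (B : Type u) [CommRing B] [Algebra A B]
    (h : ∃ (n : ℕ) (P : Type u) (_ : CommRing P) (_ : Algebra (MvPolynomial (Fin n) A) P)
        (_ : Algebra A P) (_ : IsScalarTower A (MvPolynomial (Fin n) A) P),
        Hens2.IsPairHenselization (MvPolynomial (Fin n) A)
          (I.map (algebraMap A (MvPolynomial (Fin n) A))) P ∧
        ∃ φ : P →ₐ[A] B, Function.Surjective φ ∧ (RingHom.ker φ).FG) :
    ∃ (R : Type u) (_ : CommRing R) (_ : Algebra A R) (_ : Algebra R B) (_ : IsScalarTower A R B),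
      Algebra.FinitePresentation A R ∧ Hens2.IsPairHenselization R (I.map (algebraMap A R)) B := by
  obtain ⟨n, P, _, _, _, _, hP, φ, hφ, hker⟩ := h
  exact fp_of_hfp_aux A I B (MvPolynomial (Fin n) A) P hP φ hφ hker

end Groth.Agent.Helper2.PairHens
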