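import Mathlib
import Groth.Prelude
import Groth.Agent.Helper2.PairHensHfp
set_option autoImplicit false

universe u

noncomputable section

namespace Groth.Agent.Helper2.PairHens

open TensorProduct Polynomial

/-- If `B` is a henselization of `(R, I)`, `S' = T ⊗[R] B`, then a henselization of `(S', I S')`
is also a henselization of `(T, I T)`. -/
theorem isPairHenselization_of_isPushout {R : Type u} [CommRing R] (I : Ideal R)
    {B : Type u} [CommRing B] [Algebra R B] (hB : Hens2.IsPairHenselization R I B)
    {T : Type u} [CommRing T] [Algebra R T]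
    {S' : Type u} [CommRing S'] [Algebra R S'] [Algebra B S'] [Algebra T S']
    [IsScalarTower R B S'] [IsScalarTower R T S'] [Algebra.IsPushout R T B S']
    {P : Type u} [CommRing P] [Algebra S' P] [Algebra T P] [IsScalarTower T S' P]
    (hP : Hens2.IsPairHenselization S' ((I.map (algebraMap R T)).map (algebraMap T S')) P) :
    Hens2.IsPairHenselization T (I.map (algebraMap R T)) P := by
  have hId : ((I.map (algebraMap R T)).map (algebraMap T S')).map (algebraMap S' P) =
      (I.map (algebraMap R T)).map (algebraMap T P) := by
    rw [Ideal.map_map, ← IsScalarTower.algebraMap_eq]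
  refine ⟨hId ▸ hP.1, ?_⟩
  intro D _ K f hD hfK
  let fR : R →+* D := f.comp (algebraMap R T)
  have hfR : I.map fR ≤ K := by
    rw [← Ideal.map_map]
    exact hfK
  obtain ⟨gB, hgB, hgBu⟩ := hB.2 D K fR hD hfR
  letI algD : Algebra R D := fR.toAlgebra
  let fA : T →ₐ[R] D := { f with commutes' := fun _ => rfl }
  let gA : B →ₐ[R] D := { gB with commutes' := fun r => congr($hgB r) }
  let F : S' →ₐ[R] D := Algebra.pushoutDesc S' fA gA (fun _ _ => mul_comm _ _)
  have hFT : ∀ t, F (algebraMap T S' t) = f t := fun t => Algebra.pushoutDesc_left S' fA gA _ t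
  have hFB : ∀ b, F (algebraMap B S' b) = gB b := fun b => Algebra.pushoutDesc_right S' fA gA _ b
  have hFK : ((I.map (algebraMap R T)).map (algebraMap T S')).map (F : S' →+* D) ≤ K := by
    rw [Ideal.map_map]
    have : (F : S' →+* D).comp (algebraMap T S') = f := RingHom.ext hFT
    rw [this]
    exact hfK
  obtain ⟨g, hg, hgu⟩ := hP.2 D K (F : S' →+* D) hD hFK
  have hgS : ∀ s, g (algebraMap S' P s) = F s := fun s => congr($hg s)
  refine ⟨g, ?_, ?_⟩
  · refine RingHom.ext fun t => ?_
    rw [RingHom.comp_apply, IsScalarTower.algebraMap_apply T S' P, hgS, hFT]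
  · intro g' hg'
    have hg'T : ∀ t, g' (algebraMap T P t) = f t := fun t => congr($hg' t)
    apply hgu
    let F' : S' →ₐ[R] D :=
      { g'.comp (algebraMap S' P) with
        commutes' := fun r => by
          show g' (algebraMap S' P (algebraMap R S' r)) = fR r
          rw [IsScalarTower.algebraMap_apply R T S', ← IsScalarTower.algebraMap_apply T S' P, hg'T]
          rfl }
    have hF'F : F' = F := by
      apply Algebra.IsPushout.algHom_ext (R := R) (S := T) (R' := B) (S' := S')
      · -- on `B`
        have h1 : ((F'.comp (IsScalarTower.toAlgHom R B S') : B →ₐ[R] D) : B →+* D) = gB := by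
          apply hgBu
          refine RingHom.ext fun r => ?_
          exact (F'.comp (IsScalarTower.toAlgHom R B S')).commutes r
        refine AlgHom.ext fun b => ?_
        have h2 := congr($h1 b)
        rw [AlgHom.comp_apply, AlgHom.comp_apply, IsScalarTower.toAlgHom_apply, hFB]
        exact h2
      · refine AlgHom.ext fun t => ?_
        rw [AlgHom.comp_apply, AlgHom.comp_apply, IsScalarTower.toAlgHom_apply, hFT]
        show g' (algebraMap S' P (algebraMap T S' t)) = f t
        rw [← IsScalarTower.algebraMap_apply T S' P, hg'T]
    refine RingHom.ext fun s => ?_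
    exact congr($hF'F s)

end Groth.Agent.Helper2.PairHens
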