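import Mathlib
import Groth.Prelude
import Groth.Agent.Helper2.PairHensPush
set_option autoImplicit false

/-!
# Pair-étale neighbourhoods inside a henselization
-/

universe u

noncomputable section

namespace Groth.Agent.Helper2.PairHens

open TensorProduct Polynomial

/-- bijectivity of the quotient map in elementary terms -/
theorem bijective_quotientMap_iff {S : Type u} [CommRing S] (J : Ideal S) (A' : Type u)
    [CommRing A'] [Algebra S A'] :
    Function.Bijective
      (Ideal.quotientMap (J.map (algebraMap S A')) (algebraMap S A') Ideal.le_comap_map) ↔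
    (∀ s : S, algebraMap S A' s ∈ J.map (algebraMap S A') → s ∈ J) ∧
      ∀ x : A', ∃ s : S, x - algebraMap S A' s ∈ J.map (algebraMap S A') := by
  constructor
  · intro h
    refine ⟨fun s hs => ?_, fun x => nbhd_exists_sub_mem h x⟩
    have : Ideal.quotientMap (J.map (algebraMap S A')) (algebraMap S A') Ideal.le_comap_map
        (Ideal.Quotient.mk J s) = 0 := by
      rw [Ideal.quotientMap_mk, Ideal.Quotient.eq_zero_iff_mem]
      exact hs
    have h2 := h.1 (this.trans (map_zero _).symm)
    exact Ideal.Quotient.eq_zero_iff_mem.mp h2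
  · rintro ⟨h1, h2⟩
    constructor
    · rw [injective_iff_map_eq_zero]
      intro y hy
      obtain ⟨s, rfl⟩ := Ideal.Quotient.mk_surjective y
      rw [Ideal.quotientMap_mk, Ideal.Quotient.eq_zero_iff_mem] at hy
      exact Ideal.Quotient.eq_zero_iff_mem.mpr (h1 s hy)
    · intro y
      obtain ⟨x, rfl⟩ := Ideal.Quotient.mk_surjective y
      obtain ⟨s, hs⟩ := h2 x
      refine ⟨Ideal.Quotient.mk J s, ?_⟩
      rw [Ideal.quotientMap_mk]
      exact (Ideal.Quotient.eq.mpr hs).symm

/-- a pair-étale neighbourhood of `(S, J)` inside a henselization `P`, over which `P` is still a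
henselization. -/
structure Nbhd (S : Type u) [CommRing S] (J : Ideal S) (P : Type u) [CommRing P] [Algebra S P] where
  A : Type u
  [ring : CommRing A]
  [alg : Algebra S A]
  [etale : Algebra.Etale S A]
  [algP : Algebra A P]
  [tower : IsScalarTower S A P]
  bij : Function.Bijective
    (Ideal.quotientMap (J.map (algebraMap S A)) (algebraMap S A) Ideal.le_comap_map)
  hens : Hens2.IsPairHenselization A (J.map (algebraMap S A)) P

attribute [instance] Nbhd.ring Nbhd.alg Nbhd.etale Nbhd.algP Nbhd.tower

variable {S : Type u} [CommRing S] {J : Ideal S} {P : Type u} [CommRing P] [Algebra S P]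

/-- the neighbourhood attached to a pointed étale algebra -/
theorem Nbhd.exists_of_pointed (hP : Hens2.IsPairHenselization S J P) (e : Hens J ≃ₐ[S] P)
    (C : Type u) [CommRing C] [Algebra S C] [Algebra.Etale S C] (γ : C →ₐ[S] S ⧸ J) :
    ∃ (N : Nbhd S J P) (ψ : C →ₐ[S] N.A), ∀ c, algebraMap N.A P (ψ c) = e (Hens.ι γ c) := by
  obtain ⟨e₀, he₀, hbij⟩ := exists_shrink C γ
  have hue : IsUnit (γ e₀) := he₀ ▸ isUnit_one
  let γ' : Localization.Away e₀ →ₐ[S] S ⧸ J := γAway γ e₀ hue
  let θ : Localization.Away e₀ →ₐ[S] P := (e : Hens J →ₐ[S] P).comp (Hens.ι γ')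
  letI algP : Algebra (Localization.Away e₀) P := θ.toRingHom.toAlgebra
  haveI tower : IsScalarTower S (Localization.Away e₀) P :=
    IsScalarTower.of_algebraMap_eq (fun s => (θ.commutes s).symm)
  have hθ : ∀ x, algebraMap (Localization.Away e₀) P x = θ x := fun _ => rfl
  have hens : Hens2.IsPairHenselization (Localization.Away e₀)
      (J.map (algebraMap S (Localization.Away e₀))) P := by
    let J' : Ideal (Localization.Away e₀) := J.map (algebraMap S (Localization.Away e₀))
    letI algSH : Algebra S (Hens J') :=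
      ((algebraMap (Localization.Away e₀) (Hens J')).comp
        (algebraMap S (Localization.Away e₀))).toAlgebra
    haveI towerH : IsScalarTower S (Localization.Away e₀) (Hens J') :=
      IsScalarTower.of_algebraMap_eq (fun _ => rfl)
    have hH' : Hens2.IsPairHenselization S J (Hens J') :=
      isPairHenselization_of_etale S J (Localization.Away e₀) hbij (Hens J')
        (Hens.isPairHenselization _ J')
    obtain ⟨e'⟩ := exists_algEquiv hH'
    let ε : Hens J' ≃ₐ[S] P := e'.symm.trans e
    haveI := hP.1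
    have hjac : J.map (algebraMap S P) ≤ Ideal.jacobson ⊥ := HenselianRing.jac
    have hsub := nbhd_algHom_subsingleton hbij P hjac
    have hεθ : (ε : Hens J' →ₐ[S] P).comp (IsScalarTower.toAlgHom S (Localization.Away e₀) (Hens J'))
        = θ := Subsingleton.elim _ _
    let ε' : Hens J' ≃ₐ[Localization.Away e₀] P :=
      { ε.toRingEquiv with
        commutes' := fun x => by
          show ε (algebraMap _ _ x) = θ x
          exact congr($hεθ x) }
    exact isPairHenselization_of_algEquiv ε' (Hens.isPairHenselization _ J')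
  refine ⟨{ A := Localization.Away e₀, bij := hbij, hens := hens },
    IsScalarTower.toAlgHom S C (Localization.Away e₀), fun c => ?_⟩
  show algebraMap (Localization.Away e₀) P (algebraMap C (Localization.Away e₀) c) = _
  rw [hθ]
  show e (Hens.ι γ' (algebraMap C (Localization.Away e₀) c)) = _
  have := Hens.ι_comp γ γ' (IsScalarTower.toAlgHom S C (Localization.Away e₀))
    (fun c => γAway_algebraMap γ e₀ hue c) c
  rw [IsScalarTower.toAlgHom_apply] at this
  rw [this]

/-- finitely many elements of `P` lift to a neighbourhood -/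
theorem Nbhd.exists_lift (hP : Hens2.IsPairHenselization S J P) (G : Finset P) :
    ∃ N : Nbhd S J P, ∀ g ∈ G, ∃ c : N.A, algebraMap N.A P c = g := by
  classical
  obtain ⟨e⟩ := exists_algEquiv hP
  obtain ⟨C, _, _, _, γ, hγ⟩ := Hens.exists_ι_eq_finset (G.image e.symm)
  obtain ⟨N, ψ, hψ⟩ := Nbhd.exists_of_pointed hP e C γ
  refine ⟨N, fun g hg => ?_⟩
  obtain ⟨c, hc⟩ := hγ (e.symm g) (Finset.mem_image_of_mem _ hg)
  exact ⟨ψ c, by rw [hψ, hc, AlgEquiv.apply_symm_apply]⟩

/-- an element of `S` dying in `P` dies in a neighbourhood -/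
theorem Nbhd.exists_kill (hP : Hens2.IsPairHenselization S J P) (z : S)
    (hz : algebraMap S P z = 0) : ∃ N : Nbhd S J P, algebraMap S N.A z = 0 := by
  obtain ⟨e⟩ := exists_algEquiv hP
  let γ₀ : S →ₐ[S] S ⧸ J := Ideal.Quotient.mkₐ S J
  have h0 : Hens.ι γ₀ z = 0 := by
    have h1 : Hens.ι γ₀ z = algebraMap S (Hens J) z := (Hens.ι γ₀).commutes z
    have h2 : e (algebraMap S (Hens J) z) = 0 := by rw [e.commutes, hz]
    rw [h1]
    exact e.injective (h2.trans (map_zero e).symm)
  obtain ⟨D, _, _, _, δ, φ, -, hφz⟩ := Hens.exists_of_ι_eq_zero γ₀ z h0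
  obtain ⟨N, ψ, -⟩ := Nbhd.exists_of_pointed hP e D δ
  refine ⟨N, ?_⟩
  have h1 : φ z = algebraMap S D z := φ.commutes z
  have h2 : ψ (algebraMap S D z) = algebraMap S N.A z := ψ.commutes z
  rw [← h2, ← h1, hφz, map_zero]

/-- composition of neighbourhoods -/
theorem Nbhd.exists_trans (N : Nbhd S J P) (N' : Nbhd N.A (J.map (algebraMap S N.A)) P) :
    ∃ (N'' : Nbhd S J P) (ψ : N.A →+* N''.A),
      (∀ s, ψ (algebraMap S N.A s) = algebraMap S N''.A s) ∧
      (∀ x, algebraMap N''.A P (ψ x) = algebraMap N.A P x) ∧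
      (∀ x, algebraMap N.A N'.A x = 0 → ψ x = 0) := by
  letI algS : Algebra S N'.A := ((algebraMap N.A N'.A).comp (algebraMap S N.A)).toAlgebra
  haveI tower1 : IsScalarTower S N.A N'.A := IsScalarTower.of_algebraMap_eq (fun _ => rfl)
  haveI etale : Algebra.Etale S N'.A := Algebra.Etale.comp S N.A N'.A
  haveI tower2 : IsScalarTower S N'.A P := IsScalarTower.of_algebraMap_eq (fun s => by
    rw [IsScalarTower.algebraMap_apply S N.A P, IsScalarTower.algebraMap_apply N.A N'.A P]
    rfl)
  have hJ : (J.map (algebraMap S N.A)).map (algebraMap N.A N'.A) = J.map (algebraMap S N'.A) := by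
    rw [Ideal.map_map]
    rfl
  have hbij : Function.Bijective
      (Ideal.quotientMap (J.map (algebraMap S N'.A)) (algebraMap S N'.A) Ideal.le_comap_map) := by
    rw [bijective_quotientMap_iff]
    obtain ⟨a1, a2⟩ := (bijective_quotientMap_iff _ _).1 N.bij
    obtain ⟨b1, b2⟩ := (bijective_quotientMap_iff _ _).1 N'.bij
    rw [hJ] at b1 b2
    refine ⟨fun s hs => a1 s (b1 _ hs), fun x => ?_⟩
    obtain ⟨a, ha⟩ := b2 x
    obtain ⟨s, hs⟩ := a2 a
    refine ⟨s, ?_⟩
    have h3 : algebraMap N.A N'.A (a - algebraMap S N.A s) ∈ J.map (algebraMap S N'.A) := by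
      rw [← hJ]
      exact Ideal.mem_map_of_mem _ hs
    have h4 : x - algebraMap S N'.A s =
        (x - algebraMap N.A N'.A a) + algebraMap N.A N'.A (a - algebraMap S N.A s) := by
      rw [map_sub]
      show _ = _ + (_ - algebraMap S N'.A s)
      ring
    rw [h4]
    exact Ideal.add_mem _ ha h3
  refine ⟨{ A := N'.A, bij := hbij, hens := hJ ▸ N'.hens }, algebraMap N.A N'.A,
    fun _ => rfl, fun x => ?_, fun x hx => hx⟩
  exact (IsScalarTower.algebraMap_apply N.A N'.A P x).symm

/-- finitely many elements of `S` dying in `P` die in a neighbourhood -/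
theorem Nbhd.exists_kill_finset (hP : Hens2.IsPairHenselization S J P) (G : Finset S)
    (hG : ∀ z ∈ G, algebraMap S P z = 0) : ∃ N : Nbhd S J P, ∀ z ∈ G, algebraMap S N.A z = 0 := by
  classical
  induction G using Finset.induction_on with
  | empty =>
    obtain ⟨N⟩ : Nonempty (Nbhd S J P) := by
      obtain ⟨N, -⟩ := Nbhd.exists_lift hP ∅
      exact ⟨N⟩
    exact ⟨N, fun z hz => absurd hz (Finset.notMem_empty z)⟩
  | insert z G hzG ih =>
    obtain ⟨N, hN⟩ := ih (fun w hw => hG w (Finset.mem_insert_of_mem hw))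
    have hz : algebraMap N.A P (algebraMap S N.A z) = 0 := by
      rw [← IsScalarTower.algebraMap_apply]
      exact hG z (Finset.mem_insert_self z G)
    obtain ⟨N', hN'⟩ := Nbhd.exists_kill N.hens (algebraMap S N.A z) hz
    obtain ⟨N'', ψ, hψ1, -, hψ3⟩ := Nbhd.exists_trans N N'
    refine ⟨N'', fun w hw => ?_⟩
    rw [← hψ1]
    rcases Finset.mem_insert.mp hw with rfl | hw
    · exact hψ3 _ hN'
    · rw [hN w hw, map_zero]

end Groth.Agent.Helper2.PairHens
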