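import Mathlib
import Groth.Prelude
import Groth.Agent.Helper2.PairHensNbhd3
set_option autoImplicit false

universe u

noncomputable section

namespace Groth.Agent.Helper2.PairHens

open TensorProduct Polynomial

variable {S : Type u} [CommRing S] {J : Ideal S} {P : Type u} [CommRing P] [Algebra S P]

/-- a map from a finitely presented algebra to the henselization factors through a
neighbourhood. -/
theorem Nbhd.exists_factor (A : Type u) [CommRing A] [Algebra A S] [Algebra A P]
    [IsScalarTower A S P] (hP : Hens2.IsPairHenselization S J P)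
    (R : Type u) [CommRing R] [Algebra A R] [Algebra.FinitePresentation A R] (ρ : R →ₐ[A] P) :
    ∃ (N : Nbhd S J P) (ρ' : R →+* N.A),
      (∀ a, ρ' (algebraMap A R a) = algebraMap S N.A (algebraMap A S a)) ∧
      ∀ r, algebraMap N.A P (ρ' r) = ρ r := by
  classical
  obtain ⟨n, f, hfsurj, ⟨G₀, hG₀⟩⟩ := Algebra.FinitePresentation.out (R := A) (A := R)
  let p : Fin n → P := fun i => ρ (f (MvPolynomial.X i))
  obtain ⟨N₁, hN₁⟩ := Nbhd.exists_lift hP (Finset.univ.image p)
  have hN₁' : ∀ i, ∃ c : N₁.A, algebraMap N₁.A P c = p i :=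
    fun i => hN₁ (p i) (Finset.mem_image_of_mem _ (Finset.mem_univ i))
  choose c hc using hN₁'
  letI algA1 : Algebra A N₁.A := ((algebraMap S N₁.A).comp (algebraMap A S)).toAlgebra
  haveI tower1 : IsScalarTower A S N₁.A := IsScalarTower.of_algebraMap_eq (fun _ => rfl)
  haveI tower2 : IsScalarTower A N₁.A P := IsScalarTower.of_algebraMap_eq (fun a => by
    rw [IsScalarTower.algebraMap_apply A S P, IsScalarTower.algebraMap_apply S N₁.A P]
    rfl)
  let F₁ : MvPolynomial (Fin n) A →ₐ[A] N₁.A := MvPolynomial.aeval c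
  have hF₁ : (IsScalarTower.toAlgHom A N₁.A P).comp F₁ = ρ.comp f := by
    apply MvPolynomial.algHom_ext
    intro i
    rw [AlgHom.comp_apply, AlgHom.comp_apply, IsScalarTower.toAlgHom_apply]
    show algebraMap N₁.A P (MvPolynomial.aeval c (MvPolynomial.X i)) = _
    rw [MvPolynomial.aeval_X, hc]
  have hF₁' : ∀ q, algebraMap N₁.A P (F₁ q) = ρ (f q) := fun q => congr($hF₁ q)
  have hG₁ : ∀ z ∈ G₀.image F₁, algebraMap N₁.A P z = 0 := by
    intro z hz
    obtain ⟨g, hg, rfl⟩ := Finset.mem_image.mp hz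
    have hgk : g ∈ RingHom.ker f.toRingHom := by
      rw [← hG₀]
      exact Ideal.subset_span hg
    have : f g = 0 := hgk
    rw [hF₁', this, map_zero]
  obtain ⟨N₂, hN₂⟩ := Nbhd.exists_kill_finset N₁.hens (G₀.image F₁) hG₁
  obtain ⟨N, ψ, hψ1, hψ2, hψ3⟩ := Nbhd.exists_trans N₁ N₂
  let F : MvPolynomial (Fin n) A →+* N.A := ψ.comp (F₁ : MvPolynomial (Fin n) A →+* N₁.A)
  have hker : RingHom.ker (f : MvPolynomial (Fin n) A →+* R) ≤ RingHom.ker F := by
    have : RingHom.ker (f : MvPolynomial (Fin n) A →+* R) = Ideal.span (G₀ : Set _) := hG₀.symm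
    rw [this, Ideal.span_le]
    intro g hg
    show ψ (F₁ g) = 0
    exact hψ3 _ (hN₂ _ (Finset.mem_image_of_mem _ hg))
  let ρ' : R →+* N.A := (f : MvPolynomial (Fin n) A →+* R).liftOfSurjective hfsurj ⟨F, hker⟩
  have hρ' : ∀ q, ρ' (f q) = ψ (F₁ q) := fun q =>
    RingHom.liftOfSurjective_comp_apply (f : MvPolynomial (Fin n) A →+* R) hfsurj ⟨F, hker⟩ q
  refine ⟨N, ρ', fun a => ?_, fun r => ?_⟩
  · have h1 : algebraMap A R a = f (algebraMap A _ a) := (f.commutes a).symm
    rw [h1, hρ', F₁.commutes, ← hψ1]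
    rfl
  · obtain ⟨q, rfl⟩ := hfsurj r
    rw [hρ', hψ2, hF₁']

section Tensor

attribute [local instance] Algebra.TensorProduct.rightAlgebra

/-- if `B` is a henselization of `(R, I)` and `C` a henselization of `(S', I S')` for an
`R`-algebra `S'`, and `B → C` is an `R`-algebra map, then `C` is a henselization of
`(B ⊗[R] S', I)`. -/
theorem isPairHenselization_tensor {R : Type u} [CommRing R] (IR : Ideal R)
    {B : Type u} [CommRing B] [Algebra R B] (hB : Hens2.IsPairHenselization R IR B)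
    {S' : Type u} [CommRing S'] [Algebra R S']
    {C : Type u} [CommRing C] [Algebra S' C] [Algebra B C] [Algebra R C] [IsScalarTower R S' C]
    [IsScalarTower R B C]
    (hC : Hens2.IsPairHenselization S' (IR.map (algebraMap R S')) C)
    [Algebra (B ⊗[R] S') C]
    (halg : ∀ b s, algebraMap (B ⊗[R] S') C (b ⊗ₜ s) = algebraMap B C b * algebraMap S' C s) :
    Hens2.IsPairHenselization (B ⊗[R] S')
      ((IR.map (algebraMap R B)).map (algebraMap B (B ⊗[R] S'))) C := by
  have hIT : (IR.map (algebraMap R S')).map (algebraMap S' (B ⊗[R] S')) =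
      (IR.map (algebraMap R B)).map (algebraMap B (B ⊗[R] S')) := by
    rw [Ideal.map_map, Ideal.map_map, ← IsScalarTower.algebraMap_eq, ← IsScalarTower.algebraMap_eq]
  rw [← hIT]
  set IT' : Ideal (B ⊗[R] S') := (IR.map (algebraMap R S')).map (algebraMap S' (B ⊗[R] S'))
    with hIT'
  letI algSH : Algebra S' (Hens IT') :=
    ((algebraMap (B ⊗[R] S') (Hens IT')).comp (algebraMap S' (B ⊗[R] S'))).toAlgebra
  haveI towerH : IsScalarTower S' (B ⊗[R] S') (Hens IT') :=
    IsScalarTower.of_algebraMap_eq (fun _ => rfl)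
  have hH := Hens.isPairHenselization (B ⊗[R] S') IT'
  have hH' : Hens2.IsPairHenselization S' (IR.map (algebraMap R S')) (Hens IT') :=
    isPairHenselization_of_isPushout IR hB (T := S') (S' := B ⊗[R] S') hH
  obtain ⟨e₁⟩ := exists_algEquiv hH'
  obtain ⟨e₂⟩ := exists_algEquiv hC
  let ε : Hens IT' ≃ₐ[S'] C := e₁.symm.trans e₂
  -- `T`-linearity
  let h₁ : (B ⊗[R] S') →+* C := (ε : Hens IT' →+* C).comp (algebraMap (B ⊗[R] S') (Hens IT'))
  have h₁S : ∀ s : S', h₁ (1 ⊗ₜ s) = algebraMap S' C s := by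
    intro s
    have : (1 : B) ⊗ₜ[R] s = algebraMap S' (B ⊗[R] S') s := rfl
    rw [this]
    show ε (algebraMap (B ⊗[R] S') (Hens IT') (algebraMap S' (B ⊗[R] S') s)) = _
    rw [← IsScalarTower.algebraMap_apply S' (B ⊗[R] S') (Hens IT'), ε.commutes]
  have hK : IR.map (algebraMap R C) ≤ (IR.map (algebraMap R S')).map (algebraMap S' C) := by
    rw [Ideal.map_map, ← IsScalarTower.algebraMap_eq]
  obtain ⟨β, -, hβu⟩ := hB.2 C _ (algebraMap R C) hC.1 hK
  have h₁B : ∀ b : B, h₁ (b ⊗ₜ 1) = algebraMap B C b := by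
    intro b
    let β₂ : B →+* C := h₁.comp (Algebra.TensorProduct.includeLeftRingHom)
    have e2 : β₂ = β := by
      apply hβu
      refine RingHom.ext fun r => ?_
      show h₁ ((algebraMap R B r) ⊗ₜ 1) = _
      have : (algebraMap R B r) ⊗ₜ[R] (1 : S') = (1 : B) ⊗ₜ[R] (algebraMap R S' r) := by
        rw [Algebra.algebraMap_eq_smul_one, Algebra.algebraMap_eq_smul_one, TensorProduct.smul_tmul]
      rw [this, h₁S, ← IsScalarTower.algebraMap_apply]
    have e1 : algebraMap B C = β := by
      apply hβu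
      refine RingHom.ext fun r => ?_
      rw [RingHom.comp_apply, ← IsScalarTower.algebraMap_apply]
    have := congr($(e2.trans e1.symm) b)
    exact this
  have hlin : ∀ t : B ⊗[R] S', h₁ t = algebraMap (B ⊗[R] S') C t := by
    intro t
    induction t using TensorProduct.induction_on with
    | zero => rw [map_zero, map_zero]
    | tmul b s =>
      have : b ⊗ₜ[R] s = (b ⊗ₜ 1) * (1 ⊗ₜ s) := by
        rw [Algebra.TensorProduct.tmul_mul_tmul, mul_one, one_mul]
      rw [halg, this, map_mul, h₁B, h₁S]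
    | add x y hx hy => rw [map_add, map_add, hx, hy]
  let ε' : Hens IT' ≃ₐ[B ⊗[R] S'] C :=
    { ε.toRingEquiv with
      commutes' := fun t => hlin t }
  exact isPairHenselization_of_algEquiv ε' hH

end Tensor

end Groth.Agent.Helper2.PairHens
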