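import Mathlib
import Groth.Prelude
import Groth.Agent.Helper2.PairHensNbhd3
import Groth.Agent.Helper2.PairHensNbhd4
set_option autoImplicit false

universe u

noncomputable section

namespace Groth.Agent.Helper2.PairHens

open TensorProduct Polynomial

theorem s17609 (A : Type u) [CommRing A] (I : Ideal A)
    (R : Type u) [CommRing R] [Algebra A R] [Algebra.FinitePresentation A R]
    (B : Type u) [CommRing B] [Algebra R B] [Algebra A B] [IsScalarTower A R B]
    (hB : Hens2.IsPairHenselization R (I.map (algebraMap A R)) B)
    (S : Type u) [CommRing S] [Algebra A S] [Algebra.FinitePresentation A S]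
    (C : Type u) [CommRing C] [Algebra S C] [Algebra A C] [IsScalarTower A S C]
    (hC : Hens2.IsPairHenselization S (I.map (algebraMap A S)) C)
    [Algebra B C] [IsScalarTower A B C] :
    ∃ (T : Type u) (_ : CommRing T) (_ : Algebra B T) (_ : Algebra T C) (_ : IsScalarTower B T C),
      Algebra.FinitePresentation B T ∧
      Hens2.IsPairHenselization T ((I.map (algebraMap A B)).map (algebraMap B T)) C := by
  let ρ : R →ₐ[A] C := (IsScalarTower.toAlgHom A B C).comp (IsScalarTower.toAlgHom A R B)
  have hρ : ∀ r, ρ r = algebraMap B C (algebraMap R B r) := fun _ => rfl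
  obtain ⟨N, ρ', hρ'A, hρ'⟩ := Nbhd.exists_factor A hC R ρ
  letI algAS' : Algebra A N.A := ((algebraMap S N.A).comp (algebraMap A S)).toAlgebra
  haveI tower1 : IsScalarTower A S N.A := IsScalarTower.of_algebraMap_eq (fun _ => rfl)
  haveI fpS' : Algebra.FinitePresentation A N.A := Algebra.FinitePresentation.trans A S N.A
  letI algRS' : Algebra R N.A := ρ'.toAlgebra
  haveI tower2 : IsScalarTower A R N.A := IsScalarTower.of_algebraMap_eq (fun a => (hρ'A a).symm)
  letI algRC : Algebra R C := ((algebraMap B C).comp (algebraMap R B)).toAlgebra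
  haveI tower3 : IsScalarTower R B C := IsScalarTower.of_algebraMap_eq (fun _ => rfl)
  haveI tower4 : IsScalarTower R N.A C := IsScalarTower.of_algebraMap_eq (fun r => by
    show algebraMap B C (algebraMap R B r) = algebraMap N.A C (ρ' r)
    rw [hρ', hρ])
  haveI fpRS' : Algebra.FinitePresentation R N.A :=
    Algebra.FinitePresentation.of_restrict_scalars_finitePresentation A R N.A
  letI algTC : Algebra (B ⊗[R] N.A) C :=
    (Algebra.TensorProduct.productMap (IsScalarTower.toAlgHom R B C)
      (IsScalarTower.toAlgHom R N.A C)).toRingHom.toAlgebra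
  have halg : ∀ b s, algebraMap (B ⊗[R] N.A) C (b ⊗ₜ s) = algebraMap B C b * algebraMap N.A C s :=
    fun b s => Algebra.TensorProduct.productMap_apply_tmul _ _ b s
  haveI tower5 : IsScalarTower B (B ⊗[R] N.A) C := IsScalarTower.of_algebraMap_eq (fun b => by
    have : algebraMap B (B ⊗[R] N.A) b = b ⊗ₜ 1 := rfl
    rw [this, halg, map_one, mul_one])
  have hIdeal : (I.map (algebraMap A R)).map (algebraMap R N.A) =
      (I.map (algebraMap A S)).map (algebraMap S N.A) := by
    rw [Ideal.map_map, Ideal.map_map, ← IsScalarTower.algebraMap_eq, ← IsScalarTower.algebraMap_eq]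
  have hC' : Hens2.IsPairHenselization N.A ((I.map (algebraMap A R)).map (algebraMap R N.A)) C :=
    hIdeal ▸ N.hens
  have key := isPairHenselization_tensor (I.map (algebraMap A R)) hB hC' halg
  have hIB : (I.map (algebraMap A R)).map (algebraMap R B) = I.map (algebraMap A B) := by
    rw [Ideal.map_map, ← IsScalarTower.algebraMap_eq]
  rw [hIB] at key
  exact ⟨B ⊗[R] N.A, inferInstance, inferInstance, algTC, tower5, inferInstance, key⟩

end Groth.Agent.Helper2.PairHens
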