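import Mathlib
import Groth.Prelude
import Groth.Agent.Helper2.PairHensNbhd5
set_option autoImplicit false

universe u

noncomputable section

namespace Groth.Agent.Helper2.HfpLim

open Groth.Agent.Helper2.PairHens

/-- the image of a henselian pair `(P, IP)` under a surjective `A`-algebra map. -/
theorem henselianRing_of_surjective {A : Type u} [CommRing A] (I : Ideal A)
    {P Q : Type u} [CommRing P] [CommRing Q] [Algebra A P] [Algebra A Q]
    [HenselianRing P (I.map (algebraMap A P))] (f : P →ₐ[A] Q) (hf : Function.Surjective f) :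
    HenselianRing Q (I.map (algebraMap A Q)) := by
  have h1 := Groth.Agent.Helper3.HensGabber.henselian_map_of_surjective (I.map (algebraMap A P))
    (f : P →+* Q) hf
  have h2 : (I.map (algebraMap A P)).map (f : P →+* Q) = I.map (algebraMap A Q) := by
    rw [Ideal.map_map]
    congr 1
    ext a
    exact f.commutes a
  rwa [h2] at h1

section Key

variable {A : Type u} [CommRing A] {B : Type u} [CommRing B] [Algebra A B]
  {κ : Type u} [Preorder κ] [IsDirectedOrder κ] [Nonempty κ]
  (Ra : κ → Type u) [∀ a, CommRing (Ra a)] [∀ a, Algebra A (Ra a)]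
  (t : ∀ a b : κ, a ≤ b → (Ra a →+* Ra b)) [DirectedSystem Ra (fun a b h => t a b h)]
  (ht : ∀ (a b : κ) (h : a ≤ b), (t a b h).comp (algebraMap A (Ra a)) = algebraMap A (Ra b))
  (lam : ∀ a, Ra a →ₐ[A] B)
  (hlam : ∀ a b (h : a ≤ b) (x : Ra a), lam b (t a b h x) = lam a x)
  (hsurj : ∀ x : B, ∃ (a : κ) (y : Ra a), lam a y = x)
  (hinj : ∀ (a : κ) (y : Ra a), lam a y = 0 → ∃ (b : κ) (hab : a ≤ b), t a b hab y = 0)

include ht hlam hsurj hinj in
/-- if `B` is the direct limit of the system and maps out of `B` into the direct limit factor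
through a stage, then some stage retracts onto `B`. -/
theorem exists_section
    (hfact : ∀ [Algebra A (DirectLimit Ra t)],
      (∀ (a : κ) (x : A), algebraMap A (DirectLimit Ra t) x =
        DirectLimit.Ring.of Ra t a (algebraMap A (Ra a) x)) →
      ∀ χ : B →ₐ[A] DirectLimit Ra t, ∃ (a : κ) (φ : B →ₐ[A] Ra a),
        ∀ x : B, DirectLimit.Ring.of Ra t a (φ x) = χ x) :
    ∃ (a : κ) (φ : B →ₐ[A] Ra a), ∀ x : B, lam a (φ x) = x := by
  obtain ⟨a₀⟩ := (inferInstance : Nonempty κ)
  letI algDL : Algebra A (DirectLimit Ra t) :=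
    ((DirectLimit.Ring.of Ra t a₀).comp (algebraMap A (Ra a₀))).toAlgebra
  have halg : ∀ (a : κ) (x : A), algebraMap A (DirectLimit Ra t) x =
      DirectLimit.Ring.of Ra t a (algebraMap A (Ra a) x) := by
    intro a x
    obtain ⟨c, h1, h2⟩ := exists_ge_ge a₀ a
    show DirectLimit.Ring.of Ra t a₀ (algebraMap A (Ra a₀) x) = _
    rw [← DirectLimit.Ring.of_f (f := fun a b h => t a b h) h1,
      ← DirectLimit.Ring.of_f (f := fun a b h => t a b h) h2]
    have e1 := congr($(ht a₀ c h1) x)
    have e2 := congr($(ht a c h2) x)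
    rw [RingHom.comp_apply] at e1 e2
    rw [e1, e2]
  let Λ : DirectLimit Ra t →+* B :=
    DirectLimit.Ring.lift Ra (fun a b h => t a b h) B (fun a => (lam a : Ra a →+* B))
      (fun a b h x => hlam a b h x)
  have hΛ : ∀ a y, Λ (DirectLimit.Ring.of Ra t a y) = lam a y := fun a y => rfl
  have hΛbij : Function.Bijective Λ := by
    constructor
    · rw [injective_iff_map_eq_zero]
      intro z hz
      obtain ⟨a, y, rfl⟩ := DirectLimit.exists_eq_mk (f := fun a b h => t a b h) z
      have hz' : lam a y = 0 := hz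
      obtain ⟨b, hab, hb⟩ := hinj a y hz'
      have : DirectLimit.Ring.of Ra t a y = DirectLimit.Ring.of Ra t b (t a b hab y) :=
        (DirectLimit.Ring.of_f (f := fun a b h => t a b h) hab y).symm
      show DirectLimit.Ring.of Ra t a y = 0
      rw [this, hb, map_zero]
    · intro x
      obtain ⟨a, y, rfl⟩ := hsurj x
      exact ⟨DirectLimit.Ring.of Ra t a y, hΛ a y⟩
  let E : DirectLimit Ra t ≃+* B := RingEquiv.ofBijective Λ hΛbij
  have hEalg : ∀ x : A, E (algebraMap A (DirectLimit Ra t) x) = algebraMap A B x := by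
    intro x
    show Λ (DirectLimit.Ring.of Ra t a₀ (algebraMap A (Ra a₀) x)) = _
    rw [hΛ, (lam a₀).commutes]
  let χ : B →ₐ[A] DirectLimit Ra t :=
    { (E.symm : B →+* DirectLimit Ra t) with
      commutes' := fun x => by
        show E.symm (algebraMap A B x) = _
        rw [← hEalg, RingEquiv.symm_apply_apply] }
  obtain ⟨a, φ, hφ⟩ := hfact halg χ
  refine ⟨a, φ, fun x => ?_⟩
  have h1 : lam a (φ x) = Λ (DirectLimit.Ring.of Ra t a (φ x)) := (hΛ a (φ x)).symm
  rw [h1, hφ]
  show E (E.symm x) = x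
  exact E.apply_symm_apply x

end Key

end Groth.Agent.Helper2.HfpLim
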