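import Mathlib
import Groth.Prelude
import Groth.Agent.Helper2.JacEt
import Groth.Agent.Helper2.PairHensNbhd3
set_option autoImplicit false

universe u

noncomputable section

namespace Groth.Agent.Helper2.JacEt

open MvPolynomial Groth.Agent.Helper2.PairHens

variable {A : Type u} [CommRing A] {n : ℕ} (f : Fin n → MvPolynomial (Fin n) A)
  (I : Ideal A) (a : Fin n → A)

theorem pderiv_mem_map_C {σ : Type*} (i : σ) {p : MvPolynomial σ A}
    (hp : p ∈ I.map (C : A →+* MvPolynomial σ A)) :
    pderiv i p ∈ I.map (C : A →+* MvPolynomial σ A) := by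
  rw [MvPolynomial.mem_map_C_iff] at hp ⊢
  intro m
  rw [coeff_pderiv]
  exact Ideal.mul_mem_right _ _ (hp _)

theorem rename_mem_map_C {σ τ : Type*} (g : σ → τ) {p : MvPolynomial σ A}
    (hp : p ∈ I.map (C : A →+* MvPolynomial σ A)) :
    rename g p ∈ I.map (C : A →+* MvPolynomial τ A) := by
  have : I.map (C : A →+* MvPolynomial σ A) ≤
      (I.map (C : A →+* MvPolynomial τ A)).comap (rename g : MvPolynomial σ A →ₐ[A] _).toRingHom := by
    rw [Ideal.map_le_iff_le_comap]
    intro x hx
    rw [Ideal.mem_comap, Ideal.mem_comap]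
    show rename g (C x) ∈ _
    rw [rename_C]
    exact Ideal.mem_map_of_mem _ hx
  exact this hp

variable (hf : ∀ j, f j - (X j - C (a j)) ∈ I.map (C : A →+* MvPolynomial (Fin n) A))
include hf

theorem jacDet_sub_one_mem : jacDet f - 1 ∈ I.map (C : A →+* MvPolynomial (Fin n) A) := by
  classical
  rw [← Ideal.Quotient.eq_zero_iff_mem, map_sub, map_one, sub_eq_zero]
  set q := Ideal.Quotient.mk (I.map (C : A →+* MvPolynomial (Fin n) A)) with hq
  have h1 : q.mapMatrix (jacMat f) = 1 := by
    refine Matrix.ext fun i j => ?_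
    rw [RingHom.mapMatrix_apply, Matrix.map_apply]
    show q (pderiv i (f j)) = (1 : Matrix (Fin n) (Fin n) _) i j
    have h2 : pderiv i (f j) = pderiv i (f j - (X j - C (a j))) + pderiv i (X j - C (a j)) := by
      rw [← map_add]
      congr 1
      ring
    have h3 : q (pderiv i (f j - (X j - C (a j)))) = 0 :=
      Ideal.Quotient.eq_zero_iff_mem.mpr (pderiv_mem_map_C I i (hf j))
    rw [h2, map_add, h3, zero_add, map_sub, pderiv_C, sub_zero, pderiv_X, Matrix.one_apply]
    rw [Pi.single_apply]
    split_ifs with h4 h5 h5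
    · exact map_one q
    · exact absurd h4.symm h5
    · exact absurd h5.symm h4
    · exact map_zero q
  show q (jacMat f).det = 1
  rw [RingHom.map_det, h1, Matrix.det_one]

/-- evaluation at the approximate solution, modulo `I` -/
def evalModAux : MvPolynomial (Fin n ⊕ Unit) A →ₐ[A] A ⧸ I :=
  aeval (Sum.elim (fun j => Ideal.Quotient.mk I (a j)) (fun _ => 1))

omit hf in
theorem evalModAux_rename (p : MvPolynomial (Fin n) A) :
    evalModAux I a (rename Sum.inl p) = aeval (fun j => Ideal.Quotient.mk I (a j)) p := by
  rw [evalModAux, aeval_rename]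
  rfl

omit hf in
theorem aeval_eq_zero_of_mem_map_C {σ : Type*} (x : σ → A ⧸ I) {p : MvPolynomial σ A}
    (hp : p ∈ I.map (C : A →+* MvPolynomial σ A)) : aeval x p = 0 := by
  have : I.map (C : A →+* MvPolynomial σ A) ≤ RingHom.ker (aeval x : MvPolynomial σ A →ₐ[A] A ⧸ I).toRingHom := by
    rw [Ideal.map_le_iff_le_comap]
    intro y hy
    rw [Ideal.mem_comap, RingHom.mem_ker]
    show aeval x (C y) = 0
    rw [aeval_C]
    exact Ideal.Quotient.eq_zero_iff_mem.mpr hy
  exact this hp

theorem evalModAux_rel (k : Fin n ⊕ Unit) : evalModAux I a (rel f k) = 0 := by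
  rcases k with j | u
  · show evalModAux I a (rename Sum.inl (f j)) = 0
    rw [evalModAux_rename]
    have h1 : f j = (f j - (X j - C (a j))) + (X j - C (a j)) := by ring
    rw [h1, map_add, aeval_eq_zero_of_mem_map_C I _ (hf j), zero_add, map_sub, aeval_X, aeval_C]
    exact sub_self _
  · show evalModAux I a (X (Sum.inr ()) * rename Sum.inl (jacDet f) - 1) = 0
    rw [map_sub, map_mul, map_one, evalModAux_rename]
    have h1 : jacDet f = (jacDet f - 1) + 1 := by ring
    rw [h1, map_add, aeval_eq_zero_of_mem_map_C I _ (jacDet_sub_one_mem f I a hf), zero_add, map_one,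
      mul_one]
    show aeval _ (X (Sum.inr ())) - 1 = (0 : A ⧸ I)
    rw [aeval_X]
    exact sub_self _

/-- evaluation of `JacAlg f` at the approximate solution, modulo `I` -/
def evalMod : JacAlg f →ₐ[A] A ⧸ I :=
  Ideal.Quotient.liftₐ _ (evalModAux I a) (by
    intro p hp
    have : Ideal.span (Set.range (rel f)) ≤ RingHom.ker (evalModAux I a).toRingHom := by
      rw [Ideal.span_le]
      rintro _ ⟨k, rfl⟩
      exact evalModAux_rel f I a hf k
    exact this hp)

theorem bijective_quotientMap :
    Function.Bijective (Ideal.quotientMap (I.map (algebraMap A (JacAlg f))) (algebraMap A (JacAlg f))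
      Ideal.le_comap_map) := by
  rw [bijective_quotientMap_iff]
  set IJ := I.map (algebraMap A (JacAlg f)) with hIJ
  have hmk : ∀ {p : MvPolynomial (Fin n ⊕ Unit) A}, p ∈ I.map (C : A →+* _) →
      Ideal.Quotient.mk (Ideal.span (Set.range (rel f))) p ∈ IJ := by
    intro p hp
    have : I.map (C : A →+* MvPolynomial (Fin n ⊕ Unit) A) ≤
        IJ.comap (Ideal.Quotient.mk (Ideal.span (Set.range (rel f)))) := by
      rw [Ideal.map_le_iff_le_comap]
      intro y hy
      rw [Ideal.mem_comap, Ideal.mem_comap]
      exact Ideal.mem_map_of_mem _ hy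
    exact this hp
  constructor
  · intro s hs
    have h1 : IJ ≤ RingHom.ker (evalMod f I a hf).toRingHom := by
      rw [hIJ, Ideal.map_le_iff_le_comap]
      intro y hy
      rw [Ideal.mem_comap, RingHom.mem_ker]
      show evalMod f I a hf (algebraMap A _ y) = 0
      rw [AlgHom.commutes]
      exact Ideal.Quotient.eq_zero_iff_mem.mpr hy
    have h2 : evalMod f I a hf (algebraMap A _ s) = 0 := h1 hs
    rw [AlgHom.commutes] at h2
    exact Ideal.Quotient.eq_zero_iff_mem.mp h2
  · intro x
    obtain ⟨p, rfl⟩ := Ideal.Quotient.mk_surjective x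
    induction p using MvPolynomial.induction_on with
    | C c =>
      refine ⟨c, ?_⟩
      have : Ideal.Quotient.mk (Ideal.span (Set.range (rel f))) (C c) = algebraMap A (JacAlg f) c := rfl
      rw [this, sub_self]
      exact IJ.zero_mem
    | add p q hp hq =>
      obtain ⟨s, hs⟩ := hp
      obtain ⟨t, ht⟩ := hq
      refine ⟨s + t, ?_⟩
      rw [map_add, map_add]
      have : Ideal.Quotient.mk (Ideal.span (Set.range (rel f))) p +
          Ideal.Quotient.mk (Ideal.span (Set.range (rel f))) q -
          (algebraMap A (JacAlg f) s + algebraMap A (JacAlg f) t) =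
          (Ideal.Quotient.mk _ p - algebraMap A (JacAlg f) s) +
          (Ideal.Quotient.mk _ q - algebraMap A (JacAlg f) t) := by ring
      rw [this]
      exact IJ.add_mem hs ht
    | mul_X p k hp =>
      obtain ⟨s, hs⟩ := hp
      have hk : ∃ t : A, Ideal.Quotient.mk (Ideal.span (Set.range (rel f))) (X k) -
          algebraMap A (JacAlg f) t ∈ IJ := by
        rcases k with j | u
        · refine ⟨a j, ?_⟩
          have h1 : (X (Sum.inl j) : MvPolynomial (Fin n ⊕ Unit) A) - C (a j) =
              rename Sum.inl (f j) - rename Sum.inl (f j - (X j - C (a j))) := by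
            rw [map_sub, map_sub, rename_X, rename_C]
            ring
          have h2 : Ideal.Quotient.mk (Ideal.span (Set.range (rel f))) (X (Sum.inl j)) -
              algebraMap A (JacAlg f) (a j) =
              Ideal.Quotient.mk (Ideal.span (Set.range (rel f))) (X (Sum.inl j) - C (a j)) := by
            rw [map_sub]
            rfl
          rw [h2, h1, map_sub]
          have h3 : Ideal.Quotient.mk (Ideal.span (Set.range (rel f))) (rename Sum.inl (f j)) = 0 :=
            Ideal.Quotient.eq_zero_iff_mem.mpr (Ideal.subset_span ⟨Sum.inl j, rfl⟩)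
          rw [h3, zero_sub]
          exact IJ.neg_mem (hmk (rename_mem_map_C I _ (hf j)))
        · refine ⟨1, ?_⟩
          set y := Ideal.Quotient.mk (Ideal.span (Set.range (rel f))) (X (Sum.inr ())) with hy
          set d := Ideal.Quotient.mk (Ideal.span (Set.range (rel f)))
            (rename Sum.inl (jacDet f)) with hd
          have hyd : y * d = 1 := by
            rw [hy, hd, ← map_mul, ← map_one (Ideal.Quotient.mk _), Ideal.Quotient.eq]
            exact Ideal.subset_span ⟨Sum.inr (), rfl⟩
          have hd1 : d - 1 ∈ IJ := by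
            have := hmk (rename_mem_map_C I (Sum.inl : Fin n → Fin n ⊕ Unit)
              (jacDet_sub_one_mem f I a hf))
            rw [map_sub, map_one, map_sub, map_one] at this
            exact this
          have : Ideal.Quotient.mk (Ideal.span (Set.range (rel f))) (X (Sum.inr u)) -
              algebraMap A (JacAlg f) 1 = - (y * (d - 1)) := by
            rw [map_one, mul_sub, hyd, mul_one]
            ring
          rw [this]
          exact IJ.neg_mem (IJ.mul_mem_left _ hd1)
      obtain ⟨t, ht⟩ := hk
      refine ⟨s * t, ?_⟩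
      rw [map_mul, map_mul]
      have : Ideal.Quotient.mk (Ideal.span (Set.range (rel f))) p *
          Ideal.Quotient.mk (Ideal.span (Set.range (rel f))) (X k) -
          algebraMap A (JacAlg f) s * algebraMap A (JacAlg f) t =
          (Ideal.Quotient.mk _ p - algebraMap A (JacAlg f) s) * Ideal.Quotient.mk _ (X k) +
          algebraMap A (JacAlg f) s * (Ideal.Quotient.mk _ (X k) - algebraMap A (JacAlg f) t) := by
        ring
      rw [this]
      exact IJ.add_mem (IJ.mul_mem_right _ hs) (IJ.mul_mem_left _ ht)

end Groth.Agent.Helper2.JacEt
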