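import Mathlib
import Groth.Prelude
import Groth.Agent.Helper2.JacEt2
import Groth.Agent.Helper2.HfpLim0
set_option autoImplicit false

universe u

noncomputable section

namespace Groth.Agent.Helper2.JacEt

open MvPolynomial Groth.Agent.Helper2.PairHens

theorem s17597 (A : Type u) [CommRing A] (I : Ideal A)
    [HenselianRing A I] (R : Type u) [CommRing R] [Algebra A R] [Algebra.FiniteType A R]
    (B : Type u) [CommRing B] [Algebra R B] [Algebra A B] [IsScalarTower A R B]
    (hB : Hens2.IsPairHenselization R (I.map (algebraMap A R)) B)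
    (hsurj : Function.Surjective
      (Ideal.quotientMap (I.map (algebraMap A B)) (algebraMap A B) Ideal.le_comap_map)) :
    Function.Surjective (algebraMap A B) := by
  classical
  obtain ⟨n, φ, hφsurj⟩ := (Algebra.FiniteType.iff_quotient_mvPolynomial'' (R := A) (S := R)).mp
    inferInstance
  haveI hBh := hB.1
  have hIB : (I.map (algebraMap A R)).map (algebraMap R B) = I.map (algebraMap A B) := by
    rw [Ideal.map_map, ← IsScalarTower.algebraMap_eq]
  have hjacB : I.map (algebraMap A B) ≤ Ideal.jacobson ⊥ := hIB ▸ HenselianRing.jac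
  set β := algebraMap R B with hβ
  -- step 1: approximate the generators
  have h1 : ∀ j : Fin n, ∃ aj : A, φ (X j) - algebraMap A R aj ∈ I.map (algebraMap A R) := by
    intro j
    obtain ⟨y, hy⟩ := hsurj (Ideal.Quotient.mk _ (β (φ (X j))))
    obtain ⟨aj, rfl⟩ := Ideal.Quotient.mk_surjective y
    rw [Ideal.quotientMap_mk, Ideal.Quotient.eq] at hy
    refine ⟨aj, ?_⟩
    have h2 : β (φ (X j) - algebraMap A R aj) ∈
        ((I.map (algebraMap A R)) ^ 1).map (algebraMap R B) := by
      rw [pow_one, hIB, map_sub, ← IsScalarTower.algebraMap_apply]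
      have := (I.map (algebraMap A B)).neg_mem hy
      rwa [neg_sub] at this
    have := mem_pow_of_algebraMap_mem hB 1 _ h2
    rwa [pow_one] at this
  choose a ha using h1
  have hIR : I.map (algebraMap A R) = (I.map (C : A →+* MvPolynomial (Fin n) A)).map
      (φ : MvPolynomial (Fin n) A →+* R) := by
    rw [Ideal.map_map]
    congr 1
    refine RingHom.ext fun x => ?_
    exact (φ.commutes x).symm
  have h2 : ∀ j : Fin n, ∃ pj ∈ I.map (C : A →+* MvPolynomial (Fin n) A),
      φ pj = φ (X j) - algebraMap A R (a j) := by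
    intro j
    have := ha j
    rw [hIR] at this
    exact (Ideal.mem_map_iff_of_surjective (φ : MvPolynomial (Fin n) A →+* R) hφsurj).mp this
  choose p hpI hpφ using h2
  let f : Fin n → MvPolynomial (Fin n) A := fun j => X j - C (a j) - p j
  have hfφ : ∀ j, φ (f j) = 0 := by
    intro j
    show φ (X j - C (a j) - p j) = 0
    rw [map_sub, map_sub, hpφ]
    have : φ (C (a j)) = algebraMap A R (a j) := φ.commutes (a j)
    rw [this, sub_self]
  have hf : ∀ j, f j - (X j - C (a j)) ∈ I.map (C : A →+* MvPolynomial (Fin n) A) := by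
    intro j
    have : f j - (X j - C (a j)) = - p j := by
      show X j - C (a j) - p j - (X j - C (a j)) = - p j
      ring
    rw [this]
    exact Ideal.neg_mem_iff _ |>.mpr (hpI j)
  have hbij := bijective_quotientMap f I a hf
  -- the unit
  have hDunit : IsUnit (β (φ (jacDet f))) := by
    have h3 : φ (jacDet f - 1) ∈ I.map (algebraMap A R) := by
      rw [hIR]
      exact Ideal.mem_map_of_mem _ (jacDet_sub_one_mem f I a hf)
    have h4 : β (φ (jacDet f)) - 1 ∈ I.map (algebraMap A B) := by
      rw [← hIB]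
      have := Ideal.mem_map_of_mem β h3
      rwa [map_sub, map_one, map_sub, map_one] at this
    have h5 := (Ideal.mem_jacobson_bot.mp (hjacB h4)) 1
    rw [mul_one, sub_add_cancel] at h5
    exact h5
  obtain ⟨u, hu⟩ := hDunit.exists_left_inv
  -- the map `E → B`
  let βφ : MvPolynomial (Fin n) A →ₐ[A] B := (IsScalarTower.toAlgHom A R B).comp φ
  have hβφ : ∀ q, βφ q = β (φ q) := fun _ => rfl
  let θ₀ : MvPolynomial (Fin n ⊕ Unit) A →ₐ[A] B :=
    aeval (Sum.elim (fun j => β (φ (X j))) (fun _ => u))
  have hθ₀ren : ∀ q : MvPolynomial (Fin n) A, θ₀ (rename Sum.inl q) = β (φ q) := by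
    intro q
    rw [← hβφ]
    have : (θ₀.comp (rename Sum.inl : MvPolynomial (Fin n) A →ₐ[A] _)) = βφ := by
      apply MvPolynomial.algHom_ext
      intro j
      simp [θ₀, βφ, hβ]
    exact congr($this q)
  have hθ₀rel : ∀ k, θ₀ (rel f k) = 0 := by
    rintro (j | _)
    · show θ₀ (rename Sum.inl (f j)) = 0
      rw [hθ₀ren, hfφ, map_zero]
    · show θ₀ (X (Sum.inr ()) * rename Sum.inl (jacDet f) - 1) = 0
      rw [map_sub, map_mul, map_one, hθ₀ren]
      have : θ₀ (X (Sum.inr ())) = u := by simp [θ₀]
      rw [this, hu, sub_self]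
  let θ : JacAlg f →ₐ[A] B := Ideal.Quotient.liftₐ _ θ₀ (by
    intro q hq
    have : Ideal.span (Set.range (rel f)) ≤ RingHom.ker θ₀.toRingHom := by
      rw [Ideal.span_le]
      rintro _ ⟨k, rfl⟩
      exact hθ₀rel k
    exact this hq)
  have hθmk : ∀ q, θ (Ideal.Quotient.mk _ q) = θ₀ q := fun _ => rfl
  -- the retraction
  obtain ⟨r, -⟩ := exists_algHom_of_etale I (JacAlg f) (evalMod f I a hf)
  have hsub := nbhd_algHom_subsingleton hbij B hjacB
  have hθr : θ = (Algebra.ofId A B).comp r := Subsingleton.elim _ _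
  -- generators land in the image of `A`
  let c : Fin n → A := fun j => r (Ideal.Quotient.mk _ (X (Sum.inl j)))
  have hc : ∀ j, β (φ (X j)) = algebraMap A B (c j) := by
    intro j
    have h6 : θ (Ideal.Quotient.mk _ (X (Sum.inl j))) = β (φ (X j)) := by
      rw [hθmk]
      simp [θ₀]
    rw [← h6, hθr]
    rfl
  have hrange : ∀ q : MvPolynomial (Fin n) A, β (φ q) = algebraMap A B (aeval c q) := by
    intro q
    have : βφ = (Algebra.ofId A B).comp (aeval c) := by
      apply MvPolynomial.algHom_ext
      intro j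
      rw [hβφ, hc, AlgHom.comp_apply, aeval_X]
      rfl
    rw [← hβφ, this]
    rfl
  have hRrange : ∀ x : R, β x ∈ (Algebra.ofId A B).range := by
    intro x
    obtain ⟨q, rfl⟩ := hφsurj x
    exact ⟨aeval c q, (hrange q).symm⟩
  -- the image of `A` is everything
  let A' : Subalgebra A B := (Algebra.ofId A B).range
  haveI hAI : HenselianRing A (I.map (algebraMap A A)) := by
    have : I.map (algebraMap A A) = I := Ideal.map_id I
    rw [this]
    infer_instance
  haveI hA'h : HenselianRing A' (I.map (algebraMap A A')) :=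
    Groth.Agent.Helper2.HfpLim.henselianRing_of_surjective I (Algebra.ofId A B).rangeRestrict
      (Algebra.ofId A B).rangeRestrict_surjective
  let g₀ : R →+* A' := (β : R →+* B).codRestrict A'.toSubring hRrange
  have hg₀ : ∀ x, ((g₀ x : A') : B) = β x := fun _ => rfl
  have hle : (I.map (algebraMap A R)).map g₀ ≤ I.map (algebraMap A A') := by
    rw [Ideal.map_map]
    apply le_of_eq
    congr 1
    refine RingHom.ext fun x => ?_
    apply Subtype.ext
    show β (algebraMap A R x) = algebraMap A B x
    rw [← IsScalarTower.algebraMap_apply]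
  obtain ⟨g, hg, -⟩ := hB.2 A' (I.map (algebraMap A A')) g₀ hA'h hle
  have hg' : ∀ x, g (β x) = g₀ x := fun x => congr($hg x)
  obtain ⟨w, -, hwu⟩ := hB.2 B ((I.map (algebraMap A R)).map (algebraMap R B)) β hB.1 le_rfl
  have e1 : (A'.val : A' →+* B).comp g = w := by
    apply hwu
    refine RingHom.ext fun x => ?_
    show ((g (β x) : A') : B) = β x
    rw [hg', hg₀]
  have e2 : RingHom.id B = w := hwu _ rfl
  intro b
  have h7 : ((g b : A') : B) = b := congr($(e1.trans e2.symm) b)
  obtain ⟨s, hs⟩ := (g b).2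
  exact ⟨s, hs.trans h7⟩

end Groth.Agent.Helper2.JacEt
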