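import Mathlib
import Groth.Prelude
import Groth.Agent.Helper2.PairHensEt3
set_option autoImplicit false

/-!
# h-formally étale / smooth maps versus their truncations
-/

universe u

noncomputable section

namespace Groth.Agent.Helper2.PairHens

open TensorProduct Polynomial

section Killed

variable {A : Type u} [CommRing A] (I : Ideal A) (N : ℕ)

/-- algebra structure over `A/I^N` on an `A`-algebra killed by `I^N` -/
@[reducible] def algOfKilled (E : Type u) [CommRing E] [Algebra A E]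
    (hE : (I ^ N).map (algebraMap A E) = ⊥) : Algebra (A ⧸ I ^ N) E :=
  (Ideal.Quotient.lift (I ^ N) (algebraMap A E) (fun a ha => by
    have := Ideal.mem_map_of_mem (algebraMap A E) ha
    rwa [hE] at this)).toAlgebra

theorem isScalarTower_of_killed (E : Type u) [CommRing E] [Algebra A E]
    (hE : (I ^ N).map (algebraMap A E) = ⊥) :
    letI := algOfKilled I N E hE
    IsScalarTower A (A ⧸ I ^ N) E :=
  letI := algOfKilled I N E hE
  IsScalarTower.of_algebraMap_eq (fun _ => rfl)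

variable (Q : Type u) [CommRing Q] [Algebra A Q] [Algebra (A ⧸ I ^ N) Q]
  [IsScalarTower A (A ⧸ I ^ N) Q]

theorem exists_lift_of_formallySmooth [Algebra.FormallySmooth (A ⧸ I ^ N) Q]
    (E C : Type u) [CommRing E] [CommRing C] [Algebra A E] [Algebra A C]
    (hE : (I ^ N).map (algebraMap A E) = ⊥) (hC : (I ^ N).map (algebraMap A C) = ⊥)
    (p : E →ₐ[A] C) (hp : Function.Surjective p) (hnil : IsNilpotent (RingHom.ker (p : E →+* C)))
    (ub : Q →ₐ[A] C) : ∃ vb : Q →ₐ[A] E, p.comp vb = ub := by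
  letI := algOfKilled I N E hE
  letI := algOfKilled I N C hC
  haveI := isScalarTower_of_killed I N E hE
  haveI := isScalarTower_of_killed I N C hC
  let p' : E →ₐ[A ⧸ I ^ N] C := AlgHom.extendScalarsOfSurjective Ideal.Quotient.mk_surjective p
  let u' : Q →ₐ[A ⧸ I ^ N] C := AlgHom.extendScalarsOfSurjective Ideal.Quotient.mk_surjective ub
  refine ⟨(Algebra.FormallySmooth.liftOfSurjective u' p' hp hnil).restrictScalars A, ?_⟩
  ext x
  exact Algebra.FormallySmooth.liftOfSurjective_apply u' p' hp hnil x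

theorem lift_unique_of_formallyUnramified [Algebra.FormallyUnramified (A ⧸ I ^ N) Q]
    (E C : Type u) [CommRing E] [CommRing C] [Algebra A E] [Algebra A C]
    (hE : (I ^ N).map (algebraMap A E) = ⊥)
    (p : E →ₐ[A] C) (hnil : IsNilpotent (RingHom.ker (p : E →+* C)))
    (v₁ v₂ : Q →ₐ[A] E) (h : p.comp v₁ = p.comp v₂) : v₁ = v₂ := by
  letI := algOfKilled I N E hE
  haveI := isScalarTower_of_killed I N E hE
  let v₁' : Q →ₐ[A ⧸ I ^ N] E := AlgHom.extendScalarsOfSurjective Ideal.Quotient.mk_surjective v₁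
  let v₂' : Q →ₐ[A ⧸ I ^ N] E := AlgHom.extendScalarsOfSurjective Ideal.Quotient.mk_surjective v₂
  have : v₁' = v₂' := by
    apply Algebra.FormallyUnramified.lift_unique_of_ringHom (p : E →+* C) hnil
    ext x
    exact congr($h x)
  ext x
  exact congr($this x)

end Killed

section LP

variable (A : Type u) [CommRing A] (I : Ideal A) (B : Type u) [CommRing B] [Algebra A B]

/-- algebra maps out of `B` into an algebra killed by `I^N` factor through the truncation -/
def truncLift (N : ℕ) (C : Type u) [CommRing C] [Algebra A C]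
    (hC : (I ^ N).map (algebraMap A C) = ⊥) (u : B →ₐ[A] C) :
    (B ⧸ (I ^ N).map (algebraMap A B)) →ₐ[A] C :=
  Ideal.Quotient.liftₐ _ u (by
    intro b hb
    have := map_algHom_mem (I ^ N) u hb
    rwa [hC] at this)

theorem truncLift_mk (N : ℕ) (C : Type u) [CommRing C] [Algebra A C]
    (hC : (I ^ N).map (algebraMap A C) = ⊥) (u : B →ₐ[A] C) (b : B) :
    truncLift A I B N C hC u (Ideal.Quotient.mk _ b) = u b := rfl

theorem lp_exists_of_formallySmooth
    (h : ∀ r : ℕ, 1 ≤ r →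
      Algebra.FormallySmooth (A ⧸ I ^ r) (B ⧸ (I ^ r).map (algebraMap A B)))
    (E C : Type u) [CommRing E] [CommRing C] [Algebra A E] [Algebra A C] (N : ℕ) (hN : 1 ≤ N)
    (hE : (I ^ N).map (algebraMap A E) = ⊥) (hC : (I ^ N).map (algebraMap A C) = ⊥)
    (p : E →ₐ[A] C) (hp : Function.Surjective p) (hnil : ∃ M : ℕ, 1 ≤ M ∧ RingHom.ker p ^ M = ⊥)
    (u : B →ₐ[A] C) : ∃ v : B →ₐ[A] E, p.comp v = u := by
  haveI := h N hN
  have hnil' : IsNilpotent (RingHom.ker (p : E →+* C)) := by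
    obtain ⟨M, -, hM⟩ := hnil
    exact ⟨M, hM⟩
  obtain ⟨vb, hvb⟩ := exists_lift_of_formallySmooth I N (B ⧸ (I ^ N).map (algebraMap A B)) E C hE hC
    p hp hnil' (truncLift A I B N C hC u)
  refine ⟨vb.comp (Ideal.Quotient.mkₐ A _), ?_⟩
  ext b
  have := congr($hvb (Ideal.Quotient.mk _ b))
  exact this

theorem lp_unique_of_formallyUnramified
    (h : ∀ r : ℕ, 1 ≤ r →
      Algebra.FormallyUnramified (A ⧸ I ^ r) (B ⧸ (I ^ r).map (algebraMap A B)))
    (E C : Type u) [CommRing E] [CommRing C] [Algebra A E] [Algebra A C] (N : ℕ) (hN : 1 ≤ N)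
    (hE : (I ^ N).map (algebraMap A E) = ⊥)
    (p : E →ₐ[A] C) (hnil : ∃ M : ℕ, 1 ≤ M ∧ RingHom.ker p ^ M = ⊥)
    (v₁ v₂ : B →ₐ[A] E) (hv : p.comp v₁ = p.comp v₂) : v₁ = v₂ := by
  haveI := h N hN
  have hnil' : IsNilpotent (RingHom.ker (p : E →+* C)) := by
    obtain ⟨M, -, hM⟩ := hnil
    exact ⟨M, hM⟩
  have := lift_unique_of_formallyUnramified I N (B ⧸ (I ^ N).map (algebraMap A B)) E C hE p hnil'
    (truncLift A I B N E hE v₁) (truncLift A I B N E hE v₂) (by
      ext x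
      obtain ⟨b, rfl⟩ := Ideal.Quotient.mk_surjective x
      exact congr($hv b))
  ext b
  exact congr($this (Ideal.Quotient.mk _ b))

end LP

section Converse

variable (A : Type u) [CommRing A] (I : Ideal A) (B : Type u) [CommRing B] [Algebra A B]

theorem formallySmooth_of_lp_exists
    (hLP : ∀ (E C : Type u) [CommRing E] [CommRing C] [Algebra A E] [Algebra A C] (N : ℕ), 1 ≤ N →
        (I ^ N).map (algebraMap A E) = ⊥ → (I ^ N).map (algebraMap A C) = ⊥ →
        ∀ (p : E →ₐ[A] C), Function.Surjective p → (∃ M : ℕ, 1 ≤ M ∧ RingHom.ker p ^ M = ⊥) →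
        ∀ u : B →ₐ[A] C, ∃ v : B →ₐ[A] E, p.comp v = u) (r : ℕ) (hr : 1 ≤ r) :
    Algebra.FormallySmooth (A ⧸ I ^ r) (B ⧸ (I ^ r).map (algebraMap A B)) := by
  rw [Algebra.FormallySmooth.iff_comp_surjective]
  intro B' _ _ J hJ g
  letI : Algebra A B' := ((algebraMap (A ⧸ I ^ r) B').comp (algebraMap A (A ⧸ I ^ r))).toAlgebra
  haveI : IsScalarTower A (A ⧸ I ^ r) B' := IsScalarTower.of_algebraMap_eq (fun _ => rfl)
  have hkill : ∀ (T : Type u) [CommRing T] [Algebra A T] [Algebra (A ⧸ I ^ r) T]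
      [IsScalarTower A (A ⧸ I ^ r) T], (I ^ r).map (algebraMap A T) = ⊥ := by
    intro T _ _ _ _
    rw [eq_bot_iff, Ideal.map_le_iff_le_comap]
    intro a ha
    rw [Ideal.mem_comap, IsScalarTower.algebraMap_apply A (A ⧸ I ^ r) T,
      Ideal.Quotient.algebraMap_eq, Ideal.Quotient.eq_zero_iff_mem.mpr ha, map_zero]
    exact Ideal.zero_mem _
  have hE := hkill B'
  have hC := hkill (B' ⧸ J)
  let p : B' →ₐ[A] B' ⧸ J := Ideal.Quotient.mkₐ A J
  have hp : Function.Surjective p := Ideal.Quotient.mkₐ_surjective A J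
  have hker : ∃ M : ℕ, 1 ≤ M ∧ RingHom.ker p ^ M = ⊥ := by
    refine ⟨2, by norm_num, ?_⟩
    have : RingHom.ker p = J := Ideal.Quotient.mkₐ_ker A J
    rw [this, hJ]
  let u : B →ₐ[A] B' ⧸ J := (g.restrictScalars A).comp (Ideal.Quotient.mkₐ A _)
  obtain ⟨v, hv⟩ := hLP B' (B' ⧸ J) r hr hE hC p hp hker u
  refine ⟨AlgHom.extendScalarsOfSurjective Ideal.Quotient.mk_surjective
    (truncLift A I B r B' hE v), ?_⟩
  ext x
  obtain ⟨b, rfl⟩ := Ideal.Quotient.mk_surjective x
  exact congr($hv b)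

theorem formallyUnramified_of_lp_unique
    (hLP : ∀ (E C : Type u) [CommRing E] [CommRing C] [Algebra A E] [Algebra A C] (N : ℕ), 1 ≤ N →
        (I ^ N).map (algebraMap A E) = ⊥ → (I ^ N).map (algebraMap A C) = ⊥ →
        ∀ (p : E →ₐ[A] C), Function.Surjective p → (∃ M : ℕ, 1 ≤ M ∧ RingHom.ker p ^ M = ⊥) →
        ∀ v₁ v₂ : B →ₐ[A] E, p.comp v₁ = p.comp v₂ → v₁ = v₂) (r : ℕ) (hr : 1 ≤ r) :
    Algebra.FormallyUnramified (A ⧸ I ^ r) (B ⧸ (I ^ r).map (algebraMap A B)) := by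
  rw [Algebra.FormallyUnramified.iff_comp_injective]
  intro B' _ _ J hJ g₁ g₂ hg
  letI : Algebra A B' := ((algebraMap (A ⧸ I ^ r) B').comp (algebraMap A (A ⧸ I ^ r))).toAlgebra
  haveI : IsScalarTower A (A ⧸ I ^ r) B' := IsScalarTower.of_algebraMap_eq (fun _ => rfl)
  have hkill : ∀ (T : Type u) [CommRing T] [Algebra A T] [Algebra (A ⧸ I ^ r) T]
      [IsScalarTower A (A ⧸ I ^ r) T], (I ^ r).map (algebraMap A T) = ⊥ := by
    intro T _ _ _ _
    rw [eq_bot_iff, Ideal.map_le_iff_le_comap]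
    intro a ha
    rw [Ideal.mem_comap, IsScalarTower.algebraMap_apply A (A ⧸ I ^ r) T,
      Ideal.Quotient.algebraMap_eq, Ideal.Quotient.eq_zero_iff_mem.mpr ha, map_zero]
    exact Ideal.zero_mem _
  have hE := hkill B'
  have hC := hkill (B' ⧸ J)
  let p : B' →ₐ[A] B' ⧸ J := Ideal.Quotient.mkₐ A J
  have hp : Function.Surjective p := Ideal.Quotient.mkₐ_surjective A J
  have hker : ∃ M : ℕ, 1 ≤ M ∧ RingHom.ker p ^ M = ⊥ := by
    refine ⟨2, by norm_num, ?_⟩
    have : RingHom.ker p = J := Ideal.Quotient.mkₐ_ker A J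
    rw [this, hJ]
  have := hLP B' (B' ⧸ J) r hr hE hC p hp hker
    ((g₁.restrictScalars A).comp (Ideal.Quotient.mkₐ A _))
    ((g₂.restrictScalars A).comp (Ideal.Quotient.mkₐ A _)) (by
      ext b
      exact congr($hg (Ideal.Quotient.mk _ b)))
  ext x
  obtain ⟨b, rfl⟩ := Ideal.Quotient.mk_surjective x
  exact congr($this b)

end Converse

section Rows

variable (A : Type u) [CommRing A] (I : Ideal A)
    (R₀ : Type u) [CommRing R₀] [Algebra A R₀] [Algebra.FinitePresentation A R₀]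
    (B : Type u) [CommRing B] [Algebra R₀ B] [Algebra A B] [IsScalarTower A R₀ B]

theorem finitePresentation_trunc
    (hB : Hens2.IsPairHenselization R₀ (I.map (algebraMap A R₀)) B) (r : ℕ) :
    Algebra.FinitePresentation (A ⧸ I ^ r) (B ⧸ (I ^ r).map (algebraMap A B)) := by
  haveI : Algebra.FinitePresentation (A ⧸ I ^ r) (R₀ ⧸ (I ^ r).map (algebraMap A R₀)) :=
    Algebra.FinitePresentation.equiv
      (Algebra.TensorProduct.quotIdealMapEquivQuotTensor R₀ (I ^ r)).symm
  exact Algebra.FinitePresentation.equiv (truncationEquiv A I R₀ B hB r)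

theorem s17610 (hB : Hens2.IsPairHenselization R₀ (I.map (algebraMap A R₀)) B) :
    (∀ (E C : Type u) [CommRing E] [CommRing C] [Algebra A E] [Algebra A C] (N : ℕ), 1 ≤ N →
        (I ^ N).map (algebraMap A E) = ⊥ → (I ^ N).map (algebraMap A C) = ⊥ →
        ∀ (p : E →ₐ[A] C), Function.Surjective p → (∃ M : ℕ, 1 ≤ M ∧ RingHom.ker p ^ M = ⊥) →
        ∀ u : B →ₐ[A] C, ∃! v : B →ₐ[A] E, p.comp v = u) ↔
    ∀ r : ℕ, 1 ≤ r → Algebra.Etale (A ⧸ I ^ r) (B ⧸ (I ^ r).map (algebraMap A B)) := by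
  constructor
  · intro hLP r hr
    haveI := finitePresentation_trunc A I R₀ B hB r
    haveI : Algebra.FormallySmooth (A ⧸ I ^ r) (B ⧸ (I ^ r).map (algebraMap A B)) :=
      formallySmooth_of_lp_exists A I B (fun E C _ _ _ _ N hN hE hC p hp hker u =>
        (hLP E C N hN hE hC p hp hker u).exists) r hr
    haveI : Algebra.FormallyUnramified (A ⧸ I ^ r) (B ⧸ (I ^ r).map (algebraMap A B)) :=
      formallyUnramified_of_lp_unique A I B (fun E C _ _ _ _ N hN hE hC p hp hker v₁ v₂ hv =>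
        (hLP E C N hN hE hC p hp hker (p.comp v₁)).unique rfl hv.symm) r hr
    haveI : Algebra.FormallyEtale (A ⧸ I ^ r) (B ⧸ (I ^ r).map (algebraMap A B)) :=
      Algebra.FormallyEtale.of_formallyUnramified_and_formallySmooth
    exact {}
  · intro het E C _ _ _ _ N hN hE hC p hp hker u
    obtain ⟨v, hv⟩ := lp_exists_of_formallySmooth A I B
      (fun r hr => by haveI := het r hr; infer_instance) E C N hN hE hC p hp hker u
    refine ⟨v, hv, fun v' hv' => ?_⟩
    exact lp_unique_of_formallyUnramified A I B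
      (fun r hr => by haveI := het r hr; infer_instance) E C N hN hE p hker v' v (hv'.trans hv.symm)

theorem s17611 (hB : Hens2.IsPairHenselization R₀ (I.map (algebraMap A R₀)) B) :
    (∀ (E C : Type u) [CommRing E] [CommRing C] [Algebra A E] [Algebra A C] (N : ℕ), 1 ≤ N →
        (I ^ N).map (algebraMap A E) = ⊥ → (I ^ N).map (algebraMap A C) = ⊥ →
        ∀ (p : E →ₐ[A] C), Function.Surjective p → (∃ M : ℕ, 1 ≤ M ∧ RingHom.ker p ^ M = ⊥) →
        ∀ u : B →ₐ[A] C, ∃ v : B →ₐ[A] E, p.comp v = u) ↔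
    ∀ r : ℕ, 1 ≤ r → Algebra.Smooth (A ⧸ I ^ r) (B ⧸ (I ^ r).map (algebraMap A B)) := by
  constructor
  · intro hLP r hr
    haveI := finitePresentation_trunc A I R₀ B hB r
    haveI : Algebra.FormallySmooth (A ⧸ I ^ r) (B ⧸ (I ^ r).map (algebraMap A B)) :=
      formallySmooth_of_lp_exists A I B hLP r hr
    exact {}
  · intro hsm E C _ _ _ _ N hN hE hC p hp hker u
    exact lp_exists_of_formallySmooth A I B
      (fun r hr => by haveI := hsm r hr; infer_instance) E C N hN hE hC p hp hker u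

end Rows

end Groth.Agent.Helper2.PairHens
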