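import Mathlib
import Groth.Prelude
import Groth.Agent.Helper2.JacEt3
import Groth.Agent.Helper2.PairHensNbhd5
import Groth.Agent.Helper2.PairHensFormal
set_option autoImplicit false

universe u

noncomputable section

namespace Groth.Agent.Helper2.JacEt

open MvPolynomial Groth.Agent.Helper2.PairHens

variable (A : Type u) [CommRing A] (I : Ideal A) [HenselianRing A I]
  (E : Type u) [CommRing E] [Algebra A E] [Algebra.Etale A E]
  (H : Type u) [CommRing H] [Algebra E H] [Algebra A H] [IsScalarTower A E H]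
  (hH : Hens2.IsPairHenselization E (I.map (algebraMap A E)) H)
  (R₀ : Type u) [CommRing R₀] [Algebra A R₀] [Algebra.FinitePresentation A R₀]
  (B : Type u) [CommRing B] [Algebra R₀ B] [Algebra A B] [IsScalarTower A R₀ B]
  (hB : Hens2.IsPairHenselization R₀ (I.map (algebraMap A R₀)) B)
  (φ : H →ₐ[A] B)

include hH in
omit [HenselianRing A I] [Algebra.Etale A E] in
theorem map_map_eq : (I.map (algebraMap A E)).map (algebraMap E H) = I.map (algebraMap A H) := by
  rw [Ideal.map_map, ← IsScalarTower.algebraMap_eq]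

include hH hB in
theorem surj_aux
    (hsurj : ∀ b : B, ∃ e : E, b - φ (algebraMap E H e) ∈ I.map (algebraMap A B)) :
    Function.Surjective φ := by
  letI : Algebra H B := φ.toRingHom.toAlgebra
  haveI : IsScalarTower A H B := IsScalarTower.of_algebraMap_eq (fun a => (φ.commutes a).symm)
  obtain ⟨T, _, _, _, _, hTfp, hT⟩ := s17609 A I E H hH R₀ B hB
  haveI : HenselianRing H (I.map (algebraMap A H)) := map_map_eq A I E H hH ▸ hH.1
  haveI := hTfp
  have := s17597 H (I.map (algebraMap A H)) T B hT (by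
    intro x
    obtain ⟨b, rfl⟩ := Ideal.Quotient.mk_surjective x
    obtain ⟨e, he⟩ := hsurj b
    refine ⟨Ideal.Quotient.mk _ (algebraMap E H e), ?_⟩
    rw [Ideal.quotientMap_mk, eq_comm, Ideal.Quotient.eq, Ideal.map_map,
      ← IsScalarTower.algebraMap_eq]
    exact he)
  exact this

include hH in
omit [HenselianRing A I] [Algebra.Etale A E] in
theorem modI_aux
    (hker : ∀ e : E, φ (algebraMap E H e) ∈ I.map (algebraMap A B) → e ∈ I.map (algebraMap A E))
    (h : H) (hh : φ h ∈ I.map (algebraMap A B)) : h ∈ I.map (algebraMap A H) := by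
  obtain ⟨e, he⟩ := exists_sub_mem_of_isPairHenselization hH h
  rw [map_map_eq A I E H hH] at he
  have h1 : φ (h - algebraMap E H e) ∈ I.map (algebraMap A B) := map_algHom_mem I φ he
  have h2 : φ (algebraMap E H e) ∈ I.map (algebraMap A B) := by
    have : φ (algebraMap E H e) = φ h - φ (h - algebraMap E H e) := by
      rw [map_sub]; ring
    rw [this]
    exact Ideal.sub_mem _ hh h1
  have h3 : algebraMap E H e ∈ I.map (algebraMap A H) := by
    rw [← map_map_eq A I E H hH]
    exact Ideal.mem_map_of_mem _ (hker e h2)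
  have : h = (h - algebraMap E H e) + algebraMap E H e := by ring
  rw [this]
  exact Ideal.add_mem _ he h3


include hH in
omit [HenselianRing A I] in
theorem pow_aux
    (het : ∀ r : ℕ, 1 ≤ r → Algebra.Etale (A ⧸ I ^ r) (B ⧸ (I ^ r).map (algebraMap A B)))
    (hsurj : Function.Surjective φ)
    (hmodI : ∀ h : H, φ h ∈ I.map (algebraMap A B) → h ∈ I.map (algebraMap A H))
    (n : ℕ) : RingHom.ker φ ≤ (I ^ n).map (algebraMap A H) := by
  rcases Nat.eq_zero_or_pos n with rfl | hn
  · rw [pow_zero, Ideal.one_eq_top, Ideal.map_top]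
    exact le_top
  set Hn := H ⧸ (I ^ n).map (algebraMap A H) with hHn
  set Bn := B ⧸ (I ^ n).map (algebraMap A B) with hBn
  have hE : (I ^ n).map (algebraMap A Hn) = ⊥ := by
    rw [IsScalarTower.algebraMap_eq A H Hn, ← Ideal.map_map]
    exact Ideal.map_quotient_self _
  have hC : (I ^ n).map (algebraMap A Bn) = ⊥ := by
    rw [IsScalarTower.algebraMap_eq A B Bn, ← Ideal.map_map]
    exact Ideal.map_quotient_self _
  let p : Hn →ₐ[A] Bn := Ideal.Quotient.liftₐ _ ((Ideal.Quotient.mkₐ A _).comp φ) (by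
    intro x hx
    show Ideal.Quotient.mk _ (φ x) = 0
    exact Ideal.Quotient.eq_zero_iff_mem.mpr (map_algHom_mem (I ^ n) φ hx))
  have hpmk : ∀ h : H, p (Ideal.Quotient.mk _ h) = Ideal.Quotient.mk _ (φ h) := fun h => rfl
  have hp : Function.Surjective p := by
    intro y
    obtain ⟨b, rfl⟩ := Ideal.Quotient.mk_surjective y
    obtain ⟨h, rfl⟩ := hsurj b
    exact ⟨Ideal.Quotient.mk _ h, hpmk h⟩
  have hkerp : RingHom.ker p ≤ I.map (algebraMap A Hn) := by
    intro x hx
    obtain ⟨h, rfl⟩ := Ideal.Quotient.mk_surjective x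
    rw [RingHom.mem_ker, hpmk, Ideal.Quotient.eq_zero_iff_mem] at hx
    have h1 : φ h ∈ I.map (algebraMap A B) :=
      Ideal.map_mono (Ideal.pow_le_self (Nat.pos_iff_ne_zero.mp hn)) hx
    have h2 := hmodI h h1
    rw [IsScalarTower.algebraMap_eq A H Hn, ← Ideal.map_map]
    exact Ideal.mem_map_of_mem _ h2
  have hnil : ∃ M : ℕ, 1 ≤ M ∧ RingHom.ker p ^ M = ⊥ := by
    refine ⟨n, hn, ?_⟩
    rw [eq_bot_iff]
    calc RingHom.ker p ^ n ≤ (I.map (algebraMap A Hn)) ^ n := Ideal.pow_right_mono hkerp n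
      _ = ⊥ := by rw [← Ideal.map_pow, hE]
  obtain ⟨v, hv⟩ := lp_exists_of_formallySmooth A I B
    (fun r hr => by haveI := het r hr; infer_instance) Hn Bn n hn hE hC p hp hnil
    (Ideal.Quotient.mkₐ A _)
  have hv' : ∀ b : B, p (v b) = Ideal.Quotient.mk _ b := fun b => congr($hv b)
  -- the two maps `E → Hn` agree
  let a₁ : E →ₐ[A] Hn := (v.comp φ).comp (IsScalarTower.toAlgHom A E H)
  let a₂ : E →ₐ[A] Hn := (Ideal.Quotient.mkₐ A _).comp (IsScalarTower.toAlgHom A E H)
  have hnil' : IsNilpotent (RingHom.ker (p : Hn →+* Bn)) := by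
    obtain ⟨M, -, hM⟩ := hnil
    exact ⟨M, hM⟩
  have ha : a₁ = a₂ := by
    apply Algebra.FormallyUnramified.lift_unique_of_ringHom (p : Hn →+* Bn) hnil'
    refine RingHom.ext fun e => ?_
    show p (v (φ (algebraMap E H e))) = p (Ideal.Quotient.mk _ (algebraMap E H e))
    rw [hv', hpmk]
  -- uniqueness for `H`
  have hJ : I.map (algebraMap A Hn) ≤ nilradical Hn := by
    intro x hx
    refine ⟨n, ?_⟩
    have h1 : x ^ n ∈ (I.map (algebraMap A Hn)) ^ n := Ideal.pow_mem_pow hx n
    rw [← Ideal.map_pow, hE] at h1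
    exact h1
  have hhens := henselianRing_of_le_nilradical _ hJ
  obtain ⟨g, -, hguniq⟩ := hH.2 Hn (I.map (algebraMap A Hn)) (a₂ : E →+* Hn) hhens (by
    rw [Ideal.map_map]
    have : (a₂ : E →+* Hn).comp (algebraMap A E) = algebraMap A Hn := by
      refine RingHom.ext fun a => ?_
      exact a₂.commutes a
    rw [this])
  have h1 : ((v.comp φ : H →ₐ[A] Hn) : H →+* Hn) = g := by
    apply hguniq
    refine RingHom.ext fun e => ?_
    exact congr($ha e)
  have h2 : ((Ideal.Quotient.mkₐ A _ : H →ₐ[A] Hn) : H →+* Hn) = g := by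
    apply hguniq
    refine RingHom.ext fun e => ?_
    rfl
  intro h hh
  have h3 : v (φ h) = Ideal.Quotient.mk _ h := congr($(h1.trans h2.symm) h)
  rw [RingHom.mem_ker] at hh
  rw [hh, map_zero] at h3
  exact Ideal.Quotient.eq_zero_iff_mem.mp h3.symm


include hH hB in
omit [HenselianRing A I] in
theorem fg_aux (hsurj : Function.Surjective φ)
    (hmodI : ∀ h : H, φ h ∈ I.map (algebraMap A B) → h ∈ I.map (algebraMap A H)) :
    (RingHom.ker φ).FG := by
  classical
  obtain ⟨m, f, hfsurj, s, hs⟩ := Algebra.FinitePresentation.out (R := A) (A := R₀)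
  choose η hη using fun i : Fin m => hsurj (algebraMap R₀ B (f (X i)))
  let ev : MvPolynomial (Fin m) A →ₐ[A] H := aeval η
  have hev : ∀ p, φ (ev p) = algebraMap R₀ B (f p) := by
    intro p
    have : φ.comp ev = (IsScalarTower.toAlgHom A R₀ B).comp f := by
      apply MvPolynomial.algHom_ext
      intro i
      show φ (aeval η (X i)) = algebraMap R₀ B (f (X i))
      rw [aeval_X, hη]
    exact congr($this p)
  let K₀ : Ideal H := Ideal.span (ev '' (s : Set (MvPolynomial (Fin m) A)))
  have hfs : ∀ g ∈ s, f g = 0 := by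
    intro g hg
    have : g ∈ RingHom.ker f.toRingHom := hs ▸ Ideal.subset_span hg
    exact this
  have hK₀ : K₀ ≤ RingHom.ker φ := by
    rw [Ideal.span_le]
    rintro _ ⟨g, hg, rfl⟩
    rw [SetLike.mem_coe, RingHom.mem_ker, hev, hfs g hg, map_zero]
  suffices hle : RingHom.ker φ ≤ K₀ by
    have : RingHom.ker φ = K₀ := le_antisymm hle hK₀
    rw [this]
    refine ⟨s.image ev, ?_⟩
    rw [Finset.coe_image]
  set H' := H ⧸ K₀ with hH'
  let mk' : H →+* H' := Ideal.Quotient.mk K₀
  have hmk'surj : Function.Surjective mk' := Ideal.Quotient.mk_surjective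
  have hψ₀ker : RingHom.ker f.toRingHom ≤ RingHom.ker (mk'.comp ev.toRingHom) := by
    rw [← hs, Ideal.span_le]
    intro g hg
    rw [SetLike.mem_coe, RingHom.mem_ker]
    show mk' (ev g) = 0
    exact Ideal.Quotient.eq_zero_iff_mem.mpr (Ideal.subset_span ⟨g, hg, rfl⟩)
  let ψ₀ : R₀ →+* H' := RingHom.liftOfSurjective f.toRingHom hfsurj ⟨mk'.comp ev.toRingHom, hψ₀ker⟩
  have hψ₀ : ∀ p, ψ₀ (f p) = mk' (ev p) := fun p =>
    RingHom.liftOfSurjective_comp_apply f.toRingHom hfsurj ⟨mk'.comp ev.toRingHom, hψ₀ker⟩ p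
  have hψ₀A : ∀ a : A, ψ₀ (algebraMap A R₀ a) = algebraMap A H' a := by
    intro a
    rw [← f.commutes a, hψ₀, ev.commutes]
    rfl
  haveI hHhens : HenselianRing H (I.map (algebraMap A H)) := map_map_eq A I E H hH ▸ hH.1
  have hJ'eq : (I.map (algebraMap A H)).map mk' = I.map (algebraMap A H') := by
    rw [Ideal.map_map]
    rfl
  have hhens : HenselianRing H' (I.map (algebraMap A H')) :=
    hJ'eq ▸ Groth.Agent.Helper3.HensGabber.henselian_map_of_surjective (I.map (algebraMap A H)) mk'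
      hmk'surj
  obtain ⟨ψ, hψ, -⟩ := hB.2 H' (I.map (algebraMap A H')) ψ₀ hhens (by
    rw [Ideal.map_map]
    have : ψ₀.comp (algebraMap A R₀) = algebraMap A H' := RingHom.ext hψ₀A
    rw [this])
  have hψ' : ∀ r, ψ (algebraMap R₀ B r) = ψ₀ r := fun r => congr($hψ r)
  let φb : H' →+* B := Ideal.Quotient.lift K₀ φ.toRingHom (fun x hx => hK₀ hx)
  have hφb : ∀ h, φb (mk' h) = φ h := fun h => rfl
  -- (i)
  have hi : ∀ b, φb (ψ b) = b := by
    obtain ⟨g, -, hguniq⟩ := hB.2 B ((I.map (algebraMap A R₀)).map (algebraMap R₀ B))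
      (algebraMap R₀ B) hB.1 le_rfl
    have h1 : φb.comp ψ = g := by
      apply hguniq
      refine RingHom.ext fun r => ?_
      obtain ⟨p, rfl⟩ := hfsurj r
      show φb (ψ (algebraMap R₀ B (f p))) = algebraMap R₀ B (f p)
      rw [hψ', hψ₀, hφb, hev]
    have h2 : RingHom.id B = g := by
      apply hguniq
      rfl
    intro b
    exact congr($(h1.trans h2.symm) b)
  -- (ii)
  let a₂ : E →ₐ[A] H' := (Ideal.Quotient.mkₐ A K₀).comp (IsScalarTower.toAlgHom A E H)
  let a₁ : E →ₐ[A] H' :=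
    { ψ.comp (φ.toRingHom.comp (algebraMap E H)) with
      commutes' := by
        intro a
        show ψ (φ (algebraMap E H (algebraMap A E a))) = algebraMap A H' a
        rw [← IsScalarTower.algebraMap_apply, φ.commutes, IsScalarTower.algebraMap_apply A R₀ B,
          hψ', hψ₀A] }
  have ha₁ : ∀ e, a₁ e = ψ (φ (algebraMap E H e)) := fun e => rfl
  have ha₂ : ∀ e, a₂ e = mk' (algebraMap E H e) := fun e => rfl
  have hK' : RingHom.ker φb ≤ Ideal.jacobson ⊥ := by
    refine le_trans ?_ hhens.jac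
    intro x hx
    obtain ⟨h, rfl⟩ := hmk'surj x
    rw [RingHom.mem_ker, hφb] at hx
    have h1 : h ∈ I.map (algebraMap A H) := hmodI h (by rw [hx]; exact Ideal.zero_mem _)
    rw [← hJ'eq]
    exact Ideal.mem_map_of_mem _ h1
  have ha : a₁ = a₂ := by
    apply algHom_eq_of_sub_mem (RingHom.ker φb) hK'
    intro e
    rw [RingHom.mem_ker, map_sub, ha₁, ha₂, hi, hφb, sub_self]
  obtain ⟨g, -, hguniq⟩ := hH.2 H' (I.map (algebraMap A H')) (a₂ : E →+* H') hhens (by
    rw [Ideal.map_map]
    have : (a₂ : E →+* H').comp (algebraMap A E) = algebraMap A H' := by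
      refine RingHom.ext fun a => ?_
      exact a₂.commutes a
    rw [this])
  have h1 : ψ.comp φ.toRingHom = g := by
    apply hguniq
    refine RingHom.ext fun e => ?_
    exact congr($ha e)
  have h2 : mk' = g := by
    apply hguniq
    rfl
  intro h hh
  have h3 : ψ (φ h) = mk' h := congr($(h1.trans h2.symm) h)
  rw [RingHom.mem_ker] at hh
  rw [hh, map_zero] at h3
  exact Ideal.Quotient.eq_zero_iff_mem.mp h3.symm

end Groth.Agent.Helper2.JacEt
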