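import Mathlib
import Groth.Prelude
import Groth.Agent.Helper2.EtLiftB
import Groth.Agent.Helper2.EtLiftC
set_option autoImplicit false

universe u

noncomputable section

namespace Groth.Agent.Helper2.JacEt

open MvPolynomial Groth.Agent.Helper2.PairHens

theorem s17598_aux (A : Type u) [CommRing A] (I : Ideal A)
    [HenselianRing A I] (R₀ : Type u) [CommRing R₀] [Algebra A R₀] [Algebra.FinitePresentation A R₀]
    (B : Type u) [CommRing B] [Algebra R₀ B] [Algebra A B] [IsScalarTower A R₀ B]
    (hB : Hens2.IsPairHenselization R₀ (I.map (algebraMap A R₀)) B)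
    (het : ∀ r : ℕ, 1 ≤ r → Algebra.Etale (A ⧸ I ^ r) (B ⧸ (I ^ r).map (algebraMap A B)))
    (E : Type u) [CommRing E] [Algebra A E] [Algebra.Etale A E]
    (νb : E →ₐ[A] B ⧸ (I ^ 1).map (algebraMap A B)) (hνsurj : Function.Surjective νb)
    (hνker : RingHom.ker νb = (I ^ 1).map (algebraMap A E)) :
    ∃ (H : Type u) (_ : CommRing H) (_ : Algebra E H)
      (_ : Algebra A H) (_ : IsScalarTower A E H),
      Hens2.IsPairHenselization E (I.map (algebraMap A E)) H ∧
      ∃ φ : H →ₐ[A] B, Function.Surjective φ ∧ (RingHom.ker φ).FG ∧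
        ∀ n : ℕ, RingHom.ker φ ≤ (I ^ n).map (algebraMap A H) := by
  have hIB : (I.map (algebraMap A R₀)).map (algebraMap R₀ B) = I.map (algebraMap A B) := by
    rw [Ideal.map_map, ← IsScalarTower.algebraMap_eq]
  haveI hBh : HenselianRing B (I.map (algebraMap A B)) := hIB ▸ hB.1
  haveI : HenselianRing B ((I ^ 1).map (algebraMap A B)) := by rw [pow_one]; exact hBh
  obtain ⟨ν, hν⟩ := exists_algHom_of_etale ((I ^ 1).map (algebraMap A B)) E νb
  let J : Ideal E := I.map (algebraMap A E)
  letI : Algebra A (Hens J) := ((algebraMap E (Hens J)).comp (algebraMap A E)).toAlgebra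
  haveI : IsScalarTower A E (Hens J) := IsScalarTower.of_algebraMap_eq (fun _ => rfl)
  have hH := Hens.isPairHenselization E J
  obtain ⟨φr, hφr, -⟩ := hH.2 B (I.map (algebraMap A B)) (ν : E →+* B) hBh (by
    rw [Ideal.map_map]
    have : (ν : E →+* B).comp (algebraMap A E) = algebraMap A B := by
      refine RingHom.ext fun a => ?_
      exact ν.commutes a
    rw [this])
  have hφr' : ∀ e, φr (algebraMap E (Hens J) e) = ν e := fun e => congr($hφr e)
  let φ : Hens J →ₐ[A] B :=
    { φr with
      commutes' := fun a => by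
        show φr (algebraMap E (Hens J) (algebraMap A E a)) = _
        rw [hφr']
        exact ν.commutes a }
  have hφ : ∀ e, φ (algebraMap E (Hens J) e) = ν e := hφr'
  have hsurj0 : ∀ b : B, ∃ e : E,
      b - φ (algebraMap E (Hens J) e) ∈ I.map (algebraMap A B) := by
    intro b
    obtain ⟨e, he⟩ := hνsurj (Ideal.Quotient.mk _ b)
    refine ⟨e, ?_⟩
    rw [hφ]
    have h1 := (hν e).trans he
    rw [eq_comm, Ideal.Quotient.eq, pow_one] at h1
    exact h1
  have hker0 : ∀ e : E, φ (algebraMap E (Hens J) e) ∈ I.map (algebraMap A B) →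
      e ∈ I.map (algebraMap A E) := by
    intro e he
    rw [hφ] at he
    have h1 : νb e = 0 := by
      rw [← hν e, Ideal.Quotient.eq_zero_iff_mem, pow_one]
      exact he
    have h2 : e ∈ RingHom.ker νb := h1
    rw [hνker, pow_one] at h2
    exact h2
  have hsurj := surj_aux A I E (Hens J) hH R₀ B hB φ hsurj0
  have hmodI := modI_aux A I E (Hens J) hH B φ hker0
  refine ⟨Hens J, inferInstance, inferInstance,
    inferInstance, inferInstance, hH, φ, hsurj, ?_, ?_⟩
  · exact fg_aux A I E (Hens J) hH R₀ B hB φ hsurj hmodI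
  · exact pow_aux A I E (Hens J) hH B φ het hsurj hmodI

theorem s17598 (A : Type u) [CommRing A] (I : Ideal A)
    [HenselianRing A I] (R₀ : Type u) [CommRing R₀] [Algebra A R₀] [Algebra.FinitePresentation A R₀]
    (B : Type u) [CommRing B] [Algebra R₀ B] [Algebra A B] [IsScalarTower A R₀ B]
    (hB : Hens2.IsPairHenselization R₀ (I.map (algebraMap A R₀)) B)
    (het : ∀ r : ℕ, 1 ≤ r → Algebra.Etale (A ⧸ I ^ r) (B ⧸ (I ^ r).map (algebraMap A B))) :
    ∃ (R : Type u) (_ : CommRing R) (_ : Algebra A R) (H : Type u) (_ : CommRing H) (_ : Algebra R H)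
      (_ : Algebra A H) (_ : IsScalarTower A R H),
      Algebra.Etale A R ∧ Hens2.IsPairHenselization R (I.map (algebraMap A R)) H ∧
      ∃ φ : H →ₐ[A] B, Function.Surjective φ ∧ (RingHom.ker φ).FG ∧
        ∀ n : ℕ, RingHom.ker φ ≤ (I ^ n).map (algebraMap A H) := by
  haveI := het 1 le_rfl
  obtain ⟨n, f, νb, hνsurj, hνker⟩ := exists_etale_lift (I ^ 1) (B ⧸ (I ^ 1).map (algebraMap A B))
  obtain ⟨H, _, _, _, _, hH, hφ⟩ := s17598_aux A I R₀ B hB het (JacAlg f) νb hνsurj hνker
  exact ⟨JacAlg f, inferInstance, inferInstance, H, inferInstance, inferInstance,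
    inferInstance, inferInstance, inferInstance, hH, hφ⟩

end Groth.Agent.Helper2.JacEt
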