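import Mathlib
import Groth.Prelude
import Groth.Agent.Helper2.EtLiftD
set_option autoImplicit false

universe u

noncomputable section

namespace Groth.Agent.Helper2.JacEt

open MvPolynomial Groth.Agent.Helper2.PairHens TensorProduct

/-- if `N/K` is flat then `K ∩ IN = IK` -/
theorem mem_smul_ker_of_flat {A : Type*} [CommRing A] (I : Ideal A) {N P : Type*} [AddCommGroup N]
    [Module A N] [AddCommGroup P] [Module A P] [Module.Flat A P]
    (f : N →ₗ[A] P) (hf : Function.Surjective f) (k : N) (hk : f k = 0)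
    (hkI : k ∈ I • (⊤ : Submodule A N)) : k ∈ I • LinearMap.ker f := by
  set K := LinearMap.ker f with hK
  have hinj := LinearMap.lTensor_injective_of_exact_of_flat f hf K.subtype K.injective_subtype
    (LinearMap.exact_subtype_ker_map f) (A ⧸ I)
  let kk : K := ⟨k, hk⟩
  have h1 : (K.subtype.lTensor (A ⧸ I)) ((1 : A ⧸ I) ⊗ₜ[A] kk) = (1 : A ⧸ I) ⊗ₜ[A] k := rfl
  have h2 : (1 : A ⧸ I) ⊗ₜ[A] k = 0 := by
    apply (quotTensorEquivQuotSMul N I).injective
    rw [quotTensorEquivQuotSMul_mk_one_tmul, map_zero, Submodule.Quotient.mk_eq_zero]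
    exact hkI
  have h3 : (1 : A ⧸ I) ⊗ₜ[A] kk = 0 := hinj (by rw [h1, h2, map_zero])
  have h4 : kk ∈ I • (⊤ : Submodule A K) := by
    have := congrArg (quotTensorEquivQuotSMul K I) h3
    rw [quotTensorEquivQuotSMul_mk_one_tmul, map_zero, Submodule.Quotient.mk_eq_zero] at this
    exact this
  have h5 : (I • (⊤ : Submodule A K)).map K.subtype = I • K := by
    rw [Submodule.map_smul'', Submodule.map_top, Submodule.range_subtype]
  have h6 : k ∈ (I • (⊤ : Submodule A K)).map K.subtype := ⟨kk, h4, rfl⟩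
  rwa [h5] at h6

theorem s17600 (A : Type u) [CommRing A] (I : Ideal A)
    [HenselianRing A I] (R₀ : Type u) [CommRing R₀] [Algebra A R₀] [Algebra.FinitePresentation A R₀]
    (B : Type u) [CommRing B] [Algebra R₀ B] [Algebra A B] [IsScalarTower A R₀ B]
    (hB : Hens2.IsPairHenselization R₀ (I.map (algebraMap A R₀)) B) [Module.Flat A B]
    (het : ∀ r : ℕ, 1 ≤ r → Algebra.Etale (A ⧸ I ^ r) (B ⧸ (I ^ r).map (algebraMap A B))) :
    ∃ (R : Type u) (_ : CommRing R) (_ : Algebra A R) (_ : Algebra R B) (_ : IsScalarTower A R B),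
      Algebra.Etale A R ∧ Hens2.IsPairHenselization R (I.map (algebraMap A R)) B := by
  obtain ⟨R, _, _, H, _, _, _, _, hRet, hH, φ, hsurj, hfg, hpow⟩ := s17598 A I R₀ B hB het
  have hIH : (I.map (algebraMap A R)).map (algebraMap R H) = I.map (algebraMap A H) := by
    rw [Ideal.map_map, ← IsScalarTower.algebraMap_eq]
  have hjac : I.map (algebraMap A H) ≤ Ideal.jacobson ⊥ := hIH ▸ hH.1.jac
  have hK1 : RingHom.ker φ ≤ I.map (algebraMap A H) := by
    have := hpow 1
    rwa [pow_one] at this
  have hKle : RingHom.ker φ ≤ I.map (algebraMap A H) * RingHom.ker φ := by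
    intro k hk
    have h1 : k ∈ I • (⊤ : Submodule A H) := by
      rw [Ideal.smul_top_eq_map]
      exact hK1 hk
    have h2 := mem_smul_ker_of_flat I φ.toLinearMap hsurj k hk h1
    refine Submodule.smul_induction_on h2 ?_ ?_
    · intro a ha x hx
      rw [Algebra.smul_def]
      have hx' : x ∈ RingHom.ker φ := hx
      exact Ideal.mul_mem_mul (Ideal.mem_map_of_mem (algebraMap A H) ha) hx'
    · intro x y hx hy
      exact Ideal.add_mem _ hx hy
  have hK0 : RingHom.ker φ = ⊥ :=
    Submodule.eq_bot_of_le_smul_of_le_jacobson_bot (I.map (algebraMap A H)) (RingHom.ker φ) hfg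
      (by rw [Ideal.smul_eq_mul]; exact hKle) hjac
  have hinj : Function.Injective φ := (RingHom.injective_iff_ker_eq_bot φ.toRingHom).mpr hK0
  letI : Algebra R B := (φ.toRingHom.comp (algebraMap R H)).toAlgebra
  haveI : IsScalarTower A R B := IsScalarTower.of_algebraMap_eq (fun a => by
    show algebraMap A B a = φ (algebraMap R H (algebraMap A R a))
    rw [← IsScalarTower.algebraMap_apply, φ.commutes])
  let e : H ≃ₐ[R] B :=
    { RingEquiv.ofBijective φ.toRingHom ⟨hinj, hsurj⟩ with
      commutes' := fun r => rfl }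
  exact ⟨R, inferInstance, inferInstance, inferInstance, inferInstance, hRet,
    isPairHenselization_of_algEquiv e hH⟩

end Groth.Agent.Helper2.JacEt
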