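import Mathlib
import Groth.Prelude
import Groth.Agent.Helper1.QuasiReg

namespace Groth.Agent.Helper2.T1CI

open MvPolynomial RingTheory.Sequence

universe u

section QR

variable {A : Type*} [CommRing A]

theorem mem_take_ofFn_iff {r : ℕ} (f : Fin r → A) (i : Fin r) (a : A) :
    a ∈ (List.ofFn f).take i ↔ ∃ j : Fin r, j < i ∧ f j = a := by
  rw [List.mem_take_iff_getElem]
  constructor
  · rintro ⟨k, hk, rfl⟩
    have hk2 : k < i.val := by
      simp at hk; omega
    have hk' : k < r := by omega
    exact ⟨⟨k, hk'⟩, Fin.lt_def.mpr hk2, by simp⟩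
  · rintro ⟨j, hj, rfl⟩
    refine ⟨j.val, ?_, by simp⟩
    simp
    exact Fin.lt_def.mp hj

theorem isQuasiRegular_of_isWeaklyRegular {r : ℕ} (f : Fin r → A)
    (hf : IsWeaklyRegular A (List.ofFn f)) : CAlgX.IsQuasiRegular f := by
  apply Groth.Agent.Helper1.QuasiReg.isQuasiRegular_of_regular
  intro i y hy
  have h1 := (isWeaklyRegular_iff_Fin _ _).mp hf ⟨i.val, by simp⟩
  rw [isSMulRegular_quotient_iff_mem_of_smul_mem] at h1
  have hI : ∀ z : A, z ∈ (Ideal.ofList ((List.ofFn f).take i) • ⊤ : Submodule A A) ↔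
      z ∈ Ideal.span (f '' {j | j < i}) := by
    intro z
    rw [smul_eq_mul, Ideal.mul_top]
    have : {x | x ∈ (List.ofFn f).take i} = f '' {j | j < i} := by
      ext x
      simp only [Set.mem_ofPred_eq, Set.mem_image]
      constructor
      · intro ha
        obtain ⟨j, hj, rfl⟩ := (mem_take_ofFn_iff f i x).mp ha
        exact ⟨j, hj, rfl⟩
      · rintro ⟨j, hj, rfl⟩
        exact (mem_take_ofFn_iff f i _).mpr ⟨j, hj, rfl⟩
    unfold Ideal.ofList
    rw [this]
  rw [← hI] at hy ⊢
  apply h1
  have h2 : (List.ofFn f)[(⟨i.val, by simp⟩ : Fin (List.ofFn f).length)] = f i := by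
    simp
  rw [h2, smul_eq_mul]
  exact hy

theorem mem_of_sum_eq_zero {n : ℕ} (f : Fin n → A) (hq : CAlgX.IsQuasiRegular f)
    (c : Fin n → A) (hc : ∑ i, c i * f i = 0) (i : Fin n) :
    c i ∈ Ideal.span (Set.range f) := by
  classical
  have hP : (∑ j, C (c j) * X j : MvPolynomial (Fin n) A).IsHomogeneous 1 := by
    refine MvPolynomial.IsHomogeneous.sum _ _ _ fun j _ => ?_
    have := (isHomogeneous_C (Fin n) (c j)).mul (isHomogeneous_X A j)
    rwa [zero_add] at this
  have hev : MvPolynomial.eval f (∑ j, C (c j) * X j : MvPolynomial (Fin n) A) = 0 := by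
    rw [map_sum, ← hc]
    refine Finset.sum_congr rfl fun j _ => ?_
    rw [map_mul, eval_C, eval_X]
  have h := hq 1 _ hP (by rw [hev]; exact Ideal.zero_mem _) (Finsupp.single i 1)
  have hcoeff : (∑ j, C (c j) * X j : MvPolynomial (Fin n) A).coeff (Finsupp.single i 1) = c i := by
    rw [coeff_sum, Finset.sum_eq_single i]
    · rw [coeff_C_mul, coeff_X, if_pos rfl, mul_one]
    · intro j _ hji
      rw [coeff_C_mul, coeff_X, if_neg, mul_zero]
      intro h
      exact hji ((Finsupp.single_left_inj one_ne_zero).mp h)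
    · intro h; exact absurd (Finset.mem_univ i) h
  rwa [hcoeff] at h

end QR

section DerFormula

variable {k : Type*} [CommRing k] {d : ℕ} {M : Type*} [AddCommGroup M]
  [Module k M] [Module (MvPolynomial (Fin d) k) M] [IsScalarTower k (MvPolynomial (Fin d) k) M]

theorem derivation_apply_eq_sum (D : Derivation k (MvPolynomial (Fin d) k) M)
    (p : MvPolynomial (Fin d) k) : D p = ∑ j, pderiv j p • D (X j) := by
  classical
  induction p using MvPolynomial.induction_on with
  | C a =>
    rw [derivation_C]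
    symm
    apply Finset.sum_eq_zero
    intro j _
    rw [pderiv_C, zero_smul]
  | add p q hp hq =>
    rw [map_add, hp, hq, ← Finset.sum_add_distrib]
    refine Finset.sum_congr rfl fun j _ => ?_
    rw [map_add, add_smul]
  | mul_X p i hp =>
    rw [Derivation.leibniz, hp]
    have : ∀ j, pderiv j (p * X i) • D (X j) =
        (X i : MvPolynomial (Fin d) k) • (pderiv j p • D (X j)) +
          (if j = i then p • D (X i) else 0) := by
      intro j
      rw [pderiv_mul, add_smul, smul_smul, mul_comm (X i)]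
      congr 1
      by_cases hji : j = i
      · subst hji
        rw [pderiv_X_self, mul_one, if_pos rfl]
      · rw [pderiv_X_of_ne (Ne.symm hji), mul_zero, zero_smul, if_neg hji]
    simp_rw [this]
    rw [Finset.sum_add_distrib, Finset.sum_ite_eq' Finset.univ i, if_pos (Finset.mem_univ i),
      ← Finset.smul_sum, add_comm]

end DerFormula

section Main

variable {k : Type u} [Field k] {d n : ℕ} (f : Fin n → MvPolynomial (Fin d) k)

/-- The generators of `J = (f₁, …, fₙ)` as elements of `J`. -/
def gen (i : Fin n) : ↥(Ideal.span (Set.range f)) :=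
  ⟨f i, Ideal.subset_span (Set.mem_range_self i)⟩

/-- Evaluation at the generators. -/
noncomputable def ev : (↥(Ideal.span (Set.range f)) →ₗ[MvPolynomial (Fin d) k]
      (MvPolynomial (Fin d) k ⧸ Ideal.span (Set.range f))) →ₗ[MvPolynomial (Fin d) k]
    (Fin n → MvPolynomial (Fin d) k ⧸ Ideal.span (Set.range f)) where
  toFun φ := fun i => φ (gen f i)
  map_add' _ _ := rfl
  map_smul' _ _ := rfl

/-- The presentation `Pⁿ → J`. -/
noncomputable def θ : (Fin n → MvPolynomial (Fin d) k) →ₗ[MvPolynomial (Fin d) k]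
    ↥(Ideal.span (Set.range f)) :=
  Fintype.linearCombination (MvPolynomial (Fin d) k) (gen f)

theorem θ_coe (c : Fin n → MvPolynomial (Fin d) k) : (θ f c : MvPolynomial (Fin d) k) =
    ∑ i, c i * f i := by
  rw [θ, Fintype.linearCombination_apply, Submodule.coe_sum]
  rfl

theorem θ_surjective : Function.Surjective (θ f) := by
  rintro ⟨a, ha⟩
  obtain ⟨c, hc⟩ := (Ideal.mem_span_range_iff_exists_fun (R := MvPolynomial (Fin d) k)).mp ha
  exact ⟨c, Subtype.ext (by rw [θ_coe, hc])⟩

theorem θ_single (i : Fin n) : θ f (Pi.single i 1) = gen f i := by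
  classical
  rw [θ, Fintype.linearCombination_apply_single, one_smul]

theorem map_θ (φ : ↥(Ideal.span (Set.range f)) →ₗ[MvPolynomial (Fin d) k]
      (MvPolynomial (Fin d) k ⧸ Ideal.span (Set.range f))) (c : Fin n → MvPolynomial (Fin d) k) :
    φ (θ f c) = ∑ i, c i • φ (gen f i) := by
  rw [θ, Fintype.linearCombination_apply, map_sum]
  refine Finset.sum_congr rfl fun i _ => ?_
  rw [map_smul]

theorem ev_injective : Function.Injective (ev f) := by
  intro φ φ' h
  ext a
  obtain ⟨c, rfl⟩ := θ_surjective f a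
  rw [map_θ, map_θ]
  refine Finset.sum_congr rfl fun i _ => ?_
  have : φ (gen f i) = φ' (gen f i) := congrFun h i
  rw [this]

theorem ev_surjective (hreg : IsWeaklyRegular (MvPolynomial (Fin d) k) (List.ofFn f)) :
    Function.Surjective (ev f) := by
  classical
  intro b
  have hq := isQuasiRegular_of_isWeaklyRegular f hreg
  let ρ : (Fin n → MvPolynomial (Fin d) k) →ₗ[MvPolynomial (Fin d) k]
      (MvPolynomial (Fin d) k ⧸ Ideal.span (Set.range f)) :=
    Fintype.linearCombination (MvPolynomial (Fin d) k) b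
  have hker : LinearMap.ker (θ f) ≤ LinearMap.ker ρ := by
    intro c hc
    rw [LinearMap.mem_ker] at hc ⊢
    have h0 : ∑ i, c i * f i = 0 := by rw [← θ_coe, hc]; rfl
    show Fintype.linearCombination (MvPolynomial (Fin d) k) b c = 0
    rw [Fintype.linearCombination_apply]
    apply Finset.sum_eq_zero
    intro i _
    have hi := mem_of_sum_eq_zero f hq c h0 i
    obtain ⟨b', hb'⟩ := Ideal.Quotient.mk_surjective (b i)
    rw [← hb']
    show Ideal.Quotient.mk _ (c i * b') = 0
    rw [map_mul, Ideal.Quotient.eq_zero_iff_mem.2 hi, zero_mul]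
  let φ : ↥(Ideal.span (Set.range f)) →ₗ[MvPolynomial (Fin d) k]
      (MvPolynomial (Fin d) k ⧸ Ideal.span (Set.range f)) :=
    ((LinearMap.ker (θ f)).liftQ ρ hker) ∘ₗ
      ((θ f).quotKerEquivOfSurjective (θ_surjective f)).symm.toLinearMap
  refine ⟨φ, ?_⟩
  ext i
  show φ (gen f i) = b i
  rw [← θ_single]
  show ((LinearMap.ker (θ f)).liftQ ρ hker)
    (((θ f).quotKerEquivOfSurjective (θ_surjective f)).symm (θ f (Pi.single i 1))) = b i
  rw [LinearMap.quotKerEquivOfSurjective_symm_apply, Submodule.liftQ_apply]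
  show Fintype.linearCombination (MvPolynomial (Fin d) k) b (Pi.single i 1) = b i
  rw [Fintype.linearCombination_apply_single, one_smul]

theorem smul_eq_mk_mul (p : MvPolynomial (Fin d) k)
    (b : MvPolynomial (Fin d) k ⧸ Ideal.span (Set.range f)) :
    p • b = Ideal.Quotient.mk _ p * b := by
  obtain ⟨b', rfl⟩ := Ideal.Quotient.mk_surjective b
  rw [← map_mul]
  rfl

/-- The Jacobian columns. -/
noncomputable def col (j : Fin d) : Fin n → MvPolynomial (Fin d) k ⧸ Ideal.span (Set.range f) :=
  fun i => Ideal.Quotient.mk (Ideal.span (Set.range f)) (pderiv j (f i))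

theorem ev_eq_sum (ψ : ↥(Ideal.span (Set.range f)) →ₗ[MvPolynomial (Fin d) k]
      (MvPolynomial (Fin d) k ⧸ Ideal.span (Set.range f)))
    (D : Derivation k (MvPolynomial (Fin d) k) (MvPolynomial (Fin d) k ⧸ Ideal.span (Set.range f)))
    (hD : ∀ a : ↥(Ideal.span (Set.range f)), ψ a = D (a : MvPolynomial (Fin d) k)) :
    ev f ψ = ∑ j, D (X j) • col f j := by
  ext i
  show ψ (gen f i) = _
  rw [hD, Finset.sum_apply]
  show D (f i) = _
  rw [derivation_apply_eq_sum]
  refine Finset.sum_congr rfl fun j _ => ?_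
  rw [smul_eq_mk_mul, Pi.smul_apply, smul_eq_mul, mul_comm]
  rfl

/-- The restriction of a derivation `P → B` to `J` is `P`-linear. -/
noncomputable def restrictDer
    (D : Derivation k (MvPolynomial (Fin d) k) (MvPolynomial (Fin d) k ⧸ Ideal.span (Set.range f))) :
    ↥(Ideal.span (Set.range f)) →ₗ[MvPolynomial (Fin d) k]
      (MvPolynomial (Fin d) k ⧸ Ideal.span (Set.range f)) where
  toFun a := D (a : MvPolynomial (Fin d) k)
  map_add' a b := by rw [Submodule.coe_add, map_add]
  map_smul' p a := by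
    rw [Submodule.coe_smul, smul_eq_mul, Derivation.leibniz, RingHom.id_apply,
      smul_eq_mk_mul f (a : MvPolynomial (Fin d) k), Ideal.Quotient.eq_zero_iff_mem.2 a.2, zero_mul,
      add_zero]

theorem map_ev_eq :
    Submodule.map (ev f) (Submodule.span (MvPolynomial (Fin d) k)
      {ψ : ↥(Ideal.span (Set.range f)) →ₗ[MvPolynomial (Fin d) k]
          (MvPolynomial (Fin d) k ⧸ Ideal.span (Set.range f)) |
        ∃ D : Derivation k (MvPolynomial (Fin d) k)
            (MvPolynomial (Fin d) k ⧸ Ideal.span (Set.range f)),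
          ∀ a : ↥(Ideal.span (Set.range f)), ψ a = D (a : MvPolynomial (Fin d) k)}) =
    (Submodule.span (MvPolynomial (Fin d) k ⧸ Ideal.span (Set.range f))
      (Set.range (col f))).restrictScalars (MvPolynomial (Fin d) k) := by
  apply le_antisymm
  · rw [Submodule.map_span_le]
    rintro ψ ⟨D, hD⟩
    rw [Submodule.restrictScalars_mem, ev_eq_sum f ψ D hD]
    exact Submodule.sum_mem _ fun j _ =>
      Submodule.smul_mem _ _ (Submodule.subset_span (Set.mem_range_self j))
  · intro x hx
    rw [Submodule.restrictScalars_mem] at hx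
    obtain ⟨c, rfl⟩ := (Submodule.mem_span_range_iff_exists_fun _).mp hx
    refine ⟨restrictDer f (mkDerivation k c), Submodule.subset_span ⟨mkDerivation k c, fun a => rfl⟩, ?_⟩
    rw [ev_eq_sum f _ (mkDerivation k c) (fun a => rfl)]
    refine Finset.sum_congr rfl fun j _ => ?_
    rw [mkDerivation_X]

theorem main (hreg : IsWeaklyRegular (MvPolynomial (Fin d) k) (List.ofFn f)) :
    ∃ e : ((↥(Ideal.span (Set.range f)) →ₗ[MvPolynomial (Fin d) k] (MvPolynomial (Fin d) k ⧸ Ideal.span (Set.range f))) ⧸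
            Submodule.span (MvPolynomial (Fin d) k)
              {ψ : ↥(Ideal.span (Set.range f)) →ₗ[MvPolynomial (Fin d) k] (MvPolynomial (Fin d) k ⧸ Ideal.span (Set.range f)) |
                ∃ D : Derivation k (MvPolynomial (Fin d) k) (MvPolynomial (Fin d) k ⧸ Ideal.span (Set.range f)), ∀ a : ↥(Ideal.span (Set.range f)), ψ a = D (a : MvPolynomial (Fin d) k)}) ≃ₗ[MvPolynomial (Fin d) k]
          ((Fin n → MvPolynomial (Fin d) k ⧸ Ideal.span (Set.range f)) ⧸
            Submodule.span (MvPolynomial (Fin d) k ⧸ Ideal.span (Set.range f))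
              (Set.range fun j : Fin d => fun i : Fin n => Ideal.Quotient.mk (Ideal.span (Set.range f)) (pderiv j (f i)))),
      ∀ φ : ↥(Ideal.span (Set.range f)) →ₗ[MvPolynomial (Fin d) k] (MvPolynomial (Fin d) k ⧸ Ideal.span (Set.range f)),
        e (Submodule.Quotient.mk φ) =
          Submodule.Quotient.mk (fun i : Fin n => φ ⟨f i, Ideal.subset_span (Set.mem_range_self i)⟩) := by
  let evE := LinearEquiv.ofBijective (ev f) ⟨ev_injective f, ev_surjective f hreg⟩
  refine ⟨(Submodule.Quotient.equiv _ _ evE (map_ev_eq f)).trans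
    (Submodule.Quotient.restrictScalarsEquiv (MvPolynomial (Fin d) k) _), fun φ => ?_⟩
  rfl

end Main

end Groth.Agent.Helper2.T1CI
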