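import Mathlib
import Groth.Prelude

set_option autoImplicit false

namespace Groth.Agent.Helper2.SpfBij

open CategoryTheory AlgebraicGeometry

universe u

variable (A B : Type u) [CommRing A] [CommRing B] (I : Ideal A) (K : Ideal B)

theorem quotPowMap_mk (φ : B →+* A) (h : K ≤ I.comap φ) (n : ℕ) (b : B) :
    FSch.quotPowMap I K φ h n (Ideal.Quotient.mk _ b) = Ideal.Quotient.mk _ (φ b) := by
  simp [FSch.quotPowMap]

theorem spfMap_injective [IsAdicComplete I A] :
    Function.Injective (fun φ : {φ : B →+* A // K ≤ I.comap φ} ↦ FSch.spfMap I K φ.1 φ.2) := by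
  rintro ⟨φ, hφ⟩ ⟨φ', hφ'⟩ heq
  apply Subtype.ext
  simp only at heq ⊢
  have hn : ∀ n, FSch.quotPowMap I K φ hφ n = FSch.quotPowMap I K φ' hφ' n := by
    intro n
    have h1 : (FSch.spfMap I K φ hφ : FSch.Hom _ _).app n =
        (FSch.spfMap I K φ' hφ' : FSch.Hom _ _).app n := by rw [heq]
    rw [FSch.spfMap_app, FSch.spfMap_app] at h1
    have h2 := Spec.map_injective h1
    exact congrArg CommRingCat.Hom.hom h2
  ext b
  have hmem : ∀ n, φ b - φ' b ∈ I ^ (n + 1) := fun n => by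
    have := congrArg (fun ψ => ψ (Ideal.Quotient.mk _ b)) (hn n)
    simp only [quotPowMap_mk] at this
    exact Ideal.Quotient.eq.mp this
  have h0 : φ b - φ' b = 0 := by
    refine IsHausdorff.haus (inferInstance : IsHausdorff I A) _ fun n => ?_
    rw [SModEq.zero, smul_eq_mul, Ideal.mul_top]
    exact Ideal.pow_le_pow_right (Nat.le_succ n) (hmem n)
  exact sub_eq_zero.mp h0

section Surj

variable {A B I K}
variable (ψ : ∀ n : ℕ, B ⧸ K ^ (n + 1) →+* A ⧸ I ^ (n + 1))
  (hψ : ∀ n, (ψ n).comp (Ideal.Quotient.factor (Ideal.pow_le_pow_right (Nat.le_succ (n + 1)))) =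
    (Ideal.Quotient.factor (Ideal.pow_le_pow_right (Nat.le_succ (n + 1)))).comp (ψ (n + 1)))

/-- `g n : B → A ⧸ I^(n+1)`. -/
def gmap (n : ℕ) : B →+* A ⧸ I ^ (n + 1) := (ψ n).comp (Ideal.Quotient.mk (K ^ (n + 1)))

include hψ in
theorem gmap_succ (n : ℕ) :
    (Ideal.Quotient.factor (Ideal.pow_le_pow_right (Nat.le_succ (n + 1)))).comp (gmap ψ (n + 1)) =
      gmap ψ n := by
  rw [gmap, ← RingHom.comp_assoc, ← hψ n, RingHom.comp_assoc]
  rfl

include hψ in
theorem gmap_le {m n : ℕ} (hmn : m ≤ n) :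
    (Ideal.Quotient.factor (Ideal.pow_le_pow_right (Nat.succ_le_succ hmn))).comp (gmap ψ n) =
      gmap ψ m := by
  induction n, hmn using Nat.le_induction with
  | base =>
    ext b
    simp
  | succ n hmn ih =>
    rw [← ih, ← gmap_succ ψ hψ n, ← RingHom.comp_assoc]
    congr 1
    ext a
    simp

/-- `f n : B → A ⧸ I^n`. -/
def fmap (n : ℕ) : B →+* A ⧸ I ^ n :=
  (Ideal.Quotient.factor (Ideal.pow_le_pow_right (Nat.le_succ n))).comp (gmap ψ n)

include hψ in
theorem fmap_compat {m n : ℕ} (hmn : m ≤ n) :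
    (Ideal.Quotient.factorPow I hmn).comp (fmap ψ n) = fmap ψ m := by
  rw [fmap, fmap, ← gmap_le ψ hψ hmn, ← RingHom.comp_assoc, ← RingHom.comp_assoc]
  congr 1
  ext a
  simp [Ideal.Quotient.factorPow]

include hψ in
theorem fmap_succ (n : ℕ) : fmap ψ (n + 1) = gmap ψ n := by
  rw [fmap]
  exact gmap_succ ψ hψ n

end Surj

theorem spfMap_surjective [IsAdicComplete I A] :
    Function.Surjective (fun φ : {φ : B →+* A // K ≤ I.comap φ} ↦ FSch.spfMap I K φ.1 φ.2) := by
  intro F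
  set ψ : ∀ n : ℕ, B ⧸ K ^ (n + 1) →+* A ⧸ I ^ (n + 1) := fun n =>
    (Spec.preimage ((F : FSch.Hom _ _).app n)).hom with hψdef
  have hF : ∀ n, Spec.map (CommRingCat.ofHom (ψ n)) = (F : FSch.Hom _ _).app n := fun n => by
    rw [hψdef]
    exact Spec.map_preimage _
  have hψ : ∀ n, (ψ n).comp (Ideal.Quotient.factor (Ideal.pow_le_pow_right (Nat.le_succ (n + 1)))) =
      (Ideal.Quotient.factor (Ideal.pow_le_pow_right (Nat.le_succ (n + 1)))).comp (ψ (n + 1)) := by
    intro n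
    have h1 := (F : FSch.Hom _ _).comm n
    rw [← hF n, ← hF (n + 1)] at h1
    change Spec.map _ ≫ Spec.map _ = Spec.map _ ≫ Spec.map _ at h1
    rw [← Spec.map_comp, ← Spec.map_comp] at h1
    have h2 := Spec.map_injective h1
    have h3 := congrArg CommRingCat.Hom.hom h2
    exact h3
  set φ : B →+* A := IsAdicComplete.liftRingHom I (fmap ψ) (fun hle => fmap_compat ψ hψ hle) with hφ
  have hmk : ∀ n b, Ideal.Quotient.mk (I ^ (n + 1)) (φ b) = ψ n (Ideal.Quotient.mk _ b) := by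
    intro n b
    rw [hφ, IsAdicComplete.mk_liftRingHom, fmap_succ ψ hψ]
    rfl
  have hK : K ≤ I.comap φ := by
    intro b hb
    rw [Ideal.mem_comap]
    have h1 := hmk 0 b
    have h2 : Ideal.Quotient.mk (K ^ (0 + 1)) b = 0 := by
      rw [Ideal.Quotient.eq_zero_iff_mem]
      simpa using hb
    rw [h2, _root_.map_zero, Ideal.Quotient.eq_zero_iff_mem] at h1
    simpa using h1
  refine ⟨⟨φ, hK⟩, ?_⟩
  apply FSch.Hom.ext
  funext n
  change (FSch.spfMap I K φ hK : FSch.Hom _ _).app n = _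
  rw [FSch.spfMap_app, ← hF n]
  congr 2
  apply Ideal.Quotient.ringHom_ext
  ext b
  simp only [RingHom.comp_apply]
  rw [quotPowMap_mk, hmk]

theorem s3860 [IsAdicComplete I A] :
    Function.Bijective (fun φ : {φ : B →+* A // K ≤ I.comap φ} ↦ FSch.spfMap I K φ.1 φ.2) :=
  ⟨spfMap_injective A B I K, spfMap_surjective A B I K⟩

end Groth.Agent.Helper2.SpfBij
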