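import Mathlib
import Groth.Prelude
import Groth.Agent.Helper2.SpfBij

set_option autoImplicit false

namespace Groth.Agent.Helper2.SpfAdic

open CategoryTheory CategoryTheory.Limits AlgebraicGeometry

universe u

section Pushout

variable {R R' S S' : Type u} [CommRing R] [CommRing R'] [CommRing S] [CommRing S']

/-- pushout of a surjection along a ring map: `S' = R' / (ker p) R'`. -/
theorem isPushout_of_surjective (f : R →+* R') (p : R →+* S) (p' : R' →+* S') (g : S →+* S')
    (hcomm : p'.comp f = g.comp p) (hp : Function.Surjective p) (hp' : Function.Surjective p')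
    (hker : RingHom.ker p' ≤ (RingHom.ker p).map f) :
    IsPushout (CommRingCat.ofHom f) (CommRingCat.ofHom p) (CommRingCat.ofHom p')
      (CommRingCat.ofHom g) := by
  have w : CommRingCat.ofHom f ≫ CommRingCat.ofHom p' = CommRingCat.ofHom p ≫ CommRingCat.ofHom g := by
    rw [← CommRingCat.ofHom_comp, ← CommRingCat.ofHom_comp, hcomm]
  have hk : ∀ s : PushoutCocone (CommRingCat.ofHom f) (CommRingCat.ofHom p),
      RingHom.ker p' ≤ RingHom.ker s.inl.hom := by
    intro s
    refine hker.trans ?_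
    rw [Ideal.map_le_iff_le_comap]
    intro r hr
    rw [Ideal.mem_comap, RingHom.mem_ker]
    have h1 := congrArg (fun m => m.hom r) s.condition
    simp only [CommRingCat.hom_comp, CommRingCat.hom_ofHom, RingHom.comp_apply] at h1
    rw [h1, (RingHom.mem_ker).mp hr, _root_.map_zero]
  refine ⟨⟨w⟩, ⟨PushoutCocone.IsColimit.mk w
    (fun s => CommRingCat.ofHom (p'.liftOfSurjective hp' ⟨s.inl.hom, hk s⟩)) ?_ ?_ ?_⟩⟩
  · intro s
    ext x
    simp only [CommRingCat.hom_comp, CommRingCat.hom_ofHom, RingHom.comp_apply]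
    exact RingHom.liftOfSurjective_comp_apply p' hp' ⟨s.inl.hom, hk s⟩ x
  · intro s
    ext y
    obtain ⟨r, rfl⟩ := hp y
    simp only [CommRingCat.hom_comp, CommRingCat.hom_ofHom, RingHom.comp_apply]
    have h0 : g (p r) = p' (f r) := (congrArg (fun m => m r) hcomm).symm
    rw [h0]
    rw [RingHom.liftOfSurjective_comp_apply p' hp' ⟨s.inl.hom, hk s⟩ (f r)]
    have h1 := congrArg (fun m => m.hom r) s.condition
    simp only [CommRingCat.hom_comp, CommRingCat.hom_ofHom, RingHom.comp_apply] at h1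
    exact h1
  · intro s m hm1 hm2
    ext y'
    obtain ⟨r', rfl⟩ := hp' y'
    simp only [CommRingCat.hom_ofHom]
    rw [RingHom.liftOfSurjective_comp_apply p' hp' ⟨s.inl.hom, hk s⟩ r']
    have h1 := congrArg (fun m => m.hom r') hm1
    simpa using h1

end Pushout

section Main

variable (A B : Type u) [CommRing A] [CommRing B] (I : Ideal A) (K : Ideal B) (φ : B →+* A)
  (h : K ≤ I.comap φ)

theorem quotPowMap_comp_mk (n : ℕ) :
    (FSch.quotPowMap I K φ h n).comp (Ideal.Quotient.mk (K ^ (n + 1))) =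
      (Ideal.Quotient.mk (I ^ (n + 1))).comp φ := by
  ext b
  simp only [RingHom.comp_apply]
  exact SpfBij.quotPowMap_mk A B I K φ h n b

theorem factor_comp_quotPowMap (n : ℕ) :
    (Ideal.Quotient.factor (Ideal.pow_le_pow_right (Nat.le_succ (n + 1)))).comp
        (FSch.quotPowMap I K φ h (n + 1)) =
      (FSch.quotPowMap I K φ h n).comp
        (Ideal.Quotient.factor (Ideal.pow_le_pow_right (Nat.le_succ (n + 1)))) := by
  apply Ideal.Quotient.ringHom_ext
  ext b
  simp only [RingHom.comp_apply, Ideal.Quotient.factor_mk]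
  rw [SpfBij.quotPowMap_mk, SpfBij.quotPowMap_mk, Ideal.Quotient.factor_mk]

theorem isAdicHom_of_map_eq (hK : K.map φ = I) : FSch.IsAdicHom (FSch.spfMap I K φ h) := by
  intro n
  have hpo := isPushout_of_surjective (FSch.quotPowMap I K φ h (n + 1))
    (Ideal.Quotient.factor (Ideal.pow_le_pow_right (Nat.le_succ (n + 1)) :
      K ^ (n + 2) ≤ K ^ (n + 1)))
    (Ideal.Quotient.factor (Ideal.pow_le_pow_right (Nat.le_succ (n + 1)) :
      I ^ (n + 2) ≤ I ^ (n + 1)))
    (FSch.quotPowMap I K φ h n) (factor_comp_quotPowMap A B I K φ h n)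
    (Ideal.Quotient.factor_surjective _) (Ideal.Quotient.factor_surjective _) (by
      rw [Ideal.Quotient.factor_ker, Ideal.Quotient.factor_ker, Ideal.map_map,
        quotPowMap_comp_mk, ← Ideal.map_map, Ideal.map_pow φ K (n + 1), hK])
  exact isPullback_SpecMap_of_isPushout _ _ _ _ hpo

theorem map_eq_of_isAdicHom [IsNoetherianRing A] [IsAdicComplete I A]
    (hF : FSch.IsAdicHom (FSch.spfMap I K φ h)) : K.map φ = I := by
  have hle : K.map φ ≤ I := Ideal.map_le_iff_le_comap.mpr h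
  refine le_antisymm hle ?_
  -- the quotient `Q = A / (I^2 + KA)`
  set 𝔮 : Ideal A := I ^ 2 ⊔ K.map φ with h𝔮
  have h1 : I ^ (1 + 1) ≤ 𝔮 := le_sup_left
  have h2 : K ^ (0 + 1) ≤ 𝔮.comap φ := by
    rw [zero_add, pow_one, ← Ideal.map_le_iff_le_comap]
    exact le_sup_right
  set q₁ : A ⧸ I ^ (1 + 1) →+* A ⧸ 𝔮 := Ideal.Quotient.factor h1 with hq₁
  set q₂ : B ⧸ K ^ (0 + 1) →+* A ⧸ 𝔮 := Ideal.quotientMap 𝔮 φ h2 with hq₂
  have hcomm : q₁.comp (FSch.quotPowMap I K φ h 1) =
      q₂.comp (Ideal.Quotient.factor (Ideal.pow_le_pow_right (Nat.le_succ (0 + 1)))) := by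
    apply Ideal.Quotient.ringHom_ext
    ext b
    simp only [RingHom.comp_apply, Ideal.Quotient.factor_mk]
    rw [SpfBij.quotPowMap_mk, hq₁, hq₂, Ideal.Quotient.factor_mk, Ideal.quotientMap_mk]
  have hpb := hF 0
  have hw : Spec.map (CommRingCat.ofHom q₁) ≫ ((FSch.spfMap I K φ h : FSch.Hom _ _).app (0 + 1)) =
      Spec.map (CommRingCat.ofHom q₂) ≫ (FSch.spf B K).ι 0 := by
    rw [FSch.spfMap_app]
    change Spec.map _ ≫ Spec.map _ = Spec.map _ ≫ Spec.map _
    rw [← Spec.map_comp, ← Spec.map_comp, ← CommRingCat.ofHom_comp, ← CommRingCat.ofHom_comp,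
      hcomm]
  set l := hpb.lift _ _ hw with hl
  have hl1 : l ≫ (FSch.spf A I).ι 0 = Spec.map (CommRingCat.ofHom q₁) := hpb.lift_fst _ _ hw
  set lam : A ⧸ I ^ (0 + 1) →+* A ⧸ 𝔮 := (Spec.preimage l).hom with hlam
  have hlam' : Spec.map (CommRingCat.ofHom lam) = l := Spec.map_preimage l
  have hfac : lam.comp (Ideal.Quotient.factor (Ideal.pow_le_pow_right (Nat.le_succ (0 + 1)))) =
      q₁ := by
    rw [← hlam'] at hl1
    change Spec.map _ ≫ Spec.map _ = Spec.map _ at hl1
    rw [← Spec.map_comp] at hl1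
    have := Spec.map_injective hl1
    exact congrArg CommRingCat.Hom.hom this
  -- conclude `I ≤ 𝔮`
  have hI𝔮 : I ≤ 𝔮 := by
    intro a ha
    have h3 := congrArg (fun m => m (Ideal.Quotient.mk _ a)) hfac
    simp only [RingHom.comp_apply, Ideal.Quotient.factor_mk] at h3
    have h4 : Ideal.Quotient.mk (I ^ (0 + 1)) a = 0 := by
      rw [Ideal.Quotient.eq_zero_iff_mem]
      simpa using ha
    rw [h4, _root_.map_zero, hq₁, Ideal.Quotient.factor_mk] at h3
    exact Ideal.Quotient.eq_zero_iff_mem.mp h3.symm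
  -- Nakayama
  have hjac : I ≤ Ideal.jacobson (⊥ : Ideal A) := IsAdicComplete.le_jacobson_bot I
  refine Submodule.le_of_le_smul_of_le_jacobson_bot (I := I) (N := K.map φ) (N' := I)
    (IsNoetherian.noetherian I) hjac ?_
  rw [smul_eq_mul, ← pow_two, sup_comm]
  exact hI𝔮

theorem s3867 [IsNoetherianRing A] [IsAdicComplete I A] :
    FSch.IsAdicHom (FSch.spfMap I K φ h) ↔ K.map φ = I :=
  ⟨map_eq_of_isAdicHom A B I K φ h, isAdicHom_of_map_eq A B I K φ h⟩

end Main

end Groth.Agent.Helper2.SpfAdic
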