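import Mathlib
import Groth.Prelude
import Groth.Agent.Helper2.ConsMod2
import Groth.Agent.Helper2.FlatStageLim
import Groth.Agent.Helper2.FlatStageGlob

set_option autoImplicit false
set_option linter.unusedVariables false
universe u
open CategoryTheory CategoryTheory.Limits AlgebraicGeometry TopologicalSpace Topology

noncomputable section

namespace Groth.Agent.Helper2.FlatNoeth

open Groth.Agent.Helper5.ConsLc Groth.Agent.Lead.LimPullback Groth.Agent.Lead.LimHom
open Groth.Agent.Lead Groth.Agent.Helper2.LimDesc Groth.Agent.Helper2.ConsMod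

/-- flatness over `B` and flatness of `A → B` give flatness over `A` (module structures through
ring homomorphisms). -/
theorem flat_compHom_trans {A B C M : Type u} [CommRing A] [CommRing B] [CommRing C]
    [AddCommGroup M] [Module C M] (φ : A →+* B) (ψ : B →+* C) (χ : A →+* C)
    (hχ : χ = ψ.comp φ) (hφ : φ.Flat)
    (h : letI := Module.compHom M ψ; Module.Flat B M) :
    letI := Module.compHom M χ; Module.Flat A M := by
  subst hχ
  letI : Algebra A B := φ.toAlgebra
  letI : Module B M := Module.compHom M ψ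
  letI : Module A M := Module.compHom M (ψ.comp φ)
  haveI : IsScalarTower A B M := IsScalarTower.of_algebraMap_smul (fun _ _ => rfl)
  haveI : Module.Flat A B := hφ
  haveI : Module.Flat B M := h
  exact Module.Flat.trans A B M

/-- flatness over `Y` at a point gives flatness over `Z` when `Y → Z` is flat at the image. -/
theorem isFlatOverAt_comp {X Y Z : Scheme.{u}} (f : X ⟶ Y) (g : Y ⟶ Z) (M : X.Modules) (x : X)
    (h : FlatMod.IsFlatOverAt f M x) (hg : (g.stalkMap (f x)).hom.Flat) :
    FlatMod.IsFlatOverAt (f ≫ g) M x := by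
  have hχ : ((f ≫ g).stalkMap x).hom = (f.stalkMap x).hom.comp (g.stalkMap (f x)).hom := by
    rw [Scheme.Hom.stalkMap_comp]
    rfl
  exact flat_compHom_trans (A := Z.presheaf.stalk (g (f x))) (B := Y.presheaf.stalk (f x))
    (C := X.presheaf.stalk x) (M := M.presheaf.stalk x)
    (g.stalkMap (f x)).hom (f.stalkMap x).hom ((f ≫ g).stalkMap x).hom hχ hg h

theorem isFlatOverAt_comp_of_isIso {X Y Z : Scheme.{u}} (f : X ⟶ Y) (g : Y ⟶ Z) [IsIso g]
    (M : X.Modules) (x : X) (h : FlatMod.IsFlatOverAt f M x) :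
    FlatMod.IsFlatOverAt (f ≫ g) M x :=
  isFlatOverAt_comp f g M x h (Flat.stalkMap g (f x))

section Model

variable {A : Type u} [CommRing A]

set_option backward.isDefEq.respectTransparency false in
/-- a finitely presented scheme over `Spec A` with a finitely presented module descends to a
finitely generated subring. -/
theorem exists_model {X : Scheme.{u}} (f : X ⟶ Spec (CommRingCat.of A))
    [LocallyOfFinitePresentation f] [QuasiCompact f] [QuasiSeparated f] (F : X.Modules)
    (hF : SheafOfModules.IsFinitePresentation (R := X.ringCatSheaf) F) :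
    ∃ (k : (SubalgSys.Idx A ⊥)ᵒᵖ) (X₀ : Scheme.{u}) (f₀ : X₀ ⟶ (SubalgSys.D A ⊥).obj k)
      (q : X ⟶ X₀) (F₀ : X₀.Modules),
      LocallyOfFinitePresentation f₀ ∧ QuasiCompact f₀ ∧ QuasiSeparated f₀ ∧
        IsPullback q f f₀ ((SubalgSys.cone A ⊥).π.app k) ∧ F₀.IsQuasicoherent ∧
        SheafOfModules.IsFinitePresentation (R := X₀.ringCatSheaf) F₀ ∧
        Nonempty ((Scheme.Modules.pullback q).obj F₀ ≅ F) := by
  haveI := hF
  haveI : F.IsQuasicoherent := inferInstance
  have hfg : (⊥ : Subalgebra ℤ A).FG := Subalgebra.fg_bot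
  haveI := SubalgSys.isCofiltered hfg
  have hc : IsLimit (SubalgSys.cone A ⊥) := SubalgSys.coneIsLimit hfg
  haveI : ∀ (i j : (SubalgSys.Idx A ⊥)ᵒᵖ) (f : i ⟶ j),
      IsAffineHom ((SubalgSys.D A ⊥).map f) := fun _ _ f => inferInstance
  haveI : ∀ i, CompactSpace ((SubalgSys.D A ⊥).obj i) := fun i => inferInstance
  haveI : ∀ i, QuasiSeparatedSpace ((SubalgSys.D A ⊥).obj i) := fun i => inferInstance
  let D := SubalgSys.D A ⊥
  let c := SubalgSys.cone A ⊥
  have hf' : (f : X ⟶ c.pt) = f := rfl
  obtain ⟨k, -, Xk, uk, q, h1, h2, h3, H⟩ :=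
    exists_stage_model D c hc (X := X) (show X ⟶ c.pt from f)
      (Opposite.op (SubalgSys.base _ ⊥ hfg))
  haveI := h1
  haveI := h2
  haveI := h3
  haveI : CompactSpace Xk := QuasiCompact.compactSpace_of_compactSpace uk
  haveI : QuasiSeparatedSpace Xk := quasiSeparatedSpace_of_quasiSeparated uk
  let e : X ≅ pullback (c.π.app k) uk := H.flip.isoPullback
  have he1 : e.hom ≫ pullback.fst (c.π.app k) uk = f := H.flip.isoPullback_hom_fst
  have he2 : e.hom ≫ pullback.snd (c.π.app k) uk = q := H.flip.isoPullback_hom_snd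
  let F' : (pullback (c.π.app k) uk).Modules := (Scheme.Modules.pullback e.inv).obj F
  have hF' : SheafOfModules.IsFinitePresentation
      (R := (pullback (c.π.app k) uk).ringCatSheaf) F' :=
    Groth.Agent.Lead.LimPres.isFP_pullback e.inv F hF
  obtain ⟨j, Fj, hq, hfp, ⟨α⟩⟩ := exists_descend_pb D c hc k uk F' hF'
  let πj := (pbCone D c k uk).π.app j
  have hπ1 : πj ≫ pullback.fst (D.map j.hom) uk =
      pullback.fst (c.π.app k) uk ≫ c.π.app j.left := by
    simp [πj, pbCone]
  have hπ2 : πj ≫ pullback.snd (D.map j.hom) uk = pullback.snd (c.π.app k) uk := by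
    simp [πj, pbCone]
  have hw : c.π.app j.left ≫ D.map j.hom = c.π.app k := c.w j.hom
  have hbig : IsPullback ((e.hom ≫ πj) ≫ pullback.snd (D.map j.hom) uk) f uk
      (c.π.app j.left ≫ D.map j.hom) := by
    rw [Category.assoc, hπ2, he2, hw]
    exact H
  have hsq : IsPullback (e.hom ≫ πj) f (pullback.fst (D.map j.hom) uk)
      (c.π.app j.left) := by
    refine IsPullback.of_right hbig ?_ (IsPullback.of_hasPullback (D.map j.hom) uk).flip
    rw [Category.assoc, hπ1, reassoc_of% he1]
  refine ⟨j.left, pullback (D.map j.hom) uk, pullback.fst (D.map j.hom) uk,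
    e.hom ≫ πj, Fj,
    MorphismProperty.pullback_fst _ _ (inferInstance : LocallyOfFinitePresentation uk),
    MorphismProperty.pullback_fst _ _ (inferInstance : QuasiCompact uk),
    MorphismProperty.pullback_fst _ _ (inferInstance : QuasiSeparated uk), hsq, hq, hfp, ⟨?_⟩⟩
  exact ((Scheme.Modules.pullbackComp e.hom πj).app Fj).symm ≪≫
    (Scheme.Modules.pullback e.hom).mapIso α ≪≫
    ((Scheme.Modules.pullbackComp e.hom e.inv).app F) ≪≫
    (Scheme.Modules.pullbackCongr e.hom_inv_id).app F ≪≫
    ((Scheme.Modules.pullbackId X).app F)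

end Model

end Groth.Agent.Helper2.FlatNoeth

end
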