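import Mathlib
import Groth.Prelude
import Groth.Agent.Helper2.FlatNoeth1

set_option autoImplicit false
set_option linter.unusedVariables false
universe u
open CategoryTheory CategoryTheory.Limits AlgebraicGeometry TopologicalSpace Topology

noncomputable section

namespace Groth.Agent.Helper2.FlatNoeth

open Groth.Agent.Helper5.ConsLc Groth.Agent.Lead.LimPullback Groth.Agent.Lead.LimHom
open Groth.Agent.Lead Groth.Agent.Helper2.LimDesc Groth.Agent.Helper2.ConsMod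

section Assemble

variable {I : Type u} [SmallCategory I] (D : I ⥤ Scheme.{u}) (c : Limits.Cone D)

/-- the stage data produced by the flat descent theorems, repackaged over the stage itself. -/
theorem assemble {i₀ i : I} (φ : i ⟶ i₀) {X X₀ Xi Yi : Scheme.{u}} (f : X ⟶ c.pt)
    (f₀ : X₀ ⟶ D.obj i₀) [LocallyOfFinitePresentation f₀] [QuasiCompact f₀]
    (qX : X ⟶ X₀) (hX : IsPullback qX f f₀ (c.π.app i₀))
    (fi : Xi ⟶ Yi) (gi : Yi ⟶ D.obj i) (pY : Yi ⟶ D.obj i₀) (pX : Xi ⟶ X₀)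
    (hYi : IsPullback pY gi (𝟙 (D.obj i₀)) (D.map φ)) (hXi : IsPullback pX fi f₀ pY) :
    ∃ (vX : X ⟶ Xi), vX ≫ pX = qX ∧ IsIso gi ∧ IsPullback vX f (fi ≫ gi) (c.π.app i) ∧
      LocallyOfFinitePresentation (fi ≫ gi) ∧ QuasiCompact (fi ≫ gi) ∧
      ∃ vY : c.pt ⟶ Yi, vY ≫ pY = c.π.app i₀ ∧ vY ≫ gi = c.π.app i ∧ vX ≫ fi = f ≫ vY := by
  obtain ⟨vY, hvY1, hvY2⟩ : ∃ vY : c.pt ⟶ Yi, vY ≫ pY = c.π.app i₀ ∧ vY ≫ gi = c.π.app i :=
    ⟨hYi.lift (c.π.app i₀) (c.π.app i) (by rw [Category.comp_id, c.w]),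
      hYi.lift_fst _ _ _, hYi.lift_snd _ _ _⟩
  obtain ⟨vX, hvX1, hvX2⟩ : ∃ vX : X ⟶ Xi, vX ≫ pX = qX ∧ vX ≫ fi = f ≫ vY :=
    ⟨hXi.lift qX (f ≫ vY) (by rw [Category.assoc, hvY1]; exact hX.w),
      hXi.lift_fst _ _ _, hXi.lift_snd _ _ _⟩
  haveI hgi : IsIso gi := hYi.isIso_snd_of_isIso
  have hpb : IsPullback vX f fi vY := by
    have hX' : IsPullback (vX ≫ pX) f f₀ (vY ≫ pY) := by rw [hvX1, hvY1]; exact hX
    exact IsPullback.of_right hX' hvX2 hXi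
  have hlow : IsPullback vY (𝟙 c.pt) gi (c.π.app i) :=
    IsPullback.of_vert_isIso ⟨by rw [Category.id_comp, hvY2]⟩
  have hfin := hpb.paste_vert hlow
  rw [Category.comp_id] at hfin
  haveI : LocallyOfFinitePresentation fi :=
    MorphismProperty.of_isPullback hXi (inferInstance : LocallyOfFinitePresentation f₀)
  haveI : QuasiCompact fi :=
    MorphismProperty.of_isPullback hXi (inferInstance : QuasiCompact f₀)
  exact ⟨vX, hvX1, hgi, hfin, inferInstance, inferInstance, vY, hvY1, hvY2, hvX2⟩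

end Assemble

set_option backward.isDefEq.respectTransparency false in
theorem s4867 {A : Type u} [CommRing A] {X : Scheme.{u}}
    (f : X ⟶ Spec (CommRingCat.of A)) [LocallyOfFinitePresentation f] [QuasiCompact f] [QuasiSeparated f]
    (F : X.Modules) [Coh.IsQCoh F] (hF : CohB1.IsFP F) (x : X) :
    (FlatMod.IsFlatOverAt f F x →
      ∃ (A₀ : Subalgebra ℤ A) (_ : A₀.FG) (X₀ : Scheme.{u}) (f₀ : X₀ ⟶ Spec (CommRingCat.of ↥A₀))
        (_ : LocallyOfFiniteType f₀) (_ : QuasiCompact f₀) (F₀ : X₀.Modules) (_ : Coh.IsCoh F₀) (q : X ⟶ X₀)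
        (_ : IsPullback q f f₀ (Spec.map (CommRingCat.ofHom A₀.val.toRingHom)))
        (_ : (Scheme.Modules.pullback q).obj F₀ ≅ F),
        FlatMod.IsFlatOverAt f₀ F₀ (q x)) ∧
    (FlatMod.IsFlatOver f F →
      ∃ (A₀ : Subalgebra ℤ A) (_ : A₀.FG) (X₀ : Scheme.{u}) (f₀ : X₀ ⟶ Spec (CommRingCat.of ↥A₀))
        (_ : LocallyOfFiniteType f₀) (_ : QuasiCompact f₀) (F₀ : X₀.Modules) (_ : Coh.IsCoh F₀) (q : X ⟶ X₀)
        (_ : IsPullback q f f₀ (Spec.map (CommRingCat.ofHom A₀.val.toRingHom)))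
        (_ : (Scheme.Modules.pullback q).obj F₀ ≅ F),
        FlatMod.IsFlatOver f₀ F₀) := by
  have hfg : (⊥ : Subalgebra ℤ A).FG := Subalgebra.fg_bot
  haveI := SubalgSys.isCofiltered hfg
  have hc : IsLimit (SubalgSys.cone A ⊥) := SubalgSys.coneIsLimit hfg
  haveI : ∀ (i j : (SubalgSys.Idx A ⊥)ᵒᵖ) (f : i ⟶ j),
      IsAffineHom ((SubalgSys.D A ⊥).map f) := fun _ _ f => inferInstance
  haveI : ∀ i, CompactSpace ((SubalgSys.D A ⊥).obj i) := fun i => inferInstance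
  let D := SubalgSys.D A ⊥
  let c := SubalgSys.cone A ⊥
  obtain ⟨k, X₀, f₀, q₀, F₀, h1, h2, h3, hX, hq, hfp, ⟨α⟩⟩ := exists_model f F hF
  haveI := h1
  haveI := h2
  haveI := hq
  have hY : IsPullback (c.π.app k) (𝟙 c.pt) (𝟙 (D.obj k)) (c.π.app k) :=
    haveI : IsIso (𝟙 c.pt) := inferInstance
    IsPullback.of_vert_isIso ⟨(Category.comp_id _).trans (Category.id_comp _).symm⟩
  haveI : QuasiCompact (f₀ ≫ 𝟙 (D.obj k)) := by rw [Category.comp_id]; infer_instance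
  -- common final step
  have fin : ∀ (i : (SubalgSys.Idx A ⊥)ᵒᵖ) (φ : i ⟶ k) (Xi Yi : Scheme.{u}) (fi : Xi ⟶ Yi)
      (gi : Yi ⟶ D.obj i) (pY : Yi ⟶ D.obj k) (pX : Xi ⟶ X₀)
      (hYi : IsPullback pY gi (𝟙 (D.obj k)) (D.map φ)) (hXi : IsPullback pX fi f₀ pY),
      ∃ (vX : X ⟶ Xi) (_ : IsIso gi) (_ : LocallyOfFiniteType (fi ≫ gi))
        (_ : QuasiCompact (fi ≫ gi)) (_ : Coh.IsCoh ((Scheme.Modules.pullback pX).obj F₀))
        (_ : IsPullback vX f (fi ≫ gi) (c.π.app i))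
        (_ : (Scheme.Modules.pullback vX).obj ((Scheme.Modules.pullback pX).obj F₀) ≅ F),
        vX ≫ pX = q₀ ∧ ∃ vY : c.pt ⟶ Yi, vY ≫ pY = c.π.app k ∧ vY ≫ gi = c.π.app i ∧
          vX ≫ fi = f ≫ vY := by
    intro i φ Xi Yi fi gi pY pX hYi hXi
    obtain ⟨vX, hvX1, hgi, hfin, hlfp, hqc, vY, hvY1, hvY2, hvX2⟩ :=
      assemble D c φ (show X ⟶ c.pt from f) f₀ q₀ hX fi gi pY pX hYi hXi
    haveI := hlfp
    refine ⟨vX, hgi, inferInstance, hqc,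
      ⟨Groth.Agent.Lead.StalkPull.isQuasicoherent_pullbackObj pX F₀,
        Groth.Agent.Helper4.FinLocFree2.isFiniteType_of_isFinitePresentation _
          (Groth.Agent.Lead.LimPres.isFP_pullback pX F₀ hfp)⟩, hfin, ?_, hvX1, vY, hvY1, hvY2, hvX2⟩
    exact (Scheme.Modules.pullbackComp vX pX).app F₀ ≪≫
      (Scheme.Modules.pullbackCongr hvX1).app F₀ ≪≫ α
  constructor
  · intro hflat
    have hflat' : FlatMod.IsFlatOverAt f ((Scheme.Modules.pullback q₀).obj F₀) x :=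
      Groth.Agent.Lead.FpqcSheaf.isFlatOverAt_of_iso f α.symm x hflat
    obtain ⟨i, φ, Xi, Yi, fi, gi, pY, pX, vY, vX, hYi, hXi, e1, e2, e3, e4, hfl⟩ :=
      Groth.Agent.Helper2.FlatStageLim.exists_stage_of_isFlatOverAt D c hc k f₀ (𝟙 (D.obj k)) F₀ hfp
        (show X ⟶ c.pt from f) (𝟙 c.pt) (c.π.app k) q₀ hY hX x hflat'
    obtain ⟨vX', hgi, hlft, hqc, hcoh, hpb, β, hvX1, vY', hvY1, hvY2, hvX2⟩ :=
      fin i φ Xi Yi fi gi pY pX hYi hXi
    have hvY : vY' = vY := by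
      apply hYi.hom_ext
      · rw [hvY1, e1]
      · rw [hvY2, e2, Category.id_comp]
    have hvv : vX' = vX := by
      apply hXi.hom_ext
      · rw [hvX1, e3]
      · rw [hvX2, e4, hvY]
    subst hvv
    exact ⟨i.unop.1, i.unop.2.1, Xi, fi ≫ gi, hlft, hqc, (Scheme.Modules.pullback pX).obj F₀, hcoh,
      vX', hpb, β, isFlatOverAt_comp_of_isIso fi gi _ _ hfl⟩
  · intro hflat
    have hflat' : FlatMod.IsFlatOver f ((Scheme.Modules.pullback q₀).obj F₀) := fun z =>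
      Groth.Agent.Lead.FpqcSheaf.isFlatOverAt_of_iso f α.symm z (hflat z)
    obtain ⟨i, φ, Xi, Yi, fi, gi, pY, pX, hYi, hXi, hfl⟩ :=
      Groth.Agent.Helper2.FlatStageGlob.exists_stage_of_isFlatOver D c hc k f₀ (𝟙 (D.obj k)) F₀ hfp
        (show X ⟶ c.pt from f) (𝟙 c.pt) (c.π.app k) q₀ hY hX hflat'
    obtain ⟨vX', hgi, hlft, hqc, hcoh, hpb, β, hvX1, vY', hvY1, hvY2, hvX2⟩ :=
      fin i φ Xi Yi fi gi pY pX hYi hXi
    exact ⟨i.unop.1, i.unop.2.1, Xi, fi ≫ gi, hlft, hqc, (Scheme.Modules.pullback pX).obj F₀, hcoh,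
      vX', hpb, β, fun z => isFlatOverAt_comp_of_isIso fi gi _ _ (hfl z)⟩

end Groth.Agent.Helper2.FlatNoeth

end
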