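import Mathlib

namespace Groth.Agent.Helper2

universe u

open IsLocalRing TensorProduct Module

/-- Nilpotent Nakayama: if `N ⊔ I • ⊤ = ⊤` and `I` is nilpotent then `N = ⊤`. -/
theorem eq_top_of_sup_smul_top_of_isNilpotent {R M : Type*} [CommRing R] [AddCommGroup M]
    [Module R M] (I : Ideal R) (hI : IsNilpotent I) (N : Submodule R M)
    (h : (⊤ : Submodule R M) ≤ N ⊔ I • (⊤ : Submodule R M)) : N = ⊤ := by
  obtain ⟨k, hk⟩ := hI
  have key : ∀ j : ℕ, (⊤ : Submodule R M) ≤ N ⊔ (I ^ j) • (⊤ : Submodule R M) := by
    intro j
    induction j with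
    | zero => simp
    | succ j ih =>
      calc (⊤ : Submodule R M) ≤ N ⊔ I • (⊤ : Submodule R M) := h
        _ ≤ N ⊔ I • (N ⊔ (I ^ j) • (⊤ : Submodule R M)) := by
            gcongr
        _ ≤ N ⊔ (I ^ (j + 1)) • (⊤ : Submodule R M) := by
            rw [Submodule.smul_sup, ← Submodule.mul_smul, ← pow_succ']
            refine sup_le le_sup_left (sup_le ?_ le_sup_right)
            exact le_trans Submodule.smul_le_right le_sup_left
  have := key k
  rw [hk, Ideal.zero_eq_bot, Submodule.bot_smul, sup_bot_eq] at this
  exact top_le_iff.mp this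

/-- A flat module over a local ring with nilpotent maximal ideal is free. -/
theorem free_of_flat_of_isNilpotent_maximalIdeal {R M : Type u} [CommRing R] [IsLocalRing R]
    [AddCommGroup M] [Module R M] [Module.Flat R M] (hnil : IsNilpotent (maximalIdeal R)) :
    Module.Free R M := by
  let w := Free.chooseBasis (ResidueField R) (ResidueField R ⊗[R] M)
  obtain ⟨v, eq⟩ := (TensorProduct.mk_surjective R M (ResidueField R)
    Ideal.Quotient.mk_surjective).comp_left w
  have eq' : (TensorProduct.mk R (ResidueField R) M 1) ∘ v = w := eq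
  refine .of_basis <| .mk (IsLocalRing.linearIndependent_of_flat v (eq' ▸ w.linearIndependent)) ?_
  apply ge_of_eq
  apply eq_top_of_sup_smul_top_of_isNilpotent _ hnil
  intro m _
  have hm : (1 : ResidueField R) ⊗ₜ[R] m ∈ Submodule.span (ResidueField R) (Set.range w) := by
    rw [w.span_eq]; trivial
  have hspan : Submodule.span (ResidueField R) (Set.range w) =
      Submodule.span (ResidueField R)
        ((TensorProduct.mk R (ResidueField R) M 1) '' (Set.range v)) := by
    rw [← Set.range_comp, eq']
  rw [hspan, ← Submodule.restrictScalars_mem R,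
    Submodule.restrictScalars_span R (ResidueField R) Ideal.Quotient.mk_surjective,
    ← Submodule.map_span] at hm
  obtain ⟨n, hn, hnm⟩ := hm
  have hker : m - n ∈ LinearMap.ker (TensorProduct.mk R (ResidueField R) M 1) := by
    rw [LinearMap.mem_ker, map_sub, hnm]
    exact sub_self _
  have hker' : m - n ∈ (maximalIdeal R) • (⊤ : Submodule R M) := by
    rw [← LinearMap.ker_tensorProductMk]
    exact hker
  have : m = n + (m - n) := by abel
  rw [this]
  exact Submodule.add_mem_sup hn hker'

end Groth.Agent.Helper2
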