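import Mathlib
import Groth.Agent.Helper2.NilFree

set_option autoImplicit false

namespace Groth.Agent.Helper2.DefBasis
open TensorProduct

theorem aux {R : Type*} [CommRing R] (I : Ideal R) {F M : Type*} [AddCommGroup F] [Module R F]
    [AddCommGroup M] [Module R M] (φ : F →ₗ[R] M) (hs : Function.Surjective φ)
    (t' : I ⊗[R] F) (ht0 : LinearMap.lTensor I φ t' = 0) :
    TensorProduct.lift ((LinearMap.lsmul R F).comp (Submodule.subtype I)) t' ∈
      (I • LinearMap.ker φ : Submodule R F) := by
  have hex0 : Function.Exact (LinearMap.ker φ).subtype φ := LinearMap.exact_subtype_ker_map φ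
  have hex := lTensor_exact I hex0 hs
  obtain ⟨s, rfl⟩ := (hex t').mp ht0
  clear ht0
  induction s using TensorProduct.induction_on with
  | zero => simp
  | tmul i k =>
    rw [LinearMap.lTensor_tmul, TensorProduct.lift.tmul]
    exact Submodule.smul_mem_smul i.2 k.2
  | add y z hy hz =>
    rw [map_add, map_add]
    exact Submodule.add_mem _ hy hz

/-- A spanning family in a flat module, all of whose relations have coefficients in a
nilpotent ideal, is linearly independent. -/
theorem linearIndependent_of_rel_mem {R : Type*} [CommRing R] (I : Ideal R) (hI : IsNilpotent I)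
    {M : Type*} [AddCommGroup M] [Module R M] [Module.Flat R M] {A : Type*} (x : A → M)
    (hspan : Submodule.span R (Set.range x) = ⊤)
    (hrel : ∀ l : A →₀ R, Finsupp.linearCombination R x l = 0 → ∀ a, l a ∈ I) :
    LinearIndependent R x := by
  classical
  obtain ⟨n, hn⟩ := hI
  have htor : Function.Injective ((Submodule.subtype I).rTensor M) :=
    Module.Flat.rTensor_preserves_injective_linearMap _ Subtype.val_injective
  rw [linearIndependent_iff]
  set φ := Finsupp.linearCombination R x with hφ
  set K := LinearMap.ker φ with hK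
  have hsurj : Function.Surjective φ := by
    rw [← LinearMap.range_eq_top, hφ, Finsupp.range_linearCombination]
    exact hspan
  let μ : I ⊗[R] (A →₀ R) →ₗ[R] (A →₀ R) :=
    TensorProduct.lift ((LinearMap.lsmul R (A →₀ R)).comp (Submodule.subtype I))
  have hμ : ∀ (i : I) (f : A →₀ R), μ (i ⊗ₜ f) = (i : R) • f := fun i f => by
    simp [μ]
  have hclaim : K ≤ I • K := by
    intro l hl
    have hl0 : φ l = 0 := hl
    have ha : ∀ a, l a ∈ I := hrel l hl0
    set t' : I ⊗[R] (A →₀ R) :=
      ∑ a ∈ l.support, (⟨l a, ha a⟩ : I) ⊗ₜ[R] Finsupp.single a (1 : R) with ht'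
    have hμt' : μ t' = l := by
      rw [ht', map_sum]
      conv_rhs => rw [← Finsupp.sum_single l]
      rw [Finsupp.sum]
      refine Finset.sum_congr rfl (fun a _ => ?_)
      rw [hμ, Finsupp.smul_single, smul_eq_mul, mul_one]
    have ht0 : LinearMap.lTensor I φ t' = 0 := by
      apply htor
      rw [map_zero, ht', map_sum, map_sum]
      have : ∀ a ∈ l.support, (Submodule.subtype I).rTensor M
          (LinearMap.lTensor I φ ((⟨l a, ha a⟩ : I) ⊗ₜ[R] Finsupp.single a (1 : R))) =
          (1 : R) ⊗ₜ[R] (l a • x a) := by
        intro a _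
        rw [LinearMap.lTensor_tmul, LinearMap.rTensor_tmul, hφ,
          Finsupp.linearCombination_single, one_smul, TensorProduct.tmul_smul,
          TensorProduct.smul_tmul']
        simp
      rw [Finset.sum_congr rfl this, ← TensorProduct.tmul_sum]
      have : ∑ a ∈ l.support, l a • x a = φ l := by
        rw [hφ, Finsupp.linearCombination_apply, Finsupp.sum]
      rw [this, hl0, TensorProduct.tmul_zero]
    rw [← hμt']
    exact aux I φ hsurj t' ht0
  have hpow : ∀ k : ℕ, K ≤ I ^ k • K := by
    intro k
    induction k with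
    | zero => simp
    | succ k ih =>
      calc K ≤ I • K := hclaim
        _ ≤ I • (I ^ k • K) := Submodule.smul_mono le_rfl ih
        _ = I ^ (k + 1) • K := by rw [pow_succ', mul_smul]
  intro l hl
  have hlK : l ∈ K := hl
  have := hpow n hlK
  rw [hn, Ideal.zero_eq_bot, Submodule.bot_smul] at this
  exact (Submodule.mem_bot R).mp this

section lift
variable {B : Type*} [CommRing B] {Bb : Type*} [CommRing Bb] [Algebra B Bb]
variable {H : Type*} [AddCommGroup H] [Module B H] {M : Type*}

lemma coeff_theta (θ : H →ₗ[B] MonoidAlgebra Bb M) (g : M → H)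
    (hg : ∀ m, θ (g m) = MonoidAlgebra.single m 1) (l : M →₀ B) (p : M) :
    (θ (Finsupp.linearCombination B g l)).coeff p = algebraMap B Bb (l p) := by
  classical
  rw [Finsupp.linearCombination_apply, map_finsuppSum]
  simp only [map_smul, hg]
  rw [Finsupp.sum, MonoidAlgebra.coeff_sum]
  simp only [MonoidAlgebra.coeff_smul, MonoidAlgebra.coeff_single, Finsupp.coe_finset_sum,
    Finset.sum_apply, Finsupp.smul_apply, Finsupp.single_apply]
  rw [Finset.sum_eq_single p]
  · simp [Algebra.smul_def]
  · intro m _ hm
    simp [hm]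
  · intro hp
    have : l p = 0 := by simpa using hp
    simp [this]

theorem basis_of_lift [Module.Flat B H] (hsurj : Function.Surjective (algebraMap B Bb))
    (hnil : IsNilpotent (RingHom.ker (algebraMap B Bb)))
    (θ : H →ₗ[B] MonoidAlgebra Bb M)
    (hker : ∀ h, θ h = 0 → h ∈ (RingHom.ker (algebraMap B Bb)) • (⊤ : Submodule B H))
    (g : M → H) (hg : ∀ m, θ (g m) = MonoidAlgebra.single m 1) :
    LinearIndependent B g ∧ Submodule.span B (Set.range g) = ⊤ := by
  classical
  have hspan : Submodule.span B (Set.range g) = ⊤ := by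
    apply eq_top_of_sup_smul_top_of_isNilpotent _ hnil
    intro h _
    obtain ⟨l, hl⟩ : ∃ l : M →₀ B, l.mapRange (algebraMap B Bb) (map_zero _) = (θ h).coeff :=
      Finsupp.mapRange_surjective _ (map_zero _) hsurj _
    have h0 : θ (h - Finsupp.linearCombination B g l) = 0 := by
      apply MonoidAlgebra.coeff_injective
      ext p
      rw [map_sub, MonoidAlgebra.coeff_sub, Finsupp.sub_apply, coeff_theta θ g hg, ← hl]
      simp
    have h2 := hker _ h0
    have hm' : h = Finsupp.linearCombination B g l + (h - Finsupp.linearCombination B g l) := by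
      abel
    rw [hm']
    refine Submodule.add_mem_sup ?_ h2
    rw [Finsupp.mem_span_range_iff_exists_finsupp]
    exact ⟨l, (Finsupp.linearCombination_apply B l).symm⟩
  refine ⟨?_, hspan⟩
  apply linearIndependent_of_rel_mem _ hnil g hspan
  intro l hl a
  have := coeff_theta θ g hg l a
  rw [hl, map_zero] at this
  rw [RingHom.mem_ker]
  simpa using this.symm

end lift

end Groth.Agent.Helper2.DefBasis
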