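import Mathlib

set_option autoImplicit false

namespace Groth.Agent.Helper2.DefIter
open TensorProduct

section basic
variable {B : Type*} [CommRing B] {H : Type*} [AddCommGroup H] [Module B H]
variable {M : Type*} (b : Module.Basis M B H)

/-- pairing of two functionals with a tensor -/
noncomputable def pair (f f' : H →ₗ[B] B) : H ⊗[B] H →ₗ[B] B :=
  LinearMap.mul' B B ∘ₗ TensorProduct.map f f'

@[simp] lemma pair_tmul (f f' : H →ₗ[B] B) (h h' : H) : pair f f' (h ⊗ₜ h') = f h * f' h' := rfl

/-- a functional applied to an element whose coordinates lie in `K`, the functional having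
values in `J` on the basis -/
lemma map_mem_mul {N : Type*} [AddCommGroup N] [Module B N] {ι : Type*} (β : Module.Basis ι B N)
    (K J : Ideal B) (φ : N →ₗ[B] B) (hφ : ∀ i, φ (β i) ∈ J) (t : N) (ht : ∀ i, β.repr t i ∈ K) :
    φ t ∈ K * J := by
  have h : t = Finsupp.linearCombination B β (β.repr t) := (β.linearCombination_repr t).symm
  rw [h, Finsupp.linearCombination_apply, map_finsuppSum]
  refine Ideal.sum_mem _ (fun i _ => ?_)
  show φ (β.repr t i • β i) ∈ K * J
  rw [map_smul, smul_eq_mul]
  exact Ideal.mul_mem_mul (ht i) (hφ i)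

lemma repr_tensor (t : H ⊗[B] H) (x y : M) :
    (b.tensorProduct b).repr t (x, y) = pair (b.coord x) (b.coord y) t := by
  induction t using TensorProduct.induction_on with
  | zero => simp
  | add u v hu hv => simp only [map_add, Finsupp.add_apply, hu, hv]
  | tmul h h' => simp [Module.Basis.tensorProduct_repr_tmul_apply, mul_comm]

lemma pair_mem_mul (K J : Ideal B) (f f' : H →ₗ[B] B) (hf : ∀ h, f h ∈ J) (t : H ⊗[B] H)
    (ht : ∀ x y, pair (b.coord x) (b.coord y) t ∈ K) : pair f f' t ∈ K * J := by
  apply map_mem_mul (b.tensorProduct b) K J (pair f f')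
  · rintro ⟨x, y⟩
    rw [Module.Basis.tensorProduct_apply, pair_tmul]
    exact Ideal.mul_mem_right _ _ (hf _)
  · rintro ⟨x, y⟩
    rw [repr_tensor]
    exact ht x y

lemma pair_mem_mul' (K J : Ideal B) (f f' : H →ₗ[B] B) (hf : ∀ h, f' h ∈ J) (t : H ⊗[B] H)
    (ht : ∀ x y, pair (b.coord x) (b.coord y) t ∈ K) : pair f f' t ∈ K * J := by
  apply map_mem_mul (b.tensorProduct b) K J (pair f f')
  · rintro ⟨x, y⟩
    rw [Module.Basis.tensorProduct_apply, pair_tmul]
    exact Ideal.mul_mem_left _ _ (hf _)
  · rintro ⟨x, y⟩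
    rw [repr_tensor]
    exact ht x y

lemma eq_zero_of_pair (t : H ⊗[B] H) (ht : ∀ x y, pair (b.coord x) (b.coord y) t = 0) : t = 0 := by
  apply (b.tensorProduct b).repr.injective
  ext ⟨x, y⟩
  rw [repr_tensor, ht]
  simp

end basic

section iter
variable {B : Type*} [CommRing B] {H : Type*} [AddCommGroup H] [Module B H] [Coalgebra B H]
variable {M : Type*} (b : Module.Basis M B H) (J : Ideal B)

/-- convolution of two functionals -/
noncomputable def cv (f f' : H →ₗ[B] B) : H →ₗ[B] B := pair f f' ∘ₗ Coalgebra.comul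

omit b in
lemma cv_apply (f f' : H →ₗ[B] B) (a : H) : cv f f' a = pair f f' (Coalgebra.comul a) := rfl

omit b in
lemma cv_assoc (f g h : H →ₗ[B] B) (a : H) :
    pair (cv f g) h (Coalgebra.comul a) = pair f (cv g h) (Coalgebra.comul a) := by
  have := congrArg (fun F => F.ofConv a)
    (mul_assoc (WithConv.toConv f) (WithConv.toConv g) (WithConv.toConv h))
  exact this

omit [Coalgebra B H] b in
lemma pair_add_left (f g h : H →ₗ[B] B) (t : H ⊗[B] H) :
    pair (f + g) h t = pair f h t + pair g h t := by
  simp [pair, TensorProduct.map_add_left]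

omit [Coalgebra B H] b in
lemma pair_add_right (f g h : H →ₗ[B] B) (t : H ⊗[B] H) :
    pair f (g + h) t = pair f g t + pair f h t := by
  simp [pair, TensorProduct.map_add_right]

omit [Coalgebra B H] b in
lemma pair_smul_left (r : B) (f h : H →ₗ[B] B) (t : H ⊗[B] H) :
    pair (r • f) h t = r * pair f h t := by
  simp [pair, TensorProduct.map_smul_left]

omit [Coalgebra B H] b in
lemma pair_smul_right (r : B) (f h : H →ₗ[B] B) (t : H ⊗[B] H) :
    pair f (r • h) t = r * pair f h t := by
  simp [pair, TensorProduct.map_smul_right]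

open Classical in
/-- Kronecker delta -/
noncomputable def kd (x y : M) : B := if x = y then 1 else 0

/-- the coordinate functionals are orthogonal idempotents modulo `J` -/
def Orth : Prop :=
  ∀ x y h, cv (b.coord x) (b.coord y) h - kd x y * b.coord x h ∈ J

/-- the defect of group-likeness -/
noncomputable def Dd (x y : M) (a : H) : B :=
  cv (b.coord x) (b.coord y) a - b.coord x a * b.coord y a

lemma Dd_eq (x y : M) (a : H) :
    Dd b x y a = pair (b.coord x) (b.coord y) (Coalgebra.comul a - a ⊗ₜ a) := by
  rw [map_sub, pair_tmul]; rfl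

/-- the error functional -/
noncomputable def jj (x y : M) : H →ₗ[B] B :=
  cv (b.coord x) (b.coord y) - (kd x y : B) • b.coord x

lemma cv_eq (x y : M) : cv (b.coord x) (b.coord y) = (kd x y : B) • b.coord x + jj b x y := by
  simp [jj]

lemma jj_mem (hO : Orth b J) (x y : M) (h : H) : jj b x y h ∈ J := by
  have := hO x y h
  simpa [jj] using this

lemma jj_apply (x y : M) (a : H) :
    jj b x y a = Dd b x y a + b.coord x a * b.coord y a - kd x y * b.coord x a := by
  simp [jj, Dd]

/-- the state of the iteration -/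
def St (m : M) (K : Ideal B) (a : H) : Prop :=
  (∀ x, b.coord x a - kd x m ∈ J) ∧ (∀ x y, Dd b x y a ∈ K)

lemma E1 {m : M} {K : Ideal B} {a : H} (hS : St b J m K a) (f f' : H →ₗ[B] B)
    (hf : ∀ h, f h ∈ J) : pair f f' (Coalgebra.comul a) - f a * f' a ∈ K * J := by
  have h1 : pair f f' (Coalgebra.comul a) - f a * f' a = pair f f' (Coalgebra.comul a - a ⊗ₜ a) := by
    rw [map_sub, pair_tmul]
  rw [h1]
  apply pair_mem_mul b K J f f' hf
  intro x y
  rw [← Dd_eq]
  exact hS.2 x y

lemma E1' {m : M} {K : Ideal B} {a : H} (hS : St b J m K a) (f f' : H →ₗ[B] B)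
    (hf : ∀ h, f' h ∈ J) : pair f f' (Coalgebra.comul a) - f a * f' a ∈ K * J := by
  have h1 : pair f f' (Coalgebra.comul a) - f a * f' a = pair f f' (Coalgebra.comul a - a ⊗ₜ a) := by
    rw [map_sub, pair_tmul]
  rw [h1]
  apply pair_mem_mul' b K J f f' hf
  intro x y
  rw [← Dd_eq]
  exact hS.2 x y

lemma C1 (hO : Orth b J) {m : M} {K : Ideal B} {a : H} (hS : St b J m K a) (x y w : M) :
    kd x y * Dd b x w a + kd w m * Dd b x y a - kd y w * Dd b x y a - kd x m * Dd b y w a
      ∈ K * J := by
  have hassoc := cv_assoc (b.coord x) (b.coord y) (b.coord w) a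
  rw [cv_eq b x y, cv_eq b y w, pair_add_left, pair_add_right, pair_smul_left, pair_smul_right]
    at hassoc
  have e1 := E1 b J hS (jj b x y) (b.coord w) (jj_mem b J hO x y)
  have e2 := E1' b J hS (b.coord x) (jj b y w) (jj_mem b J hO y w)
  set E1v := pair (jj b x y) (b.coord w) (Coalgebra.comul a) - jj b x y a * b.coord w a with hE1
  set E2v := pair (b.coord x) (jj b y w) (Coalgebra.comul a) - b.coord x a * jj b y w a with hE2
  have hxw : pair (b.coord x) (b.coord w) (Coalgebra.comul a) =
      Dd b x w a + b.coord x a * b.coord w a := by simp [Dd, cv_apply]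
  have hxy : pair (b.coord x) (b.coord y) (Coalgebra.comul a) =
      Dd b x y a + b.coord x a * b.coord y a := by simp [Dd, cv_apply]
  have h3 : kd x y * Dd b x w a + kd w m * Dd b x y a - kd y w * Dd b x y a - kd x m * Dd b y w a
      = E2v - E1v - Dd b x y a * (b.coord w a - kd w m) + Dd b y w a * (b.coord x a - kd x m) := by
    rw [hxw, hxy] at hassoc
    rw [hE1, hE2, jj_apply, jj_apply]
    linear_combination hassoc
  rw [h3]
  refine Ideal.add_mem _ (Ideal.sub_mem _ (Ideal.sub_mem _ e2 e1) ?_) ?_
  · exact Ideal.mul_mem_mul (hS.2 x y) (hS.1 w)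
  · exact Ideal.mul_mem_mul (hS.2 y w) (hS.1 x)

lemma bracket (hO : Orth b J) {m : M} {K : Ideal B} {a : H} (hS : St b J m K a) (x y : M) :
    Dd b x y a + kd x y * (- Dd b x x a + kd x m * (2 * Dd b m m a))
      - kd x m * (- Dd b y y a + kd y m * (2 * Dd b m m a))
      - kd y m * (- Dd b x x a + kd x m * (2 * Dd b m m a)) ∈ K * J := by
  classical
  by_cases hxm : x = m
  · subst hxm
    by_cases hyx : y = x
    · subst hyx
      have : Dd b y y a + kd y y * (- Dd b y y a + kd y y * (2 * Dd b y y a))
        - kd y y * (- Dd b y y a + kd y y * (2 * Dd b y y a))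
        - kd y y * (- Dd b y y a + kd y y * (2 * Dd b y y a)) = 0 := by
        simp only [kd, if_true]; ring
      rw [this]; exact zero_mem _
    · have c1 := C1 b J hO hS y y x
      have c2 := C1 b J hO hS x y x
      have hxy : ¬ x = y := fun h => hyx h.symm
      simp only [kd, if_true, hyx, hxy, if_false] at c1 c2 ⊢
      have := Ideal.add_mem _ c1 c2
      convert this using 1
      ring
  · by_cases hym : y = m
    · subst hym
      have hyx : ¬ y = x := fun h => hxm h.symm
      have c1 := C1 b J hO hS x x y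
      simp only [kd, if_true, hxm, hyx, if_false] at c1 ⊢
      convert c1 using 1
      ring
    · by_cases hxy : x = y
      · subst hxy
        have : Dd b x x a + kd x x * (- Dd b x x a + kd x m * (2 * Dd b m m a))
          - kd x m * (- Dd b x x a + kd x m * (2 * Dd b m m a))
          - kd x m * (- Dd b x x a + kd x m * (2 * Dd b m m a)) = 0 := by
          simp only [kd, if_true, hxm, if_false]; ring
        rw [this]; exact zero_mem _
      · have c1 := C1 b J hO hS x y m
        have hmy : ¬ m = y := fun h => hym h.symm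
        simp only [kd, if_true, hxm, hym, hxy, hmy, if_false] at c1 ⊢
        convert c1 using 1
        ring

lemma step (hO : Orth b J) {m : M} {k : ℕ} (hk : 1 ≤ k) {a : H} (hS : St b J m (J ^ k) a) :
    ∃ a', St b J m (J ^ (k + 1)) a' := by
  classical
  have hKJ : J ^ k ≤ J := Ideal.pow_le_self (by omega)
  set T := Coalgebra.comul a - a ⊗ₜ[B] a with hT
  let d : M →₀ B := Finsupp.comapDomain (fun x => (x, x)) ((b.tensorProduct b).repr T) (by
    intro x _ y _ h; exact (Prod.mk.inj h).1)
  have hd : ∀ x, d x = Dd b x x a := by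
    intro x
    rw [Finsupp.comapDomain_apply, repr_tensor, Dd_eq]
  let ιf : M →₀ B := -d + Finsupp.single m (2 * d m)
  let ι : H := b.repr.symm ιf
  have hι : ∀ x, b.coord x ι = - Dd b x x a + kd x m * (2 * Dd b m m a) := by
    intro x
    have : b.coord x ι = ιf x := by simp [ι]
    rw [this]
    simp only [ιf, Finsupp.add_apply, Finsupp.neg_apply, Finsupp.single_apply, hd, kd]
    by_cases hx : x = m
    · subst hx; simp
    · have : ¬ m = x := fun h => hx h.symm
      simp [hx, this]
  have hιK : ∀ x, b.coord x ι ∈ J ^ k := by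
    intro x
    rw [hι]
    exact Ideal.add_mem _ (Ideal.neg_mem_iff _ |>.mpr (hS.2 x x))
      (Ideal.mul_mem_left _ _ (Ideal.mul_mem_left _ _ (hS.2 m m)))
  refine ⟨a + ι, ?_, ?_⟩
  · intro x
    rw [map_add]
    have : b.coord x a + b.coord x ι - kd x m = (b.coord x a - kd x m) + b.coord x ι := by ring
    rw [this]
    exact Ideal.add_mem _ (hS.1 x) (hKJ (hιK x))
  · intro x y
    rw [pow_succ]
    have h1 : Dd b x y (a + ι) = Dd b x y a + cv (b.coord x) (b.coord y) ι
        - b.coord x a * b.coord y ι - b.coord x ι * b.coord y a - b.coord x ι * b.coord y ι := by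
      simp only [Dd, map_add]; ring
    have h2 : cv (b.coord x) (b.coord y) ι = kd x y * b.coord x ι + jj b x y ι := by
      rw [cv_eq b x y]; simp
    have h3 : jj b x y ι ∈ J ^ k * J := by
      apply map_mem_mul b (J ^ k) J (jj b x y) (fun i => jj_mem b J hO x y _) ι
      intro i
      exact hιK i
    have hbr := bracket b J hO hS x y
    rw [← hι x, ← hι y] at hbr
    have h4 : Dd b x y (a + ι) =
        (Dd b x y a + kd x y * b.coord x ι - kd x m * b.coord y ι - kd y m * b.coord x ι)
        + jj b x y ι - b.coord y ι * (b.coord x a - kd x m) - b.coord x ι * (b.coord y a - kd y m)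
        - b.coord x ι * b.coord y ι := by
      rw [h1, h2]; ring
    rw [h4]
    refine Ideal.sub_mem _ (Ideal.sub_mem _ (Ideal.sub_mem _ (Ideal.add_mem _ hbr h3) ?_) ?_) ?_
    · exact Ideal.mul_mem_mul (hιK y) (hS.1 x)
    · exact Ideal.mul_mem_mul (hιK x) (hS.1 y)
    · exact Ideal.mul_mem_mul (hιK x) (hKJ (hιK y))

lemma st_one (hO : Orth b J) (m : M) : St b J m (J ^ 1) (b m) := by
  classical
  constructor
  · intro x
    have : b.coord x (b m) - kd x m = 0 := by
      simp only [Module.Basis.coord_apply, Module.Basis.repr_self, Finsupp.single_apply, kd]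
      by_cases hx : x = m
      · subst hx; simp
      · have : ¬ m = x := fun h => hx h.symm
        simp [hx, this]
    rw [this]; exact zero_mem _
  · intro x y
    rw [pow_one]
    have h := hO x y (b m)
    have : Dd b x y (b m) = cv (b.coord x) (b.coord y) (b m) - kd x y * b.coord x (b m) := by
      simp only [Dd, Module.Basis.coord_apply, Module.Basis.repr_self, Finsupp.single_apply, kd]
      by_cases hx : m = x
      · subst hx
        by_cases hy : m = y
        · subst hy; simp
        · have : ¬ y = m := fun h => hy h.symm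
          simp [hy]
      · simp [hx]
    rw [this]; exact h

theorem exists_groupLike_lift (hO : Orth b J) (hJ : IsNilpotent J) (m : M) :
    ∃ a : H, (∀ x, b.coord x a - kd x m ∈ J) ∧ Coalgebra.comul a = a ⊗ₜ[B] a := by
  obtain ⟨n, hn⟩ := hJ
  have key : ∀ k : ℕ, ∃ a, St b J m (J ^ (k + 1)) a := by
    intro k
    induction k with
    | zero => exact ⟨b m, st_one b J hO m⟩
    | succ k ih =>
      obtain ⟨a, ha⟩ := ih
      exact step b J hO (by omega) ha
  obtain ⟨a, ha⟩ := key n
  refine ⟨a, ha.1, ?_⟩
  have h0 : J ^ (n + 1) = ⊥ := by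
    rw [pow_succ, hn]; simp
  rw [← sub_eq_zero]
  apply eq_zero_of_pair b
  intro x y
  rw [← Dd_eq]
  have := ha.2 x y
  rw [h0] at this
  simpa using this

end iter

end Groth.Agent.Helper2.DefIter
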