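import Mathlib
import Groth.Prelude.Def_SGA3b
namespace Groth.Agent.Helper2.MultTypeSemi
open TensorProduct

section defs
variable (R S : Type*) [CommRing R] [CommRing S] [Algebra R S]
variable {A B : Type*} [CommRing A] [Bialgebra R A] [CommRing B] [Bialgebra S B]
  [Algebra R B] [IsScalarTower R S B]

/-- the semilinear tensor square of a map -/
noncomputable def semiMap (θ : A →ₗ[R] B) : A ⊗[R] A →ₗ[R] B ⊗[S] B :=
  (TensorProduct.mapOfCompatibleSMul S R R B B) ∘ₗ TensorProduct.map θ θ

@[simp] lemma semiMap_tmul (θ : A →ₗ[R] B) (a a' : A) :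
    semiMap R S θ (a ⊗ₜ[R] a') = θ a ⊗ₜ[S] θ a' := rfl

structure IsSemiCoalg (θ : A →ₐ[R] B) : Prop where
  counit : ∀ a, Coalgebra.counit (R := S) (θ a) = algebraMap R S (Coalgebra.counit (R := R) a)
  comul : ∀ a, Coalgebra.comul (R := S) (θ a) = semiMap R S θ.toLinearMap (Coalgebra.comul (R := R) a)

end defs

section incl
variable (R S : Type*) [CommRing R] [CommRing S] [Algebra R S]
variable (A : Type*) [CommRing A] [Bialgebra R A]

lemma isSemiCoalg_includeRight :
    IsSemiCoalg R S (Algebra.TensorProduct.includeRight : A →ₐ[R] S ⊗[R] A) := by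
  constructor
  · intro a
    simp [Algebra.TensorProduct.includeRight_apply, Algebra.smul_def]
  · intro a
    simp only [Algebra.TensorProduct.includeRight_apply, TensorProduct.comul_tmul]
    generalize Coalgebra.comul (R := R) a = t
    induction t using TensorProduct.induction_on with
    | zero => simp
    | add x y hx hy => simp only [tmul_add, map_add, hx, hy]
    | tmul x y => simp

end incl

section bialg
variable (R : Type*) [CommRing R]
variable {A B : Type*} [CommRing A] [Bialgebra R A] [CommRing B] [Bialgebra R B]

lemma isSemiCoalg_bialgHom (φ : A →ₐc[R] B) : IsSemiCoalg R R (φ : A →ₐ[R] B) := by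
  constructor
  · intro a
    simp
  · intro a
    have h := CoalgHomClass.map_comp_comul_apply φ a
    show Coalgebra.comul (R := R) (φ a) = _
    rw [← h]
    generalize Coalgebra.comul (R := R) a = t
    induction t using TensorProduct.induction_on with
    | zero => simp
    | add x y hx hy => simp only [map_add, hx, hy]
    | tmul x y => simp

end bialg

section comp
variable (R S T : Type*) [CommRing R] [CommRing S] [CommRing T] [Algebra R S] [Algebra S T]
  [Algebra R T] [IsScalarTower R S T]
variable {A B D : Type*} [CommRing A] [Bialgebra R A] [CommRing B] [Bialgebra S B]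
  [Algebra R B] [IsScalarTower R S B] [CommRing D] [Bialgebra T D] [Algebra S D]
  [IsScalarTower S T D] [Algebra R D] [IsScalarTower R T D] [IsScalarTower R S D]

lemma IsSemiCoalg.comp {θ₁ : A →ₐ[R] B} {θ₂ : B →ₐ[S] D} (h₁ : IsSemiCoalg R S θ₁)
    (h₂ : IsSemiCoalg S T θ₂) : IsSemiCoalg R T ((θ₂.restrictScalars R).comp θ₁) := by
  constructor
  · intro a
    simp only [AlgHom.comp_apply, AlgHom.restrictScalars_apply]
    rw [h₂.counit, h₁.counit, ← IsScalarTower.algebraMap_apply]
  · intro a
    simp only [AlgHom.comp_apply, AlgHom.restrictScalars_apply]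
    rw [h₂.comul, h₁.comul]
    generalize Coalgebra.comul (R := R) a = t
    induction t using TensorProduct.induction_on with
    | zero => simp
    | add x y hx hy => simp only [map_add, hx, hy]
    | tmul x y => simp

end comp





universe u

theorem eq_of_forall_diag (R : Type u) [CommRing R] (A : Type u) [CommRing A] [HopfAlgebra R A]
    (hH : SGA3b.IsMultType R A) (x y : A)
    (h : ∀ (R' : Type u) [CommRing R'] [Algebra R R'] (M : Type u) [CommGroup M]
      (θ : A →ₐ[R] MonoidAlgebra R' M), IsSemiCoalg R R' θ → θ x = θ y) : x = y := by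
  obtain ⟨s, hs, hf⟩ := hH
  apply Module.eq_of_isLocalized_span s hs _
    (fun r : s => TensorProduct.mk R (Localization.Away r.1) A 1)
  intro r
  obtain ⟨R', _, _, hff, M, _, ⟨e⟩⟩ := hf r.1 r.2
  apply Module.FaithfullyFlat.tensorProduct_mk_injective (A := Localization.Away r.1) (B := R')
    (Localization.Away r.1 ⊗[R] A)
  apply e.injective
  letI : Algebra R R' := ((algebraMap (Localization.Away r.1) R').comp
    (algebraMap R (Localization.Away r.1))).toAlgebra
  haveI : IsScalarTower R (Localization.Away r.1) R' := IsScalarTower.of_algebraMap_eq (fun _ => rfl)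
  have h1 := isSemiCoalg_includeRight R (Localization.Away r.1) A
  have h2 := isSemiCoalg_includeRight (Localization.Away r.1) R' (Localization.Away r.1 ⊗[R] A)
  have h12 := h1.comp R (Localization.Away r.1) R' h2
  have h3 := isSemiCoalg_bialgHom R' (e.toBialgHom)
  have h123 := h12.comp R R' R' h3
  exact h R' M _ h123


section comps
open LinearMap Classical

variable {R : Type*} [CommRing R] {R' : Type*} [CommRing R'] [Algebra R R'] {M : Type*} [CommMonoid M]

/-- coefficient functional -/
noncomputable def cf (m : M) : MonoidAlgebra R' M →ₗ[R'] R' :=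
  Finsupp.lapply m ∘ₗ (MonoidAlgebra.coeffLinearEquiv R').toLinearMap

omit [CommMonoid M] in
@[simp] lemma cf_apply (m : M) (x : MonoidAlgebra R' M) : cf m x = x.coeff m := rfl

omit [CommMonoid M] in
lemma cf_comul (m n : M) (x : MonoidAlgebra R' M) :
    TensorProduct.lid R' R' (TensorProduct.map (cf m) (cf n) (Coalgebra.comul (R := R') x)) =
      if m = n then cf m x else 0 := by
  induction x using MonoidAlgebra.induction_linear with
  | zero => simp
  | add x y hx hy =>
    simp only [map_add, hx, hy]
    split_ifs <;> simp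
  | single g r =>
    simp only [MonoidAlgebra.comul_single, CommSemiring.comul_apply, TensorProduct.map_tmul,
      TensorProduct.lid_tmul, MonoidAlgebra.lsingle_apply, cf_apply, MonoidAlgebra.coeff_single]
    simp only [Finsupp.single_apply, smul_eq_mul]
    split_ifs <;> simp_all

variable {C : Type*} [CommRing C] [Bialgebra R C]

/-- components of a map to a group algebra -/
noncomputable def cmp (ψ : C →ₐ[R] MonoidAlgebra R' M) (m : M) : C →ₗ[R] R' :=
  ((cf m).restrictScalars R) ∘ₗ ψ.toLinearMap

@[simp] lemma cmp_apply (ψ : C →ₐ[R] MonoidAlgebra R' M) (m : M) (c : C) :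
    cmp ψ m c = (ψ c).coeff m := rfl

lemma cmp_mul {ψ : C →ₐ[R] MonoidAlgebra R' M} (hψ : IsSemiCoalg R R' ψ) (m n : M) :
    WithConv.toConv (cmp ψ m) * WithConv.toConv (cmp ψ n) =
      if m = n then WithConv.toConv (cmp ψ m) else 0 := by
  ext c
  rw [LinearMap.convMul_apply]
  have h := cf_comul m n (ψ c)
  rw [hψ.comul] at h
  have h2 : ∀ t : C ⊗[R] C, TensorProduct.lid R' R' (TensorProduct.map (cf m) (cf n)
      (semiMap R R' ψ.toLinearMap t)) = LinearMap.mul' R R' (TensorProduct.map (cmp ψ m) (cmp ψ n) t) := by
    intro t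
    induction t using TensorProduct.induction_on with
    | zero => simp
    | add x y hx hy => simp only [map_add, hx, hy]
    | tmul x y => simp
  rw [h2] at h
  rw [h]
  split_ifs <;> simp

/-- a linear map has values in an ideal -/
def ValIn (J : Ideal R') (f : WithConv (C →ₗ[R] R')) : Prop := ∀ c, f.ofConv c ∈ J

omit [CommMonoid M] in
lemma valIn_mul {K L : Ideal R'} {f g : WithConv (C →ₗ[R] R')} (hf : ValIn K f) (hg : ValIn L g) :
    ValIn (K * L) (f * g) := by
  intro c
  rw [LinearMap.convMul_apply]
  generalize Coalgebra.comul (R := R) c = t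
  induction t using TensorProduct.induction_on with
  | zero => simp
  | add x y hx hy => simp only [map_add]; exact Ideal.add_mem _ hx hy
  | tmul x y =>
    simp only [TensorProduct.map_tmul, LinearMap.mul'_apply]
    exact Ideal.mul_mem_mul (hf x) (hg y)

omit [CommMonoid M] in
lemma eq_zero_of_idem {J : Ideal R'} (hJ : IsNilpotent J) {e : WithConv (C →ₗ[R] R')}
    (he : e * e = e) (hv : ValIn J e) : e = 0 := by
  have key : ∀ k : ℕ, ValIn (J ^ k) e := by
    intro k
    induction k with
    | zero => intro c; simp
    | succ k ih =>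
      cases k with
      | zero => simpa using hv
      | succ k =>
        have h2 := valIn_mul ih ih
        rw [he] at h2
        intro c
        have : J ^ (k + 1) * J ^ (k + 1) ≤ J ^ (k + 1 + 1) := by
          rw [← pow_add]
          exact Ideal.pow_le_pow_right (by omega)
        exact this (h2 c)
  obtain ⟨n, hn⟩ := hJ
  ext c
  have := key n c
  rw [hn] at this
  simpa using this

omit [CommMonoid M] in
lemma map_sub_mem_of_tmul_eq {A : Type*} [AddCommGroup A] [Module R A] (I : Ideal R)
    (l : A →ₗ[R] R') (x y : A) (h : (1 : R ⧸ I) ⊗ₜ[R] x = (1 : R ⧸ I) ⊗ₜ[R] y) :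
    l x - l y ∈ I.map (algebraMap R R') := by
  have h1 := congrArg (TensorProduct.quotTensorEquivQuotSMul A I) h
  rw [← map_one (Ideal.Quotient.mk I), TensorProduct.quotTensorEquivQuotSMul_mk_tmul,
    TensorProduct.quotTensorEquivQuotSMul_mk_tmul, one_smul, one_smul, Submodule.Quotient.eq] at h1
  rw [← map_sub]
  generalize x - y = z at h1
  refine Submodule.smul_induction_on h1 ?_ ?_
  · intro r hr a _
    rw [map_smul, Algebra.smul_def]
    exact Ideal.mul_mem_right _ _ (Ideal.mem_map_of_mem _ hr)
  · intro a b ha hb
    rw [map_add]; exact Ideal.add_mem _ ha hb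

end comps


section idem
variable {R : Type*} [CommRing R] {R' : Type*} [CommRing R'] [Algebra R R']
variable {C : Type*} [CommRing C] [Bialgebra R C] [Coalgebra.IsCocomm R C]

lemma valIn_sub_toConv {J : Ideal R'} {f g : C →ₗ[R] R'} (h : ∀ c, f c - g c ∈ J) :
    ValIn J (WithConv.toConv f - WithConv.toConv g) := by
  intro c
  simpa using h c

lemma eq_of_idem_of_valIn {J : Ideal R'} (hJ : IsNilpotent J) {e f : WithConv (C →ₗ[R] R')}
    (he : e * e = e) (hf : f * f = f) (hv : ValIn J (e - f)) : e = f := by
  have hall : ∀ g : WithConv (C →ₗ[R] R'), ValIn ⊤ g := fun g c => Submodule.mem_top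
  have h1 : e * (1 - f) = 0 := by
    apply eq_zero_of_idem hJ
    · calc e * (1 - f) * (e * (1 - f)) = (e * e) * (1 - f - f + f * f) := by ring
        _ = e * (1 - f) := by rw [he, hf]; ring
    · have : e * (1 - f) = (e - f) * (1 - f) := by
        calc e * (1 - f) = e * (1 - f) - (f - f * f) := by rw [hf]; ring
          _ = (e - f) * (1 - f) := by ring
      rw [this]
      have := valIn_mul hv (hall (1 - f))
      rwa [Ideal.mul_top] at this
  have h2 : f * (1 - e) = 0 := by
    apply eq_zero_of_idem hJ
    · calc f * (1 - e) * (f * (1 - e)) = (f * f) * (1 - e - e + e * e) := by ring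
        _ = f * (1 - e) := by rw [he, hf]; ring
    · have : f * (1 - e) = -((e - f) * (1 - e)) := by
        calc f * (1 - e) = f * (1 - e) - (e - e * e) := by rw [he]; ring
          _ = -((e - f) * (1 - e)) := by ring
      rw [this]
      have := valIn_mul hv (hall (1 - e))
      rw [Ideal.mul_top] at this
      intro c
      have h3 := this c
      simpa using h3
  calc e = e * (1 - f) + e * f := by ring
    _ = f * (1 - e) + e * f := by rw [h1, h2]
    _ = f := by ring

end idem
end Groth.Agent.Helper2.MultTypeSemi
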