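import Mathlib
import Groth.Prelude.Def_SGA3b
import Groth.Agent.Helper2.MultTypeSemi
import Groth.Agent.Helper2.DefIter
import Groth.Agent.Helper2.DefBasis

set_option autoImplicit false

namespace Groth.Agent.Helper2.DefLem
open TensorProduct Groth.Agent.Helper2.MultTypeSemi Groth.Agent.Helper2.DefIter
  Groth.Agent.Helper2.DefBasis

universe u

section coords
variable {B : Type*} [CommRing B] {Bb : Type*} [CommRing Bb] [Algebra B Bb]
variable {H : Type*} [AddCommGroup H] [Module B H] {M : Type*}

/-- coordinates w.r.t. a basis lifting the standard basis reduce to the coefficients -/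
lemma algebraMap_coord (θ : H →ₗ[B] MonoidAlgebra Bb M) (b : Module.Basis M B H)
    (hb : ∀ m, θ (b m) = MonoidAlgebra.single m 1) (p : M) (h : H) :
    algebraMap B Bb (b.coord p h) = (θ h).coeff p := by
  have := coeff_theta θ b hb (b.repr h) p
  rw [b.linearCombination_repr] at this
  rw [this]; rfl

end coords

section orth
variable {B : Type*} [CommRing B] {Bb : Type*} [CommRing Bb] [Algebra B Bb]
variable {H : Type*} [CommRing H] [Bialgebra B H] {M : Type*} [CommMonoid M]

lemma orth_of_semi (θ : H →ₐ[B] MonoidAlgebra Bb M) (hθ : IsSemiCoalg B Bb θ)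
    (b : Module.Basis M B H) (hb : ∀ m, θ (b m) = MonoidAlgebra.single m 1) :
    Orth b (RingHom.ker (algebraMap B Bb)) := by
  classical
  intro x y h
  rw [RingHom.mem_ker, map_sub, sub_eq_zero]
  have hF := algebraMap_coord θ.toLinearMap b hb
  have h1 : ∀ t : H ⊗[B] H, algebraMap B Bb (pair (b.coord x) (b.coord y) t) =
      LinearMap.mul' B Bb (TensorProduct.map (cmp θ x) (cmp θ y) t) := by
    intro t
    induction t using TensorProduct.induction_on with
    | zero => simp
    | add u v hu hv => simp only [map_add, hu, hv]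
    | tmul u v =>
      simp only [pair_tmul, map_mul, hF, TensorProduct.map_tmul, LinearMap.mul'_apply, cmp_apply]
      rfl
  rw [cv_apply, h1]
  have h2 := congrArg (fun F => F.ofConv h) (cmp_mul hθ x y)
  simp only [LinearMap.convMul_apply] at h2
  rw [show LinearMap.mul' B Bb (TensorProduct.map (cmp θ x) (cmp θ y) (Coalgebra.comul h)) = _
    from h2]
  rw [map_mul, hF]
  by_cases hxy : x = y
  · subst hxy; simp [kd]
  · simp [kd, hxy]

end orth

section diag
variable {B : Type*} [CommRing B] {H : Type*} [AddCommGroup H] [Module B H] [Coalgebra B H]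
variable {M : Type*}

lemma cv_coord_of_diag (b : Module.Basis M B H)
    (hb : ∀ x, Coalgebra.comul (b x) = b x ⊗ₜ[B] b x) (p q : M) :
    cv (b.coord p) (b.coord q) = (kd p q : B) • b.coord p := by
  classical
  apply b.ext
  intro x
  rw [cv_apply, hb, pair_tmul]
  simp only [Module.Basis.coord_apply, Module.Basis.repr_self, Finsupp.single_apply,
    LinearMap.smul_apply, smul_eq_mul, kd]
  by_cases hxp : x = p
  · subst hxp
    by_cases hxq : x = q
    · subst hxq; simp
    · simp [hxq]
  · simp [hxp]

lemma counit_eq_one_of_basis (b : Module.Basis M B H) (m : M)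
    (hb : Coalgebra.comul (b m) = b m ⊗ₜ[B] b m) : Coalgebra.counit (R := B) (b m) = 1 := by
  have h1 := Coalgebra.rTensor_counit_comul (R := B) (b m)
  rw [hb, LinearMap.rTensor_tmul] at h1
  have h2 := congrArg (TensorProduct.lid B H) h1
  rw [TensorProduct.lid_tmul, TensorProduct.lid_tmul, one_smul] at h2
  have h3 := congrArg (b.coord m) h2
  simpa using h3

end diag

section main
variable {B : Type u} [CommRing B] {Bb : Type u} [CommRing Bb] [Algebra B Bb]
variable {H : Type u} [CommRing H] [HopfAlgebra B H] [Module.Flat B H]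
variable {M : Type u} [CommGroup M]

theorem isDiag_of_semi (θ : H →ₐ[B] MonoidAlgebra Bb M) (hθ : IsSemiCoalg B Bb θ)
    (hsurj : Function.Surjective (algebraMap B Bb))
    (hnil : IsNilpotent (RingHom.ker (algebraMap B Bb)))
    (hker : ∀ h, θ h = 0 → h ∈ (RingHom.ker (algebraMap B Bb)) • (⊤ : Submodule B H))
    (hlift : ∀ m : M, ∃ h, θ h = MonoidAlgebra.single m 1) : SGA3b.IsDiag B H := by
  classical
  set J := RingHom.ker (algebraMap B Bb) with hJ
  -- first basis
  choose g₀ hg₀ using hlift
  obtain ⟨hli₀, hsp₀⟩ := basis_of_lift hsurj hnil θ.toLinearMap hker g₀ hg₀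
  let b₀ : Module.Basis M B H := Module.Basis.mk hli₀ (ge_of_eq hsp₀)
  have hb₀ : ∀ m, θ (b₀ m) = MonoidAlgebra.single m 1 := by
    intro m; rw [Module.Basis.mk_apply]; exact hg₀ m
  have hO := orth_of_semi θ hθ b₀ hb₀
  -- group-like lifts
  have hex : ∀ m : M, ∃ a : H, θ a = MonoidAlgebra.single m 1 ∧
      Coalgebra.comul (R := B) a = a ⊗ₜ[B] a := by
    intro m
    obtain ⟨a, ha1, ha2⟩ := exists_groupLike_lift b₀ J hO hnil m
    refine ⟨a, ?_, ha2⟩
    apply MonoidAlgebra.coeff_injective
    ext p
    have hc : algebraMap B Bb (b₀.coord p a) = (θ a).coeff p :=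
      algebraMap_coord θ.toLinearMap b₀ hb₀ p a
    rw [← hc]
    have h1 := ha1 p
    rw [hJ, RingHom.mem_ker, map_sub, sub_eq_zero] at h1
    rw [h1, MonoidAlgebra.coeff_single, Finsupp.single_apply]
    by_cases hpm : p = m
    · subst hpm; simp [kd]
    · have : ¬ m = p := fun h => hpm h.symm
      simp [kd, hpm, this]
  choose g hg hgΔ using hex
  obtain ⟨hli, hsp⟩ := basis_of_lift hsurj hnil θ.toLinearMap hker g hg
  let b : Module.Basis M B H := Module.Basis.mk hli (ge_of_eq hsp)
  have hbg : ∀ m, b m = g m := fun m => Module.Basis.mk_apply _ _ m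
  have hb : ∀ m, θ (b m) = MonoidAlgebra.single m 1 := by
    intro m; rw [hbg]; exact hg m
  have hbΔ : ∀ m, Coalgebra.comul (R := B) (b m) = b m ⊗ₜ[B] b m := by
    intro m; rw [hbg]; exact hgΔ m
  have hgl : ∀ m, IsGroupLikeElem B (g m) := by
    intro m
    refine ⟨?_, hgΔ m⟩
    rw [← hbg]
    exact counit_eq_one_of_basis b m (hbΔ m)
  -- uniqueness
  have huniq : ∀ (m : M) (a : H), IsGroupLikeElem B a → θ a = MonoidAlgebra.single m 1 →
      a = g m := by
    intro m a ha hθa
    have hrr : ∀ p q, b.coord p a * b.coord q a = kd p q * b.coord p a := by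
      intro p q
      have h1 := congrArg (fun F => F a) (cv_coord_of_diag b hbΔ p q)
      simp only [cv_apply, ha.comul_eq_tmul_self, pair_tmul, LinearMap.smul_apply,
        smul_eq_mul] at h1
      exact h1
    have hzero : ∀ p, p ≠ m → b.coord p a = 0 := by
      intro p hp
      have hmem : b.coord p a ∈ J := by
        rw [hJ, RingHom.mem_ker, algebraMap_coord θ.toLinearMap b hb p a]
        show (θ a).coeff p = 0
        rw [hθa, MonoidAlgebra.coeff_single, Finsupp.single_apply]
        have : ¬ m = p := fun h => hp h.symm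
        simp [this]
      have hid : IsIdempotentElem (b.coord p a) := by
        have := hrr p p
        simpa [kd, IsIdempotentElem] using this
      obtain ⟨n, hn⟩ := hnil
      have h1 : (b.coord p a) ^ n ∈ J ^ n := Ideal.pow_mem_pow hmem n
      rw [hn] at h1
      have h2 : (b.coord p a) ^ n = 0 := by simpa using h1
      have h3 := hid.pow_succ_eq n
      rw [pow_succ, h2, zero_mul] at h3
      exact h3.symm
    have hrepr : b.repr a = Finsupp.single m (b.coord m a) := by
      ext p
      rw [Finsupp.single_apply]
      by_cases hp : m = p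
      · subst hp; simp
      · have := hzero p (fun h => hp h.symm)
        simp only [Module.Basis.coord_apply] at this
        simp [hp, this]
    have ha_eq : a = b.coord m a • g m := by
      have := b.linearCombination_repr a
      rw [hrepr, Finsupp.linearCombination_single, hbg] at this
      exact this.symm
    have h1 := ha.counit_eq_one
    rw [ha_eq, map_smul, (hgl m).counit_eq_one, smul_eq_mul, mul_one] at h1
    rw [ha_eq, h1, one_smul]
  -- multiplicativity
  have hone : g 1 = 1 := by
    symm
    apply huniq 1 1 IsGroupLikeElem.one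
    rw [map_one]; rfl
  have hmul : ∀ m n, g (m * n) = g m * g n := by
    intro m n
    symm
    apply huniq (m * n) _ ((hgl m).mul (hgl n))
    rw [map_mul, hg, hg, MonoidAlgebra.single_mul_single, mul_one]
  let G : M →* GroupLike B H :=
    { toFun := fun m => ⟨g m, hgl m⟩
      map_one' := by ext; exact hone
      map_mul' := fun m n => by ext; exact hmul m n }
  let ψ : MonoidAlgebra B M →ₐc[B] H :=
    (MonoidAlgebra.liftGroupLikeBialgHom (R := B) (A := H)).comp
      (MonoidAlgebra.mapDomainBialgHom B G)
  have key : ∀ x : MonoidAlgebra B M, ψ x = Finsupp.linearCombination B g x.coeff := by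
    intro x
    induction x using MonoidAlgebra.induction_linear with
    | zero => simp
    | add f g' hf hg' => rw [map_add, hf, hg', MonoidAlgebra.coeff_add, map_add]
    | single m r =>
      simp [ψ, G, MonoidAlgebra.liftGroupLikeBialgHom, Algebra.smul_def]
  refine ⟨M, inferInstance, ⟨(BialgEquiv.ofBijective ψ ⟨?_, ?_⟩).symm⟩⟩
  · rw [injective_iff_map_eq_zero]
    intro x hx
    rw [key] at hx
    have := (linearIndependent_iff.mp hli) x.coeff hx
    exact MonoidAlgebra.coeff_injective this
  · intro y
    have hy : y ∈ Submodule.span B (Set.range g) := by rw [hsp]; trivial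
    rw [Finsupp.mem_span_range_iff_exists_finsupp] at hy
    obtain ⟨c, hc⟩ := hy
    refine ⟨MonoidAlgebra.ofCoeff c, ?_⟩
    rw [key]
    rw [← hc, Finsupp.linearCombination_apply]

end main

end Groth.Agent.Helper2.DefLem
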