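import Mathlib
import Groth.Prelude.Def_SGA3b
import Groth.Agent.Helper2.MultTypeSemi

namespace Groth.Agent.Helper2.MultTypeChart
open TensorProduct Groth.Agent.Helper2.MultTypeSemi

universe u

section chart
variable (R : Type u) [CommRing R] (A : Type u) [CommRing A] [HopfAlgebra R A]
variable (L : Type u) [CommRing L] [Algebra R L]
variable (R' : Type u) [CommRing R'] [Algebra L R'] [Algebra R R'] [IsScalarTower R L R']
variable (M : Type u) [CommGroup M]
variable (e : R' ⊗[L] (L ⊗[R] A) ≃ₐc[R'] MonoidAlgebra R' M)

/-- the chart `A → R'[M]` -/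
noncomputable def chart : A →ₐ[R] MonoidAlgebra R' M :=
  (((e.toBialgHom : _ →ₐ[R'] MonoidAlgebra R' M).restrictScalars R).comp
    (((Algebra.TensorProduct.includeRight : (L ⊗[R] A) →ₐ[L] R' ⊗[L] (L ⊗[R] A)).restrictScalars R).comp
      (Algebra.TensorProduct.includeRight : A →ₐ[R] L ⊗[R] A)))

lemma chart_apply (a : A) : chart R A L R' M e a = e (1 ⊗ₜ[L] (1 ⊗ₜ[R] a)) := rfl

lemma chart_isSemiCoalg : IsSemiCoalg R R' (chart R A L R' M e) := by
  have h1 := isSemiCoalg_includeRight R L A
  have h2 := isSemiCoalg_includeRight L R' (L ⊗[R] A)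
  have h12 := h1.comp R L R' h2
  have h3 := isSemiCoalg_bialgHom R' (e.toBialgHom)
  exact h12.comp R R' R' h3

lemma chart_span : Submodule.span R' (Set.range (chart R A L R' M e)) = ⊤ := by
  rw [eq_top_iff]
  rintro y -
  obtain ⟨x, rfl⟩ := EquivLike.surjective e y
  induction x using TensorProduct.induction_on with
  | zero => simp
  | add x y hx hy => rw [map_add]; exact Submodule.add_mem _ hx hy
  | tmul r z =>
    induction z using TensorProduct.induction_on with
    | zero => simp
    | add x y hx hy => rw [tmul_add, map_add]; exact Submodule.add_mem _ hx hy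
    | tmul l a =>
      have : r ⊗ₜ[L] (l ⊗ₜ[R] a) = (r * algebraMap L R' l) • ((1 : R') ⊗ₜ[L] ((1 : L) ⊗ₜ[R] a)) := by
        rw [TensorProduct.smul_tmul', smul_eq_mul, mul_one, mul_comm, ← Algebra.smul_def,
          TensorProduct.smul_tmul, TensorProduct.smul_tmul', smul_eq_mul, mul_one]
      rw [this, map_smul]
      exact Submodule.smul_mem _ _ (Submodule.subset_span ⟨a, rfl⟩)

end chart

section pow
variable (R S : Type*) [CommRing R] [CommRing S] [Algebra R S]
variable (A B : Type*) [CommRing A] [Bialgebra R A] [CommRing B] [Bialgebra S B] [Algebra R B]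
  [IsScalarTower R S B]

/-- `n`-th convolution power of the identity, as a linear map -/
noncomputable def lpow (n : ℕ) : A →ₗ[R] A :=
  ((WithConv.toConv (LinearMap.id : A →ₗ[R] A)) ^ n).ofConv

lemma lpow_zero (a : A) : lpow R A 0 a = algebraMap R A (Coalgebra.counit a) := by
  simp [lpow]

lemma lpow_succ (n : ℕ) (a : A) : lpow R A (n + 1) a =
    LinearMap.mul' R A (TensorProduct.map (lpow R A n) LinearMap.id (Coalgebra.comul a)) := by
  simp only [lpow, pow_succ]
  rw [LinearMap.convMul_apply]

variable {R S A B}

lemma lpow_semi {θ : A →ₐ[R] B} (h : IsSemiCoalg R S θ) (n : ℕ) (a : A) :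
    θ (lpow R A n a) = lpow S B n (θ a) := by
  induction n generalizing a with
  | zero =>
    rw [lpow_zero, lpow_zero, h.counit, AlgHom.commutes, ← IsScalarTower.algebraMap_apply]
  | succ n ih =>
    rw [lpow_succ, lpow_succ, h.comul]
    generalize Coalgebra.comul (R := R) a = t
    induction t using TensorProduct.induction_on with
    | zero => simp
    | add x y hx hy => simp only [map_add, hx, hy]
    | tmul x y => simp [ih]

end pow

lemma powConv_eq_lpow (R : Type u) [CommRing R] (A : Type u) [CommRing A] [HopfAlgebra R A] (n : ℕ)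
    (a : A) : SGA3b.powConv R A n a = lpow R A n a := by
  have h := AlgHom.toLinearMap_convPow (WithConv.toConv (AlgHom.id R A)) n
  have h2 := congrArg (fun f => f.ofConv a) h
  simpa [SGA3b.powConv, lpow] using h2

section grp
variable (R' : Type*) [CommRing R'] (M : Type*) [CommGroup M]

lemma lpow_single (n : ℕ) (m : M) (r : R') :
    lpow R' (MonoidAlgebra R' M) n (MonoidAlgebra.single m r) = MonoidAlgebra.single (m ^ n) r := by
  induction n generalizing r with
  | zero =>
    rw [lpow_zero, pow_zero, MonoidAlgebra.counit_single, MonoidAlgebra.coe_algebraMap]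
    simp
  | succ n ih =>
    rw [lpow_succ, MonoidAlgebra.comul_single, CommSemiring.comul_apply]
    simp only [TensorProduct.map_tmul, MonoidAlgebra.lsingle_apply, LinearMap.id_apply,
      LinearMap.mul'_apply]
    rw [ih, MonoidAlgebra.single_mul_single, one_mul, pow_succ]

lemma lpow_eq_of_torsion (n : ℕ) (hM : ∀ m : M, m ^ n = 1) (y : MonoidAlgebra R' M) :
    lpow R' (MonoidAlgebra R' M) n y = algebraMap R' _ (Coalgebra.counit y) := by
  induction y using MonoidAlgebra.induction_linear with
  | zero => simp
  | add x y hx hy => simp only [map_add, hx, hy]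
  | single m r =>
    rw [lpow_single, hM, MonoidAlgebra.counit_single, MonoidAlgebra.coe_algebraMap]
    simp

lemma torsion_of_lpow_eq [Nontrivial R'] (n : ℕ)
    (h : ∀ y : MonoidAlgebra R' M, lpow R' (MonoidAlgebra R' M) n y =
      algebraMap R' _ (Coalgebra.counit y)) (m : M) : m ^ n = 1 := by
  classical
  have h1 := h (MonoidAlgebra.single m 1)
  rw [lpow_single, MonoidAlgebra.counit_single, MonoidAlgebra.coe_algebraMap] at h1
  have h2 := congrArg (fun z => z.coeff 1) h1
  simp only [Function.comp_apply, MonoidAlgebra.coeff_single, Finsupp.single_apply] at h2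
  by_contra hne
  rw [if_neg hne] at h2
  simp at h2

end grp

section transfer
variable {R : Type*} [CommRing R] {R' : Type*} [CommRing R'] [Algebra R R']
variable {A B : Type*} [CommRing A] [Bialgebra R A] [CommRing B] [Bialgebra R' B] [Algebra R B]
  [IsScalarTower R R' B]

lemma lpow_eq_of_chart {θ : A →ₐ[R] B} (hθ : IsSemiCoalg R R' θ)
    (hspan : Submodule.span R' (Set.range θ) = ⊤) (n : ℕ)
    (h : ∀ a : A, lpow R A n a = algebraMap R A (Coalgebra.counit a)) (y : B) :
    lpow R' B n y = algebraMap R' B (Coalgebra.counit y) := by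
  have hy : y ∈ Submodule.span R' (Set.range θ) := by rw [hspan]; exact Submodule.mem_top
  induction hy using Submodule.span_induction with
  | mem y hy =>
    obtain ⟨a, rfl⟩ := hy
    rw [← lpow_semi hθ, h, hθ.counit, AlgHom.commutes, ← IsScalarTower.algebraMap_apply]
  | zero => simp
  | add x y _ _ hx hy => simp only [map_add, hx, hy]
  | smul r x _ hx =>
    rw [map_smul, hx, map_smul, smul_eq_mul, map_mul, Algebra.smul_def]

end transfer

lemma torsionIdeal_eq_bot_iff (R : Type u) [CommRing R] (A : Type u) [CommRing A] [HopfAlgebra R A]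
    (n : ℕ) : SGA3b.torsionIdeal R A n = ⊥ ↔
      ∀ a : A, lpow R A n a = algebraMap R A (Coalgebra.counit a) := by
  rw [SGA3b.torsionIdeal, Ideal.map_eq_bot_iff_le_ker]
  constructor
  · intro h a
    have h1 : a - algebraMap R A (Coalgebra.counit a) ∈ RingHom.ker (Bialgebra.counitAlgHom R A) := by
      rw [RingHom.mem_ker]
      simp
    have h2 := h h1
    rw [RingHom.mem_ker, map_sub, AlgHom.commutes, sub_eq_zero, powConv_eq_lpow] at h2
    exact h2
  · intro h a ha
    rw [RingHom.mem_ker] at ha ⊢
    rw [powConv_eq_lpow, h]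
    have : Coalgebra.counit (R := R) a = 0 := ha
    rw [this, map_zero]

end Groth.Agent.Helper2.MultTypeChart
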