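import Mathlib
import Groth.Prelude.Def_SGA3b
import Groth.Agent.Helper2.MultTypeSemi

set_option autoImplicit false

namespace Groth.Agent.Helper2.SemiIso
open TensorProduct Groth.Agent.Helper2.MultTypeSemi

section defs
variable (R S : Type*) [CommRing R] [CommRing S] [Algebra R S]
variable {A D : Type*} [CommRing A] [Bialgebra R A] [CommRing D] [Bialgebra S D]
  [Algebra R D] [IsScalarTower R S D]

/-- a semilinear coalgebra map inducing an isomorphism after base change -/
def IsSemiIso (χ : A →ₐ[R] D) : Prop :=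
  IsSemiCoalg R S χ ∧ Function.Bijective (LinearMap.liftBaseChange S χ.toLinearMap)

end defs

section incl
variable (R S : Type*) [CommRing R] [CommRing S] [Algebra R S]
variable (A : Type*) [CommRing A] [Bialgebra R A]

lemma isSemiIso_includeRight :
    IsSemiIso R S (Algebra.TensorProduct.includeRight : A →ₐ[R] S ⊗[R] A) := by
  refine ⟨isSemiCoalg_includeRight R S A, ?_⟩
  have : LinearMap.liftBaseChange S
      (Algebra.TensorProduct.includeRight : A →ₐ[R] S ⊗[R] A).toLinearMap = LinearMap.id := by
    apply TensorProduct.AlgebraTensorModule.ext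
    intro s a
    simp [TensorProduct.smul_tmul']
  rw [this]
  exact Function.bijective_id

end incl

section equiv
variable (S : Type*) [CommRing S]
variable {D D' : Type*} [CommRing D] [Bialgebra S D] [CommRing D'] [Bialgebra S D']

lemma isSemiIso_bialgEquiv (e : D ≃ₐc[S] D') : IsSemiIso S S (e.toBialgHom : D →ₐ[S] D') := by
  refine ⟨isSemiCoalg_bialgHom S e.toBialgHom, ?_⟩
  have : LinearMap.liftBaseChange S (e.toBialgHom : D →ₐ[S] D').toLinearMap =
      (e.toLinearEquiv.toLinearMap) ∘ₗ (TensorProduct.lid S D).toLinearMap := by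
    apply TensorProduct.AlgebraTensorModule.ext
    intro s a
    simp
    rfl
  rw [this]
  exact (e.toLinearEquiv.bijective).comp (TensorProduct.lid S D).bijective

end equiv

section comp
variable (R S T : Type*) [CommRing R] [CommRing S] [CommRing T] [Algebra R S] [Algebra S T]
  [Algebra R T] [IsScalarTower R S T]
variable {A B D : Type*} [CommRing A] [Bialgebra R A] [CommRing B] [Bialgebra S B]
  [Algebra R B] [IsScalarTower R S B] [CommRing D] [Bialgebra T D] [Algebra S D]
  [IsScalarTower S T D] [Algebra R D] [IsScalarTower R T D] [IsScalarTower R S D]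

lemma IsSemiIso.comp {θ₁ : A →ₐ[R] B} {θ₂ : B →ₐ[S] D} (h₁ : IsSemiIso R S θ₁)
    (h₂ : IsSemiIso S T θ₂) : IsSemiIso R T ((θ₂.restrictScalars R).comp θ₁) := by
  refine ⟨h₁.1.comp R S T h₂.1, ?_⟩
  let e₁ : S ⊗[R] A ≃ₗ[S] B := LinearEquiv.ofBijective _ h₁.2
  let e₂ : T ⊗[S] B ≃ₗ[T] D := LinearEquiv.ofBijective _ h₂.2
  let c : T ⊗[S] (S ⊗[R] A) ≃ₗ[T] T ⊗[R] A := AlgebraTensorModule.cancelBaseChange R S T T A
  have : LinearMap.liftBaseChange T ((θ₂.restrictScalars R).comp θ₁).toLinearMap =
      (e₂.toLinearMap ∘ₗ (LinearEquiv.baseChange S T _ _ e₁).toLinearMap) ∘ₗ c.symm.toLinearMap := by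
    apply TensorProduct.AlgebraTensorModule.ext
    intro t a
    simp [c, e₁, e₂]
  rw [this]
  exact (e₂.bijective.comp (LinearEquiv.baseChange S T _ _ e₁).bijective).comp c.symm.bijective

end comp

section lift
variable (R R₁ S : Type*) [CommRing R] [CommRing R₁] [CommRing S] [Algebra R R₁] [Algebra R₁ S]
  [Algebra R S] [IsScalarTower R R₁ S]
variable {A D : Type*} [CommRing A] [Bialgebra R A] [CommRing D] [Bialgebra S D]
  [Algebra R D] [IsScalarTower R S D] [Algebra R₁ D] [IsScalarTower R₁ S D] [IsScalarTower R R₁ D]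

/-- the lift of a map to a base change -/
noncomputable def liftMap (χ : A →ₐ[R] D) : R₁ ⊗[R] A →ₐ[R₁] D :=
  Algebra.TensorProduct.lift (Algebra.ofId R₁ D) χ (fun _ _ => Commute.all _ _)

@[simp] lemma liftMap_tmul (χ : A →ₐ[R] D) (r : R₁) (a : A) :
    liftMap R R₁ χ (r ⊗ₜ a) = r • χ a := by
  simp [liftMap, Algebra.smul_def, Algebra.ofId_apply]

lemma isSemiCoalg_liftMap {χ : A →ₐ[R] D} (h : IsSemiCoalg R S χ) :
    IsSemiCoalg R₁ S (liftMap R R₁ χ) := by
  constructor
  · intro x
    induction x using TensorProduct.induction_on with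
    | zero => simp
    | add x y hx hy => simp only [map_add, hx, hy]
    | tmul r a =>
      rw [liftMap_tmul, ← algebraMap_smul S r (χ a), map_smul, h.counit]
      simp [Algebra.smul_def, ← IsScalarTower.algebraMap_apply R R₁ S, mul_comm]
  · intro x
    induction x using TensorProduct.induction_on with
    | zero => simp
    | add x y hx hy => simp only [map_add, hx, hy]
    | tmul r a =>
      rw [liftMap_tmul, ← algebraMap_smul S r (χ a), map_smul, h.comul]
      simp only [TensorProduct.comul_tmul]
      generalize Coalgebra.comul (R := R) a = t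
      induction t using TensorProduct.induction_on with
      | zero => simp
      | add x y hx hy => simp only [tmul_add, map_add, smul_add, hx, hy]
      | tmul x y =>
        simp [TensorProduct.smul_tmul']

lemma IsSemiIso.lift {χ : A →ₐ[R] D} (h : IsSemiIso R S χ) :
    IsSemiIso R₁ S (liftMap R R₁ χ) := by
  refine ⟨isSemiCoalg_liftMap R R₁ S h.1, ?_⟩
  let e : S ⊗[R] A ≃ₗ[S] D := LinearEquiv.ofBijective _ h.2
  let c : S ⊗[R₁] (R₁ ⊗[R] A) ≃ₗ[S] S ⊗[R] A := AlgebraTensorModule.cancelBaseChange R R₁ S S A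
  have : LinearMap.liftBaseChange S (liftMap R R₁ χ).toLinearMap =
      e.toLinearMap ∘ₗ c.toLinearMap := by
    apply TensorProduct.AlgebraTensorModule.ext
    intro s x
    induction x using TensorProduct.induction_on with
    | zero => simp
    | add x y hx hy => simp only [tmul_add, map_add, hx, hy]
    | tmul r a =>
      simp only [AlgHom.toLinearMap_apply, LinearMap.liftBaseChange_tmul, liftMap_tmul,
        LinearMap.coe_comp, LinearEquiv.coe_coe, Function.comp_apply, c, e,
        AlgebraTensorModule.cancelBaseChange_tmul, LinearEquiv.ofBijective_apply]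
      rw [← algebraMap_smul S r (χ a), smul_smul, Algebra.smul_def r s, mul_comm]
  rw [this]
  exact e.bijective.comp c.bijective

end lift

section conseq
variable (R S : Type*) [CommRing R] [CommRing S] [Algebra R S]
variable {A D : Type*} [CommRing A] [Bialgebra R A] [CommRing D] [Bialgebra S D]
  [Algebra R D] [IsScalarTower R S D]

lemma mem_smul_top_of_tmul_eq_zero (hs : Function.Surjective (algebraMap R S))
    {N : Type*} [AddCommGroup N] [Module R N] (n : N) (h : (1 : S) ⊗ₜ[R] n = 0) :
    n ∈ (RingHom.ker (algebraMap R S)) • (⊤ : Submodule R N) := by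
  let f : R →ₐ[R] S := Algebra.ofId R S
  have hf : Function.Surjective f := hs
  let e : (R ⧸ RingHom.ker f) ≃ₐ[R] S := Ideal.quotientKerAlgEquivOfSurjective hf
  have h1 : (1 : R ⧸ RingHom.ker f) ⊗ₜ[R] n = 0 := by
    have := congrArg (LinearMap.rTensor N e.symm.toLinearMap) h
    simpa using this
  have h2 : n ∈ LinearMap.ker (TensorProduct.mk R (R ⧸ RingHom.ker f) N 1) := by
    rw [LinearMap.mem_ker]; exact h1
  rw [LinearMap.ker_tensorProductMk] at h2
  exact h2

lemma IsSemiIso.surjective {χ : A →ₐ[R] D} (h : IsSemiIso R S χ)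
    (hs : Function.Surjective (algebraMap R S)) : Function.Surjective χ := by
  intro y
  obtain ⟨x, rfl⟩ := h.2.2 y
  induction x using TensorProduct.induction_on with
  | zero => exact ⟨0, by simp⟩
  | add x y hx hy =>
    obtain ⟨a, ha⟩ := hx
    obtain ⟨b, hb⟩ := hy
    exact ⟨a + b, by rw [map_add, map_add, ha, hb]⟩
  | tmul s a =>
    obtain ⟨r, rfl⟩ := hs s
    exact ⟨r • a, by simp⟩

lemma IsSemiIso.mem_of_eq_zero {χ : A →ₐ[R] D} (h : IsSemiIso R S χ)
    (hs : Function.Surjective (algebraMap R S)) (a : A) (ha : χ a = 0) :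
    a ∈ (RingHom.ker (algebraMap R S)) • (⊤ : Submodule R A) := by
  apply mem_smul_top_of_tmul_eq_zero R S hs
  apply h.2.1
  simp [ha]

end conseq

end Groth.Agent.Helper2.SemiIso
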