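import Mathlib
import Groth.Prelude.Def_SGA3b
import Groth.Agent.Helper2.MultTypeSemi
import Groth.Agent.Helper2.SemiIso
import Groth.Agent.Helper2.MultTypeChart
import Groth.Agent.Helper2.DefLem
import Groth.Agent.Helper2.NilFree
import Groth.Agent.Helper3.GlobalLift

set_option autoImplicit false

namespace Groth.Agent.Helper2.DefApp
open TensorProduct Groth.Agent.Helper2.MultTypeSemi Groth.Agent.Helper2.SemiIso
  Groth.Agent.Helper2.DefLem

universe u

section chartiso
open Groth.Agent.Helper2.MultTypeChart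
variable (R : Type u) [CommRing R] (A : Type u) [CommRing A] [HopfAlgebra R A]
variable (L : Type u) [CommRing L] [Algebra R L]
variable (R' : Type u) [CommRing R'] [Algebra L R'] [Algebra R R'] [IsScalarTower R L R']
variable (M : Type u) [CommGroup M]
variable (e : R' ⊗[L] (L ⊗[R] A) ≃ₐc[R'] MonoidAlgebra R' M)

lemma chart_isSemiIso : IsSemiIso R R' (chart R A L R' M e) := by
  have h1 := isSemiIso_includeRight R L A
  have h2 := isSemiIso_includeRight L R' (L ⊗[R] A)
  have h12 := h1.comp R L R' h2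
  have h3 := isSemiIso_bialgEquiv R' e
  exact h12.comp R R' R' h3

end chartiso

section abstract
variable {B : Type u} [CommRing B] {Bb : Type u} [CommRing Bb] [Algebra B Bb]
variable {H : Type u} [CommRing H] [HopfAlgebra B H] [Module.Flat B H]
variable {M : Type u} [CommGroup M]

theorem isDiag_of_semiIso (θ : H →ₐ[B] MonoidAlgebra Bb M) (hθ : IsSemiIso B Bb θ)
    (hsurj : Function.Surjective (algebraMap B Bb))
    (hnil : IsNilpotent (RingHom.ker (algebraMap B Bb))) : SGA3b.IsDiag B H :=
  isDiag_of_semi θ hθ.1 hsurj hnil (hθ.mem_of_eq_zero B Bb hsurj)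
    (fun _ => hθ.surjective B Bb hsurj _)

end abstract

section chart2
variable {R : Type u} [CommRing R] {A : Type u} [CommRing A] [HopfAlgebra R A] [Module.Flat R A]
variable {L : Type u} [CommRing L] [Algebra R L]
variable {B₀ : Type u} [CommRing B₀] [Algebra L B₀] [Algebra R B₀] [IsScalarTower R L B₀]
variable {S : Type u} [CommRing S] [Algebra B₀ S] [Algebra L S] [Algebra R S]
  [IsScalarTower R L S] [IsScalarTower L B₀ S]
variable {M : Type u} [CommGroup M]

theorem isDiag_of_chart2 (χ : A →ₐ[R] MonoidAlgebra S M) (hχ : IsSemiIso R S χ)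
    (hsurj : Function.Surjective (algebraMap B₀ S))
    (hnil : IsNilpotent (RingHom.ker (algebraMap B₀ S))) :
    SGA3b.IsDiag B₀ (B₀ ⊗[L] (L ⊗[R] A)) := by
  have h1 := hχ.lift R L S
  have h2 := h1.lift L B₀ S
  exact isDiag_of_semiIso _ h2 hsurj hnil

end chart2

section chart1
variable {R : Type u} [CommRing R] {A : Type u} [CommRing A] [HopfAlgebra R A] [Module.Flat R A]
variable {B₀ : Type u} [CommRing B₀] [Algebra R B₀]
variable {S : Type u} [CommRing S] [Algebra B₀ S] [Algebra R S] [IsScalarTower R B₀ S]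
variable {M : Type u} [CommGroup M]

theorem isDiag_of_chart1 (χ : A →ₐ[R] MonoidAlgebra S M) (hχ : IsSemiIso R S χ)
    (hsurj : Function.Surjective (algebraMap B₀ S))
    (hnil : IsNilpotent (RingHom.ker (algebraMap B₀ S))) :
    SGA3b.IsDiag B₀ (B₀ ⊗[R] A) := by
  have h1 := hχ.lift R B₀ S
  exact isDiag_of_semiIso _ h1 hsurj hnil

end chart1

section etlift
variable (R : Type u) [CommRing R] (I : Ideal R) (S : Type u) [CommRing S] [Algebra R S]
  [Algebra (R ⧸ I) S] [IsScalarTower R (R ⧸ I) S]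

/-- lifting an étale algebra over `R ⧸ I`, packaged with the reduction map -/
theorem exists_lift [Algebra.Etale (R ⧸ I) S] :
    ∃ (B₀ : Type u) (_ : CommRing B₀) (_ : Algebra R B₀), Algebra.Etale R B₀ ∧
      ∃ π : B₀ →ₐ[R] S, Function.Surjective π ∧
        RingHom.ker π = Ideal.map (algebraMap R B₀) I ∧
        (Module.Finite (R ⧸ I) S → Module.Finite R B₀ ∨ ¬ IsNilpotent I) := by
  classical
  obtain ⟨B₀, _, _, hB₀, ⟨ε⟩⟩ := Groth.Agent.Helper3.GlobalLift.exists_etale_lift R I S
  let π : B₀ →ₐ[R] S := (ε.toAlgHom.restrictScalars R).comp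
    (Algebra.TensorProduct.includeRight : B₀ →ₐ[R] (R ⧸ I) ⊗[R] B₀)
  have hπ : ∀ b, π b = ε (1 ⊗ₜ b) := fun b => rfl
  have hsurj : Function.Surjective π := by
    intro s
    obtain ⟨x, rfl⟩ := ε.surjective s
    have : ∃ b : B₀, (1 : R ⧸ I) ⊗ₜ[R] b = x := by
      induction x using TensorProduct.induction_on with
      | zero => exact ⟨0, by simp⟩
      | add x y hx hy =>
        obtain ⟨a, rfl⟩ := hx
        obtain ⟨b, rfl⟩ := hy
        exact ⟨a + b, by rw [tmul_add]⟩
      | tmul q b =>
        obtain ⟨r, rfl⟩ := Ideal.Quotient.mk_surjective q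
        refine ⟨r • b, ?_⟩
        rw [TensorProduct.tmul_smul, TensorProduct.smul_tmul', Algebra.smul_def, mul_one]
        rfl
    obtain ⟨b, rfl⟩ := this
    exact ⟨b, rfl⟩
  have hker : RingHom.ker π = Ideal.map (algebraMap R B₀) I := by
    ext b
    rw [RingHom.mem_ker, hπ, EmbeddingLike.map_eq_zero_iff]
    have h1 : (1 : R ⧸ I) ⊗ₜ[R] b = 0 ↔ b ∈ LinearMap.ker (TensorProduct.mk R (R ⧸ I) B₀ 1) := by
      rw [LinearMap.mem_ker]; rfl
    rw [h1, LinearMap.ker_tensorProductMk, Ideal.smul_top_eq_map]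
    rfl
  refine ⟨B₀, inferInstance, inferInstance, hB₀, π, hsurj, hker, ?_⟩
  intro hfin
  by_cases hnil : IsNilpotent I
  · left
    haveI : Module.Finite R S := Module.Finite.trans (R ⧸ I) S
    obtain ⟨t, ht⟩ := (Module.Finite.fg_top : (⊤ : Submodule R S).FG)
    choose lift hlift using hsurj
    refine ⟨⟨t.image lift, ?_⟩⟩
    apply eq_top_of_sup_smul_top_of_isNilpotent I hnil
    intro b _
    have hb : π b ∈ Submodule.span R (t : Set S) := by rw [ht]; trivial
    have hmap : Submodule.map π.toLinearMap (Submodule.span R ((t.image lift : Finset B₀) : Set B₀))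
        = Submodule.span R (t : Set S) := by
      rw [Submodule.map_span]
      congr 1
      ext s
      simp only [Finset.coe_image, Set.mem_image, Finset.mem_coe, AlgHom.toLinearMap_apply]
      constructor
      · rintro ⟨_, ⟨s', hs', rfl⟩, rfl⟩
        rw [hlift]; exact hs'
      · intro hs
        exact ⟨lift s, ⟨s, hs, rfl⟩, hlift s⟩
    rw [← hmap] at hb
    obtain ⟨n, hn, hnb⟩ := hb
    have hk : b - n ∈ RingHom.ker π := by
      rw [RingHom.mem_ker, map_sub, sub_eq_zero]
      exact hnb.symm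
    rw [hker] at hk
    have hk' : b - n ∈ I • (⊤ : Submodule R B₀) := by
      rw [Ideal.smul_top_eq_map]
      exact hk
    have : b = n + (b - n) := by abel
    rw [this]
    exact Submodule.add_mem_sup hn hk'
  · right; exact hnil

end etlift

lemma isUnit_of_map_of_nilpotent_ker {X Y : Type*} [CommRing X] [CommRing Y] (π : X →+* Y)
    (hπ : Function.Surjective π) (hnil : IsNilpotent (RingHom.ker π)) {x : X}
    (hx : IsUnit (π x)) : IsUnit x := by
  obtain ⟨u, hu⟩ := hx.exists_right_inv
  obtain ⟨y, rfl⟩ := hπ u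
  have h1 : x * y - 1 ∈ RingHom.ker π := by
    rw [RingHom.mem_ker, map_sub, map_mul, hu, map_one, sub_self]
  obtain ⟨n, hn⟩ := hnil
  have h2 : IsNilpotent (x * y - 1) := by
    refine ⟨n, ?_⟩
    have := Ideal.pow_mem_pow h1 n
    rw [hn] at this
    simpa using this
  have h3 : IsUnit (x * y) := by
    have := h2.isUnit_add_one
    simpa using this
  exact isUnit_of_mul_isUnit_left h3

lemma isNilpotent_map {X Y : Type*} [CommRing X] [CommRing Y] (φ : X →+* Y) {I : Ideal X}
    (hI : IsNilpotent I) : IsNilpotent (Ideal.map φ I) := by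
  obtain ⟨n, hn⟩ := hI
  refine ⟨n, ?_⟩
  rw [← Ideal.map_pow, hn]
  simp

section packaged
variable (R : Type u) [CommRing R] (A : Type u) [CommRing A] [HopfAlgebra R A] [Module.Flat R A]
variable (I : Ideal R) (S : Type u) [CommRing S] [Algebra R S]
  [Algebra (R ⧸ I) S] [IsScalarTower R (R ⧸ I) S] [Algebra.Etale (R ⧸ I) S]
variable (M : Type u) [CommGroup M]

theorem isIsotrivial_of_chart (hI : IsNilpotent I) [Module.Finite (R ⧸ I) S]
    (hP : ∀ 𝔮 : Ideal R, 𝔮.IsMaximal → Ideal.map (algebraMap R S) 𝔮 ≠ ⊤)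
    (χ : A →ₐ[R] MonoidAlgebra S M) (hχ : IsSemiIso R S χ) : SGA3b.IsIsotrivial R A := by
  obtain ⟨B₀, _, _, hB₀, π, hsurj, hker, hfin⟩ := exists_lift R I S
  letI : Algebra B₀ S := π.toRingHom.toAlgebra
  haveI : IsScalarTower R B₀ S := IsScalarTower.of_algebraMap_eq (fun r => (π.commutes r).symm)
  have hnil : IsNilpotent (RingHom.ker (algebraMap B₀ S)) := by
    show IsNilpotent (RingHom.ker π)
    rw [hker]
    exact isNilpotent_map _ hI
  have hfin' : Module.Finite R B₀ := by
    rcases hfin inferInstance with h | h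
    · exact h
    · exact absurd hI h
  have hdiag := isDiag_of_chart1 (B₀ := B₀) χ hχ hsurj hnil
  refine ⟨B₀, inferInstance, inferInstance, hB₀, hfin', ?_, hdiag⟩
  refine ⟨fun 𝔮 h𝔮 htop => hP 𝔮 h𝔮 ?_⟩
  rw [Ideal.smul_top_eq_map] at htop
  have h1 : Ideal.map (algebraMap R B₀) 𝔮 = ⊤ := by
    apply Submodule.restrictScalars_injective R
    rw [htop]; rfl
  rw [IsScalarTower.algebraMap_eq R B₀ S, ← Ideal.map_map, h1, Ideal.map_top]

theorem isQuasiIsotrivialConst_of_chart (hI : IsNilpotent I) (f : R)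
    (hf : IsUnit (algebraMap R S f))
    (hP : ∀ 𝔭 : Ideal R, 𝔭.IsPrime → f ∉ 𝔭 → Ideal.map (algebraMap R S) 𝔭 ≠ ⊤)
    (χ : A →ₐ[R] MonoidAlgebra S M) (hχ : IsSemiIso R S χ) :
    SGA3b.IsQuasiIsotrivialConst (Localization.Away f) (Localization.Away f ⊗[R] A) := by
  obtain ⟨B₀, _, _, hB₀, π, hsurj, hker, -⟩ := exists_lift R I S
  letI : Algebra B₀ S := π.toRingHom.toAlgebra
  haveI : IsScalarTower R B₀ S := IsScalarTower.of_algebraMap_eq (fun r => (π.commutes r).symm)
  have hnil : IsNilpotent (RingHom.ker (algebraMap B₀ S)) := by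
    show IsNilpotent (RingHom.ker π)
    rw [hker]
    exact isNilpotent_map _ hI
  have hu : IsUnit (algebraMap R B₀ f) := by
    apply isUnit_of_map_of_nilpotent_ker (algebraMap B₀ S) hsurj hnil
    rw [← IsScalarTower.algebraMap_apply]
    exact hf
  letI : Algebra (Localization.Away f) B₀ := (IsLocalization.Away.lift f hu).toAlgebra
  haveI : IsScalarTower R (Localization.Away f) B₀ :=
    IsScalarTower.of_algebraMap_eq (fun r => (IsLocalization.Away.lift_eq f hu r).symm)
  letI : Algebra (Localization.Away f) S :=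
    ((algebraMap B₀ S).comp (algebraMap (Localization.Away f) B₀)).toAlgebra
  haveI : IsScalarTower (Localization.Away f) B₀ S := IsScalarTower.of_algebraMap_eq (fun _ => rfl)
  haveI : IsScalarTower R (Localization.Away f) S := by
    apply IsScalarTower.of_algebraMap_eq
    intro r
    show algebraMap R S r = algebraMap B₀ S (algebraMap (Localization.Away f) B₀
      (algebraMap R (Localization.Away f) r))
    rw [← IsScalarTower.algebraMap_apply R (Localization.Away f) B₀,
      ← IsScalarTower.algebraMap_apply R B₀ S]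
  haveI : Algebra.Etale (Localization.Away f) B₀ :=
    Algebra.Etale.of_restrictScalars (R := R) (A := Localization.Away f) (B := B₀)
  have hdiag := isDiag_of_chart2 (L := Localization.Away f) (B₀ := B₀) χ hχ hsurj hnil
  refine ⟨B₀, inferInstance, inferInstance, inferInstance, ?_, hdiag⟩
  refine ⟨fun 𝔮 h𝔮 htop => ?_⟩
  rw [Ideal.smul_top_eq_map] at htop
  have h1 : Ideal.map (algebraMap (Localization.Away f) B₀) 𝔮 = ⊤ := by
    apply Submodule.restrictScalars_injective (Localization.Away f)
    rw [htop]; rfl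
  have h𝔭 : (𝔮.under R).IsPrime := Ideal.IsPrime.under R 𝔮
  have hf𝔭 : f ∉ 𝔮.under R := by
    intro hmem
    have : algebraMap R (Localization.Away f) f ∈ 𝔮 := hmem
    exact h𝔮.ne_top (Ideal.eq_top_of_isUnit_mem _ this (IsLocalization.Away.algebraMap_isUnit f))
  apply hP _ h𝔭 hf𝔭
  have h2 : Ideal.map (algebraMap R (Localization.Away f)) (𝔮.under R) = 𝔮 :=
    IsLocalization.map_under (Submonoid.powers f) (Localization.Away f) 𝔮
  rw [IsScalarTower.algebraMap_eq R (Localization.Away f) S, ← Ideal.map_map, h2,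
    IsScalarTower.algebraMap_eq (Localization.Away f) B₀ S, ← Ideal.map_map, h1, Ideal.map_top]

end packaged

end Groth.Agent.Helper2.DefApp
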