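import Mathlib
import Groth.Agent.Helper7.ModAmitsur

set_option autoImplicit false

namespace Groth.Agent.Helper2.FamDesc
open TensorProduct

section fam
variable {B : Type*} [CommRing B] {F : Type*} [Fintype F] [DecidableEq F] (T : F → Type*)
  [∀ f, CommRing (T f)] [∀ f, Algebra B (T f)]
variable (X : Type*) [AddCommGroup X] [Module B X]

lemma sum_single_comp_proj :
    ∑ f, (LinearMap.single B T f).comp (LinearMap.proj f : (Π f, T f) →ₗ[B] T f) = LinearMap.id := by
  refine LinearMap.ext fun s => ?_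
  simp only [LinearMap.coe_sum, Finset.sum_apply, LinearMap.comp_apply, LinearMap.proj_apply,
    LinearMap.single_apply, LinearMap.id_apply]
  exact Finset.univ_sum_single s

lemma one_tmul_eq_sum (x : X) : (1 : Π f, T f) ⊗ₜ[B] x =
    ∑ f, (LinearMap.single B T f).rTensor X ((1 : T f) ⊗ₜ[B] x) := by
  conv_lhs => rw [← Finset.univ_sum_single (1 : Π f, T f)]
  rw [TensorProduct.sum_tmul]
  rfl

variable [Module.FaithfullyFlat B (Π f, T f)]

lemma joint_inj (x : X) (h : ∀ f, (1 : T f) ⊗ₜ[B] x = 0) : x = 0 := by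
  apply Module.FaithfullyFlat.tensorProduct_mk_injective (A := B) (B := Π f, T f) X
  rw [map_zero]
  show (1 : Π f, T f) ⊗ₜ[B] x = 0
  rw [one_tmul_eq_sum]
  simp [h]

omit [Module.FaithfullyFlat B (Π f, T f)] in
lemma eq_zero_of_forall_proj2 (z : ((Π f, T f) ⊗[B] (Π f, T f)) ⊗[B] X)
    (h : ∀ f f', (TensorProduct.map (LinearMap.proj f : (Π f, T f) →ₗ[B] T f)
      (LinearMap.proj f' : (Π f, T f) →ₗ[B] T f')).rTensor X z = 0) : z = 0 := by
  have key : ∑ f, ∑ f', ((TensorProduct.map (LinearMap.single B T f)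
      (LinearMap.single B T f')).rTensor X) ∘ₗ
      ((TensorProduct.map (LinearMap.proj f : (Π f, T f) →ₗ[B] T f)
      (LinearMap.proj f' : (Π f, T f) →ₗ[B] T f')).rTensor X) = LinearMap.id := by
    apply TensorProduct.ext_threefold
    intro s s' x
    simp only [LinearMap.coe_sum, Finset.sum_apply, LinearMap.comp_apply, LinearMap.rTensor_tmul,
      TensorProduct.map_tmul, LinearMap.proj_apply, LinearMap.single_apply, LinearMap.id_apply]
    simp_rw [← TensorProduct.sum_tmul, ← TensorProduct.tmul_sum]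
    rw [← TensorProduct.sum_tmul, Finset.univ_sum_single s, Finset.univ_sum_single s']
  have := LinearMap.congr_fun key z
  simp only [LinearMap.coe_sum, Finset.sum_apply, LinearMap.comp_apply, LinearMap.id_apply] at this
  rw [← this]
  simp [h]

theorem fam_descent (u : ∀ f, T f ⊗[B] X)
    (hu : ∀ f f',
      (Algebra.TensorProduct.includeLeft : T f →ₐ[B] T f ⊗[B] T f').toLinearMap.rTensor X (u f) =
      (Algebra.TensorProduct.includeRight : T f' →ₐ[B] T f ⊗[B] T f').toLinearMap.rTensor X (u f')) :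
    ∃ x : X, ∀ f, (1 : T f) ⊗ₜ[B] x = u f := by
  let U : (Π f, T f) ⊗[B] X := ∑ f, (LinearMap.single B T f).rTensor X (u f)
  have hπ : ∀ f, (LinearMap.proj f : (Π f, T f) →ₗ[B] T f).rTensor X U = u f := by
    intro f
    simp only [U, map_sum]
    rw [Finset.sum_eq_single f]
    · rw [← LinearMap.comp_apply, ← LinearMap.rTensor_comp, LinearMap.proj_comp_single_same,
        LinearMap.rTensor_id, LinearMap.id_apply]
    · intro g _ hg
      rw [← LinearMap.comp_apply, ← LinearMap.rTensor_comp,
        LinearMap.proj_comp_single_ne _ _ _ _ (Ne.symm hg), LinearMap.rTensor_zero,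
        LinearMap.zero_apply]
    · intro h; exact absurd (Finset.mem_univ f) h
  have hd : Groth.Agent.Helper7.ModAmitsur.d B (Π f, T f) X U = 0 := by
    apply eq_zero_of_forall_proj2
    intro f f'
    unfold Groth.Agent.Helper7.ModAmitsur.d
    rw [← LinearMap.comp_apply, ← LinearMap.rTensor_comp, LinearMap.comp_sub, LinearMap.rTensor_sub,
      LinearMap.sub_apply]
    have h1 : (TensorProduct.map (LinearMap.proj f : (Π f, T f) →ₗ[B] T f)
        (LinearMap.proj f' : (Π f, T f) →ₗ[B] T f')) ∘ₗ
        (Algebra.TensorProduct.includeLeft : (Π f, T f) →ₐ[B] _).toLinearMap =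
        (Algebra.TensorProduct.includeLeft : T f →ₐ[B] T f ⊗[B] T f').toLinearMap ∘ₗ
          (LinearMap.proj f : (Π f, T f) →ₗ[B] T f) := by
      ext s
      simp
    have h2 : (TensorProduct.map (LinearMap.proj f : (Π f, T f) →ₗ[B] T f)
        (LinearMap.proj f' : (Π f, T f) →ₗ[B] T f')) ∘ₗ
        (Algebra.TensorProduct.includeRight : (Π f, T f) →ₐ[B] _).toLinearMap =
        (Algebra.TensorProduct.includeRight : T f' →ₐ[B] T f ⊗[B] T f').toLinearMap ∘ₗ
          (LinearMap.proj f' : (Π f, T f) →ₗ[B] T f') := by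
      ext s
      simp
    rw [h1, h2, LinearMap.rTensor_comp, LinearMap.rTensor_comp, LinearMap.comp_apply,
      LinearMap.comp_apply, hπ, hπ, hu, sub_self]
  obtain ⟨x, hx⟩ := (Groth.Agent.Helper7.ModAmitsur.amitsur_exact B (Π f, T f) X U).mp hd
  refine ⟨x, fun f => ?_⟩
  have := congrArg ((LinearMap.proj f : (Π f, T f) →ₗ[B] T f).rTensor X) hx
  rw [hπ] at this
  rw [← this]
  simp [Groth.Agent.Helper7.ModAmitsur.ι]

end fam

section ff
variable {B : Type*} [CommRing B] {F : Type*} [Fintype F] [DecidableEq F] (T : F → Type*)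
  [∀ f, CommRing (T f)] [∀ f, Algebra B (T f)]

lemma flat_pi [∀ f, Module.Flat B (T f)] : Module.Flat B (Π f, T f) := by
  have e : (Π₀ f, T f) ≃ₗ[B] (Π f, T f) := DFinsupp.linearEquivFunOnFintype
  exact Module.Flat.of_linearEquiv e.symm

/-- a finite family of faithfully flat algebras over the members of a cover by basic opens is
jointly faithfully flat -/
theorem faithfullyFlat_pi_of_away (r : F → B) (hr : Ideal.span (Set.range r) = ⊤)
    [∀ f, Algebra (Localization.Away (r f)) (T f)]
    [∀ f, IsScalarTower B (Localization.Away (r f)) (T f)]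
    [∀ f, Module.FaithfullyFlat (Localization.Away (r f)) (T f)] :
    Module.FaithfullyFlat B (Π f, T f) := by
  haveI : ∀ f, Module.Flat B (T f) := fun f =>
    Module.Flat.trans B (Localization.Away (r f)) (T f)
  haveI := flat_pi (B := B) T
  refine ⟨fun 𝔪 h𝔪 h => ?_⟩
  have hex : ∃ f, r f ∉ 𝔪 := by
    by_contra hcon
    push_neg at hcon
    have : Ideal.span (Set.range r) ≤ 𝔪 := by
      rw [Ideal.span_le]
      rintro _ ⟨f, rfl⟩
      exact hcon f
    rw [hr] at this
    exact h𝔪.ne_top (top_le_iff.mp this)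
  obtain ⟨f, hf⟩ := hex
  have h1 : 𝔪 • (⊤ : Submodule B (T f)) = ⊤ := by
    have h2 := congrArg (Submodule.map (LinearMap.proj f : (Π f, T f) →ₗ[B] T f)) h
    rw [Submodule.map_smul'', Submodule.map_top,
      LinearMap.range_eq_top.mpr (LinearMap.proj_surjective f)] at h2
    exact h2
  rw [Ideal.smul_top_eq_map, Submodule.restrictScalars_eq_top_iff,
    IsScalarTower.algebraMap_eq B (Localization.Away (r f)) (T f), ← Ideal.map_map] at h1
  have h3 := Ideal.comap_map_eq_self_of_faithfullyFlat (B := T f)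
    (𝔪.map (algebraMap B (Localization.Away (r f))))
  rw [h1, Ideal.comap_top] at h3
  have hdis : Disjoint (Submonoid.powers (r f) : Set B) (𝔪 : Set B) := by
    rw [Set.disjoint_left]
    rintro _ ⟨n, rfl⟩ hmem
    exact hf (h𝔪.isPrime.mem_of_pow_mem n hmem)
  exact ((IsLocalization.map_algebraMap_ne_top_iff_disjoint (Submonoid.powers (r f))
    (S := Localization.Away (r f)) 𝔪).mpr hdis) h3.symm

end ff

end Groth.Agent.Helper2.FamDesc
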