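import Mathlib
import Groth.Prelude.Def_SGA3b
import Groth.Agent.Helper2.MultTypeSemi

set_option autoImplicit false
universe u
open TensorProduct

namespace Groth.Agent.Helper2.DiagSpan

open Groth.Agent.Helper2.MultTypeSemi

/-- a commutative Hopf algebra over a field that is spanned by its group-like elements is
diagonalisable -/
theorem isDiag_of_span_groupLike (K : Type u) [Field K] (H : Type u) [CommRing H] [HopfAlgebra K H]
    (hspan : Submodule.span K {a : H | IsGroupLikeElem K a} = ⊤) : SGA3b.IsDiag K H := by
  refine ⟨GroupLike K H, inferInstance, ⟨(BialgEquiv.ofBijective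
    (MonoidAlgebra.liftGroupLikeBialgHom (R := K) (A := H)) ⟨?_, ?_⟩).symm⟩⟩
  · -- injective: linear independence of group-like elements
    have hli := linearIndep_groupLikeVal (R := K) (A := H)
    have key : ∀ x : MonoidAlgebra K (GroupLike K H),
        (MonoidAlgebra.liftGroupLikeBialgHom (R := K) (A := H)) x =
        Finsupp.linearCombination K (GroupLike.val (R := K) (A := H)) x.coeff := by
      intro x
      induction x using MonoidAlgebra.induction_linear with
      | zero => simp
      | add f g hf hg => rw [map_add, hf, hg, MonoidAlgebra.coeff_add, map_add]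
      | single m r => simp [MonoidAlgebra.liftGroupLikeBialgHom, Algebra.smul_def]
    rw [injective_iff_map_eq_zero]
    intro x hx
    rw [key] at hx
    have := (linearIndependent_iff.mp hli) x.coeff hx
    exact MonoidAlgebra.coeff_injective this
  · -- surjective: spanning
    intro y
    have hy : y ∈ Submodule.span K {a : H | IsGroupLikeElem K a} := by rw [hspan]; trivial
    induction hy using Submodule.span_induction with
    | mem a ha => exact ⟨MonoidAlgebra.single ⟨a, ha⟩ 1, by simp [MonoidAlgebra.liftGroupLikeBialgHom]⟩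
    | zero => exact ⟨0, map_zero _⟩
    | add a b _ _ ha hb =>
      obtain ⟨a', rfl⟩ := ha
      obtain ⟨b', rfl⟩ := hb
      exact ⟨a' + b', map_add _ _ _⟩
    | smul r a _ ha =>
      obtain ⟨a', rfl⟩ := ha
      exact ⟨r • a', map_smul _ _ _⟩

section semi

variable (L R₀ K : Type*) [CommRing L] [CommRing R₀] [CommRing K] [Algebra L R₀] [Algebra L K]
  [Algebra R₀ K] [IsScalarTower L R₀ K]
variable {X X' : Type*} [CommRing X] [Bialgebra L X] [CommRing X'] [Bialgebra L X']

/-- base change of a bialgebra map along a change of base ring -/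
noncomputable def bcMap (g : X →ₐc[L] X') : R₀ ⊗[L] X →ₐ[R₀] K ⊗[L] X' :=
  Algebra.TensorProduct.map (Algebra.ofId R₀ K) (g : X →ₐ[L] X')

@[simp] lemma bcMap_tmul (g : X →ₐc[L] X') (r : R₀) (x : X) :
    bcMap L R₀ K g (r ⊗ₜ x) = algebraMap R₀ K r ⊗ₜ g x := rfl

lemma isSemiCoalg_bcMap (g : X →ₐc[L] X') : IsSemiCoalg R₀ K (bcMap L R₀ K g) := by
  constructor
  · intro a
    induction a using TensorProduct.induction_on with
    | zero => simp
    | add x y hx hy => simp only [map_add, hx, hy]
    | tmul r x =>
      simp [Algebra.smul_def, ← IsScalarTower.algebraMap_apply L R₀ K]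
  · intro a
    induction a using TensorProduct.induction_on with
    | zero => simp
    | add x y hx hy => simp only [map_add, hx, hy]
    | tmul r x =>
      simp only [bcMap_tmul, TensorProduct.comul_tmul]
      have h := CoalgHomClass.map_comp_comul_apply g x
      rw [← h]
      generalize Coalgebra.comul (R := L) x = t
      induction t using TensorProduct.induction_on with
      | zero => simp
      | add x y hx hy => simp only [tmul_add, map_add, hx, hy]
      | tmul x y => simp

end semi

section grouplike

variable (R S : Type*) [CommRing R] [CommRing S] [Algebra R S]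
variable {A B : Type*} [CommRing A] [Bialgebra R A] [CommRing B] [Bialgebra S B]
  [Algebra R B] [IsScalarTower R S B]

lemma isGroupLikeElem_of_isSemiCoalg {θ : A →ₐ[R] B} (h : IsSemiCoalg R S θ) {a : A}
    (ha : IsGroupLikeElem R a) : IsGroupLikeElem S (θ a) where
  counit_eq_one := by rw [h.counit, ha.counit_eq_one, map_one]
  comul_eq_tmul_self := by rw [h.comul, ha.comul_eq_tmul_self]; rfl

end grouplike

lemma faithfullyFlat_of_isField (L N : Type*) [CommRing L] (hL : IsField L) [AddCommGroup N]
    [Module L N] [Nontrivial N] : Module.FaithfullyFlat L N := by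
  letI : Field L := hL.toField
  infer_instance

lemma isField_away {k : Type*} [Field k] {f : k} (hf : f ≠ 0) : IsField (Localization.Away f) := by
  have e : k ≃ₐ[k] Localization.Away f :=
    IsLocalization.atUnits k (Submonoid.powers f) (by
      rintro x ⟨n, rfl⟩
      exact (isUnit_iff_ne_zero.mpr hf).pow n)
  exact MulEquiv.isField (Field.toIsField k) e.symm.toMulEquiv

theorem s5244 (k : Type u) [Field k] (A : Type u) [CommRing A] [HopfAlgebra k A]
    (h : SGA3b.IsMultType k A) (J : Ideal A) [J.IsHopfIdeal k] :
    SGA3b.IsMultType k (A ⧸ J) := by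
  obtain ⟨s, hs, hf⟩ := h
  have hex : ∃ f ∈ s, f ≠ 0 := by
    by_contra hcon
    push Not at hcon
    have h1 : Ideal.span s ≤ ⊥ := Ideal.span_le.mpr (fun x hx => by simp [hcon x hx])
    rw [hs] at h1
    exact top_ne_bot (le_bot_iff.mp h1)
  obtain ⟨f, hfs, hf0⟩ := hex
  obtain ⟨R₀, _, _, hff, M, _, ⟨e⟩⟩ := hf f hfs
  refine ⟨{f}, Ideal.span_singleton_eq_top.mpr (isUnit_iff_ne_zero.mpr hf0), ?_⟩
  intro f' hf'
  obtain rfl : f' = f := hf'
  have hLfield : IsField (Localization.Away f') := isField_away hf0
  haveI : Nontrivial (Localization.Away f') := hLfield.nontrivial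
  haveI : Nontrivial R₀ := by
    haveI := hff
    exact (TensorProduct.rid (Localization.Away f') R₀).symm.toEquiv.nontrivial
  obtain ⟨𝔪, h𝔪⟩ := Ideal.exists_maximal R₀
  letI : Field (R₀ ⧸ 𝔪) := Ideal.Quotient.field 𝔪
  refine ⟨R₀ ⧸ 𝔪, inferInstance, inferInstance, faithfullyFlat_of_isField _ _ hLfield, ?_⟩
  apply isDiag_of_span_groupLike
  let g : Localization.Away f' ⊗[k] A →ₐc[Localization.Away f'] Localization.Away f' ⊗[k] (A ⧸ J) :=
    Bialgebra.TensorProduct.map (BialgHom.id (Localization.Away f') (Localization.Away f'))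
      (Bialgebra.Quotient.mkBialgHom (R := k) J)
  have hθ := isSemiCoalg_bcMap (Localization.Away f') R₀ (R₀ ⧸ 𝔪) g
  have key : ∀ x, bcMap (Localization.Away f') R₀ (R₀ ⧸ 𝔪) g x ∈
      Submodule.span (R₀ ⧸ 𝔪) {a | IsGroupLikeElem (R₀ ⧸ 𝔪) a} := by
    intro x
    have hx : x ∈ Submodule.span R₀
        {a : R₀ ⊗[Localization.Away f'] (Localization.Away f' ⊗[k] A) | IsGroupLikeElem R₀ a} := by
      have h1 : e x ∈ Submodule.span R₀ {a : MonoidAlgebra R₀ M | IsGroupLikeElem R₀ a} := by
        rw [MonoidAlgebra.span_isGroupLikeElem]; trivial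
      have h2 : ∀ w ∈ Submodule.span R₀ {a : MonoidAlgebra R₀ M | IsGroupLikeElem R₀ a},
          e.symm w ∈ Submodule.span R₀
          {a : R₀ ⊗[Localization.Away f'] (Localization.Away f' ⊗[k] A) | IsGroupLikeElem R₀ a} := by
        intro w hw
        induction hw using Submodule.span_induction with
        | mem a ha => exact Submodule.subset_span ((isGroupLikeElem_map_equiv e.symm).mpr ha)
        | zero => simp
        | add a b _ _ ha hb => rw [map_add]; exact add_mem ha hb
        | smul r a _ ha => rw [map_smul]; exact Submodule.smul_mem _ _ ha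
      simpa using h2 _ h1
    induction hx using Submodule.span_induction with
    | mem a ha => exact Submodule.subset_span (isGroupLikeElem_of_isSemiCoalg _ _ hθ ha)
    | zero => simp
    | add a b _ _ ha hb => rw [map_add]; exact add_mem ha hb
    | smul r a _ ha =>
      rw [map_smul, ← algebraMap_smul (R₀ ⧸ 𝔪) r
        (bcMap (Localization.Away f') R₀ (R₀ ⧸ 𝔪) g a)]
      exact Submodule.smul_mem _ _ ha
  rw [eq_top_iff]
  rintro y -
  induction y using TensorProduct.induction_on with
  | zero => exact zero_mem _
  | add a b ha hb => exact add_mem ha hb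
  | tmul c z =>
    obtain ⟨r, rfl⟩ := Ideal.Quotient.mk_surjective c
    have hz : ∃ z', g z' = z := by
      induction z using TensorProduct.induction_on with
      | zero => exact ⟨0, map_zero _⟩
      | add a b ha hb =>
        obtain ⟨a', rfl⟩ := ha
        obtain ⟨b', rfl⟩ := hb
        exact ⟨a' + b', map_add _ _ _⟩
      | tmul l a' =>
        obtain ⟨a, rfl⟩ := Ideal.Quotient.mk_surjective a'
        exact ⟨l ⊗ₜ a, rfl⟩
    obtain ⟨z', rfl⟩ := hz
    exact key (r ⊗ₜ z')

end Groth.Agent.Helper2.DiagSpan
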