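import Mathlib
import Groth.Prelude.Def_SGA3b
import Groth.Agent.Helper2.MultTypeSemi

set_option autoImplicit false

namespace Groth.Agent.Helper2.GLike
open TensorProduct Groth.Agent.Helper2.MultTypeSemi

section coeffs
variable {S : Type*} [CommRing S] {N : Type*} [CommMonoid N]

open Classical in
lemma coeff_mul_coeff {y : MonoidAlgebra S N} (hy : IsGroupLikeElem S y) (m n : N) :
    y.coeff m * y.coeff n = if m = n then y.coeff m else 0 := by
  have h := cf_comul (R' := S) m n y
  rw [hy.comul_eq_tmul_self] at h
  simpa using h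

lemma coeff_idem {y : MonoidAlgebra S N} (hy : IsGroupLikeElem S y) (n : N) :
    y.coeff n * y.coeff n = y.coeff n := by
  rw [coeff_mul_coeff hy]; simp

lemma coeff_orth {y : MonoidAlgebra S N} (hy : IsGroupLikeElem S y) {m n : N} (h : m ≠ n) :
    y.coeff m * y.coeff n = 0 := by
  rw [coeff_mul_coeff hy]; simp [h]

lemma counit_eq_sum (y : MonoidAlgebra S N) :
    Coalgebra.counit (R := S) y = y.coeff.sum (fun _ r => r) := by
  induction y using MonoidAlgebra.induction_linear with
  | zero => simp
  | add f g hf hg =>
    rw [map_add, hf, hg, MonoidAlgebra.coeff_add, Finsupp.sum_add_index' (by simp) (by simp)]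
  | single m r =>
    rw [MonoidAlgebra.counit_single, MonoidAlgebra.coeff_single, Finsupp.sum_single_index rfl]
    rfl

lemma sum_coeff {y : MonoidAlgebra S N} (hy : IsGroupLikeElem S y) (F : Finset N)
    (hF : y.coeff.support ⊆ F) : ∑ n ∈ F, y.coeff n = 1 := by
  have h1 := hy.counit_eq_one
  rw [counit_eq_sum, Finsupp.sum] at h1
  rw [← h1]
  symm
  apply Finset.sum_subset hF
  intro n _ hn
  simpa using hn

/-- the idempotent of the locus where two group-like elements agree -/
noncomputable def agree (y y' : MonoidAlgebra S N) : S :=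
  ∑ n ∈ y.coeff.support, y.coeff n * y'.coeff n

lemma agree_mul_coeff {y y' : MonoidAlgebra S N} (hy : IsGroupLikeElem S y)
    (hy' : IsGroupLikeElem S y') (n : N) :
    agree y y' * y.coeff n = y.coeff n * y'.coeff n := by
  classical
  rw [agree, Finset.sum_mul]
  by_cases hn : n ∈ y.coeff.support
  · rw [Finset.sum_eq_single n]
    · rw [mul_right_comm, coeff_idem hy]
    · intro k _ hk
      rw [mul_right_comm, coeff_orth hy hk, zero_mul]
    · intro h; exact absurd hn h
  · have h0 : y.coeff n = 0 := by simpa using hn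
    rw [h0]; simp

lemma agree_mul_coeff' {y y' : MonoidAlgebra S N} (hy : IsGroupLikeElem S y)
    (hy' : IsGroupLikeElem S y') (n : N) :
    agree y y' * y'.coeff n = y.coeff n * y'.coeff n := by
  classical
  rw [agree, Finset.sum_mul]
  by_cases hn : n ∈ y.coeff.support
  · rw [Finset.sum_eq_single n]
    · rw [mul_assoc, coeff_idem hy']
    · intro k _ hk
      rw [mul_assoc, coeff_orth hy' hk, mul_zero]
    · intro h; exact absurd hn h
  · have h0 : y.coeff n = 0 := by simpa using hn
    rw [h0, zero_mul]
    apply Finset.sum_eq_zero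
    intro k hk
    have hkn : k ≠ n := fun h => hn (h ▸ hk)
    rw [mul_assoc, coeff_orth hy' hkn, mul_zero]

lemma agree_idem {y y' : MonoidAlgebra S N} (hy : IsGroupLikeElem S y)
    (hy' : IsGroupLikeElem S y') : IsIdempotentElem (agree y y') := by
  unfold IsIdempotentElem
  have h1 : agree y y' * agree y y' =
      ∑ n ∈ y.coeff.support, agree y y' * (y.coeff n * y'.coeff n) := by
    conv_lhs => rw [agree, Finset.mul_sum]
    rfl
  rw [h1]
  conv_rhs => rw [agree]
  apply Finset.sum_congr rfl
  intro n _
  rw [← mul_assoc, agree_mul_coeff hy hy', mul_assoc, coeff_idem hy']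

/-- the annihilator of `y - y'` is generated by the idempotent `agree y y'` -/
lemma smul_sub_eq_zero_iff {y y' : MonoidAlgebra S N} (hy : IsGroupLikeElem S y)
    (hy' : IsGroupLikeElem S y') (r : S) :
    r • (y - y') = 0 ↔ r ∈ Ideal.span {agree y y'} := by
  classical
  constructor
  · intro h
    have hc : ∀ n, r * y.coeff n = r * y'.coeff n := by
      intro n
      have := congrArg (fun z => z.coeff n) h
      simp only [MonoidAlgebra.coeff_smul, MonoidAlgebra.coeff_sub, Finsupp.smul_apply,
        Finsupp.sub_apply, smul_eq_mul, MonoidAlgebra.coeff_zero, Finsupp.zero_apply] at this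
      linear_combination this
    have h1 : r * agree y y' = r := by
      rw [agree, Finset.mul_sum]
      have : ∀ n ∈ y.coeff.support, r * (y.coeff n * y'.coeff n) = r * y.coeff n := by
        intro n _
        rw [← mul_assoc, hc n, mul_assoc, ← hc n, ← mul_assoc, hc n, mul_assoc, coeff_idem hy',
          ← hc n]
      rw [Finset.sum_congr rfl this, ← Finset.mul_sum, sum_coeff hy _ subset_rfl, mul_one]
    rw [Ideal.mem_span_singleton']
    exact ⟨r, h1⟩
  · intro h
    obtain ⟨c, rfl⟩ := Ideal.mem_span_singleton'.mp h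
    apply MonoidAlgebra.coeff_injective
    ext n
    simp only [MonoidAlgebra.coeff_smul, MonoidAlgebra.coeff_sub, Finsupp.smul_apply,
      Finsupp.sub_apply, smul_eq_mul, MonoidAlgebra.coeff_zero, Finsupp.zero_apply]
    rw [mul_sub, mul_assoc, mul_assoc, agree_mul_coeff hy hy', agree_mul_coeff' hy hy', sub_self]

end coeffs

section ann
variable {R : Type*} [CommRing R] {R' : Type*} [CommRing R'] [Algebra R R'] [Module.Flat R R']
variable {Q : Type*} [AddCommGroup Q] [Module R Q]

/-- annihilators of elements commute with flat base change -/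
lemma mem_map_ann_of_tmul_eq_zero (x : Q) (r' : R') (h : r' ⊗ₜ[R] x = 0) :
    r' ∈ Ideal.map (algebraMap R R') (LinearMap.ker (LinearMap.toSpanSingleton R Q x)) := by
  set 𝔞 : Ideal R := LinearMap.ker (LinearMap.toSpanSingleton R Q x) with h𝔞
  have hex : Function.Exact (Submodule.subtype 𝔞) (LinearMap.toSpanSingleton R Q x) :=
    LinearMap.exact_subtype_ker_map _
  have hex' := Module.Flat.lTensor_exact R' hex
  have h1 : LinearMap.lTensor R' (LinearMap.toSpanSingleton R Q x) (r' ⊗ₜ[R] (1 : R)) = 0 := by
    rw [LinearMap.lTensor_tmul, LinearMap.toSpanSingleton_apply, one_smul]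
    exact h
  obtain ⟨z, hz⟩ := (hex' _).mp h1
  have key : ∀ z : R' ⊗[R] 𝔞, TensorProduct.rid R R' (LinearMap.lTensor R' (Submodule.subtype 𝔞) z) ∈
      Ideal.map (algebraMap R R') 𝔞 := by
    intro z
    induction z using TensorProduct.induction_on with
    | zero => simp
    | add a b ha hb => rw [map_add, map_add]; exact Ideal.add_mem _ ha hb
    | tmul s a =>
      rw [LinearMap.lTensor_tmul, TensorProduct.rid_tmul, Submodule.subtype_apply,
        Algebra.smul_def]
      exact Ideal.mul_mem_right _ _ (Ideal.mem_map_of_mem _ a.2)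
  have := key z
  rw [hz, TensorProduct.rid_tmul, one_smul] at this
  exact this

end ann

end Groth.Agent.Helper2.GLike
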