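import Mathlib
import Groth.Prelude.Def_SGA3b
import Groth.Agent.Helper2.GLike
import Groth.Agent.Helper2.SemiIso
import Groth.Agent.Helper2.DiagSpan

set_option autoImplicit false

namespace Groth.Agent.Helper2.NilSplit
open TensorProduct Groth.Agent.Helper2.MultTypeSemi Groth.Agent.Helper2.SemiIso
  Groth.Agent.Helper2.GLike Groth.Agent.Helper2.DiagSpan

section rho
variable (S S' : Type*) [CommRing S] [CommRing S'] [Algebra S S'] (N : Type*) [CommMonoid N]

/-- change of coefficients of a group algebra -/
noncomputable def rho : MonoidAlgebra S N →ₐ[S] MonoidAlgebra S' N :=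
  MonoidAlgebra.mapAlgHom N (Algebra.ofId S S')

@[simp] lemma rho_single (n : N) (r : S) :
    rho S S' N (MonoidAlgebra.single n r) = MonoidAlgebra.single n (algebraMap S S' r) := by
  simp [rho, Algebra.ofId_apply]

@[simp] lemma coeff_rho (x : MonoidAlgebra S N) (n : N) :
    (rho S S' N x).coeff n = algebraMap S S' (x.coeff n) := by
  simp [rho, MonoidAlgebra.coeff_mapAlgHom, Algebra.ofId_apply]

lemma isSemiCoalg_rho : IsSemiCoalg S S' (rho S S' N) := by
  constructor
  · intro x
    induction x using MonoidAlgebra.induction_linear with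
    | zero => simp
    | add f g hf hg => simp only [map_add, hf, hg]
    | single n r => simp
  · intro x
    induction x using MonoidAlgebra.induction_linear with
    | zero => simp
    | add f g hf hg => simp only [map_add, hf, hg]
    | single n r =>
      simp only [rho_single, MonoidAlgebra.comul_single, CommSemiring.comul_apply,
        TensorProduct.map_tmul, MonoidAlgebra.lsingle_apply, semiMap_tmul]
      simp

lemma isSemiIso_rho : IsSemiIso S S' (rho S S' N) := by
  refine ⟨isSemiCoalg_rho S S' N, ?_⟩
  have : LinearMap.liftBaseChange S' (rho S S' N).toLinearMap =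
      (MonoidAlgebra.scalarTensorEquiv S S' (M := N)).toLinearMap := by
    apply TensorProduct.AlgebraTensorModule.ext
    intro s x
    simp [rho]
  rw [this]
  exact (MonoidAlgebra.scalarTensorEquiv S S' (M := N)).bijective

end rho

section lift
variable {T T' : Type*} [CommRing T] [CommRing T'] [Algebra T T'] {N : Type*} [CommMonoid N]

open Classical in
lemma isGroupLikeElem_of_coeff {y : MonoidAlgebra T N}
    (h1 : ∀ m n, y.coeff m * y.coeff n = if m = n then y.coeff m else 0)
    (h2 : ∑ n ∈ y.coeff.support, y.coeff n = 1) : IsGroupLikeElem T y := by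
  constructor
  · rw [counit_eq_sum, Finsupp.sum]; exact h2
  · have hs : ∀ (n : N) (r : T), (MonoidAlgebra.single n r : MonoidAlgebra T N) =
        r • MonoidAlgebra.single n (1 : T) := by
      intro n r; simp
    have hy : y = ∑ n ∈ y.coeff.support, MonoidAlgebra.single n (y.coeff n) := by
      conv_lhs => rw [← MonoidAlgebra.sum_coeff_single y]
      rfl
    have hΔ : Coalgebra.comul (R := T) y = ∑ n ∈ y.coeff.support,
        y.coeff n • (MonoidAlgebra.single n (1 : T) ⊗ₜ[T] MonoidAlgebra.single n (1 : T)) := by
      conv_lhs => rw [hy]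
      rw [map_sum]
      apply Finset.sum_congr rfl
      intro n _
      rw [hs n (y.coeff n), map_smul]
      simp
    have hyy : y ⊗ₜ[T] y = ∑ n ∈ y.coeff.support, ∑ k ∈ y.coeff.support,
        (y.coeff n * y.coeff k) • (MonoidAlgebra.single n (1 : T) ⊗ₜ[T]
          MonoidAlgebra.single k (1 : T)) := by
      conv_lhs => rw [hy]
      rw [TensorProduct.sum_tmul]
      apply Finset.sum_congr rfl
      intro n _
      rw [TensorProduct.tmul_sum]
      apply Finset.sum_congr rfl
      intro k _
      rw [hs n (y.coeff n), hs k (y.coeff k), TensorProduct.tmul_smul, TensorProduct.smul_tmul',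
        smul_smul, mul_comm, TensorProduct.smul_tmul']
    rw [hΔ, hyy]
    apply Finset.sum_congr rfl
    intro n hn
    rw [Finset.sum_eq_single n]
    · rw [h1]; simp
    · intro k _ hk
      rw [h1, if_neg (fun h => hk h.symm), zero_smul]
    · intro h; exact absurd hn h

open Classical in
lemma isGroupLikeElem_of_coeff' {y : MonoidAlgebra T N} (F : Finset N)
    (hF : y.coeff.support ⊆ F)
    (h1 : ∀ m n, y.coeff m * y.coeff n = if m = n then y.coeff m else 0)
    (h2 : ∑ n ∈ F, y.coeff n = 1) : IsGroupLikeElem T y := by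
  apply isGroupLikeElem_of_coeff h1
  rw [← h2]
  apply Finset.sum_subset hF
  intro n _ hn
  simpa using hn

lemma groupLike_eq_of_rho_eq (hnil : ∀ x ∈ RingHom.ker (algebraMap T T'), IsNilpotent x)
    {y y' : MonoidAlgebra T N} (hy : IsGroupLikeElem T y) (hy' : IsGroupLikeElem T y')
    (h : rho T T' N y = rho T T' N y') : y = y' := by
  apply MonoidAlgebra.coeff_injective
  ext n
  apply eq_of_isNilpotent_sub_of_isIdempotentElem (coeff_idem hy n) (coeff_idem hy' n)
  apply hnil
  rw [RingHom.mem_ker, map_sub, ← coeff_rho, ← coeff_rho, h, sub_self]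

lemma exists_lift_groupLike (hsurj : Function.Surjective (algebraMap T T'))
    (hnil : ∀ x ∈ RingHom.ker (algebraMap T T'), IsNilpotent x)
    {ybar : MonoidAlgebra T' N} (hybar : IsGroupLikeElem T' ybar) :
    ∃ y : MonoidAlgebra T N, IsGroupLikeElem T y ∧ rho T T' N y = ybar := by
  classical
  set F := ybar.coeff.support with hFdef
  let e : F → T' := fun i => ybar.coeff i
  have he : CompleteOrthogonalIdempotents e := by
    refine ⟨⟨fun i => coeff_idem hybar i, ?_⟩, ?_⟩
    · intro i j hij
      exact coeff_orth hybar (fun h => hij (Subtype.ext h))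
    · show ∑ i : F, ybar.coeff i = 1
      rw [Finset.sum_coe_sort F (fun n => ybar.coeff n)]
      exact sum_coeff hybar F subset_rfl
  obtain ⟨e', he', hfe⟩ := he.lift_of_isNilpotent_ker (algebraMap T T') hnil (fun i => hsurj _)
  let c : N → T := fun n => if h : n ∈ F then e' ⟨n, h⟩ else 0
  have hcF : ∀ i : F, c i = e' i := fun i => by simp [c]
  have hc0 : ∀ n, n ∉ F → c n = 0 := fun n hn => by simp [c, hn]
  let y : MonoidAlgebra T N := ∑ n ∈ F, MonoidAlgebra.single n (c n)
  have hy : ∀ n, y.coeff n = c n := by
    intro n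
    simp only [y, MonoidAlgebra.coeff_sum, MonoidAlgebra.coeff_single, Finsupp.coe_finset_sum,
      Finset.sum_apply, Finsupp.single_apply]
    rw [Finset.sum_ite_eq' F n (fun k => c k)]
    split_ifs with h
    · rfl
    · exact (hc0 n h).symm
  refine ⟨y, ?_, ?_⟩
  · apply isGroupLikeElem_of_coeff' F
    · intro n hn
      by_contra h
      rw [Finsupp.mem_support_iff, hy, hc0 n h] at hn
      exact hn rfl
    · intro m n
      rw [hy, hy]
      by_cases hm : m ∈ F
      · by_cases hn : n ∈ F
        · rw [show c m = e' ⟨m, hm⟩ from hcF ⟨m, hm⟩, show c n = e' ⟨n, hn⟩ from hcF ⟨n, hn⟩]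
          by_cases hmn : m = n
          · subst hmn
            rw [if_pos rfl]
            exact he'.idem _
          · rw [if_neg hmn]
            exact he'.ortho (fun h => hmn (congrArg Subtype.val h))
        · rw [hc0 n hn, mul_zero]
          split_ifs with h
          · subst h; exact absurd hm hn
          · rfl
      · rw [hc0 m hm, zero_mul]
        split_ifs <;> rfl
    · rw [Finset.sum_congr rfl (fun n _ => hy n), ← Finset.sum_coe_sort F c,
        Finset.sum_congr rfl (fun i _ => hcF i)]
      exact he'.complete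
  · apply MonoidAlgebra.coeff_injective
    ext n
    rw [coeff_rho, hy]
    by_cases hn : n ∈ F
    · rw [show c n = e' ⟨n, hn⟩ from hcF ⟨n, hn⟩]
      exact congrFun hfe ⟨n, hn⟩
    · rw [hc0 n hn, map_zero]
      symm
      simpa [hFdef] using hn

end lift

section ofGL
variable {B : Type*} [CommRing B] {M : Type*} [CommMonoid M] {H : Type*} [CommRing H]
  [Bialgebra B H]

/-- the bialgebra map out of a monoid algebra given by a multiplicative family of group-like
elements -/
noncomputable def ofGL (g : M → H) (hgl : ∀ m, IsGroupLikeElem B (g m)) (hone : g 1 = 1)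
    (hmul : ∀ m n, g (m * n) = g m * g n) : MonoidAlgebra B M →ₐc[B] H :=
  (MonoidAlgebra.liftGroupLikeBialgHom (R := B) (A := H)).comp
    (MonoidAlgebra.mapDomainBialgHom B
      ({ toFun := fun m => ⟨g m, hgl m⟩
         map_one' := by ext; exact hone
         map_mul' := fun m n => by ext; exact hmul m n } : M →* GroupLike B H))

@[simp] lemma ofGL_single (g : M → H) (hgl : ∀ m, IsGroupLikeElem B (g m)) (hone : g 1 = 1)
    (hmul : ∀ m n, g (m * n) = g m * g n) (m : M) (r : B) :
    ofGL g hgl hone hmul (MonoidAlgebra.single m r) = r • g m := by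
  simp [ofGL, MonoidAlgebra.liftGroupLikeBialgHom, Algebra.smul_def]

end ofGL

section isocrit
variable {T T' : Type*} [CommRing T] [CommRing T'] [Algebra T T']
  {M N : Type*} [CommMonoid M] [CommMonoid N]

/-- a bialgebra map between group algebras which is bijective modulo a nil ideal is bijective -/
theorem iso_crit (hsurj : Function.Surjective (algebraMap T T'))
    (hnil : ∀ x ∈ RingHom.ker (algebraMap T T'), IsNilpotent x)
    (Ψ : MonoidAlgebra T M →ₐc[T] MonoidAlgebra T N)
    (Ψ' : MonoidAlgebra T' M →ₐ[T'] MonoidAlgebra T' N) (hΨ' : Function.Bijective Ψ')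
    (hgl : ∀ y, IsGroupLikeElem T' (Ψ' y) → IsGroupLikeElem T' y)
    (hcomm : ∀ x, rho T T' N (Ψ x) = Ψ' (rho T T' M x)) : Function.Bijective Ψ := by
  -- group-like preimages mod the ideal
  have hex : ∀ n : N, ∃ z : MonoidAlgebra T M, IsGroupLikeElem T z ∧
      Ψ' (rho T T' M z) = MonoidAlgebra.single n 1 := by
    intro n
    obtain ⟨ybar, hybar⟩ := hΨ'.2 (MonoidAlgebra.single n (1 : T'))
    have hgy : IsGroupLikeElem T' ybar := by
      apply hgl
      rw [hybar]
      exact MonoidAlgebra.isGroupLikeElem_single_one (R := T') (A := T') n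
    obtain ⟨z, hz, hzy⟩ := exists_lift_groupLike hsurj hnil hgy
    exact ⟨z, hz, by rw [hzy, hybar]⟩
  choose z hz hzΨ using hex
  have huniq : ∀ (n : N) (w : MonoidAlgebra T M), IsGroupLikeElem T w →
      Ψ' (rho T T' M w) = MonoidAlgebra.single n 1 → w = z n := by
    intro n w hw hwΨ
    apply groupLike_eq_of_rho_eq hnil hw (hz n)
    apply hΨ'.1
    rw [hwΨ, hzΨ]
  have hone : z 1 = 1 := by
    symm
    apply huniq 1 1 (IsGroupLikeElem.one)
    rw [map_one, map_one, MonoidAlgebra.one_def]
  have hmul : ∀ n n', z (n * n') = z n * z n' := by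
    intro n n'
    symm
    apply huniq _ _ ((hz n).mul (hz n'))
    rw [map_mul, map_mul, hzΨ, hzΨ, MonoidAlgebra.single_mul_single, mul_one]
  let Φ : MonoidAlgebra T N →ₐc[T] MonoidAlgebra T M := ofGL z hz hone hmul
  have hΦ : ∀ n, Φ (MonoidAlgebra.single n 1) = z n := by
    intro n; simp [Φ]
  -- Ψ ∘ Φ = id
  have h1 : ∀ n, Ψ (Φ (MonoidAlgebra.single n 1)) = MonoidAlgebra.single n 1 := by
    intro n
    rw [hΦ]
    apply groupLike_eq_of_rho_eq hnil ((hz n).map Ψ)
      (MonoidAlgebra.isGroupLikeElem_single_one (R := T) (A := T) n)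
    rw [hcomm, hzΨ, rho_single, map_one]
  -- Φ ∘ Ψ = id
  have h2 : ∀ m, Φ (Ψ (MonoidAlgebra.single m 1)) = MonoidAlgebra.single m 1 := by
    intro m
    have hgm : IsGroupLikeElem T (MonoidAlgebra.single m (1 : T)) :=
      MonoidAlgebra.isGroupLikeElem_single_one (R := T) (A := T) m
    apply groupLike_eq_of_rho_eq hnil ((hgm.map Ψ).map Φ) hgm
    apply hΨ'.1
    rw [← hcomm]
    -- Ψ (Φ (Ψ m)) = Ψ m
    have h3 : ∀ x : MonoidAlgebra T N, Ψ (Φ x) = x := by
      intro x
      induction x using MonoidAlgebra.induction_linear with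
      | zero => simp
      | add f g hf hg => simp only [map_add, hf, hg]
      | single n r =>
        have : (MonoidAlgebra.single n r : MonoidAlgebra T N) = r • MonoidAlgebra.single n 1 := by
          simp
        rw [this, map_smul, map_smul, h1]
    rw [h3, hcomm]
  have h3 : ∀ x : MonoidAlgebra T N, Ψ (Φ x) = x := by
    intro x
    induction x using MonoidAlgebra.induction_linear with
    | zero => simp
    | add f g hf hg => simp only [map_add, hf, hg]
    | single n r =>
      have : (MonoidAlgebra.single n r : MonoidAlgebra T N) = r • MonoidAlgebra.single n 1 := by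
        simp
      rw [this, map_smul, map_smul, h1]
  have h4 : ∀ x : MonoidAlgebra T M, Φ (Ψ x) = x := by
    intro x
    induction x using MonoidAlgebra.induction_linear with
    | zero => simp
    | add f g hf hg => simp only [map_add, hf, hg]
    | single m r =>
      have : (MonoidAlgebra.single m r : MonoidAlgebra T M) = r • MonoidAlgebra.single m 1 := by
        simp
      rw [this, map_smul, map_smul, h2]
  exact ⟨fun a b hab => by rw [← h4 a, ← h4 b, hab], fun y => ⟨Φ y, h3 y⟩⟩

end isocrit

end Groth.Agent.Helper2.NilSplit
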