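import Mathlib
import Groth.Prelude.Def_SGA3b
import Groth.Agent.Helper2.NilSplit

set_option autoImplicit false

namespace Groth.Agent.Helper2.NilLift
open TensorProduct Groth.Agent.Helper2.MultTypeSemi Groth.Agent.Helper2.SemiIso
  Groth.Agent.Helper2.GLike Groth.Agent.Helper2.DiagSpan Groth.Agent.Helper2.NilSplit

section basic
variable {B : Type*} [CommRing B] (J : Ideal B)

lemma map_mem_smul_top {X Y : Type*} [AddCommGroup X] [Module B X] [AddCommGroup Y] [Module B Y]
    (φ : X →+ Y) (hφ : ∀ (b : B) (x : X), φ (b • x) = b • φ x) {x : X}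
    (hx : x ∈ J • (⊤ : Submodule B X)) : φ x ∈ J • (⊤ : Submodule B Y) := by
  refine Submodule.smul_induction_on hx ?_ ?_
  · intro r hr n _
    rw [hφ]
    exact Submodule.smul_mem_smul hr trivial
  · intro x y hx hy
    rw [map_add]
    exact add_mem hx hy

lemma map_mem_smul_top' {X Y : Type*} [AddCommGroup X] [Module B X] [AddCommGroup Y] [Module B Y]
    (φ : X →ₗ[B] Y) {x : X}
    (hx : x ∈ J • (⊤ : Submodule B X)) : φ x ∈ J • (⊤ : Submodule B Y) :=
  map_mem_smul_top J φ.toAddMonoidHom (fun b x => map_smul φ b x) hx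

lemma eq_zero_of_mem_smul_top {T' X : Type*} [CommRing T'] [Algebra B T'] [AddCommGroup X]
    [Module B X] [Module T' X] [IsScalarTower B T' X]
    (h : J ≤ RingHom.ker (algebraMap B T')) {x : X} (hx : x ∈ J • (⊤ : Submodule B X)) : x = 0 := by
  refine Submodule.smul_induction_on hx ?_ ?_
  · intro r hr n _
    rw [← algebraMap_smul T' r n, (RingHom.mem_ker).mp (h hr), zero_smul]
  · intro x y hx hy
    rw [hx, hy, add_zero]

lemma isNilpotent_of_mem_smul_top {T : Type*} [CommRing T] [Algebra B T]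
    (hJ : ∀ x ∈ J, IsNilpotent x) {t : T} (ht : t ∈ J • (⊤ : Submodule B T)) : IsNilpotent t := by
  rw [← mem_nilradical]
  refine Submodule.smul_induction_on ht ?_ ?_
  · intro r hr n _
    rw [Algebra.smul_def]
    apply Ideal.mul_mem_right
    rw [mem_nilradical]
    exact (hJ r hr).map (algebraMap B T)
  · intro x y hx hy
    exact add_mem hx hy

lemma isNilpotent_of_mem_map {T : Type*} [CommRing T] [Algebra B T]
    (hJ : ∀ x ∈ J, IsNilpotent x) {t : T} (ht : t ∈ J.map (algebraMap B T)) : IsNilpotent t := by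
  apply isNilpotent_of_mem_smul_top J hJ
  rw [Ideal.smul_top_eq_map]
  exact ht

lemma mem_smul_top_of_mem_map_smul_top {T X : Type*} [CommRing T] [Algebra B T] [AddCommGroup X]
    [Module B X] [Module T X] [IsScalarTower B T X] {x : X}
    (hx : x ∈ (J.map (algebraMap B T)) • (⊤ : Submodule T X)) : x ∈ J • (⊤ : Submodule B X) := by
  have h := Ideal.smul_restrictScalars (M := X) J (⊤ : Submodule T X)
  rw [Submodule.restrictScalars_top] at h
  rw [← h]
  exact hx

end basic

section defs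
variable (B : Type*) [CommRing B] (J : Ideal B)
variable (T : Type*) [CommRing T] [Algebra B T]
variable (D : Type*) [CommRing D] [Bialgebra T D] [Algebra B D] [IsScalarTower B T D]

/-- group-like modulo `J` -/
def IsGLMod (v : D) : Prop :=
  (Coalgebra.comul (R := T) v - v ⊗ₜ[T] v ∈ J • (⊤ : Submodule B (D ⊗[T] D))) ∧
  (Coalgebra.counit (R := T) v - 1 ∈ J • (⊤ : Submodule B T))

/-- uniqueness of group-like lifts -/
def LiftU : Prop := ∀ u u' : D, IsGroupLikeElem T u → IsGroupLikeElem T u' →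
  u - u' ∈ J • (⊤ : Submodule B D) → u = u'

/-- existence of group-like lifts -/
def LiftE : Prop := ∀ v : D, IsGLMod B J T D v →
  ∃ u : D, IsGroupLikeElem T u ∧ u - v ∈ J • (⊤ : Submodule B D)

end defs

section maps
variable {B : Type*} [CommRing B] (J : Ideal B)
variable {T T' : Type*} [CommRing T] [CommRing T'] [Algebra B T] [Algebra B T'] [Algebra T T']
  [IsScalarTower B T T']
variable {D D' : Type*} [CommRing D] [Bialgebra T D] [Algebra B D] [IsScalarTower B T D]
  [CommRing D'] [Bialgebra T' D'] [Algebra B D'] [IsScalarTower B T' D'] [Algebra T D']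
  [IsScalarTower T T' D'] [IsScalarTower B T D']

lemma IsGLMod.map {χ : D →ₐ[T] D'} (hχ : IsSemiCoalg T T' χ) {v : D} (hv : IsGLMod B J T D v) :
    IsGLMod B J T' D' (χ v) := by
  constructor
  · have h1 : Coalgebra.comul (R := T') (χ v) - χ v ⊗ₜ[T'] χ v =
        semiMap T T' χ.toLinearMap (Coalgebra.comul (R := T) v - v ⊗ₜ[T] v) := by
      rw [map_sub, hχ.comul]
      rfl
    rw [h1]
    refine map_mem_smul_top J (semiMap T T' χ.toLinearMap).toAddMonoidHom ?_ hv.1
    intro b x
    show semiMap T T' χ.toLinearMap (b • x) = b • semiMap T T' χ.toLinearMap x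
    rw [← algebraMap_smul T b x, map_smul, algebraMap_smul]
  · have h1 : Coalgebra.counit (R := T') (χ v) - 1 =
        algebraMap T T' (Coalgebra.counit (R := T) v - 1) := by
      rw [map_sub, hχ.counit, map_one]
    rw [h1]
    exact map_mem_smul_top' J (IsScalarTower.toAlgHom B T T').toLinearMap hv.2

end maps

section transfer
variable {B : Type*} [CommRing B] (J : Ideal B)
variable {T : Type*} [CommRing T] [Algebra B T]
variable {D D' : Type*} [CommRing D] [Bialgebra T D] [Algebra B D] [IsScalarTower B T D]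
  [CommRing D'] [Bialgebra T D'] [Algebra B D'] [IsScalarTower B T D']

lemma semiMap_injective_of_bijective {φ : D →ₐ[T] D'} (hb : Function.Bijective φ) :
    Function.Injective (semiMap T T φ.toLinearMap) := by
  let e : D ≃ₗ[T] D' := LinearEquiv.ofBijective φ.toLinearMap hb
  have h : semiMap T T φ.toLinearMap = (TensorProduct.congr e e).toLinearMap := by
    apply TensorProduct.ext'
    intro x y
    rfl
  rw [h]
  exact (TensorProduct.congr e e).injective

lemma isGroupLikeElem_of_map {φ : D →ₐ[T] D'} (hφ : IsSemiCoalg T T φ)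
    (hb : Function.Bijective φ) {u : D} (hu : IsGroupLikeElem T (φ u)) : IsGroupLikeElem T u := by
  constructor
  · have := hu.counit_eq_one
    rw [hφ.counit] at this
    exact this
  · apply semiMap_injective_of_bijective hb
    rw [← hφ.comul, hu.comul_eq_tmul_self]
    rfl

lemma smul_compat (φ : D →ₐ[T] D') (b : B) (x : D) : φ (b • x) = b • φ x := by
  rw [← algebraMap_smul T b x, map_smul, algebraMap_smul]

lemma LiftU.transfer {φ : D →ₐ[T] D'} (hφ : IsSemiCoalg T T φ) (hb : Function.Bijective φ)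
    (h : LiftU B J T D') : LiftU B J T D := by
  intro u u' hu hu' hd
  apply hb.1
  apply h _ _ (isGroupLikeElem_of_isSemiCoalg T T hφ hu) (isGroupLikeElem_of_isSemiCoalg T T hφ hu')
  rw [← map_sub]
  exact map_mem_smul_top J (φ : D →+ D') (smul_compat φ) hd

lemma LiftE.transfer {φ : D →ₐ[T] D'} (hφ : IsSemiCoalg T T φ) (hb : Function.Bijective φ)
    (h : LiftE B J T D') : LiftE B J T D := by
  intro v hv
  obtain ⟨u', hu', hd⟩ := h (φ v) (hv.map J hφ)
  obtain ⟨u, rfl⟩ := hb.2 u'
  refine ⟨u, isGroupLikeElem_of_map hφ hb hu', ?_⟩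
  let ψ : D' ≃ₐ[T] D := (AlgEquiv.ofBijective φ hb).symm
  have h1 : u - v = ψ (φ u - φ v) := by
    rw [map_sub]
    show u - v = (AlgEquiv.ofBijective φ hb).symm ((AlgEquiv.ofBijective φ hb) u) -
      (AlgEquiv.ofBijective φ hb).symm ((AlgEquiv.ofBijective φ hb) v)
    rw [AlgEquiv.symm_apply_apply, AlgEquiv.symm_apply_apply]
  rw [h1]
  exact map_mem_smul_top J ((ψ : D' →ₐ[T] D) : D' →+ D) (smul_compat (ψ : D' →ₐ[T] D)) hd

end transfer

section split
variable {B : Type*} [CommRing B] (J : Ideal B) (hJ : ∀ x ∈ J, IsNilpotent x)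
variable (T : Type*) [CommRing T] [Algebra B T] (N : Type*) [CommMonoid N]

include hJ in
theorem liftU_monoidAlgebra : LiftU B J T (MonoidAlgebra T N) := by
  intro u u' hu hu' hd
  apply MonoidAlgebra.coeff_injective
  ext n
  apply eq_of_isNilpotent_sub_of_isIdempotentElem (coeff_idem hu n) (coeff_idem hu' n)
  apply isNilpotent_of_mem_smul_top J hJ
  have := map_mem_smul_top J ((cf (R' := T) n : MonoidAlgebra T N →ₗ[T] T) : MonoidAlgebra T N →+ T)
    (fun b x => by
      show cf n (b • x) = b • cf n x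
      rw [← algebraMap_smul T b x, map_smul, algebraMap_smul]) hd
  simpa using this

include hJ in
theorem liftE_monoidAlgebra : LiftE B J T (MonoidAlgebra T N) := by
  intro v hv
  set 𝔧 : Ideal T := J.map (algebraMap B T) with h𝔧
  have hker : RingHom.ker (algebraMap T (T ⧸ 𝔧)) = 𝔧 := by
    rw [Ideal.Quotient.algebraMap_eq, Ideal.mk_ker]
  have hsurj : Function.Surjective (algebraMap T (T ⧸ 𝔧)) := by
    rw [Ideal.Quotient.algebraMap_eq]
    exact Ideal.Quotient.mk_surjective
  have hnil : ∀ x ∈ RingHom.ker (algebraMap T (T ⧸ 𝔧)), IsNilpotent x := by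
    intro x hx
    rw [hker] at hx
    exact isNilpotent_of_mem_map J hJ hx
  have hJle : J ≤ RingHom.ker (algebraMap B (T ⧸ 𝔧)) := by
    intro b hb
    rw [RingHom.mem_ker, IsScalarTower.algebraMap_apply B T (T ⧸ 𝔧), Ideal.Quotient.algebraMap_eq,
      Ideal.Quotient.eq_zero_iff_mem]
    exact Ideal.mem_map_of_mem _ hb
  have hv' := hv.map J (isSemiCoalg_rho T (T ⧸ 𝔧) N)
  have hgl : IsGroupLikeElem (T ⧸ 𝔧) (rho T (T ⧸ 𝔧) N v) := by
    constructor
    · exact sub_eq_zero.mp (eq_zero_of_mem_smul_top J hJle hv'.2)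
    · exact sub_eq_zero.mp (eq_zero_of_mem_smul_top (T' := T ⧸ 𝔧) J hJle hv'.1)
  obtain ⟨y, hy, hyv⟩ := exists_lift_groupLike hsurj hnil hgl
  refine ⟨y, hy, ?_⟩
  have h0 : rho T (T ⧸ 𝔧) N (y - v) = 0 := by rw [map_sub, hyv, sub_self]
  have h1 := (isSemiIso_rho T (T ⧸ 𝔧) N).mem_of_eq_zero T (T ⧸ 𝔧) hsurj (y - v) h0
  rw [hker] at h1
  exact mem_smul_top_of_mem_map_smul_top J h1

end split

section chart
variable {B : Type*} [CommRing B] (J : Ideal B) (hJ : ∀ x ∈ J, IsNilpotent x)
variable {H : Type*} [CommRing H] [Bialgebra B H]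
variable {T : Type*} [CommRing T] [Algebra B T] {N : Type*} [CommMonoid N]

lemma liftMap_bijective {χ : H →ₐ[B] MonoidAlgebra T N} (hχ : IsSemiIso B T χ) :
    Function.Bijective (liftMap B T χ) := by
  have h : (liftMap B T χ).toLinearMap = LinearMap.liftBaseChange T χ.toLinearMap := by
    apply TensorProduct.AlgebraTensorModule.ext
    intro t h
    simp
  have h2 : ⇑(liftMap B T χ) = ⇑(LinearMap.liftBaseChange T χ.toLinearMap) := by
    rw [← h]; rfl
  rw [h2]
  exact hχ.2

include hJ in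
theorem liftU_of_chart {χ : H →ₐ[B] MonoidAlgebra T N} (hχ : IsSemiIso B T χ) :
    LiftU B J T (T ⊗[B] H) :=
  (liftU_monoidAlgebra J hJ T N).transfer J (isSemiCoalg_liftMap B T T hχ.1) (liftMap_bijective hχ)

include hJ in
theorem liftE_of_chart {χ : H →ₐ[B] MonoidAlgebra T N} (hχ : IsSemiIso B T χ) :
    LiftE B J T (T ⊗[B] H) :=
  (liftE_monoidAlgebra J hJ T N).transfer J (isSemiCoalg_liftMap B T T hχ.1) (liftMap_bijective hχ)

variable {T₂ : Type*} [CommRing T₂] [Algebra B T₂] [Algebra T T₂] [IsScalarTower B T T₂]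

/-- base change of a chart -/
lemma isSemiIso_rho_comp {χ : H →ₐ[B] MonoidAlgebra T N} (hχ : IsSemiIso B T χ) :
    IsSemiIso B T₂ (((rho T T₂ N).restrictScalars B).comp χ) :=
  hχ.comp B T T₂ (isSemiIso_rho T T₂ N)

include hJ in
theorem liftU_of_chart_algebra {χ : H →ₐ[B] MonoidAlgebra T N} (hχ : IsSemiIso B T χ) :
    LiftU B J T₂ (T₂ ⊗[B] H) :=
  liftU_of_chart J hJ (isSemiIso_rho_comp (T₂ := T₂) hχ)

include hJ in
theorem liftE_of_chart_algebra {χ : H →ₐ[B] MonoidAlgebra T N} (hχ : IsSemiIso B T χ) :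
    LiftE B J T₂ (T₂ ⊗[B] H) :=
  liftE_of_chart J hJ (isSemiIso_rho_comp (T₂ := T₂) hχ)

end chart

end Groth.Agent.Helper2.NilLift
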