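import Mathlib
import Groth.Prelude.Def_SGA3b
import Groth.Agent.Helper2.NilLift
import Groth.Agent.Helper2.FamDesc

set_option autoImplicit false

namespace Groth.Agent.Helper2.NilGlobal
open TensorProduct Groth.Agent.Helper2.MultTypeSemi Groth.Agent.Helper2.SemiIso
  Groth.Agent.Helper2.GLike Groth.Agent.Helper2.DiagSpan Groth.Agent.Helper2.NilSplit
  Groth.Agent.Helper2.NilLift Groth.Agent.Helper2.FamDesc

section glue
variable {B : Type*} [CommRing B] (J : Ideal B)
variable {H : Type*} [CommRing H] [Bialgebra B H]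
variable {T₁ T₂ T₃ : Type*} [CommRing T₁] [CommRing T₂] [CommRing T₃] [Algebra B T₁] [Algebra B T₂]
  [Algebra B T₃] [Algebra T₁ T₃] [Algebra T₂ T₃] [IsScalarTower B T₁ T₃] [IsScalarTower B T₂ T₃]

lemma bcMap_mem (T₁ T₃ : Type*) [CommRing T₁] [CommRing T₃] [Algebra B T₁]
    [Algebra B T₃] [Algebra T₁ T₃] [IsScalarTower B T₁ T₃] {x : T₁ ⊗[B] H}
    (hx : x ∈ J • (⊤ : Submodule B (T₁ ⊗[B] H))) :
    bcMap B T₁ T₃ (BialgHom.id B H) x ∈ J • (⊤ : Submodule B (T₃ ⊗[B] H)) := by
  refine map_mem_smul_top J ((bcMap B T₁ T₃ (BialgHom.id B H) : T₁ ⊗[B] H →ₐ[T₁] T₃ ⊗[B] H) :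
    T₁ ⊗[B] H →+ T₃ ⊗[B] H) ?_ hx
  intro b x
  show bcMap B T₁ T₃ (BialgHom.id B H) (b • x) = b • bcMap B T₁ T₃ (BialgHom.id B H) x
  rw [← algebraMap_smul T₁ b x, map_smul, algebraMap_smul]

lemma glue_aux (hU : LiftU B J T₃ (T₃ ⊗[B] H)) (v : H) {u₁ : T₁ ⊗[B] H} {u₂ : T₂ ⊗[B] H}
    (h₁ : IsGroupLikeElem T₁ u₁) (h₂ : IsGroupLikeElem T₂ u₂)
    (hd₁ : u₁ - 1 ⊗ₜ[B] v ∈ J • (⊤ : Submodule B (T₁ ⊗[B] H)))
    (hd₂ : u₂ - 1 ⊗ₜ[B] v ∈ J • (⊤ : Submodule B (T₂ ⊗[B] H))) :
    bcMap B T₁ T₃ (BialgHom.id B H) u₁ = bcMap B T₂ T₃ (BialgHom.id B H) u₂ := by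
  apply hU _ _ (isGroupLikeElem_of_isSemiCoalg T₁ T₃ (isSemiCoalg_bcMap B T₁ T₃ _) h₁)
    (isGroupLikeElem_of_isSemiCoalg T₂ T₃ (isSemiCoalg_bcMap B T₂ T₃ _) h₂)
  have e₁ := bcMap_mem J T₁ T₃ hd₁
  have e₂ := bcMap_mem J T₂ T₃ hd₂
  rw [map_sub] at e₁ e₂
  have h1 : bcMap B T₁ T₃ (BialgHom.id B H) ((1 : T₁) ⊗ₜ[B] v) = (1 : T₃) ⊗ₜ[B] v := by simp
  have h2 : bcMap B T₂ T₃ (BialgHom.id B H) ((1 : T₂) ⊗ₜ[B] v) = (1 : T₃) ⊗ₜ[B] v := by simp
  rw [h1] at e₁
  rw [h2] at e₂
  have := sub_mem e₁ e₂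
  rwa [sub_sub_sub_cancel_right] at this

end glue

section incl
variable {B : Type*} [CommRing B] (T : Type*) [CommRing T] [Algebra B T]
variable (H : Type*) [CommRing H] [Bialgebra B H]

lemma semiMap_includeRight_eq :
    semiMap B T (Algebra.TensorProduct.includeRight : H →ₐ[B] T ⊗[B] H).toLinearMap =
      ((TensorProduct.AlgebraTensorModule.distribBaseChange B T H H).restrictScalars B).toLinearMap ∘ₗ
        TensorProduct.mk B T (H ⊗[B] H) 1 := by
  ext x y
  simp

lemma tmul_eq_zero_of_semiMap_eq_zero (x : H ⊗[B] H)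
    (h : semiMap B T (Algebra.TensorProduct.includeRight : H →ₐ[B] T ⊗[B] H).toLinearMap x = 0) :
    (1 : T) ⊗ₜ[B] x = 0 := by
  rw [semiMap_includeRight_eq] at h
  apply ((TensorProduct.AlgebraTensorModule.distribBaseChange B T H H).restrictScalars B).injective
  rw [map_zero]
  exact h

lemma one_tmul_eq_zero_of_algebraMap_eq_zero (b : B) (h : algebraMap B T b = 0) :
    (1 : T) ⊗ₜ[B] b = 0 := by
  have : (1 : T) ⊗ₜ[B] b = (algebraMap B T b) ⊗ₜ[B] (1 : B) := by
    rw [Algebra.algebraMap_eq_smul_one, TensorProduct.smul_tmul, smul_eq_mul, mul_one]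
  rw [this, h, TensorProduct.zero_tmul]

end incl

section quot
variable {B : Type*} [CommRing B] (J : Ideal B) (T : Type*) [CommRing T] [Algebra B T]
variable (H : Type*) [AddCommGroup H] [Module B H]

/-- membership in `J • ⊤` can be tested after tensoring -/
lemma lTensor_mkQ_eq_zero {z : T ⊗[B] H} (hz : z ∈ J • (⊤ : Submodule B (T ⊗[B] H))) :
    (Submodule.mkQ (J • (⊤ : Submodule B H))).lTensor T z = 0 := by
  refine Submodule.smul_induction_on hz ?_ ?_
  · intro j hj w _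
    rw [map_smul]
    generalize (Submodule.mkQ (J • (⊤ : Submodule B H))).lTensor T w = y
    induction y using TensorProduct.induction_on with
    | zero => simp
    | add a b ha hb => rw [smul_add, ha, hb, add_zero]
    | tmul t x =>
      rw [TensorProduct.smul_tmul', TensorProduct.smul_tmul]
      obtain ⟨h, rfl⟩ := Submodule.mkQ_surjective _ x
      rw [← map_smul, Submodule.mkQ_apply,
        (Submodule.Quotient.mk_eq_zero _).mpr (Submodule.smul_mem_smul hj Submodule.mem_top),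
        TensorProduct.tmul_zero]
  · intro x y hx hy
    rw [map_add, hx, hy, add_zero]

end quot

section global
universe u
variable {B : Type u} [CommRing B] (J : Ideal B) (hJ : ∀ x ∈ J, IsNilpotent x)
variable {H : Type u} [CommRing H] [Bialgebra B H]
variable {F : Type u} [Fintype F] [DecidableEq F] (T : F → Type u) [∀ f, CommRing (T f)]
  [∀ f, Algebra B (T f)] [Module.FaithfullyFlat B (Π f, T f)]
  (N : F → Type u) [∀ f, CommMonoid (N f)]
  (θ : ∀ f, H →ₐ[B] MonoidAlgebra (T f) (N f)) (hθ : ∀ f, IsSemiIso B (T f) (θ f))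

include hJ hθ in
theorem liftU_global : LiftU B J B H := by
  intro u u' hu hu' hd
  rw [← sub_eq_zero]
  apply joint_inj (B := B) T H
  intro f
  have hU := liftU_of_chart J hJ (hθ f)
  have h1 := hU ((1 : T f) ⊗ₜ[B] u) ((1 : T f) ⊗ₜ[B] u')
    (isGroupLikeElem_of_isSemiCoalg B (T f) (isSemiCoalg_includeRight B (T f) H) hu)
    (isGroupLikeElem_of_isSemiCoalg B (T f) (isSemiCoalg_includeRight B (T f) H) hu')
    (by
      rw [← TensorProduct.tmul_sub]
      exact map_mem_smul_top' J (TensorProduct.mk B (T f) H 1) hd)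
  rw [TensorProduct.tmul_sub, h1, sub_self]

include hJ hθ in
theorem liftE_global : LiftE B J B H := by
  intro v hv
  have hvf : ∀ f, IsGLMod B J (T f) (T f ⊗[B] H) ((1 : T f) ⊗ₜ[B] v) := fun f =>
    hv.map J (isSemiCoalg_includeRight B (T f) H)
  choose u hu hud using fun f => liftE_of_chart J hJ (hθ f) _ (hvf f)
  -- compatibility
  have hcompat : ∀ f f',
      (Algebra.TensorProduct.includeLeft : T f →ₐ[B] T f ⊗[B] T f').toLinearMap.rTensor H (u f) =
      (Algebra.TensorProduct.includeRight : T f' →ₐ[B] T f ⊗[B] T f').toLinearMap.rTensor H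
        (u f') := by
    intro f f'
    letI : Algebra (T f') (T f ⊗[B] T f') := Algebra.TensorProduct.rightAlgebra
    haveI : IsScalarTower B (T f') (T f ⊗[B] T f') :=
      IsScalarTower.of_algebraMap_eq fun r =>
        (Algebra.TensorProduct.includeRight.commutes r).symm
    have hU : LiftU B J (T f ⊗[B] T f') ((T f ⊗[B] T f') ⊗[B] H) :=
      liftU_of_chart_algebra J hJ (T₂ := T f ⊗[B] T f') (hθ f)
    have key := glue_aux J (T₁ := T f) (T₂ := T f') (T₃ := T f ⊗[B] T f') hU v (hu f) (hu f')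
      (hud f) (hud f')
    have e1 : ∀ x : T f ⊗[B] H, bcMap B (T f) (T f ⊗[B] T f') (BialgHom.id B H) x =
        (Algebra.TensorProduct.includeLeft : T f →ₐ[B] T f ⊗[B] T f').toLinearMap.rTensor H x := by
      intro x
      induction x using TensorProduct.induction_on with
      | zero => simp
      | add a b ha hb => simp only [map_add, ha, hb]
      | tmul t h => simp [Algebra.TensorProduct.algebraMap_apply]
    have e2 : ∀ x : T f' ⊗[B] H, bcMap B (T f') (T f ⊗[B] T f') (BialgHom.id B H) x =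
        (Algebra.TensorProduct.includeRight : T f' →ₐ[B] T f ⊗[B] T f').toLinearMap.rTensor H
          x := by
      intro x
      induction x using TensorProduct.induction_on with
      | zero => simp
      | add a b ha hb => simp only [map_add, ha, hb]
      | tmul t h => rfl
    rw [← e1, ← e2]
    exact key
  obtain ⟨g, hg⟩ := fam_descent T H u hcompat
  refine ⟨g, ⟨?_, ?_⟩, ?_⟩
  · -- counit
    rw [← sub_eq_zero]
    apply joint_inj (B := B) T B
    intro f
    apply one_tmul_eq_zero_of_algebraMap_eq_zero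
    rw [map_sub, map_one, sub_eq_zero, ← (isSemiCoalg_includeRight B (T f) H).counit g]
    show Coalgebra.counit (R := T f) ((1 : T f) ⊗ₜ[B] g) = 1
    rw [hg f]
    exact (hu f).counit_eq_one
  · -- comul
    rw [← sub_eq_zero]
    apply joint_inj (B := B) T (H ⊗[B] H)
    intro f
    apply tmul_eq_zero_of_semiMap_eq_zero
    rw [map_sub, ← (isSemiCoalg_includeRight B (T f) H).comul g, sub_eq_zero]
    show Coalgebra.comul (R := T f) ((1 : T f) ⊗ₜ[B] g) = ((1 : T f) ⊗ₜ[B] g) ⊗ₜ[T f] ((1 : T f) ⊗ₜ[B] g)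
    rw [hg f]
    exact (hu f).comul_eq_tmul_self
  · -- congruence
    rw [← Submodule.Quotient.mk_eq_zero, ← Submodule.mkQ_apply]
    apply joint_inj (B := B) T (H ⧸ J • (⊤ : Submodule B H))
    intro f
    have := lTensor_mkQ_eq_zero J (T f) H (hud f)
    rw [← hg f, ← TensorProduct.tmul_sub] at this
    simpa using this

end global

end Groth.Agent.Helper2.NilGlobal
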