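import Mathlib
import Groth.Prelude.Def_SGA3b
import Groth.Agent.Helper2.NilGlobal
import Groth.Agent.Helper1.SchAff1

set_option autoImplicit false

namespace Groth.Agent.Helper2.DefLemNil
open TensorProduct Groth.Agent.Helper2.MultTypeSemi Groth.Agent.Helper2.SemiIso
  Groth.Agent.Helper2.GLike Groth.Agent.Helper2.DiagSpan Groth.Agent.Helper2.NilSplit
  Groth.Agent.Helper2.NilLift Groth.Agent.Helper2.FamDesc Groth.Agent.Helper2.NilGlobal

section semi2
variable (R S : Type*) [CommRing R] [CommRing S] [Algebra R S]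
variable {A D : Type*} [CommRing A] [Bialgebra R A] [CommRing D] [Bialgebra S D]
  [Algebra R D] [IsScalarTower R S D]

lemma liftBaseChange_semiMap_bijective {χ : A →ₐ[R] D} (h : IsSemiIso R S χ) :
    Function.Bijective (LinearMap.liftBaseChange S (semiMap R S χ.toLinearMap)) := by
  let e : S ⊗[R] A ≃ₗ[S] D := LinearEquiv.ofBijective _ h.2
  have he : ∀ (s : S) (a : A), e (s ⊗ₜ[R] a) = s • χ a := fun s a => by simp [e]
  have key : LinearMap.liftBaseChange S (semiMap R S χ.toLinearMap) =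
      (TensorProduct.congr e e).toLinearMap ∘ₗ
        (TensorProduct.AlgebraTensorModule.distribBaseChange R S A A).toLinearMap := by
    apply LinearMap.ext
    intro z
    induction z using TensorProduct.induction_on with
    | zero => simp
    | add x y hx hy => rw [map_add, map_add, hx, hy]
    | tmul s x =>
      induction x using TensorProduct.induction_on with
      | zero => simp
      | add x y hx hy => rw [TensorProduct.tmul_add, map_add, map_add, hx, hy]
      | tmul a a' =>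
        simp only [LinearMap.liftBaseChange_tmul, semiMap_tmul, AlgHom.toLinearMap_apply,
          LinearMap.comp_apply, LinearEquiv.coe_coe,
          TensorProduct.AlgebraTensorModule.distribBaseChange_tmul, TensorProduct.congr_tmul, he,
          one_smul, TensorProduct.smul_tmul']
  rw [key]
  exact (TensorProduct.congr e e).bijective.comp
    (TensorProduct.AlgebraTensorModule.distribBaseChange R S A A).bijective

lemma mem_of_semiMap_eq_zero {χ : A →ₐ[R] D} (h : IsSemiIso R S χ)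
    (hs : Function.Surjective (algebraMap R S)) (x : A ⊗[R] A)
    (hx : semiMap R S χ.toLinearMap x = 0) :
    x ∈ (RingHom.ker (algebraMap R S)) • (⊤ : Submodule R (A ⊗[R] A)) := by
  apply mem_smul_top_of_tmul_eq_zero R S hs
  apply (liftBaseChange_semiMap_bijective R S h).1
  simp [hx]

end semi2

section local_
variable {B : Type*} [CommRing B] (J : Ideal B) (hJ : ∀ x ∈ J, IsNilpotent x)
variable {H : Type*} [CommRing H] [Bialgebra B H]
variable {T : Type*} [CommRing T] [Algebra B T] {N : Type*} [CommMonoid N]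
variable {M : Type*} [CommMonoid M]

include hJ in
lemma local_bij {θ : H →ₐ[B] MonoidAlgebra T N} (hθ : IsSemiIso B T θ)
    {θ₀ : H →ₐ[B] MonoidAlgebra (B ⧸ J) M} (hθ₀ : IsSemiIso B (B ⧸ J) θ₀)
    (ψ : MonoidAlgebra B M →ₐc[B] H)
    (hψ : ∀ m, θ₀ (ψ (MonoidAlgebra.single m 1)) = MonoidAlgebra.single m 1) :
    Function.Bijective ((ψ : MonoidAlgebra B M →ₗ[B] H).lTensor T) := by
  -- the group-like elements
  have hg : ∀ m, IsGroupLikeElem B (ψ (MonoidAlgebra.single m (1 : B))) := fun m =>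
    (MonoidAlgebra.isGroupLikeElem_single_one (R := B) (A := B) m).map ψ
  have hg' : ∀ m, IsGroupLikeElem T (θ (ψ (MonoidAlgebra.single m (1 : B)))) := fun m =>
    isGroupLikeElem_of_isSemiCoalg B T hθ.1 (hg m)
  let Ψ : MonoidAlgebra T M →ₐc[T] MonoidAlgebra T N :=
    ofGL (fun m => θ (ψ (MonoidAlgebra.single m (1 : B)))) hg'
      (by rw [← MonoidAlgebra.one_def, map_one, map_one])
      (fun m n => by
        rw [← map_mul, ← map_mul, MonoidAlgebra.single_mul_single, mul_one])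
  have hΨ : ∀ x : MonoidAlgebra B M, Ψ (rho B T M x) = θ (ψ x) := by
    intro x
    induction x using MonoidAlgebra.induction_linear with
    | zero => simp
    | add f g hf hg => simp only [map_add, hf, hg]
    | single m b =>
      have : (MonoidAlgebra.single m b : MonoidAlgebra B M) = b • MonoidAlgebra.single m 1 := by
        simp
      rw [rho_single, ofGL_single, this, map_smul, map_smul, algebraMap_smul]
  -- reduction
  set 𝔧 : Ideal T := J.map (algebraMap B T) with h𝔧
  have hker : RingHom.ker (algebraMap T (T ⧸ 𝔧)) = 𝔧 := by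
    rw [Ideal.Quotient.algebraMap_eq, Ideal.mk_ker]
  have hsurj : Function.Surjective (algebraMap T (T ⧸ 𝔧)) := by
    rw [Ideal.Quotient.algebraMap_eq]
    exact Ideal.Quotient.mk_surjective
  have hnil : ∀ x ∈ RingHom.ker (algebraMap T (T ⧸ 𝔧)), IsNilpotent x := by
    intro x hx
    rw [hker] at hx
    exact isNilpotent_of_mem_map J hJ hx
  have h₁ : IsSemiIso B (T ⧸ 𝔧) (((rho T (T ⧸ 𝔧) N).restrictScalars B).comp θ) :=
    isSemiIso_rho_comp (T₂ := T ⧸ 𝔧) hθ
  have h₂ : IsSemiIso B (T ⧸ 𝔧) (((rho (B ⧸ J) (T ⧸ 𝔧) M).restrictScalars B).comp θ₀) :=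
    isSemiIso_rho_comp (T₂ := T ⧸ 𝔧) hθ₀
  set L₁ := liftMap B (T ⧸ 𝔧) (((rho T (T ⧸ 𝔧) N).restrictScalars B).comp θ) with hL₁
  set L₂ := liftMap B (T ⧸ 𝔧) (((rho (B ⧸ J) (T ⧸ 𝔧) M).restrictScalars B).comp θ₀) with hL₂
  have hb₁ : Function.Bijective L₁ := liftMap_bijective h₁
  have hb₂ : Function.Bijective L₂ := liftMap_bijective h₂
  have hc₁ : IsSemiCoalg (T ⧸ 𝔧) (T ⧸ 𝔧) L₁ := isSemiCoalg_liftMap B (T ⧸ 𝔧) (T ⧸ 𝔧) h₁.1
  have hc₂ : IsSemiCoalg (T ⧸ 𝔧) (T ⧸ 𝔧) L₂ := isSemiCoalg_liftMap B (T ⧸ 𝔧) (T ⧸ 𝔧) h₂.1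
  let E₂ : ((T ⧸ 𝔧) ⊗[B] H) ≃ₐ[T ⧸ 𝔧] MonoidAlgebra (T ⧸ 𝔧) M := AlgEquiv.ofBijective L₂ hb₂
  let Ψ' : MonoidAlgebra (T ⧸ 𝔧) M →ₐ[T ⧸ 𝔧] MonoidAlgebra (T ⧸ 𝔧) N :=
    L₁.comp (E₂.symm : MonoidAlgebra (T ⧸ 𝔧) M →ₐ[T ⧸ 𝔧] ((T ⧸ 𝔧) ⊗[B] H))
  have hΨ'b : Function.Bijective Ψ' := hb₁.comp E₂.symm.bijective
  have hΨ'L : ∀ w, Ψ' (L₂ w) = L₁ w := by
    intro w
    show L₁ (E₂.symm (E₂ w)) = L₁ w
    rw [AlgEquiv.symm_apply_apply]
  have hgl : ∀ y, IsGroupLikeElem (T ⧸ 𝔧) (Ψ' y) → IsGroupLikeElem (T ⧸ 𝔧) y := by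
    intro y hy
    obtain ⟨w, rfl⟩ := hb₂.2 y
    rw [hΨ'L] at hy
    exact isGroupLikeElem_of_isSemiCoalg _ _ hc₂ (isGroupLikeElem_of_map hc₁ hb₁ hy)
  have hcomm : ∀ x, rho T (T ⧸ 𝔧) N (Ψ x) = Ψ' (rho T (T ⧸ 𝔧) M x) := by
    intro x
    induction x using MonoidAlgebra.induction_linear with
    | zero => simp
    | add f g hf hg => simp only [map_add, hf, hg]
    | single m t =>
      have e1 : (MonoidAlgebra.single m (algebraMap T (T ⧸ 𝔧) t) : MonoidAlgebra (T ⧸ 𝔧) M) =
          L₂ ((algebraMap T (T ⧸ 𝔧) t) ⊗ₜ[B] ψ (MonoidAlgebra.single m 1)) := by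
        rw [hL₂, liftMap_tmul]
        simp only [AlgHom.comp_apply, AlgHom.restrictScalars_apply]
        rw [hψ, rho_single, map_one]
        simp
      rw [rho_single, e1, hΨ'L, hL₁, liftMap_tmul, ofGL_single, map_smul]
      simp only [AlgHom.comp_apply, AlgHom.restrictScalars_apply]
      rw [algebraMap_smul]
  have hΨb : Function.Bijective Ψ := iso_crit hsurj hnil Ψ Ψ' hΨ'b hgl hcomm
  -- conclusion
  have hcomp : ∀ z, LinearMap.liftBaseChange T θ.toLinearMap
      ((ψ : MonoidAlgebra B M →ₗ[B] H).lTensor T z) =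
      Ψ (LinearMap.liftBaseChange T (rho B T M).toLinearMap z) := by
    intro z
    induction z using TensorProduct.induction_on with
    | zero => simp
    | add x y hx hy => simp only [map_add, hx, hy]
    | tmul t x =>
      simp only [LinearMap.lTensor_tmul, LinearMap.liftBaseChange_tmul, AlgHom.toLinearMap_apply,
        map_smul, hΨ]
      rfl
  have h3 : Function.Bijective ((LinearMap.liftBaseChange T θ.toLinearMap) ∘
      ((ψ : MonoidAlgebra B M →ₗ[B] H).lTensor T)) := by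
    have : (LinearMap.liftBaseChange T θ.toLinearMap) ∘
        ((ψ : MonoidAlgebra B M →ₗ[B] H).lTensor T) =
        Ψ ∘ (LinearMap.liftBaseChange T (rho B T M).toLinearMap) := funext hcomp
    rw [this]
    exact hΨb.comp (isSemiIso_rho B T M).2
  exact (Function.Bijective.of_comp_iff' hθ.2 _).mp h3

end local_

section main
universe u
variable {B : Type u} [CommRing B] (J : Ideal B) (hJ : ∀ x ∈ J, IsNilpotent x)
variable {H : Type u} [CommRing H] [HopfAlgebra B H]
variable {F : Type u} [Fintype F] [DecidableEq F] (T : F → Type u) [∀ f, CommRing (T f)]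
  [∀ f, Algebra B (T f)] [Module.FaithfullyFlat B (Π f, T f)]
  (N : F → Type u) [∀ f, CommMonoid (N f)]
  (θ : ∀ f, H →ₐ[B] MonoidAlgebra (T f) (N f)) (hθ : ∀ f, IsSemiIso B (T f) (θ f))
  {M : Type u} [CommGroup M] (θ₀ : H →ₐ[B] MonoidAlgebra (B ⧸ J) M)
  (hθ₀ : IsSemiIso B (B ⧸ J) θ₀)

include hJ hθ hθ₀ in
/-- a Hopf algebra with a jointly faithfully flat finite family of diagonalising charts, which is
diagonalisable modulo a nil ideal, is diagonalisable -/
theorem isDiag_of_semiIso_nil : SGA3b.IsDiag B H := by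
  have hs : Function.Surjective (algebraMap B (B ⧸ J)) := Ideal.Quotient.mk_surjective
  have hker : RingHom.ker (algebraMap B (B ⧸ J)) = J := Ideal.mk_ker
  have hJle : J ≤ RingHom.ker (algebraMap B (B ⧸ J)) := hker.ge
  have hU := liftU_global J hJ T N θ hθ
  have hE := liftE_global J hJ T N θ hθ
  have hkill : ∀ x : H, x ∈ J • (⊤ : Submodule B H) → θ₀ x = 0 := by
    intro x hx
    exact eq_zero_of_mem_smul_top J (T' := B ⧸ J) hJle (map_mem_smul_top' J θ₀.toLinearMap hx)
  have hex : ∀ m : M, ∃ g : H, IsGroupLikeElem B g ∧ θ₀ g = MonoidAlgebra.single m 1 := by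
    intro m
    obtain ⟨a, ha⟩ := hθ₀.surjective B (B ⧸ J) hs (MonoidAlgebra.single m 1)
    have hgl : IsGroupLikeElem (B ⧸ J) (θ₀ a) := by
      rw [ha]
      exact MonoidAlgebra.isGroupLikeElem_single_one (R := B ⧸ J) (A := B ⧸ J) m
    have hv : IsGLMod B J B H a := by
      constructor
      · have h0 : semiMap B (B ⧸ J) θ₀.toLinearMap
            (Coalgebra.comul (R := B) a - a ⊗ₜ[B] a) = 0 := by
          rw [map_sub, ← hθ₀.1.comul, hgl.comul_eq_tmul_self, semiMap_tmul]
          exact sub_self _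
        have := mem_of_semiMap_eq_zero B (B ⧸ J) hθ₀ hs _ h0
        rwa [hker] at this
      · have h0 : Coalgebra.counit (R := B) a - 1 ∈ J := by
          rw [← hker, RingHom.mem_ker, map_sub, map_one, ← hθ₀.1.counit, hgl.counit_eq_one,
            sub_self]
        have h1 : J • (⊤ : Submodule B B) = J := by
          rw [smul_eq_mul, ← Ideal.one_eq_top, mul_one]
        rw [h1]
        exact h0
    obtain ⟨g, hg, hd⟩ := hE a hv
    refine ⟨g, hg, ?_⟩
    rw [← ha, ← sub_eq_zero, ← map_sub]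
    exact hkill _ hd
  choose g hg hgθ using hex
  have huniq : ∀ (m : M) (w : H), IsGroupLikeElem B w → θ₀ w = MonoidAlgebra.single m 1 →
      w = g m := by
    intro m w hw hwθ
    apply hU w (g m) hw (hg m)
    have := hθ₀.mem_of_eq_zero B (B ⧸ J) hs (w - g m) (by rw [map_sub, hwθ, hgθ, sub_self])
    rwa [hker] at this
  have hone : g 1 = 1 :=
    (huniq 1 1 IsGroupLikeElem.one (by rw [map_one, MonoidAlgebra.one_def])).symm
  have hmul : ∀ m n, g (m * n) = g m * g n := fun m n =>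
    (huniq _ _ ((hg m).mul (hg n))
      (by rw [map_mul, hgθ, hgθ, MonoidAlgebra.single_mul_single, mul_one])).symm
  let ψ : MonoidAlgebra B M →ₐc[B] H := ofGL g hg hone hmul
  have hψ : ∀ m, θ₀ (ψ (MonoidAlgebra.single m 1)) = MonoidAlgebra.single m 1 := by
    intro m
    simp [ψ, hgθ]
  have hbij : Function.Bijective (ψ : MonoidAlgebra B M →ₗ[B] H) := by
    apply Groth.Agent.Helper1.SchAff.bijective_of_forall_rTensor T
    intro f
    rw [← LinearMap.lTensor_bij_iff_rTensor_bij]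
    exact local_bij J hJ (hθ f) hθ₀ ψ hψ
  exact ⟨M, inferInstance, ⟨(BialgEquiv.ofBijective ψ hbij).symm⟩⟩

end main

end Groth.Agent.Helper2.DefLemNil
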