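import Mathlib

set_option autoImplicit false

namespace Groth.Agent.Helper2.IdemIdealDesc

universe u

/-- descent of finite generation of an ideal along a faithfully flat map -/
lemma fg_of_map_eq_span_singleton {L R' : Type*} [CommRing L] [CommRing R'] [Algebra L R']
    [Module.FaithfullyFlat L R'] (𝔠 : Ideal L) (e : R')
    (h : Ideal.map (algebraMap L R') 𝔠 = Ideal.span {e}) : 𝔠.FG := by
  classical
  have he : e ∈ Ideal.map (algebraMap L R') 𝔠 := by rw [h]; exact Ideal.mem_span_singleton_self e
  obtain ⟨T, hT, heT⟩ := Submodule.mem_span_finite_of_mem_span he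
  obtain ⟨T', hT', rfl⟩ := Finset.subset_set_image_iff.mp hT
  have h1 : Ideal.span (T' : Set L) ≤ 𝔠 := Ideal.span_le.mpr hT'
  have h2 : Ideal.map (algebraMap L R') (Ideal.span (T' : Set L)) = Ideal.map (algebraMap L R') 𝔠 := by
    apply le_antisymm (Ideal.map_mono h1)
    rw [h, Ideal.span_le, Set.singleton_subset_iff, Ideal.map_span]
    simpa using heT
  have h3 := Ideal.map_injective_of_faithfullyFlat (B := R') h2
  rw [← h3]
  exact ⟨T', rfl⟩

/-- an ideal which becomes idempotent-generated on a flat cover is generated by an idempotent -/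
theorem exists_idempotent_generator {R : Type u} [CommRing R] (𝔞 : Ideal R) (s : Set R)
    (hs : Ideal.span s = ⊤)
    (h : ∀ f ∈ s, ∃ (R' : Type u) (_ : CommRing R') (_ : Algebra (Localization.Away f) R'),
      Module.FaithfullyFlat (Localization.Away f) R' ∧ ∃ e : R', IsIdempotentElem e ∧
        Ideal.map (algebraMap (Localization.Away f) R')
          (Ideal.map (algebraMap R (Localization.Away f)) 𝔞) = Ideal.span {e}) :
    ∃ e₀ : R, IsIdempotentElem e₀ ∧ 𝔞 = Ideal.span {e₀} := by
  have hfg : 𝔞.FG := by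
    apply Ideal.fg_of_localizationSpan s hs
    rintro ⟨f, hf⟩
    obtain ⟨R', _, _, hff, e, -, he⟩ := h f hf
    exact fg_of_map_eq_span_singleton _ e he
  have hidem : IsIdempotentElem 𝔞 := by
    apply le_antisymm Ideal.mul_le_right
    intro x hx
    have hloc : ∀ f ∈ s, ∃ k : ℕ, f ^ k * x ∈ 𝔞 * 𝔞 := by
      intro f hf
      obtain ⟨R', _, _, hff, e, hee, he⟩ := h f hf
      have h1 : algebraMap (Localization.Away f) R' (algebraMap R (Localization.Away f) x) ∈
          Ideal.map (algebraMap (Localization.Away f) R')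
            (Ideal.map (algebraMap R (Localization.Away f)) (𝔞 * 𝔞)) := by
        rw [Ideal.map_mul, Ideal.map_mul, he, Ideal.span_singleton_mul_span_singleton, hee.eq, ← he]
        exact Ideal.mem_map_of_mem _ (Ideal.mem_map_of_mem _ hx)
      have h2 : algebraMap R (Localization.Away f) x ∈
          Ideal.map (algebraMap R (Localization.Away f)) (𝔞 * 𝔞) := by
        rw [← Ideal.comap_map_eq_self_of_faithfullyFlat (B := R')
          (Ideal.map (algebraMap R (Localization.Away f)) (𝔞 * 𝔞))]
        exact h1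
      rw [IsLocalization.algebraMap_mem_map_algebraMap_iff (Submonoid.powers f)] at h2
      obtain ⟨m, ⟨k, rfl⟩, hm⟩ := h2
      exact ⟨k, hm⟩
    choose! k hk using hloc
    -- the colon ideal
    let 𝔟 : Ideal R := (𝔞 * 𝔞).colon (Ideal.span {x})
    have h𝔟 : ∀ f ∈ s, f ^ k f ∈ 𝔟 := by
      intro f hf
      rw [Submodule.mem_colon]
      intro y hy
      obtain ⟨c, rfl⟩ := Ideal.mem_span_singleton'.mp hy
      have := Ideal.mul_mem_left _ c (hk f hf)
      rw [smul_eq_mul]
      convert this using 1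
      ring
    have h𝔟top : 𝔟 = ⊤ := by
      by_contra hne
      obtain ⟨𝔪, h𝔪, hle⟩ := Ideal.exists_le_maximal 𝔟 hne
      have : Ideal.span s ≤ 𝔪 := by
        rw [Ideal.span_le]
        intro f hf
        exact h𝔪.isPrime.mem_of_pow_mem _ (hle (h𝔟 f hf))
      rw [hs] at this
      exact h𝔪.ne_top (top_le_iff.mp this)
    have h1 : (1 : R) ∈ 𝔟 := by rw [h𝔟top]; trivial
    rw [Submodule.mem_colon] at h1
    have := h1 x (Ideal.mem_span_singleton_self x)
    simpa using this
  obtain ⟨e₀, he₀, h𝔞⟩ := (Ideal.isIdempotentElem_iff_of_fg 𝔞 hfg).mp hidem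
  exact ⟨e₀, he₀, h𝔞⟩

end Groth.Agent.Helper2.IdemIdealDesc
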