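import Mathlib
import Groth.Prelude.Def_SGA3b
import Groth.Agent.Helper2.GLike
import Groth.Agent.Helper2.IdemIdealDesc
import Groth.Agent.Helper2.DefApp
import Groth.Agent.Helper2.DiagSpan

set_option autoImplicit false

namespace Groth.Agent.Helper2.GLikeLI
open TensorProduct Groth.Agent.Helper2.MultTypeSemi Groth.Agent.Helper2.SemiIso
  Groth.Agent.Helper2.GLike Groth.Agent.Helper2.IdemIdealDesc Groth.Agent.Helper2.DefApp
  Groth.Agent.Helper2.MultTypeChart Groth.Agent.Helper2.DiagSpan

universe u

section chartann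
variable {R : Type*} [CommRing R] {R' : Type*} [CommRing R'] [Algebra R R'] [Module.Flat R R']
variable {Q : Type*} [CommRing Q] [Bialgebra R Q] {N : Type*} [CommMonoid N]

lemma map_ann_eq (θ : Q →ₐ[R] MonoidAlgebra R' N) (hθ : IsSemiIso R R' θ) {g g' : Q}
    (hg : IsGroupLikeElem R g) (hg' : IsGroupLikeElem R g') :
    Ideal.map (algebraMap R R') (LinearMap.ker (LinearMap.toSpanSingleton R Q (g - g'))) =
      Ideal.span {agree (θ g) (θ g')} := by
  have hy := isGroupLikeElem_of_isSemiCoalg R R' hθ.1 hg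
  have hy' := isGroupLikeElem_of_isSemiCoalg R R' hθ.1 hg'
  apply le_antisymm
  · rw [Ideal.map_le_iff_le_comap]
    intro a ha
    rw [Ideal.mem_comap, ← smul_sub_eq_zero_iff hy hy']
    have ha' : a • (g - g') = 0 := ha
    rw [algebraMap_smul, ← map_sub, ← map_smul, ha', map_zero]
  · intro r' hr'
    rw [← smul_sub_eq_zero_iff hy hy'] at hr'
    apply mem_map_ann_of_tmul_eq_zero
    apply hθ.2.1
    rw [map_zero, LinearMap.liftBaseChange_tmul]
    simpa using hr'

end chartann

section LI
variable (R : Type u) [CommRing R] (Q : Type u) [CommRing Q] [HopfAlgebra R Q]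

/-- the chart data attached to a member of the cover -/
lemma exists_chart (f : R) (hf : SGA3b.IsMultTypeConst (Localization.Away f) (Localization.Away f ⊗[R] Q)) :
    ∃ (R' : Type u) (_ : CommRing R') (_ : Algebra (Localization.Away f) R') (_ : Algebra R R')
      (_ : IsScalarTower R (Localization.Away f) R'),
      Module.FaithfullyFlat (Localization.Away f) R' ∧ Module.Flat R R' ∧
      ∃ (N : Type u) (_ : CommGroup N) (θ : Q →ₐ[R] MonoidAlgebra R' N), IsSemiIso R R' θ := by
  obtain ⟨R', _, _, hff, N, _, ⟨e⟩⟩ := hf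
  letI : Algebra R R' := ((algebraMap (Localization.Away f) R').comp
    (algebraMap R (Localization.Away f))).toAlgebra
  haveI : IsScalarTower R (Localization.Away f) R' := IsScalarTower.of_algebraMap_eq (fun _ => rfl)
  haveI : Module.Flat R (Localization.Away f) := IsLocalization.flat _ (Submonoid.powers f)
  have hflat : Module.Flat R R' := Module.Flat.trans R (Localization.Away f) R'
  exact ⟨R', inferInstance, inferInstance, inferInstance, inferInstance, hff, hflat, N, inferInstance,
    chart R Q (Localization.Away f) R' N e, chart_isSemiIso _ _ _ _ _ e⟩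

variable {R Q}

/-- two distinct group-like elements of a group of multiplicative type over a connected base
are nowhere equal: the annihilator of their difference is zero -/
theorem ann_sub_eq_bot (hconn : ∀ e : R, IsIdempotentElem e → e = 0 ∨ e = 1)
    (hQ : SGA3b.IsMultType R Q) {g g' : Q} (hg : IsGroupLikeElem R g) (hg' : IsGroupLikeElem R g')
    (hne : g ≠ g') : LinearMap.ker (LinearMap.toSpanSingleton R Q (g - g')) = ⊥ := by
  obtain ⟨s, hs, hf⟩ := hQ
  set 𝔞 : Ideal R := LinearMap.ker (LinearMap.toSpanSingleton R Q (g - g')) with h𝔞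
  obtain ⟨e₀, he₀, h𝔞e⟩ := exists_idempotent_generator 𝔞 s hs (by
    intro f hfs
    obtain ⟨R', _, _, _, _, hff, hflat, N, _, θ, hθ⟩ := exists_chart R Q f (hf f hfs)
    refine ⟨R', inferInstance, inferInstance, hff, agree (θ g) (θ g'), ?_, ?_⟩
    · exact agree_idem (isGroupLikeElem_of_isSemiCoalg R R' hθ.1 hg)
        (isGroupLikeElem_of_isSemiCoalg R R' hθ.1 hg')
    · rw [Ideal.map_map, ← IsScalarTower.algebraMap_eq]
      exact map_ann_eq θ hθ hg hg')
  rcases hconn e₀ he₀ with h0 | h1
  · rw [h𝔞e, h0]; simp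
  · exfalso
    apply hne
    have : (1 : R) ∈ 𝔞 := by rw [h𝔞e, h1]; exact Ideal.mem_span_singleton_self 1
    have h2 : (1 : R) • (g - g') = 0 := this
    rw [one_smul, sub_eq_zero] at h2
    exact h2

theorem linearIndependent_groupLike (hconn : ∀ e : R, IsIdempotentElem e → e = 0 ∨ e = 1)
    (hQ : SGA3b.IsMultType R Q) {ι : Type*} (γ : ι → Q) (hγ : ∀ i, IsGroupLikeElem R (γ i))
    (hinj : Function.Injective γ) : LinearIndependent R γ := by
  classical
  have hann : ∀ i j, i ≠ j →
      LinearMap.ker (LinearMap.toSpanSingleton R Q (γ i - γ j)) = ⊥ :=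
    fun i j hij => ann_sub_eq_bot hconn hQ (hγ i) (hγ j) (fun h => hij (hinj h))
  obtain ⟨s, hs, hf⟩ := hQ
  rw [linearIndependent_iff']
  intro F c hc j hj
  -- local vanishing
  have hloc : ∀ f ∈ s, algebraMap R (Localization.Away f) (c j) = 0 := by
    intro f hfs
    obtain ⟨R', _, _, _, _, hff, hflat, N, _, θ, hθ⟩ := exists_chart R Q f (hf f hfs)
    have hinj' : Function.Injective (algebraMap (Localization.Away f) R') :=
      FaithfulSMul.algebraMap_injective _ _
    apply hinj'
    rw [map_zero, ← IsScalarTower.algebraMap_apply R (Localization.Away f) R']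
    have hy : ∀ i, IsGroupLikeElem R' (θ (γ i)) :=
      fun i => isGroupLikeElem_of_isSemiCoalg R R' hθ.1 (hγ i)
    have hagree : ∀ i, i ≠ j → agree (θ (γ i)) (θ (γ j)) = 0 := by
      intro i hij
      have h1 := map_ann_eq θ hθ (hγ i) (hγ j)
      rw [hann i j hij, Ideal.map_bot] at h1
      have : agree (θ (γ i)) (θ (γ j)) ∈ (⊥ : Ideal R') := by
        rw [h1]; exact Ideal.mem_span_singleton_self _
      simpa using this
    have horth : ∀ i, i ≠ j → ∀ n, (θ (γ i)).coeff n * (θ (γ j)).coeff n = 0 := by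
      intro i hij n
      rw [← agree_mul_coeff (hy i) (hy j), hagree i hij, zero_mul]
    have hrel : ∑ i ∈ F, algebraMap R R' (c i) • θ (γ i) = 0 := by
      have := congrArg θ hc
      rw [map_sum, map_zero] at this
      rw [← this]
      apply Finset.sum_congr rfl
      intro i _
      rw [map_smul, algebraMap_smul]
    have hcoef : ∀ n, algebraMap R R' (c j) * (θ (γ j)).coeff n = 0 := by
      intro n
      have h1 := congrArg (fun z => z.coeff n * (θ (γ j)).coeff n) hrel
      simp only [MonoidAlgebra.coeff_sum, MonoidAlgebra.coeff_smul, Finsupp.coe_finset_sum,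
        Finset.sum_apply, Finsupp.smul_apply, smul_eq_mul, MonoidAlgebra.coeff_zero,
        Finsupp.zero_apply, zero_mul, Finset.sum_mul] at h1
      rw [Finset.sum_eq_single j] at h1
      · rw [mul_assoc, coeff_idem (hy j)] at h1
        exact h1
      · intro i _ hij
        rw [mul_assoc, horth i hij n, mul_zero]
      · intro h; exact absurd hj h
    have hsum := sum_coeff (hy j) _ subset_rfl
    calc algebraMap R R' (c j) = algebraMap R R' (c j) * ∑ n ∈ (θ (γ j)).coeff.support,
          (θ (γ j)).coeff n := by rw [hsum, mul_one]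
      _ = 0 := by
        rw [Finset.mul_sum]
        exact Finset.sum_eq_zero (fun n _ => hcoef n)
  -- globalize
  let 𝔟 : Ideal R := LinearMap.ker (LinearMap.toSpanSingleton R R (c j))
  have h𝔟 : ∀ f ∈ s, ∃ k : ℕ, f ^ k ∈ 𝔟 := by
    intro f hfs
    have h1 := hloc f hfs
    rw [IsLocalization.map_eq_zero_iff (Submonoid.powers f)] at h1
    obtain ⟨⟨_, k, rfl⟩, hk⟩ := h1
    refine ⟨k, ?_⟩
    show f ^ k • c j = 0
    simpa using hk
  have h𝔟top : 𝔟 = ⊤ := by
    by_contra hne
    obtain ⟨𝔪, h𝔪, hle⟩ := Ideal.exists_le_maximal 𝔟 hne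
    have : Ideal.span s ≤ 𝔪 := by
      rw [Ideal.span_le]
      intro f hfs
      obtain ⟨k, hk⟩ := h𝔟 f hfs
      exact h𝔪.isPrime.mem_of_pow_mem _ (hle hk)
    rw [hs] at this
    exact h𝔪.ne_top (top_le_iff.mp this)
  have h1 : (1 : R) ∈ 𝔟 := by rw [h𝔟top]; trivial
  have h2 : (1 : R) • c j = 0 := h1
  simpa using h2

end LI

end Groth.Agent.Helper2.GLikeLI
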