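import Mathlib
import Groth.Prelude.Def_SGA3b
import Groth.Agent.Helper2.DefLemNil
import Groth.Agent.Helper2.GLikeLI

set_option autoImplicit false

namespace Groth.Agent.Helper2.NilApp
open TensorProduct Groth.Agent.Helper2.MultTypeSemi Groth.Agent.Helper2.SemiIso
  Groth.Agent.Helper2.GLike Groth.Agent.Helper2.DiagSpan Groth.Agent.Helper2.NilSplit
  Groth.Agent.Helper2.NilLift Groth.Agent.Helper2.FamDesc Groth.Agent.Helper2.NilGlobal
  Groth.Agent.Helper2.DefLemNil

universe u

/-- a finite jointly faithfully flat family of diagonalising charts -/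
structure Fam (R : Type u) [CommRing R] (A : Type u) [CommRing A] [Bialgebra R A] where
  F : Type u
  [fin : Fintype F]
  [dec : DecidableEq F]
  T : F → Type u
  [cr : ∀ f, CommRing (T f)]
  [alg : ∀ f, Algebra R (T f)]
  [ff : Module.FaithfullyFlat R (Π f, T f)]
  N : F → Type u
  [grp : ∀ f, CommMonoid (N f)]
  θ : ∀ f, A →ₐ[R] MonoidAlgebra (T f) (N f)
  iso : ∀ f, IsSemiIso R (T f) (θ f)

attribute [instance] Fam.fin Fam.dec Fam.cr Fam.alg Fam.ff Fam.grp

/-- chart data over a member of the cover -/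
structure ChartData (R : Type u) [CommRing R] (A : Type u) [CommRing A] [Bialgebra R A] (f : R) where
  T : Type u
  [cr : CommRing T]
  [algf : Algebra (Localization.Away f) T]
  [alg : Algebra R T]
  [tower : IsScalarTower R (Localization.Away f) T]
  [ff : Module.FaithfullyFlat (Localization.Away f) T]
  N : Type u
  [grp : CommMonoid N]
  θ : A →ₐ[R] MonoidAlgebra T N
  iso : IsSemiIso R T θ

attribute [instance] ChartData.cr ChartData.algf ChartData.alg ChartData.tower ChartData.ff
  ChartData.grp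

section exists_
variable (R : Type u) [CommRing R] (A : Type u) [CommRing A] [HopfAlgebra R A]

theorem exists_fam (h : SGA3b.IsMultType R A) : Nonempty (Fam R A) := by
  classical
  obtain ⟨s, hs, hf⟩ := h
  obtain ⟨s₀, hs₀, hspan⟩ := (Ideal.span_eq_top_iff_finite s).mp hs
  have hch : ∀ f : (s₀ : Set R), Nonempty (ChartData R A f.1) := fun f => by
    obtain ⟨R', _, _, _, _, hff, -, N, _, θ, hθ⟩ :=
      GLikeLI.exists_chart (R := R) (Q := A) f.1 (hf f.1 (hs₀ f.2))
    exact ⟨{ T := R', N := N, θ := θ, iso := hθ }⟩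
  let c := fun f => Classical.choice (hch f)
  haveI : Module.FaithfullyFlat R (Π f : (s₀ : Set R), (c f).T) :=
    faithfullyFlat_pi_of_away (fun f : (s₀ : Set R) => (c f).T) (fun f => f.1)
      (by rw [Subtype.range_coe]; exact hspan)
  exact ⟨{ F := (s₀ : Set R), T := fun f => (c f).T, N := fun f => (c f).N,
           θ := fun f => (c f).θ, iso := fun f => (c f).iso }⟩

end exists_

section abstract
variable {B : Type u} [CommRing B] {H : Type u} [CommRing H] [HopfAlgebra B H]
variable {Bb : Type u} [CommRing Bb] [Algebra B Bb] {M : Type u} [CommGroup M]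

/-- the deformation lemma for a nil ideal -/
theorem isDiag_of_fam (c : Fam B H) (hs : Function.Surjective (algebraMap B Bb))
    (hnil : ∀ x ∈ RingHom.ker (algebraMap B Bb), IsNilpotent x)
    (θ₀ : H →ₐ[B] MonoidAlgebra Bb M) (hθ₀ : IsSemiIso B Bb θ₀) : SGA3b.IsDiag B H := by
  set J : Ideal B := RingHom.ker (algebraMap B Bb) with hJ
  let φ : B →ₐ[B] Bb := Algebra.ofId B Bb
  have hφ : Function.Surjective φ := hs
  let e : (B ⧸ RingHom.ker φ) ≃ₐ[B] Bb := Ideal.quotientKerAlgEquivOfSurjective hφ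
  letI : Algebra Bb (B ⧸ J) := (e.symm : Bb →+* (B ⧸ RingHom.ker φ)).toAlgebra
  haveI : IsScalarTower B Bb (B ⧸ J) := IsScalarTower.of_algebraMap_eq (fun b => by
    show algebraMap B (B ⧸ J) b = e.symm (algebraMap B Bb b)
    rw [e.symm.commutes]
    rfl)
  have h1 : IsSemiIso B (B ⧸ J) (((rho Bb (B ⧸ J) M).restrictScalars B).comp θ₀) :=
    isSemiIso_rho_comp (T₂ := B ⧸ J) hθ₀
  exact isDiag_of_semiIso_nil J hnil c.T c.N c.θ c.iso _ h1

end abstract

section s2970
variable (R : Type u) [CommRing R] (A : Type u) [CommRing A] [HopfAlgebra R A]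

theorem s2970 (I : Ideal R) (hI : ∀ x ∈ I, IsNilpotent x)
    (h : SGA3b.IsMultType R A) (h0 : SGA3b.IsDiag (R ⧸ I) ((R ⧸ I) ⊗[R] A)) :
    SGA3b.IsDiag R A := by
  obtain ⟨c⟩ := exists_fam R A h
  obtain ⟨M, _, ⟨e⟩⟩ := h0
  have h1 := (isSemiIso_includeRight R (R ⧸ I) A).comp R (R ⧸ I) (R ⧸ I)
    (isSemiIso_bialgEquiv (R ⧸ I) e)
  refine isDiag_of_fam c (Bb := R ⧸ I) Ideal.Quotient.mk_surjective ?_ _ h1
  rw [Ideal.Quotient.algebraMap_eq, Ideal.mk_ker]
  exact hI

end s2970

end Groth.Agent.Helper2.NilApp
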