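import Mathlib
import Groth.Prelude.Def_SGA3b
import Groth.Agent.Helper2.NilApp
import Groth.Agent.Helper2.DefApp

set_option autoImplicit false

namespace Groth.Agent.Helper2.NilApp2
open TensorProduct Groth.Agent.Helper2.MultTypeSemi Groth.Agent.Helper2.SemiIso
  Groth.Agent.Helper2.GLike Groth.Agent.Helper2.DiagSpan Groth.Agent.Helper2.NilSplit
  Groth.Agent.Helper2.NilLift Groth.Agent.Helper2.FamDesc Groth.Agent.Helper2.NilGlobal
  Groth.Agent.Helper2.DefLemNil Groth.Agent.Helper2.NilApp Groth.Agent.Helper2.DefApp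
  Groth.Agent.Helper2.MultTypeChart SGA3b

universe u

section ext
variable {R : Type u} [CommRing R] {A : Type u} [CommRing A] [Bialgebra R A]
variable {T : Type u} [CommRing T] [Algebra R T] {N : Type u} [CommMonoid N]
variable (B₀ : Type u) [CommRing B₀] [Algebra R B₀]

/-- extension of the coefficients of a chart -/
noncomputable def extChart (θ : A →ₐ[R] MonoidAlgebra T N) :
    A →ₐ[R] MonoidAlgebra (B₀ ⊗[R] T) N :=
  (MonoidAlgebra.mapAlgHom N (Algebra.TensorProduct.includeRight : T →ₐ[R] B₀ ⊗[R] T)).comp θ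

lemma isSemiIso_extChart {θ : A →ₐ[R] MonoidAlgebra T N} (hθ : IsSemiIso R T θ) :
    IsSemiIso R (B₀ ⊗[R] T) (extChart B₀ θ) := by
  letI : Algebra T (B₀ ⊗[R] T) := Algebra.TensorProduct.rightAlgebra
  haveI : IsScalarTower R T (B₀ ⊗[R] T) :=
    IsScalarTower.of_algebraMap_eq fun r =>
      (Algebra.TensorProduct.includeRight.commutes r).symm
  have h := isSemiIso_rho_comp (T₂ := B₀ ⊗[R] T) hθ
  have e : extChart B₀ θ = ((rho T (B₀ ⊗[R] T) N).restrictScalars R).comp θ := by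
    ext a
    rfl
  rw [e]
  exact h

end ext

section bc
variable {R : Type u} [CommRing R] {A : Type u} [CommRing A] [Bialgebra R A]
variable (c : Fam R A) (B₀ : Type u) [CommRing B₀] [Algebra R B₀]

lemma faithfullyFlat_pi_baseChange :
    Module.FaithfullyFlat B₀ (Π f, B₀ ⊗[R] c.T f) := by
  haveI : Module.FaithfullyFlat B₀ (B₀ ⊗[R] (Π f, c.T f)) := inferInstance
  exact Module.FaithfullyFlat.of_linearEquiv B₀ (B₀ ⊗[R] (Π f, c.T f))
    (TensorProduct.piRight R B₀ B₀ c.T).symm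

theorem fam_of_charts {H' : Type u} [CommRing H'] [Bialgebra B₀ H']
    (θ' : ∀ f, H' →ₐ[B₀] MonoidAlgebra (B₀ ⊗[R] c.T f) (c.N f))
    (h : ∀ f, IsSemiIso B₀ (B₀ ⊗[R] c.T f) (θ' f)) : Nonempty (Fam B₀ H') := by
  haveI := faithfullyFlat_pi_baseChange c B₀
  exact ⟨{ F := c.F, T := fun f => B₀ ⊗[R] c.T f, N := c.N, θ := θ', iso := h }⟩

include c in
theorem fam_baseChange1 : Nonempty (Fam B₀ (B₀ ⊗[R] A)) :=
  fam_of_charts c B₀ (fun f => liftMap R B₀ (extChart B₀ (c.θ f)))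
    (fun f => (isSemiIso_extChart B₀ (c.iso f)).lift R B₀ (B₀ ⊗[R] c.T f))

variable (L : Type u) [CommRing L] [Algebra R L] [Algebra L B₀] [IsScalarTower R L B₀]

include c in
theorem fam_baseChange2 : Nonempty (Fam B₀ (B₀ ⊗[L] (L ⊗[R] A))) :=
  fam_of_charts c B₀ (fun f => liftMap L B₀ (liftMap R L (extChart B₀ (c.θ f))))
    (fun f => ((isSemiIso_extChart B₀ (c.iso f)).lift R L (B₀ ⊗[R] c.T f)).lift L B₀
      (B₀ ⊗[R] c.T f))

end bc

section charts
variable {R : Type u} [CommRing R] {A : Type u} [CommRing A] [HopfAlgebra R A]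
variable {B₀ : Type u} [CommRing B₀] [Algebra R B₀]
variable {S : Type u} [CommRing S] [Algebra B₀ S] [Algebra R S] [IsScalarTower R B₀ S]
variable {M : Type u} [CommGroup M]

theorem isDiag_of_chart1_nil (c : Fam R A) (χ : A →ₐ[R] MonoidAlgebra S M) (hχ : IsSemiIso R S χ)
    (hsurj : Function.Surjective (algebraMap B₀ S))
    (hnil : ∀ x ∈ RingHom.ker (algebraMap B₀ S), IsNilpotent x) :
    SGA3b.IsDiag B₀ (B₀ ⊗[R] A) := by
  obtain ⟨c'⟩ := fam_baseChange1 c B₀
  exact isDiag_of_fam c' hsurj hnil _ (hχ.lift R B₀ S)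

variable {L : Type u} [CommRing L] [Algebra R L] [Algebra L B₀] [IsScalarTower R L B₀]
  [Algebra L S] [IsScalarTower R L S] [IsScalarTower L B₀ S]

theorem isDiag_of_chart2_nil (c : Fam R A) (χ : A →ₐ[R] MonoidAlgebra S M) (hχ : IsSemiIso R S χ)
    (hsurj : Function.Surjective (algebraMap B₀ S))
    (hnil : ∀ x ∈ RingHom.ker (algebraMap B₀ S), IsNilpotent x) :
    SGA3b.IsDiag B₀ (B₀ ⊗[L] (L ⊗[R] A)) := by
  obtain ⟨c'⟩ := fam_baseChange2 c B₀ L
  exact isDiag_of_fam c' hsurj hnil _ ((hχ.lift R L S).lift L B₀ S)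

end charts

section aux

lemma isUnit_of_map_of_nil_ker {X Y : Type*} [CommRing X] [CommRing Y] (π : X →+* Y)
    (hπ : Function.Surjective π) (hnil : ∀ x ∈ RingHom.ker π, IsNilpotent x) {x : X}
    (hx : IsUnit (π x)) : IsUnit x := by
  obtain ⟨u, hu⟩ := hx.exists_right_inv
  obtain ⟨y, rfl⟩ := hπ u
  have h1 : x * y - 1 ∈ RingHom.ker π := by
    rw [RingHom.mem_ker, map_sub, map_mul, hu, map_one, sub_self]
  have h2 : IsUnit (x * y) := by
    have := (hnil _ h1).isUnit_add_one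
    simpa using this
  exact isUnit_of_mul_isUnit_left h2

lemma finite_of_nil_ker {R : Type*} [CommRing R] {B₀ S : Type*} [CommRing B₀] [CommRing S]
    [Algebra R B₀] [Algebra R S] [Algebra.FiniteType R B₀] [Module.Finite R S]
    (π : B₀ →ₐ[R] S) (hnil : ∀ x ∈ RingHom.ker π, IsNilpotent x) : Module.Finite R B₀ := by
  rw [Algebra.finite_iff_isIntegral_and_finiteType]
  refine ⟨⟨fun b => ?_⟩, inferInstance⟩
  obtain ⟨p, hp, hpb⟩ := Algebra.IsIntegral.isIntegral (R := R) (π b)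
  have h1 : Polynomial.aeval b p ∈ RingHom.ker π := by
    rw [RingHom.mem_ker]
    show π (Polynomial.aeval b p) = 0
    rw [← Polynomial.aeval_algHom_apply]
    exact hpb
  obtain ⟨k, hk⟩ := hnil _ h1
  refine ⟨p ^ k, hp.pow k, ?_⟩
  rw [← Polynomial.aeval_def, map_pow, hk]

lemma span_preimage_eq_top_nil {R : Type*} [CommRing R] (I : Ideal R)
    (hI : ∀ x ∈ I, IsNilpotent x)
    (sb : Set (R ⧸ I)) (hsb : Ideal.span sb = ⊤) :
    Ideal.span ((Ideal.Quotient.mk I) ⁻¹' sb) = ⊤ := by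
  set s := (Ideal.Quotient.mk I) ⁻¹' sb with hs
  have h1 : Ideal.map (Ideal.Quotient.mk I) (Ideal.span s) = ⊤ := by
    rw [Ideal.map_span, hs, Set.image_preimage_eq _ Ideal.Quotient.mk_surjective, hsb]
  have h2 : (1 : R ⧸ I) ∈ Ideal.map (Ideal.Quotient.mk I) (Ideal.span s) := by
    rw [h1]; trivial
  rw [Ideal.mem_map_iff_of_surjective _ Ideal.Quotient.mk_surjective] at h2
  obtain ⟨a, ha, ha1⟩ := h2
  have h3 : a - 1 ∈ I := by
    rw [← Ideal.Quotient.eq_zero_iff_mem, map_sub, ha1, map_one, sub_self]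
  have h5 : IsUnit a := by
    have := (hI _ h3).isUnit_add_one
    simpa using this
  exact Ideal.eq_top_of_isUnit_mem _ ha h5

end aux

section packaged
variable (R : Type u) [CommRing R] (A : Type u) [CommRing A] [HopfAlgebra R A]
variable (I : Ideal R) (S : Type u) [CommRing S] [Algebra R S]
  [Algebra (R ⧸ I) S] [IsScalarTower R (R ⧸ I) S] [Algebra.Etale (R ⧸ I) S]
variable (M : Type u) [CommGroup M]

theorem isIsotrivial_of_chart_nil (c : Fam R A) (hI : ∀ x ∈ I, IsNilpotent x)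
    [Module.Finite (R ⧸ I) S]
    (hP : ∀ 𝔮 : Ideal R, 𝔮.IsMaximal → Ideal.map (algebraMap R S) 𝔮 ≠ ⊤)
    (χ : A →ₐ[R] MonoidAlgebra S M) (hχ : IsSemiIso R S χ) : SGA3b.IsIsotrivial R A := by
  obtain ⟨B₀, _, _, hB₀, π, hsurj, hker, -⟩ := exists_lift R I S
  letI : Algebra B₀ S := π.toRingHom.toAlgebra
  haveI : IsScalarTower R B₀ S := IsScalarTower.of_algebraMap_eq (fun r => (π.commutes r).symm)
  have hnil : ∀ x ∈ RingHom.ker (algebraMap B₀ S), IsNilpotent x := by
    intro x hx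
    have hx' : x ∈ RingHom.ker π := hx
    rw [hker] at hx'
    exact isNilpotent_of_mem_map I hI hx'
  haveI : Module.Finite R S := Module.Finite.trans (R ⧸ I) S
  have hfin' : Module.Finite R B₀ := finite_of_nil_ker π hnil
  have hdiag := isDiag_of_chart1_nil (B₀ := B₀) c χ hχ hsurj hnil
  refine ⟨B₀, inferInstance, inferInstance, hB₀, hfin', ?_, hdiag⟩
  refine ⟨fun 𝔮 h𝔮 htop => hP 𝔮 h𝔮 ?_⟩
  rw [Ideal.smul_top_eq_map] at htop
  have h1 : Ideal.map (algebraMap R B₀) 𝔮 = ⊤ := by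
    apply Submodule.restrictScalars_injective R
    rw [htop]; rfl
  rw [IsScalarTower.algebraMap_eq R B₀ S, ← Ideal.map_map, h1, Ideal.map_top]

theorem isQuasiIsotrivialConst_of_chart_nil (c : Fam R A) (hI : ∀ x ∈ I, IsNilpotent x) (f : R)
    (hf : IsUnit (algebraMap R S f))
    (hP : ∀ 𝔭 : Ideal R, 𝔭.IsPrime → f ∉ 𝔭 → Ideal.map (algebraMap R S) 𝔭 ≠ ⊤)
    (χ : A →ₐ[R] MonoidAlgebra S M) (hχ : IsSemiIso R S χ) :
    SGA3b.IsQuasiIsotrivialConst (Localization.Away f) (Localization.Away f ⊗[R] A) := by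
  obtain ⟨B₀, _, _, hB₀, π, hsurj, hker, -⟩ := exists_lift R I S
  letI : Algebra B₀ S := π.toRingHom.toAlgebra
  haveI : IsScalarTower R B₀ S := IsScalarTower.of_algebraMap_eq (fun r => (π.commutes r).symm)
  have hnil : ∀ x ∈ RingHom.ker (algebraMap B₀ S), IsNilpotent x := by
    intro x hx
    have hx' : x ∈ RingHom.ker π := hx
    rw [hker] at hx'
    exact isNilpotent_of_mem_map I hI hx'
  have hu : IsUnit (algebraMap R B₀ f) := by
    apply isUnit_of_map_of_nil_ker (algebraMap B₀ S) hsurj hnil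
    rw [← IsScalarTower.algebraMap_apply]
    exact hf
  letI : Algebra (Localization.Away f) B₀ := (IsLocalization.Away.lift f hu).toAlgebra
  haveI : IsScalarTower R (Localization.Away f) B₀ :=
    IsScalarTower.of_algebraMap_eq (fun r => (IsLocalization.Away.lift_eq f hu r).symm)
  letI : Algebra (Localization.Away f) S :=
    ((algebraMap B₀ S).comp (algebraMap (Localization.Away f) B₀)).toAlgebra
  haveI : IsScalarTower (Localization.Away f) B₀ S := IsScalarTower.of_algebraMap_eq (fun _ => rfl)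
  haveI : IsScalarTower R (Localization.Away f) S := by
    apply IsScalarTower.of_algebraMap_eq
    intro r
    show algebraMap R S r = algebraMap B₀ S (algebraMap (Localization.Away f) B₀
      (algebraMap R (Localization.Away f) r))
    rw [← IsScalarTower.algebraMap_apply R (Localization.Away f) B₀,
      ← IsScalarTower.algebraMap_apply R B₀ S]
  haveI : Algebra.Etale (Localization.Away f) B₀ :=
    Algebra.Etale.of_restrictScalars (R := R) (A := Localization.Away f) (B := B₀)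
  have hdiag := isDiag_of_chart2_nil (L := Localization.Away f) (B₀ := B₀) c χ hχ hsurj hnil
  refine ⟨B₀, inferInstance, inferInstance, inferInstance, ?_, hdiag⟩
  refine ⟨fun 𝔮 h𝔮 htop => ?_⟩
  rw [Ideal.smul_top_eq_map] at htop
  have h1 : Ideal.map (algebraMap (Localization.Away f) B₀) 𝔮 = ⊤ := by
    apply Submodule.restrictScalars_injective (Localization.Away f)
    rw [htop]; rfl
  have h𝔭 : (𝔮.under R).IsPrime := Ideal.IsPrime.under R 𝔮
  have hf𝔭 : f ∉ 𝔮.under R := by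
    intro hmem
    have : algebraMap R (Localization.Away f) f ∈ 𝔮 := hmem
    exact h𝔮.ne_top (Ideal.eq_top_of_isUnit_mem _ this (IsLocalization.Away.algebraMap_isUnit f))
  apply hP _ h𝔭 hf𝔭
  have h2 : Ideal.map (algebraMap R (Localization.Away f)) (𝔮.under R) = 𝔮 :=
    IsLocalization.map_under (Submonoid.powers f) (Localization.Away f) 𝔮
  rw [IsScalarTower.algebraMap_eq R (Localization.Away f) S, ← Ideal.map_map, h2,
    IsScalarTower.algebraMap_eq (Localization.Away f) B₀ S, ← Ideal.map_map, h1, Ideal.map_top]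

end packaged

section s2971
variable (R : Type u) [CommRing R] (A : Type u) [CommRing A] [HopfAlgebra R A]

lemma le_of_nil {I : Ideal R} (hI : ∀ x ∈ I, IsNilpotent x) (𝔭 : Ideal R) (h𝔭 : 𝔭.IsPrime) :
    I ≤ 𝔭 := by
  intro x hx
  obtain ⟨n, hn⟩ := hI x hx
  exact h𝔭.mem_of_pow_mem n (by rw [hn]; exact 𝔭.zero_mem)

theorem s2971_iso (I : Ideal R) (hI : ∀ x ∈ I, IsNilpotent x) (h : IsMultType R A)
    (h0 : IsIsotrivial (R ⧸ I) ((R ⧸ I) ⊗[R] A)) : IsIsotrivial R A := by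
  obtain ⟨c⟩ := exists_fam R A h
  obtain ⟨Rb', _, _, hEt, hFin, hFF, M, _, ⟨e⟩⟩ := h0
  letI : Algebra R Rb' := ((algebraMap (R ⧸ I) Rb').comp (algebraMap R (R ⧸ I))).toAlgebra
  haveI : IsScalarTower R (R ⧸ I) Rb' := IsScalarTower.of_algebraMap_eq (fun _ => rfl)
  let χ := chart R A (R ⧸ I) Rb' M e
  have hχ : IsSemiIso R Rb' χ := chart_isSemiIso _ _ _ _ _ e
  apply isIsotrivial_of_chart_nil R A I Rb' M c hI ?_ χ hχ
  intro 𝔮 h𝔮 htop
  have hI𝔮 : I ≤ 𝔮 := le_of_nil R hI 𝔮 h𝔮.isPrime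
  have hker : RingHom.ker (Ideal.Quotient.mk I) ≤ 𝔮 := by rwa [Ideal.mk_ker]
  have h𝔮b : (Ideal.map (Ideal.Quotient.mk I) 𝔮).IsPrime :=
    Ideal.map_isPrime_of_surjective Ideal.Quotient.mk_surjective hker
  have h1 : Ideal.map (algebraMap R Rb') 𝔮 =
      Ideal.map (algebraMap (R ⧸ I) Rb') (Ideal.map (Ideal.Quotient.mk I) 𝔮) := by
    rw [Ideal.map_map]
    rfl
  rw [h1] at htop
  have h2 := Ideal.comap_map_eq_self_of_faithfullyFlat
    (B := Rb') (Ideal.map (Ideal.Quotient.mk I) 𝔮)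
  rw [htop, Ideal.comap_top] at h2
  exact h𝔮b.ne_top h2.symm

theorem s2971_qiso (I : Ideal R) (hI : ∀ x ∈ I, IsNilpotent x) (h : IsMultType R A)
    (h0 : IsQuasiIsotrivial (R ⧸ I) ((R ⧸ I) ⊗[R] A)) : IsQuasiIsotrivial R A := by
  obtain ⟨c⟩ := exists_fam R A h
  obtain ⟨sb, hsb, hfb⟩ := h0
  refine ⟨(Ideal.Quotient.mk I) ⁻¹' sb, span_preimage_eq_top_nil I hI sb hsb, ?_⟩
  intro f hf
  obtain ⟨Rb', _, _, hEt, hFF, M, _, ⟨e⟩⟩ := hfb (Ideal.Quotient.mk I f) hf
  letI : Algebra (R ⧸ I) Rb' := ((algebraMap (Localization.Away (Ideal.Quotient.mk I f)) Rb').comp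
    (algebraMap (R ⧸ I) (Localization.Away (Ideal.Quotient.mk I f)))).toAlgebra
  haveI : IsScalarTower (R ⧸ I) (Localization.Away (Ideal.Quotient.mk I f)) Rb' :=
    IsScalarTower.of_algebraMap_eq (fun _ => rfl)
  letI : Algebra R Rb' := ((algebraMap (R ⧸ I) Rb').comp (algebraMap R (R ⧸ I))).toAlgebra
  haveI : IsScalarTower R (R ⧸ I) Rb' := IsScalarTower.of_algebraMap_eq (fun _ => rfl)
  haveI : Algebra.Etale (R ⧸ I) Rb' :=
    Algebra.Etale.comp (R ⧸ I) (Localization.Away (Ideal.Quotient.mk I f)) Rb'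
  let χ₁ := chart (R ⧸ I) ((R ⧸ I) ⊗[R] A) (Localization.Away (Ideal.Quotient.mk I f)) Rb' M e
  have hχ₁ : IsSemiIso (R ⧸ I) Rb' χ₁ := chart_isSemiIso _ _ _ _ _ e
  have hχ := (isSemiIso_includeRight R (R ⧸ I) A).comp R (R ⧸ I) Rb' hχ₁
  apply isQuasiIsotrivialConst_of_chart_nil R A I Rb' M c hI f ?_ ?_ _ hχ
  · show IsUnit (algebraMap (Localization.Away (Ideal.Quotient.mk I f)) Rb'
      (algebraMap (R ⧸ I) (Localization.Away (Ideal.Quotient.mk I f)) (Ideal.Quotient.mk I f)))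
    exact (IsLocalization.Away.algebraMap_isUnit (Ideal.Quotient.mk I f)).map _
  · intro 𝔭 h𝔭 hf𝔭 htop
    have hI𝔭 : I ≤ 𝔭 := le_of_nil R hI 𝔭 h𝔭
    have hker : RingHom.ker (Ideal.Quotient.mk I) ≤ 𝔭 := by rwa [Ideal.mk_ker]
    have h𝔭b : (Ideal.map (Ideal.Quotient.mk I) 𝔭).IsPrime :=
      Ideal.map_isPrime_of_surjective Ideal.Quotient.mk_surjective hker
    have hcomap : Ideal.comap (Ideal.Quotient.mk I) (Ideal.map (Ideal.Quotient.mk I) 𝔭) = 𝔭 := by
      rw [Ideal.comap_map_of_surjective _ Ideal.Quotient.mk_surjective]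
      rw [sup_eq_left]
      exact le_trans (Ideal.comap_mono bot_le) (by
        show Ideal.comap (Ideal.Quotient.mk I) ⊥ ≤ 𝔭
        rw [← RingHom.ker_eq_comap_bot]; exact hker)
    have hfb𝔭 : Ideal.Quotient.mk I f ∉ Ideal.map (Ideal.Quotient.mk I) 𝔭 := by
      intro hmem
      apply hf𝔭
      rw [← hcomap]
      exact hmem
    have hdisj : Disjoint (Submonoid.powers (Ideal.Quotient.mk I f) : Set (R ⧸ I))
        (Ideal.map (Ideal.Quotient.mk I) 𝔭 : Set (R ⧸ I)) := by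
      rw [Set.disjoint_left]
      rintro x ⟨n, rfl⟩ hx
      exact hfb𝔭 (h𝔭b.mem_of_pow_mem n hx)
    have h𝔫 := IsLocalization.isPrime_of_isPrime_disjoint
      (Submonoid.powers (Ideal.Quotient.mk I f)) (Localization.Away (Ideal.Quotient.mk I f))
      _ h𝔭b hdisj
    have h1 : Ideal.map (algebraMap R Rb') 𝔭 =
        Ideal.map (algebraMap (Localization.Away (Ideal.Quotient.mk I f)) Rb')
          (Ideal.map (algebraMap (R ⧸ I) (Localization.Away (Ideal.Quotient.mk I f)))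
            (Ideal.map (Ideal.Quotient.mk I) 𝔭)) := by
      rw [Ideal.map_map, Ideal.map_map]
      rfl
    rw [h1] at htop
    have h2 := Ideal.comap_map_eq_self_of_faithfullyFlat
      (B := Rb') (Ideal.map (algebraMap (R ⧸ I) (Localization.Away (Ideal.Quotient.mk I f)))
            (Ideal.map (Ideal.Quotient.mk I) 𝔭))
    rw [htop, Ideal.comap_top] at h2
    exact h𝔫.ne_top h2.symm

end s2971

end Groth.Agent.Helper2.NilApp2
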