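import Mathlib
import Groth.Prelude.Def_SGA3b
import Groth.Agent.Helper2.NilApp2

set_option autoImplicit false

namespace Groth.Agent.Helper2.ADiag
open TensorProduct Groth.Agent.Helper2.MultTypeSemi Groth.Agent.Helper2.SemiIso
  Groth.Agent.Helper2.GLike Groth.Agent.Helper2.DiagSpan Groth.Agent.Helper2.NilSplit
  Groth.Agent.Helper2.NilLift Groth.Agent.Helper2.FamDesc Groth.Agent.Helper2.NilGlobal
  Groth.Agent.Helper2.DefLemNil Groth.Agent.Helper2.NilApp Groth.Agent.Helper2.NilApp2

universe u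

section main
variable {B : Type u} [CommRing B] (J : Ideal B) (hJ : ∀ x ∈ J, IsNilpotent x)
variable {H : Type u} [CommRing H] [HopfAlgebra B H]
variable {F : Type u} [Fintype F] [DecidableEq F] (T : F → Type u) [∀ f, CommRing (T f)]
  [∀ f, Algebra B (T f)] [Module.FaithfullyFlat B (Π f, T f)]
  (N : F → Type u) [∀ f, CommMonoid (N f)]
  (θ : ∀ f, H →ₐ[B] MonoidAlgebra (T f) (N f)) (hθ : ∀ f, IsSemiIso B (T f) (θ f))
  {M : Type u} [CommGroup M] (θ₀ : H →ₐ[B] MonoidAlgebra (B ⧸ J) M)
  (hθ₀ : IsSemiIso B (B ⧸ J) θ₀)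

include hJ hθ hθ₀ in
/-- explicit form of `isDiag_of_semiIso_nil`: the diagonalisation lifts the given one -/
theorem exists_iso_nil : ∃ ψ : MonoidAlgebra B M ≃ₐc[B] H,
    ∀ m, θ₀ (ψ (MonoidAlgebra.single m 1)) = MonoidAlgebra.single m 1 := by
  have hs : Function.Surjective (algebraMap B (B ⧸ J)) := Ideal.Quotient.mk_surjective
  have hker : RingHom.ker (algebraMap B (B ⧸ J)) = J := Ideal.mk_ker
  have hJle : J ≤ RingHom.ker (algebraMap B (B ⧸ J)) := hker.ge
  have hU := liftU_global J hJ T N θ hθ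
  have hE := liftE_global J hJ T N θ hθ
  have hkill : ∀ x : H, x ∈ J • (⊤ : Submodule B H) → θ₀ x = 0 := by
    intro x hx
    exact eq_zero_of_mem_smul_top J (T' := B ⧸ J) hJle (map_mem_smul_top' J θ₀.toLinearMap hx)
  have hex : ∀ m : M, ∃ g : H, IsGroupLikeElem B g ∧ θ₀ g = MonoidAlgebra.single m 1 := by
    intro m
    obtain ⟨a, ha⟩ := hθ₀.surjective B (B ⧸ J) hs (MonoidAlgebra.single m 1)
    have hgl : IsGroupLikeElem (B ⧸ J) (θ₀ a) := by
      rw [ha]
      exact MonoidAlgebra.isGroupLikeElem_single_one (R := B ⧸ J) (A := B ⧸ J) m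
    have hv : IsGLMod B J B H a := by
      constructor
      · have h0 : semiMap B (B ⧸ J) θ₀.toLinearMap
            (Coalgebra.comul (R := B) a - a ⊗ₜ[B] a) = 0 := by
          rw [map_sub, ← hθ₀.1.comul, hgl.comul_eq_tmul_self, semiMap_tmul]
          exact sub_self _
        have := mem_of_semiMap_eq_zero B (B ⧸ J) hθ₀ hs _ h0
        rwa [hker] at this
      · have h0 : Coalgebra.counit (R := B) a - 1 ∈ J := by
          rw [← hker, RingHom.mem_ker, map_sub, map_one, ← hθ₀.1.counit, hgl.counit_eq_one,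
            sub_self]
        have h1 : J • (⊤ : Submodule B B) = J := by
          rw [smul_eq_mul, ← Ideal.one_eq_top, mul_one]
        rw [h1]
        exact h0
    obtain ⟨g, hg, hd⟩ := hE a hv
    refine ⟨g, hg, ?_⟩
    rw [← ha, ← sub_eq_zero, ← map_sub]
    exact hkill _ hd
  choose g hg hgθ using hex
  have huniq : ∀ (m : M) (w : H), IsGroupLikeElem B w → θ₀ w = MonoidAlgebra.single m 1 →
      w = g m := by
    intro m w hw hwθ
    apply hU w (g m) hw (hg m)
    have := hθ₀.mem_of_eq_zero B (B ⧸ J) hs (w - g m) (by rw [map_sub, hwθ, hgθ, sub_self])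
    rwa [hker] at this
  have hone : g 1 = 1 :=
    (huniq 1 1 IsGroupLikeElem.one (by rw [map_one, MonoidAlgebra.one_def])).symm
  have hmul : ∀ m n, g (m * n) = g m * g n := fun m n =>
    (huniq _ _ ((hg m).mul (hg n))
      (by rw [map_mul, hgθ, hgθ, MonoidAlgebra.single_mul_single, mul_one])).symm
  let ψ : MonoidAlgebra B M →ₐc[B] H := ofGL g hg hone hmul
  have hψ : ∀ m, θ₀ (ψ (MonoidAlgebra.single m 1)) = MonoidAlgebra.single m 1 := by
    intro m
    simp [ψ, hgθ]
  have hbij : Function.Bijective (ψ : MonoidAlgebra B M →ₗ[B] H) := by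
    apply Groth.Agent.Helper1.SchAff.bijective_of_forall_rTensor T
    intro f
    rw [← LinearMap.lTensor_bij_iff_rTensor_bij]
    exact local_bij J hJ (hθ f) hθ₀ ψ hψ
  refine ⟨BialgEquiv.ofBijective ψ hbij, fun m => ?_⟩
  exact hψ m

end main

section abstract
variable {B : Type u} [CommRing B] {H : Type u} [CommRing H] [HopfAlgebra B H]
variable {Bb : Type u} [CommRing Bb] [Algebra B Bb] {M : Type u} [CommGroup M]

/-- explicit form of `isDiag_of_fam` -/
theorem exists_iso_of_fam (c : Fam B H) (hs : Function.Surjective (algebraMap B Bb))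
    (hnil : ∀ x ∈ RingHom.ker (algebraMap B Bb), IsNilpotent x)
    (θ₀ : H →ₐ[B] MonoidAlgebra Bb M) (hθ₀ : IsSemiIso B Bb θ₀) :
    ∃ ψ : MonoidAlgebra B M ≃ₐc[B] H,
      ∀ m, θ₀ (ψ (MonoidAlgebra.single m 1)) = MonoidAlgebra.single m 1 := by
  set J : Ideal B := RingHom.ker (algebraMap B Bb) with hJ
  let φ : B →ₐ[B] Bb := Algebra.ofId B Bb
  have hφ : Function.Surjective φ := hs
  let e : (B ⧸ RingHom.ker φ) ≃ₐ[B] Bb := Ideal.quotientKerAlgEquivOfSurjective hφ
  letI : Algebra Bb (B ⧸ J) := (e.symm : Bb →+* (B ⧸ RingHom.ker φ)).toAlgebra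
  haveI : IsScalarTower B Bb (B ⧸ J) := IsScalarTower.of_algebraMap_eq (fun b => by
    show algebraMap B (B ⧸ J) b = e.symm (algebraMap B Bb b)
    rw [e.symm.commutes]
    rfl)
  have h1 : IsSemiIso B (B ⧸ J) (((rho Bb (B ⧸ J) M).restrictScalars B).comp θ₀) :=
    isSemiIso_rho_comp (T₂ := B ⧸ J) hθ₀
  obtain ⟨ψ, hψ⟩ := exists_iso_nil J hnil c.T c.N c.θ c.iso _ h1
  refine ⟨ψ, fun m => ?_⟩
  have h2 := hψ m
  have hinj : Function.Injective (rho Bb (B ⧸ J) M) := by
    intro x y hxy
    apply MonoidAlgebra.coeff_injective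
    ext n
    have := congrArg (fun z => z.coeff n) hxy
    simp only [coeff_rho] at this
    exact (e.symm.injective this)
  apply hinj
  rw [rho_single, map_one]
  exact h2

end abstract

section level
variable {B : Type u} [CommRing B] {H : Type u} [CommRing H] [HopfAlgebra B H]
variable {S : Type u} [CommRing S] [Algebra B S]
variable {Bb : Type u} [CommRing Bb] [Algebra B Bb] [Algebra S Bb] [IsScalarTower B S Bb]
variable {M : Type u} [CommGroup M]

/-- existence of the diagonalisation at a nilpotent level, lifting the given one -/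
theorem exists_level (c : Fam B H) (hs : Function.Surjective (algebraMap S Bb))
    (hnil : ∀ x ∈ RingHom.ker (algebraMap S Bb), IsNilpotent x)
    (θ₀ : H →ₐ[B] MonoidAlgebra Bb M) (hθ₀ : IsSemiIso B Bb θ₀) :
    ∃ θ : H →ₐ[B] MonoidAlgebra S M, IsSemiIso B S θ ∧ ∀ h, rho S Bb M (θ h) = θ₀ h := by
  obtain ⟨c'⟩ := fam_baseChange1 c S
  have hθ₀' : IsSemiIso S Bb (liftMap B S θ₀) := hθ₀.lift B S Bb
  obtain ⟨ψ, hψ⟩ := exists_iso_of_fam c' hs hnil (liftMap B S θ₀) hθ₀'
  have h1 := (isSemiIso_includeRight B S H).comp B S S (isSemiIso_bialgEquiv S ψ.symm)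
  refine ⟨_, h1, fun h => ?_⟩
  -- θ₀' ∘ ψ = rho
  have hcomp : ∀ x : MonoidAlgebra S M, liftMap B S θ₀ (ψ x) = rho S Bb M x := by
    intro x
    induction x using MonoidAlgebra.induction_linear with
    | zero => simp
    | add f g hf hg => simp only [map_add, hf, hg]
    | single m r =>
      have : (MonoidAlgebra.single m r : MonoidAlgebra S M) = r • MonoidAlgebra.single m 1 := by
        rw [MonoidAlgebra.smul_single, smul_eq_mul, mul_one]
      rw [this, map_smul, map_smul, hψ, map_smul, rho_single, map_one]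
  show rho S Bb M (ψ.symm ((1 : S) ⊗ₜ[B] h)) = θ₀ h
  rw [← hcomp, BialgEquiv.apply_symm_apply, liftMap_tmul, one_smul]

omit [HopfAlgebra B H] in
/-- uniqueness of the diagonalisation at a nilpotent level -/
theorem unique_level [Bialgebra B H]
    (hnil : ∀ x ∈ RingHom.ker (algebraMap S Bb), IsNilpotent x)
    (θ θ' : H →ₐ[B] MonoidAlgebra S M) (h : IsSemiIso B S θ) (h' : IsSemiIso B S θ')
    (heq : ∀ x, rho S Bb M (θ x) = rho S Bb M (θ' x)) : θ = θ' := by
  have hL := liftMap_bijective h
  have hL' := liftMap_bijective h'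
  have hLs := isSemiCoalg_liftMap B S S h.1
  have hLs' := isSemiCoalg_liftMap B S S h'.1
  -- rho ∘ L = rho ∘ L'
  have hrho : ∀ z : S ⊗[B] H, rho S Bb M (liftMap B S θ z) = rho S Bb M (liftMap B S θ' z) := by
    intro z
    induction z using TensorProduct.induction_on with
    | zero => simp
    | add x y hx hy => simp only [map_add, hx, hy]
    | tmul s x => simp only [liftMap_tmul, map_smul, heq]
  -- L' z = L z for all z
  have key : ∀ m : M, ∀ z : S ⊗[B] H, liftMap B S θ z = MonoidAlgebra.single m 1 →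
      liftMap B S θ' z = MonoidAlgebra.single m 1 := by
    intro m z hz
    have hgz : IsGroupLikeElem S z := by
      apply isGroupLikeElem_of_map hLs hL
      rw [hz]
      exact MonoidAlgebra.isGroupLikeElem_single_one (R := S) (A := S) m
    have hg' : IsGroupLikeElem S (liftMap B S θ' z) :=
      isGroupLikeElem_of_isSemiCoalg S S hLs' hgz
    apply groupLike_eq_of_rho_eq (T' := Bb) hnil hg'
      (MonoidAlgebra.isGroupLikeElem_single_one (R := S) (A := S) m)
    rw [← hrho, hz]
  have hall : ∀ z : S ⊗[B] H, liftMap B S θ' z = liftMap B S θ z := by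
    intro z
    obtain ⟨y, rfl⟩ : ∃ y, y = liftMap B S θ z := ⟨_, rfl⟩
    -- work through the inverse
    let e : (S ⊗[B] H) ≃ₐ[S] MonoidAlgebra S M := AlgEquiv.ofBijective _ hL
    have he : ∀ w, e w = liftMap B S θ w := fun w => rfl
    have hcomp : ∀ x : MonoidAlgebra S M, liftMap B S θ' (e.symm x) = x := by
      intro x
      induction x using MonoidAlgebra.induction_linear with
      | zero => simp
      | add f g hf hg => simp only [map_add, hf, hg]
      | single m r =>
        have : (MonoidAlgebra.single m r : MonoidAlgebra S M) = r • MonoidAlgebra.single m 1 := by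
          rw [MonoidAlgebra.smul_single, smul_eq_mul, mul_one]
        rw [this, map_smul, map_smul]
        congr 1
        apply key m
        rw [← he, AlgEquiv.apply_symm_apply]
    have := hcomp (e z)
    rwa [AlgEquiv.symm_apply_apply, he] at this
  ext x : 1
  have := hall ((1 : S) ⊗ₜ[B] x)
  simpa using this.symm

end level

end Groth.Agent.Helper2.ADiag
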