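import Mathlib
import Groth.Prelude.Def_SGA3b
import Groth.Agent.Helper2.ADiag1

set_option autoImplicit false

namespace Groth.Agent.Helper2.ADiag
open TensorProduct Groth.Agent.Helper2.MultTypeSemi Groth.Agent.Helper2.SemiIso
  Groth.Agent.Helper2.GLike Groth.Agent.Helper2.DiagSpan Groth.Agent.Helper2.NilSplit
  Groth.Agent.Helper2.NilLift

section trans
variable {B : Type*} [CommRing B] {H : Type*} [CommRing H] [Bialgebra B H]
variable {U : Type*} [CommRing U] [Algebra B U] {N M : Type*} [CommMonoid N] [CommMonoid M]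

/-- the chart as an algebra equivalence after base change -/
noncomputable def chartEquiv (χ : H →ₐ[B] MonoidAlgebra U N) (hχ : IsSemiIso B U χ) :
    (U ⊗[B] H) ≃ₐ[U] MonoidAlgebra U N :=
  AlgEquiv.ofBijective (liftMap B U χ) (liftMap_bijective hχ)

@[simp] lemma chartEquiv_apply (χ : H →ₐ[B] MonoidAlgebra U N) (hχ : IsSemiIso B U χ)
    (z : U ⊗[B] H) : chartEquiv χ hχ z = liftMap B U χ z := rfl

/-- the transition map from one chart to another map -/
noncomputable def trans (χ : H →ₐ[B] MonoidAlgebra U N) (hχ : IsSemiIso B U χ)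
    (θ : H →ₐ[B] MonoidAlgebra U M) : MonoidAlgebra U N →ₐ[U] MonoidAlgebra U M :=
  (liftMap B U θ).comp (chartEquiv χ hχ).symm.toAlgHom

lemma trans_apply (χ : H →ₐ[B] MonoidAlgebra U N) (hχ : IsSemiIso B U χ)
    (θ : H →ₐ[B] MonoidAlgebra U M) (x : MonoidAlgebra U N) :
    trans χ hχ θ x = liftMap B U θ ((chartEquiv χ hχ).symm x) := rfl

lemma trans_chart (χ : H →ₐ[B] MonoidAlgebra U N) (hχ : IsSemiIso B U χ)
    (θ : H →ₐ[B] MonoidAlgebra U M) (h : H) : trans χ hχ θ (χ h) = θ h := by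
  have h1 : χ h = chartEquiv χ hχ ((1 : U) ⊗ₜ[B] h) := by simp
  rw [trans_apply, h1, AlgEquiv.symm_apply_apply, liftMap_tmul, one_smul]

lemma trans_liftMap (χ : H →ₐ[B] MonoidAlgebra U N) (hχ : IsSemiIso B U χ)
    (θ : H →ₐ[B] MonoidAlgebra U M) (z : U ⊗[B] H) :
    trans χ hχ θ (liftMap B U χ z) = liftMap B U θ z := by
  rw [trans_apply, ← chartEquiv_apply χ hχ, AlgEquiv.symm_apply_apply]

lemma isGroupLikeElem_trans (χ : H →ₐ[B] MonoidAlgebra U N) (hχ : IsSemiIso B U χ)
    (θ : H →ₐ[B] MonoidAlgebra U M) (hθ : IsSemiCoalg B U θ) (ν : N) :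
    IsGroupLikeElem U (trans χ hχ θ (MonoidAlgebra.single ν 1)) := by
  rw [trans_apply]
  apply isGroupLikeElem_of_isSemiCoalg U U (isSemiCoalg_liftMap B U U hθ)
  apply isGroupLikeElem_of_map (isSemiCoalg_liftMap B U U hχ.1) (liftMap_bijective hχ)
  rw [← chartEquiv_apply χ hχ, AlgEquiv.apply_symm_apply]
  exact MonoidAlgebra.isGroupLikeElem_single_one (R := U) (A := U) ν

lemma trans_bijective (χ : H →ₐ[B] MonoidAlgebra U N) (hχ : IsSemiIso B U χ)
    (θ : H →ₐ[B] MonoidAlgebra U M) (hθ : IsSemiIso B U θ) :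
    Function.Bijective (trans χ hχ θ) := by
  have : ⇑(trans χ hχ θ) = ⇑(liftMap B U θ) ∘ ⇑(chartEquiv χ hχ).symm := rfl
  rw [this]
  exact (liftMap_bijective hθ).comp (chartEquiv χ hχ).symm.bijective

/-- coefficients of the transition map vanish where those of the images of the singles do -/
lemma coeff_trans_eq_zero (χ : H →ₐ[B] MonoidAlgebra U N) (hχ : IsSemiIso B U χ)
    (θ : H →ₐ[B] MonoidAlgebra U M) (x : MonoidAlgebra U N) (m : M)
    (h : ∀ ν ∈ x.coeff.support, (trans χ hχ θ (MonoidAlgebra.single ν 1)).coeff m = 0) :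
    (trans χ hχ θ x).coeff m = 0 := by
  conv_lhs => rw [← MonoidAlgebra.sum_coeff_single x, Finsupp.sum]
  rw [map_sum, MonoidAlgebra.coeff_sum, Finsupp.coe_finset_sum, Finset.sum_apply]
  apply Finset.sum_eq_zero
  intro ν hν
  have : (MonoidAlgebra.single ν (x.coeff ν) : MonoidAlgebra U N) =
      x.coeff ν • MonoidAlgebra.single ν 1 := by
    rw [MonoidAlgebra.smul_single, smul_eq_mul, mul_one]
  rw [this, map_smul, MonoidAlgebra.coeff_smul_apply, h ν hν, smul_zero]

end trans

section funct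
variable {B : Type*} [CommRing B] {H : Type*} [CommRing H] [Bialgebra B H]
variable {U U₁ : Type*} [CommRing U] [CommRing U₁] [Algebra B U] [Algebra B U₁] [Algebra U U₁]
  [IsScalarTower B U U₁] {N M : Type*} [CommMonoid N] [CommMonoid M]

lemma rho_liftMap (θ : H →ₐ[B] MonoidAlgebra U M) (z : U ⊗[B] H) :
    rho U U₁ M (liftMap B U θ z) =
      liftMap B U₁ (((rho U U₁ M).restrictScalars B).comp θ)
        (Algebra.TensorProduct.map (IsScalarTower.toAlgHom B U U₁) (AlgHom.id B H) z) := by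
  induction z using TensorProduct.induction_on with
  | zero => simp
  | add x y hx hy => simp only [map_add, hx, hy]
  | tmul u h =>
    simp only [liftMap_tmul, map_smul, Algebra.TensorProduct.map_tmul, AlgHom.coe_id, id_eq,
      AlgHom.coe_comp, AlgHom.coe_restrictScalars', Function.comp_apply,
      IsScalarTower.coe_toAlgHom']
    rw [algebraMap_smul]

/-- functoriality of the transition map under change of coefficients -/
lemma rho_trans (χ : H →ₐ[B] MonoidAlgebra U N) (hχ : IsSemiIso B U χ)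
    (θ : H →ₐ[B] MonoidAlgebra U M)
    (hχ₁ : IsSemiIso B U₁ (((rho U U₁ N).restrictScalars B).comp χ))
    (x : MonoidAlgebra U N) :
    rho U U₁ M (trans χ hχ θ x) =
      trans (((rho U U₁ N).restrictScalars B).comp χ) hχ₁
        (((rho U U₁ M).restrictScalars B).comp θ) (rho U U₁ N x) := by
  obtain ⟨z, rfl⟩ := (chartEquiv χ hχ).surjective x
  rw [chartEquiv_apply, trans_liftMap, rho_liftMap, rho_liftMap, trans_liftMap]

end funct

end Groth.Agent.Helper2.ADiag
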