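import Mathlib
import Groth.Prelude.Def_SGA3b
import Groth.Agent.Helper2.ADiag2

set_option autoImplicit false

namespace Groth.Agent.Helper2.ADiag
open TensorProduct Groth.Agent.Helper2.MultTypeSemi Groth.Agent.Helper2.SemiIso
  Groth.Agent.Helper2.GLike Groth.Agent.Helper2.DiagSpan Groth.Agent.Helper2.NilSplit
  Groth.Agent.Helper2.NilLift

section rhorho
variable {T₁ T₂ T₃ : Type*} [CommRing T₁] [CommRing T₂] [CommRing T₃] [Algebra T₁ T₂]
  [Algebra T₂ T₃] [Algebra T₁ T₃] [IsScalarTower T₁ T₂ T₃] {N : Type*} [CommMonoid N]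

lemma rho_rho (x : MonoidAlgebra T₁ N) : rho T₂ T₃ N (rho T₁ T₂ N x) = rho T₁ T₃ N x := by
  apply MonoidAlgebra.coeff_injective
  ext n
  rw [coeff_rho, coeff_rho, coeff_rho, ← IsScalarTower.algebraMap_apply]

end rhorho

section nil
variable {B : Type*} [CommRing B] {H : Type*} [CommRing H] [Bialgebra B H]
variable {U U₁ : Type*} [CommRing U] [CommRing U₁] [Algebra B U] [Algebra B U₁] [Algebra U U₁]
  [IsScalarTower B U U₁] {N M : Type*} [CommMonoid N] [CommMonoid M]

/-- vanishing of a coefficient is detected modulo a nil ideal, chart by chart -/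
lemma coeff_eq_zero_of_nil (χ : H →ₐ[B] MonoidAlgebra U N) (hχ : IsSemiIso B U χ)
    (θ : H →ₐ[B] MonoidAlgebra U M) (hθ : IsSemiCoalg B U θ)
    (χ₁ : H →ₐ[B] MonoidAlgebra U₁ N) (hχ₁ : IsSemiIso B U₁ χ₁)
    (θ₁ : H →ₐ[B] MonoidAlgebra U₁ M)
    (e1 : ∀ h, χ₁ h = rho U U₁ N (χ h)) (e2 : ∀ h, θ₁ h = rho U U₁ M (θ h))
    (hnil : ∀ x ∈ RingHom.ker (algebraMap U U₁), IsNilpotent x) (h : H) (m : M)
    (hm : ∀ ν ∈ (χ h).coeff.support,
      (trans χ₁ hχ₁ θ₁ (MonoidAlgebra.single ν 1)).coeff m = 0) :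
    (θ h).coeff m = 0 := by
  have hχe : χ₁ = ((rho U U₁ N).restrictScalars B).comp χ := AlgHom.ext e1
  have hθe : θ₁ = ((rho U U₁ M).restrictScalars B).comp θ := AlgHom.ext e2
  subst hχe hθe
  rw [← trans_chart χ hχ θ h]
  apply coeff_trans_eq_zero
  intro ν hν
  have hgl := isGroupLikeElem_trans χ hχ θ hθ ν
  have hid : IsIdempotentElem ((trans χ hχ θ (MonoidAlgebra.single ν 1)).coeff m) :=
    coeff_idem hgl m
  apply hid.eq_zero_of_isNilpotent
  apply hnil
  rw [RingHom.mem_ker, ← coeff_rho, rho_trans χ hχ θ hχ₁, rho_single, map_one]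
  exact hm ν hν

end nil

section supp
variable {B : Type*} [CommRing B] {H : Type*} [CommRing H] [Bialgebra B H]
variable {Bb : Type*} [CommRing Bb] [Algebra B Bb]
variable {T Ub : Type*} [CommRing T] [CommRing Ub] [Algebra B T] [Algebra B Ub]
  [Algebra T Ub] [IsScalarTower B T Ub] [Algebra Bb Ub] [IsScalarTower B Bb Ub]
variable {N M : Type*} [CommMonoid N] [CommMonoid M]

open Classical in
/-- the finite set of exponents outside of which all coefficients vanish -/
noncomputable def suppSet (χ : H →ₐ[B] MonoidAlgebra T N)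
    (hχb : IsSemiIso B Ub (((rho T Ub N).restrictScalars B).comp χ))
    (θ₀ : H →ₐ[B] MonoidAlgebra Bb M) (h : H) : Finset M :=
  (χ h).coeff.support.biUnion fun ν =>
    (trans (((rho T Ub N).restrictScalars B).comp χ) hχb
      (((rho Bb Ub M).restrictScalars B).comp θ₀) (MonoidAlgebra.single ν 1)).coeff.support

variable {S U : Type*} [CommRing S] [CommRing U] [Algebra B S] [Algebra B U]
  [Algebra S Bb] [IsScalarTower B S Bb]
  [Algebra T U] [IsScalarTower B T U] [Algebra S U] [IsScalarTower B S U]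
  [Algebra U Ub] [IsScalarTower B U Ub] [IsScalarTower T U Ub]
  [Algebra S Ub] [IsScalarTower S Bb Ub] [IsScalarTower S U Ub]

open Classical in
/-- at every level the coefficients outside of `suppSet` die in the chart -/
lemma algebraMap_coeff_eq_zero (χ : H →ₐ[B] MonoidAlgebra T N) (hχ : IsSemiIso B T χ)
    (hχb : IsSemiIso B Ub (((rho T Ub N).restrictScalars B).comp χ))
    (θ₀ : H →ₐ[B] MonoidAlgebra Bb M)
    (θ : H →ₐ[B] MonoidAlgebra S M) (hθ : IsSemiCoalg B S θ)
    (hθ0 : ∀ h, rho S Bb M (θ h) = θ₀ h)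
    (hnil : ∀ x ∈ RingHom.ker (algebraMap U Ub), IsNilpotent x) (h : H) (m : M)
    (hm : m ∉ suppSet χ hχb θ₀ h) : algebraMap S U ((θ h).coeff m) = 0 := by
  rw [← coeff_rho]
  have h1 : IsSemiIso B U (((rho T U N).restrictScalars B).comp χ) :=
    isSemiIso_rho_comp (T₂ := U) hχ
  have h2 : IsSemiCoalg B U (((rho S U M).restrictScalars B).comp θ) :=
    hθ.comp B S U (isSemiCoalg_rho S U M)
  have := coeff_eq_zero_of_nil (U := U) (U₁ := Ub) _ h1 _ h2 _ hχb
    (((rho Bb Ub M).restrictScalars B).comp θ₀) (fun x => by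
      simp only [AlgHom.coe_comp, AlgHom.coe_restrictScalars', Function.comp_apply]
      rw [rho_rho]) (fun x => by
      simp only [AlgHom.coe_comp, AlgHom.coe_restrictScalars', Function.comp_apply]
      rw [rho_rho, ← hθ0, rho_rho]) hnil h m ?_
  · exact this
  · intro ν hν
    by_contra hne
    apply hm
    rw [suppSet, Finset.mem_biUnion]
    refine ⟨ν, ?_, Finsupp.mem_support_iff.mpr hne⟩
    rw [Finsupp.mem_support_iff] at hν ⊢
    intro h0
    apply hν
    simp only [AlgHom.coe_comp, AlgHom.coe_restrictScalars', Function.comp_apply]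
    rw [coeff_rho, h0, map_zero]

end supp

end Groth.Agent.Helper2.ADiag
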