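import Mathlib
import Groth.Prelude.Def_SGA3b
import Groth.Agent.Helper2.ADiag3

set_option autoImplicit false

namespace Groth.Agent.Helper2.ADiag
open TensorProduct Groth.Agent.Helper2.MultTypeSemi Groth.Agent.Helper2.SemiIso
  Groth.Agent.Helper2.GLike Groth.Agent.Helper2.DiagSpan Groth.Agent.Helper2.NilSplit
  Groth.Agent.Helper2.NilLift Groth.Agent.Helper2.DefLemNil

section limit
variable {B : Type*} [CommRing B] (K : ℕ → Ideal B) (hK : Antitone K)
  (hsep : ∀ b : B, (∀ n, b ∈ K n) → b = 0)
  (hcpl : ∀ f : ℕ → B, (∀ n, f (n + 1) - f n ∈ K n) → ∃ b, ∀ n, b - f n ∈ K n)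
variable {H : Type*} [CommRing H] [Algebra B H] {M : Type*} [CommMonoid M]
  (θ : ∀ n, H →ₐ[B] MonoidAlgebra (B ⧸ K n) M)
  (hcompat : ∀ n h m, Ideal.Quotient.factor (hK (Nat.le_succ n)) ((θ (n + 1) h).coeff m) =
    (θ n h).coeff m)
  (hfin : ∀ h, ∃ F : Finset M, ∀ n, ∀ m ∉ F, (θ n h).coeff m = 0)

include hsep in
lemma lim_unique (x x' : MonoidAlgebra B M)
    (h : ∀ n, rho B (B ⧸ K n) M x = rho B (B ⧸ K n) M x') : x = x' := by
  apply MonoidAlgebra.coeff_injective
  ext m
  rw [← sub_eq_zero]
  apply hsep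
  intro n
  have := congrArg (fun z => z.coeff m) (h n)
  simp only [coeff_rho, Ideal.Quotient.algebraMap_eq] at this
  exact Ideal.Quotient.eq.mp this

include hcpl hcompat hfin in
lemma lim_exists (h : H) : ∃ x : MonoidAlgebra B M, ∀ n, rho B (B ⧸ K n) M x = θ n h := by
  classical
  obtain ⟨F, hF⟩ := hfin h
  have hlift : ∀ m : M, ∃ b : B, ∀ n, Ideal.Quotient.mk (K n) b = (θ n h).coeff m := by
    intro m
    have hs : ∀ n, ∃ b : B, Ideal.Quotient.mk (K n) b = (θ n h).coeff m :=
      fun n => Ideal.Quotient.mk_surjective _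
    choose f hf using hs
    obtain ⟨b, hb⟩ := hcpl f (fun n => by
      rw [← Ideal.Quotient.eq, hf n, ← hcompat n h m, ← hf (n + 1), Ideal.Quotient.factor_mk])
    refine ⟨b, fun n => ?_⟩
    rw [← hf n]
    exact Ideal.Quotient.eq.mpr (hb n)
  choose b hb using hlift
  refine ⟨∑ m ∈ F, MonoidAlgebra.single m (b m), fun n => ?_⟩
  apply MonoidAlgebra.coeff_injective
  ext m
  rw [coeff_rho, MonoidAlgebra.coeff_sum, Finsupp.coe_finsetSum, Finset.sum_apply]
  simp only [MonoidAlgebra.coeff_single, Finsupp.single_apply]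
  rw [Finset.sum_ite_eq' F m]
  split_ifs with hm
  · rw [Ideal.Quotient.algebraMap_eq, hb]
  · rw [map_zero, hF n m hm]

/-- the limit of the level maps, as a function -/
noncomputable def limFun (h : H) : MonoidAlgebra B M :=
  Classical.choose (lim_exists K hK hcpl θ hcompat hfin h)

lemma rho_limFun (h : H) (n : ℕ) :
    rho B (B ⧸ K n) M (limFun K hK hcpl θ hcompat hfin h) = θ n h :=
  Classical.choose_spec (lim_exists K hK hcpl θ hcompat hfin h) n

/-- the limit of the level maps -/
noncomputable def limMap : H →ₐ[B] MonoidAlgebra B M where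
  toFun := limFun K hK hcpl θ hcompat hfin
  map_one' := by
    apply lim_unique K hsep
    intro n
    rw [rho_limFun, map_one, map_one]
  map_mul' x y := by
    apply lim_unique K hsep
    intro n
    rw [rho_limFun, map_mul, map_mul, rho_limFun, rho_limFun]
  map_zero' := by
    apply lim_unique K hsep
    intro n
    rw [rho_limFun, map_zero, map_zero]
  map_add' x y := by
    apply lim_unique K hsep
    intro n
    rw [rho_limFun, map_add, map_add, rho_limFun, rho_limFun]
  commutes' r := by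
    apply lim_unique K hsep
    intro n
    rw [rho_limFun, AlgHom.commutes, AlgHom.commutes]

lemma rho_limMap (h : H) (n : ℕ) :
    rho B (B ⧸ K n) M (limMap K hK hsep hcpl θ hcompat hfin h) = θ n h :=
  rho_limFun K hK hcpl θ hcompat hfin h n

end limit

section free
variable {B : Type*} [CommRing B] (K : ℕ → Ideal B)
  (hsep : ∀ b : B, (∀ n, b ∈ K n) → b = 0)

include hsep in
lemma eq_zero_of_forall_mem_smul_top {P : Type*} [AddCommGroup P] [Module B P] [Module.Free B P]
    (z : P) (h : ∀ n, z ∈ K n • (⊤ : Submodule B P)) : z = 0 := by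
  let b := Module.Free.chooseBasis B P
  apply b.repr.injective
  rw [map_zero]
  ext i
  apply hsep
  intro n
  have h1 := map_mem_smul_top' (K n) (b.coord i) (h n)
  have h2 : K n • (⊤ : Submodule B B) = K n := by
    rw [smul_eq_mul, ← Ideal.one_eq_top, mul_one]
  rw [h2] at h1
  exact h1

end free

section coalg
variable {B : Type*} [CommRing B] (K : ℕ → Ideal B)
  (hsep : ∀ b : B, (∀ n, b ∈ K n) → b = 0)
variable {H : Type*} [CommRing H] [Bialgebra B H] {M : Type*} [CommMonoid M]
  (θ : ∀ n, H →ₐ[B] MonoidAlgebra (B ⧸ K n) M) (hθ : ∀ n, IsSemiCoalg B (B ⧸ K n) (θ n))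
  (φ : H →ₐ[B] MonoidAlgebra B M) (hφ : ∀ n h, rho B (B ⧸ K n) M (φ h) = θ n h)

lemma semiMap_semiMap {S : Type*} [CommRing S] [Algebra B S]
    (φ : H →ₐ[B] MonoidAlgebra B M) (t : H ⊗[B] H) :
    semiMap B S (rho B S M).toLinearMap (semiMap B B φ.toLinearMap t) =
      semiMap B S (((rho B S M).restrictScalars B).comp φ).toLinearMap t := by
  induction t using TensorProduct.induction_on with
  | zero => simp
  | add x y hx hy => simp only [map_add, hx, hy]
  | tmul x y => simp

include hsep hθ hφ in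
lemma isSemiCoalg_lim : IsSemiCoalg B B φ := by
  constructor
  · intro h
    rw [Algebra.algebraMap_self, RingHom.id_apply, ← sub_eq_zero]
    apply hsep
    intro n
    rw [← Ideal.Quotient.eq, ← Ideal.Quotient.algebraMap_eq, ← (isSemiCoalg_rho B (B ⧸ K n) M).counit,
      hφ, (hθ n).counit]
  · intro h
    rw [← sub_eq_zero]
    apply eq_zero_of_forall_mem_smul_top K hsep
    intro n
    have hker : RingHom.ker (algebraMap B (B ⧸ K n)) = K n := Ideal.mk_ker
    rw [← hker]
    apply mem_of_semiMap_eq_zero B (B ⧸ K n) (isSemiIso_rho B (B ⧸ K n) M)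
      Ideal.Quotient.mk_surjective
    rw [map_sub, ← (isSemiCoalg_rho B (B ⧸ K n) M).comul, hφ, semiMap_semiMap, (hθ n).comul,
      sub_eq_zero]
    have : θ n = ((rho B (B ⧸ K n) M).restrictScalars B).comp φ :=
      AlgHom.ext fun x => (hφ n x).symm
    rw [this]

end coalg

end Groth.Agent.Helper2.ADiag
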