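import Mathlib
import Groth.Prelude.Def_SGA3b
import Groth.Agent.Helper2.ADiag4

set_option autoImplicit false

namespace Groth.Agent.Helper2.ADiag
open TensorProduct Groth.Agent.Helper2.MultTypeSemi Groth.Agent.Helper2.SemiIso
  Groth.Agent.Helper2.GLike Groth.Agent.Helper2.DiagSpan Groth.Agent.Helper2.NilSplit
  Groth.Agent.Helper2.NilLift

section lemmaX
variable {T Tb : Type*} [CommRing T] [CommRing Tb] [Algebra T Tb]
  (hker : RingHom.ker (algebraMap T Tb) ≤ Ideal.jacobson ⊥)
  {N M : Type*} [CommMonoid N] [CommMonoid M]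
  (β : MonoidAlgebra T N →ₗ[T] MonoidAlgebra T M)
  (hgl : ∀ ν, IsGroupLikeElem T (β (MonoidAlgebra.single ν 1)))
  (βb : MonoidAlgebra Tb N →ₗ[Tb] MonoidAlgebra Tb M)
  (hβb : Function.Bijective βb)
  (hcomm : ∀ ν, βb (MonoidAlgebra.single ν 1) = rho T Tb M (β (MonoidAlgebra.single ν 1)))

include hker in
lemma idem_eq_zero {e : T} (he : IsIdempotentElem e) (h0 : algebraMap T Tb e = 0) : e = 0 := by
  have hmem : e ∈ Ideal.jacobson (⊥ : Ideal T) := hker (by rwa [RingHom.mem_ker])
  have hu : IsUnit (1 - e) := by
    have := (Ideal.mem_jacobson_bot.mp hmem) (-1)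
    convert this using 1
    ring
  have h1 : e * (1 - e) = 0 := by
    rw [mul_sub, mul_one, he.eq, sub_self]
  exact (hu.mul_left_eq_zero).mp h1

lemma expand (x : MonoidAlgebra T N) :
    β x = ∑ ν ∈ x.coeff.support, x.coeff ν • β (MonoidAlgebra.single ν 1) := by
  conv_lhs => rw [← MonoidAlgebra.sum_coeff_single x, Finsupp.sum]
  rw [map_sum]
  apply Finset.sum_congr rfl
  intro ν _
  have : (MonoidAlgebra.single ν (x.coeff ν) : MonoidAlgebra T N) =
      x.coeff ν • MonoidAlgebra.single ν 1 := by
    rw [MonoidAlgebra.smul_single, smul_eq_mul, mul_one]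
  rw [this, map_smul]

include hker hgl hβb hcomm in
lemma orth_cols {ν ν' : N} (hne : ν ≠ ν') (m : M) :
    (β (MonoidAlgebra.single ν 1)).coeff m * (β (MonoidAlgebra.single ν' 1)).coeff m = 0 := by
  classical
  set y := β (MonoidAlgebra.single ν 1) with hy
  set y' := β (MonoidAlgebra.single ν' 1) with hy'
  set a := y.coeff m * y'.coeff m with ha
  have hida : IsIdempotentElem a := by
    show a * a = a
    rw [ha]
    calc y.coeff m * y'.coeff m * (y.coeff m * y'.coeff m)
        = (y.coeff m * y.coeff m) * (y'.coeff m * y'.coeff m) := by ring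
      _ = y.coeff m * y'.coeff m := by rw [coeff_idem (hgl ν), coeff_idem (hgl ν')]
  apply idem_eq_zero hker hida
  -- the key element
  have hkey : ∀ m'' : M, a * (y.coeff m'' - y'.coeff m'') = 0 := by
    intro m''
    by_cases hm : m'' = m
    · subst hm
      have h1 : a * y.coeff m'' = a := by
        rw [ha]
        calc y.coeff m'' * y'.coeff m'' * y.coeff m''
            = (y.coeff m'' * y.coeff m'') * y'.coeff m'' := by ring
          _ = _ := by rw [coeff_idem (hgl ν)]
      have h2 : a * y'.coeff m'' = a := by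
        rw [ha, mul_assoc, coeff_idem (hgl ν')]
      rw [mul_sub, h1, h2, sub_self]
    · have h1 : a * y.coeff m'' = 0 := by
        rw [ha]
        calc y.coeff m * y'.coeff m * y.coeff m''
            = y'.coeff m * (y.coeff m * y.coeff m'') := by ring
          _ = 0 := by rw [coeff_orth (hgl ν) (Ne.symm hm), mul_zero]
      have h2 : a * y'.coeff m'' = 0 := by
        rw [ha, mul_assoc, coeff_orth (hgl ν') (Ne.symm hm), mul_zero]
      rw [mul_sub, h1, h2, sub_self]
  set w : MonoidAlgebra Tb N :=
    algebraMap T Tb a • (MonoidAlgebra.single ν 1 - MonoidAlgebra.single ν' 1) with hw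
  have hw0 : βb w = 0 := by
    rw [hw, map_smul, map_sub, hcomm, hcomm]
    apply MonoidAlgebra.coeff_injective
    ext m''
    rw [MonoidAlgebra.coeff_smul_apply, MonoidAlgebra.coeff_sub, Finsupp.sub_apply, coeff_rho,
      coeff_rho, smul_eq_mul, ← map_sub, ← map_mul, hkey m'', map_zero]
    rfl
  have hw1 : w = 0 := hβb.1 (by rw [hw0, map_zero])
  have := congrArg (fun z => z.coeff ν) hw1
  simp only [hw, MonoidAlgebra.coeff_smul_apply, MonoidAlgebra.coeff_sub, Finsupp.sub_apply,
    MonoidAlgebra.coeff_single, Finsupp.single_apply, if_true, if_neg hne.symm, sub_zero,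
    smul_eq_mul, mul_one] at this
  simpa using this

include hker hgl hβb hcomm in
lemma exists_preimage_single (m : M) : ∃ x, β x = MonoidAlgebra.single m 1 := by
  classical
  obtain ⟨z, hz⟩ := hβb.2 (MonoidAlgebra.single m 1)
  set F := z.coeff.support with hF
  let e : N → T := fun ν => (β (MonoidAlgebra.single ν 1)).coeff m
  have hOI : OrthogonalIdempotents e :=
    ⟨fun ν => coeff_idem (hgl ν) m, fun ν ν' hne => orth_cols hker β hgl βb hβb hcomm hne m⟩
  set s := ∑ ν ∈ F, e ν with hs
  have hsid : IsIdempotentElem s := hOI.isIdempotentElem_sum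
  have hse : ∀ ν ∈ F, s * e ν = e ν := by
    intro ν hν
    rw [hs, Finset.sum_mul, Finset.sum_eq_single ν]
    · exact hOI.idem ν
    · intro ν' _ hne
      exact hOI.ortho hne
    · intro h; exact absurd hν h
  -- the coefficient identity mod the ideal
  have h1 : ∑ ν ∈ F, z.coeff ν * algebraMap T Tb (e ν) = 1 := by
    have hz' : βb z = ∑ ν ∈ F, z.coeff ν • βb (MonoidAlgebra.single ν 1) := by
      conv_lhs => rw [← MonoidAlgebra.sum_coeff_single z, Finsupp.sum]
      rw [map_sum]
      apply Finset.sum_congr rfl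
      intro ν _
      have : (MonoidAlgebra.single ν (z.coeff ν) : MonoidAlgebra Tb N) =
          z.coeff ν • MonoidAlgebra.single ν 1 := by
        rw [MonoidAlgebra.smul_single, smul_eq_mul, mul_one]
      rw [this, map_smul]
    have := congrArg (fun t => t.coeff m) (hz'.symm.trans hz)
    simp only [MonoidAlgebra.coeff_sum, Finsupp.coe_finsetSum, Finset.sum_apply,
      MonoidAlgebra.coeff_smul_apply, hcomm, coeff_rho, smul_eq_mul,
      MonoidAlgebra.coeff_single, Finsupp.single_eq_same] at this
    exact this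
  have hs1 : algebraMap T Tb s = 1 := by
    calc algebraMap T Tb s = algebraMap T Tb s * ∑ ν ∈ F, z.coeff ν * algebraMap T Tb (e ν) := by
          rw [h1, mul_one]
      _ = ∑ ν ∈ F, z.coeff ν * algebraMap T Tb (s * e ν) := by
          rw [Finset.mul_sum]
          apply Finset.sum_congr rfl
          intro ν _
          rw [map_mul]; ring
      _ = ∑ ν ∈ F, z.coeff ν * algebraMap T Tb (e ν) := by
          apply Finset.sum_congr rfl
          intro ν hν
          rw [hse ν hν]
      _ = 1 := h1
  have hs2 : s = 1 := by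
    have := idem_eq_zero hker hsid.one_sub (by rw [map_sub, map_one, hs1, sub_self])
    exact (sub_eq_zero.mp this).symm
  refine ⟨∑ ν ∈ F, e ν • MonoidAlgebra.single ν 1, ?_⟩
  rw [map_sum]
  apply MonoidAlgebra.coeff_injective
  ext m'
  simp only [map_smul, MonoidAlgebra.coeff_sum, Finsupp.coe_finsetSum, Finset.sum_apply,
    MonoidAlgebra.coeff_smul_apply, smul_eq_mul, MonoidAlgebra.coeff_single,
    Finsupp.single_apply]
  by_cases hm : m = m'
  · subst hm
    rw [if_pos rfl]
    calc _ = ∑ ν ∈ F, e ν := Finset.sum_congr rfl (fun ν _ => coeff_idem (hgl ν) m)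
      _ = 1 := hs2
  · rw [if_neg hm]
    apply Finset.sum_eq_zero
    intro ν _
    exact coeff_orth (hgl ν) hm

include hker hgl hβb hcomm in
/-- a linear map of group algebras sending the canonical basis to group-like elements, bijective
modulo an ideal in the Jacobson radical, is bijective -/
theorem bijective_of_mod_jacobson : Function.Bijective β := by
  classical
  constructor
  · rw [injective_iff_map_eq_zero]
    intro x hx
    apply MonoidAlgebra.coeff_injective
    ext ν₀
    show x.coeff ν₀ = 0
    rw [expand β x] at hx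
    have h1 : ∀ m, x.coeff ν₀ * (β (MonoidAlgebra.single ν₀ 1)).coeff m = 0 := by
      intro m
      by_cases hν₀ : ν₀ ∈ x.coeff.support
      · have := congrArg (fun t => t.coeff m * (β (MonoidAlgebra.single ν₀ 1)).coeff m) hx
        simp only [MonoidAlgebra.coeff_sum, Finsupp.coe_finsetSum, Finset.sum_apply,
          MonoidAlgebra.coeff_smul_apply, smul_eq_mul, MonoidAlgebra.coeff_zero,
          Finsupp.coe_zero, Pi.zero_apply, zero_mul] at this
        rw [Finset.sum_mul, Finset.sum_eq_single ν₀] at this
        · rw [mul_assoc, coeff_idem (hgl ν₀)] at this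
          exact this
        · intro ν _ hne
          rw [mul_assoc, orth_cols hker β hgl βb hβb hcomm hne m, mul_zero]
        · intro h; exact absurd hν₀ h
      · rw [Finsupp.notMem_support_iff.mp hν₀, zero_mul]
    have h2 := sum_coeff (hgl ν₀) _ subset_rfl
    calc x.coeff ν₀ = x.coeff ν₀ * 1 := (mul_one _).symm
      _ = x.coeff ν₀ * ∑ n ∈ (β (MonoidAlgebra.single ν₀ 1)).coeff.support,
            (β (MonoidAlgebra.single ν₀ 1)).coeff n := by rw [h2]
      _ = 0 := by
          rw [Finset.mul_sum]
          exact Finset.sum_eq_zero fun m _ => h1 m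
  · intro y
    induction y using MonoidAlgebra.induction_linear with
    | zero => exact ⟨0, map_zero _⟩
    | add f g hf hg =>
      obtain ⟨a, ha⟩ := hf
      obtain ⟨b, hb⟩ := hg
      exact ⟨a + b, by rw [map_add, ha, hb]⟩
    | single m r =>
      obtain ⟨x, hx⟩ := exists_preimage_single hker β hgl βb hβb hcomm m
      refine ⟨r • x, ?_⟩
      rw [map_smul, hx, MonoidAlgebra.smul_single, smul_eq_mul, mul_one]

end lemmaX

end Groth.Agent.Helper2.ADiag
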