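import Mathlib
import Groth.Prelude.Def_SGA3b
import Groth.Agent.Helper2.ADiag5

set_option autoImplicit false

namespace Groth.Agent.Helper2.ADiag
open TensorProduct Groth.Agent.Helper2.MultTypeSemi Groth.Agent.Helper2.SemiIso
  Groth.Agent.Helper2.GLike Groth.Agent.Helper2.DiagSpan Groth.Agent.Helper2.NilSplit
  Groth.Agent.Helper2.NilLift Groth.Agent.Helper2.NilApp Groth.Agent.Helper2.FamDesc

universe u

section quot
variable {X : Type*} [CommRing X] {I I' I'' : Ideal X}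

/-- the algebra structure on a quotient given by an inclusion of ideals -/
noncomputable abbrev factorAlg (h : I ≤ I') : Algebra (X ⧸ I) (X ⧸ I') :=
  (Ideal.Quotient.factor h).toAlgebra

lemma factorAlg_tower {R : Type*} [CommRing R] [Algebra R X] (h : I ≤ I') :
    letI := factorAlg h
    IsScalarTower R (X ⧸ I) (X ⧸ I') := by
  letI := factorAlg h
  exact IsScalarTower.of_algebraMap_eq fun x => rfl

lemma factorAlg_tower' (h : I ≤ I') (h' : I' ≤ I'') :
    letI := factorAlg h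
    letI := factorAlg h'
    letI := factorAlg (h.trans h')
    IsScalarTower (X ⧸ I) (X ⧸ I') (X ⧸ I'') := by
  letI := factorAlg h
  letI := factorAlg h'
  letI := factorAlg (h.trans h')
  refine IsScalarTower.of_algebraMap_eq fun x => ?_
  obtain ⟨x, rfl⟩ := Ideal.Quotient.mk_surjective x
  rfl

lemma factorAlg_nil (h : I ≤ I') (n : ℕ) (hn : I' ^ n ≤ I) :
    letI := factorAlg h
    ∀ x ∈ RingHom.ker (algebraMap (X ⧸ I) (X ⧸ I')), IsNilpotent x := by
  letI := factorAlg h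
  intro x hx
  obtain ⟨x, rfl⟩ := Ideal.Quotient.mk_surjective x
  rw [RingHom.mem_ker] at hx
  have h1 : x ∈ I' := by
    rw [← Ideal.Quotient.eq_zero_iff_mem]
    exact hx
  refine ⟨n, ?_⟩
  rw [← map_pow, Ideal.Quotient.eq_zero_iff_mem]
  exact hn (Ideal.pow_mem_pow h1 n)

lemma factorAlg_surjective (h : I ≤ I') :
    letI := factorAlg h
    Function.Surjective (algebraMap (X ⧸ I) (X ⧸ I')) :=
  Ideal.Quotient.factor_surjective h

end quot

section kp
variable {B : Type u} [CommRing B] (J : Ideal B)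

/-- the ideals of the levels -/
def Kp (n : ℕ) : Ideal B := J ^ (n + 1)

lemma Kp_def (n : ℕ) : Kp J n = J ^ (n + 1) := rfl

lemma pow_succ_le (n : ℕ) : Kp J n ≤ J := Ideal.pow_le_self n.succ_ne_zero

lemma pow_succ_anti (n : ℕ) : Kp J (n + 1) ≤ Kp J n := Ideal.pow_le_pow_right (Nat.le_succ _)

lemma pow_le_Kp (n : ℕ) : J ^ (n + 1) ≤ Kp J n := le_rfl

lemma Kp_antitone : Antitone (Kp J) := fun _ _ h =>
  Ideal.pow_le_pow_right (Nat.succ_le_succ h)

end kp

section levels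
variable {B : Type u} [CommRing B] (J : Ideal B)
variable {H : Type u} [CommRing H] [HopfAlgebra B H] (c : Fam B H)
variable {M : Type u} [CommGroup M] (θ₀ : H →ₐ[B] MonoidAlgebra (B ⧸ J) M)
  (hθ₀ : IsSemiIso B (B ⧸ J) θ₀)

include c hθ₀ in
lemma exists_lv (n : ℕ) :
    letI := factorAlg (pow_succ_le J n)
    ∃ θ : H →ₐ[B] MonoidAlgebra (B ⧸ Kp J n) M, IsSemiIso B (B ⧸ Kp J n) θ ∧
      ∀ h, rho (B ⧸ Kp J n) (B ⧸ J) M (θ h) = θ₀ h := by
  letI := factorAlg (pow_succ_le J n)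
  haveI : IsScalarTower B (B ⧸ Kp J n) (B ⧸ J) := factorAlg_tower (pow_succ_le J n)
  exact exists_level c (factorAlg_surjective (pow_succ_le J n))
    (factorAlg_nil (pow_succ_le J n) (n + 1) (pow_le_Kp J n)) θ₀ hθ₀

/-- the chosen diagonalisation at level `n` -/
noncomputable def lv (n : ℕ) : H →ₐ[B] MonoidAlgebra (B ⧸ Kp J n) M :=
  Classical.choose (exists_lv J c θ₀ hθ₀ n)

lemma lv_iso (n : ℕ) : IsSemiIso B (B ⧸ Kp J n) (lv J c θ₀ hθ₀ n) :=
  (Classical.choose_spec (exists_lv J c θ₀ hθ₀ n)).1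

lemma lv_rho (n : ℕ) (h : H) :
    letI := factorAlg (pow_succ_le J n)
    rho (B ⧸ Kp J n) (B ⧸ J) M (lv J c θ₀ hθ₀ n h) = θ₀ h :=
  (Classical.choose_spec (exists_lv J c θ₀ hθ₀ n)).2 h

lemma lv_compat (n : ℕ) (h : H) (m : M) :
    Ideal.Quotient.factor (pow_succ_anti J n) ((lv J c θ₀ hθ₀ (n + 1) h).coeff m) =
      (lv J c θ₀ hθ₀ n h).coeff m := by
  letI a1 := factorAlg (pow_succ_le J n)
  letI a2 := factorAlg (pow_succ_le J (n + 1))
  letI a3 := factorAlg (pow_succ_anti J n)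
  haveI t1 : IsScalarTower B (B ⧸ Kp J n) (B ⧸ J) := factorAlg_tower (pow_succ_le J n)
  haveI t2 : IsScalarTower B (B ⧸ Kp J (n + 1)) (B ⧸ J) :=
    factorAlg_tower (pow_succ_le J (n + 1))
  haveI t3 : IsScalarTower B (B ⧸ Kp J (n + 1)) (B ⧸ Kp J n) :=
    factorAlg_tower (pow_succ_anti J n)
  haveI t4 : IsScalarTower (B ⧸ Kp J (n + 1)) (B ⧸ Kp J n) (B ⧸ J) :=
    factorAlg_tower' (pow_succ_anti J n) (pow_succ_le J n)
  have h' : IsSemiIso B (B ⧸ Kp J n)
      (((rho (B ⧸ Kp J (n + 1)) (B ⧸ Kp J n) M).restrictScalars B).comp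
        (lv J c θ₀ hθ₀ (n + 1))) :=
    isSemiIso_rho_comp (T₂ := B ⧸ Kp J n) (lv_iso J c θ₀ hθ₀ (n + 1))
  have key := unique_level (S := B ⧸ Kp J n) (Bb := B ⧸ J)
    (factorAlg_nil (pow_succ_le J n) (n + 1) (pow_le_Kp J n)) (lv J c θ₀ hθ₀ n) _ (lv_iso J c θ₀ hθ₀ n) h'
    (fun x => by
      simp only [AlgHom.coe_comp, AlgHom.coe_restrictScalars', Function.comp_apply]
      rw [rho_rho, lv_rho, lv_rho])
  have := congrArg (fun φ => (φ h).coeff m) key
  simp only [AlgHom.coe_comp, AlgHom.coe_restrictScalars', Function.comp_apply, coeff_rho] at this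
  exact this.symm

end levels

section support
variable {B : Type u} [CommRing B] (J : Ideal B)
variable {H : Type u} [CommRing H] [HopfAlgebra B H] (c : Fam B H)
variable {M : Type u} [CommGroup M] (θ₀ : H →ₐ[B] MonoidAlgebra (B ⧸ J) M)
  (hθ₀ : IsSemiIso B (B ⧸ J) θ₀)

/-- the chart modulo `J` -/
lemma chart_mod (f : c.F) :
    IsSemiIso B (c.T f ⧸ J.map (algebraMap B (c.T f)))
      (((rho (c.T f) (c.T f ⧸ J.map (algebraMap B (c.T f))) (c.N f)).restrictScalars B).comp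
        (c.θ f)) :=
  isSemiIso_rho_comp (T₂ := c.T f ⧸ J.map (algebraMap B (c.T f))) (c.iso f)

open Classical in
/-- the finite set of exponents outside of which the coefficients of all levels vanish -/
noncomputable def suppAll (h : H) : Finset M :=
  Finset.univ.biUnion fun f : c.F => suppSet (c.θ f) (chart_mod J c f) θ₀ h

lemma lv_coeff_chart (f : c.F) (n : ℕ) (h : H) (m : M)
    (hm : m ∉ suppSet (c.θ f) (chart_mod J c f) θ₀ h) :
    algebraMap (B ⧸ Kp J n) (c.T f ⧸ (Kp J n).map (algebraMap B (c.T f)))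
      ((lv J c θ₀ hθ₀ n h).coeff m) = 0 := by
  have hle : (Kp J n).map (algebraMap B (c.T f)) ≤ J.map (algebraMap B (c.T f)) :=
    Ideal.map_mono (pow_succ_le J n)
  letI a1 := factorAlg (pow_succ_le J n)
  haveI t1 : IsScalarTower B (B ⧸ Kp J n) (B ⧸ J) := factorAlg_tower (pow_succ_le J n)
  letI a2 := factorAlg hle
  haveI t2 : IsScalarTower B (c.T f ⧸ (Kp J n).map (algebraMap B (c.T f)))
      (c.T f ⧸ J.map (algebraMap B (c.T f))) := factorAlg_tower hle
  haveI t3 : IsScalarTower (c.T f) (c.T f ⧸ (Kp J n).map (algebraMap B (c.T f)))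
      (c.T f ⧸ J.map (algebraMap B (c.T f))) := factorAlg_tower hle
  letI a3 : Algebra (B ⧸ Kp J n) (c.T f ⧸ J.map (algebraMap B (c.T f))) :=
    ((algebraMap (B ⧸ J) (c.T f ⧸ J.map (algebraMap B (c.T f)))).comp
      (algebraMap (B ⧸ Kp J n) (B ⧸ J))).toAlgebra
  haveI t4 : IsScalarTower (B ⧸ Kp J n) (B ⧸ J) (c.T f ⧸ J.map (algebraMap B (c.T f))) :=
    IsScalarTower.of_algebraMap_eq fun x => rfl
  haveI t5 : IsScalarTower (B ⧸ Kp J n)
      (c.T f ⧸ (Kp J n).map (algebraMap B (c.T f)))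
      (c.T f ⧸ J.map (algebraMap B (c.T f))) := by
    refine IsScalarTower.of_algebraMap_eq fun x => ?_
    obtain ⟨x, rfl⟩ := Ideal.Quotient.mk_surjective x
    rfl
  have hnil := factorAlg_nil hle (n + 1) (by rw [Kp_def, Ideal.map_pow])
  exact algebraMap_coeff_eq_zero (S := B ⧸ Kp J n)
    (U := c.T f ⧸ (Kp J n).map (algebraMap B (c.T f))) (c.θ f) (c.iso f) (chart_mod J c f) θ₀
    (lv J c θ₀ hθ₀ n) (lv_iso J c θ₀ hθ₀ n).1 (lv_rho J c θ₀ hθ₀ n) hnil h m hm

lemma lv_coeff_eq_zero (n : ℕ) (h : H) (m : M) (hm : m ∉ suppAll J c θ₀ h) :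
    (lv J c θ₀ hθ₀ n h).coeff m = 0 := by
  classical
  obtain ⟨b, hb⟩ := Ideal.Quotient.mk_surjective ((lv J c θ₀ hθ₀ n h).coeff m)
  rw [← hb]
  apply joint_inj (B := B) (T := c.T) (X := B ⧸ Kp J n)
  intro f
  have hmf : m ∉ suppSet (c.θ f) (chart_mod J c f) θ₀ h := by
    intro hmem
    apply hm
    rw [suppAll, Finset.mem_biUnion]
    exact ⟨f, Finset.mem_univ f, hmem⟩
  have h1 := lv_coeff_chart J c θ₀ hθ₀ f n h m hmf
  rw [← hb] at h1
  have h2 : algebraMap B (c.T f) b ∈ (Kp J n).map (algebraMap B (c.T f)) := by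
    rw [← Ideal.Quotient.eq_zero_iff_mem]
    exact h1
  apply (TensorProduct.tensorQuotEquivQuotSMul (c.T f) (Kp J n)).injective
  rw [TensorProduct.tensorQuotEquivQuotSMul_tmul_mk, map_zero, Submodule.Quotient.mk_eq_zero,
    Ideal.smul_top_eq_map, Submodule.restrictScalars_mem, ← Algebra.algebraMap_eq_smul_one]
  exact h2

end support

section complete
variable {B : Type u} [CommRing B] (J : Ideal B) [IsAdicComplete J B]

lemma smul_top_eq (n : ℕ) : (J ^ n • (⊤ : Submodule B B)) = J ^ n := by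
  rw [smul_eq_mul, ← Ideal.one_eq_top, mul_one]

lemma sep_of_complete (b : B) (h : ∀ n, b ∈ Kp J n) : b = 0 := by
  apply IsHausdorff.haus' (I := J) b
  intro n
  rw [SModEq.zero, smul_top_eq]
  cases n with
  | zero => rw [pow_zero, Ideal.one_eq_top]; trivial
  | succ k => exact h k

lemma cpl_of_complete (f : ℕ → B) (hf : ∀ n, f (n + 1) - f n ∈ Kp J n) :
    ∃ b, ∀ n, b - f n ∈ Kp J n := by
  let g : ℕ → B := fun k => match k with
    | 0 => f 0
    | k + 1 => f k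
  have hg : ∀ k, g (k + 1) - g k ∈ J ^ k := by
    intro k
    cases k with
    | zero => rw [pow_zero, Ideal.one_eq_top]; trivial
    | succ j => exact hf j
  have hg2 : ∀ m d, g (m + d) - g m ∈ J ^ m := by
    intro m d
    induction d with
    | zero => simp
    | succ d ih =>
      have h1 : g (m + (d + 1)) - g m = (g (m + d + 1) - g (m + d)) + (g (m + d) - g m) := by
        rw [← add_assoc]; ring
      rw [h1]
      exact add_mem (Ideal.pow_le_pow_right (Nat.le_add_right m d) (hg (m + d))) ih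
  obtain ⟨L, hL⟩ := IsPrecomplete.prec' (I := J) g (fun {m n} hmn => by
    obtain ⟨d, rfl⟩ := Nat.exists_eq_add_of_le hmn
    apply SModEq.symm
    rw [SModEq.sub_mem, smul_top_eq]
    exact hg2 m d)
  refine ⟨L, fun n => ?_⟩
  have := (hL (n + 1)).symm
  rw [SModEq.sub_mem, smul_top_eq] at this
  exact this

end complete

section phi
variable {B : Type u} [CommRing B] (J : Ideal B) [IsAdicComplete J B]
variable {H : Type u} [CommRing H] [HopfAlgebra B H] (c : Fam B H)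
variable {M : Type u} [CommGroup M] (θ₀ : H →ₐ[B] MonoidAlgebra (B ⧸ J) M)
  (hθ₀ : IsSemiIso B (B ⧸ J) θ₀)

omit [IsAdicComplete J B] in
lemma lv_compat' : ∀ n h m, Ideal.Quotient.factor ((Kp_antitone J) (Nat.le_succ n))
    ((lv J c θ₀ hθ₀ (n + 1) h).coeff m) = (lv J c θ₀ hθ₀ n h).coeff m := lv_compat J c θ₀ hθ₀

omit [IsAdicComplete J B] in
lemma lv_fin : ∀ h : H, ∃ F : Finset M, ∀ n, ∀ m ∉ F, (lv J c θ₀ hθ₀ n h).coeff m = 0 :=
  fun h => ⟨suppAll J c θ₀ h, fun n m hm => lv_coeff_eq_zero J c θ₀ hθ₀ n h m hm⟩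

/-- the algebraisation of the compatible system of level diagonalisations -/
noncomputable def phi : H →ₐ[B] MonoidAlgebra B M :=
  limMap (H := H) (M := M) (Kp J) (Kp_antitone J) (sep_of_complete J) (cpl_of_complete J)
    (lv J c θ₀ hθ₀) (lv_compat' J c θ₀ hθ₀) (lv_fin J c θ₀ hθ₀)

lemma rho_phi (n : ℕ) (h : H) :
    rho B (B ⧸ Kp J n) M (phi J c θ₀ hθ₀ h) = lv J c θ₀ hθ₀ n h :=
  rho_limMap (H := H) (M := M) (Kp J) (Kp_antitone J) (sep_of_complete J) (cpl_of_complete J)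
    (lv J c θ₀ hθ₀) (lv_compat' J c θ₀ hθ₀) (lv_fin J c θ₀ hθ₀) h n

lemma isSemiCoalg_phi : IsSemiCoalg B B (phi J c θ₀ hθ₀) :=
  isSemiCoalg_lim (H := H) (M := M) (Kp J) (sep_of_complete J) (lv J c θ₀ hθ₀)
    (fun n => (lv_iso J c θ₀ hθ₀ n).1) _ (fun n h => rho_phi J c θ₀ hθ₀ n h)

lemma rho_phi_zero (h : H) : rho B (B ⧸ J) M (phi J c θ₀ hθ₀ h) = θ₀ h := by
  letI a1 := factorAlg (pow_succ_le J 0)
  haveI t1 : IsScalarTower B (B ⧸ Kp J 0) (B ⧸ J) := factorAlg_tower (pow_succ_le J 0)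
  rw [← lv_rho J c θ₀ hθ₀ 0 h, ← rho_phi J c θ₀ hθ₀ 0 h, rho_rho]

end phi

end Groth.Agent.Helper2.ADiag
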