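import Mathlib
import Groth.Prelude.Def_SGA3b
import Groth.Agent.Helper2.ADiag6

set_option autoImplicit false

namespace Groth.Agent.Helper2.ADiag
open TensorProduct Groth.Agent.Helper2.MultTypeSemi Groth.Agent.Helper2.SemiIso
  Groth.Agent.Helper2.GLike Groth.Agent.Helper2.DiagSpan Groth.Agent.Helper2.NilSplit
  Groth.Agent.Helper2.NilLift Groth.Agent.Helper2.NilApp Groth.Agent.Helper2.FamDesc

universe u

section onePlus
variable {T : Type*} [CommRing T] (K : Ideal T)

/-- the multiplicative set `1 + K` -/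
def onePlus : Submonoid T where
  carrier := {t | t - 1 ∈ K}
  one_mem' := by simp
  mul_mem' := by
    intro a b ha hb
    have h : a * b - 1 = (a - 1) * b + (b - 1) := by ring
    change a - 1 ∈ K at ha
    change b - 1 ∈ K at hb
    change a * b - 1 ∈ K
    rw [h]
    exact K.add_mem (K.mul_mem_right _ ha) hb

lemma mem_onePlus {t : T} : t ∈ onePlus K ↔ t - 1 ∈ K := Iff.rfl

lemma map_le_jacobson :
    K.map (algebraMap T (Localization (onePlus K))) ≤ Ideal.jacobson ⊥ := by
  intro x hx
  rw [Ideal.mem_jacobson_bot]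
  intro y
  obtain ⟨⟨⟨k, hk⟩, s⟩, hks⟩ :=
    (IsLocalization.mem_map_algebraMap_iff (onePlus K) (Localization (onePlus K))).mp hx
  obtain ⟨⟨t, s'⟩, hts⟩ := IsLocalization.surj (onePlus K) y
  simp only at hks hts
  have hu : IsUnit (algebraMap T (Localization (onePlus K)) (k * t + s * s')) := by
    apply IsLocalization.map_units (Localization (onePlus K))
      (⟨k * t + s * s', ?_⟩ : onePlus K)
    rw [mem_onePlus]
    have h1 : (s : T) * s' - 1 ∈ K := (s * s').2
    have h2 : k * t + (s : T) * s' - 1 = k * t + ((s : T) * s' - 1) := by ring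
    rw [h2]
    exact K.add_mem (K.mul_mem_right _ hk) h1
  have heq : (x * y + 1) * algebraMap T (Localization (onePlus K)) ((s : T) * s') =
      algebraMap T (Localization (onePlus K)) (k * t + s * s') := by
    rw [map_add, map_mul, map_mul, ← hks, ← hts]
    ring
  rw [← heq] at hu
  exact isUnit_of_mul_isUnit_left hu

end onePlus

section ffloc
variable {B : Type u} [CommRing B] (J : Ideal B) [IsAdicComplete J B]
variable {F : Type u} [Fintype F] [DecidableEq F] (T : F → Type u) [∀ f, CommRing (T f)]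
  [∀ f, Algebra B (T f)] [Module.FaithfullyFlat B (Π f, T f)]

/-- the localisation of a chart ring along `1 + JT` -/
abbrev Tloc (f : F) : Type u := Localization (onePlus (J.map (algebraMap B (T f))))

omit [IsAdicComplete J B] [Fintype F] in
lemma flat_factor (f : F) : Module.Flat B (T f) :=
  Module.Flat.of_retract (M := Π f, T f) (LinearMap.single B T f) (LinearMap.proj f) (by
    ext x
    simp)

lemma le_of_isMaximal (𝔪 : Ideal B) (h𝔪 : 𝔪.IsMaximal) : J ≤ 𝔪 := by
  refine (IsAdicComplete.le_jacobson_bot J).trans ?_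
  exact sInf_le ⟨bot_le, h𝔪⟩

theorem faithfullyFlat_loc : Module.FaithfullyFlat B (Π f, Tloc J T f) := by
  haveI : ∀ f, Module.Flat B (T f) := flat_factor T
  haveI : ∀ f, Module.Flat B (Tloc J T f) := fun f =>
    Module.Flat.trans B (T f) (Tloc J T f)
  haveI : Module.Flat B (Π f, Tloc J T f) := flat_pi (Tloc J T)
  refine ⟨fun 𝔪 h𝔪 htop => ?_⟩
  -- every chart ring satisfies 1 ∈ 𝔪 T
  have h1 : ∀ f, (1 : T f) ∈ 𝔪 • (⊤ : Submodule B (T f)) := by
    intro f
    have h2 : (1 : Π f, Tloc J T f) ∈ 𝔪 • (⊤ : Submodule B (Π f, Tloc J T f)) := by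
      rw [htop]; trivial
    have h3 := map_mem_smul_top' 𝔪 (LinearMap.proj f : (Π f, Tloc J T f) →ₗ[B] Tloc J T f) h2
    rw [Ideal.smul_top_eq_map, Submodule.restrictScalars_mem] at h3
    have h4 : (LinearMap.proj f : (Π f, Tloc J T f) →ₗ[B] Tloc J T f) 1 = 1 := rfl
    rw [h4, IsScalarTower.algebraMap_eq B (T f) (Tloc J T f), ← Ideal.map_map] at h3
    obtain ⟨⟨⟨a, ha⟩, s⟩, has⟩ :=
      (IsLocalization.mem_map_algebraMap_iff (onePlus (J.map (algebraMap B (T f))))
        (Tloc J T f)).mp h3
    simp only [one_mul] at has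
    obtain ⟨s'', hs''⟩ := (IsLocalization.eq_iff_exists (onePlus (J.map (algebraMap B (T f))))
      (Tloc J T f)).mp has
    rw [Ideal.smul_top_eq_map, Submodule.restrictScalars_mem]
    have h5 : (s'' : T f) * s ∈ 𝔪.map (algebraMap B (T f)) := by
      rw [hs'']
      exact Ideal.mul_mem_left _ _ ha
    have h6 : (s'' : T f) * s - 1 ∈ 𝔪.map (algebraMap B (T f)) :=
      Ideal.map_mono (le_of_isMaximal J 𝔪 h𝔪) (s'' * s).2
    have := Ideal.sub_mem _ h5 h6
    simpa using this
  have h7 : (1 : Π f, T f) ∈ 𝔪 • (⊤ : Submodule B (Π f, T f)) := by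
    have h8 : (1 : Π f, T f) = ∑ f, (LinearMap.single B T f) 1 := by
      ext g
      simp [Finset.sum_apply]
    rw [h8]
    apply Submodule.sum_mem
    intro f _
    exact map_mem_smul_top' 𝔪 (LinearMap.single B T f) (h1 f)
  apply Module.FaithfullyFlat.submodule_ne_top (R := B) (M := Π f, T f) h𝔪
  rw [eq_top_iff]
  intro x _
  have h9 : x = x • (1 : Π f, T f) := by rw [smul_eq_mul, mul_one]
  rw [h9]
  have h10 : 𝔪 • (⊤ : Submodule B (Π f, T f)) =
      (𝔪.map (algebraMap B (Π f, T f))).restrictScalars B := Ideal.smul_top_eq_map 𝔪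
  rw [h10, Submodule.restrictScalars_mem] at h7 ⊢
  exact Ideal.mul_mem_left _ x h7

end ffloc

section chartbij
variable {B : Type u} [CommRing B] (J : Ideal B)
variable {H : Type u} [CommRing H] [HopfAlgebra B H]
variable {T : Type u} [CommRing T] [Algebra B T] {N : Type u} [CommMonoid N]
variable {M : Type u} [CommGroup M] (θ₀ : H →ₐ[B] MonoidAlgebra (B ⧸ J) M)
  (hθ₀ : IsSemiIso B (B ⧸ J) θ₀)
  (χ : H →ₐ[B] MonoidAlgebra T N) (hχ : IsSemiIso B T χ)
  (φ : H →ₐ[B] MonoidAlgebra B M) (hφ : IsSemiCoalg B B φ)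
  (hφ0 : ∀ h, rho B (B ⧸ J) M (φ h) = θ₀ h)

include hθ₀ hχ hφ hφ0 in
/-- after base change to the localised chart ring, `φ` becomes bijective -/
theorem lTensor_bijective_loc :
    Function.Bijective (LinearMap.lTensor (Localization (onePlus (J.map (algebraMap B T))))
      φ.toLinearMap) := by
  set T' := Localization (onePlus (J.map (algebraMap B T))) with hT'
  set Tb := T' ⧸ J.map (algebraMap B T') with hTb
  -- the charts over T'
  have hχ' : IsSemiIso B T' (((rho T T' N).restrictScalars B).comp χ) :=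
    isSemiIso_rho_comp (T₂ := T') hχ
  have hφ' : IsSemiCoalg B T' (((rho B T' M).restrictScalars B).comp φ) :=
    hφ.comp B B T' (isSemiCoalg_rho B T' M)
  set χ' := ((rho T T' N).restrictScalars B).comp χ with hχ'def
  set φ' := ((rho B T' M).restrictScalars B).comp φ with hφ'def
  -- the charts over Tb
  have hχb : IsSemiIso B Tb (((rho T' Tb N).restrictScalars B).comp χ') :=
    isSemiIso_rho_comp (T₂ := Tb) hχ'
  have hφb : IsSemiIso B Tb (((rho T' Tb M).restrictScalars B).comp φ') := by
    have h1 : IsSemiIso B Tb (((rho (B ⧸ J) Tb M).restrictScalars B).comp θ₀) :=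
      isSemiIso_rho_comp (T₂ := Tb) hθ₀
    have h2 : ((rho T' Tb M).restrictScalars B).comp φ' =
        ((rho (B ⧸ J) Tb M).restrictScalars B).comp θ₀ := by
      ext h : 1
      simp only [hφ'def, AlgHom.coe_comp, AlgHom.coe_restrictScalars', Function.comp_apply]
      rw [rho_rho, ← hφ0, rho_rho]
    rw [h2]
    exact h1
  -- Lemma X
  have hker : RingHom.ker (algebraMap T' Tb) ≤ Ideal.jacobson ⊥ := by
    have h1 : RingHom.ker (algebraMap T' Tb) = J.map (algebraMap B T') := by
      rw [Ideal.Quotient.algebraMap_eq]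
      exact Ideal.mk_ker
    rw [h1, IsScalarTower.algebraMap_eq B T T', ← Ideal.map_map]
    exact map_le_jacobson (J.map (algebraMap B T))
  have hβ : Function.Bijective (trans χ' hχ' φ') := by
    have := bijective_of_mod_jacobson hker (trans χ' hχ' φ').toLinearMap
      (fun ν => isGroupLikeElem_trans χ' hχ' φ' hφ' ν)
      (trans (((rho T' Tb N).restrictScalars B).comp χ') hχb
        (((rho T' Tb M).restrictScalars B).comp φ')).toLinearMap
      (trans_bijective _ hχb _ hφb)
      (fun ν => by
        have := rho_trans (U₁ := Tb) χ' hχ' φ' hχb (MonoidAlgebra.single ν 1)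
        rw [rho_single, map_one] at this
        exact this.symm)
    exact this
  -- back to φ
  have hK : Function.Bijective (liftMap B T' φ') := by
    have h1 : ⇑(liftMap B T' φ') = ⇑(trans χ' hχ' φ') ∘ ⇑(liftMap B T' χ') := by
      funext z
      exact (trans_liftMap χ' hχ' φ' z).symm
    rw [h1]
    exact hβ.comp (liftMap_bijective hχ')
  have hR : Function.Bijective (liftMap B T' (rho B T' M)) :=
    liftMap_bijective (isSemiIso_rho B T' M)
  have h3 : ⇑(liftMap B T' φ') = ⇑(liftMap B T' (rho B T' M)) ∘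
      ⇑(LinearMap.lTensor T' φ.toLinearMap) := by
    funext z
    induction z using TensorProduct.induction_on with
    | zero => simp
    | add x y hx hy =>
      simp only [Function.comp_apply, map_add] at hx hy ⊢
      rw [hx, hy]
    | tmul t h =>
      simp [hφ'def]
  rw [h3] at hK
  exact (Function.Bijective.of_comp_iff' hR _).mp hK

end chartbij

section selfiso
variable {S : Type*} [CommRing S] {X Y : Type*} [CommRing X] [Bialgebra S X] [CommRing Y]
  [Bialgebra S Y]

lemma semiMap_self' (ψ : X →ₐ[S] Y) (t : X ⊗[S] X) :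
    semiMap S S ψ.toLinearMap t = Algebra.TensorProduct.map ψ ψ t := by
  induction t using TensorProduct.induction_on with
  | zero => simp
  | add x y hx hy => simp only [map_add, hx, hy]
  | tmul x y => rfl

/-- a semilinear coalgebra map over one ring is a bialgebra map -/
noncomputable def bialgOfSemi (ψ : X →ₐ[S] Y) (h : IsSemiCoalg S S ψ) : X →ₐc[S] Y :=
  BialgHom.ofAlgHom ψ
    (AlgHom.ext fun x => by
      have := h.counit x
      simpa using this)
    (AlgHom.ext fun x => by
      have := h.comul x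
      rw [semiMap_self'] at this
      simpa using this.symm)

@[simp] lemma bialgOfSemi_apply (ψ : X →ₐ[S] Y) (h : IsSemiCoalg S S ψ) (x : X) :
    bialgOfSemi ψ h x = ψ x := rfl

end selfiso

section final
variable {B : Type u} [CommRing B] (J : Ideal B) [IsAdicComplete J B]
variable {H : Type u} [CommRing H] [HopfAlgebra B H] (c : Fam B H)
variable {M : Type u} [CommGroup M] (θ₀ : H →ₐ[B] MonoidAlgebra (B ⧸ J) M)
  (hθ₀ : IsSemiIso B (B ⧸ J) θ₀)

include c hθ₀ in
/-- over an adically complete base, a group of multiplicative type which is diagonalisable modulo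
the ideal is diagonalisable -/
theorem isDiag_of_complete_quot : SGA3b.IsDiag B H := by
  haveI := faithfullyFlat_loc J c.T
  have hbij : Function.Bijective (phi J c θ₀ hθ₀).toLinearMap := by
    apply Groth.Agent.Helper1.SchAff.bijective_of_forall_rTensor (Tloc J c.T)
    intro f
    rw [← LinearMap.lTensor_bij_iff_rTensor_bij]
    exact lTensor_bijective_loc J θ₀ hθ₀ (c.θ f) (c.iso f) (phi J c θ₀ hθ₀)
      (isSemiCoalg_phi J c θ₀ hθ₀) (rho_phi_zero J c θ₀ hθ₀)
  exact ⟨M, inferInstance, ⟨BialgEquiv.ofBijective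
    (bialgOfSemi (phi J c θ₀ hθ₀) (isSemiCoalg_phi J c θ₀ hθ₀)) hbij⟩⟩

end final

end Groth.Agent.Helper2.ADiag
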