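import Mathlib
import Groth.Prelude.Def_SGA3b
import Groth.Agent.Helper2.ADiag7
import Groth.Agent.Helper3.FinPart

set_option autoImplicit false

namespace Groth.Agent.Helper2.ADiag
open TensorProduct Groth.Agent.Helper2.MultTypeSemi Groth.Agent.Helper2.SemiIso
  Groth.Agent.Helper2.GLike Groth.Agent.Helper2.DiagSpan Groth.Agent.Helper2.NilSplit
  Groth.Agent.Helper2.NilLift Groth.Agent.Helper2.NilApp Groth.Agent.Helper2.FamDesc
  Groth.Agent.Helper2.NilApp2 Groth.Agent.Helper2.DefApp Groth.Agent.Helper2.MultTypeChart SGA3b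

universe u

section wrapper
variable {B : Type u} [CommRing B] {H : Type u} [CommRing H] [HopfAlgebra B H]
variable {Bb : Type u} [CommRing Bb] [Algebra B Bb] {M : Type u} [CommGroup M]

/-- the algebraisation theorem for a surjection with adically complete kernel -/
theorem isDiag_of_complete (c : Fam B H) (hs : Function.Surjective (algebraMap B Bb))
    [IsAdicComplete (RingHom.ker (algebraMap B Bb)) B]
    (θ₀ : H →ₐ[B] MonoidAlgebra Bb M) (hθ₀ : IsSemiIso B Bb θ₀) : SGA3b.IsDiag B H := by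
  set J : Ideal B := RingHom.ker (algebraMap B Bb) with hJ
  let φ : B →ₐ[B] Bb := Algebra.ofId B Bb
  have hφ : Function.Surjective φ := hs
  let e : (B ⧸ RingHom.ker φ) ≃ₐ[B] Bb := Ideal.quotientKerAlgEquivOfSurjective hφ
  letI : Algebra Bb (B ⧸ J) := (e.symm : Bb →+* (B ⧸ RingHom.ker φ)).toAlgebra
  haveI : IsScalarTower B Bb (B ⧸ J) := IsScalarTower.of_algebraMap_eq (fun b => by
    show algebraMap B (B ⧸ J) b = e.symm (algebraMap B Bb b)
    rw [e.symm.commutes]
    rfl)
  have h1 : IsSemiIso B (B ⧸ J) (((rho Bb (B ⧸ J) M).restrictScalars B).comp θ₀) :=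
    isSemiIso_rho_comp (T₂ := B ⧸ J) hθ₀
  exact isDiag_of_complete_quot J c _ h1

end wrapper

section finite
variable {R : Type*} [CommRing R] (I : Ideal R) (N : Type*) [AddCommGroup N] [Module R N]

/-- a finite module over a Noetherian adically complete ring is adically complete -/
theorem isAdicComplete_of_finite' [IsNoetherianRing R] [IsAdicComplete I R] [Module.Finite R N] :
    IsAdicComplete I N := by
  haveI : IsHausdorff I N := IsHausdorff.of_le_jacobson I N (IsAdicComplete.le_jacobson_bot I)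
  rw [isAdicComplete_iff]
  refine ⟨inferInstance, ?_⟩
  rw [← AdicCompletion.of_surjective_iff]
  intro y
  obtain ⟨t, rfl⟩ := AdicCompletion.ofTensorProduct_surjective_of_finite I N y
  induction t using TensorProduct.induction_on with
  | zero => exact ⟨0, by simp⟩
  | tmul r x =>
    obtain ⟨a, rfl⟩ := AdicCompletion.of_surjective I R r
    refine ⟨a • x, ?_⟩
    rw [AdicCompletion.ofTensorProduct_tmul]
    ext n
    rw [AdicCompletion.smul_eval]
    rfl
  | add s t hs ht =>
    obtain ⟨a, ha⟩ := hs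
    obtain ⟨b, hb⟩ := ht
    exact ⟨a + b, by rw [map_add, map_add, ha, hb]⟩

end finite

section s2972
variable (R : Type u) [CommRing R] (A : Type u) [CommRing A] [HopfAlgebra R A]

theorem s2972 [IsNoetherianRing R] (I : Ideal R) [IsAdicComplete I R]
    (h : IsMultType R A) (h0 : IsIsotrivial (R ⧸ I) ((R ⧸ I) ⊗[R] A)) : IsIsotrivial R A := by
  obtain ⟨c⟩ := exists_fam R A h
  obtain ⟨Rb', _, _, hEt, hFin, hFF, M, _, ⟨e⟩⟩ := h0
  letI : Algebra R Rb' := ((algebraMap (R ⧸ I) Rb').comp (algebraMap R (R ⧸ I))).toAlgebra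
  haveI : IsScalarTower R (R ⧸ I) Rb' := IsScalarTower.of_algebraMap_eq (fun _ => rfl)
  let χ := chart R A (R ⧸ I) Rb' M e
  have hχ : IsSemiIso R Rb' χ := chart_isSemiIso _ _ _ _ _ e
  obtain ⟨B, _, _, hBfin, hBet, ⟨eB⟩⟩ := Groth.Agent.Helper3.FinPart.exists_finite_etale_lift R I Rb'
  -- the projection B → Rb'
  let π : B →ₐ[R] Rb' :=
    ((eB : (R ⧸ I) ⊗[R] B →ₐ[R ⧸ I] Rb').restrictScalars R).comp
      (Algebra.TensorProduct.includeRight : B →ₐ[R] (R ⧸ I) ⊗[R] B)
  have hπs : Function.Surjective π := by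
    intro y
    obtain ⟨z, rfl⟩ := eB.surjective y
    induction z using TensorProduct.induction_on with
    | zero => exact ⟨0, by simp⟩
    | add x y hx hy =>
      obtain ⟨a, ha⟩ := hx
      obtain ⟨b, hb⟩ := hy
      exact ⟨a + b, by rw [map_add, ha, hb, map_add]⟩
    | tmul r b =>
      obtain ⟨r, rfl⟩ := Ideal.Quotient.mk_surjective r
      refine ⟨r • b, ?_⟩
      show eB ((1 : R ⧸ I) ⊗ₜ[R] (r • b)) = eB (Ideal.Quotient.mk I r ⊗ₜ[R] b)
      rw [← TensorProduct.smul_tmul, ← Ideal.Quotient.algebraMap_eq, Algebra.algebraMap_eq_smul_one]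
  have hπk : RingHom.ker π = I.map (algebraMap R B) := by
    ext b
    rw [RingHom.mem_ker]
    show eB ((1 : R ⧸ I) ⊗ₜ[R] b) = 0 ↔ _
    rw [map_eq_zero_iff _ eB.injective]
    have h1 : (1 : R ⧸ I) ⊗ₜ[R] b = 0 ↔ b ∈ LinearMap.ker (TensorProduct.mk R (R ⧸ I) B 1) := by
      rw [LinearMap.mem_ker]; rfl
    rw [h1, LinearMap.ker_tensorProductMk, Ideal.smul_top_eq_map, Submodule.restrictScalars_mem]
  letI : Algebra B Rb' := π.toRingHom.toAlgebra
  haveI : IsScalarTower R B Rb' := IsScalarTower.of_algebraMap_eq (fun r => (π.commutes r).symm)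
  have hker : RingHom.ker (algebraMap B Rb') = I.map (algebraMap R B) := hπk
  -- completeness
  haveI hc1 : IsAdicComplete I B := isAdicComplete_of_finite' I B
  haveI hc2 : IsAdicComplete (I.map (algebraMap R B)) B :=
    (IsAdicComplete.map_algebraMap_iff (I := I) (M := B) (S := B)).mpr hc1
  haveI hc3 : IsAdicComplete (RingHom.ker (algebraMap B Rb')) B := by rw [hker]; exact hc2
  -- the diagonalisation over B
  obtain ⟨c'⟩ := fam_baseChange1 c B
  have hdiag : SGA3b.IsDiag B (B ⊗[R] A) :=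
    isDiag_of_complete c' (Bb := Rb') hπs (liftMap R B χ) (hχ.lift R B Rb')
  -- faithful flatness
  haveI : Module.Flat R B := inferInstance
  refine ⟨B, inferInstance, inferInstance, hBet, hBfin, ?_, hdiag⟩
  refine ⟨fun 𝔮 h𝔮 htop => ?_⟩
  have hI𝔮 : I ≤ 𝔮 := le_of_isMaximal I 𝔮 h𝔮
  rw [Ideal.smul_top_eq_map] at htop
  have h1 : Ideal.map (algebraMap R B) 𝔮 = ⊤ := by
    apply Submodule.restrictScalars_injective R
    rw [htop]; rfl
  have h2 : Ideal.map (algebraMap R Rb') 𝔮 = ⊤ := by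
    rw [IsScalarTower.algebraMap_eq R B Rb', ← Ideal.map_map, h1, Ideal.map_top]
  have hkerq : RingHom.ker (Ideal.Quotient.mk I) ≤ 𝔮 := by rwa [Ideal.mk_ker]
  have h𝔮b : (Ideal.map (Ideal.Quotient.mk I) 𝔮).IsPrime :=
    Ideal.map_isPrime_of_surjective Ideal.Quotient.mk_surjective hkerq
  have h3 : Ideal.map (algebraMap R Rb') 𝔮 =
      Ideal.map (algebraMap (R ⧸ I) Rb') (Ideal.map (Ideal.Quotient.mk I) 𝔮) := by
    rw [Ideal.map_map]
    rfl
  rw [h3] at h2
  have h4 := Ideal.comap_map_eq_self_of_faithfullyFlat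
    (B := Rb') (Ideal.map (Ideal.Quotient.mk I) 𝔮)
  rw [h2, Ideal.comap_top] at h4
  exact h𝔮b.ne_top h4.symm

end s2972

end Groth.Agent.Helper2.ADiag
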