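import Mathlib

set_option autoImplicit false
set_option linter.style.haveILetI false
set_option linter.unusedSectionVars false

namespace Groth.Agent.Helper2.ARApx

universe u

variable {A : Type u} [CommRing A] (I : Ideal A)

theorem coord_mem_of_mem_smul_top {s : ℕ} (J : Ideal A) (v : Fin s → A)
    (hv : v ∈ (J • (⊤ : Submodule A (Fin s → A)))) : ∀ j, v j ∈ J := by
  intro j
  refine Submodule.smul_induction_on (p := fun v => v j ∈ J) hv ?_ ?_
  · intro r hr w _
    change (r • w) j ∈ J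
    rw [Pi.smul_apply, smul_eq_mul]
    exact J.mul_mem_right _ hr
  · intro x y hx hy
    change (x + y) j ∈ J
    rw [Pi.add_apply]
    exact J.add_mem hx hy

theorem mem_smul_top_of_coord {s : ℕ} (J : Ideal A) (v : Fin s → A) (h : ∀ j, v j ∈ J) :
    v ∈ (J • (⊤ : Submodule A (Fin s → A))) := by
  classical
  rw [pi_eq_sum_univ v]
  refine Submodule.sum_mem _ fun j _ => ?_
  exact Submodule.smul_mem_smul (h j) Submodule.mem_top

/-- Artin–Rees, in the form of lifting along a presentation. -/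
theorem ar_lift [IsNoetherianRing A] {a : ℕ} {M : Type u} [AddCommGroup M] [Module A M]
    [Module.Finite A M] (φ : (Fin a → A) →ₗ[A] M) :
    ∃ c : ℕ, ∀ (n : ℕ) (x : M), x ∈ LinearMap.range φ → x ∈ (I ^ n • (⊤ : Submodule A M)) →
      ∃ v : Fin a → A, (∀ j, v j ∈ I ^ (n - c)) ∧ φ v = x := by
  obtain ⟨k, hk⟩ := Ideal.exists_pow_inf_eq_pow_smul I (LinearMap.range φ)
  refine ⟨k, fun n x hx hxn => ?_⟩
  by_cases hnk : k ≤ n
  · have h1 : x ∈ I ^ n • (⊤ : Submodule A M) ⊓ LinearMap.range φ := ⟨hxn, hx⟩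
    rw [hk n hnk] at h1
    have h2 : I ^ (n - k) • (I ^ k • (⊤ : Submodule A M) ⊓ LinearMap.range φ) ≤
        I ^ (n - k) • LinearMap.range φ := Submodule.smul_mono le_rfl inf_le_right
    have h3 := h2 h1
    rw [LinearMap.range_eq_map, ← Submodule.map_smul''] at h3
    obtain ⟨v, hv, rfl⟩ := h3
    exact ⟨v, coord_mem_of_mem_smul_top _ v hv, rfl⟩
  · obtain ⟨v, rfl⟩ := hx
    refine ⟨v, fun j => ?_, rfl⟩
    have : n - k = 0 := by omega
    rw [this, pow_zero, Ideal.one_eq_top]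
    trivial

/-- evaluation of a relation vector. -/
def ev {s : ℕ} (f : Fin s → A) (v : Fin s → A) : A := ∑ j, v j * f j

/-- the vector generated by syzygies. -/
def evκ {c s : ℕ} (κ : Fin c → Fin s → A) (z : Fin c → A) : Fin s → A :=
  fun j => ∑ i, z i * κ i j

theorem ev_evκ {c s : ℕ} (f : Fin s → A) (κ : Fin c → Fin s → A) (z : Fin c → A)
    (h : ∀ i, ev f (κ i) = 0) : ev f (evκ κ z) = 0 := by
  unfold ev evκ
  simp only [Finset.sum_mul]
  rw [Finset.sum_comm]
  have : ∀ i, ∑ j, z i * κ i j * f j = z i * ev f (κ i) := by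
    intro i
    unfold ev
    rw [Finset.mul_sum]
    exact Finset.sum_congr rfl fun j _ => by ring
  simp only [this, h, mul_zero, Finset.sum_const_zero]

theorem ev_sub {s : ℕ} (f f' : Fin s → A) (v : Fin s → A) (t M : ℕ)
    (hv : ∀ j, v j ∈ I ^ t) (hf : ∀ j, f' j - f j ∈ I ^ M) :
    ev f' v - ev f v ∈ I ^ (M + t) := by
  unfold ev
  rw [← Finset.sum_sub_distrib]
  refine Ideal.sum_mem _ fun j _ => ?_
  rw [← mul_sub, add_comm, pow_add]
  exact Ideal.mul_mem_mul (hv j) (hf j)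

theorem evκ_sub {c s : ℕ} (κ κ' : Fin c → Fin s → A) (z : Fin c → A) (t M : ℕ)
    (hz : ∀ i, z i ∈ I ^ t) (hκ : ∀ i j, κ' i j - κ i j ∈ I ^ M) (j : Fin s) :
    evκ κ' z j - evκ κ z j ∈ I ^ (M + t) := by
  unfold evκ
  rw [← Finset.sum_sub_distrib]
  refine Ideal.sum_mem _ fun i _ => ?_
  rw [← mul_sub, add_comm, pow_add]
  exact Ideal.mul_mem_mul (hz i) (hκ i j)

theorem ev_mem {s : ℕ} (f : Fin s → A) (v : Fin s → A) : ev f v ∈ Ideal.span (Set.range f) := by
  unfold ev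
  refine Ideal.sum_mem _ fun j _ => ?_
  exact Ideal.mul_mem_left _ _ (Ideal.subset_span ⟨j, rfl⟩)

theorem exists_ev_eq {s : ℕ} (f : Fin s → A) (x : A) (hx : x ∈ Ideal.span (Set.range f)) :
    ∃ v, ev f v = x := by
  obtain ⟨v, hv⟩ := Ideal.mem_span_range_iff_exists_fun.mp hx
  exact ⟨v, hv⟩

end Groth.Agent.Helper2.ARApx
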