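import Mathlib
import Groth.Agent.Helper2.ARApxA

set_option autoImplicit false
set_option linter.style.haveILetI false
set_option linter.unusedSectionVars false

namespace Groth.Agent.Helper2.ARApx

universe u

variable {A : Type u} [CommRing A] (I : Ideal A)

section Key

variable {s c : ℕ} (f f' : Fin s → A) (κ κ' : Fin c → Fin s → A) (c₁ c₂ M : ℕ)
  (hM₁ : c₁ + 1 ≤ M) (hM₂ : c₂ + 1 ≤ M)
  (AR1 : ∀ (n : ℕ) (x : A), x ∈ Ideal.span (Set.range f) → x ∈ I ^ n →
    ∃ v : Fin s → A, (∀ j, v j ∈ I ^ (n - c₁)) ∧ ev f v = x)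
  (AR2 : ∀ (t : ℕ) (v : Fin s → A), ev f v = 0 → (∀ j, v j ∈ I ^ t) →
    ∃ z : Fin c → A, (∀ i, z i ∈ I ^ (t - c₂)) ∧ evκ κ z = v)
  (hf : ∀ j, f' j - f j ∈ I ^ M) (hκ : ∀ i j, κ' i j - κ i j ∈ I ^ M)
  (hrel' : ∀ i, ev f' (κ' i) = 0)

include hM₁ hM₂ AR1 AR2 hf hκ hrel' in
theorem key (n : ℕ) : ∀ (d t : ℕ) (v : Fin s → A), (∀ j, v j ∈ I ^ t) → ev f' v ∈ I ^ n →
    n + 1 ≤ M + t + d →
    ∃ x ∈ Ideal.span (Set.range f), x ∈ I ^ n ∧ ev f' v - x ∈ I ^ (n + 1) := by
  intro d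
  induction d with
  | zero =>
    intro t v hv hvn hle
    have hdiff := ev_sub I f f' v t M hv hf
    have hle' : I ^ (M + t) ≤ I ^ (n + 1) := Ideal.pow_le_pow_right (by omega)
    refine ⟨ev f v, ev_mem f v, ?_, hle' hdiff⟩
    have : ev f v = ev f' v - (ev f' v - ev f v) := by ring
    rw [this]
    exact (I ^ n).sub_mem hvn (Ideal.pow_le_pow_right (by omega) hdiff)
  | succ d ih =>
    intro t v hv hvn hle
    by_cases hcase : n + 1 ≤ M + t
    · have hdiff := ev_sub I f f' v t M hv hf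
      have hle' : I ^ (M + t) ≤ I ^ (n + 1) := Ideal.pow_le_pow_right hcase
      refine ⟨ev f v, ev_mem f v, ?_, hle' hdiff⟩
      have : ev f v = ev f' v - (ev f' v - ev f v) := by ring
      rw [this]
      exact (I ^ n).sub_mem hvn (Ideal.pow_le_pow_right (by omega) hdiff)
    · have hMt : M + t ≤ n := by omega
      have hdiff := ev_sub I f f' v t M hv hf
      have h1 : ev f v ∈ I ^ (M + t) := by
        have : ev f v = ev f' v - (ev f' v - ev f v) := by ring
        rw [this]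
        exact (I ^ (M + t)).sub_mem (Ideal.pow_le_pow_right hMt hvn) hdiff
      obtain ⟨w, hw, hwv⟩ := AR1 (M + t) (ev f v) (ev_mem f v) h1
      have hw' : ∀ j, w j ∈ I ^ (t + 1) := fun j =>
        Ideal.pow_le_pow_right (by omega) (hw j)
      have hvw0 : ev f (v - w) = 0 := by
        have : ev f (v - w) = ev f v - ev f w := by
          unfold ev
          rw [← Finset.sum_sub_distrib]
          exact Finset.sum_congr rfl fun j _ => by rw [Pi.sub_apply]; ring
        rw [this, hwv, sub_self]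
      have hvwt : ∀ j, (v - w) j ∈ I ^ t := fun j => by
        rw [Pi.sub_apply]
        exact (I ^ t).sub_mem (hv j) (Ideal.pow_le_pow_right (by omega) (hw' j))
      obtain ⟨z, hz, hzv⟩ := AR2 t (v - w) hvw0 hvwt
      -- the new vector
      set v' : Fin s → A := v - evκ κ' z with hv'
      have hev' : ev f' v' = ev f' v := by
        have : ev f' v' = ev f' v - ev f' (evκ κ' z) := by
          unfold ev
          rw [← Finset.sum_sub_distrib]
          exact Finset.sum_congr rfl fun j _ => by rw [hv', Pi.sub_apply]; ring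
        rw [this, ev_evκ f' κ' z hrel', sub_zero]
      have hv't : ∀ j, v' j ∈ I ^ (t + 1) := by
        intro j
        have e1 : v' j = w j - (evκ κ' z j - evκ κ z j) := by
          have := congrFun hzv j
          rw [Pi.sub_apply] at this
          rw [hv', Pi.sub_apply, this]
          ring
        rw [e1]
        refine (I ^ (t + 1)).sub_mem (hw' j) ?_
        have h2 := evκ_sub I κ κ' z (t - c₂) M hz hκ j
        exact Ideal.pow_le_pow_right (by omega) h2
      obtain ⟨x, hx, hxn, hxd⟩ := ih (t + 1) v' hv't (by rw [hev']; exact hvn) (by omega)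
      exact ⟨x, hx, hxn, by rw [← hev']; exact hxd⟩

include hM₁ hM₂ AR1 AR2 hf hκ hrel' in
theorem init_eq (n : ℕ) :
    Ideal.span (Set.range f') ⊓ I ^ n ⊔ I ^ (n + 1) =
      Ideal.span (Set.range f) ⊓ I ^ n ⊔ I ^ (n + 1) := by
  apply le_antisymm
  · refine sup_le ?_ le_sup_right
    rintro x' ⟨hx'J, hx'n⟩
    obtain ⟨v, rfl⟩ := exists_ev_eq f' x' hx'J
    obtain ⟨x, hx, hxn, hxd⟩ := key I f f' κ κ' c₁ c₂ M hM₁ hM₂ AR1 AR2 hf hκ hrel' n (n + 1) 0 v
      (fun j => by rw [pow_zero, Ideal.one_eq_top]; trivial) hx'n (by omega)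
    have : ev f' v = x + (ev f' v - x) := by ring
    rw [this]
    exact Ideal.add_mem _ (Ideal.mem_sup_left ⟨hx, hxn⟩) (Ideal.mem_sup_right hxd)
  · refine sup_le ?_ le_sup_right
    rintro x ⟨hxJ, hxn⟩
    obtain ⟨v, hv, rfl⟩ := AR1 n x hxJ hxn
    have hdiff := ev_sub I f f' v (n - c₁) M hv hf
    have hle' : I ^ (M + (n - c₁)) ≤ I ^ (n + 1) := Ideal.pow_le_pow_right (by omega)
    have hx'n : ev f' v ∈ I ^ n := by
      have : ev f' v = ev f v + (ev f' v - ev f v) := by ring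
      rw [this]
      exact (I ^ n).add_mem hxn (Ideal.pow_le_pow_right (by omega) hdiff)
    have : ev f v = ev f' v - (ev f' v - ev f v) := by ring
    rw [this]
    exact Ideal.sub_mem _ (Ideal.mem_sup_left ⟨ev_mem f' v, hx'n⟩) (Ideal.mem_sup_right (hle' hdiff))

end Key

/-- **Approximation of ideals preserving initial ideals** (Artin–Rees). -/
theorem ar_main [IsNoetherianRing A] {s : ℕ} (f : Fin s → A) :
    ∃ (c : ℕ) (κ : Fin c → Fin s → A), (∀ i, ev f (κ i) = 0) ∧ ∃ M : ℕ,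
      ∀ (f' : Fin s → A) (κ' : Fin c → Fin s → A),
        (∀ j, f' j - f j ∈ I ^ M) → (∀ i j, κ' i j - κ i j ∈ I ^ M) → (∀ i, ev f' (κ' i) = 0) →
        ∀ n, Ideal.span (Set.range f') ⊓ I ^ n ⊔ I ^ (n + 1) =
          Ideal.span (Set.range f) ⊓ I ^ n ⊔ I ^ (n + 1) := by
  classical
  let φ₁ : (Fin s → A) →ₗ[A] A := Fintype.linearCombination A f
  have hφ₁ : ∀ v, φ₁ v = ev f v := fun v => by
    simp only [φ₁, Fintype.linearCombination_apply, smul_eq_mul, ev]
  have hKfg : (LinearMap.ker φ₁).FG := IsNoetherian.noetherian _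
  obtain ⟨c, κ, hκ⟩ := Submodule.fg_iff_exists_fin_generating_family.mp hKfg
  let φ₂ : (Fin c → A) →ₗ[A] (Fin s → A) := Fintype.linearCombination A κ
  have hφ₂ : ∀ z, φ₂ z = evκ κ z := fun z => by
    funext j
    simp only [φ₂, Fintype.linearCombination_apply, evκ, Finset.sum_apply, Pi.smul_apply,
      smul_eq_mul]
  obtain ⟨c₁, h₁⟩ := ar_lift I φ₁
  obtain ⟨c₂, h₂⟩ := ar_lift I φ₂
  have hrel : ∀ i, ev f (κ i) = 0 := by
    intro i
    rw [← hφ₁]
    have : κ i ∈ LinearMap.ker φ₁ := by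
      rw [← hκ]; exact Submodule.subset_span ⟨i, rfl⟩
    exact this
  refine ⟨c, κ, hrel, max c₁ c₂ + 1, ?_⟩
  intro f' κ' hf hκ' hrel' n
  have AR1 : ∀ (n : ℕ) (x : A), x ∈ Ideal.span (Set.range f) → x ∈ I ^ n →
      ∃ v : Fin s → A, (∀ j, v j ∈ I ^ (n - c₁)) ∧ ev f v = x := by
    intro n x hx hxn
    have hx1 : x ∈ LinearMap.range φ₁ := by
      rw [Fintype.range_linearCombination]; exact hx
    have hx2 : x ∈ I ^ n • (⊤ : Submodule A A) := by
      have h0 := Submodule.smul_mem_smul (N := (⊤ : Submodule A A)) hxn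
        (Submodule.mem_top (x := (1 : A)))
      have h00 : x • (1 : A) = x := by rw [smul_eq_mul, mul_one]
      rw [h00] at h0
      exact h0
    obtain ⟨v, hv, hvx⟩ := h₁ n x hx1 hx2
    exact ⟨v, hv, by rw [← hφ₁]; exact hvx⟩
  have AR2 : ∀ (t : ℕ) (v : Fin s → A), ev f v = 0 → (∀ j, v j ∈ I ^ t) →
      ∃ z : Fin c → A, (∀ i, z i ∈ I ^ (t - c₂)) ∧ evκ κ z = v := by
    intro t v hv0 hvt
    have hx1 : v ∈ LinearMap.range φ₂ := by
      rw [Fintype.range_linearCombination, hκ, LinearMap.mem_ker, hφ₁]; exact hv0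
    have hx2 : v ∈ I ^ t • (⊤ : Submodule A (Fin s → A)) := mem_smul_top_of_coord _ v hvt
    obtain ⟨z, hz, hzv⟩ := h₂ t v hx1 hx2
    exact ⟨z, hz, by rw [← hφ₂]; exact hzv⟩
  exact init_eq I f f' κ κ' c₁ c₂ (max c₁ c₂ + 1) (by omega) (by omega) AR1 AR2 hf hκ' hrel' n

end Groth.Agent.Helper2.ARApx
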