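import Mathlib
import Groth.Agent.Helper2.ATate1

set_option autoImplicit false
set_option linter.style.haveILetI false
set_option linter.unusedSectionVars false
set_option linter.unusedVariables false

universe u

/-! Essential Artin–Tate, part 2: the core argument. -/

namespace Groth.Agent.Helper2.ATate

open TensorProduct IsLocalRing

section Core

variable {A D C : Type u} [CommRing A] [IsNoetherianRing A] [CommRing D] [IsLocalRing D]
  [IsNoetherianRing D] [Algebra A D] [CommRing C] [Algebra D C] [Algebra A C] [IsScalarTower A D C]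
  {ι : Type*} [Fintype ι] [DecidableEq ι] (γ : ι → C)

set_option maxHeartbeats 1600000 in
theorem core (hspan : Submodule.span D (Set.range γ) = ⊤) (i₀ : ι) (hi₀ : γ i₀ = 1)
    (hfrac : ∀ x : C, ∃ t ∈ Algebra.adjoin A (Set.range γ),
      IsUnit t ∧ x * t ∈ Algebra.adjoin A (Set.range γ))
    (hinj : Function.Injective (algebraMap D C)) : Algebra.EssFiniteType A D := by
  classical
  set π : (ι → D) →ₗ[D] C := Fintype.linearCombination D γ with hπ
  have hπsurj : Function.Surjective π := by
    rw [← LinearMap.range_eq_top, Fintype.range_linearCombination, hspan]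
  obtain ⟨ρs, hρs⟩ : (LinearMap.ker π).FG := IsNoetherian.noetherian _
  have hv : ∀ i j, ∃ v : ι → D, π v = γ i * γ j := fun i j => hπsurj _
  choose v hv using hv
  let coords : Finset D := (ρs.biUnion fun ρ => Finset.univ.image ρ) ∪
    (Finset.univ.biUnion fun ij : ι × ι => Finset.univ.image (v ij.1 ij.2))
  let D₁ : Subalgebra A D := Algebra.adjoin A (coords : Set D)
  have hρmem : ∀ ρ ∈ ρs, ∀ k, ρ k ∈ D₁ := by
    intro ρ hρ k
    apply Algebra.subset_adjoin
    simp only [coords, Finset.coe_union, Set.mem_union, Finset.mem_coe, Finset.mem_biUnion,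
      Finset.mem_image, Finset.mem_univ, true_and]
    exact Or.inl ⟨ρ, hρ, k, rfl⟩
  have hvmem : ∀ i j k, v i j k ∈ D₁ := by
    intro i j k
    apply Algebra.subset_adjoin
    simp only [coords, Finset.coe_union, Set.mem_union, Finset.mem_coe, Finset.mem_biUnion,
      Finset.mem_image, Finset.mem_univ, true_and]
    exact Or.inr ⟨(i, j), k, rfl⟩
  haveI : Algebra.FiniteType A D₁ := ⟨(Subalgebra.fg_top _).2 ⟨coords, rfl⟩⟩
  haveI : IsNoetherianRing D₁ := Algebra.FiniteType.isNoetherianRing A D₁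
  let 𝔭₁ : Ideal D₁ := (maximalIdeal D).comap (algebraMap D₁ D)
  haveI : 𝔭₁.IsPrime := Ideal.comap_isPrime _ _
  let D₂ := Localization.AtPrime 𝔭₁
  have hunits : ∀ y : 𝔭₁.primeCompl, IsUnit (algebraMap D₁ D y) := by
    intro y
    by_contra h
    exact y.2 ((mem_maximalIdeal _).2 h)
  let f₂ : D₂ →+* D := IsLocalization.lift hunits
  letI : Algebra D₂ D := f₂.toAlgebra
  have hf₂ : ∀ x : D₁, algebraMap D₂ D (algebraMap D₁ D₂ x) = (x : D) :=
    fun x => IsLocalization.lift_eq hunits x
  haveI : IsScalarTower D₁ D₂ D := IsScalarTower.of_algebraMap_eq (fun x => (hf₂ x).symm)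
  haveI : IsLocalHom (algebraMap D₂ D) := by
    refine ⟨fun z hz => ?_⟩
    obtain ⟨x, s, rfl⟩ := IsLocalization.exists_mk'_eq 𝔭₁.primeCompl z
    have h1 : algebraMap D₂ D (IsLocalization.mk' D₂ x s) * algebraMap D₂ D (algebraMap D₁ D₂ s) =
        algebraMap D₂ D (algebraMap D₁ D₂ x) := by
      rw [← map_mul, IsLocalization.mk'_spec]
    rw [hf₂, hf₂] at h1
    have hx : IsUnit ((x : D₁) : D) := by
      rw [← h1]
      exact hz.mul (hunits s)
    have hx' : x ∈ 𝔭₁.primeCompl := by
      intro hmem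
      exact ((mem_maximalIdeal _).1 hmem) hx
    have h2 : IsUnit (algebraMap D₁ D₂ x) := IsLocalization.map_units D₂ ⟨x, hx'⟩
    have h3 : IsLocalization.mk' D₂ x s * algebraMap D₁ D₂ s = algebraMap D₁ D₂ x :=
      IsLocalization.mk'_spec D₂ x s
    exact isUnit_of_mul_isUnit_left (h3 ▸ h2)
  haveI : IsNoetherianRing D₂ := IsLocalization.isNoetherianRing 𝔭₁.primeCompl D₂ inferInstance
  letI : Algebra D₂ C := ((algebraMap D C).comp (algebraMap D₂ D)).toAlgebra
  haveI : IsScalarTower D₂ D C := IsScalarTower.of_algebraMap_eq (fun _ => rfl)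
  -- the free module and its map
  let P := ι → D₂
  let π₂ : P →ₗ[D₂] C := Fintype.linearCombination D₂ γ
  let ιP : P → (ι → D) := fun p k => algebraMap D₂ D (p k)
  have hπ₂ : ∀ p : P, π₂ p = π (ιP p) := by
    intro p
    simp only [π₂, hπ, Fintype.linearCombination_apply, ιP]
    refine Finset.sum_congr rfl fun k _ => ?_
    rw [algebraMap_smul]
  let lift : ∀ w : ι → D, (∀ k, w k ∈ D₁) → P := fun w hw k => algebraMap D₁ D₂ ⟨w k, hw k⟩
  have hlift : ∀ w hw, ιP (lift w hw) = w := by
    intro w hw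
    funext k
    exact hf₂ ⟨w k, hw k⟩
  let C₂ : Submodule D₂ C := LinearMap.range π₂
  have hγ₂ : ∀ i, γ i ∈ C₂ := by
    intro i
    refine ⟨Pi.single i 1, ?_⟩
    show Fintype.linearCombination D₂ γ (Pi.single i 1) = γ i
    rw [Fintype.linearCombination_apply_single, one_smul]
  have hmul : ∀ x ∈ C₂, ∀ y ∈ C₂, x * y ∈ C₂ := by
    rintro _ ⟨p, rfl⟩ _ ⟨p', rfl⟩
    show (∑ i, p i • γ i) * (∑ j, p' j • γ j) ∈ C₂
    rw [Finset.sum_mul_sum]
    refine Submodule.sum_mem _ fun i _ => Submodule.sum_mem _ fun j _ => ?_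
    rw [smul_mul_smul_comm]
    refine Submodule.smul_mem _ _ ?_
    refine ⟨lift (v i j) (hvmem i j), ?_⟩
    rw [hπ₂, hlift, hv]
  have hone : (1 : C) ∈ C₂ := hi₀ ▸ hγ₂ i₀
  have hA₂ : ∀ a : A, algebraMap A C a ∈ C₂ := by
    intro a
    have h1 : algebraMap A C a = (algebraMap D₁ D₂ (algebraMap A D₁ a)) • (1 : C) := by
      rw [Algebra.smul_def, mul_one]
      show _ = algebraMap D C (algebraMap D₂ D (algebraMap D₁ D₂ (algebraMap A D₁ a)))
      rw [hf₂, IsScalarTower.algebraMap_apply A D C]
      rfl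
    rw [h1]
    exact Submodule.smul_mem _ _ hone
  have hC₀ : ∀ x ∈ Algebra.adjoin A (Set.range γ), x ∈ C₂ := by
    intro x hx
    induction hx using Algebra.adjoin_induction with
    | mem x hx => obtain ⟨i, rfl⟩ := hx; exact hγ₂ i
    | algebraMap a => exact hA₂ a
    | add x y _ _ hx hy => exact add_mem hx hy
    | mul x y _ _ hx hy => exact hmul x hx y hy
  -- the key: units of `C` lying in `C₂` have inverse in `C₂`
  have hkey : ∀ t ∈ C₂, IsUnit t → ∃ c ∈ C₂, t * c = 1 := by
    intro t ht htu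
    have hp : ∀ i, ∃ p : P, π₂ p = t * γ i := fun i => hmul t ht _ (hγ₂ i)
    choose p hp using hp
    let N₀ : Submodule D₂ P := Submodule.span D₂ (Set.range p) ⊔ LinearMap.ker π₂
    have hN₀ : ∀ n ∈ N₀, ∃ c ∈ C₂, π₂ n = t * c := by
      intro n hn
      obtain ⟨n₁, hn₁, n₂, hn₂, rfl⟩ := Submodule.mem_sup.1 hn
      have h2 : π₂ n₂ = 0 := hn₂
      rw [map_add, h2, add_zero]
      clear hn h2 hn₂
      induction hn₁ using Submodule.span_induction with
      | mem x hx => obtain ⟨i, rfl⟩ := hx; exact ⟨γ i, hγ₂ i, hp i⟩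
      | zero => exact ⟨0, zero_mem _, by simp⟩
      | add x y _ _ hx hy =>
        obtain ⟨c, hc, hc'⟩ := hx
        obtain ⟨c', hc2, hc2'⟩ := hy
        exact ⟨c + c', add_mem hc hc2, by rw [map_add, hc', hc2', mul_add]⟩
      | smul r x _ hx =>
        obtain ⟨c, hc, hc'⟩ := hx
        exact ⟨r • c, Submodule.smul_mem _ _ hc, by rw [map_smul, hc', mul_smul_comm]⟩
    suffices hN₀top : N₀ = ⊤ by
      have h1 : (Pi.single i₀ 1 : P) ∈ N₀ := hN₀top ▸ Submodule.mem_top
      obtain ⟨c, hc, hc'⟩ := hN₀ _ h1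
      refine ⟨c, hc, ?_⟩
      rw [← hc']
      show Fintype.linearCombination D₂ γ (Pi.single i₀ 1) = 1
      rw [Fintype.linearCombination_apply_single, one_smul, hi₀]
    rw [← Submodule.Quotient.subsingleton_iff]
    apply subsingleton_of_subsingleton_tensor D₂ D (P ⧸ N₀)
    -- the D-linear map
    let e := TensorProduct.piScalarRight D₂ D D ι
    let g : (ι → D) →ₗ[D] D ⊗[D₂] (P ⧸ N₀) :=
      (LinearMap.baseChange D N₀.mkQ) ∘ₗ e.symm.toLinearMap
    have he : ∀ (d : D) (q : P), e (d ⊗ₜ q) = d • ιP q := by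
      intro d q
      funext j
      simp only [e, TensorProduct.piScalarRight_apply, TensorProduct.piScalarRightHom_tmul,
        Pi.smul_apply, ιP, smul_eq_mul]
      rw [Algebra.smul_def, mul_comm]
    have hg : ∀ (d : D) (q : P), g (d • ιP q) = d ⊗ₜ (N₀.mkQ q) := by
      intro d q
      simp only [g, LinearMap.comp_apply, LinearEquiv.coe_coe]
      rw [← he, LinearEquiv.symm_apply_apply, LinearMap.baseChange_tmul]
    have hg0 : ∀ w : ι → D, g w = 0 := by
      intro w
      obtain ⟨w', hw'⟩ := hπsurj (↑(htu.unit⁻¹) * π w)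
      have h1 : π w = t * π w' := by
        rw [hw', ← mul_assoc]
        have : t * ↑(htu.unit⁻¹) = 1 := by
          have := htu.unit.mul_inv
          rwa [IsUnit.unit_spec] at this
        rw [this, one_mul]
      have h2 : t * π w' = π (∑ i, w' i • ιP (p i)) := by
        rw [map_sum, hπ, Fintype.linearCombination_apply, Finset.mul_sum]
        refine Finset.sum_congr rfl fun i _ => ?_
        rw [map_smul, ← hπ, ← hπ₂, hp, mul_smul_comm]
      have h3 : w - ∑ i, w' i • ιP (p i) ∈ Submodule.span D (ρs : Set (ι → D)) := by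
        rw [hρs, LinearMap.mem_ker, map_sub, h1, h2, sub_self]
      have h4 : g (∑ i, w' i • ιP (p i)) = 0 := by
        rw [map_sum]
        refine Finset.sum_eq_zero fun i _ => ?_
        rw [hg]
        have : N₀.mkQ (p i) = 0 := by
          rw [Submodule.mkQ_apply, Submodule.Quotient.mk_eq_zero]
          exact Submodule.mem_sup_left (Submodule.subset_span ⟨i, rfl⟩)
        rw [this, tmul_zero]
      have h5 : ∀ r ∈ Submodule.span D (ρs : Set (ι → D)), g r = 0 := by
        intro r hr
        induction hr using Submodule.span_induction with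
        | mem ρ hρ =>
          have h6 : ρ = (1 : D) • ιP (lift ρ (hρmem ρ hρ)) := by rw [one_smul, hlift]
          rw [h6, hg]
          have : N₀.mkQ (lift ρ (hρmem ρ hρ)) = 0 := by
            rw [Submodule.mkQ_apply, Submodule.Quotient.mk_eq_zero]
            refine Submodule.mem_sup_right ?_
            rw [LinearMap.mem_ker, hπ₂, hlift]
            have : ρ ∈ LinearMap.ker π := hρs ▸ Submodule.subset_span hρ
            exact this
          rw [this, tmul_zero]
        | zero => exact map_zero _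
        | add x y _ _ hx hy => rw [map_add, hx, hy, add_zero]
        | smul d x _ hx => rw [map_smul, hx, smul_zero]
      have h6 : w = (w - ∑ i, w' i • ιP (p i)) + ∑ i, w' i • ιP (p i) := by ring
      rw [h6, map_add, h5 _ h3, h4, add_zero]
    refine ⟨fun x y => ?_⟩
    have h0 : ∀ z : D ⊗[D₂] (P ⧸ N₀), z = 0 := by
      intro z
      induction z using TensorProduct.induction_on with
      | zero => rfl
      | tmul d q =>
        obtain ⟨q', rfl⟩ := N₀.mkQ_surjective q
        rw [← hg, hg0]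
      | add a b ha hb => rw [ha, hb, add_zero]
    rw [h0 x, h0 y]
  -- `C₂` is everything
  have hC₂top : C₂ = ⊤ := by
    rw [eq_top_iff]
    rintro x -
    obtain ⟨t, ht, htu, hxt⟩ := hfrac x
    obtain ⟨c, hc, hc'⟩ := hkey t (hC₀ t ht) htu
    have h1 : x = (x * t) * c := by rw [mul_assoc, hc', mul_one]
    rw [h1]
    exact hmul _ (hC₀ _ hxt) _ hc
  -- `D` is a finite `D₂`-module
  haveI : Module.Finite D₂ C := by
    have hsurj : Function.Surjective π₂ := LinearMap.range_eq_top.1 hC₂top
    exact Module.Finite.of_surjective π₂ hsurj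
  haveI : IsNoetherian D₂ C := isNoetherian_of_isNoetherianRing_of_finite D₂ C
  haveI : Module.Finite D₂ D :=
    Module.Finite.of_injective (IsScalarTower.toAlgHom D₂ D C).toLinearMap hinj
  obtain ⟨δs, hδs⟩ := (Module.Finite.fg_top : (⊤ : Submodule D₂ D).FG)
  -- conclusion
  rw [Algebra.essFiniteType_iff]
  refine ⟨coords ∪ δs, ?_⟩
  set Ã : Subalgebra A D := Algebra.adjoin A ((coords ∪ δs : Finset D) : Set D) with hÃ
  have hD₁Ã : D₁ ≤ Ã := Algebra.adjoin_mono (by
    intro x hx
    exact Finset.mem_coe.2 (Finset.mem_union_left _ (Finset.mem_coe.1 hx)))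
  have hδÃ : ∀ δ ∈ δs, δ ∈ Ã := fun δ hδ => Algebra.subset_adjoin
    (Finset.mem_coe.2 (Finset.mem_union_right _ hδ))
  have hmain : ∀ d ∈ Submodule.span D₂ (δs : Set D),
      ∃ u : D, u ∈ D₁ ∧ IsUnit u ∧ d * u ∈ Ã := by
    intro d hd
    induction hd using Submodule.span_induction with
    | mem δ hδ => exact ⟨1, one_mem _, isUnit_one, by rw [mul_one]; exact hδÃ δ hδ⟩
    | zero => exact ⟨1, one_mem _, isUnit_one, by rw [zero_mul]; exact zero_mem _⟩
    | add x y _ _ hx hy =>
      obtain ⟨u, hu, huu, hxu⟩ := hx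
      obtain ⟨u', hu', huu', hyu⟩ := hy
      refine ⟨u * u', mul_mem hu hu', huu.mul huu', ?_⟩
      have : (x + y) * (u * u') = (x * u) * u' + (y * u') * u := by ring
      rw [this]
      exact add_mem (mul_mem hxu (hD₁Ã hu')) (mul_mem hyu (hD₁Ã hu))
    | smul r x _ hx =>
      obtain ⟨u, hu, huu, hxu⟩ := hx
      obtain ⟨a, s, rfl⟩ := IsLocalization.exists_mk'_eq 𝔭₁.primeCompl r
      have h1 : algebraMap D₂ D (IsLocalization.mk' D₂ a s) * ((s : D₁) : D) = ((a : D₁) : D) := by
        rw [← hf₂ s, ← map_mul, IsLocalization.mk'_spec, hf₂]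
      refine ⟨u * ((s : D₁) : D), mul_mem hu (s : D₁).2, huu.mul (hunits s), ?_⟩
      have h2 : (IsLocalization.mk' D₂ a s • x) * (u * ((s : D₁) : D)) =
          ((a : D₁) : D) * (x * u) := by
        rw [Algebra.smul_def, ← h1]; ring
      rw [h2]
      exact mul_mem (hD₁Ã (a : D₁).2) hxu
  intro d
  obtain ⟨u, hu, huu, hdu⟩ := hmain d (hδs ▸ Submodule.mem_top)
  exact ⟨u, hD₁Ã hu, huu, hdu⟩

end Core

section Main

variable (A D C : Type u) [CommRing A] [IsNoetherianRing A] [CommRing D] [IsLocalRing D]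
  [IsNoetherianRing D] [Algebra A D] [CommRing C] [Algebra D C] [Algebra A C] [IsScalarTower A D C]

/-- **Essential Artin–Tate.** If `D` is a noetherian local `A`-algebra, `C` a finite `D`-algebra
containing `D` which is essentially of finite type over the noetherian ring `A`, then `D` is
essentially of finite type over `A`. -/
theorem main [Module.Finite D C] [Algebra.EssFiniteType A C]
    (hinj : Function.Injective (algebraMap D C)) : Algebra.EssFiniteType A D := by
  classical
  obtain ⟨σ, hσ⟩ := (Algebra.essFiniteType_iff A C).1 inferInstance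
  obtain ⟨n, s, hs⟩ := Module.Finite.exists_fin (R := D) (M := C)
  set C₀ : Subalgebra A C := Algebra.adjoin A (σ : Set C) with hC₀
  have ht : ∀ k, ∃ t ∈ C₀, IsUnit t ∧ s k * t ∈ C₀ := fun k => hσ (s k)
  choose t ht₀ htu hst using ht
  let τ : C := ∏ k, t k
  have hτu : IsUnit τ := by
    have : ∀ k ∈ (Finset.univ : Finset (Fin n)), IsUnit (t k) := fun k _ => htu k
    exact (IsUnit.prod_univ_iff (f := t)).2 htu
  have hsτ : ∀ k, s k * τ ∈ C₀ := by
    intro k
    have h1 : τ = t k * ∏ j ∈ Finset.univ.erase k, t j :=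
      (Finset.mul_prod_erase Finset.univ t (Finset.mem_univ k)).symm
    rw [h1, ← mul_assoc]
    exact mul_mem (hst k) (Subalgebra.prod_mem _ fun j _ => ht₀ j)
  let γ : Fin n ⊕ ((σ : Set C) ⊕ Unit) → C := fun x =>
    match x with
    | Sum.inl k => s k * τ
    | Sum.inr (Sum.inl f) => (f : C)
    | Sum.inr (Sum.inr _) => 1
  have hγC₀ : ∀ x, γ x ∈ C₀ := by
    rintro (k | f | u)
    · exact hsτ k
    · exact Algebra.subset_adjoin f.2
    · exact one_mem _
  have hadj : Algebra.adjoin A (Set.range γ) = C₀ := by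
    apply le_antisymm
    · apply Algebra.adjoin_le
      rintro _ ⟨x, rfl⟩
      exact hγC₀ x
    · apply Algebra.adjoin_mono
      intro f hf
      exact ⟨Sum.inr (Sum.inl ⟨f, hf⟩), rfl⟩
  have hspan : Submodule.span D (Set.range γ) = ⊤ := by
    rw [eq_top_iff]
    rintro x -
    obtain ⟨τ', hτ'⟩ := hτu.exists_right_inv
    have h1 : x * τ' ∈ Submodule.span D (Set.range s) := hs ▸ Submodule.mem_top
    have h2 : ∀ y ∈ Submodule.span D (Set.range s), y * τ ∈ Submodule.span D (Set.range γ) := by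
      intro y hy
      induction hy using Submodule.span_induction with
      | mem y hy =>
        obtain ⟨k, rfl⟩ := hy
        exact Submodule.subset_span ⟨Sum.inl k, rfl⟩
      | zero => rw [zero_mul]; exact zero_mem _
      | add a b _ _ ha hb => rw [add_mul]; exact add_mem ha hb
      | smul d a _ ha => rw [smul_mul_assoc]; exact Submodule.smul_mem _ _ ha
    have h3 := h2 _ h1
    have h4 : x * τ' * τ = x := by
      rw [mul_assoc, mul_comm τ' τ, hτ', mul_one]
    rwa [h4] at h3
  refine core (A := A) (D := D) (C := C) γ hspan (Sum.inr (Sum.inr ())) rfl ?_ hinj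
  rw [hadj]
  exact hσ

end Main

end Groth.Agent.Helper2.ATate
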