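import Mathlib

set_option autoImplicit false

namespace Groth.Agent.Helper2.AbResFin

open DirectSum

/-- residual finiteness "prime to `p`" of finitely generated abelian groups without `p`-torsion -/
theorem exists_nsmul_avoid (G : Type*) [AddCommGroup G] [AddGroup.FG G] (p : ℕ)
    (hp : p = 0 ∨ p.Prime) (htors : p ≠ 0 → ∀ g : G, p • g = 0 → g = 0) (g : G) (hg : g ≠ 0) :
    ∃ n : ℕ, 0 < n ∧ ¬ p ∣ n ∧ ∀ h : G, n • h ≠ g := by
  classical
  obtain ⟨r, ι, _, q, hq, e, ⟨φ⟩⟩ := AddCommGroup.equiv_free_prod_directSum_zmod G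
  have hφg : φ g ≠ 0 := fun h => hg (by simpa using h)
  by_cases ha : (φ g).1 = 0
  · -- torsion part
    have hb : (φ g).2 ≠ 0 := fun hb => hφg (Prod.ext ha hb)
    obtain ⟨i, hi⟩ : ∃ i, (φ g).2 i ≠ 0 := by
      by_contra hcon
      push Not at hcon
      exact hb (DFinsupp.ext hcon)
    have hei : e i ≠ 0 := by
      intro h0
      apply hi
      have : Subsingleton (ZMod (q i ^ e i)) := by
        rw [h0, pow_zero]
        infer_instance
      exact Subsingleton.elim _ _
    refine ⟨q i ^ e i, pow_pos (hq i).pos _, ?_, ?_⟩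
    · intro hdvd
      rcases hp with rfl | hp
      · exact (pow_pos (hq i).pos _).ne' (zero_dvd_iff.mp hdvd)
      · have hpq : p = q i := (Nat.prime_dvd_prime_iff_eq hp (hq i)).mp (hp.dvd_of_dvd_pow hdvd)
        -- an element of order p
        let t : ⨁ i : ι, ZMod (q i ^ e i) :=
          DirectSum.of (fun i => ZMod (q i ^ e i)) i ((q i ^ (e i - 1) : ℕ) : ZMod (q i ^ e i))
        have ht0 : t ≠ 0 := by
          intro h
          have h1 : t i = 0 := by rw [h]; rfl
          rw [DirectSum.of_eq_same] at h1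
          rw [ZMod.natCast_eq_zero_iff] at h1
          have h2 := Nat.pow_dvd_pow_iff_le_right (hq i).one_lt |>.mp h1
          omega
        have htp : p • t = 0 := by
          rw [hpq]
          show (q i) • DirectSum.of (fun i => ZMod (q i ^ e i)) i _ = 0
          rw [← map_nsmul, nsmul_eq_mul, ← Nat.cast_mul, ← pow_succ', Nat.sub_add_cancel
            (Nat.one_le_iff_ne_zero.mpr hei), ZMod.natCast_self, map_zero]
        have h3 : p • φ.symm (0, t) = 0 := by
          rw [← map_nsmul, Prod.smul_mk, htp, smul_zero]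
          exact map_zero _
        have h4 := htors hp.ne_zero _ h3
        have h5 : ((0 : Fin r →₀ ℤ), t) = 0 := by simpa using congrArg φ h4
        exact ht0 (congrArg Prod.snd h5)
    · intro h hh
      apply hi
      have h1 : φ g = (q i ^ e i) • φ h := by rw [← hh, map_nsmul]
      rw [h1]
      show ((q i ^ e i) • (φ h).2) i = 0
      have h2 : ((q i ^ e i) • (φ h).2) i = (q i ^ e i) • ((φ h).2 i) := DFinsupp.smul_apply _ _ _
      rw [h2, nsmul_eq_mul, ZMod.natCast_self, zero_mul]
  · -- free part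
    obtain ⟨j, hj⟩ : ∃ j, (φ g).1 j ≠ 0 := by
      by_contra hcon
      push Not at hcon
      exact ha (Finsupp.ext hcon)
    obtain ⟨ℓ, hℓ, hℓp⟩ := Nat.exists_infinite_primes (max (((φ g).1 j).natAbs + 1) (p + 1))
    refine ⟨ℓ, hℓp.pos, ?_, ?_⟩
    · intro hdvd
      have hlt : p < ℓ := by
        have := le_max_right (((φ g).1 j).natAbs + 1) (p + 1)
        omega
      rcases hp with rfl | hp
      · exact hℓp.ne_zero (zero_dvd_iff.mp hdvd)
      · have := (Nat.prime_dvd_prime_iff_eq hp hℓp).mp hdvd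
        omega
    · intro h hh
      apply hj
      have h1 : φ g = ℓ • φ h := by rw [← hh, map_nsmul]
      have h2 : (φ g).1 j = ℓ * (φ h).1 j := by
        rw [h1]
        simp
      have hlt : ((φ g).1 j).natAbs < ℓ := by
        have := le_max_left (((φ g).1 j).natAbs + 1) (p + 1)
        omega
      have hdvd : (ℓ : ℤ) ∣ (φ g).1 j := ⟨_, h2⟩
      exact Int.eq_zero_of_abs_lt_dvd hdvd (by
        rw [Int.abs_eq_natAbs]
        exact_mod_cast hlt)

/-- multiplicative version -/
theorem exists_pow_avoid (M : Type*) [CommGroup M] [Group.FG M] (p : ℕ)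
    (hp : p = 0 ∨ p.Prime) (htors : p ≠ 0 → ∀ m : M, m ^ p = 1 → m = 1) (g : M) (hg : g ≠ 1) :
    ∃ n : ℕ, 0 < n ∧ ¬ p ∣ n ∧ ∀ h : M, h ^ n ≠ g := by
  haveI : AddGroup.FG (Additive M) := AddGroup.fg_iff_mul_fg.mpr ‹_›
  obtain ⟨n, hn, hpn, h⟩ := exists_nsmul_avoid (Additive M) p hp
    (fun hp0 m hm => htors hp0 m.toMul hm) (Additive.ofMul g) hg
  exact ⟨n, hn, hpn, fun m hm => h (Additive.ofMul m) hm⟩

/-- finitely many elements are separated modulo `n`-th powers for a suitable `n` prime to `p` -/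
theorem exists_pow_injOn (M : Type*) [CommGroup M] [Group.FG M] (p : ℕ)
    (hp : p = 0 ∨ p.Prime) (htors : p ≠ 0 → ∀ m : M, m ^ p = 1 → m = 1) (S : Finset M) :
    ∃ n : ℕ, 0 < n ∧ ¬ p ∣ n ∧ ∀ s ∈ S, ∀ t ∈ S, (∃ h : M, h ^ n = s * t⁻¹) → s = t := by
  classical
  have key : ∀ P : Finset (M × M), ∃ n : ℕ, 0 < n ∧ ¬ p ∣ n ∧
      ∀ x ∈ P, (∃ h : M, h ^ n = x.1 * x.2⁻¹) → x.1 = x.2 := by
    intro P
    induction P using Finset.induction_on with
    | empty => exact ⟨1, one_pos, by
        rcases hp with rfl | hp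
        · simp
        · exact fun h => hp.one_lt.ne' (Nat.dvd_one.mp h), by simp⟩
    | insert x P hx ih =>
      obtain ⟨n, hn, hpn, hP⟩ := ih
      by_cases hxx : x.1 = x.2
      · refine ⟨n, hn, hpn, ?_⟩
        intro y hy
        rcases Finset.mem_insert.mp hy with rfl | hy
        · exact fun _ => hxx
        · exact hP y hy
      · have hg : x.1 * x.2⁻¹ ≠ 1 := fun h => hxx (mul_inv_eq_one.mp h)
        obtain ⟨n', hn', hpn', hx'⟩ := exists_pow_avoid M p hp htors _ hg
        refine ⟨n * n', Nat.mul_pos hn hn', ?_, ?_⟩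
        · rcases hp with rfl | hp
          · simp only [zero_dvd_iff] at hpn hpn' ⊢
            exact Nat.mul_ne_zero hpn hpn'
          · intro h
            rcases (Nat.Prime.dvd_mul hp).mp h with h | h
            · exact hpn h
            · exact hpn' h
        · intro y hy
          rcases Finset.mem_insert.mp hy with rfl | hy
          · rintro ⟨h, hh⟩
            exact absurd (by rw [← hh, pow_mul]) (hx' (h ^ n))
          · rintro ⟨h, hh⟩
            exact hP y hy ⟨h ^ n', by rw [← hh, ← pow_mul, mul_comm]⟩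
  obtain ⟨n, hn, hpn, h⟩ := key (S ×ˢ S)
  exact ⟨n, hn, hpn, fun s hs t ht hst => h (s, t) (Finset.mem_product.mpr ⟨hs, ht⟩) hst⟩

end Groth.Agent.Helper2.AbResFin
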