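import Mathlib
import Groth.Prelude.Def_EGA41
import Groth.Prelude.Def_CAlgX

set_option autoImplicit false
universe u

namespace Groth.Agent.Helper2.AdicFS

variable {A B : Type u} [CommRing A] [CommRing B] [Algebra A B]

/-- an algebra map killing `𝔟 ^ k` modulo a nilpotent ideal kills a power of `𝔟`. -/
lemma cont_of_cont_mk {C : Type u} [CommRing C] [Algebra A C] (𝔟 : Ideal B) (J : Ideal C)
    (hJ : IsNilpotent J) (v : B →ₐ[A] C)
    (h : ∃ k : ℕ, ∀ x ∈ 𝔟 ^ k, (Ideal.Quotient.mkₐ A J).comp v x = 0) :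
    ∃ k : ℕ, ∀ x ∈ 𝔟 ^ k, v x = 0 := by
  obtain ⟨k, hk⟩ := h
  obtain ⟨m, hm⟩ := hJ
  have h1 : (𝔟 ^ k).map v.toRingHom ≤ J := by
    rw [Ideal.map_le_iff_le_comap]
    intro x hx
    have := hk x hx
    rw [Ideal.mem_comap]
    exact Ideal.Quotient.eq_zero_iff_mem.1 this
  refine ⟨k * m, fun x hx => ?_⟩
  have h2 : (𝔟 ^ (k * m)).map v.toRingHom ≤ J ^ m := by
    rw [pow_mul, Ideal.map_pow]
    exact Ideal.pow_right_mono h1 m
  have h3 : v x ∈ J ^ m := h2 (Ideal.mem_map_of_mem v.toRingHom hx)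
  rw [hm] at h3
  exact h3

/-- square-zero test ideals suffice for adic formal smoothness. -/
theorem isFormallySmoothAdic_of_sqzero (𝔞 : Ideal A) (𝔟 : Ideal B)
    (H : ∀ (C : Type u) [CommRing C] [Algebra A C] (J : Ideal C), J ^ 2 = ⊥ →
      (∃ k : ℕ, (𝔞 ^ k).map (algebraMap A C) = ⊥) →
      ∀ u : B →ₐ[A] C ⧸ J, (∃ k : ℕ, ∀ x ∈ 𝔟 ^ k, u x = 0) →
        ∃ v : B →ₐ[A] C, (Ideal.Quotient.mkₐ A J).comp v = u) :
    EGA41.IsFormallySmoothAdic A 𝔞 B 𝔟 := by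
  intro C _ _ J hJ hC u hu
  revert u hC
  revert ‹Algebra A C›
  have key := Ideal.IsNilpotent.induction_on (S := C) J hJ
    (P := fun S _ I => IsNilpotent I → ∀ [Algebra A S], (∃ k : ℕ, (𝔞 ^ k).map (algebraMap A S) = ⊥) →
      ∀ u : B →ₐ[A] S ⧸ I, (∃ k : ℕ, ∀ x ∈ 𝔟 ^ k, u x = 0) →
        ∃ v : B →ₐ[A] S, (Ideal.Quotient.mkₐ A I).comp v = u) ?_ ?_
  · intro _ hC u hu
    exact key hJ hC u hu
  · intro S _ I hI _ _ hS u hu
    exact H S I hI hS u hu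
  · intro S _ I J' hIJ h₁ h₂ hJnil _ hS u hu
    have hInil : IsNilpotent I := by
      obtain ⟨n, hn⟩ := hJnil
      refine ⟨n, ?_⟩
      rw [Ideal.zero_eq_bot, eq_bot_iff]
      exact (Ideal.pow_right_mono hIJ n).trans (le_of_eq hn)
    have hJ'nil : IsNilpotent (J'.map (Ideal.Quotient.mk I)) := by
      obtain ⟨n, hn⟩ := hJnil
      refine ⟨n, ?_⟩
      rw [← Ideal.map_pow, hn, Ideal.zero_eq_bot, Ideal.map_bot]
      rfl
    have hSI : ∃ k : ℕ, (𝔞 ^ k).map (algebraMap A (S ⧸ I)) = ⊥ := by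
      obtain ⟨k, hk⟩ := hS
      refine ⟨k, ?_⟩
      have : algebraMap A (S ⧸ I) = (Ideal.Quotient.mk I).comp (algebraMap A S) := rfl
      rw [this, ← Ideal.map_map, hk, Ideal.map_bot]
    let e : ((S ⧸ I) ⧸ J'.map (Ideal.Quotient.mk I)) ≃ₐ[A] S ⧸ J' :=
      { (DoubleQuot.quotQuotEquivQuotSup I J').trans
          (Ideal.quotEquivOfEq (sup_eq_right.mpr hIJ)) with
        commutes' := fun x => rfl }
    obtain ⟨v', hv'⟩ := h₂ hJ'nil hSI (e.symm.toAlgHom.comp u) (by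
      obtain ⟨k, hk⟩ := hu
      refine ⟨k, fun x hx => ?_⟩
      change e.symm (u x) = 0
      rw [hk x hx, map_zero])
    have hv'cont : ∃ k : ℕ, ∀ x ∈ 𝔟 ^ k, v' x = 0 := by
      apply cont_of_cont_mk 𝔟 _ hJ'nil v'
      obtain ⟨k, hk⟩ := hu
      refine ⟨k, fun x hx => ?_⟩
      rw [hv']
      change e.symm (u x) = 0
      rw [hk x hx, map_zero]
    obtain ⟨v, hv⟩ := h₁ hInil hS v' hv'cont
    refine ⟨v, ?_⟩
    have e1 := congr_arg e.toAlgHom.comp hv'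
    conv_rhs at e1 =>
      rw [← AlgHom.comp_assoc, AlgEquiv.comp_symm, AlgHom.id_comp]
    rw [← e1, ← hv]
    rfl

end Groth.Agent.Helper2.AdicFS
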