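import Mathlib
import Groth.Prelude.Def_EGA41
import Groth.Agent.Helper2.AdicFS

set_option autoImplicit false
universe u

namespace Groth.Agent.Helper2.AdicBC
open TensorProduct

/-- A faithfully flat projective algebra admits a linear retraction of the structure map. -/
theorem exists_retraction {A A' : Type*} [CommRing A] [CommRing A'] [Algebra A A']
    [Module.FaithfullyFlat A A'] [Module.Projective A A'] : ∃ ρ : A' →ₗ[A] A, ρ 1 = 1 := by
  obtain ⟨s, hs⟩ := (Module.projective_def' (R := A) (P := A')).mp inferInstance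
  let ev : (A' →ₗ[A] A) →ₗ[A] A := LinearMap.applyₗ (1 : A')
  have hI : LinearMap.range ev = ⊤ := by
    by_contra hne
    obtain ⟨𝔪, h𝔪, hle⟩ := Ideal.exists_le_maximal (LinearMap.range ev) hne
    have h1 : (1 : A') ∈ 𝔪 • (⊤ : Submodule A A') := by
      have h2 : (1 : A') = Finsupp.linearCombination A id (s 1) := by
        have := LinearMap.congr_fun hs 1
        simpa using this.symm
      rw [h2, Finsupp.linearCombination_apply]
      refine Submodule.sum_mem _ fun p _ => ?_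
      exact Submodule.smul_mem_smul (hle ⟨(Finsupp.lapply p) ∘ₗ s, rfl⟩) Submodule.mem_top
    apply Module.FaithfullyFlat.submodule_ne_top (R := A) (M := A') h𝔪
    rw [Ideal.smul_top_eq_map] at h1 ⊢
    have : 𝔪.map (algebraMap A A') = ⊤ := (Ideal.eq_top_iff_one _).mpr h1
    rw [this]; rfl
  have h1 : (1 : A) ∈ LinearMap.range ev := hI ▸ trivial
  obtain ⟨ρ, hρ⟩ := h1
  exact ⟨ρ, hρ⟩

variable {A B A' : Type u} [CommRing A] [CommRing B] [CommRing A'] [Algebra A B] [Algebra A A']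

theorem descend (𝔞 : Ideal A) (𝔟 : Ideal B) (ρ : A' →ₗ[A] A) (hρ : ρ 1 = 1)
    (h : EGA41.IsFormallySmoothAdic A' (𝔞.map (algebraMap A A')) (A' ⊗[A] B)
        ((𝔞.map (algebraMap A A')).map (algebraMap A' (A' ⊗[A] B)) ⊔
          𝔟.map (Algebra.TensorProduct.includeRight : B →ₐ[A] A' ⊗[A] B).toRingHom)) :
    EGA41.IsFormallySmoothAdic A 𝔞 B 𝔟 := by
  apply Groth.Agent.Helper2.AdicFS.isFormallySmoothAdic_of_sqzero
  intro C _ _ J hJ hC u hu
  obtain ⟨m, hm⟩ := hC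
  obtain ⟨k, hk⟩ := hu
  let ι : C →ₐ[A] A' ⊗[A] C := Algebra.TensorProduct.includeRight
  let J' : Ideal (A' ⊗[A] C) := J.map ι.toRingHom
  have hJ'sq : J' ^ 2 = ⊥ := by rw [← Ideal.map_pow, hJ, Ideal.map_bot]
  have hJ' : IsNilpotent J' := ⟨2, hJ'sq⟩
  -- the C-linear retraction
  let r : A' ⊗[A] C →ₗ[A] C := (TensorProduct.lid A C).toLinearMap ∘ₗ ρ.rTensor C
  have hr_tmul : ∀ (a : A') (c : C), r (a ⊗ₜ c) = ρ a • c := fun a c => by simp [r]
  have hr_mul : ∀ (c : C) (x : A' ⊗[A] C), r ((1 ⊗ₜ c) * x) = c * r x := by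
    intro c x
    induction x with
    | zero => simp
    | tmul a d =>
      rw [Algebra.TensorProduct.tmul_mul_tmul, hr_tmul, hr_tmul, one_mul, mul_smul_comm]
    | add x y hx hy => rw [mul_add, map_add, map_add, hx, hy, mul_add]
  have hr_J' : ∀ x ∈ J', r x ∈ J := by
    intro x hx
    have key : ∀ y : A' ⊗[A] C, r (y * x) ∈ J := by
      refine Submodule.span_induction (p := fun x _ => ∀ y : A' ⊗[A] C, r (y * x) ∈ J)
        ?_ ?_ ?_ ?_ hx
      · rintro _ ⟨j, hj, rfl⟩ y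
        have : y * ι.toRingHom j = (1 ⊗ₜ j) * y := by
          rw [mul_comm]; rfl
        rw [this, hr_mul]
        exact Ideal.mul_mem_right _ _ hj
      · intro y; simp
      · intro a b _ _ ha hb y
        rw [mul_add, map_add]
        exact Ideal.add_mem _ (ha y) (hb y)
      · intro a b _ hb y
        rw [smul_eq_mul, ← mul_assoc]
        exact hb (y * a)
    simpa using key 1
  -- test data over A'
  have hzero : ∀ a ∈ 𝔞 ^ m, algebraMap A C a = 0 := by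
    intro a ha
    have : algebraMap A C a ∈ (𝔞 ^ m).map (algebraMap A C) := Ideal.mem_map_of_mem _ ha
    rwa [hm] at this
  have hC' : ∃ k, ((𝔞.map (algebraMap A A')) ^ k).map (algebraMap A' (A' ⊗[A] C)) = ⊥ := by
    refine ⟨m, ?_⟩
    rw [← Ideal.map_pow, Ideal.map_map, eq_bot_iff, Ideal.map_le_iff_le_comap]
    intro a ha
    rw [Ideal.mem_comap, Ideal.mem_bot, RingHom.comp_apply,
      Algebra.TensorProduct.algebraMap_apply, Algebra.algebraMap_self_apply,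
      Algebra.algebraMap_eq_smul_one, TensorProduct.smul_tmul, ← Algebra.algebraMap_eq_smul_one,
      hzero a ha, TensorProduct.tmul_zero]
  have hle : J ≤ J'.comap ι := Ideal.le_comap_map
  let g : B →ₐ[A] (A' ⊗[A] C) ⧸ J' := (Ideal.quotientMapₐ J' ι hle).comp u
  let u' : A' ⊗[A] B →ₐ[A'] (A' ⊗[A] C) ⧸ J' :=
    Algebra.TensorProduct.lift (Algebra.ofId A' ((A' ⊗[A] C) ⧸ J')) g (fun _ _ => Commute.all _ _)
  have hu'_tmul : ∀ (a : A') (b : B), u' (a ⊗ₜ b) = algebraMap A' _ a * g b := fun a b => by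
    simp [u', Algebra.ofId_apply]
  have hu' : ∃ n : ℕ, ∀ x ∈ ((𝔞.map (algebraMap A A')).map (algebraMap A' (A' ⊗[A] B)) ⊔
          𝔟.map (Algebra.TensorProduct.includeRight : B →ₐ[A] A' ⊗[A] B).toRingHom) ^ n,
          u' x = 0 := by
    refine ⟨m + k, ?_⟩
    have hker : ((𝔞.map (algebraMap A A')).map (algebraMap A' (A' ⊗[A] B)) ⊔
          𝔟.map (Algebra.TensorProduct.includeRight : B →ₐ[A] A' ⊗[A] B).toRingHom) ^ (m + k) ≤
        RingHom.ker u'.toRingHom := by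
      refine Ideal.sup_pow_add_le_pow_sup_pow.trans (sup_le ?_ ?_)
      · rw [← Ideal.map_pow, ← Ideal.map_pow, Ideal.map_map, Ideal.map_le_iff_le_comap]
        intro a ha
        rw [Ideal.mem_comap, RingHom.mem_ker, RingHom.comp_apply]
        change u' (algebraMap A' (A' ⊗[A] B) (algebraMap A A' a)) = 0
        rw [AlgHom.commutes, ← IsScalarTower.algebraMap_apply]
        have h5 : algebraMap A ((A' ⊗[A] C) ⧸ J') a =
            Ideal.Quotient.mk J' (ι (algebraMap A C a)) := by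
          rw [AlgHom.commutes]; rfl
        rw [h5, hzero a ha, map_zero, map_zero]
      · rw [← Ideal.map_pow, Ideal.map_le_iff_le_comap]
        intro b hb
        rw [Ideal.mem_comap, RingHom.mem_ker]
        change u' ((1 : A') ⊗ₜ b) = 0
        rw [hu'_tmul, map_one, one_mul]
        change Ideal.quotientMapₐ J' ι hle (u b) = 0
        rw [hk b hb, map_zero]
    intro x hx
    exact hker hx
  obtain ⟨v', hv'⟩ := h (A' ⊗[A] C) J' hJ' hC' u' hu'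
  have hv'_apply : ∀ x, Ideal.Quotient.mk J' (v' x) = u' x := fun x => AlgHom.congr_fun hv' x
  let w₀ : B → C := fun b => r (v' (1 ⊗ₜ b))
  -- (a)
  have ha : ∀ (b : B) (c : C), Ideal.Quotient.mk J c = u b → v' (1 ⊗ₜ b) - 1 ⊗ₜ c ∈ J' := by
    intro b c hc
    rw [← Ideal.Quotient.eq, hv'_apply, hu'_tmul, map_one, one_mul]
    change Ideal.quotientMapₐ J' ι hle (u b) = _
    rw [← hc]
    rfl
  have hb : ∀ b : B, Ideal.Quotient.mk J (w₀ b) = u b := by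
    intro b
    obtain ⟨c, hc⟩ := Ideal.Quotient.mk_surjective (u b)
    have h1 := hr_J' _ (ha b c hc)
    rw [map_sub, hr_tmul, hρ, one_smul] at h1
    rw [← hc]
    exact Ideal.Quotient.eq.mpr h1
  have he : ∀ b : B, v' (1 ⊗ₜ b) - 1 ⊗ₜ w₀ b ∈ J' := fun b => ha b (w₀ b) (hb b)
  have hre : ∀ (b : B) (c : C), r ((1 ⊗ₜ c) * (v' (1 ⊗ₜ b) - 1 ⊗ₜ w₀ b)) = 0 := by
    intro b c
    rw [hr_mul, map_sub, hr_tmul, hρ, one_smul]
    change c * (w₀ b - w₀ b) = 0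
    rw [sub_self, mul_zero]
  have hmul : ∀ b₁ b₂ : B, w₀ (b₁ * b₂) = w₀ b₁ * w₀ b₂ := by
    intro b₁ b₂
    have h1 : v' (1 ⊗ₜ (b₁ * b₂)) = v' (1 ⊗ₜ b₁) * v' (1 ⊗ₜ b₂) := by
      rw [← map_mul, Algebra.TensorProduct.tmul_mul_tmul, one_mul]
    have h2 : (v' (1 ⊗ₜ b₁) - 1 ⊗ₜ w₀ b₁) * (v' (1 ⊗ₜ b₂) - 1 ⊗ₜ w₀ b₂) = 0 := by
      have : (v' (1 ⊗ₜ b₁) - 1 ⊗ₜ w₀ b₁) * (v' (1 ⊗ₜ b₂) - 1 ⊗ₜ w₀ b₂) ∈ J' ^ 2 := by
        rw [pow_two]
        exact Ideal.mul_mem_mul (he b₁) (he b₂)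
      rwa [hJ'sq] at this
    have h3 : v' (1 ⊗ₜ b₁) * v' (1 ⊗ₜ b₂) =
        (1 : A') ⊗ₜ[A] (w₀ b₁ * w₀ b₂) + (1 ⊗ₜ w₀ b₁) * (v' (1 ⊗ₜ b₂) - 1 ⊗ₜ w₀ b₂) +
          (1 ⊗ₜ w₀ b₂) * (v' (1 ⊗ₜ b₁) - 1 ⊗ₜ w₀ b₁) +
          (v' (1 ⊗ₜ b₁) - 1 ⊗ₜ w₀ b₁) * (v' (1 ⊗ₜ b₂) - 1 ⊗ₜ w₀ b₂) := by
      have : (1 : A') ⊗ₜ[A] (w₀ b₁ * w₀ b₂) = (1 ⊗ₜ w₀ b₁) * (1 ⊗ₜ w₀ b₂) := by
        rw [Algebra.TensorProduct.tmul_mul_tmul, one_mul]
      rw [this]
      ring
    change r (v' (1 ⊗ₜ (b₁ * b₂))) = _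
    rw [h1, h3, h2, add_zero, map_add, map_add, hre, hre, add_zero, add_zero, hr_tmul, hρ, one_smul]
  have hone : w₀ 1 = 1 := by
    change r (v' (1 ⊗ₜ 1)) = 1
    have : (1 : A') ⊗ₜ[A] (1 : B) = 1 := rfl
    rw [this, map_one]
    have : (1 : A' ⊗[A] C) = 1 ⊗ₜ 1 := rfl
    rw [this, hr_tmul, hρ, one_smul]
  let wl : B →ₗ[A] C := r ∘ₗ (v'.restrictScalars A).toLinearMap ∘ₗ
    (Algebra.TensorProduct.includeRight : B →ₐ[A] A' ⊗[A] B).toLinearMap
  have hwl : ∀ b, wl b = w₀ b := fun b => rfl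
  let χ : B →ₐ[A] C := AlgHom.ofLinearMap wl (by rw [hwl, hone])
    (fun x y => by rw [hwl, hwl, hwl, hmul])
  refine ⟨χ, ?_⟩
  ext b
  exact hb b

theorem baseChange (𝔞 : Ideal A) (𝔟 : Ideal B) (h : EGA41.IsFormallySmoothAdic A 𝔞 B 𝔟) :
    EGA41.IsFormallySmoothAdic A' (𝔞.map (algebraMap A A')) (A' ⊗[A] B)
        ((𝔞.map (algebraMap A A')).map (algebraMap A' (A' ⊗[A] B)) ⊔
          𝔟.map (Algebra.TensorProduct.includeRight : B →ₐ[A] A' ⊗[A] B).toRingHom) := by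
  intro C _ _ J hJ hC u hu
  letI algAC : Algebra A C := ((algebraMap A' C).comp (algebraMap A A')).toAlgebra
  haveI : IsScalarTower A A' C := .of_algebraMap_eq' rfl
  haveI : IsScalarTower A A' (C ⧸ J) := .of_algebraMap_eq' rfl
  have hC' : ∃ k, (𝔞 ^ k).map (algebraMap A C) = ⊥ := by
    obtain ⟨k, hk⟩ := hC
    refine ⟨k, ?_⟩
    rw [IsScalarTower.algebraMap_eq A A' C, ← Ideal.map_map, Ideal.map_pow, hk]
  let u₀ : B →ₐ[A] C ⧸ J := (u.restrictScalars A).comp Algebra.TensorProduct.includeRight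
  have hu₀ : ∃ k, ∀ x ∈ 𝔟 ^ k, u₀ x = 0 := by
    obtain ⟨k, hk⟩ := hu
    refine ⟨k, fun x hx => ?_⟩
    apply hk
    apply Ideal.pow_right_mono le_sup_right
    rw [← Ideal.map_pow]
    exact Ideal.mem_map_of_mem _ hx
  obtain ⟨v₀, hv₀⟩ := h C J hJ hC' u₀ hu₀
  let v : A' ⊗[A] B →ₐ[A'] C :=
    Algebra.TensorProduct.lift (Algebra.ofId A' C) v₀ (fun _ _ => Commute.all _ _)
  refine ⟨v, ?_⟩
  apply Algebra.TensorProduct.ext
  · ext
  · ext b
    have := AlgHom.congr_fun hv₀ b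
    simpa [v, u₀] using this

theorem iff [Module.FaithfullyFlat A A'] [Module.Projective A A'] (𝔞 : Ideal A) (𝔟 : Ideal B) :
    EGA41.IsFormallySmoothAdic A' (𝔞.map (algebraMap A A')) (A' ⊗[A] B)
        ((𝔞.map (algebraMap A A')).map (algebraMap A' (A' ⊗[A] B)) ⊔
          𝔟.map (Algebra.TensorProduct.includeRight : B →ₐ[A] A' ⊗[A] B).toRingHom) ↔
      EGA41.IsFormallySmoothAdic A 𝔞 B 𝔟 := by
  obtain ⟨ρ, hρ⟩ := exists_retraction (A := A) (A' := A')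
  exact ⟨descend 𝔞 𝔟 ρ hρ, baseChange 𝔞 𝔟⟩

end Groth.Agent.Helper2.AdicBC
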