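import Mathlib

set_option autoImplicit false
universe u

namespace Groth.Agent.Helper2.AdicCompleteLe

open Pointwise in
theorem exists_sum_of_mem_span_smul {A : Type u} [CommRing A] {M : Type u} [AddCommGroup M]
    [Module A M] (G : Finset A) (N : Submodule A M) (x : M)
    (hx : x ∈ Ideal.span (G : Set A) • N) :
    ∃ d : A → M, (∀ r, d r ∈ N) ∧ x = ∑ r ∈ G, r • d r := by
  rw [Submodule.span_smul_eq] at hx
  obtain ⟨c, hc, rfl⟩ := (Submodule.mem_set_smul _ _ _).mp hx
  refine ⟨fun r => (c r : M), fun r => (c r).2, ?_⟩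
  rw [Finsupp.sum]
  rw [AddSubmonoid.coe_finsetSum]
  refine Finset.sum_subset (by exact_mod_cast hc) ?_
  intro r _ hr
  rw [Finsupp.notMem_support_iff] at hr
  simp [hr]

theorem isPrecomplete_of_le {A : Type u} [CommRing A] (I J : Ideal A) (hIJ : I ≤ J)
    (hI : I.FG) (M : Type u) [AddCommGroup M] [Module A M] [IsAdicComplete J M] :
    IsPrecomplete I M := by
  classical
  refine ⟨fun f hf => ?_⟩
  have hfJ : ∀ {m n}, m ≤ n → f m ≡ f n [SMOD (J ^ m • ⊤ : Submodule A M)] := fun {m n} hmn =>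
    (hf hmn).mono (Submodule.smul_mono_left (Ideal.pow_right_mono hIJ m))
  obtain ⟨L, hL⟩ := IsPrecomplete.prec inferInstance hfJ
  refine ⟨L, fun n => ?_⟩
  obtain ⟨G, hG⟩ := hI.pow (n := n)
  -- the differences
  have hdiff : ∀ j : ℕ, ∃ d : A → M, (∀ r, d r ∈ (J ^ j • ⊤ : Submodule A M)) ∧
      f (n + j) - f (n + j + 1) = ∑ r ∈ G, r • d r := by
    intro j
    apply exists_sum_of_mem_span_smul
    rw [hG]
    have h1 : f (n + j) - f (n + j + 1) ∈ (I ^ (n + j) • ⊤ : Submodule A M) :=
      SModEq.sub_mem.mp (hf (Nat.le_succ _))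
    rw [pow_add, mul_smul] at h1
    exact Submodule.smul_mono le_rfl
      (Submodule.smul_mono_left (Ideal.pow_right_mono hIJ j)) h1
  choose d hd hfd using hdiff
  -- the series
  have hw : ∀ r : A, ∃ w : M, ∀ K : ℕ,
      (∑ j ∈ Finset.range K, d j r) ≡ w [SMOD (J ^ K • ⊤ : Submodule A M)] := by
    intro r
    apply IsPrecomplete.prec (inferInstance : IsPrecomplete J M)
    intro m K hmK
    rw [SModEq.sub_mem, ← neg_sub, neg_mem_iff, ← Finset.sum_sdiff_eq_sub
      (Finset.range_subset_range.mpr hmK)]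
    refine Submodule.sum_mem _ fun j hj => ?_
    rw [Finset.mem_sdiff, Finset.mem_range, Finset.mem_range, not_lt] at hj
    exact Submodule.smul_mono_left (Ideal.pow_le_pow_right hj.2) (hd j r)
  choose w hw using hw
  have hkey : f n - L = ∑ r ∈ G, r • w r := by
    rw [IsHausdorff.eq_iff_smodEq (I := J)]
    intro K
    have h1 : (∑ r ∈ G, r • w r) ≡ (∑ r ∈ G, r • ∑ j ∈ Finset.range K, d j r)
        [SMOD (J ^ K • ⊤ : Submodule A M)] := by
      rw [SModEq.sub_mem, ← Finset.sum_sub_distrib]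
      refine Submodule.sum_mem _ fun r _ => ?_
      rw [← smul_sub]
      exact Submodule.smul_mem _ _ (SModEq.sub_mem.mp (hw r K).symm)
    have h2 : (∑ r ∈ G, r • ∑ j ∈ Finset.range K, d j r) = f n - f (n + K) := by
      simp_rw [Finset.smul_sum]
      rw [Finset.sum_comm]
      simp_rw [← hfd]
      have := Finset.sum_range_sub' (fun j => f (n + j)) K
      simpa [add_assoc] using this
    have h3 : f n - f (n + K) ≡ f n - L [SMOD (J ^ K • ⊤ : Submodule A M)] := by
      refine SModEq.sub SModEq.rfl ?_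
      exact (hL (n + K)).mono (Submodule.smul_mono_left (Ideal.pow_le_pow_right (Nat.le_add_left _ _)))
    rw [h2] at h1
    exact (h1.trans h3).symm
  rw [SModEq.sub_mem, hkey]
  refine Submodule.sum_mem _ fun r hr => ?_
  refine Submodule.smul_mem_smul ?_ Submodule.mem_top
  rw [← hG]
  exact Ideal.subset_span hr

end Groth.Agent.Helper2.AdicCompleteLe
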