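import Mathlib
import Groth.Prelude.Def_EGA41
import Groth.Agent.Helper2.AdicFS

set_option autoImplicit false
universe u

namespace Groth.Agent.Helper2.AdicFS

variable {A B : Type u} [CommRing A] [CommRing B] [Algebra A B]

/-- lifting along a surjection with nilpotent kernel. -/
theorem lift_of_surjective (𝔞 : Ideal A) (𝔟 : Ideal B) (hB : EGA41.IsFormallySmoothAdic A 𝔞 B 𝔟)
    {E F : Type u} [CommRing E] [CommRing F] [Algebra A E] [Algebra A F]
    (hE : ∃ m : ℕ, (𝔞 ^ m).map (algebraMap A E) = ⊥)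
    (π : E →ₐ[A] F) (hπ : Function.Surjective π) (hnil : IsNilpotent (RingHom.ker (π : E →+* F)))
    (g : B →ₐ[A] F) (hg : ∃ k : ℕ, ∀ x ∈ 𝔟 ^ k, g x = 0) :
    ∃ v : B →ₐ[A] E, π.comp v = g := by
  let e := Ideal.quotientKerAlgEquivOfSurjective hπ
  obtain ⟨v, hv⟩ := hB E (RingHom.ker (π : E →+* F)) hnil hE (e.symm.toAlgHom.comp g) (by
    obtain ⟨k, hk⟩ := hg
    refine ⟨k, fun x hx => ?_⟩
    change e.symm (g x) = 0
    rw [hk x hx, map_zero])
  refine ⟨v, ?_⟩
  ext b
  have h1 := congrArg (fun φ => e (φ b)) hv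
  have h2 : e (e.symm.toAlgHom (g b)) = g b := e.apply_symm_apply (g b)
  exact h1.trans h2

/-- adic version of the compatible lifting along a surjection. -/
theorem lift_compatible (𝔞 : Ideal A) (𝔟 : Ideal B) (hB : EGA41.IsFormallySmoothAdic A 𝔞 B 𝔟)
    {E E' : Type u} [CommRing E] [CommRing E'] [Algebra A E] [Algebra A E']
    (hE : ∃ m : ℕ, (𝔞 ^ m).map (algebraMap A E) = ⊥)
    (R : Ideal E) (R' : Ideal E') (hR : IsNilpotent R)
    (f : E →ₐ[A] E') (hf : Function.Surjective f) (hfR : R.map f.toRingHom = R')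
    (u : B →ₐ[A] E ⧸ R) (hu : ∃ k : ℕ, ∀ x ∈ 𝔟 ^ k, u x = 0) (v' : B →ₐ[A] E')
    (hv' : ∃ k : ℕ, ∀ x ∈ 𝔟 ^ k, v' x = 0)
    (huv : ∀ b, ∃ e : E, Ideal.Quotient.mk R e = u b ∧ Ideal.Quotient.mk R' (f e) = Ideal.Quotient.mk R' (v' b)) :
    ∃ v : B →ₐ[A] E, f.comp v = v' ∧ (Ideal.Quotient.mkₐ A R).comp v = u := by
  have hle : R ≤ R'.comap f.toRingHom := fun x hx => hfR.le (Ideal.mem_map_of_mem f.toRingHom hx)
  let f' : E ⧸ R →ₐ[A] E' ⧸ R' := Ideal.quotientMapₐ R' f hle
  have hf'mk : ∀ e : E, f' (Ideal.Quotient.mk R e) = Ideal.Quotient.mk R' (f e) := fun e => rfl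
  let F : Subalgebra A (E' × (E ⧸ R)) :=
    AlgHom.equalizer ((Ideal.Quotient.mkₐ A R').comp (AlgHom.fst A E' (E ⧸ R)))
      (f'.comp (AlgHom.snd A E' (E ⧸ R)))
  have hF : ∀ x : F, Ideal.Quotient.mk R' x.1.1 = f' x.1.2 := fun x => x.2
  let π : E →ₐ[A] F :=
    { toFun := fun e => ⟨(f e, Ideal.Quotient.mk R e), (hf'mk e).symm⟩
      map_one' := by
        apply Subtype.ext
        apply Prod.ext
        · exact map_one f
        · rfl
      map_mul' := fun x y => by
        apply Subtype.ext
        apply Prod.ext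
        · exact map_mul f x y
        · rfl
      map_zero' := by
        apply Subtype.ext
        apply Prod.ext
        · exact map_zero f
        · rfl
      map_add' := fun x y => by
        apply Subtype.ext
        apply Prod.ext
        · exact map_add f x y
        · rfl
      commutes' := fun a => by
        apply Subtype.ext
        apply Prod.ext
        · exact f.commutes a
        · rfl }
  have hπ1 : ∀ e, (π e).1.1 = f e := fun e => rfl
  have hπ2 : ∀ e, (π e).1.2 = Ideal.Quotient.mk R e := fun e => rfl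
  have hπsurj : Function.Surjective π := by
    intro x
    obtain ⟨e, he⟩ := Ideal.Quotient.mk_surjective x.1.2
    have h1 := hF x
    rw [← he, hf'mk, Ideal.Quotient.eq, ← hfR] at h1
    obtain ⟨r, hr, hr'⟩ := (Ideal.mem_map_iff_of_surjective f.toRingHom hf).1 h1
    have hr'' : f r = x.1.1 - f e := hr'
    refine ⟨e + r, ?_⟩
    apply Subtype.ext
    apply Prod.ext
    · rw [hπ1, map_add, hr'']
      abel
    · rw [hπ2, map_add, Ideal.Quotient.eq_zero_iff_mem.2 hr, add_zero, he]
  have hπnil : IsNilpotent (RingHom.ker (π : E →+* F)) := by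
    obtain ⟨n, hn⟩ := hR
    refine ⟨n, ?_⟩
    have hle : RingHom.ker (π : E →+* F) ≤ R := by
      intro e he
      have h0 : π e = 0 := he
      have : (π e).1.2 = 0 := by rw [h0]; rfl
      rw [hπ2] at this
      exact Ideal.Quotient.eq_zero_iff_mem.1 this
    rw [Ideal.zero_eq_bot, eq_bot_iff]
    exact (Ideal.pow_right_mono hle n).trans (le_of_eq hn)
  let g₀ : B →ₐ[A] F :=
    { toFun := fun b => ⟨(v' b, u b), by
        obtain ⟨e, he1, he2⟩ := huv b
        change Ideal.Quotient.mk R' (v' b) = f' (u b)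
        rw [← he1, hf'mk, he2]⟩
      map_one' := by
        apply Subtype.ext
        apply Prod.ext
        · exact map_one v'
        · exact map_one u
      map_mul' := fun x y => by
        apply Subtype.ext
        apply Prod.ext
        · exact map_mul v' x y
        · exact map_mul u x y
      map_zero' := by
        apply Subtype.ext
        apply Prod.ext
        · exact map_zero v'
        · exact map_zero u
      map_add' := fun x y => by
        apply Subtype.ext
        apply Prod.ext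
        · exact map_add v' x y
        · exact map_add u x y
      commutes' := fun a => by
        apply Subtype.ext
        apply Prod.ext
        · exact v'.commutes a
        · exact u.commutes a }
  have hg₀ : ∃ k : ℕ, ∀ x ∈ 𝔟 ^ k, g₀ x = 0 := by
    obtain ⟨k₁, hk₁⟩ := hu
    obtain ⟨k₂, hk₂⟩ := hv'
    refine ⟨max k₁ k₂, fun x hx => ?_⟩
    apply Subtype.ext
    apply Prod.ext
    · exact hk₂ x (Ideal.pow_le_pow_right (le_max_right _ _) hx)
    · exact hk₁ x (Ideal.pow_le_pow_right (le_max_left _ _) hx)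
  obtain ⟨v, hv⟩ := lift_of_surjective 𝔞 𝔟 hB hE π hπsurj hπnil g₀ hg₀
  refine ⟨v, ?_, ?_⟩
  · ext b
    have h1 := congrArg (fun φ => (φ b : F).1.1) hv
    exact h1
  · ext b
    have h1 := congrArg (fun φ => (φ b : F).1.2) hv
    exact h1

end Groth.Agent.Helper2.AdicFS
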