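import Mathlib
import Groth.Prelude
import Groth.Agent.Helper2.AdicFS

namespace Groth.Agent.Helper2.AdicFS3

universe u

variable {A B : Type u} [CommRing A] [CommRing B] [Algebra A B]

/-- formal projectivity of the topological `A`-module `B`. -/
def FProj (𝔞 : Ideal A) (𝔟 : Ideal B) : Prop :=
  ∀ (n : ℕ) (P Q : Type u) [AddCommGroup P] [Module A P] [AddCommGroup Q] [Module A Q],
      (∀ a ∈ 𝔞 ^ n, ∀ y : P, a • y = 0) → (∀ a ∈ 𝔞 ^ n, ∀ y : Q, a • y = 0) →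
      ∀ f : P →ₗ[A] Q, Function.Surjective f → ∀ v : B →ₗ[A] Q, (∃ m : ℕ, ∀ x ∈ 𝔟 ^ m, v x = 0) →
        ∃ w : B →ₗ[A] P, (∃ m : ℕ, ∀ x ∈ 𝔟 ^ m, w x = 0) ∧ f ∘ₗ w = v

set_option maxHeartbeats 1600000 in
theorem core (𝔞 : Ideal A) (𝔟 : Ideal B) (hproj : FProj 𝔞 𝔟)
    (hsm : EGA41.IsFormallySmoothAdic (A ⧸ 𝔞) ⊥ (B ⧸ 𝔞.map (algebraMap A B))
        (𝔟.map (Ideal.Quotient.mk (𝔞.map (algebraMap A B)))))
    (C : Type u) [CommRing C] [Algebra A C] (J : Ideal C) (hJ : IsNilpotent J)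
    (hC : ∃ k : ℕ, (𝔞 ^ k).map (algebraMap A C) = ⊥)
    (haJ : ∀ a ∈ 𝔞, ∀ j ∈ J, a • j = 0)
    (u : B →ₐ[A] C ⧸ J) (hu : ∃ k : ℕ, ∀ x ∈ 𝔟 ^ k, u x = 0) :
    ∃ v : B →ₐ[A] C, (Ideal.Quotient.mkₐ A J).comp v = u := by
  obtain ⟨k, hk⟩ := hC
  have hkillC : ∀ a ∈ 𝔞 ^ k, ∀ y : C, a • y = 0 := by
    intro a ha y
    have : algebraMap A C a = 0 := by
      have := Ideal.mem_map_of_mem (algebraMap A C) ha
      rwa [hk, Ideal.mem_bot] at this
    rw [Algebra.smul_def, this, zero_mul]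
  have hkillQ : ∀ a ∈ 𝔞 ^ k, ∀ y : C ⧸ J, a • y = 0 := by
    intro a ha y
    obtain ⟨c, rfl⟩ := Ideal.Quotient.mk_surjective y
    show a • (Ideal.Quotient.mkₐ A J c) = 0
    rw [← map_smul, hkillC a ha, map_zero]
  obtain ⟨w, ⟨m', hw0⟩, hwu⟩ := hproj k C (C ⧸ J) hkillC hkillQ
    (Ideal.Quotient.mkₐ A J).toLinearMap Ideal.Quotient.mk_surjective u.toLinearMap hu
  have hwu' : ∀ b, Ideal.Quotient.mk J (w b) = u b := fun b => LinearMap.congr_fun hwu b
  obtain ⟨m, hu0⟩ := hu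
  let K : Ideal B := 𝔟 ^ (max m m')
  have hKu : ∀ x ∈ K, u x = 0 := fun x hx =>
    hu0 x (Ideal.pow_le_pow_right (le_max_left _ _) hx)
  have hKw : ∀ x ∈ K, w x = 0 := fun x hx =>
    hw0 x (Ideal.pow_le_pow_right (le_max_right _ _) hx)
  let ubar : (B ⧸ K) →ₐ[A] C ⧸ J := Ideal.Quotient.liftₐ K u hKu
  have hubar : ∀ b, ubar (Ideal.Quotient.mk K b) = u b := fun b => rfl
  let E : Subalgebra A ((B ⧸ K) × C) :=
    AlgHom.equalizer (ubar.comp (AlgHom.fst A (B ⧸ K) C))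
      ((Ideal.Quotient.mkₐ A J).comp (AlgHom.snd A (B ⧸ K) C))
  have hE : ∀ e : E, ubar e.1.1 = Ideal.Quotient.mk J e.1.2 := fun e => e.2
  let pE : E →ₐ[A] (B ⧸ K) := (AlgHom.fst A (B ⧸ K) C).comp E.val
  let NE : Ideal E := RingHom.ker pE
  have hNE : ∀ e : E, e ∈ NE ↔ e.1.1 = 0 := fun e => Iff.rfl
  let aE : Ideal E := 𝔞.map (algebraMap A E)
  let N : Ideal (E ⧸ aE) := NE.map (Ideal.Quotient.mk aE)
  -- the section `g`
  let g : B → E := fun b => ⟨(Ideal.Quotient.mk K b, w b), by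
    show ubar (Ideal.Quotient.mk K b) = Ideal.Quotient.mk J (w b)
    rw [hubar, hwu']⟩
  have hg1 : ∀ b, (g b).1.1 = Ideal.Quotient.mk K b := fun b => rfl
  have hg2 : ∀ b, (g b).1.2 = w b := fun b => rfl
  -- key claim
  have hkey : ∀ e : E, e ∈ aE → ∀ b, Ideal.Quotient.mk K b = e.1.1 → e.1.2 = w b := by
    intro e he
    have he' : e ∈ (𝔞 • ⊤ : Submodule A E) := by
      rw [Ideal.smul_top_eq_map]; exact he
    refine Submodule.smul_induction_on he' ?_ ?_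
    · intro a ha e' _ b hb
      obtain ⟨b', hb'⟩ := Ideal.Quotient.mk_surjective e'.1.1
      have h1 : e'.1.2 - w b' ∈ J := by
        rw [← Ideal.Quotient.eq, ← hE e', ← hb', hubar, hwu']
      have h2 : a • (e'.1.2 - w b') = 0 := haJ a ha _ h1
      have h3 : b - a • b' ∈ K := by
        rw [← Ideal.Quotient.eq, hb]
        show (a • e').1.1 = Ideal.Quotient.mk K (a • b')
        show a • e'.1.1 = Ideal.Quotient.mkₐ A K (a • b')
        rw [map_smul]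
        show a • e'.1.1 = a • Ideal.Quotient.mk K b'
        rw [hb']
      have h4 : w b = a • w b' := by
        have := hKw _ h3
        rw [map_sub, sub_eq_zero, map_smul] at this
        exact this
      show a • e'.1.2 = w b
      rw [h4]
      rw [smul_sub, sub_eq_zero] at h2
      exact h2
    · intro e₁ e₂ h₁ h₂ b hb
      obtain ⟨b₁, hb₁⟩ := Ideal.Quotient.mk_surjective e₁.1.1
      have hb₂ : Ideal.Quotient.mk K (b - b₁) = e₂.1.1 := by
        rw [map_sub, hb, hb₁]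
        show e₁.1.1 + e₂.1.1 - e₁.1.1 = e₂.1.1
        abel
      have := h₁ b₁ hb₁
      have := h₂ (b - b₁) hb₂
      show e₁.1.2 + e₂.1.2 = w b
      rw [h₁ b₁ hb₁, h₂ (b - b₁) hb₂, ← map_add]
      congr 1
      abel
  have hinter : ∀ e : E, e ∈ aE → e ∈ NE → e = 0 := by
    intro e he hne
    have h1 : e.1.1 = 0 := (hNE e).mp hne
    have h2 : e.1.2 = 0 := by
      rw [hkey e he 0 (by rw [map_zero, h1]), map_zero]
    apply Subtype.ext
    exact Prod.ext h1 h2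
  -- `N` is nilpotent
  have hNnil : IsNilpotent N := by
    obtain ⟨t, ht⟩ := hJ
    have ht' : J ^ (t + 1) = ⊥ := by rw [pow_succ, ht, Ideal.zero_eq_bot, Ideal.bot_mul]
    refine ⟨t + 1, ?_⟩
    have hNEt : NE ^ (t + 1) = ⊥ := by
      rw [eq_bot_iff]
      intro e he
      let qE : E →+* C := ((AlgHom.snd A (B ⧸ K) C).comp E.val).toRingHom
      have h1 : NE.map qE ≤ J := by
        rw [Ideal.map_le_iff_le_comap]
        intro x hx
        rw [Ideal.mem_comap]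
        show x.1.2 ∈ J
        rw [← Ideal.Quotient.eq_zero_iff_mem, ← hE x, (hNE x).mp hx, map_zero]
      have h2 : qE e ∈ J ^ (t + 1) := by
        have : qE e ∈ (NE ^ (t + 1)).map qE := Ideal.mem_map_of_mem _ he
        rw [Ideal.map_pow] at this
        exact Ideal.pow_right_mono h1 (t + 1) this
      rw [ht'] at h2
      have h3 : e.1.2 = 0 := h2
      have h4 : e.1.1 = 0 := (hNE e).mp (Ideal.pow_le_self (Nat.succ_ne_zero t) he)
      rw [Ideal.mem_bot]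
      apply Subtype.ext
      exact Prod.ext h4 h3
    have hmp := Ideal.map_pow (Ideal.Quotient.mk aE) NE (t + 1)
    rw [hNEt, Ideal.map_bot] at hmp
    exact hmp.symm
  -- the map `φ`
  have hmkN : ∀ e e' : E, e.1.1 = e'.1.1 →
      Ideal.Quotient.mk N (Ideal.Quotient.mk aE e) = Ideal.Quotient.mk N (Ideal.Quotient.mk aE e') := by
    intro e e' h
    rw [Ideal.Quotient.eq, ← map_sub]
    apply Ideal.mem_map_of_mem
    rw [hNE]
    show e.1.1 - e'.1.1 = 0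
    rw [h, sub_self]
  let φ : B →ₐ[A] (E ⧸ aE) ⧸ N :=
    { toFun := fun b => Ideal.Quotient.mk N (Ideal.Quotient.mk aE (g b))
      map_one' := (hmkN (g 1) 1 (map_one _)).trans (by rw [map_one, map_one])
      map_mul' := fun b b' => (hmkN (g (b * b')) (g b * g b') (map_mul _ _ _)).trans
        (by rw [map_mul, map_mul])
      map_zero' := (hmkN (g 0) 0 (map_zero _)).trans (by rw [map_zero, map_zero])
      map_add' := fun b b' => (hmkN (g (b + b')) (g b + g b') (map_add _ _ _)).trans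
        (by rw [map_add, map_add])
      commutes' := fun a => by
        show _ = Ideal.Quotient.mk N (Ideal.Quotient.mk aE (algebraMap A E a))
        exact hmkN _ _ rfl }
  have hφ : ∀ b, φ b = Ideal.Quotient.mk N (Ideal.Quotient.mk aE (g b)) := fun b => rfl
  have hφa : ∀ x ∈ 𝔞.map (algebraMap A B), φ x = 0 := by
    intro x hx
    have hle : 𝔞.map (algebraMap A B) ≤ RingHom.ker φ.toRingHom := by
      rw [Ideal.map_le_iff_le_comap]
      intro a ha
      rw [Ideal.mem_comap, RingHom.mem_ker]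
      show φ (algebraMap A B a) = 0
      rw [AlgHom.commutes]
      show Ideal.Quotient.mk N (Ideal.Quotient.mk aE (algebraMap A E a)) = 0
      rw [Ideal.Quotient.eq_zero_iff_mem.mpr (Ideal.mem_map_of_mem _ ha), map_zero]
    exact hle hx
  let φ₀ : (B ⧸ 𝔞.map (algebraMap A B)) →ₐ[A ⧸ 𝔞] (E ⧸ aE) ⧸ N :=
    { Ideal.Quotient.lift (𝔞.map (algebraMap A B)) φ.toRingHom hφa with
      commutes' := fun r => by
        obtain ⟨a, rfl⟩ := Ideal.Quotient.mk_surjective r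
        show φ (algebraMap A B a) = _
        rw [AlgHom.commutes]
        rfl }
  have hφ₀ : ∀ b, φ₀ (Ideal.Quotient.mk _ b) = φ b := fun b => rfl
  have hφ₀cont : ∃ k : ℕ, ∀ x ∈ (𝔟.map (Ideal.Quotient.mk (𝔞.map (algebraMap A B)))) ^ k,
      φ₀ x = 0 := by
    refine ⟨max m m', fun x hx => ?_⟩
    rw [← Ideal.map_pow] at hx
    obtain ⟨b, hb, rfl⟩ := (Ideal.mem_map_iff_of_surjective _ Ideal.Quotient.mk_surjective).mp hx
    rw [hφ₀, hφ]
    have : g b = 0 := by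
      apply Subtype.ext
      refine Prod.ext ?_ ?_
      · show Ideal.Quotient.mk K b = 0
        exact Ideal.Quotient.eq_zero_iff_mem.mpr hb
      · show w b = 0
        exact hKw b hb
    rw [this, map_zero, map_zero]
  have hbot : ∃ k : ℕ, ((⊥ : Ideal (A ⧸ 𝔞)) ^ k).map (algebraMap (A ⧸ 𝔞) (E ⧸ aE)) = ⊥ :=
    ⟨1, by rw [pow_one, Ideal.map_bot]⟩
  have hsmE := hsm (E ⧸ aE) N hNnil hbot
  have hsmE2 := hsmE φ₀
  obtain ⟨s₀, hs₀⟩ := hsmE2 hφ₀cont
  have hs₀' : ∀ x, Ideal.Quotient.mk N (s₀ x) = φ₀ x := fun x => AlgHom.congr_fun hs₀ x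
  -- existence and uniqueness
  have hex : ∀ b : B, ∃ e : E, Ideal.Quotient.mk aE e = s₀ (Ideal.Quotient.mk _ b) ∧
      e.1.1 = Ideal.Quotient.mk K b := by
    intro b
    obtain ⟨e', he'⟩ := Ideal.Quotient.mk_surjective (s₀ (Ideal.Quotient.mk _ b))
    have h1 : Ideal.Quotient.mk aE (e' - g b) ∈ N := by
      rw [map_sub, ← Ideal.Quotient.eq, he', hs₀', hφ₀, hφ]
    obtain ⟨n, hn, hn'⟩ := (Ideal.mem_map_iff_of_surjective _ Ideal.Quotient.mk_surjective).mp h1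
    refine ⟨g b + n, ?_, ?_⟩
    · rw [← he', map_add, hn', map_sub]; abel
    · show (g b).1.1 + n.1.1 = _
      rw [(hNE n).mp hn, add_zero]
  have huniq : ∀ (b : B) (e e' : E), Ideal.Quotient.mk aE e = s₀ (Ideal.Quotient.mk _ b) →
      e.1.1 = Ideal.Quotient.mk K b → Ideal.Quotient.mk aE e' = s₀ (Ideal.Quotient.mk _ b) →
      e'.1.1 = Ideal.Quotient.mk K b → e = e' := by
    intro b e e' h1 h2 h1' h2'
    rw [← sub_eq_zero]
    apply hinter
    · rw [← Ideal.Quotient.eq, h1, h1']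
    · rw [hNE]
      show e.1.1 - e'.1.1 = 0
      rw [h2, h2', sub_self]
  choose v₀ hv₀ hv₀' using hex
  have hv₀u : ∀ (b : B) (e : E), Ideal.Quotient.mk aE e = s₀ (Ideal.Quotient.mk _ b) →
      e.1.1 = Ideal.Quotient.mk K b → v₀ b = e := fun b e h1 h2 =>
    huniq b _ _ (hv₀ b) (hv₀' b) h1 h2
  let v : B →ₐ[A] C :=
    { toFun := fun b => (v₀ b).1.2
      map_one' := by
        rw [hv₀u 1 1 (by rw [map_one, map_one, map_one]) (by rw [map_one]; rfl)]
        rfl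
      map_mul' := fun b b' => by
        rw [hv₀u (b * b') (v₀ b * v₀ b') (by rw [map_mul, map_mul, map_mul, hv₀, hv₀])
          (by rw [map_mul, ← hv₀' b, ← hv₀' b']; rfl)]
        rfl
      map_zero' := by
        rw [hv₀u 0 0 (by rw [map_zero, map_zero, map_zero]) (by rw [map_zero]; rfl)]
        rfl
      map_add' := fun b b' => by
        rw [hv₀u (b + b') (v₀ b + v₀ b') (by rw [map_add, map_add, map_add, hv₀, hv₀])
          (by rw [map_add, ← hv₀' b, ← hv₀' b']; rfl)]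
        rfl
      commutes' := fun a => by
        rw [hv₀u (algebraMap A B a) (algebraMap A E a) ?_ rfl]
        · rfl
        · have : Ideal.Quotient.mk (𝔞.map (algebraMap A B)) (algebraMap A B a) =
              algebraMap (A ⧸ 𝔞) (B ⧸ 𝔞.map (algebraMap A B)) (Ideal.Quotient.mk 𝔞 a) := rfl
          rw [this, AlgHom.commutes]
          rfl }
  refine ⟨v, ?_⟩
  ext b
  show Ideal.Quotient.mk J (v₀ b).1.2 = u b
  rw [← hE, hv₀', hubar]


theorem lift_of_pow_mul_eq_bot (𝔞 : Ideal A) (𝔟 : Ideal B) (hproj : FProj 𝔞 𝔟)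
    (hsm : EGA41.IsFormallySmoothAdic (A ⧸ 𝔞) ⊥ (B ⧸ 𝔞.map (algebraMap A B))
        (𝔟.map (Ideal.Quotient.mk (𝔞.map (algebraMap A B))))) (i : ℕ) :
    ∀ (C : Type u) [CommRing C] [Algebra A C] (J : Ideal C), IsNilpotent J →
    (∃ k : ℕ, (𝔞 ^ k).map (algebraMap A C) = ⊥) →
    (𝔞.map (algebraMap A C)) ^ i * J = ⊥ →
    ∀ u : B →ₐ[A] C ⧸ J, (∃ k : ℕ, ∀ x ∈ 𝔟 ^ k, u x = 0) →
      ∃ v : B →ₐ[A] C, (Ideal.Quotient.mkₐ A J).comp v = u := by
  induction i with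
  | zero =>
    intro C _ _ J hJ hC h0 u hu
    rw [pow_zero, Ideal.one_eq_top, Ideal.top_mul] at h0
    refine core 𝔞 𝔟 hproj hsm C J hJ hC ?_ u hu
    intro a _ j hj
    rw [h0, Ideal.mem_bot] at hj
    rw [hj, smul_zero]
  | succ i ih =>
    intro C _ _ J hJ hC h0 u hu
    set I : Ideal C := (𝔞.map (algebraMap A C)) ^ i * J with hI
    have hIJ : I ≤ J := Ideal.mul_le_right
    have hInil : IsNilpotent I := by
      obtain ⟨n, hn⟩ := hJ
      refine ⟨n, ?_⟩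
      rw [Ideal.zero_eq_bot, eq_bot_iff]
      exact (Ideal.pow_right_mono hIJ n).trans (le_of_eq hn)
    have hJ'nil : IsNilpotent (J.map (Ideal.Quotient.mk I)) := by
      obtain ⟨n, hn⟩ := hJ
      refine ⟨n, ?_⟩
      rw [← Ideal.map_pow, hn, Ideal.zero_eq_bot, Ideal.map_bot]
      rfl
    have hCI : ∃ k : ℕ, (𝔞 ^ k).map (algebraMap A (C ⧸ I)) = ⊥ := by
      obtain ⟨k, hk⟩ := hC
      refine ⟨k, ?_⟩
      have : algebraMap A (C ⧸ I) = (Ideal.Quotient.mk I).comp (algebraMap A C) := rfl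
      rw [this, ← Ideal.map_map, hk, Ideal.map_bot]
    have h0' : (𝔞.map (algebraMap A (C ⧸ I))) ^ i * J.map (Ideal.Quotient.mk I) = ⊥ := by
      have : algebraMap A (C ⧸ I) = (Ideal.Quotient.mk I).comp (algebraMap A C) := rfl
      rw [this, ← Ideal.map_map, ← Ideal.map_pow, ← Ideal.map_mul, ← hI, Ideal.map_quotient_self]
    let e : ((C ⧸ I) ⧸ J.map (Ideal.Quotient.mk I)) ≃ₐ[A] C ⧸ J :=
      { (DoubleQuot.quotQuotEquivQuotSup I J).trans
          (Ideal.quotEquivOfEq (sup_eq_right.mpr hIJ)) with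
        commutes' := fun x => rfl }
    obtain ⟨v', hv'⟩ := ih (C ⧸ I) (J.map (Ideal.Quotient.mk I)) hJ'nil hCI h0'
      (e.symm.toAlgHom.comp u) (by
        obtain ⟨k, hk⟩ := hu
        refine ⟨k, fun x hx => ?_⟩
        change e.symm (u x) = 0
        rw [hk x hx, map_zero])
    have hv'cont : ∃ k : ℕ, ∀ x ∈ 𝔟 ^ k, v' x = 0 := by
      apply AdicFS.cont_of_cont_mk 𝔟 _ hJ'nil v'
      obtain ⟨k, hk⟩ := hu
      refine ⟨k, fun x hx => ?_⟩
      rw [hv']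
      change e.symm (u x) = 0
      rw [hk x hx, map_zero]
    have haI : ∀ a ∈ 𝔞, ∀ j ∈ I, a • j = 0 := by
      intro a ha j hj
      have : a • j ∈ (𝔞.map (algebraMap A C)) ^ (i + 1) * J := by
        rw [pow_succ', mul_assoc, Algebra.smul_def]
        exact Ideal.mul_mem_mul (Ideal.mem_map_of_mem _ ha) hj
      rw [h0, Ideal.mem_bot] at this
      exact this
    obtain ⟨v, hv⟩ := core 𝔞 𝔟 hproj hsm C I hInil hC haI v' hv'cont
    refine ⟨v, ?_⟩
    have e1 := congr_arg e.toAlgHom.comp hv'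
    conv_rhs at e1 =>
      rw [← AlgHom.comp_assoc, AlgEquiv.comp_symm, AlgHom.id_comp]
    rw [← e1, ← hv]
    rfl

theorem fsAdic_of_quotient (𝔞 : Ideal A) (𝔟 : Ideal B) (hproj : FProj 𝔞 𝔟)
    (hsm : EGA41.IsFormallySmoothAdic (A ⧸ 𝔞) ⊥ (B ⧸ 𝔞.map (algebraMap A B))
        (𝔟.map (Ideal.Quotient.mk (𝔞.map (algebraMap A B))))) :
    EGA41.IsFormallySmoothAdic A 𝔞 B 𝔟 := by
  intro C _ _ J hJ hC u hu
  obtain ⟨k, hk⟩ := hC
  refine lift_of_pow_mul_eq_bot 𝔞 𝔟 hproj hsm k C J hJ ⟨k, hk⟩ ?_ u hu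
  rw [← Ideal.map_pow, hk, Ideal.bot_mul]


theorem fsAdic_quotient (𝔞 : Ideal A) (𝔟 : Ideal B)
    (h : EGA41.IsFormallySmoothAdic A 𝔞 B 𝔟) :
    EGA41.IsFormallySmoothAdic (A ⧸ 𝔞) ⊥ (B ⧸ 𝔞.map (algebraMap A B))
        (𝔟.map (Ideal.Quotient.mk (𝔞.map (algebraMap A B)))) := by
  intro C _ _ J hJ _ u₀ hu₀
  let algAC : Algebra A C := ((algebraMap (A ⧸ 𝔞) C).comp (Ideal.Quotient.mk 𝔞)).toAlgebra
  have hmapAC : ∀ a : A, algebraMap A C a = algebraMap (A ⧸ 𝔞) C (Ideal.Quotient.mk 𝔞 a) :=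
    fun a => rfl
  let u : B →ₐ[A] C ⧸ J :=
    { toRingHom := u₀.toRingHom.comp (Ideal.Quotient.mk (𝔞.map (algebraMap A B)))
      commutes' := fun a => by
        show u₀ (algebraMap (A ⧸ 𝔞) (B ⧸ 𝔞.map (algebraMap A B)) (Ideal.Quotient.mk 𝔞 a)) = _
        rw [AlgHom.commutes]
        rfl }
  have hu : ∀ b, u b = u₀ (Ideal.Quotient.mk _ b) := fun b => rfl
  have hC : ∃ k : ℕ, (𝔞 ^ k).map (algebraMap A C) = ⊥ := by
    refine ⟨1, ?_⟩
    rw [pow_one, eq_bot_iff, Ideal.map_le_iff_le_comap]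
    intro a ha
    rw [Ideal.mem_comap, Ideal.mem_bot, hmapAC, Ideal.Quotient.eq_zero_iff_mem.mpr ha, map_zero]
  have hucont : ∃ k : ℕ, ∀ x ∈ 𝔟 ^ k, u x = 0 := by
    obtain ⟨k, hk⟩ := hu₀
    refine ⟨k, fun x hx => ?_⟩
    rw [hu]
    apply hk
    rw [← Ideal.map_pow]
    exact Ideal.mem_map_of_mem _ hx
  obtain ⟨v, hv⟩ := h C J hJ hC u hucont
  have hva : ∀ x ∈ 𝔞.map (algebraMap A B), v x = 0 := by
    intro x hx
    have hle : 𝔞.map (algebraMap A B) ≤ RingHom.ker v.toRingHom := by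
      rw [Ideal.map_le_iff_le_comap]
      intro a ha
      rw [Ideal.mem_comap, RingHom.mem_ker]
      show v (algebraMap A B a) = 0
      rw [AlgHom.commutes, hmapAC, Ideal.Quotient.eq_zero_iff_mem.mpr ha, map_zero]
    exact hle hx
  let v₀ : (B ⧸ 𝔞.map (algebraMap A B)) →ₐ[A ⧸ 𝔞] C :=
    { Ideal.Quotient.lift (𝔞.map (algebraMap A B)) v.toRingHom hva with
      commutes' := fun r => by
        obtain ⟨a, rfl⟩ := Ideal.Quotient.mk_surjective r
        show v (algebraMap A B a) = _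
        rw [AlgHom.commutes]
        rfl }
  refine ⟨v₀, ?_⟩
  ext x
  obtain ⟨b, rfl⟩ := Ideal.Quotient.mk_surjective x
  show Ideal.Quotient.mk J (v b) = u₀ (Ideal.Quotient.mk _ b)
  rw [← hu, ← hv]
  rfl

end Groth.Agent.Helper2.AdicFS3
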