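import Mathlib
set_option autoImplicit false
universe u v
open IsLocalRing MvPolynomial

/-!
Gröbner-basis heart of the finiteness theorems for algebras topologically of finite type over a
complete valuation ring of height one: if `C/tC` is a polynomial ring over `R/t` then every
`t`-saturated ideal `J` of `C` satisfies `J = J' + tJ` with `J'` finitely generated.
-/

namespace Groth.Agent.Helper2.AdicGB

section Base
variable (R : Type u) [CommRing R] [IsDomain R] [ValuationRing R] [Ring.KrullDimLE 1 R]
  (t : R) [IsAdicComplete (Ideal.span {t}) R]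

theorem t_mem : t ∈ maximalIdeal R := by
  have h := IsAdicComplete.le_jacobson_bot (Ideal.span {t})
  rw [IsLocalRing.jacobson_eq_maximalIdeal ⊥ bot_ne_top] at h
  exact h (Ideal.mem_span_singleton_self t)

theorem radical_span (ht : t ≠ 0) : (Ideal.span {t}).radical = maximalIdeal R := by
  apply le_antisymm
  · exact (Ideal.IsPrime.radical_le_iff (maximalIdeal.isMaximal R).isPrime).2
      ((Ideal.span_singleton_le_iff_mem _).2 (t_mem R t))
  · rw [Ideal.radical_eq_sInf, le_sInf_iff]
    rintro P ⟨hP, hPp⟩
    have hne : P ≠ ⊥ := by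
      rintro rfl
      exact ht (by simpa using hP (Ideal.mem_span_singleton_self t))
    have : P.IsMaximal := hPp.isMaximal_of_ne_bot hne
    rw [IsLocalRing.eq_maximalIdeal this]

theorem dvd_pow_of_mem (ht : t ≠ 0) (c : R) (hc : c ∈ maximalIdeal R) : ∃ N : ℕ, t ∣ c ^ N := by
  rw [← radical_span R t ht] at hc
  obtain ⟨N, hN⟩ := hc
  exact ⟨N, Ideal.mem_span_singleton.1 hN⟩

theorem exists_dvd_pow (c : R) (hc : c ≠ 0) : ∃ N : ℕ, c ∣ t ^ N := by
  by_cases hu : IsUnit c
  · exact ⟨0, hu.dvd⟩
  · have hrad : t ∈ (Ideal.span {c}).radical := by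
      rw [Ideal.radical_eq_sInf, Ideal.mem_sInf]
      rintro P ⟨hP, hPp⟩
      have hne : P ≠ ⊥ := by
        rintro rfl
        exact hc (by simpa using hP (Ideal.mem_span_singleton_self c))
      have hmax : P.IsMaximal := hPp.isMaximal_of_ne_bot hne
      rw [IsLocalRing.eq_maximalIdeal hmax]
      exact t_mem R t
    obtain ⟨N, hN⟩ := hrad
    exact ⟨N, Ideal.mem_span_singleton.1 hN⟩

end Base

/-- in a valuation ring, among finitely many elements one divides all the others -/
theorem exists_dvd_all {R : Type*} [CommRing R] [IsDomain R] [ValuationRing R] {ι : Type*}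
    (a : ι → R) (T : Finset ι) (hT : T.Nonempty) : ∃ s ∈ T, ∀ i ∈ T, a s ∣ a i := by
  classical
  induction hT using Finset.Nonempty.cons_induction with
  | singleton j => exact ⟨j, Finset.mem_singleton_self j, fun i hi => by
      rw [Finset.mem_singleton.1 hi]⟩
  | cons j T hj hT ih =>
    obtain ⟨s, hs, hsT⟩ := ih
    rcases ValuationRing.dvd_total (a s) (a j) with h | h
    · refine ⟨s, Finset.mem_cons.2 (Or.inr hs), fun i hi => ?_⟩
      rcases Finset.mem_cons.1 hi with rfl | hi
      · exact h
      · exact hsT i hi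
    · refine ⟨j, Finset.mem_cons_self j T, fun i hi => ?_⟩
      rcases Finset.mem_cons.1 hi with rfl | hi
      · exact dvd_rfl
      · exact h.trans (hsT i hi)

/-- A presentation of `C/cC` as a polynomial ring over `R/c`. -/
structure Level (R : Type u) [CommRing R] (c : R) (σ : Type*) (C : Type v) [CommRing C]
    [Algebra R C] where
  ρ : C →+* MvPolynomial σ (R ⧸ Ideal.span {c})
  map_algebraMap : ∀ r : R, ρ (algebraMap R C r) = MvPolynomial.C (Ideal.Quotient.mk _ r)
  surj : Function.Surjective ρ
  ker : ∀ x, ρ x = 0 → ∃ y, x = algebraMap R C c * y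

namespace Level
variable {R : Type u} [CommRing R] {t : R} {σ : Type*} {C : Type v} [CommRing C] [Algebra R C]

/-- passing to a divisor of the level -/
noncomputable def ofDvd (L : Level R t σ C) (c : R) (hc : c ∣ t) : Level R c σ C where
  ρ := (MvPolynomial.map (Ideal.Quotient.factor
      ((Ideal.span_singleton_le_span_singleton).2 hc))).comp L.ρ
  map_algebraMap r := by
    rw [RingHom.comp_apply, L.map_algebraMap, MvPolynomial.map_C, Ideal.Quotient.factor_mk]
  surj := (MvPolynomial.map_surjective _ (Ideal.Quotient.factor_surjective _)).comp L.surj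
  ker x hx := by
    rw [RingHom.comp_apply, ← RingHom.mem_ker, MvPolynomial.ker_map, Ideal.Quotient.factor_ker,
      Ideal.map_span, Set.image_singleton, Ideal.map_span, Set.image_singleton,
      Ideal.mem_span_singleton'] at hx
    obtain ⟨p, hp⟩ := hx
    obtain ⟨y, rfl⟩ := L.surj p
    have h0 : L.ρ (x - algebraMap R C c * y) = 0 := by
      rw [map_sub, map_mul, L.map_algebraMap, ← hp]; ring
    obtain ⟨z, hz⟩ := L.ker _ h0
    obtain ⟨e, rfl⟩ := hc
    refine ⟨y + algebraMap R C e * z, ?_⟩
    rw [map_mul] at hz
    linear_combination hz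

end Level

end Groth.Agent.Helper2.AdicGB
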