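import Mathlib
import Groth.Agent.Helper2.AdicGBA
set_option autoImplicit false
universe u v
open IsLocalRing MvPolynomial

namespace Groth.Agent.Helper2.AdicGB

section Prim
variable {R : Type u} [CommRing R] [IsDomain R] [ValuationRing R] {σ : Type*}

/-- the primitive part of a nonzero polynomial over `R/c` -/
theorem exists_primitive (c : R) (r : MvPolynomial σ (R ⧸ Ideal.span {c})) (hr : r ≠ 0) :
    ∃ (d e : R) (s : MvPolynomial σ (R ⧸ Ideal.span {c})) (ν0 : σ →₀ ℕ),
      c = d * e ∧ ¬ IsUnit e ∧ r = C (Ideal.Quotient.mk _ d) * s ∧ s.support ⊆ r.support ∧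
        s.coeff ν0 = 1 := by
  classical
  set lift : (σ →₀ ℕ) → R := fun ν =>
    Function.surjInv Ideal.Quotient.mk_surjective (coeff ν r) with hlift
  have hl : ∀ ν, Ideal.Quotient.mk (Ideal.span {c}) (lift ν) = coeff ν r := fun ν =>
    Function.surjInv_eq Ideal.Quotient.mk_surjective _
  have hne : r.support.Nonempty := by
    rwa [Finset.nonempty_iff_ne_empty, Ne, MvPolynomial.support_eq_empty]
  obtain ⟨ν0, hν0, hdvd⟩ := exists_dvd_all lift r.support hne
  set d := lift ν0 with hd
  have hcd : ¬ c ∣ d := by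
    intro h
    have : coeff ν0 r = 0 := by
      rw [← hl ν0, Ideal.Quotient.eq_zero_iff_mem, Ideal.mem_span_singleton]; exact h
    exact (MvPolynomial.mem_support_iff.1 hν0) this
  have hd0 : d ≠ 0 := by
    intro h; exact hcd (h ▸ dvd_zero c)
  obtain ⟨e, he⟩ : d ∣ c := (ValuationRing.dvd_total d c).resolve_right hcd
  have heu : ¬ IsUnit e := by
    intro hu
    apply hcd
    obtain ⟨u, rfl⟩ := hu
    exact ⟨↑u⁻¹, by rw [he, mul_assoc, Units.mul_inv, mul_one]⟩
  choose! b hb using hdvd
  have hb0 : b ν0 = 1 := by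
    have h := hb ν0 hν0
    have : d * 1 = d * b ν0 := by rw [mul_one]; exact h
    exact (mul_left_cancel₀ hd0 this).symm
  refine ⟨d, e, ∑ ν ∈ r.support, monomial ν (Ideal.Quotient.mk (Ideal.span {c}) (b ν)), ν0, he,
    heu, ?_, ?_, ?_⟩
  · rw [Finset.mul_sum]
    conv_lhs => rw [← MvPolynomial.support_sum_monomial_coeff r]
    refine Finset.sum_congr rfl fun ν hν => ?_
    rw [C_mul_monomial, ← map_mul, ← hb ν hν, hl]
  · intro ν hν
    by_contra hνr
    rw [MvPolynomial.mem_support_iff, coeff_sum] at hν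
    apply hν
    refine Finset.sum_eq_zero fun ν' hν' => ?_
    rw [coeff_monomial, if_neg]
    rintro rfl
    exact hνr hν'
  · rw [coeff_sum, Finset.sum_eq_single ν0]
    · rw [coeff_monomial, if_pos rfl, hb0, map_one]
    · intro ν' _ hne'
      rw [coeff_monomial, if_neg hne']
    · intro h; exact absurd hν0 h

end Prim

end Groth.Agent.Helper2.AdicGB
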