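import Mathlib
import Groth.Agent.Helper2.AdicGBA
import Groth.Agent.Helper2.AdicGBB
set_option autoImplicit false
universe u v
open IsLocalRing MvPolynomial MonomialOrder

namespace Groth.Agent.Helper2.AdicGB

section Heart
variable (R : Type u) [CommRing R] [IsDomain R] [ValuationRing R] [Ring.KrullDimLE 1 R]
  (t : R) [IsAdicComplete (Ideal.span {t}) R]

/-- the residue map from `R/c` for `c` in the maximal ideal -/
noncomputable def resOf (c : R) (hc : c ∈ maximalIdeal R) :
    R ⧸ Ideal.span {c} →+* ResidueField R :=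
  Ideal.Quotient.lift _ (residue R) (by
    intro a ha
    rw [Ideal.mem_span_singleton] at ha
    obtain ⟨b, rfl⟩ := ha
    rw [map_mul, (residue_eq_zero_iff c).2 hc, zero_mul])

theorem resOf_mk (c : R) (hc : c ∈ maximalIdeal R) (a : R) :
    resOf R c hc (Ideal.Quotient.mk _ a) = residue R a := by
  rw [resOf, Ideal.Quotient.lift_mk]

theorem isUnit_of_resOf_ne_zero (c : R) (hc : c ∈ maximalIdeal R) (x : R ⧸ Ideal.span {c})
    (hx : resOf R c hc x ≠ 0) : IsUnit x := by
  obtain ⟨a, rfl⟩ := Ideal.Quotient.mk_surjective x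
  rw [resOf_mk, Ne, residue_eq_zero_iff, mem_maximalIdeal, mem_nonunits_iff, not_not] at hx
  exact hx.map _

theorem heart (ht : t ≠ 0) {σ : Type} [Finite σ] (mo : MonomialOrder σ)
    (C : Type v) [CommRing C] [Algebra R C] (L : Level R t σ C) (J : Ideal C)
    (hsat : ∀ x, algebraMap R C t * x ∈ J → x ∈ J) :
    ∃ G : Finset C, (↑G : Set C) ⊆ J ∧
      ∀ x ∈ J, ∃ y ∈ J, x - algebraMap R C t * y ∈ Ideal.span (↑G : Set C) := by
  classical
  have htm := t_mem R t
  -- saturation for arbitrary nonzero elements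
  have hsatN : ∀ (N : ℕ) (x : C), algebraMap R C t ^ N * x ∈ J → x ∈ J := by
    intro N
    induction N with
    | zero => intro x hx; simpa using hx
    | succ N ih =>
      intro x hx
      apply ih
      apply hsat
      rw [← mul_assoc, ← pow_succ']; exact hx
  have hsat' : ∀ d : R, d ≠ 0 → ∀ x : C, algebraMap R C d * x ∈ J → x ∈ J := by
    intro d hd x hx
    obtain ⟨N, e, he⟩ := exists_dvd_pow R t d hd
    apply hsatN N
    rw [← map_pow, he, map_mul, mul_comm (algebraMap R C d), mul_assoc]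
    exact J.mul_mem_left _ hx
  -- residue level
  set ρt : C →+* MvPolynomial σ (ResidueField R) :=
    (MvPolynomial.map (resOf R t htm)).comp L.ρ with hρt
  set LM : Set (σ →₀ ℕ) := {ν | ∃ y ∈ J, ρt y ≠ 0 ∧ mo.degree (ρt y) = ν} with hLM
  have hfg : (Ideal.span ((fun s => monomial s (1 : ResidueField R)) '' LM)).FG :=
    IsNoetherian.noetherian _
  obtain ⟨S', hS'sub, hS'eq⟩ := (Submodule.fg_span_iff_fg_span_finset_subset _).1 hfg
  set S : Finset (σ →₀ ℕ) := S'.image (fun p => mo.degree p) with hS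
  have hmon : ∀ p ∈ S', ∃ ν ∈ LM, p = monomial ν (1 : ResidueField R) := by
    intro p hp
    obtain ⟨ν, hν, rfl⟩ := hS'sub hp
    exact ⟨ν, hν, rfl⟩
  have hSLM : ∀ μ ∈ S, μ ∈ LM := by
    intro μ hμ
    rw [hS, Finset.mem_image] at hμ
    obtain ⟨p, hp, rfl⟩ := hμ
    obtain ⟨ν, hν, rfl⟩ := hmon p hp
    rw [MonomialOrder.degree_monomial, if_neg one_ne_zero]; exact hν
  have hSimg : (fun s => monomial s (1 : ResidueField R)) '' (↑S : Set (σ →₀ ℕ)) = ↑S' := by
    ext p
    constructor
    · rintro ⟨μ, hμ, rfl⟩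
      rw [hS, Finset.mem_coe, Finset.mem_image] at hμ
      obtain ⟨p, hp, rfl⟩ := hμ
      obtain ⟨ν, hν, rfl⟩ := hmon p hp
      rw [MonomialOrder.degree_monomial, if_neg one_ne_zero]; exact hp
    · intro hp
      obtain ⟨ν, hν, rfl⟩ := hmon p hp
      refine ⟨ν, ?_, rfl⟩
      rw [hS, Finset.mem_coe, Finset.mem_image]
      exact ⟨_, hp, by rw [MonomialOrder.degree_monomial, if_neg one_ne_zero]⟩
  have hkey : ∀ ν ∈ LM, ∃ μ ∈ S, μ ≤ ν := by
    intro ν hν
    have h1 : monomial ν (1 : ResidueField R) ∈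
        Ideal.span ((fun s => monomial s (1 : ResidueField R)) '' (↑S : Set (σ →₀ ℕ))) := by
      rw [hSimg]
      change _ ∈ Submodule.span _ _
      rw [← hS'eq]
      exact Ideal.subset_span ⟨ν, hν, rfl⟩
    rw [mem_ideal_span_monomial_image] at h1
    obtain ⟨μ, hμ, hle⟩ := h1 ν (by rw [MvPolynomial.mem_support_iff, coeff_monomial, if_pos rfl]
                                    exact one_ne_zero)
    exact ⟨μ, hμ, hle⟩
  -- choose lifts of the leading monomials
  have hex : ∀ μ : S, ∃ y ∈ J, ρt y ≠ 0 ∧ mo.degree (ρt y) = μ.1 := fun μ => hSLM μ.1 μ.2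
  choose g hgJ hg0 hgdeg using hex
  -- the level `c`
  set lift : (R ⧸ Ideal.span {t}) → R := Function.surjInv Ideal.Quotient.mk_surjective with hlift
  have hl : ∀ x, Ideal.Quotient.mk (Ideal.span {t}) (lift x) = x :=
    Function.surjInv_eq Ideal.Quotient.mk_surjective
  set B : S → Finset (σ →₀ ℕ) := fun μ =>
    (L.ρ (g μ)).support.filter (fun ν => μ.1 ≺[mo] ν) with hB
  set T : Finset R := insert t (Finset.univ.biUnion
    (fun μ : S => (B μ).image (fun ν => lift (coeff ν (L.ρ (g μ)))))) with hT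
  have hTm : ∀ a ∈ T, a ∈ maximalIdeal R := by
    intro a ha
    rw [hT, Finset.mem_insert] at ha
    rcases ha with rfl | ha
    · exact htm
    · rw [Finset.mem_biUnion] at ha
      obtain ⟨μ, -, ha⟩ := ha
      rw [Finset.mem_image] at ha
      obtain ⟨ν, hν, rfl⟩ := ha
      rw [hB, Finset.mem_filter] at hν
      rw [← residue_eq_zero_iff, ← resOf_mk R t htm, hl, ← coeff_map]
      change coeff ν (ρt (g μ)) = 0
      apply mo.coeff_eq_zero_of_lt
      rw [hgdeg]; exact hν.2
  obtain ⟨c, hcT, hcdvd⟩ := exists_dvd_all (fun a : R => a) T ⟨t, Finset.mem_insert_self _ _⟩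
  have hct : c ∣ t := hcdvd t (Finset.mem_insert_self _ _)
  have hcm : c ∈ maximalIdeal R := hTm c hcT
  have hc0 : c ≠ 0 := by
    rintro rfl
    exact ht (zero_dvd_iff.1 hct)
  set Lc := L.ofDvd c hct with hLc
  have hfac : (resOf R c hcm).comp (Ideal.Quotient.factor
      ((Ideal.span_singleton_le_span_singleton).2 hct)) = resOf R t htm := by
    apply Ideal.Quotient.ringHom_ext
    ext a
    simp only [RingHom.comp_apply, Ideal.Quotient.factor_mk, resOf_mk]
  have hρtc : ∀ y, ρt y = MvPolynomial.map (resOf R c hcm) (Lc.ρ y) := by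
    intro y
    change MvPolynomial.map _ (L.ρ y) = MvPolynomial.map _ (MvPolynomial.map _ (L.ρ y))
    rw [MvPolynomial.map_map, hfac]
  set b : S → MvPolynomial σ (R ⧸ Ideal.span {c}) := fun μ => Lc.ρ (g μ) with hb
  haveI : Nontrivial (R ⧸ Ideal.span {c}) := by
    rw [Ideal.Quotient.nontrivial_iff]
    intro h
    have : (1 : R) ∈ maximalIdeal R := by
      have h1 : (1 : R) ∈ Ideal.span {c} := by rw [h]; trivial
      exact (Ideal.span_singleton_le_iff_mem _).2 hcm h1
    exact (Ideal.ne_top_iff_one _).1 (Ideal.IsMaximal.ne_top inferInstance) this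
  have hbhigh : ∀ (μ : S) (ν : σ →₀ ℕ), μ.1 ≺[mo] ν → coeff ν (b μ) = 0 := by
    intro μ ν hν
    change coeff ν (MvPolynomial.map _ (L.ρ (g μ))) = 0
    rw [coeff_map]
    by_cases hsup : ν ∈ (L.ρ (g μ)).support
    · have hmemT : lift (coeff ν (L.ρ (g μ))) ∈ T := by
        rw [hT, Finset.mem_insert]
        right
        rw [Finset.mem_biUnion]
        refine ⟨μ, Finset.mem_univ _, ?_⟩
        rw [Finset.mem_image]
        exact ⟨ν, by rw [hB, Finset.mem_filter]; exact ⟨hsup, hν⟩, rfl⟩
      have := hcdvd _ hmemT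
      rw [← hl (coeff ν (L.ρ (g μ))), Ideal.Quotient.factor_mk, Ideal.Quotient.eq_zero_iff_mem,
        Ideal.mem_span_singleton]
      exact this
    · rw [MvPolynomial.notMem_support_iff.1 hsup, map_zero]
  have hblead : ∀ μ : S, IsUnit (coeff μ.1 (b μ)) := by
    intro μ
    apply isUnit_of_resOf_ne_zero R c hcm
    rw [← coeff_map, ← hρtc, ← hgdeg μ]
    exact (mo.coeff_degree_ne_zero_iff).2 (hg0 μ)
  have hbdeg : ∀ μ : S, mo.degree (b μ) = μ.1 := by
    intro μ
    have hne : coeff μ.1 (b μ) ≠ 0 := (hblead μ).ne_zero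
    have h1 : μ.1 ≼[mo] mo.degree (b μ) := mo.le_degree (MvPolynomial.mem_support_iff.2 hne)
    have hb0 : b μ ≠ 0 := by
      intro h; rw [h, coeff_zero] at hne; exact hne rfl
    have h2 : ¬ (μ.1 ≺[mo] mo.degree (b μ)) := by
      intro hlt
      exact (mo.coeff_degree_ne_zero_iff.2 hb0) (hbhigh μ _ hlt)
    exact mo.toSyn.injective (le_antisymm (not_lt.1 h2) h1)
  have hbunit : ∀ μ : S, IsUnit (mo.leadingCoeff (b μ)) := by
    intro μ
    rw [MonomialOrder.leadingCoeff, hbdeg]; exact hblead μ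
  -- the finite generating set
  refine ⟨Finset.univ.image g, ?_, ?_⟩
  · intro y hy
    rw [Finset.mem_coe, Finset.mem_image] at hy
    obtain ⟨μ, -, rfl⟩ := hy
    exact hgJ μ
  set G : Ideal C := Ideal.span (↑(Finset.univ.image g) : Set C) with hG
  have hgG : ∀ μ : S, g μ ∈ G := fun μ =>
    Ideal.subset_span (by rw [Finset.mem_coe, Finset.mem_image]; exact ⟨μ, Finset.mem_univ _, rfl⟩)
  -- one division step at level `c`
  have hstep : ∀ x ∈ J, ∃ z ∈ J, x - algebraMap R C c * z ∈ G := by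
    intro x hx
    obtain ⟨q, r, hdiv, -, hr⟩ := mo.div hbunit (Lc.ρ x)
    choose Q hQ using fun μ : S => Lc.surj (q μ)
    set w : C := ∑ μ ∈ q.support, Q μ * g μ with hw
    have hwG : w ∈ G := Ideal.sum_mem _ fun μ _ => G.mul_mem_left _ (hgG μ)
    have hwJ : w ∈ J := Ideal.sum_mem _ fun μ _ => J.mul_mem_left _ (hgJ μ)
    have hρw : Lc.ρ w = Finsupp.linearCombination _ b q := by
      rw [hw, map_sum, Finsupp.linearCombination_apply, Finsupp.sum]
      refine Finset.sum_congr rfl fun μ _ => ?_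
      rw [map_mul, hQ, smul_eq_mul]
    have hyJ : x - w ∈ J := J.sub_mem hx hwJ
    have hρy : Lc.ρ (x - w) = r := by
      rw [map_sub, hρw, hdiv]; ring
    have hr0 : r = 0 := by
      by_contra hr0
      obtain ⟨d, e, s, ν0, hcde, heu, hrs, hssup, hs0⟩ := exists_primitive c r hr0
      obtain ⟨s', hs'⟩ := Lc.surj s
      have h0 : Lc.ρ (x - w - algebraMap R C d * s') = 0 := by
        rw [map_sub, hρy, map_mul, Lc.map_algebraMap, hs', hrs]; ring
      obtain ⟨z, hz⟩ := Lc.ker _ h0
      have hd0 : d ≠ 0 := by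
        rintro rfl; rw [zero_mul] at hcde; exact hc0 hcde
      have hy' : s' + algebraMap R C e * z ∈ J := by
        apply hsat' d hd0
        have : algebraMap R C d * (s' + algebraMap R C e * z) = x - w := by
          rw [hcde, map_mul] at hz
          linear_combination -hz
        rw [this]; exact hyJ
      have hem : e ∈ maximalIdeal R := by rwa [mem_maximalIdeal, mem_nonunits_iff]
      have hρy' : ρt (s' + algebraMap R C e * z) = MvPolynomial.map (resOf R c hcm) s := by
        rw [hρtc, map_add, map_mul, Lc.map_algebraMap, hs', map_add, map_mul, MvPolynomial.map_C,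
          resOf_mk, (residue_eq_zero_iff e).2 hem, map_zero, zero_mul, add_zero]
      set f := MvPolynomial.map (resOf R c hcm) s with hf
      have hf0 : f ≠ 0 := by
        intro h
        have : coeff ν0 f = 0 := by rw [h, coeff_zero]
        rw [hf, coeff_map, hs0, map_one] at this
        exact one_ne_zero this
      have hLMf : mo.degree f ∈ LM := ⟨_, hy', by rw [hρy']; exact hf0, by rw [hρy']⟩
      obtain ⟨μ, hμ, hle⟩ := hkey _ hLMf
      have hsup : mo.degree f ∈ r.support :=
        hssup (MvPolynomial.support_map_subset _ _ (mo.degree_mem_support hf0))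
      exact hr _ hsup ⟨μ, hμ⟩ (by rw [hbdeg]; exact hle)
    rw [hr0] at hρy
    obtain ⟨z, hz⟩ := Lc.ker _ hρy
    refine ⟨z, ?_, ?_⟩
    · apply hsat' c hc0
      rw [← hz]; exact hyJ
    · have : x - algebraMap R C c * z = w := by rw [← hz]; ring
      rw [this]; exact hwG
  have hstepN : ∀ (N : ℕ), ∀ x ∈ J, ∃ z ∈ J, x - algebraMap R C c ^ N * z ∈ G := by
    intro N
    induction N with
    | zero => intro x hx; exact ⟨x, hx, by simp⟩
    | succ N ih =>
      intro x hx
      obtain ⟨z1, hz1, h1⟩ := hstep x hx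
      obtain ⟨z2, hz2, h2⟩ := ih z1 hz1
      refine ⟨z2, hz2, ?_⟩
      have : x - algebraMap R C c ^ (N + 1) * z2 =
          (x - algebraMap R C c * z1) + algebraMap R C c * (z1 - algebraMap R C c ^ N * z2) := by
        ring
      rw [this]
      exact G.add_mem h1 (G.mul_mem_left _ h2)
  intro x hx
  obtain ⟨N, u, hu⟩ := dvd_pow_of_mem R t ht c hcm
  obtain ⟨z, hz, h⟩ := hstepN N x hx
  refine ⟨algebraMap R C u * z, J.mul_mem_left _ hz, ?_⟩
  have : x - algebraMap R C t * (algebraMap R C u * z) = x - algebraMap R C c ^ N * z := by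
    rw [← map_pow, hu, map_mul]; ring
  rw [this]; exact h

end Heart

end Groth.Agent.Helper2.AdicGB
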