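import Mathlib
import Groth.Agent.Helper2.AdicGBA
import Groth.Agent.Helper7.SopFreeA
set_option autoImplicit false
universe u v w
open IsLocalRing MvPolynomial

namespace Groth.Agent.Helper2.AdicGB

theorem nonempty_monomialOrder (σ : Type u) [Finite σ] : Nonempty (MonomialOrder.{u, u} σ) := by
  classical
  obtain ⟨k, ⟨e⟩⟩ := Finite.exists_equiv_fin σ
  letI : LinearOrder σ := LinearOrder.lift' e e.injective
  exact ⟨MonomialOrder.lex⟩

namespace Level
variable {R : Type u} [CommRing R] {t : R} {σ : Type*} {A : Type v} [CommRing A] [Algebra R A]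

theorem ker_eq (L : Level R t σ A) : RingHom.ker L.ρ = Ideal.span {algebraMap R A t} := by
  ext x
  rw [RingHom.mem_ker, Ideal.mem_span_singleton']
  constructor
  · intro hx
    obtain ⟨y, rfl⟩ := L.ker x hx
    exact ⟨y, mul_comm _ _⟩
  · rintro ⟨y, rfl⟩
    rw [map_mul, L.map_algebraMap, Ideal.Quotient.eq_zero_iff_mem.2 (Ideal.mem_span_singleton_self t),
      map_zero, mul_zero]

/-- polynomial rings over a ring with a level structure -/
noncomputable def mvPolynomial (L : Level R t σ A) (τ : Type*) :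
    Level R t (τ ⊕ σ) (MvPolynomial τ A) where
  ρ := ((sumAlgEquiv (R ⧸ Ideal.span {t}) τ σ).symm :
      MvPolynomial τ (MvPolynomial σ (R ⧸ Ideal.span {t})) →+* _).comp (MvPolynomial.map L.ρ)
  map_algebraMap r := by
    rw [RingHom.comp_apply, MvPolynomial.algebraMap_apply, MvPolynomial.map_C, L.map_algebraMap]
    have : (C (C (Ideal.Quotient.mk (Ideal.span {t}) r)) :
        MvPolynomial τ (MvPolynomial σ (R ⧸ Ideal.span {t}))) =
        algebraMap (R ⧸ Ideal.span {t}) _ (Ideal.Quotient.mk (Ideal.span {t}) r) := by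
      rw [MvPolynomial.algebraMap_apply, MvPolynomial.algebraMap_eq]
    rw [this]
    change (sumAlgEquiv (R ⧸ Ideal.span {t}) τ σ).symm _ = _
    rw [AlgEquiv.commutes, MvPolynomial.algebraMap_eq]
  surj := by
    intro p
    obtain ⟨q, hq⟩ := MvPolynomial.map_surjective _ L.surj
      (sumAlgEquiv (R ⧸ Ideal.span {t}) τ σ p)
    exact ⟨q, by rw [RingHom.comp_apply, hq]; exact AlgEquiv.symm_apply_apply _ p⟩
  ker x hx := by
    rw [RingHom.comp_apply] at hx
    have h1 : MvPolynomial.map L.ρ x = 0 := by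
      have := congrArg (sumAlgEquiv (R ⧸ Ideal.span {t}) τ σ) hx
      simpa using this
    rw [← RingHom.mem_ker, MvPolynomial.ker_map, L.ker_eq, Ideal.map_span, Set.image_singleton,
      Ideal.mem_span_singleton'] at h1
    obtain ⟨y, hy⟩ := h1
    exact ⟨y, by rw [MvPolynomial.algebraMap_apply, ← hy, mul_comm]⟩

end Level

/-- successive approximation -/
theorem approx {S : Type*} [CommRing S] (a : S) {M N : Type*} [AddCommGroup M] [Module S M]
    [AddCommGroup N] [Module S N] [IsPrecomplete (Ideal.span {a}) M]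
    [IsHausdorff (Ideal.span {a}) N] (Φ : M →ₗ[S] N) (X : Set N)
    (h : ∀ x ∈ X, ∃ v : M, ∃ y ∈ X, x = Φ v + a • y) : X ⊆ Set.range Φ := by
  classical
  intro x hx
  choose! v y hyX hxy using h
  -- the sequence
  let seq : ℕ → N := fun k => Nat.rec x (fun _ z => y z) k
  have hseqX : ∀ k, seq k ∈ X := by
    intro k
    induction k with
    | zero => exact hx
    | succ k ih => exact hyX _ ih
  have hseq : ∀ k, seq k = Φ (v (seq k)) + a • seq (k + 1) := fun k => hxy _ (hseqX k)
  let s : ℕ → M := fun K => ∑ k ∈ Finset.range K, a ^ k • v (seq k)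
  have hs : ∀ K, x - Φ (s K) = a ^ K • seq K := by
    intro K
    induction K with
    | zero => simp [s, seq]
    | succ K ih =>
      have : s (K + 1) = s K + a ^ K • v (seq K) := Finset.sum_range_succ _ _
      rw [this, map_add, ← sub_sub, ih, map_smul]
      have h2 : seq K - Φ (v (seq K)) = a • seq (K + 1) := by
        rw [sub_eq_iff_eq_add']; exact hseq K
      rw [← smul_sub, h2, smul_smul, pow_succ]
  have hmem : ∀ (n : ℕ) (z : M), a ^ n • z ∈ ((Ideal.span {a}) ^ n • ⊤ : Submodule S M) :=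
    fun n z => Submodule.smul_mem_smul (Ideal.pow_mem_pow (Ideal.mem_span_singleton_self a) n)
      Submodule.mem_top
  have hmemN : ∀ (n : ℕ) (z : N), a ^ n • z ∈ ((Ideal.span {a}) ^ n • ⊤ : Submodule S N) :=
    fun n z => Submodule.smul_mem_smul (Ideal.pow_mem_pow (Ideal.mem_span_singleton_self a) n)
      Submodule.mem_top
  have hcauchy : ∀ {m n : ℕ}, m ≤ n →
      s m ≡ s n [SMOD ((Ideal.span {a}) ^ m • ⊤ : Submodule S M)] := by
    intro m n hmn
    rw [SModEq.sub_mem, ← neg_sub, neg_mem_iff]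
    have : s n - s m = ∑ k ∈ Finset.Ico m n, a ^ k • v (seq k) := by
      rw [Finset.sum_Ico_eq_sub _ hmn]
    rw [this]
    refine Submodule.sum_mem _ fun k hk => ?_
    rw [Finset.mem_Ico] at hk
    obtain ⟨j, rfl⟩ := Nat.exists_eq_add_of_le hk.1
    rw [pow_add, mul_smul]
    exact hmem m _
  obtain ⟨Lim, hLim⟩ := IsPrecomplete.prec ‹_› hcauchy
  refine ⟨Lim, ?_⟩
  symm
  rw [← sub_eq_zero]
  apply IsHausdorff.haus ‹IsHausdorff (Ideal.span {a}) N›
  intro n
  rw [SModEq.sub_mem, sub_zero]
  have h1 : x - Φ Lim = (x - Φ (s n)) + Φ (s n - Lim) := by rw [map_sub]; abel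
  rw [h1]
  refine Submodule.add_mem _ ?_ ?_
  · rw [hs]; exact hmemN n _
  · have h2 := hLim n
    rw [SModEq.sub_mem] at h2
    have h3 : Submodule.map Φ ((Ideal.span {a}) ^ n • ⊤ : Submodule S M) ≤
        ((Ideal.span {a}) ^ n • ⊤ : Submodule S N) := by
      rw [Submodule.map_smul'']
      exact Submodule.smul_mono le_rfl le_top
    exact h3 (Submodule.mem_map_of_mem h2)

theorem isPrecomplete_of_surjective {R : Type*} [CommRing R] (I : Ideal R) {M N : Type*}
    [AddCommGroup M] [Module R M] [AddCommGroup N] [Module R N] (f : M →ₗ[R] N)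
    (hf : Function.Surjective f) [IsPrecomplete I M] : IsPrecomplete I N := by
  rw [← AdicCompletion.of_surjective_iff]
  intro y
  obtain ⟨x, rfl⟩ := AdicCompletion.map_surjective I hf y
  obtain ⟨x₀, rfl⟩ := AdicCompletion.of_surjective I M x
  exact ⟨f x₀, (AdicCompletion.map_of I f x₀).symm⟩

theorem isPrecomplete_of_finite (R : Type u) [CommRing R] (I : Ideal R) [IsPrecomplete I R]
    (M : Type w) [AddCommGroup M] [Module R M] [Module.Finite R M] : IsPrecomplete I M := by
  classical
  obtain ⟨N, f, hf⟩ := Module.Finite.exists_fin' R M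
  haveI : IsPrecomplete I (Fin N → R) := Groth.Agent.Helper7.SopFree.isPrecomplete_pi I
  exact isPrecomplete_of_surjective I f hf

theorem coeff_mem_of_mem_smul_top {A : Type*} [CommRing A] {τ : Type*} (I : Ideal A)
    (x : MvPolynomial τ A) (hx : x ∈ (I • ⊤ : Submodule A (MvPolynomial τ A))) (ν : τ →₀ ℕ) :
    coeff ν x ∈ I := by
  refine Submodule.smul_induction_on hx (fun r hr y _ => ?_) (fun y z hy hz => ?_)
  · rw [coeff_smul, smul_eq_mul]; exact I.mul_mem_right _ hr
  · rw [coeff_add]; exact I.add_mem hy hz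

theorem isHausdorff_mvPolynomial {A : Type*} [CommRing A] (τ : Type*) (I : Ideal A)
    [IsHausdorff I A] : IsHausdorff I (MvPolynomial τ A) := by
  refine ⟨fun x hx => ?_⟩
  ext ν
  rw [coeff_zero]
  apply IsHausdorff.haus ‹IsHausdorff I A›
  intro n
  have := hx n
  rw [SModEq.sub_mem, sub_zero] at this ⊢
  rw [smul_eq_mul, Ideal.mul_top]
  exact coeff_mem_of_mem_smul_top _ x this ν

end Groth.Agent.Helper2.AdicGB
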