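import Mathlib
import Groth.Agent.Helper2.AdicGBA
import Groth.Agent.Helper2.AdicGBC
import Groth.Agent.Helper2.AdicGBD
set_option autoImplicit false
universe u v w
open IsLocalRing MvPolynomial

namespace Groth.Agent.Helper2.AdicGB

section Comp
attribute [local instance] MvPolynomial.gradedAlgebra

theorem homogeneousComponent_mul_of_isHomogeneous {τ : Type*} {A : Type*} [CommRing A]
    (q g : MvPolynomial τ A) (e d : ℕ) (hg : g.IsHomogeneous e) :
    homogeneousComponent d (q * g) =
      if e ≤ d then homogeneousComponent (d - e) q * g else 0 := by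
  classical
  have h := DirectSum.coe_decompose_mul_of_right_mem (𝒜 := homogeneousSubmodule τ A) (a := q) d
    ((mem_homogeneousSubmodule _ _).2 hg)
  have e1 : ∀ (p : MvPolynomial τ A) (i : ℕ),
      ((DirectSum.decompose (homogeneousSubmodule τ A) p) i : MvPolynomial τ A) =
        homogeneousComponent i p := fun p i => decomposition.decompose'_apply p i
  rw [e1, e1] at h
  exact h

end Comp

section GM
variable (R : Type u) [CommRing R] [IsDomain R] [ValuationRing R] [Ring.KrullDimLE 1 R]
  (t : R) [IsAdicComplete (Ideal.span {t}) R]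

/-- **Graded mixed finiteness**: over `A = R⟨ζ⟩` (any ring with a level structure, complete for
the `t`-adic topology), every homogeneous `t`-saturated ideal of `A[w]` is finitely generated. -/
theorem gm (ht : t ≠ 0) {σ τ : Type} [Finite σ] [Finite τ]
    (A : Type v) [CommRing A] [Algebra R A] (L : Level R t σ A)
    [IsAdicComplete (Ideal.span {algebraMap R A t}) A]
    (J : Ideal (MvPolynomial τ A)) (hJ : ∀ x ∈ J, ∀ n, homogeneousComponent n x ∈ J)
    (hsat : ∀ x, C (algebraMap R A t) * x ∈ J → x ∈ J) : J.FG := by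
  classical
  obtain ⟨mo⟩ := nonempty_monomialOrder (τ ⊕ σ)
  set a := algebraMap R A t with ha
  have hsat' : ∀ x, algebraMap R (MvPolynomial τ A) t * x ∈ J → x ∈ J := by
    intro x hx; rw [MvPolynomial.algebraMap_apply] at hx; exact hsat x hx
  obtain ⟨G, hGJ, hG⟩ := heart R t ht mo (MvPolynomial τ A) (L.mvPolynomial τ) J hsat'
  set G' : Finset (MvPolynomial τ A) := G.biUnion (fun g =>
    (Finset.range (g.totalDegree + 1)).image (fun d => homogeneousComponent d g)) with hG'
  have hG'mem : ∀ g' ∈ G', ∃ g ∈ G, ∃ d, g' = homogeneousComponent d g := by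
    intro g' hg'
    rw [hG', Finset.mem_biUnion] at hg'
    obtain ⟨g, hg, hg'⟩ := hg'
    rw [Finset.mem_image] at hg'
    obtain ⟨d, -, rfl⟩ := hg'
    exact ⟨g, hg, d, rfl⟩
  have hG'J : ∀ g' ∈ G', g' ∈ J := by
    intro g' hg'
    obtain ⟨g, hg, d, rfl⟩ := hG'mem g' hg'
    exact hJ g (hGJ hg) d
  have hG'hom : ∀ g' ∈ G', ∃ e, g'.IsHomogeneous e := by
    intro g' hg'
    obtain ⟨g, hg, d, rfl⟩ := hG'mem g' hg'
    exact ⟨d, homogeneousComponent_isHomogeneous d g⟩
  have hGG' : Ideal.span (↑G : Set (MvPolynomial τ A)) ≤ Ideal.span (↑G' : Set _) := by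
    rw [Ideal.span_le]
    intro g hg
    rw [SetLike.mem_coe, ← sum_homogeneousComponent g]
    refine Ideal.sum_mem _ fun d hd => Ideal.subset_span ?_
    rw [Finset.mem_coe, hG', Finset.mem_biUnion]
    exact ⟨g, hg, Finset.mem_image.2 ⟨d, hd, rfl⟩⟩
  refine ⟨G', le_antisymm (Ideal.span_le.2 hG'J) ?_⟩
  choose! deg hdeg using hG'hom
  suffices H : ∀ d, {x | x ∈ J ∧ x.IsHomogeneous d} ⊆
      ((Ideal.span (↑G' : Set (MvPolynomial τ A)) : Ideal _) : Set (MvPolynomial τ A)) by
    intro x hx
    rw [← sum_homogeneousComponent x]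
    exact Ideal.sum_mem _ fun d _ => H d ⟨hJ x hx d, homogeneousComponent_isHomogeneous d x⟩
  intro d
  let Φ : (↥G' → restrictTotalDegree τ A d) →ₗ[A] MvPolynomial τ A :=
    { toFun := fun v => ∑ i : ↥G', (v i : MvPolynomial τ A) * i.1
      map_add' := by
        intro v w
        simp only [Pi.add_apply, Submodule.coe_add, add_mul, Finset.sum_add_distrib]
      map_smul' := by
        intro r v
        simp only [Pi.smul_apply, Submodule.coe_smul, smul_mul_assoc, Finset.smul_sum,
          RingHom.id_apply] }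
  haveI : IsPrecomplete (Ideal.span {a}) (↥G' → restrictTotalDegree τ A d) :=
    isPrecomplete_of_finite A _ _
  haveI : IsHausdorff (Ideal.span {a}) (MvPolynomial τ A) := isHausdorff_mvPolynomial τ _
  have hrange : Set.range Φ ⊆
      ((Ideal.span (↑G' : Set (MvPolynomial τ A)) : Ideal _) : Set (MvPolynomial τ A)) := by
    rintro _ ⟨v, rfl⟩
    exact Ideal.sum_mem _ fun i _ => Ideal.mul_mem_left _ _ (Ideal.subset_span i.2)
  refine (approx a Φ _ ?_).trans hrange
  rintro x ⟨hxJ, hxd⟩
  obtain ⟨y0, hy0J, hmem⟩ := hG x hxJ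
  have hmem' := hGG' hmem
  obtain ⟨q, -, hq⟩ := Submodule.mem_span_finset.1 hmem'
  set v : MvPolynomial τ A → MvPolynomial τ A := fun g' =>
    if deg g' ≤ d then homogeneousComponent (d - deg g') (q g') else 0 with hv
  have hvW : ∀ g', v g' ∈ restrictTotalDegree τ A d := by
    intro g'
    rw [mem_restrictTotalDegree, hv]
    by_cases h : deg g' ≤ d
    · simp only [if_pos h]
      exact ((homogeneousComponent_isHomogeneous _ _).totalDegree_le).trans (Nat.sub_le _ _)
    · simp only [if_neg h, totalDegree_zero, Nat.zero_le]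
  have hcomp := congrArg (homogeneousComponent d) hq
  rw [map_sum, map_sub, MvPolynomial.algebraMap_apply, homogeneousComponent_C_mul,
    homogeneousComponent_eq_self hxd] at hcomp
  have hterm : ∀ g' ∈ G', homogeneousComponent d (q g' • g') = v g' * g' := by
    intro g' hg'
    rw [smul_eq_mul, homogeneousComponent_mul_of_isHomogeneous _ _ _ _ (hdeg g' hg'), hv]
    by_cases h : deg g' ≤ d
    · simp only [if_pos h]
    · simp only [if_neg h, zero_mul]
  rw [Finset.sum_congr rfl hterm] at hcomp
  refine ⟨fun i => ⟨v i.1, hvW i.1⟩, homogeneousComponent d y0,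
    ⟨hJ y0 hy0J d, homogeneousComponent_isHomogeneous d y0⟩, ?_⟩
  change x = ∑ i : ↥G', v i.1 * i.1 + a • homogeneousComponent d y0
  rw [Finset.sum_coe_sort G' (fun g' => v g' * g'), hcomp, smul_eq_C_mul]
  ring

end GM

end Groth.Agent.Helper2.AdicGB
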