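import Mathlib
import Groth.Prelude
import Groth.Agent.Helper2.AdicGBA
set_option autoImplicit false
universe u v w
open IsLocalRing MvPolynomial

namespace Groth.Agent.Helper2.AdicGB

section RPow
variable (R : Type u) [CommRing R] (t : R) (n : ℕ)

theorem map_C_fg : ((Ideal.span {t}).map
    (MvPolynomial.C : R →+* MvPolynomial (Fin n) R)).FG :=
  Ideal.FG.map ⟨{t}, by simp⟩ _

theorem algebraMap_C (r : R) :
    algebraMap (MvPolynomial (Fin n) R) (AdicRing.RPow R (Ideal.span {t}) n) (MvPolynomial.C r) =
      algebraMap R (AdicRing.RPow R (Ideal.span {t}) n) r := by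
  rw [IsScalarTower.algebraMap_apply R (MvPolynomial (Fin n) R)
    (AdicRing.RPow R (Ideal.span {t}) n), MvPolynomial.algebraMap_eq]

theorem span_algebraMap_eq : Ideal.map
    (algebraMap (MvPolynomial (Fin n) R) (AdicRing.RPow R (Ideal.span {t}) n))
    ((Ideal.span {t}).map (MvPolynomial.C : R →+* MvPolynomial (Fin n) R)) =
    Ideal.span {algebraMap R (AdicRing.RPow R (Ideal.span {t}) n) t} := by
  rw [Ideal.map_map]
  refine (Ideal.map_span _ _).trans ?_
  rw [Set.image_singleton, RingHom.comp_apply, algebraMap_C]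

instance isAdicComplete_rpow :
    IsAdicComplete (Ideal.span {algebraMap R (AdicRing.RPow R (Ideal.span {t}) n) t})
      (AdicRing.RPow R (Ideal.span {t}) n) := by
  rw [← span_algebraMap_eq]
  exact AdicCompletion.isAdicComplete_self _ (map_C_fg R t n)

/-- the level structure of restricted power series -/
noncomputable def rpowLevel : Level R t (Fin n) (AdicRing.RPow R (Ideal.span {t}) n) where
  ρ := ((quotientEquivQuotientMvPolynomial (σ := Fin n) (Ideal.span {t})).symm :
      (MvPolynomial (Fin n) R ⧸ (Ideal.span {t}).map (MvPolynomial.C)) →+* _).comp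
      (AdicCompletion.evalOneₐ ((Ideal.span {t}).map
        (MvPolynomial.C : R →+* MvPolynomial (Fin n) R))).toRingHom
  map_algebraMap r := by
    rw [RingHom.comp_apply, ← algebraMap_C]
    change (quotientEquivQuotientMvPolynomial (σ := Fin n) (Ideal.span {t})).symm
      (AdicCompletion.evalOneₐ _ (algebraMap _ _ (MvPolynomial.C r))) = _
    rw [AlgHom.commutes, Ideal.Quotient.algebraMap_eq]
    have : Ideal.Quotient.mk ((Ideal.span {t}).map
        (MvPolynomial.C : R →+* MvPolynomial (Fin n) R)) (MvPolynomial.C r) =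
        algebraMap R _ r := by
      rw [IsScalarTower.algebraMap_apply R (MvPolynomial (Fin n) R), Ideal.Quotient.algebraMap_eq,
        MvPolynomial.algebraMap_eq]
    rw [this, AlgEquiv.commutes, MvPolynomial.algebraMap_apply, Ideal.Quotient.algebraMap_eq]
  surj := by
    intro p
    obtain ⟨x, hx⟩ := AdicCompletion.evalOneₐ_surjective _
      (quotientEquivQuotientMvPolynomial (σ := Fin n) (Ideal.span {t}) p)
    refine ⟨x, ?_⟩
    rw [RingHom.comp_apply]
    change (quotientEquivQuotientMvPolynomial (σ := Fin n) (Ideal.span {t})).symm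
      (AdicCompletion.evalOneₐ _ x) = _
    rw [hx]
    exact AlgEquiv.symm_apply_apply _ p
  ker x hx := by
    rw [RingHom.comp_apply] at hx
    have h1 : (AdicCompletion.evalOneₐ ((Ideal.span {t}).map
        (MvPolynomial.C : R →+* MvPolynomial (Fin n) R))).toRingHom x = 0 := by
      have := congrArg (quotientEquivQuotientMvPolynomial (σ := Fin n) (Ideal.span {t})) hx
      simpa using this
    rw [← RingHom.mem_ker, AdicCompletion.ker_evalOneₐ_eq_map _ (map_C_fg R t n),
      span_algebraMap_eq, Ideal.mem_span_singleton'] at h1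
    obtain ⟨y, hy⟩ := h1
    exact ⟨y, by rw [← hy, mul_comm]⟩

end RPow

end Groth.Agent.Helper2.AdicGB
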