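import Mathlib
import Groth.Agent.Helper2.AdicGBA
import Groth.Agent.Helper2.AdicGBE
set_option autoImplicit false
universe u v w
open IsLocalRing MvPolynomial

namespace Groth.Agent.Helper2.AdicGB

section Homog
variable {A : Type v} [CommRing A] {τ : Type w}

/-- dehomogenization `Y₀ ↦ 1` -/
noncomputable def dehom (A : Type v) [CommRing A] (τ : Type w) :
    MvPolynomial (Option τ) A →ₐ[A] MvPolynomial τ A :=
  aeval (fun o : Option τ => Option.elim o 1 X)

theorem dehom_rename (p : MvPolynomial τ A) : dehom A τ (rename some p) = p := by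
  rw [dehom, aeval_rename]
  exact aeval_X_left_apply p

theorem dehom_X_none : dehom A τ (X none) = 1 := by
  rw [dehom, aeval_X]; rfl

/-- homogenization in degree `totalDegree` -/
noncomputable def homog (f : MvPolynomial τ A) : MvPolynomial (Option τ) A :=
  ∑ ν ∈ f.support, rename some (monomial ν (coeff ν f)) * X none ^ (f.totalDegree - ν.degree)

theorem dehom_homog (f : MvPolynomial τ A) : dehom A τ (homog f) = f := by
  rw [homog, map_sum]
  conv_rhs => rw [← support_sum_monomial_coeff f]
  refine Finset.sum_congr rfl fun ν _ => ?_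
  rw [map_mul, dehom_rename, map_pow, dehom_X_none, one_pow, mul_one]

theorem homog_isHomogeneous (f : MvPolynomial τ A) : (homog f).IsHomogeneous f.totalDegree := by
  rw [homog]
  refine IsHomogeneous.sum _ _ _ fun ν hν => ?_
  have h1 : (rename (some : τ → Option τ) (monomial ν (coeff ν f))).IsHomogeneous ν.degree :=
    (isHomogeneous_monomial _ rfl).rename_isHomogeneous
  have h2 := h1.mul (isHomogeneous_X_pow (R := A) (none : Option τ) (f.totalDegree - ν.degree))
  have h3 : ν.degree ≤ f.totalDegree := by
    have := le_totalDegree hν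
    rwa [Finsupp.sum, ← Finsupp.degree_apply] at this
  rwa [Nat.add_sub_cancel' h3] at h2

attribute [local instance] MvPolynomial.gradedAlgebra

/-- the homogenization of an ideal -/
noncomputable def hIdeal (J : Ideal (MvPolynomial τ A)) : Ideal (MvPolynomial (Option τ) A) :=
  Ideal.span {F | (∃ d, F.IsHomogeneous d) ∧ dehom A τ F ∈ J}

theorem hIdeal_homogeneous (J : Ideal (MvPolynomial τ A)) (x : MvPolynomial (Option τ) A)
    (hx : x ∈ hIdeal J) (n : ℕ) : homogeneousComponent n x ∈ hIdeal J := by
  have h : (hIdeal J).IsHomogeneous (homogeneousSubmodule (Option τ) A) := by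
    apply Ideal.homogeneous_span
    rintro F ⟨⟨d, hd⟩, -⟩
    exact ⟨d, (mem_homogeneousSubmodule _ _).2 hd⟩
  exact homogeneousComponent_mem_of_mem h hx n

theorem dehom_mem_of_mem_hIdeal (J : Ideal (MvPolynomial τ A)) (x : MvPolynomial (Option τ) A)
    (hx : x ∈ hIdeal J) : dehom A τ x ∈ J := by
  have : hIdeal J ≤ Ideal.comap (dehom A τ) J := by
    rw [hIdeal, Ideal.span_le]
    rintro F ⟨-, hF⟩
    exact hF
  exact this hx

theorem mem_hIdeal_iff (J : Ideal (MvPolynomial τ A)) (x : MvPolynomial (Option τ) A) :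
    x ∈ hIdeal J ↔ ∀ d, dehom A τ (homogeneousComponent d x) ∈ J := by
  constructor
  · intro hx d
    exact dehom_mem_of_mem_hIdeal J _ (hIdeal_homogeneous J x hx d)
  · intro h
    rw [← sum_homogeneousComponent x]
    refine Ideal.sum_mem _ fun d _ => Ideal.subset_span ⟨⟨d, homogeneousComponent_isHomogeneous d x⟩, h d⟩

theorem map_hIdeal (J : Ideal (MvPolynomial τ A)) :
    Ideal.map (dehom A τ) (hIdeal J) = J := by
  apply le_antisymm
  · rw [Ideal.map_le_iff_le_comap]
    intro x hx
    exact dehom_mem_of_mem_hIdeal J x hx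
  · intro f hf
    rw [← dehom_homog f]
    apply Ideal.mem_map_of_mem
    exact Ideal.subset_span ⟨⟨_, homog_isHomogeneous f⟩, by rw [dehom_homog]; exact hf⟩

end Homog

section Sat
variable (R : Type u) [CommRing R] [IsDomain R] [ValuationRing R] [Ring.KrullDimLE 1 R]
  (t : R) [IsAdicComplete (Ideal.span {t}) R]

/-- every `t`-saturated ideal of `A[Y]` is finitely generated -/
theorem fg_of_saturated (ht : t ≠ 0) {σ τ : Type} [Finite σ] [Finite τ]
    (A : Type v) [CommRing A] [Algebra R A] (L : Level R t σ A)
    [IsAdicComplete (Ideal.span {algebraMap R A t}) A]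
    (J : Ideal (MvPolynomial τ A))
    (hsat : ∀ x, C (algebraMap R A t) * x ∈ J → x ∈ J) : J.FG := by
  have h1 : (hIdeal J).FG := by
    refine gm R t ht A L (hIdeal J) (hIdeal_homogeneous J) ?_
    intro x hx
    rw [mem_hIdeal_iff] at hx ⊢
    intro d
    have := hx d
    rw [homogeneousComponent_C_mul, map_mul] at this
    apply hsat
    have h2 : dehom A τ (C (algebraMap R A t)) = C (algebraMap R A t) := by
      rw [dehom, aeval_C]; rfl
    rwa [h2] at this
  rw [← map_hIdeal J]
  exact h1.map _

end Sat

end Groth.Agent.Helper2.AdicGB
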