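import Mathlib
import Groth.Agent.Helper2.AdicGBA
import Groth.Agent.Helper2.AdicGBG
set_option autoImplicit false
universe u v w
open IsLocalRing MvPolynomial

namespace Groth.Agent.Helper2.AdicGB

section Mod
variable (R : Type u) [CommRing R] [IsDomain R] [ValuationRing R] [Ring.KrullDimLE 1 R]
  (t : R) [IsAdicComplete (Ideal.span {t}) R]

theorem C_mul_eq_zero {A : Type v} [CommRing A] {τ : Type*} (a : A)
    (hA : ∀ x : A, a * x = 0 → x = 0) (p : MvPolynomial τ A) (hp : C a * p = 0) : p = 0 := by
  ext ν
  have := congrArg (coeff ν) hp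
  rw [coeff_C_mul, coeff_zero] at this
  rw [coeff_zero]
  exact hA _ this

/-- finite torsion-free modules over `A[Y]` are finitely presented -/
theorem finitePresentation_of_torsionFree (ht : t ≠ 0) {σ τ : Type} [Finite σ] [Finite τ]
    (A : Type v) [CommRing A] [Algebra R A] (L : Level R t σ A)
    [IsAdicComplete (Ideal.span {algebraMap R A t}) A]
    (hA : ∀ x : A, algebraMap R A t * x = 0 → x = 0)
    (M : Type w) [AddCommGroup M] [Module (MvPolynomial τ A) M]
    [Module.Finite (MvPolynomial τ A) M]
    (hM : ∀ x : M, (C (algebraMap R A t) : MvPolynomial τ A) • x = 0 → x = 0) :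
    Module.FinitePresentation (MvPolynomial τ A) M := by
  classical
  set a := algebraMap R A t with ha
  letI : Module (MvPolynomial τ A)ᵐᵒᵖ M :=
    Module.compHom M ((RingHom.id (MvPolynomial τ A)).fromOpposite fun _ _ => mul_comm _ _)
  haveI : IsCentralScalar (MvPolynomial τ A) M := ⟨fun r m => rfl⟩
  obtain ⟨s, gen, hgen⟩ := Module.Finite.exists_fin (R := MvPolynomial τ A) (M := M)
  -- the surjection onto the trivial square zero extension
  let φ : MvPolynomial (Fin s) (MvPolynomial τ A) →ₐ[MvPolynomial τ A]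
      TrivSqZeroExt (MvPolynomial τ A) M := aeval (fun j => TrivSqZeroExt.inr (gen j))
  have hφs : Function.Surjective φ := by
    intro x
    have hx : x = TrivSqZeroExt.inl x.fst + TrivSqZeroExt.inr x.snd := by
      ext <;> simp
    have hsnd : x.snd ∈ Submodule.span (MvPolynomial τ A) (Set.range gen) := by
      rw [hgen]; trivial
    obtain ⟨c, hc⟩ := (Submodule.mem_span_range_iff_exists_fun _).1 hsnd
    refine ⟨C x.fst + ∑ j, C (c j) * X j, ?_⟩
    rw [map_add, map_sum]
    conv_rhs => rw [hx]
    congr 1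
    · rw [aeval_C]; rfl
    · have h3 : (TrivSqZeroExt.inr (∑ i, c i • gen i) : TrivSqZeroExt (MvPolynomial τ A) M) =
          ∑ i, TrivSqZeroExt.inr (c i • gen i) :=
        map_sum (TrivSqZeroExt.inrHom (MvPolynomial τ A) M) _ _
      rw [← hc, h3]
      refine Finset.sum_congr rfl fun j _ => ?_
      rw [map_mul, aeval_C, aeval_X, TrivSqZeroExt.algebraMap_eq_inl,
        TrivSqZeroExt.inl_mul_inr]
  -- flatten
  let e : MvPolynomial (Fin s ⊕ τ) A →+* MvPolynomial (Fin s) (MvPolynomial τ A) :=
    (sumAlgEquiv A (Fin s) τ : MvPolynomial (Fin s ⊕ τ) A →+*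
      MvPolynomial (Fin s) (MvPolynomial τ A))
  have hesurj : Function.Surjective e := (sumAlgEquiv A (Fin s) τ).surjective
  set K' : Ideal (MvPolynomial (Fin s) (MvPolynomial τ A)) := RingHom.ker φ.toRingHom with hK'
  set K : Ideal (MvPolynomial (Fin s ⊕ τ) A) := Ideal.comap e K' with hK
  have hKsat : ∀ x, C a * x ∈ K → x ∈ K := by
    intro x hx
    rw [hK, Ideal.mem_comap, map_mul] at hx
    rw [hK, Ideal.mem_comap, hK', RingHom.mem_ker]
    rw [hK', RingHom.mem_ker, map_mul] at hx
    have heC : e (C a) = C (C a) := by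
      change sumAlgEquiv A (Fin s) τ (C a) = _
      have : (C a : MvPolynomial (Fin s ⊕ τ) A) = algebraMap A _ a := rfl
      rw [this, AlgEquiv.commutes, MvPolynomial.algebraMap_apply, MvPolynomial.algebraMap_eq]
    rw [heC] at hx
    have h2 : φ.toRingHom (C (C a)) = TrivSqZeroExt.inl (C a) := by
      change φ (C (C a)) = _
      rw [aeval_C]; rfl
    rw [h2] at hx
    set y := φ.toRingHom (e x) with hy
    refine TrivSqZeroExt.ext ?_ ?_
    · have := congrArg TrivSqZeroExt.fst hx
      rw [TrivSqZeroExt.fst_mul, TrivSqZeroExt.fst_inl, TrivSqZeroExt.fst_zero] at this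
      rw [TrivSqZeroExt.fst_zero]
      exact C_mul_eq_zero a hA _ this
    · have := congrArg TrivSqZeroExt.snd hx
      rw [TrivSqZeroExt.snd_mul, TrivSqZeroExt.fst_inl, TrivSqZeroExt.snd_inl,
        TrivSqZeroExt.snd_zero] at this
      rw [TrivSqZeroExt.snd_zero]
      apply hM
      simpa using this
  have hKfg : K.FG := fg_of_saturated R t ht A L K hKsat
  have hK'fg : K'.FG := by
    have : K' = Ideal.map e K := by
      rw [hK, Ideal.map_comap_of_surjective _ hesurj]
    rw [this]; exact hKfg.map _
  haveI : Algebra.FinitePresentation (MvPolynomial τ A)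
      (TrivSqZeroExt (MvPolynomial τ A) M) :=
    Algebra.FinitePresentation.of_surjective hφs hK'fg
  haveI : Module.Finite (MvPolynomial τ A) (TrivSqZeroExt (MvPolynomial τ A) M) :=
    inferInstanceAs (Module.Finite (MvPolynomial τ A) (MvPolynomial τ A × M))
  haveI : Module.FinitePresentation (MvPolynomial τ A)
      (TrivSqZeroExt (MvPolynomial τ A) M) :=
    Module.FinitePresentation.of_finite_of_finitePresentation _ _
  refine Module.finitePresentation_of_surjective
    (TrivSqZeroExt.sndHom (MvPolynomial τ A) M) (fun m => ⟨TrivSqZeroExt.inr m, by simp⟩) ?_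
  refine ⟨{1}, ?_⟩
  apply le_antisymm
  · rw [Submodule.span_le]
    intro x hx
    rw [Finset.coe_singleton, Set.mem_singleton_iff] at hx
    rw [hx, SetLike.mem_coe, LinearMap.mem_ker]
    simp
  · intro x hx
    rw [LinearMap.mem_ker] at hx
    have : x = x.fst • (1 : TrivSqZeroExt (MvPolynomial τ A) M) := by
      ext
      · simp
      · simpa using hx
    rw [this]
    exact Submodule.smul_mem _ _ (Submodule.subset_span (by simp))

end Mod

end Groth.Agent.Helper2.AdicGB
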