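import Mathlib
import Groth.Prelude
import Groth.Agent.Helper2.AdicGBA
import Groth.Agent.Helper2.AdicGBF
import Groth.Agent.Helper2.AdicGBH
set_option autoImplicit false
universe u v w
open IsLocalRing MvPolynomial

namespace Groth.Agent.Helper2.AdicGB

/-- a nonzerodivisor stays a nonzerodivisor on the completion with respect to the ideal it
generates -/
theorem adic_regular {P : Type*} [CommRing P] (J : Ideal P) (f : P) (hJ : J = Ideal.span {f})
    (hf : ∀ p : P, f * p = 0 → p = 0) (x : AdicCompletion J P) (hx : f • x = 0) : x = 0 := by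
  apply AdicCompletion.ext
  intro k
  obtain ⟨p, hp⟩ := Submodule.Quotient.mk_surjective _ (x.val (k + 1))
  have h1 : (f • x).val (k + 1) = 0 := by rw [hx]; rfl
  rw [AdicCompletion.val_smul_apply, ← hp, ← Submodule.Quotient.mk_smul,
    Submodule.Quotient.mk_eq_zero, smul_eq_mul, Ideal.mul_top, hJ, Ideal.span_singleton_pow,
    Ideal.mem_span_singleton'] at h1
  obtain ⟨q, hq⟩ := h1
  have h2 : p = f ^ k * q := by
    have : f * (p - f ^ k * q) = 0 := by
      rw [mul_sub, smul_eq_mul] at *
      rw [← hq]; ring
    have := hf _ this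
    rwa [sub_eq_zero] at this
  rw [← AdicCompletion.transitionMap_comp_eval_apply J P (Nat.le_succ k) x, ← hp]
  change Submodule.Quotient.mk p = 0
  rw [Submodule.Quotient.mk_eq_zero, smul_eq_mul, Ideal.mul_top, hJ, Ideal.span_singleton_pow,
    Ideal.mem_span_singleton', h2]
  exact ⟨q, mul_comm _ _⟩

theorem rpow_regular (R : Type u) [CommRing R] [IsDomain R] (t : R) (ht : t ≠ 0) (n : ℕ)
    (x : AdicRing.RPow R (Ideal.span {t}) n)
    (hx : algebraMap R (AdicRing.RPow R (Ideal.span {t}) n) t * x = 0) : x = 0 := by
  apply adic_regular ((Ideal.span {t}).map (MvPolynomial.C : R →+* MvPolynomial (Fin n) R))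
    (MvPolynomial.C t) (by rw [Ideal.map_span, Set.image_singleton])
  · intro p hp
    rcases mul_eq_zero.1 hp with h | h
    · exact absurd ((map_eq_zero_iff _ (MvPolynomial.C_injective _ _)).1 h) ht
    · exact h
  · rw [← algebraMap_C, ← Algebra.smul_def] at hx
    exact hx

/-- finite presentation descends along a surjective ring map -/
theorem finitePresentation_of_surjective_algebraMap {C C' : Type*} [CommRing C] [CommRing C']
    [Algebra C C'] (hs : Function.Surjective (algebraMap C C')) (M : Type*) [AddCommGroup M]
    [Module C M] [Module C' M] [IsScalarTower C C' M] [Module.FinitePresentation C M] :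
    Module.FinitePresentation C' M := by
  classical
  haveI : Module.Finite C' M := Module.Finite.of_restrictScalars_finite C C' M
  obtain ⟨s, g, hg⟩ := Module.Finite.exists_fin' C' M
  haveI : RingHomSurjective (algebraMap C C') := ⟨hs⟩
  let π : (Fin s → C) →ₛₗ[algebraMap C C'] (Fin s → C') :=
    { toFun := fun c j => algebraMap C C' (c j)
      map_add' := by intro c d; ext j; simp
      map_smul' := by intro r c; ext j; simp }
  have hπ : Function.Surjective π := by
    intro y
    choose c hc using fun j => hs (y j)
    exact ⟨c, funext hc⟩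
  let f : (Fin s → C) →ₗ[C] M :=
    { toFun := fun c => g (π c)
      map_add' := by intro c d; rw [map_add, map_add]
      map_smul' := by
        intro r c
        rw [LinearMap.map_smulₛₗ, map_smul, RingHom.id_apply, algebraMap_smul] }
  have hf : Function.Surjective f := fun m => by
    obtain ⟨y, hy⟩ := hg m
    obtain ⟨c, hc⟩ := hπ y
    exact ⟨c, by change g (π c) = m; rw [hc, hy]⟩
  have hker : (LinearMap.ker f).FG := Module.FinitePresentation.fg_ker f hf
  refine Module.finitePresentation_of_surjective g hg ?_
  have : LinearMap.ker g = (LinearMap.ker f).map π := by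
    ext y
    constructor
    · intro hy
      obtain ⟨c, rfl⟩ := hπ y
      exact ⟨c, hy, rfl⟩
    · rintro ⟨c, hc, rfl⟩
      exact hc
  rw [this]
  exact hker.map π

section Mixed
variable (R : Type u) [CommRing R] [IsDomain R] [ValuationRing R] [Ring.KrullDimLE 1 R]
  (t : R) [IsAdicComplete (Ideal.span {t}) R]

/-- **Main finiteness theorem** (Raynaud–Gruson for restricted power series): a finite module
without `t`-torsion over a quotient of `R⟨ζ⟩[Y]` is finitely presented. -/
theorem fp_of_mixed (ht : t ≠ 0) (n m : ℕ) (C' : Type v) [CommRing C'] [Algebra R C']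
    (φ : MvPolynomial (Fin m) (AdicRing.RPow R (Ideal.span {t}) n) →ₐ[R] C')
    (hφ : Function.Surjective φ)
    (M : Type w) [AddCommGroup M] [Module C' M] [Module.Finite C' M]
    (hM : ∀ x : M, algebraMap R C' t • x = 0 → x = 0) : Module.FinitePresentation C' M := by
  letI : Algebra (MvPolynomial (Fin m) (AdicRing.RPow R (Ideal.span {t}) n)) C' :=
    φ.toRingHom.toAlgebra
  letI : Module (MvPolynomial (Fin m) (AdicRing.RPow R (Ideal.span {t}) n)) M :=
    Module.compHom M φ.toRingHom
  haveI : IsScalarTower (MvPolynomial (Fin m) (AdicRing.RPow R (Ideal.span {t}) n)) C' M :=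
    ⟨fun c c' x => by
      change (φ c * c') • x = φ c • (c' • x)
      rw [mul_smul]⟩
  have hs : Function.Surjective (algebraMap
    (MvPolynomial (Fin m) (AdicRing.RPow R (Ideal.span {t}) n)) C') := hφ
  haveI : Module.Finite (MvPolynomial (Fin m) (AdicRing.RPow R (Ideal.span {t}) n)) C' :=
    Module.Finite.of_surjective (Algebra.linearMap _ C') hs
  haveI : Module.Finite (MvPolynomial (Fin m) (AdicRing.RPow R (Ideal.span {t}) n)) M :=
    Module.Finite.trans C' M
  haveI : Module.FinitePresentation
      (MvPolynomial (Fin m) (AdicRing.RPow R (Ideal.span {t}) n)) M := by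
    refine finitePresentation_of_torsionFree R t ht (AdicRing.RPow R (Ideal.span {t}) n)
      (rpowLevel R t n) (rpow_regular R t ht n) M ?_
    intro x hx
    apply hM
    have : algebraMap R C' t = φ (C (algebraMap R (AdicRing.RPow R (Ideal.span {t}) n) t)) := by
      rw [← MvPolynomial.algebraMap_apply, AlgHom.commutes]
    rw [this]
    exact hx
  exact finitePresentation_of_surjective_algebraMap hs M

end Mixed

end Groth.Agent.Helper2.AdicGB
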