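import Mathlib
import Groth.Prelude
import Groth.Agent.Helper2.AdicGBA
import Groth.Agent.Helper2.AdicGBF
import Groth.Agent.Helper2.AdicGBI
import Groth.Agent.S0543
set_option autoImplicit false
universe u v w
open IsLocalRing MvPolynomial

namespace Groth.Agent.Helper2.AdicGB

/-- algebras topologically of finite type over a Noetherian ring are Noetherian -/
theorem isNoetherianRing_of_tft (R : Type u) [CommRing R] [IsNoetherianRing R] (I : Ideal R)
    (A : Type v) [CommRing A] [Algebra R A] (hA : AdicRing.TopFiniteType R I A) :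
    IsNoetherianRing A := by
  obtain ⟨n, φ, hφ⟩ := hA
  haveI : IsNoetherianRing (AdicRing.RPow R I n) := Groth.Agent.S0543.result _ _
  exact isNoetherianRing_of_surjective _ _ φ.toRingHom hφ

section Mixed
variable (R : Type u) [CommRing R] [IsDomain R] [ValuationRing R] [Ring.KrullDimLE 1 R]
  (t : R) [IsAdicComplete (Ideal.span {t}) R]

/-- an algebra topologically of finite type is a quotient of `R⟨ζ⟩[∅]` -/
theorem mixed_of_tft (A : Type v) [CommRing A] [Algebra R A]
    (hA : AdicRing.TopFiniteType R (Ideal.span {t}) A) :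
    ∃ (n : ℕ) (φ : MvPolynomial (Fin 0) (AdicRing.RPow R (Ideal.span {t}) n) →ₐ[R] A),
      Function.Surjective φ := by
  obtain ⟨n, φ, hφ⟩ := hA
  refine ⟨n, φ.comp ((MvPolynomial.isEmptyAlgEquiv (AdicRing.RPow R (Ideal.span {t}) n)
    (Fin 0)).toAlgHom.restrictScalars R), ?_⟩
  intro a
  obtain ⟨x, rfl⟩ := hφ a
  refine ⟨(MvPolynomial.isEmptyAlgEquiv (AdicRing.RPow R (Ideal.span {t}) n) (Fin 0)).symm x, ?_⟩
  change φ ((MvPolynomial.isEmptyAlgEquiv (AdicRing.RPow R (Ideal.span {t}) n) (Fin 0))
    ((MvPolynomial.isEmptyAlgEquiv (AdicRing.RPow R (Ideal.span {t}) n) (Fin 0)).symm x)) = φ x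
  rw [AlgEquiv.apply_symm_apply]

/-- a finitely generated algebra over an algebra topologically of finite type is a quotient of
some `R⟨ζ⟩[Y]` -/
theorem mixed_of_finiteType (A : Type v) [CommRing A] [Algebra R A]
    (hA : AdicRing.TopFiniteType R (Ideal.span {t}) A)
    (C : Type w) [CommRing C] [Algebra R C] [Algebra A C] [IsScalarTower R A C]
    [Algebra.FiniteType A C] :
    ∃ (n m : ℕ) (φ : MvPolynomial (Fin m) (AdicRing.RPow R (Ideal.span {t}) n) →ₐ[R] C),
      Function.Surjective φ := by
  obtain ⟨n, φ, hφ⟩ := hA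
  obtain ⟨m, ψ, hψ⟩ := Algebra.FiniteType.iff_quotient_mvPolynomial''.1
    (inferInstance : Algebra.FiniteType A C)
  refine ⟨n, m, (ψ.restrictScalars R).comp (MvPolynomial.mapAlgHom φ), ?_⟩
  exact hψ.comp (MvPolynomial.map_surjective φ.toRingHom hφ)

/-- saturated submodules of finite modules over quotients of `R⟨ζ⟩[Y]` are finitely generated -/
theorem fg_of_saturated_submodule (ht : t ≠ 0) (n m : ℕ) (C' : Type v) [CommRing C']
    [Algebra R C']
    (φ : MvPolynomial (Fin m) (AdicRing.RPow R (Ideal.span {t}) n) →ₐ[R] C')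
    (hφ : Function.Surjective φ)
    (M : Type w) [AddCommGroup M] [Module C' M] [Module.Finite C' M] (N : Submodule C' M)
    (hN : ∀ x : M, algebraMap R C' t • x ∈ N → x ∈ N) : N.FG := by
  haveI : Module.FinitePresentation C' (M ⧸ N) := by
    refine fp_of_mixed R t ht n m C' φ hφ (M ⧸ N) ?_
    intro x hx
    obtain ⟨y, rfl⟩ := Submodule.Quotient.mk_surjective N x
    rw [← Submodule.Quotient.mk_smul, Submodule.Quotient.mk_eq_zero] at hx
    rw [Submodule.Quotient.mk_eq_zero]
    exact hN y hx
  have := Module.FinitePresentation.fg_ker N.mkQ (Submodule.mkQ_surjective N)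
  rwa [Submodule.ker_mkQ] at this

end Mixed

end Groth.Agent.Helper2.AdicGB
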