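import Mathlib
import Groth.Prelude
import Groth.Agent.Helper2.AdicGBA
import Groth.Agent.Helper2.AdicGBF
import Groth.Agent.Helper2.AdicGBI
import Groth.Agent.Helper2.AdicGBJ
set_option autoImplicit false
universe u v w
open IsLocalRing MvPolynomial

namespace Groth.Agent.Helper2.AdicGB

theorem eq_zero_of_flat_of_smul_eq_zero {R : Type u} [CommRing R] [IsDomain R] [ValuationRing R]
    {M : Type v} [AddCommGroup M] [Module R M] [Module.Flat R M] (r : R) (hr : r ≠ 0) (x : M)
    (hx : r • x = 0) : x = 0 := by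
  have h := (Module.Flat.flat_iff_torsion_eq_bot_of_isBezout (R := R) (M := M)).1 inferInstance
  have : x ∈ Submodule.torsion R M :=
    (Submodule.mem_torsion_iff x).2 ⟨⟨r, mem_nonZeroDivisors_of_ne_zero hr⟩, hx⟩
  rw [h] at this
  exact this

/-- S11524 -/
theorem s11524 (R : Type u) [CommRing R] (I : Ideal R) (hR : AdicRing.IsBase R I)
    (A : Type u) [CommRing A] [Algebra R A] (hA : AdicRing.TopFiniteType R I A)
    (M : Type u) [AddCommGroup M] [Module A M] [Module R M] [IsScalarTower R A M]
    [Module.Finite A M] [Module.Flat R M] :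
    Module.FinitePresentation A M := by
  obtain ⟨hc, h | h⟩ := hR
  · obtain ⟨hN, -⟩ := h
    haveI := hN
    haveI := isNoetherianRing_of_tft R I A hA
    exact Module.finitePresentation_of_finite A M
  · obtain ⟨hD, hV, hK, t, ht, rfl⟩ := h
    haveI := hD
    haveI : ValuationRing R := { hV with }
    haveI := hK
    haveI := hc
    obtain ⟨n, φ, hφ⟩ := mixed_of_tft R t A hA
    refine fp_of_mixed R t ht n 0 A φ hφ M ?_
    intro x hx
    rw [algebraMap_smul] at hx
    exact eq_zero_of_flat_of_smul_eq_zero t ht x hx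

/-- S11527 -/
theorem s11527 (R : Type u) [CommRing R] (I : Ideal R) (hR : AdicRing.IsBase R I)
    (A : Type u) [CommRing A] [Algebra R A] (hA : AdicRing.TopFiniteType R I A)
    (M : Type u) [AddCommGroup M] [Module A M] [Module R M] [IsScalarTower R A M]
    [Module.Finite A M] (N : Submodule A M)
    (hsat : ∀ (x : M) (n : ℕ), (∀ a ∈ I ^ n, a • x ∈ N) → x ∈ N) :
    N.FG := by
  obtain ⟨hc, h | h⟩ := hR
  · obtain ⟨hN, -⟩ := h
    haveI := hN
    haveI := isNoetherianRing_of_tft R I A hA
    haveI : IsNoetherian A M := isNoetherian_of_isNoetherianRing_of_finite A M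
    exact IsNoetherian.noetherian N
  · obtain ⟨hD, hV, hK, t, ht, rfl⟩ := h
    haveI := hD
    haveI : ValuationRing R := { hV with }
    haveI := hK
    haveI := hc
    obtain ⟨n, φ, hφ⟩ := mixed_of_tft R t A hA
    refine fg_of_saturated_submodule R t ht n 0 A φ hφ M N ?_
    intro x hx
    apply hsat x 1
    intro a ha
    rw [pow_one, Ideal.mem_span_singleton] at ha
    obtain ⟨b, rfl⟩ := ha
    rw [mul_comm, mul_smul, ← algebraMap_smul A b, ← algebraMap_smul A t]
    exact N.smul_mem _ hx

/-- S11525 -/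
theorem s11525 (R : Type u) [CommRing R] (I : Ideal R) (hR : AdicRing.IsBase R I)
    (A : Type u) [CommRing A] [Algebra R A] (hA : AdicRing.TopFiniteType R I A)
    (hT : AdicRing.NoPowTorsion I A) :
    AdicRing.TopFinitePresentation R I A := by
  obtain ⟨n, φ, hφ⟩ := hA
  refine ⟨n, φ, hφ, ?_⟩
  have hRPow : AdicRing.TopFiniteType R I (AdicRing.RPow R I n) :=
    ⟨n, AlgHom.id R _, Function.surjective_id⟩
  refine s11527 R I hR (AdicRing.RPow R I n) hRPow (AdicRing.RPow R I n)
    (RingHom.ker φ.toRingHom) ?_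
  intro x k hx
  rw [RingHom.mem_ker]
  apply hT _ k
  intro a ha
  have := hx a ha
  rw [RingHom.mem_ker, Algebra.smul_def, map_mul] at this
  rw [Algebra.smul_def]
  rw [← this]
  congr 1
  exact (φ.commutes a).symm

end Groth.Agent.Helper2.AdicGB
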