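import Mathlib
import Groth.Prelude
import Groth.Agent.Helper2.AdicGBD
import Groth.Agent.Helper2.AdicGBJ
set_option autoImplicit false
universe u v w
open IsLocalRing MvPolynomial

namespace Groth.Agent.Helper2.AdicGB

section General
variable (R : Type u) [CommRing R] (I : Ideal R) (n : ℕ)

theorem rpow_isAdicComplete (hI : I.FG) :
    IsAdicComplete (I.map (algebraMap R (AdicRing.RPow R I n))) (AdicRing.RPow R I n) := by
  have h := AdicCompletion.isAdicComplete_self
    (I.map (MvPolynomial.C : R →+* MvPolynomial (Fin n) R)) (hI.map _)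
  rw [Ideal.map_map] at h
  have : (algebraMap (MvPolynomial (Fin n) R) (AdicRing.RPow R I n)).comp
      (MvPolynomial.C : R →+* MvPolynomial (Fin n) R) = algebraMap R (AdicRing.RPow R I n) := by
    rw [IsScalarTower.algebraMap_eq R (MvPolynomial (Fin n) R) (AdicRing.RPow R I n),
      MvPolynomial.algebraMap_eq]
  rwa [this] at h

theorem rpow_isAdicComplete_module (hI : I.FG) : IsAdicComplete I (AdicRing.RPow R I n) :=
  (IsAdicComplete.map_algebraMap_iff (R := R) (S := AdicRing.RPow R I n) (I := I)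
    (M := AdicRing.RPow R I n)).1 (rpow_isAdicComplete R I n hI)

theorem tft_isPrecomplete (hI : I.FG) (A : Type v) [CommRing A] [Algebra R A]
    (hA : AdicRing.TopFiniteType R I A)
    (M : Type w) [AddCommGroup M] [Module A M] [Module R M] [IsScalarTower R A M]
    [Module.Finite A M] : IsPrecomplete I M := by
  obtain ⟨n, φ, hφ⟩ := hA
  haveI := rpow_isAdicComplete_module R I n hI
  haveI h1 : IsPrecomplete I A := isPrecomplete_of_surjective I φ.toLinearMap hφ
  haveI h2 : IsPrecomplete (I.map (algebraMap R A)) A :=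
    (IsPrecomplete.map_algebraMap_iff (R := R) (S := A) (I := I) (M := A)).2 h1
  haveI h3 : IsPrecomplete (I.map (algebraMap R A)) M := isPrecomplete_of_finite A _ M
  exact (IsPrecomplete.map_algebraMap_iff (R := R) (S := A) (I := I) (M := M)).1 h3

theorem tft_map_le_jacobson (hI : I.FG) (A : Type v) [CommRing A] [Algebra R A]
    (hA : AdicRing.TopFiniteType R I A) :
    I.map (algebraMap R A) ≤ Ideal.jacobson ⊥ := by
  obtain ⟨n, φ, hφ⟩ := hA
  haveI := rpow_isAdicComplete R I n hI
  have hjac := IsAdicComplete.le_jacobson_bot (I.map (algebraMap R (AdicRing.RPow R I n)))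
  rw [Ideal.map_le_iff_le_comap]
  intro r hr
  rw [Ideal.mem_comap, Ideal.mem_jacobson_bot]
  intro y
  obtain ⟨x, rfl⟩ := hφ y
  have h1 : algebraMap R (AdicRing.RPow R I n) r ∈ Ideal.jacobson (⊥ : Ideal (AdicRing.RPow R I n)) :=
    hjac (Ideal.mem_map_of_mem _ hr)
  have h2 := (Ideal.mem_jacobson_bot.1 h1 x).map φ
  rwa [map_add, map_mul, map_one, AlgHom.commutes] at h2

end General

section V
variable (R : Type u) [CommRing R] [IsDomain R] [ValuationRing R] [Ring.KrullDimLE 1 R]
  (t : R) [IsAdicComplete (Ideal.span {t}) R]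

/-- the saturation of a submodule with respect to an element -/
def sat {C' : Type v} [CommRing C'] {M : Type w} [AddCommGroup M] [Module C' M] (a : C')
    (N : Submodule C' M) : Submodule C' M where
  carrier := {x | ∃ j, a ^ j • x ∈ N}
  add_mem' := by
    rintro x y ⟨j, hj⟩ ⟨l, hl⟩
    refine ⟨j + l, ?_⟩
    rw [smul_add]
    refine N.add_mem ?_ ?_
    · rw [pow_add, mul_comm, mul_smul]; exact N.smul_mem _ hj
    · rw [pow_add, mul_smul]; exact N.smul_mem _ hl
  zero_mem' := ⟨0, by simp⟩
  smul_mem' := by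
    rintro c x ⟨j, hj⟩
    refine ⟨j, ?_⟩
    rw [smul_comm]; exact N.smul_mem _ hj

theorem mem_sat {C' : Type v} [CommRing C'] {M : Type w} [AddCommGroup M] [Module C' M] (a : C')
    (N : Submodule C' M) (x : M) : x ∈ sat a N ↔ ∃ j, a ^ j • x ∈ N := Iff.rfl

theorem le_sat {C' : Type v} [CommRing C'] {M : Type w} [AddCommGroup M] [Module C' M] (a : C')
    (N : Submodule C' M) : N ≤ sat a N := fun x hx => ⟨0, by simpa using hx⟩

theorem sat_saturated {C' : Type v} [CommRing C'] {M : Type w} [AddCommGroup M] [Module C' M]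
    (a : C') (N : Submodule C' M) (x : M) (hx : a • x ∈ sat a N) : x ∈ sat a N := by
  obtain ⟨j, hj⟩ := hx
  exact ⟨j + 1, by rw [pow_succ, mul_smul]; exact hj⟩

/-- the saturation is finitely generated -/
theorem sat_fg (ht : t ≠ 0) (n m : ℕ) (C' : Type v) [CommRing C'] [Algebra R C']
    (φ : MvPolynomial (Fin m) (AdicRing.RPow R (Ideal.span {t}) n) →ₐ[R] C')
    (hφ : Function.Surjective φ)
    (M : Type w) [AddCommGroup M] [Module C' M] [Module.Finite C' M] (N : Submodule C' M) :
    (sat (algebraMap R C' t) N).FG :=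
  fg_of_saturated_submodule R t ht n m C' φ hφ M _ (sat_saturated _ N)

/-- bounded torsion -/
theorem exists_pow_smul_mem (ht : t ≠ 0) (n m : ℕ) (C' : Type v) [CommRing C'] [Algebra R C']
    (φ : MvPolynomial (Fin m) (AdicRing.RPow R (Ideal.span {t}) n) →ₐ[R] C')
    (hφ : Function.Surjective φ)
    (M : Type w) [AddCommGroup M] [Module C' M] [Module.Finite C' M] (N : Submodule C' M) :
    ∃ k : ℕ, ∀ (x : M) (j : ℕ), algebraMap R C' t ^ j • x ∈ N → algebraMap R C' t ^ k • x ∈ N := by
  classical
  set a := algebraMap R C' t with ha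
  obtain ⟨G, hG⟩ := sat_fg R t ht n m C' φ hφ M N
  have hGj : ∀ g ∈ G, ∃ j, a ^ j • g ∈ N := by
    intro g hg
    have : g ∈ sat a N := by rw [← hG]; exact Submodule.subset_span hg
    exact this
  choose! j hj using hGj
  refine ⟨G.sup j, ?_⟩
  intro x l hl
  have hxS : x ∈ Submodule.span C' (↑G : Set M) := by rw [hG]; exact ⟨l, hl⟩
  refine Submodule.span_induction ?_ ?_ ?_ ?_ hxS
  · intro g hg
    obtain ⟨d, hd⟩ := Nat.exists_eq_add_of_le (Finset.le_sup (f := j) hg)
    rw [hd, pow_add, mul_comm, mul_smul]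
    exact N.smul_mem _ (hj g hg)
  · simp
  · intro x y _ _ hx hy
    rw [smul_add]; exact N.add_mem hx hy
  · intro c x _ hx
    rw [smul_comm]; exact N.smul_mem _ hx

end V

end Groth.Agent.Helper2.AdicGB
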