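import Mathlib
import Groth.Prelude
import Groth.Agent.Helper2.AdicGBJ
import Groth.Agent.Helper2.AdicGBL
set_option autoImplicit false
universe u v w
open IsLocalRing MvPolynomial

namespace Groth.Agent.Helper2.AdicGB

section V
variable (R : Type u) [CommRing R] [IsDomain R] [ValuationRing R] [Ring.KrullDimLE 1 R]
  (t : R) [IsAdicComplete (Ideal.span {t}) R]

/-- finite torsion-free modules over algebras topologically of finite type are separated -/
theorem iInf_eq_bot_of_torsionFree (ht : t ≠ 0) (A : Type v) [CommRing A] [Algebra R A]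
    (hA : AdicRing.TopFiniteType R (Ideal.span {t}) A)
    (M : Type w) [AddCommGroup M] [Module A M] [Module.Finite A M]
    (hM : ∀ x : M, algebraMap R A t • x = 0 → x = 0) :
    (⨅ k : ℕ, (Ideal.span {algebraMap R A t}) ^ k • (⊤ : Submodule A M)) = ⊥ := by
  set a := algebraMap R A t with ha
  set D : Submodule A M := ⨅ k : ℕ, (Ideal.span {a}) ^ k • (⊤ : Submodule A M) with hD
  have hmem : ∀ (k : ℕ) (x : M), x ∈ (Ideal.span {a}) ^ k • (⊤ : Submodule A M) ↔
      ∃ z : M, x = a ^ k • z := by
    intro k x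
    rw [Ideal.span_singleton_pow, Submodule.ideal_span_singleton_smul,
      Submodule.mem_smul_pointwise_iff_exists]
    constructor
    · rintro ⟨z, -, rfl⟩; exact ⟨z, rfl⟩
    · rintro ⟨z, rfl⟩; exact ⟨z, Submodule.mem_top, rfl⟩
  have hsat : ∀ x : M, a • x ∈ D → x ∈ D := by
    intro x hx
    rw [hD, Submodule.mem_iInf] at hx ⊢
    intro k
    obtain ⟨z, hz⟩ := (hmem (k + 1) _).1 (hx (k + 1))
    rw [hmem]
    refine ⟨z, ?_⟩
    have : a • (x - a ^ k • z) = 0 := by
      rw [smul_sub, hz, smul_smul, ← pow_succ']; exact sub_self _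
    have := hM _ this
    rwa [sub_eq_zero] at this
  obtain ⟨n, φ, hφ⟩ := mixed_of_tft R t A hA
  have hfg : D.FG := fg_of_saturated_submodule R t ht n 0 A φ hφ M D hsat
  have hle : D ≤ Ideal.span {a} • D := by
    intro x hx
    have h1 : x ∈ (Ideal.span {a}) ^ 1 • (⊤ : Submodule A M) := by
      rw [hD, Submodule.mem_iInf] at hx; exact hx 1
    obtain ⟨z, hz⟩ := (hmem 1 x).1 h1
    rw [pow_one] at hz
    have hzD : z ∈ D := hsat z (hz ▸ hx)
    rw [hz]
    exact Submodule.smul_mem_smul (Ideal.mem_span_singleton_self a) hzD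
  have hjac : Ideal.span {a} ≤ Ideal.jacobson (⊥ : Ideal A) := by
    have := tft_map_le_jacobson R (Ideal.span {t}) ⟨{t}, by simp⟩ A hA
    rwa [Ideal.map_span, Set.image_singleton] at this
  exact Submodule.eq_bot_of_le_smul_of_le_jacobson_bot _ _ hfg hle hjac

/-- finite modules over algebras topologically of finite type are separated -/
theorem isHausdorff_of_tft (ht : t ≠ 0) (A : Type v) [CommRing A] [Algebra R A]
    (hA : AdicRing.TopFiniteType R (Ideal.span {t}) A)
    (M : Type w) [AddCommGroup M] [Module A M] [Module R M] [IsScalarTower R A M]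
    [Module.Finite A M] : IsHausdorff (Ideal.span {t}) M := by
  set a := algebraMap R A t with ha
  obtain ⟨n, φ, hφ⟩ := mixed_of_tft R t A hA
  obtain ⟨k0, hk0⟩ := exists_pow_smul_mem R t ht n 0 A φ hφ M ⊥
  set T : Submodule A M := sat a ⊥ with hT
  have hquot : ∀ x : M ⧸ T, a • x = 0 → x = 0 := by
    intro x hx
    obtain ⟨y, rfl⟩ := Submodule.Quotient.mk_surjective T x
    rw [← Submodule.Quotient.mk_smul, Submodule.Quotient.mk_eq_zero] at hx
    rw [Submodule.Quotient.mk_eq_zero]
    exact sat_saturated a ⊥ y hx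
  have hbot := iInf_eq_bot_of_torsionFree R t ht A hA (M ⧸ T) hquot
  refine ⟨fun x hx => ?_⟩
  have hx' : ∀ k : ℕ, ∃ z : M, x = a ^ k • z := by
    intro k
    have := hx k
    rw [SModEq.sub_mem, sub_zero, Ideal.span_singleton_pow, Submodule.ideal_span_singleton_smul,
      Submodule.mem_smul_pointwise_iff_exists] at this
    obtain ⟨z, -, hz⟩ := this
    exact ⟨z, by rw [← hz, ← map_pow, algebraMap_smul]⟩
  -- x is torsion
  have hxT : x ∈ T := by
    rw [← Submodule.Quotient.mk_eq_zero, ← Submodule.mem_bot A, ← hbot, Submodule.mem_iInf]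
    intro k
    obtain ⟨z, hz⟩ := hx' k
    rw [hz, Submodule.Quotient.mk_smul]
    exact Submodule.smul_mem_smul (Ideal.pow_mem_pow (Ideal.mem_span_singleton_self a) k)
      Submodule.mem_top
  obtain ⟨j, hj⟩ := hxT
  obtain ⟨z, hz⟩ := hx' k0
  have h1 : a ^ (j + k0) • z ∈ (⊥ : Submodule A M) := by
    rw [pow_add, mul_smul, ← hz]; exact hj
  have h2 := hk0 z (j + k0) h1
  rw [Submodule.mem_bot] at h2
  rw [hz, h2]

end V

/-- S11529 -/
theorem s11529 (R : Type u) [CommRing R] (I : Ideal R) (hR : AdicRing.IsBase R I)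
    (A : Type u) [CommRing A] [Algebra R A] (hA : AdicRing.TopFiniteType R I A)
    (M : Type u) [AddCommGroup M] [Module A M] [Module R M] [IsScalarTower R A M]
    [Module.Finite A M] :
    IsAdicComplete I M := by
  obtain ⟨hc, h | h⟩ := hR
  · obtain ⟨hN, -⟩ := h
    haveI := hN
    have hI : I.FG := IsNoetherian.noetherian I
    haveI := isNoetherianRing_of_tft R I A hA
    haveI : IsPrecomplete I M := tft_isPrecomplete R I hI A hA M
    haveI : IsHausdorff I M := by
      have := IsHausdorff.of_le_jacobson (I.map (algebraMap R A)) M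
        (tft_map_le_jacobson R I hI A hA)
      exact (IsHausdorff.map_algebraMap_iff (R := R) (S := A) (I := I) (M := M)).1 this
    exact {}
  · obtain ⟨hD, hV, hK, t, ht, rfl⟩ := h
    haveI := hD
    haveI : ValuationRing R := { hV with }
    haveI := hK
    haveI := hc
    haveI : IsPrecomplete (Ideal.span {t}) M :=
      tft_isPrecomplete R _ ⟨{t}, by simp⟩ A hA M
    haveI : IsHausdorff (Ideal.span {t}) M := isHausdorff_of_tft R t ht A hA M
    exact {}

/-- S11528 -/
theorem s11528 (R : Type u) [CommRing R] (I : Ideal R) (hR : AdicRing.IsBase R I)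
    (A : Type u) [CommRing A] [Algebra R A] (hA : AdicRing.TopFiniteType R I A)
    (M : Type u) [AddCommGroup M] [Module A M] [Module R M] [IsScalarTower R A M]
    [Module.Finite A M] (N : Submodule A M) :
    ∃ n₀ : ℕ, ∀ m : ℕ,
      (I ^ (m + n₀) • (⊤ : Submodule R M)) ⊓ N.restrictScalars R ≤ I ^ m • N.restrictScalars R := by
  obtain ⟨hc, h | h⟩ := hR
  · obtain ⟨hN, -⟩ := h
    haveI := hN
    haveI := isNoetherianRing_of_tft R I A hA
    obtain ⟨k, hk⟩ := Ideal.exists_pow_inf_eq_pow_smul (I.map (algebraMap R A)) N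
    refine ⟨k, fun m => ?_⟩
    intro x hx
    have h1 : x ∈ (I.map (algebraMap R A)) ^ (m + k) • (⊤ : Submodule A M) := by
      have := hx.1
      rw [← Submodule.restrictScalars_top R A M, ← Ideal.smul_restrictScalars, Ideal.map_pow] at this
      exact this
    have h2 : x ∈ (I.map (algebraMap R A)) ^ (m + k) • (⊤ : Submodule A M) ⊓ N := ⟨h1, hx.2⟩
    rw [hk (m + k) (Nat.le_add_left _ _), Nat.add_sub_cancel] at h2
    have h3 : x ∈ (I.map (algebraMap R A)) ^ m • N :=
      Submodule.smul_mono le_rfl inf_le_right h2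
    rw [← Ideal.map_pow] at h3
    have h4 : x ∈ ((I ^ m).map (algebraMap R A) • N).restrictScalars R := h3
    rwa [Ideal.smul_restrictScalars] at h4
  · obtain ⟨hD, hV, hK, t, ht, rfl⟩ := h
    haveI := hD
    haveI : ValuationRing R := { hV with }
    haveI := hK
    haveI := hc
    obtain ⟨n, φ, hφ⟩ := mixed_of_tft R t A hA
    obtain ⟨k, hk⟩ := exists_pow_smul_mem R t ht n 0 A φ hφ M N
    refine ⟨k, fun m => ?_⟩
    rintro x ⟨hx1, hx2⟩
    rw [SetLike.mem_coe, Ideal.span_singleton_pow, Submodule.ideal_span_singleton_smul,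
      Submodule.mem_smul_pointwise_iff_exists] at hx1
    obtain ⟨y, -, rfl⟩ := hx1
    have h1 : algebraMap R A t ^ (m + k) • y ∈ N := by
      rw [← map_pow, algebraMap_smul]; exact hx2
    have h2 := hk y _ h1
    rw [← map_pow, algebraMap_smul] at h2
    rw [pow_add, mul_smul]
    exact Submodule.smul_mem_smul (Ideal.pow_mem_pow (Ideal.mem_span_singleton_self t) m) h2

end Groth.Agent.Helper2.AdicGB
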