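import Mathlib
import Groth.Prelude
import Groth.Agent.Helper2.AdicGBJ
import Groth.Agent.Helper2.AdicGBL
set_option autoImplicit false
universe u v w
open IsLocalRing MvPolynomial

namespace Groth.Agent.Helper2.AdicGB

/-- an ideal of a quotient ring is finitely presented if its preimage is -/
theorem fp_ideal_of_surjective {B A : Type*} [CommRing B] [CommRing A] [Algebra B A]
    (hs : Function.Surjective (algebraMap B A)) (hk : (RingHom.ker (algebraMap B A)).FG)
    (J : Ideal A) [Module.FinitePresentation B (J.comap (algebraMap B A))] :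
    Module.FinitePresentation A J := by
  set J' := J.comap (algebraMap B A) with hJ'
  let l : J' →ₗ[B] J :=
    { toFun := fun x => ⟨algebraMap B A x.1, x.2⟩
      map_add' := by intro x y; ext; simp
      map_smul' := by
        intro b x
        ext
        simp [Algebra.smul_def] }
  have hl : Function.Surjective l := by
    rintro ⟨y, hy⟩
    obtain ⟨x, rfl⟩ := hs y
    exact ⟨⟨x, hy⟩, rfl⟩
  have hker : (LinearMap.ker l).FG := by
    apply Submodule.fg_of_fg_map_injective J'.subtype Subtype.val_injective
    have : (LinearMap.ker l).map J'.subtype = RingHom.ker (algebraMap B A) := by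
      ext x
      constructor
      · rintro ⟨y, hy, rfl⟩
        rw [SetLike.mem_coe, LinearMap.mem_ker] at hy
        have := congrArg Subtype.val hy
        exact this
      · intro hx
        rw [RingHom.mem_ker] at hx
        refine ⟨⟨x, ?_⟩, ?_, rfl⟩
        · rw [hJ', Ideal.mem_comap, hx]; exact J.zero_mem
        · rw [SetLike.mem_coe, LinearMap.mem_ker]
          exact Subtype.ext hx
    rw [this]; exact hk
  haveI : Module.FinitePresentation B J := Module.finitePresentation_of_surjective l hl hker
  exact finitePresentation_of_surjective_algebraMap hs J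

/-- S11526 -/
theorem s11526 (R : Type u) [CommRing R] (I : Ideal R) (hR : AdicRing.IsBase R I)
    (A : Type u) [CommRing A] [Algebra R A] (hA : AdicRing.TopFinitePresentation R I A)
    (J : Ideal A) (hJ : J.FG) :
    Module.FinitePresentation A J := by
  obtain ⟨n, φ, hφ, hker⟩ := hA
  haveI : Module.Finite A J := Module.Finite.iff_fg.2 hJ
  obtain ⟨hc, h | h⟩ := hR
  · obtain ⟨hN, -⟩ := h
    haveI := hN
    haveI := isNoetherianRing_of_tft R I A ⟨n, φ, hφ⟩
    exact Module.finitePresentation_of_finite A J
  · obtain ⟨hD, hV, hK, t, ht, rfl⟩ := h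
    haveI := hD
    haveI : ValuationRing R := { hV with }
    haveI := hK
    haveI := hc
    letI : Algebra (AdicRing.RPow R (Ideal.span {t}) n) A := φ.toRingHom.toAlgebra
    have hs : Function.Surjective (algebraMap (AdicRing.RPow R (Ideal.span {t}) n) A) := hφ
    have hk : (RingHom.ker (algebraMap (AdicRing.RPow R (Ideal.span {t}) n) A)).FG := hker
    set J' := J.comap (algebraMap (AdicRing.RPow R (Ideal.span {t}) n) A) with hJ'
    have hJ'fg : J'.FG := by
      refine Ideal.fg_of_fg_map_of_fg_inf_ker_of_surjective
        (f := algebraMap (AdicRing.RPow R (Ideal.span {t}) n) A) ?_ ?_ hs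
      · rw [hJ', Ideal.map_comap_of_surjective _ hs]; exact hJ
      · have : J' ⊓ RingHom.ker (algebraMap (AdicRing.RPow R (Ideal.span {t}) n) A) =
            RingHom.ker (algebraMap (AdicRing.RPow R (Ideal.span {t}) n) A) := by
          rw [inf_eq_right, hJ']
          intro x hx
          rw [RingHom.mem_ker] at hx
          rw [Ideal.mem_comap, hx]; exact J.zero_mem
        rw [this]; exact hk
    haveI : Module.Finite (AdicRing.RPow R (Ideal.span {t}) n) J' := Module.Finite.iff_fg.2 hJ'fg
    have hRPow : AdicRing.TopFiniteType R (Ideal.span {t}) (AdicRing.RPow R (Ideal.span {t}) n) :=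
      ⟨n, AlgHom.id R _, Function.surjective_id⟩
    obtain ⟨n', ψ, hψ⟩ := mixed_of_tft R t _ hRPow
    haveI : Module.FinitePresentation (AdicRing.RPow R (Ideal.span {t}) n) J' := by
      refine fp_of_mixed R t ht n' 0 _ ψ hψ J' ?_
      intro x hx
      have := congrArg Subtype.val hx
      rw [Submodule.coe_smul, smul_eq_mul] at this
      exact Subtype.ext (rpow_regular R t ht n x.1 this)
    exact fp_ideal_of_surjective hs hk J

end Groth.Agent.Helper2.AdicGB
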