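import Mathlib
import Groth.Prelude
import Groth.Agent.Helper1.RestrictedPS
import Groth.Agent.Helper2.AdicGBJ
import Groth.Agent.Helper2.AdicGBL
set_option autoImplicit false
universe u v w
open IsLocalRing MvPolynomial
open Groth.Agent.Helper1

namespace Groth.Agent.Helper2.AdicGB

section Univ
variable {R : Type u} [CommRing R] (I : Ideal R)

/-- the universal map out of restricted power series is evaluation on polynomials -/
theorem φ_of {B : Type*} [CommRing B] [Algebra R B]
    {r : ℕ} (b : Fin r → B) [IsAdicComplete (I.map (algebraMap R B)) B]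
    (p : MvPolynomial (Fin r) R) :
    RestrictedPS.φ I b (AdicCompletion.of _ _ p) = MvPolynomial.aeval b p := by
  rw [← sub_eq_zero]
  apply IsHausdorff.haus' (I := I.map (algebraMap R B))
  intro n
  rw [SModEq.zero]
  have h1 := RestrictedPS.mk_φ I b n (AdicCompletion.of _ _ p)
  have h2 : RestrictedPS.f I b n (AdicCompletion.of _ _ p) =
      Ideal.Quotient.mk _ (MvPolynomial.aeval b p) := by
    unfold RestrictedPS.f
    rw [AlgHom.comp_apply, AlgHom.restrictScalars_apply, AdicCompletion.evalₐ_of]
    rfl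
  rw [h2, Ideal.Quotient.eq] at h1
  simpa using h1

/-- a complete algebra which is of finite type modulo `I` is topologically of finite type -/
theorem tft_of_finiteType_quotient (A : Type v) [CommRing A] [Algebra R A]
    [IsAdicComplete (I.map (algebraMap R A)) A] (K : Ideal A)
    (hK : K ≤ I.map (algebraMap R A)) (h : Algebra.FiniteType R (A ⧸ K)) :
    AdicRing.TopFiniteType R I A := by
  obtain ⟨r, f, hf⟩ := Algebra.FiniteType.iff_quotient_mvPolynomial''.1 h
  choose b hb using fun i => Ideal.Quotient.mk_surjective (f (X i))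
  have hfb : f = (Ideal.Quotient.mkₐ R K).comp (aeval b) := by
    apply MvPolynomial.algHom_ext
    intro i
    rw [AlgHom.comp_apply, aeval_X, Ideal.Quotient.mkₐ_eq_mk, hb]
  have hB : ∀ a' : A, ∃ p : MvPolynomial (Fin r) R,
      a' - aeval b p ∈ I.map (algebraMap R A) := by
    intro a'
    obtain ⟨p, hp⟩ := hf (Ideal.Quotient.mk K a')
    refine ⟨p, hK ?_⟩
    rw [← Ideal.Quotient.eq, ← hp, hfb, AlgHom.comp_apply, Ideal.Quotient.mkₐ_eq_mk]
  exact ⟨r, RestrictedPS.φ I b, RestrictedPS.φ_surjective I b hB⟩

theorem map_map_C (n k : ℕ) :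
    Ideal.map (algebraMap (MvPolynomial (Fin n) R) (AdicRing.RPow R I n))
      ((I ^ k).map (MvPolynomial.C : R →+* MvPolynomial (Fin n) R)) =
    (I ^ k).map (algebraMap R (AdicRing.RPow R I n)) := by
  rw [Ideal.map_map]
  congr 1

/-- a restricted power series is a polynomial modulo `I ^ k` -/
theorem rpow_decomp_general (hI : I.FG) (n k : ℕ) (x : AdicRing.RPow R I n) :
    ∃ p : MvPolynomial (Fin n) R,
      x - algebraMap (MvPolynomial (Fin n) R) (AdicRing.RPow R I n) p ∈
        (I ^ k).map (algebraMap R (AdicRing.RPow R I n)) := by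
  set J := I.map (MvPolynomial.C : R →+* MvPolynomial (Fin n) R) with hJ
  obtain ⟨p, hp⟩ := Submodule.Quotient.mk_surjective _
    (AdicCompletion.eval J (MvPolynomial (Fin n) R) k x)
  refine ⟨p, ?_⟩
  have h1 : x - AdicCompletion.of J _ p ∈
      LinearMap.ker (AdicCompletion.eval J (MvPolynomial (Fin n) R) k) := by
    rw [LinearMap.mem_ker, map_sub, AdicCompletion.eval_of, ← hp]
    exact sub_self _
  rw [← AdicCompletion.pow_smul_top_eq_ker_eval (hI.map _)] at h1
  have h2 : (J ^ k • ⊤ : Submodule (MvPolynomial (Fin n) R) (AdicRing.RPow R I n)) ≤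
      ((I ^ k).map (algebraMap R (AdicRing.RPow R I n))).restrictScalars
        (MvPolynomial (Fin n) R) := by
    rw [Submodule.smul_le]
    intro j hj y _
    rw [Submodule.restrictScalars_mem, Algebra.smul_def]
    apply Ideal.mul_mem_right
    have : J ^ k = (I ^ k).map MvPolynomial.C := (Ideal.map_pow _ _ _).symm
    rw [this] at hj
    rw [← map_map_C]
    exact Ideal.mem_map_of_mem _ hj
  exact h2 h1

/-- polynomials whose image in the completion lies in `I ^ k` lie in `I ^ k` -/
theorem mem_of_algebraMap_mem (n k : ℕ) (p : MvPolynomial (Fin n) R)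
    (hp : algebraMap (MvPolynomial (Fin n) R) (AdicRing.RPow R I n) p ∈
      (I ^ k).map (algebraMap R (AdicRing.RPow R I n))) :
    p ∈ (I ^ k).map (MvPolynomial.C : R →+* MvPolynomial (Fin n) R) := by
  set J := I.map (MvPolynomial.C : R →+* MvPolynomial (Fin n) R) with hJ
  have hJk : J ^ k = (I ^ k).map MvPolynomial.C := (Ideal.map_pow _ _ _).symm
  have hle : (I ^ k).map (algebraMap R (AdicRing.RPow R I n)) ≤
      RingHom.ker (AdicCompletion.evalₐ J k).toRingHom := by
    rw [← map_map_C, Ideal.map_le_iff_le_comap]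
    intro j hj
    rw [Ideal.mem_comap, RingHom.mem_ker]
    change AdicCompletion.evalₐ J k (algebraMap _ _ j) = 0
    rw [AlgHom.commutes, Ideal.Quotient.algebraMap_eq, Ideal.Quotient.eq_zero_iff_mem, hJk]
    exact hj
  have := hle hp
  rw [RingHom.mem_ker] at this
  change AdicCompletion.evalₐ J k (algebraMap _ _ p) = 0 at this
  rw [AlgHom.commutes, Ideal.Quotient.algebraMap_eq, Ideal.Quotient.eq_zero_iff_mem, hJk] at this
  exact this

end Univ

end Groth.Agent.Helper2.AdicGB
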