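import Mathlib
import Groth.Prelude
import Groth.Agent.Helper2.AdicGBJ
import Groth.Agent.Helper2.AdicGBL
import Groth.Agent.Helper2.AdicGBO
set_option autoImplicit false
universe u v w
open IsLocalRing MvPolynomial

namespace Groth.Agent.Helper2.AdicGB

section Trunc
variable {R : Type u} [CommRing R] (I : Ideal R)

/-- the polynomial presentation of a truncation -/
noncomputable def truncMap {A : Type v} [CommRing A] [Algebra R A] {n : ℕ}
    (φ : AdicRing.RPow R I n →ₐ[R] A) (k : ℕ) :
    MvPolynomial (Fin n) R →ₐ[R] A ⧸ (I ^ k).map (algebraMap R A) :=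
  (Ideal.Quotient.mkₐ R ((I ^ k).map (algebraMap R A))).comp
    (φ.comp (IsScalarTower.toAlgHom R (MvPolynomial (Fin n) R) (AdicRing.RPow R I n)))

theorem truncMap_apply {A : Type v} [CommRing A] [Algebra R A] {n : ℕ}
    (φ : AdicRing.RPow R I n →ₐ[R] A) (k : ℕ) (p : MvPolynomial (Fin n) R) :
    truncMap I φ k p = Ideal.Quotient.mk _ (φ (algebraMap _ _ p)) := rfl

theorem map_mem_of_mem {A : Type v} [CommRing A] [Algebra R A] {n : ℕ}
    (φ : AdicRing.RPow R I n →ₐ[R] A) (k : ℕ) (z : AdicRing.RPow R I n)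
    (hz : z ∈ (I ^ k).map (algebraMap R (AdicRing.RPow R I n))) :
    φ z ∈ (I ^ k).map (algebraMap R A) := by
  have h1 : ((I ^ k).map (algebraMap R (AdicRing.RPow R I n))).map φ.toRingHom =
      (I ^ k).map (algebraMap R A) := by
    rw [Ideal.map_map]
    congr 1
    exact φ.comp_algebraMap
  rw [← h1]
  exact Ideal.mem_map_of_mem _ hz

theorem exists_mem_map_eq {A : Type v} [CommRing A] [Algebra R A] {n : ℕ}
    (φ : AdicRing.RPow R I n →ₐ[R] A) (hφ : Function.Surjective φ) (k : ℕ) (y : A)
    (hy : y ∈ (I ^ k).map (algebraMap R A)) :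
    ∃ z ∈ (I ^ k).map (algebraMap R (AdicRing.RPow R I n)), φ z = y := by
  have h1 : ((I ^ k).map (algebraMap R (AdicRing.RPow R I n))).map φ.toRingHom =
      (I ^ k).map (algebraMap R A) := by
    rw [Ideal.map_map]
    congr 1
    exact φ.comp_algebraMap
  rw [← h1] at hy
  exact (Ideal.mem_map_iff_of_surjective φ.toRingHom hφ).1 hy

theorem truncMap_surjective (hI : I.FG) {A : Type v} [CommRing A] [Algebra R A] {n : ℕ}
    (φ : AdicRing.RPow R I n →ₐ[R] A) (hφ : Function.Surjective φ) (k : ℕ) :
    Function.Surjective (truncMap I φ k) := by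
  intro a'
  obtain ⟨a, rfl⟩ := Ideal.Quotient.mk_surjective a'
  obtain ⟨x, rfl⟩ := hφ a
  obtain ⟨p, hp⟩ := rpow_decomp_general I hI n k x
  refine ⟨p, ?_⟩
  rw [truncMap_apply, Ideal.Quotient.eq, ← map_sub, ← neg_mem_iff, ← map_neg, neg_sub]
  exact map_mem_of_mem I φ k _ hp

/-- truncations of an algebra topologically of finite presentation are finitely presented -/
theorem truncation_fp (hI : I.FG) (A : Type v) [CommRing A] [Algebra R A]
    (hA : AdicRing.TopFinitePresentation R I A) (k : ℕ) :
    Algebra.FinitePresentation R (A ⧸ (I ^ k).map (algebraMap R A)) := by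
  classical
  obtain ⟨n, φ, hφ, S, hS⟩ := hA
  refine Algebra.FinitePresentation.of_surjective (f := truncMap I φ k)
    (truncMap_surjective I hI φ hφ k) ?_
  choose pOf hpOf using rpow_decomp_general I hI n k
  have hJfg : ((I ^ k).map (MvPolynomial.C : R →+* MvPolynomial (Fin n) R)).FG :=
    (hI.pow).map _
  suffices h : RingHom.ker (truncMap I φ k).toRingHom =
      (I ^ k).map (MvPolynomial.C : R →+* MvPolynomial (Fin n) R) ⊔
        Ideal.span (↑(S.image pOf) : Set (MvPolynomial (Fin n) R)) by
    rw [h]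
    exact Submodule.FG.sup hJfg ⟨S.image pOf, rfl⟩
  set 𝔦 := (I ^ k).map (algebraMap R (AdicRing.RPow R I n)) with h𝔦
  apply le_antisymm
  · intro p hp
    rw [RingHom.mem_ker] at hp
    change truncMap I φ k p = 0 at hp
    rw [truncMap_apply, Ideal.Quotient.eq_zero_iff_mem] at hp
    obtain ⟨z, hz, hzp⟩ := exists_mem_map_eq I φ hφ k _ hp
    have hker : algebraMap _ _ p - z ∈ RingHom.ker φ.toRingHom := by
      rw [RingHom.mem_ker, map_sub]
      change φ _ - φ z = 0
      rw [hzp, sub_self]
    rw [← hS] at hker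
    obtain ⟨c, -, hc⟩ := Submodule.mem_span_finset.1 hker
    set p' := p - ∑ g ∈ S, pOf (c g) * pOf g with hp'
    have hp'mem : algebraMap (MvPolynomial (Fin n) R) (AdicRing.RPow R I n) p' ∈ 𝔦 := by
      have e : algebraMap (MvPolynomial (Fin n) R) (AdicRing.RPow R I n) p' =
          z + ∑ g ∈ S, ((c g - algebraMap _ _ (pOf (c g))) * g +
            algebraMap _ _ (pOf (c g)) * (g - algebraMap _ _ (pOf g))) := by
        rw [hp', map_sub, map_sum]
        have : algebraMap (MvPolynomial (Fin n) R) (AdicRing.RPow R I n) p =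
            z + ∑ g ∈ S, c g • g := by rw [hc]; ring
        rw [this, add_sub_assoc, ← Finset.sum_sub_distrib]
        congr 1
        refine Finset.sum_congr rfl fun g _ => ?_
        rw [map_mul, smul_eq_mul]; ring
      rw [e]
      refine 𝔦.add_mem hz (Ideal.sum_mem _ fun g _ => 𝔦.add_mem ?_ ?_)
      · exact 𝔦.mul_mem_right _ (hpOf (c g))
      · exact 𝔦.mul_mem_left _ (hpOf g)
    have h1 := mem_of_algebraMap_mem I n k p' hp'mem
    have h2 : p = p' + ∑ g ∈ S, pOf (c g) * pOf g := by rw [hp']; ring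
    rw [h2]
    refine Ideal.add_mem _ (Ideal.mem_sup_left h1) (Ideal.mem_sup_right ?_)
    refine Ideal.sum_mem _ fun g hg => Ideal.mul_mem_left _ _ (Ideal.subset_span ?_)
    rw [Finset.mem_coe, Finset.mem_image]; exact ⟨g, hg, rfl⟩
  · rw [sup_le_iff]
    constructor
    · intro j hj
      rw [RingHom.mem_ker]
      change truncMap I φ k j = 0
      rw [truncMap_apply, Ideal.Quotient.eq_zero_iff_mem]
      apply map_mem_of_mem I φ k
      rw [← map_map_C]
      exact Ideal.mem_map_of_mem _ hj
    · rw [Ideal.span_le]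
      intro q hq
      rw [Finset.mem_coe, Finset.mem_image] at hq
      obtain ⟨g, hg, rfl⟩ := hq
      rw [SetLike.mem_coe, RingHom.mem_ker]
      change truncMap I φ k (pOf g) = 0
      rw [truncMap_apply, Ideal.Quotient.eq_zero_iff_mem]
      have hgker : φ g = 0 := by
        have : g ∈ RingHom.ker φ.toRingHom := by rw [← hS]; exact Ideal.subset_span hg
        exact this
      have : φ (algebraMap _ _ (pOf g)) = - φ (g - algebraMap _ _ (pOf g)) := by
        rw [map_sub, hgker, zero_sub, neg_neg]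
      rw [this, neg_mem_iff]
      exact map_mem_of_mem I φ k _ (hpOf g)

end Trunc

end Groth.Agent.Helper2.AdicGB
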