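import Mathlib
import Groth.Prelude
import Groth.Agent.Helper2.AdicGBJ
import Groth.Agent.Helper2.AdicGBL
import Groth.Agent.Helper2.AdicGBO
import Groth.Agent.Helper2.AdicGBP
set_option autoImplicit false
universe u v w
open IsLocalRing MvPolynomial

namespace Groth.Agent.Helper2.AdicGB

section Conv
variable {R : Type u} [CommRing R] (I : Ideal R) (A : Type v) [CommRing A] [Algebra R A]

theorem quotientMap_fp_iff (hI : I.FG) (k : ℕ) :
    (Ideal.quotientMap ((I ^ k).map (algebraMap R A)) (algebraMap R A)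
      Ideal.le_comap_map).FinitePresentation ↔
    Algebra.FinitePresentation R (A ⧸ (I ^ k).map (algebraMap R A)) := by
  have hcomp : (Ideal.quotientMap ((I ^ k).map (algebraMap R A)) (algebraMap R A)
      Ideal.le_comap_map).comp (Ideal.Quotient.mk (I ^ k)) =
      algebraMap R (A ⧸ (I ^ k).map (algebraMap R A)) := by
    rw [Ideal.quotientMap_comp_mk]; rfl
  constructor
  · intro h
    have hmk : (Ideal.Quotient.mk (I ^ k)).FinitePresentation := by
      refine RingHom.FinitePresentation.of_surjective _ Ideal.Quotient.mk_surjective ?_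
      rw [Ideal.mk_ker]; exact hI.pow
    have := h.comp hmk
    rw [hcomp] at this
    exact RingHom.finitePresentation_algebraMap.1 this
  · intro h
    refine RingHom.FinitePresentation.of_comp_finiteType (Ideal.Quotient.mk (I ^ k)) ?_
      (RingHom.FiniteType.of_surjective _ Ideal.Quotient.mk_surjective)
    rw [hcomp]
    exact RingHom.finitePresentation_algebraMap.2 h

end Conv

section V
variable (R : Type u) [CommRing R] [IsDomain R] [ValuationRing R] [Ring.KrullDimLE 1 R]
  (t : R) [IsAdicComplete (Ideal.span {t}) R]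

/-- the kernel of a presentation is finitely generated if the truncations are finitely
presented -/
theorem ker_fg_of_truncation_fp (ht : t ≠ 0) (A : Type v) [CommRing A] [Algebra R A] (n : ℕ)
    (φ : AdicRing.RPow R (Ideal.span {t}) n →ₐ[R] A) (hφ : Function.Surjective φ)
    (h : ∀ k : ℕ, Algebra.FinitePresentation R (A ⧸ ((Ideal.span {t}) ^ k).map (algebraMap R A))) :
    (RingHom.ker φ.toRingHom).FG := by
  classical
  have hIfg : (Ideal.span {t}).FG := ⟨{t}, by simp⟩
  set B := AdicRing.RPow R (Ideal.span {t}) n with hB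
  set a : B := algebraMap R B t with ha
  set 𝔞 : Ideal B := RingHom.ker φ.toRingHom with h𝔞
  have hRPow : AdicRing.TopFiniteType R (Ideal.span {t}) B := ⟨n, AlgHom.id R _, Function.surjective_id⟩
  obtain ⟨n', ψ, hψ⟩ := mixed_of_tft R t B hRPow
  -- the saturation and the bound
  have hsfg : (sat a 𝔞).FG := sat_fg R t ht n' 0 B ψ hψ B 𝔞
  obtain ⟨k, hk⟩ := exists_pow_smul_mem R t ht n' 0 B ψ hψ B 𝔞
  -- elements of `I ^ j B` are multiples of `a ^ j`
  have hmemI : ∀ (j : ℕ) (z : B), z ∈ ((Ideal.span {t}) ^ j).map (algebraMap R B) ↔ ∃ y, z = a ^ j * y := by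
    intro j z
    rw [Ideal.span_singleton_pow, Ideal.map_span (algebraMap R B) {t ^ j}, Set.image_singleton,
      Ideal.mem_span_singleton', map_pow]
    constructor
    · rintro ⟨y, rfl⟩; exact ⟨y, mul_comm _ _⟩
    · rintro ⟨y, rfl⟩; exact ⟨y, mul_comm _ _⟩
  -- the truncation at level `k + 1`
  haveI := h (k + 1)
  have hkerfg := Algebra.FinitePresentation.ker_fG_of_surjective (truncMap (Ideal.span {t}) φ (k + 1))
    (truncMap_surjective (Ideal.span {t}) hIfg φ hφ (k + 1))
  obtain ⟨S, hS⟩ := hkerfg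
  -- correct the generators
  have hcorr : ∀ p ∈ S, ∃ z ∈ ((Ideal.span {t}) ^ (k + 1)).map (algebraMap R B),
      algebraMap (MvPolynomial (Fin n) R) B p - z ∈ 𝔞 := by
    intro p hp
    have hpk : p ∈ RingHom.ker (truncMap (Ideal.span {t}) φ (k + 1)).toRingHom := by
      rw [← hS]; exact Ideal.subset_span hp
    rw [RingHom.mem_ker] at hpk
    change truncMap (Ideal.span {t}) φ (k + 1) p = 0 at hpk
    rw [truncMap_apply, Ideal.Quotient.eq_zero_iff_mem] at hpk
    obtain ⟨z, hz, hzp⟩ := exists_mem_map_eq (Ideal.span {t}) φ hφ (k + 1) _ hpk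
    refine ⟨z, hz, ?_⟩
    rw [h𝔞, RingHom.mem_ker, map_sub]
    change φ _ - φ z = 0
    rw [hzp, sub_self]
  choose! zOf hzOf hzOf' using hcorr
  set gen : MvPolynomial (Fin n) R → B := fun p => algebraMap _ B p - zOf p with hgen
  -- the claim
  suffices hEq : 𝔞 = Ideal.span (↑(S.image gen) : Set B) ⊔
      Ideal.span {a ^ (k + 1)} * sat a 𝔞 by
    rw [hEq]
    exact Submodule.FG.sup ⟨S.image gen, rfl⟩ (Submodule.FG.mul (Submodule.fg_span_singleton _) hsfg)
  apply le_antisymm
  · intro x hx
    obtain ⟨p, hp⟩ := rpow_decomp_general (Ideal.span {t}) hIfg n (k + 1) x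
    obtain ⟨y, hy⟩ := (hmemI _ _).1 hp
    -- `p` lies in the kernel of the truncation
    have hpk : p ∈ RingHom.ker (truncMap (Ideal.span {t}) φ (k + 1)).toRingHom := by
      rw [RingHom.mem_ker]
      change truncMap (Ideal.span {t}) φ (k + 1) p = 0
      rw [truncMap_apply, Ideal.Quotient.eq_zero_iff_mem]
      have hx0 : φ x = 0 := hx
      have : φ (algebraMap _ B p) = - φ (x - algebraMap _ B p) := by
        rw [map_sub, hx0, zero_sub, neg_neg]
      rw [this, neg_mem_iff]
      exact map_mem_of_mem (Ideal.span {t}) φ (k + 1) _ hp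
    rw [← hS] at hpk
    obtain ⟨c, -, hc⟩ := Submodule.mem_span_finset.1 hpk
    -- rewrite
    have hz : ∀ q ∈ S, ∃ y', zOf q = a ^ (k + 1) * y' := fun q hq => (hmemI _ _).1 (hzOf q hq)
    choose! yOf hyOf using hz
    set w : B := y + ∑ q ∈ S, algebraMap _ B (c q) * yOf q with hw
    have hxw : x = ∑ q ∈ S, algebraMap _ B (c q) * gen q + a ^ (k + 1) * w := by
      have h1 : algebraMap (MvPolynomial (Fin n) R) B p =
          ∑ q ∈ S, algebraMap _ B (c q) * algebraMap _ B q := by
        rw [← hc, map_sum]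
        refine Finset.sum_congr rfl fun q _ => ?_
        rw [smul_eq_mul, map_mul]
      have h2 : x = algebraMap _ B p + a ^ (k + 1) * y := by rw [← hy]; ring
      have h3 : ∀ q ∈ S, algebraMap _ B (c q) * algebraMap _ B q =
          algebraMap _ B (c q) * gen q + a ^ (k + 1) * (algebraMap _ B (c q) * yOf q) := by
        intro q hq
        have : algebraMap (MvPolynomial (Fin n) R) B q = gen q + a ^ (k + 1) * yOf q := by
          rw [← hyOf q hq, hgen]; ring
        rw [this]; ring
      rw [h2, h1, Finset.sum_congr rfl h3, Finset.sum_add_distrib, ← Finset.mul_sum, hw]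
      ring
    have hsum : ∑ q ∈ S, algebraMap _ B (c q) * gen q ∈
        Ideal.span (↑(S.image gen) : Set B) := by
      refine Ideal.sum_mem _ fun q hq => Ideal.mul_mem_left _ _ (Ideal.subset_span ?_)
      rw [Finset.mem_coe, Finset.mem_image]; exact ⟨q, hq, rfl⟩
    have hsum𝔞 : ∑ q ∈ S, algebraMap _ B (c q) * gen q ∈ 𝔞 :=
      Ideal.sum_mem _ fun q hq => Ideal.mul_mem_left _ _ (hzOf' q hq)
    have hwsat : w ∈ sat a 𝔞 := by
      refine ⟨k + 1, ?_⟩
      have : a ^ (k + 1) • w = x - ∑ q ∈ S, algebraMap _ B (c q) * gen q := by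
        rw [smul_eq_mul, hxw]; ring
      rw [this]
      exact 𝔞.sub_mem hx hsum𝔞
    rw [hxw]
    refine Ideal.add_mem _ (Ideal.mem_sup_left hsum) (Ideal.mem_sup_right ?_)
    exact Ideal.mul_mem_mul (Ideal.mem_span_singleton_self _) hwsat
  · rw [sup_le_iff]
    constructor
    · rw [Ideal.span_le]
      intro g hg
      rw [Finset.mem_coe, Finset.mem_image] at hg
      obtain ⟨q, hq, rfl⟩ := hg
      exact hzOf' q hq
    · rw [Ideal.mul_le]
      intro r hr w hw
      rw [Ideal.mem_span_singleton'] at hr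
      obtain ⟨r', rfl⟩ := hr
      obtain ⟨j, hj⟩ := hw
      have h1 := hk w j hj
      rw [mul_assoc]
      refine 𝔞.mul_mem_left _ ?_
      rw [pow_succ', mul_assoc]
      exact 𝔞.mul_mem_left _ h1

end V

/-- S11530 -/
theorem s11530 (R : Type u) [CommRing R] (I : Ideal R) (hR : AdicRing.IsBase R I)
    (A : Type u) [CommRing A] [Algebra R A] [IsAdicComplete (I.map (algebraMap R A)) A] :
    AdicRing.TopFinitePresentation R I A ↔
      ∀ n : ℕ, (Ideal.quotientMap ((I ^ (n + 1)).map (algebraMap R A)) (algebraMap R A)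
        Ideal.le_comap_map).FinitePresentation := by
  have hIfg : I.FG := by
    obtain ⟨hc, h | h⟩ := hR
    · haveI := h.1
      exact IsNoetherian.noetherian I
    · obtain ⟨-, -, -, t, -, rfl⟩ := h
      exact ⟨{t}, by simp⟩
  constructor
  · intro hA n
    rw [quotientMap_fp_iff I A hIfg]
    exact truncation_fp I hIfg A hA (n + 1)
  · intro h
    have h' : ∀ k : ℕ, Algebra.FinitePresentation R (A ⧸ (I ^ (k + 1)).map (algebraMap R A)) :=
      fun k => (quotientMap_fp_iff I A hIfg (k + 1)).1 (h k)
    have htft : AdicRing.TopFiniteType R I A := by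
      refine tft_of_finiteType_quotient I A ((I ^ (0 + 1)).map (algebraMap R A)) ?_ ?_
      · rw [zero_add, pow_one]
      · haveI := h' 0
        infer_instance
    obtain ⟨n, φ, hφ⟩ := htft
    refine ⟨n, φ, hφ, ?_⟩
    obtain ⟨hc, hcase | hcase⟩ := hR
    · haveI := hcase.1
      haveI : IsNoetherianRing (AdicRing.RPow R I n) := Groth.Agent.S0543.result _ _
      exact IsNoetherian.noetherian _
    · obtain ⟨hD, hV, hK, t, ht, rfl⟩ := hcase
      haveI := hD
      haveI : ValuationRing R := { hV with }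
      haveI := hK
      haveI := hc
      refine ker_fg_of_truncation_fp R t ht A n φ hφ ?_
      intro k
      cases k with
      | zero =>
        have : ((Ideal.span {t}) ^ 0).map (algebraMap R A) = ⊤ := by
          rw [pow_zero, Ideal.one_eq_top, Ideal.map_top]
        rw [this]
        haveI : Subsingleton (A ⧸ (⊤ : Ideal A)) := Ideal.Quotient.subsingleton_iff.2 rfl
        exact Algebra.FinitePresentation.of_surjective (f := Algebra.ofId R (A ⧸ (⊤ : Ideal A)))
          (fun x => ⟨0, Subsingleton.elim _ _⟩) (by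
            have : RingHom.ker (Algebra.ofId R (A ⧸ (⊤ : Ideal A))).toRingHom = ⊤ := by
              rw [Ideal.eq_top_iff_one, RingHom.mem_ker]; exact Subsingleton.elim _ _
            rw [this]; exact ⟨{1}, by simp⟩)
      | succ k => exact h' k

end Groth.Agent.Helper2.AdicGB
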