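import Mathlib
import Groth.Prelude
import Groth.Agent.Helper2.AdicFlat
import Groth.Agent.Helper2.AdicGBM
set_option autoImplicit false
universe u v w
open TensorProduct Function LinearMap

namespace Groth.Agent.Helper2.AdicGB

open Groth.Agent.Helper2.AdicFlat

section Crit
variable {A : Type u} [CommRing A]

/-- elements killed by `M ⊗ J → M` come from `M ⊗ (K • J)` under an Artin–Rees hypothesis -/
theorem mem_range_of_torsionFlat' (K K' : Ideal A) (M : Type u) [AddCommGroup M] [Module A M]
    (hTF : TorsionFlat K' M) (J : Ideal A) (hAR : J ⊓ K' ≤ K • J) (x : M ⊗[A] J)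
    (hx : lTensor M J.subtype x = 0) :
    x ∈ LinearMap.range (lTensor M (Submodule.inclusion
      (show K • J ≤ J from Submodule.smul_le_right))) := by
  let K'' : Submodule A J := Submodule.comap J.subtype K'
  let f : J →ₗ[A] (A ⧸ K') := K'.mkQ ∘ₗ J.subtype
  have hKf : K'' ≤ LinearMap.ker f := by
    intro z hz
    rw [LinearMap.mem_ker]
    show K'.mkQ (z : A) = 0
    rw [Submodule.mkQ_apply, Submodule.Quotient.mk_eq_zero]
    exact hz
  let ι : (J ⧸ K'') →ₗ[A] (A ⧸ K') := K''.liftQ f hKf
  have hι : Injective ι := by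
    rw [← LinearMap.ker_eq_bot]
    apply Submodule.ker_liftQ_eq_bot
    intro z hz
    rw [LinearMap.mem_ker] at hz
    have hz' : K'.mkQ (z : A) = 0 := hz
    rw [Submodule.mkQ_apply, Submodule.Quotient.mk_eq_zero] at hz'
    exact hz'
  have hN' : Module.IsTorsionBySet A (J ⧸ K'') (K' : Ideal A) := by
    intro z a
    obtain ⟨j, rfl⟩ := Submodule.Quotient.mk_surjective _ z
    rw [← Submodule.Quotient.mk_smul, Submodule.Quotient.mk_eq_zero]
    show ((a : A) • j : J).1 ∈ K'
    exact Ideal.mul_mem_right _ _ a.2
  have hN : Module.IsTorsionBySet A (A ⧸ K') (K' : Ideal A) := by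
    intro z a
    obtain ⟨r, rfl⟩ := Submodule.Quotient.mk_surjective _ z
    rw [← Submodule.Quotient.mk_smul, Submodule.Quotient.mk_eq_zero]
    exact Ideal.mul_mem_right _ _ a.2
  have hT := hTF (J ⧸ K'') (A ⧸ K') hN' hN ι hι
  have hex : Exact (lTensor M K''.subtype) (lTensor M K''.mkQ) :=
    lTensor_exact M (LinearMap.exact_subtype_mkQ K'') (Submodule.mkQ_surjective K'')
  have h0 : lTensor M K''.mkQ x = 0 := by
    apply hT
    rw [map_zero, ← LinearMap.comp_apply, ← LinearMap.lTensor_comp]
    have : ι ∘ₗ K''.mkQ = f := Submodule.liftQ_mkQ K'' f hKf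
    rw [this, LinearMap.lTensor_comp, LinearMap.comp_apply, hx, map_zero]
  obtain ⟨y, hy⟩ := (hex x).1 h0
  let φ : K'' →ₗ[A] ↥(K • J) := LinearMap.codRestrict (K • J) (J.subtype ∘ₗ K''.subtype)
    (fun z => hAR ⟨z.1.2, z.2⟩)
  have hφ : K''.subtype = Submodule.inclusion
      (show K • J ≤ J from Submodule.smul_le_right) ∘ₗ φ := by
    ext z; rfl
  refine ⟨lTensor M φ y, ?_⟩
  rw [← LinearMap.comp_apply, ← LinearMap.lTensor_comp, ← hφ, hy]

variable {S : Type u} [CommRing S] [Algebra A S]
  {M : Type u} [AddCommGroup M] [Module A M] [Module S M] [IsScalarTower A S M]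

theorem mem_smul_top_of_mem_range' (K J : Ideal A) (x : M ⊗[A] J)
    (hx : x ∈ LinearMap.range (lTensor M (Submodule.inclusion
      (show K • J ≤ J from Submodule.smul_le_right)))) :
    x ∈ ((K.map (algebraMap A S)) • ⊤ : Submodule S (M ⊗[A] J)) := by
  obtain ⟨w, rfl⟩ := hx
  induction w using TensorProduct.induction_on with
  | zero => simp
  | add a b ha hb => rw [map_add]; exact add_mem ha hb
  | tmul u v =>
    obtain ⟨v, hv⟩ := v
    rw [LinearMap.lTensor_tmul]
    induction hv using Submodule.smul_induction_on' with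
    | smul r hr j hj =>
      have : (Submodule.inclusion (show K • J ≤ J from Submodule.smul_le_right))
          ⟨r • j, Submodule.smul_mem_smul hr hj⟩ = r • (⟨j, hj⟩ : J) := by
        ext; simp
      rw [this, TensorProduct.tmul_smul, ← algebraMap_smul S r (u ⊗ₜ[A] (⟨j, hj⟩ : J))]
      refine Submodule.smul_mem_smul ?_ trivial
      exact Ideal.mem_map_of_mem _ hr
    | add x hx y hy hx' hy' =>
      have : (Submodule.inclusion (show K • J ≤ J from Submodule.smul_le_right))
          ⟨x + y, add_mem hx hy⟩ =
          (Submodule.inclusion (show K • J ≤ J from Submodule.smul_le_right))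
            ⟨x, hx⟩ +
          (Submodule.inclusion (show K • J ≤ J from Submodule.smul_le_right))
            ⟨y, hy⟩ := by
        ext; simp
      rw [this, TensorProduct.tmul_add]
      exact add_mem hx' hy'

end Crit

/-- S11531 -/
theorem s11531 (R : Type u) [CommRing R] (I : Ideal R) (hR : AdicRing.IsBase R I)
    (A : Type u) [CommRing A] [Algebra R A] (hA : AdicRing.TopFiniteType R I A)
    (B : Type u) [CommRing B] [Algebra R B] [Algebra A B] [IsScalarTower R A B]
    (hB : AdicRing.TopFiniteType R I B)
    (M : Type u) [AddCommGroup M] [Module B M] [Module A M] [IsScalarTower A B M]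
    [Module.Finite B M] :
    Module.Flat A M ↔
      ∀ n : ℕ, Module.Flat (AdicRing.trunc A I n) ((AdicRing.trunc A I n) ⊗[A] M) := by
  constructor
  · intro h n
    infer_instance
  · intro h
    rw [Module.Flat.iff_lTensor_injective]
    intro J hJ
    rw [injective_iff_map_eq_zero]
    intro x hx
    -- Artin–Rees for `J`
    obtain ⟨n₀, hn₀⟩ := s11528 R I hR A hA A J
    have hARJ : ∀ m : ℕ, J ⊓ (I ^ (m + n₀)).map (algebraMap R A) ≤
        (I ^ m).map (algebraMap R A) • J := by
      intro m y hy
      have h1 := hn₀ m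
      rw [Ideal.smul_top_eq_map, ← Ideal.smul_restrictScalars] at h1
      exact h1 ⟨hy.2, hy.1⟩
    -- the module structure over `R`
    letI : Module R (M ⊗[A] J) := Module.compHom _ (algebraMap R B)
    haveI : IsScalarTower R B (M ⊗[A] J) := ⟨fun r b y => by
      rw [Algebra.smul_def, mul_smul]
      rfl⟩
    haveI : Module.Finite A J := Module.Finite.iff_fg.2 hJ
    haveI : Module.Finite B (M ⊗[A] J) := by
      obtain ⟨s, hs⟩ := (inferInstance : Module.Finite B M).fg_top
      obtain ⟨s', hs'⟩ := (inferInstance : Module.Finite A J).fg_top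
      classical
      refine ⟨⟨Finset.image₂ (fun m j => m ⊗ₜ[A] j) s s', ?_⟩⟩
      rw [eq_top_iff]
      rintro y -
      induction y using TensorProduct.induction_on with
      | zero => exact zero_mem _
      | add a b ha hb => exact add_mem ha hb
      | tmul m j =>
        have hm : m ∈ Submodule.span B (↑s : Set M) := by rw [hs]; trivial
        have hj : j ∈ Submodule.span A (↑s' : Set J) := by rw [hs']; trivial
        refine Submodule.span_induction ?_ ?_ ?_ ?_ hm
        · intro m' hm'
          refine Submodule.span_induction ?_ ?_ ?_ ?_ hj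
          · intro j' hj'
            apply Submodule.subset_span
            rw [Finset.coe_image₂]
            exact ⟨m', hm', j', hj', rfl⟩
          · rw [TensorProduct.tmul_zero]; exact zero_mem _
          · intro j1 j2 _ _ h1 h2
            rw [TensorProduct.tmul_add]; exact add_mem h1 h2
          · intro a j1 _ h1
            rw [TensorProduct.tmul_smul, ← algebraMap_smul B a (m' ⊗ₜ[A] j1)]
            exact Submodule.smul_mem _ _ h1
        · rw [TensorProduct.zero_tmul]; exact zero_mem _
        · intro m1 m2 _ _ h1 h2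
          rw [TensorProduct.add_tmul]; exact add_mem h1 h2
        · intro b m1 _ h1
          rw [← TensorProduct.smul_tmul']
          exact Submodule.smul_mem _ _ h1
    have hcomp := s11529 R I hR B hB (M ⊗[A] J)
    apply IsHausdorff.haus hcomp.toIsHausdorff
    intro n
    rw [SModEq.sub_mem, sub_zero]
    have hTF : TorsionFlat ((I ^ (n + n₀ + 1)).map (algebraMap R A)) M := by
      haveI := h (n + n₀)
      exact torsionFlat_of_flat _ M
    have hAR' : J ⊓ (I ^ (n + n₀ + 1)).map (algebraMap R A) ≤
        (I ^ n).map (algebraMap R A) • J := by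
      refine le_trans (inf_le_inf_left J ?_) (hARJ n)
      exact Ideal.map_mono (Ideal.pow_le_pow_right (Nat.le_succ _))
    have h1 := mem_range_of_torsionFlat' _ _ M hTF J hAR' x hx
    have h2 := mem_smul_top_of_mem_range' (S := B) _ J x h1
    rw [Ideal.map_map, ← IsScalarTower.algebraMap_eq] at h2
    have h3 : x ∈ ((I ^ n).map (algebraMap R B) • (⊤ : Submodule B (M ⊗[A] J))).restrictScalars R :=
      h2
    rw [Ideal.smul_restrictScalars, Submodule.restrictScalars_top] at h3
    exact h3

end Groth.Agent.Helper2.AdicGB
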