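import Mathlib
import Groth.Prelude
import Groth.Agent.Helper2.AdicGBR
set_option autoImplicit false
universe u v w
open TensorProduct Function LinearMap

namespace Groth.Agent.Helper2.AdicGB

/-- S11532 -/
theorem s11532 (R : Type u) [CommRing R] (I : Ideal R) (hR : AdicRing.IsBase R I)
    (A : Type u) [CommRing A] [Algebra R A] (hA : AdicRing.TopFiniteType R I A)
    (B : Type u) [CommRing B] [Algebra R B] [Algebra A B] [IsScalarTower R A B]
    (hB : AdicRing.TopFiniteType R I B)
    (M : Type u) [AddCommGroup M] [Module B M] [Module A M] [IsScalarTower A B M]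
    [Module.Finite B M] :
    Module.FaithfullyFlat A M ↔
      ∀ n : ℕ, Module.FaithfullyFlat (AdicRing.trunc A I n) ((AdicRing.trunc A I n) ⊗[A] M) := by
  constructor
  · intro h n
    infer_instance
  · intro h
    have hflat : Module.Flat A M :=
      (s11531 R I hR A hA B hB M).2 fun n => (h n).toFlat
    have hIfg : I.FG := by
      obtain ⟨hc, h | h⟩ := hR
      · haveI := h.1
        exact IsNoetherian.noetherian I
      · obtain ⟨-, -, -, t, -, rfl⟩ := h
        exact ⟨{t}, by simp⟩
    have hjac := tft_map_le_jacobson R I hIfg A hA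
    refine ⟨fun 𝔪 h𝔪 htop => ?_⟩
    set K : Ideal A := (I ^ (0 + 1)).map (algebraMap R A) with hK
    have hK𝔪 : K ≤ 𝔪 := by
      have h1 : K ≤ I.map (algebraMap R A) := by rw [hK, zero_add, pow_one]
      have h2 : Ideal.jacobson (⊥ : Ideal A) ≤ 𝔪 := sInf_le ⟨bot_le, h𝔪⟩
      exact h1.trans (hjac.trans h2)
    have h0 := (Module.FaithfullyFlat.iff_flat_and_ideal_smul_eq_top
      (AdicRing.trunc A I 0) ((AdicRing.trunc A I 0) ⊗[A] M)).1 (h 0)
    have hmap : 𝔪.map (Ideal.Quotient.mk K) = ⊤ := by
      apply h0.2
      rw [eq_top_iff]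
      rintro z -
      induction z using TensorProduct.induction_on with
      | zero => exact zero_mem _
      | add x y hx hy => exact add_mem hx hy
      | tmul a m =>
        have hm : m ∈ 𝔪 • (⊤ : Submodule A M) := by rw [htop]; trivial
        refine Submodule.smul_induction_on hm (fun r hr m' _ => ?_) (fun x y hx hy => ?_)
        · have : a ⊗ₜ[A] (r • m') =
              (Ideal.Quotient.mk K r) • (a ⊗ₜ[A] m' : (AdicRing.trunc A I 0) ⊗[A] M) := by
            rw [TensorProduct.smul_tmul', smul_eq_mul, ← TensorProduct.smul_tmul,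
              Algebra.smul_def, mul_comm]
            congr 1
            rw [mul_comm]; rfl
          rw [this]
          exact Submodule.smul_mem_smul (Ideal.mem_map_of_mem _ hr) trivial
        · rw [TensorProduct.tmul_add]; exact add_mem hx hy
    have h1 := congrArg (Ideal.comap (Ideal.Quotient.mk K)) hmap
    rw [Ideal.comap_map_of_surjective' _ Ideal.Quotient.mk_surjective, Ideal.comap_top,
      Ideal.mk_ker, sup_eq_left.2 hK𝔪] at h1
    exact h𝔪.ne_top h1

end Groth.Agent.Helper2.AdicGB
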