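import Mathlib
import Groth.Prelude
set_option autoImplicit false
universe u v w
open AdicCompletion

namespace Groth.Agent.Helper2.AdicGB

section AR
variable {R : Type u} [CommRing R] (I : Ideal R)
variable {M : Type v} [AddCommGroup M] [Module R M] {N : Type w} [AddCommGroup N] [Module R N]
  {P : Type*} [AddCommGroup P] [Module R P]

/-- Artin–Rees-type condition for a linear map. -/
def ARcond (f : M →ₗ[R] N) : Prop :=
  ∃ k : ℕ, ∀ n : ℕ,
    (I ^ (n + k) • ⊤ : Submodule R N) ⊓ LinearMap.range f ≤ Submodule.map f (I ^ n • ⊤)

theorem map_injective_of_AR {f : M →ₗ[R] N} (hf : Function.Injective f) (hAR : ARcond I f) :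
    Function.Injective (AdicCompletion.map I f) := by
  obtain ⟨k, hk⟩ := hAR
  rw [← LinearMap.ker_eq_bot, LinearMap.ker_eq_bot']
  intro x
  apply AdicCompletion.induction_on I M x (fun a ↦ ?_)
  intro hx
  refine AdicCompletion.mk_zero_of _ _ _ ⟨42, fun n _ ↦ ⟨n + k, by lia, n, by lia, ?_⟩⟩
  have h1 : f (a (n + k)) ∈ (I ^ (n + k) • ⊤ : Submodule R N) := by
    simpa using congrArg (fun x ↦ x.val (n + k)) hx
  obtain ⟨m, hm, hfm⟩ := hk n ⟨h1, ⟨a (n + k), rfl⟩⟩
  rw [← hf hfm]; exact hm

theorem map_exact_of_AR {f : M →ₗ[R] N} {g : N →ₗ[R] P} (hf : Function.Injective f)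
    (hfg : Function.Exact f g) (hg : Function.Surjective g) (hAR : ARcond I f) :
    Function.Exact (AdicCompletion.map I f) (AdicCompletion.map I g) := by
  refine LinearMap.exact_of_comp_eq_zero_of_ker_le_range ?_ (fun y ↦ ?_)
  · rw [AdicCompletion.map_comp, hfg.linearMap_comp_eq_zero, AdicCompletion.map_zero]
  · apply AdicCompletion.induction_on I N y (fun b ↦ ?_)
    intro hz
    obtain ⟨k, hk⟩ := hAR
    have hb (n : ℕ) : g (b n) ∈ (I ^ n • ⊤ : Submodule R P) := by
      simpa using congrArg (fun x ↦ x.val n) hz
    have h2 : ∀ n : ℕ, ∃ (c : M), b n - f c ∈ (I ^ n • ⊤ : Submodule R N) := by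
      intro n
      have : g (b n) ∈ Submodule.map g (I ^ n • ⊤ : Submodule R N) := by
        rw [Submodule.map_smul'', Submodule.map_top, LinearMap.range_eq_top.mpr hg]
        exact hb n
      obtain ⟨d, hdmem, hd⟩ := this
      obtain ⟨c, hc⟩ := (hfg (b n - d)).mp (by simp [hd])
      refine ⟨c, ?_⟩
      rw [hc]; simpa using hdmem
    choose c hc using h2
    have hcauchy : ∀ n : ℕ, c (n + 1 + k) - c (n + k) ∈ (I ^ n • ⊤ : Submodule R M) := by
      intro n
      have hle : (I ^ (n + 1 + k) • ⊤ : Submodule R N) ≤ I ^ (n + k) • ⊤ :=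
        Submodule.smul_mono_left (Ideal.pow_le_pow_right (by lia))
      have h3 : f (c (n + 1 + k) - c (n + k)) ∈ (I ^ (n + k) • ⊤ : Submodule R N) := by
        have e : f (c (n + 1 + k) - c (n + k)) =
            (b (n + 1 + k) - b (n + k)) - (b (n + 1 + k) - f (c (n + 1 + k)))
              + (b (n + k) - f (c (n + k))) := by
          rw [map_sub]; abel
        rw [e]
        refine Submodule.add_mem _ (Submodule.sub_mem _ ?_ (hle (hc _))) (hc _)
        rw [← SModEq.sub_mem]
        exact AdicCauchySequence.mk_eq_mk (show n + k ≤ n + 1 + k by lia) b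
      obtain ⟨m, hm, hfm⟩ := hk n ⟨h3, ⟨_, rfl⟩⟩
      rw [← hf hfm]; exact hm
    refine ⟨AdicCompletion.mk I M (AdicCauchySequence.mk I M (fun n ↦ c (n + k)) ?_), ?_⟩
    · intro n
      rw [SModEq.sub_mem, ← Submodule.neg_mem_iff, neg_sub]
      exact hcauchy n
    · ext n
      suffices h : Submodule.Quotient.mk (p := (I ^ n • ⊤ : Submodule R N)) (f (c (n + k))) =
            Submodule.Quotient.mk (p := (I ^ n • ⊤ : Submodule R N)) (b (n + k)) by
        simp [h, AdicCauchySequence.mk_eq_mk (show n ≤ n + k by lia)]
      rw [Submodule.Quotient.eq, ← Submodule.neg_mem_iff, neg_sub]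
      have hle : (I ^ (n + k) • ⊤ : Submodule R N) ≤ (I ^ n • ⊤ : Submodule R N) :=
        Submodule.smul_mono_left (Ideal.pow_le_pow_right (by lia))
      exact hle (hc _)

end AR

section Tensor
open TensorProduct
variable {R : Type u} [CommRing R] (I : Ideal R)
variable {M' : Type v} [AddCommGroup M'] [Module R M'] {M : Type w} [AddCommGroup M] [Module R M]
  {M'' : Type*} [AddCommGroup M''] [Module R M'']

/-- `ofTensorProduct` is injective on an extension if it is on the sub and the quotient, provided
the sub satisfies Artin–Rees. -/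
theorem ofTensorProduct_injective_of_exact {f : M' →ₗ[R] M} {g : M →ₗ[R] M''}
    (hf : Function.Injective f) (hfg : Function.Exact f g) (hg : Function.Surjective g)
    (hAR : ARcond I f)
    (h1 : Function.Injective (ofTensorProduct I M'))
    (h3 : Function.Injective (ofTensorProduct I M'')) :
    Function.Injective (ofTensorProduct I M) := by
  rw [injective_iff_map_eq_zero]
  intro x hx
  have nat_g := ofTensorProduct_naturality I g
  have nat_f := ofTensorProduct_naturality I f
  have e1 : ofTensorProduct I M'' (AlgebraTensorModule.map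
      (LinearMap.id : AdicCompletion I R →ₗ[AdicCompletion I R] AdicCompletion I R) g x) = 0 := by
    have := LinearMap.congr_fun nat_g x
    simp only [LinearMap.comp_apply] at this
    rw [← this, hx, _root_.map_zero]
  have e2 : (LinearMap.lTensor (AdicCompletion I R) g) x = 0 := by
    have := h3 (e1.trans (_root_.map_zero _).symm)
    exact this
  obtain ⟨y, rfl⟩ := (lTensor_exact (R := R) (AdicCompletion I R) hfg hg x).1 e2
  have e3 : AdicCompletion.map I f (ofTensorProduct I M' y) = 0 := by
    have := LinearMap.congr_fun nat_f y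
    simp only [LinearMap.comp_apply] at this
    rw [this]
    exact hx
  have e4 : ofTensorProduct I M' y = 0 :=
    map_injective_of_AR I hf hAR (e3.trans (_root_.map_zero _).symm)
  have e5 : y = 0 := h1 (e4.trans (_root_.map_zero _).symm)
  rw [e5, _root_.map_zero]

/-- modules killed by a power of a finitely generated ideal -/
theorem ofTensorProduct_injective_of_bounded (hI : I.FG) (T : Type v) [AddCommGroup T]
    [Module R T] (k : ℕ) (hk : ∀ j ∈ I ^ k, ∀ τ : T, j • τ = 0) :
    Function.Injective (ofTensorProduct I T) := by
  have key : ∀ x : AdicCompletion I R ⊗[R] T, ∃ τ : T, x = 1 ⊗ₜ τ := by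
    intro x
    induction x using TensorProduct.induction_on with
    | zero => exact ⟨0, by simp⟩
    | add x y hx hy =>
      obtain ⟨a, rfl⟩ := hx
      obtain ⟨b, rfl⟩ := hy
      exact ⟨a + b, by rw [TensorProduct.tmul_add]⟩
    | tmul b τ =>
      obtain ⟨b0, hb0⟩ := Submodule.Quotient.mk_surjective _ (AdicCompletion.eval I R k b)
      have hz : b - AdicCompletion.of I R b0 ∈ (I ^ k • ⊤ : Submodule R (AdicCompletion I R)) := by
        rw [AdicCompletion.pow_smul_top_eq_ker_eval hI, LinearMap.mem_ker, map_sub, sub_eq_zero,
          ← hb0]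
        rfl
      have hz2 : ∀ z ∈ (I ^ k • ⊤ : Submodule R (AdicCompletion I R)),
          z ⊗ₜ[R] τ = (0 : AdicCompletion I R ⊗[R] T) := by
        intro z hz
        refine Submodule.smul_induction_on hz ?_ ?_
        · intro j hj c _
          rw [TensorProduct.smul_tmul, hk j hj τ, TensorProduct.tmul_zero]
        · intro z1 z2 h1 h2
          rw [TensorProduct.add_tmul, h1, h2, add_zero]
      refine ⟨b0 • τ, ?_⟩
      have : b = (b - AdicCompletion.of I R b0) + b0 • (1 : AdicCompletion I R) := by
        have : AdicCompletion.of I R b0 = b0 • (1 : AdicCompletion I R) := by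
          rw [Algebra.smul_def, mul_one]; rfl
        rw [← this]; ring
      rw [this, TensorProduct.add_tmul, hz2 _ hz, zero_add, TensorProduct.smul_tmul]
  rw [injective_iff_map_eq_zero]
  intro x hx
  obtain ⟨τ, rfl⟩ := key x
  rw [ofTensorProduct_tmul, one_smul] at hx
  have h1 : AdicCompletion.eval I T k (AdicCompletion.of I T τ) = 0 := by rw [hx, _root_.map_zero]
  have h2 : τ ∈ (I ^ k • ⊤ : Submodule R T) := by
    simpa using h1
  have h3 : (I ^ k • ⊤ : Submodule R T) = ⊥ := by
    rw [eq_bot_iff]
    intro y hy
    refine Submodule.smul_induction_on hy ?_ ?_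
    · intro j hj c _
      rw [hk j hj c]; exact Submodule.zero_mem _
    · intro a b ha hb
      exact Submodule.add_mem _ ha hb
  rw [h3, Submodule.mem_bot] at h2
  rw [h2, TensorProduct.tmul_zero]

/-- finitely presented modules: bijectivity given Artin–Rees for the kernel of a presentation -/
theorem ofTensorProduct_bijective_of_presentation {R : Type u} [CommRing R] (I : Ideal R)
    {M : Type u} [AddCommGroup M] [Module R M] {ι : Type} [Finite ι]
    (f : (ι → R) →ₗ[R] M) (hf : Function.Surjective f) (hK : (LinearMap.ker f).FG)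
    (hAR : ARcond I (LinearMap.ker f).subtype) :
    Function.Bijective (ofTensorProduct I M) := by
  have : Module.Finite R (LinearMap.ker f) := Module.Finite.iff_fg.2 hK
  have : Module.Finite R M := Module.Finite.of_surjective f hf
  refine ⟨?_, ofTensorProduct_surjective_of_finite I M⟩
  rw [injective_iff_map_eq_zero]
  intro x hx
  have nat_f := ofTensorProduct_naturality I f
  have nat_i := ofTensorProduct_naturality I (LinearMap.ker f).subtype
  obtain ⟨y, rfl⟩ := LinearMap.lTensor_surjective (R := R) (AdicCompletion I R) hf x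
  have e1 : AdicCompletion.map I f (ofTensorProduct I (ι → R) y) = 0 := by
    have := LinearMap.congr_fun nat_f y
    simp only [LinearMap.comp_apply] at this
    rw [this]; exact hx
  have hex := map_exact_of_AR I (Submodule.injective_subtype _) (f.exact_subtype_ker_map) hf hAR
  obtain ⟨z, hz⟩ := (hex _).1 e1
  obtain ⟨w, rfl⟩ := ofTensorProduct_surjective_of_finite I (LinearMap.ker f) z
  have e2 : ofTensorProduct I (ι → R)
      (AlgebraTensorModule.map
        (LinearMap.id : AdicCompletion I R →ₗ[AdicCompletion I R] AdicCompletion I R)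
        (LinearMap.ker f).subtype w) =
        ofTensorProduct I (ι → R) y := by
    have := LinearMap.congr_fun nat_i w
    simp only [LinearMap.comp_apply] at this
    rw [← this, hz]
  have e3 := (ofTensorProduct_bijective_of_pi_of_fintype I ι).1 e2
  rw [← e3]
  have : (LinearMap.lTensor (AdicCompletion I R) f)
      ((LinearMap.lTensor (AdicCompletion I R) (LinearMap.ker f).subtype) w) = 0 := by
    rw [← LinearMap.comp_apply, ← LinearMap.lTensor_comp]
    have : f ∘ₗ (LinearMap.ker f).subtype = 0 := by
      ext x; simp
    rw [this, LinearMap.lTensor_zero, LinearMap.zero_apply]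
  exact this

theorem ofTensorProduct_self_injective {R : Type u} [CommRing R] (I : Ideal R) :
    Function.Injective (ofTensorProduct I R) := by
  have key : ∀ x : AdicCompletion I R ⊗[R] R,
      ofTensorProduct I R x = TensorProduct.rid R (AdicCompletion I R) x := by
    intro x
    induction x using TensorProduct.induction_on with
    | zero => simp
    | add x y hx hy => rw [map_add, map_add, hx, hy]
    | tmul b r =>
      rw [ofTensorProduct_tmul, TensorProduct.rid_tmul]
      have : AdicCompletion.of I R r = r • (1 : AdicCompletion I R) := by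
        rw [Algebra.smul_def, mul_one]; rfl
      rw [this]
      change b * (r • (1 : AdicCompletion I R)) = r • b
      rw [mul_smul_comm, mul_one]
  intro x y hxy
  rw [key, key] at hxy
  exact (TensorProduct.rid R (AdicCompletion I R)).injective hxy

/-- flatness of the completion from Artin–Rees and injectivity of `ofTensorProduct` on finitely
generated ideals -/
theorem flat_of_AR {R : Type u} [CommRing R] (I : Ideal R)
    (h : ∀ J : Ideal R, J.FG →
      ARcond I J.subtype ∧ Function.Injective (ofTensorProduct I J)) :
    Module.Flat R (AdicCompletion I R) := by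
  rw [Module.Flat.iff_lTensor_injective]
  intro J hJ
  obtain ⟨hAR, hinj⟩ := h J hJ
  rw [injective_iff_map_eq_zero]
  intro x hx
  have nat := ofTensorProduct_naturality I J.subtype
  have e1 : AdicCompletion.map I J.subtype (ofTensorProduct I J x) = 0 := by
    have := LinearMap.congr_fun nat x
    simp only [LinearMap.comp_apply] at this
    rw [this]
    have hx' : (AlgebraTensorModule.map
      (LinearMap.id : AdicCompletion I R →ₗ[AdicCompletion I R] AdicCompletion I R)
      J.subtype) x = 0 := hx
    rw [hx', _root_.map_zero]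
  have e2 := map_injective_of_AR I (Submodule.injective_subtype J) hAR
    (e1.trans (_root_.map_zero _).symm)
  exact hinj (e2.trans (_root_.map_zero _).symm)

end Tensor

end Groth.Agent.Helper2.AdicGB
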