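import Mathlib
import Groth.Prelude
import Groth.Agent.Helper2.AdicGBL
import Groth.Agent.Helper2.AdicGBT
set_option autoImplicit false
universe u v w
open AdicCompletion

namespace Groth.Agent.Helper2.AdicGB

theorem mem_span_singleton_pow_smul_top {C' : Type v} [CommRing C'] {M : Type w} [AddCommGroup M]
    [Module C' M] (a : C') (n : ℕ) (x : M) :
    x ∈ ((Ideal.span {a}) ^ n • ⊤ : Submodule C' M) ↔ ∃ y : M, a ^ n • y = x := by
  rw [Ideal.span_singleton_pow, Submodule.ideal_span_singleton_smul,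
    Submodule.mem_smul_pointwise_iff_exists]
  constructor
  · rintro ⟨y, -, hy⟩; exact ⟨y, hy⟩
  · rintro ⟨y, hy⟩; exact ⟨y, Submodule.mem_top, hy⟩

theorem ar_of_bounded {C' : Type v} [CommRing C'] (a : C')
    (M : Type w) [AddCommGroup M] [Module C' M] (N : Submodule C' M)
    (k : ℕ) (hk : ∀ (x : M) (j : ℕ), a ^ j • x ∈ N → a ^ k • x ∈ N) :
    ARcond (Ideal.span {a}) N.subtype := by
  refine ⟨k, fun l => ?_⟩
  intro x hx
  obtain ⟨hx1, hx2⟩ := Submodule.mem_inf.1 hx
  obtain ⟨y, rfl⟩ := (mem_span_singleton_pow_smul_top a (l + k) x).1 hx1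
  have hz : a ^ (l + k) • y ∈ N := by
    obtain ⟨z, hzy⟩ := LinearMap.mem_range.1 hx2
    rw [← hzy]; exact z.2
  have h1 : a ^ k • y ∈ N := hk y (l + k) hz
  rw [Submodule.mem_map]
  refine ⟨a ^ l • (⟨a ^ k • y, h1⟩ : N), ?_, ?_⟩
  · exact Submodule.smul_mem_smul (Ideal.pow_mem_pow (Ideal.mem_span_singleton_self a) l) Submodule.mem_top
  · rw [Submodule.subtype_apply, Submodule.coe_smul, pow_add, mul_smul]

section Mixed
variable (R : Type u) [CommRing R] [IsDomain R] [ValuationRing R] [Ring.KrullDimLE 1 R]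
  (t : R) [IsAdicComplete (Ideal.span {t}) R]

theorem ar_of_mixed (ht : t ≠ 0) (n m : ℕ) (C' : Type v) [CommRing C'] [Algebra R C']
    (φ : MvPolynomial (Fin m) (AdicRing.RPow R (Ideal.span {t}) n) →ₐ[R] C')
    (hφ : Function.Surjective φ)
    (M : Type w) [AddCommGroup M] [Module C' M] [Module.Finite C' M] (N : Submodule C' M) :
    ARcond ((Ideal.span {t}).map (algebraMap R C')) N.subtype := by
  obtain ⟨k, hk⟩ := exists_pow_smul_mem R t ht n m C' φ hφ M N
  have h := ar_of_bounded (algebraMap R C' t) M N k hk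
  have e : (Ideal.span {t}).map (algebraMap R C') = Ideal.span {algebraMap R C' t} := by
    rw [Ideal.map_span, Set.image_singleton]
  rw [e]; exact h

theorem ofTensorProduct_bijective_of_mixed (ht : t ≠ 0) (n m : ℕ) (C' : Type v) [CommRing C']
    [Algebra R C']
    (φ : MvPolynomial (Fin m) (AdicRing.RPow R (Ideal.span {t}) n) →ₐ[R] C')
    (hφ : Function.Surjective φ)
    (M : Type v) [AddCommGroup M] [Module C' M] [Module.Finite C' M] :
    Function.Bijective (ofTensorProduct ((Ideal.span {t}).map (algebraMap R C')) M) := by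
  refine ⟨?_, ofTensorProduct_surjective_of_finite _ M⟩
  set a := algebraMap R C' t with ha
  set T : Submodule C' M := sat a ⊥ with hT
  have hJ : ((Ideal.span {t}).map (algebraMap R C')).FG := by
    rw [Ideal.map_span, Set.image_singleton]
    exact ⟨{a}, by rw [Finset.coe_singleton]⟩
  have hJe : (Ideal.span {t}).map (algebraMap R C') = Ideal.span {a} := by
    rw [Ideal.map_span, Set.image_singleton]
  refine ofTensorProduct_injective_of_exact _ (f := T.subtype) (g := T.mkQ)
    (Submodule.injective_subtype _) ?_ (Submodule.mkQ_surjective _)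
    (ar_of_mixed R t ht n m C' φ hφ M T) ?_ ?_
  · exact LinearMap.exact_subtype_mkQ T
  · -- bounded torsion
    obtain ⟨k, hk⟩ := exists_pow_smul_mem R t ht n m C' φ hφ M ⊥
    refine ofTensorProduct_injective_of_bounded _ hJ T k ?_
    intro j hj τ
    rw [hJe, Ideal.span_singleton_pow, Ideal.mem_span_singleton'] at hj
    obtain ⟨c, rfl⟩ := hj
    obtain ⟨l, hl⟩ := τ.2
    have h1 : a ^ k • (τ : M) ∈ (⊥ : Submodule C' M) := hk τ l hl
    rw [Submodule.mem_bot] at h1
    apply Subtype.ext
    rw [Submodule.coe_smul, mul_smul, h1, smul_zero]; rfl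
  · -- torsion-free quotient is finitely presented
    have : Module.FinitePresentation C' (M ⧸ T) := by
      refine fp_of_mixed R t ht n m C' φ hφ (M ⧸ T) ?_
      intro x hx
      obtain ⟨y, rfl⟩ := Submodule.Quotient.mk_surjective T x
      rw [← Submodule.Quotient.mk_smul, Submodule.Quotient.mk_eq_zero] at hx
      rw [Submodule.Quotient.mk_eq_zero]
      exact sat_saturated a ⊥ y hx
    obtain ⟨l, f, hf⟩ := Module.Finite.exists_fin' C' (M ⧸ T)
    have hK := Module.FinitePresentation.fg_ker f hf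
    exact (ofTensorProduct_bijective_of_presentation _ f hf hK
      (ar_of_mixed R t ht n m C' φ hφ (Fin l → C') (LinearMap.ker f))).1

theorem flat_of_mixed (ht : t ≠ 0) (n m : ℕ) (C' : Type v) [CommRing C']
    [Algebra R C']
    (φ : MvPolynomial (Fin m) (AdicRing.RPow R (Ideal.span {t}) n) →ₐ[R] C')
    (hφ : Function.Surjective φ) :
    Module.Flat C' (AdicCompletion ((Ideal.span {t}).map (algebraMap R C')) C') := by
  refine flat_of_AR _ ?_
  intro J hJ
  have : Module.Finite C' J := Module.Finite.iff_fg.2 hJ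
  exact ⟨ar_of_mixed R t ht n m C' φ hφ C' J,
    (ofTensorProduct_bijective_of_mixed R t ht n m C' φ hφ J).1⟩

end Mixed

end Groth.Agent.Helper2.AdicGB
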