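import Mathlib
import Groth.Prelude
import Groth.Agent.Helper2.AdicGBU
set_option autoImplicit false
universe u v w
open AdicCompletion

namespace Groth.Agent.Helper2.AdicGB

theorem s11537
    (R : Type u) [CommRing R] (I : Ideal R) (hR : AdicRing.IsBase R I)
    (A : Type u) [CommRing A] [Algebra R A] (hA : AdicRing.TopFiniteType R I A)
    (B : Type u) [CommRing B] [Algebra R B] [Algebra A B] [IsScalarTower R A B]
    [Algebra.FiniteType A B]
    (M : Type u) [AddCommGroup M] [Module B M] [Module.Finite B M] :
    Function.Bijective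
      (AdicCompletion.ofTensorProduct (I.map (algebraMap R B)) M) := by
  obtain ⟨hc, h | h⟩ := hR
  · haveI := h.1
    haveI : IsNoetherianRing A := isNoetherianRing_of_tft R I A hA
    haveI : IsNoetherianRing B := Algebra.FiniteType.isNoetherianRing A B
    exact AdicCompletion.ofTensorProduct_bijective_of_finite_of_isNoetherian _ M
  · obtain ⟨hD, hV, hK, t, ht, rfl⟩ := h
    haveI := hD
    haveI : ValuationRing R := { hV with }
    haveI := hK
    haveI := hc
    obtain ⟨n, m, φ, hφ⟩ := mixed_of_finiteType R t A hA B
    exact ofTensorProduct_bijective_of_mixed R t ht n m B φ hφ M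

theorem s11539
    (R : Type u) [CommRing R] (I : Ideal R) (hR : AdicRing.IsBase R I)
    (A : Type u) [CommRing A] [Algebra R A] (hA : AdicRing.TopFiniteType R I A)
    (C : Type u) [CommRing C] [Algebra R C] [Algebra A C] [IsScalarTower R A C]
    [Algebra.FiniteType A C] :
    Module.Flat C (AdicCompletion (I.map (algebraMap R C)) C) := by
  obtain ⟨hc, h | h⟩ := hR
  · haveI := h.1
    haveI : IsNoetherianRing A := isNoetherianRing_of_tft R I A hA
    haveI : IsNoetherianRing C := Algebra.FiniteType.isNoetherianRing A C
    exact AdicCompletion.flat_of_isNoetherian _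
  · obtain ⟨hD, hV, hK, t, ht, rfl⟩ := h
    haveI := hD
    haveI : ValuationRing R := { hV with }
    haveI := hK
    haveI := hc
    obtain ⟨n, m, φ, hφ⟩ := mixed_of_finiteType R t A hA C
    exact flat_of_mixed R t ht n m C φ hφ

end Groth.Agent.Helper2.AdicGB
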