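import Mathlib
import Groth.Prelude
import Groth.Agent.Helper2.AdicGBV
set_option autoImplicit false
universe u v w
open AdicCompletion

namespace Groth.Agent.Helper2.AdicGB

theorem isBase_fg (R : Type u) [CommRing R] (I : Ideal R) (hR : AdicRing.IsBase R I) : I.FG := by
  obtain ⟨hc, h | h⟩ := hR
  · haveI := h.1
    exact IsNoetherian.noetherian I
  · obtain ⟨hD, hV, hK, t, ht, rfl⟩ := h
    exact ⟨{t}, by rw [Finset.coe_singleton]⟩

section Compl
variable {R : Type u} [CommRing R] (I : Ideal R) (S : Type v) [CommRing S] [Algebra R S]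

/-- the completion of an `R`-algebra with respect to `I S` -/
abbrev Cpl : Type v := AdicCompletion (I.map (algebraMap R S)) S

theorem cpl_algebraMap_eq :
    algebraMap R (Cpl I S) = (algebraMap S (Cpl I S)).comp (algebraMap R S) := rfl

theorem cpl_map_map (K : Ideal R) :
    (K.map (algebraMap R S)).map (algebraMap S (Cpl I S)) = K.map (algebraMap R (Cpl I S)) := by
  rw [Ideal.map_map]; rfl

theorem cpl_isAdicComplete (hI : I.FG) :
    IsAdicComplete (I.map (algebraMap R (Cpl I S))) (Cpl I S) := by
  have h := AdicCompletion.isAdicComplete_self (I.map (algebraMap R S)) (hI.map _)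
  rwa [cpl_map_map] at h

theorem ker_evalₐ_eq_map {S : Type v} [CommRing S] (J : Ideal S) (hJ : J.FG) (k : ℕ) :
    RingHom.ker (AdicCompletion.evalₐ J k).toRingHom =
      (J ^ k).map (algebraMap S (AdicCompletion J S)) := by
  ext x
  trans x ∈ LinearMap.ker (AdicCompletion.eval J S k)
  · have eq : J ^ k • (⊤ : Ideal S) = J ^ k := by simp
    have hinj : Function.Injective (Ideal.Quotient.factor (le_of_eq eq)) := by
      simpa [RingHom.injective_iff_ker_eq_bot, Ideal.Quotient.factor_ker]
        using Ideal.map_mk_eq_bot_of_le (le_of_eq eq.symm)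
    rw [RingHom.mem_ker, LinearMap.mem_ker]
    change AdicCompletion.evalₐ J k x = 0 ↔ _
    rw [← AdicCompletion.factor_eval_eq_evalₐ J x (le_of_eq eq)]
    exact map_eq_zero_iff _ hinj
  · rw [← AdicCompletion.pow_smul_top_eq_ker_eval hJ, Ideal.smul_top_eq_map]
    rfl

/-- the truncation map of the completion -/
noncomputable def cplTrunc (k : ℕ) : Cpl I S →ₐ[R] S ⧸ (I ^ k).map (algebraMap R S) :=
  ((Ideal.quotientEquivAlgOfEq R (Ideal.map_pow (algebraMap R S) I k).symm).toAlgHom).comp
    ((AdicCompletion.evalₐ (I.map (algebraMap R S)) k).restrictScalars R)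

theorem cplTrunc_surjective (k : ℕ) : Function.Surjective (cplTrunc I S k) := by
  unfold cplTrunc
  exact (Ideal.quotientEquivAlgOfEq R (Ideal.map_pow (algebraMap R S) I k).symm).surjective.comp
    (AdicCompletion.surjective_evalₐ _ k)

theorem ker_cplTrunc (hI : I.FG) (k : ℕ) :
    RingHom.ker (cplTrunc I S k).toRingHom = (I ^ k).map (algebraMap R (Cpl I S)) := by
  have e : (I ^ k).map (algebraMap R (Cpl I S)) =
      RingHom.ker (AdicCompletion.evalₐ (I.map (algebraMap R S)) k).toRingHom := by
    rw [ker_evalₐ_eq_map _ (hI.map _) k, ← cpl_map_map, Ideal.map_pow]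
  rw [e]
  ext x
  rw [RingHom.mem_ker, RingHom.mem_ker]
  change (Ideal.quotientEquivAlgOfEq R (Ideal.map_pow (algebraMap R S) I k).symm)
    (AdicCompletion.evalₐ (I.map (algebraMap R S)) k x) = 0 ↔
    AdicCompletion.evalₐ (I.map (algebraMap R S)) k x = 0
  exact map_eq_zero_iff _ (AlgEquiv.injective _)

/-- truncations of the completion agree with the truncations of the algebra -/
noncomputable def cplTruncEquiv (hI : I.FG) (k : ℕ) :
    (Cpl I S ⧸ (I ^ k).map (algebraMap R (Cpl I S))) ≃ₐ[R] S ⧸ (I ^ k).map (algebraMap R S) :=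
  (Ideal.quotientEquivAlgOfEq R (ker_cplTrunc I S hI k).symm).trans
    (Ideal.quotientKerAlgEquivOfSurjective (cplTrunc_surjective I S k))

end Compl

section CLoc
variable (R : Type u) [CommRing R] (I : Ideal R)

theorem flat_cLoc (hR : AdicRing.IsBase R I)
    (A : Type u) [CommRing A] [Algebra R A] (hA : AdicRing.TopFiniteType R I A) (g : A) :
    Module.Flat A (AdicRing.CLoc I g) := by
  have : Module.Flat (Localization.Away g) (AdicRing.CLoc I g) :=
    s11539 R I hR A hA (Localization.Away g)
  have : Module.Flat A (Localization.Away g) := IsLocalization.flat _ (Submonoid.powers g)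
  exact Module.Flat.trans A (Localization.Away g) (AdicRing.CLoc I g)

/-- a maximal ideal not containing `g` does not generate the unit ideal in `A⟨g⁻¹⟩` -/
theorem smul_top_ne_top_cLoc (hR : AdicRing.IsBase R I)
    (A : Type u) [CommRing A] [Algebra R A] (hA : AdicRing.TopFiniteType R I A) (g : A)
    (m : Ideal A) (hm : m.IsMaximal) (hg : g ∉ m) :
    m • (⊤ : Submodule A (AdicRing.CLoc I g)) ≠ ⊤ := by
  intro htop
  have hI := isBase_fg R I hR
  set S := Localization.Away g with hS
  set J := I.map (algebraMap R S) with hJ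
  have hjac : I.map (algebraMap R A) ≤ m :=
    (tft_map_le_jacobson R I hI A hA).trans (sInf_le ⟨bot_le, hm⟩)
  have hJm : J ≤ m.map (algebraMap A S) := by
    rw [hJ, IsScalarTower.algebraMap_eq R A S, ← Ideal.map_map]
    exact Ideal.map_mono hjac
  have hne : m.map (algebraMap A S) ≠ ⊤ := by
    rw [IsLocalization.map_algebraMap_ne_top_iff_disjoint (Submonoid.powers g)]
    haveI := hm.isPrime
    exact (Ideal.disjoint_powers_iff_notMem_of_isPrime g).2 hg
  let ψ : AdicRing.CLoc I g →+* S ⧸ m.map (algebraMap A S) :=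
    (Ideal.Quotient.factor hJm).comp (AdicCompletion.evalOneₐ J).toRingHom
  have hψ : ∀ a ∈ m, ∀ c : AdicRing.CLoc I g, ψ (a • c) = 0 := by
    intro a ha c
    have h1 : a • c = algebraMap A (AdicRing.CLoc I g) a * c := Algebra.smul_def a c
    have h2 : ψ (algebraMap A (AdicRing.CLoc I g) a) = 0 := by
      change (Ideal.Quotient.factor hJm) (AdicCompletion.evalOneₐ J
        (AdicCompletion.of J S (algebraMap A S a))) = 0
      rw [AdicCompletion.evalOneₐ_of, Ideal.Quotient.factor_mk, Ideal.Quotient.eq_zero_iff_mem]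
      exact Ideal.mem_map_of_mem _ ha
    rw [h1, map_mul, h2, zero_mul]
  have h1 : ∀ x ∈ m • (⊤ : Submodule A (AdicRing.CLoc I g)), ψ x = 0 := by
    intro x hx
    refine Submodule.smul_induction_on hx ?_ ?_
    · intro a ha c _
      exact hψ a ha c
    · intro x y hx hy
      rw [map_add, hx, hy, add_zero]
  have h2 : ψ 1 = 0 := h1 1 (by rw [htop]; exact Submodule.mem_top)
  rw [map_one] at h2
  have : Nontrivial (S ⧸ m.map (algebraMap A S)) := Ideal.Quotient.nontrivial_iff.2 hne
  exact one_ne_zero h2

theorem s11533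
    (hR : AdicRing.IsBase R I)
    (A : Type u) [CommRing A] [Algebra R A] (hA : AdicRing.TopFiniteType R I A)
    (r : ℕ) (f : Fin r → A) (hf : Ideal.span (Set.range f) = ⊤) :
    (∀ i, Module.Flat A (AdicRing.CLoc I (f i))) ∧
      Module.FaithfullyFlat A (∀ i, AdicRing.CLoc I (f i)) := by
  classical
  have hflat : ∀ i, Module.Flat A (AdicRing.CLoc I (f i)) := fun i => flat_cLoc R I hR A hA (f i)
  refine ⟨hflat, ?_⟩
  have : Module.Flat A (∀ i, AdicRing.CLoc I (f i)) :=
    Module.Flat.of_linearEquiv
      (DirectSum.linearEquivFunOnFintype A (Fin r) (fun i => AdicRing.CLoc I (f i))).symm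
  refine { submodule_ne_top := ?_ }
  intro m hm htop
  have hex : ∃ i, f i ∉ m := by
    by_contra hcon
    simp only [not_exists, not_not] at hcon
    have : Ideal.span (Set.range f) ≤ m := by
      rw [Ideal.span_le]
      rintro _ ⟨i, rfl⟩
      exact hcon i
    rw [hf] at this
    exact hm.ne_top (top_le_iff.1 this)
  obtain ⟨i, hi⟩ := hex
  refine smul_top_ne_top_cLoc R I hR A hA (f i) m hm hi ?_
  rw [eq_top_iff]
  intro c _
  have hc : (Pi.single i c : ∀ i, AdicRing.CLoc I (f i)) ∈
      m • (⊤ : Submodule A (∀ i, AdicRing.CLoc I (f i))) := by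
    rw [htop]; exact Submodule.mem_top
  have h2 : ∀ x ∈ m • (⊤ : Submodule A (∀ i, AdicRing.CLoc I (f i))),
      x i ∈ m • (⊤ : Submodule A (AdicRing.CLoc I (f i))) := by
    intro x hx
    refine Submodule.smul_induction_on hx ?_ ?_
    · intro a ha y _
      exact Submodule.smul_mem_smul ha Submodule.mem_top
    · intro x y hx hy
      exact Submodule.add_mem _ hx hy
  have := h2 _ hc
  rwa [Pi.single_eq_same] at this

end CLoc

end Groth.Agent.Helper2.AdicGB
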