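import Mathlib
import Groth.Prelude
import Groth.Agent.Helper2.AdicGBW
import Groth.Agent.Helper2.AdicGBQ
set_option autoImplicit false
universe u v w
open AdicCompletion

namespace Groth.Agent.Helper2.AdicGB

section LocalQuot
variable {R A : Type u} [CommRing R] [CommRing A] [Algebra R A] (𝔞 : Ideal A)

instance isLocalizationAway_quotient (g : A) :
    IsLocalization.Away (Ideal.Quotient.mk 𝔞 g)
      (Localization.Away g ⧸ 𝔞.map (algebraMap A (Localization.Away g))) := by
  have e : Algebra.algebraMapSubmonoid (A ⧸ 𝔞) (Submonoid.powers g) =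
      Submonoid.powers (Ideal.Quotient.mk 𝔞 g) := by
    unfold Algebra.algebraMapSubmonoid
    rw [Submonoid.map_powers]
    rfl
  have : IsLocalization (Algebra.algebraMapSubmonoid (A ⧸ 𝔞) (Submonoid.powers g))
    (Localization.Away g ⧸ 𝔞.map (algebraMap A (Localization.Away g))) := inferInstance
  rw [e] at this
  exact this

theorem algebraMap_quotient_comp (g : A) :
    (algebraMap (A ⧸ 𝔞) (Localization.Away g ⧸ 𝔞.map (algebraMap A (Localization.Away g)))).comp
      (algebraMap R (A ⧸ 𝔞)) =
    algebraMap R (Localization.Away g ⧸ 𝔞.map (algebraMap A (Localization.Away g))) := by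
  ext x
  rfl

theorem local_quotient {P : ∀ {R S : Type u} [CommRing R] [CommRing S], (R →+* S) → Prop}
    (hP : RingHom.PropertyIsLocal @P) {r : ℕ} (f : Fin r → A)
    (hf : Ideal.span (Set.range f) = ⊤) :
    P (algebraMap R (A ⧸ 𝔞)) ↔
      ∀ i, P (algebraMap R
        (Localization.Away (f i) ⧸ 𝔞.map (algebraMap A (Localization.Away (f i))))) := by
  constructor
  · intro h i
    rw [← algebraMap_quotient_comp]
    exact hP.StableUnderCompositionWithLocalizationAwayTarget _ (Ideal.Quotient.mk 𝔞 (f i)) _ h
  · intro h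
    have hs : Ideal.span (Set.range fun i => Ideal.Quotient.mk 𝔞 (f i)) = ⊤ := by
      have : (Set.range fun i => Ideal.Quotient.mk 𝔞 (f i)) = (Ideal.Quotient.mk 𝔞) '' Set.range f := by
        rw [← Set.range_comp]; rfl
      rw [this, ← Ideal.map_span, hf, Ideal.map_top]
    refine hP.ofLocalizationSpanTarget.ofIsLocalization hP.respectsIso (algebraMap R (A ⧸ 𝔞)) _ hs ?_
    rintro ⟨_, i, rfl⟩
    refine ⟨Localization.Away (f i) ⧸ 𝔞.map (algebraMap A (Localization.Away (f i))),
      inferInstance, inferInstance, isLocalizationAway_quotient 𝔞 (f i), ?_⟩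
    rw [algebraMap_quotient_comp]
    exact h i

theorem algebraMap_iff_of_algEquiv
    {P : ∀ {R S : Type u} [CommRing R] [CommRing S], (R →+* S) → Prop}
    (hP : RingHom.RespectsIso @P) {T T' : Type u} [CommRing T] [CommRing T'] [Algebra R T]
    [Algebra R T'] (e : T ≃ₐ[R] T') : P (algebraMap R T) ↔ P (algebraMap R T') := by
  have h1 : e.toRingEquiv.toRingHom.comp (algebraMap R T) = algebraMap R T' := by
    ext x; exact e.commutes x
  have h2 : e.symm.toRingEquiv.toRingHom.comp (algebraMap R T') = algebraMap R T := by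
    ext x; exact e.symm.commutes x
  constructor
  · intro h
    rw [← h1]; exact hP.1 _ _ h
  · intro h
    rw [← h2]; exact hP.1 _ _ h

end LocalQuot

section Trunc
variable {R : Type u} [CommRing R] (I : Ideal R)

theorem trunc_local {P : ∀ {R S : Type u} [CommRing R] [CommRing S], (R →+* S) → Prop}
    (hP : RingHom.PropertyIsLocal @P) (hI : I.FG) (A : Type u) [CommRing A] [Algebra R A]
    {r : ℕ} (f : Fin r → A) (hf : Ideal.span (Set.range f) = ⊤) (k : ℕ) :
    P (algebraMap R (A ⧸ (I ^ k).map (algebraMap R A))) ↔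
      ∀ i, P (algebraMap R (AdicRing.CLoc I (f i) ⧸
        (I ^ k).map (algebraMap R (AdicRing.CLoc I (f i))))) := by
  rw [local_quotient ((I ^ k).map (algebraMap R A)) hP f hf]
  refine forall_congr' fun i => ?_
  have h : ((I ^ k).map (algebraMap R A)).map (algebraMap A (Localization.Away (f i))) =
      (I ^ k).map (algebraMap R (Localization.Away (f i))) := by
    rw [Ideal.map_map, ← IsScalarTower.algebraMap_eq]
  exact algebraMap_iff_of_algEquiv hP.respectsIso
    ((Ideal.quotientEquivAlgOfEq R h).trans
      (cplTruncEquiv I (Localization.Away (f i)) hI k).symm)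

theorem tft_iff (hI : I.FG) (A : Type u) [CommRing A] [Algebra R A]
    [IsAdicComplete (I.map (algebraMap R A)) A] :
    AdicRing.TopFiniteType R I A ↔
      (algebraMap R (A ⧸ (I ^ 1).map (algebraMap R A))).FiniteType := by
  rw [RingHom.finiteType_algebraMap]
  constructor
  · rintro ⟨n, φ, hφ⟩
    exact Algebra.FiniteType.of_surjective (truncMap I φ 1) (truncMap_surjective I hI φ hφ 1)
  · intro h
    refine tft_of_finiteType_quotient I A ((I ^ 1).map (algebraMap R A)) ?_ h
    rw [pow_one]

theorem tfp_iff (hR : AdicRing.IsBase R I) (A : Type u) [CommRing A] [Algebra R A]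
    [IsAdicComplete (I.map (algebraMap R A)) A] :
    AdicRing.TopFinitePresentation R I A ↔
      ∀ n : ℕ, (algebraMap R (A ⧸ (I ^ (n + 1)).map (algebraMap R A))).FinitePresentation := by
  rw [s11530 R I hR A]
  refine forall_congr' fun n => ?_
  rw [quotientMap_fp_iff I A (isBase_fg R I hR) (n + 1), RingHom.finitePresentation_algebraMap]

theorem s11534 (hR : AdicRing.IsBase R I)
    (A : Type u) [CommRing A] [Algebra R A] [IsAdicComplete (I.map (algebraMap R A)) A]
    (r : ℕ) (f : Fin r → A) (hf : Ideal.span (Set.range f) = ⊤) :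
    AdicRing.TopFiniteType R I A ↔ ∀ i, AdicRing.TopFiniteType R I (AdicRing.CLoc I (f i)) := by
  have hI := isBase_fg R I hR
  rw [tft_iff I hI A, trunc_local I RingHom.finiteType_isLocal hI A f hf 1]
  refine forall_congr' fun i => ?_
  haveI := cpl_isAdicComplete I (Localization.Away (f i)) hI
  exact (tft_iff I hI (AdicRing.CLoc I (f i))).symm

theorem s11535 (hR : AdicRing.IsBase R I)
    (A : Type u) [CommRing A] [Algebra R A] [IsAdicComplete (I.map (algebraMap R A)) A]
    (r : ℕ) (f : Fin r → A) (hf : Ideal.span (Set.range f) = ⊤) :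
    AdicRing.TopFinitePresentation R I A ↔
      ∀ i, AdicRing.TopFinitePresentation R I (AdicRing.CLoc I (f i)) := by
  have hI := isBase_fg R I hR
  rw [tfp_iff I hR A]
  have h1 : (∀ i, AdicRing.TopFinitePresentation R I (AdicRing.CLoc I (f i))) ↔
      ∀ i, ∀ n : ℕ, (algebraMap R (AdicRing.CLoc I (f i) ⧸
        (I ^ (n + 1)).map (algebraMap R (AdicRing.CLoc I (f i))))).FinitePresentation := by
    refine forall_congr' fun i => ?_
    haveI := cpl_isAdicComplete I (Localization.Away (f i)) hI
    exact tfp_iff I hR (AdicRing.CLoc I (f i))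
  rw [h1, forall_comm]
  refine forall_congr' fun n => ?_
  exact trunc_local I RingHom.finitePresentation_isLocal hI A f hf (n + 1)

end Trunc

end Groth.Agent.Helper2.AdicGB
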