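import Mathlib
import Groth.Prelude
import Groth.Agent.Helper2.AdicGBX
set_option autoImplicit false
universe u v w
open TensorProduct

namespace Groth.Agent.Helper2.AdicGB

section NPT
variable {R : Type u} [CommRing R] (I : Ideal R)

theorem noPowTorsion_iff (M : Type v) [AddCommGroup M] [Module R M] :
    AdicRing.NoPowTorsion I M ↔ ∀ x : M, (∀ a ∈ I, a • x = 0) → x = 0 := by
  constructor
  · intro h x hx
    refine h x 1 ?_
    rw [pow_one]; exact hx
  · intro h x n
    induction n generalizing x with
    | zero =>
      intro hx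
      have := hx 1 (by rw [pow_zero, Ideal.one_eq_top]; exact Submodule.mem_top)
      rwa [one_smul] at this
    | succ n ih =>
      intro hx
      refine ih x ?_
      intro b hb
      refine h (b • x) ?_
      intro a ha
      rw [← mul_smul]
      refine hx (a * b) ?_
      rw [pow_succ, mul_comm a b]
      exact Ideal.mul_mem_mul hb ha

theorem noPowTorsion_of_flat (hI : I.FG) (A : Type v) [CommRing A] [Algebra R A]
    (B : Type w) [CommRing B] [Algebra R B] [Algebra A B] [IsScalarTower R A B]
    [Module.Flat A B] (h : AdicRing.NoPowTorsion I A) : AdicRing.NoPowTorsion I B := by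
  classical
  rw [noPowTorsion_iff] at h ⊢
  obtain ⟨s, hs⟩ := hI
  let φ : A →ₗ[A] (s → A) := LinearMap.pi (fun j => (algebraMap R A (j : R)) • LinearMap.id)
  have hφ : Function.Injective φ := by
    rw [injective_iff_map_eq_zero]
    intro x hx
    refine h x ?_
    intro a ha
    rw [← hs] at ha
    refine Submodule.span_induction ?_ ?_ ?_ ?_ ha
    · intro j hj
      have := congrFun hx ⟨j, hj⟩
      simp only [φ, LinearMap.pi_apply, LinearMap.smul_apply, LinearMap.id_apply,
        Pi.zero_apply] at this
      rw [Algebra.smul_def, ← smul_eq_mul]; exact this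
    · simp
    · intro a b _ _ ha hb
      rw [add_smul, ha, hb, add_zero]
    · intro c a _ ha
      rw [smul_eq_mul, mul_smul, ha, smul_zero]
  have hinj := Module.Flat.lTensor_preserves_injective_linearMap (M := B) φ hφ
  intro y hy
  have h1 : (LinearMap.lTensor B φ) (y ⊗ₜ[A] (1 : A)) = 0 := by
    rw [LinearMap.lTensor_tmul]
    have e : φ 1 = ∑ j : s, (algebraMap R A (j : R)) • (Pi.single j (1 : A) : s → A) := by
      ext j
      simp only [φ, LinearMap.pi_apply, LinearMap.smul_apply, LinearMap.id_apply,
        Finset.sum_apply, Pi.smul_apply, Pi.single_apply, smul_eq_mul, mul_ite, mul_one, mul_zero,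
        Finset.sum_ite_eq, Finset.mem_univ, if_true]
    rw [e, TensorProduct.tmul_sum]
    refine Finset.sum_eq_zero ?_
    intro j _
    rw [← TensorProduct.smul_tmul, algebraMap_smul, hy (j : R) ?_, TensorProduct.zero_tmul]
    rw [← hs]; exact Ideal.subset_span j.2
  have h2 : y ⊗ₜ[A] (1 : A) = 0 := hinj (h1.trans (map_zero _).symm)
  have h3 := congrArg (TensorProduct.rid A B) h2
  rwa [TensorProduct.rid_tmul, one_smul, map_zero] at h3

end NPT

section S36
variable {R : Type u} [CommRing R] (I : Ideal R)

theorem tft_of_tfp (A : Type v) [CommRing A] [Algebra R A]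
    (h : AdicRing.TopFinitePresentation R I A) : AdicRing.TopFiniteType R I A := by
  obtain ⟨n, φ, hφ, _⟩ := h
  exact ⟨n, φ, hφ⟩

theorem smul_algebraMap_cLoc {A : Type u} [CommRing A] [Algebra R A] (g : A) (a : R) (x : A) :
    a • algebraMap A (AdicRing.CLoc I g) x = algebraMap A (AdicRing.CLoc I g) (a • x) := by
  rw [Algebra.smul_def, Algebra.smul_def, map_mul]
  rfl

theorem s11536 (hR : AdicRing.IsBase R I)
    (A : Type u) [CommRing A] [Algebra R A] [IsAdicComplete (I.map (algebraMap R A)) A]
    (r : ℕ) (f : Fin r → A) (hf : Ideal.span (Set.range f) = ⊤) :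
    AdicRing.Admissible R I A ↔ ∀ i, AdicRing.Admissible R I (AdicRing.CLoc I (f i)) := by
  have hI := isBase_fg R I hR
  constructor
  · rintro ⟨h1, h2⟩ i
    refine ⟨(s11535 I hR A r f hf).1 h1 i, ?_⟩
    have hA := tft_of_tfp I A h1
    have : Module.Flat A (AdicRing.CLoc I (f i)) := flat_cLoc R I hR A hA (f i)
    have : IsScalarTower R A (AdicRing.CLoc I (f i)) :=
      IsScalarTower.of_algebraMap_eq (fun x => rfl)
    exact noPowTorsion_of_flat I hI A (AdicRing.CLoc I (f i)) h2
  · intro h
    have h1 : AdicRing.TopFinitePresentation R I A := (s11535 I hR A r f hf).2 (fun i => (h i).1)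
    refine ⟨h1, ?_⟩
    have hA := tft_of_tfp I A h1
    have : Module.FaithfullyFlat A (∀ i, AdicRing.CLoc I (f i)) := (s11533 R I hR A hA r f hf).2
    have hinj : Function.Injective (algebraMap A (∀ i, AdicRing.CLoc I (f i))) :=
      FaithfulSMul.algebraMap_injective A _
    intro x n hx
    apply hinj
    rw [map_zero]
    funext i
    rw [Pi.algebraMap_apply, Pi.zero_apply]
    refine (h i).2 _ n ?_
    intro a ha
    rw [smul_algebraMap_cLoc, hx a ha, map_zero]

end S36

end Groth.Agent.Helper2.AdicGB
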