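import Mathlib
import Groth.Prelude
import Groth.Agent.Helper2.AdicGBY
set_option autoImplicit false
universe u v w
open TensorProduct

namespace Groth.Agent.Helper2.AdicGB

section Chart
variable {A : Type v} [CommRing A] {ι : Type} (f : ι → A) (i : ι)

/-- the class of `ζ_j` in the chart algebra -/
noncomputable def chartZeta (j : {j : ι // j ≠ i}) : AdicRing.chartAlg f i :=
  Ideal.Quotient.mk _ (MvPolynomial.X j)

theorem chart_rel (j : {j : ι // j ≠ i}) :
    algebraMap A (AdicRing.chartAlg f i) (f i) * chartZeta f i j =
      algebraMap A (AdicRing.chartAlg f i) (f j.1) := by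
  change Ideal.Quotient.mk _ (MvPolynomial.C (f i)) * Ideal.Quotient.mk _ (MvPolynomial.X j) =
    Ideal.Quotient.mk _ (MvPolynomial.C (f j.1))
  rw [← map_mul, Ideal.Quotient.eq]
  exact Ideal.subset_span ⟨j, rfl⟩

theorem chart_span_le :
    (Ideal.span (Set.range f)).map (algebraMap A (AdicRing.chartAlg f i)) ≤
      Ideal.span {algebraMap A (AdicRing.chartAlg f i) (f i)} := by
  classical
  rw [Ideal.map_span, Ideal.span_le]
  rintro _ ⟨_, ⟨j, rfl⟩, rfl⟩
  by_cases h : j = i
  · subst h
    exact Ideal.mem_span_singleton_self _
  · rw [← chart_rel f i ⟨j, h⟩]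
    exact Ideal.mul_mem_right _ _ (Ideal.mem_span_singleton_self _)

/-- the map from the chart algebra to the localization -/
noncomputable def chartToAway : AdicRing.chartAlg f i →ₐ[A] Localization.Away (f i) :=
  Ideal.Quotient.liftₐ _
    (MvPolynomial.aeval (fun j : {j : ι // j ≠ i} =>
      IsLocalization.mk' (Localization.Away (f i)) (f j.1)
        (⟨f i, Submonoid.mem_powers _⟩ : Submonoid.powers (f i))))
    (by
      intro a ha
      have hle : Ideal.span (Set.range fun j : {j : ι // j ≠ i} =>
          MvPolynomial.C (f i) * MvPolynomial.X j - MvPolynomial.C (f j.1)) ≤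
          RingHom.ker (MvPolynomial.aeval (fun j : {j : ι // j ≠ i} =>
            IsLocalization.mk' (Localization.Away (f i)) (f j.1)
              (⟨f i, Submonoid.mem_powers _⟩ : Submonoid.powers (f i)))).toRingHom := by
        rw [Ideal.span_le]
        rintro _ ⟨j, rfl⟩
        rw [SetLike.mem_coe, RingHom.mem_ker]
        change MvPolynomial.aeval _ _ = 0
        rw [map_sub, map_mul, MvPolynomial.aeval_C, MvPolynomial.aeval_C, MvPolynomial.aeval_X,
          sub_eq_zero]
        exact IsLocalization.mk'_spec' (Localization.Away (f i)) (f j.1)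
          (⟨f i, Submonoid.mem_powers _⟩ : Submonoid.powers (f i))
      exact hle ha)

theorem chartToAway_zeta (j : {j : ι // j ≠ i}) :
    chartToAway f i (chartZeta f i j) =
      IsLocalization.mk' (Localization.Away (f i)) (f j.1)
        (⟨f i, Submonoid.mem_powers _⟩ : Submonoid.powers (f i)) := by
  unfold chartToAway chartZeta
  rw [Ideal.Quotient.liftₐ_apply, Ideal.Quotient.lift_mk]
  exact MvPolynomial.aeval_X _ _

theorem chart_isUnit :
    IsUnit ((Algebra.ofId A (Localization.Away (algebraMap A (AdicRing.chartAlg f i) (f i))))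
      (f i)) := by
  change IsUnit (algebraMap A (Localization.Away (algebraMap A (AdicRing.chartAlg f i) (f i)))
    (f i))
  rw [IsScalarTower.algebraMap_apply A (AdicRing.chartAlg f i)
    (Localization.Away (algebraMap A (AdicRing.chartAlg f i) (f i)))]
  exact IsLocalization.Away.algebraMap_isUnit _

/-- the map from the localization of `A` to the localization of the chart algebra -/
noncomputable def awayToChartAway : Localization.Away (f i) →ₐ[A]
    Localization.Away (algebraMap A (AdicRing.chartAlg f i) (f i)) :=
  IsLocalization.Away.liftAlgHom (x := f i)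
    (f := Algebra.ofId A (Localization.Away (algebraMap A (AdicRing.chartAlg f i) (f i))))
    (chart_isUnit f i)

theorem chart_comp :
    (awayToChartAway f i).comp (chartToAway f i) =
      IsScalarTower.toAlgHom A (AdicRing.chartAlg f i)
        (Localization.Away (algebraMap A (AdicRing.chartAlg f i) (f i))) := by
  have hθ : ∀ a : A, awayToChartAway f i (algebraMap A _ a) = algebraMap A _ a :=
    fun a => (awayToChartAway f i).commutes a
  apply Ideal.Quotient.algHom_ext
  apply MvPolynomial.algHom_ext
  intro j
  change awayToChartAway f i (chartToAway f i (chartZeta f i j)) =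
    algebraMap (AdicRing.chartAlg f i) _ (chartZeta f i j)
  rw [chartToAway_zeta]
  have hu : IsUnit (algebraMap (AdicRing.chartAlg f i)
      (Localization.Away (algebraMap A (AdicRing.chartAlg f i) (f i)))
      (algebraMap A (AdicRing.chartAlg f i) (f i))) :=
    IsLocalization.Away.algebraMap_isUnit _
  apply hu.mul_left_cancel
  rw [← map_mul, chart_rel, ← IsScalarTower.algebraMap_apply A (AdicRing.chartAlg f i),
    ← IsScalarTower.algebraMap_apply A (AdicRing.chartAlg f i),
    ← hθ (f i), ← map_mul]
  have e : algebraMap A (Localization.Away (f i)) (f i) *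
      IsLocalization.mk' (Localization.Away (f i)) (f j.1)
        (⟨f i, Submonoid.mem_powers _⟩ : Submonoid.powers (f i)) =
      algebraMap A (Localization.Away (f i)) (f j.1) :=
    IsLocalization.mk'_spec' (Localization.Away (f i)) (f j.1)
      (⟨f i, Submonoid.mem_powers _⟩ : Submonoid.powers (f i))
  rw [e, hθ]

/-- elements of the chart algebra vanishing in the localization are `f i`-power torsion -/
theorem chart_torsion_of_map_eq_zero (y : AdicRing.chartAlg f i) (hy : chartToAway f i y = 0) :
    ∃ m : ℕ, algebraMap A (AdicRing.chartAlg f i) (f i) ^ m * y = 0 := by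
  have h1 : algebraMap (AdicRing.chartAlg f i)
      (Localization.Away (algebraMap A (AdicRing.chartAlg f i) (f i))) y = 0 := by
    have := congrArg (fun φ => φ y) (chart_comp f i)
    simp only [AlgHom.comp_apply] at this
    rw [hy, map_zero] at this
    exact this.symm
  obtain ⟨⟨_, m, rfl⟩, hm⟩ := (IsLocalization.map_eq_zero_iff
    (Submonoid.powers (algebraMap A (AdicRing.chartAlg f i) (f i))) _ y).1 h1
  exact ⟨m, hm⟩

end Chart

end Groth.Agent.Helper2.AdicGB
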