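import Mathlib
import Groth.Prelude
import Groth.Agent.Helper2.AdicGCA
set_option autoImplicit false
universe u v w
open TensorProduct

namespace Groth.Agent.Helper2.AdicGB

section Torsion
variable {R : Type u} [CommRing R] (I : Ideal R)

/-- the ideal of `I`-power torsion elements -/
def powTorsion (B : Type v) [CommRing B] [Algebra R B] : Ideal B where
  carrier := {y | ∃ n : ℕ, ∀ a ∈ I ^ n, a • y = 0}
  add_mem' := by
    rintro x y ⟨n, hn⟩ ⟨m, hm⟩
    refine ⟨n + m, fun a ha => ?_⟩
    rw [smul_add, hn a (Ideal.pow_le_pow_right (Nat.le_add_right n m) ha),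
      hm a (Ideal.pow_le_pow_right (Nat.le_add_left m n) ha), add_zero]
  zero_mem' := ⟨0, fun a _ => smul_zero a⟩
  smul_mem' := by
    rintro c x ⟨n, hn⟩
    refine ⟨n, fun a ha => ?_⟩
    rw [smul_eq_mul, ← mul_smul_comm, hn a ha, mul_zero]

theorem mem_powTorsion (B : Type v) [CommRing B] [Algebra R B] (y : B) :
    y ∈ powTorsion I B ↔ ∃ n : ℕ, ∀ a ∈ I ^ n, a • y = 0 := Iff.rfl

theorem torsion_transfer (hI : I.FG) (B : Type v) [CommRing B] [Algebra R B]
    (C : Type w) [CommRing C] [Algebra R C] [Algebra B C] [IsScalarTower R B C]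
    [Module.Flat B C] (b : B) (hb : ∀ y ∈ powTorsion I B, b * y = 0)
    (x : C) (n : ℕ) (hx : ∀ a ∈ I ^ n, a • x = 0) : b • x = 0 := by
  classical
  obtain ⟨s, hs⟩ := (hI.pow : (I ^ n).FG)
  let φ : B →ₗ[B] (s → B) := LinearMap.pi (fun j => (algebraMap R B (j : R)) • LinearMap.id)
  have hker : ∀ y ∈ LinearMap.ker φ, b * y = 0 := by
    intro y hy
    refine hb y ⟨n, ?_⟩
    intro a ha
    rw [← hs] at ha
    rw [LinearMap.mem_ker] at hy
    refine Submodule.span_induction ?_ ?_ ?_ ?_ ha
    · intro j hj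
      have := congrFun hy ⟨j, hj⟩
      simp only [φ, LinearMap.pi_apply, LinearMap.smul_apply, LinearMap.id_apply,
        Pi.zero_apply] at this
      rw [Algebra.smul_def, ← smul_eq_mul]; exact this
    · simp
    · intro a b _ _ ha hb
      rw [add_smul, ha, hb, add_zero]
    · intro c a _ ha
      rw [smul_eq_mul, mul_smul, ha, smul_zero]
  have hex := Module.Flat.lTensor_exact C (LinearMap.exact_subtype_ker_map φ)
  have h1 : (LinearMap.lTensor C φ) (x ⊗ₜ[B] (1 : B)) = 0 := by
    rw [LinearMap.lTensor_tmul]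
    have e : φ 1 = ∑ j : s, (algebraMap R B (j : R)) • (Pi.single j (1 : B) : s → B) := by
      ext j
      simp only [φ, LinearMap.pi_apply, LinearMap.smul_apply, LinearMap.id_apply,
        Finset.sum_apply, Pi.smul_apply, Pi.single_apply, smul_eq_mul, mul_ite, mul_one, mul_zero,
        Finset.sum_ite_eq, Finset.mem_univ, if_true]
    rw [e, TensorProduct.tmul_sum]
    refine Finset.sum_eq_zero ?_
    intro j _
    rw [← TensorProduct.smul_tmul, algebraMap_smul, hx (j : R) ?_, TensorProduct.zero_tmul]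
    rw [← hs]; exact Ideal.subset_span j.2
  obtain ⟨w, hw⟩ := (hex _).1 h1
  have key : ∀ w : C ⊗[B] (LinearMap.ker φ), b • (TensorProduct.rid B C)
      (LinearMap.lTensor C (LinearMap.ker φ).subtype w) = 0 := by
    intro w
    induction w using TensorProduct.induction_on with
    | zero => simp
    | tmul c y =>
      rw [LinearMap.lTensor_tmul, Submodule.subtype_apply, TensorProduct.rid_tmul, smul_smul,
        hker y y.2, zero_smul]
    | add w1 w2 h1 h2 => rw [map_add, map_add, smul_add, h1, h2, add_zero]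
  have := key w
  rwa [hw, TensorProduct.rid_tmul, one_smul] at this

theorem exists_pow_mul_eq_zero_of_fg {B : Type v} [CommRing B] (T : Ideal B) (hT : T.FG) (g : B)
    (h : ∀ y ∈ T, ∃ m : ℕ, g ^ m * y = 0) : ∃ m : ℕ, ∀ y ∈ T, g ^ m * y = 0 := by
  classical
  obtain ⟨G, hG⟩ := hT
  have hGj : ∀ y ∈ G, ∃ m : ℕ, g ^ m * y = 0 := fun y hy =>
    h y (by rw [← hG]; exact Ideal.subset_span hy)
  choose! j hj using hGj
  refine ⟨G.sup j, ?_⟩
  intro y hy
  rw [← hG] at hy
  refine Submodule.span_induction ?_ ?_ ?_ ?_ hy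
  · intro z hz
    obtain ⟨d, hd⟩ := Nat.exists_eq_add_of_le (Finset.le_sup (f := j) hz)
    rw [hd, pow_add, mul_comm (g ^ j z), mul_assoc, hj z hz, mul_zero]
  · simp
  · intro x y _ _ hx hy
    rw [mul_add, hx, hy, add_zero]
  · intro c x _ hx
    rw [smul_eq_mul, mul_left_comm, hx, mul_zero]

theorem powTorsion_fg (hR : AdicRing.IsBase R I)
    (A : Type u) [CommRing A] [Algebra R A] (hA : AdicRing.TopFiniteType R I A)
    (B : Type u) [CommRing B] [Algebra R B] [Algebra A B] [IsScalarTower R A B]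
    [Algebra.FiniteType A B] : (powTorsion I B).FG := by
  obtain ⟨hc, h | h⟩ := hR
  · haveI := h.1
    have : IsNoetherianRing A := isNoetherianRing_of_tft R I A hA
    have : IsNoetherianRing B := Algebra.FiniteType.isNoetherianRing A B
    exact IsNoetherian.noetherian _
  · obtain ⟨hD, hV, hK, t, ht, rfl⟩ := h
    haveI := hD
    haveI : ValuationRing R := { hV with }
    haveI := hK
    haveI := hc
    obtain ⟨n, m, φ, hφ⟩ := mixed_of_finiteType R t A hA B
    have hfg := sat_fg R t ht n m B φ hφ B ⊥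
    have e : powTorsion (Ideal.span {t}) B = sat (algebraMap R B t) ⊥ := by
      ext y
      rw [mem_powTorsion, mem_sat]
      constructor
      · rintro ⟨l, hl⟩
        refine ⟨l, ?_⟩
        have := hl (t ^ l) (Ideal.pow_mem_pow (Ideal.mem_span_singleton_self t) l)
        rw [Submodule.mem_bot, ← map_pow, smul_eq_mul, ← Algebra.smul_def]
        exact this
      · rintro ⟨l, hl⟩
        refine ⟨l, ?_⟩
        intro a ha
        rw [Ideal.span_singleton_pow, Ideal.mem_span_singleton'] at ha
        obtain ⟨c, rfl⟩ := ha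
        rw [Submodule.mem_bot, ← map_pow, smul_eq_mul, ← Algebra.smul_def] at hl
        rw [mul_smul, hl, smul_zero]
    rw [e]; exact hfg

end Torsion

end Groth.Agent.Helper2.AdicGB
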