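import Mathlib
import Groth.Prelude
import Groth.Agent.Helper2.AdicGCB
set_option autoImplicit false
universe u v w
open TensorProduct

namespace Groth.Agent.Helper2.AdicGB

section S40
variable (R : Type u) [CommRing R] (I : Ideal R)

theorem chart_torsion (hR : AdicRing.IsBase R I)
    (A : Type u) [CommRing A] [Algebra R A] (hA : AdicRing.Admissible R I A)
    {ι : Type} (f : ι → A) (i : ι) (y : AdicRing.chartAlg f i)
    (hy : y ∈ powTorsion I (AdicRing.chartAlg f i)) :
    ∃ m : ℕ, algebraMap A (AdicRing.chartAlg f i) (f i) ^ m * y = 0 := by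
  have hI := isBase_fg R I hR
  have hnpt : AdicRing.NoPowTorsion I (Localization.Away (f i)) := by
    haveI : Module.Flat A (Localization.Away (f i)) :=
      IsLocalization.flat _ (Submonoid.powers (f i))
    exact noPowTorsion_of_flat I hI A (Localization.Away (f i)) hA.2
  obtain ⟨n, hn⟩ := hy
  refine chart_torsion_of_map_eq_zero f i y (hnpt _ n ?_)
  intro a ha
  rw [← algebraMap_smul A a (chartToAway f i y), ← map_smul, algebraMap_smul, hn a ha, map_zero]

theorem s11540 (hR : AdicRing.IsBase R I)
    (A : Type u) [CommRing A] [Algebra R A] (hA : AdicRing.Admissible R I A)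
    (r : ℕ) (f : Fin (r + 1) → A) (k : ℕ)
    (hopen : (I ^ k).map (algebraMap R A) ≤ Ideal.span (Set.range f)) (i : Fin (r + 1))
    (x : AdicRing.chartCompl I f i) :
    (∃ n : ℕ, ∀ a ∈ I ^ n, a • x = 0) ↔
      ∃ n : ℕ, algebraMap A (AdicRing.chartCompl I f i) (f i) ^ n * x = 0 := by
  have hI := isBase_fg R I hR
  have hAt := tft_of_tfp I A hA.1
  have hgC : algebraMap A (AdicRing.chartCompl I f i) (f i) =
      algebraMap (AdicRing.chartAlg f i) (AdicRing.chartCompl I f i)
        (algebraMap A (AdicRing.chartAlg f i) (f i)) := rfl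
  constructor
  · rintro ⟨n, hn⟩
    haveI : Module.Flat (AdicRing.chartAlg f i) (AdicRing.chartCompl I f i) :=
      s11539 R I hR A hAt (AdicRing.chartAlg f i)
    have hfg := powTorsion_fg I hR A hAt (AdicRing.chartAlg f i)
    obtain ⟨m, hm⟩ := exists_pow_mul_eq_zero_of_fg _ hfg
      (algebraMap A (AdicRing.chartAlg f i) (f i))
      (fun y hy => chart_torsion R I hR A hA f i y hy)
    refine ⟨m, ?_⟩
    have := torsion_transfer I hI (AdicRing.chartAlg f i) (AdicRing.chartCompl I f i)
      (algebraMap A (AdicRing.chartAlg f i) (f i) ^ m) hm x n hn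
    rw [Algebra.smul_def, map_pow] at this
    rw [hgC]; exact this
  · rintro ⟨n, hn⟩
    refine ⟨k * n, ?_⟩
    intro a ha
    have h1 : (I ^ k).map (algebraMap R (AdicRing.chartAlg f i)) ≤
        Ideal.span {algebraMap A (AdicRing.chartAlg f i) (f i)} := by
      rw [IsScalarTower.algebraMap_eq R A (AdicRing.chartAlg f i), ← Ideal.map_map]
      exact (Ideal.map_mono hopen).trans (chart_span_le f i)
    have h2 : algebraMap R (AdicRing.chartAlg f i) a ∈
        Ideal.span {algebraMap A (AdicRing.chartAlg f i) (f i) ^ n} := by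
      rw [← Ideal.span_singleton_pow]
      refine Ideal.pow_right_mono h1 n ?_
      rw [← Ideal.map_pow, ← pow_mul]
      exact Ideal.mem_map_of_mem _ ha
    obtain ⟨c, hc⟩ := Ideal.mem_span_singleton'.1 h2
    have h3 : a • x = algebraMap (AdicRing.chartAlg f i) (AdicRing.chartCompl I f i)
        (algebraMap R (AdicRing.chartAlg f i) a) * x := by
      rw [Algebra.smul_def]; rfl
    rw [h3, ← hc, map_mul, map_pow, ← hgC, mul_assoc, hn, mul_zero]

end S40

end Groth.Agent.Helper2.AdicGB
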