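import Mathlib
import Groth.Prelude
import Groth.Agent.Helper2.AdicGCC
import Groth.Agent.Helper2.AdicGBM
import Groth.Agent.Helper2.AdicGBK
set_option autoImplicit false
universe u v w
open TensorProduct

namespace Groth.Agent.Helper2.AdicGB

section FinAlg
variable (R : Type u) [CommRing R] (I : Ideal R)

theorem tft_of_finite (hR : AdicRing.IsBase R I)
    (A : Type u) [CommRing A] [Algebra R A] (hA : AdicRing.TopFiniteType R I A)
    (A' : Type u) [CommRing A'] [Algebra R A'] [Algebra A A'] [IsScalarTower R A A']
    [Module.Finite A A'] : AdicRing.TopFiniteType R I A' := by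
  have hI := isBase_fg R I hR
  have hc : IsAdicComplete I A' := s11529 R I hR A hA A'
  haveI : IsAdicComplete (I.map (algebraMap R A')) A' :=
    (IsAdicComplete.map_algebraMap_iff (R := R) (S := A') (I := I) (M := A')).2 hc
  have hFT : Algebra.FiniteType R (A ⧸ (I ^ 1).map (algebraMap R A)) := by
    obtain ⟨n, φ, hφ⟩ := hA
    exact Algebra.FiniteType.of_surjective (truncMap I φ 1) (truncMap_surjective I hI φ hφ 1)
  refine tft_of_finiteType_quotient I A' (((I ^ 1).map (algebraMap R A)).map (algebraMap A A'))
    ?_ ?_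
  · rw [Ideal.map_map, ← IsScalarTower.algebraMap_eq, pow_one]
  · haveI : IsScalarTower R (A ⧸ (I ^ 1).map (algebraMap R A))
        (A' ⧸ ((I ^ 1).map (algebraMap R A)).map (algebraMap A A')) :=
      IsScalarTower.of_algebraMap_eq (fun x => by
        change Ideal.Quotient.mk _ (algebraMap R A' x) =
          Ideal.Quotient.mk _ (algebraMap A A' (algebraMap R A x))
        rw [← IsScalarTower.algebraMap_apply])
    haveI : Module.Finite A (A' ⧸ ((I ^ 1).map (algebraMap R A)).map (algebraMap A A')) :=
      inferInstance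
    haveI : Module.Finite (A ⧸ (I ^ 1).map (algebraMap R A))
        (A' ⧸ ((I ^ 1).map (algebraMap R A)).map (algebraMap A A')) :=
      Module.Finite.of_restrictScalars_finite A _ _
    exact Algebra.FiniteType.trans hFT inferInstance

end FinAlg

section S13352

theorem tensor_fractionRing_torsionFree (R : Type u) [CommRing R] [IsDomain R]
    (A : Type v) [CommRing A] [Algebra R A] (s : R) (hs : s ≠ 0)
    (z : A ⊗[R] FractionRing R) (hz : s • z = 0) : z = 0 := by
  let c : FractionRing R := (algebraMap R (FractionRing R) s)⁻¹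
  have hc : c * algebraMap R (FractionRing R) s = 1 :=
    inv_mul_cancel₀ (by
      rw [Ne, map_eq_zero_iff _ (IsFractionRing.injective R (FractionRing R))]; exact hs)
  let g : A ⊗[R] FractionRing R →ₗ[R] A ⊗[R] FractionRing R :=
    LinearMap.lTensor A (LinearMap.mulLeft R c)
  have key : ∀ z : A ⊗[R] FractionRing R, g (s • z) = z := by
    intro z
    induction z using TensorProduct.induction_on with
    | zero => simp
    | tmul a k =>
      rw [← TensorProduct.tmul_smul, LinearMap.lTensor_tmul, LinearMap.mulLeft_apply,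
        Algebra.smul_def, ← mul_assoc, hc, one_mul]
    | add x y hx hy => rw [smul_add, map_add, hx, hy]
  rw [← key z, hz, map_zero]

theorem s13352
    (R : Type u) [CommRing R] [IsDomain R] [ValuationRing R] [Ring.KrullDimLE 1 R]
    (t : R) (ht : t ≠ 0) [IsAdicComplete (Ideal.span {t}) R]
    (A : Type u) [CommRing A] [Algebra R A] (hA : AdicRing.Admissible R (Ideal.span {t}) A)
    (n : ℕ) (f : Fin n → A ⊗[R] FractionRing R) (hf : ∀ i, IsIntegral A (f i)) :
    AdicRing.Admissible R (Ideal.span {t}) ↥(Algebra.adjoin A (Set.range f)) ∧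
      Module.Finite A ↥(Algebra.adjoin A (Set.range f)) := by
  have hfin : Module.Finite A ↥(Algebra.adjoin A (Set.range f)) :=
    Algebra.finite_adjoin_of_finite_of_isIntegral (Set.finite_range f)
      (by rintro _ ⟨i, rfl⟩; exact hf i)
  have hR : AdicRing.IsBase R (Ideal.span {t}) :=
    ⟨inferInstance, Or.inr ⟨inferInstance, inferInstance, inferInstance, t, ht, rfl⟩⟩
  have hAt := tft_of_tfp _ A hA.1
  have htft := tft_of_finite R _ hR A hAt ↥(Algebra.adjoin A (Set.range f))
  have hnpt : AdicRing.NoPowTorsion (Ideal.span {t}) ↥(Algebra.adjoin A (Set.range f)) := by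
    intro x m hx
    have h1 := hx (t ^ m) (Ideal.pow_mem_pow (Ideal.mem_span_singleton_self t) m)
    have h2 : (t ^ m) • (x : A ⊗[R] FractionRing R) = 0 := by
      have := congrArg (fun y : ↥(Algebra.adjoin A (Set.range f)) => (y : A ⊗[R] FractionRing R)) h1
      exact this
    apply Subtype.ext
    exact tensor_fractionRing_torsionFree R A (t ^ m) (pow_ne_zero m ht) _ h2
  exact ⟨⟨s11525 R _ hR _ htft hnpt, hnpt⟩, hfin⟩

end S13352

end Groth.Agent.Helper2.AdicGB
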