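import Mathlib
import Groth.Agent.S0543
import Groth.Agent.Helper2.RegMax
import Groth.Agent.Helper2.RegFlat
import Groth.Agent.Helper2.SmoothDense

namespace Groth.Agent.Helper2.ComplReg
open IsLocalRing

universe u

variable (A : Type u) [CommRing A] [IsNoetherianRing A] (J : Ideal A)

/-- maximal ideals of the completion are extended from maximal ideals of `A` containing `J` -/
theorem exists_maximal (M : Ideal (AdicCompletion J A)) (hM : M.IsMaximal) :
    ∃ m : Ideal A, m.IsMaximal ∧ m.map (algebraMap A (AdicCompletion J A)) = M := by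
  have fg : J.FG := J.fg_of_isNoetherianRing
  haveI := AdicCompletion.isAdicComplete_self J fg
  have h1 : J.map (algebraMap A (AdicCompletion J A)) ≤ M :=
    (IsAdicComplete.le_jacobson_bot _).trans (sInf_le ⟨bot_le, hM⟩)
  set ev := (AdicCompletion.evalOneₐ J).toRingHom with hev
  have hsurj : Function.Surjective ev := AdicCompletion.evalOneₐ_surjective J
  have hker : RingHom.ker ev = J.map (algebraMap A (AdicCompletion J A)) :=
    AdicCompletion.ker_evalOneₐ_eq_map J fg
  have hM' : (M.map ev).IsMaximal :=
    Ideal.IsMaximal.map_of_surjective_of_ker_le hsurj (hker ▸ h1)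
  let m' : Ideal A := (M.map ev).comap (Ideal.Quotient.mk J)
  haveI hm' : m'.IsMaximal := Ideal.comap_isMaximal_of_surjective _ Ideal.Quotient.mk_surjective
  have hJm : J ≤ m' := by
    intro a ha
    change Ideal.Quotient.mk J a ∈ M.map ev
    rw [Ideal.Quotient.eq_zero_iff_mem.2 ha]
    exact Ideal.zero_mem _
  haveI hmax := AdicCompletion.isMaximal_map_of_le J m' hJm fg
  refine ⟨m', hm', ?_⟩
  have hle : m'.map (algebraMap A (AdicCompletion J A)) ≤ M := by
    rw [Ideal.map_le_iff_le_comap]
    intro a ha
    rw [Ideal.mem_comap]
    have h2 : ev (algebraMap A (AdicCompletion J A) a) ∈ M.map ev := by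
      have : ev (algebraMap A (AdicCompletion J A) a) = Ideal.Quotient.mk J a := by
        simp [hev]
      rw [this]
      exact ha
    have h3 := Ideal.comap_map_of_surjective' ev hsurj M
    rw [hker, sup_eq_left.mpr h1] at h3
    rw [← h3]
    exact h2
  exact hmax.eq_of_le hM.ne_top hle

/-- the adic completion of a regular ring is regular -/
theorem isRegularRing_adicCompletion [IsRegularRing A] : IsRegularRing (AdicCompletion J A) := by
  haveI : IsNoetherianRing (AdicCompletion J A) := Groth.Agent.S0543.result A J
  apply Groth.Agent.Helper2.RegMax.isRegularRing_of_forall_maximal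
  intro M hM
  obtain ⟨m, hm, hmM⟩ := exists_maximal A J M hM
  haveI : M.LiesOver m := ⟨by
    have h1 : m ≤ M.comap (algebraMap A (AdicCompletion J A)) := by
      rw [← Ideal.map_le_iff_le_comap, hmM]
    exact hm.eq_of_le (Ideal.comap_ne_top _ hM.ne_top) h1⟩
  letI := Localization.AtPrime.algebraOfLiesOver m M
  haveI : IsLocalHom (algebraMap (Localization.AtPrime m) (Localization.AtPrime M)) :=
    Localization.isLocalHom_localRingHom _ _ _ Ideal.LiesOver.over
  have hmap : (maximalIdeal (Localization.AtPrime m)).map
      (algebraMap (Localization.AtPrime m) (Localization.AtPrime M)) =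
      maximalIdeal (Localization.AtPrime M) := by
    rw [← Localization.AtPrime.map_eq_maximalIdeal, Ideal.map_map,
      ← IsScalarTower.algebraMap_eq,
      IsScalarTower.algebraMap_eq A (AdicCompletion J A) (Localization.AtPrime M),
      ← Ideal.map_map, hmM, Localization.AtPrime.map_eq_maximalIdeal]
  apply Groth.Agent.Helper2.RegFlat.isRegularLocalRing_of_flat_of_fibre
    (A := Localization.AtPrime m) (B := Localization.AtPrime M)
  rw [hmap]
  exact Groth.Agent.Helper2.SmoothDense.isRegularLocalRing_of_isField
    ((Ideal.Quotient.maximal_ideal_iff_isField_quotient _).1 (maximalIdeal.isMaximal _))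

end Groth.Agent.Helper2.ComplReg
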