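import Mathlib
import Groth.Prelude.Def_Found
import Groth.Prelude.Def_EGA4b
import Groth.Agent.Helper2.LocHom
import Groth.Agent.Helper2.CplMap
import Groth.Agent.Helper2.CplDesc
import Groth.Agent.Helper2.CplIff
import Groth.Agent.Helper2.RegBC2
import Groth.Agent.Helper2.RegComp
import Groth.Agent.Helper2.NorComp
import Groth.Agent.Helper2.RedComp
import Groth.Agent.Helper2.FFDesc
import Groth.Agent.Helper2.ComplReg
import Groth.Agent.Helper3.ComplIso2
import Groth.Agent.S0543
set_option autoImplicit false
universe u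
open IsLocalRing TensorProduct

namespace Groth.Agent.Helper2.AdicHom

open Groth.Agent.Helper2.CplMap

section G
variable (R R' : Type u) [CommRing R] [CommRing R'] [IsNoetherianRing R] [IsNoetherianRing R']
    [IsLocalRing R] [IsLocalRing R'] [Algebra R R'] [IsLocalHom (algebraMap R R')] [Module.Flat R R']
    (hm : (maximalIdeal R).map (algebraMap R R') = maximalIdeal R')
    (hk : Function.Surjective (ResidueField.map (algebraMap R R')))

include hm hk in
theorem nonempty_cpl_algEquiv : Nonempty (EGA4.Cpl R ≃ₐ[R] EGA4.Cpl R') := by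
  have hbij := Groth.Agent.Helper3.ComplIso2.completion_bijective R R' (ψ R R') (ψ_comp R R') hm
    ⟨(ResidueField.map (algebraMap R R')).injective, hk⟩
  exact ⟨AlgEquiv.ofBijective
    { ψ R R' with commutes' := fun a => RingHom.congr_fun (ψ_comp R R') a } hbij⟩

include hm hk in
theorem isRegularHom_of_cpl (h : CAlg.IsRegularHom R (EGA4.Cpl R)) : CAlg.IsRegularHom R R' := by
  obtain ⟨e⟩ := nonempty_cpl_algEquiv R R' hm hk
  haveI : IsScalarTower R R' (EGA4.Cpl R') := IsScalarTower.of_algebraMap_eq (fun a => rfl)
  haveI := Groth.Agent.Helper2.CplIff.ff R'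
  exact Groth.Agent.Helper2.CplDesc.isRegularHom_descent R R' (EGA4.Cpl R')
    (Groth.Agent.Helper2.RegBC2.isRegularHom_of_algEquiv R _ _ e h)

include hm hk in
theorem isNormalHom_of_cpl (h : EGA4.HasGeomNormalFormalFibres R) : EGA4.IsNormalHom R R' := by
  obtain ⟨e⟩ := nonempty_cpl_algEquiv R R' hm hk
  haveI : IsScalarTower R R' (EGA4.Cpl R') := IsScalarTower.of_algebraMap_eq (fun a => rfl)
  haveI := Groth.Agent.Helper2.CplIff.ff R'
  haveI := Groth.Agent.Helper2.CplIff.ff R
  haveI := Groth.Agent.Helper2.CplIff.noeth R'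
  have h1 : EGA4.IsNormalHom R (EGA4.Cpl R) := ⟨inferInstance, h⟩
  exact Groth.Agent.Helper2.CplDesc.isNormalHom_descent R R' (EGA4.Cpl R')
    (Groth.Agent.Helper2.RegBC2.isNormalHom_of_algEquiv R _ _ e h1)

include hm hk in
theorem geomReduced_of_cpl (h : EGA4.HasGeomReducedFormalFibres R) (p : Ideal R) [p.IsPrime] :
    Algebra.IsGeometricallyReduced p.ResidueField (p.Fiber R') := by
  obtain ⟨e⟩ := nonempty_cpl_algEquiv R R' hm hk
  haveI : IsScalarTower R R' (EGA4.Cpl R') := IsScalarTower.of_algebraMap_eq (fun a => rfl)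
  haveI := Groth.Agent.Helper2.CplIff.ff R'
  haveI : Algebra.IsGeometricallyReduced p.ResidueField (p.Fiber (EGA4.Cpl R)) := h p
  let e' : p.Fiber (EGA4.Cpl R) ≃ₐ[p.ResidueField] p.Fiber (EGA4.Cpl R') :=
    Algebra.TensorProduct.congr (AlgEquiv.refl : p.ResidueField ≃ₐ[p.ResidueField] p.ResidueField) e
  haveI : Algebra.IsGeometricallyReduced p.ResidueField (p.Fiber (EGA4.Cpl R')) :=
    Algebra.IsGeometricallyReduced.of_injective (k := p.ResidueField)
      (A := p.Fiber (EGA4.Cpl R')) (B := p.Fiber (EGA4.Cpl R)) e'.symm.toAlgHom e'.symm.injective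
  exact Algebra.IsGeometricallyReduced.of_injective (k := p.ResidueField)
    (Algebra.TensorProduct.map (AlgHom.id _ _) (IsScalarTower.toAlgHom R R' (EGA4.Cpl R')))
    (Groth.Agent.Helper2.FFDesc.fiber_map_injective R R' (EGA4.Cpl R') p.ResidueField)

end G

section Spec
variable (A : Type u) [CommRing A] [IsNoetherianRing A] (I : Ideal A)
    (M : Ideal (AdicCompletion I A)) [hM : M.IsMaximal]

theorem under_isMaximal : (M.under A).IsMaximal ∧
    (M.under A).map (algebraMap A (AdicCompletion I A)) = M := by
  obtain ⟨m, hm, hmM⟩ := Groth.Agent.Helper2.ComplReg.exists_maximal A I M hM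
  have h1 : m ≤ M.under A := by rw [Ideal.under_def, ← Ideal.map_le_iff_le_comap, hmM]
  have h2 : m = M.under A := hm.eq_of_le (Ideal.comap_ne_top _ hM.ne_top) h1
  rw [← h2]
  exact ⟨hm, hmM⟩

theorem map_le : I.map (algebraMap A (AdicCompletion I A)) ≤ M := by
  have fg : I.FG := I.fg_of_isNoetherianRing
  haveI := AdicCompletion.isAdicComplete_self I fg
  exact (IsAdicComplete.le_jacobson_bot _).trans (sInf_le ⟨bot_le, hM⟩)

theorem exists_sub_mem (x : AdicCompletion I A) :
    ∃ a : A, x - algebraMap A (AdicCompletion I A) a ∈ M := by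
  have fg : I.FG := I.fg_of_isNoetherianRing
  obtain ⟨a, ha⟩ := Ideal.Quotient.mk_surjective (AdicCompletion.evalOneₐ I x)
  refine ⟨a, map_le A I M ?_⟩
  rw [← AdicCompletion.ker_evalOneₐ_eq_map I fg, RingHom.mem_ker]
  change (AdicCompletion.evalOneₐ I) (x - algebraMap A (AdicCompletion I A) a) = 0
  rw [map_sub, AlgHom.commutes, ← ha, Ideal.Quotient.algebraMap_eq, sub_self]

theorem local_setup :
    letI := Localization.AtPrime.algebraOfLiesOver (M.under A) M
    IsLocalHom (algebraMap (Localization.AtPrime (M.under A)) (Localization.AtPrime M)) ∧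
    Module.Flat (Localization.AtPrime (M.under A)) (Localization.AtPrime M) ∧
    (maximalIdeal (Localization.AtPrime (M.under A))).map
      (algebraMap (Localization.AtPrime (M.under A)) (Localization.AtPrime M)) =
        maximalIdeal (Localization.AtPrime M) ∧
    Function.Surjective (ResidueField.map
      (algebraMap (Localization.AtPrime (M.under A)) (Localization.AtPrime M))) := by
  letI := Localization.AtPrime.algebraOfLiesOver (M.under A) M
  obtain ⟨hmax, hmM⟩ := under_isMaximal A I M
  haveI hloc : IsLocalHom (algebraMap (Localization.AtPrime (M.under A)) (Localization.AtPrime M)) :=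
    Localization.isLocalHom_localRingHom _ _ _ Ideal.LiesOver.over
  refine ⟨hloc, ?_, ?_, ?_⟩
  · rw [Module.flat_iff_of_isLocalization (Localization.AtPrime (M.under A)) (M.under A).primeCompl]
    exact Module.Flat.trans A (AdicCompletion I A) (Localization.AtPrime M)
  · rw [← Localization.AtPrime.map_eq_maximalIdeal, Ideal.map_map,
      ← IsScalarTower.algebraMap_eq,
      IsScalarTower.algebraMap_eq A (AdicCompletion I A) (Localization.AtPrime M),
      ← Ideal.map_map, hmM, Localization.AtPrime.map_eq_maximalIdeal]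
  · intro y
    obtain ⟨xbar, rfl⟩ := (Ideal.bijective_algebraMap_quotient_residueField M).2 y
    obtain ⟨x, rfl⟩ := Ideal.Quotient.mk_surjective xbar
    obtain ⟨a, ha⟩ := exists_sub_mem A I M x
    refine ⟨residue _ (algebraMap A (Localization.AtPrime (M.under A)) a), ?_⟩
    rw [ResidueField.map_residue, ← IsScalarTower.algebraMap_apply,
      IsScalarTower.algebraMap_apply A (AdicCompletion I A) (Localization.AtPrime M)]
    have h1 : Ideal.Quotient.mk M x = Ideal.Quotient.mk M (algebraMap A (AdicCompletion I A) a) :=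
      (Ideal.Quotient.mk_eq_mk_iff_sub_mem _ _).mpr ha
    rw [h1]
    rfl

end Spec

section Final
variable (A : Type u) [CommRing A] [IsNoetherianRing A] (I : Ideal A)

/-- the statement S0600 -/
theorem isRegularHom_adicCompletion
    (hA : ∀ (p : Ideal A) [p.IsPrime],
      CAlg.IsRegularHom (Localization.AtPrime p) (EGA4.Cpl (Localization.AtPrime p))) :
    CAlg.IsRegularHom A (AdicCompletion I A) := by
  haveI : IsNoetherianRing (AdicCompletion I A) := Groth.Agent.S0543.result A I
  apply Groth.Agent.Helper2.LocHom.isRegularHom_of_forall_maximal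
  intro M hM
  letI := Localization.AtPrime.algebraOfLiesOver (M.under A) M
  obtain ⟨h1, h2, h3, h4⟩ := local_setup A I M
  haveI := h1
  haveI := h2
  have hloc : CAlg.IsRegularHom (Localization.AtPrime (M.under A)) (Localization.AtPrime M) :=
    isRegularHom_of_cpl _ _ h3 h4 (hA (M.under A))
  have h0 : CAlg.IsRegularHom A (Localization.AtPrime (M.under A)) :=
    Groth.Agent.Helper2.LocHom.isRegularHom_localization_self A (M.under A).primeCompl _
  exact Groth.Agent.Helper2.RegComp.isRegularHom_comp A (Localization.AtPrime (M.under A))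
    (Localization.AtPrime M) h0 hloc
    (fun p _ => Groth.Agent.Helper2.RegBC.isNoetherianRing_fiber A _ p)

/-- the statement S2686 -/
theorem isNormalHom_adicCompletion
    (hA : ∀ (p : Ideal A) [p.IsPrime], EGA4.HasGeomNormalFormalFibres (Localization.AtPrime p)) :
    EGA4.IsNormalHom A (AdicCompletion I A) := by
  haveI : IsNoetherianRing (AdicCompletion I A) := Groth.Agent.S0543.result A I
  apply Groth.Agent.Helper2.LocHom.isNormalHom_of_forall_maximal
  intro M hM
  letI := Localization.AtPrime.algebraOfLiesOver (M.under A) M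
  obtain ⟨h1, h2, h3, h4⟩ := local_setup A I M
  haveI := h1
  haveI := h2
  have hloc : EGA4.IsNormalHom (Localization.AtPrime (M.under A)) (Localization.AtPrime M) :=
    isNormalHom_of_cpl _ _ h3 h4 (hA (M.under A))
  have h0 : EGA4.IsNormalHom A (Localization.AtPrime (M.under A)) :=
    Groth.Agent.Helper2.LocHom.isNormalHom_localization_self A (M.under A).primeCompl _
  exact Groth.Agent.Helper2.NorComp.isNormalHom_comp A (Localization.AtPrime (M.under A))
    (Localization.AtPrime M) h0 hloc

/-- the statement S2687 -/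
theorem geomReducedFibres_adicCompletion
    (hA : ∀ (p : Ideal A) [p.IsPrime], EGA4.HasGeomReducedFormalFibres (Localization.AtPrime p)) :
    Module.Flat A (AdicCompletion I A) ∧ ∀ (p : Ideal A) [p.IsPrime],
      Algebra.IsGeometricallyReduced p.ResidueField (p.Fiber (AdicCompletion I A)) := by
  haveI : IsNoetherianRing (AdicCompletion I A) := Groth.Agent.S0543.result A I
  refine ⟨inferInstance, ?_⟩
  apply Groth.Agent.Helper2.LocHom.geomReducedFibres_of_forall_maximal
  intro M hM
  letI := Localization.AtPrime.algebraOfLiesOver (M.under A) M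
  obtain ⟨h1, h2, h3, h4⟩ := local_setup A I M
  haveI := h1
  haveI := h2
  have hloc : ∀ (q : Ideal (Localization.AtPrime (M.under A))) [q.IsPrime],
      Algebra.IsGeometricallyReduced q.ResidueField (q.Fiber (Localization.AtPrime M)) :=
    fun q _ => geomReduced_of_cpl _ _ h3 h4 (hA (M.under A)) q
  have h0 : ∀ (p : Ideal A) [p.IsPrime],
      Algebra.IsGeometricallyReduced p.ResidueField (p.Fiber (Localization.AtPrime (M.under A))) :=
    fun p _ => Groth.Agent.Helper2.LocHom.geomReducedFibres_localization_self A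
      (M.under A).primeCompl _ p
  haveI : Module.Flat A (Localization.AtPrime (M.under A)) :=
    IsLocalization.flat _ (M.under A).primeCompl
  exact (Groth.Agent.Helper2.RedComp.geomReducedFibres_comp A (Localization.AtPrime (M.under A))
    (Localization.AtPrime M) h0 hloc).2

end Final

end Groth.Agent.Helper2.AdicHom
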