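import Mathlib
import Groth.Prelude.Def_CAlgX
import Groth.Agent.Helper2.AdicJac
import Groth.Agent.Helper2.SmoothQuotLoc

namespace Groth.Agent.Helper2.AdicJac2
open TensorProduct KaehlerDifferential IsLocalRing Groth.Agent.Helper2.AdicJac
  Groth.Agent.Helper2.SmoothQuotLoc

universe u

/-- Formal smoothness implies adic formal smoothness. -/
theorem isAdicFormallySmooth_of_formallySmooth {A S : Type u} [CommRing A] [CommRing S]
    [Algebra A S] [Algebra.FormallySmooth A S] (𝔫 : Ideal S) : CAlgX.IsAdicFormallySmooth A S 𝔫 := by
  intro E _ _ N hN ψ _
  exact Algebra.FormallySmooth.exists_lift N ⟨2, hN⟩ ψ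

/-- Restriction of scalars along a localization of the base. -/
theorem isAdicFormallySmooth_restrictScalars {A A' S : Type u} [CommRing A] [CommRing A']
    [CommRing S] [Algebra A A'] [Algebra A' S] [Algebra A S] [IsScalarTower A A' S]
    (M : Submonoid A) [IsLocalization M A'] (𝔫 : Ideal S)
    (h : CAlgX.IsAdicFormallySmooth A' S 𝔫) : CAlgX.IsAdicFormallySmooth A S 𝔫 := by
  intro E _ _ N hN ψ hψ
  have hu : ∀ m : M, IsUnit (algebraMap A E m) := by
    intro m
    apply (IsNilpotent.isUnit_quotient_mk_iff ⟨2, hN⟩).mp
    have h1 : Ideal.Quotient.mk N (algebraMap A E m) = ψ (algebraMap A' S (algebraMap A A' m)) := by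
      rw [← IsScalarTower.algebraMap_apply A A' S, AlgHom.commutes]
      rfl
    rw [h1]
    exact ((IsLocalization.map_units A' m).map (algebraMap A' S)).map ψ
  letI algA'E : Algebra A' E := (IsLocalization.lift hu).toAlgebra
  haveI : IsScalarTower A A' E := .of_algebraMap_eq' (IsLocalization.lift_comp hu).symm
  let ψ' : S →ₐ[A'] E ⧸ N :=
    { ψ.toRingHom with
      commutes' := by
        intro x
        have : (ψ.toRingHom.comp (algebraMap A' S)) = algebraMap A' (E ⧸ N) := by
          apply IsLocalization.ringHom_ext M
          ext a
          simp only [RingHom.coe_comp, Function.comp_apply, AlgHom.toRingHom_eq_coe, RingHom.coe_coe]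
          rw [← IsScalarTower.algebraMap_apply A A' S, AlgHom.commutes,
            ← IsScalarTower.algebraMap_apply A A' (E ⧸ N)]
        exact RingHom.congr_fun this x }
  obtain ⟨χ', hχ'⟩ := h E N hN ψ' hψ
  refine ⟨χ'.restrictScalars A, ?_⟩
  ext x
  exact AlgHom.congr_fun hχ' x

/-- The local version of the quotient criterion: adic formal smoothness of `C_p` over `A` is
equivalent to formal smoothness of `C_p` over `A`. -/
theorem formallySmooth_atPrime_of_isAdicFormallySmooth {A B C : Type u} [CommRing A] [CommRing B]
    [CommRing C] [Algebra A B] [Algebra B C] [Algebra A C] [IsScalarTower A B C] [IsNoetherianRing B]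
    [Algebra.FormallySmooth A B] (hsurj : Function.Surjective (algebraMap B C)) (p : Ideal C)
    [p.IsPrime]
    (h : CAlgX.IsAdicFormallySmooth A (Localization.AtPrime p)
      (maximalIdeal (Localization.AtPrime p))) :
    Algebra.FormallySmooth A (Localization.AtPrime p) := by
  letI algRS : Algebra (Localization.AtPrime (p.comap (algebraMap B C))) (Localization.AtPrime p) :=
    (Localization.localRingHom (p.comap (algebraMap B C)) p (algebraMap B C) rfl).toAlgebra
  haveI t1 : IsScalarTower B (Localization.AtPrime (p.comap (algebraMap B C)))
      (Localization.AtPrime p) := by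
    refine .of_algebraMap_eq' ?_
    ext b
    change algebraMap B (Localization.AtPrime p) b =
      Localization.localRingHom (p.comap (algebraMap B C)) p (algebraMap B C) rfl
        (algebraMap B (Localization.AtPrime (p.comap (algebraMap B C))) b)
    rw [Localization.localRingHom_to_map, ← IsScalarTower.algebraMap_apply]
  haveI t2 : IsScalarTower A (Localization.AtPrime (p.comap (algebraMap B C)))
      (Localization.AtPrime p) := by
    refine .of_algebraMap_eq' ?_
    ext a
    rw [RingHom.comp_apply,
      IsScalarTower.algebraMap_apply A B (Localization.AtPrime (p.comap (algebraMap B C))),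
      ← IsScalarTower.algebraMap_apply B (Localization.AtPrime (p.comap (algebraMap B C)))
        (Localization.AtPrime p), ← IsScalarTower.algebraMap_apply A B (Localization.AtPrime p)]
  haveI : Algebra.FormallySmooth A (Localization.AtPrime (p.comap (algebraMap B C))) := inferInstance
  have hsurj' : Function.Surjective (algebraMap (Localization.AtPrime (p.comap (algebraMap B C)))
      (Localization.AtPrime p)) :=
    RingHom.surjective_localRingHom_of_surjective (algebraMap B C) hsurj p
  exact formallySmooth_of_isAdicFormallySmooth (A₀ := A)
    (R := Localization.AtPrime (p.comap (algebraMap B C))) hsurj' h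

theorem isAdicFormallySmooth_atPrime_iff {A B C : Type u} [CommRing A] [CommRing B]
    [CommRing C] [Algebra A B] [Algebra B C] [Algebra A C] [IsScalarTower A B C] [IsNoetherianRing B]
    [Algebra.FormallySmooth A B] (hsurj : Function.Surjective (algebraMap B C)) (p : Ideal C)
    [p.IsPrime]
    [Algebra (Localization.AtPrime (p.comap (algebraMap A C))) (Localization.AtPrime p)]
    [IsScalarTower A (Localization.AtPrime (p.comap (algebraMap A C))) (Localization.AtPrime p)] :
    CAlgX.IsAdicFormallySmooth (Localization.AtPrime (p.comap (algebraMap A C)))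
        (Localization.AtPrime p) (maximalIdeal (Localization.AtPrime p)) ↔
      Function.Injective ((kerCotangentToTensor A B C).lTensor p.ResidueField) := by
  haveI hfinJ0 : Module.Finite B (RingHom.ker (algebraMap B C)) :=
    Module.Finite.of_fg (IsNoetherian.noetherian _)
  haveI hfinJ : Module.Finite B (RingHom.ker (algebraMap B C)).Cotangent :=
    Module.Finite.of_surjective (RingHom.ker (algebraMap B C)).toCotangent
      (RingHom.ker (algebraMap B C)).toCotangent_surjective
  have h01 := (tfae (A := A) hsurj p).out 0 1
  rw [← h01]
  constructor
  · intro h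
    exact formallySmooth_atPrime_of_isAdicFormallySmooth hsurj p
      (isAdicFormallySmooth_restrictScalars (p.comap (algebraMap A C)).primeCompl _ h)
  · intro h
    haveI : Algebra.FormallySmooth (Localization.AtPrime (p.comap (algebraMap A C)))
        (Localization.AtPrime p) :=
      Algebra.FormallySmooth.localization_base (p.comap (algebraMap A C)).primeCompl
    exact isAdicFormallySmooth_of_formallySmooth _

end Groth.Agent.Helper2.AdicJac2
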