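import Mathlib
import Groth.Prelude.Def_CAlgX
import Groth.Agent.Helper2.AdicJac2

namespace Groth.Agent.Helper2.AdicJac3
open TensorProduct KaehlerDifferential IsLocalRing Groth.Agent.Helper2.AdicJac
  Groth.Agent.Helper2.AdicJac2 Groth.Agent.Helper2.SmoothQuotLoc

universe u

theorem smooth_away_iff_isAdicFormallySmooth (A B : Type u) [CommRing A] [IsNoetherianRing A]
    [CommRing B] [Algebra A B] [Algebra.FiniteType A B] (q : Ideal B) [q.IsPrime] :
    (∃ g : B, g ∉ q ∧ Algebra.Smooth A (Localization.Away g)) ↔
      letI := (Localization.localRingHom (Ideal.comap (algebraMap A B) q) q (algebraMap A B)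
        rfl).toAlgebra
      CAlgX.IsAdicFormallySmooth (Localization.AtPrime (Ideal.comap (algebraMap A B) q))
        (Localization.AtPrime q) (IsLocalRing.maximalIdeal (Localization.AtPrime q)) := by
  letI algpq : Algebra (Localization.AtPrime (Ideal.comap (algebraMap A B) q))
      (Localization.AtPrime q) :=
    (Localization.localRingHom (Ideal.comap (algebraMap A B) q) q (algebraMap A B) rfl).toAlgebra
  show (∃ g : B, g ∉ q ∧ Algebra.Smooth A (Localization.Away g)) ↔
    CAlgX.IsAdicFormallySmooth (Localization.AtPrime (Ideal.comap (algebraMap A B) q))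
      (Localization.AtPrime q) (IsLocalRing.maximalIdeal (Localization.AtPrime q))
  haveI tow : IsScalarTower A (Localization.AtPrime (Ideal.comap (algebraMap A B) q))
      (Localization.AtPrime q) := by
    refine .of_algebraMap_eq' ?_
    ext a
    change algebraMap A (Localization.AtPrime q) a =
      Localization.localRingHom (Ideal.comap (algebraMap A B) q) q (algebraMap A B) rfl
        (algebraMap A (Localization.AtPrime (Ideal.comap (algebraMap A B) q)) a)
    rw [Localization.localRingHom_to_map, ← IsScalarTower.algebraMap_apply]
  obtain ⟨n, f, hf⟩ := Algebra.FiniteType.iff_quotient_mvPolynomial''.mp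
    (inferInstance : Algebra.FiniteType A B)
  letI algPB : Algebra (MvPolynomial (Fin n) A) B := f.toRingHom.toAlgebra
  haveI : IsScalarTower A (MvPolynomial (Fin n) A) B := .of_algebraMap_eq' f.comp_algebraMap.symm
  have hsurj : Function.Surjective (algebraMap (MvPolynomial (Fin n) A) B) := hf
  haveI hfinJ0 : Module.Finite (MvPolynomial (Fin n) A)
      (RingHom.ker (algebraMap (MvPolynomial (Fin n) A) B)) :=
    Module.Finite.of_fg (IsNoetherian.noetherian _)
  haveI hfinJ : Module.Finite (MvPolynomial (Fin n) A)
      (RingHom.ker (algebraMap (MvPolynomial (Fin n) A) B)).Cotangent :=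
    Module.Finite.of_surjective (RingHom.ker (algebraMap (MvPolynomial (Fin n) A) B)).toCotangent
      (RingHom.ker (algebraMap (MvPolynomial (Fin n) A) B)).toCotangent_surjective
  have h02 := (tfae (A := A) hsurj q).out 0 2
  have hsm : ∀ g : B, Algebra.Smooth A (Localization.Away g) ↔
      Algebra.FormallySmooth A (Localization.Away g) := by
    intro g
    constructor
    · intro h; exact h.formallySmooth
    · intro h
      haveI : Algebra.FiniteType A (Localization.Away g) :=
        Algebra.FiniteType.trans (inferInstance : Algebra.FiniteType A B)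
          (IsLocalization.finiteType_of_monoid_fg (Submonoid.powers g) (Localization.Away g))
      exact ⟨h, Algebra.FinitePresentation.of_finiteType.mp inferInstance⟩
  simp only [hsm]
  rw [← h02]
  constructor
  · intro h
    haveI : Algebra.FormallySmooth (Localization.AtPrime (Ideal.comap (algebraMap A B) q))
        (Localization.AtPrime q) :=
      Algebra.FormallySmooth.localization_base (Ideal.comap (algebraMap A B) q).primeCompl
    exact isAdicFormallySmooth_of_formallySmooth _
  · intro h
    exact formallySmooth_atPrime_of_isAdicFormallySmooth hsurj q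
      (isAdicFormallySmooth_restrictScalars (Ideal.comap (algebraMap A B) q).primeCompl _ h)

end Groth.Agent.Helper2.AdicJac3
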