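import Mathlib
set_option autoImplicit false
universe u

namespace Groth.Agent.Helper2.AdicTors


open TensorProduct

variable {A : Type u} [CommRing A] (m : Ideal A) {I : Type u} [AddCommGroup I] [Module A I]

/-- the retraction `Â ⊗ T → T` when `m^n T = 0`. -/
noncomputable def rho (n : ℕ) (T : Type u) [AddCommGroup T] [Module A T]
    (hT : Module.IsTorsionBySet A T ((m ^ n : Ideal A) : Set A)) :
    AdicCompletion m A ⊗[A] T →ₗ[A] T :=
  let _ : Module (A ⧸ m ^ n) T := hT.module
  have : IsScalarTower A (A ⧸ m ^ n) T := hT.isScalarTower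
  TensorProduct.lift (LinearMap.mk₂ A (fun a y => AdicCompletion.evalₐ m n a • y)
    (fun a a' y => by rw [map_add, add_smul])
    (fun c a y => by rw [map_smul, smul_assoc])
    (fun a y y' => by rw [smul_add])
    (fun c a y => by rw [smul_comm]))

lemma rho_one_tmul (n : ℕ) (T : Type u) [AddCommGroup T] [Module A T]
    (hT : Module.IsTorsionBySet A T ((m ^ n : Ideal A) : Set A)) (y : T) :
    rho m n T hT (1 ⊗ₜ y) = y := by
  let _ : Module (A ⧸ m ^ n) T := hT.module
  show AdicCompletion.evalₐ m n 1 • y = y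
  rw [map_one, one_smul]

lemma tmul_eq_zero_of_mem (hm : m.FG) (n : ℕ) (d : AdicCompletion m A)
    (hd : AdicCompletion.evalₐ m n d = 0) (x : I) (hx : ∀ a ∈ m ^ n, a • x = 0) :
    d ⊗ₜ[A] x = 0 := by
  have h1 : AdicCompletion.eval m A n d = 0 := by
    rw [← AdicCompletion.factor_evalₐ_eq_eval m d (by simp), hd, map_zero]
  have h2 : d ∈ (m ^ n • ⊤ : Submodule A (AdicCompletion m A)) := by
    rw [AdicCompletion.pow_smul_top_eq_ker_eval hm, LinearMap.mem_ker]
    exact h1
  refine Submodule.smul_induction_on h2 ?_ ?_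
  · intro r hr b _
    rw [TensorProduct.smul_tmul, hx r hr, TensorProduct.tmul_zero]
  · intro y z hy hz
    rw [TensorProduct.add_tmul, hy, hz, add_zero]


end Groth.Agent.Helper2.AdicTors
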