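import Mathlib

set_option autoImplicit false
universe u

namespace Groth.Agent.Helper2.AdicTorsionFree

/-- torsion-freeness of the completion of a domain w.r.t. a principal ideal. -/
theorem eq_zero_of_pow_smul_eq_zero {P : Type u} [CommRing P] [IsDomain P] (c : P) (hc : c ≠ 0)
    (J : Ideal P) (hJ : J = Ideal.span {c})
    (x : AdicCompletion J P) (m : ℕ) (hx : (c ^ m) • x = 0) : x = 0 := by
  subst hJ
  ext k
  rw [AdicCompletion.val_zero_apply]
  obtain ⟨y, hy⟩ := Submodule.Quotient.mk_surjective _ (x.val (k + m))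
  have h1 : (c ^ m • x).val (k + m) = 0 := by rw [hx]; rfl
  rw [AdicCompletion.val_smul_apply, ← hy, ← Submodule.Quotient.mk_smul,
    Submodule.Quotient.mk_eq_zero] at h1
  rw [smul_eq_mul, Ideal.mul_top,
    Ideal.span_singleton_pow, Ideal.mem_span_singleton'] at h1
  obtain ⟨z, hz⟩ := h1
  have h2 : y = z * c ^ k := by
    have : c ^ m * y = c ^ m * (z * c ^ k) := by rw [← smul_eq_mul, ← hz]; ring
    exact mul_left_cancel₀ (pow_ne_zero m hc) this
  have h3 := x.property (show k ≤ k + m by omega)
  rw [← h3, ← hy]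
  change Submodule.Quotient.mk y = 0
  rw [Submodule.Quotient.mk_eq_zero, smul_eq_mul, Ideal.mul_top,
    Ideal.span_singleton_pow, Ideal.mem_span_singleton']
  exact ⟨z, h2.symm⟩

end Groth.Agent.Helper2.AdicTorsionFree
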