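import Mathlib
import Groth.Prelude

set_option autoImplicit false
universe u

namespace Groth.Agent.Helper2.AdjInv

open Polynomial

/-- an element stabilizing a f.g. submodule containing `1` is integral. -/
theorem isIntegral_of_mul_mem {R T : Type*} [CommRing R] [CommRing T] [Algebra R T]
    (N : Submodule R T) (h1 : (1 : T) ∈ N) (hN : N.FG) (z : T) (hz : ∀ n ∈ N, z * n ∈ N) :
    IsIntegral R z := by
  let A' : Subalgebra R T :=
    { carrier := { x | ∀ n ∈ N, x * n ∈ N }
      mul_mem' := fun {a b} ha hb n hn => by rw [mul_assoc]; exact ha _ (hb _ hn)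
      one_mem' := fun n hn => by rw [one_mul]; exact hn
      add_mem' := fun {a b} ha hb n hn => by rw [add_mul]; exact N.add_mem (ha _ hn) (hb _ hn)
      zero_mem' := fun n _hn => by rw [zero_mul]; exact N.zero_mem
      algebraMap_mem' := fun r n hn => by
        rw [← Algebra.smul_def]; exact N.smul_mem r hn }
  let f : A' →ₐ[R] Module.End R N :=
    AlgHom.ofLinearMap
      { toFun := fun x => (LinearMap.mulLeft R (x : T)).restrict x.prop
        map_add' := by intro x y; ext n; exact add_mul _ _ _
        map_smul' := by intro r s; ext n; exact smul_mul_assoc _ _ _ }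
      (by ext n; exact one_mul _)
      (by intro x y; ext n; exact mul_assoc _ _ _)
  have hinj : Function.Injective f := by
    rw [injective_iff_map_eq_zero]
    intro s hs
    have : (s : T) * 1 = 0 := congr_arg Subtype.val (LinearMap.congr_fun hs ⟨1, h1⟩)
    rw [mul_one] at this
    exact Subtype.ext this
  have : Module.Finite R N := by rwa [Module.Finite.iff_fg]
  have h2 : IsIntegral R (f ⟨z, hz⟩) := Algebra.IsIntegral.isIntegral _
  have key := @isIntegral_algHom_iff R _ A' (Module.End R N) _ _ _ _ f hinj ⟨z, hz⟩
  have h3 : IsIntegral R (⟨z, hz⟩ : A') := key.mp h2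
  exact (isIntegral_algHom_iff A'.val Subtype.val_injective).mpr h3

section

variable {R : Type u} [CommRing R] {T : Type*} [CommRing T] [Algebra R T]

/-- powers of `a` and `b` with `a * b = 1` -/
theorem pow_mul_pow_mem {a b : T} (hab : a * b = 1) (m n : ℕ) :
    a ^ m * b ^ n ∈ (Algebra.adjoin R {a}).toSubmodule ⊔ (Algebra.adjoin R {b}).toSubmodule := by
  rcases le_total n m with h | h
  · obtain ⟨k, rfl⟩ := Nat.exists_eq_add_of_le h
    have : a ^ (n + k) * b ^ n = a ^ k := by
      rw [pow_add, mul_comm (a ^ n), mul_assoc, ← mul_pow, hab, one_pow, mul_one]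
    rw [this]
    exact Submodule.mem_sup_left (Subalgebra.pow_mem _ (Algebra.self_mem_adjoin_singleton R a) k)
  · obtain ⟨k, rfl⟩ := Nat.exists_eq_add_of_le h
    have : a ^ m * b ^ (m + k) = b ^ k := by
      rw [pow_add, ← mul_assoc, ← mul_pow, hab, one_pow, one_mul]
    rw [this]
    exact Submodule.mem_sup_right (Subalgebra.pow_mem _ (Algebra.self_mem_adjoin_singleton R b) k)

theorem sup_eq {a b : T} (hab : a * b = 1) :
    (Algebra.adjoin R {a}).toSubmodule ⊔ (Algebra.adjoin R {b}).toSubmodule =
      (Algebra.adjoin R {a, b}).toSubmodule := by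
  apply le_antisymm
  · apply sup_le
    · exact Subalgebra.toSubmodule.monotone (Algebra.adjoin_mono (by simp))
    · exact Subalgebra.toSubmodule.monotone (Algebra.adjoin_mono (by simp))
  · rw [Algebra.adjoin_eq_span, Submodule.span_le]
    intro w hw
    rw [SetLike.mem_coe, Submonoid.mem_closure_pair] at hw
    obtain ⟨m, n, rfl⟩ := hw
    exact pow_mul_pow_mem hab m n

/-- elements of `R[a] ∩ R[b]` with `ab = 1` are integral. -/
theorem isIntegral_of_mem_inf {a b : T} (hab : a * b = 1) {z : T}
    (hza : z ∈ Algebra.adjoin R {a}) (hzb : z ∈ Algebra.adjoin R {b}) : IsIntegral R z := by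
  rw [Algebra.adjoin_singleton_eq_range_aeval] at hza hzb
  obtain ⟨p, rfl⟩ := hza
  obtain ⟨q, hq⟩ := hzb
  change aeval b q = aeval a p at hq
  change IsIntegral R (aeval a p)
  -- N = span of a^i (i ≤ deg p) and b^j (j ≤ deg q)
  let N : Submodule R T := Submodule.span R
    ((fun i => a ^ i) '' (Set.Iic p.natDegree) ∪ (fun j => b ^ j) '' (Set.Iic q.natDegree))
  have hNa : ∀ i ≤ p.natDegree, a ^ i ∈ N := fun i hi =>
    Submodule.subset_span (Or.inl ⟨i, hi, rfl⟩)
  have hNb : ∀ j ≤ q.natDegree, b ^ j ∈ N := fun j hj =>
    Submodule.subset_span (Or.inr ⟨j, hj, rfl⟩)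
  have hmix : ∀ i ≤ p.natDegree, ∀ j ≤ q.natDegree, a ^ i * b ^ j ∈ N := by
    intro i hi j hj
    rcases le_total j i with h | h
    · obtain ⟨k, rfl⟩ := Nat.exists_eq_add_of_le h
      have : a ^ (j + k) * b ^ j = a ^ k := by
        rw [pow_add, mul_comm (a ^ j), mul_assoc, ← mul_pow, hab, one_pow, mul_one]
      rw [this]
      exact hNa k (by omega)
    · obtain ⟨k, rfl⟩ := Nat.exists_eq_add_of_le h
      have : a ^ i * b ^ (i + k) = b ^ k := by
        rw [pow_add, ← mul_assoc, ← mul_pow, hab, one_pow, one_mul]
      rw [this]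
      exact hNb k (by omega)
  refine isIntegral_of_mul_mem N (by simpa using hNa 0 (Nat.zero_le _))
    (Submodule.fg_span (((Set.finite_Iic _).image _).union ((Set.finite_Iic _).image _))) _ ?_
  intro n hn
  induction hn using Submodule.span_induction with
  | mem w hw =>
    rcases hw with ⟨i, hi, rfl⟩ | ⟨j, hj, rfl⟩
    · -- use q-expansion
      change aeval a p * a ^ i ∈ N
      rw [← hq, aeval_eq_sum_range, Finset.sum_mul]
      refine N.sum_mem fun j hj => ?_
      rw [smul_mul_assoc, mul_comm]
      exact N.smul_mem _ (hmix i hi j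
        (by simpa [Nat.lt_succ_iff] using hj))
    · change aeval a p * b ^ j ∈ N
      rw [aeval_eq_sum_range, Finset.sum_mul]
      refine N.sum_mem fun i hi => ?_
      rw [smul_mul_assoc]
      exact N.smul_mem _ (hmix i (by simpa [Nat.lt_succ_iff] using hi) j hj)
  | zero => rw [mul_zero]; exact N.zero_mem
  | add u v _ _ hu hv => rw [mul_add]; exact N.add_mem hu hv
  | smul r u _ hu => rw [mul_smul_comm]; exact N.smul_mem r hu

theorem mem_bot_of_mem_inf (x y : R) (hy : y ∈ nonZeroDivisors R)
    [IsLocalization.Away (x * y) T]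
    (a b : T) (hab : a * b = 1) (hbx : b * algebraMap R T x = algebraMap R T y)
    (hint : IsIntegrallyClosedIn R (Localization.Away x))
    {z : T} (hza : z ∈ Algebra.adjoin R {a}) (hzb : z ∈ Algebra.adjoin R {b}) :
    z ∈ (⊥ : Subalgebra R T) := by
  have hxyu : IsUnit (algebraMap R T (x * y)) := IsLocalization.Away.algebraMap_isUnit (x * y)
  have hxu : IsUnit (algebraMap R T x) := by
    rw [map_mul] at hxyu
    exact isUnit_of_mul_isUnit_left hxyu
  have hunits : ∀ s : Submonoid.powers x, IsUnit ((Algebra.ofId R T) s) := by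
    rintro ⟨_, n, rfl⟩
    change IsUnit (algebraMap R T (x ^ n))
    rw [map_pow]
    exact hxu.pow n
  let φ : Localization.Away x →ₐ[R] T := IsLocalization.liftAlgHom hunits
  -- injectivity
  have hφinj : Function.Injective φ := by
    rw [injective_iff_map_eq_zero]
    intro w hw
    obtain ⟨u, s, rfl⟩ := IsLocalization.exists_mk'_eq (Submonoid.powers x) w
    have h1 : φ (IsLocalization.mk' (Localization.Away x) u s) * algebraMap R T s =
        algebraMap R T u := by
      rw [← AlgHom.commutes φ, ← map_mul, IsLocalization.mk'_spec, AlgHom.commutes]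
    rw [hw, zero_mul] at h1
    have h2 := h1.symm
    rw [IsLocalization.map_eq_zero_iff (Submonoid.powers (x * y))] at h2
    obtain ⟨m, hm⟩ := h2
    obtain ⟨k, hk⟩ := m.2
    have h3 : y ^ k * (x ^ k * u) = 0 := by
      rw [← mul_assoc, mul_comm (y ^ k), ← mul_pow]
      rw [show (x * y) ^ k = (m : R) from hk]
      exact hm
    have h4 : x ^ k * u = 0 := by
      have hyk : y ^ k ∈ nonZeroDivisors R := pow_mem hy k
      exact (mul_left_mem_nonZeroDivisors_eq_zero_iff hyk).mp h3
    rw [IsLocalization.mk'_eq_zero_iff]
    exact ⟨⟨x ^ k, ⟨k, rfl⟩⟩, h4⟩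
  -- b = φ β
  let β : Localization.Away x :=
    algebraMap R (Localization.Away x) y * IsLocalization.Away.invSelf x
  have hβ : φ β = b := by
    have h1 : φ β * algebraMap R T x = algebraMap R T y := by
      rw [← AlgHom.commutes φ x, ← map_mul]
      have : β * algebraMap R (Localization.Away x) x = algebraMap R (Localization.Away x) y := by
        change algebraMap R (Localization.Away x) y * IsLocalization.Away.invSelf x *
          algebraMap R (Localization.Away x) x = _
        rw [mul_assoc, mul_comm (IsLocalization.Away.invSelf x), IsLocalization.Away.mul_invSelf,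
          mul_one]
      rw [this, AlgHom.commutes]
    exact hxu.mul_right_cancel (h1.trans hbx.symm)
  -- lift z
  have hz' : z ∈ (Algebra.adjoin R {β}).map φ := by
    rw [AlgHom.map_adjoin, Set.image_singleton, hβ]
    exact hzb
  obtain ⟨z', hz'1, rfl⟩ := hz'
  have hzint : IsIntegral R (φ z') := isIntegral_of_mem_inf hab hza hzb
  have hz'int : IsIntegral R z' := (isIntegral_algHom_iff φ hφinj).mp hzint
  obtain ⟨r, hr⟩ := (IsIntegralClosure.isIntegral_iff (A := R)).mp hz'int
  rw [← hr]
  change φ (algebraMap R _ r) ∈ _
  rw [AlgHom.commutes]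
  exact Subalgebra.algebraMap_mem _ r

end

theorem s9654 {R : Type u} [CommRing R] (x y : R) (hx : x ∈ nonZeroDivisors R)
    (hy : y ∈ nonZeroDivisors R)
    (hint : IsIntegrallyClosedIn R (Localization.Away x) ∨
      IsIntegrallyClosedIn R (Localization.Away y)) :
    (Algebra.adjoin R {algebraMap R (Localization.Away (x * y)) (x * x) *
        IsLocalization.Away.invSelf (x * y)}).toSubmodule ⊓
      (Algebra.adjoin R {algebraMap R (Localization.Away (x * y)) (y * y) *
        IsLocalization.Away.invSelf (x * y)}).toSubmodule =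
        (⊥ : Subalgebra R (Localization.Away (x * y))).toSubmodule ∧
    (Algebra.adjoin R {algebraMap R (Localization.Away (x * y)) (x * x) *
        IsLocalization.Away.invSelf (x * y)}).toSubmodule ⊔
      (Algebra.adjoin R {algebraMap R (Localization.Away (x * y)) (y * y) *
        IsLocalization.Away.invSelf (x * y)}).toSubmodule =
      (Algebra.adjoin R {algebraMap R (Localization.Away (x * y)) (x * x) *
        IsLocalization.Away.invSelf (x * y),
        algebraMap R (Localization.Away (x * y)) (y * y) *
          IsLocalization.Away.invSelf (x * y)}).toSubmodule := by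
  set T := Localization.Away (x * y) with hT
  set inv : T := IsLocalization.Away.invSelf (x * y) with hinv
  set a : T := algebraMap R T (x * x) * inv with ha
  set b : T := algebraMap R T (y * y) * inv with hb
  have h1 : algebraMap R T (x * y) * inv = 1 := IsLocalization.Away.mul_invSelf (x * y)
  have hab : a * b = 1 := by
    rw [ha, hb]
    have : algebraMap R T (x * x) * inv * (algebraMap R T (y * y) * inv) =
        (algebraMap R T (x * y) * inv) * (algebraMap R T (x * y) * inv) := by
      simp only [map_mul]; ring
    rw [this, h1, one_mul]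
  have hay : a * algebraMap R T y = algebraMap R T x := by
    rw [ha]
    have : algebraMap R T (x * x) * inv * algebraMap R T y =
        algebraMap R T x * (algebraMap R T (x * y) * inv) := by
      simp only [map_mul]; ring
    rw [this, h1, mul_one]
  have hbx : b * algebraMap R T x = algebraMap R T y := by
    rw [hb]
    have : algebraMap R T (y * y) * inv * algebraMap R T x =
        algebraMap R T y * (algebraMap R T (x * y) * inv) := by
      simp only [map_mul]; ring
    rw [this, h1, mul_one]
  refine ⟨?_, sup_eq hab⟩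
  apply le_antisymm
  · intro z hz
    obtain ⟨hza, hzb⟩ := hz
    rcases hint with h | h
    · exact mem_bot_of_mem_inf x y hy a b hab hbx h hza hzb
    · haveI : IsLocalization.Away (y * x) T := by rw [mul_comm]; infer_instance
      exact mem_bot_of_mem_inf y x hx b a (by rw [mul_comm]; exact hab) hay h hzb hza
  · apply le_inf
    · exact Subalgebra.toSubmodule.monotone bot_le
    · exact Subalgebra.toSubmodule.monotone bot_le

end Groth.Agent.Helper2.AdjInv
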