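import Mathlib
import Groth.Agent.Helper1.FaltingsG
import Groth.Agent.Helper1.LocCohLocS

set_option autoImplicit false

namespace Groth.Agent.Helper2.AdjLoc
open Groth.Agent.Helper1.Faltings

universe u
variable {R : Type u} [CommRing R] (S : Submonoid R)

/-- `LZ` transfers across localization. -/
theorem LZ_localized_iff (p : Ideal R) [hp : p.IsPrime] (hd : Disjoint (S : Set R) (p : Set R))
    (X : Type*) [AddCommGroup X] [Module R X] :
    LZ (p.map (algebraMap R (Localization S))) (LocalizedModule S X) ↔ LZ p X := by
  haveI hP : (p.map (algebraMap R (Localization S))).IsPrime :=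
    IsLocalization.isPrime_of_isPrime_disjoint S _ p hp hd
  have hcomap : (p.map (algebraMap R (Localization S))).under R = p :=
    IsLocalization.under_map_of_isPrime_disjoint S _ hp hd
  constructor
  · intro h x
    obtain ⟨u', hu', hz⟩ := h (LocalizedModule.mk x 1)
    obtain ⟨⟨r, s⟩, hrs⟩ := IsLocalization.surj S u'
    have hr : r ∉ p := by
      intro hrp
      have h1 : algebraMap R (Localization S) r ∈ p.map (algebraMap R (Localization S)) :=
        Ideal.mem_map_of_mem _ hrp
      rw [← hrs] at h1
      rcases hP.mem_or_mem h1 with h2 | h2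
      · exact hu' h2
      · exact hP.ne_top (Ideal.eq_top_of_isUnit_mem _ h2 (IsLocalization.map_units _ s))
    have h3 : (algebraMap R (Localization S) r) • (LocalizedModule.mk x 1 : LocalizedModule S X)
        = 0 := by
      rw [← hrs, mul_comm, mul_smul, hz, smul_zero]
    rw [algebraMap_smul, LocalizedModule.smul'_mk, ← LocalizedModule.mkLinearMap_apply,
      IsLocalizedModule.eq_zero_iff S] at h3
    obtain ⟨s', hs'⟩ := h3
    refine ⟨s' * r, ?_, ?_⟩
    · intro hmem
      rcases hp.mem_or_mem hmem with h4 | h4
      · exact Set.disjoint_left.mp hd s'.2 h4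
      · exact hr h4
    · rw [mul_smul]
      exact hs'
  · intro h y
    induction y using LocalizedModule.induction_on with
    | _ x s =>
      obtain ⟨u, hu, hz⟩ := h x
      refine ⟨algebraMap R (Localization S) u, ?_, ?_⟩
      · intro hmem
        apply hu
        rw [← hcomap]
        exact hmem
      · rw [algebraMap_smul, LocalizedModule.smul'_mk, hz, LocalizedModule.zero_mk]

variable [IsNoetherianRing R]

theorem DP_localized_iff (p : Ideal R) [hp : p.IsPrime] (hd : Disjoint (S : Set R) (p : Set R))
    (M : Type u) [AddCommGroup M] [Module R M] (t : ℕ) :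
    DP (p.map (algebraMap R (Localization S))) t (LocalizedModule S M) ↔ DP p t M := by
  have key : ∀ i, LZ (p.map (algebraMap R (Localization S)))
      (LocCoh.H (p.map (algebraMap R (Localization S))) i (LocalizedModule S M)) ↔
        LZ p (LocCoh.H p i M) := by
    intro i
    obtain ⟨e⟩ := Groth.Agent.Helper1.LocCohLocS.nonempty_localized_linearEquiv S p M i
    rw [← LZ_localized_iff S p hd]
    exact ⟨fun h => LZ_of_linearEquiv _ e.symm h, fun h => LZ_of_linearEquiv _ e h⟩
  unfold DP
  rw [key t]
  simp only [key]

theorem depth_localized_eq (p : Ideal R) [hp : p.IsPrime] (hd : Disjoint (S : Set R) (p : Set R))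
    (M : Type u) [AddCommGroup M] [Module R M] [Module.Finite R M]
    [hP : (p.map (algebraMap R (Localization S))).IsPrime] :
    LocCoh.depth (Localization.AtPrime (p.map (algebraMap R (Localization S))))
      (LocalizedModule (p.map (algebraMap R (Localization S))).primeCompl (LocalizedModule S M)) =
    LocCoh.depth (Localization.AtPrime p) (LocalizedModule p.primeCompl M) := by
  haveI : IsNoetherianRing (Localization S) := IsLocalization.isNoetherianRing S _ inferInstance
  haveI : Module.Finite (Localization S) (LocalizedModule S M) :=
    Module.Finite.of_isLocalizedModule S (LocalizedModule.mkLinearMap S M)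
  rcases eq_or_ne (LocCoh.depth (Localization.AtPrime p) (LocalizedModule p.primeCompl M)) ⊤
    with htop | hfin
  · rcases eq_or_ne (LocCoh.depth (Localization.AtPrime (p.map (algebraMap R (Localization S))))
      (LocalizedModule (p.map (algebraMap R (Localization S))).primeCompl (LocalizedModule S M))) ⊤
      with htop' | hfin'
    · rw [htop, htop']
    · exfalso
      obtain ⟨t, ht⟩ := ENat.ne_top_iff_exists.1 hfin'
      have hD := DP_of_depth_eq (p.map (algebraMap R (Localization S))) (LocalizedModule S M) t
        ht.symm
      have hD' := (DP_localized_iff S p hd M t).1 hD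
      rw [depth_eq_of_DP p M t hD'] at htop
      exact ENat.coe_ne_top t htop
  · obtain ⟨t, ht⟩ := ENat.ne_top_iff_exists.1 hfin
    have hD := DP_of_depth_eq p M t ht.symm
    have hD' := (DP_localized_iff S p hd M t).2 hD
    rw [depth_eq_of_DP _ (LocalizedModule S M) t hD', ← ht]

omit [IsNoetherianRing R] in
theorem height_le_localized (a p : Ideal R) :
    ((a ⊔ p).map (Ideal.Quotient.mk p)).height ≤
    ((a.map (algebraMap R (Localization S)) ⊔ p.map (algebraMap R (Localization S))).map
      (Ideal.Quotient.mk (p.map (algebraMap R (Localization S))))).height := by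
  have hI : ((a.map (algebraMap R (Localization S)) ⊔ p.map (algebraMap R (Localization S))).map
      (Ideal.Quotient.mk (p.map (algebraMap R (Localization S))))) =
      ((a ⊔ p).map (Ideal.Quotient.mk p)).map
        (algebraMap (R ⧸ p) (Localization S ⧸ p.map (algebraMap R (Localization S)))) := by
    rw [← Ideal.map_sup, Ideal.map_map, Ideal.map_map]
    congr 1
  rw [hI]
  calc ((a ⊔ p).map (Ideal.Quotient.mk p)).height
      ≤ ((((a ⊔ p).map (Ideal.Quotient.mk p)).map
        (algebraMap (R ⧸ p) (Localization S ⧸ p.map (algebraMap R (Localization S))))).under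
          (R ⧸ p)).height := Ideal.height_mono Ideal.le_comap_map
    _ = _ := IsLocalization.height_under (Algebra.algebraMapSubmonoid (R ⧸ p) S) _

theorem main (a b : Ideal R) (M : Type u) [AddCommGroup M] [Module R M] [Module.Finite R M] :
    LocCoh.minAdjDepth a b M ≤
      LocCoh.minAdjDepth (a.map (algebraMap R (Localization S)))
        (b.map (algebraMap R (Localization S))) (LocalizedModule S M) := by
  unfold LocCoh.minAdjDepth
  refine le_iInf₂ fun P hbP => ?_
  let p : PrimeSpectrum R := P.comap (algebraMap R (Localization S))
  have hmap : p.asIdeal.map (algebraMap R (Localization S)) = P.asIdeal :=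
    IsLocalization.map_under S _ P.asIdeal
  have hd : Disjoint (S : Set R) (p.asIdeal : Set R) :=
    ((IsLocalization.isPrime_iff_isPrime_disjoint S _ P.asIdeal).mp P.isPrime).2
  have hbp : ¬ b ≤ p.asIdeal := fun h => hbP (by rw [← hmap]; exact Ideal.map_mono h)
  refine iInf₂_le_of_le p hbp ?_
  haveI hPp : (p.asIdeal.map (algebraMap R (Localization S))).IsPrime := by
    rw [hmap]; exact P.isPrime
  have hP : P = ⟨p.asIdeal.map (algebraMap R (Localization S)), hPp⟩ :=
    PrimeSpectrum.ext hmap.symm
  rw [hP]
  unfold LocCoh.adjDepth
  haveI := p.isPrime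
  exact add_le_add (depth_localized_eq S p.asIdeal hd M).ge (height_le_localized S a p.asIdeal)

end Groth.Agent.Helper2.AdjLoc
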