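import Mathlib

set_option autoImplicit false
open TensorProduct KaehlerDifferential
universe u

namespace Groth.Agent.Helper2.HypSm

variable {k P : Type u} [CommRing k] [CommRing P] [Algebra k P] (f : P)

lemma ker_algebraMap_eq : RingHom.ker (algebraMap P (P ⧸ Ideal.span {f})) = Ideal.span {f} :=
  Ideal.mk_ker

lemma mem_ker : f ∈ RingHom.ker (algebraMap P (P ⧸ Ideal.span {f})) := by
  rw [ker_algebraMap_eq]; exact Ideal.mem_span_singleton_self f

/-- hypersurface criterion, sufficiency: a derivation with `D f = 1` gives formal smoothness of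
`P/(f)`. -/
theorem formallySmooth_of_derivation [Algebra.FormallySmooth k P]
    (D : Derivation k P (P ⧸ Ideal.span {f})) (hD : D f = 1) :
    Algebra.FormallySmooth k (P ⧸ Ideal.span {f}) := by
  rw [Algebra.FormallySmooth.iff_split_injection (P := P) Ideal.Quotient.mk_surjective]
  set I := RingHom.ker (algebraMap P (P ⧸ Ideal.span {f})) with hI
  have hfI : f ∈ I := mem_ker f
  let φ : (P ⧸ Ideal.span {f}) ⊗[P] Ω[P⁄k] →ₗ[P] (P ⧸ Ideal.span {f}) :=
    ((D.liftKaehlerDifferential).liftBaseChange (P ⧸ Ideal.span {f})).restrictScalars P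
  have hker : Ideal.span {f} ≤
      LinearMap.ker (LinearMap.toSpanSingleton P I.Cotangent (I.toCotangent ⟨f, hfI⟩)) := by
    intro g hg
    rw [LinearMap.mem_ker, LinearMap.toSpanSingleton_apply, ← map_smul,
      Ideal.toCotangent_eq_zero]
    show g * f ∈ I ^ 2
    rw [pow_two]
    exact Ideal.mul_mem_mul (by rw [hI, ker_algebraMap_eq]; exact hg) hfI
  let ψ : (P ⧸ Ideal.span {f}) →ₗ[P] I.Cotangent :=
    Submodule.liftQ (Ideal.span {f})
      (LinearMap.toSpanSingleton P I.Cotangent (I.toCotangent ⟨f, hfI⟩)) hker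
  refine ⟨ψ ∘ₗ φ, ?_⟩
  ext x
  obtain ⟨x, rfl⟩ := Ideal.toCotangent_surjective I x
  have hx : (x : P) ∈ Ideal.span {f} := by rw [← ker_algebraMap_eq f]; exact x.2
  obtain ⟨g, hg⟩ := Ideal.mem_span_singleton'.1 hx
  rw [LinearMap.comp_apply, LinearMap.comp_apply, kerCotangentToTensor_toCotangent,
    LinearMap.id_apply]
  have h1 : φ ((1 : P ⧸ Ideal.span {f}) ⊗ₜ[P] KaehlerDifferential.D k P x.1) = Ideal.Quotient.mk _ g := by
    show ((D.liftKaehlerDifferential).liftBaseChange (P ⧸ Ideal.span {f}))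
      ((1 : P ⧸ Ideal.span {f}) ⊗ₜ[P] KaehlerDifferential.D k P x.1) = _
    rw [LinearMap.liftBaseChange_tmul, one_smul, Derivation.liftKaehlerDifferential_comp_D, ← hg,
      Derivation.leibniz, hD]
    have : f • D g = 0 := by
      rw [← algebraMap_smul (P ⧸ Ideal.span {f}) f (D g), Ideal.Quotient.algebraMap_eq,
        Ideal.Quotient.eq_zero_iff_mem.2 (Ideal.mem_span_singleton_self f), zero_smul]
    rw [this, add_zero, Algebra.smul_def, mul_one]
    rfl
  rw [h1]
  show Submodule.liftQ _ _ hker (Submodule.Quotient.mk g) = _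
  rw [Submodule.liftQ_apply, LinearMap.toSpanSingleton_apply, ← map_smul]
  congr 1
  exact Subtype.ext hg

/-- hypersurface criterion, necessity: for a non-zero-divisor `f`, formal smoothness of `P/(f)`
gives a derivation with `D f = 1`. -/
theorem exists_derivation_of_formallySmooth [Algebra.FormallySmooth k P]
    (hf : ∀ g : P, g * f = 0 → g = 0)
    [Algebra.FormallySmooth k (P ⧸ Ideal.span {f})] :
    ∃ D : Derivation k P (P ⧸ Ideal.span {f}), D f = 1 := by
  set I := RingHom.ker (algebraMap P (P ⧸ Ideal.span {f})) with hI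
  obtain ⟨l, hl⟩ := (Algebra.FormallySmooth.iff_split_injection (R := k) (P := P)
    (A := P ⧸ Ideal.span {f}) Ideal.Quotient.mk_surjective).1 inferInstance
  have hfI : f ∈ I := mem_ker f
  -- `P ≃ I`
  have hbij : Function.Bijective (LinearMap.toSpanSingleton P I ⟨f, hfI⟩) := by
    constructor
    · rw [injective_iff_map_eq_zero]
      intro g hg
      rw [LinearMap.toSpanSingleton_apply] at hg
      have : g * f = 0 := congrArg Subtype.val hg
      exact hf g this
    · intro x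
      have hx : (x : P) ∈ Ideal.span {f} := by rw [← ker_algebraMap_eq f]; exact x.2
      obtain ⟨g, hg⟩ := Ideal.mem_span_singleton'.1 hx
      exact ⟨g, Subtype.ext hg⟩
  let e : P ≃ₗ[P] I := LinearEquiv.ofBijective _ hbij
  have he1 : e 1 = ⟨f, hfI⟩ := by
    show (1 : P) • (⟨f, hfI⟩ : I) = _
    rw [one_smul]
  let θ₀ : I →ₗ[P] (P ⧸ Ideal.span {f}) := (Ideal.span {f}).mkQ ∘ₗ e.symm.toLinearMap
  have hθ₀ : (I • (⊤ : Submodule P I)) ≤ LinearMap.ker θ₀ := by
    rw [Submodule.smul_le]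
    intro i hi x _
    rw [LinearMap.mem_ker, map_smul, ← algebraMap_smul (P ⧸ Ideal.span {f}) i (θ₀ x)]
    have : algebraMap P (P ⧸ Ideal.span {f}) i = 0 := hi
    rw [this, zero_smul]
  let θ : I.Cotangent →ₗ[P] (P ⧸ Ideal.span {f}) := Submodule.liftQ _ θ₀ hθ₀
  let m : Ω[P⁄k] →ₗ[P] (P ⧸ Ideal.span {f}) :=
    θ ∘ₗ l ∘ₗ (TensorProduct.mk P (P ⧸ Ideal.span {f}) Ω[P⁄k] 1)
  refine ⟨m.compDer (KaehlerDifferential.D k P), ?_⟩
  show θ (l ((1 : P ⧸ Ideal.span {f}) ⊗ₜ[P] KaehlerDifferential.D k P f)) = 1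
  have h1 : (1 : P ⧸ Ideal.span {f}) ⊗ₜ[P] KaehlerDifferential.D k P f =
      kerCotangentToTensor k P (P ⧸ Ideal.span {f}) (I.toCotangent ⟨f, hfI⟩) := rfl
  rw [h1]
  have h2 : l (kerCotangentToTensor k P (P ⧸ Ideal.span {f}) (I.toCotangent ⟨f, hfI⟩)) =
      I.toCotangent ⟨f, hfI⟩ := LinearMap.congr_fun hl _
  rw [h2]
  show θ₀ ⟨f, hfI⟩ = 1
  show (Ideal.span {f}).mkQ (e.symm ⟨f, hfI⟩) = 1
  rw [← he1, LinearEquiv.symm_apply_apply]
  rfl

end Groth.Agent.Helper2.HypSm
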