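import Mathlib
import Groth.Agent.Helper2.HypSm
import Groth.Agent.Helper2.RegSmooth2
import Groth.Agent.Lead.RegLocal

set_option autoImplicit false
open TensorProduct KaehlerDifferential Polynomial
universe u

namespace Groth.Agent.Helper2.AdjRootSm

/-- in a Noetherian ring all of whose local rings are domains, an irreducible element is a
non-zero-divisor. -/
theorem nzd_of_irreducible {A : Type u} [CommRing A] [IsNoetherianRing A]
    (hdom : ∀ (𝔭 : Ideal A) [𝔭.IsPrime], IsDomain (Localization.AtPrime 𝔭))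
    (s : A) (hs : Irreducible s) : ∀ a, a * s = 0 → a = 0 := by
  set J : Ideal A := Submodule.annihilator (Ideal.span {s} : Submodule A A) with hJ
  have hJmem : ∀ a, a ∈ J ↔ a * s = 0 := by
    intro a
    rw [hJ, Ideal.span, Submodule.mem_annihilator_span_singleton, smul_eq_mul]
  -- Step A
  have hA : ∀ a ∈ J, ∃ b ∈ J, a = a * b := by
    intro a ha
    have hK : J ⊔ Submodule.annihilator (Ideal.span {a} : Submodule A A) = ⊤ := by
      by_contra hne
      obtain ⟨𝔪, h𝔪, hle⟩ := Ideal.exists_le_maximal _ hne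
      haveI := h𝔪.isPrime
      haveI := hdom 𝔪
      have h0 : algebraMap A (Localization.AtPrime 𝔪) a * algebraMap A (Localization.AtPrime 𝔪) s
          = 0 := by
        rw [← map_mul, (hJmem a).1 ha, map_zero]
      rcases mul_eq_zero.1 h0 with h1 | h1
      · rw [IsLocalization.map_eq_zero_iff 𝔪.primeCompl] at h1
        obtain ⟨⟨u, hu⟩, hua⟩ := h1
        apply hu
        apply hle
        apply Submodule.mem_sup_right
        rw [Ideal.span, Submodule.mem_annihilator_span_singleton, smul_eq_mul]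
        exact hua
      · rw [IsLocalization.map_eq_zero_iff 𝔪.primeCompl] at h1
        obtain ⟨⟨u, hu⟩, hus⟩ := h1
        apply hu
        apply hle
        apply Submodule.mem_sup_left
        rw [hJmem]
        exact hus
    have h1 : (1 : A) ∈ J ⊔ Submodule.annihilator (Ideal.span {a} : Submodule A A) :=
      hK ▸ Submodule.mem_top
    obtain ⟨b, hb, c, hc, hbc⟩ := Submodule.mem_sup.1 h1
    rw [Ideal.span, Submodule.mem_annihilator_span_singleton, smul_eq_mul] at hc
    refine ⟨b, hb, ?_⟩
    calc a = a * (b + c) := by rw [hbc, mul_one]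
      _ = a * b + c * a := by ring
      _ = a * b := by rw [hc, add_zero]
  -- Step B
  have hB : IsIdempotentElem J := by
    apply le_antisymm
    · exact Ideal.mul_le_left
    · intro a ha
      obtain ⟨b, hb, hab⟩ := hA a ha
      rw [hab]
      exact Ideal.mul_mem_mul ha hb
  obtain ⟨ε, hε, hJε⟩ := (Ideal.isIdempotentElem_iff_of_fg J (IsNoetherian.noetherian J)).1 hB
  have hεs : ε * s = 0 := by
    rw [← hJmem, hJε]
    exact Ideal.mem_span_singleton_self ε
  have hs' : s = s * (1 - ε) := by
    rw [mul_sub, mul_one, mul_comm s ε, hεs, sub_zero]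
  have hunit : IsUnit (1 - ε) := by
    rcases hs.isUnit_or_isUnit hs' with h | h
    · exact absurd h hs.not_isUnit
    · exact h
  have hε0 : ε = 0 := by
    have : ε * (1 - ε) = 0 := by
      rw [mul_sub, mul_one, hε.eq, sub_self]
    exact (hunit.mul_left_eq_zero).1 this
  intro a ha
  have : a ∈ J := (hJmem a).2 ha
  rw [hJε, hε0] at this
  simpa using this

section Main
variable (k A : Type u) [Field k] [CommRing A] [Algebra k A] (s : A) (e : ℕ)

lemma nzd_f (he : e ≠ 0) : ∀ g : A[X], g * (X ^ e - C s) = 0 → g = 0 := fun _ hg =>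
  (Polynomial.monic_X_pow_sub_C s he).mul_left_eq_zero_iff.1 hg

/-- the `A`-algebra map `A[X]/(X^e - s) → A/(s)`, `X ↦ 0`. -/
noncomputable def piMap (he : e ≠ 0) :
    (A[X] ⧸ Ideal.span {X ^ e - C s}) →ₐ[A] (A ⧸ Ideal.span {s}) :=
  Ideal.Quotient.liftₐ (Ideal.span {X ^ e - C s}) (Polynomial.aeval (0 : A ⧸ Ideal.span {s})) (by
    intro g hg
    obtain ⟨h, rfl⟩ := Ideal.mem_span_singleton'.1 hg
    rw [map_mul, map_sub, map_pow, Polynomial.aeval_X, Polynomial.aeval_C, zero_pow he,
      Ideal.Quotient.algebraMap_eq, Ideal.Quotient.eq_zero_iff_mem.2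
        (Ideal.mem_span_singleton_self s), sub_zero, mul_zero])

lemma piMap_mk (he : e ≠ 0) (g : A[X]) :
    piMap A s e he (Ideal.Quotient.mk _ g) = Polynomial.aeval (0 : A ⧸ Ideal.span {s}) g := rfl

variable [Algebra.FormallySmooth k A]

theorem formallySmooth_quot_of_adjoin (he : 2 ≤ e)
    [Algebra.FormallySmooth k (A[X] ⧸ Ideal.span {X ^ e - C s})] :
    Algebra.FormallySmooth k (A ⧸ Ideal.span {s}) := by
  have he0 : e ≠ 0 := by omega
  haveI : Algebra.FormallySmooth k A[X] := Algebra.FormallySmooth.comp k A A[X]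
  obtain ⟨D, hD⟩ := HypSm.exists_derivation_of_formallySmooth (k := k) (X ^ e - C s)
    (nzd_f A s e he0)
  set π := piMap A s e he0 with hπ
  let L : A →ₗ[k] (A ⧸ Ideal.span {s}) :=
    (π.toLinearMap.restrictScalars k) ∘ₗ D.toLinearMap ∘ₗ
      (Polynomial.CAlgHom (R := k) (A := A)).toLinearMap
  have hL : ∀ a, L a = π (D (C a)) := fun a => rfl
  have hπsmul : ∀ (a : A) (x : A[X] ⧸ Ideal.span {X ^ e - C s}), π ((C a : A[X]) • x) = a • π x := by
    intro a x
    have : (C a : A[X]) • x = a • x := algebraMap_smul A[X] a x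
    rw [this, map_smul]
  let Dbar : Derivation k A (A ⧸ Ideal.span {s}) := Derivation.mk' L (by
    intro a b
    rw [hL, hL, hL, map_mul, Derivation.leibniz, map_add, hπsmul, hπsmul])
  have hDbar : Dbar s = -1 := by
    show L s = -1
    rw [hL]
    have h1 : D (X ^ e) - D (C s) = 1 := by rw [← map_sub]; exact hD
    have h2 : π (D (X ^ e)) = 0 := by
      rw [Derivation.leibniz_pow, map_nsmul]
      have : π ((X : A[X]) ^ (e - 1) • D X) = 0 := by
        rw [Algebra.smul_def, map_mul, Ideal.Quotient.algebraMap_eq, hπ, piMap_mk, map_pow,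
          Polynomial.aeval_X, zero_pow (by omega), zero_mul]
      rw [this, smul_zero]
    have h3 : π (D (C s)) = π (D (X ^ e)) - π 1 := by
      rw [← map_sub, ← h1]
      congr 1
      abel
    rw [h3, h2, map_one, zero_sub]
  exact HypSm.formallySmooth_of_derivation s (-Dbar) (by
    rw [Derivation.neg_apply, hDbar, neg_neg])

theorem formallySmooth_adjoin_of_quot (he : e ≠ 0) (hek : (e : k) ≠ 0)
    (hnzd : ∀ a, a * s = 0 → a = 0)
    [Algebra.FormallySmooth k (A ⧸ Ideal.span {s})] :
    Algebra.FormallySmooth k (A[X] ⧸ Ideal.span {X ^ e - C s}) := by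
  haveI : Algebra.FormallySmooth k A[X] := Algebra.FormallySmooth.comp k A A[X]
  obtain ⟨D', hD'⟩ := HypSm.exists_derivation_of_formallySmooth (k := k) s hnzd
  obtain ⟨l₀, hl₀⟩ := Module.projective_lifting_property (Ideal.span {s}).mkQ
    D'.liftKaehlerDifferential (Submodule.mkQ_surjective _)
  let D₀ : Derivation k A A := l₀.compDer (KaehlerDifferential.D k A)
  have hD₀ : Ideal.Quotient.mk (Ideal.span {s}) (D₀ s) = 1 := by
    have := LinearMap.congr_fun hl₀ (KaehlerDifferential.D k A s)
    rw [Derivation.liftKaehlerDifferential_comp_D, hD'] at this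
    exact this
  have hmem : D₀ s - 1 ∈ Ideal.span {s} := by
    rw [← Ideal.Quotient.eq_zero_iff_mem, map_sub, hD₀, map_one, sub_self]
  obtain ⟨a, ha⟩ := Ideal.mem_span_singleton'.1 hmem
  have hD₀s : D₀ s = 1 + a * s := by rw [ha]; ring
  -- the derivations on `A[X]`
  let D₁ : Derivation k A[X] (A[X] ⧸ Ideal.span {X ^ e - C s}) :=
    ((Ideal.span {X ^ e - C s}).mkQ ∘ₗ
      (PolynomialModule.equivPolynomialSelf (R := A)).toLinearMap).compDer D₀.mapCoeffs
  have hD₁X : D₁ X = 0 := by
    show (Ideal.span {X ^ e - C s}).mkQ (PolynomialModule.equivPolynomialSelf (D₀.mapCoeffs X)) = 0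
    rw [Derivation.mapCoeffs_X, map_zero, map_zero]
  have hD₁C : ∀ b : A, D₁ (C b) = Ideal.Quotient.mk _ (C (D₀ b)) := by
    intro b
    show (Ideal.span {X ^ e - C s}).mkQ
      (PolynomialModule.equivPolynomialSelf (D₀.mapCoeffs (C b))) = _
    rw [Derivation.mapCoeffs_C, PolynomialModule.equivPolynomialSelf_apply_eq,
      PolynomialModule.equivPolynomial_single, Polynomial.monomial_zero_left]
    rfl
  let Dd : Derivation k A[X] (A[X] ⧸ Ideal.span {X ^ e - C s}) :=
    ((Ideal.span {X ^ e - C s}).mkQ).compDer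
      ((Polynomial.derivative' (R := A)).restrictScalars k)
  have hDd : ∀ g : A[X], Dd g = Ideal.Quotient.mk _ (Polynomial.derivative g) := fun g => rfl
  let c : A := algebraMap k A ((e : k)⁻¹)
  have hce : c * (e : A) = 1 := by
    show algebraMap k A ((e : k)⁻¹) * (e : A) = 1
    rw [← map_natCast (algebraMap k A) e, ← map_mul, inv_mul_cancel₀ hek, map_one]
  let D : Derivation k A[X] (A[X] ⧸ Ideal.span {X ^ e - C s}) :=
    -D₁ - (X * C (a * c) : A[X]) • Dd
  refine HypSm.formallySmooth_of_derivation (X ^ e - C s) D ?_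
  show -D₁ (X ^ e - C s) - (X * C (a * c) : A[X]) • Dd (X ^ e - C s) = 1
  have h1 : D₁ (X ^ e - C s) = - Ideal.Quotient.mk _ (C (D₀ s)) := by
    rw [map_sub, Derivation.leibniz_pow, hD₁X, smul_zero, smul_zero, hD₁C, zero_sub]
  have h2 : (X * C (a * c) : A[X]) • Dd (X ^ e - C s) =
      Ideal.Quotient.mk _ (C a * X ^ e) := by
    rw [hDd, Polynomial.derivative_sub, Polynomial.derivative_X_pow, Polynomial.derivative_C,
      sub_zero]
    have hsm : ∀ (p q : A[X]), p • (Ideal.Quotient.mk (Ideal.span {X ^ e - C s}) q) =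
        Ideal.Quotient.mk (Ideal.span {X ^ e - C s}) (p * q) := fun p q => rfl
    rw [hsm]
    congr 1
    have hX : (X : A[X]) * X ^ (e - 1) = X ^ e := by
      rw [← pow_succ']
      congr 1
      omega
    calc X * C (a * c) * (C (e : A) * X ^ (e - 1))
        = C (a * (c * (e : A))) * (X * X ^ (e - 1)) := by
          rw [C_mul, C_mul, C_mul]; ring
      _ = C a * X ^ e := by rw [hce, mul_one, hX]
  rw [h1, h2, neg_neg, ← map_sub, hD₀s]
  have : C (1 + a * s) - C a * X ^ e = 1 - C a * (X ^ e - C s) := by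
    rw [C_add, C_mul, C_1]; ring
  rw [this, map_sub, map_one, map_mul,
    Ideal.Quotient.eq_zero_iff_mem.2 (Ideal.mem_span_singleton_self (X ^ e - C s)), mul_zero,
    sub_zero]

end Main

section Final

theorem s13782 (k A : Type u) [Field k] [CommRing A] [Algebra k A]
    [Algebra.Smooth k A] (s : A) (hs : Irreducible s) (e : ℕ) (he : 2 ≤ e) (hek : (e : k) ≠ 0) :
    Algebra.Smooth k (AdjoinRoot (Polynomial.X ^ e - Polynomial.C s)) ↔
      Algebra.Smooth k (A ⧸ Ideal.span {s}) := by
  have he0 : e ≠ 0 := by omega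
  let E : AdjoinRoot (X ^ e - C s) ≃ₐ[k] (A[X] ⧸ Ideal.span {X ^ e - C s}) := AlgEquiv.refl
  haveI : IsNoetherianRing A := Algebra.FiniteType.isNoetherianRing k A
  haveI : Algebra.FinitePresentation A (A ⧸ Ideal.span {s}) :=
    Algebra.FinitePresentation.quotient ⟨{s}, by simp⟩
  haveI : Algebra.FinitePresentation k (A ⧸ Ideal.span {s}) :=
    Algebra.FinitePresentation.trans k A _
  constructor
  · intro h
    haveI : Algebra.FormallySmooth k (A[X] ⧸ Ideal.span {X ^ e - C s}) :=
      Algebra.FormallySmooth.of_equiv E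
    haveI := formallySmooth_quot_of_adjoin k A s e he
    exact {}
  · intro h
    have hdom : ∀ (𝔭 : Ideal A) [𝔭.IsPrime], IsDomain (Localization.AtPrime 𝔭) := by
      intro 𝔭 _
      haveI : IsRegularLocalRing (Localization.AtPrime 𝔭) :=
        RegSmooth2.isRegularLocalRing_of_isSmoothAt k A 𝔭 inferInstance
      exact Groth.Agent.Lead.RegLocal.isDomain_of_isRegularLocalRing _
    have hnzd := nzd_of_irreducible hdom s hs
    haveI := formallySmooth_adjoin_of_quot k A s e he0 hek hnzd
    haveI : Algebra.FormallySmooth k (AdjoinRoot (X ^ e - C s)) :=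
      Algebra.FormallySmooth.of_equiv E.symm
    exact {}

end Final

end Groth.Agent.Helper2.AdjRootSm
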