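import Mathlib

set_option autoImplicit false
universe u
open CategoryTheory CategoryTheory.Limits

namespace Groth.Agent.Helper2.FPColim

/-- elementwise recognition of filtered colimits in `Under R`, `R` a commutative ring -/
noncomputable def isColimitUnderOfElementwise {R : CommRingCat.{u}} {J : Type u} [SmallCategory J]
    [IsFiltered J] (F : J ⥤ Under R) (c : Cocone F)
    (hsurj : ∀ x : c.pt.right, ∃ (j : J) (y : (F.obj j).right), (c.ι.app j).right.hom y = x)
    (hinj : ∀ (j : J) (y y' : (F.obj j).right),
      (c.ι.app j).right.hom y = (c.ι.app j).right.hom y' →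
        ∃ (k : J) (f : j ⟶ k), (F.map f).right.hom y = (F.map f).right.hom y') :
    IsColimit c := by
  haveI : IsConnected J := IsFiltered.isConnected J
  apply isColimitOfReflects (Under.forget R)
  haveI : ReflectsColimit (F ⋙ Under.forget R) (forget CommRingCat.{u}) :=
    reflectsColimit_of_reflectsIsomorphisms _ _
  apply isColimitOfReflects (forget CommRingCat.{u})
  refine Types.FilteredColimit.isColimitOf' _ _ ?_ ?_
  · intro x
    obtain ⟨j, y, hy⟩ := hsurj x
    exact ⟨j, y, hy.symm⟩
  · intro i x y h
    exact hinj i x y h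


section Quot

variable {R P : Type u} [CommRing R] [CommRing P] [Algebra R P] (K : Ideal P)

/-- finite subsets of the ideal `K` -/
def QIdx : Type u := {t : Finset P // (t : Set P) ⊆ (K : Set P)}

instance : Preorder (QIdx K) := Preorder.lift (fun t => t.1)

instance : Nonempty (QIdx K) := ⟨⟨∅, by simp⟩⟩

instance : IsDirected (QIdx K) (· ≤ ·) := by
  classical
  refine ⟨fun a b => ⟨⟨a.1 ∪ b.1, ?_⟩, ?_, ?_⟩⟩
  · rw [Finset.coe_union]
    exact Set.union_subset a.2 b.2
  · exact Finset.subset_union_left
  · exact Finset.subset_union_right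

theorem QIdx.span_mono {a b : QIdx K} (h : a ≤ b) :
    Ideal.span (a.1 : Set P) ≤ Ideal.span (b.1 : Set P) :=
  Ideal.span_mono (by exact_mod_cast h)

theorem QIdx.span_le (a : QIdx K) : Ideal.span (a.1 : Set P) ≤ K :=
  Ideal.span_le.mpr a.2

/-- the system `t ↦ P ⧸ (t)` -/
noncomputable def quotFunctor : QIdx K ⥤ Under (CommRingCat.of R) where
  obj t := Under.mk (CommRingCat.ofHom (algebraMap R (P ⧸ Ideal.span (t.1 : Set P))))
  map {a b} h := Under.homMk (CommRingCat.ofHom (Ideal.Quotient.factor (QIdx.span_mono K (leOfHom h))))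
    (by ext x; rfl)
  map_id a := by
    ext x
    obtain ⟨x, rfl⟩ := Ideal.Quotient.mk_surjective x
    rfl
  map_comp f g := by
    ext x
    obtain ⟨x, rfl⟩ := Ideal.Quotient.mk_surjective x
    rfl

/-- the cocone with vertex `P ⧸ K` -/
noncomputable def quotCocone : Cocone (quotFunctor (R := R) K) where
  pt := Under.mk (CommRingCat.ofHom (algebraMap R (P ⧸ K)))
  ι :=
    { app := fun t => Under.homMk (CommRingCat.ofHom (Ideal.Quotient.factor (QIdx.span_le K t)))
        (by ext x; rfl)
      naturality := fun a b h => by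
        ext x
        obtain ⟨x, rfl⟩ := Ideal.Quotient.mk_surjective x
        rfl }

noncomputable def quotCoconeIsColimit : IsColimit (quotCocone (R := R) K) := by
  classical
  apply isColimitUnderOfElementwise
  · intro x
    obtain ⟨p, rfl⟩ := Ideal.Quotient.mk_surjective x
    exact ⟨⟨∅, by simp⟩, Ideal.Quotient.mk _ p, rfl⟩
  · intro t y y' h
    obtain ⟨p, rfl⟩ := Ideal.Quotient.mk_surjective y
    obtain ⟨p', rfl⟩ := Ideal.Quotient.mk_surjective y'
    have h1 : Ideal.Quotient.mk K p = Ideal.Quotient.mk K p' := h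
    have h2 : p - p' ∈ K := (Ideal.Quotient.eq).mp h1
    let t' : QIdx K := ⟨insert (p - p') t.1, by
      rw [Finset.coe_insert]
      exact Set.insert_subset h2 t.2⟩
    have htt' : t ≤ t' := Finset.subset_insert _ _
    refine ⟨t', homOfLE htt', ?_⟩
    show Ideal.Quotient.mk (Ideal.span (t'.1 : Set P)) p = Ideal.Quotient.mk _ p'
    rw [Ideal.Quotient.eq]
    exact Ideal.subset_span (Finset.mem_insert_self _ _)

theorem quotFunctor_map_surjective {a b : QIdx K} (h : a ⟶ b) :
    Function.Surjective ((quotFunctor (R := R) K).map h).right.hom :=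
  Ideal.Quotient.factor_surjective (QIdx.span_mono K (leOfHom h))

theorem quotFunctor_obj_finitePresentation [Algebra.FinitePresentation R P] (t : QIdx K) :
    ((quotFunctor (R := R) K).obj t).hom.hom.FinitePresentation := by
  show (algebraMap R (P ⧸ Ideal.span (t.1 : Set P))).FinitePresentation
  rw [RingHom.finitePresentation_algebraMap]
  exact Algebra.FinitePresentation.quotient ⟨t.1, rfl⟩

end Quot


/-- `Under` objects of isomorphic algebras are isomorphic -/
noncomputable def underIsoOfAlgEquiv {R A B : Type u} [CommRing R] [CommRing A] [CommRing B]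
    [Algebra R A] [Algebra R B] (e : A ≃ₐ[R] B) :
    (Under.mk (CommRingCat.ofHom (algebraMap R A)) : Under (CommRingCat.of R)) ≅
      Under.mk (CommRingCat.ofHom (algebraMap R B)) :=
  Under.isoMk e.toRingEquiv.toCommRingCatIso (by
    ext x
    exact e.commutes x)

/-- S9179 -/
theorem exists_surjective_system (R A : Type u) [CommRing R] [CommRing A]
    [Algebra R A] [Algebra.FiniteType R A] :
    ∃ (I : Type u) (_ : SmallCategory I) (_ : IsFiltered I) (D : I ⥤ Under (CommRingCat.of R))
      (c : Cocone D) (_ : IsColimit c),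
      (∀ i, (D.obj i).hom.hom.FinitePresentation) ∧
      (∀ (i j : I) (φ : i ⟶ j), Function.Surjective (D.map φ).right.hom) ∧
      Nonempty (c.pt ≅ Under.mk (CommRingCat.ofHom (algebraMap R A))) := by
  obtain ⟨n, φ, hφ⟩ := Algebra.FiniteType.iff_quotient_mvPolynomial''.mp
    (inferInstance : Algebra.FiniteType R A)
  let K : Ideal (MvPolynomial (Fin n) R) := RingHom.ker φ.toRingHom
  refine ⟨QIdx K, inferInstance, inferInstance, quotFunctor K, quotCocone K, quotCoconeIsColimit K,
    fun i => quotFunctor_obj_finitePresentation K i,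
    fun i j h => quotFunctor_map_surjective K h, ⟨?_⟩⟩
  exact underIsoOfAlgEquiv (Ideal.quotientKerAlgEquivOfSurjective hφ)

end Groth.Agent.Helper2.FPColim
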