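import Mathlib
import Groth.Agent.Helper2.FPColim

set_option autoImplicit false
universe u
open CategoryTheory CategoryTheory.Limits

namespace Groth.Agent.Helper2.FPColim

section General

variable (R B : Type u) [CommRing R] [CommRing B] [Algebra R B]

/-- finite sets of elements of `B` together with finitely many relations among them -/
structure GIdx : Type u where
  s : Finset B
  t : Finset (MvPolynomial s R)
  ht : ∀ p ∈ t, MvPolynomial.aeval (fun b : s => (b : B)) p = 0

variable {R B}

/-- inclusion of finite subsets as a map of subtypes -/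
def incl {s s' : Finset B} (h : s ⊆ s') : s → s' := fun x => ⟨x.1, h x.2⟩

theorem incl_refl {s : Finset B} (h : s ⊆ s) : incl h = id := rfl

theorem incl_comp {s s' s'' : Finset B} (h : s ⊆ s') (h' : s' ⊆ s'') :
    incl h' ∘ incl h = incl (h.trans h') := rfl

namespace GIdx

/-- the ideal of relations -/
noncomputable def rel (i : GIdx R B) : Ideal (MvPolynomial i.s R) := Ideal.span (i.t : Set (MvPolynomial i.s R))

/-- the evaluation map -/
noncomputable def ev (i : GIdx R B) : MvPolynomial i.s R →ₐ[R] B :=
  MvPolynomial.aeval (fun b : i.s => (b : B))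

theorem rel_le_ker (i : GIdx R B) : i.rel ≤ RingHom.ker i.ev.toRingHom := by
  rw [rel, Ideal.span_le]
  intro p hp
  exact i.ht p hp

theorem ev_rename {i j : GIdx R B} (h : i.s ⊆ j.s) (p : MvPolynomial i.s R) :
    j.ev (MvPolynomial.rename (incl h) p) = i.ev p := by
  rw [ev, ev, MvPolynomial.aeval_rename]
  rfl

instance : LE (GIdx R B) where
  le i j := ∃ h : i.s ⊆ j.s, i.rel ≤ j.rel.comap (MvPolynomial.rename (incl h) : _ →ₐ[R] _)

theorem le_def {i j : GIdx R B} :
    i ≤ j ↔ ∃ h : i.s ⊆ j.s, i.rel ≤ j.rel.comap (MvPolynomial.rename (incl h) : _ →ₐ[R] _) :=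
  Iff.rfl

instance : Preorder (GIdx R B) where
  le_refl i := ⟨Finset.Subset.refl _, by
    intro p hp
    rw [Ideal.mem_comap, incl_refl, MvPolynomial.rename_id_apply]
    exact hp⟩
  le_trans i j k := by
    rintro ⟨h1, h1'⟩ ⟨h2, h2'⟩
    refine ⟨h1.trans h2, ?_⟩
    intro p hp
    have := h2' (h1' hp)
    rw [Ideal.mem_comap, MvPolynomial.rename_rename, incl_comp] at this
    exact this

instance : Nonempty (GIdx R B) := ⟨⟨∅, ∅, by simp⟩⟩

instance : IsDirected (GIdx R B) (· ≤ ·) := by
  classical
  refine ⟨fun i j => ?_⟩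
  have hi : i.s ⊆ i.s ∪ j.s := Finset.subset_union_left
  have hj : j.s ⊆ i.s ∪ j.s := Finset.subset_union_right
  let k : GIdx R B :=
    { s := i.s ∪ j.s
      t := i.t.image (MvPolynomial.rename (incl hi)) ∪ j.t.image (MvPolynomial.rename (incl hj))
      ht := by
        intro p hp
        rcases Finset.mem_union.mp hp with hp | hp
        · obtain ⟨q, hq, rfl⟩ := Finset.mem_image.mp hp
          rw [MvPolynomial.aeval_rename]
          exact i.ht q hq
        · obtain ⟨q, hq, rfl⟩ := Finset.mem_image.mp hp
          rw [MvPolynomial.aeval_rename]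
          exact j.ht q hq }
  refine ⟨k, ⟨hi, ?_⟩, ⟨hj, ?_⟩⟩
  · rw [rel, Ideal.span_le]
    intro p hp
    exact Ideal.subset_span (Finset.mem_union_left _ (Finset.mem_image_of_mem _ hp))
  · rw [rel, Ideal.span_le]
    intro p hp
    exact Ideal.subset_span (Finset.mem_union_right _ (Finset.mem_image_of_mem _ hp))

/-- the algebra at a stage -/
abbrev Alg (i : GIdx R B) : Type u := MvPolynomial i.s R ⧸ i.rel

/-- transition maps -/
noncomputable def trans {i j : GIdx R B} (h : i ≤ j) : Alg i →ₐ[R] Alg j :=
  Ideal.quotientMapₐ j.rel (MvPolynomial.rename (incl h.1)) h.2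

theorem trans_mk {i j : GIdx R B} (h : i ≤ j) (p : MvPolynomial i.s R) :
    trans h (Ideal.Quotient.mk _ p) = Ideal.Quotient.mk _ (MvPolynomial.rename (incl h.1) p) := rfl

/-- the map to `B` -/
noncomputable def toB (i : GIdx R B) : Alg i →ₐ[R] B :=
  Ideal.Quotient.liftₐ i.rel i.ev (fun p hp => i.rel_le_ker hp)

theorem toB_mk (i : GIdx R B) (p : MvPolynomial i.s R) :
    toB i (Ideal.Quotient.mk _ p) = i.ev p := rfl

theorem finitePresentation (i : GIdx R B) : Algebra.FinitePresentation R (Alg i) :=
  Algebra.FinitePresentation.quotient ⟨i.t, rfl⟩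

end GIdx

/-- the system of finitely presented algebras -/
noncomputable def genFunctor : GIdx R B ⥤ Under (CommRingCat.of R) where
  obj i := Under.mk (CommRingCat.ofHom (algebraMap R (GIdx.Alg i)))
  map {i j} h := Under.homMk (CommRingCat.ofHom (GIdx.trans (leOfHom h)).toRingHom)
    (by ext x; exact (GIdx.trans (leOfHom h)).commutes x)
  map_id i := by
    ext x
    obtain ⟨p, rfl⟩ := Ideal.Quotient.mk_surjective x
    show GIdx.trans (leOfHom (𝟙 i)) (Ideal.Quotient.mk _ p) = Ideal.Quotient.mk _ p
    rw [GIdx.trans_mk, incl_refl, MvPolynomial.rename_id_apply]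
  map_comp {i j k} f g := by
    ext x
    obtain ⟨p, rfl⟩ := Ideal.Quotient.mk_surjective x
    show GIdx.trans (leOfHom (f ≫ g)) (Ideal.Quotient.mk _ p) =
      GIdx.trans (leOfHom g) (GIdx.trans (leOfHom f) (Ideal.Quotient.mk _ p))
    rw [GIdx.trans_mk, GIdx.trans_mk, GIdx.trans_mk, MvPolynomial.rename_rename, incl_comp]

/-- the cocone with vertex `B` -/
noncomputable def genCocone : Cocone (genFunctor (R := R) (B := B)) where
  pt := Under.mk (CommRingCat.ofHom (algebraMap R B))
  ι :=
    { app := fun i => Under.homMk (CommRingCat.ofHom (GIdx.toB i).toRingHom)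
        (by ext x; exact (GIdx.toB i).commutes x)
      naturality := fun i j h => by
        ext x
        obtain ⟨p, rfl⟩ := Ideal.Quotient.mk_surjective x
        show GIdx.toB j (GIdx.trans (leOfHom h) (Ideal.Quotient.mk _ p)) =
          GIdx.toB i (Ideal.Quotient.mk _ p)
        rw [GIdx.trans_mk, GIdx.toB_mk, GIdx.toB_mk, GIdx.ev_rename] }

noncomputable def genCoconeIsColimit : IsColimit (genCocone (R := R) (B := B)) := by
  classical
  apply isColimitUnderOfElementwise
  · intro b
    let i : GIdx R B := ⟨{b}, ∅, by simp⟩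
    refine ⟨i, Ideal.Quotient.mk _ (MvPolynomial.X ⟨b, Finset.mem_singleton_self b⟩), ?_⟩
    show GIdx.toB i (Ideal.Quotient.mk _ _) = b
    rw [GIdx.toB_mk, GIdx.ev, MvPolynomial.aeval_X]
  · intro i y y' h
    obtain ⟨p, rfl⟩ := Ideal.Quotient.mk_surjective y
    obtain ⟨p', rfl⟩ := Ideal.Quotient.mk_surjective y'
    have h1 : i.ev p = i.ev p' := h
    let j : GIdx R B :=
      { s := i.s
        t := insert (p - p') i.t
        ht := by
          intro q hq
          rcases Finset.mem_insert.mp hq with rfl | hq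
          · have : i.ev (p - p') = 0 := by rw [map_sub, h1, sub_self]
            exact this
          · exact i.ht q hq }
    have hij : i ≤ j := ⟨Finset.Subset.refl _, by
      rw [GIdx.rel, Ideal.span_le]
      intro q hq
      show MvPolynomial.rename (incl _) q ∈ j.rel
      rw [incl_refl, MvPolynomial.rename_id_apply]
      exact Ideal.subset_span (Finset.mem_insert_of_mem hq)⟩
    refine ⟨j, homOfLE hij, ?_⟩
    show GIdx.trans hij (Ideal.Quotient.mk _ p) = GIdx.trans hij (Ideal.Quotient.mk _ p')
    rw [GIdx.trans_mk, GIdx.trans_mk, incl_refl, MvPolynomial.rename_id_apply,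
      MvPolynomial.rename_id_apply, Ideal.Quotient.eq]
    exact Ideal.subset_span (Finset.mem_insert_self _ _)

theorem genFunctor_obj_finitePresentation (i : GIdx R B) :
    ((genFunctor (R := R) (B := B)).obj i).hom.hom.FinitePresentation := by
  show (algebraMap R (GIdx.Alg i)).FinitePresentation
  rw [RingHom.finitePresentation_algebraMap]
  exact GIdx.finitePresentation i

end General

/-- S9183 -/
theorem exists_fp_system (R A : Type u) [CommRing R] [CommRing A] [Algebra R A] :
    ∃ (I : Type u) (_ : SmallCategory I) (_ : IsFiltered I) (D : I ⥤ Under (CommRingCat.of R))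
      (c : Cocone D) (_ : IsColimit c),
      (∀ i, (D.obj i).hom.hom.FinitePresentation) ∧
      Nonempty (c.pt ≅ Under.mk (CommRingCat.ofHom (algebraMap R A))) :=
  ⟨GIdx R A, inferInstance, inferInstance, genFunctor, genCocone, genCoconeIsColimit,
    fun i => genFunctor_obj_finitePresentation i, ⟨Iso.refl _⟩⟩

end Groth.Agent.Helper2.FPColim
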