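import Mathlib
import Groth.Agent.Helper2.FPColim2

set_option autoImplicit false

namespace Groth.Agent.Helper2.AlgCatFP

open CategoryTheory CategoryTheory.Limits Groth.Agent.Helper2.FPColim

universe u

variable (A : Type u) [CommRing A] (F : CommAlgCat.{u} A ⥤ Type u)
  [PreservesFilteredColimitsOfSize.{u, u} F]

/-- elements of a filtered-colimit-preserving functor on algebras come from finitely presented
algebras. -/
theorem exists_fp_of_preserves (B : Type u) [CommRing B] [Algebra A B]
    (ξ : F.obj (CommAlgCat.of A B)) :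
    ∃ (B₀ : Type u) (_ : CommRing B₀) (_ : Algebra A B₀) (_ : Algebra.FinitePresentation A B₀)
      (u : B₀ →ₐ[A] B) (ξ₀ : F.obj (CommAlgCat.of A B₀)),
      F.map (CommAlgCat.ofHom u) ξ₀ = ξ := by
  classical
  let E := commAlgCatEquivUnder (CommRingCat.of A)
  let c : Cocone (genFunctor (R := A) (B := B) ⋙ E.inverse) :=
    E.inverse.mapCocone genCocone
  have hc : IsColimit c := isColimitOfPreserves E.inverse genCoconeIsColimit
  haveI : PreservesColimitsOfShape (GIdx A B) F :=
    PreservesFilteredColimitsOfSize.preserves_filtered_colimits _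
  have hFc : IsColimit (F.mapCocone c) := isColimitOfPreserves F hc
  let θ : CommAlgCat.of A B ≅ c.pt := E.unitIso.app (CommAlgCat.of A B)
  obtain ⟨i, ξi, hξi⟩ := Types.jointly_surjective_of_isColimit hFc (F.map θ.hom ξ)
  let θi : CommAlgCat.of A (GIdx.Alg i) ≅ (genFunctor (R := A) (B := B) ⋙ E.inverse).obj i :=
    E.unitIso.app (CommAlgCat.of A (GIdx.Alg i))
  refine ⟨GIdx.Alg i, inferInstance, inferInstance, GIdx.finitePresentation i, GIdx.toB i,
    F.map θi.inv ξi, ?_⟩
  have hcomm : θi.inv ≫ CommAlgCat.ofHom (GIdx.toB i) = c.ι.app i ≫ θ.inv := by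
    ext x
    rfl
  have h1 : F.map (CommAlgCat.ofHom (GIdx.toB i)) (F.map θi.inv ξi) =
      F.map θ.inv (F.map (c.ι.app i) ξi) := by
    rw [← FunctorToTypes.map_comp_apply, ← FunctorToTypes.map_comp_apply, hcomm]
  have h2 : F.map (c.ι.app i) ξi = F.map θ.hom ξ := hξi
  rw [h1, h2, ← FunctorToTypes.map_comp_apply, θ.hom_inv_id, FunctorToTypes.map_id_apply]

end Groth.Agent.Helper2.AlgCatFP
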