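import Mathlib
import Groth.Agent.Helper2.AlgCatFP

set_option autoImplicit false

namespace Groth.Agent.Helper2.AlgCatFP

open CategoryTheory CategoryTheory.Limits Groth.Agent.Helper2.FPColim

universe u

variable (A : Type u) [CommRing A] (F : CommAlgCat.{u} A ⥤ Type u)
  [PreservesFilteredColimitsOfSize.{u, u} F]

/-- the base ring is initial among its algebras. -/
theorem hom_ext_of_self {X : CommAlgCat.{u} A} (f g : CommAlgCat.of A A ⟶ X) : f = g := by
  ext

/-- two elements over the base ring which agree in a filtered-colimit-preserving functor after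
passing to an algebra already agree over a finitely presented algebra mapping to it. -/
theorem exists_fp_eq_of_preserves (B : Type u) [CommRing B] [Algebra A B]
    (x x' : F.obj (CommAlgCat.of A A))
    (hxx : F.map (CommAlgCat.ofHom (Algebra.ofId A B)) x =
      F.map (CommAlgCat.ofHom (Algebra.ofId A B)) x') :
    ∃ (B₀ : Type u) (_ : CommRing B₀) (_ : Algebra A B₀) (_ : Algebra.FinitePresentation A B₀)
      (_ : B₀ →ₐ[A] B),
      F.map (CommAlgCat.ofHom (Algebra.ofId A B₀)) x =
        F.map (CommAlgCat.ofHom (Algebra.ofId A B₀)) x' := by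
  classical
  let E := commAlgCatEquivUnder (CommRingCat.of A)
  let c : Cocone (genFunctor (R := A) (B := B) ⋙ E.inverse) :=
    E.inverse.mapCocone genCocone
  have hc : IsColimit c := isColimitOfPreserves E.inverse genCoconeIsColimit
  haveI : PreservesColimitsOfShape (GIdx A B) F :=
    PreservesFilteredColimitsOfSize.preserves_filtered_colimits _
  have hFc : IsColimit (F.mapCocone c) := isColimitOfPreserves F hc
  let θ : CommAlgCat.of A B ≅ c.pt := E.unitIso.app (CommAlgCat.of A B)
  let i₀ : GIdx A B := ⟨∅, ∅, by simp⟩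
  let a₀ : CommAlgCat.of A A ⟶ (genFunctor (R := A) (B := B) ⋙ E.inverse).obj i₀ :=
    CommAlgCat.ofHom (Algebra.ofId A (GIdx.Alg i₀)) ≫
      (E.unitIso.app (CommAlgCat.of A (GIdx.Alg i₀))).hom
  have h1 : (F.mapCocone c).ι.app i₀ (F.map a₀ x) = (F.mapCocone c).ι.app i₀ (F.map a₀ x') := by
    show F.map (c.ι.app i₀) (F.map a₀ x) = F.map (c.ι.app i₀) (F.map a₀ x')
    rw [← FunctorToTypes.map_comp_apply, ← FunctorToTypes.map_comp_apply,
      hom_ext_of_self A (a₀ ≫ c.ι.app i₀) (CommAlgCat.ofHom (Algebra.ofId A B) ≫ θ.hom),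
      FunctorToTypes.map_comp_apply, FunctorToTypes.map_comp_apply, hxx]
  obtain ⟨k, f, g, hfg⟩ := (Types.FilteredColimit.isColimit_eq_iff _ hFc).1 h1
  let θk : CommAlgCat.of A (GIdx.Alg k) ≅ (genFunctor (R := A) (B := B) ⋙ E.inverse).obj k :=
    E.unitIso.app (CommAlgCat.of A (GIdx.Alg k))
  refine ⟨GIdx.Alg k, inferInstance, inferInstance, GIdx.finitePresentation k, GIdx.toB k, ?_⟩
  have h2 : F.map ((genFunctor (R := A) (B := B) ⋙ E.inverse).map f) (F.map a₀ x) =
      F.map ((genFunctor (R := A) (B := B) ⋙ E.inverse).map g) (F.map a₀ x') := hfg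
  rw [hom_ext_of_self A (CommAlgCat.ofHom (Algebra.ofId A (GIdx.Alg k)))
    ((a₀ ≫ (genFunctor (R := A) (B := B) ⋙ E.inverse).map f) ≫ θk.inv)]
  have h3 : (a₀ ≫ (genFunctor (R := A) (B := B) ⋙ E.inverse).map f) ≫ θk.inv =
      (a₀ ≫ (genFunctor (R := A) (B := B) ⋙ E.inverse).map g) ≫ θk.inv :=
    hom_ext_of_self A _ _
  rw [FunctorToTypes.map_comp_apply, FunctorToTypes.map_comp_apply, h2,
    ← FunctorToTypes.map_comp_apply, ← FunctorToTypes.map_comp_apply]
  exact congrArg (fun φ => F.map φ x') (hom_ext_of_self A _ _)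

end Groth.Agent.Helper2.AlgCatFP
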