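import Mathlib

set_option autoImplicit false
universe u
open IntermediateField MvPolynomial

namespace Groth.Agent.Helper2.AlgClosureFG

variable {k K : Type u} [Field k] [Field K] [Algebra k K]

/-- linear disjointness of the algebraic closure and a purely transcendental subring -/
lemma linearIndependent_adjoin {ι : Type*} {x : ι → K} (hx : AlgebraicIndependent k x)
    {κ : Type*} (l : κ → algebraicClosure k K) (hl : LinearIndependent k l) :
    LinearIndependent (Algebra.adjoin k (Set.range x)) (fun i => (l i : K)) := by
  classical
  have hxL : AlgebraicIndependent (algebraicClosure k K) x := hx.algebraicClosure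
  rw [linearIndependent_iff']
  intro s g hg i hi
  have hgmem : ∀ j, ∃ f : MvPolynomial ι k, aeval x f = (g j : K) := by
    intro j
    have h1 : ((g j : Algebra.adjoin k (Set.range x)) : K) ∈ (aeval x : MvPolynomial ι k →ₐ[k] K).range := by
      rw [← Algebra.adjoin_range_eq_range_aeval]
      exact (g j).2
    exact h1
  choose f hf using hgmem
  let F : MvPolynomial ι (algebraicClosure k K) :=
    ∑ j ∈ s, C (l j) * map (algebraMap k (algebraicClosure k K)) (f j)
  have hF : aeval x F = 0 := by
    simp only [F, map_sum, map_mul, aeval_C, aeval_map_algebraMap, hf]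
    rw [← hg]
    apply Finset.sum_congr rfl
    intro j _
    rw [mul_comm]
    rfl
  have hF0 : F = 0 := by
    have := hxL
    rw [AlgebraicIndependent] at this
    exact this (by rw [hF, map_zero])
  have hcoef : ∀ m : ι →₀ ℕ, ∀ j ∈ s, coeff m (f j) = 0 := by
    intro m
    have h1 : coeff m F = 0 := by rw [hF0, coeff_zero]
    simp only [F, coeff_sum, coeff_C_mul, coeff_map] at h1
    have h2 : ∑ j ∈ s, coeff m (f j) • l j = 0 := by
      rw [← h1]
      apply Finset.sum_congr rfl
      intro j _
      rw [Algebra.smul_def, mul_comm]
    exact linearIndependent_iff'.1 hl s (fun j => coeff m (f j)) h2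
  have hfi : f i = 0 := by
    ext m
    rw [hcoef m i hi, coeff_zero]
  apply Subtype.ext
  rw [← hf i, hfi, map_zero]
  rfl

end Groth.Agent.Helper2.AlgClosureFG
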