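import Mathlib
import Groth.Prelude.Def_Found
import Groth.Agent.Helper4.Japanese
import Groth.Agent.Helper5.NagataRed

set_option autoImplicit false
set_option linter.style.haveILetI false

namespace Groth.Agent.Helper2.AnUnr1

universe u

attribute [local instance] FractionRing.liftAlgebra

/-- Domain case: `C` Nagata, `R` a localization of `C`, `U` a domain over `R` spanned over `R` by
finitely many elements integral over `C`. Then the integral closure of `C` in `U` is finite. -/
theorem finite_integralClosure_of_span (C : Type u) [CommRing C] (hC : CAlg.IsNagata C)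
    (M : Submonoid C) (R : Type u) [CommRing R] [Algebra C R] [IsLocalization M R]
    (U : Type u) [CommRing U] [IsDomain U] [Algebra C U] [Algebra R U] [IsScalarTower C R U]
    {ι : Type*} [Finite ι] (β : ι → U) (hβ : ∀ i, IsIntegral C (β i))
    (hspan : Submodule.span R (Set.range β) = ⊤) :
    Module.Finite C (integralClosure C U) := by
  haveI := hC.1
  haveI hp : (RingHom.ker (algebraMap C U)).IsPrime := RingHom.ker_isPrime _
  have hN2 := hC.2 (RingHom.ker (algebraMap C U))
  set D := C ⧸ RingHom.ker (algebraMap C U) with hD
  letI : Algebra D U := (RingHom.kerLift (algebraMap C U)).toAlgebra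
  haveI : IsScalarTower C D U := IsScalarTower.of_algebraMap_eq (fun x => rfl)
  have hinj : Function.Injective (algebraMap D U) := RingHom.kerLift_injective _
  refine Groth.Agent.Helper5.NagataRed.finite_of_surjective C D U Ideal.Quotient.mk_surjective ?_
  let F := FractionRing U
  let κ := FractionRing D
  haveI : FaithfulSMul D F := by
    rw [faithfulSMul_iff_algebraMap_injective, IsScalarTower.algebraMap_eq D U F]
    exact (IsFractionRing.injective U F).comp hinj
  -- the intermediate field generated by the β's
  let E : IntermediateField κ F := IntermediateField.adjoin κ (Set.range (fun i => algebraMap U F (β i)))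
  have hβint : ∀ i, IsIntegral κ (algebraMap U F (β i)) := by
    intro i
    have h1 : IsIntegral D (β i) := (hβ i).tower_top
    have h2 : IsIntegral D (algebraMap U F (β i)) := h1.map (IsScalarTower.toAlgHom D U F)
    exact h2.tower_top
  haveI hEfin : FiniteDimensional κ E := by
    apply IntermediateField.finiteDimensional_adjoin
    rintro _ ⟨i, rfl⟩
    exact hβint i
  -- images of C lie in E
  have hCE : ∀ c : C, algebraMap U F (algebraMap C U c) ∈ E := by
    intro c
    have : algebraMap U F (algebraMap C U c) = algebraMap κ F (algebraMap D κ (Ideal.Quotient.mk _ c)) := by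
      rw [← IsScalarTower.algebraMap_apply D κ F, IsScalarTower.algebraMap_apply D U F]
      rfl
    rw [this]
    exact E.algebraMap_mem _
  -- images of R lie in E
  have hRE : ∀ r : R, algebraMap U F (algebraMap R U r) ∈ E := by
    intro r
    obtain ⟨⟨d, m⟩, hdm⟩ := IsLocalization.surj M r
    simp only at hdm
    have h1 : algebraMap U F (algebraMap R U r) * algebraMap U F (algebraMap C U m) =
        algebraMap U F (algebraMap C U d) := by
      rw [IsScalarTower.algebraMap_apply C R U, IsScalarTower.algebraMap_apply C R U, ← map_mul,
        ← map_mul, hdm]
    have hm : algebraMap U F (algebraMap C U m) ≠ 0 := by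
      have hu : IsUnit (algebraMap C R m) := IsLocalization.map_units R m
      have hu' : IsUnit (algebraMap U F (algebraMap C U m)) := by
        rw [IsScalarTower.algebraMap_apply C R U]
        exact (hu.map (algebraMap R U)).map (algebraMap U F)
      exact hu'.ne_zero
    have h2 : algebraMap U F (algebraMap R U r) =
        algebraMap U F (algebraMap C U d) / algebraMap U F (algebraMap C U m) := by
      rw [eq_div_iff hm, h1]
    rw [h2]
    exact E.div_mem (hCE d) (hCE m)
  -- images of U lie in E
  have hUE : ∀ u : U, algebraMap U F u ∈ E := by
    intro u
    have hu : u ∈ Submodule.span R (Set.range β) := hspan ▸ Submodule.mem_top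
    induction hu using Submodule.span_induction with
    | mem x hx =>
      obtain ⟨i, rfl⟩ := hx
      exact IntermediateField.subset_adjoin κ _ ⟨i, rfl⟩
    | zero => rw [map_zero]; exact E.zero_mem
    | add x y _ _ hx hy => rw [map_add]; exact E.add_mem hx hy
    | smul r x _ hx =>
      rw [Algebra.smul_def, map_mul]
      exact E.mul_mem (hRE r) hx
  have hEtop : E = ⊤ := by
    rw [eq_top_iff]
    intro f _
    obtain ⟨u, v, hv, rfl⟩ := IsFractionRing.div_surjective (A := U) f
    exact E.div_mem (hUE u) (hUE v)
  haveI : FiniteDimensional κ F := by
    have e : E ≃ₐ[κ] F := (IntermediateField.equivOfEq hEtop).trans IntermediateField.topEquiv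
    exact Module.Finite.equiv e.toLinearEquiv
  haveI : IsNoetherianRing D := inferInstance
  haveI h1 : Module.Finite D (integralClosure D F) :=
    Groth.Agent.Helper4.Japanese.IsN2.finite hN2 κ F
  haveI : IsNoetherian D (integralClosure D F) := isNoetherian_of_isNoetherianRing_of_finite _ _
  let φ : integralClosure D U →ₗ[D] integralClosure D F :=
    { toFun := fun t => ⟨algebraMap U F t.1, t.2.map (IsScalarTower.toAlgHom D U F)⟩
      map_add' := fun a b => Subtype.ext (map_add _ _ _)
      map_smul' := fun r a => Subtype.ext (by
        change algebraMap U F (r • (a : U)) = r • algebraMap U F (a : U)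
        rw [Algebra.smul_def, map_mul, Algebra.smul_def, ← IsScalarTower.algebraMap_apply D U F]) }
  refine Module.Finite.of_injective φ (fun a b hab => ?_)
  apply Subtype.ext
  exact IsFractionRing.injective U F (congrArg (fun z : integralClosure D F => (z : F)) hab)

end Groth.Agent.Helper2.AnUnr1
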