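import Mathlib

set_option autoImplicit false
set_option linter.style.haveILetI false

namespace Groth.Agent.Helper2.PSNormal

universe u

open PowerSeries

section

variable {A : Type u} [CommRing A] [IsDomain A] {K : Type u} [Field K] [Algebra A K]
  [IsFractionRing A K]

theorem exists_of_X_pow_mul (m : ℕ) (c : A⟦X⟧) (g : K⟦X⟧)
    (h : PowerSeries.map (algebraMap A K) c = X ^ m * g) :
    ∃ c' : A⟦X⟧, c = X ^ m * c' ∧ PowerSeries.map (algebraMap A K) c' = g := by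
  have h1 : (X : A⟦X⟧) ^ m ∣ c := by
    rw [X_pow_dvd_iff]
    intro j hj
    have h2 : coeff j (PowerSeries.map (algebraMap A K) c) = 0 := by
      rw [h]
      exact (X_pow_dvd_iff.mp ⟨g, rfl⟩) j hj
    rw [coeff_map] at h2
    exact (IsFractionRing.injective A K) (by rw [h2, map_zero])
  obtain ⟨c', rfl⟩ := h1
  refine ⟨c', rfl, ?_⟩
  rw [map_mul, map_pow, map_X] at h
  exact mul_left_cancel₀ (pow_ne_zero m X_ne_zero) h

theorem isAlmostIntegral_constantCoeff {h : K⟦X⟧} (hh : IsAlmostIntegral A⟦X⟧ h) :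
    IsAlmostIntegral A (constantCoeff h) := by
  obtain ⟨d, hd, hd'⟩ := hh
  have hd0 : d ≠ 0 := nonZeroDivisors.ne_zero hd
  obtain ⟨m, hm⟩ : ∃ m : ℕ, m = d.order.toNat := ⟨_, rfl⟩
  obtain ⟨d₁, hd₁⟩ : (X : A⟦X⟧) ^ m ∣ d := hm ▸ X_pow_order_dvd (φ := d)
  have hcc : constantCoeff d₁ ≠ 0 := by
    have h1 := coeff_order hd0
    rw [← hm] at h1
    intro h2
    apply h1
    rw [hd₁, coeff_X_pow_mul', if_pos le_rfl, Nat.sub_self,
      coeff_zero_eq_constantCoeff_apply, h2]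
  refine ⟨constantCoeff d₁, mem_nonZeroDivisors_of_ne_zero hcc, fun n => ?_⟩
  obtain ⟨c, hc⟩ := hd' n
  rw [algebraMap_apply'', Algebra.smul_def, algebraMap_apply'', hd₁, map_mul, map_pow, map_X,
    mul_assoc] at hc
  obtain ⟨c', -, hc'⟩ := exists_of_X_pow_mul _ c _ hc
  refine ⟨constantCoeff c', ?_⟩
  have h3 := congrArg constantCoeff hc'
  rw [map_mul, map_pow, ← coeff_zero_eq_constantCoeff_apply, coeff_map,
    ← coeff_zero_eq_constantCoeff_apply (PowerSeries.map (algebraMap A K) d₁), coeff_map,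
    coeff_zero_eq_constantCoeff_apply, coeff_zero_eq_constantCoeff_apply] at h3
  rw [Algebra.smul_def]
  exact h3

theorem isAlmostIntegral_shift {h h₁ : K⟦X⟧} (a : A) (hh : IsAlmostIntegral A⟦X⟧ h)
    (e : h = X * h₁ + C (algebraMap A K a)) : IsAlmostIntegral A⟦X⟧ h₁ := by
  have h2 : IsAlmostIntegral A⟦X⟧ (X * h₁) := by
    have h3 : X * h₁ = h - algebraMap A⟦X⟧ K⟦X⟧ (C a) := by
      rw [e, algebraMap_apply'', map_C]; ring
    rw [h3]
    exact (completeIntegralClosure A⟦X⟧ K⟦X⟧).sub_mem hh (Subalgebra.algebraMap_mem _ _)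
  obtain ⟨d, hd, hd'⟩ := h2
  refine ⟨d, hd, fun n => ?_⟩
  obtain ⟨c, hc⟩ := hd' n
  rw [algebraMap_apply'', Algebra.smul_def, mul_pow, mul_left_comm] at hc
  obtain ⟨c', -, hc'⟩ := exists_of_X_pow_mul n c _ hc
  exact ⟨c', by rw [algebraMap_apply'', hc', Algebra.smul_def]⟩

theorem coeff_mem [IsNoetherianRing A] [IsIntegrallyClosed A] :
    ∀ (i : ℕ) (h : K⟦X⟧), IsAlmostIntegral A⟦X⟧ h → coeff i h ∈ (algebraMap A K).range := by
  have h0 : ∀ (h : K⟦X⟧), IsAlmostIntegral A⟦X⟧ h →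
      ∃ a : A, algebraMap A K a = constantCoeff h := by
    intro h hh
    have h1 : IsIntegral A (constantCoeff h) := (isAlmostIntegral_constantCoeff hh).isIntegral
    exact IsIntegrallyClosed.isIntegral_iff.mp h1
  intro i
  induction i with
  | zero =>
    intro h hh
    obtain ⟨a, ha⟩ := h0 h hh
    exact ⟨a, by rw [coeff_zero_eq_constantCoeff_apply]; exact ha⟩
  | succ i ih =>
    intro h hh
    obtain ⟨a, ha⟩ := h0 h hh
    have e := eq_X_mul_shift_add_const h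
    rw [← ha] at e
    have h1 := ih _ (isAlmostIntegral_shift a hh e)
    rwa [coeff_mk] at h1

theorem mem_range_of_isAlmostIntegral [IsNoetherianRing A] [IsIntegrallyClosed A] (h : K⟦X⟧)
    (hh : IsAlmostIntegral A⟦X⟧ h) : ∃ h₀ : A⟦X⟧, PowerSeries.map (algebraMap A K) h₀ = h := by
  choose a ha using fun i => coeff_mem i h hh
  refine ⟨PowerSeries.mk a, ?_⟩
  ext i
  rw [coeff_map, coeff_mk, ha]

end

/-- Power series over a Noetherian integrally closed domain are integrally closed. -/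
theorem isIntegrallyClosed_powerSeries (A : Type u) [CommRing A] [IsDomain A] [IsNoetherianRing A]
    [IsIntegrallyClosed A] : IsIntegrallyClosed A⟦X⟧ := by
  let K := FractionRing A
  let F := FractionRing A⟦X⟧
  let G := FractionRing K⟦X⟧
  haveI : IsIntegrallyClosed K⟦X⟧ := UniqueFactorizationMonoid.instIsIntegrallyClosed
  have hφ : Function.Injective (algebraMap A⟦X⟧ K⟦X⟧) :=
    PowerSeries.map_injective _ (IsFractionRing.injective A K)
  let g : A⟦X⟧ →+* G := (algebraMap K⟦X⟧ G).comp (algebraMap A⟦X⟧ K⟦X⟧)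
  have hg : Function.Injective g := (IsFractionRing.injective K⟦X⟧ G).comp hφ
  let ψ : F →+* G := IsFractionRing.lift hg
  have hψ : ∀ c : A⟦X⟧, ψ (algebraMap A⟦X⟧ F c) = algebraMap K⟦X⟧ G (algebraMap A⟦X⟧ K⟦X⟧ c) :=
    fun c => IsFractionRing.lift_algebraMap hg c
  refine (isIntegrallyClosed_iff F).mpr ?_
  intro z hz
  -- ψ z is integral over K⟦X⟧
  have hz' : IsIntegral K⟦X⟧ (ψ z) := by
    obtain ⟨P, hPm, hP⟩ := hz
    refine ⟨P.map (algebraMap A⟦X⟧ K⟦X⟧), hPm.map _, ?_⟩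
    rw [Polynomial.eval₂_map]
    have h1 := congrArg ψ hP
    rw [Polynomial.hom_eval₂, map_zero] at h1
    have h2 : ψ.comp (algebraMap A⟦X⟧ F) = (algebraMap K⟦X⟧ G).comp (algebraMap A⟦X⟧ K⟦X⟧) :=
      RingHom.ext hψ
    rw [h2] at h1
    exact h1
  obtain ⟨φz, hφz⟩ := IsIntegrallyClosed.isIntegral_iff.mp hz'
  -- φz is almost integral over A⟦X⟧
  obtain ⟨d, hd, hd'⟩ := hz.isAlmostIntegral
  have hai : IsAlmostIntegral A⟦X⟧ φz := by
    refine ⟨d, hd, fun n => ?_⟩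
    obtain ⟨c, hc⟩ := hd' n
    refine ⟨c, ?_⟩
    apply IsFractionRing.injective K⟦X⟧ G
    rw [← hψ, hc, Algebra.smul_def, Algebra.smul_def, map_mul, map_mul, map_pow, map_pow, hψ, hφz]
  obtain ⟨h₀, hh₀⟩ := mem_range_of_isAlmostIntegral φz hai
  refine ⟨h₀, ?_⟩
  apply ψ.injective
  rw [hψ, ← hφz]
  congr 1

end Groth.Agent.Helper2.PSNormal
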