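import Mathlib
import Groth.Agent.Helper4.Japanese
import Groth.Agent.Helper5.ComplDVR

set_option autoImplicit false
set_option linter.style.haveILetI false

namespace Groth.Agent.Helper2.TateN2a

universe u

open IsPurelyInseparable

section Setup

variable (R : Type u) [CommRing R] [IsDomain R] [IsIntegrallyClosed R]
  (p : ℕ) [hpp : Fact p.Prime] [CharP R p]
  (L : Type u) [Field L] [Algebra R L] [Algebra (FractionRing R) L]
  [IsScalarTower R (FractionRing R) L]
  [FiniteDimensional (FractionRing R) L] [IsPurelyInseparable (FractionRing R) L]

local notation "K" => FractionRing R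

instance : CharP K p := charP_of_injective_algebraMap (IsFractionRing.injective R K) p

instance : ExpChar K p := ExpChar.prime hpp.out

/-- the uniform exponent -/
noncomputable def qq : ℕ := p ^ exponent K L

theorem qq_pos : 0 < qq R p L := pow_pos hpp.out.pos _

/-- iterated Frobenius `L → K` -/
noncomputable def Fr : L →+* K := iterateFrobenius K L p (le_refl (exponent K L))

theorem algebraMap_Fr (a : L) : algebraMap K L (Fr R p L a) = a ^ qq R p L :=
  algebraMap_iterateFrobenius K p (le_refl _) a

theorem exists_norm (f : integralClosure R L) :
    ∃ r : R, algebraMap R L r = (f : L) ^ qq R p L := by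
  have h1 : IsIntegral R ((f : L) ^ qq R p L) := f.2.pow _
  rw [← algebraMap_Fr] at h1
  have h2 : IsIntegral R (Fr R p L (f : L)) :=
    (isIntegral_algebraMap_iff (algebraMap K L).injective).mp h1
  obtain ⟨r, hr⟩ := IsIntegrallyClosed.isIntegral_iff.mp h2
  refine ⟨r, ?_⟩
  rw [IsScalarTower.algebraMap_apply R K L, hr, algebraMap_Fr]

theorem inj : Function.Injective (algebraMap R L) := by
  rw [IsScalarTower.algebraMap_eq R K L]
  exact (algebraMap K L).injective.comp (IsFractionRing.injective R K)


/-- the "norm" `S → R`, `f ↦ f ^ q` -/
noncomputable def Nm : integralClosure R L →+* R where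
  toFun f := (exists_norm R p L f).choose
  map_one' := by
    apply inj R L
    rw [(exists_norm R p L 1).choose_spec]
    simp
  map_mul' a b := by
    apply inj R L
    rw [(exists_norm R p L (a * b)).choose_spec, map_mul, (exists_norm R p L a).choose_spec,
      (exists_norm R p L b).choose_spec]
    simp [mul_pow]
  map_zero' := by
    apply inj R L
    rw [(exists_norm R p L 0).choose_spec]
    simp [(qq_pos R p L).ne']
  map_add' a b := by
    apply inj R L
    rw [(exists_norm R p L (a + b)).choose_spec, map_add, (exists_norm R p L a).choose_spec,
      (exists_norm R p L b).choose_spec]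
    haveI : CharP L p := charP_of_injective_algebraMap (inj R L) p
    simp only [Subalgebra.coe_add]
    exact add_pow_char_pow (a : L) (b : L) p _

theorem algebraMap_Nm (f : integralClosure R L) :
    algebraMap R L (Nm R p L f) = (f : L) ^ qq R p L :=
  (exists_norm R p L f).choose_spec

theorem Nm_algebraMap (r : R) : Nm R p L (algebraMap R _ r) = r ^ qq R p L := by
  apply inj R L
  rw [algebraMap_Nm, map_pow]
  rfl

end Setup

end Groth.Agent.Helper2.TateN2a
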