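import Mathlib
import Groth.Agent.Helper2.TateN2a

set_option autoImplicit false
set_option linter.style.haveILetI false

namespace Groth.Agent.Helper2.TateN2b

universe u

open Groth.Agent.Helper2.TateN2a

section Setup

variable (R : Type u) [CommRing R] [IsDomain R] [IsIntegrallyClosed R]
  (p : ℕ) [hpp : Fact p.Prime] [CharP R p]
  (L : Type u) [Field L] [Algebra R L] [Algebra (FractionRing R) L]
  [IsScalarTower R (FractionRing R) L]
  [FiniteDimensional (FractionRing R) L] [IsPurelyInseparable (FractionRing R) L]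
  (x : R)

local notation "K" => FractionRing R
local notation "S" => integralClosure R L

/-- the ideals `Q_n = {f | x^n ∣ N f}` -/
noncomputable def Qn (n : ℕ) : Ideal S := Ideal.comap (Nm R p L) (Ideal.span {x ^ n})

theorem mem_Qn {n : ℕ} {f : S} : f ∈ Qn R p L x n ↔ x ^ n ∣ Nm R p L f := by
  rw [Qn, Ideal.mem_comap, Ideal.mem_span_singleton]

theorem Nm_eq_zero {f : S} (h : Nm R p L f = 0) : f = 0 := by
  have h1 := algebraMap_Nm R p L f
  rw [h, map_zero] at h1
  exact Subtype.ext (pow_eq_zero_iff (qq_pos R p L).ne' |>.mp h1.symm)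

theorem exists_smul_of_mem_Qn_q (hx0 : x ≠ 0) (f : S) (hf : f ∈ Qn R p L x (qq R p L)) :
    ∃ s : S, f = x • s := by
  obtain ⟨r, hr⟩ := (mem_Qn R p L x).mp hf
  have ha : algebraMap R L x ≠ 0 := fun h => hx0 (inj R L (by rw [h, map_zero]))
  have h1 : ((f : L) / algebraMap R L x) ^ qq R p L = algebraMap R L r := by
    rw [div_pow, ← algebraMap_Nm, hr, map_mul, map_pow]
    field_simp
  have h2 : IsIntegral R ((f : L) / algebraMap R L x) :=
    IsIntegral.of_pow (qq_pos R p L) (by rw [h1]; exact isIntegral_algebraMap)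
  refine ⟨⟨_, h2⟩, Subtype.ext ?_⟩
  change (f : L) = x • ((f : L) / algebraMap R L x)
  rw [Algebra.smul_def]
  field_simp

include p hpp in
theorem eq_zero_of_forall_smul [IsNoetherianRing R] (hx : ¬ IsUnit x) (f : S)
    (h : ∀ n : ℕ, ∃ s : S, f = (x ^ n) • s) : f = 0 := by
  apply Nm_eq_zero R p L
  have h1 : ∀ n : ℕ, Nm R p L f ∈ (Ideal.span {x}) ^ n := by
    intro n
    obtain ⟨s, hs⟩ := h n
    rw [Ideal.span_singleton_pow, Ideal.mem_span_singleton, hs, Algebra.smul_def, map_mul,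
      Nm_algebraMap]
    exact Dvd.dvd.mul_right (dvd_pow_self _ (qq_pos R p L).ne') _
  have h2 : (⨅ n : ℕ, (Ideal.span {x}) ^ n) = (⊥ : Ideal R) :=
    Ideal.iInf_pow_eq_bot_of_isDomain _ (by
      rw [Ne, Ideal.span_singleton_eq_top]; exact hx)
  have h3 : Nm R p L f ∈ (⨅ n : ℕ, (Ideal.span {x}) ^ n) := by
    rw [Ideal.mem_iInf]; exact h1
  rw [h2] at h3
  exact h3

theorem exists_embedding (hxp : Prime x) (n : ℕ) :
    ∃ ψ : ↥((Qn R p L x n).restrictScalars R) →ₗ[R] (S ⧸ Qn R p L x 1),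
      ∀ f, ψ f = 0 → (f : S) ∈ Qn R p L x (n + 1) := by
  by_cases hall : ∀ f ∈ Qn R p L x n, f ∈ Qn R p L x (n + 1)
  · exact ⟨0, fun f _ => hall f f.2⟩
  push_neg at hall
  obtain ⟨g, hgn, hgn1⟩ := hall
  obtain ⟨v, hv⟩ := (mem_Qn R p L x).mp hgn
  have hxv : ¬ x ∣ v := by
    rintro ⟨w, rfl⟩
    apply hgn1
    rw [mem_Qn, hv, pow_succ]
    exact ⟨w, by ring⟩
  have hx0 : x ≠ 0 := hxp.ne_zero
  have hv0 : v ≠ 0 := fun h => hxv (h ▸ dvd_zero x)
  have hxnv : algebraMap R L (x ^ n * v) ≠ 0 := fun h =>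
    mul_ne_zero (pow_ne_zero n hx0) hv0 (inj R L (by rw [h, map_zero]))
  have hgq : (g : L) ^ qq R p L = algebraMap R L (x ^ n * v) := by
    rw [← algebraMap_Nm, hv]
  have hg0 : (g : L) ≠ 0 := by
    intro h
    rw [h, zero_pow (qq_pos R p L).ne'] at hgq
    exact hxnv hgq.symm
  set c : L := algebraMap R L v / (g : L) with hc
  -- key computation
  have key : ∀ (f : S) (u : R), Nm R p L f = x ^ n * u →
      (c * (f : L)) ^ qq R p L = algebraMap R L (v ^ (qq R p L - 1) * u) := by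
    intro f u hu
    have h1 : v ^ qq R p L = v ^ (qq R p L - 1) * v := by
      rw [← pow_succ, Nat.sub_add_cancel (qq_pos R p L)]
    rw [mul_pow, hc, div_pow, hgq, ← algebraMap_Nm, hu, ← map_pow, h1, div_mul_eq_mul_div,
      ← map_mul, div_eq_iff hxnv, ← map_mul]
    congr 1
    ring
  have hint : ∀ f : S, f ∈ Qn R p L x n → IsIntegral R (c * (f : L)) := by
    intro f hf
    obtain ⟨u, hu⟩ := (mem_Qn R p L x).mp hf
    exact IsIntegral.of_pow (qq_pos R p L) (by rw [key f u hu]; exact isIntegral_algebraMap)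
  let ψ : ↥((Qn R p L x n).restrictScalars R) →ₗ[R] (S ⧸ Qn R p L x 1) :=
    { toFun := fun f => Ideal.Quotient.mk _ (⟨c * ((f : S) : L), hint f f.2⟩ : S)
      map_add' := by
        intro a b
        rw [← map_add]
        congr 1
        exact Subtype.ext (mul_add _ _ _)
      map_smul' := by
        intro r a
        have : (⟨c * (((r • a : ↥((Qn R p L x n).restrictScalars R)) : S) : L),
            hint _ (r • a).2⟩ : S) = r • (⟨c * ((a : S) : L), hint a a.2⟩ : S) :=
          Subtype.ext (mul_smul_comm _ _ _)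
        rw [this]
        rfl }
  refine ⟨ψ, fun f hf => ?_⟩
  have h1 : (⟨c * ((f : S) : L), hint f f.2⟩ : S) ∈ Qn R p L x 1 :=
    Ideal.Quotient.eq_zero_iff_mem.mp hf
  obtain ⟨u, hu⟩ := (mem_Qn R p L x).mp f.2
  rw [mem_Qn, pow_one] at h1
  have h2 : Nm R p L (⟨c * ((f : S) : L), hint f f.2⟩ : S) = v ^ (qq R p L - 1) * u := by
    apply inj R L
    rw [algebraMap_Nm]
    exact key f u hu
  rw [h2] at h1
  rcases hxp.dvd_or_dvd h1 with h3 | h3
  · exact absurd (hxp.dvd_of_dvd_pow h3) hxv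
  · rw [mem_Qn, hu, pow_succ]
    exact mul_dvd_mul_left _ h3

end Setup

end Groth.Agent.Helper2.TateN2b
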