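import Mathlib
import Groth.Agent.Helper2.TateN2b

set_option autoImplicit false
set_option linter.style.haveILetI false

namespace Groth.Agent.Helper2.TateN2c

universe u

open Groth.Agent.Helper2.TateN2a Groth.Agent.Helper2.TateN2b

/-- Complete Nakayama (copy of helper3's lemma, with smaller imports). -/
theorem finite_of_finite_quotient {R : Type u} [CommRing R] (I : Ideal R) [IsPrecomplete I R]
    {N : Type*} [AddCommGroup N] [Module R N] [IsHausdorff I N]
    [Module.Finite R (N ⧸ (I • ⊤ : Submodule R N))] : Module.Finite R N := by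
  obtain ⟨n, f0, hf0⟩ := Module.Finite.exists_fin' R (N ⧸ (I • ⊤ : Submodule R N))
  obtain ⟨f, hf⟩ := Module.projective_lifting_property (Submodule.mkQ (I • ⊤ : Submodule R N)) f0
    (Submodule.mkQ_surjective _)
  haveI : IsPrecomplete I (Fin n → R) :=
    Groth.Agent.Helper5.ComplDVR.isPrecomplete_of_finite I (Fin n → R)
  have : Function.Surjective f := surjective_of_mkQ_comp_surjective (I := I) (by rw [hf]; exact hf0)
  exact Module.Finite.of_surjective f this

section Setup

variable (R : Type u) [CommRing R] [IsDomain R] [IsIntegrallyClosed R] [IsNoetherianRing R]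
  (p : ℕ) [hpp : Fact p.Prime] [CharP R p]
  (L : Type u) [Field L] [Algebra R L] [Algebra (FractionRing R) L]
  [IsScalarTower R (FractionRing R) L]
  [FiniteDimensional (FractionRing R) L] [IsPurelyInseparable (FractionRing R) L]
  (x : R)

local notation "K" => FractionRing R
local notation "S" => integralClosure R L

theorem finite_quot (hxp : Prime x) (hB : Module.Finite R (S ⧸ Qn R p L x 1)) (n : ℕ) :
    Module.Finite R (S ⧸ (Qn R p L x n).restrictScalars R) := by
  induction n with
  | zero =>
    have : (Qn R p L x 0).restrictScalars R = ⊤ := by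
      rw [Submodule.restrictScalars_eq_top_iff, Qn, pow_zero, Ideal.span_singleton_one,
        Ideal.comap_top]
    rw [this]
    infer_instance
  | succ n ih =>
    haveI : IsNoetherian R (S ⧸ Qn R p L x 1) := isNoetherian_of_isNoetherianRing_of_finite R _
    obtain ⟨ψ, hψ⟩ := exists_embedding R p L x hxp n
    let T := S ⧸ (Qn R p L x (n + 1)).restrictScalars R
    let π : S →ₗ[R] T := Submodule.mkQ _
    let ι : ↥((Qn R p L x n).restrictScalars R) →ₗ[R] S := Submodule.subtype _
    let P : Submodule R T := LinearMap.range (π ∘ₗ ι)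
    have hker : LinearMap.ker ψ ≤ LinearMap.ker (π ∘ₗ ι) := by
      intro f hf
      rw [LinearMap.mem_ker] at hf ⊢
      exact (Submodule.Quotient.mk_eq_zero _).mpr (hψ f hf)
    haveI : Module.Finite R (↥((Qn R p L x n).restrictScalars R) ⧸ LinearMap.ker ψ) :=
      Module.Finite.equiv ψ.quotKerEquivRange.symm
    haveI hP : Module.Finite R P := by
      have : P = LinearMap.range ((LinearMap.ker ψ).liftQ (π ∘ₗ ι) hker) := by
        rw [Submodule.range_liftQ]
      rw [this]
      infer_instance
    haveI hTP : Module.Finite R (T ⧸ P) := by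
      let χ : S →ₗ[R] T ⧸ P := P.mkQ ∘ₗ π
      have hχ : (Qn R p L x n).restrictScalars R ≤ LinearMap.ker χ := by
        intro f hf
        rw [LinearMap.mem_ker]
        exact (Submodule.Quotient.mk_eq_zero _).mpr ⟨⟨f, hf⟩, rfl⟩
      have hsurj : Function.Surjective (((Qn R p L x n).restrictScalars R).liftQ χ hχ) := by
        rw [← LinearMap.range_eq_top, Submodule.range_liftQ, LinearMap.range_eq_top]
        exact (Submodule.mkQ_surjective _).comp (Submodule.mkQ_surjective _)
      exact Module.Finite.of_surjective _ hsurj
    exact Module.Finite.of_submodule_quotient P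

include p hpp in
theorem finite_of_finite_quot_one (hxp : Prime x) [IsAdicComplete (Ideal.span {x}) R]
    (hB : Module.Finite R (S ⧸ Qn R p L x 1)) : Module.Finite R S := by
  have hx0 : x ≠ 0 := hxp.ne_zero
  haveI : IsHausdorff (Ideal.span {x}) S := by
    refine ⟨fun f hf => ?_⟩
    apply eq_zero_of_forall_smul R p L x hxp.not_isUnit f
    intro n
    have h1 := (hf n)
    rw [SModEq.zero, Ideal.span_singleton_pow, Submodule.ideal_span_singleton_smul,
      Submodule.mem_smul_pointwise_iff_exists] at h1
    obtain ⟨s, -, hs⟩ := h1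
    exact ⟨s, hs.symm⟩
  haveI : Module.Finite R (S ⧸ ((Ideal.span {x}) • ⊤ : Submodule R S)) := by
    haveI := finite_quot R p L x hxp hB (qq R p L)
    have hle : (Qn R p L x (qq R p L)).restrictScalars R ≤ ((Ideal.span {x}) • ⊤ : Submodule R S) := by
      intro f hf
      obtain ⟨s, rfl⟩ := exists_smul_of_mem_Qn_q R p L x hx0 f hf
      exact Submodule.smul_mem_smul (Ideal.mem_span_singleton_self x) Submodule.mem_top
    exact Module.Finite.of_surjective _ (Submodule.factor_surjective hle)
  exact finite_of_finite_quotient (Ideal.span {x})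

end Setup

end Groth.Agent.Helper2.TateN2c
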