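import Mathlib
import Groth.Agent.Helper2.TateN2c

set_option autoImplicit false
set_option linter.style.haveILetI false

namespace Groth.Agent.Helper2.TateN2d

universe u

open Groth.Agent.Helper2.TateN2a Groth.Agent.Helper2.TateN2b Groth.Agent.Helper2.TateN2c

section Setup

variable (R : Type u) [CommRing R] [IsDomain R] [IsIntegrallyClosed R] [IsNoetherianRing R]
  (p : ℕ) [hpp : Fact p.Prime] [CharP R p]
  (L : Type u) [Field L] [Algebra R L] [Algebra (FractionRing R) L]
  [IsScalarTower R (FractionRing R) L]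
  [FiniteDimensional (FractionRing R) L] [IsPurelyInseparable (FractionRing R) L]
  (x : R) [hP : (Ideal.span ({x} : Set R)).IsPrime]

local notation "K" => FractionRing R
local notation "S" => integralClosure R L
local notation "P₀" => Ideal.span (singleton x : Set R)

instance isPrime_Q : (Qn R p L x 1).IsPrime := by
  rw [Qn, pow_one]
  exact Ideal.comap_isPrime _ _

instance liesOver_Q : (Qn R p L x 1).LiesOver P₀ := ⟨by
  ext r
  rw [Ideal.under, Ideal.mem_comap, mem_Qn, pow_one, Nm_algebraMap, Ideal.mem_span_singleton]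
  refine ⟨fun h => dvd_pow h (qq_pos R p L).ne', fun h => ?_⟩
  have : r ^ qq R p L ∈ P₀ := Ideal.mem_span_singleton.mpr h
  exact Ideal.mem_span_singleton.mp (hP.mem_of_pow_mem _ this)⟩

local notation "κ" => FractionRing (R ⧸ P₀)
local notation "κ'" => FractionRing (S ⧸ Qn R p L x 1)

attribute [local instance] FractionRing.liftAlgebra

theorem card_le (hx : x ≠ 0) (s : Finset κ') (hs : LinearIndependent κ (fun i : s => (i : κ'))) :
    s.card ≤ Module.finrank K L := by
  classical
  obtain ⟨b, hb⟩ := IsLocalization.exist_integer_multiples_of_finset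
    (nonZeroDivisors (S ⧸ Qn R p L x 1)) s
  choose! σ hσ using hb
  have hlift : ∀ a : κ', ∃ t : S, Ideal.Quotient.mk (Qn R p L x 1) t = σ a :=
    fun a => Ideal.Quotient.mk_surjective _
  choose τ hτ using hlift
  have hb0 : algebraMap (S ⧸ Qn R p L x 1) κ' (b : S ⧸ Qn R p L x 1) ≠ 0 := by
    intro h
    have := (IsFractionRing.injective (S ⧸ Qn R p L x 1) κ') (h.trans (map_zero _).symm)
    exact nonZeroDivisors.coe_ne_zero b this
  have hs' : LinearIndependent (R ⧸ P₀) (fun i : s => (i : κ')) :=
    (LinearIndependent.iff_fractionRing (R ⧸ P₀) κ).mpr hs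
  let w : s → L := fun a => ((τ a : S) : L)
  have key : ∀ n : ℕ, ∀ g : s → R, (∑ a, g a • w a = 0) → ∀ a, x ^ n ∣ g a := by
    intro n
    induction n with
    | zero => intro g _ a; simp
    | succ n ih =>
      intro g hg a
      have h1 := ih g hg
      choose g' hg' using h1
      have h2 : ∑ a, g' a • w a = 0 := by
        have h3 : (algebraMap R L (x ^ n)) * ∑ a, g' a • w a = 0 := by
          rw [Finset.mul_sum, ← hg]
          refine Finset.sum_congr rfl fun a _ => ?_
          rw [hg' a, Algebra.smul_def, Algebra.smul_def, map_mul, mul_assoc]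
        refine (mul_eq_zero.mp h3).resolve_left fun h => ?_
        exact pow_ne_zero n hx (inj R L (by rw [h, map_zero]))
      have h3 : ∑ a, g' a • (τ a : S) = 0 := by
        apply Subtype.ext
        change (integralClosure R L).val (∑ a, g' a • (τ a : S)) = 0
        rw [map_sum, ← h2]
        refine Finset.sum_congr rfl fun a _ => ?_
        rw [map_smul]
        rfl
      have h4 : ∑ a : s, (Ideal.Quotient.mk P₀ (g' a)) • ((a : s) : κ') = 0 := by
        have h5 := congrArg (fun t => algebraMap (S ⧸ Qn R p L x 1) κ'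
          (Ideal.Quotient.mk (Qn R p L x 1) t)) h3
        simp only [map_sum, map_zero] at h5
        have h6 : algebraMap (S ⧸ Qn R p L x 1) κ' (b : S ⧸ Qn R p L x 1) *
            ∑ a : s, (Ideal.Quotient.mk P₀ (g' a)) • ((a : s) : κ') = 0 := by
          rw [Finset.mul_sum]
          refine Eq.trans ?_ h5
          refine Finset.sum_congr rfl fun a _ => ?_
          have e1 : Ideal.Quotient.mk (Qn R p L x 1) (g' a • (τ a : S)) =
              Ideal.Quotient.mk (Qn R p L x 1) (algebraMap R S (g' a)) * σ a := by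
            rw [Algebra.smul_def, map_mul, hτ]
          have e2 : algebraMap (R ⧸ P₀) κ' (Ideal.Quotient.mk P₀ (g' a)) =
              algebraMap (S ⧸ Qn R p L x 1) κ'
                (Ideal.Quotient.mk (Qn R p L x 1) (algebraMap R S (g' a))) := by
            rw [IsScalarTower.algebraMap_apply (R ⧸ P₀) (S ⧸ Qn R p L x 1) κ']
            rfl
          rw [e1, map_mul, hσ a a.2, Algebra.smul_def, Algebra.smul_def, e2]
          ring
        exact (mul_eq_zero.mp h6).resolve_left hb0
      have h5 := Fintype.linearIndependent_iff.mp hs' _ h4 a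
      rw [Ideal.Quotient.eq_zero_iff_mem, Ideal.mem_span_singleton] at h5
      rw [hg' a, pow_succ]
      exact mul_dvd_mul_left _ h5
  have hxu : ¬ IsUnit x := fun h => hP.ne_top (Ideal.span_singleton_eq_top.mpr h)
  have hbot : (⨅ n : ℕ, (Ideal.span {x}) ^ n) = (⊥ : Ideal R) :=
    Ideal.iInf_pow_eq_bot_of_isDomain _ hP.ne_top
  have hw : LinearIndependent K w := by
    rw [← LinearIndependent.iff_fractionRing R K, Fintype.linearIndependent_iff]
    intro g hg a
    have h1 : g a ∈ (⨅ n : ℕ, (Ideal.span {x}) ^ n) := by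
      rw [Ideal.mem_iInf]
      intro n
      rw [Ideal.span_singleton_pow, Ideal.mem_span_singleton]
      exact key n g hg a
    rw [hbot] at h1
    exact h1
  calc s.card = Fintype.card s := (Fintype.card_coe s).symm
    _ ≤ Module.finrank K L := hw.fintype_card_le_finrank

include p hpp in
theorem finite_quot_one (hx : x ≠ 0) (h2 : CAlg.IsN2 (R ⧸ P₀)) :
    Module.Finite R (S ⧸ Qn R p L x 1) := by
  haveI : FiniteDimensional κ κ' := by
    have h1 : Module.rank κ κ' ≤ (Module.finrank K L : ℕ) :=
      rank_le (fun s hs => card_le R p L x hx s hs)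
    exact Module.rank_lt_aleph0_iff.mp (lt_of_le_of_lt h1 (Cardinal.nat_lt_aleph0 _))
  haveI : Module.Finite (R ⧸ P₀) (integralClosure (R ⧸ P₀) κ') :=
    Groth.Agent.Helper4.Japanese.IsN2.finite h2 κ κ'
  haveI : IsNoetherian (R ⧸ P₀) (integralClosure (R ⧸ P₀) κ') :=
    isNoetherian_of_isNoetherianRing_of_finite _ _
  let φ : (S ⧸ Qn R p L x 1) →ₗ[R ⧸ P₀] integralClosure (R ⧸ P₀) κ' :=
    { toFun := fun t => ⟨algebraMap (S ⧸ Qn R p L x 1) κ' t,
        (Algebra.IsIntegral.isIntegral (R := R ⧸ P₀) t).map
          (IsScalarTower.toAlgHom (R ⧸ P₀) (S ⧸ Qn R p L x 1) κ')⟩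
      map_add' := fun a b => Subtype.ext (map_add _ a b)
      map_smul' := fun r a => Subtype.ext (by
        change algebraMap (S ⧸ Qn R p L x 1) κ' (r • a) = r • algebraMap (S ⧸ Qn R p L x 1) κ' a
        rw [Algebra.smul_def, map_mul, Algebra.smul_def,
          ← IsScalarTower.algebraMap_apply (R ⧸ P₀) (S ⧸ Qn R p L x 1) κ']) }
  have hφ : Function.Injective φ := by
    intro a b hab
    exact IsFractionRing.injective (S ⧸ Qn R p L x 1) κ' (congrArg Subtype.val hab)
  haveI : Module.Finite (R ⧸ P₀) (S ⧸ Qn R p L x 1) := Module.Finite.of_injective φ hφ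
  exact Module.Finite.trans (R ⧸ P₀) (S ⧸ Qn R p L x 1)

include p hpp in
/-- Tate's lemma, characteristic `p` purely inseparable case. -/
theorem finite_integralClosure (hx : x ≠ 0) (h2 : CAlg.IsN2 (R ⧸ P₀))
    [IsAdicComplete (Ideal.span {x}) R] : Module.Finite R S :=
  finite_of_finite_quot_one R p L x ((Ideal.span_singleton_prime hx).mp hP)
    (finite_quot_one R p L x hx h2)

end Setup


end Groth.Agent.Helper2.TateN2d
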