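import Mathlib
import Groth.Prelude.Def_Found
import Groth.Agent.Helper2.TateN2d
import Groth.Agent.Helper7.N2b
import Groth.Agent.Helper7.N2c

set_option autoImplicit false
set_option linter.style.haveILetI false

namespace Groth.Agent.Helper2.TateN2e

universe u

/-- N-2 is invariant under ring isomorphisms (copy of helper5's lemma with smaller imports) -/
theorem isN2_of_ringEquiv {R S : Type u} [CommRing R] [IsDomain R] [CommRing S] [IsDomain S]
    (e : R ≃+* S) (h : CAlg.IsN2 R) : CAlg.IsN2 S := by
  letI : Algebra R S := e.toRingHom.toAlgebra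
  haveI h1 : IsLocalization (⊥ : Submonoid R) R :=
    IsLocalization.self (by
      intro x hx
      rw [Submonoid.mem_bot] at hx
      subst hx
      exact isUnit_one)
  haveI h2 : IsLocalization (⊥ : Submonoid R) S :=
    IsLocalization.isLocalization_of_algEquiv (⊥ : Submonoid R)
      (AlgEquiv.ofRingEquiv (f := e) (fun _ => rfl))
  exact Groth.Agent.Helper4.Japanese.isN2_of_isLocalization R (⊥ : Submonoid R) S h

/-- Tate's lemma (Stacks 032S / S0569). -/
theorem main (R : Type u) [CommRing R] [IsDomain R]
    [IsNoetherianRing R] [IsIntegrallyClosed R] (x : R) [(Ideal.span ({x} : Set R)).IsPrime]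
    (h2 : CAlg.IsN2 (R ⧸ Ideal.span ({x} : Set R))) [IsAdicComplete (Ideal.span ({x} : Set R)) R] :
    CAlg.IsN2 R := by
  by_cases hx0 : x = 0
  · subst hx0
    have e : (R ⧸ Ideal.span ({0} : Set R)) ≃+* R :=
      (Ideal.quotEquivOfEq (by simp)).trans (RingEquiv.quotientBot R)
    exact isN2_of_ringEquiv e h2
  obtain ⟨p, hp⟩ := CharP.exists R
  rcases CharP.char_is_prime_or_zero R p with hp' | hp'
  · haveI : Fact p.Prime := ⟨hp'⟩
    apply Groth.Agent.Helper7.N2.result4562
    intro K' _ _ _ _ hfd hpi
    exact Groth.Agent.Helper2.TateN2d.finite_integralClosure R p K' x hx0 h2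
  · subst hp'
    haveI := CharP.charP_to_charZero R
    refine (Groth.Agent.Helper7.N2.result0574 R).mp ?_
    unfold CAlg.IsN1
    rw [IsIntegrallyClosed.integralClosure_eq_bot]
    infer_instance

end Groth.Agent.Helper2.TateN2e
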