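import Mathlib
import Groth.Prelude.Def_Found
import Groth.Agent.Helper2.TateN2e
import Groth.Agent.Helper2.PSNormal

set_option autoImplicit false
set_option linter.style.haveILetI false

namespace Groth.Agent.Helper2.PSN2

universe u

open PowerSeries

/-- Power series over a Noetherian integrally closed N-2 domain are N-2. -/
theorem isN2_powerSeries_of_isIntegrallyClosed (B : Type u) [CommRing B] [IsDomain B]
    [IsNoetherianRing B] [IsIntegrallyClosed B] (hB : CAlg.IsN2 B) : CAlg.IsN2 B⟦X⟧ := by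
  haveI := Groth.Agent.Helper2.PSNormal.isIntegrallyClosed_powerSeries B
  haveI : (Ideal.span ({X} : Set B⟦X⟧)).IsPrime := span_X_isPrime
  have hker : RingHom.ker (constantCoeff (R := B)) = Ideal.span {X} := by
    ext f
    rw [RingHom.mem_ker, Ideal.mem_span_singleton, X_dvd_iff]
  let e : B ≃+* (B⟦X⟧ ⧸ Ideal.span ({X} : Set B⟦X⟧)) :=
    ((Ideal.quotEquivOfEq hker.symm).trans
      (RingHom.quotientKerEquivOfSurjective constantCoeff_surj)).symm
  exact Groth.Agent.Helper2.TateN2e.main B⟦X⟧ X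
    (Groth.Agent.Helper2.TateN2e.isN2_of_ringEquiv e hB)

/-- Multivariate version, by induction. -/
theorem mv (B : Type u) [CommRing B] [IsDomain B]
    [IsNoetherianRing B] [IsIntegrallyClosed B] (hB : CAlg.IsN2 B) (r : ℕ) :
    ∀ [IsDomain (MvPowerSeries (Fin r) B)],
      IsIntegrallyClosed (MvPowerSeries (Fin r) B) ∧ CAlg.IsN2 (MvPowerSeries (Fin r) B) := by
  induction r with
  | zero =>
    intro _
    let e : MvPowerSeries (Fin 0) B ≃+* B := (MvPowerSeries.isEmptyEquiv (σ := Fin 0) (R := B)).toRingEquiv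
    exact ⟨IsIntegrallyClosed.of_equiv e.symm,
      Groth.Agent.Helper2.TateN2e.isN2_of_ringEquiv e.symm hB⟩
  | succ r ih =>
    intro _
    haveI : IsDomain (MvPowerSeries (Fin r) B) := NoZeroDivisors.to_isDomain _
    obtain ⟨h1, h2⟩ := ih
    let e : MvPowerSeries (Fin (r + 1)) B ≃+* (MvPowerSeries (Fin r) B)⟦X⟧ :=
      (MvPowerSeries.finSuccEquiv B r).toRingEquiv
    haveI := Groth.Agent.Helper2.PSNormal.isIntegrallyClosed_powerSeries (MvPowerSeries (Fin r) B)
    exact ⟨IsIntegrallyClosed.of_equiv e.symm,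
      Groth.Agent.Helper2.TateN2e.isN2_of_ringEquiv e.symm
        (isN2_powerSeries_of_isIntegrallyClosed _ h2)⟩

end Groth.Agent.Helper2.PSN2
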