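import Mathlib
import Groth.Prelude.Def_Found
import Groth.Agent.Helper2.PSN2
import Groth.Agent.Helper7.ZMTN2
import Groth.Agent.Helper7.CohenM
import Groth.Agent.Helper7.CohenC

set_option autoImplicit false
set_option linter.style.haveILetI false

namespace Groth.Agent.Helper2.NagataCompl

universe u

/-- a field is N-2 -/
theorem isN2_field (k : Type u) [Field k] : CAlg.IsN2 k := by
  intro L _ _ _ _ hfd
  haveI : Module.Finite k (FractionRing k) :=
    Module.Finite.equiv (FractionRing.algEquiv k k).symm.toLinearEquiv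
  haveI : Module.Finite k L := Module.Finite.trans (FractionRing k) L
  haveI : IsNoetherian k L := isNoetherian_of_isNoetherianRing_of_finite k L
  exact Module.Finite.of_injective (integralClosure k L).val.toLinearMap Subtype.val_injective

/-- a Noetherian integrally closed domain of characteristic zero is N-2 -/
theorem isN2_of_charZero (Λ : Type u) [CommRing Λ] [IsDomain Λ] [IsNoetherianRing Λ]
    [IsIntegrallyClosed Λ] [CharZero Λ] : CAlg.IsN2 Λ := by
  refine (Groth.Agent.Helper7.N2.result0574 Λ).mp ?_
  unfold CAlg.IsN1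
  rw [IsIntegrallyClosed.integralClosure_eq_bot]
  infer_instance

/-- Nagata: a complete Noetherian local domain is N-2 (Japanese). -/
theorem isN2_of_complete (A : Type u) [CommRing A] [IsDomain A] [IsLocalRing A]
    [IsNoetherianRing A] [IsAdicComplete (IsLocalRing.maximalIdeal A) A] : CAlg.IsN2 A := by
  obtain ⟨Λ, _, n, f, hΛ, hinj, hfin, -⟩ := Groth.Agent.Helper7.Cohen.s0581 A
  letI : Algebra (MvPowerSeries (Fin n) Λ) A := f.toAlgebra
  haveI : Module.Finite (MvPowerSeries (Fin n) Λ) A := hfin
  have key : ∃ (_ : IsDomain (MvPowerSeries (Fin n) Λ))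
      (_ : IsNoetherianRing (MvPowerSeries (Fin n) Λ)), CAlg.IsN2 (MvPowerSeries (Fin n) Λ) := by
    rcases hΛ with hfield | ⟨hdom, hdvr, -, p, hp, hmax⟩
    · letI : Field Λ := hfield.toField
      haveI : IsDomain (MvPowerSeries (Fin n) Λ) := NoZeroDivisors.to_isDomain _
      exact ⟨inferInstance, inferInstance,
        (Groth.Agent.Helper2.PSN2.mv Λ (isN2_field Λ) n).2⟩
    · haveI := hdom
      haveI := hdvr
      have hp0 : (p : Λ) ≠ 0 := by
        intro h
        apply IsDiscreteValuationRing.not_a_field Λ
        rw [hmax, h]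
        simp
      have hpu : ¬ IsUnit (p : Λ) := by
        intro h
        have : (p : Λ) ∈ IsLocalRing.maximalIdeal Λ := by
          rw [hmax]; exact Ideal.mem_span_singleton_self _
        exact (IsLocalRing.mem_maximalIdeal _).mp this h
      haveI := Groth.Agent.Helper7.Cohen.charZero_of_prime_span Λ p hp hp0 hpu
      haveI : IsDomain (MvPowerSeries (Fin n) Λ) := NoZeroDivisors.to_isDomain _
      exact ⟨inferInstance, inferInstance,
        (Groth.Agent.Helper2.PSN2.mv Λ (isN2_of_charZero Λ) n).2⟩
  obtain ⟨hd, hn, hN2⟩ := key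
  exact Groth.Agent.Helper7.ZMTN2.main (R := MvPowerSeries (Fin n) Λ) (S := A) hinj hN2

end Groth.Agent.Helper2.NagataCompl
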