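import Mathlib
import Groth.Prelude.Def_Found
import Groth.Agent.Helper2.NagataCompl
import Groth.Agent.Helper3.FinComp1
import Groth.Agent.Helper5.HenselFin

set_option autoImplicit false
set_option linter.style.haveILetI false

namespace Groth.Agent.Helper2.NagataCompl2

universe u

open IsLocalRing

/-- A domain finite over a complete Noetherian local ring is local and complete. -/
theorem local_complete_of_finite (A B : Type u) [CommRing A] [IsLocalRing A] [IsNoetherianRing A]
    [IsAdicComplete (maximalIdeal A) A] [CommRing B] [IsDomain B] [Algebra A B]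
    [Module.Finite A B] :
    ∃ _ : IsLocalRing B, IsAdicComplete (maximalIdeal B) B := by
  obtain ⟨M, hM, hMu⟩ := Groth.Agent.Helper5.ComplDVR.existsUnique_isMaximal_of_finite_of_complete A B
  haveI hloc : IsLocalRing B := IsLocalRing.of_unique_max_ideal ⟨M, hM, hMu⟩
  refine ⟨hloc, ?_⟩
  haveI h1 : IsAdicComplete ((maximalIdeal A).map (algebraMap A B)) B :=
    Groth.Agent.Helper3.FinComp1.isAdicComplete_map A B
  have h2 : (maximalIdeal A).map (algebraMap A B) ≤ maximalIdeal B :=
    Groth.Agent.Helper3.FinComp1.map_le_of_isMaximal A B (maximalIdeal B)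
  haveI : Module.Finite (A ⧸ maximalIdeal A) (B ⧸ (maximalIdeal A).map (algebraMap A B)) :=
    inferInstance
  letI : Field (A ⧸ maximalIdeal A) := Ideal.Quotient.field _
  haveI : IsArtinianRing (B ⧸ (maximalIdeal A).map (algebraMap A B)) :=
    IsArtinianRing.of_finite (A ⧸ maximalIdeal A) _
  obtain ⟨n, hn⟩ := exists_maximalIdeal_pow_le_of_isArtinianRing_quotient
    ((maximalIdeal A).map (algebraMap A B))
  exact Groth.Agent.Helper5.HenselFin.isAdicComplete_of_pow_le _ _ n hn h2

/-- S4564 -/
theorem s4564 {A K' : Type u} [CommRing A]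
    [IsDomain A] [IsLocalRing A] [IsNoetherianRing A] [IsAdicComplete (IsLocalRing.maximalIdeal A) A]
    [Field K'] [Algebra A K'] [Algebra (FractionRing A) K'] [IsScalarTower A (FractionRing A) K']
    [FiniteDimensional (FractionRing A) K'] :
    ∃ _ : IsLocalRing (integralClosure A K'),
      IsAdicComplete (IsLocalRing.maximalIdeal (integralClosure A K')) (integralClosure A K') := by
  haveI : Module.Finite A (integralClosure A K') :=
    Groth.Agent.Helper2.NagataCompl.isN2_of_complete A K' inferInstance
  exact local_complete_of_finite A (integralClosure A K')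

end Groth.Agent.Helper2.NagataCompl2
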