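import Mathlib
import Groth.Prelude.Def_Found
import Groth.Agent.Helper2.NagataCompl2

set_option autoImplicit false
set_option linter.style.haveILetI false

namespace Groth.Agent.Helper2.NagataCompl3

universe u

/-- S0568: a complete Noetherian local ring is Nagata. -/
theorem isNagata_of_complete (R : Type u) [CommRing R] [IsLocalRing R]
    [IsNoetherianRing R] [IsAdicComplete (IsLocalRing.maximalIdeal R) R] : CAlg.IsNagata R := by
  refine ⟨inferInstance, fun p hp => ?_⟩
  obtain ⟨hloc, hcompl⟩ := Groth.Agent.Helper2.NagataCompl2.local_complete_of_finite R (R ⧸ p)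
  exact Groth.Agent.Helper2.NagataCompl.isN2_of_complete (R ⧸ p)

end Groth.Agent.Helper2.NagataCompl3
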