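import Mathlib
import Groth.Prelude.Def_Found
import Groth.Agent.Helper2.AnUnr2

set_option autoImplicit false
set_option linter.style.haveILetI false

namespace Groth.Agent.Helper2.AnUnr3

universe u

open TensorProduct

/-- S4566 -/
theorem s4566 {A R : Type u}
    [CommRing A] [IsDomain A] [IsLocalRing A] [IsNoetherianRing A]
    [CommRing R] [Algebra (AdicCompletion (IsLocalRing.maximalIdeal A) A) R]
    [IsFractionRing (AdicCompletion (IsLocalRing.maximalIdeal A) A) R] [Algebra A R]
    [IsScalarTower A (AdicCompletion (IsLocalRing.maximalIdeal A) A) R]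
    [Algebra (FractionRing A) R] [IsScalarTower A (FractionRing A) R]
    (h : Algebra.IsGeometricallyReduced (FractionRing A) R) :
    CAlg.IsN2 A := by
  intro L _ _ _ _ hfd
  haveI : Algebra.IsAlgebraic (FractionRing A) L := Algebra.IsAlgebraic.of_finite _ _
  haveI : IsReduced (L ⊗[FractionRing A] R) := inferInstance
  let e1 : R ⊗[A] L ≃ₐ[A] L ⊗[A] R := Algebra.TensorProduct.comm A R L
  let e2 : L ⊗[FractionRing A] R ≃ₐ[FractionRing A] L ⊗[A] R :=
    IsLocalization.algebraTensorEquiv (nonZeroDivisors A) (FractionRing A) L R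
  haveI : IsReduced (R ⊗[A] L) :=
    isReduced_of_injective ((e2.symm : L ⊗[A] R →+* L ⊗[FractionRing A] R).comp
      (e1 : R ⊗[A] L →+* L ⊗[A] R)) (e2.symm.injective.comp e1.injective)
  exact Groth.Agent.Helper2.AnUnr2.main (R := R) this

end Groth.Agent.Helper2.AnUnr3
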