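import Mathlib
import Groth.Prelude.Def_Found
import Groth.Agent.Helper2.AnUnr2

set_option autoImplicit false
set_option linter.style.haveILetI false

namespace Groth.Agent.Helper2.AnUnr4

universe u

open TensorProduct

/-- S2072: an analytically unramified Noetherian local domain is N-1. -/
theorem s2072 {R : Type u} [CommRing R] [IsDomain R] [IsLocalRing R]
    [IsNoetherianRing R] [IsReduced (AdicCompletion (IsLocalRing.maximalIdeal R) R)] :
    CAlg.IsN1 R := by
  let Rh := AdicCompletion (IsLocalRing.maximalIdeal R) R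
  let Q := FractionRing Rh
  let K := FractionRing R
  haveI : IsScalarTower R Rh Q := inferInstance
  have hunit : ∀ a : R, a ≠ 0 → IsUnit (algebraMap R Q a) :=
    Groth.Agent.Helper2.AnUnr2.isUnit_algebraMap (A := R) (R := Q)
  letI : Algebra K Q := (IsLocalization.lift (M := nonZeroDivisors R) (g := algebraMap R Q)
    (fun y => hunit y (nonZeroDivisors.coe_ne_zero y))).toAlgebra
  haveI : IsScalarTower R K Q := IsScalarTower.of_algebraMap_eq
    (fun r => (IsLocalization.lift_eq _ r).symm)
  haveI : IsReduced Q := inferInstance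
  let e : K ⊗[R] Q ≃ₐ[K] Q := IsLocalization.algebraLid (nonZeroDivisors R) K Q
  let c : Q ⊗[R] K ≃ₐ[R] K ⊗[R] Q := Algebra.TensorProduct.comm R Q K
  haveI : IsReduced (Q ⊗[R] K) :=
    isReduced_of_injective ((e : K ⊗[R] Q →+* Q).comp (c : Q ⊗[R] K →+* K ⊗[R] Q))
      (e.injective.comp c.injective)
  exact Groth.Agent.Helper2.AnUnr2.main (A := R) (K' := K) (R := Q) this

end Groth.Agent.Helper2.AnUnr4
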