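import Mathlib
import Groth.Prelude.Def_Found
import Groth.Agent.Helper2.AnUnr1

set_option autoImplicit false
set_option linter.style.haveILetI false

namespace Groth.Agent.Helper2.AnUnr5

universe u

open TensorProduct

section Span

variable {A : Type u} [CommRing A] [IsDomain A]
  {K : Type u} [Field K] [Algebra A K] [IsFractionRing A K]
  {R : Type u} [CommRing R] [Algebra A R]
  {K' : Type u} [Field K'] [Algebra A K'] [Algebra K K'] [IsScalarTower A K K']

theorem exists_smul_mem_span {ι : Type*} [Fintype ι] (b : Module.Basis ι K K')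
    (x : K') : ∃ a : A, a ≠ 0 ∧ a • x ∈ Submodule.span A (Set.range b) := by
  classical
  obtain ⟨a, ha⟩ := IsLocalization.exist_integer_multiples (nonZeroDivisors A) Finset.univ
    (fun i => b.repr x i)
  refine ⟨a, nonZeroDivisors.coe_ne_zero a, ?_⟩
  choose c hc using fun i => ha i (Finset.mem_univ i)
  have hx : x = ∑ i, b.repr x i • b i := (b.sum_repr x).symm
  have : (a : A) • x = ∑ i, c i • b i := by
    conv_lhs => rw [hx]
    rw [Finset.smul_sum]
    refine Finset.sum_congr rfl fun i _ => ?_
    rw [← smul_assoc, ← hc i, algebraMap_smul]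
  rw [this]
  exact Submodule.sum_mem _ fun i _ => Submodule.smul_mem _ _ (Submodule.subset_span ⟨i, rfl⟩)

theorem span_tmul_eq_top (hunit : ∀ a : A, a ≠ 0 → IsUnit (algebraMap A R a))
    {ι : Type*} [Fintype ι] (b : Module.Basis ι K K') :
    Submodule.span R (Set.range fun i : ι => (1 : R) ⊗ₜ[A] (b i)) = (⊤ : Submodule R (R ⊗[A] K')) := by
  rw [eq_top_iff]
  intro t _
  have key : ∀ y ∈ Submodule.span A (Set.range b), ∀ r : R,
      r ⊗ₜ[A] y ∈ Submodule.span R (Set.range fun i : ι => (1 : R) ⊗ₜ[A] (b i)) := by
    intro y hy
    induction hy using Submodule.span_induction with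
    | mem x hx =>
      obtain ⟨i, rfl⟩ := hx
      intro r
      have : r ⊗ₜ[A] (b i) = r • ((1 : R) ⊗ₜ[A] (b i)) := by
        rw [TensorProduct.smul_tmul', smul_eq_mul, mul_one]
      rw [this]
      exact Submodule.smul_mem _ _ (Submodule.subset_span ⟨i, rfl⟩)
    | zero => intro r; rw [tmul_zero]; exact Submodule.zero_mem _
    | add x y _ _ hx hy => intro r; rw [tmul_add]; exact Submodule.add_mem _ (hx r) (hy r)
    | smul c x _ hx =>
      intro r
      rw [← TensorProduct.smul_tmul]
      exact hx _
  induction t using TensorProduct.induction_on with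
  | zero => exact Submodule.zero_mem _
  | add x y hx hy => exact Submodule.add_mem _ (hx trivial) (hy trivial)
  | tmul r x =>
    obtain ⟨a, ha0, hax⟩ := exists_smul_mem_span (A := A) (K := K) b x
    obtain ⟨u, hu⟩ := hunit a ha0
    have : r ⊗ₜ[A] x = (r * ↑u⁻¹) ⊗ₜ[A] (a • x) := by
      rw [← TensorProduct.smul_tmul, Algebra.smul_def, ← hu, mul_comm (u : R), mul_assoc,
        Units.inv_mul, mul_one]
    rw [this]
    exact key _ hax _

end Span

section Main

variable {A : Type u} [CommRing A] [IsDomain A] [IsNoetherianRing A]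
    {C : Type u} [CommRing C] [Algebra A C] [IsNoetherianRing C] [Module.FaithfullyFlat A C]
    {R : Type u} [CommRing R] [Algebra C R] [IsFractionRing C R] [Algebra A R]
    [IsScalarTower A C R]
    {K : Type u} [Field K] [Algebra A K] [IsFractionRing A K]
    {K' : Type u} [Field K'] [Algebra A K'] [Algebra K K'] [IsScalarTower A K K']
    [FiniteDimensional K K']

theorem isUnit_algebraMap' {A : Type u} [CommRing A] [IsDomain A]
    (C : Type u) [CommRing C] [Algebra A C] [Module.Flat A C]
    {R : Type u} [CommRing R] [Algebra C R] [IsFractionRing C R] [Algebra A R]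
    [IsScalarTower A C R] (a : A) (ha : a ≠ 0) : IsUnit (algebraMap A R a) := by
  rw [IsScalarTower.algebraMap_apply A C R]
  have hreg : IsSMulRegular C a :=
    Module.Flat.isSMulRegular_of_nonZeroDivisors (mem_nonZeroDivisors_of_ne_zero ha)
  have hmem : algebraMap A C a ∈ nonZeroDivisors C := by
    rw [mem_nonZeroDivisors_iff_right]
    intro x hx
    apply hreg
    change a • x = a • (0 : C)
    rw [smul_zero, Algebra.smul_def, mul_comm]
    exact hx
  exact IsLocalization.map_units R (⟨_, hmem⟩ : nonZeroDivisors C)

omit [IsNoetherianRing A] in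
include K in
/-- General form of S4565: `C` a Noetherian Nagata ring faithfully flat over the Noetherian domain
`A`, `R` its total ring of fractions. If `R ⊗[A] K'` is reduced then the integral closure of `A` in
`K'` is finite. -/
theorem main (hNag : CAlg.IsNagata C) (h : IsReduced (R ⊗[A] K')) :
    Module.Finite A (integralClosure A K') := by
  classical
  have hunit : ∀ a : A, a ≠ 0 → IsUnit (algebraMap A R a) := isUnit_algebraMap' C
  obtain ⟨s, b, hb⟩ := FiniteDimensional.exists_is_basis_integral A K K'
  have hspan := span_tmul_eq_top (R := R) hunit b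
  haveI : IsNoetherianRing R := IsLocalization.isNoetherianRing (nonZeroDivisors C) R inferInstance
  haveI : Module.Finite R (R ⊗[A] K') :=
    Module.finite_def.mpr (hspan ▸ Submodule.fg_span (Set.finite_range _))
  haveI : IsNoetherianRing (R ⊗[A] K') := IsNoetherianRing.of_finite R _
  haveI hfinT : Module.Finite C (integralClosure C (R ⊗[A] K')) := by
    refine Groth.Agent.Helper5.NagataRed.finite_of_minimalPrimes C (R ⊗[A] K') ?_
    intro q hq
    haveI : q.IsPrime := hq.1.1
    refine Groth.Agent.Helper2.AnUnr1.finite_integralClosure_of_span C hNag (nonZeroDivisors C) R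
      ((R ⊗[A] K') ⧸ q) (fun i : s => Ideal.Quotient.mk q ((1 : R) ⊗ₜ[A] (b i))) ?_ ?_
    · intro i
      have h1 : IsIntegral A ((1 : R) ⊗ₜ[A] (b i) : R ⊗[A] K') :=
        (hb i).map (Algebra.TensorProduct.includeRight : K' →ₐ[A] R ⊗[A] K')
      have h2 : IsIntegral C ((1 : R) ⊗ₜ[A] (b i) : R ⊗[A] K') := h1.tower_top
      exact h2.map (Ideal.Quotient.mkₐ C q)
    · rw [eq_top_iff]
      rintro x -
      obtain ⟨t, rfl⟩ := Ideal.Quotient.mk_surjective x
      have ht : t ∈ Submodule.span R (Set.range fun i : s => (1 : R) ⊗ₜ[A] (b i)) :=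
        hspan ▸ Submodule.mem_top
      induction ht using Submodule.span_induction with
      | mem x hx =>
        obtain ⟨i, rfl⟩ := hx
        exact Submodule.subset_span ⟨i, rfl⟩
      | zero => rw [map_zero]; exact Submodule.zero_mem _
      | add x y _ _ hx hy => rw [map_add]; exact Submodule.add_mem _ hx hy
      | smul r x _ hx =>
        have : Ideal.Quotient.mk q (r • x) = r • Ideal.Quotient.mk q x := rfl
        rw [this]
        exact Submodule.smul_mem _ _ hx
  haveI : IsNoetherian C (integralClosure C (R ⊗[A] K')) :=
    isNoetherian_of_isNoetherianRing_of_finite _ _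
  haveI : Module.Flat A K := IsLocalization.flat K (nonZeroDivisors A)
  haveI : Module.Flat A K' := Module.Flat.trans A K K'
  let ψ : C ⊗[A] (integralClosure A K') →ₐ[C] R ⊗[A] K' :=
    Algebra.TensorProduct.map (Algebra.ofId C R) (integralClosure A K').val
  have hψinj : Function.Injective ψ := by
    have h1 : Function.Injective (LinearMap.lTensor C (integralClosure A K').val.toLinearMap) :=
      Module.Flat.lTensor_preserves_injective_linearMap _ Subtype.val_injective
    have h2 : Function.Injective
        (LinearMap.rTensor K' ((Algebra.ofId C R).toLinearMap.restrictScalars A)) :=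
      Module.Flat.rTensor_preserves_injective_linearMap _ (IsFractionRing.injective C R)
    have h3 : ∀ t, ψ t = (LinearMap.rTensor K' ((Algebra.ofId C R).toLinearMap.restrictScalars A))
        ((LinearMap.lTensor C (integralClosure A K').val.toLinearMap) t) := by
      intro t
      induction t using TensorProduct.induction_on with
      | zero => simp
      | tmul x y => rfl
      | add x y hx hy => rw [map_add, map_add, map_add, hx, hy]
    intro x y hxy
    rw [h3, h3] at hxy
    exact h1 (h2 hxy)
  let Ψ : C ⊗[A] (integralClosure A K') →ₗ[C] integralClosure C (R ⊗[A] K') :=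
    { toFun := fun t => ⟨ψ t, (Algebra.IsIntegral.isIntegral (R := C) t).map ψ⟩
      map_add' := fun x y => Subtype.ext (map_add ψ x y)
      map_smul' := fun c x => Subtype.ext (map_smul ψ c x) }
  haveI : Module.Finite C (C ⊗[A] (integralClosure A K')) :=
    Module.Finite.of_injective Ψ (fun x y hxy => hψinj (congrArg Subtype.val hxy))
  exact Module.Finite.of_finite_tensorProduct_of_faithfullyFlat C

end Main

end Groth.Agent.Helper2.AnUnr5
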