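import Mathlib
import Groth.Prelude.Def_Found
import Groth.Prelude.Def_EGA4b
import Groth.Agent.Helper2.AnUnr5
import Groth.Agent.Helper2.NagataCompl3
import Groth.Agent.S0543

set_option autoImplicit false
set_option linter.style.haveILetI false

namespace Groth.Agent.Helper2.AnUnr6

universe u

open TensorProduct

/-- Nagata passes to surjective images. -/
theorem isNagata_of_surjective {R S : Type u} [CommRing R] [CommRing S] (f : R →+* S)
    (hf : Function.Surjective f) (hR : CAlg.IsNagata R) : CAlg.IsNagata S := by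
  haveI := hR.1
  refine ⟨isNoetherianRing_of_surjective R S f hf, fun q hq => ?_⟩
  let g : R →+* S ⧸ q := (Ideal.Quotient.mk q).comp f
  have hg : Function.Surjective g := Ideal.Quotient.mk_surjective.comp hf
  haveI : (RingHom.ker g).IsPrime := RingHom.ker_isPrime g
  have h1 := hR.2 (RingHom.ker g)
  exact Groth.Agent.Helper2.TateN2e.isN2_of_ringEquiv (RingHom.quotientKerEquivOfSurjective hg) h1

/-- reducedness passes from `C ⊗ K'` to `Frac(C) ⊗ K'` -/
theorem isReduced_tensor_fractionRing {A : Type u} [CommRing A]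
    {C : Type u} [CommRing C] [Algebra A C]
    {R : Type u} [CommRing R] [Algebra C R] (M : Submonoid C) [IsLocalization M R] [Algebra A R]
    [IsScalarTower A C R]
    {K' : Type u} [CommRing K'] [Algebra A K'] (h : IsReduced (C ⊗[A] K')) :
    IsReduced (R ⊗[A] K') := by
  haveI h1 : IsReduced ((C ⊗[A] K') ⊗[C] R) :=
    isReduced_localizationPreserves (Algebra.algebraMapSubmonoid (C ⊗[A] K') M) _ h
  let e1 : R ⊗[C] (C ⊗[A] K') ≃ₐ[C] R ⊗[A] K' := Algebra.TensorProduct.cancelBaseChange A C C R K'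
  let e2 : R ⊗[C] (C ⊗[A] K') ≃ₐ[C] (C ⊗[A] K') ⊗[C] R := Algebra.TensorProduct.comm C R _
  exact isReduced_of_injective (e1.symm.trans e2).toAlgHom.toRingHom (e1.symm.trans e2).injective

/-- S2657: a Noetherian local ring with geometrically reduced formal fibres is Nagata. -/
theorem s2657 (A : Type u) [CommRing A] [IsNoetherianRing A] [IsLocalRing A]
    (hA : EGA4.HasGeomReducedFormalFibres A) : CAlg.IsNagata A := by
  refine ⟨inferInstance, fun p hp => ?_⟩
  haveI : IsNoetherianRing (EGA4.Cpl A) := Groth.Agent.S0543.result A _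
  haveI : Module.FaithfullyFlat A (EGA4.Cpl A) := Module.FaithfullyFlat.of_flat_of_isLocalHom
  -- `C = (A/p) ⊗ Â` is Noetherian and Nagata
  let e : ((A ⧸ p) ⊗[A] EGA4.Cpl A) ≃+* (EGA4.Cpl A ⧸ p.map (algebraMap A (EGA4.Cpl A))) :=
    (Algebra.TensorProduct.comm A (A ⧸ p) (EGA4.Cpl A)).toRingEquiv.trans
      (Algebra.TensorProduct.quotIdealMapEquivTensorQuot (EGA4.Cpl A) p).symm.toRingEquiv
  have hNagAh : CAlg.IsNagata (EGA4.Cpl A) :=
    Groth.Agent.Helper2.NagataCompl3.isNagata_of_complete (EGA4.Cpl A)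
  have hNagQ : CAlg.IsNagata (EGA4.Cpl A ⧸ p.map (algebraMap A (EGA4.Cpl A))) :=
    isNagata_of_surjective (Ideal.Quotient.mk _) Ideal.Quotient.mk_surjective hNagAh
  have hNagC : CAlg.IsNagata ((A ⧸ p) ⊗[A] EGA4.Cpl A) :=
    isNagata_of_surjective e.symm.toRingHom e.symm.surjective hNagQ
  haveI : IsNoetherianRing ((A ⧸ p) ⊗[A] EGA4.Cpl A) := hNagC.1
  apply Groth.Agent.Helper4.Japanese.isN2_of (K := p.ResidueField)
  intro L _ _ _ _ hfd
  -- reducedness of `C ⊗[A/p] L`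
  letI : Algebra A L := ((algebraMap (A ⧸ p) L).comp (algebraMap A (A ⧸ p))).toAlgebra
  haveI : IsScalarTower A (A ⧸ p) L := IsScalarTower.of_algebraMap_eq (fun _ => rfl)
  haveI : IsScalarTower A p.ResidueField L := IsScalarTower.of_algebraMap_eq (fun a => by
    change algebraMap (A ⧸ p) L (algebraMap A (A ⧸ p) a) =
      algebraMap p.ResidueField L (algebraMap A p.ResidueField a)
    rw [IsScalarTower.algebraMap_apply A (A ⧸ p) p.ResidueField,
      ← IsScalarTower.algebraMap_apply (A ⧸ p) p.ResidueField L])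
  haveI : Algebra.IsAlgebraic p.ResidueField L := Algebra.IsAlgebraic.of_finite _ _
  haveI : Algebra.IsGeometricallyReduced p.ResidueField (p.ResidueField ⊗[A] EGA4.Cpl A) := hA p
  haveI h0 : IsReduced (L ⊗[p.ResidueField] (p.ResidueField ⊗[A] EGA4.Cpl A)) := inferInstance
  let e1 : ((A ⧸ p) ⊗[A] EGA4.Cpl A) ⊗[A ⧸ p] L ≃+* L ⊗[A ⧸ p] ((A ⧸ p) ⊗[A] EGA4.Cpl A) :=
    (Algebra.TensorProduct.comm (A ⧸ p) _ L).toRingEquiv
  let e2 : L ⊗[A ⧸ p] ((A ⧸ p) ⊗[A] EGA4.Cpl A) ≃+* L ⊗[A] EGA4.Cpl A :=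
    (Algebra.TensorProduct.cancelBaseChange A (A ⧸ p) (A ⧸ p) L (EGA4.Cpl A)).toRingEquiv
  let e3 : L ⊗[p.ResidueField] (p.ResidueField ⊗[A] EGA4.Cpl A) ≃+* L ⊗[A] EGA4.Cpl A :=
    (Algebra.TensorProduct.cancelBaseChange A p.ResidueField p.ResidueField L
      (EGA4.Cpl A)).toRingEquiv
  have hred : IsReduced (((A ⧸ p) ⊗[A] EGA4.Cpl A) ⊗[A ⧸ p] L) :=
    isReduced_of_injective ((e1.trans e2).trans e3.symm) ((e1.trans e2).trans e3.symm).injective
  have hredR : IsReduced (FractionRing ((A ⧸ p) ⊗[A] EGA4.Cpl A) ⊗[A ⧸ p] L) :=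
    isReduced_tensor_fractionRing (nonZeroDivisors ((A ⧸ p) ⊗[A] EGA4.Cpl A)) hred
  exact Groth.Agent.Helper2.AnUnr5.main (A := A ⧸ p) (C := (A ⧸ p) ⊗[A] EGA4.Cpl A)
    (R := FractionRing ((A ⧸ p) ⊗[A] EGA4.Cpl A)) (K := p.ResidueField) (K' := L) hNagC hredR

end Groth.Agent.Helper2.AnUnr6
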