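import Mathlib
import Groth.Prelude.Def_Found
import Groth.Prelude.Def_EGA4b
import Groth.Agent.Helper2.AnUnr6

set_option autoImplicit false
set_option linter.style.haveILetI false

namespace Groth.Agent.Helper2.AnUnr7

universe u

open TensorProduct

/-- a normal ring is reduced -/
theorem isReduced_of_isNormalRing (T : Type u) [CommRing T] (h : EGA4.IsNormalRing T) :
    IsReduced T := by
  apply isReduced_ofLocalizationMaximal
  intro m hm
  haveI := (h m).1
  infer_instance

/-- geometrically normal ⇒ geometrically reduced -/
theorem isGeometricallyReduced_of_isGeomNormal (k : Type u) [Field k] (S : Type u) [CommRing S]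
    [Algebra k S] (h : EGA4.IsGeomNormal k S) : Algebra.IsGeometricallyReduced k S := by
  rw [Algebra.isGeometricallyReduced_field_iff]
  haveI : IsReduced (S ⊗[k] AlgebraicClosure k) := by
    apply IsReduced.tensorProduct_of_flat_of_forall_fg
    intro B hB
    haveI : Algebra.IsIntegral k B := ⟨fun x =>
      (isIntegral_algHom_iff B.val Subtype.val_injective).mp (Algebra.IsIntegral.isIntegral (x : AlgebraicClosure k))⟩
    haveI : Algebra.FiniteType k B := (Subalgebra.fg_iff_finiteType B).mp hB
    haveI hfin : Module.Finite k B := Algebra.IsIntegral.finite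
    have hfield : IsField B := Subalgebra.isField_of_algebraic B
    letI : Field B := hfield.toField
    have h1 := h B hfin
    haveI := isReduced_of_isNormalRing _ h1
    exact isReduced_of_injective (Algebra.TensorProduct.comm k S B).toAlgHom.toRingHom
      (Algebra.TensorProduct.comm k S B).injective
  exact isReduced_of_injective (Algebra.TensorProduct.comm k (AlgebraicClosure k) S).toAlgHom.toRingHom
    (Algebra.TensorProduct.comm k (AlgebraicClosure k) S).injective

/-- Nagata + reduced ⇒ the integral closure in the total ring of fractions is finite. -/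
theorem finite_integralClosure_fractionRing (A : Type u) [CommRing A] [IsReduced A]
    (hA : CAlg.IsNagata A) : Module.Finite A (integralClosure A (FractionRing A)) := by
  haveI := hA.1
  haveI : IsNoetherianRing (FractionRing A) :=
    IsLocalization.isNoetherianRing (nonZeroDivisors A) _ inferInstance
  refine Groth.Agent.Helper5.NagataRed.finite_of_minimalPrimes A (FractionRing A) ?_
  intro q hq
  haveI : q.IsPrime := hq.1.1
  refine Groth.Agent.Helper2.AnUnr1.finite_integralClosure_of_span A hA (nonZeroDivisors A)
    (FractionRing A) (FractionRing A ⧸ q) (fun _ : Unit => 1) (fun _ => isIntegral_one) ?_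
  rw [eq_top_iff]
  rintro x -
  obtain ⟨t, rfl⟩ := Ideal.Quotient.mk_surjective x
  have : Ideal.Quotient.mk q t = t • (1 : FractionRing A ⧸ q) := by
    rw [Algebra.smul_def, mul_one]; rfl
  rw [this]
  exact Submodule.smul_mem _ _ (Submodule.subset_span ⟨(), rfl⟩)

/-- The completion of a reduced Noetherian local ring with geometrically normal formal fibres is
reduced. -/
theorem isReduced_cpl (A : Type u) [CommRing A] [IsNoetherianRing A] [IsLocalRing A] [IsReduced A]
    (hA : EGA4.HasGeomNormalFormalFibres A) : IsReduced (EGA4.Cpl A) := by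
  classical
  have hfin : (minimalPrimes A).Finite := minimalPrimes.finite_of_isNoetherianRing A
  haveI : Fintype (minimalPrimes A) := hfin.fintype
  haveI hprime : ∀ q : minimalPrimes A, q.1.IsPrime := fun q => q.2.1.1
  let φ : A →ₐ[A] (∀ q : minimalPrimes A, (q.1).ResidueField) := Algebra.ofId A _
  have hφ : Function.Injective φ := by
    rw [injective_iff_map_eq_zero]
    intro a ha
    have h1 : a ∈ sInf (minimalPrimes A) := by
      rw [Ideal.mem_sInf]
      intro q hq
      have h2 := congrFun ha ⟨q, hq⟩
      haveI : q.IsPrime := hq.1.1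
      exact Ideal.algebraMap_residueField_eq_zero.mp h2
    rw [minimalPrimes, Ideal.sInf_minimalPrimes] at h1
    have h2 : a ∈ nilradical A := h1
    rw [nilradical_eq_zero] at h2
    exact h2
  have h1 : Function.Injective (LinearMap.lTensor (EGA4.Cpl A) φ.toLinearMap) :=
    Module.Flat.lTensor_preserves_injective_linearMap _ hφ
  haveI hred : ∀ q : minimalPrimes A, IsReduced (EGA4.Cpl A ⊗[A] (q.1).ResidueField) := by
    intro q
    haveI := isGeometricallyReduced_of_isGeomNormal _ _ (hA q.1)
    haveI : IsReduced ((q.1).ResidueField ⊗[A] EGA4.Cpl A) :=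
      Algebra.isReduced_of_isGeometricallyReduced (q.1).ResidueField
    exact isReduced_of_injective
      (Algebra.TensorProduct.comm A (EGA4.Cpl A) (q.1).ResidueField).toAlgHom.toRingHom
      (Algebra.TensorProduct.comm A (EGA4.Cpl A) (q.1).ResidueField).injective
  let g : EGA4.Cpl A →+* (∀ q : minimalPrimes A, EGA4.Cpl A ⊗[A] (q.1).ResidueField) :=
    RingHom.pi (fun q => (Algebra.TensorProduct.includeLeft :
      EGA4.Cpl A →ₐ[A] EGA4.Cpl A ⊗[A] (q.1).ResidueField).toRingHom)
  have hg : ∀ a : EGA4.Cpl A, g a =
      Algebra.TensorProduct.piRight A A (EGA4.Cpl A) (fun q : minimalPrimes A => (q.1).ResidueField)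
        (LinearMap.lTensor (EGA4.Cpl A) φ.toLinearMap
          ((TensorProduct.rid A (EGA4.Cpl A)).symm a)) := by
    intro a
    funext q
    rw [TensorProduct.rid_symm_apply, LinearMap.lTensor_tmul, Algebra.TensorProduct.piRight_tmul]
    change a ⊗ₜ[A] (1 : (q.1).ResidueField) = a ⊗ₜ[A] (φ 1 q)
    rw [map_one]
    rfl
  refine isReduced_of_injective g ?_
  intro a b hab
  rw [hg, hg] at hab
  exact (TensorProduct.rid A (EGA4.Cpl A)).symm.injective
    (h1 ((Algebra.TensorProduct.piRight A A (EGA4.Cpl A) _).injective hab))

/-- S2646 -/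
theorem s2646 (A : Type u) [CommRing A] [IsNoetherianRing A] [IsLocalRing A] [IsReduced A]
    (hA : EGA4.HasGeomNormalFormalFibres A) :
    IsReduced (EGA4.Cpl A) ∧ Module.Finite A (integralClosure A (FractionRing A)) := by
  refine ⟨isReduced_cpl A hA, ?_⟩
  apply finite_integralClosure_fractionRing
  apply Groth.Agent.Helper2.AnUnr6.s2657
  intro p hp
  exact isGeometricallyReduced_of_isGeomNormal _ _ (hA p)

end Groth.Agent.Helper2.AnUnr7
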