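import Mathlib
import Groth.Prelude.Def_EGA41
import Groth.Agent.Helper1.FieldSmooth7

set_option autoImplicit false

namespace Groth.Agent.Helper2.ArtSub

open EGA41 Groth.Agent.Helper1.PBasis Groth.Agent.Helper1.PBasisField
  Groth.Agent.Helper1.FieldSmooth
open scoped TensorProduct

universe u

section Ai

variable (p : ℕ) [hp : Fact p.Prime] {F k K : Type u} [Field F] [Field k] [Field K]
  [Algebra F k] [Algebra k K] [Algebra F K] [IsScalarTower F k K] [CharP K p] [CharP k p]

/-- a finite-dimensional subspace lies in the span of finitely many basis vectors. -/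
theorem exists_finset_span_of_finite {V J : Type*} [AddCommGroup V] [Module K V]
    (b : Module.Basis J K V) (W : Submodule K V) (hW : W.FG) :
    ∃ J₀ : Finset J, W ≤ Submodule.span K (b '' (J₀ : Set J)) := by
  classical
  obtain ⟨s, hs⟩ := hW
  refine ⟨s.biUnion fun v => (b.repr v).support, ?_⟩
  rw [← hs, Submodule.span_le]
  intro v hv
  have hv' : v = ∑ j ∈ (b.repr v).support, (b.repr v) j • b j := by
    conv_lhs => rw [← b.linearCombination_repr v, Finsupp.linearCombination_apply, Finsupp.sum]
  rw [hv']
  refine Submodule.sum_mem _ (fun j hj => Submodule.smul_mem _ _ (Submodule.subset_span ?_))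
  refine ⟨j, ?_, rfl⟩
  rw [Finset.mem_coe, Finset.mem_biUnion]
  exact ⟨v, hv, hj⟩

/-- finiteness of `H₁(L_{K/k})`: all but finitely many members of a `p`-basis of `k` stay
`p`-independent in `K`. -/
theorem exists_finset_linearIndependent (hF : ∀ a : F, ∃ b : F, b ^ p = a) {J : Type u} (y : J → k)
    (hy : IsPBasis p F y) (hH : Module.Finite K (Algebra.H1Cotangent k K)) :
    ∃ J₀ : Finset J, LinearIndependent K
      (fun j : {j : J // j ∉ J₀} => KaehlerDifferential.D F K (algebraMap k K (y j))) := by
  classical
  let b := basisD p F y hy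
  let bK : Module.Basis J K (K ⊗[k] Ω[k⁄F]) := Module.Basis.baseChange K b
  have hb : ∀ j, KaehlerDifferential.mapBaseChange F k K (bK j) =
      KaehlerDifferential.D F K (algebraMap k K (y j)) := by
    intro j
    rw [Module.Basis.baseChange_apply, KaehlerDifferential.mapBaseChange_tmul, one_smul,
      basisD_apply, KaehlerDifferential.map_D]
  -- the kernel is finite dimensional
  have e2 := Algebra.H1Cotangent.exact_δ_mapBaseChange F k K
  have hker : LinearMap.ker (KaehlerDifferential.mapBaseChange F k K) =
      LinearMap.range (Algebra.H1Cotangent.δ F k K) := e2.linearMap_ker_eq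
  have hfg : (LinearMap.ker (KaehlerDifferential.mapBaseChange F k K)).FG := by
    rw [hker, LinearMap.range_eq_map]
    exact Submodule.FG.map _ (Module.finite_def.1 hH)
  obtain ⟨J₀, hJ₀⟩ := exists_finset_span_of_finite bK _ hfg
  refine ⟨J₀, ?_⟩
  have hli : LinearIndependent K (fun j : {j : J // j ∉ J₀} => bK j) :=
    bK.linearIndependent.comp _ Subtype.val_injective
  have hdisj : Disjoint (Submodule.span K (Set.range fun j : {j : J // j ∉ J₀} => bK j))
      (LinearMap.ker (KaehlerDifferential.mapBaseChange F k K)) := by
    refine Disjoint.mono_right hJ₀ ?_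
    have hrange : (Set.range fun j : {j : J // j ∉ J₀} => bK j) = bK '' {j | j ∉ J₀} := by
      ext v
      constructor
      · rintro ⟨⟨j, hj⟩, rfl⟩
        exact ⟨j, hj, rfl⟩
      · rintro ⟨j, hj, rfl⟩
        exact ⟨⟨j, hj⟩, rfl⟩
    rw [hrange]
    apply bK.linearIndependent.disjoint_span_image
    rw [Set.disjoint_left]
    intro j hj hj'
    exact hj hj'
  have hmap := hli.map hdisj
  have heq : ((KaehlerDifferential.mapBaseChange F k K) ∘ fun j : {j : J // j ∉ J₀} => bK j) =
      fun j : {j : J // j ∉ J₀} => KaehlerDifferential.D F K (algebraMap k K (y j)) := by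
    funext j
    exact hb j
  rw [heq] at hmap
  exact hmap

end Ai

section Aii

/-- a linear map sending a spanning family to a linearly independent family is injective. -/
theorem injective_of_span_of_linearIndependent {K V V' ι : Type*} [Field K] [AddCommGroup V]
    [Module K V] [AddCommGroup V'] [Module K V'] (f : V →ₗ[K] V') (w : ι → V)
    (hspan : Submodule.span K (Set.range w) = ⊤) (hli : LinearIndependent K (f ∘ w)) :
    Function.Injective f := by
  rw [injective_iff_map_eq_zero]
  intro x hx
  have hxmem : x ∈ Submodule.span K (Set.range w) := by rw [hspan]; trivial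
  obtain ⟨c, rfl⟩ := Finsupp.mem_span_range_iff_exists_finsupp.1 hxmem
  rw [map_finsuppSum] at hx
  have h0 : Finsupp.linearCombination K (f ∘ w) c = 0 := by
    rw [Finsupp.linearCombination_apply]
    simpa only [map_smul, Function.comp_apply] using hx
  have hc := linearIndependent_iff.1 hli c h0
  rw [hc]
  simp

variable {F k : Type u} [Field F] [Field k] [Algebra F k]

/-- differentials of a generated field are spanned by the differentials of the generators. -/
theorem span_D_adjoin (S : Set k) :
    Submodule.span (IntermediateField.adjoin F S)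
      (Set.range fun s : S => KaehlerDifferential.D F (IntermediateField.adjoin F S)
        ⟨s.1, IntermediateField.subset_adjoin F S s.2⟩) = ⊤ := by
  rw [eq_top_iff, ← KaehlerDifferential.span_range_derivation, Submodule.span_le]
  rintro _ ⟨⟨x, hx⟩, rfl⟩
  induction hx using IntermediateField.adjoin_induction with
  | mem x hx => exact Submodule.subset_span ⟨⟨x, hx⟩, rfl⟩
  | algebraMap x =>
    have : (⟨algebraMap F k x, IntermediateField.algebraMap_mem _ x⟩ :
        IntermediateField.adjoin F S) = algebraMap F (IntermediateField.adjoin F S) x := rfl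
    rw [this, Derivation.map_algebraMap]
    exact Submodule.zero_mem _
  | add x y hx hy hx' hy' =>
    have : (⟨x + y, add_mem hx hy⟩ : IntermediateField.adjoin F S) = ⟨x, hx⟩ + ⟨y, hy⟩ := rfl
    rw [this, map_add]
    exact Submodule.add_mem _ hx' hy'
  | inv x hx hx' =>
    have : (⟨x⁻¹, inv_mem hx⟩ : IntermediateField.adjoin F S) = (⟨x, hx⟩ : IntermediateField.adjoin F S)⁻¹ := rfl
    rw [this, Derivation.leibniz_inv]
    exact Submodule.smul_mem _ _ hx'
  | mul x y hx hy hx' hy' =>
    have : (⟨x * y, mul_mem hx hy⟩ : IntermediateField.adjoin F S) = ⟨x, hx⟩ * ⟨y, hy⟩ := rfl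
    rw [this, Derivation.leibniz]
    exact Submodule.add_mem _ (Submodule.smul_mem _ _ hy') (Submodule.smul_mem _ _ hx')

end Aii

section Aii2

variable (p : ℕ) [hp : Fact p.Prime] {F k K : Type u} [Field F] [Field k] [Field K]
  [Algebra F k] [Algebra k K] [Algebra F K] [IsScalarTower F k K] [CharP K p]

/-- `K` is formally smooth over the subfield generated by the `p`-independent part. -/
theorem formallySmooth_adjoin (hF : ∀ a : F, ∃ b : F, b ^ p = a) {J : Type u} (y : J → k)
    (J₀ : Finset J)
    (hli : LinearIndependent K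
      (fun j : {j : J // j ∉ J₀} => KaehlerDifferential.D F K (algebraMap k K (y j)))) :
    Algebra.FormallySmooth (IntermediateField.adjoin F (y '' {j | j ∉ J₀})) K := by
  rw [formallySmooth_iff_injective p (F := F) hF]
  have hmem : ∀ j : {j : J // j ∉ J₀}, y j ∈ IntermediateField.adjoin F (y '' {j | j ∉ J₀}) :=
    fun j => IntermediateField.subset_adjoin F _ ⟨j.1, j.2, rfl⟩
  refine injective_of_span_of_linearIndependent _
    (fun j : {j : J // j ∉ J₀} => (1 : K) ⊗ₜ[IntermediateField.adjoin F (y '' {j | j ∉ J₀})]
      KaehlerDifferential.D F (IntermediateField.adjoin F (y '' {j | j ∉ J₀})) ⟨y j, hmem j⟩) ?_ ?_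
  · have h1 := span_D_adjoin (F := F) (y '' {j | j ∉ J₀})
    have h2 : (Set.range fun j : {j : J // j ∉ J₀} =>
        (1 : K) ⊗ₜ[IntermediateField.adjoin F (y '' {j | j ∉ J₀})]
          KaehlerDifferential.D F (IntermediateField.adjoin F (y '' {j | j ∉ J₀})) ⟨y j, hmem j⟩) =
        (TensorProduct.mk (IntermediateField.adjoin F (y '' {j | j ∉ J₀})) K _ 1) ''
          (Set.range fun s : (y '' {j | j ∉ J₀}) =>
            KaehlerDifferential.D F (IntermediateField.adjoin F (y '' {j | j ∉ J₀}))
              ⟨s.1, IntermediateField.subset_adjoin F _ s.2⟩) := by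
      ext v
      constructor
      · rintro ⟨j, rfl⟩
        exact ⟨_, ⟨⟨y j, j.1, j.2, rfl⟩, rfl⟩, rfl⟩
      · rintro ⟨_, ⟨⟨_, j, hj, rfl⟩, rfl⟩, rfl⟩
        exact ⟨⟨j, hj⟩, rfl⟩
    rw [h2, ← Submodule.baseChange_span, h1, Submodule.baseChange_top]
  · have heq : ((KaehlerDifferential.mapBaseChange F (IntermediateField.adjoin F (y '' {j | j ∉ J₀})) K) ∘
        fun j : {j : J // j ∉ J₀} => (1 : K) ⊗ₜ[IntermediateField.adjoin F (y '' {j | j ∉ J₀})]
          KaehlerDifferential.D F (IntermediateField.adjoin F (y '' {j | j ∉ J₀})) ⟨y j, hmem j⟩) =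
        fun j : {j : J // j ∉ J₀} => KaehlerDifferential.D F K (algebraMap k K (y j)) := by
      funext j
      simp only [Function.comp_apply]
      rw [KaehlerDifferential.mapBaseChange_tmul, one_smul, KaehlerDifferential.map_D]
      rfl
    rw [heq]
    exact hli

end Aii2

section Av

variable (p : ℕ) [hp : Fact p.Prime] {F k : Type u} [Field F] [Field k] [Algebra F k] [CharP k p]

omit hp [CharP k p] in
lemma exists_pow_pow_eq (hF : ∀ a : F, ∃ b : F, b ^ p = a) (N : ℕ) (a : F) :
    ∃ b : F, b ^ p ^ N = a := by
  induction N generalizing a with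
  | zero => exact ⟨a, by simp⟩
  | succ N ih =>
    obtain ⟨b, hb⟩ := hF a
    obtain ⟨c, hc⟩ := ih b
    exact ⟨c, by rw [pow_succ, pow_mul, hc, hb]⟩

/-- `k` is generated as a field by a `p`-generating family together with the `p^N`-th powers. -/
theorem closure_pow_union_eq_top (hF : ∀ a : F, ∃ b : F, b ^ p = a) {J : Type u} (y : J → k)
    (hy : IsPGenerating p F y) (N : ℕ) :
    Subfield.closure (Set.range (fun a : k => a ^ p ^ N) ∪ Set.range y) = ⊤ := by
  induction N with
  | zero =>
    rw [eq_top_iff]
    intro a _
    exact Subfield.subset_closure (Or.inl ⟨a, by simp⟩)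
  | succ N ih =>
    set T := Subfield.closure (Set.range (fun a : k => a ^ p ^ (N + 1)) ∪ Set.range y) with hT
    have hyT : ∀ j, y j ∈ T := by
      intro j
      apply Subfield.subset_closure
      right
      exact ⟨j, rfl⟩
    -- Frobenius maps everything into `T`
    have hfrob : ∀ b : k, b ^ p ∈ T := by
      intro b
      have hb : b ∈ Subfield.closure (Set.range (fun a : k => a ^ p ^ N) ∪ Set.range y) := by
        rw [ih]; trivial
      induction hb using Subfield.closure_induction with
      | mem x hx =>
        rcases hx with ⟨a, rfl⟩ | ⟨j, rfl⟩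
        · apply Subfield.subset_closure
          left
          exact ⟨a, by simp only [pow_succ, pow_mul]⟩
        · exact pow_mem (hyT j) p
      | one => rw [one_pow]; exact T.one_mem
      | add x x' _ _ hx hx' =>
        rw [add_pow_char]
        exact add_mem hx hx'
      | neg x _ hx =>
        rw [neg_pow]
        exact mul_mem (pow_mem (neg_mem T.one_mem) p) hx
      | inv x _ hx =>
        rw [inv_pow]
        exact inv_mem hx
      | mul x x' _ _ hx hx' =>
        rw [mul_pow]
        exact mul_mem hx hx'
    have hFmem : ∀ x : F, algebraMap F k x ∈ T := by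
      intro x
      obtain ⟨b, rfl⟩ := exists_pow_pow_eq p hF (N + 1) x
      apply Subfield.subset_closure
      left
      exact ⟨algebraMap F k b, by rw [map_pow]⟩
    have hcmem : ∀ c : pPowerSubalgebra p F k, (c : k) ∈ T := by
      rintro ⟨c, hc⟩
      unfold pPowerSubalgebra at hc
      induction hc using Algebra.adjoin_induction with
      | mem x hx =>
        obtain ⟨b, rfl⟩ := hx
        exact hfrob b
      | algebraMap r => exact hFmem r
      | add x x' _ _ hx hx' => exact add_mem hx hx'
      | mul x x' _ _ hx hx' => exact mul_mem hx hx'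
    suffices hall : ∀ a : k, a ∈ T by
      rw [eq_top_iff]
      intro a _
      exact hall a
    intro a
    have ha : a ∈ Submodule.span (pPowerSubalgebra p F k)
        (Set.range fun e : {e : J →₀ ℕ // ∀ i, e i < p} => pMonomial y e.1) := by
      rw [hy]; trivial
    induction ha using Submodule.span_induction with
    | mem x hx =>
      obtain ⟨e, rfl⟩ := hx
      unfold pMonomial
      exact Subfield.prod_mem _ (fun j _ => pow_mem (hyT j) _)
    | zero => exact zero_mem _
    | add x x' _ _ hx hx' => exact add_mem hx hx'
    | smul c x _ hx => exact mul_mem (hcmem c) hx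

end Av

end Groth.Agent.Helper2.ArtSub
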