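import Mathlib
import Groth.Prelude

set_option autoImplicit false

namespace Groth.Agent.Helper2.CAwayQuot

universe u

variable (A : Type u) [CommRing A] [IsNoetherianRing A] (J : Ideal A) (f : A) (m : ℕ)

example : IsScalarTower A (Localization.Away f) (FSch.cAway A J f) := inferInstance

theorem map_eq : J.map (algebraMap A (FSch.cAway A J f)) =
    (J.map (algebraMap A (Localization.Away f))).map
      (algebraMap (Localization.Away f) (FSch.cAway A J f)) := by
  rw [Ideal.map_map, ← IsScalarTower.algebraMap_eq]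

omit [IsNoetherianRing A] in
theorem ker_evalₐ_gen {B : Type u} [CommRing B] (K : Ideal B) (hfg : K.FG) (m : ℕ) :
    RingHom.ker (AdicCompletion.evalₐ K m) =
      (K.map (algebraMap B (AdicCompletion K B))) ^ m := by
  have h1 := AdicCompletion.pow_smul_top_eq_ker_eval (I := K) (M := B) (n := m) hfg
  have h3 : (K.map (algebraMap B (AdicCompletion K B))) ^ m =
      (K ^ m).map (algebraMap B (AdicCompletion K B)) := (Ideal.map_pow _ _ _).symm
  rw [h3]
  ext x
  rw [RingHom.mem_ker]
  have h2 : x ∈ LinearMap.ker (AdicCompletion.eval K B m) ↔ AdicCompletion.evalₐ K m x = 0 := by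
    rw [LinearMap.mem_ker]
    have h : (K ^ m • ⊤ : Ideal B) = K ^ m := by ext x; simp
    have h4 : AdicCompletion.evalₐ K m x =
        (Ideal.quotientEquivAlgOfEq B h) (AdicCompletion.eval K B m x) := rfl
    rw [h4]
    exact (map_eq_zero_iff _ (AlgEquiv.injective _)).symm
  rw [← h2, ← h1, Ideal.smul_top_eq_map]
  rfl

theorem ker_evalₐ : RingHom.ker (AdicCompletion.evalₐ (J.map (algebraMap A (Localization.Away f))) m) =
    (J.map (algebraMap A (FSch.cAway A J f))) ^ m := by
  have hfg : (J.map (algebraMap A (Localization.Away f))).FG :=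
    (isNoetherianRing_iff_ideal_fg _).mp inferInstance _
  rw [map_eq]
  exact ker_evalₐ_gen _ hfg m

theorem s3874 (n : ℕ) :
    ∃ e : Localization.Away (Ideal.Quotient.mk (J ^ (n + 1)) f) ≃+*
        FSch.cAway A J f ⧸ (J.map (algebraMap A (FSch.cAway A J f))) ^ (n + 1),
      ∀ a : A, e (algebraMap (A ⧸ J ^ (n + 1)) _ (Ideal.Quotient.mk (J ^ (n + 1)) a)) =
        Ideal.Quotient.mk _ (algebraMap A (FSch.cAway A J f) a) := by
  set m := n + 1 with hm
  set Jh : Ideal (FSch.cAway A J f) := J.map (algebraMap A (FSch.cAway A J f)) with hJh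
  set K : Ideal (Localization.Away f) := J.map (algebraMap A (Localization.Away f)) with hK
  have hker : RingHom.ker (AdicCompletion.evalₐ K m) = Jh ^ m := ker_evalₐ A J f m
  have hle : J ^ m ≤ (Jh ^ m).comap (algebraMap A (FSch.cAway A J f)) :=
    FSch.pow_le_comap_pow_of_map_le J Jh _ le_rfl m
  let φ : A ⧸ J ^ m →+* FSch.cAway A J f ⧸ Jh ^ m :=
    Ideal.quotientMap (Jh ^ m) (algebraMap A (FSch.cAway A J f)) hle
  have hφ : ∀ a : A, φ (Ideal.Quotient.mk _ a) =
      Ideal.Quotient.mk _ (algebraMap A (FSch.cAway A J f) a) := fun a => rfl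
  have htower : ∀ a : A, algebraMap A (FSch.cAway A J f) a =
      algebraMap (Localization.Away f) (FSch.cAway A J f) (algebraMap A (Localization.Away f) a) :=
    fun a => IsScalarTower.algebraMap_apply A (Localization.Away f) (FSch.cAway A J f) a
  have hunit : IsUnit (φ (Ideal.Quotient.mk (J ^ m) f)) := by
    rw [hφ, htower]
    exact ((IsLocalization.Away.algebraMap_isUnit (S := Localization.Away f) f).map _).map _
  let ψ : Localization.Away (Ideal.Quotient.mk (J ^ m) f) →+* FSch.cAway A J f ⧸ Jh ^ m :=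
    IsLocalization.Away.lift (Ideal.Quotient.mk (J ^ m) f) hunit
  have hψ : ∀ a : A, ψ (algebraMap (A ⧸ J ^ m) _ (Ideal.Quotient.mk (J ^ m) a)) =
      Ideal.Quotient.mk _ (algebraMap A (FSch.cAway A J f) a) := by
    intro a
    rw [IsLocalization.Away.lift_eq, hφ]
  have hmem : ∀ a : A, algebraMap A (FSch.cAway A J f) a ∈ Jh ^ m →
      algebraMap (A ⧸ J ^ m) (Localization.Away (Ideal.Quotient.mk (J ^ m) f))
        (Ideal.Quotient.mk (J ^ m) a) = 0 := by
    intro a ha
    rw [← hker, RingHom.mem_ker, htower, AlgHom.commutes, Ideal.Quotient.algebraMap_eq,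
      Ideal.Quotient.eq_zero_iff_mem, hK, ← Ideal.map_pow,
      IsLocalization.mem_map_algebraMap_iff (Submonoid.powers f)] at ha
    obtain ⟨⟨⟨i, hi⟩, ⟨s, hs⟩⟩, h1⟩ := ha
    simp only at h1
    rw [← map_mul, IsLocalization.eq_iff_exists (Submonoid.powers f)] at h1
    obtain ⟨⟨t, ht⟩, h2⟩ := h1
    simp only at h2
    rw [IsLocalization.map_eq_zero_iff (Submonoid.powers (Ideal.Quotient.mk (J ^ m) f))]
    obtain ⟨j₁, rfl⟩ := hs
    obtain ⟨j₂, rfl⟩ := ht
    refine ⟨⟨Ideal.Quotient.mk (J ^ m) f ^ (j₂ + j₁), ⟨j₂ + j₁, rfl⟩⟩, ?_⟩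
    simp only
    rw [← map_pow, ← map_mul, Ideal.Quotient.eq_zero_iff_mem]
    have h3 : f ^ (j₂ + j₁) * a = f ^ j₂ * i := by
      rw [pow_add, ← h2]; ring
    rw [h3]
    exact Ideal.mul_mem_left _ _ hi
  have hinj : Function.Injective ψ := by
    rw [injective_iff_map_eq_zero]
    intro x hx
    obtain ⟨k, abar, hxa⟩ := IsLocalization.Away.surj (Ideal.Quotient.mk (J ^ m) f) x
    obtain ⟨a, rfl⟩ := Ideal.Quotient.mk_surjective abar
    have h1 : ψ (algebraMap (A ⧸ J ^ m) _ (Ideal.Quotient.mk (J ^ m) a)) = 0 := by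
      rw [← hxa, map_mul, hx, zero_mul]
    rw [hψ, Ideal.Quotient.eq_zero_iff_mem] at h1
    have h2 := hmem a h1
    rw [h2] at hxa
    have hu : IsUnit (algebraMap (A ⧸ J ^ m)
        (Localization.Away (Ideal.Quotient.mk (J ^ m) f)) (Ideal.Quotient.mk (J ^ m) f) ^ k) :=
      IsLocalization.Away.algebraMap_pow_isUnit _ k
    exact (hu.mul_left_eq_zero).mp hxa
  have hsurj : Function.Surjective ψ := by
    intro q
    obtain ⟨xh, rfl⟩ := Ideal.Quotient.mk_surjective q
    obtain ⟨b, hb⟩ := Ideal.Quotient.mk_surjective (AdicCompletion.evalₐ K m xh)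
    have h1 : xh - algebraMap (Localization.Away f) (FSch.cAway A J f) b ∈ Jh ^ m := by
      rw [← hker, RingHom.mem_ker, map_sub, AlgHom.commutes, Ideal.Quotient.algebraMap_eq, hb,
        sub_self]
    obtain ⟨k, a, hba⟩ := IsLocalization.Away.surj f b
    have hu : IsUnit (algebraMap (A ⧸ J ^ m)
        (Localization.Away (Ideal.Quotient.mk (J ^ m) f)) (Ideal.Quotient.mk (J ^ m) f) ^ k) :=
      IsLocalization.Away.algebraMap_pow_isUnit _ k
    obtain ⟨w, hw⟩ := hu.exists_right_inv
    refine ⟨algebraMap (A ⧸ J ^ m) _ (Ideal.Quotient.mk (J ^ m) a) * w, ?_⟩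
    have h2 : Ideal.Quotient.mk (Jh ^ m) xh * ψ (algebraMap (A ⧸ J ^ m)
        (Localization.Away (Ideal.Quotient.mk (J ^ m) f)) (Ideal.Quotient.mk (J ^ m) f) ^ k) =
        ψ (algebraMap (A ⧸ J ^ m) _ (Ideal.Quotient.mk (J ^ m) a)) := by
      have hba' : b * algebraMap A (Localization.Away f) (f ^ k) =
          algebraMap A (Localization.Away f) a := by rw [map_pow]; exact hba
      rw [map_pow, hψ, hψ, (Ideal.Quotient.eq (I := Jh ^ m)).mpr h1, htower, htower, ← map_pow,
        ← map_pow, ← map_mul, ← map_mul, ← map_pow, hba']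
    rw [map_mul, ← h2, mul_assoc, ← map_mul, hw, map_one, mul_one]
  refine ⟨RingEquiv.ofBijective ψ ⟨hinj, hsurj⟩, ?_⟩
  intro a
  exact hψ a

end Groth.Agent.Helper2.CAwayQuot
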