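import Mathlib
import Groth.Prelude
import Groth.Agent.Helper2.PairHensEt
set_option autoImplicit false

universe u

noncomputable section

namespace Groth.Agent.Helper2.SmLift

open Groth.Agent.Helper2.PairHens

/-- lifting along a henselian pair when `S` is étale over a polynomial ring -/
theorem exists_lift_of_etale_mvPolynomial (R S A : Type u) [CommRing R] [CommRing S] [Algebra R S]
    (n : ℕ) (g : MvPolynomial (Fin n) R →ₐ[R] S) (hg : (g : MvPolynomial (Fin n) R →+* S).Etale)
    [CommRing A] [Algebra R A] (I : Ideal A) [HenselianRing A I]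
    (σ : S →ₐ[R] A ⧸ I) :
    ∃ τ : S →ₐ[R] A, (Ideal.Quotient.mkₐ R I).comp τ = σ := by
  -- choose lifts of the images of the variables
  choose a ha using fun k : Fin n => Ideal.Quotient.mk_surjective (σ (g (MvPolynomial.X k)))
  letI algPA : Algebra (MvPolynomial (Fin n) R) A := (MvPolynomial.aeval a).toRingHom.toAlgebra
  haveI : IsScalarTower R (MvPolynomial (Fin n) R) A :=
    IsScalarTower.of_algebraMap_eq (fun r => ((MvPolynomial.aeval a).commutes r).symm)
  letI algPS : Algebra (MvPolynomial (Fin n) R) S := g.toRingHom.toAlgebra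
  haveI : IsScalarTower R (MvPolynomial (Fin n) R) S :=
    IsScalarTower.of_algebraMap_eq (fun r => (g.commutes r).symm)
  haveI : Algebra.Etale (MvPolynomial (Fin n) R) S := hg
  have hcomm : (σ.comp g) = (Ideal.Quotient.mkₐ R I).comp (MvPolynomial.aeval a) := by
    apply MvPolynomial.algHom_ext
    intro k
    simp only [AlgHom.comp_apply, MvPolynomial.aeval_X, Ideal.Quotient.mkₐ_eq_mk]
    exact (ha k).symm
  let σP : S →ₐ[MvPolynomial (Fin n) R] A ⧸ I :=
    { σ.toRingHom with
      commutes' := fun q => by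
        show σ (g q) = Ideal.Quotient.mk I (MvPolynomial.aeval a q)
        exact congr($hcomm q) }
  obtain ⟨ρ, hρ⟩ := exists_algHom_of_etale I S σP
  refine ⟨ρ.restrictScalars R, ?_⟩
  ext s
  exact hρ s

/-- lifting along a henselian pair for standard smooth algebras -/
theorem exists_lift_of_isStandardSmooth (R S A : Type u) [CommRing R] [CommRing S] [Algebra R S]
    [Algebra.IsStandardSmooth R S] [CommRing A] [Algebra R A] (I : Ideal A) [HenselianRing A I]
    (σ : S →ₐ[R] A ⧸ I) :
    ∃ τ : S →ₐ[R] A, (Ideal.Quotient.mkₐ R I).comp τ = σ := by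
  obtain ⟨ι₀, σ₀, _, _, ⟨P⟩⟩ := Algebra.IsStandardSmooth.out (R := R) (S := S)
  haveI : Algebra.IsStandardSmoothOfRelativeDimension P.dimension R S := ⟨_, _, _, ‹_›, P, rfl⟩
  obtain ⟨g, hg⟩ :=
    Algebra.IsStandardSmoothOfRelativeDimension.exists_etale_mvPolynomial P.dimension R S
  exact exists_lift_of_etale_mvPolynomial R S A _ g hg I σ

end Groth.Agent.Helper2.SmLift
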