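import Mathlib
import Groth.Prelude
set_option autoImplicit false

universe u

noncomputable section

namespace Groth.Agent.Helper2.SmLift

/-- A family which becomes a basis after localization: if `ε (b k)` has unit determinant after
localization and `g' • M ≤ span b`. -/
theorem basis_of_isLocalizedModule {A : Type*} [CommRing A] {M : Type*} [AddCommGroup M] [Module A M]
    {n : ℕ} (b : Fin n → M) (ε : M →ₗ[A] (Fin n → A)) (g' : A)
    (hg' : ∀ m : M, g' • m ∈ Submodule.span A (Set.range b))
    (c : A) (hc : c = (Matrix.of fun l k => ε (b k) l).det)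
    (A'' : Type*) [CommRing A''] [Algebra A A''] [IsLocalization.Away (c * g') A'']
    (M'' : Type*) [AddCommGroup M''] [Module A M''] [Module A'' M''] [IsScalarTower A A'' M'']
    (f : M →ₗ[A] M'') [IsLocalizedModule (Submonoid.powers (c * g')) f] :
    LinearIndependent A'' (f ∘ b) ∧ Submodule.span A'' (Set.range (f ∘ b)) = ⊤ := by
  classical
  set 𝔐 := Submonoid.powers (c * g') with h𝔐
  have hunit : ∀ s ∈ 𝔐, IsUnit (algebraMap A A'' s) := fun s hs =>
    IsLocalization.map_units A'' (⟨s, hs⟩ : 𝔐)
  have hcg : IsUnit (algebraMap A A'' (c * g')) := hunit _ (Submonoid.mem_powers _)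
  have hcu : IsUnit (algebraMap A A'' c) := by
    rw [map_mul] at hcg
    exact isUnit_of_mul_isUnit_left hcg
  have hgu : IsUnit (algebraMap A A'' g') := by
    rw [map_mul] at hcg
    exact isUnit_of_mul_isUnit_right hcg
  constructor
  · rw [Fintype.linearIndependent_iff]
    intro a ha
    obtain ⟨t, ht⟩ := IsLocalization.exist_integer_multiples_of_finset 𝔐 (Finset.univ.image a)
    choose a' ha' using fun k => ht (a k) (Finset.mem_image_of_mem a (Finset.mem_univ k))
    -- ha' k : algebraMap (a' k) = t • a k
    have h1 : f (∑ k, a' k • b k) = 0 := by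
      rw [map_sum]
      have : ∀ k, f (a' k • b k) = (t : A) • (a k • f (b k)) := by
        intro k
        rw [map_smul, ← algebraMap_smul A'' (a' k) (f (b k)), ha' k, ← smul_assoc]
      simp_rw [this]
      rw [← Finset.smul_sum]
      have : ∑ k, a k • f (b k) = 0 := ha
      rw [this, smul_zero]
    obtain ⟨v, hv⟩ := (IsLocalizedModule.eq_zero_iff 𝔐 f).mp h1
    -- apply ε
    have h2 : ∀ l, (v : A) * ∑ k, a' k * ε (b k) l = 0 := by
      intro l
      have := congrArg (fun w => ε w l) hv
      simp only [map_zero, Pi.zero_apply] at this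
      rw [← this]
      show (v : A) * ∑ k, a' k * ε (b k) l = ε ((v : A) • ∑ k, a' k • b k) l
      rw [map_smul, map_sum, Pi.smul_apply, Finset.sum_apply, smul_eq_mul]
      congr 1
      refine Finset.sum_congr rfl (fun k _ => ?_)
      rw [map_smul, Pi.smul_apply, smul_eq_mul]
    set T : Matrix (Fin n) (Fin n) A := Matrix.of fun l k => ε (b k) l with hT
    have h3 : T.mulVec a' = fun l => ∑ k, a' k * ε (b k) l := by
      ext l
      simp only [Matrix.mulVec, dotProduct, hT, Matrix.of_apply]
      exact Finset.sum_congr rfl (fun k _ => mul_comm _ _)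
    have h4 : (v : A) • T.mulVec a' = 0 := by
      ext l
      rw [h3]
      exact h2 l
    have h5 : (v : A) • (c • a') = 0 := by
      have : T.adjugate.mulVec (T.mulVec a') = c • a' := by
        rw [Matrix.mulVec_mulVec, Matrix.adjugate_mul, Matrix.smul_mulVec, Matrix.one_mulVec, hc]
      rw [← this, ← Matrix.mulVec_smul, h4, Matrix.mulVec_zero]
    intro k
    have h6 : (v : A) * (c * a' k) = 0 := congrFun h5 k
    have h7 : algebraMap A A'' (v : A) * (algebraMap A A'' c * algebraMap A A'' (a' k)) = 0 := by
      rw [← map_mul, ← map_mul, h6, map_zero]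
    have h8 : algebraMap A A'' (a' k) = 0 := by
      have hv' := hunit v v.2
      rwa [hv'.mul_right_eq_zero, hcu.mul_right_eq_zero] at h7
    have h9 : (t : A) • a k = 0 := by rw [← ha' k, h8]
    rw [Algebra.smul_def] at h9
    exact ((hunit t t.2).mul_right_eq_zero).mp h9
  · rw [eq_top_iff]
    intro y _
    obtain ⟨⟨m, s⟩, hms⟩ := IsLocalizedModule.surj 𝔐 f y
    have hsu := hunit s s.2
    -- f (g' • m) ∈ span
    have h1 : f (g' • m) ∈ Submodule.span A'' (Set.range (f ∘ b)) := by
      have : ∀ z ∈ Submodule.span A (Set.range b), f z ∈ Submodule.span A'' (Set.range (f ∘ b)) := by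
        intro z hz
        refine Submodule.span_induction ?_ ?_ ?_ ?_ hz
        · rintro _ ⟨k, rfl⟩
          exact Submodule.subset_span ⟨k, rfl⟩
        · rw [map_zero]; exact Submodule.zero_mem _
        · intro x y _ _ hx hy
          rw [map_add]; exact Submodule.add_mem _ hx hy
        · intro r x _ hx
          rw [map_smul, ← algebraMap_smul A'' r (f x)]
          exact Submodule.smul_mem _ _ hx
      exact this _ (hg' m)
    have h2 : f m ∈ Submodule.span A'' (Set.range (f ∘ b)) := by
      rw [map_smul, ← algebraMap_smul A'' g' (f m)] at h1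
      have := Submodule.smul_mem _ (↑hgu.unit⁻¹ : A'') h1
      rwa [smul_smul, IsUnit.val_inv_mul, one_smul] at this
    have h3 : y = (↑hsu.unit⁻¹ : A'') • f m := by
      have : (s : A) • y = f m := hms
      rw [← this, ← algebraMap_smul A'' (s : A) y, smul_smul, IsUnit.val_inv_mul, one_smul]
    rw [h3]
    exact Submodule.smul_mem _ _ h2

end Groth.Agent.Helper2.SmLift
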