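import Mathlib
import Groth.Prelude
set_option autoImplicit false

universe u

noncomputable section

namespace Groth.Agent.Helper2.SmLift

open MvPolynomial

section Model

variable {S : Type u} [CommRing S] {n : ℕ} (p : Matrix (Fin n) (Fin n) S)

/-- the linear forms `(pᵀ X)_i` -/
def linForm (i : Fin n) : MvPolynomial (Fin n) S := ∑ k, C (p k i) * X k

/-- the ideal generated by the linear forms -/
def relIdeal : Ideal (MvPolynomial (Fin n) S) := Ideal.span (Set.range (linForm p))

/-- the model algebra `S[X]/(pᵀ X)` -/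
abbrev Sp : Type u := MvPolynomial (Fin n) S ⧸ relIdeal p

/-- the classes of the variables -/
def xx (k : Fin n) : Sp p := Ideal.Quotient.mk _ (X k)

theorem algebraMap_Sp (a : S) : algebraMap S (Sp p) a = Ideal.Quotient.mk _ (C a) := rfl

theorem rel (i : Fin n) : ∑ k, algebraMap S (Sp p) (p k i) * xx p k = 0 := by
  have h : Ideal.Quotient.mk (relIdeal p) (linForm p i) = 0 :=
    Ideal.Quotient.eq_zero_iff_mem.mpr (Ideal.subset_span ⟨i, rfl⟩)
  rw [linForm, map_sum] at h
  rw [← h]
  refine Finset.sum_congr rfl (fun k _ => ?_)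
  rw [map_mul]
  rfl

theorem adjoin_xx : Algebra.adjoin S (Set.range (xx p)) = ⊤ := by
  have h1 : Algebra.adjoin S (Set.range (X : Fin n → MvPolynomial (Fin n) S)) = ⊤ :=
    MvPolynomial.adjoin_range_X
  have h2 := congrArg (Subalgebra.map (Ideal.Quotient.mkₐ S (relIdeal p))) h1
  rw [AlgHom.map_adjoin, Algebra.map_top, (AlgHom.range_eq_top _).mpr
    (Ideal.Quotient.mkₐ_surjective S (relIdeal p)), ← Set.range_comp] at h2
  exact h2

variable {R : Type u} [CommRing R] [Algebra R S]

/-- universal property of the model algebra -/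
theorem exists_lift {E : Type*} [CommRing E] [Algebra R E] (φ : S →ₐ[R] E) (y : Fin n → E)
    (hy : ∀ i, ∑ k, φ (p k i) * y k = 0) :
    ∃ Φ : Sp p →ₐ[R] E, (∀ a, Φ (algebraMap S (Sp p) a) = φ a) ∧ ∀ k, Φ (xx p k) = y k := by
  let Φ₀ : MvPolynomial (Fin n) S →+* E := MvPolynomial.eval₂Hom (φ : S →+* E) y
  let Φ₁ : MvPolynomial (Fin n) S →ₐ[R] E :=
    { Φ₀ with
      commutes' := fun r => by
        show Φ₀ (algebraMap R (MvPolynomial (Fin n) S) r) = algebraMap R E r
        rw [MvPolynomial.algebraMap_apply]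
        show MvPolynomial.eval₂ (φ : S →+* E) y (C (algebraMap R S r)) = _
        rw [MvPolynomial.eval₂_C]
        exact φ.commutes r }
  have hΦ₁C : ∀ a, Φ₁ (C a) = φ a := fun a => MvPolynomial.eval₂_C _ _ _
  have hΦ₁X : ∀ k, Φ₁ (X k) = y k := fun k => MvPolynomial.eval₂_X _ _ _
  have hker : ∀ a ∈ relIdeal p, Φ₁ a = 0 := by
    intro a ha
    have : relIdeal p ≤ RingHom.ker (Φ₁ : MvPolynomial (Fin n) S →+* E) := by
      rw [relIdeal, Ideal.span_le]
      rintro _ ⟨i, rfl⟩
      show Φ₁ (linForm p i) = 0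
      rw [linForm, map_sum, ← hy i]
      refine Finset.sum_congr rfl (fun k _ => ?_)
      rw [map_mul, hΦ₁C, hΦ₁X]
    exact this ha
  refine ⟨Ideal.Quotient.liftₐ (relIdeal p) Φ₁ hker, fun a => ?_, fun k => ?_⟩
  · rw [algebraMap_Sp]
    exact hΦ₁C a
  · exact hΦ₁X k

/-- algebra homs out of the model are determined by their values on `S` and the `x_k` -/
theorem algHom_ext {E : Type*} [CommRing E] [Algebra R E] (Φ Ψ : Sp p →ₐ[R] E)
    (h1 : ∀ a, Φ (algebraMap S (Sp p) a) = Ψ (algebraMap S (Sp p) a))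
    (h2 : ∀ k, Φ (xx p k) = Ψ (xx p k)) : Φ = Ψ := by
  have : (Φ : Sp p →+* E).comp (Ideal.Quotient.mk (relIdeal p)) =
      (Ψ : Sp p →+* E).comp (Ideal.Quotient.mk (relIdeal p)) := by
    apply MvPolynomial.ringHom_ext
    · intro a; exact h1 a
    · intro k; exact h2 k
  ext y
  obtain ⟨q, rfl⟩ := Ideal.Quotient.mk_surjective y
  exact congr($this q)

/-- the retraction `S' → S` killing the variables -/
theorem exists_retraction :
    ∃ ρ : Sp p →ₐ[R] S, (∀ a, ρ (algebraMap S (Sp p) a) = a) ∧ ∀ k, ρ (xx p k) = 0 := by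
  obtain ⟨Φ, h1, h2⟩ := exists_lift (R := R) p (AlgHom.id R S) (fun _ => 0) (by simp)
  exact ⟨Φ, h1, h2⟩

theorem relIdeal_fg : (relIdeal p).FG := Submodule.fg_span (Set.finite_range _)

instance : Algebra.FinitePresentation S (Sp p) :=
  Algebra.FinitePresentation.quotient (relIdeal_fg p)

/-- the model algebra is a retract of the polynomial ring, hence formally smooth -/
theorem formallySmooth_Sp (hp : p * p = p) : Algebra.FormallySmooth S (Sp p) := by
  have hy : ∀ i, ∑ k, (Algebra.ofId S (MvPolynomial (Fin n) S)) (p k i) *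
      (X k - ∑ m, C (p m k) * X m) = 0 := by
    intro i
    have h1 : ∀ k, (Algebra.ofId S (MvPolynomial (Fin n) S)) (p k i) = C (p k i) := fun k => rfl
    simp_rw [h1, mul_sub, Finset.sum_sub_distrib, Finset.mul_sum]
    rw [Finset.sum_comm, sub_eq_zero]
    refine Finset.sum_congr rfl (fun m _ => ?_)
    have h2 : p m i = ∑ k, p m k * p k i := by
      conv_lhs => rw [← hp]
      rfl
    rw [h2, map_sum, Finset.sum_mul]
    refine Finset.sum_congr rfl (fun k _ => ?_)
    rw [map_mul]
    ring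
  obtain ⟨θ, hθ1, hθ2⟩ := exists_lift (R := S) p (Algebra.ofId S (MvPolynomial (Fin n) S))
    (fun k => X k - ∑ m, C (p m k) * X m) hy
  refine Algebra.FormallySmooth.of_split (Ideal.Quotient.mkₐ S (relIdeal p))
    ((Ideal.Quotient.mkₐ S _).comp θ) ?_
  apply algHom_ext (R := S) p
  · intro a
    rw [AlgHom.comp_apply, AlgHom.comp_apply, hθ1, Ideal.Quotient.mkₐ_eq_mk,
      AlgHom.kerSquareLift_mk]
    rfl
  · intro k
    rw [AlgHom.comp_apply, AlgHom.comp_apply, hθ2, Ideal.Quotient.mkₐ_eq_mk,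
      AlgHom.kerSquareLift_mk, map_sub, map_sum]
    have : ∑ m, (Ideal.Quotient.mkₐ S (relIdeal p)) (C (p m k) * X m) = 0 := by
      rw [← rel p k]
      refine Finset.sum_congr rfl (fun m _ => ?_)
      rw [map_mul]
      rfl
    rw [this, sub_zero]
    rfl

theorem smooth_Sp (hp : p * p = p) : Algebra.Smooth S (Sp p) :=
  haveI := formallySmooth_Sp p hp
  ⟨inferInstance, inferInstance⟩

end Model

end Groth.Agent.Helper2.SmLift
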