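import Mathlib
import Groth.Prelude
set_option autoImplicit false

universe u

noncomputable section

namespace Groth.Agent.Helper2.SmLift

open TrivSqZeroExt

section TSZ

variable {R A B : Type u} [CommRing R] [CommRing A] [CommRing B] [Algebra R A] [Algebra R B]
  [Algebra A B] [IsScalarTower R A B] {n : ℕ}

/-- the algebra hom `A → B[Bⁿ]` attached to a derivation `A → Bⁿ` -/
def derivToTSZ (d : Derivation R A (Fin n → B)) : A →ₐ[R] TrivSqZeroExt B (Fin n → B) where
  toFun a := inl (algebraMap A B a) + inr (d a)
  map_one' := by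
    rw [map_one, Derivation.map_one_eq_zero, inr_zero, add_zero, inl_one]
  map_mul' a a' := by
    ext
    · simp
    · simp only [snd_add, snd_inl, snd_inr, zero_add, snd_mul, fst_add, fst_inl, fst_inr, add_zero,
        Derivation.leibniz, op_smul_eq_smul]
      rw [algebraMap_smul, algebraMap_smul]
  map_zero' := by
    rw [map_zero, map_zero, inr_zero, add_zero, inl_zero]
  map_add' a a' := by
    rw [map_add, map_add, inl_add, inr_add]
    abel
  commutes' r := by
    rw [Derivation.map_algebraMap, inr_zero, add_zero, ← IsScalarTower.algebraMap_apply,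
      TrivSqZeroExt.algebraMap_eq_inl']

@[simp] theorem derivToTSZ_fst (d : Derivation R A (Fin n → B)) (a : A) :
    (derivToTSZ d a).fst = algebraMap A B a := by
  simp [derivToTSZ]

@[simp] theorem derivToTSZ_snd (d : Derivation R A (Fin n → B)) (a : A) :
    (derivToTSZ d a).snd = d a := by
  simp [derivToTSZ]

/-- the derivation attached to an algebra section `B → B[Bⁿ]` -/
def derivOfTSZ (Φ : B →ₐ[R] TrivSqZeroExt B (Fin n → B)) (h : ∀ y, (Φ y).fst = y) :
    Derivation R B (Fin n → B) :=
  Derivation.mk'
    { toFun := fun y => (Φ y).snd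
      map_add' := fun y z => by rw [map_add, snd_add]
      map_smul' := fun r y => by rw [map_smul, snd_smul]; rfl }
    (fun a b => by
      show (Φ (a * b)).snd = a • (Φ b).snd + b • (Φ a).snd
      rw [map_mul, snd_mul, h a, h b, op_smul_eq_smul])

@[simp] theorem derivOfTSZ_apply (Φ : B →ₐ[R] TrivSqZeroExt B (Fin n → B)) (h : ∀ y, (Φ y).fst = y)
    (y : B) : derivOfTSZ Φ h y = (Φ y).snd := rfl

end TSZ

end Groth.Agent.Helper2.SmLift
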