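import Mathlib
import Groth.Prelude
import Groth.Agent.Helper2.SmLiftC
import Groth.Agent.Helper2.SmLiftD
set_option autoImplicit false

universe u

noncomputable section

namespace Groth.Agent.Helper2.SmLift

open MvPolynomial TrivSqZeroExt

section Deriv

variable {R S : Type u} [CommRing R] [CommRing S] [Algebra R S] {n : ℕ}
  (p : Matrix (Fin n) (Fin n) S) (hp : p * p = p) (d₀ : Derivation R S (Fin n → S))

/-- the derivation `S → (S')ⁿ` induced by `d₀` -/
def d₁ : Derivation R S (Fin n → Sp p) :=
  ((Algebra.linearMap S (Sp p)).compLeft (Fin n)).compDer d₀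

theorem d₁_apply (a : S) (l : Fin n) : d₁ p d₀ a l = algebraMap S (Sp p) (d₀ a l) := rfl

/-- the correction matrix `W'` -/
def WW (l k : Fin n) : Sp p := ∑ m, xx p m * algebraMap S (Sp p) (d₀ (p m k) l)

/-- the prescribed values of the derivation on the variables -/
def vv (k l : Fin n) : Sp p :=
  (1 : Matrix (Fin n) (Fin n) (Sp p)) l k - algebraMap S (Sp p) (p l k) - WW p d₀ l k

include hp in
theorem WW_mul (l i : Fin n) :
    ∑ k, WW p d₀ l k * algebraMap S (Sp p) (p k i) = WW p d₀ l i := by
  have h1 : ∀ m, d₀ (p m i) l = ∑ k, (p m k * d₀ (p k i) l + p k i * d₀ (p m k) l) := by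
    intro m
    have h2 : p m i = ∑ k, p m k * p k i := by
      conv_lhs => rw [← hp]
      rfl
    rw [h2, map_sum, Finset.sum_apply]
    refine Finset.sum_congr rfl (fun k _ => ?_)
    rw [Derivation.leibniz, Pi.add_apply, Pi.smul_apply, Pi.smul_apply, smul_eq_mul, smul_eq_mul]
  have h3 : WW p d₀ l i = ∑ k, (∑ m, algebraMap S (Sp p) (p m k) * xx p m) *
        algebraMap S (Sp p) (d₀ (p k i) l) +
      ∑ k, WW p d₀ l k * algebraMap S (Sp p) (p k i) := by
    have h4 : WW p d₀ l i = ∑ m, xx p m * ∑ k, (algebraMap S (Sp p) (p m k) *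
        algebraMap S (Sp p) (d₀ (p k i) l) +
          algebraMap S (Sp p) (p k i) * algebraMap S (Sp p) (d₀ (p m k) l)) := by
      unfold WW
      refine Finset.sum_congr rfl (fun m _ => ?_)
      rw [h1 m, map_sum]
      simp only [map_add, map_mul]
    rw [h4]
    unfold WW
    simp_rw [Finset.mul_sum, mul_add, Finset.sum_add_distrib, Finset.sum_mul]
    congr 1
    · rw [Finset.sum_comm]
      refine Finset.sum_congr rfl (fun k _ => Finset.sum_congr rfl (fun m _ => ?_))
      ring
    · rw [Finset.sum_comm]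
      refine Finset.sum_congr rfl (fun k _ => Finset.sum_congr rfl (fun m _ => ?_))
      ring
  rw [h3]
  simp_rw [rel p, zero_mul, Finset.sum_const_zero, zero_add]

include hp in
theorem exists_deriv :
    ∃ δ : Derivation R (Sp p) (Fin n → Sp p),
      (∀ a, δ (algebraMap S (Sp p) a) = d₁ p d₀ a) ∧ ∀ k, δ (xx p k) = vv p d₀ k := by
  let φ : S →ₐ[R] TrivSqZeroExt (Sp p) (Fin n → Sp p) := derivToTSZ (d₁ p d₀)
  let y : Fin n → TrivSqZeroExt (Sp p) (Fin n → Sp p) := fun k => inl (xx p k) + inr (vv p d₀ k)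
  have hy : ∀ i, ∑ k, φ (p k i) * y k = 0 := by
    intro i
    ext
    · -- fst
      rw [fst_sum, fst_zero, ← rel p i]
      refine Finset.sum_congr rfl (fun k _ => ?_)
      simp [φ, y]
    · -- snd
      rename_i l
      rw [snd_sum, snd_zero, Finset.sum_apply, Pi.zero_apply]
      have h1 : ∀ k, (φ (p k i) * y k).snd l =
          algebraMap S (Sp p) (p k i) * vv p d₀ k l +
            xx p k * algebraMap S (Sp p) (d₀ (p k i) l) := by
        intro k
        simp only [φ, y, snd_mul, derivToTSZ_fst, derivToTSZ_snd, snd_add, snd_inl, snd_inr,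
          zero_add, fst_add, fst_inl, fst_inr, add_zero, op_smul_eq_smul, Pi.add_apply,
          Pi.smul_apply, smul_eq_mul, d₁_apply]
      simp_rw [h1, Finset.sum_add_distrib]
      have h2 : ∑ k, xx p k * algebraMap S (Sp p) (d₀ (p k i) l) = WW p d₀ l i := rfl
      rw [h2]
      unfold vv
      simp_rw [mul_sub, Finset.sum_sub_distrib]
      have h3 : ∑ k, algebraMap S (Sp p) (p k i) * (1 : Matrix (Fin n) (Fin n) (Sp p)) l k =
          algebraMap S (Sp p) (p l i) := by
        simp [Matrix.one_apply]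
      have h4 : ∑ k, algebraMap S (Sp p) (p k i) * algebraMap S (Sp p) (p l k) =
          algebraMap S (Sp p) (p l i) := by
        have : p l i = ∑ k, p l k * p k i := by
          conv_lhs => rw [← hp]
          rfl
        rw [this, map_sum]
        refine Finset.sum_congr rfl (fun k _ => ?_)
        rw [map_mul, mul_comm]
      have h5 : ∑ k, algebraMap S (Sp p) (p k i) * WW p d₀ l k = WW p d₀ l i := by
        rw [← WW_mul p hp d₀ l i]
        refine Finset.sum_congr rfl (fun k _ => mul_comm _ _)
      rw [h3, h4, h5]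
      ring
  obtain ⟨Φ, hΦ1, hΦ2⟩ := exists_lift (R := R) p φ y hy
  have hfst : ∀ z, (Φ z).fst = z := by
    intro z
    have : (TrivSqZeroExt.fstHom R (Sp p) (Fin n → Sp p)).comp Φ = AlgHom.id R (Sp p) := by
      apply algHom_ext (R := R) p
      · intro a
        rw [AlgHom.comp_apply, hΦ1]
        simp [φ]
      · intro k
        rw [AlgHom.comp_apply, hΦ2]
        simp [y]
    exact congr($this z)
  refine ⟨derivOfTSZ Φ hfst, fun a => ?_, fun k => ?_⟩
  · rw [derivOfTSZ_apply, hΦ1]
    simp [φ]
  · rw [derivOfTSZ_apply, hΦ2]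
    simp [y]

end Deriv

end Groth.Agent.Helper2.SmLift
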