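import Mathlib
import Groth.Prelude
import Groth.Agent.Helper2.SmLiftE
set_option autoImplicit false

universe u

noncomputable section

namespace Groth.Agent.Helper2.SmLift

open MvPolynomial KaehlerDifferential

section Setup

variable {R S : Type u} [CommRing R] [CommRing S] [Algebra R S] {n : ℕ} (s : Fin n → S)
  (j : Ω[S⁄R] →ₗ[S] (Fin n → S))
  (hj : ∀ ω, ∑ k, j ω k • D R S (s k) = ω)

/-- the idempotent matrix `p = j ∘ π` -/
def pp : Matrix (Fin n) (Fin n) S := Matrix.of fun l k => j (D R S (s k)) l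

/-- the derivation `j ∘ D` -/
def dd : Derivation R S (Fin n → S) := j.compDer (D R S)

theorem dd_apply (a : S) : dd j a = j (D R S a) := rfl

theorem pp_apply (l k : Fin n) : pp s j l k = j (D R S (s k)) l := rfl

include hj in
theorem pp_idem : pp s j * pp s j = pp s j := by
  ext l k
  rw [Matrix.mul_apply]
  simp_rw [pp_apply]
  have h1 := congrArg (fun ω => j ω l) (hj (D R S (s k)))
  simp only [map_sum, map_smul, Finset.sum_apply, Pi.smul_apply, smul_eq_mul] at h1
  rw [← h1]
  refine Finset.sum_congr rfl (fun m _ => mul_comm _ _)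

end Setup

section Main

variable {R S : Type u} [CommRing R] [CommRing S] [Algebra R S] {n : ℕ} (s : Fin n → S)
  (hs : Algebra.adjoin R (Set.range s) = ⊤)
  (j : Ω[S⁄R] →ₗ[S] (Fin n → S))
  (hj : ∀ ω, ∑ k, j ω k • D R S (s k) = ω)

local notation "S'" => Sp (pp s j)
local notation "ι" => algebraMap S (Sp (pp s j))

/-- the elements `w_k = s_k + x_k` -/
def ww (k : Fin n) : Sp (pp s j) := algebraMap S (Sp (pp s j)) (s k) + xx (pp s j) k

/-- the family `D w_k` -/
def bb (k : Fin n) : Ω[Sp (pp s j)⁄R] := D R (Sp (pp s j)) (ww s j k)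

/-- the augmentation ideal -/
def aug : Ideal (Sp (pp s j)) := Ideal.span (Set.range (xx (pp s j)))

include hj in
theorem relA' (m : Fin n) :
    D R S' (ι (s m)) = ∑ l, ι (pp s j l m) • D R S' (ι (s l)) := by
  have h1 := hj (D R S (s m))
  have h2 := congrArg (KaehlerDifferential.map R R S S') h1
  rw [KaehlerDifferential.map_D, map_sum] at h2
  rw [← h2]
  refine Finset.sum_congr rfl (fun l _ => ?_)
  rw [map_smul, KaehlerDifferential.map_D]
  exact (algebraMap_smul S' (pp s j l m) (D R S' (ι (s l)))).symm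

theorem relB' (m : Fin n) :
    ∑ l, ι (pp s j l m) • D R S' (xx (pp s j) l) =
      - ∑ l, xx (pp s j) l • D R S' (ι (pp s j l m)) := by
  have h1 := congrArg (D R S') (rel (pp s j) m)
  rw [map_sum, map_zero] at h1
  simp_rw [Derivation.leibniz] at h1
  rw [Finset.sum_add_distrib] at h1
  exact eq_neg_of_add_eq_zero_left h1

/-- the submodule `span b + aug • Ω` -/
def NN : Submodule (Sp (pp s j)) Ω[Sp (pp s j)⁄R] :=
  Submodule.span (Sp (pp s j)) (Set.range (bb s j)) ⊔ aug s j • ⊤

theorem xx_smul_mem (l : Fin n) (ω : Ω[Sp (pp s j)⁄R]) : xx (pp s j) l • ω ∈ NN s j :=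
  Submodule.mem_sup_right (Submodule.smul_mem_smul (Ideal.subset_span ⟨l, rfl⟩) Submodule.mem_top)

theorem bb_mem (l : Fin n) : bb s j l ∈ NN s j :=
  Submodule.mem_sup_left (Submodule.subset_span ⟨l, rfl⟩)

include hj in
theorem D_s_mem (m : Fin n) : D R S' (ι (s m)) ∈ NN s j := by
  have h1 : D R S' (ι (s m)) = ∑ l, ι (pp s j l m) • bb s j l +
      ∑ l, xx (pp s j) l • D R S' (ι (pp s j l m)) := by
    have h2 : ∑ l, ι (pp s j l m) • bb s j l =
        ∑ l, ι (pp s j l m) • D R S' (ι (s l)) + ∑ l, ι (pp s j l m) • D R S' (xx (pp s j) l) := by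
      rw [← Finset.sum_add_distrib]
      refine Finset.sum_congr rfl (fun l _ => ?_)
      rw [bb, ww, map_add]
      exact smul_add (ι (pp s j l m)) (D R S' (ι (s l))) (D R S' (xx (pp s j) l))
    rw [h2, relB', ← relA' s j hj m]
    abel
  rw [h1]
  refine Submodule.add_mem _ (Submodule.sum_mem _ fun l _ => Submodule.smul_mem _ _ (bb_mem s j l))
    (Submodule.sum_mem _ fun l _ => xx_smul_mem s j l _)

include hs hj in
theorem D_ι_mem (a : S) : D R S' (ι a) ∈ NN s j := by
  have ha : a ∈ Algebra.adjoin R (Set.range s) := hs ▸ Algebra.mem_top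
  induction ha using Algebra.adjoin_induction with
  | mem x hx =>
    obtain ⟨m, rfl⟩ := hx
    exact D_s_mem s j hj m
  | algebraMap r =>
    rw [← IsScalarTower.algebraMap_apply, Derivation.map_algebraMap]
    exact Submodule.zero_mem _
  | add x y _ _ hx hy =>
    rw [map_add, map_add]
    exact Submodule.add_mem _ hx hy
  | mul x y _ _ hx hy =>
    rw [map_mul, Derivation.leibniz]
    exact Submodule.add_mem _ (Submodule.smul_mem _ _ hy) (Submodule.smul_mem _ _ hx)

include hs hj in
theorem D_mem (y : S') : D R S' y ∈ NN s j := by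
  have hy : y ∈ Algebra.adjoin S (Set.range (xx (pp s j))) := adjoin_xx (pp s j) ▸ Algebra.mem_top
  induction hy using Algebra.adjoin_induction with
  | mem x hx =>
    obtain ⟨m, rfl⟩ := hx
    have : D R S' (xx (pp s j) m) = bb s j m - D R S' (ι (s m)) := by
      rw [bb, ww, map_add]; abel
    rw [this]
    exact Submodule.sub_mem _ (bb_mem s j m) (D_s_mem s j hj m)
  | algebraMap a => exact D_ι_mem s hs j hj a
  | add x y _ _ hx hy =>
    rw [map_add]
    exact Submodule.add_mem _ hx hy
  | mul x y _ _ hx hy =>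
    rw [Derivation.leibniz]
    exact Submodule.add_mem _ (Submodule.smul_mem _ _ hy) (Submodule.smul_mem _ _ hx)

include hs hj in
theorem NN_eq_top : NN s j = ⊤ := by
  rw [eq_top_iff, ← KaehlerDifferential.span_range_derivation R S', Submodule.span_le]
  rintro _ ⟨y, rfl⟩
  exact D_mem s hs j hj y

include hs hj in
/-- Nakayama: an element `g' ≡ 1` modulo the augmentation ideal with `g' • Ω ≤ span b` -/
theorem exists_gprime [Algebra.FiniteType R S] :
    ∃ g' : S', g' - 1 ∈ aug s j ∧
      ∀ ω : Ω[S'⁄R], g' • ω ∈ Submodule.span S' (Set.range (bb s j)) := by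
  haveI : Algebra.FiniteType R S' :=
    Algebra.FiniteType.trans (inferInstance : Algebra.FiniteType R S) inferInstance
  set B := Submodule.span S' (Set.range (bb s j)) with hB
  have hfg : (⊤ : Submodule S' (Ω[S'⁄R] ⧸ B)).FG := Module.Finite.fg_top
  have hle : (⊤ : Submodule S' (Ω[S'⁄R] ⧸ B)) ≤ aug s j • ⊤ := by
    intro q _
    obtain ⟨ω, rfl⟩ := Submodule.Quotient.mk_surjective B q
    have hω : ω ∈ NN s j := NN_eq_top s hs j hj ▸ Submodule.mem_top
    obtain ⟨β, hβ, α, hα, rfl⟩ := Submodule.mem_sup.mp hω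
    have h1 : Submodule.Quotient.mk (p := B) (β + α) = B.mkQ α := by
      rw [Submodule.Quotient.mk_add, (Submodule.Quotient.mk_eq_zero B).mpr hβ, zero_add]
      rfl
    rw [h1]
    have h2 : B.mkQ α ∈ (aug s j • (⊤ : Submodule S' Ω[S'⁄R])).map B.mkQ :=
      Submodule.mem_map_of_mem hα
    rw [Submodule.map_smul'', Submodule.map_top, Submodule.range_mkQ] at h2
    exact h2
  obtain ⟨r, hr1, hr2⟩ :=
    Submodule.exists_sub_one_mem_and_smul_eq_zero_of_fg_of_le_smul (aug s j) ⊤ hfg hle
  refine ⟨r, hr1, fun ω => ?_⟩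
  have := hr2 (Submodule.Quotient.mk ω) Submodule.mem_top
  rw [← Submodule.Quotient.mk_smul, Submodule.Quotient.mk_eq_zero] at this
  exact this

end Main

end Groth.Agent.Helper2.SmLift
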