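import Mathlib
import Groth.Prelude
import Groth.Agent.Helper2.SmLiftA
import Groth.Agent.Helper2.SmLiftB
import Groth.Agent.Helper2.SmLiftF
set_option autoImplicit false

universe u

noncomputable section

namespace Groth.Agent.Helper2.SmLift

open MvPolynomial KaehlerDifferential

/-- generators and a splitting of `Sⁿ → Ω` for a smooth algebra -/
theorem exists_splitting (R S : Type u) [CommRing R] [CommRing S] [Algebra R S]
    [Algebra.Smooth R S] :
    ∃ (n : ℕ) (s : Fin n → S) (j : Ω[S⁄R] →ₗ[S] (Fin n → S)),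
      Algebra.adjoin R (Set.range s) = ⊤ ∧ ∀ ω, ∑ k, j ω k • D R S (s k) = ω := by
  classical
  obtain ⟨t, ht⟩ := (inferInstance : Algebra.FiniteType R S).out
  let s : Fin t.card → S := fun k => (t.equivFin.symm k : S)
  have hrange : Set.range s = (t : Set S) := by
    ext x
    constructor
    · rintro ⟨k, rfl⟩
      exact (t.equivFin.symm k).2
    · intro hx
      exact ⟨t.equivFin ⟨x, hx⟩, by simp [s]⟩
  have hs : Algebra.adjoin R (Set.range s) = ⊤ := by rw [hrange]; exact ht
  -- the differentials of the generators span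
  have hspan : Submodule.span S (Set.range fun k => D R S (s k)) = ⊤ := by
    rw [eq_top_iff, ← KaehlerDifferential.span_range_derivation R S, Submodule.span_le]
    rintro _ ⟨a, rfl⟩
    have ha : a ∈ Algebra.adjoin R (Set.range s) := hs ▸ Algebra.mem_top
    induction ha using Algebra.adjoin_induction with
    | mem x hx =>
      obtain ⟨k, rfl⟩ := hx
      exact Submodule.subset_span ⟨k, rfl⟩
    | algebraMap r =>
      rw [Derivation.map_algebraMap]
      exact Submodule.zero_mem _
    | add x y _ _ hx hy =>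
      rw [map_add]
      exact Submodule.add_mem _ hx hy
    | mul x y _ _ hx hy =>
      rw [Derivation.leibniz]
      exact Submodule.add_mem _ (Submodule.smul_mem _ _ hy) (Submodule.smul_mem _ _ hx)
  have hsurj : Function.Surjective (Fintype.linearCombination S fun k => D R S (s k)) :=
    (span_range_eq_top_iff_surjective_fintypeLinearCombination S _).mp hspan
  obtain ⟨j, hj⟩ := Module.projective_lifting_property
    (Fintype.linearCombination S fun k => D R S (s k)) LinearMap.id hsurj
  refine ⟨t.card, s, j, hs, fun ω => ?_⟩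
  have := congr($hj ω)
  rw [LinearMap.comp_apply, Fintype.linearCombination_apply, LinearMap.id_apply] at this
  exact this

/-- **Elkik's trick**: a smooth algebra is a retract of a standard smooth algebra. -/
theorem exists_retract_isStandardSmooth (R S : Type u) [CommRing R] [CommRing S] [Algebra R S]
    [Algebra.Smooth R S] :
    ∃ (S'' : Type u) (_ : CommRing S'') (_ : Algebra R S''), Algebra.IsStandardSmooth R S'' ∧
      ∃ (i : S →ₐ[R] S'') (r : S'' →ₐ[R] S), r.comp i = AlgHom.id R S := by
  classical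
  obtain ⟨n, s, j, hs, hj⟩ := exists_splitting R S
  have hp := pp_idem s j hj
  set p := pp s j with hpdef
  obtain ⟨δ, hδ1, hδ2⟩ := exists_deriv p hp (dd j)
  let ε : Ω[Sp p⁄R] →ₗ[Sp p] (Fin n → Sp p) := δ.liftKaehlerDifferential
  have hε : ∀ y, ε (D R (Sp p) y) = δ y := fun y => Derivation.liftKaehlerDifferential_comp_D δ y
  obtain ⟨ρ, hρ1, hρ2⟩ := exists_retraction (R := R) p
  -- the matrix of `ε ∘ β`
  set T : Matrix (Fin n) (Fin n) (Sp p) := Matrix.of fun l k => ε (bb s j k) l with hT
  have hTlk : ∀ l k, T l k = (1 : Matrix (Fin n) (Fin n) (Sp p)) l k - WW p (dd j) l k := by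
    intro l k
    rw [hT, Matrix.of_apply, bb, hε, ww, map_add, hδ1, hδ2, Pi.add_apply, d₁_apply, vv,
      dd_apply, ← pp_apply s j l k]
    ring
  have hρWW : ∀ l k, ρ (WW p (dd j) l k) = 0 := by
    intro l k
    rw [WW, map_sum]
    refine Finset.sum_eq_zero (fun m _ => ?_)
    rw [map_mul, hρ2, zero_mul]
  have hρT : ρ T.det = 1 := by
    have h1 : (ρ : Sp p →+* S).mapMatrix T = 1 := by
      ext l k
      rw [RingHom.mapMatrix_apply, Matrix.map_apply, hTlk, map_sub]
      show ρ ((1 : Matrix (Fin n) (Fin n) (Sp p)) l k) - ρ (WW p (dd j) l k) = _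
      rw [hρWW, sub_zero, Matrix.one_apply, Matrix.one_apply]
      split_ifs
      · exact map_one ρ
      · exact map_zero ρ
    have h2 := RingHom.map_det (ρ : Sp p →+* S) T
    rw [h1, Matrix.det_one] at h2
    exact h2
  haveI : Algebra.FiniteType R S := inferInstance
  obtain ⟨g', hg'1, hg'2⟩ := exists_gprime s hs j hj
  have hρg' : ρ g' = 1 := by
    have h1 : aug s j ≤ RingHom.ker (ρ : Sp p →+* S) := by
      rw [aug, Ideal.span_le]
      rintro _ ⟨k, rfl⟩
      exact hρ2 k
    have h2 := h1 hg'1
    rw [RingHom.mem_ker, map_sub, map_one, sub_eq_zero] at h2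
    exact h2
  set c := T.det with hc
  -- the localization
  let S'' := Localization.Away (c * g')
  have hunit : ∀ y : Submonoid.powers (c * g'), IsUnit (ρ y) := by
    rintro ⟨_, k, rfl⟩
    show IsUnit (ρ ((c * g') ^ k))
    rw [map_pow, map_mul, hρT, hρg', one_mul, one_pow]
    exact isUnit_one
  let r : S'' →ₐ[R] S := IsLocalization.liftAlgHom (M := Submonoid.powers (c * g')) (f := ρ) hunit
  let i : S →ₐ[R] S'' :=
    (IsScalarTower.toAlgHom R (Sp p) S'').comp (IsScalarTower.toAlgHom R S (Sp p))
  have hri : r.comp i = AlgHom.id R S := by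
    ext a
    show r (algebraMap (Sp p) S'' (algebraMap S (Sp p) a)) = a
    rw [IsLocalization.liftAlgHom_apply, IsLocalization.lift_eq]
    exact hρ1 a
  -- smoothness
  haveI : Algebra.Smooth S (Sp p) := smooth_Sp p hp
  haveI : Algebra.Smooth R (Sp p) := Algebra.Smooth.comp R S (Sp p)
  haveI : Algebra.Smooth (Sp p) S'' := Algebra.Smooth.of_isLocalization_Away (c * g')
  haveI : Algebra.Smooth R S'' := Algebra.Smooth.comp R (Sp p) S''
  -- the basis
  obtain ⟨hli, hsp⟩ := basis_of_isLocalizedModule (A := Sp p) (M := Ω[Sp p⁄R]) (bb s j) ε g' hg'2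
    c rfl S'' Ω[S''⁄R] (KaehlerDifferential.map R R (Sp p) S'')
  let b : Module.Basis (Fin n) S'' Ω[S''⁄R] := Module.Basis.mk hli hsp.ge
  have hb : Set.range b ⊆ Set.range (D R S'') := by
    rintro _ ⟨k, rfl⟩
    refine ⟨algebraMap (Sp p) S'' (ww s j k), ?_⟩
    rw [Module.Basis.mk_apply, Function.comp_apply, bb, KaehlerDifferential.map_D]
  exact ⟨S'', inferInstance, inferInstance,
    Algebra.IsStandardSmooth.of_basis_kaehlerDifferential b hb, i, r, hri⟩

/-- **Smooth lifting along a henselian pair.** -/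
theorem s0536 (R : Type u) [CommRing R] (S : Type u) [CommRing S]
    [Algebra R S] [Algebra.Smooth R S] (A : Type u) [CommRing A] [Algebra R A] (I : Ideal A)
    [HenselianRing A I] (σ : S →ₐ[R] A ⧸ I) :
    ∃ τ : S →ₐ[R] A, (Ideal.Quotient.mkₐ R I).comp τ = σ := by
  obtain ⟨S'', _, _, hstd, i, r, hri⟩ := exists_retract_isStandardSmooth R S
  obtain ⟨τ'', hτ''⟩ := exists_lift_of_isStandardSmooth R S'' A I (σ.comp r)
  refine ⟨τ''.comp i, ?_⟩
  rw [← AlgHom.comp_assoc, hτ'', AlgHom.comp_assoc, hri, AlgHom.comp_id]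

end Groth.Agent.Helper2.SmLift
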