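import Mathlib
import Groth.Prelude
import Groth.Agent.Lead.EtaleLift

set_option autoImplicit false

namespace Groth.Agent.Helper2.StdSmoothLift

open TensorProduct MvPolynomial Groth.Agent.Lead.EtaleLift

universe u

/-- a standard smooth `R/I`-algebra lifts to a standard smooth `R`-algebra. -/
theorem exists_stdSmooth_lift (R : Type u) [CommRing R] (I : Ideal R) (Sb : Type u)
    [CommRing Sb] [Algebra (R ⧸ I) Sb] [Algebra.IsStandardSmooth (R ⧸ I) Sb] :
    ∃ (S : Type u) (_ : CommRing S) (_ : Algebra R S), Algebra.IsStandardSmooth R S ∧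
      Nonempty (((R ⧸ I) ⊗[R] S) ≃ₐ[R ⧸ I] Sb) := by
  classical
  letI : Algebra R Sb := ((algebraMap (R ⧸ I) Sb).comp (Ideal.Quotient.mk I)).toAlgebra
  haveI : IsScalarTower R (R ⧸ I) Sb := IsScalarTower.of_algebraMap_eq fun _ => rfl
  obtain ⟨ι, σ, _, _, ⟨P⟩⟩ := Algebra.IsStandardSmooth.out (R := R ⧸ I) (S := Sb)
  have hsurj : Function.Surjective (MvPolynomial.map (σ := ι) (Ideal.Quotient.mk I)) :=
    MvPolynomial.map_surjective _ Ideal.Quotient.mk_surjective
  choose r hr using fun j : σ => hsurj (P.relation j)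
  cases nonempty_fintype σ
  let Q₁ : Algebra.PreSubmersivePresentation R
      (MvPolynomial ι R ⧸ Ideal.span (Set.range r)) ι σ :=
    Algebra.PreSubmersivePresentation.naive P.map P.map_inj
  let Δ₁ : MvPolynomial ι R ⧸ Ideal.span (Set.range r) := Q₁.jacobian
  let Q₂ : Algebra.SubmersivePresentation (MvPolynomial ι R ⧸ Ideal.span (Set.range r))
      (Localization.Away Δ₁) Unit Unit :=
    Algebra.SubmersivePresentation.localizationAway (Localization.Away Δ₁) Δ₁
  let Q : Algebra.SubmersivePresentation R (Localization.Away Δ₁) (Unit ⊕ ι) (Unit ⊕ σ) :=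
    { toPreSubmersivePresentation := Q₂.toPreSubmersivePresentation.comp Q₁
      jacobian_isUnit := by
        rw [Algebra.PreSubmersivePresentation.comp_jacobian_eq_jacobian_smul_jacobian,
          Algebra.smul_def]
        refine IsUnit.mul ?_ Q₂.jacobian_isUnit
        exact IsLocalization.map_units _ (⟨Δ₁, 1, by simp⟩ : Submonoid.powers Δ₁) }
  haveI : Algebra.IsStandardSmooth R (Localization.Away Δ₁) :=
    ⟨_, _, inferInstance, inferInstance, ⟨Q⟩⟩
  refine ⟨Localization.Away Δ₁, inferInstance, inferInstance, inferInstance, ?_⟩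
  refine nonempty_iso I P.toPresentation r hr Δ₁ ?_
  have : phi1 I P.toPresentation r hr Δ₁ = P.jacobian := by
    show phi1 I P.toPresentation r hr Q₁.jacobian = P.jacobian
    rw [Algebra.PreSubmersivePresentation.jacobian_eq_jacobiMatrix_det,
      Algebra.PreSubmersivePresentation.jacobian_eq_jacobiMatrix_det]
    have h1 : algebraMap Q₁.Ring (MvPolynomial ι R ⧸ Ideal.span (Set.range r))
        Q₁.jacobiMatrix.det = Ideal.Quotient.mk _ Q₁.jacobiMatrix.det := rfl
    rw [h1, phi1_mk, ← aeval_eq I P.toPresentation, Algebra.Generators.algebraMap_apply]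
    congr 1
    rw [RingHom.map_det]
    congr 1
    ext i j : 1
    simp only [RingHom.mapMatrix_apply, Matrix.map_apply,
      Algebra.PreSubmersivePresentation.jacobiMatrix_apply]
    rw [← hr j, MvPolynomial.pderiv_map]
    rfl
  rw [this]
  exact P.jacobian_isUnit

/-- quotient form with explicit surjection. -/
theorem exists_stdSmooth_lift_quot (P : Type u) [CommRing P] (I : Ideal P) (B : Type u)
    [CommRing B] [Algebra (P ⧸ I) B] [Algebra.IsStandardSmooth (P ⧸ I) B] [Algebra P B]
    [IsScalarTower P (P ⧸ I) B] :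
    ∃ (S : Type u) (_ : CommRing S) (_ : Algebra P S) (ψ : S →ₐ[P] B),
      Algebra.IsStandardSmooth P S ∧
      Function.Surjective ψ ∧ RingHom.ker ψ.toRingHom = I.map (algebraMap P S) := by
  classical
  obtain ⟨S, _, _, hS, ⟨e⟩⟩ := exists_stdSmooth_lift P I B
  let ψ : S →ₐ[P] B := (e.toAlgHom.restrictScalars P).comp
    (Algebra.TensorProduct.includeRight (R := P) (A := P ⧸ I) (B := S))
  have hψapply : ∀ s : S, ψ s = e ((1 : P ⧸ I) ⊗ₜ[P] s) := fun s => rfl
  refine ⟨S, inferInstance, inferInstance, ψ, hS, ?_, ?_⟩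
  · intro b
    obtain ⟨z, rfl⟩ := e.surjective b
    have hz : ∃ s : S, z = (1 : P ⧸ I) ⊗ₜ[P] s := by
      induction z using TensorProduct.induction_on with
      | zero => exact ⟨0, (TensorProduct.tmul_zero _ _).symm⟩
      | tmul a s =>
        obtain ⟨p, rfl⟩ := Ideal.Quotient.mk_surjective a
        refine ⟨p • s, ?_⟩
        rw [TensorProduct.tmul_smul, TensorProduct.smul_tmul', Algebra.smul_def, mul_one]
        rfl
      | add z₁ z₂ h₁ h₂ =>
        obtain ⟨s₁, rfl⟩ := h₁
        obtain ⟨s₂, rfl⟩ := h₂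
        exact ⟨s₁ + s₂, (TensorProduct.tmul_add _ _ _).symm⟩
    obtain ⟨s, rfl⟩ := hz
    exact ⟨s, rfl⟩
  · apply le_antisymm
    · intro s hs
      have h0 : ψ s = 0 := hs
      rw [hψapply] at h0
      have h1 : (1 : P ⧸ I) ⊗ₜ[P] s = 0 := by
        rw [← map_zero e] at h0
        exact e.injective h0
      have h2 := congrArg (TensorProduct.quotTensorEquivQuotSMul S I) h1
      rw [map_zero, ← map_one (Ideal.Quotient.mk I),
        TensorProduct.quotTensorEquivQuotSMul_mk_tmul, one_smul,
        Submodule.Quotient.mk_eq_zero, Ideal.smul_top_eq_map] at h2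
      exact h2
    · rw [Ideal.map_le_iff_le_comap]
      intro x hx
      rw [Ideal.mem_comap]
      show ψ (algebraMap P S x) = 0
      rw [AlgHom.commutes, IsScalarTower.algebraMap_apply P (P ⧸ I) B]
      have : algebraMap P (P ⧸ I) x = 0 := Ideal.Quotient.eq_zero_iff_mem.mpr hx
      rw [this, map_zero]

end Groth.Agent.Helper2.StdSmoothLift
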