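import Mathlib
import Groth.Prelude
import Groth.Agent.Helper2.StdSmoothLift
import Groth.Agent.Helper2.SmLiftG

set_option autoImplicit false

namespace Groth.Agent.Helper2.LiftOnce

open TensorProduct MvPolynomial

universe u

section Absorb

variable {R B Λ : Type u} [CommRing R] [CommRing B] [CommRing Λ] [Algebra R B] [Algebra R Λ]
  [Algebra.Smooth R B] (I : Ideal R)

/-- absorbing finitely many errors lying in `IΛ` into new polynomial variables. -/
theorem exists_absorb {n : ℕ} (ψ₀ : B →ₐ[R] Λ) (b : Fin n → B) (t : Fin n → Λ)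
    (ht : ∀ i, t i - ψ₀ (b i) ∈ I.map (algebraMap R Λ)) :
    ∃ (B' : Type u) (_ : CommRing B') (_ : Algebra R B') (_ : Algebra B B')
      (_ : IsScalarTower R B B'), Algebra.Smooth R B' ∧
      ∃ (ψ' : B' →ₐ[R] Λ) (b' : Fin n → B'),
        (∀ x : B, ψ' (algebraMap B B' x) = ψ₀ x) ∧
        (∀ i, ψ' (b' i) = t i) ∧
        (∀ i, b' i - algebraMap B B' (b i) ∈ I.map (algebraMap R B')) := by
  classical
  -- decompose the errors
  have hdec : ∀ i, ∃ (c : Λ →₀ R) (_ : ∀ m, c m ∈ I),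
      (c.sum fun m r => r • m) = t i - ψ₀ (b i) := by
    intro i
    have h1 : t i - ψ₀ (b i) ∈ I • Submodule.span R (Set.range (id : Λ → Λ)) := by
      rw [Set.range_id, Submodule.span_univ, Ideal.smul_top_eq_map]
      exact ht i
    exact (Submodule.mem_ideal_smul_span_iff_exists_sum I (id : Λ → Λ) _).mp h1
  choose c hcI hc using hdec
  let J : Type u := Σ i : Fin n, {m : Λ // m ∈ (c i).support}
  letI algBΛ : Algebra B Λ := ψ₀.toRingHom.toAlgebra
  haveI : IsScalarTower R B Λ := IsScalarTower.of_algebraMap_eq (fun r => (ψ₀.commutes r).symm)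
  haveI : Algebra.Smooth R (MvPolynomial J B) :=
    { formallySmooth := Algebra.FormallySmooth.comp R B _
      finitePresentation := inferInstance }
  let ψB : MvPolynomial J B →ₐ[B] Λ := MvPolynomial.aeval (fun j : J => (j.2.1 : Λ))
  let ψ' : MvPolynomial J B →ₐ[R] Λ := ψB.restrictScalars R
  let b' : Fin n → MvPolynomial J B := fun i =>
    C (b i) + ∑ m ∈ (c i).support.attach, C (algebraMap R B (c i m.1)) * X (⟨i, m⟩ : J)
  have hψC : ∀ x : B, ψB (C x) = ψ₀ x := fun x => by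
    change MvPolynomial.aeval (fun j : J => (j.2.1 : Λ)) (C x) = ψ₀ x
    rw [MvPolynomial.aeval_C]
    rfl
  have hψX : ∀ j : J, ψB (X j) = (j.2.1 : Λ) := fun j => by
    change MvPolynomial.aeval (fun j : J => (j.2.1 : Λ)) (X j) = _
    rw [MvPolynomial.aeval_X]
  refine ⟨MvPolynomial J B, inferInstance, inferInstance, inferInstance, inferInstance,
    inferInstance, ψ', b', ?_, ?_, ?_⟩
  · exact hψC
  · intro i
    change ψB (b' i) = t i
    simp only [b', map_add, map_sum, map_mul, hψC, hψX]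
    have h2 : ∀ m : {m : Λ // m ∈ (c i).support},
        ψ₀ (algebraMap R B (c i m.1)) * (m.1 : Λ) = (c i m.1) • (m.1 : Λ) := by
      intro m
      rw [AlgHom.commutes, Algebra.smul_def]
    simp_rw [h2]
    rw [Finset.sum_attach (c i).support (fun m => (c i m) • m)]
    have h3 := hc i
    rw [Finsupp.sum] at h3
    rw [h3]
    ring
  · intro i
    have h1 : b' i - algebraMap B (MvPolynomial J B) (b i) =
        ∑ m ∈ (c i).support.attach, C (algebraMap R B (c i m.1)) * X (⟨i, m⟩ : J) := by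
      simp only [b', MvPolynomial.algebraMap_eq]
      ring
    rw [h1]
    refine Ideal.sum_mem _ fun m _ => ?_
    refine Ideal.mul_mem_right _ _ ?_
    have h2 : C (algebraMap R B (c i m.1)) = algebraMap R (MvPolynomial J B) (c i m.1) := by
      rw [IsScalarTower.algebraMap_apply R B (MvPolynomial J B), MvPolynomial.algebraMap_eq]
    rw [h2]
    exact Ideal.mem_map_of_mem _ (hcI i _)

end Absorb

section Factor

variable {R A B' Λ : Type u} [CommRing R] [CommRing A] [CommRing B'] [CommRing Λ] [Algebra R A]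
  [Algebra R B'] [Algebra R Λ]

/-- given lifts `b'` of the generators of `A` compatible with `φ`, the map `φ` factors through
`B' / J'` with `J'` the (finitely generated) image of the relation ideal. -/
theorem exists_factor {n : ℕ} (f : MvPolynomial (Fin n) R →ₐ[R] A) (hf : Function.Surjective f)
    (hfg : (RingHom.ker f.toRingHom).FG) (φ : A →ₐ[R] Λ) (ψ' : B' →ₐ[R] Λ) (b' : Fin n → B')
    (hb' : ∀ i, ψ' (b' i) = φ (f (X i))) (K : Ideal B')
    (hK : ∀ p ∈ RingHom.ker f.toRingHom, MvPolynomial.aeval b' p ∈ K) :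
    ∃ J' : Ideal B', J' ≤ K ∧ J'.FG ∧
      ∃ (g : A →ₐ[R] B' ⧸ J') (k : (B' ⧸ J') →ₐ[R] Λ), k.comp g = φ := by
  set ev : MvPolynomial (Fin n) R →ₐ[R] B' := MvPolynomial.aeval b' with hev
  set J' : Ideal B' := (RingHom.ker f.toRingHom).map ev.toRingHom with hJ'
  have hψev : ψ'.comp ev = φ.comp f := by
    apply MvPolynomial.algHom_ext
    intro i
    simp only [AlgHom.comp_apply, hev, MvPolynomial.aeval_X]
    exact hb' i
  have hJ'K : J' ≤ K := by
    rw [hJ', Ideal.map_le_iff_le_comap]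
    intro p hp
    exact hK p hp
  have hJ'ψ : ∀ x ∈ J', ψ' x = 0 := by
    have : J' ≤ RingHom.ker ψ'.toRingHom := by
      rw [hJ', Ideal.map_le_iff_le_comap]
      intro p hp
      rw [Ideal.mem_comap, RingHom.mem_ker]
      change ψ' (ev p) = 0
      rw [← AlgHom.comp_apply, hψev, AlgHom.comp_apply]
      have : f p = 0 := hp
      rw [this, map_zero]
    intro x hx
    exact this hx
  refine ⟨J', hJ'K, hfg.map _, ?_⟩
  have hker : RingHom.ker f.toRingHom ≤
      RingHom.ker ((Ideal.Quotient.mkₐ R J').comp ev).toRingHom := by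
    intro p hp
    rw [RingHom.mem_ker]
    change Ideal.Quotient.mk J' (ev p) = 0
    rw [Ideal.Quotient.eq_zero_iff_mem]
    exact Ideal.mem_map_of_mem _ hp
  refine ⟨AlgHom.liftOfSurjective f hf ((Ideal.Quotient.mkₐ R J').comp ev) hker,
    Ideal.Quotient.liftₐ J' ψ' hJ'ψ, ?_⟩
  apply AlgHom.ext
  intro x
  obtain ⟨p, rfl⟩ := hf x
  rw [AlgHom.comp_apply, AlgHom.liftOfSurjective_apply]
  change Ideal.Quotient.liftₐ J' ψ' hJ'ψ (Ideal.Quotient.mk J' (ev p)) = φ (f p)
  rw [Ideal.Quotient.liftₐ_apply, Ideal.Quotient.lift_mk]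
  change ψ' (ev p) = φ (f p)
  rw [← AlgHom.comp_apply, hψev, AlgHom.comp_apply]

end Factor

theorem s2023 {R Λ A : Type u} [CommRing R] [CommRing Λ] [Algebra R Λ] (I : Ideal R)
    (hI : I ^ 2 = ⊥) (h : Smoothing.IndSmooth (R ⧸ I) (Λ ⧸ I.map (algebraMap R Λ)))
    [CommRing A] [Algebra R A] [Algebra.FinitePresentation R A] (φ : A →ₐ[R] Λ) :
    ∃ (B : Type u) (_ : CommRing B) (_ : Algebra R B), Algebra.Smooth R B ∧
      ∃ J : Ideal B, J ≤ I.map (algebraMap R B) ∧ J.FG ∧
        ∃ (g : A →ₐ[R] B ⧸ J) (k : (B ⧸ J) →ₐ[R] Λ), k.comp g = φ := by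
  classical
  set IΛ : Ideal Λ := I.map (algebraMap R Λ) with hIΛ
  -- Step 1: base change of `φ`
  let φb : (R ⧸ I) ⊗[R] A →ₐ[R ⧸ I] Λ ⧸ IΛ :=
    Algebra.TensorProduct.lift (Algebra.ofId (R ⧸ I) (Λ ⧸ IΛ))
      ((Ideal.Quotient.mkₐ R IΛ).comp φ) (fun _ _ => Commute.all _ _)
  have hφb : ∀ a : A, φb ((1 : R ⧸ I) ⊗ₜ[R] a) = Ideal.Quotient.mk IΛ (φ a) := by
    intro a
    simp only [φb, Algebra.TensorProduct.lift_tmul, map_one, one_mul, AlgHom.comp_apply,
      Ideal.Quotient.mkₐ_eq_mk]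
  obtain ⟨Bb, _, _, hBb, gb, hb0, hcomp⟩ := h ((R ⧸ I) ⊗[R] A) inferInstance φb
  obtain ⟨S'', _, _, hstd, ii, rr, hri⟩ := SmLift.exists_retract_isStandardSmooth (R ⧸ I) Bb
  set gb' : (R ⧸ I) ⊗[R] A →ₐ[R ⧸ I] S'' := ii.comp gb with hgb'
  set hb' : S'' →ₐ[R ⧸ I] Λ ⧸ IΛ := hb0.comp rr with hhb'
  have hcomp' : hb'.comp gb' = φb := by
    rw [hhb', hgb', AlgHom.comp_assoc, ← AlgHom.comp_assoc rr, hri, AlgHom.id_comp, hcomp]
  -- Step 2: lift `S''` to a standard smooth `R`-algebra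
  letI : Algebra R S'' := ((algebraMap (R ⧸ I) S'').comp (Ideal.Quotient.mk I)).toAlgebra
  haveI : IsScalarTower R (R ⧸ I) S'' := IsScalarTower.of_algebraMap_eq fun _ => rfl
  obtain ⟨B, _, _, q, hBstd, hqsurj, hqker⟩ :=
    StdSmoothLift.exists_stdSmooth_lift_quot R I S''
  haveI : Algebra.Smooth R B := inferInstance
  obtain ⟨n, f, hf, hfker⟩ := Algebra.FinitePresentation.out (R := R) (A := A)
  let θ : A →ₐ[R] S'' :=
    (gb'.restrictScalars R).comp (Algebra.TensorProduct.includeRight (R := R) (A := R ⧸ I) (B := A))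
  have hθ : ∀ a : A, θ a = gb' ((1 : R ⧸ I) ⊗ₜ[R] a) := fun a => rfl
  choose b hb using fun i => hqsurj (θ (f (X i)))
  -- Step 3: lift `B → Λ/IΛ` to `B → Λ`
  have hnil : IsNilpotent IΛ := by
    refine ⟨2, ?_⟩
    rw [hIΛ, ← Ideal.map_pow, hI, Ideal.map_bot]
    rfl
  set ψ₀ : B →ₐ[R] Λ :=
    Algebra.FormallySmooth.lift IΛ hnil ((hb'.restrictScalars R).comp q) with hψ₀def
  have hψ₀ : ∀ x, Ideal.Quotient.mk IΛ (ψ₀ x) = hb' (q x) := fun x =>
    Algebra.FormallySmooth.mk_lift IΛ hnil ((hb'.restrictScalars R).comp q) x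
  have ht : ∀ i, φ (f (X i)) - ψ₀ (b i) ∈ IΛ := by
    intro i
    rw [← Ideal.Quotient.eq, hψ₀, hb, hθ]
    have h0 := congrArg (fun m => m ((1 : R ⧸ I) ⊗ₜ[R] f (X i))) hcomp'
    simp only [AlgHom.comp_apply] at h0
    rw [h0, hφb]
  obtain ⟨B', _, _, _, _, hB', ψ', b', h1, h2, h3⟩ :=
    exists_absorb I ψ₀ b (fun i => φ (f (X i))) ht
  -- Step 4: the relation ideal lands in `I B'`
  have hθf : θ.comp f = MvPolynomial.aeval (fun i => θ (f (X i))) := by
    apply MvPolynomial.algHom_ext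
    intro i
    simp only [AlgHom.comp_apply, MvPolynomial.aeval_X]
  have hqb : q.comp (MvPolynomial.aeval b) = MvPolynomial.aeval (fun i => θ (f (X i))) := by
    apply MvPolynomial.algHom_ext
    intro i
    simp only [AlgHom.comp_apply, MvPolynomial.aeval_X]
    exact hb i
  have hK : ∀ p ∈ RingHom.ker f.toRingHom,
      MvPolynomial.aeval b' p ∈ I.map (algebraMap R B') := by
    intro p hp
    have hfp : f p = 0 := hp
    have h4 : MvPolynomial.aeval b p ∈ I.map (algebraMap R B) := by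
      rw [← hqker, RingHom.mem_ker]
      change q (MvPolynomial.aeval b p) = 0
      rw [← AlgHom.comp_apply, hqb, ← hθf, AlgHom.comp_apply, hfp, map_zero]
    have h5 : algebraMap B B' (MvPolynomial.aeval b p) ∈ I.map (algebraMap R B') := by
      have := Ideal.mem_map_of_mem (algebraMap B B') h4
      rwa [Ideal.map_map, ← IsScalarTower.algebraMap_eq] at this
    have h6 : (Ideal.Quotient.mkₐ R (I.map (algebraMap R B'))).comp (MvPolynomial.aeval b') =
        (Ideal.Quotient.mkₐ R (I.map (algebraMap R B'))).comp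
          ((IsScalarTower.toAlgHom R B B').comp (MvPolynomial.aeval b)) := by
      apply MvPolynomial.algHom_ext
      intro i
      simp only [AlgHom.comp_apply, MvPolynomial.aeval_X, Ideal.Quotient.mkₐ_eq_mk,
        IsScalarTower.coe_toAlgHom']
      rw [Ideal.Quotient.eq]
      exact h3 i
    have h7 := congrArg (fun m => m p) h6
    simp only [AlgHom.comp_apply, Ideal.Quotient.mkₐ_eq_mk, IsScalarTower.coe_toAlgHom'] at h7
    rw [← Ideal.Quotient.eq_zero_iff_mem, h7, Ideal.Quotient.eq_zero_iff_mem]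
    exact h5
  obtain ⟨J', hJ'K, hJ'fg, g, k, hgk⟩ := exists_factor f hf hfker φ ψ' b' h2 _ hK
  exact ⟨B', inferInstance, inferInstance, hB', J', hJ'K, hJ'fg, g, k, hgk⟩

end Groth.Agent.Helper2.LiftOnce
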