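import Mathlib
import Groth.Prelude
import Groth.Agent.Helper2.LiftOnce

set_option autoImplicit false

namespace Groth.Agent.Helper2.LiftTwice

open TensorProduct MvPolynomial

universe u

/-- the common first step: reduce `C → Λ` modulo `I`, factor through a standard smooth algebra
and lift the latter to `R`. -/
theorem exists_smooth_model {R Λ C : Type u} [CommRing R] [CommRing Λ] [Algebra R Λ] (I : Ideal R)
    (h : Smoothing.IndSmooth (R ⧸ I) (Λ ⧸ I.map (algebraMap R Λ)))
    [CommRing C] [Algebra R C] [Algebra.FinitePresentation R C] (φ : C →ₐ[R] Λ) :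
    ∃ (S'' : Type u) (_ : CommRing S'') (_ : Algebra R S'') (B : Type u) (_ : CommRing B)
      (_ : Algebra R B), Algebra.Smooth R B ∧
      ∃ (q : B →ₐ[R] S'') (θ : C →ₐ[R] S'') (η : S'' →ₐ[R] Λ ⧸ I.map (algebraMap R Λ)),
        Function.Surjective q ∧ RingHom.ker q.toRingHom = I.map (algebraMap R B) ∧
        ∀ c : C, η (θ c) = Ideal.Quotient.mk _ (φ c) := by
  classical
  set IΛ : Ideal Λ := I.map (algebraMap R Λ) with hIΛ
  let φb : (R ⧸ I) ⊗[R] C →ₐ[R ⧸ I] Λ ⧸ IΛ :=
    Algebra.TensorProduct.lift (Algebra.ofId (R ⧸ I) (Λ ⧸ IΛ))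
      ((Ideal.Quotient.mkₐ R IΛ).comp φ) (fun _ _ => Commute.all _ _)
  have hφb : ∀ a : C, φb ((1 : R ⧸ I) ⊗ₜ[R] a) = Ideal.Quotient.mk IΛ (φ a) := by
    intro a
    simp only [φb, Algebra.TensorProduct.lift_tmul, map_one, one_mul, AlgHom.comp_apply,
      Ideal.Quotient.mkₐ_eq_mk]
  obtain ⟨Bb, _, _, hBb, gb, hb0, hcomp⟩ := h ((R ⧸ I) ⊗[R] C) inferInstance φb
  obtain ⟨S'', _, _, hstd, ii, rr, hri⟩ := SmLift.exists_retract_isStandardSmooth (R ⧸ I) Bb
  set gb' : (R ⧸ I) ⊗[R] C →ₐ[R ⧸ I] S'' := ii.comp gb with hgb'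
  set hb' : S'' →ₐ[R ⧸ I] Λ ⧸ IΛ := hb0.comp rr with hhb'
  have hcomp' : hb'.comp gb' = φb := by
    rw [hhb', hgb', AlgHom.comp_assoc, ← AlgHom.comp_assoc rr, hri, AlgHom.id_comp, hcomp]
  letI : Algebra R S'' := ((algebraMap (R ⧸ I) S'').comp (Ideal.Quotient.mk I)).toAlgebra
  haveI : IsScalarTower R (R ⧸ I) S'' := IsScalarTower.of_algebraMap_eq fun _ => rfl
  obtain ⟨B, _, _, q, hBstd, hqsurj, hqker⟩ :=
    StdSmoothLift.exists_stdSmooth_lift_quot R I S''
  haveI : Algebra.Smooth R B := inferInstance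
  let θ : C →ₐ[R] S'' :=
    (gb'.restrictScalars R).comp (Algebra.TensorProduct.includeRight (R := R) (A := R ⧸ I) (B := C))
  have hθ : ∀ a : C, θ a = gb' ((1 : R ⧸ I) ⊗ₜ[R] a) := fun a => rfl
  refine ⟨S'', inferInstance, inferInstance, B, inferInstance, inferInstance, inferInstance, q, θ,
    hb'.restrictScalars R, hqsurj, hqker, ?_⟩
  intro c
  change hb' (θ c) = _
  rw [hθ]
  have h0 := congrArg (fun m => m ((1 : R ⧸ I) ⊗ₜ[R] c)) hcomp'
  simp only [AlgHom.comp_apply] at h0
  rw [h0, hφb]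

/-- killing a finitely generated ideal `J ⊆ IB` with `φ(J) = 0` in a finitely presented algebra
`C` over `B` mapping to the flat algebra `Λ`; the property `(P)` records how `J` is killed. -/
theorem exists_kill {R B Λ : Type u} [CommRing R] [CommRing B] [CommRing Λ] [Algebra R B]
    [Algebra R Λ] [Module.Flat R Λ] [Algebra.FinitePresentation R B] (I : Ideal R)
    (φ : B →ₐ[R] Λ) (J : Ideal B) (hJ : J ≤ I.map (algebraMap R B)) (hJfg : J.FG)
    (hφJ : ∀ x ∈ J, φ x = 0) :
    ∃ (C : Type u) (_ : CommRing C) (_ : Algebra R C), Algebra.FinitePresentation R C ∧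
      ∃ (c : B →ₐ[R] C) (φC : C →ₐ[R] Λ), φC.comp c = φ ∧
        ∀ (B' S'' : Type u) [CommRing B'] [CommRing S''] [Algebra R B'] [Algebra R S'']
          (q : B' →ₐ[R] S'') (α : B →ₐ[R] B') (θ : C →ₐ[R] S''), Function.Surjective q →
          RingHom.ker q.toRingHom ≤ I.map (algebraMap R B') → θ.comp c = q.comp α →
          (∀ ε ∈ I, ∀ e ∈ I.map (algebraMap R B'), algebraMap R B' ε * e = 0) →
          ∀ x ∈ J, α x = 0 := by
  classical
  obtain ⟨s, hs⟩ := hJfg
  -- decompose the generators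
  have hdec : ∀ j : s, ∃ (cf : B →₀ R) (_ : ∀ m, cf m ∈ I),
      (cf.sum fun m r => r • m) = (j : B) := by
    intro j
    have hjJ : (j : B) ∈ J := hs ▸ Ideal.subset_span j.2
    have h1 : (j : B) ∈ I • Submodule.span R (Set.range (id : B → B)) := by
      rw [Set.range_id, Submodule.span_univ, Ideal.smul_top_eq_map]
      exact hJ hjJ
    exact (Submodule.mem_ideal_smul_span_iff_exists_sum I (id : B → B) _).mp h1
  choose cf hcfI hcf using hdec
  -- the relations in `Λ` are trivial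
  have hrel : ∀ j : s, ∑ m : (cf j).support, (cf j m) • φ (m : B) = 0 := by
    intro j
    have h1 : φ (j : B) = 0 := hφJ _ (hs ▸ Ideal.subset_span j.2)
    rw [← hcf j, Finsupp.sum, map_sum] at h1
    rw [Finset.sum_coe_sort (cf j).support (fun m => (cf j m) • φ m)]
    rw [← h1]
    refine Finset.sum_congr rfl fun m _ => ?_
    rw [map_smul]
  have htriv := fun j : s => Module.Flat.isTrivialRelation_of_sum_smul_eq_zero
    (R := R) (M := Λ) (f := fun m : (cf j).support => cf j m) (x := fun m => φ (m : B)) (hrel j)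
  choose kk aa yy haa1 haa2 using htriv
  -- the algebra `C`
  let V : Type u := Σ j : s, ULift.{u} (Fin (kk j))
  let W : Type u := Σ j : s, {m : B // m ∈ (cf j).support}
  let rel : W → MvPolynomial V B := fun w =>
    C (w.2 : B) - ∑ t : Fin (kk w.1), C (algebraMap R B (aa w.1 w.2 t)) * X (⟨w.1, ⟨t⟩⟩ : V)
  let 𝔞 : Ideal (MvPolynomial V B) := Ideal.span (Set.range rel)
  have h𝔞fg : 𝔞.FG := Submodule.fg_span (Set.finite_range rel)
  haveI : Algebra.FinitePresentation R (MvPolynomial V B ⧸ 𝔞) :=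
    Algebra.FinitePresentation.quotient h𝔞fg
  let c : B →ₐ[R] MvPolynomial V B ⧸ 𝔞 :=
    (Ideal.Quotient.mkₐ R 𝔞).comp (IsScalarTower.toAlgHom R B (MvPolynomial V B))
  have hc : ∀ x : B, c x = Ideal.Quotient.mk 𝔞 (C x) := fun x => rfl
  letI algBΛ : Algebra B Λ := φ.toRingHom.toAlgebra
  haveI : IsScalarTower R B Λ := IsScalarTower.of_algebraMap_eq (fun r => (φ.commutes r).symm)
  let ev : MvPolynomial V B →ₐ[B] Λ := MvPolynomial.aeval (fun v : V => yy v.1 v.2.down)
  have hevC : ∀ x : B, ev (C x) = φ x := fun x => by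
    change MvPolynomial.aeval (fun v : V => yy v.1 v.2.down) (C x) = φ x
    rw [MvPolynomial.aeval_C]
    rfl
  have hevX : ∀ v : V, ev (X v) = yy v.1 v.2.down := fun v => by
    change MvPolynomial.aeval (fun v : V => yy v.1 v.2.down) (X v) = _
    rw [MvPolynomial.aeval_X]
  have hev𝔞 : ∀ x ∈ 𝔞, (ev.restrictScalars R) x = 0 := by
    have : 𝔞 ≤ RingHom.ker (ev.restrictScalars R).toRingHom := by
      rw [Ideal.span_le]
      rintro _ ⟨w, rfl⟩
      rw [SetLike.mem_coe, RingHom.mem_ker]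
      change ev (rel w) = 0
      simp only [rel, map_sub, map_sum, map_mul, hevC, hevX]
      have h4 : φ (w.2 : B) = ∑ t, aa w.1 w.2 t • yy w.1 t := haa1 w.1 w.2
      rw [h4, sub_eq_zero]
      refine Finset.sum_congr rfl fun t _ => ?_
      rw [AlgHom.commutes, Algebra.smul_def]
    intro x hx
    exact this hx
  let φC : (MvPolynomial V B ⧸ 𝔞) →ₐ[R] Λ := Ideal.Quotient.liftₐ 𝔞 (ev.restrictScalars R) hev𝔞
  refine ⟨MvPolynomial V B ⧸ 𝔞, inferInstance, inferInstance, inferInstance, c, φC, ?_, ?_⟩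
  · apply AlgHom.ext
    intro x
    rw [AlgHom.comp_apply, hc]
    change Ideal.Quotient.liftₐ 𝔞 (ev.restrictScalars R) hev𝔞 (Ideal.Quotient.mk 𝔞 (C x)) = φ x
    rw [Ideal.Quotient.liftₐ_apply, Ideal.Quotient.lift_mk]
    exact hevC x
  · intro B' S'' _ _ _ _ q α θ hq hker hθ hII x hx
    have hsub : J ≤ RingHom.ker α.toRingHom := by
      rw [← hs, Ideal.span_le]
      intro j hj
      rw [SetLike.mem_coe, RingHom.mem_ker]
      change α j = 0
      set j' : s := ⟨j, hj⟩ with hj'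
      choose ζ hζ using fun t : Fin (kk j') =>
        hq (θ (Ideal.Quotient.mk 𝔞 (X (⟨j', ⟨t⟩⟩ : V))))
      -- `α m` agrees with `Σ a ζ` modulo `ker q`
      have hm : ∀ m : {m : B // m ∈ (cf j').support},
          α (m : B) - ∑ t, algebraMap R B' (aa j' m t) * ζ t ∈ I.map (algebraMap R B') := by
        intro m
        apply hker
        rw [RingHom.mem_ker]
        change q (α (m : B) - ∑ t, algebraMap R B' (aa j' m t) * ζ t) = 0
        rw [map_sub, map_sum, sub_eq_zero]
        have h1 : q (α (m : B)) = θ (c (m : B)) := by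
          rw [← AlgHom.comp_apply, ← hθ, AlgHom.comp_apply]
        have h2 : Ideal.Quotient.mk 𝔞 (C (m : B)) = ∑ t : Fin (kk j'),
            Ideal.Quotient.mk 𝔞 (C (algebraMap R B (aa j' m t)) * X (⟨j', ⟨t⟩⟩ : V)) := by
          rw [← map_sum, ← sub_eq_zero, ← map_sub, Ideal.Quotient.eq_zero_iff_mem]
          exact Ideal.subset_span ⟨⟨j', m⟩, rfl⟩
        rw [h1, hc, h2, map_sum]
        refine Finset.sum_congr rfl fun t _ => ?_
        rw [map_mul (Ideal.Quotient.mk 𝔞), map_mul θ, map_mul q, hζ t, AlgHom.commutes q]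
        congr 1
        have h3 : Ideal.Quotient.mk 𝔞 (C (algebraMap R B (aa j' m t))) =
            algebraMap R (MvPolynomial V B ⧸ 𝔞) (aa j' m t) := by
          rw [IsScalarTower.algebraMap_apply R (MvPolynomial V B) (MvPolynomial V B ⧸ 𝔞),
            IsScalarTower.algebraMap_apply R B (MvPolynomial V B), MvPolynomial.algebraMap_eq]
          rfl
        rw [h3, AlgHom.commutes]
      -- expand `α j`
      have hj1 : α j = ∑ m : {m : B // m ∈ (cf j').support},
          algebraMap R B' (cf j' m) * α (m : B) := by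
        have h1 := hcf j'
        rw [Finsupp.sum] at h1
        have h2 : (j : B) = ∑ m ∈ (cf j').support, (cf j' m) • m := h1.symm
        rw [h2, map_sum, ← Finset.sum_coe_sort (cf j').support]
        refine Finset.sum_congr rfl fun m _ => ?_
        rw [map_smul, Algebra.smul_def]
      rw [hj1]
      have hj2 : ∀ m : {m : B // m ∈ (cf j').support},
          algebraMap R B' (cf j' m) * α (m : B) =
            algebraMap R B' (cf j' m) * ∑ t, algebraMap R B' (aa j' m t) * ζ t := by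
        intro m
        rw [← sub_eq_zero, ← mul_sub]
        exact hII _ (hcfI j' m) _ (hm m)
      rw [Finset.sum_congr rfl (fun m _ => hj2 m)]
      simp_rw [Finset.mul_sum]
      rw [Finset.sum_comm]
      refine Finset.sum_eq_zero fun t _ => ?_
      have h3 : ∑ m : {m : B // m ∈ (cf j').support},
          algebraMap R B' (cf j' m) * (algebraMap R B' (aa j' m t) * ζ t) =
          algebraMap R B' (∑ m : {m : B // m ∈ (cf j').support}, cf j' m * aa j' m t) * ζ t := by
        rw [map_sum, Finset.sum_mul]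
        refine Finset.sum_congr rfl fun m _ => ?_
        rw [map_mul, mul_assoc]
      rw [h3, haa2 j' t, map_zero, zero_mul]
    exact hsub hx

theorem s6821 {R Λ B : Type u} [CommRing R] [CommRing Λ] [Algebra R Λ] [Module.Flat R Λ]
    (I : Ideal R) (hI : I ^ 2 = ⊥) (h : Smoothing.IndSmooth (R ⧸ I) (Λ ⧸ I.map (algebraMap R Λ)))
    [CommRing B] [Algebra R B] [Algebra.Smooth R B] (φ : B →ₐ[R] Λ) (J : Ideal B)
    (hJ : J ≤ I.map (algebraMap R B)) (hJfg : J.FG) (hφJ : ∀ x ∈ J, φ x = 0) :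
    ∃ (B' : Type u) (_ : CommRing B') (_ : Algebra R B'), Algebra.Smooth R B' ∧
      ∃ (α : B →ₐ[R] B') (β : B' →ₐ[R] Λ), (∀ x ∈ J, α x = 0) ∧
        ∀ b : B, β (α b) - φ b ∈ I.map (algebraMap R Λ) := by
  obtain ⟨C, _, _, hCfp, c, φC, hφC, hP⟩ := exists_kill I φ J hJ hJfg hφJ
  obtain ⟨S'', _, _, B', _, _, hB', q, θ, η, hq, hqker, hη⟩ := exists_smooth_model I h φC
  have hsq : ∀ (T : Type u) [CommRing T] [Algebra R T], (I.map (algebraMap R T)) ^ 2 = ⊥ := by
    intro T _ _
    rw [← Ideal.map_pow, hI, Ideal.map_bot]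
  have hnilB' : IsNilpotent (RingHom.ker (q : B' →+* S'')) := by
    refine ⟨2, ?_⟩
    have : RingHom.ker (q : B' →+* S'') = I.map (algebraMap R B') := hqker
    rw [this, hsq B']
    rfl
  set α : B →ₐ[R] B' := Algebra.FormallySmooth.liftOfSurjective (θ.comp c) q hq hnilB' with hαdef
  have hα : q.comp α = θ.comp c :=
    Algebra.FormallySmooth.comp_liftOfSurjective (θ.comp c) q hq hnilB'
  have hnilΛ : IsNilpotent (I.map (algebraMap R Λ)) := ⟨2, by rw [hsq Λ]; rfl⟩
  set β : B' →ₐ[R] Λ := Algebra.FormallySmooth.lift (I.map (algebraMap R Λ)) hnilΛ (η.comp q)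
    with hβdef
  have hβ : ∀ x, Ideal.Quotient.mk (I.map (algebraMap R Λ)) (β x) = η (q x) := fun x =>
    Algebra.FormallySmooth.mk_lift (I.map (algebraMap R Λ)) hnilΛ (η.comp q) x
  refine ⟨B', inferInstance, inferInstance, hB', α, β, ?_, ?_⟩
  · refine hP B' S'' q α θ hq hqker.le hα.symm ?_
    intro ε hε e he
    have h1 : algebraMap R B' ε * e ∈ (I.map (algebraMap R B')) ^ 2 := by
      rw [pow_two]
      exact Ideal.mul_mem_mul (Ideal.mem_map_of_mem _ hε) he
    rw [hsq B'] at h1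
    exact h1
  · intro b
    rw [← Ideal.Quotient.eq, hβ]
    have h1 : q (α b) = θ (c b) := by
      rw [← AlgHom.comp_apply, hα, AlgHom.comp_apply]
    rw [h1, hη, ← AlgHom.comp_apply, hφC]

end Groth.Agent.Helper2.LiftTwice
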