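import Mathlib
import Groth.Prelude
import Groth.Agent.Helper2.LiftOnce
import Groth.Agent.Helper2.LiftTwice

set_option autoImplicit false

namespace Groth.Agent.Helper2.IndSmoothNil

open TensorProduct MvPolynomial

universe u

/-- two algebra maps agreeing modulo `I T` agree on `I B` when `I ^ 2 = 0`. -/
theorem eq_on_map_of_sub_mem {R B T : Type u} [CommRing R] [CommRing B] [CommRing T]
    [Algebra R B] [Algebra R T] (I : Ideal R) (hI : I ^ 2 = ⊥) (α₁ α₂ : B →ₐ[R] T)
    (h : ∀ b, α₁ b - α₂ b ∈ I.map (algebraMap R T)) :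
    ∀ x ∈ I.map (algebraMap R B), α₁ x = α₂ x := by
  intro x hx
  have hx' : x ∈ I • (⊤ : Submodule R B) := by
    rw [Ideal.smul_top_eq_map]; exact hx
  refine Submodule.smul_induction_on hx' ?_ ?_
  · intro r hr b _
    rw [map_smul, map_smul, ← sub_eq_zero, ← smul_sub]
    have h2 : r • (α₁ b - α₂ b) ∈ (I.map (algebraMap R T)) ^ 2 := by
      rw [pow_two, Algebra.smul_def]
      exact Ideal.mul_mem_mul (Ideal.mem_map_of_mem _ hr) (h b)
    rw [← Ideal.map_pow, hI, Ideal.map_bot] at h2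
    exact h2
  · intro x y hx hy
    rw [map_add, map_add, hx, hy]

theorem indSmooth_of_sq_zero {R Λ : Type u} [CommRing R] [CommRing Λ] [Algebra R Λ]
    (I : Ideal R) (hI : I ^ 2 = ⊥) [Module.Flat R Λ]
    (h : Smoothing.IndSmooth (R ⧸ I) (Λ ⧸ I.map (algebraMap R Λ))) :
    Smoothing.IndSmooth R Λ := by
  classical
  intro A _ _ hA φA
  haveI := hA
  obtain ⟨B, _, _, hB, J, hJ, hJfg, g, k, hkg⟩ := LiftOnce.s2023 I hI h φA
  haveI := hB
  set φ : B →ₐ[R] Λ := k.comp (Ideal.Quotient.mkₐ R J) with hφ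
  have hφJ : ∀ x ∈ J, φ x = 0 := by
    intro x hx
    simp only [hφ, AlgHom.comp_apply, Ideal.Quotient.mkₐ_eq_mk,
      Ideal.Quotient.eq_zero_iff_mem.mpr hx, map_zero]
  obtain ⟨B', _, _, hB', α, β, hαJ, hβα⟩ := LiftTwice.s6821 I hI h φ J hJ hJfg hφJ
  haveI := hB'
  -- presentation of `B`
  obtain ⟨n, f, hf⟩ := Algebra.FiniteType.iff_quotient_mvPolynomial''.mp
    (inferInstance : Algebra.FiniteType R B)
  obtain ⟨B'', _, _, _, _, hB'', β'', b'', hβ''ext, hβ''b, hb''⟩ :=
    LiftOnce.exists_absorb I β (fun i => α (f (X i))) (fun i => φ (f (X i))) (fun i => by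
      have h1 := hβα (f (X i))
      rw [← neg_sub] at h1
      exact (Ideal.neg_mem_iff _).mp h1)
  haveI := hB''
  set IB'' : Ideal B'' := I.map (algebraMap R B'') with hIB''
  have hsq : IB'' ^ 2 = ⊥ := by
    rw [hIB'', ← Ideal.map_pow, hI, Ideal.map_bot]
  let α' : B →ₐ[R] B'' := (IsScalarTower.toAlgHom R B' B'').comp α
  have hα' : ∀ b, α' b = algebraMap B' B'' (α b) := fun b => rfl
  let π : B'' →ₐ[R] (B'' ⧸ IB'') × Λ := AlgHom.prod (Ideal.Quotient.mkₐ R IB'') β''
  let γ : B →ₐ[R] (B'' ⧸ IB'') × Λ := AlgHom.prod ((Ideal.Quotient.mkₐ R IB'').comp α') φ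
  have hγπ : γ.comp f = π.comp (MvPolynomial.aeval b'') := by
    apply MvPolynomial.algHom_ext
    intro i
    simp only [AlgHom.comp_apply, MvPolynomial.aeval_X]
    refine Prod.ext ?_ ?_
    · change Ideal.Quotient.mk IB'' (α' (f (X i))) = Ideal.Quotient.mk IB'' (b'' i)
      rw [eq_comm, Ideal.Quotient.eq]
      exact hb'' i
    · change φ (f (X i)) = β'' (b'' i)
      exact (hβ''b i).symm
  have hrange : ∀ b : B, γ b ∈ π.range := by
    intro b
    obtain ⟨p, rfl⟩ := hf b
    refine ⟨MvPolynomial.aeval b'' p, ?_⟩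
    have := congrArg (fun F => F p) hγπ
    simp only [AlgHom.comp_apply] at this
    exact this.symm
  have hπsurj : Function.Surjective π.rangeRestrict := AlgHom.rangeRestrict_surjective π
  have hker : RingHom.ker (π.rangeRestrict : B'' →+* π.range) ≤ IB'' := by
    intro x hx
    rw [RingHom.mem_ker] at hx
    have h1 : π x = 0 := by
      have := congrArg Subtype.val hx
      simpa using this
    have h2 : Ideal.Quotient.mk IB'' x = 0 := congrArg Prod.fst h1
    exact Ideal.Quotient.eq_zero_iff_mem.mp h2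
  have hnil : IsNilpotent (RingHom.ker (π.rangeRestrict : B'' →+* π.range)) := by
    refine ⟨2, ?_⟩
    rw [Ideal.zero_eq_bot, ← le_bot_iff, ← hsq]
    exact Ideal.pow_right_mono hker 2
  let α'' : B →ₐ[R] B'' :=
    Algebra.FormallySmooth.liftOfSurjective (γ.codRestrict π.range hrange) π.rangeRestrict
      hπsurj hnil
  have hα'' : ∀ b, π (α'' b) = γ b := by
    intro b
    have h1 := Algebra.FormallySmooth.liftOfSurjective_apply (γ.codRestrict π.range hrange)
      π.rangeRestrict hπsurj hnil b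
    exact congrArg Subtype.val h1
  have hα''1 : ∀ b, α'' b - α' b ∈ IB'' := by
    intro b
    have h1 : Ideal.Quotient.mk IB'' (α'' b) = Ideal.Quotient.mk IB'' (α' b) :=
      congrArg Prod.fst (hα'' b)
    exact Ideal.Quotient.eq.mp h1
  have hα''2 : ∀ b, β'' (α'' b) = φ b := by
    intro b
    exact congrArg Prod.snd (hα'' b)
  have hα''J : ∀ x ∈ J, α'' x = 0 := by
    intro x hx
    rw [eq_on_map_of_sub_mem I hI α'' α' hα''1 x (hJ hx), hα', hαJ x hx, map_zero]
  let αbar : (B ⧸ J) →ₐ[R] B'' := Ideal.Quotient.liftₐ J α'' hα''J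
  refine ⟨B'', inferInstance, inferInstance, hB'', αbar.comp g, β'', ?_⟩
  rw [← hkg, ← AlgHom.comp_assoc]
  congr 1
  apply AlgHom.ext
  intro x
  obtain ⟨b, rfl⟩ := Ideal.Quotient.mk_surjective x
  simp only [AlgHom.comp_apply, αbar]
  rw [show (Ideal.Quotient.mk J b) = Ideal.Quotient.mkₐ R J b from rfl, Ideal.Quotient.liftₐ_apply]
  simp only [Ideal.Quotient.mkₐ_eq_mk, Ideal.Quotient.lift_mk]
  change β'' (α'' b) = k (Ideal.Quotient.mk J b)
  rw [hα''2]
  rfl

/-- transfer of ind-smoothness along compatible ring isomorphisms. -/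
theorem indSmooth_transfer {R R' Λ Λ' : Type u} [CommRing R] [CommRing R'] [CommRing Λ]
    [CommRing Λ'] [Algebra R Λ] [Algebra R' Λ'] (e : R ≃+* R') (eΛ : Λ ≃+* Λ')
    (hc : ∀ r, eΛ (algebraMap R Λ r) = algebraMap R' Λ' (e r))
    (hind : Smoothing.IndSmooth R Λ) : Smoothing.IndSmooth R' Λ' := by
  intro A' _ _ hA' f'
  haveI := hA'
  letI algRR' : Algebra R R' := (e : R →+* R').toAlgebra
  letI algRA' : Algebra R A' := ((algebraMap R' A').comp (e : R →+* R')).toAlgebra
  haveI : IsScalarTower R R' A' := IsScalarTower.of_algebraMap_eq (fun r => rfl)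
  haveI : Algebra.FinitePresentation R R' :=
    Algebra.FinitePresentation.equiv (AlgEquiv.ofRingEquiv (f := e) (fun r => rfl))
  haveI : Algebra.FinitePresentation R A' := Algebra.FinitePresentation.trans R R' A'
  let f : A' →ₐ[R] Λ :=
    { toRingHom := (eΛ.symm : Λ' →+* Λ).comp (f' : A' →+* Λ')
      commutes' := fun r => by
        change eΛ.symm (f' (algebraMap R' A' (e r))) = algebraMap R Λ r
        rw [f'.commutes, ← hc, RingEquiv.symm_apply_apply] }
  have hf : ∀ a, f a = eΛ.symm (f' a) := fun a => rfl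
  obtain ⟨B, _, _, hB, g, h, hgh⟩ := hind A' inferInstance f
  haveI := hB
  letI algR'B : Algebra R' B := ((algebraMap R B).comp (e.symm : R' →+* R)).toAlgebra
  have halg : ∀ r' : R', algebraMap R' B r' = algebraMap R B (e.symm r') := fun r' => rfl
  haveI : IsScalarTower R R' B := IsScalarTower.of_algebraMap_eq (fun r => by
    change algebraMap R B r = algebraMap R B (e.symm (e r))
    rw [RingEquiv.symm_apply_apply])
  haveI : Algebra.FormallyUnramified R R' :=
    Algebra.FormallyUnramified.of_surjective (Algebra.ofId R R') e.surjective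
  haveI : Algebra.FormallySmooth R' B := Algebra.FormallySmooth.of_restrictScalars R R' B
  haveI : Algebra.FinitePresentation R' B :=
    Algebra.FinitePresentation.of_restrict_scalars_finitePresentation R R' B
  let g' : A' →ₐ[R'] B :=
    { toRingHom := (g : A' →+* B)
      commutes' := fun r' => by
        change g (algebraMap R' A' r') = algebraMap R B (e.symm r')
        rw [← g.commutes]
        congr 1
        change algebraMap R' A' r' = algebraMap R' A' (e (e.symm r'))
        rw [RingEquiv.apply_symm_apply] }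
  let h' : B →ₐ[R'] Λ' :=
    { toRingHom := (eΛ : Λ →+* Λ').comp (h : B →+* Λ)
      commutes' := fun r' => by
        change eΛ (h (algebraMap R B (e.symm r'))) = algebraMap R' Λ' r'
        rw [h.commutes, hc, RingEquiv.apply_symm_apply] }
  refine ⟨B, inferInstance, algR'B, ⟨inferInstance, inferInstance⟩, g', h', ?_⟩
  apply AlgHom.ext
  intro a
  change eΛ (h (g a)) = f' a
  have h1 : h (g a) = f a := by rw [← hgh]; rfl
  rw [h1, hf, RingEquiv.apply_symm_apply]

/-- flatness of `Λ / KΛ` over `R / K`. -/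
theorem flat_quotient {R Λ : Type u} [CommRing R] [CommRing Λ] [Algebra R Λ] [Module.Flat R Λ]
    (K : Ideal R) : Module.Flat (R ⧸ K) (Λ ⧸ K.map (algebraMap R Λ)) := by
  let ρ : (Λ ⧸ K.map (algebraMap R Λ)) ≃ₐ[R] (R ⧸ K) ⊗[R] Λ :=
    ((Algebra.TensorProduct.quotIdealMapEquivTensorQuot Λ K).restrictScalars R).trans
      (Algebra.TensorProduct.comm R Λ (R ⧸ K))
  haveI : Module.Flat (R ⧸ K) ((R ⧸ K) ⊗[R] Λ) := Module.Flat.baseChange R (R ⧸ K) Λ
  exact Module.Flat.of_linearEquiv
    (LinearEquiv.extendScalarsOfSurjective (R := R) (S := R ⧸ K)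
      Ideal.Quotient.mk_surjective ρ.toLinearEquiv)

theorem indSmooth_of_pow_eq_bot : ∀ (n : ℕ) (R Λ : Type u) [CommRing R] [CommRing Λ]
    [Algebra R Λ] (I : Ideal R) (_ : I ^ n = ⊥) [Module.Flat R Λ]
    (_ : Smoothing.IndSmooth (R ⧸ I) (Λ ⧸ I.map (algebraMap R Λ))), Smoothing.IndSmooth R Λ := by
  intro n
  induction n using Nat.strong_induction_on with
  | _ n ih =>
    intro R Λ _ _ _ I hI _ h
    by_cases hn : n ≤ 2
    · apply indSmooth_of_sq_zero I _ h
      rw [← le_bot_iff, ← hI]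
      exact Ideal.pow_le_pow_right hn
    · rw [not_le] at hn
      set K : Ideal R := I ^ 2 with hK
      have hKI : K ≤ I := by
        rw [hK]; exact Ideal.pow_le_self (by norm_num)
      set KΛ : Ideal Λ := K.map (algebraMap R Λ) with hKΛ
      set IΛ : Ideal Λ := I.map (algebraMap R Λ) with hIΛ
      have hKIΛ : KΛ ≤ IΛ := Ideal.map_mono hKI
      have hKm : K ^ ((n + 1) / 2) = ⊥ := by
        rw [hK, ← pow_mul, ← le_bot_iff, ← hI]
        apply Ideal.pow_le_pow_right
        omega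
      refine ih ((n + 1) / 2) (by omega) R Λ K hKm ?_
      -- square-zero step for `R ⧸ K`
      haveI : Module.Flat (R ⧸ K) (Λ ⧸ KΛ) := flat_quotient K
      set I₁ : Ideal (R ⧸ K) := I.map (Ideal.Quotient.mk K) with hI₁
      have hI₁sq : I₁ ^ 2 = ⊥ := by
        rw [hI₁, ← Ideal.map_pow, ← hK, Ideal.map_quotient_self]
      apply indSmooth_of_sq_zero I₁ hI₁sq
      have hmapeq : I₁.map (algebraMap (R ⧸ K) (Λ ⧸ KΛ)) = IΛ.map (Ideal.Quotient.mk KΛ) := by
        rw [hI₁, hIΛ, Ideal.map_map, Ideal.map_map]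
        rfl
      let e : R ⧸ I ≃+* (R ⧸ K) ⧸ I₁ := (DoubleQuot.quotQuotEquivQuotOfLE hKI).symm
      let eΛ : Λ ⧸ IΛ ≃+* (Λ ⧸ KΛ) ⧸ I₁.map (algebraMap (R ⧸ K) (Λ ⧸ KΛ)) :=
        (DoubleQuot.quotQuotEquivQuotOfLE hKIΛ).symm.trans (Ideal.quotEquivOfEq hmapeq.symm)
      refine indSmooth_transfer e eΛ ?_ h
      intro r
      obtain ⟨r, rfl⟩ := Ideal.Quotient.mk_surjective r
      change eΛ (Ideal.Quotient.mk IΛ (algebraMap R Λ r)) = _
      simp only [e, eΛ, RingEquiv.trans_apply, DoubleQuot.quotQuotEquivQuotOfLE_symm_mk]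
      rfl

theorem s2022 {R Λ : Type u} [CommRing R] [CommRing Λ]
    [Algebra R Λ] (I : Ideal R) (hI : IsNilpotent I) [Module.Flat R Λ]
    (h : Smoothing.IndSmooth (R ⧸ I) (Λ ⧸ I.map (algebraMap R Λ))) :
    Smoothing.IndSmooth R Λ := by
  obtain ⟨n, hn⟩ := hI
  exact indSmooth_of_pow_eq_bot n R Λ I hn h

end Groth.Agent.Helper2.IndSmoothNil
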