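import Mathlib
import Groth.Prelude

set_option autoImplicit false

namespace Groth.Agent.Helper2.Deloc

open Function MvPolynomial Algebra

universe u

section Scale

variable {K : Type u} [CommRing K] {ι : Type}

/-- the scaling endomorphism `X_i ↦ c X_i`. -/
noncomputable def scale (ι : Type) (c : K) : MvPolynomial ι K →ₐ[K] MvPolynomial ι K :=
  aeval (fun i => C c * X i)

@[simp] theorem scale_X (c : K) (i : ι) : scale ι c (X i) = C c * X i := by
  simp [scale]

theorem scale_scale (c d : K) (h : c * d = 1) (q : MvPolynomial ι K) :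
    scale ι c (scale ι d q) = q := by
  have : (scale ι c).comp (scale ι d) = AlgHom.id K _ := by
    apply MvPolynomial.algHom_ext
    intro i
    simp only [AlgHom.comp_apply, scale_X, map_mul, AlgHom.id_apply]
    have h1 : scale ι c (C d) = C d := by
      rw [← MvPolynomial.algebraMap_eq, AlgHom.commutes]
    rw [h1, ← mul_assoc, ← C_mul, mul_comm d c, h, C_1, one_mul]
  exact congrArg (fun k : MvPolynomial ι K →ₐ[K] MvPolynomial ι K => k q) this

theorem pderiv_scale (c : K) (i : ι) (q : MvPolynomial ι K) :
    pderiv i (scale ι c q) = C c * scale ι c (pderiv i q) := by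
  classical
  induction q using MvPolynomial.induction_on with
  | C a =>
    have h1 : scale ι c (C a) = C a := by
      rw [← MvPolynomial.algebraMap_eq, AlgHom.commutes]
    rw [h1, pderiv_C, map_zero, mul_zero]
  | add p q hp hq =>
    rw [map_add, map_add, hp, hq, map_add, map_add, mul_add]
  | mul_X p k hp =>
    rw [map_mul, scale_X, Derivation.leibniz, Derivation.leibniz, hp, Derivation.leibniz,
      pderiv_C, pderiv_X]
    simp only [smul_eq_mul, map_add, map_mul, scale_X, mul_zero, add_zero]
    by_cases hik : k = i
    · subst hik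
      simp only [Pi.single_eq_same, map_one, mul_one]
      ring
    · rw [Pi.single_eq_of_ne hik]
      simp only [map_zero, mul_zero, zero_add, add_zero]
      ring

end Scale

section Data

variable {K B : Type u} [CommRing K] [CommRing B] [Algebra K B]

/-- from a submersive presentation and a unit `c`, a presentation-like datum for the scaled
generators `c • x_i`. -/
theorem scaled_data {ι σ : Type} [Fintype σ] [DecidableEq σ]
    (P : Algebra.SubmersivePresentation K B ι σ) (c : K) (hc : IsUnit c) :
    ∃ f' : σ → MvPolynomial ι K,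
      RingHom.ker (aeval (fun i => algebraMap K B c * P.val i) : MvPolynomial ι K →ₐ[K] B).toRingHom =
        Ideal.span (Set.range f') ∧
      Surjective (aeval (fun i => algebraMap K B c * P.val i) : MvPolynomial ι K →ₐ[K] B) ∧
      IsUnit (aeval (fun i => algebraMap K B c * P.val i)
        (Matrix.det (Matrix.of fun j k : σ => pderiv (P.map k) (f' j)))) := by
  classical
  obtain ⟨d, hcd, hdc⟩ : ∃ d : K, c * d = 1 ∧ d * c = 1 := by
    obtain ⟨u, rfl⟩ := hc
    exact ⟨↑u⁻¹, u.mul_inv, u.inv_mul⟩
  set z : ι → B := fun i => algebraMap K B c * P.val i with hz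
  have h1 : ∀ q : MvPolynomial ι K, aeval z (scale ι d q) = aeval P.val q := by
    intro q
    have : (aeval z : MvPolynomial ι K →ₐ[K] B).comp (scale ι d) = aeval P.val := by
      apply MvPolynomial.algHom_ext
      intro i
      simp only [AlgHom.comp_apply, scale_X, map_mul, aeval_C, aeval_X, hz]
      rw [← mul_assoc, ← map_mul, hdc, map_one, one_mul]
    exact congrArg (fun k : MvPolynomial ι K →ₐ[K] B => k q) this
  have h2 : ∀ q : MvPolynomial ι K, aeval P.val (scale ι c q) = aeval z q := by
    intro q
    rw [← h1, scale_scale d c hdc]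
  refine ⟨fun j => scale ι d (P.relation j), ?_, ?_, ?_⟩
  · apply le_antisymm
    · intro x hx
      rw [RingHom.mem_ker] at hx
      have hx' : aeval z x = 0 := hx
      rw [← h2] at hx'
      have h3 : scale ι c x ∈ Ideal.span (Set.range P.relation) := by
        rw [P.span_range_relation_eq_ker, P.ker_eq_ker_aeval_val, RingHom.mem_ker]
        exact hx'
      have h4 := Ideal.mem_map_of_mem (scale ι d).toRingHom h3
      rw [Ideal.map_span] at h4
      have h5 : (scale ι d).toRingHom (scale ι c x) = x := scale_scale d c hdc x
      rw [h5] at h4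
      convert h4 using 2
      ext y
      constructor
      · rintro ⟨j, rfl⟩
        exact ⟨_, ⟨j, rfl⟩, rfl⟩
      · rintro ⟨_, ⟨j, rfl⟩, rfl⟩
        exact ⟨j, rfl⟩
    · rw [Ideal.span_le]
      rintro _ ⟨j, rfl⟩
      show _ ∈ RingHom.ker _
      rw [RingHom.mem_ker]
      show aeval z (scale ι d (P.relation j)) = 0
      rw [h1, P.aeval_val_relation]
  · intro b
    obtain ⟨q, rfl⟩ := P.aeval_val_surjective b
    exact ⟨scale ι d q, h1 q⟩
  · have h3 : (Matrix.of fun j k : σ => pderiv (P.map k) (scale ι d (P.relation j))) =
        (C d : MvPolynomial ι K) • (scale ι d).mapMatrix (P.jacobiMatrix.transpose) := by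
      ext j k
      simp only [Matrix.of_apply, Matrix.smul_apply, AlgHom.mapMatrix_apply, Matrix.map_apply,
        Matrix.transpose_apply, smul_eq_mul]
      rw [pderiv_scale, Algebra.PreSubmersivePresentation.jacobiMatrix_apply]
    rw [h3, Matrix.det_smul, ← AlgHom.map_det, Matrix.det_transpose, map_mul, h1, map_pow, aeval_C]
    refine IsUnit.mul (IsUnit.pow _ ?_) ?_
    · refine IsUnit.map (algebraMap K B) ?_
      exact ⟨⟨d, c, hdc, hcd⟩, rfl⟩
    · have := P.jacobian_isUnit
      rw [Algebra.PreSubmersivePresentation.jacobian_eq_jacobiMatrix_det,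
        Algebra.Generators.algebraMap_apply] at this
      exact this

end Data

end Groth.Agent.Helper2.Deloc
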