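import Mathlib

set_option autoImplicit false

namespace Groth.Agent.Helper2.MinorLA

open Function Module

theorem exists_minor {κ : Type*} [Field κ] {m n : ℕ} (v : Fin m → Fin n → κ) :
    ∃ (c : ℕ) (rows : Fin c ↪ Fin m) (cols : Fin c ↪ Fin n),
      Matrix.det (Matrix.of fun j k => v (rows j) (cols k)) ≠ 0 ∧
      ∀ ℓ, v ℓ ∈ Submodule.span κ (Set.range (v ∘ rows)) := by
  classical
  obtain ⟨I₁, a₁, ha₁, hsp₁, hli₁⟩ := exists_linearIndependent' κ v
  haveI : Finite I₁ := Finite.of_injective a₁ ha₁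
  let e₁ : I₁ ≃ Fin (Nat.card I₁) := Finite.equivFin I₁
  let c := Nat.card I₁
  let rows : Fin c ↪ Fin m := ⟨a₁ ∘ e₁.symm, ha₁.comp e₁.symm.injective⟩
  have hli_rows : LinearIndependent κ (v ∘ rows) := by
    have := hli₁.comp e₁.symm e₁.symm.injective
    exact this
  have hspan_rows : Submodule.span κ (Set.range (v ∘ rows)) = Submodule.span κ (Set.range v) := by
    rw [← hsp₁]
    congr 1
    ext x
    constructor
    · rintro ⟨j, rfl⟩
      exact ⟨e₁.symm j, rfl⟩
    · rintro ⟨i, rfl⟩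
      exact ⟨e₁ i, by simp [rows]⟩
  -- the c × n matrix
  let M' : Matrix (Fin c) (Fin n) κ := Matrix.of fun j k => v (rows j) k
  have hrow : M'.row = v ∘ rows := by
    ext j k
    rfl
  have hrank : M'.rank = c := by
    have := LinearIndependent.rank_matrix (M := M') (by rw [hrow]; exact hli_rows)
    rw [this, Fintype.card_fin]
  -- columns
  obtain ⟨I₂, a₂, ha₂, hsp₂, hli₂⟩ := exists_linearIndependent' κ M'.col
  haveI : Finite I₂ := Finite.of_injective a₂ ha₂
  haveI : Fintype I₂ := Fintype.ofFinite I₂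
  have hcard : Fintype.card I₂ = c := by
    rw [← finrank_span_eq_card hli₂, hsp₂, ← Matrix.rank_eq_finrank_span_cols, hrank]
  let e₂ : I₂ ≃ Fin c := Fintype.equivFinOfCardEq hcard
  let cols : Fin c ↪ Fin n := ⟨a₂ ∘ e₂.symm, ha₂.comp e₂.symm.injective⟩
  refine ⟨c, rows, cols, ?_, ?_⟩
  · have hli_cols : LinearIndependent κ (M'.col ∘ cols) := hli₂.comp e₂.symm e₂.symm.injective
    have hcolsq : (Matrix.of fun j k => v (rows j) (cols k) : Matrix (Fin c) (Fin c) κ).col =
        M'.col ∘ cols := by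
      ext k j
      rfl
    have hunit : IsUnit (Matrix.of fun j k => v (rows j) (cols k) : Matrix (Fin c) (Fin c) κ) := by
      rw [← Matrix.linearIndependent_cols_iff_isUnit, hcolsq]
      exact hli_cols
    exact ((Matrix.isUnit_iff_isUnit_det _).1 hunit).ne_zero
  · intro ℓ
    rw [hspan_rows]
    exact Submodule.subset_span ⟨ℓ, rfl⟩

end Groth.Agent.Helper2.MinorLA
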