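import Mathlib
import Groth.Prelude
import Groth.Agent.Helper2.KRLoc

set_option autoImplicit false

namespace Groth.Agent.Helper2.SmAtPrime

open Function Groth.Agent.Helper2.KRLoc

section Split

variable {B : Type*} [CommRing B] (S : Submonoid B)
variable {F Ω : Type*} [AddCommGroup F] [Module B F] [AddCommGroup Ω] [Module B Ω]
variable (π : F →ₗ[B] Ω)

/-- a surjection onto a finitely presented module whose localization is projective has an
approximate section. -/
theorem exists_section_of_localized (hπ : Surjective π) [Module.FinitePresentation B Ω]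
    (hΩ : Module.Projective (Localization S) (LocalizedModule S Ω)) :
    ∃ (s : S) (h' : Ω →ₗ[B] F), ∀ ω, π (h' ω) = (s : B) • ω := by
  obtain ⟨σ, hσ⟩ := Module.projective_lifting_property (LocalizedModule.map S π)
    (LinearMap.id : LocalizedModule S Ω →ₗ[Localization S] LocalizedModule S Ω)
    (LocalizedModule.map_surjective S π hπ)
  have hσ' : ∀ y, LocalizedModule.map S π (σ y) = y := fun y =>
    congrFun (congrArg DFunLike.coe hσ) y
  let g : Ω →ₗ[B] LocalizedModule S F :=
    (σ.restrictScalars B) ∘ₗ LocalizedModule.mkLinearMap S Ω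
  obtain ⟨h, s, hs⟩ := Module.FinitePresentation.exists_lift_of_isLocalizedModule S
    (LocalizedModule.mkLinearMap S F) g
  have h3 : (LocalizedModule.mkLinearMap S Ω).comp (π ∘ₗ h) =
      (LocalizedModule.mkLinearMap S Ω).comp ((s : B) • LinearMap.id) := by
    refine LinearMap.ext fun ω => ?_
    have h4 : LocalizedModule.mkLinearMap S F (h ω) = s • g ω :=
      congrFun (congrArg DFunLike.coe hs) ω
    change LocalizedModule.mkLinearMap S Ω (π (h ω)) = LocalizedModule.mkLinearMap S Ω ((s : B) • ω)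
    rw [LocalizedModule.mkLinearMap_apply, LocalizedModule.mkLinearMap_apply,
      ← LocalizedModule.map_mk S π, ← LocalizedModule.mkLinearMap_apply, h4]
    change LocalizedModule.map S π ((s : B) • σ (LocalizedModule.mkLinearMap S Ω ω)) = _
    rw [← algebraMap_smul (Localization S) (s : B), map_smul, hσ', algebraMap_smul,
      LocalizedModule.mkLinearMap_apply, LocalizedModule.smul'_mk]
  obtain ⟨s', hs'⟩ := Module.Finite.exists_smul_of_comp_eq_of_isLocalizedModule S
    (LocalizedModule.mkLinearMap S Ω) _ _ h3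
  refine ⟨s' * s, (s' : B) • h, fun ω => ?_⟩
  have := congrFun (congrArg DFunLike.coe hs') ω
  change (s' : B) • π (h ω) = (s' : B) • ((s : B) • ω) at this
  change π ((s' : B) • h ω) = _
  rw [map_smul, this, smul_smul, Submonoid.coe_mul]

end Split

section Prime

variable {B : Type*} [CommRing B] (q : Ideal B) [q.IsPrime]
variable {N F Ω : Type*} [AddCommGroup N] [Module B N] [AddCommGroup F] [Module B F]
  [AddCommGroup Ω] [Module B Ω]
variable (d : N →ₗ[B] F) (π : F →ₗ[B] Ω)

theorem smul_mem_of_map_mem (hex : Exact d π) (hπ : Surjective π) [Module.FinitePresentation B Ω]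
    (hΩ : Module.Projective (Localization.AtPrime q) (LocalizedModule q.primeCompl Ω))
    (hK : ∀ x ∈ LinearMap.ker d, ∃ s, s ∉ q ∧ s • x = 0)
    (x : N) (hx : d x ∈ q • (⊤ : Submodule B F)) :
    ∃ s, s ∉ q ∧ s • x ∈ q • (⊤ : Submodule B N) := by
  obtain ⟨s, σ₀, hσ₀⟩ := exists_section_of_localized q.primeCompl π hπ hΩ
  have he : ∀ y : F, ∃ n : N, d n = (s : B) • y - σ₀ (π y) := by
    intro y
    have : (s : B) • y - σ₀ (π y) ∈ LinearMap.ker π := by
      rw [LinearMap.mem_ker, map_sub, map_smul, hσ₀, sub_self]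
    exact (hex _).1 this
  have key : ∀ z ∈ q • (⊤ : Submodule B F), ∃ n ∈ q • (⊤ : Submodule B N),
      d n = (s : B) • z - σ₀ (π z) := by
    intro z hz
    refine Submodule.smul_induction_on hz ?_ ?_
    · intro a ha y _
      obtain ⟨n, hn⟩ := he y
      refine ⟨a • n, Submodule.smul_mem_smul ha Submodule.mem_top, ?_⟩
      rw [map_smul, hn, map_smul, map_smul, smul_sub, smul_comm]
    · rintro z₁ z₂ ⟨n₁, hn₁, h₁⟩ ⟨n₂, hn₂, h₂⟩
      refine ⟨n₁ + n₂, Submodule.add_mem _ hn₁ hn₂, ?_⟩
      rw [map_add, h₁, h₂, map_add, map_add, smul_add]; abel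
  obtain ⟨n, hn, hdn⟩ := key _ hx
  have hπd : π (d x) = 0 := (hex (d x)).2 ⟨x, rfl⟩
  rw [hπd, map_zero, sub_zero] at hdn
  have hmem : (s : B) • x - n ∈ LinearMap.ker d := by
    rw [LinearMap.mem_ker, map_sub, map_smul, hdn, sub_self]
  obtain ⟨s', hs', hs'0⟩ := hK _ hmem
  refine ⟨s' * s, (‹q.IsPrime›).mul_notMem hs' s.2, ?_⟩
  have : (s' * (s : B)) • x = s' • n := by
    rw [smul_sub, sub_eq_zero] at hs'0
    rw [mul_smul, hs'0]
  rw [this]
  exact Submodule.smul_mem _ _ hn

/-- Nakayama at a prime, elementwise form. -/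
theorem locZero_of_le_smul {N : Type*} [AddCommGroup N] [Module B N] [Module.Finite B N]
    (h : ∀ y : N, ∃ s, s ∉ q ∧ s • y ∈ q • (⊤ : Submodule B N)) : LocZero q N := by
  let S' := Localization.AtPrime q
  let N' := LocalizedModule q.primeCompl N
  have h0 : ∀ z ∈ q • (⊤ : Submodule B N'),
      z ∈ (IsLocalRing.maximalIdeal S') • (⊤ : Submodule S' N') := by
    intro z hz
    refine Submodule.smul_induction_on hz ?_ ?_
    · intro a ha n _
      rw [← algebraMap_smul S' a n]
      exact Submodule.smul_mem_smul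
        ((IsLocalization.AtPrime.to_map_mem_maximal_iff S' q a).2 ha) Submodule.mem_top
    · intro z₁ z₂ h₁ h₂
      exact Submodule.add_mem _ h₁ h₂
  have h1 : (⊤ : Submodule S' N') ≤ (IsLocalRing.maximalIdeal S') • (⊤ : Submodule S' N') := by
    intro z _
    induction z using LocalizedModule.induction_on with
    | h y t =>
      obtain ⟨s, hs, hsy⟩ := h y
      exact h0 _ ((mk_mem_smul_top_iff q y t).2 ⟨s, hs, hsy⟩)
  have h2 : (⊤ : Submodule S' N') = ⊥ :=
    Submodule.eq_bot_of_le_smul_of_le_jacobson_bot (IsLocalRing.maximalIdeal S') ⊤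
      Module.Finite.fg_top h1 (IsLocalRing.maximalIdeal_le_jacobson _)
  haveI : Subsingleton N' := (Submodule.subsingleton_iff S').1 (subsingleton_of_bot_eq_top h2.symm)
  intro z
  obtain ⟨r, hr, hrz⟩ := LocalizedModule.subsingleton_iff.1 ‹Subsingleton N'› z
  exact ⟨r, hr, hrz⟩

/-- uniform annihilator for a finite module vanishing locally at `q`. -/
theorem LocZero.exists_uniform {N : Type*} [AddCommGroup N] [Module B N] [Module.Finite B N]
    (h : LocZero q N) : ∃ a, a ∉ q ∧ ∀ y : N, a • y = 0 := by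
  classical
  obtain ⟨G, hG⟩ := (Module.Finite.fg_top : (⊤ : Submodule B N).FG)
  have key : ∀ G' : Finset N, ∃ a, a ∉ q ∧ ∀ y ∈ Submodule.span B (G' : Set N), a • y = 0 := by
    intro G'
    induction G' using Finset.induction_on with
    | empty =>
      refine ⟨1, fun h1 => (‹q.IsPrime›).ne_top ((Ideal.eq_top_iff_one _).2 h1), ?_⟩
      intro y hy
      simp only [Finset.coe_empty, Submodule.span_empty, Submodule.mem_bot] at hy
      rw [hy, smul_zero]
    | insert g G'' _ IH =>
      obtain ⟨a₁, ha₁, h₁⟩ := IH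
      obtain ⟨a₂, ha₂, h₂⟩ := h g
      refine ⟨a₁ * a₂, (‹q.IsPrime›).mul_notMem ha₁ ha₂, ?_⟩
      intro y hy
      rw [Finset.coe_insert, Submodule.mem_span_insert] at hy
      obtain ⟨c, y₂, hy₂, rfl⟩ := hy
      rw [smul_add, mul_smul, smul_comm a₂ c g, h₂, smul_zero, smul_zero, zero_add, mul_comm,
        mul_smul, h₁ y₂ hy₂, smul_zero]
  obtain ⟨a, ha, hay⟩ := key G
  exact ⟨a, ha, fun y => hay y (hG ▸ Submodule.mem_top)⟩

theorem exists_smul_mem_of_local {N : Type*} [AddCommGroup N] [Module B N] [Module.Finite B N]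
    (W : Submodule B N)
    (h : ∀ y : N, ∃ s, s ∉ q ∧ s • y ∈ W ⊔ q • (⊤ : Submodule B N)) :
    ∃ a, a ∉ q ∧ ∀ y : N, a • y ∈ W := by
  have h1 : LocZero q (N ⧸ W) := by
    apply locZero_of_le_smul
    intro y
    obtain ⟨y, rfl⟩ := Submodule.Quotient.mk_surjective W y
    obtain ⟨s, hs, hsy⟩ := h y
    refine ⟨s, hs, ?_⟩
    obtain ⟨w, hw, z, hz, hwz⟩ := Submodule.mem_sup.1 hsy
    have : s • (Submodule.Quotient.mk y : N ⧸ W) = W.mkQ z := by
      rw [← Submodule.Quotient.mk_smul, ← hwz, Submodule.Quotient.mk_add,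
        (Submodule.Quotient.mk_eq_zero W).2 hw, zero_add]
      rfl
    rw [this]
    have h2 : (q • (⊤ : Submodule B N)).map W.mkQ ≤ q • (⊤ : Submodule B (N ⧸ W)) := by
      rw [Submodule.map_smul'']
      exact Submodule.smul_mono le_rfl le_top
    exact h2 (Submodule.mem_map_of_mem hz)
  obtain ⟨a, ha, hay⟩ := LocZero.exists_uniform q h1
  refine ⟨a, ha, fun y => ?_⟩
  have := hay (Submodule.Quotient.mk y)
  rwa [← Submodule.Quotient.mk_smul, Submodule.Quotient.mk_eq_zero] at this

end Prime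

end Groth.Agent.Helper2.SmAtPrime
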