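import Mathlib
import Groth.Prelude
import Groth.Agent.Helper2.SmAtPrime
import Groth.Agent.Helper2.MinorLA

set_option autoImplicit false

namespace Groth.Agent.Helper2.StdElem

open Function MvPolynomial Algebra Groth.Agent.Helper2.SmAtPrime Groth.Agent.Helper2.MinorLA
  Groth.Agent.Helper2.KRLoc

universe u

section Basis

variable {A : Type*} [CommRing A] {F : Type*} [AddCommGroup F] [Module A F] {ι : Type*} [Fintype ι]

lemma mem_smul_top_of_repr_mem (b : Module.Basis ι A F) (q : Ideal A) (z : F)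
    (h : ∀ k, b.repr z k ∈ q) : z ∈ q • (⊤ : Submodule A F) := by
  rw [← b.sum_repr z]
  exact Submodule.sum_mem _ fun k _ => Submodule.smul_mem_smul (h k) Submodule.mem_top

end Basis

section Denoms

variable {A : Type*} [CommRing A] (q : Ideal A) [q.IsPrime]

lemma exists_common_denom {c : ℕ} (l : Fin c → q.ResidueField) :
    ∃ (s : A) (a : Fin c → A), s ∉ q ∧ ∀ j, l j * algebraMap A q.ResidueField s =
      algebraMap A q.ResidueField (a j) := by
  have hsurj : ∀ j, ∃ x : Localization.AtPrime q, IsLocalRing.residue _ x = l j :=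
    fun j => IsLocalRing.residue_surjective (l j)
  choose x hx using hsurj
  obtain ⟨b, hb⟩ := IsLocalization.exist_integer_multiples_of_finite q.primeCompl x
  choose a ha using hb
  refine ⟨b, a, b.2, fun j => ?_⟩
  have h1 := congrArg (IsLocalRing.residue (Localization.AtPrime q)) (ha j)
  rw [Algebra.smul_def, map_mul, hx] at h1
  rw [mul_comm]
  exact h1.symm

end Denoms

section Main

variable {R A : Type u} [CommRing R] [CommRing A] [Algebra R A] {n m : ℕ}

theorem s2108 (f : Fin m → MvPolynomial (Fin n) R) (φ : MvPolynomial (Fin n) R →ₐ[R] A)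
    (hφ : Surjective φ) (hker : RingHom.ker φ.toRingHom = Ideal.span (Set.range f))
    (q : Ideal A) [q.IsPrime] [Algebra.IsSmoothAt R q] :
    ∃ a : A, a ∉ q ∧ ∃ (c : ℕ) (rows : Fin c ↪ Fin m) (cols : Fin c ↪ Fin n) (a' : A),
      a = a' * φ (Smoothing.jacobianMinor f rows cols) ∧
      ∀ a₁ : MvPolynomial (Fin n) R, φ a₁ = a → ∀ ℓ : Fin m,
        a₁ * f ℓ ∈ Ideal.span (Set.range (f ∘ rows)) ⊔ Ideal.span (Set.range f) ^ 2 := by
  classical
  have hfeq : φ = aeval (fun i => φ (X i)) := by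
    apply MvPolynomial.algHom_ext
    intro i
    simp
  let Gen : Algebra.Generators R A (Fin n) :=
    Algebra.Generators.ofSurjective (fun i => φ (X i)) (by rw [← hfeq]; exact hφ)
  have hGalg : ∀ r : Gen.Ring, algebraMap Gen.Ring A r = φ r := by
    intro r
    conv_rhs => rw [hfeq]
    rfl
  have hGker : Gen.ker = Ideal.span (Set.range f) := by
    rw [← hker]
    ext r
    show algebraMap Gen.Ring A r = 0 ↔ φ r = 0
    rw [hGalg]
  have hfg : (RingHom.ker φ.toRingHom).FG := by
    rw [hker]; exact Submodule.fg_span (Set.finite_range f)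
  haveI : Algebra.FinitePresentation R A := Algebra.FinitePresentation.of_surjective hφ hfg
  haveI : Module.Finite A Gen.toExtension.Cotangent :=
    Algebra.Extension.Cotangent.finite (by
      show Gen.ker.FG
      rw [hGker]; exact Submodule.fg_span (Set.finite_range f))
  have hex := Gen.toExtension.exact_cotangentComplex_toKaehler
  have hπ := Gen.toExtension.toKaehler_surjective
  have hsm : (⟨q, inferInstance⟩ : PrimeSpectrum A) ∈ Algebra.smoothLocus R A :=
    ‹Algebra.IsSmoothAt R q›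
  rw [Algebra.smoothLocus_eq_compl_support_inter] at hsm
  obtain ⟨h1, h2⟩ := hsm
  rw [Set.mem_compl_iff, Module.notMem_support_iff, LocalizedModule.subsingleton_iff] at h1
  rw [Module.mem_freeLocus] at h2
  have hΩ : Module.Projective (Localization.AtPrime q) (LocalizedModule q.primeCompl Ω[A⁄R]) :=
    Module.Projective.of_free
  have hK : ∀ x ∈ LinearMap.ker Gen.toExtension.cotangentComplex, ∃ s, s ∉ q ∧ s • x = 0 := by
    intro x hx
    let y : Gen.toExtension.H1Cotangent := ⟨x, hx⟩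
    obtain ⟨r, hr, hry⟩ := h1 (Gen.equivH1Cotangent y)
    refine ⟨r, hr, ?_⟩
    rw [← map_smul, LinearEquiv.map_eq_zero_iff] at hry
    exact congrArg Subtype.val hry
  have hC1 := smul_mem_of_map_mem q Gen.toExtension.cotangentComplex Gen.toExtension.toKaehler
    hex hπ hΩ hK
  -- the generators of the conormal module
  have hfmem : ∀ ℓ, f ℓ ∈ Gen.toExtension.ker := fun ℓ => by
    show f ℓ ∈ Gen.ker
    rw [hGker]; exact Ideal.subset_span ⟨ℓ, rfl⟩
  let g : Fin m → Gen.toExtension.Cotangent :=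
    fun ℓ => Algebra.Extension.Cotangent.mk ⟨f ℓ, hfmem ℓ⟩
  let J : Fin m → Fin n → A := fun ℓ k => φ (pderiv k (f ℓ))
  have hcoord : ∀ ℓ k, Gen.cotangentSpaceBasis.repr
      (Gen.toExtension.cotangentComplex (g ℓ)) k = J ℓ k := by
    intro ℓ k
    show Gen.cotangentSpaceBasis.repr (Gen.toExtension.cotangentComplex
      (Algebra.Extension.Cotangent.mk ⟨f ℓ, hfmem ℓ⟩)) k = _
    rw [Algebra.Extension.cotangentComplex_mk, Algebra.Generators.cotangentSpaceBasis_repr_one_tmul]
    exact hGalg _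
  -- linear algebra over the residue field
  obtain ⟨c, rows, cols, hdet, hspan⟩ :=
    exists_minor (fun ℓ k => algebraMap A q.ResidueField (J ℓ k))
  have hminor : φ (Smoothing.jacobianMinor f rows cols) =
      Matrix.det (Matrix.of fun j k => J (rows j) (cols k)) := by
    unfold Smoothing.jacobianMinor
    rw [AlgHom.map_det]
    rfl
  have hminor_notin : φ (Smoothing.jacobianMinor f rows cols) ∉ q := by
    intro hmem
    apply hdet
    have h0 : algebraMap A q.ResidueField (φ (Smoothing.jacobianMinor f rows cols)) = 0 :=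
      (Ideal.algebraMap_residueField_eq_zero).2 hmem
    rw [hminor, RingHom.map_det] at h0
    exact h0
  -- `mk` of combinations
  let fE : Fin m → Gen.toExtension.Ring := f
  have hcomb_mem : ∀ {ι' : Type} [Fintype ι'] (h : ι' → Fin m) (p : ι' → Gen.toExtension.Ring),
      ∑ i, p i * fE (h i) ∈ Gen.toExtension.ker := by
    intro ι' _ h p
    exact Ideal.sum_mem _ fun i _ => Ideal.mul_mem_left _ _ (hfmem (h i))
  have hcomb : ∀ {ι' : Type} [Fintype ι'] (h : ι' → Fin m) (p : ι' → Gen.toExtension.Ring),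
      Algebra.Extension.Cotangent.mk ⟨∑ i, p i * fE (h i), hcomb_mem h p⟩ =
        ∑ i, algebraMap Gen.toExtension.Ring A (p i) • g (h i) := by
    intro ι' _ h p
    have h1 : (⟨∑ i, p i * fE (h i), hcomb_mem h p⟩ : Gen.toExtension.ker) =
        ∑ i, p i • (⟨fE (h i), hfmem (h i)⟩ : Gen.toExtension.ker) := by
      apply Subtype.ext
      rw [Submodule.coe_sum]
      rfl
    rw [h1, map_sum]
    refine Finset.sum_congr rfl fun i _ => ?_
    rw [map_smul, algebraMap_smul]
  let W : Submodule A Gen.toExtension.Cotangent := Submodule.span A (Set.range (g ∘ rows))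
  have hgen : ∀ ℓ, ∃ s, s ∉ q ∧
      s • g ℓ ∈ W ⊔ q • (⊤ : Submodule A Gen.toExtension.Cotangent) := by
    intro ℓ
    obtain ⟨l, hl⟩ := (Submodule.mem_span_range_iff_exists_fun q.ResidueField).1 (hspan ℓ)
    obtain ⟨s, a, hs, ha⟩ := exists_common_denom q l
    let x : Gen.toExtension.Cotangent := s • g ℓ - ∑ j, a j • g (rows j)
    have hx : Gen.toExtension.cotangentComplex x ∈
        q • (⊤ : Submodule A Gen.toExtension.CotangentSpace) := by
      apply mem_smul_top_of_repr_mem Gen.cotangentSpaceBasis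
      intro k
      rw [← Ideal.algebraMap_residueField_eq_zero]
      simp only [x, map_sub, map_smul, map_sum, Finsupp.coe_sub, Finsupp.coe_smul,
        Finsupp.coe_finsetSum, Pi.sub_apply, Pi.smul_apply, Finset.sum_apply, hcoord, smul_eq_mul,
        map_mul]
      have hk := congrFun hl k
      simp only [Finset.sum_apply, Pi.smul_apply, comp_apply, smul_eq_mul] at hk
      rw [← hk, Finset.mul_sum, ← Finset.sum_sub_distrib]
      apply Finset.sum_eq_zero
      intro j _
      rw [← ha j]; ring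
    obtain ⟨s', hs', hs'x⟩ := hC1 x hx
    refine ⟨s' * s, (‹q.IsPrime›).mul_notMem hs' hs, ?_⟩
    have : (s' * s) • g ℓ = s' • x + ∑ j, (s' * a j) • g (rows j) := by
      simp only [x, smul_sub, Finset.smul_sum, mul_smul]; abel
    rw [this, add_comm]
    exact Submodule.add_mem_sup (Submodule.sum_mem _ fun j _ =>
      Submodule.smul_mem _ _ (Submodule.subset_span ⟨j, rfl⟩)) hs'x
  -- closure properties of the local membership predicate
  have hadd : ∀ y₁ y₂ : Gen.toExtension.Cotangent,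
      (∃ s, s ∉ q ∧ s • y₁ ∈ W ⊔ q • (⊤ : Submodule A Gen.toExtension.Cotangent)) →
      (∃ s, s ∉ q ∧ s • y₂ ∈ W ⊔ q • (⊤ : Submodule A Gen.toExtension.Cotangent)) →
      ∃ s, s ∉ q ∧ s • (y₁ + y₂) ∈ W ⊔ q • (⊤ : Submodule A Gen.toExtension.Cotangent) := by
    rintro y₁ y₂ ⟨s₁, hs₁, h₁⟩ ⟨s₂, hs₂, h₂⟩
    refine ⟨s₁ * s₂, (‹q.IsPrime›).mul_notMem hs₁ hs₂, ?_⟩
    have : (s₁ * s₂) • (y₁ + y₂) = s₂ • (s₁ • y₁) + s₁ • (s₂ • y₂) := by
      rw [smul_add, mul_smul, mul_smul, smul_comm s₁ s₂ y₁]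
    rw [this]
    exact Submodule.add_mem _ (Submodule.smul_mem _ _ h₁) (Submodule.smul_mem _ _ h₂)
  have hsmul : ∀ (b : A) (y : Gen.toExtension.Cotangent),
      (∃ s, s ∉ q ∧ s • y ∈ W ⊔ q • (⊤ : Submodule A Gen.toExtension.Cotangent)) →
      ∃ s, s ∉ q ∧ s • (b • y) ∈ W ⊔ q • (⊤ : Submodule A Gen.toExtension.Cotangent) := by
    rintro b y ⟨s, hs, h⟩
    refine ⟨s, hs, ?_⟩
    rw [smul_comm]
    exact Submodule.smul_mem _ _ h
  have hall : ∀ y : Gen.toExtension.Cotangent,
      ∃ s, s ∉ q ∧ s • y ∈ W ⊔ q • (⊤ : Submodule A Gen.toExtension.Cotangent) := by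
    intro y
    obtain ⟨⟨x0, hx0⟩, rfl⟩ := Algebra.Extension.Cotangent.mk_surjective y
    have hx0' : x0 ∈ Ideal.span (Set.range fE) := by
      have : x0 ∈ Gen.ker := hx0
      rw [hGker] at this
      exact this
    obtain ⟨p, hp⟩ := (Ideal.mem_span_range_iff_exists_fun).1 hx0'
    have hmk : Algebra.Extension.Cotangent.mk ⟨x0, hx0⟩ =
        ∑ i, algebraMap Gen.toExtension.Ring A (p i) • g (id i) := by
      rw [← hcomb id p]
      congr 1
      exact Subtype.ext hp.symm
    rw [hmk]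
    refine Finset.sum_induction _
      (fun y => ∃ s, s ∉ q ∧ s • y ∈ W ⊔ q • (⊤ : Submodule A Gen.toExtension.Cotangent))
      hadd ?_ (fun i _ => hsmul _ _ (hgen i))
    exact ⟨1, fun h1 => (‹q.IsPrime›).ne_top ((Ideal.eq_top_iff_one _).2 h1), by simp⟩
  obtain ⟨a₁, ha₁, ha₁W⟩ := exists_smul_mem_of_local q W hall
  refine ⟨a₁ * φ (Smoothing.jacobianMinor f rows cols),
    (‹q.IsPrime›).mul_notMem ha₁ hminor_notin, c, rows, cols, a₁, rfl, ?_⟩
  intro a₁' ha₁' ℓ
  let a₁E : Gen.toExtension.Ring := a₁'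
  have hmemK : a₁E * fE ℓ ∈ Gen.toExtension.ker := Ideal.mul_mem_left _ _ (hfmem ℓ)
  have hW : Algebra.Extension.Cotangent.mk ⟨a₁E * fE ℓ, hmemK⟩ ∈ W := by
    have h1 : (⟨a₁E * fE ℓ, hmemK⟩ : Gen.toExtension.ker) =
        a₁E • (⟨fE ℓ, hfmem ℓ⟩ : Gen.toExtension.ker) := Subtype.ext rfl
    rw [h1, map_smul, ← algebraMap_smul A a₁E]
    have h2 : algebraMap Gen.toExtension.Ring A a₁E =
        φ (Smoothing.jacobianMinor f rows cols) * a₁ := by
      rw [mul_comm, ← ha₁']
      exact hGalg a₁'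
    rw [h2, mul_smul]
    exact Submodule.smul_mem _ _ (ha₁W _)
  obtain ⟨b, hb⟩ := (Submodule.mem_span_range_iff_exists_fun A).1 hW
  have hlift : ∀ j, ∃ pj : Gen.toExtension.Ring, algebraMap Gen.toExtension.Ring A pj = b j :=
    fun j => Gen.toExtension.algebraMap_surjective (b j)
  choose pp hpp using hlift
  have hb' : Algebra.Extension.Cotangent.mk ⟨∑ j, pp j * fE (rows j), hcomb_mem rows pp⟩ =
      Algebra.Extension.Cotangent.mk ⟨a₁E * fE ℓ, hmemK⟩ := by
    rw [hcomb rows pp, ← hb]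
    refine Finset.sum_congr rfl fun j _ => ?_
    rw [hpp]
    rfl
  rw [Algebra.Extension.Cotangent.mk_eq_mk_iff_sub_mem] at hb'
  have hsq : a₁E * fE ℓ - ∑ j, pp j * fE (rows j) ∈ Ideal.span (Set.range f) ^ 2 := by
    have h3 : (∑ j, pp j * fE (rows j)) - a₁E * fE ℓ ∈ Gen.ker ^ 2 := hb'
    rw [hGker] at h3
    have := Ideal.neg_mem_iff _ |>.2 h3
    rwa [neg_sub] at this
  have hfin : a₁' * f ℓ = ∑ j, pp j * fE (rows j) + (a₁E * fE ℓ - ∑ j, pp j * fE (rows j)) := by
    show a₁E * fE ℓ = _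
    ring
  rw [hfin]
  refine Submodule.add_mem_sup ?_ hsq
  exact Ideal.sum_mem _ fun j _ => Ideal.mul_mem_left _ _ (Ideal.subset_span ⟨j, rfl⟩)

end Main

end Groth.Agent.Helper2.StdElem
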