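import Mathlib
import Groth.Prelude
import Groth.Agent.Helper2.StdElem

set_option autoImplicit false

namespace Groth.Agent.Helper2.StdPerm

open Function MvPolynomial Algebra

universe u

section Perm

/-- extend an embedding `Fin c ↪ Fin m` to a permutation carrying the initial segment to it. -/
lemma exists_perm {c m : ℕ} (hcm : c ≤ m) (rows : Fin c ↪ Fin m) :
    ∃ σ : Equiv.Perm (Fin m), ∀ j, σ (Fin.castLE hcm j) = rows j := by
  classical
  let e₀ : Fin c ≃ {x : Fin m // x ∈ Set.range (Fin.castLE hcm)} :=
    Equiv.ofInjective (Fin.castLE hcm) (Fin.castLE_injective hcm)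
  let e₁ : Fin c ≃ {x : Fin m // x ∈ Set.range rows} := Equiv.ofInjective rows rows.injective
  let e : {x : Fin m // x ∈ Set.range (Fin.castLE hcm)} ≃ {x : Fin m // x ∈ Set.range rows} :=
    e₀.symm.trans e₁
  refine ⟨e.extendSubtype, fun j => ?_⟩
  rw [Equiv.extendSubtype_apply_of_mem e _ ⟨j, rfl⟩]
  show ((e₁ (e₀.symm ⟨Fin.castLE hcm j, ⟨j, rfl⟩⟩) : {x : Fin m // x ∈ Set.range rows}) : Fin m) = _
  have : e₀.symm ⟨Fin.castLE hcm j, ⟨j, rfl⟩⟩ = j := by
    rw [Equiv.symm_apply_eq]
    rfl
  rw [this]
  rfl

end Perm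

section Main

variable {R A : Type u} [CommRing R] [CommRing A] [Algebra R A]

theorem exists_elementaryStandard_of_data {n m c : ℕ}
    (f : Fin m → MvPolynomial (Fin n) R) (φ : MvPolynomial (Fin n) R →ₐ[R] A) (hφ : Surjective φ)
    (hker : RingHom.ker φ.toRingHom = Ideal.span (Set.range f))
    (rows : Fin c ↪ Fin m) (cols : Fin c ↪ Fin n) (a a' : A)
    (ha : a = a' * φ (Smoothing.jacobianMinor f rows cols))
    (hkill : ∀ a₁ : MvPolynomial (Fin n) R, φ a₁ = a → ∀ ℓ : Fin m,
      a₁ * f ℓ ∈ Ideal.span (Set.range (f ∘ rows)) ⊔ Ideal.span (Set.range f) ^ 2) :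
    Smoothing.IsElementaryStandard R A a := by
  classical
  have hcn : c ≤ n := by simpa using Fintype.card_le_of_embedding cols
  have hcm : c ≤ m := by simpa using Fintype.card_le_of_embedding rows
  obtain ⟨σ, hσ⟩ := exists_perm hcm rows
  obtain ⟨τ, hτ⟩ := exists_perm hcn cols
  -- the renaming isomorphism and its inverse
  have hρτ : ∀ x : MvPolynomial (Fin n) R, rename τ (rename τ.symm x) = x := by
    intro x
    rw [rename_rename]
    simp
  have hτρ : ∀ x : MvPolynomial (Fin n) R, rename τ.symm (rename τ x) = x := by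
    intro x
    rw [rename_rename]
    simp
  let rel : Fin m → MvPolynomial (Fin n) R := fun j => rename τ.symm (f (σ j))
  have hrange_rel : Set.range rel = (rename τ.symm : MvPolynomial (Fin n) R → _) '' Set.range f := by
    ext x
    constructor
    · rintro ⟨j, rfl⟩
      exact ⟨f (σ j), ⟨σ j, rfl⟩, rfl⟩
    · rintro ⟨_, ⟨ℓ, rfl⟩, rfl⟩
      exact ⟨σ.symm ℓ, by simp [rel]⟩
  have hmap_span : (Ideal.span (Set.range f)).map
      (rename τ.symm : MvPolynomial (Fin n) R →ₐ[R] MvPolynomial (Fin n) R).toRingHom =
      Ideal.span (Set.range rel) := by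
    rw [Ideal.map_span, hrange_rel]
    rfl
  let P : Smoothing.MarkedPresentation R A :=
    { n := n
      m := m
      c := c
      hcn := hcn
      hcm := hcm
      rel := rel
      hom := φ.comp (rename τ)
      surj := by
        intro y
        obtain ⟨x, rfl⟩ := hφ y
        exact ⟨rename τ.symm x, by simp [hρτ]⟩
      ker_eq := by
        rw [← hmap_span]
        ext x
        rw [RingHom.mem_ker]
        constructor
        · intro hx
          have h1 : rename τ x ∈ Ideal.span (Set.range f) := by
            rw [← hker, RingHom.mem_ker]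
            exact hx
          have h2 := Ideal.mem_map_of_mem
            (rename τ.symm : MvPolynomial (Fin n) R →ₐ[R] MvPolynomial (Fin n) R).toRingHom h1
          rwa [show (rename τ.symm : MvPolynomial (Fin n) R →ₐ[R] _).toRingHom (rename τ x) = x
            from hτρ x] at h2
        · intro hx
          have h1 : (Ideal.span (Set.range f)).map
              (rename τ.symm : MvPolynomial (Fin n) R →ₐ[R] MvPolynomial (Fin n) R).toRingHom ≤
              (RingHom.ker φ.toRingHom).comap
                (rename τ : MvPolynomial (Fin n) R →ₐ[R] MvPolynomial (Fin n) R).toRingHom := by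
            rw [Ideal.map_le_iff_le_comap]
            intro z hz
            rw [Ideal.mem_comap, Ideal.mem_comap]
            show rename τ (rename τ.symm z) ∈ _
            rw [hρτ, hker]
            exact hz
          have h2 := h1 hx
          rw [Ideal.mem_comap, RingHom.mem_ker] at h2
          exact h2 }
  refine ⟨P, ⟨a', ?_⟩, ?_⟩
  · -- the minor
    rw [ha]
    congr 1
    show φ (Smoothing.jacobianMinor f rows cols) =
      φ (rename τ (Smoothing.jacobianMinor rel (Fin.castLE hcm) (Fin.castLE hcn)))
    congr 1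
    have h1 : Smoothing.jacobianMinor rel (Fin.castLE hcm) (Fin.castLE hcn) =
        rename τ.symm (Smoothing.jacobianMinor f rows cols) := by
      unfold Smoothing.jacobianMinor
      rw [AlgHom.map_det]
      congr 1
      ext j k
      simp only [Matrix.of_apply, AlgHom.mapMatrix_apply, Matrix.map_apply, rel, hσ]
      have hk : Fin.castLE hcn k = τ.symm (cols k) := by
        rw [Equiv.eq_symm_apply]; exact hτ k
      rw [hk, pderiv_rename τ.symm.injective]
    rw [h1, hρτ]
  · -- kills tail
    intro a₁ ha₁ j _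
    have h1 := hkill (rename τ a₁) ha₁ (σ j)
    have h2 := Ideal.mem_map_of_mem
      (rename τ.symm : MvPolynomial (Fin n) R →ₐ[R] MvPolynomial (Fin n) R).toRingHom h1
    rw [Ideal.map_sup, Ideal.map_pow, hmap_span, Ideal.map_span] at h2
    have h3 : (rename τ.symm : MvPolynomial (Fin n) R →ₐ[R] MvPolynomial (Fin n) R).toRingHom
        (rename τ a₁ * f (σ j)) = a₁ * rel j := by
      rw [map_mul]
      congr 1
      exact hτρ a₁
    rw [h3] at h2
    have h4 : (⇑(rename τ.symm : MvPolynomial (Fin n) R →ₐ[R] MvPolynomial (Fin n) R).toRingHom) ''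
        Set.range (f ∘ rows) = rel '' {j' : Fin m | (j' : ℕ) < c} := by
      ext x
      constructor
      · rintro ⟨_, ⟨i, rfl⟩, rfl⟩
        refine ⟨Fin.castLE hcm i, i.2, ?_⟩
        simp only [rel, hσ]
        rfl
      · rintro ⟨j', hj', rfl⟩
        refine ⟨f (rows ⟨j', hj'⟩), ⟨⟨j', hj'⟩, rfl⟩, ?_⟩
        have : σ j' = rows ⟨j', hj'⟩ := by
          rw [← hσ ⟨j', hj'⟩]
          congr 1
        simp only [rel, this]
        rfl
    rw [h4] at h2
    exact h2

end Main

end Groth.Agent.Helper2.StdPerm
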