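import Mathlib
import Groth.Prelude
import Groth.Agent.Helper2.StdPerm

set_option autoImplicit false

namespace Groth.Agent.Helper2.Deloc

open Function MvPolynomial Algebra

universe u

variable {R A : Type u} [CommRing R] [CommRing A] [Algebra R A]

/-- general-index version of `StdPerm.exists_elementaryStandard_of_data`. -/
theorem exists_elementaryStandard_of_data_gen {V κ γ : Type} [Fintype V] [Fintype κ] [Fintype γ]
    [DecidableEq V] [DecidableEq κ] [DecidableEq γ]
    (f : κ → MvPolynomial V R) (φ : MvPolynomial V R →ₐ[R] A) (hφ : Surjective φ)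
    (hker : RingHom.ker φ.toRingHom = Ideal.span (Set.range f))
    (rows : γ ↪ κ) (cols : γ ↪ V) (a a' : A)
    (ha : a = a' * φ (Matrix.det (Matrix.of fun j k : γ => pderiv (cols k) (f (rows j)))))
    (hkill : ∀ a₁ : MvPolynomial V R, φ a₁ = a → ∀ ℓ : κ,
      a₁ * f ℓ ∈ Ideal.span (Set.range (f ∘ rows)) ⊔ Ideal.span (Set.range f) ^ 2) :
    Smoothing.IsElementaryStandard R A a := by
  classical
  let eV : V ≃ Fin (Fintype.card V) := Fintype.equivFin V
  let eκ : κ ≃ Fin (Fintype.card κ) := Fintype.equivFin κ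
  let eγ : γ ≃ Fin (Fintype.card γ) := Fintype.equivFin γ
  have hρτ : ∀ x : MvPolynomial (Fin (Fintype.card V)) R, rename eV (rename eV.symm x) = x := by
    intro x
    rw [rename_rename]
    simp
  have hτρ : ∀ x : MvPolynomial V R, rename eV.symm (rename eV x) = x := by
    intro x
    rw [rename_rename]
    simp
  let f₂ : Fin (Fintype.card κ) → MvPolynomial (Fin (Fintype.card V)) R :=
    fun j => rename eV (f (eκ.symm j))
  let φ₂ : MvPolynomial (Fin (Fintype.card V)) R →ₐ[R] A := φ.comp (rename eV.symm)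
  let rows₂ : Fin (Fintype.card γ) ↪ Fin (Fintype.card κ) :=
    eγ.symm.toEmbedding.trans (rows.trans eκ.toEmbedding)
  let cols₂ : Fin (Fintype.card γ) ↪ Fin (Fintype.card V) :=
    eγ.symm.toEmbedding.trans (cols.trans eV.toEmbedding)
  have hrange : Set.range f₂ = (rename eV : MvPolynomial V R → _) '' Set.range f := by
    ext x
    constructor
    · rintro ⟨j, rfl⟩
      exact ⟨f (eκ.symm j), ⟨_, rfl⟩, rfl⟩
    · rintro ⟨_, ⟨ℓ, rfl⟩, rfl⟩
      exact ⟨eκ ℓ, by simp [f₂]⟩
  have hmap_span : (Ideal.span (Set.range f)).map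
      (rename eV : MvPolynomial V R →ₐ[R] MvPolynomial (Fin (Fintype.card V)) R).toRingHom =
      Ideal.span (Set.range f₂) := by
    rw [Ideal.map_span, hrange]
    rfl
  have hrange' : Set.range (f₂ ∘ rows₂) =
      (rename eV : MvPolynomial V R → _) '' Set.range (f ∘ rows) := by
    ext x
    constructor
    · rintro ⟨j, rfl⟩
      refine ⟨f (rows (eγ.symm j)), ⟨_, rfl⟩, ?_⟩
      simp [f₂, rows₂]
    · rintro ⟨_, ⟨ℓ, rfl⟩, rfl⟩
      exact ⟨eγ ℓ, by simp [f₂, rows₂]⟩
  have hmap_span' : (Ideal.span (Set.range (f ∘ rows))).map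
      (rename eV : MvPolynomial V R →ₐ[R] MvPolynomial (Fin (Fintype.card V)) R).toRingHom =
      Ideal.span (Set.range (f₂ ∘ rows₂)) := by
    rw [Ideal.map_span, hrange']
    rfl
  refine StdPerm.exists_elementaryStandard_of_data f₂ φ₂ ?_ ?_ rows₂ cols₂ a a' ?_ ?_
  · intro y
    obtain ⟨x, rfl⟩ := hφ y
    exact ⟨rename eV x, by simp [φ₂, hτρ]⟩
  · rw [← hmap_span]
    ext x
    rw [RingHom.mem_ker]
    constructor
    · intro hx
      have h1 : rename eV.symm x ∈ Ideal.span (Set.range f) := by
        rw [← hker, RingHom.mem_ker]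
        exact hx
      have h2 := Ideal.mem_map_of_mem
        (rename eV : MvPolynomial V R →ₐ[R] MvPolynomial (Fin (Fintype.card V)) R).toRingHom h1
      rwa [show (rename eV : MvPolynomial V R →ₐ[R] _).toRingHom (rename eV.symm x) = x
        from hρτ x] at h2
    · intro hx
      have h1 : (Ideal.span (Set.range f)).map
          (rename eV : MvPolynomial V R →ₐ[R] MvPolynomial (Fin (Fintype.card V)) R).toRingHom ≤
          (RingHom.ker φ.toRingHom).comap
            (rename eV.symm : MvPolynomial (Fin (Fintype.card V)) R →ₐ[R] MvPolynomial V R).toRingHom := by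
        rw [Ideal.map_le_iff_le_comap]
        intro z hz
        rw [Ideal.mem_comap, Ideal.mem_comap]
        show rename eV.symm (rename eV z) ∈ _
        rw [hτρ, hker]
        exact hz
      have h2 := h1 hx
      rw [Ideal.mem_comap, RingHom.mem_ker] at h2
      exact h2
  · rw [ha]
    congr 1
    show φ _ = φ (rename eV.symm (Smoothing.jacobianMinor f₂ rows₂ cols₂))
    congr 1
    have h1 : Smoothing.jacobianMinor f₂ rows₂ cols₂ =
        rename eV (Matrix.det (Matrix.of fun j k : γ => pderiv (cols k) (f (rows j)))) := by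
      unfold Smoothing.jacobianMinor
      rw [AlgHom.map_det, ← Matrix.det_submatrix_equiv_self eγ.symm]
      congr 1
      ext j k
      simp only [Matrix.of_apply, AlgHom.mapMatrix_apply, Matrix.map_apply, Matrix.submatrix_apply,
        f₂, rows₂, cols₂, Embedding.trans_apply, Equiv.coe_toEmbedding, Equiv.symm_apply_apply]
      rw [pderiv_rename eV.injective]
    rw [h1, hτρ]
  · intro a₁ ha₁ ℓ
    have h1 := hkill (rename eV.symm a₁) ha₁ (eκ.symm ℓ)
    have h2 := Ideal.mem_map_of_mem
      (rename eV : MvPolynomial V R →ₐ[R] MvPolynomial (Fin (Fintype.card V)) R).toRingHom h1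
    rw [Ideal.map_sup, Ideal.map_pow, hmap_span, hmap_span'] at h2
    have h3 : (rename eV : MvPolynomial V R →ₐ[R] MvPolynomial (Fin (Fintype.card V)) R).toRingHom
        (rename eV.symm a₁ * f (eκ.symm ℓ)) = a₁ * f₂ ℓ := by
      rw [map_mul]
      congr 1
      exact hρτ a₁
    rw [h3] at h2
    exact h2

end Groth.Agent.Helper2.Deloc
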