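import Mathlib
import Groth.Prelude

set_option autoImplicit false

namespace Groth.Agent.Helper2.Deloc

open Function MvPolynomial Algebra TensorProduct

universe u

attribute [local instance] MvPolynomial.algebraMvPolynomial

section Clear

variable {R : Type u} [CommRing R] (S : Submonoid R) {K : Type u} [CommRing K] [Algebra R K]
  [IsLocalization S K]

/-- clearing denominators of a polynomial over a localization -/
theorem exists_clear {ι : Type} (q : MvPolynomial ι K) :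
    ∃ (Q : MvPolynomial ι R) (v : R), v ∈ S ∧
      MvPolynomial.map (algebraMap R K) Q = C (algebraMap R K v) * q := by
  obtain ⟨⟨Q, ⟨m, hm⟩⟩, h⟩ := IsLocalization.surj (S.map (C : R →+* MvPolynomial ι R)) q
  obtain ⟨v, hv, rfl⟩ := hm
  refine ⟨Q, v, hv, ?_⟩
  have h' : q * MvPolynomial.map (algebraMap R K) (C v) = MvPolynomial.map (algebraMap R K) Q := h
  rw [map_C] at h'
  rw [← h', mul_comm]

variable {Λ : Type u} [AddCommGroup Λ] [Module R Λ]

theorem exists_smul_eq_zero (x : Λ) (h : (1 : K) ⊗ₜ[R] x = 0) : ∃ s ∈ S, s • x = 0 := by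
  haveI : IsLocalizedModule S (TensorProduct.mk R K Λ 1) :=
    IsLocalization.tensorProduct_isLocalizedModule S K
  have h1 : (TensorProduct.mk R K Λ 1) x = 0 := h
  rw [IsLocalizedModule.eq_zero_iff S] at h1
  obtain ⟨s, hs⟩ := h1
  exact ⟨s, s.2, hs⟩

theorem exists_scaled_image (y : K ⊗[R] Λ) :
    ∃ w ∈ S, ∃ l : Λ, w • y = (1 : K) ⊗ₜ[R] l := by
  haveI : IsLocalizedModule S (TensorProduct.mk R K Λ 1) :=
    IsLocalization.tensorProduct_isLocalizedModule S K
  obtain ⟨⟨l, w⟩, h⟩ := IsLocalizedModule.surj S (TensorProduct.mk R K Λ 1) y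
  exact ⟨w, w.2, l, h⟩

end Clear

section Loc

variable {R : Type u} [CommRing R] (S : Submonoid R) {B : Type u} [CommRing B] [Algebra R B]
  {L : Type u} [CommRing L] [Algebra B L] [IsLocalization (Algebra.algebraMapSubmonoid B S) L]

theorem exists_mul_of_isUnit_loc (x : B) (hx : IsUnit (algebraMap B L x)) :
    ∃ (b : B), ∃ s ∈ S, b * x = algebraMap R B s := by
  obtain ⟨y, hy⟩ := hx.exists_right_inv
  obtain ⟨⟨b, ⟨m, hm⟩⟩, hb⟩ := IsLocalization.surj (Algebra.algebraMapSubmonoid B S) y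
  obtain ⟨s₁, hs₁, rfl⟩ := hm
  -- y * alg m = alg b ; x * y = 1 → alg (x * b) = alg m
  have h1 : algebraMap B L (x * b) = algebraMap B L (algebraMap R B s₁) := by
    rw [map_mul, ← hb, ← mul_assoc, hy, one_mul]
  rw [IsLocalization.eq_iff_exists (Algebra.algebraMapSubmonoid B S)] at h1
  obtain ⟨⟨c, ⟨s₂, hs₂, rfl⟩⟩, hc⟩ := h1
  refine ⟨algebraMap R B s₂ * b, s₂ * s₁, S.mul_mem hs₂ hs₁, ?_⟩
  have hc' : algebraMap R B s₂ * (x * b) = algebraMap R B s₂ * algebraMap R B s₁ := hc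
  rw [map_mul, ← hc']
  ring

theorem exists_smul_of_map_eq_zero (x : B) (hx : algebraMap B L x = 0) :
    ∃ s ∈ S, algebraMap R B s * x = 0 := by
  rw [IsLocalization.map_eq_zero_iff (Algebra.algebraMapSubmonoid B S)] at hx
  obtain ⟨⟨c, ⟨s, hs, rfl⟩⟩, hc⟩ := hx
  exact ⟨s, hs, hc⟩

end Loc

end Groth.Agent.Helper2.Deloc
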