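import Mathlib
import Groth.Prelude

set_option autoImplicit false

namespace Groth.Agent.Helper2.Deloc

open Function MvPolynomial Algebra

universe u

variable {R : Type u} [CommRing R] {ι σ : Type} [Fintype σ] [DecidableEq σ] [DecidableEq ι]
  {nA : ℕ}

/-- the leading relations of the delocalized presentation -/
noncomputable def lead (F : σ → MvPolynomial ι R) (Pk : Fin nA → MvPolynomial ι R)
    (s' : σ → R) (s'' t : Fin nA → R) : σ ⊕ Fin nA → MvPolynomial (Fin nA ⊕ ι) R :=
  Sum.elim (fun j => C (s' j) * rename Sum.inr (F j))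
    (fun k => C (s'' k) * (C (t k) * X (Sum.inl k) - rename Sum.inr (Pk k)))

/-- the chosen variables -/
def colsV (cols0 : σ ↪ ι) : σ ⊕ Fin nA ↪ Fin nA ⊕ ι where
  toFun := Sum.elim (fun j => Sum.inr (cols0 j)) (fun k => Sum.inl k)
  inj' := by
    rintro (a | a) (b | b) h
    · simp only [Sum.elim_inl, Sum.inr.injEq] at h
      rw [cols0.injective h]
    · simp at h
    · simp at h
    · simp only [Sum.elim_inr, Sum.inl.injEq] at h
      rw [h]

theorem pderiv_inl_rename_inr (k : Fin nA) (q : MvPolynomial ι R) :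
    pderiv (Sum.inl k : Fin nA ⊕ ι) (rename Sum.inr q) = 0 := by
  classical
  apply pderiv_eq_zero_of_notMem_vars
  intro h
  have := vars_rename (Sum.inr : ι → Fin nA ⊕ ι) q h
  simp at this

theorem jac_block (cols0 : σ ↪ ι) (F : σ → MvPolynomial ι R) (Pk : Fin nA → MvPolynomial ι R)
    (s' : σ → R) (s'' t : Fin nA → R) :
    Matrix.det (Matrix.of fun a b : σ ⊕ Fin nA =>
        pderiv (colsV (nA := nA) cols0 b) (lead F Pk s' s'' t a)) =
      (∏ j, C (s' j)) *
        rename Sum.inr (Matrix.det (Matrix.of fun j j' : σ => pderiv (cols0 j') (F j))) *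
          ∏ k, C (s'' k * t k) := by
  classical
  have hM : (Matrix.of fun a b : σ ⊕ Fin nA =>
        pderiv (colsV (nA := nA) cols0 b) (lead F Pk s' s'' t a)) =
      Matrix.fromBlocks
        (Matrix.of fun j j' : σ => C (s' j) *
          (rename Sum.inr : MvPolynomial ι R →ₐ[R] MvPolynomial (Fin nA ⊕ ι) R).mapMatrix
            (Matrix.of fun j j' : σ => pderiv (cols0 j') (F j)) j j')
        0
        (Matrix.of fun (k : Fin nA) (j' : σ) =>
          pderiv (Sum.inr (cols0 j') : Fin nA ⊕ ι) (lead F Pk s' s'' t (Sum.inr k)))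
        (Matrix.diagonal fun k : Fin nA => (C (s'' k * t k) : MvPolynomial (Fin nA ⊕ ι) R)) := by
    ext a b
    rcases a with j | k <;> rcases b with j' | k'
    · simp only [Matrix.of_apply, Matrix.fromBlocks_apply₁₁, colsV, lead, Embedding.coeFn_mk,
        Sum.elim_inl, AlgHom.mapMatrix_apply, Matrix.map_apply]
      rw [pderiv_C_mul, pderiv_rename Sum.inr_injective]
    · simp only [Matrix.of_apply, Matrix.fromBlocks_apply₁₂, colsV, lead, Embedding.coeFn_mk,
        Sum.elim_inl, Sum.elim_inr, Matrix.zero_apply]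
      rw [pderiv_C_mul, pderiv_inl_rename_inr, mul_zero]
    · simp only [Matrix.of_apply, Matrix.fromBlocks_apply₂₁, colsV, Embedding.coeFn_mk,
        Sum.elim_inl]
    · simp only [Matrix.of_apply, Matrix.fromBlocks_apply₂₂, colsV, lead, Embedding.coeFn_mk,
        Sum.elim_inr]
      rw [pderiv_C_mul, map_sub, pderiv_inl_rename_inr, sub_zero, pderiv_C_mul, pderiv_X]
      by_cases hkk : k = k'
      · subst hkk
        rw [Matrix.diagonal_apply_eq, Pi.single_eq_same, mul_one, C_mul]
      · rw [Matrix.diagonal_apply_ne _ hkk]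
        have : (Sum.inl k : Fin nA ⊕ ι) ≠ Sum.inl k' := fun h => hkk (Sum.inl_injective h)
        rw [Pi.single_eq_of_ne this, mul_zero, mul_zero]
  rw [hM, Matrix.det_fromBlocks_zero₁₂, Matrix.det_mul_column, Matrix.det_diagonal,
    ← AlgHom.map_det]

end Groth.Agent.Helper2.Deloc
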