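import Mathlib
import Groth.Prelude
import Groth.Agent.Helper2.DelocC
import Groth.Agent.Helper2.DelocD

set_option autoImplicit false

namespace Groth.Agent.Helper2.Deloc

open Function MvPolynomial Algebra TensorProduct

universe u

set_option maxHeartbeats 1600000 in
theorem loc_core
    {R : Type u} [CommRing R] (S : Submonoid R) {K : Type u} [CommRing K] [Algebra R K]
    [IsLocalization S K]
    {B'' : Type u} [CommRing B''] [Algebra K B'']
    {A : Type u} [CommRing A] [Algebra R A]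
    {ι σ : Type} [Fintype σ] [DecidableEq ι] [DecidableEq σ] {nA : ℕ}
    (z : ι → B'') (f' : σ → MvPolynomial ι K) (cols0 : σ ↪ ι)
    (hker : RingHom.ker (aeval z : MvPolynomial ι K →ₐ[K] B'').toRingHom =
      Ideal.span (Set.range f'))
    (hsurj : Surjective (aeval z : MvPolynomial ι K →ₐ[K] B''))
    (hjac : IsUnit (aeval z (Matrix.det (Matrix.of fun j k : σ => pderiv (cols0 k) (f' j)))))
    (πA : MvPolynomial (Fin nA) R →ₐ[R] A)
    (g'' : K ⊗[R] A →ₐ[K] B'')
    (F : σ → MvPolynomial ι R) (v : σ → R) (hv : ∀ j, v j ∈ S)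
    (hF : ∀ j, MvPolynomial.map (algebraMap R K) (F j) = C (algebraMap R K (v j)) * f' j)
    (p : Fin nA → MvPolynomial ι K) (hp : ∀ k, aeval z (p k) = g'' ((1 : K) ⊗ₜ[R] πA (X k)))
    (Pk : Fin nA → MvPolynomial ι R) (t : Fin nA → R) (ht : ∀ k, t k ∈ S)
    (hPk : ∀ k, MvPolynomial.map (algebraMap R K) (Pk k) = C (algebraMap R K (t k)) * p k)
    (s' : σ → R) (hs' : ∀ j, s' j ∈ S) (s'' : Fin nA → R) (hs'' : ∀ k, s'' k ∈ S) :
    (∃ b : MvPolynomial (Fin nA ⊕ ι) R, ∃ s₀ ∈ S,
      b * Matrix.det (Matrix.of fun a b : σ ⊕ Fin nA =>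
        pderiv (colsV (nA := nA) cols0 b) (lead F Pk s' s'' t a)) - C s₀ ∈
        Ideal.span (Set.range (lead F Pk s' s'' t))) ∧
    (∀ q : MvPolynomial (Fin nA) R, πA q = 0 → ∃ s ∈ S,
      C s * rename Sum.inl q ∈ Ideal.span (Set.range (lead F Pk s' s'' t))) := by
  classical
  set ld := lead F Pk s' s'' t with hld
  set I₀ : Ideal (MvPolynomial (Fin nA ⊕ ι) R) := Ideal.span (Set.range ld) with hI₀
  let B₀ := MvPolynomial (Fin nA ⊕ ι) R ⧸ I₀
  let L := Localization (Algebra.algebraMapSubmonoid B₀ S)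
  have hunit : ∀ y : S, IsUnit (algebraMap R L y) := by
    intro y
    rw [IsScalarTower.algebraMap_apply R B₀ L]
    exact IsLocalization.map_units L
      (⟨algebraMap R B₀ y, ⟨y, y.2, rfl⟩⟩ : Algebra.algebraMapSubmonoid B₀ S)
  let ρ : K →+* L := IsLocalization.lift (M := S) (S := K) (P := L) (g := algebraMap R L) hunit
  have hρ : ∀ r : R, ρ (algebraMap R K r) = algebraMap R L r := fun r => IsLocalization.lift_eq _ _
  let mk₀ : MvPolynomial (Fin nA ⊕ ι) R →+* L := (algebraMap B₀ L).comp (Ideal.Quotient.mk I₀)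
  have hmkC : ∀ r : R, mk₀ (C r) = algebraMap R L r := by
    intro r
    rw [IsScalarTower.algebraMap_apply R B₀ L]
    rfl
  have hmkCunit : ∀ r ∈ S, IsUnit (mk₀ (C r)) := by
    intro r hr
    rw [hmkC]
    exact hunit ⟨r, hr⟩
  have hmk_lead : ∀ a, mk₀ (ld a) = 0 := by
    intro a
    show algebraMap B₀ L (Ideal.Quotient.mk I₀ (ld a)) = 0
    have hmem : ld a ∈ I₀ := Ideal.subset_span (Set.mem_range_self a)
    rw [Ideal.Quotient.eq_zero_iff_mem.mpr hmem, map_zero]
  let Zbar : ι → L := fun i => mk₀ (X (Sum.inr i))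
  let Φ : MvPolynomial ι K →+* L := eval₂Hom ρ Zbar
  have hΦC : ∀ c : K, Φ (C c) = ρ c := fun c => eval₂_C _ _ _
  have E2 : ∀ Q : MvPolynomial ι R, Φ (MvPolynomial.map (algebraMap R K) Q) =
      mk₀ (rename Sum.inr Q) := by
    intro Q
    have : Φ.comp (MvPolynomial.map (algebraMap R K)) =
        mk₀.comp (rename Sum.inr : MvPolynomial ι R →ₐ[R] MvPolynomial (Fin nA ⊕ ι) R).toRingHom := by
      apply MvPolynomial.ringHom_ext
      · intro r
        show Φ (MvPolynomial.map (algebraMap R K) (C r)) = mk₀ (rename Sum.inr (C r))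
        rw [map_C, hΦC, hρ, rename_C, hmkC]
      · intro i
        show Φ (MvPolynomial.map (algebraMap R K) (X i)) = mk₀ (rename Sum.inr (X i))
        rw [map_X, rename_X]
        exact eval₂_X _ _ _
    exact congrArg (fun k : MvPolynomial ι R →+* L => k Q) this
  have hΦf : ∀ j, Φ (f' j) = 0 := by
    intro j
    have h1 : Φ (MvPolynomial.map (algebraMap R K) (F j)) =
        ρ (algebraMap R K (v j)) * Φ (f' j) := by
      rw [hF, map_mul, hΦC]
    have h2 : mk₀ (C (s' j)) * mk₀ (rename Sum.inr (F j)) = 0 := by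
      rw [← map_mul]
      exact hmk_lead (Sum.inl j)
    have h3 : mk₀ (rename Sum.inr (F j)) = 0 := (hmkCunit _ (hs' j)).mul_right_eq_zero.mp h2
    rw [E2, h3, hρ] at h1
    exact (hunit (⟨v j, hv j⟩ : S)).mul_right_eq_zero.mp h1.symm
  have hle : RingHom.ker (aeval z : MvPolynomial ι K →ₐ[K] B'').toRingHom ≤ RingHom.ker Φ := by
    rw [hker, Ideal.span_le]
    rintro _ ⟨j, rfl⟩
    exact hΦf j
  let ω : B'' →+* L :=
    (aeval z : MvPolynomial ι K →ₐ[K] B'').toRingHom.liftOfSurjective hsurj ⟨Φ, hle⟩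
  have hω : ∀ q : MvPolynomial ι K, ω (aeval z q) = Φ q := fun q =>
    RingHom.liftOfSurjective_comp_apply _ hsurj ⟨Φ, hle⟩ q
  -- E3
  have E3 : ∀ k : Fin nA, mk₀ (X (Sum.inl k)) = ω (g'' ((1 : K) ⊗ₜ[R] πA (X k))) := by
    intro k
    have h1 : mk₀ (C (s'' k)) *
        (mk₀ (C (t k)) * mk₀ (X (Sum.inl k)) - mk₀ (rename Sum.inr (Pk k))) = 0 := by
      rw [← map_mul, ← map_sub, ← map_mul]
      exact hmk_lead (Sum.inr k)
    have h2 := (hmkCunit _ (hs'' k)).mul_right_eq_zero.mp h1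
    rw [sub_eq_zero, ← E2, hPk, map_mul, hΦC, hρ, ← hω, hp, hmkC] at h2
    exact (hunit (⟨t k, ht k⟩ : S)).mul_left_cancel h2
  have E4 : ∀ q : MvPolynomial (Fin nA) R,
      mk₀ (rename Sum.inl q) = ω (g'' ((1 : K) ⊗ₜ[R] πA q)) := by
    intro q
    let Ψ : MvPolynomial (Fin nA) R →+* L :=
      (ω.comp g''.toRingHom).comp
        ((Algebra.TensorProduct.includeRight : A →ₐ[R] K ⊗[R] A).toRingHom.comp πA.toRingHom)
    have : mk₀.comp (rename Sum.inl :
        MvPolynomial (Fin nA) R →ₐ[R] MvPolynomial (Fin nA ⊕ ι) R).toRingHom = Ψ := by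
      apply MvPolynomial.ringHom_ext
      · intro r
        show mk₀ (rename Sum.inl (C r)) = ω (g'' ((1 : K) ⊗ₜ[R] πA (C r)))
        rw [rename_C, hmkC, ← MvPolynomial.algebraMap_eq, AlgHom.commutes]
        have h1 : (1 : K) ⊗ₜ[R] (algebraMap R A r) =
            algebraMap K (K ⊗[R] A) (algebraMap R K r) := by
          rw [Algebra.TensorProduct.algebraMap_apply, Algebra.algebraMap_eq_smul_one r,
            Algebra.algebraMap_eq_smul_one (A := K) r, Algebra.algebraMap_self, RingHom.id_apply,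
            TensorProduct.smul_tmul]
        rw [h1, AlgHom.commutes]
        have h2 : algebraMap K B'' (algebraMap R K r) = aeval z (C (algebraMap R K r)) := by
          rw [aeval_C]
        rw [h2, hω, hΦC, hρ]
      · intro k
        show mk₀ (rename Sum.inl (X k)) = ω (g'' ((1 : K) ⊗ₜ[R] πA (X k)))
        rw [rename_X, E3]
    exact congrArg (fun k : MvPolynomial (Fin nA) R →+* L => k q) this
  constructor
  · -- the Jacobian is a unit in L
    have hD : IsUnit (mk₀ (Matrix.det (Matrix.of fun a b : σ ⊕ Fin nA =>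
        pderiv (colsV (nA := nA) cols0 b) (ld a)))) := by
      rw [jac_block, map_mul, map_mul, map_prod, map_prod]
      refine IsUnit.mul (IsUnit.mul ?_ ?_) ?_
      · rw [IsUnit.prod_univ_iff]
        exact fun j => hmkCunit _ (hs' j)
      · rw [← E2, RingHom.map_det]
        have hmat : (MvPolynomial.map (algebraMap R K)).mapMatrix
            (Matrix.of fun j j' : σ => pderiv (cols0 j') (F j)) =
            Matrix.of fun j j' : σ => C (algebraMap R K (v j)) *
              (Matrix.of fun j k : σ => pderiv (cols0 k) (f' j)) j j' := by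
          ext j j'
          simp only [RingHom.mapMatrix_apply, Matrix.map_apply, Matrix.of_apply]
          rw [← pderiv_map, hF, pderiv_C_mul]
        rw [hmat, Matrix.det_mul_column, map_mul, map_prod, ← hω]
        refine IsUnit.mul ?_ (hjac.map ω)
        rw [IsUnit.prod_univ_iff]
        intro j
        rw [hΦC, hρ]
        exact hunit (⟨v j, hv j⟩ : S)
      · rw [IsUnit.prod_univ_iff]
        intro k
        exact hmkCunit _ (S.mul_mem (hs'' k) (ht k))
    have hD' : IsUnit (algebraMap B₀ L (Ideal.Quotient.mk I₀ (Matrix.det (Matrix.of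
        fun a b : σ ⊕ Fin nA => pderiv (colsV (nA := nA) cols0 b) (ld a))))) := hD
    obtain ⟨b₀, s₀, hs₀, hb₀⟩ := exists_mul_of_isUnit_loc S (L := L) _ hD'
    obtain ⟨b, rfl⟩ := Ideal.Quotient.mk_surjective b₀
    refine ⟨b, s₀, hs₀, ?_⟩
    rw [← Ideal.Quotient.eq_zero_iff_mem, map_sub, map_mul, hb₀, sub_eq_zero]
    rfl
  · intro q hq
    have h1 : mk₀ (rename Sum.inl q) = 0 := by
      rw [E4, hq, TensorProduct.tmul_zero, map_zero, map_zero]
    have h2 : algebraMap B₀ L (Ideal.Quotient.mk I₀ (rename Sum.inl q)) = 0 := h1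
    obtain ⟨s, hs, hs0⟩ := exists_smul_of_map_eq_zero S (L := L) _ h2
    refine ⟨s, hs, ?_⟩
    rw [← Ideal.Quotient.eq_zero_iff_mem, map_mul]
    exact hs0

end Groth.Agent.Helper2.Deloc
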