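import Mathlib
import Groth.Prelude
import Groth.Agent.Helper2.DelocA
import Groth.Agent.Helper2.DelocE

set_option autoImplicit false

namespace Groth.Agent.Helper2.Deloc

open Function MvPolynomial Algebra TensorProduct

universe u

theorem one_tmul_algebraMap {R : Type u} [CommRing R] (K Λ : Type u) [CommRing K] [Algebra R K]
    [CommRing Λ] [Algebra R Λ] (r : R) :
    (1 : K) ⊗ₜ[R] (algebraMap R Λ r) = algebraMap K (K ⊗[R] Λ) (algebraMap R K r) := by
  rw [Algebra.TensorProduct.algebraMap_apply, Algebra.algebraMap_eq_smul_one r,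
    Algebra.algebraMap_eq_smul_one (A := K) r, Algebra.algebraMap_self, RingHom.id_apply,
    TensorProduct.smul_tmul]

set_option maxHeartbeats 1600000 in
theorem core
    {R : Type u} [CommRing R] (S : Submonoid R) {K : Type u} [CommRing K] [Algebra R K]
    [IsLocalization S K]
    {B'' : Type u} [CommRing B''] [Algebra K B'']
    {A Λ : Type u} [CommRing A] [Algebra R A] [CommRing Λ] [Algebra R Λ] (φ : A →ₐ[R] Λ)
    {ι σ : Type} [Fintype ι] [Fintype σ] [DecidableEq ι] [DecidableEq σ] {nA mA : ℕ}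
    (z : ι → B'') (f' : σ → MvPolynomial ι K) (cols0 : σ ↪ ι)
    (hker : RingHom.ker (aeval z : MvPolynomial ι K →ₐ[K] B'').toRingHom =
      Ideal.span (Set.range f'))
    (hsurj : Surjective (aeval z : MvPolynomial ι K →ₐ[K] B''))
    (hjac : IsUnit (aeval z (Matrix.det (Matrix.of fun j k : σ => pderiv (cols0 k) (f' j)))))
    (πA : MvPolynomial (Fin nA) R →ₐ[R] A) (hπA : Surjective πA)
    (G : Fin mA → MvPolynomial (Fin nA) R)
    (hG : RingHom.ker πA.toRingHom = Ideal.span (Set.range G))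
    (g'' : K ⊗[R] A →ₐ[K] B'') (h'' : B'' →ₐ[K] K ⊗[R] Λ)
    (hgh : h''.comp g'' = Algebra.TensorProduct.map (AlgHom.id K K) φ)
    (lam : ι → Λ) (hlam : ∀ i, h'' (z i) = (1 : K) ⊗ₜ[R] lam i) :
    ∃ (B : Type u) (_ : CommRing B) (_ : Algebra R B) (α : A →ₐ[R] B) (β : B →ₐ[R] Λ),
      β.comp α = φ ∧ ∃ s ∈ S, Smoothing.IsElementaryStandard R B (algebraMap R B s) := by
  classical
  choose F v hv hF using fun j => exists_clear S (K := K) (f' j)
  choose p hp using fun k : Fin nA => hsurj (g'' ((1 : K) ⊗ₜ[R] πA (X k)))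
  choose Pk t ht hPk using fun k => exists_clear S (K := K) (p k)
  -- E1
  have E1 : ∀ Q : MvPolynomial ι R, (1 : K) ⊗ₜ[R] (aeval lam Q) =
      h'' (aeval z (MvPolynomial.map (algebraMap R K) Q)) := by
    intro Q
    have : (Algebra.TensorProduct.includeRight : Λ →ₐ[R] K ⊗[R] Λ).toRingHom.comp
        (aeval lam : MvPolynomial ι R →ₐ[R] Λ).toRingHom =
        h''.toRingHom.comp ((aeval z : MvPolynomial ι K →ₐ[K] B'').toRingHom.comp
          (MvPolynomial.map (algebraMap R K))) := by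
      apply MvPolynomial.ringHom_ext
      · intro r
        show (1 : K) ⊗ₜ[R] (aeval lam (C r)) =
          h'' (aeval z (MvPolynomial.map (algebraMap R K) (C r)))
        rw [map_C, aeval_C, aeval_C, AlgHom.commutes, one_tmul_algebraMap]
      · intro i
        show (1 : K) ⊗ₜ[R] (aeval lam (X i)) =
          h'' (aeval z (MvPolynomial.map (algebraMap R K) (X i)))
        rw [map_X, aeval_X, aeval_X, hlam]
    exact congrArg (fun k : MvPolynomial ι R →+* K ⊗[R] Λ => k Q) this
  have hzf : ∀ j, aeval z (f' j) = 0 := by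
    intro j
    have : f' j ∈ RingHom.ker (aeval z : MvPolynomial ι K →ₐ[K] B'').toRingHom := by
      rw [hker]
      exact Ideal.subset_span (Set.mem_range_self j)
    exact this
  have h5 : ∀ j, ∃ s ∈ S, s • aeval lam (F j) = 0 := by
    intro j
    apply exists_smul_eq_zero S (K := K)
    rw [E1, hF, map_mul, hzf, mul_zero, map_zero]
  choose s' hs' hs'0 using h5
  let μ : Fin nA → Λ := fun k => φ (πA (X k))
  have h6 : ∀ k, ∃ s ∈ S, s • (t k • μ k - aeval lam (Pk k)) = 0 := by
    intro k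
    apply exists_smul_eq_zero S (K := K)
    rw [TensorProduct.tmul_sub, E1, hPk, map_mul, aeval_C, hp, ← Algebra.smul_def, map_smul]
    have h1 : h'' (g'' ((1 : K) ⊗ₜ[R] πA (X k))) = (1 : K) ⊗ₜ[R] μ k := by
      have := congrArg (fun f : K ⊗[R] A →ₐ[K] K ⊗[R] Λ => f ((1 : K) ⊗ₜ[R] πA (X k))) hgh
      simpa using this
    rw [h1, TensorProduct.tmul_smul, algebraMap_smul, sub_self]
  choose s'' hs'' hs''0 using h6
  obtain ⟨⟨b, s₀, hs₀, hb⟩, htail⟩ := loc_core S z f' cols0 hker hsurj hjac πA g'' F v hv hF p hp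
    Pk t ht hPk s' hs' s'' hs''
  have hπG : ∀ t' : Fin mA, πA (G t') = 0 := by
    intro t'
    have : G t' ∈ RingHom.ker πA.toRingHom := by
      rw [hG]
      exact Ideal.subset_span (Set.mem_range_self t')
    exact this
  choose st hst hst' using fun t' : Fin mA => htail (G t') (hπG t')
  -- the algebra
  set ld := lead F Pk s' s'' t with hld
  let tail : Fin mA → MvPolynomial (Fin nA ⊕ ι) R := fun t' => rename Sum.inl (G t')
  let rel : (σ ⊕ Fin nA) ⊕ Fin mA → MvPolynomial (Fin nA ⊕ ι) R := Sum.elim ld tail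
  set I₀ : Ideal (MvPolynomial (Fin nA ⊕ ι) R) := Ideal.span (Set.range ld) with hI₀
  let I : Ideal (MvPolynomial (Fin nA ⊕ ι) R) := Ideal.span (Set.range rel)
  have hI₀I : I₀ ≤ I := by
    apply Ideal.span_mono
    rintro _ ⟨a, rfl⟩
    exact ⟨Sum.inl a, rfl⟩
  have hrelI : ∀ ℓ, rel ℓ ∈ I := fun ℓ => Ideal.subset_span (Set.mem_range_self ℓ)
  -- β
  let ev : MvPolynomial (Fin nA ⊕ ι) R →ₐ[R] Λ := aeval (Sum.elim μ lam)
  have hevμ : ∀ q : MvPolynomial (Fin nA) R, ev (rename Sum.inl q) = φ (πA q) := by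
    intro q
    have : (ev.comp (rename Sum.inl : MvPolynomial (Fin nA) R →ₐ[R] _)) = φ.comp πA := by
      apply MvPolynomial.algHom_ext
      intro k
      simp [ev, μ]
    exact congrArg (fun f : MvPolynomial (Fin nA) R →ₐ[R] Λ => f q) this
  have hevlam : ∀ Q : MvPolynomial ι R, ev (rename Sum.inr Q) = aeval lam Q := by
    intro Q
    show aeval (Sum.elim μ lam) (rename Sum.inr Q) = aeval lam Q
    rw [aeval_rename, Sum.elim_comp_inr]
  have hevI : ∀ x ∈ I, ev x = 0 := by
    intro x hx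
    have hle : I ≤ RingHom.ker ev.toRingHom := by
      rw [Ideal.span_le]
      rintro _ ⟨ℓ, rfl⟩
      show ev (rel ℓ) = 0
      rcases ℓ with (j | k) | t'
      · show ev (C (s' j) * rename Sum.inr (F j)) = 0
        rw [map_mul, hevlam, ← MvPolynomial.algebraMap_eq, AlgHom.commutes, ← Algebra.smul_def]
        exact hs'0 j
      · show ev (C (s'' k) * (C (t k) * X (Sum.inl k) - rename Sum.inr (Pk k))) = 0
        rw [map_mul, map_sub, map_mul, hevlam, ← MvPolynomial.algebraMap_eq, AlgHom.commutes,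
          AlgHom.commutes, ← Algebra.smul_def, ← Algebra.smul_def]
        have : ev (X (Sum.inl k)) = μ k := by simp [ev]
        rw [this]
        exact hs''0 k
      · show ev (rename Sum.inl (G t')) = 0
        rw [hevμ, hπG, map_zero]
    exact hle hx
  let β : (MvPolynomial (Fin nA ⊕ ι) R ⧸ I) →ₐ[R] Λ := Ideal.Quotient.liftₐ I ev hevI
  -- α
  let α₀ : MvPolynomial (Fin nA) R →ₐ[R] (MvPolynomial (Fin nA ⊕ ι) R ⧸ I) :=
    (Ideal.Quotient.mkₐ R I).comp (rename Sum.inl)
  have hα₀ : RingHom.ker πA.toRingHom ≤ RingHom.ker α₀.toRingHom := by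
    rw [hG, Ideal.span_le]
    rintro _ ⟨t', rfl⟩
    show Ideal.Quotient.mk I (rename Sum.inl (G t')) = 0
    rw [Ideal.Quotient.eq_zero_iff_mem]
    exact hrelI (Sum.inr t')
  let α : A →ₐ[R] (MvPolynomial (Fin nA ⊕ ι) R ⧸ I) := AlgHom.liftOfSurjective πA hπA α₀ hα₀
  refine ⟨MvPolynomial (Fin nA ⊕ ι) R ⧸ I, inferInstance, inferInstance, α, β, ?_, ?_⟩
  · apply AlgHom.ext
    intro a
    obtain ⟨q, rfl⟩ := hπA a
    show β (α (πA q)) = φ (πA q)
    rw [AlgHom.liftOfSurjective_apply]
    show ev (rename Sum.inl q) = _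
    exact hevμ q
  · set P : R := ∏ t' : Fin mA, st t' with hP
    have hPS : P ∈ S := Submonoid.prod_mem S (fun t' _ => hst t')
    refine ⟨s₀ * P, S.mul_mem hs₀ hPS, ?_⟩
    let D : MvPolynomial (Fin nA ⊕ ι) R := Matrix.det (Matrix.of fun a b : σ ⊕ Fin nA =>
        pderiv (colsV (nA := nA) cols0 b) (ld a))
    have hbD : Ideal.Quotient.mk I (b * D) = Ideal.Quotient.mk I (C s₀) := by
      rw [← sub_eq_zero, ← map_sub, Ideal.Quotient.eq_zero_iff_mem]
      exact hI₀I hb
    refine exists_elementaryStandard_of_data_gen (V := Fin nA ⊕ ι) (κ := (σ ⊕ Fin nA) ⊕ Fin mA)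
      (γ := σ ⊕ Fin nA) rel (Ideal.Quotient.mkₐ R I) (Ideal.Quotient.mkₐ_surjective R I) ?_
      ⟨Sum.inl, Sum.inl_injective⟩ (colsV (nA := nA) cols0) _
      (Ideal.Quotient.mk I (b * C P)) ?_ ?_
    · ext x
      rw [RingHom.mem_ker]
      show Ideal.Quotient.mk I x = 0 ↔ _
      rw [Ideal.Quotient.eq_zero_iff_mem]
    · show Ideal.Quotient.mk I (C (s₀ * P)) = Ideal.Quotient.mk I (b * C P) * Ideal.Quotient.mk I D
      rw [← map_mul, show b * C P * D = C P * (b * D) by ring, map_mul (Ideal.Quotient.mk I) (C P),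
        hbD, ← map_mul, C_mul]
      congr 1
      ring
    · intro a₁ ha₁ ℓ
      have ha₁' : a₁ - C (s₀ * P) ∈ I := by
        rw [← Ideal.Quotient.eq_zero_iff_mem, map_sub, sub_eq_zero]
        exact ha₁
      have hrange : Set.range (rel ∘ (⟨Sum.inl, Sum.inl_injective⟩ :
          σ ⊕ Fin nA ↪ (σ ⊕ Fin nA) ⊕ Fin mA)) = Set.range ld := by
        ext x
        constructor
        · rintro ⟨a, rfl⟩
          exact ⟨a, rfl⟩
        · rintro ⟨a, rfl⟩
          exact ⟨a, rfl⟩
      rw [hrange]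
      rcases ℓ with a | t'
      · apply Ideal.mem_sup_left
        apply Ideal.mul_mem_left
        exact Ideal.subset_span (Set.mem_range_self a)
      · have hrt : rel (Sum.inr t') = tail t' := rfl
        have hsplit : a₁ * rel (Sum.inr t') =
            C (s₀ * P) * tail t' + (a₁ - C (s₀ * P)) * tail t' := by
          rw [hrt, ← add_mul, add_sub_cancel]
        rw [hsplit]
        apply Ideal.add_mem
        · apply Ideal.mem_sup_left
          obtain ⟨c, hc⟩ : st t' ∣ P := Finset.dvd_prod_of_mem _ (Finset.mem_univ t')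
          have : C (s₀ * P) * tail t' = C (s₀ * c) * (C (st t') * rename Sum.inl (G t')) := by
            show C (s₀ * P) * rename Sum.inl (G t') = _
            rw [hc, ← mul_assoc (C (s₀ * c)), ← C_mul]
            congr 2
            ring
          rw [this]
          exact Ideal.mul_mem_left _ _ (hst' t')
        · apply Ideal.mem_sup_right
          rw [pow_two]
          exact Ideal.mul_mem_mul ha₁' (hrelI (Sum.inr t'))

end Groth.Agent.Helper2.Deloc
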