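import Mathlib
import Groth.Prelude
import Groth.Agent.Helper2.SmLiftG
set_option autoImplicit false

universe u

noncomputable section

namespace Groth.Agent.Helper2.SmLift

open MvPolynomial KaehlerDifferential

/-- **Elkik's trick**, relative form: a smooth `R`-algebra `S` has a smooth `S`-algebra `S''` with
an `S`-algebra retraction `S'' → S` such that `S''` is standard smooth over `R`. -/
theorem exists_smooth_retract_isStandardSmooth (R S : Type u) [CommRing R] [CommRing S]
    [Algebra R S] [Algebra.Smooth R S] :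
    ∃ (S'' : Type u) (_ : CommRing S'') (_ : Algebra R S'') (_ : Algebra S S'')
      (_ : IsScalarTower R S S''),
      Algebra.Smooth S S'' ∧ Nonempty (S'' →ₐ[S] S) ∧ Algebra.IsStandardSmooth R S'' := by
  classical
  obtain ⟨n, s, j, hs, hj⟩ := exists_splitting R S
  have hp := pp_idem s j hj
  set p := pp s j with hpdef
  obtain ⟨δ, hδ1, hδ2⟩ := exists_deriv p hp (dd j)
  let ε : Ω[Sp p⁄R] →ₗ[Sp p] (Fin n → Sp p) := δ.liftKaehlerDifferential
  have hε : ∀ y, ε (D R (Sp p) y) = δ y := fun y => Derivation.liftKaehlerDifferential_comp_D δ y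
  obtain ⟨ρ, hρ1, hρ2⟩ := exists_retraction (R := S) p
  -- the matrix of `ε ∘ β`
  set T : Matrix (Fin n) (Fin n) (Sp p) := Matrix.of fun l k => ε (bb s j k) l with hT
  have hTlk : ∀ l k, T l k = (1 : Matrix (Fin n) (Fin n) (Sp p)) l k - WW p (dd j) l k := by
    intro l k
    rw [hT, Matrix.of_apply, bb, hε, ww, map_add, hδ1, hδ2, Pi.add_apply, d₁_apply, vv,
      dd_apply, ← pp_apply s j l k]
    ring
  have hρWW : ∀ l k, ρ (WW p (dd j) l k) = 0 := by
    intro l k
    rw [WW, map_sum]
    refine Finset.sum_eq_zero (fun m _ => ?_)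
    rw [map_mul, hρ2, zero_mul]
  have hρT : ρ T.det = 1 := by
    have h1 : (ρ : Sp p →+* S).mapMatrix T = 1 := by
      ext l k
      rw [RingHom.mapMatrix_apply, Matrix.map_apply, hTlk, map_sub]
      show ρ ((1 : Matrix (Fin n) (Fin n) (Sp p)) l k) - ρ (WW p (dd j) l k) = _
      rw [hρWW, sub_zero, Matrix.one_apply, Matrix.one_apply]
      split_ifs
      · exact map_one ρ
      · exact map_zero ρ
    have h2 := RingHom.map_det (ρ : Sp p →+* S) T
    rw [h1, Matrix.det_one] at h2
    exact h2
  haveI : Algebra.FiniteType R S := inferInstance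
  obtain ⟨g', hg'1, hg'2⟩ := exists_gprime s hs j hj
  have hρg' : ρ g' = 1 := by
    have h1 : aug s j ≤ RingHom.ker (ρ : Sp p →+* S) := by
      rw [aug, Ideal.span_le]
      rintro _ ⟨k, rfl⟩
      exact hρ2 k
    have h2 := h1 hg'1
    rw [RingHom.mem_ker, map_sub, map_one, sub_eq_zero] at h2
    exact h2
  set c := T.det with hc
  -- the localization
  let S'' := Localization.Away (c * g')
  have hunit : ∀ y : Submonoid.powers (c * g'), IsUnit (ρ y) := by
    rintro ⟨_, k, rfl⟩
    show IsUnit (ρ ((c * g') ^ k))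
    rw [map_pow, map_mul, hρT, hρg', one_mul, one_pow]
    exact isUnit_one
  let r : S'' →ₐ[S] S := IsLocalization.liftAlgHom (M := Submonoid.powers (c * g')) (f := ρ) hunit
  -- smoothness
  haveI : Algebra.Smooth S (Sp p) := smooth_Sp p hp
  haveI : Algebra.Smooth R (Sp p) := Algebra.Smooth.comp R S (Sp p)
  haveI : Algebra.Smooth (Sp p) S'' := Algebra.Smooth.of_isLocalization_Away (c * g')
  haveI : Algebra.Smooth R S'' := Algebra.Smooth.comp R (Sp p) S''
  haveI : Algebra.Smooth S S'' := Algebra.Smooth.comp S (Sp p) S''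
  -- the basis
  obtain ⟨hli, hsp⟩ := basis_of_isLocalizedModule (A := Sp p) (M := Ω[Sp p⁄R]) (bb s j) ε g' hg'2
    c rfl S'' Ω[S''⁄R] (KaehlerDifferential.map R R (Sp p) S'')
  let b : Module.Basis (Fin n) S'' Ω[S''⁄R] := Module.Basis.mk hli hsp.ge
  have hb : Set.range b ⊆ Set.range (D R S'') := by
    rintro _ ⟨k, rfl⟩
    refine ⟨algebraMap (Sp p) S'' (ww s j k), ?_⟩
    rw [Module.Basis.mk_apply, Function.comp_apply, bb, KaehlerDifferential.map_D]
  exact ⟨S'', inferInstance, inferInstance, inferInstance, inferInstance, inferInstance, ⟨r⟩,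
    Algebra.IsStandardSmooth.of_basis_kaehlerDifferential b hb⟩

end Groth.Agent.Helper2.SmLift
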