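import Mathlib
import Groth.Prelude
import Groth.Agent.Helper2.SmLiftI
import Groth.Agent.Helper2.DelocB
import Groth.Agent.Helper2.DelocF

set_option autoImplicit false

namespace Groth.Agent.Helper2.Deloc

open Function MvPolynomial Algebra TensorProduct

universe u

set_option maxHeartbeats 1600000 in
theorem main {R A Λ Rₛ B' : Type u} [CommRing R] [CommRing A] [Algebra R A]
    [Algebra.FinitePresentation R A] [CommRing Λ] [Algebra R Λ] (φ : A →ₐ[R] Λ) (S : Submonoid R)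
    [CommRing Rₛ] [Algebra R Rₛ] [IsLocalization S Rₛ] [CommRing B'] [Algebra Rₛ B']
    [Algebra.Smooth Rₛ B'] (g : Rₛ ⊗[R] A →ₐ[Rₛ] B') (h : B' →ₐ[Rₛ] Rₛ ⊗[R] Λ)
    (hgh : h.comp g = Algebra.TensorProduct.map (AlgHom.id Rₛ Rₛ) φ) :
    ∃ (B : Type u) (_ : CommRing B) (_ : Algebra R B) (α : A →ₐ[R] B) (β : B →ₐ[R] Λ),
      β.comp α = φ ∧ ∃ s ∈ S, Smoothing.IsElementaryStandard R B (algebraMap R B s) := by
  classical
  obtain ⟨B'', _, _, _, _, -, ⟨r⟩, hstd⟩ :=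
    SmLift.exists_smooth_retract_isStandardSmooth Rₛ B'
  let g'' : Rₛ ⊗[R] A →ₐ[Rₛ] B'' := (IsScalarTower.toAlgHom Rₛ B' B'').comp g
  let h'' : B'' →ₐ[Rₛ] Rₛ ⊗[R] Λ := h.comp (r.restrictScalars Rₛ)
  have hgh'' : h''.comp g'' = Algebra.TensorProduct.map (AlgHom.id Rₛ Rₛ) φ := by
    rw [← hgh]
    apply AlgHom.ext
    intro x
    show h (r (algebraMap B' B'' (g x))) = h (g x)
    rw [AlgHom.commutes]
    rfl
  obtain ⟨ι, σ, _, _, ⟨P⟩⟩ := hstd.out
  haveI : Fintype ι := Fintype.ofFinite ι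
  haveI : Fintype σ := Fintype.ofFinite σ
  -- scaling
  choose w hw l hl using fun i => exists_scaled_image S (K := Rₛ) (h'' (P.val i))
  let u : R := ∏ i, w i
  have huS : u ∈ S := Submonoid.prod_mem S (fun i _ => hw i)
  let c : Rₛ := algebraMap R Rₛ u
  have hc : IsUnit c := IsLocalization.map_units Rₛ (⟨u, huS⟩ : S)
  let lam : ι → Λ := fun i => (∏ i' ∈ Finset.univ.erase i, w i') • l i
  have hlam : ∀ i, h'' (algebraMap Rₛ B'' c * P.val i) = (1 : Rₛ) ⊗ₜ[R] lam i := by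
    intro i
    rw [← Algebra.smul_def, map_smul]
    show (algebraMap R Rₛ u) • h'' (P.val i) = _
    rw [algebraMap_smul]
    have hu : u = (∏ i' ∈ Finset.univ.erase i, w i') * w i :=
      (Finset.prod_erase_mul _ _ (Finset.mem_univ i)).symm
    rw [hu, mul_smul, hl, TensorProduct.tmul_smul]
  obtain ⟨f', hker, hsurj, hjac⟩ := scaled_data P c hc
  obtain ⟨nA, πA, hπA, hfg⟩ := Algebra.FinitePresentation.out (R := R) (A := A)
  obtain ⟨mA, G, hG⟩ := Submodule.fg_iff_exists_fin_generating_family.mp hfg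
  exact core S φ (fun i => algebraMap Rₛ B'' c * P.val i) f' ⟨P.map, P.map_inj⟩ hker hsurj hjac
    πA hπA G hG.symm g'' h'' hgh'' lam hlam

end Groth.Agent.Helper2.Deloc
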