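import Mathlib
import Groth.Prelude

set_option autoImplicit false

namespace Groth.Agent.Helper2.Desg

open Function MvPolynomial Algebra

universe u

section Poly

variable {R : Type u} [CommRing R] {ι : Type} [Fintype ι] [DecidableEq ι]

/-- second order Taylor expansion -/
theorem taylor2 {S : Type u} [CommRing S] [Algebra R S] (F : MvPolynomial ι R) (a y : ι → S)
    (t : S) :
    ∃ Q : S, aeval (fun i => a i + t * y i) F =
      aeval a F + t * ∑ i, aeval a (pderiv i F) * y i + t ^ 2 * Q := by
  classical
  induction F using MvPolynomial.induction_on with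
  | C r =>
    refine ⟨0, ?_⟩
    simp
  | add p q hp hq =>
    obtain ⟨Q₁, h₁⟩ := hp
    obtain ⟨Q₂, h₂⟩ := hq
    refine ⟨Q₁ + Q₂, ?_⟩
    rw [map_add, h₁, h₂]
    simp only [map_add, add_mul, Finset.sum_add_distrib]
    ring
  | mul_X p k hp =>
    obtain ⟨Q₁, h₁⟩ := hp
    refine ⟨Q₁ * (a k + t * y k) + (∑ i, aeval a (pderiv i p) * y i) * y k, ?_⟩
    rw [map_mul, h₁, aeval_X]
    have h2 : ∀ i, aeval a (pderiv i (p * X k)) * y i =
        aeval a (pderiv i p) * a k * y i + (if i = k then aeval a p * y k else 0) := by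
      intro i
      rw [Derivation.leibniz, pderiv_X]
      simp only [smul_eq_mul, map_add, map_mul, aeval_X]
      by_cases hik : i = k
      · subst hik
        simp
        ring
      · rw [Pi.single_eq_of_ne (Ne.symm hik), if_neg hik]
        simp
        ring
    simp only [h2, Finset.sum_add_distrib, Finset.sum_ite_eq', Finset.mem_univ, if_true, map_mul,
      aeval_X]
    have h3 : ∑ i, aeval a (pderiv i p) * a k * y i = (∑ i, aeval a (pderiv i p) * y i) * a k := by
      rw [Finset.sum_mul]
      apply Finset.sum_congr rfl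
      intro i _
      ring
    rw [h3]
    ring

/-- the chain rule -/
theorem chain {W : Type} [DecidableEq W] (F : MvPolynomial ι R) (ξ : ι → MvPolynomial W R)
    (i : W) :
    pderiv i (aeval ξ F) = ∑ l, aeval ξ (pderiv l F) * pderiv i (ξ l) := by
  classical
  induction F using MvPolynomial.induction_on with
  | C r =>
    simp
  | add p q hp hq =>
    rw [map_add, map_add, hp, hq, ← Finset.sum_add_distrib]
    apply Finset.sum_congr rfl
    intro l _
    rw [map_add, map_add, add_mul]
  | mul_X p k hp =>
    rw [map_mul, aeval_X, Derivation.leibniz, hp]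
    have h2 : ∀ l, aeval ξ (pderiv l (p * X k)) * pderiv i (ξ l) =
        ξ k * (aeval ξ (pderiv l p) * pderiv i (ξ l)) +
          (if l = k then aeval ξ p * pderiv i (ξ k) else 0) := by
      intro l
      rw [Derivation.leibniz, pderiv_X]
      simp only [smul_eq_mul, map_add, map_mul, aeval_X]
      by_cases hlk : l = k
      · subst hlk
        simp
        ring
      · rw [Pi.single_eq_of_ne (Ne.symm hlk), if_neg hlk]
        simp
        ring
    simp only [h2, Finset.sum_add_distrib, Finset.sum_ite_eq', Finset.mem_univ, if_true,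
      smul_eq_mul, ← Finset.mul_sum]
    ring

end Poly

section Mat

variable {R : Type u} [CommRing R] {n c : ℕ}

/-- a right inverse up to the scalar `U`, when `U` is a combination of maximal minors. -/
theorem exists_right_inverse_of_sum_minors (M : Matrix (Fin c) (Fin n) R)
    (ρ : (Fin c → Fin n) → R) (U : R)
    (hU : U = ∑ cols : Fin c → Fin n, ρ cols * (M.submatrix id cols).det) :
    ∃ s : Matrix (Fin n) (Fin c) R, M * s = U • (1 : Matrix (Fin c) (Fin c) R) := by
  classical
  refine ⟨∑ cols : Fin c → Fin n, ρ cols •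
    ((1 : Matrix (Fin n) (Fin n) R).submatrix id cols * (M.submatrix id cols).adjugate), ?_⟩
  rw [Matrix.mul_sum, hU, Finset.sum_smul]
  apply Finset.sum_congr rfl
  intro cols _
  rw [Matrix.mul_smul, ← Matrix.mul_assoc]
  have h1 : M * (1 : Matrix (Fin n) (Fin n) R).submatrix id cols = M.submatrix id cols := by
    ext j k
    simp [Matrix.mul_apply, Matrix.one_apply]
  rw [h1, Matrix.mul_adjugate, smul_smul]

/-- Cramer: a vector killed by a square matrix is killed by its determinant. -/
theorem det_mul_eq_zero_of_mulVec_eq_zero {κ : Type} [Fintype κ] [DecidableEq κ]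
    (N : Matrix κ κ R) (b : κ → R) (h : N.mulVec b = 0) (j : κ) : N.det * b j = 0 := by
  have h1 : (N.adjugate * N).mulVec b = 0 := by
    rw [← Matrix.mulVec_mulVec, h, Matrix.mulVec_zero]
  rw [Matrix.adjugate_mul, Matrix.smul_mulVec, Matrix.one_mulVec] at h1
  have := congrFun h1 j
  simpa using this

/-- determinants modulo an ideal -/
theorem det_sub_pow_mem {κ : Type} [Fintype κ] [DecidableEq κ] (I : Ideal R)
    (d : R) (N : Matrix κ κ R) (hN : ∀ j k, N j k ∈ I) :
    (d • (1 : Matrix κ κ R) - N).det - d ^ Fintype.card κ ∈ I := by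
  rw [← Ideal.Quotient.eq_zero_iff_mem, map_sub, RingHom.map_det, map_pow]
  have h1 : (Ideal.Quotient.mk I).mapMatrix (d • (1 : Matrix κ κ R) - N) =
      (Ideal.Quotient.mk I d) • (1 : Matrix κ κ (R ⧸ I)) := by
    ext j k
    simp only [RingHom.mapMatrix_apply, Matrix.map_apply, Matrix.sub_apply, Matrix.smul_apply,
      map_sub, smul_eq_mul, map_mul]
    rw [Ideal.Quotient.eq_zero_iff_mem.mpr (hN j k), sub_zero]
    by_cases hjk : j = k
    · subst hjk
      simp
    · simp [Matrix.one_apply_ne hjk]
  rw [h1, Matrix.det_smul, Matrix.det_one, mul_one, sub_self]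

theorem det_sub_one_mem {κ : Type} [Fintype κ] [DecidableEq κ] (I : Ideal R)
    (N : Matrix κ κ R) (hN : ∀ j k, N j k - (1 : Matrix κ κ R) j k ∈ I) :
    N.det - 1 ∈ I := by
  rw [← Ideal.Quotient.eq_zero_iff_mem, map_sub, RingHom.map_det, map_one]
  have h1 : (Ideal.Quotient.mk I).mapMatrix N = (1 : Matrix κ κ (R ⧸ I)) := by
    ext j k
    simp only [RingHom.mapMatrix_apply, Matrix.map_apply]
    have := hN j k
    rw [← Ideal.Quotient.eq_zero_iff_mem, map_sub, sub_eq_zero] at this
    rw [this]
    by_cases hjk : j = k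
    · subst hjk
      simp
    · simp [Matrix.one_apply_ne hjk]
  rw [h1, Matrix.det_one, sub_self]

end Mat

section Flat

variable {R : Type u} [CommRing R] {M : Type u} [AddCommGroup M] [Module R M]

theorem smul_eq_zero_of_flat [Module.Flat R M] (s r2 t : R)
    (hr : ∀ a : R, s * a = 0 → t * (r2 * a) = 0) (x : M) (hx : s • x = 0) :
    t • (r2 • x) = 0 := by
  have h0 : ∑ _i : Unit, (fun _ : Unit => s) _i • (fun _ : Unit => x) _i = 0 := by
    simpa using hx
  obtain ⟨k, a, y, hxy, ha⟩ := Module.Flat.isTrivialRelation_of_sum_smul_eq_zero h0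
  have h1 : x = ∑ j, a () j • y j := hxy ()
  have h2 : ∀ j, s * a () j = 0 := by
    intro j
    have := ha j
    simpa using this
  rw [h1, Finset.smul_sum, Finset.smul_sum]
  apply Finset.sum_eq_zero
  intro j _
  rw [smul_smul, smul_smul, mul_assoc, hr _ (h2 j), zero_smul]

end Flat

end Groth.Agent.Helper2.Desg
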