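import Mathlib
import Groth.Prelude
import Groth.Agent.Helper2.DesgA

set_option autoImplicit false

namespace Groth.Agent.Helper2.Desg

open Function MvPolynomial Algebra

universe u

section Setup

variable {R : Type u} [CommRing R] {n m c : ℕ}

/-- the polynomial ring `R[v, w]` -/
abbrev TT (R : Type u) [CommRing R] (c n : ℕ) := MvPolynomial (Fin c ⊕ Fin n) R

variable (f : Fin m → MvPolynomial (Fin n) R) (r : Fin n → R) (π : R)
  (s : Matrix (Fin n) (Fin c) R)

noncomputable def yy (i : Fin n) : TT R c n :=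
  ∑ k, C (s i k) * X (Sum.inl k) + C π * X (Sum.inr i)

noncomputable def xi (i : Fin n) : TT R c n := C (r i) + C (π ^ 2) * yy π s i

noncomputable def ft (j : Fin m) : TT R c n := aeval (xi r π s) (f j)

noncomputable def rr (j : Fin m) (i : Fin n) : R := eval r (pderiv i (f j))

theorem aeval_C_comp (F : MvPolynomial (Fin n) R) :
    aeval (fun i => (C (r i) : TT R c n)) F = C (eval r F) := by
  have : (aeval (fun i => (C (r i) : TT R c n)) : MvPolynomial (Fin n) R →ₐ[R] TT R c n) =
      (Algebra.ofId R (TT R c n)).comp (aeval r) := by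
    apply MvPolynomial.algHom_ext
    intro i
    simp [Algebra.ofId_apply, MvPolynomial.algebraMap_eq]
  rw [this]
  simp [Algebra.ofId_apply, MvPolynomial.algebraMap_eq]

theorem exists_Q (j : Fin m) :
    ∃ Q : TT R c n, ft f r π s j =
      C (eval r (f j)) + C (π ^ 2) * ∑ i, C (rr f r j i) * yy π s i + C (π ^ 4) * Q := by
  obtain ⟨Q, hQ⟩ := taylor2 (S := TT R c n) (f j) (fun i => C (r i)) (yy π s) (C (π ^ 2))
  refine ⟨Q, ?_⟩
  have h1 : ft f r π s j = aeval (fun i => (C (r i) : TT R c n) + C (π ^ 2) * yy π s i) (f j) := rfl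
  rw [h1, hQ, aeval_C_comp]
  simp only [aeval_C_comp, rr]
  rw [← C_pow, ← pow_mul]

noncomputable def QQ (j : Fin m) : TT R c n := Classical.choose (exists_Q f r π s j)

theorem ft_eq (j : Fin m) : ft f r π s j =
    C (eval r (f j)) + C (π ^ 2) * ∑ i, C (rr f r j i) * yy π s i + C (π ^ 4) * QQ f r π s j :=
  Classical.choose_spec (exists_Q f r π s j)

theorem sum_rr_yy (j : Fin m) :
    ∑ i, C (rr f r j i) * yy π s i =
      ∑ k, C (∑ i, rr f r j i * s i k) * X (Sum.inl k) +
        C π * ∑ i, C (rr f r j i) * X (Sum.inr i) := by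
  simp only [yy, mul_add, Finset.sum_add_distrib, Finset.mul_sum]
  congr 1
  · rw [Finset.sum_comm]
    apply Finset.sum_congr rfl
    intro k _
    rw [map_sum, Finset.sum_mul]
    apply Finset.sum_congr rfl
    intro i _
    rw [C_mul]
    ring
  · apply Finset.sum_congr rfl
    intro i _
    ring

variable (t : Fin m → R) (u : R)

/-- the elements `a_j` with `f̃_j = π² a_j` -/
noncomputable def aa (j : Fin m) : TT R c n :=
  ∑ k, C (∑ i, rr f r j i * s i k) * X (Sum.inl k) +
    C π * ∑ i, C (rr f r j i) * X (Sum.inr i) + C (π ^ 2) * (C (t j) + QQ f r π s j)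

theorem ft_eq_aa (ht : ∀ j, eval r (f j) = π ^ 4 * t j) (j : Fin m) :
    ft f r π s j = C (π ^ 2) * aa f r π s t j := by
  rw [ft_eq, sum_rr_yy, ht, aa]
  simp only [C_mul, C_pow]
  ring

variable (hcm : c ≤ m)

/-- the leading relations `g_j` with `f̃_j = π³ g_j` -/
noncomputable def gg (j : Fin c) : TT R c n :=
  C u * X (Sum.inl j) + ∑ i, C (rr f r (Fin.castLE hcm j) i) * X (Sum.inr i) +
    C π * (C (t (Fin.castLE hcm j)) + QQ f r π s (Fin.castLE hcm j))

theorem ft_eq_gg (ht : ∀ j, eval r (f j) = π ^ 4 * t j)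
    (hs : (Matrix.of fun (j : Fin c) (i : Fin n) => rr f r (Fin.castLE hcm j) i) * s =
      (u * π) • (1 : Matrix (Fin c) (Fin c) R)) (j : Fin c) :
    ft f r π s (Fin.castLE hcm j) = C (π ^ 3) * gg f r π s t u hcm j := by
  classical
  rw [ft_eq, sum_rr_yy, ht, gg]
  have h1 : ∀ k, ∑ i, rr f r (Fin.castLE hcm j) i * s i k = if j = k then u * π else 0 := by
    intro k
    have := congrFun (congrFun hs j) k
    simp only [Matrix.mul_apply, Matrix.of_apply, Matrix.smul_apply, Matrix.one_apply,
      smul_eq_mul, mul_ite, mul_one, mul_zero] at this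
    exact this
  simp only [h1]
  have h2 : ∑ k, C (if j = k then u * π else 0) * (X (Sum.inl k) : TT R c n) =
      C (u * π) * X (Sum.inl j) := by
    rw [Finset.sum_eq_single j]
    · simp
    · intro k _ hk
      rw [if_neg (Ne.symm hk)]
      simp
    · simp
  rw [h2]
  simp only [C_mul, C_pow]
  ring

end Setup

end Groth.Agent.Helper2.Desg
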