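import Mathlib
import Groth.Prelude
import Groth.Agent.Helper2.DesgB

set_option autoImplicit false

namespace Groth.Agent.Helper2.Desg

open Function MvPolynomial Algebra

universe u

section Deriv

variable {R : Type u} [CommRing R] {n m c : ℕ}
  (f : Fin m → MvPolynomial (Fin n) R) (r : Fin n → R) (π : R)
  (s : Matrix (Fin n) (Fin c) R) (t : Fin m → R) (u : R) (hcm : c ≤ m)

theorem pderiv_inl_gg_sub (e : R) (hu : u = 1 + π * e) (j k : Fin c) :
    pderiv (Sum.inl k) (gg f r π s t u hcm j) - (1 : Matrix (Fin c) (Fin c) (TT R c n)) j k ∈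
      Ideal.span {(C π : TT R c n)} := by
  classical
  rw [Ideal.mem_span_singleton']
  have h1 : pderiv (Sum.inl k : Fin c ⊕ Fin n) (gg f r π s t u hcm j) =
      C u * (if j = k then 1 else 0) +
        C π * pderiv (Sum.inl k) (C (t (Fin.castLE hcm j)) + QQ f r π s (Fin.castLE hcm j)) := by
    rw [gg, map_add, map_add, pderiv_C_mul, pderiv_C_mul, pderiv_X, map_sum]
    have h0 : ∀ i : Fin n, pderiv (Sum.inl k : Fin c ⊕ Fin n)
        (C (rr f r (Fin.castLE hcm j) i) * X (Sum.inr i) : TT R c n) = 0 := by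
      intro i
      rw [pderiv_C_mul, pderiv_X_of_ne (by simp), mul_zero]
    rw [Finset.sum_eq_zero (fun i _ => h0 i), add_zero]
    congr 2
    by_cases hjk : j = k
    · subst hjk
      simp
    · rw [if_neg hjk, Pi.single_eq_of_ne]
      intro h
      exact hjk (Sum.inl_injective h)
  refine ⟨C e * (if j = k then 1 else 0) +
    pderiv (Sum.inl k) (C (t (Fin.castLE hcm j)) + QQ f r π s (Fin.castLE hcm j)), ?_⟩
  rw [h1, hu, Matrix.one_apply]
  simp only [C_add, C_mul, C_1]
  by_cases hjk : j = k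
  · simp only [hjk, if_true]
    ring
  · simp only [hjk, if_false]
    ring

theorem pderiv_inr_xi (i l : Fin n) :
    pderiv (Sum.inr i : Fin c ⊕ Fin n) (xi r π s l) =
      if l = i then C (π ^ 3) else 0 := by
  classical
  rw [xi, map_add, pderiv_C, zero_add, pderiv_C_mul, yy, map_add, map_sum]
  have h0 : ∀ k : Fin c, pderiv (Sum.inr i : Fin c ⊕ Fin n)
      (C (s l k) * X (Sum.inl k) : TT R c n) = 0 := by
    intro k
    rw [pderiv_C_mul, pderiv_X_of_ne (by simp), mul_zero]
  rw [Finset.sum_eq_zero (fun k _ => h0 k), zero_add, pderiv_C_mul, pderiv_X]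
  by_cases hli : l = i
  · subst hli
    simp only [Pi.single_eq_same, if_true, mul_one]
    rw [← C_mul]
    congr 1
    ring
  · rw [if_neg hli, Pi.single_eq_of_ne, mul_zero, mul_zero]
    intro h
    exact hli (Sum.inr_injective h)

theorem pderiv_inr_ft (i : Fin n) (j : Fin m) :
    pderiv (Sum.inr i : Fin c ⊕ Fin n) (ft f r π s j) =
      C (π ^ 3) * aeval (xi r π s) (pderiv i (f j)) := by
  classical
  rw [ft, chain]
  simp only [pderiv_inr_xi, mul_ite, mul_zero, Finset.sum_ite_eq', Finset.mem_univ, if_true]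
  ring

theorem pi_pow_mul_minor (ht : ∀ j, eval r (f j) = π ^ 4 * t j)
    (hs : (Matrix.of fun (j : Fin c) (i : Fin n) => rr f r (Fin.castLE hcm j) i) * s =
      (u * π) • (1 : Matrix (Fin c) (Fin c) R)) (cols : Fin c → Fin n) :
    C (π ^ (3 * c)) * Matrix.det (Matrix.of fun j k : Fin c =>
        pderiv (Sum.inr (cols k) : Fin c ⊕ Fin n) (gg f r π s t u hcm j)) =
      C (π ^ (3 * c)) * aeval (xi r π s)
        (Smoothing.jacobianMinor f (Fin.castLE hcm) cols) := by
  classical
  set A₁ : Matrix (Fin c) (Fin c) (TT R c n) := Matrix.of fun j k : Fin c =>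
        pderiv (Sum.inr (cols k) : Fin c ⊕ Fin n) (gg f r π s t u hcm j) with hA₁
  set A₂ : Matrix (Fin c) (Fin c) (TT R c n) := Matrix.of fun j k : Fin c =>
        aeval (xi r π s) (pderiv (cols k) (f (Fin.castLE hcm j))) with hA₂
  have h1 : (C (π ^ 3) : TT R c n) • A₁ = (C (π ^ 3) : TT R c n) • A₂ := by
    ext j k
    simp only [Matrix.smul_apply, smul_eq_mul, hA₁, hA₂, Matrix.of_apply]
    rw [← pderiv_inr_ft, ft_eq_gg f r π s t u hcm ht hs, pderiv_C_mul]
  have h2 : aeval (xi r π s) (Smoothing.jacobianMinor f (Fin.castLE hcm) cols) = A₂.det := by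
    unfold Smoothing.jacobianMinor
    rw [AlgHom.map_det]
    rfl
  have h3 := congrArg Matrix.det h1
  rw [Matrix.det_smul, Matrix.det_smul, Fintype.card_fin, ← C_pow, ← pow_mul] at h3
  rw [h2]
  exact h3

end Deriv

end Groth.Agent.Helper2.Desg
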