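import Mathlib
import Groth.Prelude
import Groth.Agent.Helper2.DelocA
import Groth.Agent.Helper2.DesgC

set_option autoImplicit false

namespace Groth.Agent.Helper2.Desg

open Function MvPolynomial Algebra

universe u

section Fam

variable {R : Type u} [CommRing R] {n m c : ℕ}
  (f : Fin m → MvPolynomial (Fin n) R) (r : Fin n → R) (π : R)
  (s : Matrix (Fin n) (Fin c) R) (t : Fin m → R) (u : R) (hcm : c ≤ m)

/-- relations of the algebra `B` -/
noncomputable def relB : Fin c ⊕ Fin m → TT R c n :=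
  Sum.elim (gg f r π s t u hcm) (ft f r π s)

/-- the ideal of the leading relations -/
noncomputable def Ig : Ideal (TT R c n) := Ideal.span (Set.range (gg f r π s t u hcm))

/-- the ideal of all relations -/
noncomputable def IB : Ideal (TT R c n) := Ideal.span (Set.range (relB f r π s t u hcm))

theorem Ig_le_IB : Ig f r π s t u hcm ≤ IB f r π s t u hcm := by
  apply Ideal.span_mono
  rintro _ ⟨j, rfl⟩
  exact ⟨Sum.inl j, rfl⟩

theorem ft_mem_IB (j : Fin m) : ft f r π s j ∈ IB f r π s t u hcm :=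
  Ideal.subset_span ⟨Sum.inr j, rfl⟩

theorem gg_mem_Ig (j : Fin c) : gg f r π s t u hcm j ∈ Ig f r π s t u hcm :=
  Ideal.subset_span ⟨j, rfl⟩

variable (ht : ∀ j, eval r (f j) = π ^ 4 * t j)
  (hs : (Matrix.of fun (j : Fin c) (i : Fin n) => rr f r (Fin.castLE hcm j) i) * s =
      (u * π) • (1 : Matrix (Fin c) (Fin c) R))

include ht hs in
theorem ft_mem_Ig_of_lt (j : Fin m) (hj : (j : ℕ) < c) : ft f r π s j ∈ Ig f r π s t u hcm := by
  have h1 : j = Fin.castLE hcm ⟨j, hj⟩ := by
    ext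
    rfl
  rw [h1, ft_eq_gg f r π s t u hcm ht hs]
  exact Ideal.mul_mem_left _ _ (gg_mem_Ig f r π s t u hcm _)

include ht hs in
theorem kill_B
    (hkill : ∀ j : Fin m, c ≤ (j : ℕ) → C π * f j ∈
      Ideal.span (f '' {j' : Fin m | (j' : ℕ) < c}) ⊔ Ideal.span (Set.range f) ^ 2)
    (j : Fin m) :
    C π * ft f r π s j ∈ Ig f r π s t u hcm ⊔ IB f r π s t u hcm ^ 2 := by
  by_cases hj : (j : ℕ) < c
  · apply Ideal.mem_sup_left
    exact Ideal.mul_mem_left _ _ (ft_mem_Ig_of_lt f r π s t u hcm ht hs j hj)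
  · have h1 := hkill j (not_lt.mp hj)
    have h2 := Ideal.mem_map_of_mem
      (aeval (xi r π s) : MvPolynomial (Fin n) R →ₐ[R] TT R c n).toRingHom h1
    rw [Ideal.map_sup, Ideal.map_pow, Ideal.map_span, Ideal.map_span] at h2
    have h3 : (aeval (xi r π s) : MvPolynomial (Fin n) R →ₐ[R] TT R c n).toRingHom (C π * f j) =
        C π * ft f r π s j := by
      show aeval (xi r π s) (C π * f j) = _
      rw [map_mul, aeval_C]
      rfl
    rw [h3] at h2
    refine (sup_le_sup (a := Ideal.span _) (b := Ig f r π s t u hcm) (c := Ideal.span _ ^ 2)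
      (d := IB f r π s t u hcm ^ 2) ?_ ?_) h2
    · rw [Ideal.span_le]
      rintro _ ⟨_, ⟨j', hj', rfl⟩, rfl⟩
      exact ft_mem_Ig_of_lt f r π s t u hcm ht hs j' hj'
    · apply Ideal.pow_right_mono
      rw [Ideal.span_le]
      rintro _ ⟨_, ⟨j', rfl⟩, rfl⟩
      exact ft_mem_IB f r π s t u hcm j'

theorem ker_mkB : RingHom.ker (Ideal.Quotient.mkₐ R (IB f r π s t u hcm)).toRingHom =
    Ideal.span (Set.range (relB f r π s t u hcm)) := by
  ext x
  rw [RingHom.mem_ker]
  show Ideal.Quotient.mk _ x = 0 ↔ _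
  rw [Ideal.Quotient.eq_zero_iff_mem]
  rfl

theorem range_relB_inl : Set.range (relB f r π s t u hcm ∘
    (⟨Sum.inl, Sum.inl_injective⟩ : Fin c ↪ Fin c ⊕ Fin m)) =
    Set.range (gg f r π s t u hcm) := by
  ext x
  constructor
  · rintro ⟨j, rfl⟩
    exact ⟨j, rfl⟩
  · rintro ⟨j, rfl⟩
    exact ⟨j, rfl⟩

include ht hs in
/-- a general source of elementary standard elements of `B`. -/
theorem elemStd_B
    (hkill : ∀ j : Fin m, c ≤ (j : ℕ) → C π * f j ∈
      Ideal.span (f '' {j' : Fin m | (j' : ℕ) < c}) ⊔ Ideal.span (Set.range f) ^ 2)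
    (cols : Fin c ↪ Fin c ⊕ Fin n) (E : TT R c n)
    (hE : ∀ j, E * ft f r π s j ∈ Ig f r π s t u hcm ⊔ IB f r π s t u hcm ^ 2) :
    Smoothing.IsElementaryStandard R (TT R c n ⧸ IB f r π s t u hcm)
      (Ideal.Quotient.mk _ (E * Matrix.det (Matrix.of fun j k : Fin c =>
        pderiv (cols k) (gg f r π s t u hcm j)))) := by
  classical
  refine Deloc.exists_elementaryStandard_of_data_gen (V := Fin c ⊕ Fin n) (κ := Fin c ⊕ Fin m)
    (γ := Fin c) (relB f r π s t u hcm) (Ideal.Quotient.mkₐ R (IB f r π s t u hcm))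
    (Ideal.Quotient.mkₐ_surjective R _) (ker_mkB f r π s t u hcm)
    ⟨Sum.inl, Sum.inl_injective⟩ cols _ (Ideal.Quotient.mk _ E) ?_ ?_
  · show Ideal.Quotient.mk _ _ = Ideal.Quotient.mk _ E * Ideal.Quotient.mk _ _
    rw [← map_mul]
    rfl
  · intro a₁ ha₁ ℓ
    set Dm : TT R c n := Matrix.det (Matrix.of fun j k : Fin c =>
        pderiv (cols k) (gg f r π s t u hcm j)) with hDm
    have ha₁' : a₁ - E * Dm ∈ IB f r π s t u hcm := by
      rw [← Ideal.Quotient.eq_zero_iff_mem, map_sub, sub_eq_zero]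
      exact ha₁
    rw [range_relB_inl]
    rcases ℓ with j | j
    · apply Ideal.mem_sup_left
      apply Ideal.mul_mem_left
      exact gg_mem_Ig f r π s t u hcm j
    · have hsplit : a₁ * relB f r π s t u hcm (Sum.inr j) =
          Dm * (E * ft f r π s j) + (a₁ - E * Dm) * ft f r π s j := by
        show a₁ * ft f r π s j = _
        ring
      rw [hsplit]
      apply Ideal.add_mem
      · exact Ideal.mul_mem_left _ _ (hE j)
      · apply Ideal.mem_sup_right
        rw [pow_two]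
        exact Ideal.mul_mem_mul ha₁' (ft_mem_IB f r π s t u hcm j)

end Fam

end Groth.Agent.Helper2.Desg
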