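import Mathlib
import Groth.Prelude
import Groth.Agent.S2032
import Groth.Agent.Helper2.DesgD

set_option autoImplicit false

namespace Groth.Agent.Helper2.Desg

open Function MvPolynomial Algebra

universe u

section ExE

variable {R : Type u} [CommRing R] {n m c : ℕ}
  (f : Fin m → MvPolynomial (Fin n) R) (r : Fin n → R) (π : R)
  (s : Matrix (Fin n) (Fin c) R) (t : Fin m → R) (u : R) (hcm : c ≤ m)

/-- the Jacobian determinant of the `g_j` with respect to the `v_k`. -/
noncomputable def Dv : TT R c n :=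
  Matrix.det (Matrix.of fun j k : Fin c =>
    pderiv (Sum.inl k : Fin c ⊕ Fin n) (gg f r π s t u hcm j))

theorem Dv_sub_one_mem (e : R) (hu : u = 1 + π * e) :
    Dv f r π s t u hcm - 1 ∈ Ideal.span {(C π : TT R c n)} := by
  apply det_sub_one_mem
  intro j k
  exact pderiv_inl_gg_sub f r π s t u hcm e hu j k

theorem ker_mkg : RingHom.ker (Ideal.Quotient.mkₐ R (Ig f r π s t u hcm)).toRingHom =
    Ideal.span (Set.range (gg f r π s t u hcm)) := by
  ext x
  rw [RingHom.mem_ker]
  show Ideal.Quotient.mk _ x = 0 ↔ _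
  rw [Ideal.Quotient.eq_zero_iff_mem]
  rfl

theorem elemStd_Dv :
    Smoothing.IsElementaryStandard R (TT R c n ⧸ Ig f r π s t u hcm)
      (Ideal.Quotient.mk _ (Dv f r π s t u hcm)) := by
  classical
  refine Deloc.exists_elementaryStandard_of_data_gen (V := Fin c ⊕ Fin n) (κ := Fin c)
    (γ := Fin c) (gg f r π s t u hcm) (Ideal.Quotient.mkₐ R (Ig f r π s t u hcm))
    (Ideal.Quotient.mkₐ_surjective R _) (ker_mkg f r π s t u hcm)
    (Embedding.refl _) ⟨Sum.inl, Sum.inl_injective⟩ _ 1 ?_ ?_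
  · rw [one_mul]
    rfl
  · intro a₁ _ ℓ
    apply Ideal.mem_sup_left
    apply Ideal.mul_mem_left
    exact Ideal.subset_span ⟨ℓ, rfl⟩

end ExE

end Groth.Agent.Helper2.Desg
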