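import Mathlib
import Groth.Prelude
import Groth.Agent.S2032
import Groth.Agent.Helper2.DesgE

set_option autoImplicit false

namespace Groth.Agent.Helper2.Desg

open Function MvPolynomial Algebra

universe u

section ExE

variable {R : Type u} [CommRing R] {n m c : ℕ}
  (f : Fin m → MvPolynomial (Fin n) R) (r : Fin n → R) (π : R)
  (s : Matrix (Fin n) (Fin c) R) (t : Fin m → R) (u : R) (hcm : c ≤ m)

omit f r s t u hcm π in
theorem ideal_calc {S : Type*} [CommRing S] (p : S) (A : Ideal S) :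
    (Ideal.span {p ^ 2} * A) ^ 2 = Ideal.span {p ^ 4} * A ^ 2 := by
  rw [mul_pow, Ideal.span_singleton_pow, ← pow_mul]

/-- the quotient by the leading relations -/
abbrev Bq := TT R c n ⧸ Ig f r π s t u hcm

omit f r s t u hcm in
theorem ann_pow_three (ρ : R) (hρ : ∀ x : R, π ^ 2 * x = 0 → π * (ρ * x) = 0) (a : R)
    (ha : π ^ 3 * a = 0) : π * (ρ ^ 2 * a) = 0 := by
  have h1 : π ^ 2 * (π * a) = 0 := by rw [← ha]; ring
  have h2 := hρ _ h1
  have h3 : π ^ 2 * (ρ * a) = 0 := by rw [← h2]; ring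
  have h4 := hρ _ h3
  rw [← h4]
  ring

set_option maxHeartbeats 3200000 in
theorem exists_E (ht : ∀ j, eval r (f j) = π ^ 4 * t j)
    (hs : (Matrix.of fun (j : Fin c) (i : Fin n) => rr f r (Fin.castLE hcm j) i) * s =
      (u * π) • (1 : Matrix (Fin c) (Fin c) R))
    (hkill : ∀ j : Fin m, c ≤ (j : ℕ) → C π * f j ∈
      Ideal.span (f '' {j' : Fin m | (j' : ℕ) < c}) ⊔ Ideal.span (Set.range f) ^ 2)
    (ρ : R) (hρ : ∀ x : R, π ^ 2 * x = 0 → π * (ρ * x) = 0) :
    ∃ (E : TT R c n) (K : ℕ), (∀ j, E * ft f r π s j ∈ Ig f r π s t u hcm) ∧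
      E - (Dv f r π s t u hcm ^ K * C (ρ ^ 2)) ^ m ∈
        Ig f r π s t u hcm ⊔ Ideal.span {(C π : TT R c n)} := by
  classical
  let q : TT R c n →+* (Bq f r π s t u hcm) := Ideal.Quotient.mk (Ig f r π s t u hcm)
  have hqsurj : Surjective q := Ideal.Quotient.mk_surjective
  haveI : Algebra.FinitePresentation R (Bq f r π s t u hcm) :=
    Algebra.FinitePresentation.quotient (Submodule.fg_span (Set.finite_range _))
  set D := Dv f r π s t u hcm with hD
  have hstd : Algebra.IsStandardSmooth R (Localization.Away (q D)) :=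
    Groth.Agent.S2032.result (q D) (elemStd_Dv f r π s t u hcm)
  haveI : Module.Flat R (Localization.Away (q D)) := inferInstance
  let ι : (Bq f r π s t u hcm) →ₐ[R] Localization.Away (q D) :=
    IsScalarTower.toAlgHom R (Bq f r π s t u hcm) (Localization.Away (q D))
  let p : (Bq f r π s t u hcm) := q (C π)
  let ab : Fin m → (Bq f r π s t u hcm) := fun j => q (aa f r π s t j)
  set 𝔄 : Ideal (Bq f r π s t u hcm) := Ideal.span (Set.range ab) with h𝔄
  have hqft : ∀ j, q (ft f r π s j) = p ^ 2 * ab j := by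
    intro j
    rw [ft_eq_aa f r π s t ht, map_mul, C_pow, map_pow]
  have hqgg : ∀ j, q (gg f r π s t u hcm j) = 0 := by
    intro j
    exact Ideal.Quotient.eq_zero_iff_mem.mpr (gg_mem_Ig f r π s t u hcm j)
  have hmapIB : Ideal.map q (IB f r π s t u hcm) ≤ Ideal.span {p ^ 2} * 𝔄 := by
    rw [IB, Ideal.map_span, Ideal.span_le]
    rintro _ ⟨_, ⟨ℓ, rfl⟩, rfl⟩
    rcases ℓ with j | j
    · show q (gg f r π s t u hcm j) ∈ _
      rw [hqgg]
      exact Ideal.zero_mem _
    · show q (ft f r π s j) ∈ _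
      rw [hqft]
      exact Ideal.mul_mem_mul (Ideal.mem_span_singleton_self _) (Ideal.subset_span ⟨j, rfl⟩)
  have hmapIg : Ideal.map q (Ig f r π s t u hcm) = ⊥ := by
    rw [Ideal.map_eq_bot_iff_le_ker, Ideal.mk_ker]
  have h𝔄2 : 𝔄 ^ 2 ≤ Ideal.span (Set.range fun pr : Fin m × Fin m => ab pr.1 * ab pr.2) := by
    rw [pow_two, h𝔄, Ideal.span_mul_span']
    apply Ideal.span_mono
    rintro _ ⟨x, ⟨k, rfl⟩, y, ⟨l, rfl⟩, rfl⟩
    exact ⟨(k, l), rfl⟩
  have hz : ∀ j, ∃ cc : Fin m × Fin m → (Bq f r π s t u hcm),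
      p ^ 4 * (∑ pr, cc pr * (ab pr.1 * ab pr.2)) = p ^ 3 * ab j := by
    intro j
    have h1 := kill_B f r π s t u hcm ht hs hkill j
    have h2 := Ideal.mem_map_of_mem q h1
    rw [Ideal.map_sup, Ideal.map_pow, hmapIg, bot_sup_eq, map_mul, hqft] at h2
    have h3 : Ideal.map q (IB f r π s t u hcm) ^ 2 ≤ Ideal.span {p ^ 4} * 𝔄 ^ 2 := by
      calc Ideal.map q (IB f r π s t u hcm) ^ 2 ≤ (Ideal.span {p ^ 2} * 𝔄) ^ 2 := Ideal.pow_right_mono hmapIB 2
        _ = Ideal.span {p ^ 4} * 𝔄 ^ 2 := by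
          exact ideal_calc p 𝔄
    have h4 := h3 h2
    rw [Ideal.mem_span_singleton_mul] at h4
    obtain ⟨z, hz, hpz⟩ := h4
    have h5 := h𝔄2 hz
    rw [Ideal.mem_span_range_iff_exists_fun] at h5
    obtain ⟨cc, hcc⟩ := h5
    refine ⟨cc, ?_⟩
    rw [hcc, hpz]
    show q (C π) * (p ^ 2 * ab j) = _
    ring
  choose cc hcc using hz
  let zz : Fin m → (Bq f r π s t u hcm) := fun j => ∑ pr, cc j pr * (ab pr.1 * ab pr.2)
  let ρb : (Bq f r π s t u hcm) := q (C (ρ ^ 2))
  -- flatness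
  have hK : ∀ j, ∃ K : ℕ, q D ^ K * (p * ρb * (ab j - p * zz j)) = 0 := by
    intro j
    have hsm : ∀ (a : R) (y : (Bq f r π s t u hcm)), a • y = q (C a) * y := by
      intro a y
      obtain ⟨y', rfl⟩ := hqsurj y
      show q (a • y') = _
      rw [MvPolynomial.smul_eq_C_mul, map_mul]
    have h1 : (π ^ 3) • (ι (ab j - p * zz j)) = 0 := by
      rw [← map_smul]
      have : (π ^ 3) • (ab j - p * zz j) = p ^ 3 * ab j - p ^ 4 * zz j := by
        rw [hsm, C_pow, map_pow]
        ring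
      rw [this, hcc j, sub_self, map_zero]
    have h2 := smul_eq_zero_of_flat (π ^ 3) (ρ ^ 2) π (ann_pow_three π ρ hρ) _ h1
    rw [← map_smul, ← map_smul] at h2
    have h3 : algebraMap (Bq f r π s t u hcm) (Localization.Away (q D))
        (π • (ρ ^ 2) • (ab j - p * zz j)) = 0 := h2
    rw [IsLocalization.map_eq_zero_iff (Submonoid.powers (q D))] at h3
    obtain ⟨⟨_, K, rfl⟩, hK⟩ := h3
    refine ⟨K, ?_⟩
    have : π • (ρ ^ 2) • (ab j - p * zz j) = p * ρb * (ab j - p * zz j) := by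
      rw [hsm, hsm]
      ring
    rw [← this]
    exact hK
  choose Kf hKf using hK
  let K : ℕ := ∑ j, Kf j
  have hKall : ∀ j, q D ^ K * (p * ρb * (ab j - p * zz j)) = 0 := by
    intro j
    have hle : Kf j ≤ K := Finset.single_le_sum (f := Kf) (fun _ _ => Nat.zero_le _)
      (Finset.mem_univ j)
    obtain ⟨k', hk'⟩ := Nat.exists_eq_add_of_le hle
    rw [hk', pow_add, mul_comm (q D ^ Kf j), mul_assoc, hKf, mul_zero]
  let d : (Bq f r π s t u hcm) := q D ^ K * ρb
  let b : Fin m → (Bq f r π s t u hcm) := fun j => p * ab j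
  let N : Matrix (Fin m) (Fin m) (Bq f r π s t u hcm) := Matrix.of fun j k => d * ∑ l, cc j (k, l) * b l
  have hmv : (d • (1 : Matrix (Fin m) (Fin m) (Bq f r π s t u hcm)) - N).mulVec b = 0 := by
    funext j
    rw [Matrix.sub_mulVec, Matrix.smul_mulVec, Matrix.one_mulVec]
    simp only [Pi.sub_apply, Pi.smul_apply, smul_eq_mul, Pi.zero_apply, Matrix.mulVec, dotProduct,
      N, Matrix.of_apply]
    have h1 := hKall j
    have h2 : d * b j = d * p ^ 2 * zz j := by
      have : q D ^ K * (p * ρb * (ab j - p * zz j)) = d * b j - d * p ^ 2 * zz j := by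
        simp only [d, b]
        ring
      rw [this, sub_eq_zero] at h1
      exact h1
    rw [h2, sub_eq_zero]
    simp only [zz, b]
    rw [Finset.mul_sum, Fintype.sum_prod_type]
    apply Finset.sum_congr rfl
    intro k _
    rw [Finset.mul_sum, Finset.sum_mul]
    apply Finset.sum_congr rfl
    intro l _
    ring
  set E' : (Bq f r π s t u hcm) := (d • (1 : Matrix (Fin m) (Fin m) (Bq f r π s t u hcm)) - N).det with hE'
  have hE'b : ∀ j, E' * b j = 0 := det_mul_eq_zero_of_mulVec_eq_zero _ _ hmv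
  have hE'd : E' - d ^ m ∈ Ideal.span {p} := by
    have := det_sub_pow_mem (Ideal.span {p}) d N (by
      intro j k
      simp only [N, Matrix.of_apply, b]
      rw [Ideal.mem_span_singleton']
      refine ⟨d * ∑ l, cc j (k, l) * ab l, ?_⟩
      rw [mul_comm _ p, Finset.mul_sum, Finset.mul_sum, Finset.mul_sum]
      apply Finset.sum_congr rfl
      intro l _
      ring)
    rwa [Fintype.card_fin] at this
  obtain ⟨E, hE⟩ := hqsurj E'
  refine ⟨E, K, ?_, ?_⟩
  · intro j
    rw [← Ideal.Quotient.eq_zero_iff_mem]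
    show q (E * ft f r π s j) = 0
    rw [map_mul, hE, hqft]
    have : E' * (p ^ 2 * ab j) = p * (E' * b j) := by
      simp only [b]
      ring
    rw [this, hE'b, mul_zero]
  · rw [Ideal.mem_span_singleton'] at hE'd
    obtain ⟨y', hy'⟩ := hE'd
    obtain ⟨y, rfl⟩ := hqsurj y'
    have h1 : E - (D ^ K * C (ρ ^ 2)) ^ m - y * C π ∈ (Ig f r π s t u hcm) := by
      rw [← Ideal.Quotient.eq_zero_iff_mem]
      show q (E - (D ^ K * C (ρ ^ 2)) ^ m - y * C π) = 0
      rw [map_sub, map_sub, map_pow, map_mul, map_pow, map_mul, hE]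
      show E' - d ^ m - q y * p = 0
      rw [hy', sub_self]
    have h2 : E - (D ^ K * C (ρ ^ 2)) ^ m =
        (E - (D ^ K * C (ρ ^ 2)) ^ m - y * C π) + y * C π := by ring
    rw [h2]
    exact Ideal.add_mem _ (Ideal.mem_sup_left h1)
      (Ideal.mem_sup_right (Ideal.mul_mem_left _ _ (Ideal.mem_span_singleton_self _)))

end ExE

end Groth.Agent.Helper2.Desg
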