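import Mathlib
import Groth.Prelude

set_option autoImplicit false

namespace Groth.Agent.Helper2.PresCot

open Function MvPolynomial Algebra

universe u

noncomputable section

variable {R A : Type u} [CommRing R] [CommRing A] [Algebra R A] {n m : ℕ}
  (f : Fin m → MvPolynomial (Fin n) R) (φ : MvPolynomial (Fin n) R →ₐ[R] A)
  (hφ : Surjective φ) (hker : RingHom.ker φ.toRingHom = Ideal.span (Set.range f))

lemma hfeq : φ = aeval (fun i => φ (X i)) := by
  apply MvPolynomial.algHom_ext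
  intro i
  simp

/-- generators attached to a surjection from a polynomial ring. -/
def Gen : Algebra.Generators R A (Fin n) :=
  Algebra.Generators.ofSurjective (fun i => φ (X i)) (by rw [← hfeq φ]; exact hφ)

lemma algebraMap_Gen (r : MvPolynomial (Fin n) R) :
    algebraMap (Gen φ hφ).toExtension.Ring A r = φ r := by
  conv_rhs => rw [hfeq φ]
  rfl

/-- cast into the ring of the extension. -/
def toE (r : MvPolynomial (Fin n) R) : (Gen φ hφ).toExtension.Ring := r

lemma algebraMap_toE (r : MvPolynomial (Fin n) R) :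
    algebraMap (Gen φ hφ).toExtension.Ring A (toE φ hφ r) = φ r := algebraMap_Gen φ hφ r

include hker

lemma ker_Gen : (Gen φ hφ).ker = Ideal.span (Set.range f) := by
  rw [← hker]
  ext r
  show algebraMap (Gen φ hφ).toExtension.Ring A r = 0 ↔ φ r = 0
  rw [algebraMap_Gen]

lemma mem_ker_iff (x : MvPolynomial (Fin n) R) :
    toE φ hφ x ∈ (Gen φ hφ).toExtension.ker ↔ x ∈ Ideal.span (Set.range f) := by
  show x ∈ (Gen φ hφ).ker ↔ _
  rw [ker_Gen f φ hφ hker]

lemma mem_ker_sq_iff (x : MvPolynomial (Fin n) R) :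
    toE φ hφ x ∈ (Gen φ hφ).toExtension.ker ^ 2 ↔ x ∈ Ideal.span (Set.range f) ^ 2 := by
  show x ∈ (Gen φ hφ).ker ^ 2 ↔ _
  rw [ker_Gen f φ hφ hker]
  exact Iff.rfl

lemma f_mem (ℓ : Fin m) : toE φ hφ (f ℓ) ∈ (Gen φ hφ).toExtension.ker :=
  (mem_ker_iff f φ hφ hker _).2 (Ideal.subset_span ⟨ℓ, rfl⟩)

/-- classes of the relations in the conormal module. -/
def g (ℓ : Fin m) : (Gen φ hφ).toExtension.Cotangent :=
  Algebra.Extension.Cotangent.mk ⟨toE φ hφ (f ℓ), f_mem f φ hφ hker ℓ⟩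

lemma coord (ℓ : Fin m) (k : Fin n) :
    (Gen φ hφ).cotangentSpaceBasis.repr
      ((Gen φ hφ).toExtension.cotangentComplex (g f φ hφ hker ℓ)) k = φ (pderiv k (f ℓ)) := by
  show (Gen φ hφ).cotangentSpaceBasis.repr ((Gen φ hφ).toExtension.cotangentComplex
    (Algebra.Extension.Cotangent.mk ⟨toE φ hφ (f ℓ), f_mem f φ hφ hker ℓ⟩)) k = _
  rw [Algebra.Extension.cotangentComplex_mk, Algebra.Generators.cotangentSpaceBasis_repr_one_tmul]
  exact algebraMap_Gen φ hφ _

lemma comb_mem {ι' : Type} [Fintype ι'] (h : ι' → Fin m) (p : ι' → MvPolynomial (Fin n) R) :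
    toE φ hφ (∑ i, p i * f (h i)) ∈ (Gen φ hφ).toExtension.ker :=
  (mem_ker_iff f φ hφ hker _).2
    (Ideal.sum_mem _ fun i _ => Ideal.mul_mem_left _ _ (Ideal.subset_span ⟨h i, rfl⟩))

lemma comb {ι' : Type} [Fintype ι'] (h : ι' → Fin m) (p : ι' → MvPolynomial (Fin n) R) :
    Algebra.Extension.Cotangent.mk ⟨toE φ hφ (∑ i, p i * f (h i)), comb_mem f φ hφ hker h p⟩ =
      ∑ i, φ (p i) • g f φ hφ hker (h i) := by
  have h1 : (⟨toE φ hφ (∑ i, p i * f (h i)), comb_mem f φ hφ hker h p⟩ :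
      (Gen φ hφ).toExtension.ker) =
      ∑ i, toE φ hφ (p i) •
        (⟨toE φ hφ (f (h i)), f_mem f φ hφ hker (h i)⟩ : (Gen φ hφ).toExtension.ker) := by
    apply Subtype.ext
    rw [Submodule.coe_sum]
    rfl
  rw [h1, map_sum]
  refine Finset.sum_congr rfl fun i _ => ?_
  rw [map_smul, ← algebraMap_toE φ hφ (p i), algebraMap_smul]
  rfl

/-- every element of the conormal module is a combination of the classes of the relations. -/
lemma exists_comb (y : (Gen φ hφ).toExtension.Cotangent) :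
    ∃ p : Fin m → A, y = ∑ ℓ, p ℓ • g f φ hφ hker ℓ := by
  obtain ⟨⟨x0, hx0⟩, rfl⟩ := Algebra.Extension.Cotangent.mk_surjective y
  have hx0' : (x0 : MvPolynomial (Fin n) R) ∈ Ideal.span (Set.range f) :=
    (mem_ker_iff f φ hφ hker x0).1 hx0
  obtain ⟨p, hp⟩ := (Ideal.mem_span_range_iff_exists_fun).1 hx0'
  refine ⟨fun ℓ => φ (p ℓ), ?_⟩
  have h1 := comb f φ hφ hker (fun ℓ => ℓ) p
  show _ = ∑ ℓ, φ (p ℓ) • g f φ hφ hker ℓ
  rw [← h1]
  congr 1
  exact Subtype.ext hp.symm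

/-- membership in the span of some classes, from membership modulo the square. -/
lemma mk_mem_span {ι' : Type} [Fintype ι'] (h : ι' → Fin m) (x : MvPolynomial (Fin n) R)
    (hx : toE φ hφ x ∈ (Gen φ hφ).toExtension.ker)
    (hmem : x ∈ Ideal.span (Set.range (f ∘ h)) ⊔ Ideal.span (Set.range f) ^ 2) :
    Algebra.Extension.Cotangent.mk ⟨toE φ hφ x, hx⟩ ∈
      Submodule.span A (Set.range (g f φ hφ hker ∘ h)) := by
  obtain ⟨w, hw, z, hz, rfl⟩ := Submodule.mem_sup.1 hmem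
  obtain ⟨p, hp⟩ := (Ideal.mem_span_range_iff_exists_fun).1 hw
  have h1 : Algebra.Extension.Cotangent.mk ⟨toE φ hφ (w + z), hx⟩ =
      Algebra.Extension.Cotangent.mk
        ⟨toE φ hφ (∑ i, p i * f (h i)), comb_mem f φ hφ hker h p⟩ := by
    rw [Algebra.Extension.Cotangent.mk_eq_mk_iff_sub_mem]
    show toE φ hφ (w + z - ∑ i, p i * f (h i)) ∈ (Gen φ hφ).toExtension.ker ^ 2
    rw [mem_ker_sq_iff f φ hφ hker]
    have : w + z - ∑ i, p i * f (h i) = z := by
      have : ∑ i, p i * f (h i) = w := hp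
      rw [this]; ring
    rw [this]
    exact hz
  rw [h1, comb f φ hφ hker]
  exact Submodule.sum_mem _ fun i _ => Submodule.smul_mem _ _ (Submodule.subset_span ⟨i, rfl⟩)

/-- conversely. -/
lemma mem_of_mk_mem_span {ι' : Type} [Fintype ι'] (h : ι' → Fin m)
    (x : MvPolynomial (Fin n) R) (hx : toE φ hφ x ∈ (Gen φ hφ).toExtension.ker)
    (hmem : Algebra.Extension.Cotangent.mk ⟨toE φ hφ x, hx⟩ ∈
      Submodule.span A (Set.range (g f φ hφ hker ∘ h))) :
    x ∈ Ideal.span (Set.range (f ∘ h)) ⊔ Ideal.span (Set.range f) ^ 2 := by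
  obtain ⟨b, hb⟩ := (Submodule.mem_span_range_iff_exists_fun A).1 hmem
  have hlift : ∀ j, ∃ pj : MvPolynomial (Fin n) R, φ pj = b j := fun j => hφ (b j)
  choose pp hpp using hlift
  have hb' : Algebra.Extension.Cotangent.mk
      ⟨toE φ hφ (∑ j, pp j * f (h j)), comb_mem f φ hφ hker h pp⟩ =
      Algebra.Extension.Cotangent.mk ⟨toE φ hφ x, hx⟩ := by
    rw [comb f φ hφ hker h pp, ← hb]
    refine Finset.sum_congr rfl fun j _ => ?_
    rw [hpp]
    rfl
  rw [Algebra.Extension.Cotangent.mk_eq_mk_iff_sub_mem] at hb'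
  have hsq : x - ∑ j, pp j * f (h j) ∈ Ideal.span (Set.range f) ^ 2 := by
    have h3 : toE φ hφ ((∑ j, pp j * f (h j)) - x) ∈ (Gen φ hφ).toExtension.ker ^ 2 := hb'
    rw [mem_ker_sq_iff f φ hφ hker] at h3
    have := Ideal.neg_mem_iff _ |>.2 h3
    rwa [neg_sub] at this
  have hfin : x = ∑ j, pp j * f (h j) + (x - ∑ j, pp j * f (h j)) := by ring
  rw [hfin]
  refine Submodule.add_mem_sup ?_ hsq
  exact Ideal.sum_mem _ fun j _ => Ideal.mul_mem_left _ _ (Ideal.subset_span ⟨j, rfl⟩)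

end

end Groth.Agent.Helper2.PresCot
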