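import Mathlib
import Groth.Prelude
import Groth.Agent.Helper2.SplitLoc
import Groth.Agent.Helper2.PresCot

set_option autoImplicit false

namespace Groth.Agent.Helper2.StdSmoothB

open Function MvPolynomial Algebra Groth.Agent.Helper2.SplitLoc Matrix Groth.Agent.Helper2.PresCot

universe u

section PS

variable {A : Type*} [CommRing A] {N F : Type*} [AddCommGroup N] [Module A N] [AddCommGroup F]
  [Module A F] {n c : ℕ}

/-- the approximate retraction built from an adjugate. -/
noncomputable def psi (bF : Module.Basis (Fin n) A F) (g : Fin c → N) (cols : Fin c → Fin n)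
    (Sq : Matrix (Fin c) (Fin c) A) : F →ₗ[A] N :=
  ∑ i, (∑ k', Sq.adjugate k' i • bF.coord (cols k')).smulRight (g i)

lemma psi_apply (bF : Module.Basis (Fin n) A F) (g : Fin c → N) (cols : Fin c → Fin n)
    (Sq : Matrix (Fin c) (Fin c) A) (z : F) :
    psi bF g cols Sq z = ∑ i, ((fun k' => bF.repr z (cols k')) ᵥ* Sq.adjugate) i • g i := by
  unfold psi
  rw [LinearMap.sum_apply]
  refine Finset.sum_congr rfl fun i _ => ?_
  rw [LinearMap.smulRight_apply, LinearMap.sum_apply]
  congr 1
  simp only [Matrix.vecMul, dotProduct, LinearMap.smul_apply, Module.Basis.coord_apply, smul_eq_mul]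
  refine Finset.sum_congr rfl fun k' _ => ?_
  ring

theorem powSplit_of_minor (d : N →ₗ[A] F) (bF : Module.Basis (Fin n) A F) (g : Fin c → N)
    (cols : Fin c → Fin n) (a : A)
    (ha : ∀ y : N, ∃ b : Fin c → A, a • y = ∑ i, b i • g i) :
    PowSplit ((Matrix.of fun i k' => bF.repr (d (g i)) (cols k')).det * a) d := by
  set Sq : Matrix (Fin c) (Fin c) A := Matrix.of fun i k' => bF.repr (d (g i)) (cols k') with hSq
  refine ⟨1, a • psi bF g cols Sq, ?_⟩
  refine LinearMap.ext fun y => ?_
  obtain ⟨b, hb⟩ := ha y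
  have h1 : (a • psi bF g cols Sq) (d y) = psi bF g cols Sq (d (a • y)) := by
    rw [LinearMap.smul_apply, map_smul, map_smul]
  have h2 : (fun k' => bF.repr (d (a • y)) (cols k')) = b ᵥ* Sq := by
    funext k'
    rw [hb, map_sum, map_sum]
    simp only [map_smul, Finsupp.coe_finsetSum, Finsupp.coe_smul, Finset.sum_apply, Pi.smul_apply,
      smul_eq_mul, Matrix.vecMul, dotProduct, hSq, Matrix.of_apply]
  change (a • psi bF g cols Sq) (d y) = (Sq.det * a) ^ 1 • y
  rw [h1, psi_apply, h2, Matrix.vecMul_vecMul, Matrix.mul_adjugate, Matrix.vecMul_smul,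
    Matrix.vecMul_one, pow_one, mul_smul, hb, Finset.smul_sum]
  refine Finset.sum_congr rfl fun i _ => ?_
  rw [Pi.smul_apply, smul_eq_mul, mul_smul]

end PS

section Smooth

variable {R A : Type u} [CommRing R] [CommRing A] [Algebra R A]

/-- PowSplit implies smoothness on the basic open (no Noetherian hypothesis). -/
theorem mem_smoothLocus_of_powSplit {n : ℕ} (Gn : Algebra.Generators R A (Fin n))
    [Algebra.FinitePresentation R A] (s : A)
    (h : PowSplit s Gn.toExtension.cotangentComplex) (p : PrimeSpectrum A) (hsp : s ∉ p.asIdeal) :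
    p ∈ Algebra.smoothLocus R A := by
  haveI : Module.Projective A Gn.toExtension.CotangentSpace :=
    Module.Projective.of_basis Gn.cotangentSpaceBasis
  have hproj := projective_localized Gn.toExtension.exact_cotangentComplex_toKaehler
    Gn.toExtension.toKaehler_surjective h
  obtain ⟨k, hk⟩ := ker_killed h
  rw [Algebra.smoothLocus_eq_compl_support_inter]
  refine ⟨?_, ?_⟩
  · rw [Set.mem_compl_iff, Module.notMem_support_iff, LocalizedModule.subsingleton_iff]
    intro x
    obtain ⟨y, rfl⟩ := Gn.equivH1Cotangent.surjective x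
    refine ⟨s ^ k, fun hmem => hsp (p.2.mem_of_pow_mem _ hmem), ?_⟩
    rw [← map_smul, LinearEquiv.map_eq_zero_iff]
    exact Subtype.ext (hk y.1 y.2)
  · have hsub : (↑(PrimeSpectrum.basicOpen s) : Set (PrimeSpectrum A)) ⊆
        Module.freeLocus A Ω[A⁄R] := by
      rw [Module.basicOpen_subset_freeLocus_iff]
      exact hproj
    exact hsub hsp

theorem mem_smoothLocus_of_isStrictlyStandard (a : A) (ha : Smoothing.IsStrictlyStandard R A a)
    (p : PrimeSpectrum A) (hap : a ∉ p.asIdeal) : p ∈ Algebra.smoothLocus R A := by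
  classical
  obtain ⟨P, hspan, hkill⟩ := ha
  have hfg : (RingHom.ker P.hom.toRingHom).FG := by
    rw [P.ker_eq]; exact Submodule.fg_span (Set.finite_range _)
  haveI : Algebra.FinitePresentation R A := Algebra.FinitePresentation.of_surjective P.surj hfg
  have hcols : ∃ cols : Fin P.c → Fin P.n,
      P.hom (Smoothing.jacobianMinor P.rel (Fin.castLE P.hcm) cols) ∉ p.asIdeal := by
    by_contra hcon
    push Not at hcon
    apply hap
    have : Ideal.span (Set.range fun cols : Fin P.c → Fin P.n =>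
        P.hom (Smoothing.jacobianMinor P.rel (Fin.castLE P.hcm) cols)) ≤ p.asIdeal :=
      Ideal.span_le.2 (by rintro _ ⟨cols, rfl⟩; exact hcon cols)
    exact this hspan
  obtain ⟨cols, hD⟩ := hcols
  let gc : Fin P.c → (Gen P.hom P.surj).toExtension.Cotangent :=
    fun i => g P.rel P.hom P.surj P.ker_eq (Fin.castLE P.hcm i)
  obtain ⟨a₁, ha₁⟩ := P.surj a
  have hgen : ∀ ℓ : Fin P.m, a • g P.rel P.hom P.surj P.ker_eq ℓ ∈
      Submodule.span A (Set.range gc) := by
    intro ℓ
    by_cases hℓ : (ℓ : ℕ) < P.c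
    · have : g P.rel P.hom P.surj P.ker_eq ℓ = gc ⟨ℓ, hℓ⟩ := by
        show _ = g P.rel P.hom P.surj P.ker_eq (Fin.castLE P.hcm ⟨ℓ, hℓ⟩)
        congr 1
      rw [this]
      exact Submodule.smul_mem _ _ (Submodule.subset_span ⟨_, rfl⟩)
    · have hk := hkill a₁ ha₁ ℓ (not_lt.1 hℓ)
      have himg : P.rel '' {j' : Fin P.m | (j' : ℕ) < P.c} =
          Set.range (P.rel ∘ Fin.castLE P.hcm) := by
        ext x
        constructor
        · rintro ⟨j', hj', rfl⟩
          exact ⟨⟨j', hj'⟩, rfl⟩
        · rintro ⟨i, rfl⟩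
          exact ⟨Fin.castLE P.hcm i, i.2, rfl⟩
      rw [himg] at hk
      have hmemK : toE P.hom P.surj (a₁ * P.rel ℓ) ∈ (Gen P.hom P.surj).toExtension.ker :=
        (mem_ker_iff P.rel P.hom P.surj P.ker_eq _).2
          (Ideal.mul_mem_left _ _ (Ideal.subset_span ⟨ℓ, rfl⟩))
      have hmem := mk_mem_span P.rel P.hom P.surj P.ker_eq (Fin.castLE P.hcm) (a₁ * P.rel ℓ)
        hmemK hk
      have h1 := comb P.rel P.hom P.surj P.ker_eq (fun _ : Fin 1 => ℓ) (fun _ => a₁)
      simp only [Fin.sum_univ_one, ha₁] at h1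
      have h2 : Algebra.Extension.Cotangent.mk ⟨toE P.hom P.surj (a₁ * P.rel ℓ), hmemK⟩ =
          a • g P.rel P.hom P.surj P.ker_eq ℓ := by
        rw [← h1]
      rw [← h2]
      exact hmem
  have hall : ∀ y : (Gen P.hom P.surj).toExtension.Cotangent,
      a • y ∈ Submodule.span A (Set.range gc) := by
    intro y
    obtain ⟨pc, rfl⟩ := exists_comb P.rel P.hom P.surj P.ker_eq y
    rw [Finset.smul_sum]
    refine Submodule.sum_mem _ fun ℓ _ => ?_
    rw [smul_comm]
    exact Submodule.smul_mem _ _ (hgen ℓ)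
  have ha' : ∀ y : (Gen P.hom P.surj).toExtension.Cotangent,
      ∃ b : Fin P.c → A, a • y = ∑ i, b i • gc i := by
    intro y
    obtain ⟨b, hb⟩ := (Submodule.mem_span_range_iff_exists_fun A).1 (hall y)
    exact ⟨b, hb.symm⟩
  have hps := powSplit_of_minor (Gen P.hom P.surj).toExtension.cotangentComplex
    (Gen P.hom P.surj).cotangentSpaceBasis gc cols a ha'
  have hdet : (Matrix.of fun i k' => (Gen P.hom P.surj).cotangentSpaceBasis.repr
      ((Gen P.hom P.surj).toExtension.cotangentComplex (gc i)) (cols k')).det =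
      P.hom (Smoothing.jacobianMinor P.rel (Fin.castLE P.hcm) cols) := by
    unfold Smoothing.jacobianMinor
    rw [AlgHom.map_det]
    congr 1
    ext i k'
    simp only [Matrix.of_apply, gc, coord]
    rfl
  rw [hdet] at hps
  exact mem_smoothLocus_of_powSplit (Gen P.hom P.surj) _ hps p (p.2.mul_notMem hD hap)

end Smooth

end Groth.Agent.Helper2.StdSmoothB
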