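import Mathlib
import Groth.Prelude
import Groth.Agent.Helper2.StdPerm
import Groth.Agent.Helper2.StdSmoothB

set_option autoImplicit false

namespace Groth.Agent.Helper2.SingIdeal

open Function MvPolynomial Algebra Groth.Agent.Helper2.StdPerm Groth.Agent.Helper2.StdSmoothB

universe u

variable {R A : Type u} [CommRing R] [CommRing A] [Algebra R A]

lemma strictlyStandard_of_elementaryStandard (a : A) (h : Smoothing.IsElementaryStandard R A a) :
    Smoothing.IsStrictlyStandard R A a := by
  obtain ⟨P, ⟨a', ha'⟩, hk⟩ := h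
  refine ⟨P, ?_, hk⟩
  rw [ha']
  exact Ideal.mul_mem_left _ _ (Ideal.subset_span ⟨Fin.castLE P.hcn, rfl⟩)

theorem exists_elementaryStandard_of_smooth [Algebra.FinitePresentation R A]
    (q : Ideal A) [q.IsPrime] [Algebra.IsSmoothAt R q] :
    ∃ a, a ∉ q ∧ Smoothing.IsElementaryStandard R A a := by
  obtain ⟨n, φ, hφ, hfg⟩ := Algebra.FinitePresentation.out (R := R) (A := A)
  obtain ⟨m, f, hf⟩ := Submodule.fg_iff_exists_fin_generating_family.1 hfg
  have hker : RingHom.ker φ.toRingHom = Ideal.span (Set.range f) := hf.symm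
  obtain ⟨a, haq, c, rows, cols, a', ha, hkill⟩ :=
    Groth.Agent.Helper2.StdElem.s2108 f φ hφ hker q
  exact ⟨a, haq, exists_elementaryStandard_of_data f φ hφ hker rows cols a a' ha hkill⟩

theorem s2026 [Algebra.FinitePresentation R A] :
    Smoothing.singularIdeal R A =
        (Ideal.span {a : A | Smoothing.IsStrictlyStandard R A a}).radical ∧
      Smoothing.singularIdeal R A =
        (Ideal.span {a : A | Smoothing.IsElementaryStandard R A a}).radical := by
  have h1 : (Ideal.span {a : A | Smoothing.IsStrictlyStandard R A a}).radical ≤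
      Smoothing.singularIdeal R A := by
    unfold Smoothing.singularIdeal
    rw [(PrimeSpectrum.isRadical_vanishingIdeal _).radical_le_iff]
    apply Ideal.span_le.2
    intro a ha
    rw [SetLike.mem_coe, PrimeSpectrum.mem_vanishingIdeal]
    intro x hx
    by_contra hax
    exact hx (mem_smoothLocus_of_isStrictlyStandard a ha x hax)
  have h2 : Smoothing.singularIdeal R A ≤
      (Ideal.span {a : A | Smoothing.IsElementaryStandard R A a}).radical := by
    intro x hx
    rw [Ideal.radical_eq_sInf, Ideal.mem_sInf]
    rintro J ⟨hJ, hJp⟩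
    unfold Smoothing.singularIdeal at hx
    rw [PrimeSpectrum.mem_vanishingIdeal] at hx
    refine hx ⟨J, hJp⟩ ?_
    intro hsm
    haveI : Algebra.IsSmoothAt R J := hsm
    obtain ⟨a, haJ, haES⟩ := exists_elementaryStandard_of_smooth (R := R) J
    exact haJ (hJ (Ideal.subset_span haES))
  have h3 : (Ideal.span {a : A | Smoothing.IsElementaryStandard R A a}).radical ≤
      (Ideal.span {a : A | Smoothing.IsStrictlyStandard R A a}).radical :=
    Ideal.radical_mono (Ideal.span_mono fun a ha => strictlyStandard_of_elementaryStandard a ha)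
  exact ⟨le_antisymm (h2.trans h3) h1, le_antisymm h2 (h3.trans h1)⟩

end Groth.Agent.Helper2.SingIdeal
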