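import Mathlib
import Groth.Prelude
import Groth.Agent.Helper2.SingIdeal
import Groth.Agent.Helper2.DesgF

set_option autoImplicit false

namespace Groth.Agent.Helper2.Desg

open Function MvPolynomial Algebra

universe u

theorem pow_four_smul_eq_zero {R Λ : Type u} [CommRing R] [CommRing Λ] [Algebra R Λ] (π : R)
    (hΛ : ∀ x : Λ, π ^ 2 • x = 0 → π • x = 0) (θ : Λ) (h : π ^ 4 • θ = 0) : π • θ = 0 := by
  have h1 : π ^ 2 • (π ^ 2 • θ) = 0 := by rw [smul_smul, ← pow_add]; exact h
  have h2 : π • (π ^ 2 • θ) = 0 := hΛ _ h1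
  have h3 : π ^ 2 • (π • θ) = 0 := by rw [smul_comm]; exact h2
  have h4 : π • (π • θ) = 0 := hΛ _ h3
  apply hΛ
  rw [pow_two, mul_smul]
  exact h4

set_option maxHeartbeats 3200000 in
theorem main {R Λ A : Type u} [CommRing R] [CommRing Λ]
    [Algebra R Λ] (π : R) (hΛ : ∀ x : Λ, π ^ 2 • x = 0 → π • x = 0) [CommRing A] [Algebra R A]
    [Algebra.FinitePresentation R A] (φ : A →ₐ[R] Λ)
    (hπ : Smoothing.IsStrictlyStandard R A (algebraMap R A π))
    (ρ : A →ₐ[R] R ⧸ Ideal.span {π ^ 4})
    (hρ : ∀ (a : A) (r : R), Ideal.Quotient.mk (Ideal.span {π ^ 4}) r = ρ a →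
      algebraMap R Λ r - φ a ∈ Ideal.span {algebraMap R Λ (π ^ 4)}) :
    ∃ (B : Type u) (_ : CommRing B) (_ : Algebra R B), Algebra.FinitePresentation R B ∧
      ∃ (α : A →ₐ[R] B) (β : B →ₐ[R] Λ), β.comp α = φ ∧
        ∀ r : R, (∀ x : R, π ^ 2 * x = 0 → π * (r * x) = 0) →
          algebraMap R B r ∈ Smoothing.singularIdeal R B := by
  classical
  obtain ⟨P, hspan, hkillP⟩ := hπ
  obtain ⟨n, m, c, hcn, hcm, f, hom, hsurj, hker⟩ := P
  simp only at hspan hkillP
  have hhomf : ∀ j, hom (f j) = 0 := by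
    intro j
    have : f j ∈ RingHom.ker hom.toRingHom := by
      rw [hker]
      exact Ideal.subset_span (Set.mem_range_self j)
    exact this
  -- the base point
  choose r hr using fun i : Fin n => Ideal.Quotient.mk_surjective (ρ (hom (X i)))
  have hρhom : ∀ F : MvPolynomial (Fin n) R,
      ρ (hom F) = Ideal.Quotient.mk (Ideal.span {π ^ 4}) (eval r F) := by
    intro F
    have : ρ.comp hom = (Ideal.Quotient.mkₐ R (Ideal.span {π ^ 4})).comp (aeval r) := by
      apply MvPolynomial.algHom_ext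
      intro i
      simp only [AlgHom.comp_apply, aeval_X]
      exact (hr i).symm
    have h2 := congrArg (fun k : MvPolynomial (Fin n) R →ₐ[R] R ⧸ Ideal.span {π ^ 4} => k F) this
    simp only [AlgHom.comp_apply] at h2
    rw [h2]
    rfl
  have htex : ∀ j, ∃ t : R, eval r (f j) = π ^ 4 * t := by
    intro j
    have h1 := hρhom (f j)
    rw [hhomf, map_zero, eq_comm, Ideal.Quotient.eq_zero_iff_mem, Ideal.mem_span_singleton'] at h1
    obtain ⟨a, ha⟩ := h1
    exact ⟨a, by rw [← ha, mul_comm]⟩
  choose t ht using htex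
  -- the relation for π
  rw [Ideal.mem_span_range_iff_exists_fun] at hspan
  obtain ⟨acoef, hacoef⟩ := hspan
  choose alift halift using fun cols => hsurj (acoef cols)
  set Mr : Matrix (Fin c) (Fin n) R := Matrix.of fun (j : Fin c) (i : Fin n) =>
    rr f r (Fin.castLE hcm j) i with hMr
  have hminor : ∀ cols : Fin c → Fin n,
      eval r (Smoothing.jacobianMinor f (Fin.castLE hcm) cols) = (Mr.submatrix id cols).det := by
    intro cols
    unfold Smoothing.jacobianMinor
    rw [RingHom.map_det]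
    rfl
  have hπrel : ∃ e₀ : R, π - ∑ cols : Fin c → Fin n,
      eval r (alift cols) * (Mr.submatrix id cols).det = e₀ * π ^ 4 := by
    have h1 := congrArg ρ hacoef
    rw [map_sum, AlgHom.commutes] at h1
    have h2 : ∀ cols : Fin c → Fin n,
        ρ (acoef cols * hom (Smoothing.jacobianMinor f (Fin.castLE hcm) cols)) =
        Ideal.Quotient.mk (Ideal.span {π ^ 4})
          (eval r (alift cols) * (Mr.submatrix id cols).det) := by
      intro cols
      rw [← halift, ← map_mul, hρhom, map_mul, hminor]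
    simp only [h2] at h1
    rw [← map_sum] at h1
    have h3 : Ideal.Quotient.mk (Ideal.span {π ^ 4}) (π - ∑ cols : Fin c → Fin n,
        eval r (alift cols) * (Mr.submatrix id cols).det) = 0 := by
      rw [map_sub, h1, sub_eq_zero]
      rfl
    rw [Ideal.Quotient.eq_zero_iff_mem, Ideal.mem_span_singleton'] at h3
    obtain ⟨a, ha⟩ := h3
    exact ⟨a, ha.symm⟩
  obtain ⟨e₀, he₀⟩ := hπrel
  set u : R := 1 - π ^ 3 * e₀ with hu
  have hu' : u = 1 + π * (-(π ^ 2 * e₀)) := by rw [hu]; ring
  have hU : u * π = ∑ cols : Fin c → Fin n,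
      eval r (alift cols) * (Mr.submatrix id cols).det := by
    have : ∑ cols : Fin c → Fin n, eval r (alift cols) * (Mr.submatrix id cols).det =
        π - e₀ * π ^ 4 := by rw [← he₀]; ring
    rw [this, hu]
    ring
  obtain ⟨s, hs⟩ := exists_right_inverse_of_sum_minors Mr (fun cols => eval r (alift cols))
    (u * π) hU
  have hkill : ∀ j : Fin m, c ≤ (j : ℕ) → C π * f j ∈
      Ideal.span (f '' {j' : Fin m | (j' : ℕ) < c}) ⊔ Ideal.span (Set.range f) ^ 2 := by
    intro j hj
    refine hkillP (C π) ?_ j hj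
    rw [← MvPolynomial.algebraMap_eq, AlgHom.commutes]
  -- the algebra
  let IBi : Ideal (TT R c n) := IB f r π s t u hcm
  let mkB : TT R c n →ₐ[R] (TT R c n ⧸ IBi) := Ideal.Quotient.mkₐ R IBi
  have hmkft : ∀ j, mkB (ft f r π s j) = 0 := by
    intro j
    exact Ideal.Quotient.eq_zero_iff_mem.mpr (ft_mem_IB f r π s t u hcm j)
  have hmkIg : ∀ x ∈ Ig f r π s t u hcm, mkB x = 0 := by
    intro x hx
    exact Ideal.Quotient.eq_zero_iff_mem.mpr (Ig_le_IB f r π s t u hcm hx)
  let α₀ : MvPolynomial (Fin n) R →ₐ[R] (TT R c n ⧸ IBi) := mkB.comp (aeval (xi r π s))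
  have hα₀ : RingHom.ker hom.toRingHom ≤ RingHom.ker α₀.toRingHom := by
    rw [hker, Ideal.span_le]
    rintro _ ⟨j, rfl⟩
    exact hmkft j
  let α : A →ₐ[R] (TT R c n ⧸ IBi) := AlgHom.liftOfSurjective hom hsurj α₀ hα₀
  have hαhom : ∀ F, α (hom F) = mkB (aeval (xi r π s) F) := by
    intro F
    exact AlgHom.liftOfSurjective_apply hom hsurj α₀ hα₀ F
  -- the map to Λ
  have hlam : ∀ i : Fin n, ∃ l : Λ, φ (hom (X i)) = algebraMap R Λ (r i) - algebraMap R Λ (π ^ 4) * l := by
    intro i
    have h1 := hρ (hom (X i)) (r i) (hr i)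
    rw [Ideal.mem_span_singleton'] at h1
    obtain ⟨l, hl⟩ := h1
    refine ⟨l, ?_⟩
    rw [mul_comm, hl]
    ring
  choose lam hlam' using hlam
  let wv : Fin n → Λ := fun i => -(algebraMap R Λ π * lam i)
  let ev : TT R c n →ₐ[R] Λ := aeval (Sum.elim (fun _ => 0) wv)
  have hevxi : ∀ i, ev (xi r π s i) = φ (hom (X i)) := by
    intro i
    rw [hlam']
    simp only [xi, yy, ev, map_add, map_mul, map_sum, aeval_C, aeval_X, Sum.elim_inl, Sum.elim_inr,
      mul_zero, Finset.sum_const_zero, zero_add, wv, map_pow]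
    ring
  have hevcomp : ∀ F : MvPolynomial (Fin n) R, ev (aeval (xi r π s) F) = φ (hom F) := by
    intro F
    have : ev.comp (aeval (xi r π s)) = φ.comp hom := by
      apply MvPolynomial.algHom_ext
      intro i
      simp only [AlgHom.comp_apply, aeval_X]
      exact hevxi i
    exact congrArg (fun k : MvPolynomial (Fin n) R →ₐ[R] Λ => k F) this
  have hevft : ∀ j, ev (ft f r π s j) = 0 := by
    intro j
    show ev (aeval (xi r π s) (f j)) = 0
    rw [hevcomp, hhomf, map_zero]
  have hevgg : ∀ j, ev (gg f r π s t u hcm j) = 0 := by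
    intro j
    have h1 : π ^ 3 • ev (gg f r π s t u hcm j) = 0 := by
      rw [← map_smul, MvPolynomial.smul_eq_C_mul, ← ft_eq_gg f r π s t u hcm ht hs, hevft]
    have h2 : ∃ θ : Λ, ev (gg f r π s t u hcm j) = π • θ := by
      refine ⟨-(∑ i, algebraMap R Λ (rr f r (Fin.castLE hcm j) i) * lam i) +
        ev (C (t (Fin.castLE hcm j)) + QQ f r π s (Fin.castLE hcm j)), ?_⟩
      simp only [gg, ev, map_add, map_mul, map_sum, aeval_C, aeval_X, Sum.elim_inl, Sum.elim_inr,
        mul_zero, zero_add, wv, Algebra.smul_def, Finset.mul_sum, Finset.sum_neg_distrib,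
        mul_neg, mul_add]
      congr 2
      apply Finset.sum_congr rfl
      intro i _
      ring
    obtain ⟨θ, hθ⟩ := h2
    rw [hθ]
    apply pow_four_smul_eq_zero π hΛ
    rw [hθ, smul_smul] at h1
    have h4 : π ^ 4 = π ^ 3 * π := by ring
    rw [h4]
    exact h1
  have hevI : ∀ x ∈ IBi, ev x = 0 := by
    intro x hx
    have hle : IBi ≤ RingHom.ker ev.toRingHom := by
      show Ideal.span _ ≤ _
      rw [Ideal.span_le]
      rintro _ ⟨ℓ, rfl⟩
      rcases ℓ with j | j
      · exact hevgg j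
      · exact hevft j
    exact hle hx
  let β : (TT R c n ⧸ IBi) →ₐ[R] Λ := Ideal.Quotient.liftₐ IBi ev hevI
  have hfp : Algebra.FinitePresentation R (TT R c n ⧸ IBi) :=
    Algebra.FinitePresentation.quotient (Submodule.fg_span (Set.finite_range _))
  refine ⟨TT R c n ⧸ IBi, inferInstance, inferInstance, hfp, α, β, ?_, ?_⟩
  · apply AlgHom.ext
    intro a
    obtain ⟨F, rfl⟩ := hsurj a
    show β (α (hom F)) = φ (hom F)
    rw [hαhom]
    exact hevcomp F
  · intro ρ' hρ'
    unfold Smoothing.singularIdeal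
    rw [PrimeSpectrum.mem_vanishingIdeal]
    intro 𝔮 h𝔮
    by_contra hρ𝔮
    have hes : ∀ e : TT R c n ⧸ IBi, Smoothing.IsElementaryStandard R (TT R c n ⧸ IBi) e →
        e ∈ 𝔮.asIdeal := by
      intro e he
      have h1 : e ∈ Smoothing.singularIdeal R (TT R c n ⧸ IBi) := by
        rw [(SingIdeal.s2026 (R := R) (A := TT R c n ⧸ IBi)).2]
        exact Ideal.le_radical (Ideal.subset_span he)
      unfold Smoothing.singularIdeal at h1
      rw [PrimeSpectrum.mem_vanishingIdeal] at h1
      exact h1 𝔮 h𝔮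
    have hmkC : ∀ a : R, mkB (C a) = algebraMap R (TT R c n ⧸ IBi) a := by
      intro a
      rw [← MvPolynomial.algebraMap_eq, AlgHom.commutes]
    by_cases hπ𝔮 : algebraMap R (TT R c n ⧸ IBi) π ∈ 𝔮.asIdeal
    · -- second family
      obtain ⟨E, K, hE1, hE2⟩ := exists_E f r π s t u hcm ht hs hkill ρ' hρ'
      have h1 := hes _ (elemStd_B f r π s t u hcm ht hs hkill ⟨Sum.inl, Sum.inl_injective⟩ E
        (fun j => Ideal.mem_sup_left (hE1 j)))
      have hDv : mkB (Dv f r π s t u hcm) ∉ 𝔮.asIdeal := by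
        intro hmem
        have h2 := Dv_sub_one_mem f r π s t u hcm _ hu'
        rw [Ideal.mem_span_singleton'] at h2
        obtain ⟨a, ha⟩ := h2
        have h3 : mkB (Dv f r π s t u hcm) - 1 = mkB a * algebraMap R _ π := by
          rw [← hmkC, ← map_mul, ha, map_sub, map_one]
        have h4 : (1 : TT R c n ⧸ IBi) ∈ 𝔮.asIdeal := by
          have : (1 : TT R c n ⧸ IBi) = mkB (Dv f r π s t u hcm) - mkB a * algebraMap R _ π := by
            rw [← h3]
            ring
          rw [this]
          exact Ideal.sub_mem _ hmem (Ideal.mul_mem_left _ _ hπ𝔮)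
        exact 𝔮.isPrime.ne_top ((Ideal.eq_top_iff_one _).mpr h4)
      have hEq : mkB E ∉ 𝔮.asIdeal := by
        intro hmem
        obtain ⟨x, hx, y, hy, hxy⟩ := Submodule.mem_sup.mp hE2
        rw [Ideal.mem_span_singleton'] at hy
        obtain ⟨a, rfl⟩ := hy
        have h2 : mkB E - (mkB (Dv f r π s t u hcm) ^ K * algebraMap R _ (ρ' ^ 2)) ^ m =
            mkB a * algebraMap R _ π := by
          have := congrArg mkB hxy
          rw [map_add, hmkIg x hx, zero_add, map_mul, hmkC, map_sub, map_pow, map_mul, map_pow,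
            hmkC] at this
          exact this.symm
        have h3 : (mkB (Dv f r π s t u hcm) ^ K * algebraMap R _ (ρ' ^ 2)) ^ m ∈ 𝔮.asIdeal := by
          have : (mkB (Dv f r π s t u hcm) ^ K * algebraMap R _ (ρ' ^ 2)) ^ m =
              mkB E - mkB a * algebraMap R _ π := by
            rw [← h2]
            ring
          rw [this]
          exact Ideal.sub_mem _ hmem (Ideal.mul_mem_left _ _ hπ𝔮)
        have h4 := 𝔮.isPrime.mem_of_pow_mem _ h3
        rcases 𝔮.isPrime.mem_or_mem h4 with h5 | h5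
        · exact hDv (𝔮.isPrime.mem_of_pow_mem _ h5)
        · rw [map_pow] at h5
          exact hρ𝔮 (𝔮.isPrime.mem_of_pow_mem _ h5)
      have h2 : mkB E * mkB (Dv f r π s t u hcm) ∈ 𝔮.asIdeal := by
        rw [← map_mul]
        exact h1
      rcases 𝔮.isPrime.mem_or_mem h2 with h3 | h3
      · exact hEq h3
      · exact hDv h3
    · -- first family
      have hrel : algebraMap R (TT R c n ⧸ IBi) π ^ (3 * c + 1) =
          ∑ cols : Fin c → Fin n, α (acoef cols) * mkB (C (π ^ (3 * c)) *
            Matrix.det (Matrix.of fun j k : Fin c =>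
              pderiv (Sum.inr (cols k) : Fin c ⊕ Fin n) (gg f r π s t u hcm j))) := by
        have h1 := congrArg α hacoef
        rw [map_sum, AlgHom.commutes] at h1
        have h2 : algebraMap R (TT R c n ⧸ IBi) π ^ (3 * c + 1) =
            algebraMap R (TT R c n ⧸ IBi) π ^ (3 * c) *
              ∑ i, α (acoef i * hom (Smoothing.jacobianMinor f (Fin.castLE hcm) i)) := by
          rw [h1, pow_succ]
        rw [h2, Finset.mul_sum]
        apply Finset.sum_congr rfl
        intro cols _
        rw [pi_pow_mul_minor f r π s t u hcm ht hs cols, map_mul α, hαhom, map_mul mkB, hmkC,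
          map_pow]
        ring
      have hex : ∃ cols : Fin c → Fin n, mkB (Matrix.det (Matrix.of fun j k : Fin c =>
              pderiv (Sum.inr (cols k) : Fin c ⊕ Fin n) (gg f r π s t u hcm j))) ∉ 𝔮.asIdeal := by
        by_contra hall
        push_neg at hall
        apply hπ𝔮
        apply 𝔮.isPrime.mem_of_pow_mem (3 * c + 1)
        rw [hrel]
        apply Ideal.sum_mem
        intro cols _
        rw [map_mul mkB]
        exact Ideal.mul_mem_left _ _ (Ideal.mul_mem_left _ _ (hall cols))
      obtain ⟨cols, hcols⟩ := hex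
      have hinj : Injective cols := by
        intro k₁ k₂ hk
        by_contra hne
        apply hcols
        have : Matrix.det (Matrix.of fun j k : Fin c =>
            pderiv (Sum.inr (cols k) : Fin c ⊕ Fin n) (gg f r π s t u hcm j)) = 0 := by
          apply Matrix.det_zero_of_column_eq hne
          intro j
          simp only [Matrix.of_apply, hk]
        rw [this, map_zero]
        exact Ideal.zero_mem _
      let cols' : Fin c ↪ Fin c ⊕ Fin n := ⟨fun k => Sum.inr (cols k), fun a b h =>
        hinj (Sum.inr_injective h)⟩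
      have h1 := hes _ (elemStd_B f r π s t u hcm ht hs hkill cols' (C π)
        (fun j => kill_B f r π s t u hcm ht hs hkill j))
      have h2 : mkB (C π) * mkB (Matrix.det (Matrix.of fun j k : Fin c =>
              pderiv (Sum.inr (cols k) : Fin c ⊕ Fin n) (gg f r π s t u hcm j))) ∈ 𝔮.asIdeal := by
        rw [← map_mul]
        exact h1
      rcases 𝔮.isPrime.mem_or_mem h2 with h3 | h3
      · rw [hmkC] at h3
        exact hπ𝔮 h3
      · exact hcols h3

end Groth.Agent.Helper2.Desg
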