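import Mathlib
import Groth.Prelude
import Groth.Agent.Helper2.DesgA

set_option autoImplicit false

namespace Groth.Agent.Helper2.Desg

open Function Algebra

universe u

/-- smoothness at a prime is transitive -/
theorem isSmoothAt_trans {R D B : Type u} [CommRing R] [CommRing D] [CommRing B] [Algebra R D]
    [Algebra D B] [Algebra R B] [IsScalarTower R D B] (P : Ideal B) [P.IsPrime]
    (h1 : Algebra.IsSmoothAt D P) (h2 : Algebra.IsSmoothAt R (P.comap (algebraMap D B))) :
    Algebra.IsSmoothAt R P := by
  let q : Ideal D := P.comap (algebraMap D B)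
  letI : Algebra (Localization.AtPrime q) (Localization.AtPrime P) :=
    (Localization.localRingHom q P (algebraMap D B) rfl).toAlgebra
  haveI : IsScalarTower D (Localization.AtPrime q) (Localization.AtPrime P) :=
    IsScalarTower.of_algebraMap_eq' (by
      ext x
      show algebraMap D (Localization.AtPrime P) x =
        Localization.localRingHom q P (algebraMap D B) rfl (algebraMap D (Localization.AtPrime q) x)
      rw [Localization.localRingHom_to_map, IsScalarTower.algebraMap_apply D B])
  haveI : IsScalarTower R (Localization.AtPrime q) (Localization.AtPrime P) :=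
    IsScalarTower.of_algebraMap_eq' (by
      ext x
      rw [RingHom.comp_apply, IsScalarTower.algebraMap_apply R D (Localization.AtPrime q),
        ← IsScalarTower.algebraMap_apply D (Localization.AtPrime q) (Localization.AtPrime P),
        IsScalarTower.algebraMap_apply R D (Localization.AtPrime P)])
  haveI : Algebra.FormallySmooth D (Localization.AtPrime P) := h1
  haveI : Algebra.FormallySmooth R (Localization.AtPrime q) := h2
  haveI : Algebra.FormallySmooth (Localization.AtPrime q) (Localization.AtPrime P) :=
    Algebra.FormallySmooth.localization_base q.primeCompl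
  exact Algebra.FormallySmooth.comp R (Localization.AtPrime q) (Localization.AtPrime P)

/-- at a smooth point of `D` over `R`, the ideal `Ann(Ann(π²)/Ann(π))` of `D` is not contained in
the prime. -/
theorem exists_ann_notMem {R D : Type u} [CommRing R] [IsNoetherianRing R] [CommRing D]
    [Algebra R D] [Algebra.FinitePresentation R D] (π : R)
    (hR : ∀ r : R, π ^ 2 * r = 0 → π * r = 0) (q : Ideal D) [q.IsPrime]
    (hq : Algebra.IsSmoothAt R q) :
    ∃ d : D, d ∉ q ∧ ∀ x : D, (algebraMap R D π) ^ 2 * x = 0 →
      algebraMap R D π * (d * x) = 0 := by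
  classical
  haveI : Algebra.IsSmoothAt R q := hq
  obtain ⟨f, hfq, hsm⟩ := Algebra.IsSmoothAt.exists_notMem_smooth R q
  haveI : Module.Flat R (Localization.Away f) := inferInstance
  haveI : IsNoetherianRing D := Algebra.FiniteType.isNoetherianRing R D
  set J : Ideal D := (Ideal.span {(algebraMap R D π) ^ 2}).annihilator with hJ
  have hJmem : ∀ x : D, x ∈ J ↔ (algebraMap R D π) ^ 2 * x = 0 := by
    intro x
    rw [hJ, Submodule.mem_annihilator_span_singleton, smul_eq_mul, mul_comm]
  have hJfg : J.FG := (inferInstance : IsNoetherian D D).noetherian J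
  obtain ⟨n, g, hg⟩ := Submodule.fg_iff_exists_fin_generating_family.mp hJfg
  have hk : ∀ i : Fin n, ∃ k : ℕ, f ^ k * (algebraMap R D π * g i) = 0 := by
    intro i
    have hgi : (algebraMap R D π) ^ 2 * g i = 0 := by
      rw [← hJmem, ← hg]
      exact Submodule.subset_span ⟨i, rfl⟩
    have h1 : (π ^ 2) • (algebraMap D (Localization.Away f) (g i)) = 0 := by
      rw [Algebra.smul_def, IsScalarTower.algebraMap_apply R D (Localization.Away f), ← map_mul,
        map_pow, hgi, map_zero]
    have h2 := smul_eq_zero_of_flat (π ^ 2) 1 π (fun a ha => by rw [one_mul]; exact hR a ha) _ h1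
    rw [one_smul, Algebra.smul_def, IsScalarTower.algebraMap_apply R D (Localization.Away f),
      ← map_mul, IsLocalization.map_eq_zero_iff (Submonoid.powers f)] at h2
    obtain ⟨⟨_, k, rfl⟩, hk⟩ := h2
    exact ⟨k, hk⟩
  choose k hk using hk
  let K : ℕ := ∑ i, k i
  have hK : ∀ i : Fin n, f ^ K * (algebraMap R D π * g i) = 0 := by
    intro i
    have hle : k i ≤ K := Finset.single_le_sum (f := k) (fun _ _ => Nat.zero_le _)
      (Finset.mem_univ i)
    obtain ⟨k', hk'⟩ := Nat.exists_eq_add_of_le hle
    rw [hk', pow_add, mul_comm (f ^ k i), mul_assoc, hk, mul_zero]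
  refine ⟨f ^ K, fun h => hfq (Ideal.IsPrime.mem_of_pow_mem inferInstance _ h), ?_⟩
  have hall : ∀ x ∈ Submodule.span D (Set.range g), algebraMap R D π * (f ^ K * x) = 0 := by
    intro x hxJ
    induction hxJ using Submodule.span_induction with
    | mem x hx =>
      obtain ⟨i, rfl⟩ := hx
      rw [← hK i]
      ring
    | zero => simp
    | add x y _ _ hx hy =>
      rw [mul_add, mul_add, hx, hy, add_zero]
    | smul a x _ hx =>
      rw [smul_eq_mul]
      have : algebraMap R D π * (f ^ K * (a * x)) = a * (algebraMap R D π * (f ^ K * x)) := by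
        ring
      rw [this, hx, mul_zero]
  intro x hx
  apply hall
  rw [hg, hJmem]
  exact hx

end Groth.Agent.Helper2.Desg
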