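import Mathlib
import Groth.Prelude

set_option autoImplicit false

namespace Groth.Agent.Helper2.StdBC

open TensorProduct MvPolynomial Smoothing

universe u

variable {R A : Type u} [CommRing R] [CommRing A] [Algebra R A]
  (R' : Type u) [CommRing R'] [Algebra R R']

/-- the Mathlib presentation attached to a marked presentation. -/
noncomputable def toPres (P : MarkedPresentation R A) :
    Algebra.Presentation R A (Fin P.n) (Fin P.m) where
  toGenerators := Algebra.Generators.ofSurjective (fun i => P.hom (X i)) (by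
    have : (MvPolynomial.aeval fun i => P.hom (X i)) = P.hom := by
      apply MvPolynomial.algHom_ext
      intro i
      simp
    rw [this]
    exact P.surj)
  relation := P.rel
  span_range_relation_eq_ker := by
    rw [Algebra.Generators.ker_eq_ker_aeval_val]
    have : (MvPolynomial.aeval fun i => P.hom (X i)) = P.hom := by
      apply MvPolynomial.algHom_ext
      intro i
      simp
    change _ = RingHom.ker (MvPolynomial.aeval fun i => P.hom (X i))
    ext x
    rw [← P.ker_eq, RingHom.mem_ker, RingHom.mem_ker]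
    have hx : (MvPolynomial.aeval fun i => P.hom (X i)) x = P.hom x := by rw [this]
    rw [hx]
    rfl

/-- the base-changed homomorphism. -/
noncomputable def hom' (P : MarkedPresentation R A) :
    MvPolynomial (Fin P.n) R' →ₐ[R'] R' ⊗[R] A :=
  MvPolynomial.aeval (fun i => (1 : R') ⊗ₜ[R] P.hom (X i))

theorem hom'_map (P : MarkedPresentation R A) (p : MvPolynomial (Fin P.n) R) :
    hom' R' P (MvPolynomial.map (algebraMap R R') p) = (1 : R') ⊗ₜ[R] P.hom p := by
  induction p using MvPolynomial.induction_on with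
  | C r =>
    rw [MvPolynomial.map_C, ← MvPolynomial.algebraMap_eq, AlgHom.commutes,
      ← MvPolynomial.algebraMap_eq, AlgHom.commutes, Algebra.TensorProduct.algebraMap_apply,
      Algebra.algebraMap_self_apply, Algebra.algebraMap_eq_smul_one r (A := R'), smul_tmul,
      ← Algebra.algebraMap_eq_smul_one]
  | add p q hp hq => rw [map_add, map_add, hp, hq, map_add, tmul_add]
  | mul_X p i hp =>
    rw [map_mul, map_mul, hp, MvPolynomial.map_X, map_mul]
    simp [hom']

/-- the base change of a marked presentation. -/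
noncomputable def bc (P : MarkedPresentation R A) : MarkedPresentation R' (R' ⊗[R] A) where
  n := P.n
  m := P.m
  c := P.c
  hcn := P.hcn
  hcm := P.hcm
  rel := fun j => MvPolynomial.map (algebraMap R R') (P.rel j)
  hom := hom' R' P
  surj := by
    have h := ((toPres P).toGenerators.baseChange R').algebraMap_surjective
    rw [Algebra.Generators.algebraMap_eq] at h
    exact h
  ker_eq := ((toPres P).span_range_relation_eq_ker_baseChange R').symm

theorem jacobianMinor_map {n m c : ℕ} (f : Fin m → MvPolynomial (Fin n) R)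
    (rows : Fin c → Fin m) (cols : Fin c → Fin n) :
    jacobianMinor (fun j => MvPolynomial.map (algebraMap R R') (f j)) rows cols =
      MvPolynomial.map (algebraMap R R') (jacobianMinor f rows cols) := by
  unfold jacobianMinor
  rw [RingHom.map_det]
  congr 1
  ext j k
  simp [MvPolynomial.pderiv_map]

theorem killsTail_bc_aux (P : MarkedPresentation R A) (a : A) (h : KillsTail P a)
    (a'' : MvPolynomial (Fin P.n) R') (ha'' : hom' R' P a'' = (1 : R') ⊗ₜ[R] a) (j : Fin P.m)
    (hj : P.c ≤ (j : ℕ)) :
    a'' * MvPolynomial.map (algebraMap R R') (P.rel j) ∈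
      Ideal.span ((fun j => MvPolynomial.map (algebraMap R R') (P.rel j)) ''
        {j' : Fin P.m | (j' : ℕ) < P.c}) ⊔
      Ideal.span (Set.range fun j => MvPolynomial.map (algebraMap R R') (P.rel j)) ^ 2 := by
  obtain ⟨a₀, ha₀⟩ := P.surj a
  have h1 := h a₀ ha₀ j hj
  set φ : MvPolynomial (Fin P.n) R →+* MvPolynomial (Fin P.n) R' :=
    MvPolynomial.map (algebraMap R R') with hφ
  have h2 : φ (a₀ * P.rel j) ∈ (Ideal.span (P.rel '' {j' : Fin P.m | (j' : ℕ) < P.c}) ⊔
      Ideal.span (Set.range P.rel) ^ 2).map φ := Ideal.mem_map_of_mem φ h1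
  rw [Ideal.map_sup, Ideal.map_pow, Ideal.map_span, Ideal.map_span, ← Set.image_comp,
    ← Set.range_comp, map_mul] at h2
  have h3 : a'' - φ a₀ ∈ Ideal.span (Set.range fun j => φ (P.rel j)) := by
    have hk := (bc R' P).ker_eq
    change RingHom.ker (hom' R' P).toRingHom = Ideal.span (Set.range fun j => φ (P.rel j)) at hk
    rw [← hk, RingHom.mem_ker]
    change hom' R' P (a'' - φ a₀) = 0
    rw [map_sub, ha'', hφ, hom'_map, ha₀, sub_self]
  have h4 : φ (P.rel j) ∈ Ideal.span (Set.range fun j => φ (P.rel j)) :=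
    Ideal.subset_span ⟨j, rfl⟩
  have h5 : (a'' - φ a₀) * φ (P.rel j) ∈ Ideal.span (Set.range fun j => φ (P.rel j)) ^ 2 := by
    rw [pow_two]; exact Ideal.mul_mem_mul h3 h4
  have h6 : a'' * φ (P.rel j) = φ a₀ * φ (P.rel j) + (a'' - φ a₀) * φ (P.rel j) := by ring
  rw [h6]
  refine Ideal.add_mem _ ?_ (Ideal.mem_sup_right h5)
  exact h2

theorem killsTail_bc (P : MarkedPresentation R A) (a : A) (h : KillsTail P a) :
    KillsTail (bc R' P) ((1 : R') ⊗ₜ[R] a) := by
  intro a'' ha'' j hj
  exact killsTail_bc_aux R' P a h a'' ha'' j hj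

theorem s6829 [Algebra.FinitePresentation R A] (a : A) :
    (Smoothing.IsElementaryStandard R A a →
        Smoothing.IsElementaryStandard R' (R' ⊗[R] A) ((1 : R') ⊗ₜ[R] a)) ∧
      (Smoothing.IsStrictlyStandard R A a →
        Smoothing.IsStrictlyStandard R' (R' ⊗[R] A) ((1 : R') ⊗ₜ[R] a)) := by
  constructor
  · rintro ⟨P, ⟨a', ha'⟩, hk⟩
    refine ⟨bc R' P, ⟨(1 : R') ⊗ₜ[R] a', ?_⟩, killsTail_bc R' P a hk⟩
    change _ = _ * hom' R' P (jacobianMinor (fun j => MvPolynomial.map (algebraMap R R') (P.rel j))
      (Fin.castLE P.hcm) (Fin.castLE P.hcn))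
    rw [jacobianMinor_map, hom'_map, ha', Algebra.TensorProduct.tmul_mul_tmul, one_mul]
  · rintro ⟨P, hmem, hk⟩
    refine ⟨bc R' P, ?_, killsTail_bc R' P a hk⟩
    have h1 := Ideal.mem_map_of_mem
      (Algebra.TensorProduct.includeRight (R := R) (A := R') (B := A)) hmem
    rw [Ideal.map_span, ← Set.range_comp] at h1
    have key : (fun cols : Fin P.c → Fin P.n => hom' R' P (jacobianMinor
        (fun j => MvPolynomial.map (algebraMap R R') (P.rel j)) (Fin.castLE P.hcm) cols)) =
        (Algebra.TensorProduct.includeRight (R := R) (A := R') (B := A)) ∘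
          fun cols : Fin P.c → Fin P.n => P.hom (jacobianMinor P.rel (Fin.castLE P.hcm) cols) := by
      funext cols
      rw [jacobianMinor_map, hom'_map]
      rfl
    change _ ∈ Ideal.span (Set.range fun cols : Fin P.c → Fin P.n => hom' R' P (jacobianMinor
        (fun j => MvPolynomial.map (algebraMap R R') (P.rel j)) (Fin.castLE P.hcm) cols))
    rw [key]
    exact h1

end Groth.Agent.Helper2.StdBC
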