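import Mathlib
import Groth.Prelude
import Groth.Agent.Helper2.DesgG
import Groth.Agent.Helper2.DesgH
import Groth.Agent.Helper2.StdBC

set_option autoImplicit false

namespace Groth.Agent.Helper2.Desg

open Function Algebra TensorProduct

universe u

theorem sing_le_of_kill {R D B : Type u} [CommRing R] [IsNoetherianRing R] [CommRing D]
    [Algebra R D] [Algebra.FinitePresentation R D] [CommRing B] [Algebra R B] [Algebra D B]
    [IsScalarTower R D B] (π : R) (hR : ∀ r : R, π ^ 2 * r = 0 → π * r = 0)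
    (hB : ∀ r : D, (∀ x : D, (algebraMap R D π) ^ 2 * x = 0 → algebraMap R D π * (r * x) = 0) →
      algebraMap D B r ∈ Smoothing.singularIdeal D B) :
    (Smoothing.singularIdeal R D).map (algebraMap D B) ≤ Smoothing.singularIdeal D B ∧
    (Smoothing.singularIdeal R D).map (algebraMap D B) ≤ Smoothing.singularIdeal R B := by
  have hd : (Smoothing.singularIdeal R D).map (algebraMap D B) ≤ Smoothing.singularIdeal D B := by
    rw [Ideal.map_le_iff_le_comap]
    intro h hh
    rw [Ideal.mem_comap]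
    unfold Smoothing.singularIdeal
    rw [PrimeSpectrum.mem_vanishingIdeal]
    intro P hP
    by_contra hcon
    set q : PrimeSpectrum D := PrimeSpectrum.comap (algebraMap D B) P with hqdef
    have hhq : h ∉ q.asIdeal := hcon
    have hq : q ∈ Algebra.smoothLocus R D := by
      by_contra hq
      exact hhq ((PrimeSpectrum.mem_vanishingIdeal _ _).mp hh q hq)
    obtain ⟨d, hdq, hd⟩ := exists_ann_notMem π hR q.asIdeal hq
    have h3 := hB d hd
    unfold Smoothing.singularIdeal at h3
    rw [PrimeSpectrum.mem_vanishingIdeal] at h3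
    exact hdq (h3 P hP)
  refine ⟨hd, ?_⟩
  rw [Ideal.map_le_iff_le_comap]
  intro h hh
  rw [Ideal.mem_comap]
  unfold Smoothing.singularIdeal
  rw [PrimeSpectrum.mem_vanishingIdeal]
  intro P hP
  by_contra hcon
  set q : PrimeSpectrum D := PrimeSpectrum.comap (algebraMap D B) P with hqdef
  have hhq : h ∉ q.asIdeal := hcon
  have hq : q ∈ Algebra.smoothLocus R D := by
    by_contra hq
    exact hhq ((PrimeSpectrum.mem_vanishingIdeal _ _).mp hh q hq)
  have h4 : algebraMap D B h ∈ Smoothing.singularIdeal D B :=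
    hd (Ideal.mem_map_of_mem _ hh)
  have hPD : P ∈ Algebra.smoothLocus D B := by
    by_contra hPD
    unfold Smoothing.singularIdeal at h4
    rw [PrimeSpectrum.mem_vanishingIdeal] at h4
    exact hcon (h4 P hPD)
  exact hP (isSmoothAt_trans P.asIdeal hPD hq)


set_option maxHeartbeats 1600000 in
theorem desing_ss_aux {R Λ A D : Type u} [CommRing R] [IsNoetherianRing R]
    [CommRing Λ] [Algebra R Λ] (π : R) (hR : ∀ r : R, π ^ 2 * r = 0 → π * r = 0)
    (hΛ : ∀ x : Λ, π ^ 2 • x = 0 → π • x = 0) [CommRing A] [Algebra R A]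
    [Algebra.FinitePresentation R A] [CommRing D] [Algebra R D] [Algebra.FinitePresentation R D]
    (φ : A →ₐ[R] Λ) (δ : D →ₐ[R] Λ) (hπ : Smoothing.IsStrictlyStandard R A (algebraMap R A π))
    (t : D) (ht : t = (algebraMap R D π) ^ 4)
    (ψ : A →ₐ[R] D ⧸ Ideal.span {t})
    (hψ : ∀ (a : A) (d : D), Ideal.Quotient.mk (Ideal.span {t}) d = ψ a →
      δ d - φ a ∈ Ideal.span {algebraMap R Λ (π ^ 4)}) :
    ∃ (B : Type u) (_ : CommRing B) (_ : Algebra R B) (_ : Algebra D B) (_ : IsScalarTower R D B),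
      Algebra.FinitePresentation R B ∧
      ∃ (α : A →ₐ[R] B) (β : B →ₐ[R] Λ), β.comp α = φ ∧
        β.comp (IsScalarTower.toAlgHom R D B) = δ ∧
        (Smoothing.singularIdeal R D).map (algebraMap D B) ≤ Smoothing.singularIdeal D B ∧
        (Smoothing.singularIdeal R D).map (algebraMap D B) ≤ Smoothing.singularIdeal R B := by
  classical
  subst ht
  letI algDΛ : Algebra D Λ := δ.toRingHom.toAlgebra
  haveI : IsScalarTower R D Λ := IsScalarTower.of_algebraMap_eq (fun r => (δ.commutes r).symm)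
  have hδ : ∀ d : D, algebraMap D Λ d = δ d := fun _ => rfl
  have hΛ' : ∀ x : Λ, (algebraMap R D π) ^ 2 • x = 0 → (algebraMap R D π) • x = 0 := by
    intro x hx
    rw [← map_pow, algebraMap_smul] at hx
    rw [algebraMap_smul]
    exact hΛ x hx
  have hπ' : Smoothing.IsStrictlyStandard D (D ⊗[R] A)
      (algebraMap D (D ⊗[R] A) (algebraMap R D π)) := by
    have h1 := (Groth.Agent.Helper2.StdBC.s6829 D (algebraMap R A π)).2 hπ
    have h2 : algebraMap D (D ⊗[R] A) (algebraMap R D π) = (1 : D) ⊗ₜ[R] (algebraMap R A π) := by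
      rw [Algebra.TensorProduct.algebraMap_apply, Algebra.algebraMap_self, RingHom.id_apply,
        Algebra.algebraMap_eq_smul_one, Algebra.algebraMap_eq_smul_one, TensorProduct.smul_tmul]
    rw [h2]
    exact h1
  let φ' : D ⊗[R] A →ₐ[D] Λ :=
    Algebra.TensorProduct.lift (Algebra.ofId D Λ) φ (fun _ _ => Commute.all _ _)
  let ρ : D ⊗[R] A →ₐ[D] D ⧸ Ideal.span {(algebraMap R D π) ^ 4} :=
    Algebra.TensorProduct.lift (Algebra.ofId D _) ψ (fun _ _ => Commute.all _ _)
  have hI : algebraMap D Λ ((algebraMap R D π) ^ 4) = algebraMap R Λ (π ^ 4) := by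
    rw [← map_pow, ← IsScalarTower.algebraMap_apply]
  have hex : ∀ a : D ⊗[R] A, ∃ r : D,
      Ideal.Quotient.mk (Ideal.span {(algebraMap R D π) ^ 4}) r = ρ a ∧
      algebraMap D Λ r - φ' a ∈ Ideal.span {algebraMap R Λ (π ^ 4)} := by
    intro a
    induction a using TensorProduct.induction_on with
    | zero => exact ⟨0, by simp, by simp⟩
    | tmul d a =>
      obtain ⟨d₀, hd₀⟩ := Ideal.Quotient.mk_surjective (ψ a)
      refine ⟨d * d₀, ?_, ?_⟩
      · simp only [ρ, Algebra.TensorProduct.lift_tmul, map_mul, hd₀]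
        rfl
      · have h3 := hψ a d₀ hd₀
        have h4 : algebraMap D Λ (d * d₀) - φ' (d ⊗ₜ[R] a) = δ d * (δ d₀ - φ a) := by
          simp only [φ', Algebra.TensorProduct.lift_tmul, map_mul, hδ]
          rw [mul_sub]
          rfl
        rw [h4]
        exact Ideal.mul_mem_left _ _ h3
    | add x y hx hy =>
      obtain ⟨r1, h1, h1'⟩ := hx
      obtain ⟨r2, h2, h2'⟩ := hy
      refine ⟨r1 + r2, by rw [map_add, map_add, h1, h2], ?_⟩
      have : algebraMap D Λ (r1 + r2) - φ' (x + y) =
          (algebraMap D Λ r1 - φ' x) + (algebraMap D Λ r2 - φ' y) := by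
        rw [map_add, map_add]; ring
      rw [this]
      exact Ideal.add_mem _ h1' h2'
  have hρ' : ∀ (a : D ⊗[R] A) (r : D),
      Ideal.Quotient.mk (Ideal.span {(algebraMap R D π) ^ 4}) r = ρ a →
      algebraMap D Λ r - φ' a ∈ Ideal.span {algebraMap D Λ ((algebraMap R D π) ^ 4)} := by
    intro a r hr
    obtain ⟨r', hr', hmem⟩ := hex a
    rw [hI]
    have h5 : r - r' ∈ Ideal.span {(algebraMap R D π) ^ 4} := by
      rw [← Ideal.Quotient.eq, hr, hr']
    obtain ⟨c, hc⟩ := Ideal.mem_span_singleton'.mp h5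
    have h6 : algebraMap D Λ r - φ' a =
        algebraMap D Λ c * algebraMap R Λ (π ^ 4) + (algebraMap D Λ r' - φ' a) := by
      rw [← hI, ← map_mul, hc, map_sub]; ring
    rw [h6]
    exact Ideal.add_mem _ (Ideal.mul_mem_left _ _ (Ideal.subset_span rfl)) hmem
  obtain ⟨B, instB, algDB, hfp, α', β', hβα, hkill⟩ :=
    main (R := D) (algebraMap R D π) hΛ' φ' hπ' ρ hρ'
  letI algRB : Algebra R B := ((algebraMap D B).comp (algebraMap R D)).toAlgebra
  haveI towB : IsScalarTower R D B := IsScalarTower.of_algebraMap_eq (fun _ => rfl)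
  haveI : Algebra.FinitePresentation D B := hfp
  have hfpR : Algebra.FinitePresentation R B := Algebra.FinitePresentation.trans R D B
  refine ⟨B, instB, algRB, algDB, towB, hfpR,
    (α'.restrictScalars R).comp Algebra.TensorProduct.includeRight, β'.restrictScalars R, ?_, ?_,
    sing_le_of_kill π hR hkill⟩
  · ext a
    have h7 : β' (α' ((1 : D) ⊗ₜ[R] a)) = φ' ((1 : D) ⊗ₜ[R] a) := by
      rw [← hβα]; rfl
    have h8 : φ' ((1 : D) ⊗ₜ[R] a) = φ a := by
      simp only [φ', Algebra.TensorProduct.lift_tmul, map_one, one_mul]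
    exact h7.trans h8
  · ext d
    exact β'.commutes d

end Groth.Agent.Helper2.Desg
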