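import Mathlib
import Groth.Prelude

set_option autoImplicit false

namespace Groth.Agent.Helper2.Lift

open Function MvPolynomial

universe u

variable {R : Type u} [CommRing R] {n m : ℕ}

/-- inclusion of the `x`-polynomial ring into the `(x,z)`-polynomial ring -/
noncomputable def ι : MvPolynomial (Fin n) R →ₐ[R] MvPolynomial (Fin n ⊕ Fin m) R :=
  rename Sum.inl

/-- the `z`-variables -/
noncomputable def Z (j : Fin m) : MvPolynomial (Fin n ⊕ Fin m) R := X (Sum.inr j)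

/-- the relations `f_j - π z_j` -/
noncomputable def rel₁ (π : R) (f : Fin m → MvPolynomial (Fin n) R) (j : Fin m) :
    MvPolynomial (Fin n ⊕ Fin m) R :=
  ι (f j) - C π * Z j

/-- the relations `∑ H_j z_j - π G` -/
noncomputable def tt (π : R) (H : Fin m → MvPolynomial (Fin n) R) (G : MvPolynomial (Fin n) R) :
    MvPolynomial (Fin n ⊕ Fin m) R :=
  ∑ j, ι (H j) * Z j - C π * ι G

theorem pi_mul_tt (π : R) (f : Fin m → MvPolynomial (Fin n) R)
    (H : Fin m → MvPolynomial (Fin n) R) (G : MvPolynomial (Fin n) R)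
    (hHG : ∑ j, H j * f j = C (π ^ 2) * G) :
    C π * tt π H G = - ∑ j, ι (m := m) (H j) * rel₁ π f j := by
  have h1 : (ι (m := m)) (∑ j, H j * f j) = ι (C (π ^ 2) * G) := by rw [hHG]
  rw [map_sum, map_mul] at h1
  simp only [map_mul] at h1
  have h2 : (ι (m := m)) (C (π ^ 2) : MvPolynomial (Fin n) R) = C π * C π := by
    rw [ι, rename_C, pow_two, C_mul]
  rw [h2] at h1
  unfold tt rel₁
  rw [mul_sub, Finset.mul_sum]
  simp only [mul_sub, Finset.sum_sub_distrib]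
  rw [h1]
  rw [neg_sub]
  congr 1
  · apply Finset.sum_congr rfl
    intro j _
    ring
  · ring


/-- local data at a smooth prime. -/
structure LData (π : R) (f : Fin m → MvPolynomial (Fin n) R) where
  γ : Type
  instF : Fintype γ
  instD : DecidableEq γ
  E : γ ↪ Fin m
  S : γ ↪ Fin n
  A₁ : MvPolynomial (Fin n) R
  h : Fin m → γ → MvPolynomial (Fin n) R
  g : Fin m → MvPolynomial (Fin n) R
  hrel : ∀ ℓ, A₁ * f ℓ = ∑ j, h ℓ j * f (E j) + C (π ^ 2) * g ℓ
  hnorm : ∀ j₀ j, h (E j₀) j = if j = j₀ then A₁ else 0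
  hnorm' : ∀ j₀, g (E j₀) = 0

attribute [instance] LData.instF LData.instD

variable {π : R} {f : Fin m → MvPolynomial (Fin n) R}

/-- the relations `A₁ z_ℓ - ∑ h z_j - π g` -/
noncomputable def LData.p (L : LData π f) (ℓ : Fin m) : MvPolynomial (Fin n ⊕ Fin m) R :=
  ι L.A₁ * Z ℓ - ∑ j, ι (L.h ℓ j) * Z (L.E j) - C π * ι (L.g ℓ)

/-- the head relations -/
noncomputable def LData.hd (L : LData π f) :
    L.γ ⊕ {ℓ : Fin m // ℓ ∉ Set.range L.E} → MvPolynomial (Fin n ⊕ Fin m) R :=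
  Sum.elim (fun j => rel₁ π f (L.E j)) (fun ℓ => L.p ℓ.1)

theorem LData.p_E (L : LData π f) (j₀ : L.γ) : L.p (L.E j₀) = 0 := by
  classical
  unfold LData.p
  rw [L.hnorm', map_zero, mul_zero, sub_zero]
  have : ∑ j, ι (m := m) (L.h (L.E j₀) j) * Z (L.E j) = ι L.A₁ * Z (L.E j₀) := by
    rw [Finset.sum_eq_single j₀]
    · rw [L.hnorm, if_pos rfl]
    · intro j _ hj
      rw [L.hnorm, if_neg hj, map_zero, zero_mul]
    · intro h
      exact absurd (Finset.mem_univ _) h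
  rw [this, sub_self]

theorem LData.rel_mem (L : LData π f) (j : L.γ) :
    rel₁ π f (L.E j) ∈ Ideal.span (Set.range L.hd) :=
  Ideal.subset_span ⟨Sum.inl j, rfl⟩

theorem LData.p_mem (L : LData π f) (ℓ : Fin m) : L.p ℓ ∈ Ideal.span (Set.range L.hd) := by
  by_cases hℓ : ℓ ∈ Set.range L.E
  · obtain ⟨j₀, rfl⟩ := hℓ
    rw [L.p_E]
    exact Ideal.zero_mem _
  · exact Ideal.subset_span ⟨Sum.inr ⟨ℓ, hℓ⟩, rfl⟩

theorem LData.A_mul_rel (L : LData π f) (ℓ : Fin m) :
    ι (m := m) L.A₁ * rel₁ π f ℓ = ∑ j, ι (L.h ℓ j) * rel₁ π f (L.E j) - C π * L.p ℓ := by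
  have h1 : (ι (m := m)) (L.A₁ * f ℓ) = ι (∑ j, L.h ℓ j * f (L.E j) + C (π ^ 2) * L.g ℓ) := by
    rw [L.hrel]
  rw [map_mul, map_add, map_sum, map_mul] at h1
  simp only [map_mul] at h1
  have h2 : (ι (m := m)) (C (π ^ 2) : MvPolynomial (Fin n) R) = C π * C π := by
    rw [ι, rename_C, pow_two, C_mul]
  rw [h2] at h1
  unfold LData.p rel₁
  rw [mul_sub, h1]
  simp only [mul_sub, Finset.sum_sub_distrib, Finset.mul_sum]
  have h3 : ∀ j ∈ Finset.univ, ι (m := m) (L.h ℓ j) * (C π * Z (L.E j)) =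
      C π * (ι (L.h ℓ j) * Z (L.E j)) := by
    intro j _; ring
  rw [Finset.sum_congr rfl h3]
  ring

theorem LData.A_mul_rel_mem (L : LData π f) (ℓ : Fin m) :
    ι (m := m) L.A₁ * rel₁ π f ℓ ∈ Ideal.span (Set.range L.hd) := by
  rw [L.A_mul_rel]
  apply Ideal.sub_mem
  · apply Ideal.sum_mem
    intro j _
    exact Ideal.mul_mem_left _ _ (L.rel_mem j)
  · exact Ideal.mul_mem_left _ _ (L.p_mem ℓ)


/-- the Jacobian matrix of the head `f`-relations -/
noncomputable def LData.M (L : LData π f) : Matrix L.γ L.γ (MvPolynomial (Fin n) R) :=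
  Matrix.of fun j k => pderiv (L.S k) (f (L.E j))

/-- its determinant -/
noncomputable def LData.Δ (L : LData π f) : MvPolynomial (Fin n) R := L.M.det

theorem LData.delta_mul (L : LData π f) (c : L.γ → MvPolynomial (Fin n) R)
    (G' : MvPolynomial (Fin n) R) (hc : ∑ j, c j * f (L.E j) = C (π ^ 2) * G') :
    ∃ (u : L.γ → MvPolynomial (Fin n) R) (v : L.γ → L.γ → MvPolynomial (Fin n) R),
      ∀ j, L.Δ * c j = C (π ^ 2) * u j - ∑ j', f (L.E j') * v j' j := by
  classical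
  have hk : ∀ k, (Matrix.vecMul c L.M) k =
      C (π ^ 2) * pderiv (L.S k) G' - ∑ j, pderiv (L.S k) (c j) * f (L.E j) := by
    intro k
    have h1 := congrArg (pderiv (L.S k)) hc
    rw [map_sum] at h1
    simp only [Derivation.leibniz, pderiv_C, smul_eq_mul, mul_zero, add_zero] at h1
    rw [Finset.sum_add_distrib] at h1
    rw [← h1]
    simp only [Matrix.vecMul, dotProduct, LData.M, Matrix.of_apply]
    have h2 : ∑ j, f (L.E j) * pderiv (L.S k) (c j) = ∑ j, pderiv (L.S k) (c j) * f (L.E j) :=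
      Finset.sum_congr rfl (fun j _ => mul_comm _ _)
    rw [h2]
    ring
  have hΔ : ∀ j, L.Δ * c j = ∑ k, (Matrix.vecMul c L.M) k * L.M.adjugate k j := by
    intro j
    have h3 := congrFun (Matrix.vecMul_vecMul c L.M L.M.adjugate) j
    rw [Matrix.mul_adjugate, Matrix.vecMul_smul, Matrix.vecMul_one] at h3
    rw [Pi.smul_apply, smul_eq_mul] at h3
    rw [LData.Δ, ← h3]
    rfl
  refine ⟨fun j => ∑ k, pderiv (L.S k) G' * L.M.adjugate k j,
    fun j' j => ∑ k, pderiv (L.S k) (c j') * L.M.adjugate k j, ?_⟩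
  intro j
  rw [hΔ j]
  simp only [hk, sub_mul, Finset.sum_sub_distrib, Finset.mul_sum, Finset.sum_mul]
  congr 1
  · apply Finset.sum_congr rfl
    intro k _
    ring
  · rw [Finset.sum_comm]
    apply Finset.sum_congr rfl
    intro j' _
    apply Finset.sum_congr rfl
    intro k _
    ring

theorem LData.delta_mul_tt (L : LData π f) (c : L.γ → MvPolynomial (Fin n) R)
    (G' : MvPolynomial (Fin n) R) (hc : ∑ j, c j * f (L.E j) = C (π ^ 2) * G') :
    ∃ w : MvPolynomial (Fin n ⊕ Fin m) R,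
      ι L.Δ * (∑ j, ι (c j) * Z (L.E j) - C π * ι G') - C π * w ∈
        Ideal.span (Set.range L.hd) := by
  classical
  obtain ⟨u, v, huv⟩ := L.delta_mul c G' hc
  have h2 : (ι (m := m)) (C (π ^ 2) : MvPolynomial (Fin n) R) = C π * C π := by
    rw [ι, rename_C, pow_two, C_mul]
  have h1 : ∀ j, ι (m := m) L.Δ * ι (c j) =
      C π * (C π * ι (u j) - ∑ j', Z (L.E j') * ι (v j' j)) -
        ∑ j', rel₁ π f (L.E j') * ι (v j' j) := by
    intro j
    rw [← map_mul, huv j, map_sub, map_mul, h2, map_sum]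
    simp only [map_mul, rel₁, sub_mul, Finset.sum_sub_distrib, mul_sub, Finset.mul_sum]
    have h3 : ∀ j' ∈ Finset.univ, C π * (Z (L.E j') * ι (m := m) (v j' j)) =
        C π * Z (L.E j') * ι (v j' j) := by
      intro j' _; ring
    rw [Finset.sum_congr rfl h3]
    ring
  refine ⟨∑ j, (C π * ι (u j) - ∑ j', Z (L.E j') * ι (v j' j)) * Z (L.E j) - ι (L.Δ * G'), ?_⟩
  have h4 : ι (m := m) L.Δ * (∑ j, ι (c j) * Z (L.E j) - C π * ι G') -
      C π * (∑ j, (C π * ι (u j) - ∑ j', Z (L.E j') * ι (v j' j)) * Z (L.E j) - ι (L.Δ * G')) =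
      - ∑ j, (∑ j', rel₁ π f (L.E j') * ι (v j' j)) * Z (L.E j) := by
    rw [mul_sub, Finset.mul_sum, mul_sub (C π), Finset.mul_sum, map_mul, ← Finset.sum_neg_distrib]
    have h5 : ∀ j ∈ Finset.univ, ι (m := m) L.Δ * (ι (c j) * Z (L.E j)) =
        C π * ((C π * ι (u j) - ∑ j', Z (L.E j') * ι (v j' j)) * Z (L.E j)) +
        - ((∑ j', rel₁ π f (L.E j') * ι (v j' j)) * Z (L.E j)) := by
      intro j _
      rw [← mul_assoc, h1 j]
      ring
    rw [Finset.sum_congr rfl h5, Finset.sum_add_distrib]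
    ring
  rw [h4]
  apply (Ideal.neg_mem_iff _).mpr
  apply Ideal.sum_mem
  intro j _
  apply Ideal.mul_mem_right
  apply Ideal.sum_mem
  intro j' _
  exact Ideal.mul_mem_right _ _ (L.rel_mem j')


theorem LData.A_mul_tt (L : LData π f) (H : Fin m → MvPolynomial (Fin n) R)
    (G : MvPolynomial (Fin n) R) :
    ι (m := m) L.A₁ * tt π H G = ∑ i, ι (H i) * L.p i +
      (∑ j, ι (∑ i, H i * L.h i j) * Z (L.E j) - C π * ι (L.A₁ * G - ∑ i, H i * L.g i)) := by
  classical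
  unfold tt LData.p
  simp only [map_sum, map_mul, map_sub, mul_sub, Finset.sum_sub_distrib, Finset.mul_sum,
    Finset.sum_mul]
  rw [Finset.sum_comm]
  have h1 : ∀ i ∈ Finset.univ, ι (m := m) (H i) * (ι L.A₁ * Z i) = ι L.A₁ * (ι (H i) * Z i) := by
    intro i _; ring
  have h2 : ∀ i ∈ Finset.univ, ι (m := m) (H i) * (C π * ι (L.g i)) =
      C π * (ι (H i) * ι (L.g i)) := by
    intro i _; ring
  rw [Finset.sum_congr rfl h1, Finset.sum_congr rfl h2]
  have h3 : ∑ y, ∑ x, ι (m := m) (H x) * ι (L.h x y) * Z (L.E y) =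
      ∑ y, ∑ x, ι (m := m) (H x) * (ι (L.h x y) * Z (L.E y)) := by
    apply Finset.sum_congr rfl
    intro y _
    apply Finset.sum_congr rfl
    intro x _
    ring
  rw [h3]
  ring

theorem LData.c_rel (L : LData π f) (H : Fin m → MvPolynomial (Fin n) R)
    (G : MvPolynomial (Fin n) R) (hHG : ∑ j, H j * f j = C (π ^ 2) * G) :
    ∑ j, (∑ i, H i * L.h i j) * f (L.E j) = C (π ^ 2) * (L.A₁ * G - ∑ i, H i * L.g i) := by
  classical
  simp only [Finset.sum_mul]
  rw [Finset.sum_comm]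
  have h1 : ∀ i ∈ Finset.univ, ∑ j, H i * L.h i j * f (L.E j) =
      H i * (L.A₁ * f i) - C (π ^ 2) * (H i * L.g i) := by
    intro i _
    rw [L.hrel i, mul_add, Finset.mul_sum]
    have : ∑ j, H i * L.h i j * f (L.E j) = ∑ j, H i * (L.h i j * f (L.E j)) :=
      Finset.sum_congr rfl (fun j _ => by ring)
    rw [this]
    ring
  rw [Finset.sum_congr rfl h1, Finset.sum_sub_distrib, ← Finset.mul_sum]
  have h2 : ∑ i, H i * (L.A₁ * f i) = L.A₁ * ∑ i, H i * f i := by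
    rw [Finset.mul_sum]
    exact Finset.sum_congr rfl (fun i _ => by ring)
  rw [h2, hHG]
  ring

theorem LData.exists_w (L : LData π f) (H : Fin m → MvPolynomial (Fin n) R)
    (G : MvPolynomial (Fin n) R) (hHG : ∑ j, H j * f j = C (π ^ 2) * G) :
    ∃ w : MvPolynomial (Fin n ⊕ Fin m) R,
      ι (L.Δ * L.A₁) * tt π H G - C π * w ∈ Ideal.span (Set.range L.hd) := by
  obtain ⟨w, hw⟩ := L.delta_mul_tt (fun j => ∑ i, H i * L.h i j) (L.A₁ * G - ∑ i, H i * L.g i)
    (L.c_rel H G hHG)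
  refine ⟨w, ?_⟩
  rw [map_mul, mul_assoc, L.A_mul_tt, mul_add, add_sub_assoc]
  apply Ideal.add_mem _ _ hw
  apply Ideal.mul_mem_left
  apply Ideal.sum_mem
  intro i _
  exact Ideal.mul_mem_left _ _ (L.p_mem i)

theorem LData.pi_A_tt_mem (L : LData π f) (H : Fin m → MvPolynomial (Fin n) R)
    (G : MvPolynomial (Fin n) R) (hHG : ∑ j, H j * f j = C (π ^ 2) * G) :
    C π * (ι L.A₁ * tt π H G) ∈ Ideal.span (Set.range L.hd) := by
  have h1 : C π * (ι (m := m) L.A₁ * tt π H G) = ι L.A₁ * (C π * tt π H G) := by ring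
  rw [h1, pi_mul_tt π f H G hHG, mul_neg, Finset.mul_sum]
  apply (Ideal.neg_mem_iff _).mpr
  apply Ideal.sum_mem
  intro j _
  have h2 : ι (m := m) L.A₁ * (ι (H j) * rel₁ π f j) = ι (H j) * (ι L.A₁ * rel₁ π f j) := by ring
  rw [h2]
  exact Ideal.mul_mem_left _ _ (L.A_mul_rel_mem j)

theorem LData.pi_sq_w_mem (L : LData π f) (H : Fin m → MvPolynomial (Fin n) R)
    (G : MvPolynomial (Fin n) R) (hHG : ∑ j, H j * f j = C (π ^ 2) * G)
    (w : MvPolynomial (Fin n ⊕ Fin m) R)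
    (hw : ι (L.Δ * L.A₁) * tt π H G - C π * w ∈ Ideal.span (Set.range L.hd)) :
    C (π ^ 2) * (ι L.A₁ * w) ∈ Ideal.span (Set.range L.hd) := by
  have h1 : C (π ^ 2) * (ι (m := m) L.A₁ * w) =
      ι (L.Δ * L.A₁) * (C π * (ι L.A₁ * tt π H G)) -
        C π * ι L.A₁ * (ι (L.Δ * L.A₁) * tt π H G - C π * w) := by
    rw [pow_two, C_mul]
    ring
  rw [h1]
  exact Ideal.sub_mem _ (Ideal.mul_mem_left _ _ (L.pi_A_tt_mem H G hHG))
    (Ideal.mul_mem_left _ _ hw)

end Groth.Agent.Helper2.Lift
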