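import Mathlib
import Groth.Prelude
import Groth.Agent.Helper2.LiftA

set_option autoImplicit false

namespace Groth.Agent.Helper2.Lift

open Function MvPolynomial

universe u

variable {R : Type u} [CommRing R] {n m : ℕ} {π : R} {f : Fin m → MvPolynomial (Fin n) R}

theorem pderiv_inr_ι (k : Fin m) (q : MvPolynomial (Fin n) R) :
    pderiv (Sum.inr k : Fin n ⊕ Fin m) (ι (m := m) q) = 0 := by
  classical
  apply pderiv_eq_zero_of_notMem_vars
  intro h
  have := vars_rename (Sum.inl : Fin n → Fin n ⊕ Fin m) q h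
  simp at this

theorem pderiv_inl_ι (k : Fin n) (q : MvPolynomial (Fin n) R) :
    pderiv (Sum.inl k : Fin n ⊕ Fin m) (ι (m := m) q) = ι (pderiv k q) := by
  unfold ι
  rw [pderiv_rename Sum.inl_injective]

theorem pderiv_inl_Z (k : Fin n) (j : Fin m) :
    pderiv (Sum.inl k : Fin n ⊕ Fin m) (Z (n := n) (R := R) j) = 0 := by
  unfold Z
  exact pderiv_X_of_ne (by simp)

theorem pderiv_inr_Z (k j : Fin m) (hjk : j ≠ k) :
    pderiv (Sum.inr k : Fin n ⊕ Fin m) (Z (n := n) (R := R) j) = 0 := by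
  unfold Z
  exact pderiv_X_of_ne (fun h => hjk (Sum.inr_injective h))

theorem pderiv_inr_Z_self (k : Fin m) :
    pderiv (Sum.inr k : Fin n ⊕ Fin m) (Z (n := n) (R := R) k) = 1 := by
  unfold Z
  exact pderiv_X_self _

/-- columns for the head relations -/
noncomputable def LData.cols (L : LData π f) :
    L.γ ⊕ {ℓ : Fin m // ℓ ∉ Set.range L.E} ↪ Fin n ⊕ Fin m :=
  ⟨Sum.elim (fun j => Sum.inl (L.S j)) (fun ℓ => Sum.inr ℓ.1), by
    intro a b hab
    rcases a with a | a <;> rcases b with b | b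
    · simp only [Sum.elim_inl, Sum.inl.injEq] at hab
      rw [L.S.injective hab]
    · simp at hab
    · simp at hab
    · simp only [Sum.elim_inr, Sum.inr.injEq] at hab
      rw [Subtype.ext hab]⟩

theorem LData.jac (L : LData π f) :
    Matrix.det (Matrix.of fun a b => pderiv (L.cols b) (L.hd a)) =
      ι L.Δ * ι L.A₁ ^ (Fintype.card {ℓ : Fin m // ℓ ∉ Set.range L.E}) := by
  classical
  have hM : (Matrix.of fun a b => pderiv (L.cols b) (L.hd a)) =
      Matrix.fromBlocks
        ((ι (m := m) : MvPolynomial (Fin n) R →ₐ[R] _).mapMatrix L.M)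
        0
        (Matrix.of fun (ℓ : {ℓ : Fin m // ℓ ∉ Set.range L.E}) (k : L.γ) =>
          pderiv (Sum.inl (L.S k) : Fin n ⊕ Fin m) (L.p ℓ.1))
        (Matrix.diagonal fun _ : {ℓ : Fin m // ℓ ∉ Set.range L.E} => ι (m := m) L.A₁) := by
    apply Matrix.ext
    intro a b
    rcases a with j | ℓ <;> rcases b with k | ℓ'
    · simp only [Matrix.of_apply, Matrix.fromBlocks_apply₁₁, LData.cols, LData.hd,
        Embedding.coeFn_mk, Sum.elim_inl, AlgHom.mapMatrix_apply, Matrix.map_apply, LData.M]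
      unfold rel₁
      rw [map_sub, pderiv_inl_ι, pderiv_C_mul, pderiv_inl_Z, mul_zero, sub_zero]
    · simp only [Matrix.of_apply, Matrix.fromBlocks_apply₁₂, LData.cols, LData.hd,
        Embedding.coeFn_mk, Sum.elim_inl, Sum.elim_inr, Matrix.zero_apply]
      unfold rel₁
      rw [map_sub, pderiv_inr_ι, pderiv_C_mul, pderiv_inr_Z, mul_zero, sub_zero]
      intro h
      exact ℓ'.2 ⟨j, h⟩
    · simp only [Matrix.of_apply, Matrix.fromBlocks_apply₂₁, LData.cols, LData.hd,
        Embedding.coeFn_mk, Sum.elim_inl, Sum.elim_inr]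
    · simp only [Matrix.of_apply, Matrix.fromBlocks_apply₂₂, LData.cols, LData.hd,
        Embedding.coeFn_mk, Sum.elim_inr]
      unfold LData.p
      rw [map_sub, map_sub, pderiv_C_mul, pderiv_inr_ι, mul_zero, sub_zero, map_sum,
        Derivation.leibniz, pderiv_inr_ι, smul_zero, add_zero, smul_eq_mul]
      have h0 : ∑ j, pderiv (Sum.inr ℓ'.1 : Fin n ⊕ Fin m) (ι (m := m) (L.h ℓ.1 j) * Z (L.E j)) =
          0 := by
        apply Finset.sum_eq_zero
        intro j _
        rw [Derivation.leibniz, pderiv_inr_ι, smul_zero, add_zero, pderiv_inr_Z, smul_zero]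
        intro h
        exact ℓ'.2 ⟨j, h⟩
      rw [h0, sub_zero]
      by_cases hℓ : ℓ = ℓ'
      · subst hℓ
        rw [Matrix.diagonal_apply_eq, pderiv_inr_Z_self, mul_one]
      · rw [Matrix.diagonal_apply_ne _ hℓ, pderiv_inr_Z, mul_zero]
        intro h
        exact hℓ (Subtype.ext h)
  rw [hM, Matrix.det_fromBlocks_zero₁₂, Matrix.det_diagonal, ← AlgHom.map_det,
    Finset.prod_const, Finset.card_univ]
  rfl

end Groth.Agent.Helper2.Lift
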