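import Mathlib
import Groth.Prelude
import Groth.Agent.Helper2.LiftB
import Groth.Agent.Helper2.DelocA
import Groth.Agent.Helper2.DesgA
import Groth.Agent.S2032

set_option autoImplicit false

namespace Groth.Agent.Helper2.Lift

open Function MvPolynomial

universe u

variable {R : Type u} [CommRing R] {n m : ℕ} {π : R} {f : Fin m → MvPolynomial (Fin n) R}

/-- the leading Jacobian minor -/
noncomputable def LData.e (L : LData π f) : MvPolynomial (Fin n ⊕ Fin m) R :=
  ι L.Δ * ι L.A₁ ^ (Fintype.card {ℓ : Fin m // ℓ ∉ Set.range L.E})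

/-- the algebra cut out by the head relations -/
abbrev LData.D' (L : LData π f) : Type u :=
  MvPolynomial (Fin n ⊕ Fin m) R ⧸ Ideal.span (Set.range L.hd)

theorem LData.elemStd_D' (L : LData π f) :
    Smoothing.IsElementaryStandard R L.D' (Ideal.Quotient.mk _ L.e) := by
  classical
  refine Groth.Agent.Helper2.Deloc.exists_elementaryStandard_of_data_gen L.hd
    (Ideal.Quotient.mkₐ R (Ideal.span (Set.range L.hd))) (Ideal.Quotient.mkₐ_surjective R _) ?_
    (Embedding.refl _) L.cols _ 1 ?_ ?_
  · ext x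
    simp [Ideal.Quotient.eq_zero_iff_mem]
  · rw [one_mul]
    have h0 : (Matrix.of fun j k => (pderiv (L.cols k))
        (L.hd ((Embedding.refl (L.γ ⊕ { ℓ // ℓ ∉ Set.range ⇑L.E })) j))) =
        (Matrix.of fun a b => pderiv (L.cols b) (L.hd a)) := rfl
    rw [h0, L.jac]
    rfl
  · intro a₁ _ ℓ
    apply Ideal.mem_sup_left
    apply Ideal.mul_mem_left
    exact Ideal.subset_span ⟨ℓ, rfl⟩

theorem LData.kill (L : LData π f) (hR : ∀ r : R, π ^ 2 * r = 0 → π * r = 0)
    (w : MvPolynomial (Fin n ⊕ Fin m) R)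
    (hw : C (π ^ 2) * w ∈ Ideal.span (Set.range L.hd)) :
    ∃ K : ℕ, L.e ^ K * (C π * w) ∈ Ideal.span (Set.range L.hd) := by
  classical
  haveI : Algebra.FinitePresentation R L.D' :=
    Algebra.FinitePresentation.quotient (Submodule.fg_span (Set.finite_range L.hd))
  have hss : Algebra.IsStandardSmooth R (Localization.Away (Ideal.Quotient.mk
      (Ideal.span (Set.range L.hd)) L.e)) :=
    Groth.Agent.S2032.result _ L.elemStd_D'
  haveI : Module.Flat R (Localization.Away (Ideal.Quotient.mk
      (Ideal.span (Set.range L.hd)) L.e)) := inferInstance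
  set a : L.D' := Ideal.Quotient.mk (Ideal.span (Set.range L.hd)) L.e with ha
  have h1 : (π ^ 2) • (algebraMap L.D' (Localization.Away a) (Ideal.Quotient.mk _ w)) = 0 := by
    rw [Algebra.smul_def, IsScalarTower.algebraMap_apply R L.D' (Localization.Away a), ← map_mul]
    have : algebraMap R L.D' (π ^ 2) * Ideal.Quotient.mk (Ideal.span (Set.range L.hd)) w =
        Ideal.Quotient.mk (Ideal.span (Set.range L.hd)) (C (π ^ 2) * w) := by
      rw [map_mul]; rfl
    rw [this, Ideal.Quotient.eq_zero_iff_mem.mpr hw, map_zero]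
  have h2 := Groth.Agent.Helper2.Desg.smul_eq_zero_of_flat (π ^ 2) 1 π
    (fun a ha => by rw [one_mul]; exact hR a ha) _ h1
  rw [one_smul, Algebra.smul_def, IsScalarTower.algebraMap_apply R L.D' (Localization.Away a),
    ← map_mul, IsLocalization.map_eq_zero_iff (Submonoid.powers a)] at h2
  obtain ⟨⟨_, K, rfl⟩, hK⟩ := h2
  refine ⟨K, ?_⟩
  rw [← Ideal.Quotient.eq_zero_iff_mem, map_mul, map_pow, map_mul]
  exact hK

end Groth.Agent.Helper2.Lift
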