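import Mathlib
import Groth.Prelude
import Groth.Agent.Helper2.LiftC

set_option autoImplicit false

namespace Groth.Agent.Helper2.Lift

open Function MvPolynomial

universe u

variable {R : Type u} [CommRing R] {n m : ℕ}

section Rel

variable (π : R) (f : Fin m → MvPolynomial (Fin n) R)

/-- the module of relations `∑ H_j f_j = π² G` -/
def Rel : Submodule (MvPolynomial (Fin n) R)
    ((Fin m → MvPolynomial (Fin n) R) × MvPolynomial (Fin n) R) where
  carrier := {x | ∑ j, x.1 j * f j = C (π ^ 2) * x.2}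
  add_mem' := by
    intro x y hx hy
    simp only [Set.mem_setOf_eq, Prod.fst_add, Pi.add_apply, Prod.snd_add] at hx hy ⊢
    simp only [add_mul, Finset.sum_add_distrib, hx, hy, mul_add]
  zero_mem' := by
    simp
  smul_mem' := by
    intro c x hx
    simp only [Set.mem_setOf_eq, Prod.smul_fst, Pi.smul_apply, smul_eq_mul, Prod.smul_snd] at hx ⊢
    have : ∑ j, c * x.1 j * f j = c * ∑ j, x.1 j * f j := by
      rw [Finset.mul_sum]
      exact Finset.sum_congr rfl (fun j _ => by ring)
    rw [this, hx]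
    ring

theorem mem_Rel (x : (Fin m → MvPolynomial (Fin n) R) × MvPolynomial (Fin n) R) :
    x ∈ Rel π f ↔ ∑ j, x.1 j * f j = C (π ^ 2) * x.2 := Iff.rfl

theorem tt_zero : tt π (0 : Fin m → MvPolynomial (Fin n) R) 0 = 0 := by
  unfold tt
  simp

theorem tt_add (H H' : Fin m → MvPolynomial (Fin n) R) (G G' : MvPolynomial (Fin n) R) :
    tt π (H + H') (G + G') = tt π H G + tt π H' G' := by
  unfold tt
  simp only [Pi.add_apply, map_add, add_mul, Finset.sum_add_distrib, mul_add]
  ring

theorem tt_smul (c : MvPolynomial (Fin n) R) (H : Fin m → MvPolynomial (Fin n) R)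
    (G : MvPolynomial (Fin n) R) :
    tt π (c • H) (c • G) = ι c * tt π H G := by
  unfold tt
  simp only [Pi.smul_apply, smul_eq_mul, map_mul, mul_sub, Finset.mul_sum]
  congr 1
  · exact Finset.sum_congr rfl (fun j _ => by ring)
  · ring

variable {r : ℕ} (HG : Fin r → (Fin m → MvPolynomial (Fin n) R) × MvPolynomial (Fin n) R)

/-- the relations of the canonical algebra -/
noncomputable def relD : Fin m ⊕ Fin r → MvPolynomial (Fin n ⊕ Fin m) R :=
  Sum.elim (rel₁ π f) (fun k => tt π (HG k).1 (HG k).2)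

theorem rel₁_mem_relD (j : Fin m) : rel₁ π f j ∈ Ideal.span (Set.range (relD π f HG)) :=
  Ideal.subset_span ⟨Sum.inl j, rfl⟩

theorem tt_mem_of_mem_span (x : (Fin m → MvPolynomial (Fin n) R) × MvPolynomial (Fin n) R)
    (hx : x ∈ Submodule.span (MvPolynomial (Fin n) R) (Set.range HG)) :
    tt π x.1 x.2 ∈ Ideal.span (Set.range (relD π f HG)) := by
  induction hx using Submodule.span_induction with
  | mem x hx =>
    obtain ⟨k, rfl⟩ := hx
    exact Ideal.subset_span ⟨Sum.inr k, rfl⟩
  | zero =>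
    show tt π (0 : Fin m → MvPolynomial (Fin n) R) 0 ∈ _
    rw [tt_zero]
    exact Ideal.zero_mem _
  | add x y _ _ hx hy =>
    show tt π (x.1 + y.1) (x.2 + y.2) ∈ _
    rw [tt_add]
    exact Ideal.add_mem _ hx hy
  | smul c x _ hx =>
    show tt π (c • x.1) (c • x.2) ∈ _
    rw [tt_smul]
    exact Ideal.mul_mem_left _ _ hx

end Rel

variable {π : R} {f : Fin m → MvPolynomial (Fin n) R}

/-- coefficient vector of the relation `p ℓ` -/
noncomputable def LData.Hp (L : LData π f) (ℓ : Fin m) : Fin m → MvPolynomial (Fin n) R :=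
  fun i => (if i = ℓ then L.A₁ else 0) - ∑ j, if i = L.E j then L.h ℓ j else 0

theorem LData.Hp_mem (L : LData π f) (ℓ : Fin m) : (L.Hp ℓ, L.g ℓ) ∈ Rel π f := by
  classical
  rw [mem_Rel]
  show ∑ i, L.Hp ℓ i * f i = C (π ^ 2) * L.g ℓ
  unfold LData.Hp
  simp only [sub_mul, Finset.sum_sub_distrib, Finset.sum_mul, ite_mul, zero_mul]
  rw [Finset.sum_ite_eq' Finset.univ ℓ, if_pos (Finset.mem_univ _), Finset.sum_comm]
  have h1 : ∀ j ∈ Finset.univ, (∑ i, if i = L.E j then L.h ℓ j * f i else 0) =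
      L.h ℓ j * f (L.E j) := by
    intro j _
    rw [Finset.sum_ite_eq' Finset.univ (L.E j), if_pos (Finset.mem_univ _)]
  rw [Finset.sum_congr rfl h1, L.hrel ℓ]
  ring

theorem LData.p_eq_tt (L : LData π f) (ℓ : Fin m) : L.p ℓ = tt π (L.Hp ℓ) (L.g ℓ) := by
  classical
  unfold LData.p tt LData.Hp
  congr 1
  simp only [map_sub, map_sum, sub_mul, Finset.sum_sub_distrib, Finset.sum_mul]
  congr 1
  · have : ∀ i ∈ Finset.univ, ι (m := m) (if i = ℓ then L.A₁ else 0) * Z i =
        if i = ℓ then ι L.A₁ * Z i else 0 := by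
      intro i _
      split_ifs <;> simp
    rw [Finset.sum_congr rfl this, Finset.sum_ite_eq' Finset.univ ℓ, if_pos (Finset.mem_univ _)]
  · rw [Finset.sum_comm]
    apply Finset.sum_congr rfl
    intro j _
    have : ∀ i ∈ Finset.univ, ι (m := m) (if i = L.E j then L.h ℓ j else 0) * Z i =
        if i = L.E j then ι (L.h ℓ j) * Z i else 0 := by
      intro i _
      split_ifs <;> simp
    rw [Finset.sum_congr rfl this, Finset.sum_ite_eq' Finset.univ (L.E j),
      if_pos (Finset.mem_univ _)]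

end Groth.Agent.Helper2.Lift
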