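import Mathlib
import Groth.Prelude
import Groth.Agent.Helper2.LiftD
import Groth.Agent.Helper2.SingIdeal

set_option autoImplicit false

namespace Groth.Agent.Helper2.Lift

open Function MvPolynomial

universe u

variable {R : Type u} [CommRing R] {n m : ℕ} {π : R} {f : Fin m → MvPolynomial (Fin n) R}

theorem LData.tail_kill (L : LData π f) (hR : ∀ r : R, π ^ 2 * r = 0 → π * r = 0)
    (H : Fin m → MvPolynomial (Fin n) R) (G : MvPolynomial (Fin n) R)
    (hHG : (H, G) ∈ Rel π f) :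
    ∃ K : ℕ, L.e ^ K * (ι L.A₁ * ι (L.Δ * L.A₁)) * tt π H G ∈ Ideal.span (Set.range L.hd) := by
  have hHG' : ∑ j, H j * f j = C (π ^ 2) * G := hHG
  obtain ⟨w, hw⟩ := L.exists_w H G hHG'
  have h2 := L.pi_sq_w_mem H G hHG' w hw
  obtain ⟨K, hK⟩ := L.kill hR (ι L.A₁ * w) h2
  refine ⟨K, ?_⟩
  have h3 : L.e ^ K * (ι L.A₁ * ι (L.Δ * L.A₁)) * tt π H G =
      L.e ^ K * ι L.A₁ * (ι (L.Δ * L.A₁) * tt π H G - C π * w) +
        L.e ^ K * (C π * (ι L.A₁ * w)) := by ring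
  rw [h3]
  exact Ideal.add_mem _ (Ideal.mul_mem_left _ _ hw) hK

variable {r : ℕ} {HG : Fin r → (Fin m → MvPolynomial (Fin n) R) × MvPolynomial (Fin n) R}

theorem LData.hd_mem_relD (L : LData π f)
    (hspan : Submodule.span (MvPolynomial (Fin n) R) (Set.range HG) = Rel π f)
    (a : L.γ ⊕ {ℓ : Fin m // ℓ ∉ Set.range L.E}) :
    L.hd a ∈ Ideal.span (Set.range (relD π f HG)) := by
  rcases a with j | ℓ
  · exact rel₁_mem_relD π f HG (L.E j)
  · show L.p ℓ.1 ∈ _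
    rw [L.p_eq_tt]
    apply tt_mem_of_mem_span π f HG (L.Hp ℓ.1, L.g ℓ.1)
    rw [hspan]
    exact L.Hp_mem ℓ.1

theorem LData.exists_kill_all (L : LData π f) (hR : ∀ r : R, π ^ 2 * r = 0 → π * r = 0)
    (hspan : Submodule.span (MvPolynomial (Fin n) R) (Set.range HG) = Rel π f) :
    ∃ K : ℕ, ∀ x : Fin m ⊕ Fin r,
      L.e ^ K * (ι L.A₁ * ι (L.Δ * L.A₁)) * relD π f HG x ∈ Ideal.span (Set.range L.hd) := by
  classical
  have hk : ∀ k : Fin r, ∃ K : ℕ,
      L.e ^ K * (ι L.A₁ * ι (L.Δ * L.A₁)) * tt π (HG k).1 (HG k).2 ∈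
        Ideal.span (Set.range L.hd) := by
    intro k
    apply L.tail_kill hR
    rw [← hspan]
    exact Submodule.subset_span ⟨k, rfl⟩
  choose K hK using hk
  refine ⟨∑ k, K k, ?_⟩
  intro x
  rcases x with j | k
  · show L.e ^ _ * (ι L.A₁ * ι (L.Δ * L.A₁)) * rel₁ π f j ∈ _
    have : L.e ^ (∑ k, K k) * (ι L.A₁ * ι (L.Δ * L.A₁)) * rel₁ π f j =
        L.e ^ (∑ k, K k) * ι (L.Δ * L.A₁) * (ι L.A₁ * rel₁ π f j) := by ring
    rw [this]
    exact Ideal.mul_mem_left _ _ (L.A_mul_rel_mem j)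
  · show L.e ^ _ * (ι L.A₁ * ι (L.Δ * L.A₁)) * tt π (HG k).1 (HG k).2 ∈ _
    have hle : K k ≤ ∑ k, K k := Finset.single_le_sum (f := K) (fun _ _ => Nat.zero_le _)
      (Finset.mem_univ k)
    obtain ⟨k', hk'⟩ := Nat.exists_eq_add_of_le hle
    rw [hk', pow_add]
    have : L.e ^ K k * L.e ^ k' * (ι L.A₁ * ι (L.Δ * L.A₁)) * tt π (HG k).1 (HG k).2 =
        L.e ^ k' * (L.e ^ K k * (ι L.A₁ * ι (L.Δ * L.A₁)) * tt π (HG k).1 (HG k).2) := by ring
    rw [this]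
    exact Ideal.mul_mem_left _ _ (hK k)

theorem LData.elemStd_D (L : LData π f) (hR : ∀ r : R, π ^ 2 * r = 0 → π * r = 0)
    (hspan : Submodule.span (MvPolynomial (Fin n) R) (Set.range HG) = Rel π f) :
    ∃ K : ℕ, Smoothing.IsElementaryStandard R
      (MvPolynomial (Fin n ⊕ Fin m) R ⧸ Ideal.span (Set.range (relD π f HG)))
      (Ideal.Quotient.mk _ (L.e ^ (K + 1) * (ι L.A₁ * ι (L.Δ * L.A₁)))) := by
  classical
  obtain ⟨K, hK⟩ := L.exists_kill_all hR hspan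
  refine ⟨K, ?_⟩
  set J : Ideal (MvPolynomial (Fin n ⊕ Fin m) R) := Ideal.span (Set.range (relD π f HG)) with hJ
  let F : (L.γ ⊕ {ℓ : Fin m // ℓ ∉ Set.range L.E}) ⊕ (Fin m ⊕ Fin r) →
      MvPolynomial (Fin n ⊕ Fin m) R := Sum.elim L.hd (relD π f HG)
  have hFJ : Ideal.span (Set.range F) = J := by
    apply le_antisymm
    · rw [Ideal.span_le]
      rintro _ ⟨x, rfl⟩
      rcases x with a | y
      · exact L.hd_mem_relD hspan a
      · exact Ideal.subset_span ⟨y, rfl⟩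
    · rw [hJ, Ideal.span_le]
      rintro _ ⟨y, rfl⟩
      exact Ideal.subset_span ⟨Sum.inr y, rfl⟩
  refine Groth.Agent.Helper2.Deloc.exists_elementaryStandard_of_data_gen F
    (Ideal.Quotient.mkₐ R J) (Ideal.Quotient.mkₐ_surjective R _) ?_
    Embedding.inl L.cols _ (Ideal.Quotient.mk _ (L.e ^ K * (ι L.A₁ * ι (L.Δ * L.A₁)))) ?_ ?_
  · rw [hFJ]
    ext x
    simp
  · have h0 : (Matrix.of fun j k => (pderiv (L.cols k)) (F ((Embedding.inl :
        (L.γ ⊕ {ℓ : Fin m // ℓ ∉ Set.range L.E}) ↪ _) j))) =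
        (Matrix.of fun a b => pderiv (L.cols b) (L.hd a)) := rfl
    rw [h0, L.jac]
    have h00 : L.e ^ (K + 1) * (ι L.A₁ * ι (L.Δ * L.A₁)) =
        L.e ^ K * (ι L.A₁ * ι (L.Δ * L.A₁)) *
          (ι L.Δ * ι L.A₁ ^ (Fintype.card {ℓ : Fin m // ℓ ∉ Set.range L.E})) := by
      rw [pow_succ]
      unfold LData.e
      ring
    rw [Ideal.Quotient.mkₐ_eq_mk, ← map_mul (Ideal.Quotient.mk J), h00]
  · intro a₁ ha₁ x
    have h1 : a₁ - L.e ^ (K + 1) * (ι L.A₁ * ι (L.Δ * L.A₁)) ∈ J := by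
      rw [← Ideal.Quotient.eq]
      exact ha₁
    have h2 : a₁ * F x = L.e ^ (K + 1) * (ι L.A₁ * ι (L.Δ * L.A₁)) * F x +
        (a₁ - L.e ^ (K + 1) * (ι L.A₁ * ι (L.Δ * L.A₁))) * F x := by ring
    rw [h2]
    apply Ideal.add_mem
    · apply Ideal.mem_sup_left
      have hr : Set.range (F ∘ (Embedding.inl :
          (L.γ ⊕ {ℓ : Fin m // ℓ ∉ Set.range L.E}) ↪ _)) = Set.range L.hd := rfl
      rw [hr]
      rcases x with a | y
      · exact Ideal.mul_mem_left _ _ (Ideal.subset_span ⟨a, rfl⟩)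
      · show _ * relD π f HG y ∈ _
        have : L.e ^ (K + 1) * (ι L.A₁ * ι (L.Δ * L.A₁)) * relD π f HG y =
            L.e * (L.e ^ K * (ι L.A₁ * ι (L.Δ * L.A₁)) * relD π f HG y) := by ring
        rw [this]
        exact Ideal.mul_mem_left _ _ (hK y)
    · apply Ideal.mem_sup_right
      rw [hFJ, pow_two]
      apply Ideal.mul_mem_mul h1
      rw [← hFJ]
      exact Ideal.subset_span ⟨x, rfl⟩

theorem LData.isSmoothAt_D (L : LData π f) (hR : ∀ r : R, π ^ 2 * r = 0 → π * r = 0)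
    (hspan : Submodule.span (MvPolynomial (Fin n) R) (Set.range HG) = Rel π f)
    (Q : Ideal (MvPolynomial (Fin n ⊕ Fin m) R ⧸ Ideal.span (Set.range (relD π f HG))))
    [Q.IsPrime] (hA : Ideal.Quotient.mk _ (ι L.A₁) ∉ Q) (hΔ : Ideal.Quotient.mk _ (ι L.Δ) ∉ Q) :
    Algebra.IsSmoothAt R Q := by
  obtain ⟨K, hK⟩ := L.elemStd_D hR hspan
  have h1 := Groth.Agent.Helper2.StdSmoothB.mem_smoothLocus_of_isStrictlyStandard _
    (Groth.Agent.Helper2.SingIdeal.strictlyStandard_of_elementaryStandard _ hK) ⟨Q, inferInstance⟩ ?_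
  · exact h1
  · show Ideal.Quotient.mk _ (L.e ^ (K + 1) * (ι L.A₁ * ι (L.Δ * L.A₁))) ∉ Q
    intro hmem
    rw [map_mul, map_mul, map_pow, map_mul (ι (m := m)), map_mul] at hmem
    have he : Ideal.Quotient.mk (Ideal.span (Set.range (relD π f HG))) L.e ∉ Q := by
      unfold LData.e
      rw [map_mul, map_pow]
      intro h
      rcases Ideal.IsPrime.mem_or_mem inferInstance h with h | h
      · exact hΔ h
      · exact hA (Ideal.IsPrime.mem_of_pow_mem inferInstance _ h)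
    rcases Ideal.IsPrime.mem_or_mem inferInstance hmem with h | h
    · exact he (Ideal.IsPrime.mem_of_pow_mem inferInstance _ h)
    · rcases Ideal.IsPrime.mem_or_mem inferInstance h with h | h
      · exact hA h
      · rcases Ideal.IsPrime.mem_or_mem inferInstance h with h | h
        · exact hΔ h
        · exact hA h

end Groth.Agent.Helper2.Lift
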