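import Mathlib
import Groth.Prelude
import Groth.Agent.Helper2.LiftE

set_option autoImplicit false

namespace Groth.Agent.Helper2.Lift

open Function MvPolynomial

universe u

variable {R : Type u} [CommRing R] {n m : ℕ} (π : R) (f : Fin m → MvPolynomial (Fin n) R)
  {r : ℕ} (HG : Fin r → (Fin m → MvPolynomial (Fin n) R) × MvPolynomial (Fin n) R)

theorem jac_pi :
    Matrix.det (Matrix.of fun j k : Fin m =>
      pderiv ((Embedding.inr : Fin m ↪ Fin n ⊕ Fin m) k)
        (relD π f HG ((Embedding.inl : Fin m ↪ Fin m ⊕ Fin r) j))) = (- C π) ^ m := by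
  classical
  have hM : (Matrix.of fun j k : Fin m =>
      pderiv ((Embedding.inr : Fin m ↪ Fin n ⊕ Fin m) k)
        (relD π f HG ((Embedding.inl : Fin m ↪ Fin m ⊕ Fin r) j))) =
      Matrix.diagonal fun _ : Fin m => (- C π : MvPolynomial (Fin n ⊕ Fin m) R) := by
    apply Matrix.ext
    intro j k
    simp only [Matrix.of_apply, Embedding.inr_apply, Embedding.inl_apply, relD, Sum.elim_inl]
    unfold rel₁
    rw [map_sub, pderiv_inr_ι, pderiv_C_mul, zero_sub]
    by_cases hjk : j = k
    · subst hjk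
      rw [Matrix.diagonal_apply_eq, pderiv_inr_Z_self, mul_one]
    · rw [Matrix.diagonal_apply_ne _ hjk, pderiv_inr_Z _ _ hjk, mul_zero, neg_zero]
  rw [hM, Matrix.det_diagonal, Finset.prod_const, Finset.card_univ, Fintype.card_fin]

theorem elemStd_pi (hrel : ∀ k, HG k ∈ Rel π f) :
    Smoothing.IsElementaryStandard R
      (MvPolynomial (Fin n ⊕ Fin m) R ⧸ Ideal.span (Set.range (relD π f HG)))
      (Ideal.Quotient.mk _ (C π * (- C π) ^ m)) := by
  classical
  set J : Ideal (MvPolynomial (Fin n ⊕ Fin m) R) := Ideal.span (Set.range (relD π f HG)) with hJ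
  refine Groth.Agent.Helper2.Deloc.exists_elementaryStandard_of_data_gen (relD π f HG)
    (Ideal.Quotient.mkₐ R J) (Ideal.Quotient.mkₐ_surjective R _) ?_
    (Embedding.inl : Fin m ↪ Fin m ⊕ Fin r) (Embedding.inr : Fin m ↪ Fin n ⊕ Fin m) _
    (Ideal.Quotient.mk _ (C π)) ?_ ?_
  · ext x
    simp [hJ]
  · rw [jac_pi, Ideal.Quotient.mkₐ_eq_mk, ← map_mul (Ideal.Quotient.mk J)]
  · intro a₁ ha₁ x
    have h1 : a₁ - C π * (- C π) ^ m ∈ J := by
      rw [← Ideal.Quotient.eq]
      exact ha₁
    have h2 : a₁ * relD π f HG x = C π * (- C π) ^ m * relD π f HG x +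
        (a₁ - C π * (- C π) ^ m) * relD π f HG x := by ring
    rw [h2]
    apply Ideal.add_mem
    · apply Ideal.mem_sup_left
      rcases x with j | k
      · exact Ideal.mul_mem_left _ _ (Ideal.subset_span ⟨j, rfl⟩)
      · show _ * tt π (HG k).1 (HG k).2 ∈ _
        have h3 : C π * (- C π) ^ m * tt π (HG k).1 (HG k).2 =
            (- C π) ^ m * (C π * tt π (HG k).1 (HG k).2) := by ring
        rw [h3, pi_mul_tt π f _ _ (hrel k)]
        apply Ideal.mul_mem_left
        apply (Ideal.neg_mem_iff _).mpr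
        apply Ideal.sum_mem
        intro j _
        exact Ideal.mul_mem_left _ _ (Ideal.subset_span ⟨j, rfl⟩)
    · apply Ideal.mem_sup_right
      rw [pow_two]
      exact Ideal.mul_mem_mul h1 (Ideal.subset_span ⟨x, rfl⟩)

theorem isSmoothAt_of_pi_notMem (hrel : ∀ k, HG k ∈ Rel π f)
    (Q : Ideal (MvPolynomial (Fin n ⊕ Fin m) R ⧸ Ideal.span (Set.range (relD π f HG))))
    [Q.IsPrime] (hπ : Ideal.Quotient.mk _ (C π) ∉ Q) :
    Algebra.IsSmoothAt R Q := by
  have hK := elemStd_pi π f HG hrel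
  have h1 := Groth.Agent.Helper2.StdSmoothB.mem_smoothLocus_of_isStrictlyStandard _
    (Groth.Agent.Helper2.SingIdeal.strictlyStandard_of_elementaryStandard _ hK) ⟨Q, inferInstance⟩ ?_
  · exact h1
  · show Ideal.Quotient.mk _ (C π * (- C π) ^ m) ∉ Q
    intro hmem
    rw [map_mul, map_pow, map_neg] at hmem
    rcases Ideal.IsPrime.mem_or_mem inferInstance hmem with h | h
    · exact hπ h
    · have := Ideal.IsPrime.mem_of_pow_mem inferInstance _ h
      exact hπ ((Ideal.neg_mem_iff _).mp this)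

end Groth.Agent.Helper2.Lift
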