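import Mathlib
import Groth.Prelude
import Groth.Agent.Helper2.LiftF
import Groth.Agent.Helper2.StdElem
import Groth.Agent.Helper2.StdBC

set_option autoImplicit false

namespace Groth.Agent.Helper2.Lift

open Function MvPolynomial

universe u

section Nak

variable {P : Type u} [CommRing P] {m : ℕ} {γ : Type} [Fintype γ]

/-- Nakayama-type elimination of the `I²`-term. -/
theorem nakayama_elim (f : Fin m → P) (fE : γ → P) (t a₁ : P)
    (h : ∀ ℓ, a₁ * f ℓ ∈ Ideal.span (Set.range fE) ⊔ Ideal.span (Set.range f) ^ 2 ⊔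
      Ideal.span {t}) :
    ∃ A₁ : P, A₁ - a₁ ^ m ∈ Ideal.span (Set.range f) ∧
      ∀ ℓ, ∃ (h₁ : γ → P) (g₁ : P), A₁ * f ℓ = ∑ j, h₁ j * fE j + t * g₁ := by
  classical
  have h' : ∀ ℓ, ∃ (h₀ : γ → P) (N : Fin m → P) (g₀ : P), (∀ i, N i ∈ Ideal.span (Set.range f)) ∧
      a₁ * f ℓ = ∑ j, h₀ j * fE j + ∑ i, N i * f i + t * g₀ := by
    intro ℓ
    obtain ⟨y, hy, z, hz, hyz⟩ := Submodule.mem_sup.mp (h ℓ)
    obtain ⟨y₁, hy₁, y₂, hy₂, hy12⟩ := Submodule.mem_sup.mp hy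
    obtain ⟨h₀, hh₀⟩ := Ideal.mem_span_range_iff_exists_fun.mp hy₁
    obtain ⟨g₀, hg₀⟩ := Ideal.mem_span_singleton'.mp hz
    rw [pow_two, ← smul_eq_mul (a := Ideal.span (Set.range f)),
      Submodule.mem_ideal_smul_span_iff_exists_sum] at hy₂
    obtain ⟨N, hN, hNsum⟩ := hy₂
    refine ⟨h₀, fun i => N i, g₀, hN, ?_⟩
    rw [← hyz, ← hy12, ← hh₀, ← hNsum, ← hg₀, Finsupp.sum_fintype _ _ (by simp)]
    simp only [smul_eq_mul]
    ring
  choose h₀ N g₀ hN hsum using h'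
  let Nm : Matrix (Fin m) (Fin m) P := Matrix.of fun ℓ i => N ℓ i
  let B : Matrix (Fin m) (Fin m) P := a₁ • (1 : Matrix (Fin m) (Fin m) P) - Nm
  refine ⟨B.det, ?_, ?_⟩
  · have := Groth.Agent.Helper2.Desg.det_sub_pow_mem (Ideal.span (Set.range f)) a₁ Nm
      (fun j k => hN j k)
    rwa [Fintype.card_fin] at this
  · have hB : ∀ ℓ, (B.mulVec f) ℓ = ∑ j, h₀ ℓ j * fE j + t * g₀ ℓ := by
      intro ℓ
      have e1 : B.mulVec f = a₁ • f - Nm.mulVec f := by
        rw [Matrix.sub_mulVec, Matrix.smul_mulVec, Matrix.one_mulVec]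
      have e2 : Nm.mulVec f ℓ = ∑ i, N ℓ i * f i := rfl
      rw [e1, Pi.sub_apply, Pi.smul_apply, smul_eq_mul, hsum ℓ, e2]
      ring
    have hdet : ∀ ℓ, B.det * f ℓ = ∑ ℓ', B.adjugate ℓ ℓ' * (B.mulVec f) ℓ' := by
      intro ℓ
      have h3 := congrFun (Matrix.mulVec_mulVec f B.adjugate B) ℓ
      rw [Matrix.adjugate_mul, Matrix.smul_mulVec, Matrix.one_mulVec, Pi.smul_apply,
        smul_eq_mul] at h3
      rw [← h3]
      rfl
    intro ℓ
    refine ⟨fun j => ∑ ℓ', B.adjugate ℓ ℓ' * h₀ ℓ' j, ∑ ℓ', B.adjugate ℓ ℓ' * g₀ ℓ', ?_⟩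
    rw [hdet ℓ]
    simp only [hB, mul_add, Finset.sum_add_distrib, Finset.mul_sum, Finset.sum_mul]
    congr 1
    · rw [Finset.sum_comm]
      apply Finset.sum_congr rfl
      intro ℓ' _
      apply Finset.sum_congr rfl
      intro j _
      ring
    · apply Finset.sum_congr rfl
      intro ℓ' _
      ring

end Nak


section Data

variable {R R' Cb : Type u} [CommRing R] [CommRing R'] [Algebra R R'] [CommRing Cb] [Algebra R Cb]
  [Algebra R' Cb] [IsScalarTower R R' Cb] {n m : ℕ}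

set_option maxHeartbeats 1600000 in
theorem exists_LData (π : R) (hsurj : Surjective (algebraMap R R'))
    (hker : RingHom.ker (algebraMap R R') = Ideal.span {π ^ 2})
    (f : Fin m → MvPolynomial (Fin n) R) (φ₀ : MvPolynomial (Fin n) R →ₐ[R] Cb)
    (hφ₀ : Surjective φ₀) (hkerφ : RingHom.ker φ₀.toRingHom = Ideal.span (Set.range f))
    (𝔭 : Ideal Cb) [𝔭.IsPrime] (hsm : Algebra.IsSmoothAt R' 𝔭) :
    ∃ L : LData π f, φ₀ L.A₁ ∉ 𝔭 ∧ φ₀ L.Δ ∉ 𝔭 := by
  classical
  haveI := hsm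
  let mp : MvPolynomial (Fin n) R →+* MvPolynomial (Fin n) R' := MvPolynomial.map (algebraMap R R')
  have hmp : Surjective mp := MvPolynomial.map_surjective _ hsurj
  let f' : Fin m → MvPolynomial (Fin n) R' := fun j => mp (f j)
  let φ' : MvPolynomial (Fin n) R' →ₐ[R'] Cb := aeval (fun i => φ₀ (X i))
  have hφ'map : ∀ F : MvPolynomial (Fin n) R, φ' (mp F) = φ₀ F := by
    intro F
    show aeval (fun i => φ₀ (X i)) (MvPolynomial.map (algebraMap R R') F) = φ₀ F
    rw [MvPolynomial.aeval_map_algebraMap]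
    have : (aeval fun i => φ₀ (X i)) = φ₀ := by
      apply MvPolynomial.algHom_ext
      intro i
      simp
    rw [this]
  have hφ' : Surjective φ' := by
    intro c
    obtain ⟨F, rfl⟩ := hφ₀ c
    exact ⟨mp F, hφ'map F⟩
  have hf0 : ∀ j, φ₀ (f j) = 0 := by
    intro j
    have : f j ∈ RingHom.ker φ₀.toRingHom := by
      rw [hkerφ]; exact Ideal.subset_span ⟨j, rfl⟩
    exact this
  have hkerφ' : RingHom.ker φ'.toRingHom = Ideal.span (Set.range f') := by
    apply le_antisymm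
    · intro x hx
      obtain ⟨F, rfl⟩ := hmp x
      have hF : F ∈ Ideal.span (Set.range f) := by
        rw [← hkerφ]
        show φ₀ F = 0
        rw [← hφ'map]
        exact hx
      have := Ideal.mem_map_of_mem mp hF
      rw [Ideal.map_span, ← Set.range_comp] at this
      exact this
    · rw [Ideal.span_le]
      rintro _ ⟨j, rfl⟩
      show φ' (mp (f j)) = 0
      rw [hφ'map, hf0]
  obtain ⟨a, ha𝔭, c, rows, cols, a', ha, hkill⟩ :=
    Groth.Agent.Helper2.StdElem.s2108 f' φ' hφ' hkerφ' 𝔭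
  obtain ⟨a₁, ha₁⟩ := hφ₀ a
  -- the Jacobian minor
  have hminor : φ' (Smoothing.jacobianMinor f' rows cols) =
      φ₀ (Smoothing.jacobianMinor f rows cols) := by
    have := Groth.Agent.Helper2.StdBC.jacobianMinor_map (R := R) R' f rows cols
    show φ' (Smoothing.jacobianMinor (fun j => MvPolynomial.map (algebraMap R R') (f j)) rows cols)
      = _
    rw [this]
    exact hφ'map _
  have hΔ𝔭 : φ₀ (Smoothing.jacobianMinor f rows cols) ∉ 𝔭 := by
    intro h
    apply ha𝔭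
    rw [ha, hminor]
    exact Ideal.mul_mem_left _ _ h
  -- lifting the kill relation
  have hkerC : RingHom.ker mp = Ideal.span {C (π ^ 2)} := by
    show RingHom.ker (MvPolynomial.map (algebraMap R R')) = _
    rw [MvPolynomial.ker_map, hker, Ideal.map_span, Set.image_singleton]
  have hlift : ∀ ℓ, a₁ * f ℓ ∈ Ideal.span (Set.range (f ∘ rows)) ⊔
      Ideal.span (Set.range f) ^ 2 ⊔ Ideal.span {C (π ^ 2)} := by
    intro ℓ
    have h1 := hkill (mp a₁) (by rw [hφ'map, ha₁]) ℓ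
    have h2 : Ideal.span (Set.range (f' ∘ rows)) ⊔ Ideal.span (Set.range f') ^ 2 =
        Ideal.map mp (Ideal.span (Set.range (f ∘ rows)) ⊔ Ideal.span (Set.range f) ^ 2) := by
      rw [Ideal.map_sup, Ideal.map_pow, Ideal.map_span, Ideal.map_span, ← Set.range_comp,
        ← Set.range_comp]
      rfl
    rw [h2, Ideal.mem_map_iff_of_surjective mp hmp] at h1
    obtain ⟨y, hy, hy'⟩ := h1
    have h3 : a₁ * f ℓ - y ∈ Ideal.span {C (π ^ 2)} := by
      rw [← hkerC, RingHom.mem_ker, map_sub, hy', map_mul, sub_self]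
    have h4 : a₁ * f ℓ = y + (a₁ * f ℓ - y) := by ring
    rw [h4]
    exact Submodule.add_mem_sup hy h3
  obtain ⟨A₁, hA₁, hA⟩ := nakayama_elim f (f ∘ rows) (C (π ^ 2)) a₁ hlift
  have hA₁𝔭 : φ₀ A₁ ∉ 𝔭 := by
    have h5 : φ₀ A₁ = a ^ m := by
      have : A₁ - a₁ ^ m ∈ RingHom.ker φ₀.toRingHom := by rw [hkerφ]; exact hA₁
      have h6 : φ₀ (A₁ - a₁ ^ m) = 0 := this
      rw [map_sub, map_pow, ha₁, sub_eq_zero] at h6
      exact h6
    rw [h5]
    intro h
    exact ha𝔭 (Ideal.IsPrime.mem_of_pow_mem inferInstance _ h)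
  choose h₁ g₁ hg₁ using hA
  refine ⟨{
    γ := Fin c
    instF := inferInstance
    instD := inferInstance
    E := rows
    S := cols
    A₁ := A₁
    h := fun ℓ j => if hℓ : ∃ j₀, rows j₀ = ℓ then (if j = hℓ.choose then A₁ else 0) else h₁ ℓ j
    g := fun ℓ => if ∃ j₀, rows j₀ = ℓ then 0 else g₁ ℓ
    hrel := ?_
    hnorm := ?_
    hnorm' := ?_ }, hA₁𝔭, hΔ𝔭⟩
  · intro ℓ
    by_cases hℓ : ∃ j₀, rows j₀ = ℓ
    · simp only [dif_pos hℓ, if_pos hℓ, mul_zero, add_zero]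
      rw [Finset.sum_eq_single hℓ.choose]
      · rw [if_pos rfl, hℓ.choose_spec]
      · intro j _ hj
        rw [if_neg hj, zero_mul]
      · intro h
        exact absurd (Finset.mem_univ _) h
    · simp only [dif_neg hℓ, if_neg hℓ]
      exact hg₁ ℓ
  · intro j₀ j
    have hℓ : ∃ j₁, rows j₁ = rows j₀ := ⟨j₀, rfl⟩
    simp only [dif_pos hℓ]
    have : hℓ.choose = j₀ := rows.injective hℓ.choose_spec
    rw [this]
  · intro j₀
    have hℓ : ∃ j₁, rows j₁ = rows j₀ := ⟨j₀, rfl⟩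
    simp only [if_pos hℓ]

end Data

end Groth.Agent.Helper2.Lift
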