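import Mathlib
import Groth.Prelude
import Groth.Agent.Helper2.LiftG

set_option autoImplicit false

namespace Groth.Agent.Helper2.Lift

open Function MvPolynomial

universe u

section Delta

variable {R Λ : Type u} [CommRing R] [CommRing Λ] [Algebra R Λ] {n m : ℕ} (π : R)
  (f : Fin m → MvPolynomial (Fin n) R)
  {r : ℕ} (HG : Fin r → (Fin m → MvPolynomial (Fin n) R) × MvPolynomial (Fin n) R)
  (lam : Fin n → Λ) (μ : Fin m → Λ)

/-- the map to `Λ` on the polynomial ring -/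
noncomputable def δ₀ : MvPolynomial (Fin n ⊕ Fin m) R →ₐ[R] Λ :=
  aeval (Sum.elim lam (fun j => algebraMap R Λ π * μ j))

theorem δ₀_ι (F : MvPolynomial (Fin n) R) : δ₀ π lam μ (ι (m := m) F) = aeval lam F := by
  unfold δ₀ ι
  rw [aeval_rename]
  rfl

theorem δ₀_Z (j : Fin m) : δ₀ π lam μ (Z (n := n) j) = algebraMap R Λ π * μ j := by
  unfold δ₀ Z
  rw [aeval_X]
  rfl

theorem δ₀_C (c : R) : δ₀ (n := n) (m := m) π lam μ (C c) = algebraMap R Λ c := by
  unfold δ₀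
  rw [aeval_C]

theorem δ₀_relD (hΛ : ∀ x : Λ, π ^ 2 • x = 0 → π • x = 0)
    (hμ : ∀ j, aeval lam (f j) = algebraMap R Λ (π ^ 2) * μ j)
    (hrel : ∀ k, HG k ∈ Rel π f) (x : Fin m ⊕ Fin r) :
    δ₀ π lam μ (relD π f HG x) = 0 := by
  rcases x with j | k
  · show δ₀ π lam μ (rel₁ π f j) = 0
    unfold rel₁
    rw [map_sub, map_mul, δ₀_ι, δ₀_Z, δ₀_C, hμ, map_pow]
    ring
  · show δ₀ π lam μ (tt π (HG k).1 (HG k).2) = 0
    have hk : ∑ j, (HG k).1 j * f j = C (π ^ 2) * (HG k).2 := hrel k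
    unfold tt
    rw [map_sub, map_sum, map_mul, δ₀_ι, δ₀_C]
    simp only [map_mul, δ₀_ι, δ₀_Z]
    have h1 : ∑ j, aeval lam ((HG k).1 j) * (algebraMap R Λ π * μ j) -
        algebraMap R Λ π * aeval lam (HG k).2 =
        π • (∑ j, aeval lam ((HG k).1 j) * μ j - aeval lam (HG k).2) := by
      rw [Algebra.smul_def, mul_sub, Finset.mul_sum]
      congr 1
      exact Finset.sum_congr rfl (fun j _ => by ring)
    rw [h1]
    apply hΛ
    have h2 := congrArg (aeval lam) hk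
    rw [map_sum, map_mul, aeval_C] at h2
    simp only [map_mul, hμ] at h2
    rw [Algebra.smul_def, mul_sub, Finset.mul_sum, ← h2, sub_eq_zero]
    exact Finset.sum_congr rfl (fun j _ => by ring)

end Delta



section DD

variable {R Λ : Type u} [CommRing R] [CommRing Λ] [Algebra R Λ] {n m : ℕ} (π : R)
  (f : Fin m → MvPolynomial (Fin n) R)
  {r : ℕ} (HG : Fin r → (Fin m → MvPolynomial (Fin n) R) × MvPolynomial (Fin n) R)

/-- the canonical algebra -/
abbrev DD : Type u := MvPolynomial (Fin n ⊕ Fin m) R ⧸ Ideal.span (Set.range (relD π f HG))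

theorem algebraMap_DD (c : R) :
    algebraMap R (DD π f HG) c = Ideal.Quotient.mk _ (C c) := rfl

instance : Algebra.FinitePresentation R (DD π f HG) :=
  Algebra.FinitePresentation.quotient (Submodule.fg_span (Set.finite_range _))

/-- the map `D → Λ` -/
noncomputable def δD (lam : Fin n → Λ) (μ : Fin m → Λ)
    (h : ∀ x, δ₀ π lam μ (relD π f HG x) = 0) : DD π f HG →ₐ[R] Λ :=
  Ideal.Quotient.liftₐ _ (δ₀ π lam μ) (by
    have : Ideal.span (Set.range (relD π f HG)) ≤ RingHom.ker (δ₀ π lam μ).toRingHom := by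
      rw [Ideal.span_le]
      rintro _ ⟨x, rfl⟩
      exact h x
    intro x hx
    exact this hx)

theorem δD_mk (lam : Fin n → Λ) (μ : Fin m → Λ)
    (h : ∀ x, δ₀ π lam μ (relD π f HG x) = 0) (x : MvPolynomial (Fin n ⊕ Fin m) R) :
    δD π f HG lam μ h (Ideal.Quotient.mk _ x) = δ₀ π lam μ x := rfl

/-- the map from the `x`-polynomial ring to `D/πD` -/
noncomputable def ψ₀ : MvPolynomial (Fin n) R →ₐ[R]
    DD π f HG ⧸ Ideal.span {algebraMap R (DD π f HG) π} :=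
  (Ideal.Quotient.mkₐ R _).comp ((Ideal.Quotient.mkₐ R _).comp ι)

theorem ψ₀_apply (F : MvPolynomial (Fin n) R) :
    ψ₀ π f HG F = Ideal.Quotient.mk _ (Ideal.Quotient.mk _ (ι F)) := rfl

theorem ψ₀_f (j : Fin m) : ψ₀ π f HG (f j) = 0 := by
  rw [ψ₀_apply, Ideal.Quotient.eq_zero_iff_mem, Ideal.mem_span_singleton']
  refine ⟨Ideal.Quotient.mk _ (Z j), ?_⟩
  rw [algebraMap_DD, ← map_mul, eq_comm, ← sub_eq_zero, ← map_sub, Ideal.Quotient.eq_zero_iff_mem]
  have : ι (f j) - Z j * C π = rel₁ π f j := by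
    unfold rel₁; ring
  rw [this]
  exact rel₁_mem_relD π f HG j

variable {Cb : Type u} [CommRing Cb] [Algebra R Cb] (φ₀ : MvPolynomial (Fin n) R →ₐ[R] Cb)
  (hφ₀ : Surjective φ₀)

theorem ker_le_ker_ψ₀ (hkerφ : RingHom.ker φ₀.toRingHom = Ideal.span (Set.range f)) :
    ∀ a ∈ RingHom.ker φ₀, ψ₀ π f HG a = 0 := by
  have : RingHom.ker φ₀.toRingHom ≤ RingHom.ker (ψ₀ π f HG).toRingHom := by
    rw [hkerφ, Ideal.span_le]
    rintro _ ⟨j, rfl⟩
    exact ψ₀_f π f HG j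
  intro a ha
  exact this ha

noncomputable def ψD1 (h : ∀ a ∈ RingHom.ker φ₀, ψ₀ π f HG a = 0) :
    (MvPolynomial (Fin n) R ⧸ RingHom.ker φ₀) →ₐ[R]
      DD π f HG ⧸ Ideal.span {algebraMap R (DD π f HG) π} :=
  Ideal.Quotient.liftₐ (RingHom.ker φ₀) (ψ₀ π f HG) h

noncomputable def ψD2 : Cb →ₐ[R] (MvPolynomial (Fin n) R ⧸ RingHom.ker φ₀) :=
  (Ideal.quotientKerAlgEquivOfSurjective hφ₀).symm.toAlgHom

/-- the map `C → D/πD` -/
noncomputable def ψD (h : ∀ a ∈ RingHom.ker φ₀, ψ₀ π f HG a = 0) :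
    Cb →ₐ[R] DD π f HG ⧸ Ideal.span {algebraMap R (DD π f HG) π} :=
  (ψD1 π f HG φ₀ h).comp (ψD2 φ₀ hφ₀)

theorem ψD_apply (h : ∀ a ∈ RingHom.ker φ₀, ψ₀ π f HG a = 0) (F : MvPolynomial (Fin n) R) :
    ψD π f HG φ₀ hφ₀ h (φ₀ F) = ψ₀ π f HG F := by
  unfold ψD ψD1 ψD2
  rw [AlgHom.comp_apply]
  show Ideal.Quotient.liftₐ (RingHom.ker φ₀) (ψ₀ π f HG) h
    ((Ideal.quotientKerAlgEquivOfSurjective hφ₀).symm (φ₀ F)) = _
  rw [Ideal.quotientKerAlgEquivOfSurjective_symm_apply]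
  rfl

end DD

set_option maxHeartbeats 1600000 in
theorem lifting_gen {R R' Λ Cb : Type u} [CommRing R] [IsNoetherianRing R] [CommRing Λ]
    [Algebra R Λ] (π : R) (hR : ∀ r : R, π ^ 2 * r = 0 → π * r = 0)
    (hΛ : ∀ x : Λ, π ^ 2 • x = 0 → π • x = 0)
    [CommRing R'] [Algebra R R'] (hsurj : Surjective (algebraMap R R'))
    (hker : RingHom.ker (algebraMap R R') = Ideal.span {π ^ 2})
    [CommRing Cb] [Algebra R Cb] [Algebra R' Cb] [IsScalarTower R R' Cb]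
    [Algebra.FinitePresentation R' Cb]
    (IΛ : Ideal Λ) (hIΛ : IΛ = Ideal.span {algebraMap R Λ (π ^ 2)})
    (g : Cb →ₐ[R] Λ ⧸ IΛ) :
    ∃ (D : Type u) (_ : CommRing D) (_ : Algebra R D), Algebra.FinitePresentation R D ∧
      ∃ (δ : D →ₐ[R] Λ) (ψ : Cb →ₐ[R] D ⧸ Ideal.span {algebraMap R D π}),
        (∀ (c : Cb) (d : D) (l : Λ), Ideal.Quotient.mk (Ideal.span {algebraMap R D π}) d = ψ c →
          Ideal.Quotient.mk IΛ l = g c → δ d - l ∈ Ideal.span {algebraMap R Λ π}) ∧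
        (∀ (Q : Ideal D) [Q.IsPrime], algebraMap R D π ∉ Q → Algebra.IsSmoothAt R Q) ∧
        (∀ (Q : Ideal (D ⧸ Ideal.span {algebraMap R D π})) [Q.IsPrime],
          Algebra.IsSmoothAt R' (Q.comap ψ) →
            Algebra.IsSmoothAt R (Q.comap (Ideal.Quotient.mk (Ideal.span {algebraMap R D π})))) := by
  classical
  subst hIΛ
  haveI : Algebra.FinitePresentation R R' := by
    refine Algebra.FinitePresentation.of_surjective (f := Algebra.ofId R R') hsurj ?_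
    have : RingHom.ker (Algebra.ofId R R').toRingHom = Ideal.span {π ^ 2} := hker
    rw [this]
    exact ⟨{π ^ 2}, by simp⟩
  haveI : Algebra.FinitePresentation R Cb := Algebra.FinitePresentation.trans R R' Cb
  obtain ⟨n, φ₀, hφ₀, hfg⟩ := Algebra.FinitePresentation.out (R := R) (A := Cb)
  obtain ⟨m, f, hf⟩ := Submodule.fg_iff_exists_fin_generating_family.1 hfg
  have hkerφ : RingHom.ker φ₀.toRingHom = Ideal.span (Set.range f) := hf.symm
  have hf0 : ∀ j, φ₀ (f j) = 0 := by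
    intro j
    have : f j ∈ RingHom.ker φ₀.toRingHom := by
      rw [hkerφ]; exact Ideal.subset_span ⟨j, rfl⟩
    exact this
  have hRelfg : (Rel π f).FG := IsNoetherian.noetherian _
  obtain ⟨r, HG, hHG⟩ := Submodule.fg_iff_exists_fin_generating_family.1 hRelfg
  have hrel : ∀ k, HG k ∈ Rel π f := by
    intro k
    rw [← hHG]
    exact Submodule.subset_span ⟨k, rfl⟩
  -- lifts
  choose lam hlam using fun i : Fin n => Ideal.Quotient.mk_surjective (g (φ₀ (X i)))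
  have hgφ : ∀ F : MvPolynomial (Fin n) R, g (φ₀ F) = Ideal.Quotient.mk _ (aeval lam F) := by
    intro F
    have h1 : g.comp φ₀ = (Ideal.Quotient.mkₐ R (Ideal.span {algebraMap R Λ (π ^ 2)})).comp
        (aeval lam) := by
      apply MvPolynomial.algHom_ext
      intro i
      simp only [AlgHom.comp_apply, aeval_X, Ideal.Quotient.mkₐ_eq_mk]
      exact (hlam i).symm
    exact congrArg (fun h => h F) h1
  have hflam : ∀ j, ∃ μ : Λ, aeval lam (f j) = algebraMap R Λ (π ^ 2) * μ := by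
    intro j
    have h1 : Ideal.Quotient.mk (Ideal.span {algebraMap R Λ (π ^ 2)}) (aeval lam (f j)) = 0 := by
      rw [← hgφ, hf0, map_zero]
    rw [Ideal.Quotient.eq_zero_iff_mem, Ideal.mem_span_singleton'] at h1
    obtain ⟨a, ha⟩ := h1
    exact ⟨a, by rw [← ha, mul_comm]⟩
  choose μ hμ using hflam
  have hδ₀ := δ₀_relD π f HG lam μ hΛ hμ hrel
  have hψ₀ := ker_le_ker_ψ₀ π f HG φ₀ hkerφ
  have hψφ : ∀ F, ψD π f HG φ₀ hφ₀ hψ₀ (φ₀ F) = ψ₀ π f HG F :=
    fun F => ψD_apply π f HG φ₀ hφ₀ hψ₀ F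
  refine ⟨DD π f HG, inferInstance, inferInstance, inferInstance, δD π f HG lam μ hδ₀,
    ψD π f HG φ₀ hφ₀ hψ₀, ?_, ?_, ?_⟩
  · -- compatibility
    intro c d l hd hl
    obtain ⟨F, rfl⟩ := hφ₀ c
    rw [hψφ, ψ₀_apply, Ideal.Quotient.eq, Ideal.mem_span_singleton'] at hd
    obtain ⟨a, ha⟩ := hd
    rw [hgφ, Ideal.Quotient.eq, Ideal.mem_span_singleton'] at hl
    obtain ⟨b, hb⟩ := hl
    have h2 : δD π f HG lam μ hδ₀ d - l =
        δD π f HG lam μ hδ₀ (d - Ideal.Quotient.mk _ (ι F)) - (l - aeval lam F) := by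
      rw [map_sub, δD_mk, δ₀_ι]; ring
    rw [h2, ← ha, ← hb, map_mul, AlgHom.commutes, map_pow, Ideal.mem_span_singleton']
    refine ⟨δD π f HG lam μ hδ₀ a - b * algebraMap R Λ π, ?_⟩
    ring
  · -- smooth away from π
    intro Q _ hQ
    exact isSmoothAt_of_pi_notMem π f HG hrel Q hQ
  · -- smooth at the smooth points over π
    intro Q _ hQ
    obtain ⟨L, hLA, hLΔ⟩ := exists_LData π hsurj hker f φ₀ hφ₀ hkerφ
      (Q.comap (ψD π f HG φ₀ hφ₀ hψ₀)) hQ
    apply L.isSmoothAt_D hR hHG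
    · intro h
      apply hLA
      rw [Ideal.mem_comap, hψφ, ψ₀_apply]
      exact h
    · intro h
      apply hLΔ
      rw [Ideal.mem_comap, hψφ, ψ₀_apply]
      exact h

end Groth.Agent.Helper2.Lift
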