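import Mathlib
import Groth.Prelude
import Groth.Agent.Helper2.DesgI
import Groth.Agent.Helper2.LiftH

set_option autoImplicit false

namespace Groth.Agent.Helper2.Desg

open Function Algebra

universe u

theorem ann_pow {R : Type u} [CommRing R] (π : R) (hR : ∀ r : R, π ^ 2 * r = 0 → π * r = 0)
    (k : ℕ) (r : R) (h : π ^ (k + 1) * r = 0) : π * r = 0 := by
  induction k with
  | zero => simpa using h
  | succ k ih =>
    apply ih
    have h1 : π ^ 2 * (π ^ k * r) = 0 := by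
      rw [← h]; ring
    have h2 := hR _ h1
    rw [← h2]; ring

theorem ann_pow_smul {R M : Type u} [CommRing R] [AddCommGroup M] [Module R M] (π : R)
    (hΛ : ∀ x : M, π ^ 2 • x = 0 → π • x = 0)
    (k : ℕ) (x : M) (h : π ^ (k + 1) • x = 0) : π • x = 0 := by
  induction k with
  | zero => simpa using h
  | succ k ih =>
    apply ih
    have h1 : π ^ 2 • (π ^ k • x) = 0 := by
      rw [← h, smul_smul]; congr 1; ring
    have h2 := hΛ _ h1
    rw [← h2, smul_smul]; congr 1; ring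

section Sing

variable {R D : Type u} [CommRing R] [CommRing D] [Algebra R D]

theorem mem_singularIdeal_iff (x : D) :
    x ∈ Smoothing.singularIdeal R D ↔
      ∀ (Q : Ideal D) [Q.IsPrime], ¬ Algebra.IsSmoothAt R Q → x ∈ Q := by
  unfold Smoothing.singularIdeal
  rw [PrimeSpectrum.mem_vanishingIdeal]
  constructor
  · intro h Q _ hQ
    exact h ⟨Q, inferInstance⟩ hQ
  · intro h P hP
    exact h P.asIdeal hP

theorem exists_mem_singularIdeal_notMem [Algebra.FinitePresentation R D] (q : Ideal D) [q.IsPrime]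
    (hq : Algebra.IsSmoothAt R q) : ∃ h ∈ Smoothing.singularIdeal R D, h ∉ q := by
  by_contra hcon
  push Not at hcon
  have hop : IsOpen (Algebra.smoothLocus R D) := Algebra.isOpen_smoothLocus
  have hcl : IsClosed (Algebra.smoothLocus R D)ᶜ := hop.isClosed_compl
  have h1 : (⟨q, inferInstance⟩ : PrimeSpectrum D) ∈
      PrimeSpectrum.zeroLocus (PrimeSpectrum.vanishingIdeal (Algebra.smoothLocus R D)ᶜ : Set D) := by
    rw [PrimeSpectrum.mem_zeroLocus]
    intro h hh
    exact hcon h hh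
  rw [PrimeSpectrum.zeroLocus_vanishingIdeal_eq_closure, hcl.closure_eq] at h1
  exact h1 hq

end Sing

theorem isSmoothAt_congr {R C : Type u} [CommRing R] [CommRing C] [Algebra R C]
    (P₁ P₂ : Ideal C) [P₁.IsPrime] [P₂.IsPrime] (h : P₁ = P₂) (h1 : Algebra.IsSmoothAt R P₁) :
    Algebra.IsSmoothAt R P₂ := by
  subst h
  exact h1


set_option maxHeartbeats 1600000 in
theorem desing_lift_gen {R R' Λ A Cb : Type u} [CommRing R] [IsNoetherianRing R] [CommRing Λ]
    [Algebra R Λ] (π : R) (hR : ∀ r : R, π ^ 2 * r = 0 → π * r = 0)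
    (hΛ : ∀ x : Λ, π ^ 2 • x = 0 → π • x = 0) [CommRing A] [Algebra R A]
    [Algebra.FinitePresentation R A] (φ : A →ₐ[R] Λ)
    (hπ : Smoothing.IsStrictlyStandard R A (algebraMap R A π))
    [CommRing R'] [Algebra R R'] (hsurj : Surjective (algebraMap R R'))
    (hker : RingHom.ker (algebraMap R R') = Ideal.span {π ^ 8})
    [CommRing Cb] [Algebra R Cb] [Algebra R' Cb] [IsScalarTower R R' Cb]
    [Algebra.FinitePresentation R' Cb]
    (IΛ : Ideal Λ) (hIΛ : IΛ = Ideal.span {algebraMap R Λ (π ^ 8)})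
    (γ : A →ₐ[R] Cb) (g : Cb →ₐ[R] Λ ⧸ IΛ)
    (hfac : ∀ a : A, g (γ a) = Ideal.Quotient.mk IΛ (φ a)) :
    ∃ (B : Type u) (_ : CommRing B) (_ : Algebra R B), Algebra.FinitePresentation R B ∧
      ∃ (α : A →ₐ[R] B) (β : B →ₐ[R] Λ), β.comp α = φ ∧
        (∀ (Q : Ideal B) [Q.IsPrime], algebraMap R B π ∉ Q → Algebra.IsSmoothAt R Q) ∧
        (Smoothing.singularIdeal R' Cb).map g ≤
          ((Smoothing.singularIdeal R B).map β).radical.map (Ideal.Quotient.mk IΛ) := by
  classical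
  have h48 : (π ^ 4) ^ 2 = π ^ 8 := by ring
  have hR' : ∀ r : R, (π ^ 4) ^ 2 * r = 0 → π ^ 4 * r = 0 := by
    intro r hr
    rw [h48] at hr
    have := ann_pow π hR 7 r hr
    rw [show π ^ 4 * r = π ^ 3 * (π * r) by ring, this, mul_zero]
  have hΛ' : ∀ x : Λ, (π ^ 4) ^ 2 • x = 0 → π ^ 4 • x = 0 := by
    intro x hx
    rw [h48] at hx
    have := ann_pow_smul π hΛ 7 x hx
    rw [show π ^ 4 = π ^ 3 * π by ring, mul_smul, this, smul_zero]
  have hker' : RingHom.ker (algebraMap R R') = Ideal.span {(π ^ 4) ^ 2} := by rw [h48]; exact hker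
  have hIΛ' : IΛ = Ideal.span {algebraMap R Λ ((π ^ 4) ^ 2)} := by rw [h48]; exact hIΛ
  obtain ⟨D, instD, algD, fpD, δ, ψ, hcompat, hsm1, hsm2⟩ :=
    Groth.Agent.Helper2.Lift.lifting_gen (π ^ 4) hR' hΛ' hsurj hker' IΛ hIΛ' g
  have hψ' : ∀ (a : A) (d : D), Ideal.Quotient.mk (Ideal.span {algebraMap R D (π ^ 4)}) d =
      (ψ.comp γ) a → δ d - φ a ∈ Ideal.span {algebraMap R Λ (π ^ 4)} := by
    intro a d hd
    exact hcompat (γ a) d (φ a) hd (hfac a).symm
  obtain ⟨B, instB, algRB, algDB, towB, fpB, α, β, hβα, hβδ, hd, he⟩ :=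
    desing_ss_aux π hR hΛ φ δ hπ _ (map_pow _ _ _) (ψ.comp γ) hψ'
  -- `π⁴` lies in the singular ideal of `D`
  have hπD : algebraMap R D (π ^ 4) ∈ Smoothing.singularIdeal R D := by
    rw [mem_singularIdeal_iff]
    intro Q _ hQ
    by_contra hcon
    exact hQ (hsm1 Q hcon)
  have hπB : algebraMap R B (π ^ 4) ∈ Smoothing.singularIdeal R B := by
    have := he (Ideal.mem_map_of_mem _ hπD)
    rwa [← IsScalarTower.algebraMap_apply] at this
  have hβδ' : ∀ d : D, β (algebraMap D B d) = δ d := fun d => congrArg (fun h => h d) hβδ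
  refine ⟨B, instB, algRB, fpB, α, β, hβα, ?_, ?_⟩
  · intro Q _ hQ
    by_contra hcon
    have h1 := (mem_singularIdeal_iff _).mp hπB Q hcon
    rw [map_pow] at h1
    exact hQ (Ideal.IsPrime.mem_of_pow_mem inferInstance _ h1)
  · rw [Ideal.map_le_iff_le_comap]
    intro c hc
    rw [Ideal.mem_comap]
    obtain ⟨l, hl⟩ := Ideal.Quotient.mk_surjective (g c)
    rw [← hl]
    apply Ideal.mem_map_of_mem
    rw [Ideal.radical_eq_sInf, Ideal.mem_sInf]
    rintro 𝔓 ⟨h𝔓, h𝔓prime⟩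
    haveI := h𝔓prime
    by_contra hl𝔓
    -- `π ∈ 𝔓`
    have hπ4𝔓 : algebraMap R Λ (π ^ 4) ∈ 𝔓 := by
      have := h𝔓 (Ideal.mem_map_of_mem β hπB)
      rwa [AlgHom.commutes] at this
    have hIΛ𝔓 : IΛ ≤ 𝔓 := by
      rw [hIΛ, Ideal.span_le, Set.singleton_subset_iff]
      have : algebraMap R Λ (π ^ 8) = algebraMap R Λ (π ^ 4) * algebraMap R Λ (π ^ 4) := by
        rw [← map_mul]; congr 1; ring
      rw [this]
      exact Ideal.mul_mem_left _ _ hπ4𝔓
    have hkermk : RingHom.ker (Ideal.Quotient.mk IΛ) ≤ 𝔓 := by rw [Ideal.mk_ker]; exact hIΛ𝔓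
    haveI h𝔓bar : (𝔓.map (Ideal.Quotient.mk IΛ)).IsPrime :=
      Ideal.map_isPrime_of_surjective Ideal.Quotient.mk_surjective hkermk
    have hcomap : (𝔓.map (Ideal.Quotient.mk IΛ)).comap (Ideal.Quotient.mk IΛ) = 𝔓 := by
      rw [Ideal.comap_map_of_surjective _ Ideal.Quotient.mk_surjective, ← RingHom.ker_eq_comap_bot]
      exact sup_eq_left.mpr hkermk
    have hmem𝔓bar : ∀ l' : Λ, Ideal.Quotient.mk IΛ l' ∈ 𝔓.map (Ideal.Quotient.mk IΛ) ↔ l' ∈ 𝔓 := by
      intro l'
      rw [← Ideal.mem_comap, hcomap]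
    -- the prime of `C`
    have hc𝔭 : c ∉ (𝔓.map (Ideal.Quotient.mk IΛ)).comap g := by
      rw [Ideal.mem_comap, ← hl, hmem𝔓bar]
      exact hl𝔓
    have hsm𝔭 : Algebra.IsSmoothAt R' ((𝔓.map (Ideal.Quotient.mk IΛ)).comap g) := by
      by_contra hcon
      exact hc𝔭 ((mem_singularIdeal_iff c).mp hc _ hcon)
    -- the prime of `D`
    have hπ4D : algebraMap R D (π ^ 4) ∈ 𝔓.comap δ := by
      rw [Ideal.mem_comap, AlgHom.commutes]
      exact hπ4𝔓
    have hkermkD : RingHom.ker (Ideal.Quotient.mk (Ideal.span {algebraMap R D (π ^ 4)})) ≤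
        𝔓.comap δ := by
      rw [Ideal.mk_ker, Ideal.span_le, Set.singleton_subset_iff]
      exact hπ4D
    haveI hQbar : ((𝔓.comap δ).map
        (Ideal.Quotient.mk (Ideal.span {algebraMap R D (π ^ 4)}))).IsPrime :=
      Ideal.map_isPrime_of_surjective Ideal.Quotient.mk_surjective hkermkD
    have hcomapD : ((𝔓.comap δ).map (Ideal.Quotient.mk (Ideal.span {algebraMap R D (π ^ 4)}))).comap
        (Ideal.Quotient.mk (Ideal.span {algebraMap R D (π ^ 4)})) = 𝔓.comap δ := by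
      rw [Ideal.comap_map_of_surjective _ Ideal.Quotient.mk_surjective, ← RingHom.ker_eq_comap_bot]
      exact sup_eq_left.mpr hkermkD
    have hmemQbar : ∀ d : D, Ideal.Quotient.mk (Ideal.span {algebraMap R D (π ^ 4)}) d ∈
        (𝔓.comap δ).map (Ideal.Quotient.mk (Ideal.span {algebraMap R D (π ^ 4)})) ↔ δ d ∈ 𝔓 := by
      intro d
      rw [← Ideal.mem_comap, hcomapD, Ideal.mem_comap]
    have hspan𝔓 : Ideal.span {algebraMap R Λ (π ^ 4)} ≤ 𝔓 := by
      rw [Ideal.span_le, Set.singleton_subset_iff]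
      exact hπ4𝔓
    have hprimes : ((𝔓.comap δ).map
        (Ideal.Quotient.mk (Ideal.span {algebraMap R D (π ^ 4)}))).comap ψ =
        (𝔓.map (Ideal.Quotient.mk IΛ)).comap g := by
      ext x
      obtain ⟨d, hd'⟩ := Ideal.Quotient.mk_surjective (ψ x)
      obtain ⟨l', hl'⟩ := Ideal.Quotient.mk_surjective (g x)
      have hdiff := hspan𝔓 (hcompat x d l' hd' hl')
      rw [Ideal.mem_comap, Ideal.mem_comap, ← hd', ← hl', hmemQbar, hmem𝔓bar]
      constructor
      · intro h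
        have : l' = δ d - (δ d - l') := by ring
        rw [this]
        exact Ideal.sub_mem _ h hdiff
      · intro h
        have : δ d = (δ d - l') + l' := by ring
        rw [this]
        exact Ideal.add_mem _ hdiff h
    have hsmD : Algebra.IsSmoothAt R (𝔓.comap δ) := by
      have h1 := hsm2 _ (isSmoothAt_congr _ _ hprimes.symm hsm𝔭)
      exact isSmoothAt_congr _ _ hcomapD h1
    obtain ⟨h, hh, hhq⟩ := exists_mem_singularIdeal_notMem (𝔓.comap δ) hsmD
    apply hhq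
    rw [Ideal.mem_comap, ← hβδ']
    exact h𝔓 (Ideal.mem_map_of_mem β (he (Ideal.mem_map_of_mem _ hh)))

end Groth.Agent.Helper2.Desg
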