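import Mathlib
import Groth.Prelude
import Groth.Agent.Helper2.CotTReg
import Groth.Agent.Helper2.DepthCM2
import Groth.Agent.Helper2.RegCM

set_option autoImplicit false

namespace Groth.Agent.Helper2.ParamAnn

open RingTheory.Sequence IsLocalRing Module Groth.Agent.Helper2.CotTReg
  Groth.Agent.Helper2.DepthCM2

universe u

section LemA

variable {Λ : Type*} [CommRing Λ] [IsNoetherianRing Λ]

/-- Lemma A: if `g` is locally (at `q`) a nonzerodivisor modulo `K`, then a suitable multiple
`u * g` with `u ∉ q` has `Ann((u g)^2) = Ann(u g)` modulo `K`. -/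
theorem exists_mul_ann_sq (q : Ideal Λ) [q.IsPrime] (K : Ideal Λ) (g : Λ)
    (h : ∀ (y : Λ) (k : ℕ), g ^ k * y ∈ K → ∃ s, s ∉ q ∧ s * y ∈ K) :
    ∃ u, u ∉ q ∧ ∀ x, (u * g) ^ 2 * x ∈ K → (u * g) * x ∈ K := by
  -- the `g`-power torsion ideal
  let T : Ideal Λ :=
    { carrier := {y | ∃ k : ℕ, g ^ k * y ∈ K}
      add_mem' := by
        rintro a b ⟨k, hk⟩ ⟨l, hl⟩
        refine ⟨k + l, ?_⟩
        have : g ^ (k + l) * (a + b) = g ^ l * (g ^ k * a) + g ^ k * (g ^ l * b) := by ring
        rw [this]
        exact K.add_mem (K.mul_mem_left _ hk) (K.mul_mem_left _ hl)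
      zero_mem' := ⟨0, by simp⟩
      smul_mem' := by
        rintro c a ⟨k, hk⟩
        refine ⟨k, ?_⟩
        have : g ^ k * (c • a) = c * (g ^ k * a) := by rw [smul_eq_mul]; ring
        rw [this]
        exact K.mul_mem_left _ hk }
  -- a single `s ∉ q` with `s T ≤ K`
  have hs : ∃ s, s ∉ q ∧ ∀ y ∈ T, s * y ∈ K := by
    have hfg : T.FG := IsNoetherian.noetherian T
    obtain ⟨S, hS⟩ := hfg
    have key : ∀ S' : Finset Λ, (∀ y ∈ S', y ∈ T) →
        ∃ s, s ∉ q ∧ ∀ y ∈ Ideal.span (S' : Set Λ), s * y ∈ K := by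
      classical
      intro S'
      induction S' using Finset.induction_on with
      | empty =>
        intro _
        refine ⟨1, fun h1 => (‹q.IsPrime›).ne_top ((Ideal.eq_top_iff_one _).2 h1), ?_⟩
        intro y hy
        simp only [Finset.coe_empty, Ideal.span_empty, Ideal.mem_bot] at hy
        rw [hy]; simp
      | insert a S'' _ IH =>
        intro hmem
        obtain ⟨s₁, hs₁, hs₁y⟩ := IH (fun y hy => hmem y (Finset.mem_insert_of_mem hy))
        obtain ⟨k, hk⟩ := hmem a (Finset.mem_insert_self _ _)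
        obtain ⟨s₂, hs₂, hs₂a⟩ := h a k hk
        refine ⟨s₁ * s₂, (‹q.IsPrime›).mul_notMem hs₁ hs₂, ?_⟩
        intro y hy
        rw [Finset.coe_insert, Ideal.span_insert, Submodule.mem_sup] at hy
        obtain ⟨y₁, hy₁, y₂, hy₂, rfl⟩ := hy
        obtain ⟨c, rfl⟩ := Ideal.mem_span_singleton'.1 hy₁
        have : s₁ * s₂ * (c * a + y₂) = (s₁ * c) * (s₂ * a) + s₂ * (s₁ * y₂) := by ring
        rw [this]
        exact K.add_mem (K.mul_mem_left _ hs₂a) (K.mul_mem_left _ (hs₁y y₂ hy₂))
    obtain ⟨s, hs, hsy⟩ := key S (fun y hy => hS ▸ Ideal.subset_span hy)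
    exact ⟨s, hs, fun y hy => hsy y (hS.symm ▸ hy)⟩
  obtain ⟨s, hs, hsT⟩ := hs
  -- the chain `C_k = {x | s^k x ∈ K}` stabilises
  let C : ℕ →o Ideal Λ :=
    { toFun := fun k =>
        { carrier := {x | s ^ k * x ∈ K}
          add_mem' := by
            intro a b ha hb
            show s ^ k * (a + b) ∈ K
            rw [mul_add]; exact K.add_mem ha hb
          zero_mem' := by show s ^ k * 0 ∈ K; simp
          smul_mem' := by
            intro c a ha
            show s ^ k * (c • a) ∈ K
            have : s ^ k * (c • a) = c * (s ^ k * a) := by rw [smul_eq_mul]; ring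
            rw [this]; exact K.mul_mem_left _ ha }
      monotone' := by
        intro k l hkl x hx
        show s ^ l * x ∈ K
        obtain ⟨m, rfl⟩ := Nat.exists_eq_add_of_le hkl
        have : s ^ (k + m) * x = s ^ m * (s ^ k * x) := by ring
        rw [this]; exact K.mul_mem_left _ hx }
  obtain ⟨k₀, hk₀⟩ := monotone_stabilizes_iff_noetherian.2 inferInstance C
  refine ⟨s ^ k₀, fun hmem => hs ((‹q.IsPrime›).mem_of_pow_mem _ hmem), ?_⟩
  intro x hx
  have h1 : s ^ k₀ * s ^ k₀ * x ∈ T := by
    refine ⟨2, ?_⟩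
    have : g ^ 2 * (s ^ k₀ * s ^ k₀ * x) = (s ^ k₀ * g) ^ 2 * x := by ring
    rw [this]; exact hx
  have h2 : s ^ (k₀ + k₀ + 1) * x ∈ K := by
    have := hsT _ h1
    have e : s ^ (k₀ + k₀ + 1) * x = s * (s ^ k₀ * s ^ k₀ * x) := by ring
    rw [e]; exact this
  have h3 : x ∈ C (k₀ + k₀ + 1) := h2
  rw [← hk₀ (k₀ + k₀ + 1) (by omega)] at h3
  have h4 : s ^ k₀ * x ∈ K := h3
  have : s ^ k₀ * g * x = g * (s ^ k₀ * x) := by ring
  rw [this]
  exact K.mul_mem_left _ h4

end LemA

section LemB

variable {T : Type u} [CommRing T] [IsLocalRing T] [IsNoetherianRing T]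

omit [IsLocalRing T] [IsNoetherianRing T] in
lemma annihilator_quot_smul_top (J : Ideal T) :
    Module.annihilator T (T ⧸ (J • ⊤ : Submodule T T)) = J := by
  have hann : (J • (⊤ : Submodule T T)) = J := by
    rw [smul_eq_mul, Ideal.mul_top]
  rw [Submodule.annihilator_quotient, hann]
  exact Submodule.colon_univ

omit [IsNoetherianRing T] in
lemma supportDim_quot_eq_zero (J : Ideal T) (hJ : J ≠ ⊤) (h : maximalIdeal T ≤ J.radical) :
    Module.supportDim T (T ⧸ (J • ⊤ : Submodule T T)) = 0 := by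
  have hsupp : Module.support T (T ⧸ (J • ⊤ : Submodule T T)) = {closedPoint T} := by
    rw [Module.support_eq_zeroLocus, annihilator_quot_smul_top]
    ext p
    simp only [PrimeSpectrum.mem_zeroLocus, SetLike.coe_subset_coe, Set.mem_singleton_iff]
    constructor
    · intro hp
      have h1 : maximalIdeal T ≤ p.asIdeal :=
        h.trans ((Ideal.IsPrime.radical_le_iff p.2).2 hp)
      ext1
      exact ((maximalIdeal.isMaximal T).eq_of_le p.2.ne_top h1).symm
    · rintro rfl
      exact le_maximalIdeal hJ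
  rw [Module.supportDim, hsupp]
  exact Order.krullDim_eq_zero_of_unique

end LemB

section LemB2

variable {T : Type u} [CommRing T] [IsRegularLocalRing T]

theorem regular_cond_pow (d : ℕ) (hd : ringKrullDim T = d) (t : Fin d → T)
    (ht : Ideal.span (Set.range t) = maximalIdeal T) (e : ℕ) (he : 0 < e) (i : Fin d) (y : T)
    (hy : t i * y ∈ Ideal.span ((fun j => t j ^ e) '' {j | j < i})) :
    y ∈ Ideal.span ((fun j => t j ^ e) '' {j | j < i}) := by
  classical
  set f : Fin d → T := fun j => if j < i then t j ^ e else t j with hf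
  have htmem : ∀ j, t j ∈ maximalIdeal T := fun j => ht ▸ Ideal.subset_span ⟨j, rfl⟩
  have hfj : ∀ j, f j ∈ maximalIdeal T := by
    intro j
    simp only [hf]
    split_ifs
    · exact Ideal.pow_mem_of_mem _ (htmem j) e he
    · exact htmem j
  have hfmem : ∀ x ∈ List.ofFn f, x ∈ maximalIdeal T := by
    intro x hx
    obtain ⟨j, rfl⟩ := (List.mem_ofFn' f x).1 hx
    exact hfj j
  have hJ : Ideal.ofList (List.ofFn f) = Ideal.span (Set.range f) := by
    unfold Ideal.ofList
    congr 1
    ext x
    simp [List.mem_ofFn']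
  have hrad : maximalIdeal T ≤ (Ideal.ofList (List.ofFn f)).radical := by
    rw [← ht, hJ]
    apply Ideal.span_le.2
    rintro _ ⟨j, rfl⟩
    by_cases hji : j < i
    · refine ⟨e, ?_⟩
      apply Ideal.subset_span
      exact ⟨j, by simp [hf, hji]⟩
    · apply Ideal.le_radical
      apply Ideal.subset_span
      exact ⟨j, by simp [hf, hji]⟩
  have hJtop : Ideal.ofList (List.ofFn f) ≠ ⊤ := by
    intro h
    have hle : Ideal.ofList (List.ofFn f) ≤ maximalIdeal T := by
      rw [hJ]; apply Ideal.span_le.2; rintro _ ⟨j, rfl⟩; exact hfj j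
    exact (maximalIdeal.isMaximal T).ne_top (top_le_iff.1 (h ▸ hle))
  have hCM := RegCM.cm_of_isRegularLocalRing T
  have hdim : supportDim T (T ⧸ (Ideal.ofList (List.ofFn f) • ⊤ : Submodule T T)) +
      ((List.ofFn f).length : ℕ) = supportDim T T := by
    rw [supportDim_quot_eq_zero _ hJtop hrad, Module.supportDim_self_eq_ringKrullDim, hd,
      List.length_ofFn, zero_add]
  have hreg := weaklyRegular_of_dim_drop (List.ofFn f) T hCM hfmem hdim
  have := regular_cond_of_isWeaklyRegular f hreg i y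
  have hfi : f i = t i := by simp [hf]
  have himg : f '' {j | j < i} = (fun j => t j ^ e) '' {j | j < i} := by
    apply Set.image_congr
    intro j hj
    simp only [hf]
    rw [if_pos (show j < i from hj)]
  rw [hfi, himg] at this
  exact this hy

end LemB2

section Main

lemma span_range_eq_of_unit_mul {T : Type*} [CommRing T] {ι : Type*} (a b : ι → T)
    (h : ∀ j, ∃ u, IsUnit u ∧ b j = u * a j) :
    Ideal.span (Set.range b) = Ideal.span (Set.range a) := by
  apply le_antisymm
  · apply Ideal.span_le.2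
    rintro _ ⟨j, rfl⟩
    obtain ⟨u, _, hu⟩ := h j
    rw [hu]
    exact Ideal.mul_mem_left _ _ (Ideal.subset_span ⟨j, rfl⟩)
  · apply Ideal.span_le.2
    rintro _ ⟨j, rfl⟩
    obtain ⟨u, hu1, hu⟩ := h j
    obtain ⟨v, hv⟩ := hu1.exists_left_inv
    have : a j = v * b j := by rw [hu, ← mul_assoc, hv, one_mul]
    rw [this]
    exact Ideal.mul_mem_left _ _ (Ideal.subset_span ⟨j, rfl⟩)

variable {Λ : Type u} [CommRing Λ] [IsNoetherianRing Λ]

/-- the ideal `(π_j^e : j < i)`. -/
def Kid {d : ℕ} (π : Fin d → Λ) (e : ℕ) (i : Fin d) : Ideal Λ :=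
  Ideal.span ((fun j' => π j' ^ e) '' {j' | j' < i})

omit [IsNoetherianRing Λ] in
lemma Kid_update {d : ℕ} (π : Fin d → Λ) (e : ℕ) (i j : Fin d) (hj : j ≤ i) (v : Λ) :
    Kid (Function.update π i v) e j = Kid π e j := by
  unfold Kid
  congr 1
  apply Set.image_congr
  intro j' hj'
  have hne : j' ≠ i := ne_of_lt (lt_of_lt_of_le hj' hj)
  simp only [Function.update_of_ne hne]

variable (q : Ideal Λ) [q.IsPrime] [IsRegularLocalRing (Localization.AtPrime q)]

omit [IsNoetherianRing Λ] in
/-- local nonzerodivisor property for the sequence `π` (unit multiples of generators). -/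
lemma local_nzd {d : ℕ} (hd : ringKrullDim (Localization.AtPrime q) = d) (e : ℕ) (he : 0 < e)
    (π : Fin d → Λ)
    (hπ : Ideal.span (Set.range fun j => algebraMap Λ (Localization.AtPrime q) (π j)) =
      IsLocalRing.maximalIdeal (Localization.AtPrime q)) (i : Fin d) (y : Λ) (k : ℕ)
    (hy : π i ^ k * y ∈ Kid π e i) : ∃ s, s ∉ q ∧ s * y ∈ Kid π e i := by
  have hmap : (Kid π e i).map (algebraMap Λ (Localization.AtPrime q)) =
      Ideal.span ((fun j => algebraMap Λ (Localization.AtPrime q) (π j) ^ e) '' {j | j < i}) := by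
    unfold Kid
    rw [Ideal.map_span, Set.image_image]
    congr 1
    apply Set.image_congr
    intro j _
    simp
  have h1 : algebraMap Λ (Localization.AtPrime q) (π i) ^ k *
      algebraMap Λ (Localization.AtPrime q) y ∈
      (Kid π e i).map (algebraMap Λ (Localization.AtPrime q)) := by
    rw [← map_pow, ← map_mul]
    exact Ideal.mem_map_of_mem _ hy
  have h2 : algebraMap Λ (Localization.AtPrime q) y ∈
      (Kid π e i).map (algebraMap Λ (Localization.AtPrime q)) := by
    rw [hmap] at h1 ⊢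
    clear hy
    induction k with
    | zero => simpa using h1
    | succ k ih =>
      apply ih
      apply regular_cond_pow d hd _ hπ e he i
      have : algebraMap Λ (Localization.AtPrime q) (π i) *
          (algebraMap Λ (Localization.AtPrime q) (π i) ^ k *
            algebraMap Λ (Localization.AtPrime q) y) =
          algebraMap Λ (Localization.AtPrime q) (π i) ^ (k + 1) *
            algebraMap Λ (Localization.AtPrime q) y := by ring
      rw [this]
      exact h1
  rw [IsLocalization.mem_map_algebraMap_iff q.primeCompl] at h2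
  obtain ⟨⟨⟨c, hc⟩, ⟨s, hs⟩⟩, hcs⟩ := h2
  rw [← map_mul, IsLocalization.eq_iff_exists q.primeCompl] at hcs
  obtain ⟨⟨s', hs'⟩, hs'eq⟩ := hcs
  refine ⟨s' * s, q.primeCompl.mul_mem hs' hs, ?_⟩
  have : s' * s * y = s' * c := by
    simp only at hs'eq
    rw [← hs'eq]; ring
  rw [this]
  exact Ideal.mul_mem_left _ _ hc

/-- the inductive construction. -/
theorem exists_seq {d : ℕ} (hd : ringKrullDim (Localization.AtPrime q) = d) (I : Ideal Λ)
    (n e : ℕ) (he : 0 < e) (g0 : Fin d → Λ)
    (hg0 : Ideal.span (Set.range fun j => algebraMap Λ (Localization.AtPrime q) (g0 j)) =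
      IsLocalRing.maximalIdeal (Localization.AtPrime q))
    (hg0I : ∀ j, g0 j ^ n ∈ I) :
    ∀ i : ℕ, i ≤ d → ∃ π : Fin d → Λ, (∀ j, ∃ u, u ∉ q ∧ π j = u * g0 j) ∧ (∀ j, π j ^ n ∈ I) ∧
      ∀ j : Fin d, j.val < i → ∀ x, π j ^ 2 * x ∈ Kid π e j → π j * x ∈ Kid π e j := by
  intro i
  induction i with
  | zero =>
    intro _
    refine ⟨g0, fun j => ⟨1, fun h1 => (‹q.IsPrime›).ne_top ((Ideal.eq_top_iff_one _).2 h1),
      (one_mul _).symm⟩, hg0I, ?_⟩
    intro j hj
    exact absurd hj (Nat.not_lt_zero _)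
  | succ i ih =>
    intro hi
    obtain ⟨π, hπu, hπI, hπc⟩ := ih (by omega)
    let ii : Fin d := ⟨i, by omega⟩
    have hπspan : Ideal.span (Set.range fun j => algebraMap Λ (Localization.AtPrime q) (π j)) =
        IsLocalRing.maximalIdeal (Localization.AtPrime q) := by
      rw [← hg0]
      apply span_range_eq_of_unit_mul
      intro j
      obtain ⟨u, hu, huj⟩ := hπu j
      refine ⟨algebraMap Λ (Localization.AtPrime q) u,
        IsLocalization.map_units (Localization.AtPrime q) (⟨u, hu⟩ : q.primeCompl), ?_⟩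
      rw [huj, map_mul]
    obtain ⟨u, hu, hucond⟩ := exists_mul_ann_sq q (Kid π e ii) (π ii)
      (fun y k hy => local_nzd q hd e he π hπspan ii y k hy)
    refine ⟨Function.update π ii (u * π ii), ?_, ?_, ?_⟩
    · intro j
      by_cases hj : j = ii
      · subst hj
        obtain ⟨u0, hu0, hu0j⟩ := hπu ii
        refine ⟨u * u0, (‹q.IsPrime›).mul_notMem hu hu0, ?_⟩
        rw [Function.update_self, hu0j, mul_assoc]
      · rw [Function.update_of_ne hj]
        exact hπu j
    · intro j
      by_cases hj : j = ii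
      · subst hj
        rw [Function.update_self, mul_pow]
        exact Ideal.mul_mem_left _ _ (hπI ii)
      · rw [Function.update_of_ne hj]
        exact hπI j
    · intro j hj x hx
      by_cases hjii : j = ii
      · subst hjii
        rw [Kid_update π e ii ii le_rfl, Function.update_self] at hx ⊢
        exact hucond x hx
      · have hjlt : j.val < i := by
          have : j.val ≠ i := fun h => hjii (Fin.ext h)
          omega
        have hjle : j ≤ ii := Fin.le_def.2 (by show j.val ≤ i; omega)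
        rw [Kid_update π e ii j hjle, Function.update_of_ne hjii] at hx ⊢
        exact hπc j hjlt x hx

/-- generators of the maximal ideal of the localization coming from `Λ`. -/
lemma exists_gens {d : ℕ} (hd : ringKrullDim (Localization.AtPrime q) = d) :
    ∃ g0 : Fin d → Λ,
      Ideal.span (Set.range fun j => algebraMap Λ (Localization.AtPrime q) (g0 j)) =
        IsLocalRing.maximalIdeal (Localization.AtPrime q) := by
  classical
  have hspan : (IsLocalRing.maximalIdeal (Localization.AtPrime q)).spanFinrank = d := by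
    have h1 := (isRegularLocalRing_iff (Localization.AtPrime q)).1 inferInstance
    rw [hd] at h1
    exact_mod_cast h1
  obtain ⟨s, hscard, hsspan⟩ := Submodule.FG.exists_span_finset_card_eq_spanFinrank
    (IsNoetherian.noetherian (IsLocalRing.maximalIdeal (Localization.AtPrime q)))
  rw [hspan] at hscard
  let eqv := s.equivFinOfCardEq hscard
  let t0 : Fin d → Localization.AtPrime q := fun j => (eqv.symm j : Localization.AtPrime q)
  have hrange : Set.range t0 = (s : Set (Localization.AtPrime q)) := by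
    ext x
    constructor
    · rintro ⟨j, rfl⟩
      exact (eqv.symm j).2
    · intro hx
      exact ⟨eqv ⟨x, hx⟩, by simp [t0]⟩
  have hsurj : ∀ j, ∃ (a : Λ) (b : q.primeCompl),
      t0 j * algebraMap Λ (Localization.AtPrime q) b = algebraMap Λ (Localization.AtPrime q) a := by
    intro j
    obtain ⟨⟨a, b⟩, hab⟩ := IsLocalization.surj q.primeCompl (t0 j)
    exact ⟨a, b, hab⟩
  choose a b hab using hsurj
  refine ⟨a, ?_⟩
  have : Ideal.span (Set.range fun j => algebraMap Λ (Localization.AtPrime q) (a j)) =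
      Ideal.span (Set.range t0) := by
    apply span_range_eq_of_unit_mul
    intro j
    refine ⟨algebraMap Λ (Localization.AtPrime q) (b j),
      IsLocalization.map_units (Localization.AtPrime q) (b j), ?_⟩
    rw [← hab j, mul_comm]
  rw [this, hrange]
  exact hsspan

theorem s2109 (I : Ideal Λ) (n e d : ℕ) (hn : 0 < n) (he : 0 < e)
    (hpow : (q ^ n).map (algebraMap Λ (Localization.AtPrime q)) ≤
      I.map (algebraMap Λ (Localization.AtPrime q)))
    (hd : ringKrullDim (Localization.AtPrime q) = d) :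
    ∃ (N : ℕ) (π : Fin d → Λ), 0 < N ∧
      Ideal.span (Set.range fun i => algebraMap Λ (Localization.AtPrime q) (π i)) =
        q.map (algebraMap Λ (Localization.AtPrime q)) ∧
      (∀ i, π i ^ N ∈ I) ∧
      ∀ i : Fin d, ∀ x : Λ ⧸ Ideal.span
          (Set.range fun j : {j : Fin d // (j : ℕ) < (i : ℕ)} => π j ^ e),
        Ideal.Quotient.mk _ (π i) ^ 2 * x = 0 → Ideal.Quotient.mk _ (π i) * x = 0 := by
  obtain ⟨g0, hg0⟩ := exists_gens q hd
  -- adjust so that `g^n ∈ I`
  have hadj : ∀ j, ∃ w, w ∉ q ∧ (w * g0 j) ^ n ∈ I := by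
    intro j
    have hgq : g0 j ∈ q := by
      rw [← IsLocalization.AtPrime.to_map_mem_maximal_iff (Localization.AtPrime q) q, ← hg0]
      exact Ideal.subset_span ⟨j, rfl⟩
    have h1 : algebraMap Λ (Localization.AtPrime q) (g0 j ^ n) ∈
        I.map (algebraMap Λ (Localization.AtPrime q)) :=
      hpow (Ideal.mem_map_of_mem _ (Ideal.pow_mem_pow hgq n))
    rw [IsLocalization.mem_map_algebraMap_iff q.primeCompl] at h1
    obtain ⟨⟨⟨c, hc⟩, ⟨s, hs⟩⟩, hcs⟩ := h1
    rw [← map_mul, IsLocalization.eq_iff_exists q.primeCompl] at hcs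
    obtain ⟨⟨s', hs'⟩, hs'eq⟩ := hcs
    refine ⟨s' * s, q.primeCompl.mul_mem hs' hs, ?_⟩
    obtain ⟨m, rfl⟩ : ∃ m, n = m + 1 := ⟨n - 1, by omega⟩
    have : (s' * s * g0 j) ^ (m + 1) = (s' * s) ^ m * (s' * c) := by
      simp only at hs'eq
      rw [← hs'eq]; ring
    rw [this]
    exact Ideal.mul_mem_left _ _ (Ideal.mul_mem_left _ _ hc)
  choose w hw hwI using hadj
  have hg1 : Ideal.span (Set.range fun j => algebraMap Λ (Localization.AtPrime q) (w j * g0 j)) =
      IsLocalRing.maximalIdeal (Localization.AtPrime q) := by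
    rw [← hg0]
    apply span_range_eq_of_unit_mul
    intro j
    refine ⟨algebraMap Λ (Localization.AtPrime q) (w j),
      IsLocalization.map_units (Localization.AtPrime q) (⟨w j, hw j⟩ : q.primeCompl), ?_⟩
    rw [map_mul]
  obtain ⟨π, hπu, hπI, hπc⟩ := exists_seq q hd I n e he (fun j => w j * g0 j) hg1 hwI d le_rfl
  refine ⟨n, π, hn, ?_, hπI, ?_⟩
  · rw [Localization.AtPrime.map_eq_maximalIdeal]
    refine Eq.trans ?_ hg1
    apply span_range_eq_of_unit_mul
    intro j
    obtain ⟨u, hu, huj⟩ := hπu j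
    refine ⟨algebraMap Λ (Localization.AtPrime q) u,
      IsLocalization.map_units (Localization.AtPrime q) (⟨u, hu⟩ : q.primeCompl), ?_⟩
    rw [huj, map_mul]
  · intro i x hx
    have hK : Ideal.span (Set.range fun j : {j : Fin d // (j : ℕ) < (i : ℕ)} => π j ^ e) =
        Kid π e i := by
      unfold Kid
      congr 1
      ext z
      constructor
      · rintro ⟨⟨j, hj⟩, rfl⟩
        exact ⟨j, Fin.lt_def.2 hj, rfl⟩
      · rintro ⟨j, hj, rfl⟩
        exact ⟨⟨j, Fin.lt_def.1 hj⟩, rfl⟩
    obtain ⟨x0, rfl⟩ := Ideal.Quotient.mk_surjective x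
    rw [← map_pow, ← map_mul, Ideal.Quotient.eq_zero_iff_mem, hK] at hx
    rw [← map_mul, Ideal.Quotient.eq_zero_iff_mem, hK]
    exact hπc i i.2 x0 hx

end Main

end Groth.Agent.Helper2.ParamAnn
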