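import Mathlib
import Groth.Agent.Helper2.ParamAnn

set_option autoImplicit false

namespace Groth.Agent.Helper2.Sep

open Groth.Agent.Helper2.ParamAnn

universe u

variable {Λ : Type u} [CommRing Λ] [IsNoetherianRing Λ]
  (q : Ideal Λ) [q.IsPrime] [IsRegularLocalRing (Localization.AtPrime q)]

/-- Strong form of the parameter lemma: the exponent `n` is kept. -/
theorem s2109_strong (I : Ideal Λ) (n e d : ℕ) (hn : 0 < n) (he : 0 < e)
    (hpow : (q ^ n).map (algebraMap Λ (Localization.AtPrime q)) ≤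
      I.map (algebraMap Λ (Localization.AtPrime q)))
    (hd : ringKrullDim (Localization.AtPrime q) = d) :
    ∃ π : Fin d → Λ,
      Ideal.span (Set.range fun i => algebraMap Λ (Localization.AtPrime q) (π i)) =
        IsLocalRing.maximalIdeal (Localization.AtPrime q) ∧
      (∀ i, π i ^ n ∈ I) ∧
      ∀ i : Fin d, ∀ x : Λ, π i ^ 2 * x ∈ Kid π e i → π i * x ∈ Kid π e i := by
  obtain ⟨g0, hg0⟩ := exists_gens q hd
  have hadj : ∀ j, ∃ w, w ∉ q ∧ (w * g0 j) ^ n ∈ I := by
    intro j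
    have hgq : g0 j ∈ q := by
      rw [← IsLocalization.AtPrime.to_map_mem_maximal_iff (Localization.AtPrime q) q, ← hg0]
      exact Ideal.subset_span ⟨j, rfl⟩
    have h1 : algebraMap Λ (Localization.AtPrime q) (g0 j ^ n) ∈
        I.map (algebraMap Λ (Localization.AtPrime q)) :=
      hpow (Ideal.mem_map_of_mem _ (Ideal.pow_mem_pow hgq n))
    rw [IsLocalization.mem_map_algebraMap_iff q.primeCompl] at h1
    obtain ⟨⟨⟨c, hc⟩, ⟨s, hs⟩⟩, hcs⟩ := h1
    rw [← map_mul, IsLocalization.eq_iff_exists q.primeCompl] at hcs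
    obtain ⟨⟨s', hs'⟩, hs'eq⟩ := hcs
    refine ⟨s' * s, q.primeCompl.mul_mem hs' hs, ?_⟩
    obtain ⟨m, rfl⟩ : ∃ m, n = m + 1 := ⟨n - 1, by omega⟩
    have : (s' * s * g0 j) ^ (m + 1) = (s' * s) ^ m * (s' * c) := by
      simp only at hs'eq
      rw [← hs'eq]; ring
    rw [this]
    exact Ideal.mul_mem_left _ _ (Ideal.mul_mem_left _ _ hc)
  choose w hw hwI using hadj
  have hg1 : Ideal.span (Set.range fun j => algebraMap Λ (Localization.AtPrime q) (w j * g0 j)) =
      IsLocalRing.maximalIdeal (Localization.AtPrime q) := by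
    rw [← hg0]
    apply span_range_eq_of_unit_mul
    intro j
    refine ⟨algebraMap Λ (Localization.AtPrime q) (w j),
      IsLocalization.map_units (Localization.AtPrime q) (⟨w j, hw j⟩ : q.primeCompl), ?_⟩
    rw [map_mul]
  obtain ⟨π, hπu, hπI, hπc⟩ := exists_seq q hd I n e he (fun j => w j * g0 j) hg1 hwI d le_rfl
  refine ⟨π, ?_, hπI, fun i x hx => hπc i i.2 x hx⟩
  refine Eq.trans ?_ hg1
  apply span_range_eq_of_unit_mul
  intro j
  obtain ⟨u, hu, huj⟩ := hπu j
  refine ⟨algebraMap Λ (Localization.AtPrime q) u,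
    IsLocalization.map_units (Localization.AtPrime q) (⟨u, hu⟩ : q.primeCompl), ?_⟩
  rw [huj, map_mul]

/-- From `Ann(π) = Ann(π²)` to the same for a power. -/
theorem ann_pow {Λ : Type u} [CommRing Λ] (K : Ideal Λ) (π : Λ)
    (h : ∀ x, π ^ 2 * x ∈ K → π * x ∈ K) (c : ℕ) (hc : 0 < c) :
    ∀ x, (π ^ c) ^ 2 * x ∈ K → π ^ c * x ∈ K := by
  have key : ∀ m : ℕ, ∀ x, π ^ (m + 1) * x ∈ K → π * x ∈ K := by
    intro m
    induction m with
    | zero => intro x hx; simpa using hx
    | succ m ih =>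
      intro x hx
      apply ih
      have h1 : π ^ 2 * (π ^ m * x) ∈ K := by
        have : π ^ 2 * (π ^ m * x) = π ^ (m + 1 + 1) * x := by ring
        rw [this]; exact hx
      have h2 := h _ h1
      have : π ^ (m + 1) * x = π * (π ^ m * x) := by ring
      rw [this]; exact h2
  intro x hx
  obtain ⟨m, rfl⟩ : ∃ m, c = m + 1 := ⟨c - 1, by omega⟩
  have h1 : π ^ (2 * m + 1 + 1) * x ∈ K := by
    have : π ^ (2 * m + 1 + 1) * x = (π ^ (m + 1)) ^ 2 * x := by ring
    rw [this]; exact hx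
  have h2 := key _ _ h1
  have : π ^ (m + 1) * x = π ^ m * (π * x) := by ring
  rw [this]
  exact Ideal.mul_mem_left _ _ h2

end Groth.Agent.Helper2.Sep
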