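import Mathlib
import Groth.Prelude.Def_Smoothing
import Groth.Agent.Helper2.SepA
import Groth.Agent.Helper2.DesgJ

set_option autoImplicit false

namespace Groth.Agent.Helper2.Sep

open Function IsLocalRing

universe u

section Aux

/-- a power of the prime lands in the ideal, locally. -/
theorem exists_pow_le {Λ : Type u} [CommRing Λ] [IsNoetherianRing Λ] (𝔮 I : Ideal Λ) [𝔮.IsPrime]
    (hmin : 𝔮 ∈ I.minimalPrimes) :
    ∃ n : ℕ, 0 < n ∧ (𝔮 ^ n).map (algebraMap Λ (Localization.AtPrime 𝔮)) ≤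
      I.map (algebraMap Λ (Localization.AtPrime 𝔮)) := by
  have hrad : maximalIdeal (Localization.AtPrime 𝔮) ≤
      (I.map (algebraMap Λ (Localization.AtPrime 𝔮))).radical := by
    rw [Ideal.radical_eq_sInf]
    apply le_sInf
    rintro Q ⟨hIQ, hQ⟩
    have hP : (Q.comap (algebraMap Λ (Localization.AtPrime 𝔮))).IsPrime := Ideal.comap_isPrime _ _
    have hIP : I ≤ Q.comap (algebraMap Λ (Localization.AtPrime 𝔮)) :=
      Ideal.map_le_iff_le_comap.1 hIQ
    have hPq : Q.comap (algebraMap Λ (Localization.AtPrime 𝔮)) ≤ 𝔮 := by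
      intro x hx
      by_contra hxq
      have hu : IsUnit (algebraMap Λ (Localization.AtPrime 𝔮) x) :=
        IsLocalization.map_units (Localization.AtPrime 𝔮) (⟨x, hxq⟩ : 𝔮.primeCompl)
      exact hQ.ne_top (Ideal.eq_top_of_isUnit_mem _ hx hu)
    have heq : 𝔮 ≤ Q.comap (algebraMap Λ (Localization.AtPrime 𝔮)) := hmin.2 ⟨hP, hIP⟩ hPq
    rw [← Localization.AtPrime.map_eq_maximalIdeal, Ideal.map_le_iff_le_comap]
    exact heq
  obtain ⟨n, hn⟩ := Ideal.exists_radical_pow_le_of_fg
    (I.map (algebraMap Λ (Localization.AtPrime 𝔮))) (IsNoetherian.noetherian _)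
  refine ⟨n + 1, Nat.succ_pos _, ?_⟩
  rw [Ideal.map_pow, Localization.AtPrime.map_eq_maximalIdeal]
  calc maximalIdeal (Localization.AtPrime 𝔮) ^ (n + 1)
      ≤ maximalIdeal (Localization.AtPrime 𝔮) ^ n := Ideal.pow_le_pow_right (Nat.le_succ n)
    _ ≤ (I.map (algebraMap Λ (Localization.AtPrime 𝔮))).radical ^ n := Ideal.pow_right_mono hrad n
    _ ≤ _ := hn

/-- smooth basic opens give elements of the singular ideal. -/
theorem mem_singularIdeal_of_smooth_away {R C : Type u} [CommRing R] [CommRing C] [Algebra R C]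
    [Algebra.FinitePresentation R C] (f : C) (h : Algebra.Smooth R (Localization.Away f)) :
    f ∈ Smoothing.singularIdeal R C := by
  rw [Desg.mem_singularIdeal_iff]
  intro Q _ hQ
  by_contra hf
  exact hQ ((Algebra.basicOpen_subset_smoothLocus_iff_smooth.2 h)
    (show (⟨Q, inferInstance⟩ : PrimeSpectrum C) ∈ PrimeSpectrum.basicOpen f from hf))

/-- elements of the singular ideal have (formally) smooth basic opens. -/
theorem formallySmooth_away_of_mem_singularIdeal {R C : Type u} [CommRing R] [CommRing C]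
    [Algebra R C] [Algebra.FinitePresentation R C] (f : C) (h : f ∈ Smoothing.singularIdeal R C) :
    Algebra.FormallySmooth R (Localization.Away f) := by
  rw [← Algebra.basicOpen_subset_smoothLocus_iff]
  intro P hP
  by_contra hcon
  rw [Desg.mem_singularIdeal_iff] at h
  haveI : P.asIdeal.IsPrime := P.2
  exact hP (h P.asIdeal hcon)

/-- free finite modules are coordinate spaces. -/
theorem exists_equiv_fin (S M : Type u) [CommRing S] [AddCommGroup M] [Module S M]
    [Module.Free S M] [Module.Finite S M] : ∃ q : ℕ, Nonempty (M ≃ₗ[S] (Fin q → S)) := by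
  rcases subsingleton_or_nontrivial S with hS | hS
  · haveI : Subsingleton M := Module.subsingleton S M
    exact ⟨0, ⟨LinearEquiv.ofSubsingleton M (Fin 0 → S)⟩⟩
  · exact ⟨_, ⟨(Module.finBasis S M).equivFun⟩⟩

/-- the annihilator condition on `Λ`, in the form needed. -/
theorem hΛ_conv {Λ : Type u} [CommRing Λ] {d : ℕ} (π P : Fin d → Λ) (c : ℕ) (hc : 0 < c)
    (hP : ∀ j, P j = π j ^ c)
    (h : ∀ i : Fin d, ∀ x : Λ, π i ^ 2 * x ∈ ParamAnn.Kid π (c * 8) i →
      π i * x ∈ ParamAnn.Kid π (c * 8) i)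
    (i : Fin d)
    (x : Λ ⧸ Ideal.span (Set.range fun j : {j : Fin d // (j : ℕ) < (i : ℕ)} => P j ^ 8))
    (hx : Ideal.Quotient.mk _ (P i) ^ 2 * x = 0) : Ideal.Quotient.mk _ (P i) * x = 0 := by
  obtain rfl : P = fun j => π j ^ c := funext hP
  have hK : Ideal.span (Set.range fun j : {j : Fin d // (j : ℕ) < (i : ℕ)} =>
      (π (j : Fin d) ^ c) ^ 8) = ParamAnn.Kid π (c * 8) i := by
    unfold ParamAnn.Kid
    congr 1
    ext z
    constructor
    · rintro ⟨⟨j, hj⟩, rfl⟩
      exact ⟨j, Fin.lt_def.2 hj, by simp [pow_mul]⟩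
    · rintro ⟨j, hj, rfl⟩
      exact ⟨⟨j, Fin.lt_def.1 hj⟩, by simp [pow_mul]⟩
  obtain ⟨y, rfl⟩ := Ideal.Quotient.mk_surjective x
  simp only at hx ⊢
  rw [← map_pow, ← map_mul, Ideal.Quotient.eq_zero_iff_mem, hK] at hx
  rw [← map_mul, Ideal.Quotient.eq_zero_iff_mem, hK]
  exact ann_pow _ (π i) (h i) c hc y hx

end Aux

end Groth.Agent.Helper2.Sep
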