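import Mathlib
import Groth.Prelude.Def_Smoothing
import Groth.Agent.Helper2.DesgJ
import Groth.Agent.Helper2.SepM

set_option autoImplicit false

namespace Groth.Agent.Helper2.Pop

open Function MvPolynomial

universe u

section G1

variable {R A : Type u} [CommRing R] [CommRing A] [Algebra R A] [Algebra.FinitePresentation R A]

attribute [local instance] MvPolynomial.algebraMvPolynomial in
/-- the polynomial ring over `A` is smooth over `R` on `D(f)` for `f` in the singular ideal. -/
theorem formallySmooth_away_C (σ : Type u) [Finite σ] (f : A) (hf : f ∈ Smoothing.singularIdeal R A) :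
    Algebra.FormallySmooth R (Localization.Away (C f : MvPolynomial σ A)) := by
  haveI h1 : Algebra.FormallySmooth R (Localization.Away f) :=
    Sep.formallySmooth_away_of_mem_singularIdeal f hf
  haveI h2 : Algebra.FormallySmooth R (MvPolynomial σ (Localization.Away f)) :=
    Algebra.FormallySmooth.comp R (Localization.Away f) _
  haveI hloc : IsLocalization (Submonoid.powers (C f : MvPolynomial σ A))
      (MvPolynomial σ (Localization.Away f)) := by
    have := MvPolynomial.isLocalization (σ := σ) (Submonoid.powers f) (Localization.Away f)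
    rwa [Submonoid.map_powers] at this
  haveI : IsScalarTower R (MvPolynomial σ A) (MvPolynomial σ (Localization.Away f)) :=
    IsScalarTower.of_algebraMap_eq (fun r => by
      rw [MvPolynomial.algebraMap_apply, MvPolynomial.algebraMap_apply]
      show C (algebraMap R (Localization.Away f) r) = MvPolynomial.map _ (C (algebraMap R A r))
      rw [MvPolynomial.map_C, ← IsScalarTower.algebraMap_apply])
  let e : MvPolynomial σ (Localization.Away f) ≃ₐ[MvPolynomial σ A]
      Localization.Away (C f : MvPolynomial σ A) :=
    IsLocalization.algEquiv (Submonoid.powers (C f : MvPolynomial σ A)) _ _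
  exact Algebra.FormallySmooth.of_equiv (e.restrictScalars R)

/-- If the singular ideal of `A` generates the unit ideal of `Λ`, then `A → Λ` factors through a
smooth algebra. -/
theorem exists_smooth_factor_of_top {Λ : Type u} [CommRing Λ] [Algebra R Λ] (φ : A →ₐ[R] Λ)
    (h : (Smoothing.singularIdeal R A).map φ = ⊤) :
    ∃ (B : Type u) (_ : CommRing B) (_ : Algebra R B), Algebra.Smooth R B ∧
      ∃ (g : A →ₐ[R] B) (hh : B →ₐ[R] Λ), hh.comp g = φ := by
  classical
  -- write 1 as a combination
  have h1 : (1 : Λ) ∈ Ideal.span ((φ : A → Λ) '' (Smoothing.singularIdeal R A : Set A)) := by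
    have : (1 : Λ) ∈ (Smoothing.singularIdeal R A).map φ := by rw [h]; trivial
    exact this
  obtain ⟨c, t, ht, -, hsum⟩ := Submodule.mem_span_iff_exists_finset_subset.1 h1
  have hpre : ∀ a : t, ∃ f : A, f ∈ Smoothing.singularIdeal R A ∧ φ f = a.1 := by
    intro a
    obtain ⟨f, hf, hfa⟩ := ht a.2
    exact ⟨f, hf, hfa⟩
  choose f hfH hfa using hpre
  -- the polynomial ring
  let F : MvPolynomial t A := ∑ a : t, C (f a) * X a
  letI algAΛ : Algebra A Λ := φ.toRingHom.toAlgebra
  haveI towΛ : IsScalarTower R A Λ := IsScalarTower.of_algebraMap_eq (fun r => (φ.commutes r).symm)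
  let ev : MvPolynomial t A →ₐ[R] Λ :=
    (aeval (fun a : t => c a.1) : MvPolynomial t A →ₐ[A] Λ).restrictScalars R
  have hevF : ev F = 1 := by
    show aeval (fun a : t => c a.1) F = 1
    rw [map_sum, ← hsum, ← Finset.sum_coe_sort t (fun a => c a • a)]
    apply Finset.sum_congr rfl
    intro a _
    rw [map_mul, aeval_C, aeval_X, smul_eq_mul, mul_comm]
    congr 1
    exact hfa a
  have hunit : ∀ y : Submonoid.powers F, IsUnit (ev y) := by
    rintro ⟨_, n, rfl⟩
    show IsUnit (ev (F ^ n))
    rw [map_pow, hevF, one_pow]
    exact isUnit_one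
  -- smoothness
  have hsm : Algebra.Smooth R (Localization.Away F) := by
    rw [← Algebra.basicOpen_subset_smoothLocus_iff_smooth]
    intro Q hQ
    have hex : ∃ a : t, (C (f a) : MvPolynomial t A) ∉ Q.asIdeal := by
      by_contra hcon
      push Not at hcon
      apply hQ
      show F ∈ Q.asIdeal
      exact Ideal.sum_mem _ (fun a _ => Ideal.mul_mem_right _ _ (hcon a))
    obtain ⟨a, ha⟩ := hex
    exact (Algebra.basicOpen_subset_smoothLocus_iff.2 (formallySmooth_away_C t (f a) (hfH a)))
      (show Q ∈ PrimeSpectrum.basicOpen (C (f a) : MvPolynomial t A) from ha)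
  refine ⟨Localization.Away F, inferInstance, inferInstance, hsm,
    (IsScalarTower.toAlgHom R (MvPolynomial t A) (Localization.Away F)).comp
      (IsScalarTower.toAlgHom R A (MvPolynomial t A)),
    IsLocalization.liftAlgHom (M := Submonoid.powers F) (f := ev) hunit, ?_⟩
  apply AlgHom.ext
  intro x
  show IsLocalization.liftAlgHom (M := Submonoid.powers F) (f := ev) hunit
    (algebraMap (MvPolynomial t A) (Localization.Away F) (C x)) = φ x
  rw [IsLocalization.liftAlgHom_apply, IsLocalization.lift_eq]
  show aeval (fun a : t => c a.1) (C x) = φ x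
  rw [aeval_C]
  rfl

end G1

end Groth.Agent.Helper2.Pop
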