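import Mathlib
import Groth.Prelude
import Groth.Agent.Helper2.StdBC
import Groth.Agent.Helper2.DesgJ

set_option autoImplicit false

namespace Groth.Agent.Helper2.Res

open Function MvPolynomial Smoothing

universe u

section Quot

variable {R₀ A₀ R₁ A₁ : Type u} [CommRing R₀] [CommRing A₀] [Algebra R₀ A₀] [CommRing R₁]
  [CommRing A₁] [Algebra R₁ A₁] (qR : R₀ →+* R₁) (qA : A₀ →+* A₁)

/-- the homomorphism of the transported presentation -/
noncomputable def homQ (P : MarkedPresentation R₀ A₀) : MvPolynomial (Fin P.n) R₁ →ₐ[R₁] A₁ :=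
  aeval (fun i => qA (P.hom (X i)))

theorem homQ_map (cA : ∀ x, qA (algebraMap R₀ A₀ x) = algebraMap R₁ A₁ (qR x))
    (P : MarkedPresentation R₀ A₀) (F : MvPolynomial (Fin P.n) R₀) :
    homQ qA P (MvPolynomial.map qR F) = qA (P.hom F) := by
  have h : ((homQ qA P).toRingHom.comp (MvPolynomial.map qR) : MvPolynomial (Fin P.n) R₀ →+* A₁) =
      qA.comp P.hom.toRingHom := by
    apply MvPolynomial.ringHom_ext
    · intro r
      simp only [RingHom.comp_apply, MvPolynomial.map_C, AlgHom.toRingHom_eq_coe, RingHom.coe_coe]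
      rw [← MvPolynomial.algebraMap_eq, AlgHom.commutes, ← MvPolynomial.algebraMap_eq,
        AlgHom.commutes, cA]
    · intro i
      simp [homQ]
  exact congrArg (fun h => h F) h

variable (hqR : Surjective qR) (hqA : Surjective qA)
  (kA : RingHom.ker qA = (RingHom.ker qR).map (algebraMap R₀ A₀))
  (cA : ∀ x, qA (algebraMap R₀ A₀ x) = algebraMap R₁ A₁ (qR x))

include hqR kA cA in
theorem ker_homQ (P : MarkedPresentation R₀ A₀) :
    RingHom.ker (homQ qA P).toRingHom =
      Ideal.span (Set.range fun j => MvPolynomial.map qR (P.rel j)) := by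
  have hmp : Surjective (MvPolynomial.map qR : MvPolynomial (Fin P.n) R₀ → _) :=
    MvPolynomial.map_surjective _ hqR
  apply le_antisymm
  · intro x hx
    obtain ⟨F, rfl⟩ := hmp x
    have h1 : qA (P.hom F) = 0 := by
      rw [← homQ_map qR qA cA]; exact hx
    have h2 : P.hom F ∈ (RingHom.ker qR).map (algebraMap R₀ A₀) := by
      rw [← kA]; exact h1
    have h3 : (RingHom.ker qR).map (algebraMap R₀ A₀) =
        ((RingHom.ker qR).map (C : R₀ →+* MvPolynomial (Fin P.n) R₀)).map P.hom.toRingHom := by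
      rw [Ideal.map_map]
      congr 1
      ext r
      simp only [RingHom.comp_apply, AlgHom.toRingHom_eq_coe, RingHom.coe_coe]
      rw [← MvPolynomial.algebraMap_eq, AlgHom.commutes]
    rw [h3, ← MvPolynomial.ker_map] at h2
    obtain ⟨G, hG, hGF⟩ := (Ideal.mem_map_iff_of_surjective P.hom.toRingHom P.surj).mp h2
    have h4 : F - G ∈ Ideal.span (Set.range P.rel) := by
      rw [← P.ker_eq, RingHom.mem_ker, map_sub, sub_eq_zero]
      exact hGF.symm
    have h5 := Ideal.mem_map_of_mem (MvPolynomial.map qR) h4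
    rw [Ideal.map_span, ← Set.range_comp, map_sub, (RingHom.mem_ker).mp hG, sub_zero] at h5
    exact h5
  · rw [Ideal.span_le]
    rintro _ ⟨j, rfl⟩
    show homQ qA P (MvPolynomial.map qR (P.rel j)) = 0
    rw [homQ_map qR qA cA]
    have : P.rel j ∈ RingHom.ker P.hom.toRingHom := by
      rw [P.ker_eq]; exact Ideal.subset_span ⟨j, rfl⟩
    have h0 : P.hom (P.rel j) = 0 := this
    rw [h0, map_zero]

/-- the transported presentation -/
noncomputable def presQ (P : MarkedPresentation R₀ A₀) : MarkedPresentation R₁ A₁ where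
  n := P.n
  m := P.m
  c := P.c
  hcn := P.hcn
  hcm := P.hcm
  rel := fun j => MvPolynomial.map qR (P.rel j)
  hom := homQ qA P
  surj := by
    intro a₁
    obtain ⟨a₀, rfl⟩ := hqA a₁
    obtain ⟨F, rfl⟩ := P.surj a₀
    exact ⟨MvPolynomial.map qR F, homQ_map qR qA cA P F⟩
  ker_eq := ker_homQ qR qA hqR kA cA P

theorem jacobianMinor_mapQ {n m c : ℕ} (f : Fin m → MvPolynomial (Fin n) R₀)
    (rows : Fin c → Fin m) (cols : Fin c → Fin n) :
    jacobianMinor (fun j => MvPolynomial.map qR (f j)) rows cols =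
      MvPolynomial.map qR (jacobianMinor f rows cols) := by
  unfold jacobianMinor
  rw [RingHom.map_det]
  congr 1
  ext j k
  simp [MvPolynomial.pderiv_map]

include hqR kA cA in
theorem killsTail_quot_aux (P : MarkedPresentation R₀ A₀) (a : A₀) (hkill : KillsTail P a)
    (a'' : MvPolynomial (Fin P.n) R₁) (ha'' : homQ qA P a'' = qA a) (j : Fin P.m)
    (hj : P.c ≤ (j : ℕ)) :
    a'' * MvPolynomial.map qR (P.rel j) ∈
      Ideal.span ((fun j => MvPolynomial.map qR (P.rel j)) '' {j' : Fin P.m | (j' : ℕ) < P.c}) ⊔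
      Ideal.span (Set.range fun j => MvPolynomial.map qR (P.rel j)) ^ 2 := by
  obtain ⟨a₀, ha₀⟩ := P.surj a
  have h1 := hkill a₀ ha₀ j hj
  set φ : MvPolynomial (Fin P.n) R₀ →+* MvPolynomial (Fin P.n) R₁ := MvPolynomial.map qR with hφ
  have h2 : φ (a₀ * P.rel j) ∈ (Ideal.span (P.rel '' {j' : Fin P.m | (j' : ℕ) < P.c}) ⊔
      Ideal.span (Set.range P.rel) ^ 2).map φ := Ideal.mem_map_of_mem φ h1
  rw [Ideal.map_sup, Ideal.map_pow, Ideal.map_span, Ideal.map_span, ← Set.image_comp,
    ← Set.range_comp, map_mul] at h2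
  have h3 : a'' - φ a₀ ∈ Ideal.span (Set.range fun j => φ (P.rel j)) := by
    rw [← ker_homQ qR qA hqR kA cA P, RingHom.mem_ker]
    show homQ qA P (a'' - φ a₀) = 0
    rw [map_sub, ha'', hφ, homQ_map qR qA cA, ha₀, sub_self]
  have h4 : φ (P.rel j) ∈ Ideal.span (Set.range fun j => φ (P.rel j)) :=
    Ideal.subset_span ⟨j, rfl⟩
  have h5 : (a'' - φ a₀) * φ (P.rel j) ∈ Ideal.span (Set.range fun j => φ (P.rel j)) ^ 2 := by
    rw [pow_two]; exact Ideal.mul_mem_mul h3 h4
  have h6 : a'' * φ (P.rel j) = φ a₀ * φ (P.rel j) + (a'' - φ a₀) * φ (P.rel j) := by ring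
  rw [h6]
  refine Ideal.add_mem _ ?_ (Ideal.mem_sup_right h5)
  exact h2

include hqR hqA kA cA in
theorem isStrictlyStandard_quot (a : A₀) (ha : IsStrictlyStandard R₀ A₀ a) :
    IsStrictlyStandard R₁ A₁ (qA a) := by
  obtain ⟨P, hmem, hkill⟩ := ha
  refine ⟨presQ qR qA hqR hqA kA cA P, ?_, ?_⟩
  · have h1 := Ideal.mem_map_of_mem qA hmem
    rw [Ideal.map_span, ← Set.range_comp] at h1
    have key : (qA ∘ fun cols : Fin P.c → Fin P.n =>
        P.hom (jacobianMinor P.rel (Fin.castLE P.hcm) cols)) =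
        fun cols : Fin P.c → Fin P.n => homQ qA P (jacobianMinor
          (fun j => MvPolynomial.map qR (P.rel j)) (Fin.castLE P.hcm) cols) := by
      funext cols
      rw [jacobianMinor_mapQ, homQ_map qR qA cA]
      rfl
    rw [key] at h1
    exact h1
  · intro a'' ha'' j hj
    exact killsTail_quot_aux qR qA hqR kA cA P a hkill a'' ha'' j hj

end Quot

end Groth.Agent.Helper2.Res
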