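import Mathlib
import Groth.Prelude
import Groth.Agent.Helper2.ResA

set_option autoImplicit false

namespace Groth.Agent.Helper2.Res

open Function Smoothing

universe u

section Quot

variable {R₀ A₀ R₁ A₁ : Type u} [CommRing R₀] [CommRing A₀] [Algebra R₀ A₀] [CommRing R₁]
  [CommRing A₁] [Algebra R₁ A₁] (qR : R₀ →+* R₁) (qA : A₀ →+* A₁)
  (hqR : Surjective qR) (hqA : Surjective qA)
  (kA : RingHom.ker qA = (RingHom.ker qR).map (algebraMap R₀ A₀))
  (cA : ∀ x, qA (algebraMap R₀ A₀ x) = algebraMap R₁ A₁ (qR x))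

include hqR hqA kA cA in
set_option maxHeartbeats 1600000 in
theorem isSmoothAt_quot (Q₁ : Ideal A₁) [Q₁.IsPrime]
    (h : Algebra.IsSmoothAt R₀ (Q₁.comap qA)) : Algebra.IsSmoothAt R₁ Q₁ := by
  classical
  haveI : Algebra.FormallySmooth R₀ (Localization.AtPrime (Q₁.comap qA)) := h
  let ℓ : Localization.AtPrime (Q₁.comap qA) →+* Localization.AtPrime Q₁ :=
    Localization.localRingHom (Q₁.comap qA) Q₁ qA rfl
  have hℓ : ∀ a, ℓ (algebraMap A₀ (Localization.AtPrime (Q₁.comap qA)) a) =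
      algebraMap A₁ (Localization.AtPrime Q₁) (qA a) :=
    fun a => Localization.localRingHom_to_map (Q₁.comap qA) Q₁ qA rfl a
  show Algebra.FormallySmooth R₁ (Localization.AtPrime Q₁)
  apply Algebra.FormallySmooth.of_comp_surjective
  intro B _ _ I hI f
  letI algB : Algebra R₀ B := ((algebraMap R₁ B).comp qR).toAlgebra
  have halgB : ∀ r, algebraMap R₀ B r = algebraMap R₁ B (qR r) := fun r => rfl
  let f₀ : Localization.AtPrime (Q₁.comap qA) →ₐ[R₀] B ⧸ I :=
    { toRingHom := f.toRingHom.comp ℓ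
      commutes' := by
        intro r
        show f (ℓ (algebraMap R₀ (Localization.AtPrime (Q₁.comap qA)) r)) = _
        rw [IsScalarTower.algebraMap_apply R₀ A₀ (Localization.AtPrime (Q₁.comap qA)), hℓ, cA,
          ← IsScalarTower.algebraMap_apply R₁ A₁ (Localization.AtPrime Q₁), f.commutes]
        rfl }
  have hf₀ : ∀ x, f₀ x = f (ℓ x) := fun x => rfl
  obtain ⟨h₀, hh₀⟩ := Algebra.FormallySmooth.comp_surjective R₀
    (Localization.AtPrime (Q₁.comap qA)) I hI f₀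
  have hh₀' : ∀ x, Ideal.Quotient.mk I (h₀ x) = f (ℓ x) := by
    intro x
    rw [← hf₀, ← hh₀]
    rfl
  let k₀ : A₀ →+* B :=
    h₀.toRingHom.comp (algebraMap A₀ (Localization.AtPrime (Q₁.comap qA)))
  have hk₀app : ∀ a, k₀ a = h₀ (algebraMap A₀ (Localization.AtPrime (Q₁.comap qA)) a) :=
    fun a => rfl
  have hk₀ : RingHom.ker qA ≤ RingHom.ker k₀ := by
    rw [kA, Ideal.map_le_iff_le_comap]
    intro r hr
    rw [Ideal.mem_comap, RingHom.mem_ker, hk₀app,
      ← IsScalarTower.algebraMap_apply R₀ A₀ (Localization.AtPrime (Q₁.comap qA)), h₀.commutes,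
      halgB, (RingHom.mem_ker).mp hr, map_zero]
  let k : A₁ →+* B :=
    qA.liftOfRightInverse (surjInv hqA) (rightInverse_surjInv hqA) ⟨k₀, hk₀⟩
  have hk : ∀ a, k (qA a) = k₀ a := fun a =>
    RingHom.liftOfRightInverse_comp_apply qA (surjInv hqA) (rightInverse_surjInv hqA) ⟨k₀, hk₀⟩ a
  have hunit : ∀ s : Q₁.primeCompl, IsUnit (k s) := by
    rintro ⟨s, hs⟩
    obtain ⟨s₀, rfl⟩ := hqA s
    show IsUnit (k (qA s₀))
    rw [hk, hk₀app]
    have hs₀ : s₀ ∈ (Q₁.comap qA).primeCompl := hs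
    have : IsUnit (algebraMap A₀ (Localization.AtPrime (Q₁.comap qA)) s₀) :=
      IsLocalization.map_units (Localization.AtPrime (Q₁.comap qA)) ⟨s₀, hs₀⟩
    exact this.map h₀
  let f' : Localization.AtPrime Q₁ →+* B := IsLocalization.lift (M := Q₁.primeCompl) hunit
  have hf' : ∀ a, f' (algebraMap A₁ (Localization.AtPrime Q₁) a) = k a :=
    fun a => IsLocalization.lift_eq hunit a
  refine ⟨{ toRingHom := f', commutes' := ?_ }, ?_⟩
  · intro r₁
    obtain ⟨r₀, rfl⟩ := hqR r₁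
    show f' (algebraMap R₁ (Localization.AtPrime Q₁) (qR r₀)) = algebraMap R₁ B (qR r₀)
    rw [IsScalarTower.algebraMap_apply R₁ A₁ (Localization.AtPrime Q₁), hf', ← cA, hk, hk₀app,
      ← IsScalarTower.algebraMap_apply R₀ A₀ (Localization.AtPrime (Q₁.comap qA)), h₀.commutes,
      halgB]
  · apply AlgHom.coe_ringHom_injective
    apply IsLocalization.ringHom_ext Q₁.primeCompl
    ext a₁
    obtain ⟨a₀, rfl⟩ := hqA a₁
    show Ideal.Quotient.mk I (f' (algebraMap A₁ (Localization.AtPrime Q₁) (qA a₀))) =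
      f (algebraMap A₁ (Localization.AtPrime Q₁) (qA a₀))
    rw [hf', hk, hk₀app, hh₀', hℓ]

include hqR hqA kA cA in
theorem map_mem_singularIdeal (a : A₀) (ha : a ∈ singularIdeal R₀ A₀) :
    qA a ∈ singularIdeal R₁ A₁ := by
  rw [Groth.Agent.Helper2.Desg.mem_singularIdeal_iff]
  intro Q₁ _ hQ₁
  have h1 : ¬ Algebra.IsSmoothAt R₀ (Q₁.comap qA) := fun h =>
    hQ₁ (isSmoothAt_quot qR qA hqR hqA kA cA Q₁ h)
  exact (Groth.Agent.Helper2.Desg.mem_singularIdeal_iff a).mp ha _ h1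

end Quot

end Groth.Agent.Helper2.Res
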