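import Mathlib
import Groth.Prelude
import Groth.Agent.Helper2.ResB

set_option autoImplicit false

namespace Groth.Agent.Helper2.Res

open Function Smoothing Groth.Agent.Helper2.Desg

universe u

set_option maxHeartbeats 3200000 in
theorem step {R₀ A₀ Λ₀ R₁ A₁ Λ₁ : Type u} [CommRing R₀] [IsNoetherianRing R₀] [CommRing A₀]
    [Algebra R₀ A₀] [Algebra.FinitePresentation R₀ A₀] [CommRing Λ₀] [Algebra R₀ Λ₀]
    (φ₀ : A₀ →ₐ[R₀] Λ₀) (𝔮₀ : Ideal Λ₀) [𝔮₀.IsPrime] (π : R₀)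
    (hπ𝔮 : algebraMap R₀ Λ₀ π ∈ 𝔮₀)
    (hR : ∀ x : R₀, π ^ 2 * x = 0 → π * x = 0) (hΛ : ∀ x : Λ₀, π ^ 2 • x = 0 → π • x = 0)
    (hstd : IsStrictlyStandard R₀ A₀ (algebraMap R₀ A₀ π))
    [CommRing R₁] [CommRing A₁] [Algebra R₁ A₁] [CommRing Λ₁] [Algebra R₁ Λ₁]
    (φ₁ : A₁ →ₐ[R₁] Λ₁)
    (qR : R₀ →+* R₁) (qA : A₀ →+* A₁) (qΛ : Λ₀ →+* Λ₁)
    (hqR : Surjective qR) (hqA : Surjective qA) (hqΛ : Surjective qΛ)
    (kR : RingHom.ker qR = Ideal.span {π ^ 8})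
    (kA : RingHom.ker qA = Ideal.span {algebraMap R₀ A₀ (π ^ 8)})
    (kΛ : RingHom.ker qΛ = Ideal.span {algebraMap R₀ Λ₀ (π ^ 8)})
    (cA : ∀ x, qA (algebraMap R₀ A₀ x) = algebraMap R₁ A₁ (qR x))
    (cΛ : ∀ x, qΛ (algebraMap R₀ Λ₀ x) = algebraMap R₁ Λ₁ (qR x))
    (cφ : ∀ a, qΛ (φ₀ a) = φ₁ (qA a))
    (hres : Resolvable R₁ φ₁ (𝔮₀.map qΛ)) : Resolvable R₀ φ₀ 𝔮₀ := by
  classical
  obtain ⟨C, instC, algC, fpC, γ₁, g₁, hcomp, hle, hnot⟩ := hres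
  have hcomp' : ∀ a, g₁ (γ₁ a) = φ₁ a := fun a => congrArg (fun h => h a) hcomp
  letI aR : Algebra R₀ R₁ := qR.toAlgebra
  letI aC : Algebra R₀ C := ((algebraMap R₁ C).comp qR).toAlgebra
  haveI tC : IsScalarTower R₀ R₁ C := IsScalarTower.of_algebraMap_eq (fun _ => rfl)
  letI aΛ₁ : Algebra R₀ Λ₁ := ((algebraMap R₁ Λ₁).comp qR).toAlgebra
  haveI tΛ₁ : IsScalarTower R₀ R₁ Λ₁ := IsScalarTower.of_algebraMap_eq (fun _ => rfl)
  let qΛa : Λ₀ →ₐ[R₀] Λ₁ := { toRingHom := qΛ, commutes' := cΛ }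
  have hqΛa : Surjective qΛa := hqΛ
  let γ : A₀ →ₐ[R₀] C :=
    { toRingHom := γ₁.toRingHom.comp qA
      commutes' := by
        intro r
        show γ₁ (qA (algebraMap R₀ A₀ r)) = algebraMap R₁ C (qR r)
        rw [cA, γ₁.commutes] }
  have hγ : ∀ a, γ a = γ₁ (qA a) := fun a => rfl
  let e : (Λ₀ ⧸ RingHom.ker qΛa) ≃ₐ[R₀] Λ₁ := Ideal.quotientKerAlgEquivOfSurjective hqΛa
  have he : ∀ l, e (Ideal.Quotient.mk _ l) = qΛ l := fun l => rfl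
  have hIΛ : RingHom.ker qΛa = Ideal.span {algebraMap R₀ Λ₀ (π ^ 8)} := kΛ
  let g : C →ₐ[R₀] Λ₀ ⧸ RingHom.ker qΛa := e.symm.toAlgHom.comp (g₁.restrictScalars R₀)
  have hg : ∀ c, e (g c) = g₁ c := by
    intro c
    show e (e.symm (g₁ c)) = g₁ c
    exact e.apply_symm_apply _
  have hfac : ∀ a : A₀, g (γ a) = Ideal.Quotient.mk _ (φ₀ a) := by
    intro a
    apply e.injective
    rw [hg, hγ, hcomp', he, cφ]
  obtain ⟨B, instB, algB, fpB, α, β, hβα, hsm, hsing⟩ :=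
    desing_lift_gen π hR hΛ φ₀ hstd (R' := R₁) hqR kR (RingHom.ker qΛa) hIΛ γ g hfac
  -- the key property of `g₁` on the singular ideal
  have hkey : ∀ c ∈ singularIdeal R₁ C, ∃ l ∈ ((singularIdeal R₀ B).map β).radical,
      qΛ l = g₁ c := by
    intro c hc
    have h1 := hsing (Ideal.mem_map_of_mem g hc)
    obtain ⟨l, hl, hl'⟩ := (Ideal.mem_map_iff_of_surjective _ Ideal.Quotient.mk_surjective).mp h1
    refine ⟨l, hl, ?_⟩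
    rw [← he, hl', hg]
  have hπB : algebraMap R₀ B π ∈ singularIdeal R₀ B := by
    rw [mem_singularIdeal_iff]
    intro Q _ hQ
    by_contra hcon
    exact hQ (hsm Q hcon)
  have hkerle : ∀ 𝔓 : Ideal Λ₀, algebraMap R₀ Λ₀ π ∈ 𝔓 → RingHom.ker qΛ ≤ 𝔓 := by
    intro 𝔓 h𝔓
    rw [kΛ, Ideal.span_le, Set.singleton_subset_iff, map_pow]
    exact Ideal.pow_mem_of_mem _ h𝔓 8 (by norm_num)
  have hcomap : ∀ 𝔓 : Ideal Λ₀, RingHom.ker qΛ ≤ 𝔓 → (𝔓.map qΛ).comap qΛ = 𝔓 := by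
    intro 𝔓 h𝔓
    rw [Ideal.comap_map_of_surjective _ hqΛ, ← RingHom.ker_eq_comap_bot]
    exact sup_eq_left.mpr h𝔓
  refine ⟨B, instB, algB, fpB, α, β, hβα, ?_, ?_⟩
  · -- singRad φ₀ ≤ singRad β
    unfold singRad
    rw [Ideal.radical_le_radical_iff, Ideal.map_le_iff_le_comap]
    intro a ha
    rw [Ideal.mem_comap, Ideal.radical_eq_sInf, Ideal.mem_sInf]
    rintro 𝔓 ⟨h𝔓, h𝔓prime⟩
    haveI := h𝔓prime
    have hπ𝔓 : algebraMap R₀ Λ₀ π ∈ 𝔓 := by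
      have := h𝔓 (Ideal.mem_map_of_mem β hπB)
      rwa [AlgHom.commutes] at this
    have hk𝔓 := hkerle 𝔓 hπ𝔓
    haveI h𝔓₁ : (𝔓.map qΛ).IsPrime := Ideal.map_isPrime_of_surjective hqΛ hk𝔓
    have h1 : (singularIdeal R₁ C).map g₁ ≤ 𝔓.map qΛ := by
      rw [Ideal.map_le_iff_le_comap]
      intro c hc
      obtain ⟨l, hl, hl'⟩ := hkey c hc
      rw [Ideal.mem_comap, ← hl']
      apply Ideal.mem_map_of_mem
      exact (h𝔓prime.radical_le_iff.mpr h𝔓) hl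
    have h2 : singRad R₁ g₁ ≤ 𝔓.map qΛ := by
      unfold singRad
      exact h𝔓₁.radical_le_iff.mpr h1
    have h3 : (singularIdeal R₁ A₁).map φ₁ ≤ 𝔓.map qΛ := by
      refine le_trans ?_ (le_trans hle h2)
      unfold singRad
      exact Ideal.le_radical
    have h4 : qA a ∈ singularIdeal R₁ A₁ := by
      refine map_mem_singularIdeal qR qA hqR hqA ?_ cA a ha
      rw [kA, kR, Ideal.map_span, Set.image_singleton]
    have h5 : qΛ (φ₀ a) ∈ 𝔓.map qΛ := by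
      rw [cφ]
      exact h3 (Ideal.mem_map_of_mem φ₁ h4)
    rw [← Ideal.mem_comap, hcomap 𝔓 hk𝔓] at h5
    exact h5
  · -- singRad β ⊄ 𝔮₀
    intro hcon
    apply hnot
    have hk𝔮 := hkerle 𝔮₀ hπ𝔮
    haveI h𝔮₁ : (𝔮₀.map qΛ).IsPrime := Ideal.map_isPrime_of_surjective hqΛ hk𝔮
    unfold singRad
    rw [h𝔮₁.radical_le_iff, Ideal.map_le_iff_le_comap]
    intro c hc
    obtain ⟨l, hl, hl'⟩ := hkey c hc
    rw [Ideal.mem_comap, ← hl']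
    apply Ideal.mem_map_of_mem
    exact hcon hl

end Groth.Agent.Helper2.Res
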