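import Mathlib
import Groth.Prelude
import Groth.Agent.Helper2.ResC

set_option autoImplicit false

namespace Groth.Agent.Helper2.Res

open Function Smoothing

universe u

/-- kernel of a map induced between two quotients -/
theorem ker_lift {X X₀ X₁ : Type u} [CommRing X] [CommRing X₀] [CommRing X₁]
    (p₀ : X →+* X₀) (p₁ : X →+* X₁) (s₀ : Surjective p₀) (J₀ J₁ : Ideal X)
    (k₀ : RingHom.ker p₀ = J₀) (k₁ : RingHom.ker p₁ = J₁) (t : X)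
    (hJ : J₁ = J₀ ⊔ Ideal.span {t}) (q : X₀ →+* X₁) (hq : ∀ x, q (p₀ x) = p₁ x) :
    RingHom.ker q = Ideal.span {p₀ t} := by
  ext x₀
  obtain ⟨x, rfl⟩ := s₀ x₀
  rw [RingHom.mem_ker, hq, ← RingHom.mem_ker, k₁, hJ, Submodule.mem_sup]
  constructor
  · rintro ⟨y, hy, z, hz, rfl⟩
    rw [map_add]
    have hy0 : p₀ y = 0 := by
      rw [← RingHom.mem_ker, k₀]; exact hy
    rw [hy0, zero_add]
    obtain ⟨c, rfl⟩ := Ideal.mem_span_singleton'.mp hz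
    rw [map_mul]
    exact Ideal.mul_mem_left _ _ (Ideal.subset_span rfl)
  · intro h
    obtain ⟨c₀, hc₀⟩ := Ideal.mem_span_singleton'.mp h
    obtain ⟨c, rfl⟩ := s₀ c₀
    refine ⟨x - c * t, ?_, c * t, Ideal.mul_mem_left _ _ (Ideal.subset_span rfl), by ring⟩
    rw [← k₀, RingHom.mem_ker, map_sub, map_mul, hc₀, sub_self]

variable {R A Λ : Type u} [CommRing R] [CommRing A] [Algebra R A] [CommRing Λ] [Algebra R Λ]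

/-- a level: a compatible system of quotients of `R`, `A`, `Λ` by the extensions of `I`. -/
structure Level (φ : A →ₐ[R] Λ) (I : Ideal R) where
  R₀ : Type u
  A₀ : Type u
  Λ₀ : Type u
  [cR : CommRing R₀]
  [cA : CommRing A₀]
  [cΛ : CommRing Λ₀]
  [aA : Algebra R₀ A₀]
  [aΛ : Algebra R₀ Λ₀]
  fp : Algebra.FinitePresentation R₀ A₀
  φ₀ : A₀ →ₐ[R₀] Λ₀
  pR : R →+* R₀
  pA : A →+* A₀
  pΛ : Λ →+* Λ₀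
  sR : Surjective pR
  sA : Surjective pA
  sΛ : Surjective pΛ
  kR : RingHom.ker pR = I
  kA : RingHom.ker pA = I.map (algebraMap R A)
  kΛ : RingHom.ker pΛ = I.map (algebraMap R Λ)
  hA : ∀ x, pA (algebraMap R A x) = algebraMap R₀ A₀ (pR x)
  hΛ : ∀ x, pΛ (algebraMap R Λ x) = algebraMap R₀ Λ₀ (pR x)
  hφ : ∀ a, pΛ (φ a) = φ₀ (pA a)

attribute [instance] Level.cR Level.cA Level.cΛ Level.aA Level.aΛ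

/-- the resolvability statement at a level -/
def Level.P {φ : A →ₐ[R] Λ} {I : Ideal R} (ℓ : Level φ I) (𝔮 : Ideal Λ) : Prop :=
  Resolvable ℓ.R₀ ℓ.φ₀ (𝔮.map ℓ.pΛ)

set_option maxHeartbeats 1600000 in
theorem level_step [IsNoetherianRing R] {φ : A →ₐ[R] Λ} {I I' : Ideal R} (ℓ : Level φ I)
    (ℓ' : Level φ I') (𝔮 : Ideal Λ) [𝔮.IsPrime] (p : R)
    (hI' : I' = I ⊔ Ideal.span {p ^ 8}) (hp𝔮 : algebraMap R Λ p ∈ 𝔮)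
    (hI𝔮 : I.map (algebraMap R Λ) ≤ 𝔮)
    (hRI : ∀ x : R, p ^ 2 * x ∈ I → p * x ∈ I)
    (hΛI : ∀ x : Λ, (algebraMap R Λ p) ^ 2 * x ∈ I.map (algebraMap R Λ) →
      algebraMap R Λ p * x ∈ I.map (algebraMap R Λ))
    (hstd : IsStrictlyStandard R A (algebraMap R A p)) (h : ℓ'.P 𝔮) : ℓ.P 𝔮 := by
  classical
  haveI : IsNoetherianRing ℓ.R₀ := isNoetherianRing_of_surjective R ℓ.R₀ ℓ.pR ℓ.sR
  haveI := ℓ.fp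
  haveI : (𝔮.map ℓ.pΛ).IsPrime :=
    Ideal.map_isPrime_of_surjective ℓ.sΛ (by rw [ℓ.kΛ]; exact hI𝔮)
  have hII' : I ≤ I' := by rw [hI']; exact le_sup_left
  -- the maps between the levels
  have hkR : RingHom.ker ℓ.pR ≤ RingHom.ker ℓ'.pR := by rw [ℓ.kR, ℓ'.kR]; exact hII'
  have hkA : RingHom.ker ℓ.pA ≤ RingHom.ker ℓ'.pA := by
    rw [ℓ.kA, ℓ'.kA]; exact Ideal.map_mono hII'
  have hkΛ : RingHom.ker ℓ.pΛ ≤ RingHom.ker ℓ'.pΛ := by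
    rw [ℓ.kΛ, ℓ'.kΛ]; exact Ideal.map_mono hII'
  let qR : ℓ.R₀ →+* ℓ'.R₀ := ℓ.pR.liftOfSurjective ℓ.sR ⟨ℓ'.pR, hkR⟩
  let qA : ℓ.A₀ →+* ℓ'.A₀ := ℓ.pA.liftOfSurjective ℓ.sA ⟨ℓ'.pA, hkA⟩
  let qΛ : ℓ.Λ₀ →+* ℓ'.Λ₀ := ℓ.pΛ.liftOfSurjective ℓ.sΛ ⟨ℓ'.pΛ, hkΛ⟩
  have hqR : ∀ x, qR (ℓ.pR x) = ℓ'.pR x := fun x =>
    RingHom.liftOfRightInverse_comp_apply _ _ _ ⟨ℓ'.pR, hkR⟩ x
  have hqA : ∀ x, qA (ℓ.pA x) = ℓ'.pA x := fun x =>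
    RingHom.liftOfRightInverse_comp_apply _ _ _ ⟨ℓ'.pA, hkA⟩ x
  have hqΛ : ∀ x, qΛ (ℓ.pΛ x) = ℓ'.pΛ x := fun x =>
    RingHom.liftOfRightInverse_comp_apply _ _ _ ⟨ℓ'.pΛ, hkΛ⟩ x
  have sqR : Surjective qR := by
    intro y; obtain ⟨x, rfl⟩ := ℓ'.sR y; exact ⟨ℓ.pR x, hqR x⟩
  have sqA : Surjective qA := by
    intro y; obtain ⟨x, rfl⟩ := ℓ'.sA y; exact ⟨ℓ.pA x, hqA x⟩
  have sqΛ : Surjective qΛ := by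
    intro y; obtain ⟨x, rfl⟩ := ℓ'.sΛ y; exact ⟨ℓ.pΛ x, hqΛ x⟩
  refine step ℓ.φ₀ (𝔮.map ℓ.pΛ) (ℓ.pR p) ?_ ?_ ?_ ?_ ℓ'.φ₀ qR qA qΛ sqR sqA sqΛ ?_ ?_ ?_ ?_ ?_ ?_ ?_
  · rw [← ℓ.hΛ]
    exact Ideal.mem_map_of_mem _ hp𝔮
  · intro x₀ hx₀
    obtain ⟨x, rfl⟩ := ℓ.sR x₀
    rw [← map_pow, ← map_mul, ← RingHom.mem_ker, ℓ.kR] at hx₀
    rw [← map_mul, ← RingHom.mem_ker, ℓ.kR]
    exact hRI x hx₀
  · intro x₀ hx₀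
    obtain ⟨x, rfl⟩ := ℓ.sΛ x₀
    rw [Algebra.smul_def, map_pow, ← ℓ.hΛ, ← map_pow, ← map_mul, ← RingHom.mem_ker, ℓ.kΛ] at hx₀
    rw [Algebra.smul_def, ← ℓ.hΛ, ← map_mul, ← RingHom.mem_ker, ℓ.kΛ]
    exact hΛI x hx₀
  · rw [← ℓ.hA]
    refine isStrictlyStandard_quot ℓ.pR ℓ.pA ℓ.sR ℓ.sA ?_ ℓ.hA _ hstd
    rw [ℓ.kA, ℓ.kR]
  · have := ker_lift ℓ.pR ℓ'.pR ℓ.sR I I' ℓ.kR ℓ'.kR (p ^ 8) hI' qR hqR
    rw [this, map_pow]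
  · have hJ : I'.map (algebraMap R A) = I.map (algebraMap R A) ⊔
        Ideal.span {algebraMap R A (p ^ 8)} := by
      rw [hI', Ideal.map_sup, Ideal.map_span, Set.image_singleton]
    have := ker_lift ℓ.pA ℓ'.pA ℓ.sA _ _ ℓ.kA ℓ'.kA (algebraMap R A (p ^ 8)) hJ qA hqA
    rw [this, ℓ.hA, map_pow]
  · have hJ : I'.map (algebraMap R Λ) = I.map (algebraMap R Λ) ⊔
        Ideal.span {algebraMap R Λ (p ^ 8)} := by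
      rw [hI', Ideal.map_sup, Ideal.map_span, Set.image_singleton]
    have := ker_lift ℓ.pΛ ℓ'.pΛ ℓ.sΛ _ _ ℓ.kΛ ℓ'.kΛ (algebraMap R Λ (p ^ 8)) hJ qΛ hqΛ
    rw [this, ℓ.hΛ, map_pow]
  · intro x₀
    obtain ⟨x, rfl⟩ := ℓ.sR x₀
    rw [← ℓ.hA, hqA, hqR, ℓ'.hA]
  · intro x₀
    obtain ⟨x, rfl⟩ := ℓ.sR x₀
    rw [← ℓ.hΛ, hqΛ, hqR, ℓ'.hΛ]
  · intro a₀
    obtain ⟨a, rfl⟩ := ℓ.sA a₀
    rw [← ℓ.hφ, hqΛ, hqA, ℓ'.hφ]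
  · have h1 : (𝔮.map ℓ.pΛ).map qΛ = 𝔮.map ℓ'.pΛ := by
      rw [Ideal.map_map]
      congr 1
      ext x
      exact hqΛ x
    rw [h1]
    exact h

end Groth.Agent.Helper2.Res
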