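import Mathlib
import Groth.Prelude
import Groth.Agent.Helper2.ResD

set_option autoImplicit false

namespace Groth.Agent.Helper2.Res

open Function Smoothing

universe u

section Levels

variable {R A Λ : Type u} [CommRing R] [CommRing A] [Algebra R A] [CommRing Λ] [Algebra R Λ]
  (φ : A →ₐ[R] Λ)

/-- the induced map on quotients -/
noncomputable def φI (I : Ideal R) :
    (A ⧸ I.map (algebraMap R A)) →ₐ[R ⧸ I] (Λ ⧸ I.map (algebraMap R Λ)) :=
  { toRingHom := Ideal.quotientMap (I.map (algebraMap R Λ)) φ.toRingHom (by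
      rw [Ideal.map_le_iff_le_comap]
      intro x hx
      show φ (algebraMap R A x) ∈ I.map (algebraMap R Λ)
      rw [φ.commutes]
      exact Ideal.mem_map_of_mem _ hx)
    commutes' := by
      intro x
      obtain ⟨r, rfl⟩ := Ideal.Quotient.mk_surjective x
      show Ideal.quotientMap _ φ.toRingHom _ (Ideal.Quotient.mk _ (algebraMap R A r)) =
        Ideal.Quotient.mk _ (algebraMap R Λ r)
      rw [Ideal.quotientMap_mk]
      show Ideal.Quotient.mk _ (φ (algebraMap R A r)) = _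
      rw [φ.commutes] }

theorem φI_mk (I : Ideal R) (a : A) :
    φI φ I (Ideal.Quotient.mk _ a) = Ideal.Quotient.mk _ (φ a) := rfl

/-- the quotient level -/
noncomputable def quotLevel [IsNoetherianRing R] [Algebra.FinitePresentation R A] (I : Ideal R) :
    Level φ I where
  R₀ := R ⧸ I
  A₀ := A ⧸ I.map (algebraMap R A)
  Λ₀ := Λ ⧸ I.map (algebraMap R Λ)
  fp := by
    haveI : Algebra.FinitePresentation R (A ⧸ I.map (algebraMap R A)) :=
      Algebra.FinitePresentation.quotient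
        (Ideal.FG.map (IsNoetherian.noetherian I) (algebraMap R A))
    exact Algebra.FinitePresentation.of_restrict_scalars_finitePresentation R (R ⧸ I) _
  φ₀ := φI φ I
  pR := Ideal.Quotient.mk I
  pA := Ideal.Quotient.mk _
  pΛ := Ideal.Quotient.mk _
  sR := Ideal.Quotient.mk_surjective
  sA := Ideal.Quotient.mk_surjective
  sΛ := Ideal.Quotient.mk_surjective
  kR := Ideal.mk_ker
  kA := Ideal.mk_ker
  kΛ := Ideal.mk_ker
  hA := fun _ => rfl
  hΛ := fun _ => rfl
  hφ := fun _ => rfl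

/-- the trivial level -/
noncomputable def idLevel [Algebra.FinitePresentation R A] : Level φ ⊥ where
  R₀ := R
  A₀ := A
  Λ₀ := Λ
  fp := inferInstance
  φ₀ := φ
  pR := RingHom.id R
  pA := RingHom.id A
  pΛ := RingHom.id Λ
  sR := surjective_id
  sA := surjective_id
  sΛ := surjective_id
  kR := (RingHom.injective_iff_ker_eq_bot _).mp injective_id
  kA := by
    rw [Ideal.map_bot]
    exact (RingHom.injective_iff_ker_eq_bot _).mp injective_id
  kΛ := by
    rw [Ideal.map_bot]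
    exact (RingHom.injective_iff_ker_eq_bot _).mp injective_id
  hA := fun _ => rfl
  hΛ := fun _ => rfl
  hφ := fun _ => rfl

end Levels

section KR

variable {R : Type u} [CommRing R] {r : ℕ} (π : Fin r → R)

/-- the ideal generated by the first `k` eighth powers -/
def KR (k : ℕ) : Ideal R :=
  Ideal.span (Set.range fun j : {j : Fin r // (j : ℕ) < k} => π j ^ 8)

theorem KR_succ (i : Fin r) : KR π ((i : ℕ) + 1) = KR π i ⊔ Ideal.span {π i ^ 8} := by
  apply le_antisymm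
  · unfold KR
    rw [Ideal.span_le]
    rintro _ ⟨⟨j, hj⟩, rfl⟩
    by_cases hji : (j : ℕ) < i
    · exact Ideal.mem_sup_left (Ideal.subset_span ⟨⟨j, hji⟩, rfl⟩)
    · have : j = i := by
        apply Fin.ext
        omega
      subst this
      exact Ideal.mem_sup_right (Ideal.subset_span rfl)
  · apply sup_le
    · unfold KR
      apply Ideal.span_mono
      rintro _ ⟨⟨j, hj⟩, rfl⟩
      exact ⟨⟨j, Nat.lt_succ_of_lt hj⟩, rfl⟩
    · rw [Ideal.span_le, Set.singleton_subset_iff]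
      exact Ideal.subset_span ⟨⟨i, Nat.lt_succ_self _⟩, rfl⟩

theorem KR_top : KR π r = Ideal.span (Set.range fun i => π i ^ 8) := by
  unfold KR
  congr 1
  ext x
  constructor
  · rintro ⟨⟨j, _⟩, rfl⟩
    exact ⟨j, rfl⟩
  · rintro ⟨j, rfl⟩
    exact ⟨⟨j, j.2⟩, rfl⟩

theorem KR_zero : KR π 0 = ⊥ := by
  unfold KR
  rw [Ideal.span_eq_bot]
  rintro _ ⟨⟨j, hj⟩, rfl⟩
  exact absurd hj (Nat.not_lt_zero _)

theorem KR_map {Λ : Type u} [CommRing Λ] [Algebra R Λ] (k : ℕ) :
    (KR π k).map (algebraMap R Λ) =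
      Ideal.span (Set.range fun j : {j : Fin r // (j : ℕ) < k} => algebraMap R Λ (π j) ^ 8) := by
  unfold KR
  rw [Ideal.map_span, ← Set.range_comp]
  congr 2
  funext j
  simp

end KR


set_option maxHeartbeats 1600000 in
theorem main {R A Λ : Type u} [CommRing R] [IsNoetherianRing R]
    [CommRing A] [Algebra R A] [Algebra.FinitePresentation R A] [CommRing Λ] [Algebra R Λ]
    (φ : A →ₐ[R] Λ) (𝔮 : Ideal Λ) [𝔮.IsPrime] {r : ℕ} (hr : 0 < r) (π : Fin r → R)
    (hπ𝔮 : ∀ i, algebraMap R Λ (π i) ∈ 𝔮)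
    (hR : ∀ i : Fin r, ∀ x : R ⧸ Ideal.span (Set.range fun j : {j : Fin r // (j : ℕ) < (i : ℕ)} => π j ^ 8),
      Ideal.Quotient.mk _ (π i) ^ 2 * x = 0 → Ideal.Quotient.mk _ (π i) * x = 0)
    (hΛ : ∀ i : Fin r, ∀ x : Λ ⧸ Ideal.span (Set.range fun j : {j : Fin r // (j : ℕ) < (i : ℕ)} =>
        algebraMap R Λ (π j) ^ 8),
      Ideal.Quotient.mk _ (algebraMap R Λ (π i)) ^ 2 * x = 0 → Ideal.Quotient.mk _ (algebraMap R Λ (π i)) * x = 0)
    (hstd : ∀ i, Smoothing.IsStrictlyStandard R A (algebraMap R A (π i)))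
    (K : Ideal R) (hK : K = Ideal.span (Set.range fun i => π i ^ 8))
    (φK : (A ⧸ K.map (algebraMap R A)) →ₐ[R ⧸ K] (Λ ⧸ K.map (algebraMap R Λ)))
    (hφK : ∀ a : A, φK (Ideal.Quotient.mk _ a) = Ideal.Quotient.mk _ (φ a))
    (hres : Smoothing.Resolvable (R ⧸ K) φK (𝔮.map (Ideal.Quotient.mk (K.map (algebraMap R Λ))))) :
    Smoothing.Resolvable R φ 𝔮 := by
  classical
  have hK' : K = KR π r := hK.trans (KR_top π).symm
  subst hK'
  have hφKeq : φK = φI φ (KR π r) := by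
    apply AlgHom.ext
    intro x
    obtain ⟨a, rfl⟩ := Ideal.Quotient.mk_surjective x
    rw [hφK, φI_mk]
  rw [hφKeq] at hres
  have hI𝔮 : ∀ k, (KR π k).map (algebraMap R Λ) ≤ 𝔮 := by
    intro k
    rw [KR_map, Ideal.span_le]
    rintro _ ⟨j, rfl⟩
    exact Ideal.pow_mem_of_mem _ (hπ𝔮 j) 8 (by norm_num)
  have hRI : ∀ i : Fin r, ∀ x : R, π i ^ 2 * x ∈ KR π i → π i * x ∈ KR π i := by
    intro i x hx
    have h1 := hR i (Ideal.Quotient.mk _ x) (by
      rw [← map_pow, ← map_mul, Ideal.Quotient.eq_zero_iff_mem]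
      exact hx)
    rw [← map_mul, Ideal.Quotient.eq_zero_iff_mem] at h1
    exact h1
  have hΛI : ∀ i : Fin r, ∀ x : Λ,
      (algebraMap R Λ (π i)) ^ 2 * x ∈ (KR π i).map (algebraMap R Λ) →
      algebraMap R Λ (π i) * x ∈ (KR π i).map (algebraMap R Λ) := by
    intro i x hx
    rw [KR_map] at hx ⊢
    have h1 := hΛ i (Ideal.Quotient.mk _ x) (by
      rw [← map_pow, ← map_mul, Ideal.Quotient.eq_zero_iff_mem]
      exact hx)
    rw [← map_mul, Ideal.Quotient.eq_zero_iff_mem] at h1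
    exact h1
  have hP1 : (quotLevel φ (KR π 1)).P 𝔮 := by
    refine Nat.decreasingInduction' (P := fun k => (quotLevel φ (KR π k)).P 𝔮) ?_
      (Nat.succ_le_of_lt hr) hres
    intro k hk _ hPk
    exact level_step (quotLevel φ (KR π k)) (quotLevel φ (KR π (k + 1))) 𝔮 (π ⟨k, hk⟩)
      (KR_succ π ⟨k, hk⟩) (hπ𝔮 _) (hI𝔮 k) (hRI ⟨k, hk⟩) (hΛI ⟨k, hk⟩) (hstd _) hPk
  have h0 : (idLevel φ).P 𝔮 := by
    refine level_step (idLevel φ) (quotLevel φ (KR π 1)) 𝔮 (π ⟨0, hr⟩) ?_ (hπ𝔮 _) ?_ ?_ ?_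
      (hstd _) hP1
    · have := KR_succ π ⟨0, hr⟩
      rw [KR_zero] at this
      exact this
    · rw [Ideal.map_bot]
      exact bot_le
    · have := hRI ⟨0, hr⟩
      rw [show KR π ((⟨0, hr⟩ : Fin r) : ℕ) = ⊥ from KR_zero π] at this
      exact this
    · have := hΛI ⟨0, hr⟩
      rw [show KR π ((⟨0, hr⟩ : Fin r) : ℕ) = ⊥ from KR_zero π] at this
      exact this
  have h1 : (idLevel φ).P 𝔮 = Resolvable R φ (𝔮.map (RingHom.id Λ)) := rfl
  rw [h1, Ideal.map_id] at h0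
  exact h0

end Groth.Agent.Helper2.Res
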