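import Mathlib
import Groth.Prelude.Def_Smoothing
import Groth.Agent.Helper2.DesgJ
import Groth.Agent.Helper2.ResE
import Groth.Agent.Helper2.PopA

set_option autoImplicit false

namespace Groth.Agent.Helper2.Pop

open Function MvPolynomial

universe u

set_option maxHeartbeats 1600000 in
/-- The global `π`-step: if `π` is strictly standard in `A`, has the annihilator property in `R` and
`Λ`, and `Λ/π⁸` is ind-smooth over `R/π⁸`, then `A → Λ` factors through a smooth `R`-algebra. -/
theorem pi_step {R A Λ : Type u} [CommRing R] [IsNoetherianRing R] [CommRing A] [Algebra R A]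
    [Algebra.FinitePresentation R A] [CommRing Λ] [Algebra R Λ] (φ : A →ₐ[R] Λ) (π : R)
    (hR : ∀ r : R, π ^ 2 * r = 0 → π * r = 0) (hΛ : ∀ x : Λ, π ^ 2 • x = 0 → π • x = 0)
    (hstd : Smoothing.IsStrictlyStandard R A (algebraMap R A π))
    (hind : Smoothing.IndSmooth (R ⧸ Ideal.span {π ^ 8})
      (Λ ⧸ (Ideal.span {π ^ 8}).map (algebraMap R Λ))) :
    ∃ (B : Type u) (_ : CommRing B) (_ : Algebra R B), Algebra.Smooth R B ∧
      ∃ (g : A →ₐ[R] B) (hh : B →ₐ[R] Λ), hh.comp g = φ := by
  classical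
  -- the quotient problem
  haveI hfpq : Algebra.FinitePresentation (R ⧸ Ideal.span {π ^ 8})
      (A ⧸ (Ideal.span {π ^ 8}).map (algebraMap R A)) := by
    haveI : Algebra.FinitePresentation R (A ⧸ (Ideal.span {π ^ 8}).map (algebraMap R A)) :=
      Algebra.FinitePresentation.quotient
        (Ideal.FG.map (IsNoetherian.noetherian _) (algebraMap R A))
    exact Algebra.FinitePresentation.of_restrict_scalars_finitePresentation R _ _
  obtain ⟨Cb, instCb, algCb, hsmCb, g₁, h₁, hgh₁⟩ := hind _ inferInstance (Res.φI φ (Ideal.span {π ^ 8}))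
  haveI := hsmCb
  letI algRCb : Algebra R Cb :=
    ((algebraMap (R ⧸ Ideal.span {π ^ 8}) Cb).comp (Ideal.Quotient.mk _)).toAlgebra
  haveI towCb : IsScalarTower R (R ⧸ Ideal.span {π ^ 8}) Cb :=
    IsScalarTower.of_algebraMap_eq (fun _ => rfl)
  let γ : A →ₐ[R] Cb :=
    { toRingHom := g₁.toRingHom.comp (Ideal.Quotient.mk ((Ideal.span {π ^ 8}).map (algebraMap R A)))
      commutes' := by
        intro r
        show g₁ (Ideal.Quotient.mk _ (algebraMap R A r)) = algebraMap (R ⧸ Ideal.span {π ^ 8}) Cb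
          (Ideal.Quotient.mk _ r)
        rw [← g₁.commutes]
        rfl }
  let g : Cb →ₐ[R] Λ ⧸ (Ideal.span {π ^ 8}).map (algebraMap R Λ) := h₁.restrictScalars R
  have hfac : ∀ a : A, g (γ a) = Ideal.Quotient.mk _ (φ a) := by
    intro a
    show h₁ (g₁ (Ideal.Quotient.mk _ a)) = _
    have := congrArg (fun F => F (Ideal.Quotient.mk _ a)) hgh₁
    exact this
  have hIΛ : (Ideal.span {π ^ 8}).map (algebraMap R Λ) = Ideal.span {algebraMap R Λ (π ^ 8)} := by
    rw [Ideal.map_span, Set.image_singleton]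
  obtain ⟨B, instB, algB, fpB, α, β, hβα, hsm, hsing⟩ :=
    Desg.desing_lift_gen π hR hΛ φ hstd (R' := R ⧸ Ideal.span {π ^ 8})
      Ideal.Quotient.mk_surjective Ideal.mk_ker _ hIΛ γ g hfac
  haveI := fpB
  -- the singular ideal of `Cb` is the unit ideal
  have htop : Smoothing.singularIdeal (R ⧸ Ideal.span {π ^ 8}) Cb = ⊤ := by
    unfold Smoothing.singularIdeal
    rw [Algebra.smoothLocus_eq_univ, Set.compl_univ, PrimeSpectrum.vanishingIdeal_empty]
  have hπB : algebraMap R B π ∈ Smoothing.singularIdeal R B := by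
    rw [Desg.mem_singularIdeal_iff]
    intro Q _ hQ
    by_contra hcon
    exact hQ (hsm Q hcon)
  have h1 : (1 : Λ ⧸ (Ideal.span {π ^ 8}).map (algebraMap R Λ)) ∈
      ((Smoothing.singularIdeal R B).map β).radical.map (Ideal.Quotient.mk _) := by
    apply hsing
    rw [htop]
    have : g 1 ∈ Ideal.map g (⊤ : Ideal Cb) := Ideal.mem_map_of_mem g trivial
    rwa [map_one] at this
  obtain ⟨x, hx, hx1⟩ := (Ideal.mem_map_iff_of_surjective _ Ideal.Quotient.mk_surjective).1 h1
  have hx2 : 1 - x ∈ (Ideal.span {π ^ 8}).map (algebraMap R Λ) := by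
    rw [← Ideal.Quotient.eq_zero_iff_mem, map_sub, hx1, map_one, sub_self]
  have hπΛ : algebraMap R Λ π ∈ ((Smoothing.singularIdeal R B).map β).radical := by
    apply Ideal.le_radical
    have := Ideal.mem_map_of_mem β hπB
    rwa [AlgHom.commutes] at this
  have hle : (Ideal.span {π ^ 8}).map (algebraMap R Λ) ≤
      ((Smoothing.singularIdeal R B).map β).radical := by
    rw [hIΛ, Ideal.span_le, Set.singleton_subset_iff, map_pow]
    exact Ideal.pow_mem_of_mem _ hπΛ 8 (by norm_num)
  have hone : (1 : Λ) ∈ ((Smoothing.singularIdeal R B).map β).radical := by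
    have := Ideal.add_mem _ (hle hx2) hx
    rwa [sub_add_cancel] at this
  have htopB : (Smoothing.singularIdeal R B).map β = ⊤ := by
    rw [← Ideal.radical_eq_top]
    exact (Ideal.eq_top_iff_one _).2 hone
  obtain ⟨B', instB', algB', hsmB', g', h', hgh'⟩ := exists_smooth_factor_of_top β htopB
  refine ⟨B', instB', algB', hsmB', g'.comp α, h', ?_⟩
  rw [← AlgHom.comp_assoc, hgh', hβα]

end Groth.Agent.Helper2.Pop
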