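import Mathlib

set_option autoImplicit false
universe u

namespace Groth.Agent.Helper2.StrictStd

open Matrix

/-- A `c × n` matrix whose maximal minors generate an ideal containing `a` has a right inverse
up to `a`. -/
theorem exists_right_inverse {A : Type*} [CommRing A] {c n : ℕ} (M : Matrix (Fin c) (Fin n) A)
    (a : A)
    (ha : a ∈ Ideal.span (Set.range fun cols : Fin c → Fin n => (M.submatrix id cols).det)) :
    ∃ N : Matrix (Fin n) (Fin c) A, M * N = a • (1 : Matrix (Fin c) (Fin c) A) := by
  classical
  obtain ⟨l, hl⟩ := (Ideal.mem_span_range_iff_exists_fun).1 ha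
  let Q : (Fin c → Fin n) → Matrix (Fin n) (Fin c) A := fun cols =>
    Matrix.of fun i j' => ∑ k, if cols k = i then adjugate (M.submatrix id cols) k j' else 0
  have hQ : ∀ cols, M * Q cols = (M.submatrix id cols).det • (1 : Matrix (Fin c) (Fin c) A) := by
    intro cols
    rw [← Matrix.mul_adjugate]
    ext j j'
    simp only [Matrix.mul_apply, Q, Matrix.of_apply, Matrix.submatrix_apply, id]
    simp_rw [Finset.mul_sum]
    rw [Finset.sum_comm]
    apply Finset.sum_congr rfl
    intro k _
    rw [Finset.sum_eq_single (cols k)]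
    · rw [if_pos rfl]
    · intro i _ hi
      rw [if_neg (Ne.symm hi), mul_zero]
    · intro h
      exact absurd (Finset.mem_univ _) h
  refine ⟨∑ cols, l cols • Q cols, ?_⟩
  rw [Matrix.mul_sum]
  simp_rw [Matrix.mul_smul, hQ, smul_smul]
  rw [← Finset.sum_smul, hl]

end Groth.Agent.Helper2.StrictStd
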