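import Mathlib
import Groth.Agent.Helper2.SmoothLocLink
import Groth.Agent.Helper2.StrictStd1

set_option autoImplicit false
universe u

namespace Groth.Agent.Helper2.StrictStd

open TensorProduct KaehlerDifferential Algebra MvPolynomial

variable {R A : Type u} [CommRing R] [CommRing A] [Algebra R A] {n c : ℕ}
  (G : Algebra.Generators R A (Fin n)) (a : A) (g : Fin c → G.toExtension.ker)
  (S' : Type u) [CommRing S'] [Algebra A S'] [Algebra R S'] [IsScalarTower R A S']
  [IsLocalization.Away a S']

/-- The Jacobian matrix of the leading relations, with entries in `A`. -/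
noncomputable def jac : Matrix (Fin c) (Fin n) A :=
  fun j i => aeval G.val (pderiv i ((g j : G.toExtension.Ring) : MvPolynomial (Fin n) R))

/-- The classes of the leading relations in the base-changed conormal module. -/
noncomputable def gam (j : Fin c) : S' ⊗[A] G.toExtension.Cotangent :=
  (1 : S') ⊗ₜ[A] Algebra.Extension.Cotangent.mk (g j)

/-- The basis of the base-changed cotangent space. -/
noncomputable def bF : Module.Basis (Fin n) S' (S' ⊗[A] G.toExtension.CotangentSpace) :=
  G.cotangentSpaceBasis.baseChange S'

lemma d_gam (j : Fin c) :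
    G.toExtension.cotangentComplex.baseChange S' (gam G g S' j) =
      ∑ i, algebraMap A S' (jac G g j i) • bF G S' i := by
  rw [gam, LinearMap.baseChange_tmul, Algebra.Extension.cotangentComplex_mk]
  conv_lhs => rw [← (bF G S').sum_repr ((1 : S') ⊗ₜ[A]
    ((1 : A) ⊗ₜ[G.toExtension.Ring] (D R G.toExtension.Ring) (g j : G.toExtension.Ring)))]
  apply Finset.sum_congr rfl
  intro i _
  congr 1
  rw [bF, Module.Basis.baseChange_repr_tmul, Algebra.Generators.cotangentSpaceBasis_repr_one_tmul,
    Algebra.smul_def, mul_one]
  rfl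

variable {G a g}

lemma one_tmul_mem_span {z : G.toExtension.Cotangent}
    (hz : z ∈ Submodule.span A (Set.range fun j => Algebra.Extension.Cotangent.mk (g j))) :
    ((1 : S') ⊗ₜ[A] z : S' ⊗[A] G.toExtension.Cotangent) ∈
      Submodule.span S' (Set.range (gam G g S')) := by
  refine Submodule.span_induction (p := fun z _ => ((1 : S') ⊗ₜ[A] z :
    S' ⊗[A] G.toExtension.Cotangent) ∈ Submodule.span S' (Set.range (gam G g S'))) ?_ ?_ ?_ ?_ hz
  · rintro _ ⟨j, rfl⟩
    exact Submodule.subset_span ⟨j, rfl⟩
  · rw [TensorProduct.tmul_zero]; exact Submodule.zero_mem _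
  · intro x y _ _ hx hy
    rw [TensorProduct.tmul_add]; exact Submodule.add_mem _ hx hy
  · intro r x _ hx
    have : ((1 : S') ⊗ₜ[A] (r • x) : S' ⊗[A] G.toExtension.Cotangent) =
        algebraMap A S' r • ((1 : S') ⊗ₜ[A] x) := by
      rw [TensorProduct.smul_tmul', ← TensorProduct.smul_tmul, Algebra.smul_def, mul_one,
        smul_eq_mul, mul_one]
    rw [this]
    exact Submodule.smul_mem _ _ hx

theorem span_gam
    (hspan : ∀ y : G.toExtension.Cotangent,
      a • y ∈ Submodule.span A (Set.range fun j => Algebra.Extension.Cotangent.mk (g j))) :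
    Submodule.span S' (Set.range (gam G g S')) = ⊤ := by
  rw [_root_.eq_top_iff]
  rintro x -
  induction x using TensorProduct.induction_on with
  | zero => exact Submodule.zero_mem _
  | add x y hx hy => exact Submodule.add_mem _ hx hy
  | tmul s y =>
    have h0 : ((1 : S') ⊗ₜ[A] (a • y) : S' ⊗[A] G.toExtension.Cotangent) =
        algebraMap A S' a • ((1 : S') ⊗ₜ[A] y) := by
      rw [TensorProduct.smul_tmul', ← TensorProduct.smul_tmul, Algebra.smul_def, mul_one,
        smul_eq_mul, mul_one]
    have h1 : (s ⊗ₜ[A] y : S' ⊗[A] G.toExtension.Cotangent) =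
        (s * IsLocalization.Away.invSelf a) • ((1 : S') ⊗ₜ[A] (a • y)) := by
      rw [h0, smul_smul, mul_assoc, mul_comm (IsLocalization.Away.invSelf a),
        IsLocalization.Away.mul_invSelf, mul_one, TensorProduct.smul_tmul', smul_eq_mul, mul_one]
    rw [h1]
    exact Submodule.smul_mem _ _ (one_tmul_mem_span S' (hspan y))

variable (G a g)

/-- The localized right inverse. -/
noncomputable def Nloc (N : Matrix (Fin n) (Fin c) A) (i : Fin n) (j : Fin c) : S' :=
  IsLocalization.Away.invSelf a * algebraMap A S' (N i j)

/-- The retraction of the base-changed cotangent complex. -/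
noncomputable def lret (N : Matrix (Fin n) (Fin c) A) :
    S' ⊗[A] G.toExtension.CotangentSpace →ₗ[S'] S' ⊗[A] G.toExtension.Cotangent :=
  (bF G S').constr S' fun i => ∑ j, Nloc a S' N i j • gam G g S' j

variable {G a g}

lemma sum_jac_Nloc {N : Matrix (Fin n) (Fin c) A}
    (hN : jac G g * N = a • (1 : Matrix (Fin c) (Fin c) A)) (j j' : Fin c) :
    ∑ i, algebraMap A S' (jac G g j i) * Nloc a S' N i j' = if j = j' then 1 else 0 := by
  classical
  have h1 : ∑ i, jac G g j i * N i j' = if j = j' then a else 0 := by
    have := congrFun (congrFun hN j) j'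
    rw [Matrix.mul_apply, Matrix.smul_apply, Matrix.one_apply, smul_eq_mul, mul_ite, mul_one,
      mul_zero] at this
    exact this
  calc ∑ i, algebraMap A S' (jac G g j i) * Nloc a S' N i j'
      = IsLocalization.Away.invSelf a * algebraMap A S' (∑ i, jac G g j i * N i j') := by
        rw [map_sum, Finset.mul_sum]
        apply Finset.sum_congr rfl
        intro i _
        rw [Nloc, map_mul]; ring
    _ = if j = j' then 1 else 0 := by
        rw [h1]
        split_ifs
        · rw [mul_comm, IsLocalization.Away.mul_invSelf]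
        · rw [map_zero, mul_zero]

lemma lret_d_gam {N : Matrix (Fin n) (Fin c) A}
    (hN : jac G g * N = a • (1 : Matrix (Fin c) (Fin c) A)) (j : Fin c) :
    lret G a g S' N (G.toExtension.cotangentComplex.baseChange S' (gam G g S' j)) =
      gam G g S' j := by
  classical
  rw [d_gam, map_sum]
  simp_rw [map_smul, lret, Module.Basis.constr_basis, Finset.smul_sum, smul_smul]
  rw [Finset.sum_comm]
  simp_rw [← Finset.sum_smul, sum_jac_Nloc S' hN]
  rw [Finset.sum_eq_single j]
  · rw [if_pos rfl, one_smul]
  · intro j' _ hj'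
    rw [if_neg (Ne.symm hj'), zero_smul]
  · intro h; exact absurd (Finset.mem_univ _) h

theorem lret_comp
    (hspan : ∀ y : G.toExtension.Cotangent,
      a • y ∈ Submodule.span A (Set.range fun j => Algebra.Extension.Cotangent.mk (g j)))
    {N : Matrix (Fin n) (Fin c) A}
    (hN : jac G g * N = a • (1 : Matrix (Fin c) (Fin c) A)) :
    lret G a g S' N ∘ₗ G.toExtension.cotangentComplex.baseChange S' = LinearMap.id := by
  apply LinearMap.ext_on (span_gam S' hspan)
  rintro _ ⟨j, rfl⟩
  rw [LinearMap.comp_apply, lret_d_gam S' hN, LinearMap.id_apply]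

theorem formallySmooth
    (hspan : ∀ y : G.toExtension.Cotangent,
      a • y ∈ Submodule.span A (Set.range fun j => Algebra.Extension.Cotangent.mk (g j)))
    {N : Matrix (Fin n) (Fin c) A}
    (hN : jac G g * N = a • (1 : Matrix (Fin c) (Fin c) A)) :
    Algebra.FormallySmooth R S' := by
  haveI : Algebra.FormallySmooth R G.toExtension.Ring :=
    inferInstanceAs (Algebra.FormallySmooth R (MvPolynomial (Fin n) R))
  rw [SmoothLocLink.formallySmooth_localization_iff G.toExtension S' (Submonoid.powers a)]
  exact ⟨lret G a g S' N, lret_comp S' hspan hN⟩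

/-- The leading relations give a free basis of the localized conormal module. -/
theorem gam_bijective
    (hspan : ∀ y : G.toExtension.Cotangent,
      a • y ∈ Submodule.span A (Set.range fun j => Algebra.Extension.Cotangent.mk (g j)))
    {N : Matrix (Fin n) (Fin c) A}
    (hN : jac G g * N = a • (1 : Matrix (Fin c) (Fin c) A)) :
    Function.Bijective (Fintype.linearCombination S' (gam G g S')) := by
  classical
  constructor
  · let ρ : S' ⊗[A] G.toExtension.CotangentSpace →ₗ[S'] (Fin c → S') :=
      (bF G S').constr S' fun i => fun j => Nloc a S' N i j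
    have hρ : ∀ j, ρ (G.toExtension.cotangentComplex.baseChange S' (gam G g S' j)) =
        Pi.single j 1 := by
      intro j
      rw [d_gam, map_sum]
      simp_rw [map_smul, ρ, Module.Basis.constr_basis]
      ext j'
      rw [Finset.sum_apply]
      simp_rw [Pi.smul_apply, smul_eq_mul]
      rw [sum_jac_Nloc S' hN, Pi.single_apply]
      simp only [eq_comm]
    have hleft : ∀ v : Fin c → S',
        ρ (G.toExtension.cotangentComplex.baseChange S'
          (Fintype.linearCombination S' (gam G g S') v)) = v := by
      intro v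
      rw [Fintype.linearCombination_apply, map_sum, map_sum]
      simp_rw [map_smul, hρ]
      ext j'
      rw [Finset.sum_apply]
      simp_rw [Pi.smul_apply, Pi.single_apply, smul_eq_mul, mul_ite, mul_one, mul_zero]
      rw [Finset.sum_ite_eq]
      simp
    intro v w hvw
    rw [← hleft v, ← hleft w, hvw]
  · rw [← LinearMap.range_eq_top, Fintype.range_linearCombination]
    exact span_gam S' hspan

theorem stablyFree
    (hspan : ∀ y : G.toExtension.Cotangent,
      a • y ∈ Submodule.span A (Set.range fun j => Algebra.Extension.Cotangent.mk (g j)))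
    {N : Matrix (Fin n) (Fin c) A}
    (hN : jac G g * N = a • (1 : Matrix (Fin c) (Fin c) A)) :
    Nonempty ((Ω[S'⁄R] × (Fin c → S')) ≃ₗ[S'] (Fin n → S')) := by
  let E := G.toExtension
  haveI het : Algebra.FormallyEtale A S' := Algebra.FormallyEtale.of_isLocalization (Submonoid.powers a)
  let eΩ := KaehlerDifferential.tensorKaehlerEquivOfFormallyEtale R A S'
  let π : S' ⊗[A] E.CotangentSpace →ₗ[S'] Ω[S'⁄R] := eΩ.toLinearMap ∘ₗ E.toKaehler.baseChange S'
  have hπ : Function.Surjective π :=
    eΩ.surjective.comp (LinearMap.lTensor_surjective S' E.toKaehler_surjective)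
  have hex0 : Function.Exact (E.cotangentComplex.baseChange S') (E.toKaehler.baseChange S') :=
    lTensor_exact S' E.exact_cotangentComplex_toKaehler E.toKaehler_surjective
  have hex : Function.Exact (E.cotangentComplex.baseChange S') π := by
    intro x
    rw [← hex0 x]
    simp only [π, LinearMap.coe_comp, LinearEquiv.coe_coe, Function.comp_apply,
      EmbeddingLike.map_eq_zero_iff]
  let e₁ := (hex.splitInjectiveEquiv hπ ⟨lret G a g S' N, lret_comp S' hspan hN⟩).1
  let eK : (Fin c → S') ≃ₗ[S'] S' ⊗[A] E.Cotangent :=
    LinearEquiv.ofBijective _ (gam_bijective S' hspan hN)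
  exact ⟨((LinearEquiv.prodCongr (LinearEquiv.refl S' _) eK).trans
    (LinearEquiv.prodComm S' _ _)).trans (e₁.symm.trans (bF G S').equivFun)⟩

end Groth.Agent.Helper2.StrictStd
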