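import Mathlib
import Groth.Prelude.Def_Smoothing
import Groth.Agent.Helper2.StrictStd1
import Groth.Agent.Helper2.StrictStd2

set_option autoImplicit false
universe u

namespace Groth.Agent.Helper2.StrictStd

open Smoothing MvPolynomial

variable {R A : Type u} [CommRing R] [CommRing A] [Algebra R A] (P : MarkedPresentation R A)

/-- The generators attached to a marked presentation. -/
noncomputable def gens : Algebra.Generators R A (Fin P.n) :=
  Algebra.Generators.ofAlgHom P.hom P.surj

lemma aeval_gens_val (x : MvPolynomial (Fin P.n) R) : aeval (gens P).val x = P.hom x := by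
  have : aeval (gens P).val = P.hom := by
    ext i
    simp [gens, Algebra.Generators.ofAlgHom, Algebra.Generators.ofSurjective]
  rw [this]

lemma gens_algebraMap (x : (gens P).toExtension.Ring) :
    algebraMap (gens P).toExtension.Ring A x = P.hom (x : MvPolynomial (Fin P.n) R) :=
  ((gens P).algebraMap_apply x).trans (aeval_gens_val P x)

lemma mem_ker_iff (x : (gens P).toExtension.Ring) :
    x ∈ (gens P).toExtension.ker ↔
      (x : MvPolynomial (Fin P.n) R) ∈ Ideal.span (Set.range P.rel) := by
  rw [← P.ker_eq, Algebra.Extension.ker, RingHom.mem_ker, gens_algebraMap]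
  rfl

lemma rel_mem_ker (j : Fin P.m) :
    (P.rel j : (gens P).toExtension.Ring) ∈ (gens P).toExtension.ker :=
  (mem_ker_iff P _).2 (Ideal.subset_span ⟨j, rfl⟩)

/-- The leading relations as elements of the kernel. -/
noncomputable def lead (j : Fin P.c) : (gens P).toExtension.ker :=
  ⟨P.rel (Fin.castLE P.hcm j), rel_mem_ker P _⟩

lemma jac_submatrix_det (cols : Fin P.c → Fin P.n) :
    ((jac (gens P) (lead P)).submatrix id cols).det =
      P.hom (jacobianMinor P.rel (Fin.castLE P.hcm) cols) := by
  rw [jacobianMinor, AlgHom.map_det]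
  congr 1
  ext j k
  simp only [Matrix.submatrix_apply, id, jac, lead, AlgHom.mapMatrix_apply, Matrix.map_apply,
    Matrix.of_apply]
  exact aeval_gens_val P _

theorem exists_N {a : A}
    (ha : a ∈ Ideal.span (Set.range fun cols : Fin P.c → Fin P.n =>
        P.hom (jacobianMinor P.rel (Fin.castLE P.hcm) cols))) :
    ∃ N : Matrix (Fin P.n) (Fin P.c) A,
      jac (gens P) (lead P) * N = a • (1 : Matrix (Fin P.c) (Fin P.c) A) := by
  apply exists_right_inverse
  convert ha using 3
  ext cols
  rw [jac_submatrix_det]

end Groth.Agent.Helper2.StrictStd
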