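import Mathlib
import Groth.Prelude.Def_Smoothing
import Groth.Agent.Helper2.StrictStd3

set_option autoImplicit false
universe u

namespace Groth.Agent.Helper2.StrictStd

open Smoothing MvPolynomial

variable {R A : Type u} [CommRing R] [CommRing A] [Algebra R A] (P : MarkedPresentation R A)

/-- The relations viewed in the extension ring. -/
noncomputable def relE (j : Fin P.m) : (gens P).toExtension.Ring := P.rel j

lemma ker_eq_span : (gens P).toExtension.ker = Ideal.span (Set.range (relE P)) :=
  Ideal.ext (mem_ker_iff P)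

lemma killsTailE {a : A} (hk : KillsTail P a) (a' : (gens P).toExtension.Ring)
    (ha' : algebraMap (gens P).toExtension.Ring A a' = a) (j : Fin P.m) (hj : P.c ≤ (j : ℕ)) :
    a' * relE P j ∈ Ideal.span (relE P '' {j' : Fin P.m | (j' : ℕ) < P.c}) ⊔
      Ideal.span (Set.range (relE P)) ^ 2 :=
  hk a' ((gens_algebraMap P a').symm.trans ha') j hj

lemma lead_val (j : Fin P.c) :
    ((lead P j : (gens P).toExtension.ker) : (gens P).toExtension.Ring) =
      relE P (Fin.castLE P.hcm j) := rfl

lemma image_lt_eq_range :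
    relE P '' {j' : Fin P.m | (j' : ℕ) < P.c} =
      Set.range fun j : Fin P.c => relE P (Fin.castLE P.hcm j) := by
  ext z
  constructor
  · rintro ⟨j, hj, rfl⟩
    exact ⟨⟨j, hj⟩, by congr 1⟩
  · rintro ⟨j, rfl⟩
    exact ⟨Fin.castLE P.hcm j, j.2, rfl⟩

lemma mk_mem_span_of_mem_span_lead (z : (gens P).toExtension.ker)
    (hz : (z : (gens P).toExtension.Ring) ∈
      Ideal.span (relE P '' {j' : Fin P.m | (j' : ℕ) < P.c})) :
    Algebra.Extension.Cotangent.mk z ∈
      Submodule.span A (Set.range fun j => Algebra.Extension.Cotangent.mk (lead P j)) := by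
  rw [image_lt_eq_range] at hz
  obtain ⟨q, hq⟩ := Ideal.mem_span_range_iff_exists_fun.1 hz
  have hz' : z = ∑ j, q j • lead P j := by
    apply Subtype.ext
    rw [← hq]
    simp only [Submodule.coe_sum, Submodule.coe_smul_of_tower, smul_eq_mul, lead_val]
  rw [hz', map_sum]
  refine Submodule.sum_mem _ fun j _ => ?_
  rw [map_smul, ← algebraMap_smul A]
  exact Submodule.smul_mem _ _ (Submodule.subset_span ⟨j, rfl⟩)

theorem hspan {a : A} (hk : KillsTail P a) (y : (gens P).toExtension.Cotangent) :
    a • y ∈ Submodule.span A (Set.range fun j => Algebra.Extension.Cotangent.mk (lead P j)) := by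
  classical
  obtain ⟨x, rfl⟩ := Algebra.Extension.Cotangent.mk_surjective y
  obtain ⟨a', ha'⟩ := (gens P).toExtension.algebraMap_surjective a
  have hax : a • Algebra.Extension.Cotangent.mk x =
      Algebra.Extension.Cotangent.mk (a' • x) := by
    rw [map_smul, ← algebraMap_smul A a']
    congr 1
    exact ha'.symm
  rw [hax]
  have key : a' * (x : (gens P).toExtension.Ring) ∈
      Ideal.span (relE P '' {j' : Fin P.m | (j' : ℕ) < P.c}) ⊔
        Ideal.span (Set.range (relE P)) ^ 2 := by
    have hx : (x : (gens P).toExtension.Ring) ∈ Ideal.span (Set.range (relE P)) := by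
      rw [← ker_eq_span]; exact x.2
    obtain ⟨p, hp⟩ := Ideal.mem_span_range_iff_exists_fun.1 hx
    rw [← hp, Finset.mul_sum]
    refine Ideal.sum_mem _ fun j _ => ?_
    rw [mul_left_comm]
    refine Ideal.mul_mem_left _ _ ?_
    by_cases hj : P.c ≤ (j : ℕ)
    · exact killsTailE P hk a' ha' j hj
    · exact Ideal.mul_mem_left _ _
        (Ideal.mem_sup_left (Ideal.subset_span ⟨j, not_le.1 hj, rfl⟩))
  obtain ⟨z₁, hz₁, z₂, hz₂, hz⟩ := Submodule.mem_sup.1 key
  have hz₁k : z₁ ∈ (gens P).toExtension.ker := by
    rw [ker_eq_span]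
    exact Ideal.span_mono (Set.image_subset_range _ _) hz₁
  have hz₂k : z₂ ∈ (gens P).toExtension.ker := by
    rw [ker_eq_span]
    exact Ideal.pow_le_self two_ne_zero hz₂
  have hsplit : a' • x = (⟨z₁, hz₁k⟩ : (gens P).toExtension.ker) + ⟨z₂, hz₂k⟩ := by
    apply Subtype.ext
    exact hz.symm
  have hz₂0 : Algebra.Extension.Cotangent.mk (⟨z₂, hz₂k⟩ : (gens P).toExtension.ker) = 0 := by
    rw [Algebra.Extension.Cotangent.mk_eq_zero_iff]
    show z₂ ∈ (gens P).toExtension.ker ^ 2
    rw [ker_eq_span]
    exact hz₂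
  rw [hsplit, map_add, hz₂0, add_zero]
  exact mk_mem_span_of_mem_span_lead P _ hz₁

lemma finitePresentation (P : MarkedPresentation R A) : Algebra.FinitePresentation R A :=
  Algebra.FinitePresentation.of_surjective (f := P.hom) P.surj (by
    rw [P.ker_eq]
    exact Submodule.fg_span (Set.finite_range _))

theorem main (a : A) (ha : IsStrictlyStandard R A a) :
    Algebra.Smooth R (Localization.Away a) ∧
      ∃ p q : ℕ, Nonempty ((Ω[Localization.Away a⁄R] × (Fin p → Localization.Away a))
        ≃ₗ[Localization.Away a] (Fin q → Localization.Away a)) := by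
  obtain ⟨P, hmem, hk⟩ := ha
  obtain ⟨N, hN⟩ := exists_N P hmem
  have hfp : Algebra.FinitePresentation R (Localization.Away a) := by
    haveI := finitePresentation P
    haveI : Algebra.FinitePresentation A (Localization.Away a) :=
      IsLocalization.Away.finitePresentation a
    exact Algebra.FinitePresentation.trans R A (Localization.Away a)
  have hfs : Algebra.FormallySmooth R (Localization.Away a) :=
    formallySmooth (G := gens P) (a := a) (g := lead P) (Localization.Away a) (hspan P hk) hN
  refine ⟨⟨hfs, hfp⟩, P.c, P.n, ?_⟩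
  exact stablyFree (G := gens P) (a := a) (g := lead P) (Localization.Away a) (hspan P hk) hN

end Groth.Agent.Helper2.StrictStd
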