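import Mathlib
import Groth.Prelude.Def_Smoothing
import Groth.Agent.Helper2.PopB
import Groth.Agent.Helper2.DelocG
import Groth.Agent.Helper2.SingIdeal
import Groth.Agent.Helper2.StrictStd4

set_option autoImplicit false

namespace Groth.Agent.Helper2.Pop

open Function MvPolynomial TensorProduct

universe u

/-- The generic step: ind-smoothness can be checked after localizing at `S` and after killing
(eighth powers of) elements of `S`. -/
theorem generic_step {R Λ Rₛ : Type u} [CommRing R] [IsNoetherianRing R] [CommRing Λ] [Algebra R Λ]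
    (S : Submonoid R) [CommRing Rₛ] [Algebra R Rₛ] [IsLocalization S Rₛ]
    (hR : ∀ s ∈ S, ∀ r : R, s ^ 2 * r = 0 → s * r = 0)
    (hΛ : ∀ s ∈ S, ∀ x : Λ, s ^ 2 • x = 0 → s • x = 0)
    (hquot : ∀ s ∈ S, Smoothing.IndSmooth (R ⧸ Ideal.span {s ^ 8})
      (Λ ⧸ (Ideal.span {s ^ 8}).map (algebraMap R Λ)))
    (hloc : Smoothing.IndSmooth Rₛ (Rₛ ⊗[R] Λ)) : Smoothing.IndSmooth R Λ := by
  intro A _ _ hA φ
  haveI := hA
  obtain ⟨B', instB', algB', hsmB', g, h, hgh⟩ :=
    hloc (Rₛ ⊗[R] A) inferInstance (Algebra.TensorProduct.map (AlgHom.id Rₛ Rₛ) φ)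
  haveI := hsmB'
  obtain ⟨B, instB, algB, α, β, hβα, s, hs, hel⟩ := Deloc.main φ S g h hgh
  haveI hfpB : Algebra.FinitePresentation R B := by
    obtain ⟨P, -, -⟩ := hel
    exact StrictStd.finitePresentation P
  have hstd := SingIdeal.strictlyStandard_of_elementaryStandard _ hel
  obtain ⟨B'', instB'', algB'', hsmB'', g'', h'', hgh''⟩ :=
    pi_step β s (hR s hs) (hΛ s hs) hstd (hquot s hs)
  refine ⟨B'', instB'', algB'', hsmB'', g''.comp α, h'', ?_⟩
  rw [← AlgHom.comp_assoc, hgh'', hβα]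

end Groth.Agent.Helper2.Pop
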