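import Mathlib
import Groth.Prelude.Def_Smoothing
import Groth.Agent.Helper4.SepGen

set_option autoImplicit false

namespace Groth.Agent.Helper2.Sep

open Groth.Agent.Helper4.SepGen

universe u

/-- A finitely generated subextension of a formally smooth field extension is formally smooth. -/
theorem formallySmooth_intermediate {k K : Type u} [Field k] [Field K] [Algebra k K]
    [Algebra.FormallySmooth k K] (K' : IntermediateField k K) [Algebra.EssFiniteType k K'] :
    Algebra.FormallySmooth k K' := by
  apply formallySmooth_of_sepGen
  have key : ∃ s : Finset K', IsTranscendenceBasis k ((↑) : s → K') ∧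
      Algebra.IsSeparable (IntermediateField.adjoin k (s : Set K')) K' := by
    obtain ⟨p, hp⟩ := CharP.exists k
    rcases CharP.char_is_prime_or_zero k p with hpp | hp0
    · haveI : Fact p.Prime := ⟨hpp⟩
      haveI : ExpChar k p := ExpChar.prime hpp
      exact exists_isTranscendenceBasis_and_isSeparable_of_linearIndepOn_pow_of_essFiniteType
        (k := k) (K := K') p hpp (macLane_sub p (macLane_of_formallySmooth p) K')
    · subst hp0
      haveI : CharZero k := CharP.charP_to_charZero k
      exact exists_isTranscendenceBasis_and_isSeparable_of_perfectField k K'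
  obtain ⟨s, hs1, hs2⟩ := key
  refine ⟨s, ((↑) : s → K'), hs1, ?_⟩
  have hr : (Set.range ((↑) : s → K')) = (s : Set K') := Subtype.range_coe
  convert hs2

/-- A finitely generated field with a map to a formally smooth field extension is formally
smooth. -/
theorem formallySmooth_of_tower {k F K : Type u} [Field k] [Field F] [Field K] [Algebra k F]
    [Algebra k K] [Algebra F K] [IsScalarTower k F K] [Algebra.EssFiniteType k F]
    [Algebra.FormallySmooth k K] : Algebra.FormallySmooth k F := by
  let ι : F →ₐ[k] K := IsScalarTower.toAlgHom k F K
  let K' : IntermediateField k K := ι.fieldRange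
  let eq : F ≃ₐ[k] K' := AlgEquiv.ofInjectiveField ι
  haveI : Algebra.EssFiniteType k K' := Algebra.EssFiniteType.of_surjective eq.toAlgHom eq.surjective
  haveI : Algebra.FormallySmooth k K' := formallySmooth_intermediate K'
  exact Algebra.FormallySmooth.of_equiv eq.symm

end Groth.Agent.Helper2.Sep

namespace Groth.Agent.Helper2.Sep

universe u

/-- A formally smooth (e.g. separable) field extension is ind-smooth. -/
theorem indSmooth_of_formallySmooth {k K : Type u} [Field k] [Field K] [Algebra k K]
    [Algebra.FormallySmooth k K] : Smoothing.IndSmooth k K := by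
  classical
  intro A _ _ hA f
  haveI := hA
  let A' : Subalgebra k K := f.range
  haveI hft : Algebra.FiniteType k A' :=
    Algebra.FiniteType.of_surjective f.rangeRestrict f.rangeRestrict_surjective
  haveI : Algebra.FinitePresentation k A' := Algebra.FinitePresentation.of_finiteType.mp hft
  haveI hbp : (⊥ : Ideal A').IsPrime := Ideal.bot_prime
  haveI hfr : IsFractionRing A' (Localization.AtPrime (⊥ : Ideal A')) := by
    simpa [Ideal.primeCompl_bot] using
      Localization.isLocalization (M := (⊥ : Ideal A').primeCompl)
  letI : Field (Localization.AtPrime (⊥ : Ideal A')) := IsFractionRing.toField A'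
  let ι : Localization.AtPrime (⊥ : Ideal A') →ₐ[k] K :=
    IsFractionRing.liftAlgHom (g := A'.val) Subtype.val_injective
  letI : Algebra (Localization.AtPrime (⊥ : Ideal A')) K := ι.toRingHom.toAlgebra
  haveI : IsScalarTower k (Localization.AtPrime (⊥ : Ideal A')) K :=
    IsScalarTower.of_algebraMap_eq fun r => (ι.commutes r).symm
  haveI : Algebra.EssFiniteType k (Localization.AtPrime (⊥ : Ideal A')) :=
    Algebra.EssFiniteType.comp k A' _
  haveI hsm : Algebra.IsSmoothAt k (⊥ : Ideal A') :=
    formallySmooth_of_tower (k := k) (F := Localization.AtPrime (⊥ : Ideal A')) (K := K)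
  obtain ⟨g, hg, hgs⟩ := Algebra.IsSmoothAt.exists_notMem_smooth k (⊥ : Ideal A')
  have hg0 : g ≠ 0 := fun h => hg (h ▸ Ideal.zero_mem _)
  have hunit : IsUnit (A'.val g) := by
    rw [isUnit_iff_ne_zero]
    intro h
    exact hg0 (Subtype.val_injective (by simpa using h))
  let hB : Localization.Away g →ₐ[k] K := IsLocalization.liftAlgHom (M := Submonoid.powers g)
    (f := A'.val) (by
      rintro ⟨_, n, rfl⟩
      simpa using hunit.pow n)
  refine ⟨Localization.Away g, inferInstance, inferInstance, hgs,
    (IsScalarTower.toAlgHom k A' (Localization.Away g)).comp f.rangeRestrict, hB, ?_⟩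
  apply AlgHom.ext
  intro a
  simp only [AlgHom.comp_apply, IsScalarTower.coe_toAlgHom', hB, IsLocalization.liftAlgHom_apply,
    IsLocalization.lift_eq]
  rfl

end Groth.Agent.Helper2.Sep
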