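import Mathlib
import Groth.Prelude.Def_Smoothing
import Groth.Agent.Helper2.PopC
import Groth.Agent.Helper2.IndSmoothNil
import Groth.Agent.Helper2.SepB
import Groth.Agent.Helper1.FieldSmooth7

set_option autoImplicit false

namespace Groth.Agent.Helper2.Pop

open Function IsLocalRing TensorProduct

universe u

/-- over the zero ring everything is ind-smooth. -/
theorem indSmooth_of_subsingleton {R₀ Λ₀ : Type u} [CommRing R₀] [CommRing Λ₀] [Algebra R₀ Λ₀]
    [Subsingleton R₀] : Smoothing.IndSmooth R₀ Λ₀ := by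
  intro A _ _ hA f
  haveI : Subsingleton A := Module.subsingleton R₀ A
  exact ⟨A, inferInstance, inferInstance, ⟨inferInstance, hA⟩, AlgHom.id _ _, f, AlgHom.comp_id f⟩

section DVR

variable {R Λ : Type u} [CommRing R] [IsDomain R] [IsDiscreteValuationRing R] [CommRing Λ]
  [IsDomain Λ] [IsDiscreteValuationRing Λ] [Algebra R Λ] [NoZeroSMulDivisors R Λ]
  [IsLocalHom (algebraMap R Λ)]

theorem indSmooth_quot_dvr
    (he : (maximalIdeal R).map (algebraMap R Λ) = maximalIdeal Λ)
    (hκ : Smoothing.IndSmooth (ResidueField R) (ResidueField Λ)) (t : R) (ht : t ≠ 0) :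
    Smoothing.IndSmooth (R ⧸ Ideal.span {t}) (Λ ⧸ (Ideal.span {t}).map (algebraMap R Λ)) := by
  classical
  by_cases hu : IsUnit t
  · haveI : Subsingleton (R ⧸ Ideal.span {t}) := by
      rw [Ideal.Quotient.subsingleton_iff, Ideal.span_singleton_eq_top]
      exact hu
    exact indSmooth_of_subsingleton
  have htm : t ∈ maximalIdeal R := (mem_maximalIdeal t).2 hu
  have htle : Ideal.span {t} ≤ maximalIdeal R := by
    rw [Ideal.span_le, Set.singleton_subset_iff]
    exact htm
  -- nilpotency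
  obtain ⟨ϖ, hϖ⟩ := IsDiscreteValuationRing.exists_irreducible R
  have hspan_ne : Ideal.span {t} ≠ ⊥ := by
    rw [Ne, Ideal.span_singleton_eq_bot]
    exact ht
  obtain ⟨n, hn⟩ := IsDiscreteValuationRing.ideal_eq_span_pow_irreducible hspan_ne hϖ
  have hnil : IsNilpotent ((maximalIdeal R).map (Ideal.Quotient.mk (Ideal.span {t}))) := by
    refine ⟨n, ?_⟩
    rw [← Ideal.map_pow, hϖ.maximalIdeal_eq, Ideal.span_singleton_pow, ← hn]
    exact Ideal.map_quotient_self _
  haveI : Module.Flat (R ⧸ Ideal.span {t}) (Λ ⧸ (Ideal.span {t}).map (algebraMap R Λ)) :=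
    Module.Flat.of_linearEquiv
      (Algebra.TensorProduct.quotIdealMapEquivQuotTensor Λ (Ideal.span {t})).toLinearEquiv
  refine IndSmoothNil.s2022 _ hnil ?_
  -- identify the residue fields
  let q₁ : R →+* (R ⧸ Ideal.span {t}) ⧸
      (maximalIdeal R).map (Ideal.Quotient.mk (Ideal.span {t})) :=
    (Ideal.Quotient.mk _).comp (Ideal.Quotient.mk (Ideal.span {t}))
  have hq₁ : Surjective q₁ := Ideal.Quotient.mk_surjective.comp Ideal.Quotient.mk_surjective
  have hker₁ : RingHom.ker q₁ = maximalIdeal R := by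
    ext x
    rw [RingHom.mem_ker]
    show (Ideal.Quotient.mk _) (Ideal.Quotient.mk (Ideal.span {t}) x) = 0 ↔ _
    rw [Ideal.Quotient.eq_zero_iff_mem, ← Ideal.mem_comap,
      Ideal.comap_map_of_surjective _ Ideal.Quotient.mk_surjective, ← RingHom.ker_eq_comap_bot,
      Ideal.mk_ker, sup_eq_left.2 htle]
  let e₁ : ResidueField R ≃+* (R ⧸ Ideal.span {t}) ⧸
      (maximalIdeal R).map (Ideal.Quotient.mk (Ideal.span {t})) :=
    (Ideal.quotEquivOfEq hker₁.symm).trans (RingHom.quotientKerEquivOfSurjective hq₁)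
  let q₂ : Λ →+* (Λ ⧸ (Ideal.span {t}).map (algebraMap R Λ)) ⧸
      ((maximalIdeal R).map (Ideal.Quotient.mk (Ideal.span {t}))).map
        (algebraMap (R ⧸ Ideal.span {t}) (Λ ⧸ (Ideal.span {t}).map (algebraMap R Λ))) :=
    (Ideal.Quotient.mk _).comp (Ideal.Quotient.mk ((Ideal.span {t}).map (algebraMap R Λ)))
  have hq₂ : Surjective q₂ := Ideal.Quotient.mk_surjective.comp Ideal.Quotient.mk_surjective
  have hJ : ((maximalIdeal R).map (Ideal.Quotient.mk (Ideal.span {t}))).map
        (algebraMap (R ⧸ Ideal.span {t}) (Λ ⧸ (Ideal.span {t}).map (algebraMap R Λ))) =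
      (maximalIdeal Λ).map (Ideal.Quotient.mk ((Ideal.span {t}).map (algebraMap R Λ))) := by
    rw [← he, Ideal.map_map, Ideal.map_map]
    rfl
  have htΛle : (Ideal.span {t}).map (algebraMap R Λ) ≤ maximalIdeal Λ := by
    rw [← he]
    exact Ideal.map_mono htle
  have hker₂ : RingHom.ker q₂ = maximalIdeal Λ := by
    ext x
    rw [RingHom.mem_ker]
    show (Ideal.Quotient.mk _) (Ideal.Quotient.mk ((Ideal.span {t}).map (algebraMap R Λ)) x) = 0 ↔ _
    rw [Ideal.Quotient.eq_zero_iff_mem, hJ, ← Ideal.mem_comap,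
      Ideal.comap_map_of_surjective _ Ideal.Quotient.mk_surjective, ← RingHom.ker_eq_comap_bot,
      Ideal.mk_ker, sup_eq_left.2 htΛle]
  let e₂ : ResidueField Λ ≃+* (Λ ⧸ (Ideal.span {t}).map (algebraMap R Λ)) ⧸
      ((maximalIdeal R).map (Ideal.Quotient.mk (Ideal.span {t}))).map
        (algebraMap (R ⧸ Ideal.span {t}) (Λ ⧸ (Ideal.span {t}).map (algebraMap R Λ))) :=
    (Ideal.quotEquivOfEq hker₂.symm).trans (RingHom.quotientKerEquivOfSurjective hq₂)
  refine IndSmoothNil.indSmooth_transfer e₁ e₂ ?_ hκ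
  intro r
  obtain ⟨x, rfl⟩ := Ideal.Quotient.mk_surjective r
  rfl

variable {K L : Type u} [Field K] [Algebra R K] [IsFractionRing R K] [Field L] [Algebra Λ L]
  [IsFractionRing Λ L] [Algebra K L] [Algebra R L] [IsScalarTower R K L] [IsScalarTower R Λ L]

/-- the generic fibre of an unramified extension of discrete valuation rings. -/
theorem bijective_generic (he : (maximalIdeal R).map (algebraMap R Λ) = maximalIdeal Λ) :
    Bijective (Algebra.TensorProduct.lift (Algebra.ofId K L) (IsScalarTower.toAlgHom R Λ L)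
      (fun _ _ => Commute.all _ _) : K ⊗[R] Λ →ₐ[K] L) := by
  classical
  obtain ⟨ϖ, hϖ⟩ := IsDiscreteValuationRing.exists_irreducible R
  have hϖ0 : ϖ ≠ 0 := hϖ.ne_zero
  have hinj : Injective (algebraMap R Λ) := FaithfulSMul.algebraMap_injective R Λ
  have hϖΛ : maximalIdeal Λ = Ideal.span {algebraMap R Λ ϖ} := by
    rw [← he, hϖ.maximalIdeal_eq, Ideal.map_span, Set.image_singleton]
  have hirr : Irreducible (algebraMap R Λ ϖ) :=
    (IsDiscreteValuationRing.irreducible_iff_uniformizer _).2 hϖΛ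
  constructor
  · -- injectivity
    have hdecomp : ∀ z : K ⊗[R] Λ, ∃ (s : nonZeroDivisors R) (lam : Λ),
        z = (IsLocalization.mk' K (1 : R) s) ⊗ₜ[R] lam := by
      intro z
      induction z using TensorProduct.induction_on with
      | zero => exact ⟨1, 0, by rw [tmul_zero]⟩
      | tmul x y =>
        obtain ⟨a, s, rfl⟩ := IsLocalization.exists_mk'_eq (nonZeroDivisors R) x
        refine ⟨s, a • y, ?_⟩
        rw [← TensorProduct.smul_tmul, Algebra.smul_def,
          ← IsLocalization.mk'_one (M := nonZeroDivisors R) K a,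
          ← IsLocalization.mk'_mul, mul_one, one_mul]
      | add z z' hz hz' =>
        obtain ⟨s, lam, rfl⟩ := hz
        obtain ⟨s', lam', rfl⟩ := hz'
        refine ⟨s * s', (s' : R) • lam + (s : R) • lam', ?_⟩
        rw [tmul_add, ← TensorProduct.smul_tmul, ← TensorProduct.smul_tmul]
        congr 1
        · congr 1
          rw [Algebra.smul_def, ← IsLocalization.mk'_one (M := nonZeroDivisors R) K (s' : R),
            ← IsLocalization.mk'_mul, one_mul, mul_one]
          rw [IsLocalization.mk'_eq_iff_eq]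
          simp only [Submonoid.coe_mul, Submonoid.coe_one, mul_one]
        · congr 1
          rw [Algebra.smul_def, ← IsLocalization.mk'_one (M := nonZeroDivisors R) K (s : R),
            ← IsLocalization.mk'_mul, one_mul, mul_one]
          rw [IsLocalization.mk'_eq_iff_eq]
          simp only [Submonoid.coe_mul, Submonoid.coe_one, mul_one]
          rw [mul_comm]
    rw [injective_iff_map_eq_zero]
    intro z hz
    obtain ⟨s, lam, rfl⟩ := hdecomp z
    rw [Algebra.TensorProduct.lift_tmul] at hz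
    have hne : (Algebra.ofId K L) (IsLocalization.mk' K (1 : R) s) ≠ 0 := by
      show algebraMap K L (IsLocalization.mk' K (1 : R) s) ≠ 0
      rw [Ne, map_eq_zero]
      intro h0
      have := (IsLocalization.mk'_eq_zero_iff (M := nonZeroDivisors R) (S := K) (1 : R) s).1 h0
      obtain ⟨m, hm⟩ := this
      rw [mul_one] at hm
      exact (nonZeroDivisors.ne_zero m.2) hm
    have hlam : (IsScalarTower.toAlgHom R Λ L) lam = 0 := (mul_eq_zero.1 hz).resolve_left hne
    have hlam0 : lam = 0 := by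
      apply IsFractionRing.injective Λ L
      rw [map_zero]
      exact hlam
    rw [hlam0, tmul_zero]
  · -- surjectivity
    intro y
    obtain ⟨a, b, rfl⟩ := IsLocalization.exists_mk'_eq (nonZeroDivisors Λ) y
    have hb0 : (b : Λ) ≠ 0 := nonZeroDivisors.ne_zero b.2
    obtain ⟨n, u, hu⟩ := IsDiscreteValuationRing.eq_unit_mul_pow_irreducible hb0 hirr
    have hϖn : ϖ ^ n ∈ nonZeroDivisors R := mem_nonZeroDivisors_of_ne_zero (pow_ne_zero n hϖ0)
    refine ⟨(IsLocalization.mk' K (1 : R) ⟨ϖ ^ n, hϖn⟩) ⊗ₜ[R] (a * ((u⁻¹ : Λˣ) : Λ)), ?_⟩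
    rw [Algebra.TensorProduct.lift_tmul, IsLocalization.eq_mk'_iff_mul_eq]
    show (algebraMap K L) (IsLocalization.mk' K (1 : R) ⟨ϖ ^ n, hϖn⟩) *
      (algebraMap Λ L) (a * ((u⁻¹ : Λˣ) : Λ)) * (algebraMap Λ L) b = (algebraMap Λ L) a
    have h0 : algebraMap K L (algebraMap R K (ϖ ^ n)) =
        algebraMap Λ L ((algebraMap R Λ ϖ) ^ n) := by
      rw [← IsScalarTower.algebraMap_apply R K L, IsScalarTower.algebraMap_apply R Λ L,
        map_pow (algebraMap R Λ)]
    have h1 : (algebraMap Λ L) (b : Λ) =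
        algebraMap Λ L (u : Λ) * algebraMap K L (algebraMap R K (ϖ ^ n)) := by
      rw [h0, hu, map_mul]
    have h2 : (algebraMap K L) (IsLocalization.mk' K (1 : R) ⟨ϖ ^ n, hϖn⟩) *
        algebraMap K L (algebraMap R K (ϖ ^ n)) = 1 := by
      have := IsLocalization.mk'_spec K (1 : R) (⟨ϖ ^ n, hϖn⟩ : nonZeroDivisors R)
      rw [← map_mul, this, map_one, map_one]
    have h3 : algebraMap Λ L (((u⁻¹ : Λˣ) : Λ)) * algebraMap Λ L (u : Λ) = 1 := by
      rw [← map_mul, Units.inv_mul, map_one]
    rw [h1, map_mul]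
    calc _ = ((algebraMap K L) (IsLocalization.mk' K (1 : R) ⟨ϖ ^ n, hϖn⟩) *
        algebraMap K L (algebraMap R K (ϖ ^ n))) * (algebraMap Λ L (((u⁻¹ : Λˣ) : Λ)) *
          algebraMap Λ L (u : Λ)) * algebraMap Λ L a := by ring
      _ = _ := by rw [h2, h3, one_mul, one_mul]

/-- **Néron–Popescu for unramified extensions of discrete valuation rings.** -/
theorem main_dvr (he : (maximalIdeal R).map (algebraMap R Λ) = maximalIdeal Λ)
    [Algebra.IsGeometricallyReduced (ResidueField R) (ResidueField Λ)]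
    [Algebra.IsGeometricallyReduced K L] : Smoothing.IndSmooth R Λ := by
  haveI : Algebra.FormallySmooth (ResidueField R) (ResidueField Λ) :=
    Groth.Agent.Helper1.FieldSmooth.formallySmooth_iff_isGeometricallyReduced.2 inferInstance
  have hκ : Smoothing.IndSmooth (ResidueField R) (ResidueField Λ) :=
    Sep.indSmooth_of_formallySmooth
  haveI : Algebra.FormallySmooth K L :=
    Groth.Agent.Helper1.FieldSmooth.formallySmooth_iff_isGeometricallyReduced.2 inferInstance
  have hL : Smoothing.IndSmooth K L := Sep.indSmooth_of_formallySmooth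
  let e : K ⊗[R] Λ ≃ₐ[K] L := AlgEquiv.ofBijective _ (bijective_generic he)
  have hloc : Smoothing.IndSmooth K (K ⊗[R] Λ) := by
    refine IndSmoothNil.indSmooth_transfer (RingEquiv.refl K) e.symm.toRingEquiv ?_ hL
    intro r
    show e.symm (algebraMap K L r) = algebraMap K (K ⊗[R] Λ) r
    rw [← e.commutes r, e.symm_apply_apply]
  have hinj : Injective (algebraMap R Λ) := FaithfulSMul.algebraMap_injective R Λ
  refine generic_step (nonZeroDivisors R) (Rₛ := K) ?_ ?_ ?_ hloc
  · intro s hs r h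
    have hs0 : s ≠ 0 := nonZeroDivisors.ne_zero hs
    rcases mul_eq_zero.1 h with h1 | h1
    · exact absurd ((pow_eq_zero_iff (two_ne_zero)).1 h1) hs0
    · rw [h1, mul_zero]
  · intro s hs x h
    have hs0 : algebraMap R Λ s ≠ 0 := by
      intro h0
      exact nonZeroDivisors.ne_zero hs (hinj (h0.trans (map_zero _).symm))
    rw [Algebra.smul_def, map_pow] at h
    rcases mul_eq_zero.1 h with h1 | h1
    · exact absurd ((pow_eq_zero_iff (two_ne_zero)).1 h1) hs0
    · rw [h1, smul_zero]
  · intro s hs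
    exact indSmooth_quot_dvr he hκ (s ^ 8) (pow_ne_zero 8 (nonZeroDivisors.ne_zero hs))

end DVR

end Groth.Agent.Helper2.Pop
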