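import Mathlib
import Groth.Agent.Helper2.ParamAnn

set_option autoImplicit false

namespace Groth.Agent.Helper2.Ins

open Groth.Agent.Helper2.ParamAnn IsLocalRing

universe u

/-- the exponents used for the powers of `s`. -/
def kk (e i : ℕ) : ℕ := (e + 1) ^ (i + 1)

lemma kk_pos (e i : ℕ) : 1 ≤ kk e i := Nat.one_le_pow _ _ (Nat.succ_pos e)

lemma kk_lt (e : ℕ) {j i : ℕ} (h : j < i) : e * kk e j + 1 ≤ kk e i := by
  unfold kk
  have h1 : (e + 1) ^ (j + 1 + 1) ≤ (e + 1) ^ (i + 1) :=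
    Nat.pow_le_pow_right (Nat.succ_pos e) (by omega)
  have h2 : (e + 1) ^ (j + 1 + 1) = e * (e + 1) ^ (j + 1) + (e + 1) ^ (j + 1) := by ring
  have h3 : 1 ≤ (e + 1) ^ (j + 1) := Nat.one_le_pow _ _ (Nat.succ_pos e)
  omega

section Sat

variable {Λ : Type u} [CommRing Λ] [IsNoetherianRing Λ] (q : Ideal Λ) [q.IsPrime]

/-- a single element not in `q` realizing the `q`-saturation of an ideal. -/
theorem exists_saturation_killer (J : Ideal Λ) :
    ∃ s, s ∉ q ∧ ∀ y, (∃ s', s' ∉ q ∧ s' * y ∈ J) → s * y ∈ J := by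
  classical
  let T : Ideal Λ :=
    { carrier := {y | ∃ s', s' ∉ q ∧ s' * y ∈ J}
      add_mem' := by
        rintro a b ⟨s, hs, hsa⟩ ⟨t, ht, htb⟩
        refine ⟨s * t, (‹q.IsPrime›).mul_notMem hs ht, ?_⟩
        have : s * t * (a + b) = t * (s * a) + s * (t * b) := by ring
        rw [this]
        exact J.add_mem (J.mul_mem_left _ hsa) (J.mul_mem_left _ htb)
      zero_mem' := ⟨1, fun h1 => (‹q.IsPrime›).ne_top ((Ideal.eq_top_iff_one _).2 h1), by simp⟩
      smul_mem' := by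
        rintro c a ⟨s, hs, hsa⟩
        refine ⟨s, hs, ?_⟩
        have : s * (c • a) = c * (s * a) := by rw [smul_eq_mul]; ring
        rw [this]
        exact J.mul_mem_left _ hsa }
  have hfg : T.FG := IsNoetherian.noetherian T
  obtain ⟨r, y, hy⟩ := Submodule.fg_iff_exists_fin_generating_family.1 hfg
  have hyT : ∀ j, y j ∈ T := fun j => hy ▸ Ideal.subset_span ⟨j, rfl⟩
  choose s hs hsy using hyT
  refine ⟨∏ j, s j, ?_, ?_⟩
  · intro hmem
    obtain ⟨j, -, hj⟩ := (Ideal.IsPrime.prod_mem_iff).1 hmem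
    exact hs j hj
  · intro z hz
    have hzT : z ∈ T := hz
    rw [← hy] at hzT
    refine Submodule.span_induction ?_ ?_ ?_ ?_ hzT
    · rintro _ ⟨j, rfl⟩
      have : (∏ j, s j) * y j = (∏ j' ∈ Finset.univ.erase j, s j') * (s j * y j) := by
        rw [← Finset.mul_prod_erase Finset.univ s (Finset.mem_univ j)]
        ring
      rw [this]
      exact J.mul_mem_left _ (hsy j)
    · simp
    · intro a b _ _ ha hb
      rw [mul_add]
      exact J.add_mem ha hb
    · intro c a _ ha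
      have : (∏ j, s j) * (c • a) = c * ((∏ j, s j) * a) := by rw [smul_eq_mul]; ring
      rw [this]
      exact J.mul_mem_left _ ha

end Sat

section SeqPow

variable {Λ : Type u} [CommRing Λ] [IsNoetherianRing Λ] (q : Ideal Λ) [q.IsPrime]
  [IsRegularLocalRing (Localization.AtPrime q)]

set_option maxHeartbeats 800000 in
/-- multiplying local parameters by suitable powers of a single `s ∉ q` produces the annihilator
conditions. -/
theorem exists_seq_pow {d : ℕ} (hd : ringKrullDim (Localization.AtPrime q) = d) (e : ℕ)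
    (he : 0 < e) (g0 : Fin d → Λ)
    (hg0 : Ideal.span (Set.range fun j => algebraMap Λ (Localization.AtPrime q) (g0 j)) =
      maximalIdeal (Localization.AtPrime q))
    (I : Ideal Λ) (n : ℕ) (hn : 0 < n) (hI : ∀ j, ∃ s, s ∉ q ∧ s * g0 j ^ n ∈ I) :
    ∃ s, s ∉ q ∧ (∀ j : Fin d, (g0 j * s ^ kk e j) ^ n ∈ I) ∧
      ∀ i : Fin d, ∀ x,
        (g0 i * s ^ kk e i) ^ 2 * x ∈ Kid (fun j : Fin d => g0 j * s ^ kk e j) e i →
        (g0 i * s ^ kk e i) * x ∈ Kid (fun j : Fin d => g0 j * s ^ kk e j) e i := by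
  classical
  obtain ⟨s, hsq, hP1, hP2⟩ : ∃ s, s ∉ q ∧
      (∀ i y, (∃ s', s' ∉ q ∧ s' * y ∈ Kid g0 e i) → s * y ∈ Kid g0 e i) ∧
      (∀ j, s * g0 j ^ n ∈ I) := by
    choose s0 hs0 hs0I using hI
    choose s1 hs1 hs1J using fun i : Fin d => exists_saturation_killer q (Kid g0 e i)
    refine ⟨(∏ i, s1 i) * (∏ j, s0 j), ?_, ?_, ?_⟩
    · intro hmem
      rcases (‹q.IsPrime›).mem_or_mem hmem with h | h
      · obtain ⟨j, -, hj⟩ := (Ideal.IsPrime.prod_mem_iff).1 h
        exact hs1 j hj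
      · obtain ⟨j, -, hj⟩ := (Ideal.IsPrime.prod_mem_iff).1 h
        exact hs0 j hj
    · intro i y hy
      have h1 := hs1J i y hy
      have : (∏ i, s1 i) * (∏ j, s0 j) * y =
          ((∏ i' ∈ Finset.univ.erase i, s1 i') * (∏ j, s0 j)) * (s1 i * y) := by
        rw [← Finset.mul_prod_erase Finset.univ s1 (Finset.mem_univ i)]
        ring
      rw [this]
      exact Ideal.mul_mem_left _ _ h1
    · intro j
      have : (∏ i, s1 i) * (∏ j, s0 j) * g0 j ^ n =
          ((∏ i, s1 i) * (∏ j' ∈ Finset.univ.erase j, s0 j')) * (s0 j * g0 j ^ n) := by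
        rw [← Finset.mul_prod_erase Finset.univ s0 (Finset.mem_univ j)]
        ring
      rw [this]
      exact Ideal.mul_mem_left _ _ (hs0I j)
  have hspow : ∀ k : ℕ, s ^ k ∉ q := fun k h => hsq ((‹q.IsPrime›).mem_of_pow_mem k h)
  refine ⟨s, hsq, ?_, ?_⟩
  · intro j
    have hk : 1 ≤ kk e j * n := Nat.mul_pos (kk_pos e j) hn
    obtain ⟨t, ht⟩ : ∃ t, kk e j * n = t + 1 := ⟨kk e j * n - 1, by omega⟩
    have : (g0 j * s ^ kk e j) ^ n = s ^ t * (s * g0 j ^ n) := by
      rw [mul_pow, ← pow_mul, ht]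
      ring
    rw [this]
    exact Ideal.mul_mem_left _ _ (hP2 j)
  · intro i x hx
    set π : Fin d → Λ := fun j : Fin d => g0 j * s ^ kk e j with hπ
    -- comparison of the ideals
    have hle : Kid π e i ≤ Kid g0 e i := by
      unfold Kid
      rw [Ideal.span_le]
      rintro _ ⟨j, hj, rfl⟩
      show (g0 j * s ^ kk e j) ^ e ∈ _
      rw [mul_pow, mul_comm]
      exact Ideal.mul_mem_left _ _ (Ideal.subset_span ⟨j, hj, rfl⟩)
    have hge : ∀ y ∈ Kid g0 e i, s ^ (kk e i - 1) * y ∈ Kid π e i := by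
      intro y hy
      unfold Kid at hy
      refine Submodule.span_induction ?_ ?_ ?_ ?_ hy
      · rintro _ ⟨j, hj, rfl⟩
        have hji : (j : ℕ) < (i : ℕ) := hj
        have h1 := kk_lt e hji
        obtain ⟨t, ht⟩ : ∃ t, kk e i - 1 = t + e * kk e j := ⟨kk e i - 1 - e * kk e j, by omega⟩
        have : s ^ (kk e i - 1) * g0 j ^ e = s ^ t * (g0 j * s ^ kk e j) ^ e := by
          rw [ht, mul_pow, ← pow_mul, pow_add, mul_comm (kk e j) e]
          ring
        show s ^ (kk e i - 1) * g0 j ^ e ∈ _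
        rw [this]
        exact Ideal.mul_mem_left _ _ (Ideal.subset_span ⟨j, hj, rfl⟩)
      · simp
      · intro a b _ _ ha hb
        rw [mul_add]
        exact Ideal.add_mem _ ha hb
      · intro c a _ ha
        have : s ^ (kk e i - 1) * (c • a) = c * (s ^ (kk e i - 1) * a) := by
          rw [smul_eq_mul]; ring
        rw [this]
        exact Ideal.mul_mem_left _ _ ha
    have h1 : g0 i ^ 2 * (s ^ (2 * kk e i) * x) ∈ Kid g0 e i := by
      have : g0 i ^ 2 * (s ^ (2 * kk e i) * x) = (g0 i * s ^ kk e i) ^ 2 * x := by ring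
      rw [this]
      exact hle hx
    obtain ⟨s', hs', hs'y⟩ := local_nzd q hd e he g0 hg0 i _ 2 h1
    have h2 : s * x ∈ Kid g0 e i := by
      apply hP1 i x
      refine ⟨s' * s ^ (2 * kk e i), (‹q.IsPrime›).mul_notMem hs' (hspow _), ?_⟩
      rw [mul_assoc]
      exact hs'y
    have h3 := hge _ h2
    have h4 : g0 i * s ^ kk e i * x = g0 i * (s ^ (kk e i - 1) * (s * x)) := by
      have := kk_pos e i
      obtain ⟨t, ht⟩ : ∃ t, kk e i = t + 1 := ⟨kk e i - 1, by omega⟩
      rw [ht, Nat.add_sub_cancel]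
      ring
    rw [h4]
    exact Ideal.mul_mem_left _ _ h3

end SeqPow

section Poly

open Polynomial

variable {S : Type u} [CommRing S]

/-- the ideal generated by monomials `b_j X^{n_j}` is contained in `I[X]`. -/
theorem span_monomials_le {ι : Type*} (b : ι → S) (nn : ι → ℕ) (t : Set ι) :
    Ideal.span ((fun j => C (b j) * X ^ nn j) '' t) ≤ (Ideal.span (b '' t)).map (C : S →+* S[X]) := by
  rw [Ideal.span_le]
  rintro _ ⟨j, hj, rfl⟩
  exact Ideal.mul_mem_right _ _ (Ideal.mem_map_of_mem _ (Ideal.subset_span ⟨j, hj, rfl⟩))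

/-- a polynomial with coefficients in `I = (b_j)`, multiplied by a large power of `X`, lies in the
ideal generated by the monomials `b_j X^{n_j}`. -/
theorem X_pow_mul_mem {ι : Type*} (b : ι → S) (nn : ι → ℕ) (t : Set ι) (n : ℕ)
    (hn : ∀ j ∈ t, nn j ≤ n) (f : S[X]) (hf : ∀ l, f.coeff l ∈ Ideal.span (b '' t)) :
    X ^ n * f ∈ Ideal.span ((fun j => C (b j) * X ^ nn j) '' t) := by
  have key : ∀ c ∈ Ideal.span (b '' t), ∀ l : ℕ,
      X ^ n * (C c * X ^ l) ∈ Ideal.span ((fun j => C (b j) * X ^ nn j) '' t) := by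
    intro c hc l
    refine Submodule.span_induction ?_ ?_ ?_ ?_ hc
    · rintro _ ⟨j, hj, rfl⟩
      obtain ⟨u, hu⟩ : ∃ u, n = u + nn j := ⟨n - nn j, by have := hn j hj; omega⟩
      have : X ^ n * (C (b j) * X ^ l) = (X ^ u * X ^ l) * (C (b j) * X ^ nn j) := by
        rw [hu, pow_add]; ring
      rw [this]
      exact Ideal.mul_mem_left _ _ (Ideal.subset_span ⟨j, hj, rfl⟩)
    · simp
    · intro a b' _ _ ha hb
      rw [C_add, add_mul, mul_add]
      exact Ideal.add_mem _ ha hb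
    · intro a c' _ hc'
      have : X ^ n * (C (a • c') * X ^ l) = C a * (X ^ n * (C c' * X ^ l)) := by
        rw [smul_eq_mul, C_mul]; ring
      rw [this]
      exact Ideal.mul_mem_left _ _ hc'
  rw [← f.sum_monomial_eq, Polynomial.sum, Finset.mul_sum]
  apply Ideal.sum_mem
  intro l _
  rw [← C_mul_X_pow_eq_monomial]
  exact key _ (hf l) l

/-- the annihilator conditions pass to monomial multiples in the polynomial ring. -/
theorem ann_poly {d : ℕ} (π : Fin d → S) (e : ℕ) (kx : Fin d → ℕ)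
    (hkx : ∀ i j : Fin d, j < i → e * kx j ≤ kx i) (i : Fin d)
    (h : ∀ x, π i ^ 2 * x ∈ Kid π e i → π i * x ∈ Kid π e i) (f : S[X])
    (hf : (C (π i) * X ^ kx i) ^ 2 * f ∈ Kid (fun j => C (π j) * X ^ kx j) e i) :
    (C (π i) * X ^ kx i) * f ∈ Kid (fun j => C (π j) * X ^ kx j) e i := by
  have hKid : Kid (fun j => C (π j) * X ^ kx j) e i =
      Ideal.span ((fun j => C (π j ^ e) * X ^ (e * kx j)) '' {j | j < i}) := by
    unfold Kid
    congr 1
    apply Set.image_congr
    intro j _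
    show (C (π j) * X ^ kx j) ^ e = _
    rw [mul_pow, ← C_pow, ← pow_mul, mul_comm (kx j) e]
  have hKid' : Kid π e i = Ideal.span ((fun j => π j ^ e) '' {j | j < i}) := rfl
  rw [hKid] at hf ⊢
  have h1 := span_monomials_le (fun j => π j ^ e) (fun j => e * kx j) {j | j < i} hf
  rw [Ideal.mem_map_C_iff] at h1
  have h2 : ∀ l, (C (π i) * f).coeff l ∈ Ideal.span ((fun j => π j ^ e) '' {j | j < i}) := by
    intro l
    rw [coeff_C_mul, ← hKid']
    apply h
    rw [hKid']
    have h3 := h1 (l + 2 * kx i)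
    have h4 : (C (π i) * X ^ kx i) ^ 2 * f = X ^ (2 * kx i) * (C (π i ^ 2) * f) := by
      rw [mul_pow, ← C_pow, ← pow_mul, mul_comm (kx i) 2]; ring
    rw [h4, coeff_X_pow_mul, coeff_C_mul] at h3
    exact h3
  have h5 := X_pow_mul_mem (fun j => π j ^ e) (fun j => e * kx j) {j | j < i} (kx i)
    (fun j hj => hkx i j hj) (C (π i) * f) h2
  have : C (π i) * X ^ kx i * f = X ^ kx i * (C (π i) * f) := by ring
  rw [this]
  exact h5

end Poly

end Groth.Agent.Helper2.Ins
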