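import Mathlib
import Groth.Prelude.Def_Smoothing
import Groth.Agent.Helper2.GeomReg2
import Groth.Agent.Helper2.RegBC

set_option autoImplicit false

namespace Groth.Agent.Helper2.Ins

open Polynomial TensorProduct

universe u

section Spec

variable {k A Λ : Type u} [CommRing k] [CommRing A] [Algebra k A] [CommRing Λ] [Algebra k Λ]

theorem map_map_algHom {B : Type u} [CommRing B] [Algebra k B] (f : A →ₐ[k] B) (g : B →ₐ[k] Λ)
    (I : Ideal A) : (I.map f).map g = I.map (g.comp f) := by
  apply le_antisymm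
  · rw [Ideal.map_le_iff_le_comap, Ideal.map_le_iff_le_comap]
    intro x hx
    exact Ideal.mem_map_of_mem (g.comp f) hx
  · rw [Ideal.map_le_iff_le_comap]
    intro x hx
    exact Ideal.mem_map_of_mem g (Ideal.mem_map_of_mem f hx)

/-- the constant-polynomial version of a map `A → Λ`. -/
noncomputable def phi1 (φ : A →ₐ[k] Λ) : A →ₐ[k] Λ[X] := (CAlgHom (R := k) (A := Λ)).comp φ

lemma phi1_apply (φ : A →ₐ[k] Λ) (y : A) : phi1 φ y = C (φ y) := rfl

/-- specialization: a resolution over `Λ[X]` at `𝔮[X]` gives one over `Λ` at `𝔮`, when `Λ/𝔮`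
is infinite. -/
theorem resolvable_of_polynomial (φ : A →ₐ[k] Λ) (𝔮 : Ideal Λ) [𝔮.IsPrime] [Infinite (Λ ⧸ 𝔮)]
    (h : Smoothing.Resolvable k (phi1 φ) (𝔮.map (C : Λ →+* Λ[X]))) :
    Smoothing.Resolvable k φ 𝔮 := by
  obtain ⟨B, _, _, hfp, g, h, hgh, hle, hnle⟩ := h
  haveI : (𝔮.map (C : Λ →+* Λ[X])).IsPrime := Ideal.isPrime_map_C_of_isPrime
  -- an element of the singular ideal not mapping into `𝔮[X]`
  have h1 : ¬ (Smoothing.singularIdeal k B).map h ≤ 𝔮.map (C : Λ →+* Λ[X]) := by
    intro hcon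
    apply hnle
    unfold Smoothing.singRad
    exact (Ideal.IsPrime.radical_le_iff ‹_›).2 hcon
  rw [Ideal.map_le_iff_le_comap] at h1
  obtain ⟨b, hb, hbq⟩ := Set.not_subset.1 h1
  rw [SetLike.mem_coe, Ideal.mem_comap, Ideal.mem_map_C_iff] at hbq
  -- the specialization point
  have hne : (h b).map (Ideal.Quotient.mk 𝔮) ≠ 0 := by
    intro h0
    apply hbq
    intro n
    have := congrArg (fun f => f.coeff n) h0
    simp only [coeff_map, coeff_zero] at this
    exact Ideal.Quotient.eq_zero_iff_mem.1 this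
  obtain ⟨ybar, hybar⟩ : ∃ ybar : Λ ⧸ 𝔮, ((h b).map (Ideal.Quotient.mk 𝔮)).eval ybar ≠ 0 := by
    by_contra hcon
    push_neg at hcon
    exact hne (Polynomial.zero_of_eval_zero _ hcon)
  obtain ⟨y, rfl⟩ := Ideal.Quotient.mk_surjective ybar
  let ev : Λ[X] →ₐ[k] Λ := (Polynomial.aeval y : Λ[X] →ₐ[Λ] Λ).restrictScalars k
  have hev : ∀ f : Λ[X], ev f = f.eval y := fun f => by
    show Polynomial.aeval y f = _
    rw [Polynomial.coe_aeval_eq_eval]
  have hevC : ∀ x : Λ, ev (C x) = x := fun x => by rw [hev, eval_C]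
  have hy : ev (h b) ∉ 𝔮 := by
    intro hmem
    apply hybar
    rw [eval_map, eval₂_at_apply, ← hev]
    exact Ideal.Quotient.eq_zero_iff_mem.2 hmem
  let h' : B →ₐ[k] Λ := ev.comp h
  have hmapmap : (Smoothing.singularIdeal k B).map h' =
      ((Smoothing.singularIdeal k B).map h).map ev := (map_map_algHom h ev _).symm
  refine ⟨B, inferInstance, inferInstance, hfp, g, h', ?_, ?_, ?_⟩
  · apply AlgHom.ext
    intro a
    show ev (h (g a)) = φ a
    have := AlgHom.congr_fun hgh a
    rw [AlgHom.comp_apply] at this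
    rw [this, phi1_apply, hevC]
  · intro x hx
    have hx1 : C x ∈ Smoothing.singRad k (phi1 φ) := by
      unfold Smoothing.singRad at hx ⊢
      obtain ⟨n, hn⟩ := hx
      refine ⟨n, ?_⟩
      rw [← C_pow]
      have : (Smoothing.singularIdeal k A).map (phi1 φ) =
          ((Smoothing.singularIdeal k A).map φ).map (C : Λ →+* Λ[X]) :=
        (map_map_algHom φ (CAlgHom (R := k) (A := Λ)) _).symm
      rw [this]
      exact Ideal.mem_map_of_mem _ hn
    have hx2 := hle hx1
    unfold Smoothing.singRad at hx2 ⊢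
    obtain ⟨n, hn⟩ := hx2
    refine ⟨n, ?_⟩
    rw [hmapmap]
    have := Ideal.mem_map_of_mem ev hn
    rwa [map_pow, hevC] at this
  · intro hcon
    apply hy
    apply hcon
    unfold Smoothing.singRad
    apply Ideal.le_radical
    exact Ideal.mem_map_of_mem h' hb

end Spec

section GeomReg

variable (k Λ : Type u) [Field k] [CommRing Λ] [Algebra k Λ]

/-- the polynomial ring over a field is geometrically regular. -/
theorem geomRegular_polynomial_field : CAlg.IsGeometricallyRegular k k[X] := by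
  intro k' _ _ _
  exact IsRegularRing.of_ringEquiv (polyEquivTensor k k').toRingEquiv

/-- the polynomial ring over a geometrically regular algebra is geometrically regular. -/
theorem geomRegular_polynomial [IsNoetherianRing Λ] (h : CAlg.IsGeometricallyRegular k Λ) :
    CAlg.IsGeometricallyRegular k Λ[X] := by
  haveI : IsNoetherianRing (Λ ⊗[k] k[X]) :=
    isNoetherianRing_of_ringEquiv _ (polyEquivTensor k Λ).toRingEquiv
  have h1 := Groth.Agent.Helper2.GeomReg2.geomRegular_tensor k Λ k[X] (Or.inr inferInstance) h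
    (geomRegular_polynomial_field k)
  exact Groth.Agent.Helper2.RegBC.geomRegular_of_algEquiv (polyEquivTensor k Λ).symm h1

end GeomReg

end Groth.Agent.Helper2.Ins
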