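import Mathlib
import Groth.Agent.Helper2.NilpNak

set_option autoImplicit false

namespace Groth.Agent.Helper2.Ins

open IsLocalRing

universe u

section Sel

variable {R : Type u} [CommRing R] [IsLocalRing R] [IsNoetherianRing R]

/-- from a finite generating family of the maximal ideal one can select a minimal one. -/
theorem exists_subfamily_gens {r : ℕ} (g : Fin r → R)
    (hg : Ideal.span (Set.range g) = maximalIdeal R) (h : ℕ)
    (hh : (maximalIdeal R).spanFinrank = h) :
    ∃ idx : Fin h → Fin r, Ideal.span (Set.range (g ∘ idx)) = maximalIdeal R := by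
  classical
  have hgm : ∀ i, g i ∈ maximalIdeal R := fun i => hg ▸ Ideal.subset_span ⟨i, rfl⟩
  let gm : Fin r → maximalIdeal R := fun i => ⟨g i, hgm i⟩
  let v : Fin r → CotangentSpace R := fun i => (maximalIdeal R).toCotangent (gm i)
  have hspan_gm : Submodule.span R (Set.range gm) = ⊤ := by
    rw [eq_top_iff]
    rintro ⟨x, hx⟩ -
    have hx' : x ∈ Ideal.span (Set.range g) := hg ▸ hx
    obtain ⟨c, hc⟩ := Ideal.mem_span_range_iff_exists_fun.1 hx'
    have : (⟨x, hx⟩ : maximalIdeal R) = ∑ i, c i • gm i := by
      apply Subtype.ext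
      show x = _
      rw [← hc]
      simp [gm]
    rw [this]
    exact Submodule.sum_mem _ fun i _ => Submodule.smul_mem _ _ (Submodule.subset_span ⟨i, rfl⟩)
  have hspan_v : Submodule.span (ResidueField R) (Set.range v) = ⊤ := by
    have h1 := (CotangentSpace.span_image_eq_top_iff (R := R) (s := Set.range gm)).2 hspan_gm
    rw [← Set.range_comp] at h1
    exact h1
  obtain ⟨b, hbsub, hbspan, hbli⟩ := exists_linearIndependent (ResidueField R) (Set.range v)
  have hbfin : b.Finite := (Set.finite_range v).subset hbsub
  haveI : Fintype b := hbfin.fintype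
  rw [hspan_v] at hbspan
  have hcard : Fintype.card b = h := by
    rw [← hh, IsLocalRing.spanFinrank_maximalIdeal_eq_finrank_cotangentSpace]
    have := (Module.Basis.mk hbli (by rw [Subtype.range_coe]; exact hbspan.ge))
    exact (Module.finrank_eq_card_basis this).symm
  let eqv : b ≃ Fin h := Fintype.equivFinOfCardEq hcard
  have hpre : ∀ j : Fin h, ∃ i : Fin r, v i = (eqv.symm j : CotangentSpace R) := fun j =>
    hbsub (eqv.symm j).2
  choose idx hidx using hpre
  refine ⟨idx, ?_⟩
  have himage : (maximalIdeal R).toCotangent '' (Set.range (gm ∘ idx)) = b := by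
    ext w
    constructor
    · rintro ⟨_, ⟨j, rfl⟩, rfl⟩
      show v (idx j) ∈ b
      rw [hidx]
      exact (eqv.symm j).2
    · intro hw
      refine ⟨gm (idx (eqv ⟨w, hw⟩)), ⟨_, rfl⟩, ?_⟩
      show v (idx (eqv ⟨w, hw⟩)) = w
      rw [hidx, Equiv.symm_apply_apply]
  have h2 : Submodule.span R (Set.range (gm ∘ idx)) = ⊤ := by
    apply (CotangentSpace.span_image_eq_top_iff (R := R) (s := Set.range (gm ∘ idx))).1
    rw [himage]
    exact hbspan
  apply le_antisymm
  · rw [Ideal.span_le]
    rintro _ ⟨j, rfl⟩
    exact hgm _
  · intro x hx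
    have h3 : (⟨x, hx⟩ : maximalIdeal R) ∈ Submodule.span R (Set.range (gm ∘ idx)) := by
      rw [h2]; trivial
    obtain ⟨c, hc⟩ := Submodule.mem_span_range_iff_exists_fun R |>.1 h3
    have h4 : x = ∑ j, c j * g (idx j) := by
      have := congrArg Subtype.val hc
      simp only [Function.comp_apply, gm] at this
      rw [← this]
      simp
    rw [h4]
    exact Ideal.sum_mem _ fun j _ => Ideal.mul_mem_left _ _ (Ideal.subset_span ⟨j, rfl⟩)

end Sel

section Etale

variable {R S : Type u} [CommRing R] [CommRing S] [Algebra R S] [IsLocalRing R] [IsLocalRing S]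
  [IsNoetherianRing R] [IsLocalHom (algebraMap R S)]

/-- finiteness over a local ring with nilpotent maximal ideal from finiteness of the residue
extension. -/
theorem finite_of_nilpotent (hnil : IsNilpotent (maximalIdeal R))
    (H : (maximalIdeal R).map (algebraMap R S) = maximalIdeal S)
    [Module.Finite (ResidueField R) (ResidueField S)] : Module.Finite R S := by
  classical
  haveI : Module.Finite R (ResidueField R) :=
    Module.Finite.of_surjective (Algebra.linearMap R (ResidueField R))
      (Ideal.Quotient.mk_surjective)
  haveI : Module.Finite R (ResidueField S) := Module.Finite.trans (ResidueField R) _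
  obtain ⟨n, sbar, hsbar⟩ := Module.Finite.exists_fin (R := R) (M := ResidueField S)
  have hlift : ∀ i, ∃ s : S, residue S s = sbar i := fun i => residue_surjective (sbar i)
  choose s hs using hlift
  refine ⟨⟨Finset.univ.image s, ?_⟩⟩
  rw [Finset.coe_image, Finset.coe_univ, Set.image_univ]
  rw [eq_top_iff]
  apply Groth.Agent.Helper2.NilpNak.le_of_le_sup_smul_of_isNilpotent (maximalIdeal R) hnil
  intro x _
  have hx : residue S x ∈ Submodule.span R (Set.range sbar) := by rw [hsbar]; trivial
  obtain ⟨c, hc⟩ := (Submodule.mem_span_range_iff_exists_fun R).1 hx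
  have hdiff : x - ∑ i, c i • s i ∈ maximalIdeal S := by
    rw [← residue_eq_zero_iff, map_sub, map_sum, ← hc, sub_eq_zero]
    apply Finset.sum_congr rfl
    intro i _
    rw [Algebra.smul_def (c i) (sbar i), Algebra.smul_def (c i) (s i), map_mul, hs]
    rfl
  rw [← H] at hdiff
  have hmem : x - ∑ i, c i • s i ∈ maximalIdeal R • (⊤ : Submodule R S) := by
    rw [Ideal.smul_top_eq_map]
    exact hdiff
  have : x = ∑ i, c i • s i + (x - ∑ i, c i • s i) := by ring
  rw [this]
  exact Submodule.add_mem_sup
    (Submodule.sum_mem _ fun i _ => Submodule.smul_mem _ _ (Submodule.subset_span ⟨i, rfl⟩)) hmem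

/-- an étaleness criterion for local algebras over a local ring with nilpotent maximal ideal. -/
theorem etale_of_local [Module.Flat R S] [Algebra.EssFiniteType R S]
    [Algebra.IsSeparable (ResidueField R) (ResidueField S)]
    (hnil : IsNilpotent (maximalIdeal R))
    (H : (maximalIdeal R).map (algebraMap R S) = maximalIdeal S) : Algebra.Etale R S := by
  haveI : Algebra.FormallyUnramified R S := Algebra.FormallyUnramified.of_map_maximalIdeal H
  haveI : Module.Finite (ResidueField R) (ResidueField S) := inferInstance
  haveI : Module.Finite R S := finite_of_nilpotent hnil H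
  haveI : Algebra.FinitePresentation R S :=
    Algebra.FinitePresentation.of_finiteType.1 inferInstance
  exact Algebra.Etale.of_formallyUnramified_of_flat

end Etale

section Sep

variable {k κ F : Type u} [Field k] [Field κ] [Field F] [Algebra k κ] [Algebra κ F] [Algebra k F]
  [IsScalarTower k κ F]

/-- if the differentials of elements of `κ` span `Ω[F⁄k]`, then `F/κ` is separable (finite). -/
theorem isSeparable_of_span [Algebra.EssFiniteType k F] {ι : Type*} (z : ι → κ)
    (hz : Submodule.span F (Set.range fun i => KaehlerDifferential.D k F (algebraMap κ F (z i))) = ⊤) :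
    Algebra.IsSeparable κ F := by
  haveI : Algebra.FormallyUnramified κ F := by
    constructor
    refine subsingleton_of_forall_eq 0 fun ω => ?_
    obtain ⟨ω', rfl⟩ := KaehlerDifferential.map_surjective k κ F ω
    have hω' : ω' ∈ Submodule.span F
        (Set.range fun i => KaehlerDifferential.D k F (algebraMap κ F (z i))) := by
      rw [hz]; trivial
    refine Submodule.span_induction ?_ ?_ ?_ ?_ hω'
    · rintro _ ⟨i, rfl⟩
      rw [KaehlerDifferential.map_D]
      exact (KaehlerDifferential.D κ F).map_algebraMap (z i)
    · exact map_zero _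
    · intro a b _ _ ha hb
      rw [map_add, ha, hb, add_zero]
    · intro c a _ ha
      rw [map_smul, ha, smul_zero]
  haveI : Algebra.EssFiniteType κ F := Algebra.EssFiniteType.of_comp k κ F
  exact Algebra.FormallyUnramified.isSeparable κ F

end Sep

end Groth.Agent.Helper2.Ins
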