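import Mathlib
import Groth.Agent.Helper2.ParamAnn
import Groth.Agent.Helper2.RegCM
import Groth.Agent.Helper2.Miracle
import Groth.Agent.Helper2.Dim

set_option autoImplicit false

namespace Groth.Agent.Helper2.Ins

open IsLocalRing MvPolynomial

universe u

section DimFlat

variable {P' L : Type u} [CommRing P'] [IsRegularRing P'] [CommRing L] [IsRegularLocalRing L]
  (φ' : P' →+* L) {h' : ℕ} (μ : Fin h' → L)

/-- the extended map on the polynomial ring. -/
noncomputable abbrev phiExt : MvPolynomial (Fin h') P' →+* L := eval₂Hom φ' μ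

lemma phiExt_C (a : P') : phiExt φ' μ (C a) = φ' a := eval₂Hom_C _ _ _

lemma phiExt_X (j : Fin h') : phiExt φ' μ (X j) = μ j := eval₂Hom_X' _ _ _

instance : (Ideal.comap φ' (maximalIdeal L)).IsPrime := Ideal.comap_isPrime _ _

instance : (Ideal.comap (phiExt φ' μ) (maximalIdeal L)).IsPrime := Ideal.comap_isPrime _ _

lemma sub_C_constantCoeff_mem (g : MvPolynomial (Fin h') P') :
    g - C (constantCoeff g) ∈ Ideal.span (Set.range (X : Fin h' → MvPolynomial (Fin h') P')) := by
  have h1 := (mem_pow_idealOfVars_iff' (σ := Fin h') (R := P') 1 (g - C (constantCoeff g)))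
  rw [pow_one] at h1
  rw [h1]
  intro x hx
  have hx0 : x = 0 := by
    have : Finsupp.degree x = 0 := by omega
    exact (Finsupp.degree_eq_zero_iff x).1 this
  subst hx0
  rw [coeff_sub, coeff_C, if_pos rfl]
  simp [constantCoeff_eq]

include μ in
lemma comap_le (hμ : ∀ j, μ j ∈ maximalIdeal L) :
    Ideal.comap (phiExt φ' μ) (maximalIdeal L) ≤
      (Ideal.comap φ' (maximalIdeal L)).map (C : P' →+* MvPolynomial (Fin h') P') ⊔
        Ideal.span (Set.range (X : Fin h' → MvPolynomial (Fin h') P')) := by
  intro g hg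
  have h1 := sub_C_constantCoeff_mem g
  have h2 : phiExt φ' μ (g - C (constantCoeff g)) ∈ maximalIdeal L := by
    have hle : Ideal.span (Set.range (X : Fin h' → MvPolynomial (Fin h') P')) ≤
        Ideal.comap (phiExt φ' μ) (maximalIdeal L) := by
      rw [Ideal.span_le]
      rintro _ ⟨j, rfl⟩
      show phiExt φ' μ (X j) ∈ maximalIdeal L
      rw [phiExt_X]
      exact hμ j
    exact hle h1
  have h3 : constantCoeff g ∈ Ideal.comap φ' (maximalIdeal L) := by
    show φ' (constantCoeff g) ∈ maximalIdeal L
    rw [← phiExt_C φ' μ]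
    have : C (constantCoeff g) = g - (g - C (constantCoeff g)) := by ring
    rw [this, map_sub]
    exact Ideal.sub_mem _ hg h2
  have : g = C (constantCoeff g) + (g - C (constantCoeff g)) := by ring
  rw [this]
  exact Ideal.add_mem _ (Ideal.mem_sup_left (Ideal.mem_map_of_mem _ h3)) (Ideal.mem_sup_right h1)

set_option maxHeartbeats 1600000 in
/-- adjoining a regular system of parameters of the fibre keeps flatness and gives the right
dimension. -/
theorem dim_flat_of_rsop {h₁ : ℕ}
    (hd' : ringKrullDim (Localization.AtPrime (Ideal.comap φ' (maximalIdeal L))) = h₁)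
    (hdimL : ringKrullDim L = ((h₁ + h' : ℕ) : WithBot ℕ∞))
    (hμ : ∀ j, μ j ∈ maximalIdeal L)
    (hgen : (Ideal.comap φ' (maximalIdeal L)).map φ' ⊔ Ideal.span (Set.range μ) = maximalIdeal L) :
    (Ideal.comap (phiExt φ' μ) (maximalIdeal L)).map (phiExt φ' μ) = maximalIdeal L ∧
    ringKrullDim (Localization.AtPrime (Ideal.comap (phiExt φ' μ) (maximalIdeal L))) =
      ((h₁ + h' : ℕ) : WithBot ℕ∞) ∧
    ∀ ψ : Localization.AtPrime (Ideal.comap (phiExt φ' μ) (maximalIdeal L)) →+* L,
      (∀ x, ψ (algebraMap _ _ x) = phiExt φ' μ x) →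
      letI := ψ.toAlgebra
      Module.Flat (Localization.AtPrime (Ideal.comap (phiExt φ' μ) (maximalIdeal L))) L := by
  classical
  set φ := phiExt φ' μ with hφ
  set p' := Ideal.comap φ' (maximalIdeal L) with hp'
  set p := Ideal.comap φ (maximalIdeal L) with hp
  have hCp : ∀ a, a ∈ p' → (C a : MvPolynomial (Fin h') P') ∈ p := by
    intro a ha
    show φ (C a) ∈ maximalIdeal L
    rw [hφ, phiExt_C]
    exact ha
  have hCp' : ∀ a, (C a : MvPolynomial (Fin h') P') ∈ p → a ∈ p' := by
    intro a ha
    have : φ (C a) ∈ maximalIdeal L := ha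
    rw [hφ, phiExt_C] at this
    exact this
  have hXp : ∀ j, (X j : MvPolynomial (Fin h') P') ∈ p := by
    intro j
    show φ (X j) ∈ maximalIdeal L
    rw [hφ, phiExt_X]
    exact hμ j
  -- (b)
  have hmap : p.map φ = maximalIdeal L := by
    apply le_antisymm
    · exact Ideal.map_comap_le
    · rw [← hgen]
      apply sup_le
      · rw [Ideal.map_le_iff_le_comap]
        intro a ha
        show φ' a ∈ p.map φ
        rw [← phiExt_C φ' μ]
        exact Ideal.mem_map_of_mem _ (hCp a ha)
      · rw [Ideal.span_le]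
        rintro _ ⟨j, rfl⟩
        show μ j ∈ p.map φ
        rw [← phiExt_X φ' μ]
        exact Ideal.mem_map_of_mem _ (hXp j)
  -- the local homomorphism
  have hunits : ∀ y : p.primeCompl, IsUnit (φ y) := by
    intro y
    by_contra hy
    exact y.2 ((mem_maximalIdeal _).2 hy)
  let ψ₀ : Localization.AtPrime p →+* L := IsLocalization.lift hunits
  have hψ₀ : ∀ x, ψ₀ (algebraMap _ _ x) = φ x := fun x => IsLocalization.lift_eq hunits x
  have hmaxmap : ∀ ψ : Localization.AtPrime p →+* L, (∀ x, ψ (algebraMap _ _ x) = φ x) →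
      (maximalIdeal (Localization.AtPrime p)).map ψ = maximalIdeal L := by
    intro ψ hψ
    have hcomp : ψ.comp (algebraMap (MvPolynomial (Fin h') P') (Localization.AtPrime p)) = φ :=
      RingHom.ext hψ
    rw [← Localization.AtPrime.map_eq_maximalIdeal, Ideal.map_map, hcomp, hmap]
  have hlocal : ∀ ψ : Localization.AtPrime p →+* L, (∀ x, ψ (algebraMap _ _ x) = φ x) →
      IsLocalHom ψ := by
    intro ψ hψ
    apply ((IsLocalRing.local_hom_TFAE ψ).out 0 2).2
    rw [hmaxmap ψ hψ]
  -- (d) lower bound
  have hlower : ((h₁ + h' : ℕ) : WithBot ℕ∞) ≤ ringKrullDim (Localization.AtPrime p) := by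
    haveI := hlocal ψ₀ hψ₀
    have h1 := Groth.Agent.Helper2.Dim.dim_le_add_fibre' (Localization.AtPrime p) L ψ₀
    have h2 : ringKrullDim (L ⧸ (maximalIdeal (Localization.AtPrime p)).map ψ₀) = 0 := by
      rw [ringKrullDim_eq_of_ringEquiv (Ideal.quotEquivOfEq (hmaxmap ψ₀ hψ₀))]
      exact ringKrullDim_eq_zero_of_field (ResidueField L)
    rw [h2, add_zero, hdimL] at h1
    exact h1
  -- (c) upper bound
  obtain ⟨g', hg'⟩ := Groth.Agent.Helper2.ParamAnn.exists_gens p' hd'
  have hg'p : ∀ j, g' j ∈ p' := by
    intro j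
    rw [← IsLocalization.AtPrime.to_map_mem_maximal_iff (Localization.AtPrime p') p', ← hg']
    exact Ideal.subset_span ⟨j, rfl⟩
  let gens : Fin h₁ ⊕ Fin h' → Localization.AtPrime p :=
    Sum.elim (fun j => algebraMap _ _ (C (g' j) : MvPolynomial (Fin h') P'))
      (fun j => algebraMap _ _ (X j : MvPolynomial (Fin h') P'))
  have hgens : maximalIdeal (Localization.AtPrime p) = Ideal.span (Set.range gens) := by
    apply le_antisymm
    · rw [← Localization.AtPrime.map_eq_maximalIdeal]
      refine (Ideal.map_mono (comap_le φ' μ hμ)).trans ?_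
      rw [Ideal.map_sup]
      apply sup_le
      · rw [Ideal.map_map, Ideal.map_le_iff_le_comap]
        intro a ha
        show algebraMap _ (Localization.AtPrime p) (C a : MvPolynomial (Fin h') P') ∈
          Ideal.span (Set.range gens)
        -- clear denominators in `P'`
        have h1 : algebraMap P' (Localization.AtPrime p') a ∈
            (Ideal.span (Set.range g')).map (algebraMap P' (Localization.AtPrime p')) := by
          rw [Ideal.map_span, ← Set.range_comp]
          show _ ∈ Ideal.span (Set.range fun j => algebraMap P' (Localization.AtPrime p') (g' j))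
          rw [hg']
          exact (IsLocalization.AtPrime.to_map_mem_maximal_iff _ p' a).2 ha
        rw [IsLocalization.mem_map_algebraMap_iff p'.primeCompl] at h1
        obtain ⟨⟨⟨c, hc⟩, ⟨s, hs⟩⟩, hcs⟩ := h1
        rw [← map_mul, IsLocalization.eq_iff_exists p'.primeCompl] at hcs
        obtain ⟨⟨s', hs'⟩, hs'eq⟩ := hcs
        simp only at hs'eq
        have hu : s' * s ∉ p' := p'.primeCompl.mul_mem hs' hs
        have hua : (s' * s) * a ∈ Ideal.span (Set.range g') := by
          have : s' * s * a = s' * c := by rw [← hs'eq]; ring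
          rw [this]
          exact Ideal.mul_mem_left _ _ hc
        have hCu : (C (s' * s) : MvPolynomial (Fin h') P') ∉ p := fun h => hu (hCp' _ h)
        have hunit : IsUnit (algebraMap _ (Localization.AtPrime p)
            (C (s' * s) : MvPolynomial (Fin h') P')) :=
          IsLocalization.map_units (Localization.AtPrime p) (⟨_, hCu⟩ : p.primeCompl)
        have h2 : algebraMap _ (Localization.AtPrime p) (C (s' * s * a) : MvPolynomial (Fin h') P') ∈
            Ideal.span (Set.range gens) := by
          have h3 : (C (s' * s * a) : MvPolynomial (Fin h') P') ∈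
              (Ideal.span (Set.range g')).map (C : P' →+* MvPolynomial (Fin h') P') :=
            Ideal.mem_map_of_mem _ hua
          rw [Ideal.map_span, ← Set.range_comp] at h3
          have h4 := Ideal.mem_map_of_mem (algebraMap _ (Localization.AtPrime p)) h3
          rw [Ideal.map_span, ← Set.range_comp] at h4
          refine Ideal.span_mono ?_ h4
          rintro _ ⟨j, rfl⟩
          exact ⟨Sum.inl j, rfl⟩
        rw [C_mul, map_mul] at h2
        exact (Ideal.unit_mul_mem_iff_mem _ hunit).1 h2
      · rw [Ideal.map_span, Ideal.span_le]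
        rintro _ ⟨_, ⟨j, rfl⟩, rfl⟩
        exact Ideal.subset_span ⟨Sum.inr j, rfl⟩
    · rw [Ideal.span_le]
      rintro _ ⟨j | j, rfl⟩
      · exact (IsLocalization.AtPrime.to_map_mem_maximal_iff _ p _).2 (hCp _ (hg'p j))
      · exact (IsLocalization.AtPrime.to_map_mem_maximal_iff _ p _).2 (hXp j)
  have hupper : ringKrullDim (Localization.AtPrime p) ≤ ((h₁ + h' : ℕ) : WithBot ℕ∞) := by
    refine le_trans (ringKrullDim_le_spanFinrank_maximalIdeal _) ?_
    rw [hgens]
    have h1 : (Ideal.span (Set.range gens)).spanFinrank ≤ (Set.range gens).ncard :=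
      Submodule.spanFinrank_span_le_ncard_of_finite (Set.finite_range gens)
    have h2 : (Set.range gens).ncard ≤ h₁ + h' := by
      have := Set.ncard_image_le (f := gens) (s := Set.univ) Set.finite_univ
      rw [Set.image_univ, Set.ncard_univ, Nat.card_eq_fintype_card, Fintype.card_sum,
        Fintype.card_fin, Fintype.card_fin] at this
      exact this
    exact_mod_cast h1.trans h2
  have hdimP := le_antisymm hupper hlower
  refine ⟨hmap, hdimP, ?_⟩
  intro ψ hψ
  letI algQA : Algebra (Localization.AtPrime p) L := ψ.toAlgebra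
  haveI : IsLocalHom (algebraMap (Localization.AtPrime p) L) := hlocal ψ hψ
  haveI : LocCoh.IsCohenMacaulayLocalRing L :=
    { supportDim_eq_depth := Groth.Agent.Helper2.RegCM.cm_of_isRegularLocalRing L }
  apply Groth.Agent.Helper2.Miracle.flat_of_cm_ring
  have h2 : ringKrullDim (L ⧸ (maximalIdeal (Localization.AtPrime p)).map
      (algebraMap (Localization.AtPrime p) L)) = 0 := by
    show ringKrullDim (L ⧸ (maximalIdeal (Localization.AtPrime p)).map ψ) = 0
    rw [ringKrullDim_eq_of_ringEquiv (Ideal.quotEquivOfEq (hmaxmap ψ hψ))]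
    exact ringKrullDim_eq_zero_of_field (ResidueField L)
  rw [h2, add_zero, hdimP, hdimL]

end DimFlat

end Groth.Agent.Helper2.Ins
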