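import Mathlib
import Groth.Prelude
import Groth.Agent.Helper2.AdicHom
import Groth.Agent.Helper1.HensNoeth
import Groth.Agent.Helper1.HensReg
import Groth.Agent.Helper1.HensTransfer
set_option autoImplicit false
universe u
open IsLocalRing TensorProduct

/-! The map from the henselization of a Noetherian local ring to its completion is faithfully flat;
consequences for minimal primes. -/

namespace Groth.Agent.Helper2.ComplHensMin

open Groth.Agent.Helper1.Hens

section Main

variable (A S : Type u) [CommRing A] [IsLocalRing A] [IsNoetherianRing A] [CommRing S] [IsLocalRing S]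
  [Algebra A S] [IsLocalHom (algebraMap A S)] [Hensel.IsHenselization A S]
  (ψ : S →+* AdicCompletion (maximalIdeal A) A)
  (hψ : ψ.comp (algebraMap A S) = algebraMap A (AdicCompletion (maximalIdeal A) A))

include hψ in
/-- `ψ` is, up to the isomorphism of completions, the completion map of `S`. -/
theorem exists_equiv : ∃ (_ : IsNoetherianRing S)
    (e : AdicCompletion (maximalIdeal A) A ≃+* AdicCompletion (maximalIdeal S) S),
    ∀ s : S, e (ψ s) = algebraMap S (AdicCompletion (maximalIdeal S) S) s := by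
  haveI hN := isNoetherianRing_of_isHenselization A S
  haveI := faithfullyFlat_of_isHenselization A S
  obtain ⟨e⟩ := Groth.Agent.Helper2.AdicHom.nonempty_cpl_algEquiv A S
    (map_maximalIdeal_of_isHenselization A S) (residueField_map_bijective_of_isHenselization A S).2
  refine ⟨hN, e.toRingEquiv, ?_⟩
  haveI : HenselianLocalRing (AdicCompletion (maximalIdeal S) S) :=
    henselianLocalRing_of_isAdicComplete _
  haveI : IsScalarTower A S (AdicCompletion (maximalIdeal S) S) :=
    IsScalarTower.of_algebraMap_eq (fun a => rfl)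
  have hloc : IsLocalHom (algebraMap A (AdicCompletion (maximalIdeal S) S)) := by
    rw [IsScalarTower.algebraMap_eq A S (AdicCompletion (maximalIdeal S) S)]
    exact RingHom.isLocalHom_comp _ _
  obtain ⟨w, -, hw⟩ := Hensel.IsHenselization.universal (R := A) (S := S)
    (AdicCompletion (maximalIdeal S) S) (algebraMap A (AdicCompletion (maximalIdeal S) S)) hloc
  have e1 : ((e.toRingEquiv : AdicCompletion (maximalIdeal A) A →+* _).comp ψ).comp
      (algebraMap A S) = algebraMap A (AdicCompletion (maximalIdeal S) S) := by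
    rw [RingHom.comp_assoc, hψ]
    refine RingHom.ext fun a => ?_
    exact e.commutes a
  have e2 : (algebraMap S (AdicCompletion (maximalIdeal S) S)).comp (algebraMap A S) =
      algebraMap A (AdicCompletion (maximalIdeal S) S) :=
    (IsScalarTower.algebraMap_eq A S (AdicCompletion (maximalIdeal S) S)).symm
  have e3 := (hw _ e1).trans (hw _ e2).symm
  intro s
  exact congrArg (fun k => k s) e3

include hψ in
theorem faithfullyFlat :
    letI := ψ.toAlgebra
    Module.FaithfullyFlat S (AdicCompletion (maximalIdeal A) A) := by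
  obtain ⟨hN, e, he⟩ := exists_equiv A S ψ hψ
  haveI := hN
  letI := ψ.toAlgebra
  let l : AdicCompletion (maximalIdeal A) A ≃ₗ[S] AdicCompletion (maximalIdeal S) S :=
    { e.toAddEquiv with
      map_smul' := fun s x => by
        show e (s • x) = s • e x
        rw [Algebra.smul_def, Algebra.smul_def, map_mul]
        congr 1
        exact he s }
  haveI : Module.FaithfullyFlat S (AdicCompletion (maximalIdeal S) S) :=
    Module.FaithfullyFlat.of_flat_of_isLocalHom
  exact Module.FaithfullyFlat.of_linearEquiv (R := S) (M := AdicCompletion (maximalIdeal S) S)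
    (N := AdicCompletion (maximalIdeal A) A) l

include hψ in
theorem s9240 :
    Set.MapsTo (Ideal.comap ψ) (minimalPrimes (AdicCompletion (IsLocalRing.maximalIdeal A) A))
        (minimalPrimes S) ∧
      Set.SurjOn (Ideal.comap ψ) (minimalPrimes (AdicCompletion (IsLocalRing.maximalIdeal A) A))
        (minimalPrimes S) := by
  letI := ψ.toAlgebra
  haveI := faithfullyFlat A S ψ hψ
  have halg : algebraMap S (AdicCompletion (maximalIdeal A) A) = ψ := rfl
  have hmaps : Set.MapsTo (Ideal.comap ψ)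
      (minimalPrimes (AdicCompletion (IsLocalRing.maximalIdeal A) A)) (minimalPrimes S) := by
    intro 𝔔 h𝔔
    have h𝔔p : 𝔔.IsPrime := h𝔔.1.1
    refine ⟨⟨Ideal.comap_isPrime _ _, bot_le⟩, ?_⟩
    rintro 𝔭' ⟨h𝔭'p, -⟩ hle
    haveI : 𝔔.LiesOver (𝔔.comap (algebraMap S (AdicCompletion (maximalIdeal A) A))) := ⟨rfl⟩
    obtain ⟨𝔔', h𝔔'le, h𝔔'p, h𝔔'lo⟩ :=
      Ideal.exists_ideal_le_liesOver_of_le (S := AdicCompletion (maximalIdeal A) A) (p := 𝔭')
        (q := 𝔔.comap (algebraMap S (AdicCompletion (maximalIdeal A) A))) 𝔔 hle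
    have h3 : 𝔔 ≤ 𝔔' := h𝔔.2 ⟨h𝔔'p, bot_le⟩ h𝔔'le
    have h4 : 𝔔' = 𝔔 := le_antisymm h𝔔'le h3
    rw [h𝔔'lo.over, h4]
    exact le_refl _
  refine ⟨hmaps, ?_⟩
  intro 𝔭 h𝔭
  haveI h𝔭p : 𝔭.IsPrime := h𝔭.1.1
  obtain ⟨⟨𝔔, h𝔔p⟩, h𝔔⟩ := PrimeSpectrum.comap_surjective_of_faithfullyFlat
    (A := S) (B := AdicCompletion (maximalIdeal A) A) ⟨𝔭, h𝔭p⟩
  have h𝔔' : 𝔔.comap ψ = 𝔭 := congrArg PrimeSpectrum.asIdeal h𝔔
  obtain ⟨𝔔₀, h𝔔₀, h𝔔₀le⟩ := Ideal.exists_minimalPrimes_le (I := ⊥) (J := 𝔔) bot_le
  refine ⟨𝔔₀, h𝔔₀, ?_⟩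
  have h1 : 𝔔₀.comap ψ ≤ 𝔭 := by
    rw [← h𝔔']
    exact Ideal.comap_mono h𝔔₀le
  exact le_antisymm h1 (h𝔭.2 (hmaps h𝔔₀).1 h1)

end Main

end Groth.Agent.Helper2.ComplHensMin
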