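import Mathlib
import Groth.Prelude
import Groth.Agent.Helper3.ComplFlat
import Groth.Agent.S0543

set_option autoImplicit false
set_option linter.style.haveILetI false

namespace Groth.Agent.Helper2.ComplLocFlat

open TensorProduct AdicCompletion

universe u

/-- every element of the completion is congruent to an element of `A` modulo `I^k`. -/
theorem exists_sub_mem {A : Type u} [CommRing A] (I : Ideal A) (hfg : I.FG) (k : ℕ)
    (x : AdicCompletion I A) :
    ∃ a : A, x - algebraMap A _ a ∈ (I ^ k).map (algebraMap A (AdicCompletion I A)) := by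
  have hmem : ∀ t : AdicCompletion I A,
      t ∈ (I ^ k).map (algebraMap A (AdicCompletion I A)) ↔
        AdicCompletion.eval I A k t = 0 := by
    intro t
    rw [← LinearMap.mem_ker, ← AdicCompletion.pow_smul_top_eq_ker_eval hfg, Ideal.smul_top_eq_map,
      Submodule.restrictScalars_mem]
  obtain ⟨a, ha⟩ := Submodule.Quotient.mk_surjective _ (AdicCompletion.eval I A k x)
  refine ⟨a, ?_⟩
  rw [hmem, map_sub, AdicCompletion.algebraMap_apply, Algebra.algebraMap_self, RingHom.id_apply,
    AdicCompletion.eval_of, sub_eq_zero]
  exact ha.symm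

/-- The map on `I`-adic completions induced by a flat map of Noetherian rings is flat. -/
theorem flat_completion_map (B C : Type u) [CommRing B] [CommRing C] [IsNoetherianRing B]
    [IsNoetherianRing C] [Algebra B C] [Module.Flat B C] (JB : Ideal B) (JC : Ideal C)
    (ψ : AdicCompletion JB B →+* AdicCompletion JC C)
    (hψ : ψ.comp (algebraMap B (AdicCompletion JB B)) =
      (algebraMap C (AdicCompletion JC C)).comp (algebraMap B C))
    (hJ : JB.map (algebraMap B C) ≤ JC) : ψ.Flat := by
  letI := ψ.toAlgebra
  haveI hst : IsScalarTower B (AdicCompletion JB B) (AdicCompletion JC C) :=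
    IsScalarTower.of_algebraMap_eq' (by
      rw [RingHom.algebraMap_toAlgebra, hψ, ← IsScalarTower.algebraMap_eq])
  haveI := Groth.Agent.S0543.result B JB
  haveI := Groth.Agent.S0543.result C JC
  haveI : Module.Flat B (AdicCompletion JC C) := Module.Flat.trans B C (AdicCompletion JC C)
  change Module.Flat (AdicCompletion JB B) (AdicCompletion JC C)
  have fgB : JB.FG := JB.fg_of_isNoetherianRing
  have fgC : JC.FG := JC.fg_of_isNoetherianRing
  refine Groth.Agent.Helper1.LocalFlat.flat_of_flat_baseChange_pow
    (A := AdicCompletion JB B) (B := AdicCompletion JC C)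
    (JB.map (algebraMap B (AdicCompletion JB B))) ?_ fun k => ?_
  · haveI := AdicCompletion.isAdicComplete_self JC fgC
    refine le_trans ?_ (IsAdicComplete.le_jacobson_bot (JC.map (algebraMap C (AdicCompletion JC C))))
    rw [Ideal.map_map, ← IsScalarTower.algebraMap_eq,
      IsScalarTower.algebraMap_eq B C (AdicCompletion JC C), ← Ideal.map_map]
    exact Ideal.map_mono hJ
  · have key : ∀ J : Ideal (AdicCompletion JB B),
        J = (JB ^ k).map (algebraMap B (AdicCompletion JB B)) →
        Module.Flat (AdicCompletion JB B ⧸ J)
          ((AdicCompletion JB B ⧸ J) ⊗[AdicCompletion JB B] AdicCompletion JC C) := by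
      rintro J rfl
      exact Helper3.ComplFlat.flat_quotient_of_flat_quotient (A := B) (A' := AdicCompletion JB B)
        (M := AdicCompletion JC C) (JB ^ k) (exists_sub_mem JB fgB k)
    exact key _ (by rw [Ideal.map_pow])

theorem evalₐ_complMap {S T : Type u} [CommRing S] [CommRing T] (I : Ideal S) (K : Ideal T)
    (g : S →+* T) (h : I.map g ≤ K) (n : ℕ) (x : AdicCompletion I S) :
    evalₐ K n (FSch.complMap I K g h x) =
      Ideal.quotientMap (K ^ n) g (FSch.pow_le_comap_pow_of_map_le I K g h n) (evalₐ I n x) := by
  have hcompat : ∀ {m n : ℕ} (hle : m ≤ n),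
      (Ideal.Quotient.factorPow K hle).comp
        ((Ideal.quotientMap (K ^ n) g (FSch.pow_le_comap_pow_of_map_le I K g h n)).comp
          (evalₐ I n).toRingHom) =
      (Ideal.quotientMap (K ^ m) g (FSch.pow_le_comap_pow_of_map_le I K g h m)).comp
        (evalₐ I m).toRingHom := by
    intro m n hle
    apply RingHom.ext
    intro x
    obtain ⟨y, rfl⟩ := AdicCompletion.mk_surjective I S x
    simp only [RingHom.coe_comp, Function.comp_apply, AlgHom.toRingHom_eq_coe, AlgHom.coe_toRingHom,
      AdicCompletion.evalₐ_mk, Ideal.quotientMap_mk, Ideal.Quotient.factorPow, Ideal.Quotient.factor_mk]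
    rw [Ideal.Quotient.eq]
    have hy := y.2 hle
    rw [SModEq.sub_mem] at hy
    simp only [smul_eq_mul, Ideal.mul_top] at hy
    rw [← map_sub]
    have hy' : (y : ℕ → S) n - (y : ℕ → S) m ∈ I ^ m := by
      rw [← neg_sub]; exact (I ^ m).neg_mem hy
    exact FSch.pow_le_comap_pow_of_map_le I K g h m hy'
  exact AdicCompletion.evalₐ_liftRingHom K _ hcompat n x

theorem s4347 (A : Type u) [CommRing A] [IsNoetherianRing A] (J : Ideal A) (S' S : Submonoid A)
    (hS : S' ≤ S) (g : Localization S' →+* Localization S)
    (hg : g.comp (algebraMap A (Localization S')) = algebraMap A (Localization S))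
    (hJ : (J.map (algebraMap A (Localization S'))).map g ≤ J.map (algebraMap A (Localization S))) :
    (FSch.complMap (J.map (algebraMap A (Localization S'))) (J.map (algebraMap A (Localization S)))
      g hJ).Flat := by
  letI : Algebra (Localization S') (Localization S) := g.toAlgebra
  haveI : IsScalarTower A (Localization S') (Localization S) :=
    IsScalarTower.of_algebraMap_eq' hg.symm
  haveI : IsLocalization (S.map (algebraMap A (Localization S'))) (Localization S) :=
    IsLocalization.isLocalization_of_submonoid_le _ _ S' S hS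
  haveI : Module.Flat (Localization S') (Localization S) :=
    IsLocalization.flat _ (S.map (algebraMap A (Localization S')))
  haveI : IsNoetherianRing (Localization S') := IsLocalization.isNoetherianRing S' _ inferInstance
  haveI : IsNoetherianRing (Localization S) := IsLocalization.isNoetherianRing S _ inferInstance
  refine flat_completion_map _ _ _ _ _ ?_ hJ
  refine RingHom.ext fun b => ?_
  apply AdicCompletion.ext_evalₐ
  intro n
  show evalₐ _ n (FSch.complMap _ _ g hJ (algebraMap _ _ b)) = evalₐ _ n (algebraMap _ _ (g b))
  rw [evalₐ_complMap]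
  rfl

end Groth.Agent.Helper2.ComplLocFlat
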