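import Mathlib
import Groth.Prelude

set_option autoImplicit false
set_option linter.unusedSectionVars false
set_option linter.style.haveILetI false
universe u

open Submodule Pointwise

namespace Groth.Agent.Helper2.C2Flat

section BH

variable {B : Type*} [CommRing B] [IsNoetherianRing B] {M : Type*} [AddCommGroup M] [Module B M]
  [Module.Finite B M]

/-- If `Q ∈ Ass(M)` and `x` in the Jacobson radical is `M`-regular, then some associated prime of
`M/xM` contains `Q` and `x`. -/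
theorem exists_ass_of_regular (x : B) (hxJ : x ∈ Ideal.jacobson (⊥ : Ideal B))
    (hx : IsSMulRegular M x) (N' : Submodule B M) (hN' : ∀ m, m ∈ N' ↔ ∃ m', x • m' = m)
    (Q : Ideal B) (hQ : Q ∈ associatedPrimes B M) :
    ∃ P ∈ associatedPrimes B (M ⧸ N'), Q ≤ P ∧ x ∈ P := by
  haveI : IsNoetherian B M := isNoetherian_of_isNoetherianRing_of_finite B M
  obtain ⟨hQp, m₀, hm₀⟩ := (isAssociatedPrime_iff).1 hQ
  have hm₀' : ∀ q, q ∈ Q ↔ q • m₀ = 0 := by
    intro q
    rw [hm₀, mem_colon_singleton, mem_bot]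
  have hm₀ne : m₀ ≠ 0 := by
    intro h0
    apply hQp.ne_top
    rw [Ideal.eq_top_iff_one, hm₀', h0, smul_zero]
  let N : Submodule B M :=
    { carrier := {m | ∀ q ∈ Q, q • m = 0}
      add_mem' := fun {a b} ha hb q hq => by rw [smul_add, ha q hq, hb q hq, add_zero]
      zero_mem' := fun q _ => smul_zero q
      smul_mem' := fun c m hm q hq => by rw [smul_comm, hm q hq, smul_zero] }
  have hmN : m₀ ∈ N := fun q hq => (hm₀' q).1 hq
  have hnot : ¬ N ≤ N' := by
    intro hle
    have h1 : N ≤ Ideal.span {x} • N := by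
      intro n hn
      obtain ⟨m', rfl⟩ := (hN' n).1 (hle hn)
      have hm' : m' ∈ N := by
        intro q hq
        apply hx
        change x • q • m' = x • 0
        rw [smul_zero, smul_comm]
        exact hn q hq
      exact Submodule.smul_mem_smul (Ideal.mem_span_singleton_self x) hm'
    have h2 : N = ⊥ :=
      Submodule.eq_bot_of_le_smul_of_le_jacobson_bot (Ideal.span {x}) N (IsNoetherian.noetherian N) h1
        ((Ideal.span_singleton_le_iff_mem _).2 hxJ)
    rw [h2] at hmN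
    exact hm₀ne ((Submodule.mem_bot B).1 hmN)
  obtain ⟨n₀, hn₀N, hn₀N'⟩ := SetLike.not_le_iff_exists.1 hnot
  have hne : (Submodule.mkQ N' n₀) ≠ 0 := by
    intro h0
    exact hn₀N' ((Submodule.Quotient.mk_eq_zero N').1 h0)
  obtain ⟨P, hP, hle⟩ := exists_le_isAssociatedPrime_of_isNoetherianRing B (Submodule.mkQ N' n₀) hne
  refine ⟨P, hP, ?_, ?_⟩
  · intro q hq
    apply hle
    rw [mem_colon_singleton, mem_bot, ← map_smul, hn₀N q hq, map_zero]
  · apply hle
    rw [mem_colon_singleton, mem_bot, ← map_smul]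
    exact (Submodule.Quotient.mk_eq_zero N').2 ((hN' _).2 ⟨n₀, rfl⟩)

end BH

section chain

variable (B : Type*) [CommRing B] [IsNoetherianRing B]

/-- a regular sequence of length two in the Jacobson radical gives a chain of primes of length two
above any associated prime of the ring -/
theorem exists_chain (x y : B) (hxJ : x ∈ Ideal.jacobson (⊥ : Ideal B))
    (hyJ : y ∈ Ideal.jacobson (⊥ : Ideal B))
    (hreg : RingTheory.Sequence.IsWeaklyRegular B [x, y]) (Q : Ideal B)
    (hQ : Q ∈ associatedPrimes B B) :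
    ∃ P₁ P₂ : Ideal B, P₁.IsPrime ∧ P₂.IsPrime ∧ Q < P₁ ∧ P₁ < P₂ := by
  rw [RingTheory.Sequence.isWeaklyRegular_cons_iff, RingTheory.Sequence.isWeaklyRegular_cons_iff] at hreg
  obtain ⟨hx, hy, -⟩ := hreg
  have hzd : ∀ (M : Type _) [AddCommGroup M] [Module B M] (z : B), IsSMulRegular M z →
      ∀ P ∈ associatedPrimes B M, z ∉ P := by
    intro M _ _ z hz P hP hzP
    have h1 : z ∈ ⋃ p ∈ associatedPrimes B M, (p : Set B) := Set.mem_biUnion hP hzP
    rw [biUnion_associatedPrimes_eq_zero_divisors] at h1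
    obtain ⟨m, hm, hzm⟩ := h1
    exact hm (hz (show z • m = z • 0 by rw [hzm, smul_zero]))
  obtain ⟨P₁, hP₁, hQP₁, hxP₁⟩ := exists_ass_of_regular (M := B) x hxJ hx
    (x • (⊤ : Submodule B B))
    (fun m => by rw [Submodule.mem_smul_pointwise_iff_exists]; simp) Q hQ
  obtain ⟨P₂, hP₂, hP₁P₂, hyP₂⟩ := exists_ass_of_regular (M := QuotSMulTop x B) y hyJ hy
    (y • (⊤ : Submodule B (QuotSMulTop x B)))
    (fun m => by rw [Submodule.mem_smul_pointwise_iff_exists]; simp) P₁ hP₁
  refine ⟨P₁, P₂, hP₁.isPrime, hP₂.isPrime, lt_of_le_of_ne hQP₁ ?_, lt_of_le_of_ne hP₁P₂ ?_⟩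
  · rintro rfl
    exact hzd B x hx _ hQ hxP₁
  · rintro rfl
    exact hzd _ y hy _ hP₁ hyP₂

/-- a chain of primes `Q < P₁ < P₂` forces `dim B/Q ≥ 2` -/
theorem two_le_dim_quotient (Q P₁ P₂ : Ideal B) [Q.IsPrime] [P₁.IsPrime] [P₂.IsPrime]
    (h1 : Q < P₁) (h2 : P₁ < P₂) : (2 : WithBot ℕ∞) ≤ ringKrullDim (B ⧸ Q) := by
  have hsurj : Function.Surjective (Ideal.Quotient.mk Q) := Ideal.Quotient.mk_surjective
  have hker : ∀ P : Ideal B, Q ≤ P → RingHom.ker (Ideal.Quotient.mk Q) ≤ P := by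
    intro P hP
    rwa [Ideal.mk_ker]
  have hp : ∀ P : Ideal B, P.IsPrime → Q ≤ P → (P.map (Ideal.Quotient.mk Q)).IsPrime :=
    fun P hP hQP => Ideal.map_isPrime_of_surjective hsurj (hker P hQP)
  have hcm : ∀ P : Ideal B, Q ≤ P → (P.map (Ideal.Quotient.mk Q)).comap (Ideal.Quotient.mk Q) = P := by
    intro P hQP
    rw [Ideal.comap_map_of_surjective _ hsurj, ← RingHom.ker_eq_comap_bot, Ideal.mk_ker]
    exact sup_eq_left.2 hQP
  let a : PrimeSpectrum (B ⧸ Q) := ⟨Q.map (Ideal.Quotient.mk Q), hp Q inferInstance le_rfl⟩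
  let b : PrimeSpectrum (B ⧸ Q) := ⟨P₁.map (Ideal.Quotient.mk Q), hp P₁ inferInstance h1.le⟩
  let c : PrimeSpectrum (B ⧸ Q) := ⟨P₂.map (Ideal.Quotient.mk Q), hp P₂ inferInstance (h1.le.trans h2.le)⟩
  have hab : a < b := by
    refine lt_of_le_of_ne (Ideal.map_mono h1.le) ?_
    intro h
    have : Q = P₁ := by
      rw [← hcm Q le_rfl, ← hcm P₁ h1.le]
      exact congrArg (fun z : PrimeSpectrum (B ⧸ Q) => z.asIdeal.comap (Ideal.Quotient.mk Q)) h
    exact h1.ne this
  have hbc : b < c := by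
    refine lt_of_le_of_ne (Ideal.map_mono h2.le) ?_
    intro h
    have : P₁ = P₂ := by
      rw [← hcm P₁ h1.le, ← hcm P₂ (h1.le.trans h2.le)]
      exact congrArg (fun z : PrimeSpectrum (B ⧸ Q) => z.asIdeal.comap (Ideal.Quotient.mk Q)) h
    exact h2.ne this
  have hsm : StrictMono ![a, b, c] := by
    rw [Fin.strictMono_iff_lt_succ]
    intro i
    fin_cases i
    · exact hab
    · exact hbc
  exact Order.LTSeries.length_le_krullDim (LTSeries.mk 2 ![a, b, c] hsm)

end chain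

end Groth.Agent.Helper2.C2Flat
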