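import Mathlib
import Groth.Prelude

set_option autoImplicit false
set_option linter.style.haveILetI false

/-! Elementary descent lemmas along a flat map `H → H'` with `H' = H + 𝔠 H'`. -/

namespace Groth.Agent.Helper2.IdemDesc

open TensorProduct

variable {H H' : Type*} [CommRing H] [CommRing H'] [Algebra H H']

/-- elements of `𝔠 H'` are killed by whatever kills `𝔠`. -/
theorem smul_eq_zero_of_mem_map (c : Ideal H) (s : H) (hs : ∀ y ∈ c, y * s = 0) (d : H')
    (hd : d ∈ c.map (algebraMap H H')) : s • d = 0 := by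
  induction hd using Submodule.span_induction with
  | mem x hx =>
    obtain ⟨y, hy, rfl⟩ := hx
    rw [Algebra.smul_def, ← map_mul, mul_comm, hs y hy, map_zero]
  | zero => simp
  | add x y _ _ hx hy => rw [smul_add, hx, hy, add_zero]
  | smul a x _ hx => rw [smul_comm, hx, smul_zero]

/-- A0: an element of `H'` killed by `𝔠` comes from `H`. -/
theorem exists_of_smul_eq_zero [IsNoetherianRing H] [Module.Flat H H'] (c : Ideal H)
    (hc : ∀ x : H', ∃ a : H, x - algebraMap H H' a ∈ c.map (algebraMap H H'))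
    (w : H') (hw : ∀ y ∈ c, y • w = 0) :
    ∃ s : H, (∀ y ∈ c, y * s = 0) ∧ algebraMap H H' s = w := by
  let f0 : H →ₗ[H] H' := LinearMap.toSpanSingleton H H' w
  have hker : c ≤ LinearMap.ker f0 := by
    intro y hy
    rw [LinearMap.mem_ker]
    show y • w = 0
    exact hw y hy
  let f : (H ⧸ c) →ₗ[H] H' := Submodule.liftQ c f0 hker
  haveI : Module.FinitePresentation H (H ⧸ c) := Module.finitePresentation_of_finite H _
  obtain ⟨k, h₂, h₃, hf⟩ := Module.Flat.exists_factorization_of_finitePresentation f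
  let v : Fin k →₀ H := h₂ (Submodule.Quotient.mk 1)
  have hv : ∀ y ∈ c, ∀ l, y * v l = 0 := by
    intro y hy l
    have : y • v = 0 := by
      show y • h₂ (Submodule.Quotient.mk 1) = 0
      rw [← map_smul, ← Submodule.Quotient.mk_smul, smul_eq_mul, mul_one,
        (Submodule.Quotient.mk_eq_zero c).mpr hy, map_zero]
    have := congrArg (fun g : Fin k →₀ H => g l) this
    simpa using this
  choose y0 hy0 using fun l : Fin k => hc (h₃ (Finsupp.single l 1))
  have hw' : w = ∑ l, v l • h₃ (Finsupp.single l 1) := by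
    have h1 : w = f (Submodule.Quotient.mk 1) := by
      show w = f0 1
      simp [f0]
    rw [h1, hf, LinearMap.comp_apply]
    show h₃ v = _
    conv_lhs => rw [← Finsupp.sum_single v]
    rw [Finsupp.sum_fintype _ _ (by simp), map_sum]
    refine Finset.sum_congr rfl fun l _ => ?_
    rw [← map_smul, Finsupp.smul_single, smul_eq_mul, mul_one]
  refine ⟨∑ l, v l * y0 l, ?_, ?_⟩
  · intro y hy
    rw [Finset.mul_sum]
    refine Finset.sum_eq_zero fun l _ => ?_
    rw [← mul_assoc, hv y hy l, zero_mul]
  · rw [hw', map_sum]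
    refine Finset.sum_congr rfl fun l _ => ?_
    have h2 : h₃ (Finsupp.single l 1) =
        algebraMap H H' (y0 l) + (h₃ (Finsupp.single l 1) - algebraMap H H' (y0 l)) := by ring
    rw [h2, smul_add, smul_eq_zero_of_mem_map c (v l) (fun y hy => hv y hy l) _ (hy0 l),
      add_zero, map_mul, Algebra.smul_def]

/-- part 1 of (a): a linear system `a i = c i * b` solvable in `H'` is solvable in `H`. -/
theorem exists_mul_eq [Module.FaithfullyFlat H H'] {r : ℕ} (c a : Fin r → H) (h' : H')
    (h : ∀ i, algebraMap H H' (a i) = algebraMap H H' (c i) * h') :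
    ∃ b : H, ∀ i, a i = c i * b := by
  let F := Fin r → H
  let P : Submodule H F := LinearMap.range (LinearMap.toSpanSingleton H F c)
  have hinj := Module.FaithfullyFlat.tensorProduct_mk_injective (A := H) (B := H') (F ⧸ P)
  have key : (1 : H') ⊗ₜ[H] (P.mkQ a) = 0 := by
    have e1 : (1 : H') ⊗ₜ[H] a = h' ⊗ₜ[H] c := by
      have ha : a = ∑ i, a i • (Pi.single i (1 : H) : F) := by
        ext j
        simp [Finset.sum_apply, Pi.single_apply]
      have hc' : c = ∑ i, c i • (Pi.single i (1 : H) : F) := by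
        ext j
        simp [Finset.sum_apply, Pi.single_apply]
      conv_lhs => rw [ha]
      conv_rhs => rw [hc']
      rw [TensorProduct.tmul_sum, TensorProduct.tmul_sum]
      refine Finset.sum_congr rfl fun i _ => ?_
      rw [← TensorProduct.smul_tmul, ← TensorProduct.smul_tmul, Algebra.smul_def, mul_one, h i,
        Algebra.smul_def]
    have e2 : (1 : H') ⊗ₜ[H] (P.mkQ a) = (P.mkQ.lTensor H') ((1 : H') ⊗ₜ[H] a) := rfl
    rw [e2, e1, LinearMap.lTensor_tmul]
    have : P.mkQ c = 0 := by
      rw [Submodule.mkQ_apply, Submodule.Quotient.mk_eq_zero]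
      exact ⟨1, by simp⟩
    rw [this, TensorProduct.tmul_zero]
  have h0 : P.mkQ a = 0 := by
    apply hinj
    rw [TensorProduct.mk_apply, TensorProduct.mk_apply, key, TensorProduct.tmul_zero]
  rw [Submodule.mkQ_apply, Submodule.Quotient.mk_eq_zero] at h0
  obtain ⟨b, hb⟩ := h0
  refine ⟨b, fun i => ?_⟩
  have := congrFun hb i
  rw [LinearMap.toSpanSingleton_apply, Pi.smul_apply, smul_eq_mul] at this
  rw [← this, mul_comm]

/-- (a): `H'/H` has no `𝔠`-torsion. -/
theorem exists_of_smul_mem_range [IsNoetherianRing H] [Module.FaithfullyFlat H H'] (c : Ideal H)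
    (hc : ∀ x : H', ∃ a : H, x - algebraMap H H' a ∈ c.map (algebraMap H H'))
    (h' : H') (hh : ∀ y ∈ c, ∃ a : H, algebraMap H H' a = y • h') :
    ∃ b : H, algebraMap H H' b = h' := by
  obtain ⟨r, cs, hcs⟩ := (Submodule.fg_iff_exists_fin_generating_family).mp
    ((isNoetherianRing_iff_ideal_fg H).mp inferInstance c)
  have hmem : ∀ i, cs i ∈ c := fun i => hcs ▸ Submodule.subset_span ⟨i, rfl⟩
  choose a ha using fun i => hh (cs i) (hmem i)
  obtain ⟨b, hb⟩ := exists_mul_eq cs a h' (fun i => by rw [ha i, Algebra.smul_def])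
  have hw : ∀ y ∈ c, y • (h' - algebraMap H H' b) = 0 := by
    intro y hy
    rw [← hcs] at hy
    induction hy using Submodule.span_induction with
    | mem x hx =>
      obtain ⟨i, rfl⟩ := hx
      rw [smul_sub, ← ha i, hb i, Algebra.smul_def, ← map_mul, sub_self]
    | zero => simp
    | add x y _ _ hx hy => rw [add_smul, hx, hy, add_zero]
    | smul t x _ hx => rw [smul_eq_mul, mul_smul, hx, smul_zero]
  obtain ⟨s, -, hs⟩ := exists_of_smul_eq_zero c hc _ hw
  exact ⟨b + s, by rw [map_add, hs]; ring⟩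

/-- S2: an `H`-linear map `𝔠 → H'` is, up to a multiplication, defined over `H`. -/
theorem exists_approx [IsNoetherianRing H] [Module.Flat H H'] (c : Ideal H)
    (hc : ∀ x : H', ∃ a : H, x - algebraMap H H' a ∈ c.map (algebraMap H H'))
    (φ : c →ₗ[H] H') :
    ∃ (a0 : c →ₗ[H] H) (h : H'), ∀ y : c, φ y = algebraMap H H' (a0 y) + (y : H) • h := by
  obtain ⟨r, cs, hcs⟩ := (Submodule.fg_iff_exists_fin_generating_family).mp
    ((isNoetherianRing_iff_ideal_fg H).mp inferInstance c)
  have hmem : ∀ i, cs i ∈ c := fun i => hcs ▸ Submodule.subset_span ⟨i, rfl⟩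
  haveI : Module.FinitePresentation H c := Module.finitePresentation_of_finite H _
  obtain ⟨k, h₂, h₃, hf⟩ := Module.Flat.exists_factorization_of_finitePresentation φ
  choose y0 hy0 using fun l : Fin k => hc (h₃ (Finsupp.single l 1))
  have hmap : c.map (algebraMap H H') = Submodule.span H' (Set.range (fun j => algebraMap H H' (cs j))) := by
    rw [← hcs]
    show Ideal.map (algebraMap H H') (Ideal.span (Set.range cs)) = Ideal.span _
    rw [Ideal.map_span]
    congr 1
    ext x
    simp
  have hex : ∀ l, ∃ t : Fin r → H', h₃ (Finsupp.single l 1) - algebraMap H H' (y0 l) =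
      ∑ j, t j • algebraMap H H' (cs j) := by
    intro l
    have := hy0 l
    rw [hmap] at this
    exact (Submodule.mem_span_range_iff_exists_fun H').mp this |>.imp fun t ht => ht.symm
  choose t ht using hex
  let al : Fin k → (c →ₗ[H] H) := fun l => (Finsupp.lapply l) ∘ₗ h₂
  refine ⟨∑ l, y0 l • al l, ∑ l, ∑ j, t l j * algebraMap H H' (al l ⟨cs j, hmem j⟩), fun y => ?_⟩
  have hφ : φ y = ∑ l, al l y • h₃ (Finsupp.single l 1) := by
    rw [hf, LinearMap.comp_apply]
    conv_lhs => rw [← Finsupp.sum_single (h₂ y)]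
    rw [Finsupp.sum_fintype _ _ (by simp), map_sum]
    refine Finset.sum_congr rfl fun l _ => ?_
    rw [← map_smul, Finsupp.smul_single, smul_eq_mul, mul_one]
    rfl
  have hcomm : ∀ l j, al l y * cs j = (y : H) * al l ⟨cs j, hmem j⟩ := by
    intro l j
    have e1 : cs j • y = (y : H) • (⟨cs j, hmem j⟩ : c) := by
      apply Subtype.ext
      simp [mul_comm]
    have := congrArg (al l) e1
    rw [map_smul, map_smul, smul_eq_mul, smul_eq_mul] at this
    rw [mul_comm, this]
  rw [hφ, LinearMap.sum_apply, map_sum, Finset.smul_sum, ← Finset.sum_add_distrib]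
  refine Finset.sum_congr rfl fun l _ => ?_
  have h2 : h₃ (Finsupp.single l 1) =
      algebraMap H H' (y0 l) + ∑ j, t l j • algebraMap H H' (cs j) := by
    rw [← ht l]; ring
  rw [h2, smul_add, LinearMap.smul_apply, smul_eq_mul, map_mul, Algebra.smul_def, mul_comm]
  congr 1
  rw [Finset.smul_sum, Finset.smul_sum]
  refine Finset.sum_congr rfl fun j _ => ?_
  rw [smul_eq_mul, Algebra.smul_def, Algebra.smul_def, ← mul_assoc, mul_comm _ (t l j), mul_assoc,
    ← map_mul, hcomm l j, map_mul]
  ring

end Groth.Agent.Helper2.IdemDesc
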