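import Mathlib
import Groth.Prelude
import Groth.Agent.Helper2.IdemDesc1

set_option autoImplicit false
set_option linter.style.haveILetI false

/-! Core: descent of idempotents "defined outside the closed point" from `H'` (completion-like)
to a Noetherian henselian local ring `H`. -/

namespace Groth.Agent.Helper2.IdemDesc

open IsLocalRing Polynomial

section Nak

variable {H' R' : Type*} [CommRing H'] [IsLocalRing H'] [CommRing R'] [Algebra H' R']

/-- Nakayama-type lemma: `d = ν₁ x + ν₂` with `ν₁, ν₂ ∈ 𝔪`, `x² = p + q x` and `d³ = d` force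
`d = 0`. -/
theorem eq_zero_of_cube (x d : R') (p q ν₁ ν₂ : H')
    (hx : x * x = algebraMap H' R' p + algebraMap H' R' q * x)
    (hν₁ : ν₁ ∈ maximalIdeal H') (hν₂ : ν₂ ∈ maximalIdeal H')
    (hd : d = algebraMap H' R' ν₁ * x + algebraMap H' R' ν₂) (hd3 : d * d * d = d) : d = 0 := by
  set M := maximalIdeal H' with hM
  set p₁ : H' := ν₁ * ν₁ * q + 2 * ν₁ * ν₂ with hp₁
  set p₂ : H' := ν₁ * ν₁ * p + ν₂ * ν₂ with hp₂
  have hp₁m : p₁ ∈ M := by
    rw [hp₁]
    exact M.add_mem (M.mul_mem_right _ (M.mul_mem_left _ hν₁)) (M.mul_mem_left _ hν₂)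
  have hp₂m : p₂ ∈ M := by
    rw [hp₂]
    exact M.add_mem (M.mul_mem_right _ (M.mul_mem_left _ hν₁)) (M.mul_mem_left _ hν₂)
  have hdd : d * d = algebraMap H' R' p₁ * x + algebraMap H' R' p₂ := by
    rw [hd, hp₁, hp₂]
    simp only [map_add, map_mul, map_ofNat]
    linear_combination (algebraMap H' R' ν₁ * algebraMap H' R' ν₁) * hx
  let N : Submodule H' R' := Submodule.span H' {d, x * d}
  have hdN : d ∈ N := Submodule.subset_span (by simp)
  have hxdN : x * d ∈ N := Submodule.subset_span (by simp)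
  have h1 : d = p₁ • (x * d) + p₂ • d := by
    rw [Algebra.smul_def, Algebra.smul_def]
    linear_combination (-1 : R') * hd3 + d * hdd
  have h2 : x * d = (p₁ * p) • d + (p₁ * q + p₂) • (x * d) := by
    rw [Algebra.smul_def, Algebra.smul_def]
    simp only [map_add, map_mul]
    linear_combination (-x : R') * hd3 + (x * d) * hdd + (algebraMap H' R' p₁ * d) * hx
  have hle : N ≤ M • N := by
    rw [Submodule.span_le]
    intro z hz
    rcases hz with rfl | hz
    · rw [SetLike.mem_coe, h1]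
      exact Submodule.add_mem _ (Submodule.smul_mem_smul hp₁m hxdN)
        (Submodule.smul_mem_smul hp₂m hdN)
    · rw [Set.mem_singleton_iff] at hz
      rw [SetLike.mem_coe, hz, h2]
      exact Submodule.add_mem _ (Submodule.smul_mem_smul (M.mul_mem_right _ hp₁m) hdN)
        (Submodule.smul_mem_smul (M.add_mem (M.mul_mem_right _ hp₁m) hp₂m) hxdN)
  have hfg : N.FG := Submodule.fg_span (by simp)
  have hN : N = ⊥ := Submodule.eq_bot_of_le_smul_of_le_jacobson_bot M N hfg hle
    (IsLocalRing.maximalIdeal_le_jacobson _)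
  have := hN ▸ hdN
  simpa using this

end Nak


section Core

variable {H H' R' : Type*} [CommRing H] [IsNoetherianRing H] [HenselianLocalRing H]
  [CommRing H'] [IsLocalRing H'] [Algebra H H'] [Module.Flat H H']
  [CommRing R'] [Algebra H' R'] [Algebra H R'] [IsScalarTower H H' R']

theorem isLocalHom_of_max (hmax : maximalIdeal H' = (maximalIdeal H).map (algebraMap H H')) :
    IsLocalHom (algebraMap H H') := by
  refine ⟨fun x hx => ?_⟩
  by_contra hx'
  have : x ∈ maximalIdeal H := hx'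
  have h2 : algebraMap H H' x ∈ maximalIdeal H' := hmax ▸ Ideal.mem_map_of_mem _ this
  exact h2 hx

/-- if the image of `x : H` in `H'/𝔪H'` is a unit (nonzero), `x` is a unit -/
theorem isUnit_of_mk_eq_one (hmax : maximalIdeal H' = (maximalIdeal H).map (algebraMap H H'))
    (x : H) (hx : Ideal.Quotient.mk (maximalIdeal H') (algebraMap H H' x) = 1) : IsUnit x := by
  by_contra hx'
  have : x ∈ maximalIdeal H := hx'
  have h2 : algebraMap H H' x ∈ maximalIdeal H' := hmax ▸ Ideal.mem_map_of_mem _ this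
  rw [← Ideal.Quotient.eq_zero_iff_mem, hx] at h2
  have h3 : (1 : H') ∈ maximalIdeal H' := by
    rw [← Ideal.Quotient.eq_zero_iff_mem, map_one]; exact h2
  exact (maximalIdeal.isMaximal H').ne_top ((Ideal.eq_top_iff_one _).mpr h3)

theorem core (hmax : maximalIdeal H' = (maximalIdeal H).map (algebraMap H H'))
    (hsurj : ∀ n : ℕ, ∀ x : H', ∃ a : H,
      x - algebraMap H H' a ∈ ((maximalIdeal H) ^ n).map (algebraMap H H'))
    (hinj : Function.Injective (algebraMap H' R'))
    (ε : R') (hε : IsIdempotentElem ε) (N : ℕ)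
    (hN : ∀ y ∈ (maximalIdeal H) ^ N, ∃ z : H', y • ε = algebraMap H' R' z) :
    ∃ k : ℕ, ∀ y ∈ (maximalIdeal H) ^ k, ∃ a : H, y • ε = algebraMap H R' a := by
  haveI := isLocalHom_of_max (H := H) (H' := H') hmax
  haveI : Module.FaithfullyFlat H H' := Module.FaithfullyFlat.of_flat_of_isLocalHom
  set m := maximalIdeal H with hm
  set M := maximalIdeal H' with hM
  let ι := algebraMap H H'
  let ι' := algebraMap H' R'
  let j := algebraMap H R'
  have hj : ∀ x : H, j x = ι' (ι x) := fun x => IsScalarTower.algebraMap_apply H H' R' x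
  have hsm : ∀ (x : H) (r : R'), x • r = j x * r := fun x r => Algebra.smul_def x r
  set c : Ideal H := m ^ (N + 1) with hc
  have hcN : c ≤ m ^ N := Ideal.pow_le_pow_right (Nat.le_succ N)
  have hcm : c ≤ m := by
    rw [hc]; exact Ideal.pow_le_self (Nat.succ_ne_zero N)
  -- Stage 1
  choose z hz using fun y : c => hN y.1 (hcN y.2)
  let φ : c →ₗ[H] H' :=
    { toFun := z
      map_add' := fun y₁ y₂ => by
        apply hinj
        rw [map_add, ← hz, ← hz, ← hz, Submodule.coe_add, add_smul]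
      map_smul' := fun t y => by
        apply hinj
        rw [RingHom.id_apply, ← hz, Algebra.smul_def t (z y), map_mul, ← hz]
        show (t * (y : H)) • ε = ι' (ι t) * (y : H) • ε
        rw [← hj, mul_smul, hsm t] }
  have hφ : ∀ y : c, ι' (φ y) = (y : H) • ε := fun y => (hz y).symm
  -- Stage 2
  obtain ⟨a0, h, hah⟩ := exists_approx c (hsurj (N + 1)) φ
  set ε' : R' := ε - ι' h with hε'
  have hε'c : ∀ y : c, (y : H) • ε' = j (a0 y) := by
    intro y
    rw [hε', smul_sub, ← hφ y, hah y, hj, hsm, hj, map_add, Algebra.smul_def, map_mul]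
    ring
  -- Stage 3
  have hrel0 : ε' * ε' = ι' (h - h * h) + ι' (1 - 2 * h) * ε' := by
    have := hε.eq
    have e1 : ε = ε' + ι' h := by rw [hε']; ring
    rw [e1] at this
    simp only [map_sub, map_mul, map_one, map_ofNat]
    linear_combination this
  -- Stage 4
  obtain ⟨b, hb⟩ := hsurj (N + 2) (1 - 2 * h)
  have hmc : m ^ (N + 2) = m * c := by rw [hc, ← pow_succ']
  rw [hmc] at hb
  have hP : ∀ x ∈ m * c, ∃ w ∈ m, x • ε' = j w := by
    intro x hx
    refine Submodule.mul_induction_on hx ?_ ?_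
    · intro μ hμ y hy
      refine ⟨μ * a0 ⟨y, hy⟩, m.mul_mem_right _ hμ, ?_⟩
      rw [mul_smul, hε'c ⟨y, hy⟩, hsm, map_mul]
    · intro x y hx hy
      obtain ⟨w₁, hw₁, e₁⟩ := hx
      obtain ⟨w₂, hw₂, e₂⟩ := hy
      exact ⟨w₁ + w₂, m.add_mem hw₁ hw₂, by rw [add_smul, e₁, e₂, map_add]⟩
  have hQ : ∀ d ∈ (m * c).map ι, ∃ d' ∈ M, ι' d * ε' = ι' d' := by
    intro d hd
    induction hd using Submodule.span_induction with
    | mem x hx =>
      obtain ⟨x0, hx0, rfl⟩ := hx
      obtain ⟨w, hw, e⟩ := hP x0 hx0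
      refine ⟨ι w, hmax ▸ Ideal.mem_map_of_mem _ hw, ?_⟩
      rw [← hj, ← hj, ← hsm, e]
    | zero => exact ⟨0, M.zero_mem, by simp⟩
    | add x y _ _ hx hy =>
      obtain ⟨w₁, hw₁, e₁⟩ := hx
      obtain ⟨w₂, hw₂, e₂⟩ := hy
      exact ⟨w₁ + w₂, M.add_mem hw₁ hw₂, by rw [map_add, add_mul, e₁, e₂, map_add]⟩
    | smul t x _ hx =>
      obtain ⟨w, hw, e⟩ := hx
      exact ⟨t * w, M.mul_mem_left _ hw, by rw [smul_eq_mul, map_mul, mul_assoc, e, map_mul]⟩
  obtain ⟨d', hd'M, hd'⟩ := hQ _ hb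
  have hbM : (1 - 2 * h) - ι b ∈ M := by
    rw [hmax]
    have hle : m * c ≤ m := Ideal.mul_le_left
    exact Ideal.map_mono hle hb
  set u₁ : H' := h - h * h + d' with hu₁
  have hrel1 : ε' * ε' = ι' u₁ + b • ε' := by
    rw [hu₁, hsm, hj, map_add, hrel0]
    have : ι' (1 - 2 * h) = ι' (ι b) + ι' ((1 - 2 * h) - ι b) := by rw [← map_add]; congr 1; ring
    rw [this, add_mul, hd']
    ring
  -- Stage 5
  have hcc : c * c = m ^ (N + 1 + (N + 1)) := by rw [hc, ← pow_add]
  have hu₁H : ∃ a : H, ι a = u₁ := by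
    refine exists_of_smul_mem_range (c * c) (by rw [hcc]; exact hsurj _) u₁ ?_
    intro y hy
    refine Submodule.mul_induction_on hy ?_ ?_
    · intro y₁ hy₁ y₂ hy₂
      refine ⟨a0 ⟨y₁, hy₁⟩ * a0 ⟨y₂, hy₂⟩ - b * y₁ * a0 ⟨y₂, hy₂⟩, ?_⟩
      apply hinj
      have e1 := hε'c ⟨y₁, hy₁⟩
      have e2 := hε'c ⟨y₂, hy₂⟩
      rw [hsm] at e1 e2
      simp only at e1 e2
      rw [Algebra.smul_def, map_mul]
      show ι' (ι (_)) = ι' (ι (y₁ * y₂)) * ι' u₁
      rw [← hj, ← hj]
      have e3 : ι' u₁ = ε' * ε' - j b * ε' := by rw [hrel1, hsm]; ring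
      rw [e3]
      simp only [map_sub, map_mul]
      rw [← e1, ← e2]
      ring
    · intro x y hx hy
      obtain ⟨w₁, e₁⟩ := hx
      obtain ⟨w₂, e₂⟩ := hy
      exact ⟨w₁ + w₂, by rw [map_add, e₁, e₂, add_smul]⟩
  obtain ⟨a, ha⟩ := hu₁H
  have hrel : ε' * ε' = j a + j b * ε' := by rw [hrel1, ← ha, hj, hsm]
  -- quotient bookkeeping
  let π := Ideal.Quotient.mk M
  have hmemM : ∀ x : H, π (ι x) = 0 → x ∈ m := by
    intro x hx
    by_contra hcon
    have hu : IsUnit x := IsLocalRing.notMem_maximalIdeal.mp hcon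
    have h2 : ι x ∈ M := Ideal.Quotient.eq_zero_iff_mem.mp hx
    exact h2 (hu.map ι)
  have hπd' : π d' = 0 := Ideal.Quotient.eq_zero_iff_mem.mpr hd'M
  have hπa : π (ι a) = π h - π h * π h := by
    rw [ha, hu₁, map_add, hπd', add_zero, map_sub, map_mul]
  have hπb : π (ι b) = 1 - 2 * π h := by
    have := Ideal.Quotient.eq_zero_iff_mem.mpr hbM
    rw [map_sub, map_sub, map_mul, map_one, map_ofNat] at this
    linear_combination (-1 : H' ⧸ M) * this
  obtain ⟨h0, hh0⟩ := hsurj 1 h
  rw [pow_one, ← hmax] at hh0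
  have hπh0 : π (ι h0) = π h := by
    have := Ideal.Quotient.eq_zero_iff_mem.mpr hh0
    rw [map_sub] at this
    linear_combination (-1 : H' ⧸ M) * this
  -- the polynomial
  let g : H[X] := X ^ 2 - (C b * X + C a)
  have hg : g.Monic := by
    apply Polynomial.monic_X_pow_sub
    refine lt_of_le_of_lt (Polynomial.degree_linear_le) ?_
    norm_num
  have hev : g.eval (-h0) = h0 * h0 + b * h0 - a := by
    simp only [g, eval_sub, eval_pow, eval_X, eval_add, eval_mul, eval_C]
    ring
  have hder : g.derivative.eval (-h0) = -(2 * h0 + b) := by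
    simp only [g, derivative_sub, derivative_X_pow, derivative_add, derivative_mul, derivative_C,
      derivative_X, eval_sub, eval_mul, eval_pow, eval_X, eval_add, eval_C, eval_zero]
    simp
    ring
  have h₁ : g.eval (-h0) ∈ m := by
    apply hmemM
    rw [hev]
    simp only [map_add, map_sub, map_mul]
    rw [hπh0, hπb, hπa]
    ring
  have h₂ : IsUnit (g.derivative.eval (-h0)) := by
    rw [hder, IsUnit.neg_iff]
    apply isUnit_of_mk_eq_one (H := H) (H' := H') hmax
    show π (ι (2 * h0 + b)) = 1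
    simp only [map_add, map_mul, map_ofNat]
    rw [hπh0, hπb]
    ring
  obtain ⟨ρ, hρroot, hρm⟩ := HenselianLocalRing.is_henselian g hg (-h0) h₁ h₂
  have hρ : ρ * ρ - (b * ρ + a) = 0 := by
    have : g.eval ρ = 0 := hρroot
    simp only [g, eval_sub, eval_pow, eval_X, eval_add, eval_mul, eval_C] at this
    linear_combination this
  have hπρ : π (ι ρ) = -π h := by
    have h3 : ι (ρ - -h0) ∈ M := hmax ▸ Ideal.mem_map_of_mem _ hρm
    have := Ideal.Quotient.eq_zero_iff_mem.mpr h3
    simp only [map_sub, map_neg] at this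
    rw [hπh0] at this
    linear_combination this
  have hu : IsUnit (b - 2 * ρ) := by
    apply isUnit_of_mk_eq_one (H := H) (H' := H') hmax
    show π (ι (b - 2 * ρ)) = 1
    simp only [map_sub, map_mul, map_ofNat]
    rw [hπb, hπρ]
    ring
  obtain ⟨uu, huu⟩ := hu
  set ui : H := ((uu⁻¹ : Hˣ) : H) with hui
  have hui1 : ui * (b - 2 * ρ) = 1 := by rw [← huu]; exact Units.inv_mul uu
  have hπui : π (ι ui) = 1 := by
    have := congrArg (fun x => π (ι x)) hui1
    simp only [map_mul, map_sub, map_ofNat, map_one] at this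
    rw [hπb, hπρ] at this
    linear_combination this
  set e : R' := j ui * (ε' - j ρ) with he
  have hee : e * e = e := by
    rw [he]
    have h1 : j ui * (j b - 2 * j ρ) = 1 := by
      have := congrArg j hui1
      simpa only [map_mul, map_sub, map_ofNat, map_one] using this
    have h2 : j ρ * j ρ - (j b * j ρ + j a) = 0 := by
      rw [← map_mul, ← map_mul, ← map_add, ← map_sub, hρ, map_zero]
    linear_combination (j ui * j ui) * hrel - (j ui * j ui) * h2 + (j ui * (ε' - j ρ)) * h1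
  -- Stage 7
  have hd0 : e - ε = 0 := by
    refine eq_zero_of_cube (H' := H') ε' (e - ε) (ι a) (ι b) (ι ui - 1) (-(ι (ui * ρ) + h))
      (by rw [← hj, ← hj]; exact hrel) ?_ ?_ ?_ ?_
    · rw [← Ideal.Quotient.eq_zero_iff_mem]
      show π (ι ui - 1) = 0
      rw [map_sub, hπui, map_one, sub_self]
    · rw [← Ideal.Quotient.eq_zero_iff_mem]
      show π (-(ι (ui * ρ) + h)) = 0
      rw [map_neg, map_add, map_mul, map_mul, hπui, hπρ]
      ring
    · rw [he]
      have e1 : ε = ε' + ι' h := by rw [hε']; ring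
      rw [e1, hj ui, hj ρ]
      simp only [map_sub, map_neg, map_add, map_mul, map_one, ι']
      ring
    · linear_combination (e + 1 - 3 * ε) * hee + (3 * e - ε - 1) * hε.eq
  have heε : ε = e := (sub_eq_zero.mp hd0).symm
  refine ⟨N + 1, fun y hy => ⟨ui * (a0 ⟨y, hy⟩ - y * ρ), ?_⟩⟩
  have e1 := hε'c ⟨y, hy⟩
  rw [hsm] at e1
  simp only at e1
  rw [heε, he, hsm]
  show _ = j (ui * (a0 ⟨y, hy⟩ - y * ρ))
  rw [map_mul, map_sub, map_mul, ← e1]
  ring

end Core

end Groth.Agent.Helper2.IdemDesc
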