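import Mathlib
import Groth.Prelude
import Groth.Agent.Helper2.IdemDesc2
import Groth.Agent.Helper2.C2Flat1

set_option autoImplicit false
set_option linter.style.haveILetI false

/-! Ideal form of the core, and uniqueness of the minimal prime of a one-dimensional branch of the
completion of a henselian local domain. -/

namespace Groth.Agent.Helper2.IdemDesc

open IsLocalRing

variable {H H' : Type*} [CommRing H] [IsNoetherianRing H] [HenselianLocalRing H]
  [CommRing H'] [IsLocalRing H'] [Algebra H H'] [Module.Flat H H']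

theorem core_ideal (hmax : maximalIdeal H' = (maximalIdeal H).map (algebraMap H H'))
    (hsurj : ∀ n : ℕ, ∀ x : H', ∃ a : H,
      x - algebraMap H H' a ∈ ((maximalIdeal H) ^ n).map (algebraMap H H'))
    (I₁ I₂ : Ideal H') (hI : I₁ ⊓ I₂ = ⊥) (N : ℕ)
    (hN : ((maximalIdeal H) ^ N).map (algebraMap H H') ≤ I₁ ⊔ I₂) :
    ∃ k : ℕ, ∀ y ∈ (maximalIdeal H) ^ k, ∃ a : H,
      algebraMap H H' a ∈ I₂ ∧ algebraMap H H' (y - a) ∈ I₁ := by
  let R' := (H' ⧸ I₁) × (H' ⧸ I₂)
  have hinj : Function.Injective (algebraMap H' R') := by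
    rw [injective_iff_map_eq_zero]
    intro x hx
    have h1 : Ideal.Quotient.mk I₁ x = 0 := congrArg Prod.fst hx
    have h2 : Ideal.Quotient.mk I₂ x = 0 := congrArg Prod.snd hx
    rw [Ideal.Quotient.eq_zero_iff_mem] at h1 h2
    have : x ∈ I₁ ⊓ I₂ := ⟨h1, h2⟩
    rwa [hI, Ideal.mem_bot] at this
  let ε : R' := (1, 0)
  have hε : IsIdempotentElem ε := by
    show ((1 : H' ⧸ I₁), (0 : H' ⧸ I₂)) * (1, 0) = (1, 0)
    rw [Prod.mk_mul_mk, mul_one, mul_zero]
  have hN' : ∀ y ∈ (maximalIdeal H) ^ N, ∃ z : H', y • ε = algebraMap H' R' z := by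
    intro y hy
    have := hN (Ideal.mem_map_of_mem _ hy)
    obtain ⟨x₁, hx₁, x₂, hx₂, hsum⟩ := Submodule.mem_sup.mp this
    refine ⟨x₂, ?_⟩
    ext
    · show y • (1 : H' ⧸ I₁) = Ideal.Quotient.mk I₁ x₂
      rw [Algebra.smul_def, mul_one]
      show Ideal.Quotient.mk I₁ (algebraMap H H' y) = _
      rw [← hsum, map_add, Ideal.Quotient.eq_zero_iff_mem.mpr hx₁, zero_add]
    · show y • (0 : H' ⧸ I₂) = Ideal.Quotient.mk I₂ x₂
      rw [smul_zero, Ideal.Quotient.eq_zero_iff_mem.mpr hx₂]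
  obtain ⟨k, hk⟩ := core (H := H) (H' := H') (R' := R') hmax hsurj hinj ε hε N hN'
  refine ⟨k, fun y hy => ?_⟩
  obtain ⟨a, ha⟩ := hk y hy
  refine ⟨a, ?_, ?_⟩
  · have h2 : y • (0 : H' ⧸ I₂) = Ideal.Quotient.mk I₂ (algebraMap H H' a) := congrArg Prod.snd ha
    rw [smul_zero] at h2
    exact Ideal.Quotient.eq_zero_iff_mem.mp h2.symm
  · have h1 : y • (1 : H' ⧸ I₁) = Ideal.Quotient.mk I₁ (algebraMap H H' a) := congrArg Prod.fst ha
    rw [Algebra.smul_def, mul_one] at h1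
    rw [map_sub, ← Ideal.Quotient.eq_zero_iff_mem, map_sub, sub_eq_zero]
    exact h1

section ThmB

variable [IsDomain H] [IsNoetherianRing H']

/-- fg ideals inside the kernel of the localisation at `q` are killed by a single element
outside `q`. -/
theorem exists_kill (q : Ideal H') [q.IsPrime] (J : Ideal H') (hJ : J.FG)
    (hle : ∀ x ∈ J, ∃ s ∉ q, s * x = 0) : ∃ s ∉ q, ∀ x ∈ J, s * x = 0 := by
  revert hle
  refine Submodule.fg_induction (motive := fun J _ => (∀ x ∈ J, ∃ s ∉ q, s * x = 0) →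
    ∃ s ∉ q, ∀ x ∈ J, s * x = 0) ?_ ?_ J hJ
  · intro x hx
    obtain ⟨s, hs, hsx⟩ := hx x (Submodule.mem_span_singleton_self x)
    refine ⟨s, hs, fun y hy => ?_⟩
    obtain ⟨a, rfl⟩ := Submodule.mem_span_singleton.mp hy
    rw [smul_eq_mul, mul_left_comm, hsx, mul_zero]
  · intro J₁ J₂ _ _ h₁ h₂ h
    obtain ⟨s₁, hs₁, e₁⟩ := h₁ (fun x hx => h x (Submodule.mem_sup_left hx))
    obtain ⟨s₂, hs₂, e₂⟩ := h₂ (fun x hx => h x (Submodule.mem_sup_right hx))
    refine ⟨s₁ * s₂, fun hmem => (Ideal.IsPrime.mem_or_mem inferInstance hmem).elim hs₁ hs₂,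
      fun x hx => ?_⟩
    obtain ⟨x₁, hx₁, x₂, hx₂, rfl⟩ := Submodule.mem_sup.mp hx
    have a1 := e₁ x₁ hx₁
    have a2 := e₂ x₂ hx₂
    linear_combination s₂ * a1 + s₁ * a2

theorem unique_minimalPrime (hmax : maximalIdeal H' = (maximalIdeal H).map (algebraMap H H'))
    (hsurj : ∀ n : ℕ, ∀ x : H', ∃ a : H,
      x - algebraMap H H' a ∈ ((maximalIdeal H) ^ n).map (algebraMap H H'))
    (q : Ideal H') (hq : q ∈ minimalPrimes H') (hdim : ringKrullDim (H' ⧸ q) = 1) :
    ∀ p ∈ minimalPrimes H', p = q := by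
  haveI hqp : q.IsPrime := hq.1.1
  set m := maximalIdeal H with hm
  set M := maximalIdeal H' with hM
  let ι := algebraMap H H'
  -- primes strictly above q are maximal
  have hqM : q ≠ M := by
    intro h
    have : IsField (H' ⧸ q) := by
      rw [← Ideal.Quotient.maximal_ideal_iff_isField_quotient, h]
      exact maximalIdeal.isMaximal H'
    rw [ringKrullDim_eq_zero_of_isField this] at hdim
    exact zero_ne_one hdim
  have habove : ∀ P : Ideal H', P.IsPrime → q ≤ P → P ≠ q → P = M := by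
    intro P hP hqP hne
    by_contra hPM
    have h1 : q < P := lt_of_le_of_ne hqP (Ne.symm hne)
    have h2 : P < M := lt_of_le_of_ne (IsLocalRing.le_maximalIdeal hP.ne_top) hPM
    haveI := hP
    have := Groth.Agent.Helper2.C2Flat.two_le_dim_quotient H' q P M h1 h2
    rw [hdim] at this
    exact absurd this (by norm_num)
  -- a nonzero element of m
  have hmne : m ≠ ⊥ := by
    intro h
    have : M = ⊥ := by rw [hmax, h, Ideal.map_bot]
    have hqle : q ≤ M := IsLocalRing.le_maximalIdeal hqp.ne_top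
    rw [this, le_bot_iff] at hqle
    exact hqM (hqle.trans this.symm)
  obtain ⟨t, htm, ht0⟩ := Submodule.exists_mem_ne_zero_of_ne_bot hmne
  have hreg : ∀ k : ℕ, IsSMulRegular H' (ι (t ^ k)) := by
    intro k
    apply IsSMulRegular.of_flat
    exact (isRegular_of_ne_zero (pow_ne_zero k ht0)).left.isSMulRegular
  have hιinj : Function.Injective ι := by
    rw [injective_iff_map_eq_zero]
    intro x hx
    by_contra hx0
    have hr : IsSMulRegular H' (ι x) :=
      IsSMulRegular.of_flat (isRegular_of_ne_zero hx0).left.isSMulRegular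
    rw [hx] at hr
    have : (1 : H') = 0 := hr (by simp)
    exact one_ne_zero this
  -- I₁
  let A := Localization.AtPrime q
  set I₁ : Ideal H' := RingHom.ker (algebraMap H' A) with hI₁
  have hI₁mem : ∀ x, x ∈ I₁ ↔ ∃ s ∉ q, s * x = 0 := by
    intro x
    rw [hI₁, RingHom.mem_ker, IsLocalization.map_eq_zero_iff q.primeCompl]
    constructor
    · rintro ⟨s, hs⟩
      exact ⟨s.1, s.2, hs⟩
    · rintro ⟨s, hs, e⟩
      exact ⟨⟨s, hs⟩, e⟩
  have hI₁q : I₁ ≤ q := by
    intro x hx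
    obtain ⟨s, hs, e⟩ := (hI₁mem x).mp hx
    have : s * x ∈ q := e ▸ q.zero_mem
    exact (hqp.mem_or_mem this).resolve_left hs
  have hqrad : q ≤ I₁.radical := by
    intro x hx
    have h1 := IsLocalization.AtPrime.radical_map_of_mem_minimalPrimes (A := A) q ⊥ hq
    have h2 : algebraMap H' A x ∈ (Ideal.map (algebraMap H' A) ⊥).radical := by
      rw [h1]; exact Ideal.mem_map_of_mem _ hx
    rw [Ideal.map_bot] at h2
    obtain ⟨n, hn⟩ := h2
    refine ⟨n, ?_⟩
    rw [hI₁, RingHom.mem_ker, map_pow]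
    exact hn
  obtain ⟨n, hn⟩ := Ideal.exists_pow_le_of_le_radical_of_fg hqrad
    ((isNoetherianRing_iff_ideal_fg H').mp inferInstance q)
  obtain ⟨s, hsq, hs⟩ := exists_kill q (q ^ n) ((isNoetherianRing_iff_ideal_fg H').mp inferInstance _)
    (fun x hx => (hI₁mem x).mp (hn hx))
  set I₂ : Ideal H' := Submodule.annihilator (q ^ n) with hI₂
  have hsI₂ : s ∈ I₂ := by
    rw [hI₂, Submodule.mem_annihilator]
    exact fun x hx => hs x hx
  have hMfg : M.FG := (isNoetherianRing_iff_ideal_fg H').mp inferInstance M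
  have hMpow : ∀ k : ℕ, ι (t ^ k) ∈ M ^ k := by
    intro k
    rw [map_pow]
    exact Ideal.pow_mem_pow (hmax ▸ Ideal.mem_map_of_mem _ htm) k
  -- I₁ ⊓ I₂ = ⊥
  have hI : I₁ ⊓ I₂ = ⊥ := by
    rw [eq_bot_iff]
    rintro x ⟨hx₁, hx₂⟩
    obtain ⟨s', hs', e'⟩ := (hI₁mem x).mp hx₁
    rw [SetLike.mem_coe, hI₂, Submodule.mem_annihilator] at hx₂
    let J : Ideal H' := Ideal.span {s'} ⊔ q ^ n
    have hJx : ∀ y ∈ J, y * x = 0 := by
      intro y hy
      obtain ⟨y₁, hy₁, y₂, hy₂, rfl⟩ := Submodule.mem_sup.mp hy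
      obtain ⟨a, rfl⟩ := Ideal.mem_span_singleton'.mp hy₁
      have := hx₂ y₂ hy₂
      rw [smul_eq_mul, mul_comm] at this
      rw [add_mul, mul_assoc, e', mul_zero, this, add_zero]
    have hMrad : M ≤ J.radical := by
      rw [Ideal.radical_eq_sInf]
      refine le_sInf ?_
      rintro P ⟨hJP, hP⟩
      have hqP : q ≤ P := hP.le_of_pow_le ((le_sup_right : q ^ n ≤ J).trans hJP)
      have hne : P ≠ q := by
        rintro rfl
        exact hs' (hJP (Submodule.mem_sup_left (Ideal.mem_span_singleton_self s')))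
      rw [habove P hP hqP hne]
    obtain ⟨k, hk⟩ := Ideal.exists_pow_le_of_le_radical_of_fg hMrad hMfg
    have := hJx _ (hk (hMpow k))
    have h0 : ι (t ^ k) • x = ι (t ^ k) • (0 : H') := by rw [smul_eq_mul, this, smul_zero]
    exact hreg k h0
  -- N
  have hsup : M ≤ (I₁ ⊔ I₂).radical := by
    rw [Ideal.radical_eq_sInf]
    refine le_sInf ?_
    rintro P ⟨hJP, hP⟩
    have hqP : q ≤ P := hP.le_of_pow_le (hn.trans ((le_sup_left : I₁ ≤ I₁ ⊔ I₂).trans hJP))
    have hne : P ≠ q := by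
      rintro rfl
      exact hsq (hJP (Submodule.mem_sup_right hsI₂))
    rw [habove P hP hqP hne]
  obtain ⟨N, hN⟩ := Ideal.exists_pow_le_of_le_radical_of_fg hsup hMfg
  have hN' : ((maximalIdeal H) ^ N).map (algebraMap H H') ≤ I₁ ⊔ I₂ := by
    rw [Ideal.map_pow, ← hmax]
    exact hN
  obtain ⟨k, hk⟩ := core_ideal (H := H) (H' := H') hmax hsurj I₁ I₂ hI N hN'
  obtain ⟨a, ha₂, ha₁⟩ := hk (t ^ k) (Ideal.pow_mem_pow htm k)
  have hprod : a * (t ^ k - a) = 0 := by
    apply hιinj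
    rw [map_zero, map_mul]
    have : ι a * ι (t ^ k - a) ∈ I₁ ⊓ I₂ := ⟨I₁.mul_mem_left _ ha₁, I₂.mul_mem_right _ ha₂⟩
    rwa [hI, Ideal.mem_bot] at this
  rcases mul_eq_zero.mp hprod with h0 | h0
  · -- a = 0
    exfalso
    rw [h0, sub_zero] at ha₁
    obtain ⟨s', hs', e'⟩ := (hI₁mem _).mp ha₁
    have h1 : ι (t ^ k) • s' = ι (t ^ k) • (0 : H') := by
      rw [smul_eq_mul, mul_comm, e', smul_zero]
    have := hreg k h1
    exact hs' (this ▸ q.zero_mem)
  · -- a = t^k
    have hat : a = t ^ k := (sub_eq_zero.mp h0).symm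
    rw [hat, hI₂, Submodule.mem_annihilator] at ha₂
    have hqn : q ^ n = ⊥ := by
      rw [eq_bot_iff]
      intro x hx
      have h1 : ι (t ^ k) • x = ι (t ^ k) • (0 : H') := by rw [ha₂ x hx, smul_zero]
      exact hreg k h1
    intro p hp
    have hqp' : q ≤ p := hp.1.1.le_of_pow_le (hqn ▸ bot_le)
    exact le_antisymm (hp.2 ⟨hqp, bot_le⟩ hqp') hqp'

end ThmB

end Groth.Agent.Helper2.IdemDesc
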