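import Mathlib
import Groth.Prelude
import Groth.Agent.Helper2.IdemDesc3
import Groth.Agent.Helper2.ComplHensMin
import Groth.Agent.Helper2.ComplLocFlat
import Groth.Agent.Helper2.HensInt
import Groth.Agent.Helper2.CplQuot

set_option autoImplicit false
set_option linter.style.haveILetI false

/-! Quotient transfer of the "completion-like" hypotheses, and `S9242`. -/

universe u

namespace Groth.Agent.Helper2.IdemDesc

open IsLocalRing TensorProduct

section Flat

variable (R S : Type*) [CommRing R] [CommRing S] [Algebra R S]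

theorem flat_quotient_map [Module.Flat R S] (I : Ideal R) :
    Module.Flat (R ⧸ I) (S ⧸ I.map (algebraMap R S)) := by
  let e₁ := Algebra.TensorProduct.quotIdealMapEquivTensorQuot S I
  let e₂ := Algebra.TensorProduct.comm R S (R ⧸ I)
  let e : (S ⧸ I.map (algebraMap R S)) ≃+* (R ⧸ I) ⊗[R] S := e₁.toRingEquiv.trans e₂.toRingEquiv
  have he : ∀ (r : R ⧸ I) (x : S ⧸ I.map (algebraMap R S)), e (r • x) = r • e x := by
    intro r x
    obtain ⟨r, rfl⟩ := Ideal.Quotient.mk_surjective r
    have hsm : ∀ (r : R ⧸ I) (y : (R ⧸ I) ⊗[R] S),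
        r • y = algebraMap (R ⧸ I) ((R ⧸ I) ⊗[R] S) r * y := by
      intro r y
      induction y using TensorProduct.induction_on with
      | zero => simp
      | tmul a b =>
        rw [Algebra.TensorProduct.algebraMap_apply, Algebra.algebraMap_self, RingHom.id_apply,
          Algebra.TensorProduct.tmul_mul_tmul, one_mul, TensorProduct.smul_tmul', smul_eq_mul]
      | add a b ha hb => rw [smul_add, ha, hb, mul_add]
    rw [Algebra.smul_def, map_mul, hsm]
    congr 1
    rw [Ideal.Quotient.algebraMap_quotient_map_quotient]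
    show e₂ (e₁ (algebraMap S _ (algebraMap R S r))) = _
    rw [AlgEquiv.commutes, Algebra.TensorProduct.algebraMap_apply, Algebra.algebraMap_self,
      RingHom.id_apply, Algebra.TensorProduct.comm_tmul, Algebra.TensorProduct.algebraMap_apply,
      Algebra.algebraMap_self, RingHom.id_apply, Algebra.algebraMap_eq_smul_one,
      ← TensorProduct.smul_tmul, ← Algebra.algebraMap_eq_smul_one]
    rfl
  let l : (S ⧸ I.map (algebraMap R S)) ≃ₗ[R ⧸ I] (R ⧸ I) ⊗[R] S :=
    { e.toAddEquiv with map_smul' := he }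
  exact Module.Flat.of_linearEquiv l

end Flat

section Transfer

theorem map_mk_maximalIdeal {T : Type*} [CommRing T] [IsLocalRing T] (J : Ideal T)
    [IsLocalRing (T ⧸ J)] :
    (maximalIdeal T).map (Ideal.Quotient.mk J) = maximalIdeal (T ⧸ J) := by
  rcases Ideal.map_eq_top_or_isMaximal_of_surjective (Ideal.Quotient.mk J)
    Ideal.Quotient.mk_surjective (maximalIdeal.isMaximal T) with h | h
  · exfalso
    have hJ : J ≤ maximalIdeal T := by
      apply IsLocalRing.le_maximalIdeal
      intro hJ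
      have : Subsingleton (T ⧸ J) := by rw [hJ]; exact Ideal.Quotient.subsingleton_iff.mpr rfl
      exact not_subsingleton (T ⧸ J) this
    have h1 : (1 : T ⧸ J) ∈ (maximalIdeal T).map (Ideal.Quotient.mk J) := h ▸ Submodule.mem_top
    rw [← map_one (Ideal.Quotient.mk J),
      Ideal.mem_map_iff_of_surjective _ Ideal.Quotient.mk_surjective] at h1
    obtain ⟨x, hx, hx1⟩ := h1
    have : x - 1 ∈ J := by rw [← Ideal.Quotient.eq_zero_iff_mem, map_sub, hx1, sub_self]
    have h2 : (1 : T) ∈ maximalIdeal T := by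
      have := (maximalIdeal T).sub_mem hx (hJ this)
      simpa using this
    exact (maximalIdeal.isMaximal T).ne_top ((Ideal.eq_top_iff_one _).mpr h2)
  · exact IsLocalRing.eq_maximalIdeal h


variable {H H' : Type*} [CommRing H] [IsLocalRing H]
  [CommRing H'] [IsLocalRing H'] [Algebra H H']

/-- transfer of the two "completion-like" hypotheses to quotients -/
theorem transfer (hmax : maximalIdeal H' = (maximalIdeal H).map (algebraMap H H'))
    (hsurj : ∀ n : ℕ, ∀ x : H', ∃ a : H,
      x - algebraMap H H' a ∈ ((maximalIdeal H) ^ n).map (algebraMap H H'))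
    (I : Ideal H) [IsLocalRing (H ⧸ I)] [IsLocalRing (H' ⧸ I.map (algebraMap H H'))] :
    (maximalIdeal (H' ⧸ I.map (algebraMap H H')) =
      (maximalIdeal (H ⧸ I)).map (algebraMap (H ⧸ I) (H' ⧸ I.map (algebraMap H H')))) ∧
    ∀ n : ℕ, ∀ x : H' ⧸ I.map (algebraMap H H'), ∃ a : H ⧸ I,
      x - algebraMap (H ⧸ I) (H' ⧸ I.map (algebraMap H H')) a ∈
        ((maximalIdeal (H ⧸ I)) ^ n).map (algebraMap (H ⧸ I) (H' ⧸ I.map (algebraMap H H'))) := by
  set K := I.map (algebraMap H H') with hK
  have hcomp : (algebraMap (H ⧸ I) (H' ⧸ K)).comp (Ideal.Quotient.mk I) =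
      (Ideal.Quotient.mk K).comp (algebraMap H H') := by
    ext x
    rfl
  have hpow : ∀ n : ℕ, ((maximalIdeal (H ⧸ I)) ^ n).map (algebraMap (H ⧸ I) (H' ⧸ K)) =
      (((maximalIdeal H) ^ n).map (algebraMap H H')).map (Ideal.Quotient.mk K) := by
    intro n
    rw [← map_mk_maximalIdeal I, ← Ideal.map_pow, Ideal.map_map, hcomp, ← Ideal.map_map]
  refine ⟨?_, fun n x => ?_⟩
  · have := hpow 1
    rw [pow_one, pow_one] at this
    rw [this, ← hmax, map_mk_maximalIdeal K]
  · obtain ⟨x, rfl⟩ := Ideal.Quotient.mk_surjective x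
    obtain ⟨a, ha⟩ := hsurj n x
    refine ⟨Ideal.Quotient.mk I a, ?_⟩
    rw [hpow n]
    have := Ideal.mem_map_of_mem (Ideal.Quotient.mk K) ha
    rw [map_sub] at this
    exact this

end Transfer

section S9242

open Groth.Agent.Helper1.Hens

variable (A S : Type u) [CommRing A] [IsLocalRing A] [IsNoetherianRing A] [CommRing S]
  [IsLocalRing S] [Algebra A S] [IsLocalHom (algebraMap A S)] [Hensel.IsHenselization A S]
  (ψ : S →+* AdicCompletion (maximalIdeal A) A)
  (hψ : ψ.comp (algebraMap A S) = algebraMap A (AdicCompletion (maximalIdeal A) A))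

include hψ in
/-- the "completion-like" hypotheses hold for the map from the henselization to the completion -/
theorem hens_cpl_hyps :
    (maximalIdeal (AdicCompletion (maximalIdeal A) A) = (maximalIdeal S).map ψ) ∧
    ∀ (n : ℕ) (x : AdicCompletion (maximalIdeal A) A), ∃ a : S,
      x - ψ a ∈ ((maximalIdeal S) ^ n).map ψ := by
  have hmS := map_maximalIdeal_of_isHenselization A S
  refine ⟨?_, fun n x => ?_⟩
  · rw [AdicCompletion.maximalIdeal_eq_map, ← hmS, Ideal.map_map, hψ]
  · obtain ⟨a, ha⟩ := Groth.Agent.Helper2.ComplLocFlat.exists_sub_mem (maximalIdeal A)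
      ((isNoetherianRing_iff_ideal_fg A).mp inferInstance _) n x
    refine ⟨algebraMap A S a, ?_⟩
    have h1 : ψ (algebraMap A S a) = algebraMap A (AdicCompletion (maximalIdeal A) A) a := by
      rw [← hψ]; rfl
    rw [h1, ← hmS, ← Ideal.map_pow, Ideal.map_map, hψ]
    exact ha

include hψ in
theorem s9242 (q : Ideal (AdicCompletion (maximalIdeal A) A))
    (hq : q ∈ minimalPrimes (AdicCompletion (maximalIdeal A) A))
    (hdim : ringKrullDim (AdicCompletion (maximalIdeal A) A ⧸ q) = 1) :
    ∃ q' ∈ minimalPrimes S, (Ideal.map ψ q').radical = q := by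
  haveI hNS : IsNoetherianRing S := isNoetherianRing_of_isHenselization A S
  haveI hHS : HenselianLocalRing S := Hensel.IsHenselization.henselian (R := A)
  haveI hNC : IsNoetherianRing (AdicCompletion (maximalIdeal A) A) :=
    Groth.Agent.S0543.result A (maximalIdeal A)
  letI := ψ.toAlgebra
  haveI hff := Groth.Agent.Helper2.ComplHensMin.faithfullyFlat A S ψ hψ
  have halg : algebraMap S (AdicCompletion (maximalIdeal A) A) = ψ := rfl
  obtain ⟨hmax, hsurj⟩ := hens_cpl_hyps A S ψ hψ
  haveI hqp : q.IsPrime := hq.1.1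
  set q' : Ideal S := q.comap ψ with hq'
  have hq'min : q' ∈ minimalPrimes S := (Groth.Agent.Helper2.ComplHensMin.s9240 A S ψ hψ).1 hq
  haveI hq'p : q'.IsPrime := hq'min.1.1
  refine ⟨q', hq'min, ?_⟩
  set K : Ideal (AdicCompletion (maximalIdeal A) A) := q'.map (algebraMap S _) with hK
  have hKq : K ≤ q := Ideal.map_comap_le
  -- the quotient rings
  haveI : Nontrivial (S ⧸ q') := Ideal.Quotient.nontrivial_iff.mpr hq'p.ne_top
  haveI : IsLocalRing (S ⧸ q') :=
    IsLocalRing.of_surjective' (Ideal.Quotient.mk q') Ideal.Quotient.mk_surjective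
  haveI : Nontrivial (AdicCompletion (maximalIdeal A) A ⧸ K) :=
    Ideal.Quotient.nontrivial_iff.mpr (fun h => hqp.ne_top (top_le_iff.mp (h ▸ hKq)))
  haveI : IsLocalRing (AdicCompletion (maximalIdeal A) A ⧸ K) :=
    IsLocalRing.of_surjective' (Ideal.Quotient.mk K) Ideal.Quotient.mk_surjective
  haveI : IsDomain (S ⧸ q') := Ideal.Quotient.isDomain q'
  haveI : Algebra.IsIntegral S (S ⧸ q') :=
    Algebra.isIntegral_of_surjective Ideal.Quotient.mk_surjective
  haveI : HenselianLocalRing (S ⧸ q') :=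
    Groth.Agent.Helper2.HensInt.henselianLocalRing_of_isIntegral S (S ⧸ q')
  haveI : Module.Flat (S ⧸ q') (AdicCompletion (maximalIdeal A) A ⧸ K) :=
    flat_quotient_map S (AdicCompletion (maximalIdeal A) A) q'
  obtain ⟨hmax', hsurj'⟩ := transfer (H := S) (H' := AdicCompletion (maximalIdeal A) A)
    hmax hsurj q'
  -- the minimal prime downstairs
  let mk := Ideal.Quotient.mk K
  have hmks : Function.Surjective mk := Ideal.Quotient.mk_surjective
  have hker : RingHom.ker mk = K := Ideal.mk_ker
  have hminK : q ∈ K.minimalPrimes :=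
    ⟨⟨hqp, hKq⟩, fun p hp hpq => hq.2 ⟨hp.1, bot_le⟩ hpq⟩
  have hminset : minimalPrimes (AdicCompletion (maximalIdeal A) A ⧸ K) =
      Ideal.map mk '' K.minimalPrimes := by
    have := Ideal.minimalPrimes_map_of_surjective hmks (⊥ : Ideal (AdicCompletion (maximalIdeal A) A))
    rw [Ideal.map_bot, hker, bot_sup_eq] at this
    exact this
  have hqbar : q.map mk ∈ minimalPrimes (AdicCompletion (maximalIdeal A) A ⧸ K) := by
    rw [hminset]; exact ⟨q, hminK, rfl⟩
  have hdim' : ringKrullDim ((AdicCompletion (maximalIdeal A) A ⧸ K) ⧸ q.map mk) = 1 := by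
    rw [← hdim]
    exact ringKrullDim_eq_of_ringEquiv (DoubleQuot.quotQuotEquivQuotOfLE hKq)
  have huniq := unique_minimalPrime (H := S ⧸ q') (H' := AdicCompletion (maximalIdeal A) A ⧸ K)
    hmax' hsurj' (q.map mk) hqbar hdim'
  have hcm : ∀ p : Ideal (AdicCompletion (maximalIdeal A) A), K ≤ p → (p.map mk).comap mk = p := by
    intro p hp
    rw [Ideal.comap_map_of_surjective _ hmks, ← RingHom.ker_eq_comap_bot, hker]
    exact sup_eq_left.2 hp
  have hall : ∀ p ∈ K.minimalPrimes, p = q := by
    intro p hp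
    have h1 : p.map mk ∈ minimalPrimes (AdicCompletion (maximalIdeal A) A ⧸ K) := by
      rw [hminset]; exact ⟨p, hp, rfl⟩
    have h2 := huniq _ h1
    rw [← hcm p hp.1.2, ← hcm q hKq, h2]
  show K.radical = q
  rw [← Ideal.sInf_minimalPrimes]
  apply le_antisymm
  · exact sInf_le hminK
  · exact le_sInf (fun p hp => (hall p hp).ge)

end S9242

end Groth.Agent.Helper2.IdemDesc
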