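import Mathlib
import Groth.Agent.Helper2.IdemDesc4

set_option autoImplicit false

namespace Groth.Agent.Helper2.Ins

open IsLocalRing TensorProduct

universe u

section QuotPow

variable (R : Type u) [CommRing R] [IsLocalRing R] (N : ℕ)

/-- the quotient by a power of the maximal ideal. -/
abbrev QP : Type u := R ⧸ (maximalIdeal R) ^ N

variable {N}

lemma pow_ne_top (hN : 0 < N) : (maximalIdeal R) ^ N ≠ ⊤ := by
  intro h
  have h1 : (maximalIdeal R) ^ N ≤ maximalIdeal R := Ideal.pow_le_self hN.ne'
  rw [h] at h1
  exact (maximalIdeal.isMaximal R).ne_top (top_le_iff.1 h1)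

lemma isLocalRing_QP (hN : 0 < N) : IsLocalRing (QP R N) := by
  haveI : Nontrivial (QP R N) := Ideal.Quotient.nontrivial_iff.2 (pow_ne_top R hN)
  exact IsLocalRing.of_surjective' (Ideal.Quotient.mk _) Ideal.Quotient.mk_surjective

lemma isLocalHom_mk_QP (hN : 0 < N) :
    letI := isLocalRing_QP R hN
    IsLocalHom (Ideal.Quotient.mk ((maximalIdeal R) ^ N)) := by
  letI := isLocalRing_QP R hN
  refine ⟨fun a ha => ?_⟩
  by_contra hna
  have ham : a ∈ maximalIdeal R := (mem_maximalIdeal a).2 hna
  have h1 : (Ideal.Quotient.mk ((maximalIdeal R) ^ N) a) ^ N = 0 := by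
    rw [← map_pow, Ideal.Quotient.eq_zero_iff_mem]
    exact Ideal.pow_mem_pow ham N
  have h2 := ha.pow N
  rw [h1] at h2
  exact not_isUnit_zero h2

lemma mk_mem_maximalIdeal_QP_iff (hN : 0 < N) (x : R) :
    letI := isLocalRing_QP R hN
    Ideal.Quotient.mk ((maximalIdeal R) ^ N) x ∈ maximalIdeal (QP R N) ↔ x ∈ maximalIdeal R := by
  letI := isLocalRing_QP R hN
  haveI := isLocalHom_mk_QP R hN
  rw [mem_maximalIdeal, mem_maximalIdeal, mem_nonunits_iff, mem_nonunits_iff, not_iff_not]
  exact ⟨fun h => isUnit_of_map_unit _ _ h, fun h => h.map _⟩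

lemma maximalIdeal_QP (hN : 0 < N) :
    letI := isLocalRing_QP R hN
    maximalIdeal (QP R N) = (maximalIdeal R).map (Ideal.Quotient.mk ((maximalIdeal R) ^ N)) := by
  letI := isLocalRing_QP R hN
  ext y
  obtain ⟨x, rfl⟩ := Ideal.Quotient.mk_surjective y
  rw [mk_mem_maximalIdeal_QP_iff R hN]
  constructor
  · intro h
    exact Ideal.mem_map_of_mem _ h
  · intro h
    rw [Ideal.mem_map_iff_of_surjective _ Ideal.Quotient.mk_surjective] at h
    obtain ⟨x', hx', hxx'⟩ := h
    have h1 : x' - x ∈ (maximalIdeal R) ^ N := Ideal.Quotient.eq.1 hxx'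
    have h2 : x' - x ∈ maximalIdeal R := Ideal.pow_le_self hN.ne' h1
    have : x = x' - (x' - x) := by ring
    rw [this]
    exact Ideal.sub_mem _ hx' h2

lemma maximalIdeal_QP_pow (hN : 0 < N) :
    letI := isLocalRing_QP R hN
    maximalIdeal (QP R N) ^ N = ⊥ := by
  letI := isLocalRing_QP R hN
  rw [maximalIdeal_QP R hN, ← Ideal.map_pow, Ideal.map_quotient_self]

lemma isNilpotent_maximalIdeal_QP (hN : 0 < N) :
    letI := isLocalRing_QP R hN
    IsNilpotent (maximalIdeal (QP R N)) := by
  letI := isLocalRing_QP R hN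
  exact ⟨N, maximalIdeal_QP_pow R hN⟩

lemma isArtinianRing_QP [IsNoetherianRing R] (hN : 0 < N) : IsArtinianRing (QP R N) := by
  letI := isLocalRing_QP R hN
  exact (isArtinianRing_iff_isNilpotent_maximalIdeal _).2 (isNilpotent_maximalIdeal_QP R hN)

end QuotPow

section FlatQuot

variable {R S : Type u} [CommRing R] [CommRing S] [Algebra R S]

/-- flatness of a quotient, with the target ideal and the structure map given separately. -/
theorem flat_quot_of_flat [Module.Flat R S] (I : Ideal R) (J : Ideal S)
    (hJ : I.map (algebraMap R S) = J) (g : R ⧸ I →+* S ⧸ J)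
    (hg : ∀ r, g (Ideal.Quotient.mk I r) = Ideal.Quotient.mk J (algebraMap R S r)) :
    letI := g.toAlgebra
    Module.Flat (R ⧸ I) (S ⧸ J) := by
  subst hJ
  have hg' : g = algebraMap (R ⧸ I) (S ⧸ I.map (algebraMap R S)) := by
    refine RingHom.ext fun x => ?_
    obtain ⟨r, rfl⟩ := Ideal.Quotient.mk_surjective x
    rw [hg, Ideal.Quotient.algebraMap_quotient_map_quotient]
  subst hg'
  have heq : (algebraMap (R ⧸ I) (S ⧸ I.map (algebraMap R S))).toAlgebra =
      (inferInstance : Algebra (R ⧸ I) (S ⧸ I.map (algebraMap R S))) :=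
    Algebra.algebra_ext _ _ (fun r => rfl)
  show @Module.Flat (R ⧸ I) (S ⧸ I.map (algebraMap R S)) _ _
    (algebraMap (R ⧸ I) (S ⧸ I.map (algebraMap R S))).toAlgebra.toModule
  rw [heq]
  exact Groth.Agent.Helper2.IdemDesc.flat_quotient_map R S I

end FlatQuot

section SpanD

variable {k F : Type u} [Field k] [Field F] [Algebra k F]

/-- the differentials of a set of field generators span the module of differentials. -/
theorem span_D_of_closure (Y : Set F)
    (hY : Subfield.closure (Set.range (algebraMap k F) ∪ Y) = ⊤) :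
    Submodule.span F ((KaehlerDifferential.D k F) '' Y) = ⊤ := by
  set W : Submodule F (Ω[F⁄k]) := Submodule.span F ((KaehlerDifferential.D k F) '' Y) with hW
  let S : Subfield F :=
    { carrier := {x | KaehlerDifferential.D k F x ∈ W}
      mul_mem' := by
        intro a b ha hb
        show KaehlerDifferential.D k F (a * b) ∈ W
        rw [Derivation.leibniz]
        exact Submodule.add_mem _ (Submodule.smul_mem _ _ hb) (Submodule.smul_mem _ _ ha)
      one_mem' := by
        show KaehlerDifferential.D k F 1 ∈ W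
        rw [Derivation.map_one_eq_zero]
        exact Submodule.zero_mem _
      add_mem' := by
        intro a b ha hb
        show KaehlerDifferential.D k F (a + b) ∈ W
        rw [map_add]
        exact Submodule.add_mem _ ha hb
      zero_mem' := by
        show KaehlerDifferential.D k F 0 ∈ W
        rw [map_zero]
        exact Submodule.zero_mem _
      neg_mem' := by
        intro a ha
        show KaehlerDifferential.D k F (-a) ∈ W
        rw [map_neg]
        exact Submodule.neg_mem _ ha
      inv_mem' := by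
        intro a ha
        show KaehlerDifferential.D k F a⁻¹ ∈ W
        rw [Derivation.leibniz_inv]
        exact Submodule.smul_mem _ _ ha }
  have hle : Subfield.closure (Set.range (algebraMap k F) ∪ Y) ≤ S := by
    rw [Subfield.closure_le]
    rintro x (⟨a, rfl⟩ | hx)
    · show KaehlerDifferential.D k F (algebraMap k F a) ∈ W
      rw [Derivation.map_algebraMap]
      exact Submodule.zero_mem _
    · exact Submodule.subset_span ⟨x, hx, rfl⟩
  rw [hY] at hle
  rw [eq_top_iff, ← KaehlerDifferential.span_range_derivation, Submodule.span_le]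
  rintro _ ⟨x, rfl⟩
  exact hle (Subfield.mem_top x)

end SpanD

end Groth.Agent.Helper2.Ins
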