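import Mathlib
import Groth.Agent.Helper2.InsE
import Groth.Agent.Helper2.InsG
import Groth.Agent.Helper2.FFDesc

set_option autoImplicit false

namespace Groth.Agent.Helper2.Ins

open IsLocalRing TensorProduct

universe u

section PartB

variable {k : Type u} [Field k] {P L : Type u} [CommRing P] [IsNoetherianRing P] [Algebra k P]
  [CommRing L] [IsLocalRing L] [IsNoetherianRing L] [Algebra k L] (φ : P →ₐ[k] L)

/-- the prime of `P` under the maximal ideal. -/
noncomputable abbrev pB : Ideal P := Ideal.comap φ.toRingHom (maximalIdeal L)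

instance : (pB φ).IsPrime := Ideal.comap_isPrime _ _

lemma isUnit_of_primeCompl (y : (pB φ).primeCompl) : IsUnit (φ.toRingHom y) := by
  by_contra hy
  exact y.2 ((mem_maximalIdeal _).2 hy)

/-- the induced local homomorphism. -/
noncomputable def psiB : Localization.AtPrime (pB φ) →+* L :=
  IsLocalization.lift (isUnit_of_primeCompl φ)

lemma psiB_algebraMap (x : P) : psiB φ (algebraMap _ _ x) = φ x :=
  IsLocalization.lift_eq (isUnit_of_primeCompl φ) x

lemma psiB_map_maximalIdeal (hmap : (pB φ).map φ.toRingHom = maximalIdeal L) :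
    (maximalIdeal (Localization.AtPrime (pB φ))).map (psiB φ) = maximalIdeal L := by
  have hcomp : (psiB φ).comp (algebraMap P (Localization.AtPrime (pB φ))) = φ.toRingHom :=
    RingHom.ext (psiB_algebraMap φ)
  rw [← Localization.AtPrime.map_eq_maximalIdeal, Ideal.map_map, hcomp, hmap]

variable {N : ℕ} (hN : 0 < N)

set_option maxHeartbeats 3200000 in
include hN in
theorem partB [hLloc : IsLocalRing (QP L N)]
    (hmap : (pB φ).map φ.toRingHom = maximalIdeal L)
    (hflat : letI := (psiB φ).toAlgebra; Module.Flat (Localization.AtPrime (pB φ)) L)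
    (D : Subalgebra k (QP L N)) [IsLocalRing D]
    (hlocal : IsLocalHom (algebraMap D (QP L N)))
    (hflatD : Module.Flat D (QP L N))
    (hmaxD : (maximalIdeal D).map (algebraMap D (QP L N)) = maximalIdeal (QP L N))
    (hess : Algebra.EssFiniteType k D)
    (hPD : ∀ y : P, Ideal.Quotient.mk ((maximalIdeal L) ^ N) (φ y) ∈ D)
    {t : ℕ} (z : Fin t → P)
    (hz : Submodule.span (ResidueField D) (Set.range fun j =>
      KaehlerDifferential.D k (ResidueField D)
        (residue D ⟨Ideal.Quotient.mk ((maximalIdeal L) ^ N) (φ (z j)), hPD (z j)⟩)) = ⊤) :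
    ∃ alg : Algebra (QP (Localization.AtPrime (pB φ)) N) D,
      @Algebra.Etale (QP (Localization.AtPrime (pB φ)) N) D _ _ alg ∧
      ∀ y : P, @algebraMap _ _ _ _ alg
        (Ideal.Quotient.mk _ (algebraMap P (Localization.AtPrime (pB φ)) y)) =
          ⟨Ideal.Quotient.mk ((maximalIdeal L) ^ N) (φ y), hPD y⟩ := by
  classical
  haveI := hlocal
  haveI := hflatD
  haveI := hess
  haveI hPloc : IsLocalRing (QP (Localization.AtPrime (pB φ)) N) := isLocalRing_QP _ hN
  -- the map `P → D`
  let ιP : P →ₐ[k] D := AlgHom.codRestrict ((Ideal.Quotient.mkₐ k ((maximalIdeal L) ^ N)).comp φ) D hPD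
  have hιP : ∀ y, (ιP y : QP L N) = Ideal.Quotient.mk ((maximalIdeal L) ^ N) (φ y) := fun y => rfl
  have hunitsD : ∀ y : (pB φ).primeCompl, IsUnit (ιP.toRingHom y) := by
    intro y
    apply isUnit_of_map_unit (algebraMap D (QP L N))
    show IsUnit (Ideal.Quotient.mk ((maximalIdeal L) ^ N) (φ y))
    exact (isUnit_of_primeCompl φ y).map _
  let ι₁ : Localization.AtPrime (pB φ) →+* D := IsLocalization.lift hunitsD
  have hι₁ : ∀ y, ι₁ (algebraMap _ _ y) = ιP y := fun y => IsLocalization.lift_eq hunitsD y
  have hsq : (D.val.toRingHom).comp ι₁ = (Ideal.Quotient.mk ((maximalIdeal L) ^ N)).comp (psiB φ) := by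
    apply IsLocalization.ringHom_ext (pB φ).primeCompl
    ext y
    simp only [RingHom.comp_apply]
    rw [hι₁, psiB_algebraMap]
    rfl
  have hψmax := psiB_map_maximalIdeal φ hmap
  have hψpow : ∀ x ∈ (maximalIdeal (Localization.AtPrime (pB φ))) ^ N,
      psiB φ x ∈ (maximalIdeal L) ^ N := by
    intro x hx
    have h1 := Ideal.mem_map_of_mem (psiB φ) hx
    rwa [Ideal.map_pow, hψmax] at h1
  have hkill : ∀ x ∈ (maximalIdeal (Localization.AtPrime (pB φ))) ^ N, ι₁ x = 0 := by
    intro x hx
    apply Subtype.ext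
    have h1 := RingHom.congr_fun hsq x
    simp only [RingHom.comp_apply] at h1
    show D.val.toRingHom (ι₁ x) = 0
    rw [h1]
    exact Ideal.Quotient.eq_zero_iff_mem.2 (hψpow x hx)
  let ιD : QP (Localization.AtPrime (pB φ)) N →+* D := Ideal.Quotient.lift _ ι₁ hkill
  have hιD : ∀ x, ιD (Ideal.Quotient.mk _ x) = ι₁ x := fun x => rfl
  letI alg : Algebra (QP (Localization.AtPrime (pB φ)) N) D := ιD.toAlgebra
  let ψbar : QP (Localization.AtPrime (pB φ)) N →+* QP L N := (D.val.toRingHom).comp ιD
  have hψbar : ∀ x, ψbar (Ideal.Quotient.mk _ x) = Ideal.Quotient.mk _ (psiB φ x) := by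
    intro x
    have h1 := RingHom.congr_fun hsq x
    simp only [RingHom.comp_apply] at h1
    exact h1
  letI algL : Algebra (QP (Localization.AtPrime (pB φ)) N) (QP L N) := ψbar.toAlgebra
  haveI tow : IsScalarTower (QP (Localization.AtPrime (pB φ)) N) D (QP L N) :=
    IsScalarTower.of_algebraMap_eq (fun _ => rfl)
  -- flatness
  haveI hflatL : Module.Flat (QP (Localization.AtPrime (pB φ)) N) (QP L N) := by
    letI := (psiB φ).toAlgebra
    haveI := hflat
    have hJ : ((maximalIdeal (Localization.AtPrime (pB φ))) ^ N).map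
        (algebraMap (Localization.AtPrime (pB φ)) L) = (maximalIdeal L) ^ N := by
      rw [Ideal.map_pow]
      congr 1
    exact flat_quot_of_flat _ _ hJ ψbar hψbar
  haveI : Module.FaithfullyFlat D (QP L N) := Module.FaithfullyFlat.of_flat_of_isLocalHom
  haveI hflatPD : Module.Flat (QP (Localization.AtPrime (pB φ)) N) D :=
    Groth.Agent.Helper2.FFDesc.flat_of_flat_comp _ D (QP L N)
  -- maximal ideals
  have hmaxL : (maximalIdeal (QP (Localization.AtPrime (pB φ)) N)).map ψbar =
      maximalIdeal (QP L N) := by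
    rw [maximalIdeal_QP _ hN, maximalIdeal_QP L hN, Ideal.map_map]
    have h1 : ψbar.comp (Ideal.Quotient.mk _) =
        (Ideal.Quotient.mk ((maximalIdeal L) ^ N)).comp (psiB φ) := RingHom.ext hψbar
    rw [h1, ← Ideal.map_map, hψmax]
  have hmaxPD : (maximalIdeal (QP (Localization.AtPrime (pB φ)) N)).map
      (algebraMap (QP (Localization.AtPrime (pB φ)) N) D) = maximalIdeal D := by
    rw [← Ideal.comap_map_eq_self_of_faithfullyFlat (B := QP L N)
      ((maximalIdeal (QP (Localization.AtPrime (pB φ)) N)).map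
        (algebraMap (QP (Localization.AtPrime (pB φ)) N) D)),
      ← Ideal.comap_map_eq_self_of_faithfullyFlat (B := QP L N) (maximalIdeal D), hmaxD,
      Ideal.map_map]
    congr 1
  haveI hlocPD : IsLocalHom (algebraMap (QP (Localization.AtPrime (pB φ)) N) D) := by
    apply ((IsLocalRing.local_hom_TFAE (algebraMap (QP (Localization.AtPrime (pB φ)) N) D)).out
      0 2).2
    rw [hmaxPD]
  -- essential finiteness
  haveI towk : IsScalarTower k (QP (Localization.AtPrime (pB φ)) N) D := by
    apply IsScalarTower.of_algebraMap_eq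
    intro a
    show algebraMap k D a = ιD (algebraMap k (QP (Localization.AtPrime (pB φ)) N) a)
    rw [IsScalarTower.algebraMap_apply k (Localization.AtPrime (pB φ))
      (QP (Localization.AtPrime (pB φ)) N),
      IsScalarTower.algebraMap_apply k P (Localization.AtPrime (pB φ))]
    show _ = ιD (Ideal.Quotient.mk _ _)
    rw [hιD, hι₁, AlgHom.commutes]
  haveI : Algebra.EssFiniteType (QP (Localization.AtPrime (pB φ)) N) D :=
    Algebra.EssFiniteType.of_comp k _ D
  -- separability
  haveI : Algebra.EssFiniteType k (ResidueField D) := Algebra.EssFiniteType.comp k D _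
  haveI : Algebra.IsSeparable (ResidueField (QP (Localization.AtPrime (pB φ)) N))
      (ResidueField D) := by
    refine isSeparable_of_span (k := k)
      (fun j => residue (QP (Localization.AtPrime (pB φ)) N)
        (Ideal.Quotient.mk _ (algebraMap P (Localization.AtPrime (pB φ)) (z j)))) ?_
    rw [← hz]
    congr 2
    funext j
    rw [ResidueField.algebraMap_residue]
    congr 2
    show ιD (Ideal.Quotient.mk _ _) = _
    rw [hιD, hι₁]
    rfl
  refine ⟨alg, ?_, ?_⟩
  · exact etale_of_local (isNilpotent_maximalIdeal_QP _ hN) hmaxPD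
  · intro y
    show ιD (Ideal.Quotient.mk _ _) = _
    rw [hιD, hι₁]
    rfl

end PartB

end Groth.Agent.Helper2.Ins
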