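import Mathlib
import Groth.Prelude.Def_CAlgX
import Groth.Agent.Helper2.H1Inj

set_option autoImplicit false
universe u

namespace Groth.Agent.Helper2.Ins
open IsLocalRing Algebra

/-- injectivity of `H₁(L_{K/A}) → H₁(L_{K/B})` for `A → B` adic formally smooth and `K` a
`B`-algebra killed by a power of the ideal. -/
theorem h1_injective' (A B K : Type u) [CommRing A] [CommRing B] [CommRing K] [Algebra A B]
    [Algebra B K] [Algebra A K] [IsScalarTower A B K] (𝔫 : Ideal B)
    (hfs : CAlgX.IsAdicFormallySmooth A B 𝔫)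
    (hK : ∃ k : ℕ, ∀ x ∈ 𝔫 ^ k, algebraMap B K x = 0) :
    Function.Injective (Algebra.H1Cotangent.map A B K K) := by
  let GA := Algebra.Generators.self A K
  let GB := Algebra.Generators.self B K
  let f : GA.Hom GB := Algebra.Generators.defaultHom GA GB
  change Function.Injective (Extension.H1Cotangent.map f.toExtensionHom)
  rw [injective_iff_map_eq_zero]
  intro x hx
  obtain ⟨g, hg⟩ := Extension.Cotangent.mk_surjective x.1
  have h0 : Extension.Cotangent.map f.toExtensionHom x.1 = 0 := congrArg Subtype.val hx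
  rw [← hg, Extension.Cotangent.map_mk, Extension.Cotangent.mk_eq_zero_iff] at h0
  have h0' : f.toAlgHom g.1 ∈ GB.toExtension.ker ^ 2 := h0
  suffices hsuff : g.1 ∈ GA.toExtension.ker ^ 2 by
    apply Subtype.ext
    rw [← hg]
    exact (Extension.Cotangent.mk_eq_zero_iff g).mpr hsuff
  -- test algebra
  let I : Ideal (MvPolynomial K A) := GA.toExtension.ker
  have hI : ∀ p, p ∈ I ↔ MvPolynomial.aeval (R := A) (fun k : K => k) p = 0 := fun p => by
    rfl
  let π : (MvPolynomial K A ⧸ I ^ 2) →ₐ[A] K :=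
    Ideal.Quotient.liftₐ (I ^ 2) (MvPolynomial.aeval (fun k : K => k)) (fun a ha =>
      (hI a).mp (Ideal.pow_le_self two_ne_zero ha))
  have hπmk : ∀ p, π (Ideal.Quotient.mk (I ^ 2) p) = MvPolynomial.aeval (fun k : K => k) p :=
    fun p => rfl
  have hπ : Function.Surjective π := by
    intro k
    exact ⟨Ideal.Quotient.mk _ (MvPolynomial.X k), by rw [hπmk, MvPolynomial.aeval_X]⟩
  have hker : RingHom.ker (π : (MvPolynomial K A ⧸ I ^ 2) →+* K) = I.map (Ideal.Quotient.mk (I ^ 2)) := by
    ext c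
    obtain ⟨p, rfl⟩ := Ideal.Quotient.mk_surjective c
    rw [RingHom.mem_ker]
    change π (Ideal.Quotient.mk (I ^ 2) p) = 0 ↔ _
    rw [hπmk, ← hI]
    constructor
    · intro hp
      exact Ideal.mem_map_of_mem _ hp
    · intro hp
      rw [Ideal.mem_map_iff_of_surjective _ Ideal.Quotient.mk_surjective] at hp
      obtain ⟨p', hp', hpp'⟩ := hp
      have : p' - p ∈ I ^ 2 := Ideal.Quotient.eq.mp hpp'
      have h2 : p' - p ∈ I := Ideal.pow_le_self two_ne_zero this
      have : p = p' - (p' - p) := by ring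
      rw [this]
      exact Ideal.sub_mem _ hp' h2
  have hsq : (RingHom.ker (π : (MvPolynomial K A ⧸ I ^ 2) →+* K)) ^ 2 = ⊥ := by
    rw [hker, ← Ideal.map_pow, Ideal.map_quotient_self]
  let ψ : B →ₐ[A] K := IsScalarTower.toAlgHom A B K
  have hψ : ∃ k : ℕ, ∀ x ∈ 𝔫 ^ k, ψ x = 0 := hK
  obtain ⟨χ, hχ⟩ := Groth.Agent.Helper2.H1Inj.lift_of_surjective _ hfs π hπ hsq ψ hψ
  let χ' : MvPolynomial K B →+* (MvPolynomial K A ⧸ I ^ 2) :=
    MvPolynomial.eval₂Hom χ.toRingHom (fun k => Ideal.Quotient.mk (I ^ 2) (MvPolynomial.X k))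
  have claim1 : χ'.comp f.toAlgHom.toRingHom = Ideal.Quotient.mk (I ^ 2) := by
    apply MvPolynomial.ringHom_ext
    · intro a
      simp only [RingHom.comp_apply, AlgHom.toRingHom_eq_coe, RingHom.coe_coe]
      rw [Algebra.Generators.Hom.toAlgHom_C]
      simp only [χ', MvPolynomial.coe_eval₂Hom, MvPolynomial.eval₂_C]
      change χ (algebraMap A B a) = _
      rw [AlgHom.commutes]
      rfl
    · intro k
      simp only [RingHom.comp_apply, AlgHom.toRingHom_eq_coe, RingHom.coe_coe]
      rw [Algebra.Generators.Hom.toAlgHom_X]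
      have : f.val k = MvPolynomial.X k := rfl
      rw [this]
      simp only [χ', MvPolynomial.coe_eval₂Hom, MvPolynomial.eval₂_X]
  have claim2 : (π : (MvPolynomial K A ⧸ I ^ 2) →+* K).comp χ' =
      (MvPolynomial.aeval (R := B) (fun k : K => k) : MvPolynomial K B →ₐ[B] K).toRingHom := by
    apply MvPolynomial.ringHom_ext
    · intro b
      simp only [RingHom.comp_apply, AlgHom.toRingHom_eq_coe, RingHom.coe_coe, χ',
        MvPolynomial.coe_eval₂Hom, MvPolynomial.eval₂_C]
      have := AlgHom.congr_fun hχ b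
      rw [MvPolynomial.aeval_C]
      exact this
    · intro k
      simp only [RingHom.comp_apply, AlgHom.toRingHom_eq_coe, RingHom.coe_coe, χ',
        MvPolynomial.coe_eval₂Hom, MvPolynomial.eval₂_X]
      rw [hπmk, MvPolynomial.aeval_X, MvPolynomial.aeval_X]
  have hχ'ker : GB.toExtension.ker.map χ' ≤ RingHom.ker (π : (MvPolynomial K A ⧸ I ^ 2) →+* K) := by
    rw [Ideal.map_le_iff_le_comap]
    intro p hp
    rw [Ideal.mem_comap, RingHom.mem_ker]
    have := RingHom.congr_fun claim2 p
    rw [RingHom.comp_apply] at this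
    exact this.trans hp
  have h3 : χ' (f.toAlgHom g.1) = 0 := by
    have h4 : χ' (f.toAlgHom g.1) ∈ (GB.toExtension.ker ^ 2).map χ' := Ideal.mem_map_of_mem _ h0'
    rw [Ideal.map_pow] at h4
    have h5 := Ideal.pow_right_mono hχ'ker 2 h4
    rwa [hsq] at h5
  have h6 : Ideal.Quotient.mk (I ^ 2) g.1 = 0 := by
    have h7 := RingHom.congr_fun claim1 g.1
    rw [RingHom.comp_apply] at h7
    exact h7.symm.trans h3
  exact Ideal.Quotient.eq_zero_iff_mem.mp h6

/-- finiteness of `H₁(L_{K/k})` for a field `K` which is a quotient of a noetherian local ring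
adic formally smooth over `k`. -/
theorem h1_finite (k B K : Type u) [Field k] [CommRing B] [IsNoetherianRing B] [Field K]
    [Algebra k B] [Algebra B K] [Algebra k K] [IsScalarTower k B K] (𝔫 : Ideal B)
    (hfs : CAlgX.IsAdicFormallySmooth k B 𝔫)
    (hsurj : Function.Surjective (algebraMap B K))
    (hK : ∃ n : ℕ, ∀ x ∈ 𝔫 ^ n, algebraMap B K x = 0) :
    Module.Finite K (Algebra.H1Cotangent k K) := by
  have hinj := h1_injective' k B K 𝔫 hfs hK
  haveI : Algebra.FinitePresentation B K := by
    apply Algebra.FinitePresentation.of_surjective (f := Algebra.ofId B K) hsurj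
    exact IsNoetherian.noetherian _
  haveI : Module.Finite K (Algebra.H1Cotangent B K) := inferInstance
  exact Module.Finite.of_injective (Algebra.H1Cotangent.map k B K K) hinj

end Groth.Agent.Helper2.Ins
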