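import Mathlib
import Groth.Prelude.Def_EGA41
import Groth.Agent.Helper2.ArtA

set_option autoImplicit false

namespace Groth.Agent.Helper2.ArtSub

open EGA41 Groth.Agent.Helper1.PBasis Groth.Agent.Helper1.PBasisField
  Groth.Agent.Helper1.FieldSmooth IsLocalRing
open scoped TensorProduct

universe u

set_option maxHeartbeats 800000 in
/-- A coefficient field which agrees with the structure map on a large subfield of `k`. -/
theorem exists_coeffField {k Λ : Type u} [Field k] (p : ℕ) [hp : Fact p.Prime] [CharP k p]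
    [CommRing Λ] [Algebra k Λ] [IsArtinianRing Λ] [IsLocalRing Λ]
    (hH : Module.Finite (ResidueField Λ) (Algebra.H1Cotangent k (ResidueField Λ))) :
    ∃ (σ : ResidueField Λ →+* Λ) (Z : Finset k),
      (∀ x, residue Λ (σ x) = x) ∧
      Subfield.closure ({a : k | σ (algebraMap k (ResidueField Λ) a) = algebraMap k Λ a} ∪
        (Z : Set k)) = ⊤ := by
  classical
  haveI : CharP (ResidueField Λ) p :=
    charP_of_injective_algebraMap (algebraMap k (ResidueField Λ)).injective p
  haveI : CharP Λ p := charP_of_injective_algebraMap (algebraMap k Λ).injective p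
  letI algFk : Algebra (PF.{u} p) k := (pfHom p k).toAlgebra
  letI algFK : Algebra (PF.{u} p) (ResidueField Λ) :=
    ((algebraMap k (ResidueField Λ)).comp (pfHom p k)).toAlgebra
  haveI : IsScalarTower (PF.{u} p) k (ResidueField Λ) := IsScalarTower.of_algebraMap_eq fun _ => rfl
  have hF := pf_perfect.{u} p
  obtain ⟨B, -, -, hB⟩ := exists_pBasis p (PF.{u} p) (K := k) Set.univ ∅ (Set.empty_subset _)
    (isPGenerating_univ p (PF.{u} p)) ((isPIndependent_val_iff p (PF.{u} p) ∅).mpr (pInd_empty p (PF.{u} p)))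
  obtain ⟨J₀, hJ₀⟩ := exists_finset_linearIndependent p hF (Subtype.val : B → k) hB hH
  haveI hfs := formallySmooth_adjoin p hF (Subtype.val : B → k) J₀ hJ₀
  -- the residue map as an algebra map over `k₀`
  haveI tow : IsScalarTower (IntermediateField.adjoin (PF.{u} p)
      ((Subtype.val : B → k) '' {j | j ∉ J₀})) Λ (ResidueField Λ) :=
    IsScalarTower.of_algebraMap_eq fun _ => rfl
  have hsurj : Function.Surjective (IsScalarTower.toAlgHom (IntermediateField.adjoin (PF.{u} p)
      ((Subtype.val : B → k) '' {j | j ∉ J₀})) Λ (ResidueField Λ)) :=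
    Ideal.Quotient.mk_surjective
  have hnilm : IsNilpotent (maximalIdeal Λ) := by
    have := IsArtinianRing.isNilpotent_jacobson_bot (R := Λ)
    rwa [IsLocalRing.jacobson_eq_maximalIdeal ⊥ bot_ne_top] at this
  have hker : RingHom.ker ((IsScalarTower.toAlgHom (IntermediateField.adjoin (PF.{u} p)
      ((Subtype.val : B → k) '' {j | j ∉ J₀})) Λ (ResidueField Λ)) : Λ →+* ResidueField Λ) =
      maximalIdeal Λ := by
    ext x
    rw [RingHom.mem_ker]
    exact IsLocalRing.residue_eq_zero_iff x
  have hnil : IsNilpotent (RingHom.ker ((IsScalarTower.toAlgHom (IntermediateField.adjoin (PF.{u} p)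
      ((Subtype.val : B → k) '' {j | j ∉ J₀})) Λ (ResidueField Λ)) : Λ →+* ResidueField Λ)) := by
    rw [hker]; exact hnilm
  let σ₀ := Algebra.FormallySmooth.liftOfSurjective (AlgHom.id (IntermediateField.adjoin (PF.{u} p)
      ((Subtype.val : B → k) '' {j | j ∉ J₀})) (ResidueField Λ)) _ hsurj hnil
  have hσ₀ : ∀ x, residue Λ (σ₀ x) = x := by
    intro x
    exact Algebra.FormallySmooth.liftOfSurjective_apply _ _ hsurj hnil x
  obtain ⟨n, hn⟩ := hnilm
  refine ⟨σ₀.toRingHom, J₀.image (Subtype.val : B → k), hσ₀, ?_⟩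
  -- the equalizer contains `p^n`-th powers and the `p`-independent part
  have hpn : n ≤ p ^ n := (Nat.lt_pow_self hp.out.one_lt).le
  have hpow : ∀ a : k, a ^ p ^ n ∈
      {a : k | σ₀.toRingHom (algebraMap k (ResidueField Λ) a) = algebraMap k Λ a} := by
    intro a
    show σ₀ (algebraMap k (ResidueField Λ) (a ^ p ^ n)) = algebraMap k Λ (a ^ p ^ n)
    have hmem : σ₀ (algebraMap k (ResidueField Λ) a) - algebraMap k Λ a ∈ maximalIdeal Λ := by
      rw [← IsLocalRing.residue_eq_zero_iff, map_sub, hσ₀, sub_eq_zero]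
      rfl
    have h0 : (σ₀ (algebraMap k (ResidueField Λ) a) - algebraMap k Λ a) ^ p ^ n = 0 := by
      have h1 : (σ₀ (algebraMap k (ResidueField Λ) a) - algebraMap k Λ a) ^ p ^ n ∈
          maximalIdeal Λ ^ n := Ideal.pow_le_pow_right hpn (Ideal.pow_mem_pow hmem _)
      rw [hn] at h1
      exact h1
    rw [sub_pow_char_pow, sub_eq_zero] at h0
    rw [map_pow, map_pow, map_pow]
    exact h0
  have hy : ∀ j : B, (j : k) ∈ Subfield.closure
      ({a : k | σ₀.toRingHom (algebraMap k (ResidueField Λ) a) = algebraMap k Λ a} ∪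
        ((J₀.image (Subtype.val : B → k) : Finset k) : Set k)) := by
    intro j
    apply Subfield.subset_closure
    by_cases hj : j ∈ J₀
    · right
      exact Finset.mem_coe.2 (Finset.mem_image_of_mem _ hj)
    · left
      have hjmem : (j : k) ∈ IntermediateField.adjoin (PF.{u} p)
          ((Subtype.val : B → k) '' {j | j ∉ J₀}) :=
        IntermediateField.subset_adjoin _ _ ⟨j, hj, rfl⟩
      exact σ₀.commutes ⟨(j : k), hjmem⟩
  rw [eq_top_iff, ← closure_pow_union_eq_top p hF (Subtype.val : B → k) hB.2 n,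
    Subfield.closure_le]
  rintro x (⟨a, rfl⟩ | ⟨j, rfl⟩)
  · exact Subfield.subset_closure (Or.inl (hpow a))
  · exact hy j

end Groth.Agent.Helper2.ArtSub
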