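import Mathlib

set_option autoImplicit false

namespace Groth.Agent.Helper2.ArtSub

open IsLocalRing

universe u

section C1

variable {Λ : Type u} [CommRing Λ] [IsLocalRing Λ] (σ : ResidueField Λ →+* Λ)
  (hσ : ∀ x, residue Λ (σ x) = x)

include hσ in
/-- an additive subgroup containing `1`, stable under the coefficient field and under
multiplication by generators of the (nilpotent) maximal ideal, is everything. -/
theorem top_of_closed {d : ℕ} (lam : Fin d → Λ) (hlam : Ideal.span (Set.range lam) = maximalIdeal Λ)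
    (n : ℕ) (hn : maximalIdeal Λ ^ n = ⊥) (N : AddSubgroup Λ) (h1 : (1 : Λ) ∈ N)
    (hN : ∀ c x, x ∈ N → σ c * x ∈ N) (hNl : ∀ i x, x ∈ N → lam i * x ∈ N) (x : Λ) : x ∈ N := by
  -- `Λ ⊆ N + 𝔪^j` for all `j`
  have key : ∀ j : ℕ, ∀ x : Λ, ∃ y ∈ N, x - y ∈ maximalIdeal Λ ^ j := by
    intro j
    induction j with
    | zero =>
      intro x
      exact ⟨0, N.zero_mem, by simp⟩
    | succ j ih =>
      intro x
      -- x = σ(x̄) + Σ λ_i x_i
      have hx : x - σ (residue Λ x) ∈ maximalIdeal Λ := by
        rw [← residue_eq_zero_iff, map_sub, hσ, sub_self]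
      rw [← hlam] at hx
      obtain ⟨c, hc⟩ := Ideal.mem_span_range_iff_exists_fun.1 hx
      choose y hyN hy using fun i => ih (c i)
      refine ⟨σ (residue Λ x) * 1 + ∑ i, lam i * y i, ?_, ?_⟩
      · exact N.add_mem (hN _ _ h1) (N.sum_mem fun i _ => hNl i _ (hyN i))
      · have : x - (σ (residue Λ x) * 1 + ∑ i, lam i * y i) = ∑ i, (c i - y i) * lam i := by
          have h3 : ∑ i, lam i * y i = ∑ i, y i * lam i :=
            Finset.sum_congr rfl fun i _ => mul_comm _ _
          simp only [sub_mul, Finset.sum_sub_distrib, mul_one]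
          rw [hc, h3]
          ring
        rw [this, pow_succ]
        refine Ideal.sum_mem _ fun i _ => Ideal.mul_mem_mul (hy i) ?_
        rw [← hlam]
        exact Ideal.subset_span ⟨i, rfl⟩
  obtain ⟨y, hy, hxy⟩ := key n x
  rw [hn, Ideal.mem_bot, sub_eq_zero] at hxy
  rw [hxy]
  exact hy

/-- monomials in the generators -/
noncomputable def mon {d : ℕ} (lam : Fin d → Λ) (e : Fin d → ℕ) : Λ := ∏ j, lam j ^ e j

omit [IsLocalRing Λ] in
lemma mon_zero {d : ℕ} (lam : Fin d → Λ) : mon lam 0 = 1 := by
  simp [mon]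

omit [IsLocalRing Λ] in
lemma mon_add_single {d : ℕ} (lam : Fin d → Λ) (e : Fin d → ℕ) (i : Fin d) :
    mon lam (e + Pi.single i 1) = lam i * mon lam e := by
  classical
  unfold mon
  simp only [Pi.add_apply, pow_add, Finset.prod_mul_distrib]
  rw [mul_comm]
  congr 1
  rw [Finset.prod_eq_single i]
  · rw [Pi.single_eq_same, pow_one]
  · intro j _ hj
    rw [Pi.single_apply, if_neg hj, pow_zero]
  · intro h
    exact absurd (Finset.mem_univ _) h

omit [IsLocalRing Λ] in
lemma mon_mem_closure {d : ℕ} (lam : Fin d → Λ) (e : Fin d → ℕ) :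
    mon lam e ∈ Submonoid.closure (Set.range lam) :=
  Submonoid.prod_mem _ fun j _ =>
    Submonoid.pow_mem _ (Submonoid.subset_closure (Set.mem_range_self j)) _

include hσ in
set_option maxHeartbeats 800000 in
/-- a basis of `Λ` over the coefficient field consisting of monomials, containing `1`. -/
theorem exists_monomial_basis {d : ℕ} (lam : Fin d → Λ)
    (hlam : Ideal.span (Set.range lam) = maximalIdeal Λ) (n : ℕ) (hn : maximalIdeal Λ ^ n = ⊥) :
    ∃ (ι : Type) (_ : Fintype ι) (m : ι → Λ) (i₀ : ι), m i₀ = 1 ∧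
      (∀ l, l ≠ i₀ → m l ∈ maximalIdeal Λ) ∧
      (∀ l, m l ∈ Submonoid.closure (Set.range lam)) ∧
      (∀ x : Λ, ∃ c : ι → ResidueField Λ, x = ∑ l, σ (c l) * m l) ∧
      (∀ c : ι → ResidueField Λ, ∑ l, σ (c l) * m l = 0 → c = 0) := by
  classical
  letI modK : Module (ResidueField Λ) Λ := Module.compHom Λ σ
  have hsmul : ∀ (c : ResidueField Λ) (x : Λ), c • x = σ c * x := fun _ _ => rfl
  have hlmem : ∀ i, lam i ∈ maximalIdeal Λ := fun i => hlam ▸ Ideal.subset_span ⟨i, rfl⟩
  -- monomials with a large exponent vanish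
  have hmon0 : ∀ e : Fin d → ℕ, (∃ j, n ≤ e j) → mon lam e = 0 := by
    rintro e ⟨j, hj⟩
    unfold mon
    apply Finset.prod_eq_zero (Finset.mem_univ j)
    have h1 : lam j ^ e j ∈ maximalIdeal Λ ^ n :=
      Ideal.pow_le_pow_right hj (Ideal.pow_mem_pow (hlmem j) _)
    rw [hn] at h1
    exact h1
  -- the span of the monomials is everything
  have htop : ∀ x : Λ, x ∈ Submodule.span (ResidueField Λ) (Set.range (mon lam)) := by
    intro x
    refine top_of_closed σ hσ lam hlam n hn
      (Submodule.span (ResidueField Λ) (Set.range (mon lam))).toAddSubgroup ?_ ?_ ?_ x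
    · exact Submodule.subset_span ⟨0, mon_zero lam⟩
    · intro c y hy
      exact Submodule.smul_mem _ c hy
    · intro i y hy
      change y ∈ Submodule.span (ResidueField Λ) (Set.range (mon lam)) at hy
      change lam i * y ∈ Submodule.span (ResidueField Λ) (Set.range (mon lam))
      induction hy using Submodule.span_induction with
      | mem z hz =>
        obtain ⟨e, rfl⟩ := hz
        rw [← mon_add_single]
        exact Submodule.subset_span ⟨_, rfl⟩
      | zero => rw [mul_zero]; exact Submodule.zero_mem _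
      | add z z' _ _ hz hz' => rw [mul_add]; exact Submodule.add_mem _ hz hz'
      | smul c z _ hz =>
        have : lam i * (c • z) = c • (lam i * z) := by
          rw [hsmul, hsmul]; ring
        rw [this]
        exact Submodule.smul_mem _ c hz
  -- extract a basis
  have hnpos : 0 < n := by
    rcases Nat.eq_zero_or_pos n with h0 | h0
    · subst h0
      rw [pow_zero, Ideal.one_eq_top] at hn
      exact absurd hn top_ne_bot
    · exact h0
  set t : Set (Fin d → ℕ) := {e | ∀ j, e j < n} with ht
  have htfin : t.Finite := by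
    exact Set.Finite.pi' (fun _ => Set.finite_Iio n)
  have h1ne : mon lam 0 ≠ 0 := by
    rw [mon_zero]
    exact one_ne_zero
  have hs : LinearIndepOn (ResidueField Λ) (mon lam) ({0} : Set (Fin d → ℕ)) :=
    LinearIndepOn.singleton h1ne
  have hst : ({0} : Set (Fin d → ℕ)) ⊆ t := by
    intro e he
    rw [Set.mem_singleton_iff] at he
    subst he
    intro j
    exact hnpos
  obtain ⟨b, hbt, h0b, hspan, hli⟩ := exists_linearIndepOn_extension hs hst
  have hbfin : b.Finite := htfin.subset hbt
  haveI : Fintype b := hbfin.fintype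
  have hspan_top : Submodule.span (ResidueField Λ) (mon lam '' b) = ⊤ := by
    rw [eq_top_iff]
    intro x _
    have hx := htop x
    refine Submodule.span_le.2 ?_ hx
    rintro _ ⟨e, rfl⟩
    by_cases he : e ∈ t
    · exact hspan ⟨e, he, rfl⟩
    · have : ∃ j, n ≤ e j := by
        by_contra hcon
        push Not at hcon
        exact he hcon
      rw [hmon0 e this]
      exact Submodule.zero_mem _
  refine ⟨b, inferInstance, fun l => mon lam l.1, ⟨0, h0b rfl⟩, mon_zero lam, ?_, ?_, ?_, ?_⟩
  · rintro ⟨e, heb⟩ hne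
    have he0 : e ≠ 0 := by
      intro h
      apply hne
      exact Subtype.ext h
    obtain ⟨j, hj⟩ : ∃ j, e j ≠ 0 := by
      by_contra hcon
      push Not at hcon
      exact he0 (funext hcon)
    show mon lam e ∈ maximalIdeal Λ
    unfold mon
    rw [← Finset.mul_prod_erase Finset.univ _ (Finset.mem_univ j)]
    apply Ideal.mul_mem_right
    exact Ideal.pow_mem_of_mem _ (hlmem j) _ (Nat.pos_of_ne_zero hj)
  · intro l
    exact mon_mem_closure lam l.1
  · intro x
    have hx : x ∈ Submodule.span (ResidueField Λ) (Set.range fun l : b => mon lam l.1) := by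
      have : (Set.range fun l : b => mon lam l.1) = mon lam '' b := by
        ext z
        constructor
        · rintro ⟨⟨e, he⟩, rfl⟩
          exact ⟨e, he, rfl⟩
        · rintro ⟨e, he, rfl⟩
          exact ⟨⟨e, he⟩, rfl⟩
      rw [this, hspan_top]
      trivial
    obtain ⟨c, hc⟩ := (Submodule.mem_span_range_iff_exists_fun _).1 hx
    exact ⟨c, hc.symm⟩
  · intro c hc
    have hli' : LinearIndependent (ResidueField Λ) (fun l : b => mon lam l.1) := hli
    have := Fintype.linearIndependent_iff.1 hli' c hc
    exact funext this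

end C1

end Groth.Agent.Helper2.ArtSub
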