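import Mathlib
import Groth.Agent.Helper2.ArtC

set_option autoImplicit false

namespace Groth.Agent.Helper2.ArtSub

open IsLocalRing

universe u

section Coord

variable {Λ : Type u} [CommRing Λ] [IsLocalRing Λ] (σ : ResidueField Λ →+* Λ)
  (hσ : ∀ x, residue Λ (σ x) = x)
  {ι : Type} [Fintype ι] (m : ι → Λ) (i₀ : ι) (hm1 : m i₀ = 1)
  (hmm : ∀ l, l ≠ i₀ → m l ∈ maximalIdeal Λ)
  (hS : ∀ x : Λ, ∃ c : ι → ResidueField Λ, x = ∑ l, σ (c l) * m l)
  (hI : ∀ c : ι → ResidueField Λ, ∑ l, σ (c l) * m l = 0 → c = 0)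

/-- the element with given coordinates -/
noncomputable def ofCo (c : ι → ResidueField Λ) : Λ := ∑ l, σ (c l) * m l

/-- coordinates -/
noncomputable def co (x : Λ) : ι → ResidueField Λ := (hS x).choose

lemma ofCo_co (x : Λ) : ofCo σ m (co σ m hS x) = x := ((hS x).choose_spec).symm

lemma ofCo_add (c c' : ι → ResidueField Λ) : ofCo σ m (c + c') = ofCo σ m c + ofCo σ m c' := by
  unfold ofCo
  rw [← Finset.sum_add_distrib]
  apply Finset.sum_congr rfl
  intro l _
  rw [Pi.add_apply, map_add, add_mul]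

lemma ofCo_sub (c c' : ι → ResidueField Λ) : ofCo σ m (c - c') = ofCo σ m c - ofCo σ m c' := by
  unfold ofCo
  rw [← Finset.sum_sub_distrib]
  apply Finset.sum_congr rfl
  intro l _
  rw [Pi.sub_apply, map_sub, sub_mul]

lemma ofCo_smul (a : ResidueField Λ) (c : ι → ResidueField Λ) :
    ofCo σ m (fun l => a * c l) = σ a * ofCo σ m c := by
  unfold ofCo
  rw [Finset.mul_sum]
  apply Finset.sum_congr rfl
  intro l _
  rw [map_mul, mul_assoc]

include hI in
lemma ofCo_injective : Function.Injective (ofCo σ m) := by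
  intro c c' h
  have h0 : ofCo σ m (c - c') = 0 := by rw [ofCo_sub, h, sub_self]
  have := hI _ h0
  exact sub_eq_zero.1 this

include hI in
lemma co_ofCo (c : ι → ResidueField Λ) : co σ m hS (ofCo σ m c) = c :=
  ofCo_injective σ m hI (ofCo_co σ m hS _)

include hI in
lemma co_add (x y : Λ) : co σ m hS (x + y) = co σ m hS x + co σ m hS y := by
  apply ofCo_injective σ m hI
  rw [ofCo_co, ofCo_add, ofCo_co, ofCo_co]

include hI in
lemma co_smul (a : ResidueField Λ) (x : Λ) :
    co σ m hS (σ a * x) = fun l => a * co σ m hS x l := by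
  apply ofCo_injective σ m hI
  rw [ofCo_co, ofCo_smul, ofCo_co]

include hI in
lemma co_zero : co σ m hS 0 = 0 := by
  apply ofCo_injective σ m hI
  rw [ofCo_co]
  simp [ofCo]

include hI in
lemma co_m [DecidableEq ι] (l : ι) : co σ m hS (m l) = Pi.single l 1 := by
  apply ofCo_injective σ m hI
  rw [ofCo_co]
  unfold ofCo
  rw [Finset.sum_eq_single l]
  · rw [Pi.single_eq_same, map_one, one_mul]
  · intro l' _ hl'
    rw [Pi.single_apply, if_neg hl', map_zero, zero_mul]
  · intro h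
    exact absurd (Finset.mem_univ _) h

include hσ hm1 hmm in
lemma residue_ofCo (c : ι → ResidueField Λ) : residue Λ (ofCo σ m c) = c i₀ := by
  classical
  unfold ofCo
  rw [map_sum, Finset.sum_eq_single i₀]
  · rw [map_mul, hσ, hm1, map_one, mul_one]
  · intro l _ hl
    rw [map_mul, (residue_eq_zero_iff _).2 (hmm l hl), mul_zero]
  · intro h
    exact absurd (Finset.mem_univ _) h

include hσ hm1 hmm in
lemma residue_eq_co (x : Λ) : residue Λ x = co σ m hS x i₀ := by
  conv_lhs => rw [← ofCo_co σ m hS x]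
  exact residue_ofCo σ hσ m i₀ hm1 hmm _

/-- coordinates as an additive map -/
noncomputable def coHom (hI : ∀ c : ι → ResidueField Λ, ∑ l, σ (c l) * m l = 0 → c = 0) :
    Λ →+ (ι → ResidueField Λ) :=
  AddMonoidHom.mk' (co σ m hS) (co_add σ m hS hI)

lemma coHom_apply (x : Λ) : coHom σ m hS hI x = co σ m hS x := rfl

variable (F : Subfield (ResidueField Λ))

/-- elements with coordinates in the subfield `F` -/
def WF : Set Λ := {x | ∀ l, co σ m hS x l ∈ F}

include hI in
lemma ofCo_mem_WF (c : ι → ResidueField Λ) (hc : ∀ l, c l ∈ F) : ofCo σ m c ∈ WF σ m hS F := by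
  intro l
  rw [co_ofCo σ m hS hI]
  exact hc l

include hI in
lemma WF_add {x y : Λ} (hx : x ∈ WF σ m hS F) (hy : y ∈ WF σ m hS F) : x + y ∈ WF σ m hS F := by
  intro l
  rw [co_add σ m hS hI]
  exact F.add_mem (hx l) (hy l)

include hI in
lemma WF_zero : (0 : Λ) ∈ WF σ m hS F := by
  intro l
  rw [co_zero σ m hS hI]
  exact F.zero_mem

include hI in
lemma WF_smul {a : ResidueField Λ} (ha : a ∈ F) {x : Λ} (hx : x ∈ WF σ m hS F) :
    σ a * x ∈ WF σ m hS F := by
  intro l
  rw [co_smul σ m hS hI]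
  exact F.mul_mem ha (hx l)

include hI in
lemma WF_neg {x : Λ} (hx : x ∈ WF σ m hS F) : -x ∈ WF σ m hS F := by
  have : -x = σ (-1) * x := by rw [map_neg, map_one, neg_one_mul]
  rw [this]
  exact WF_smul σ m hS hI F (F.neg_mem F.one_mem) hx

include hI in
lemma WF_m (l : ι) : m l ∈ WF σ m hS F := by
  classical
  intro l'
  rw [co_m σ m hS hI]
  rw [Pi.single_apply]
  split_ifs
  · exact F.one_mem
  · exact F.zero_mem

include hI in
lemma WF_sum {κ : Type*} (s : Finset κ) (x : κ → Λ) (hx : ∀ i ∈ s, x i ∈ WF σ m hS F) :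
    ∑ i ∈ s, x i ∈ WF σ m hS F := by
  classical
  induction s using Finset.induction_on with
  | empty => simpa using WF_zero σ m hS hI F
  | insert a s ha ih =>
    rw [Finset.sum_insert ha]
    exact WF_add σ m hS hI F (hx a (Finset.mem_insert_self a s))
      (ih fun i hi => hx i (Finset.mem_insert_of_mem hi))

include hI in
lemma WF_mul (hT : ∀ l l', m l * m l' ∈ WF σ m hS F) {x y : Λ} (hx : x ∈ WF σ m hS F)
    (hy : y ∈ WF σ m hS F) : x * y ∈ WF σ m hS F := by
  have hxy : x * y = ∑ l, ∑ l', σ (co σ m hS x l * co σ m hS y l') * (m l * m l') := by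
    conv_lhs => rw [← ofCo_co σ m hS x, ← ofCo_co σ m hS y]
    unfold ofCo
    rw [Finset.sum_mul_sum]
    apply Finset.sum_congr rfl
    intro l _
    apply Finset.sum_congr rfl
    intro l' _
    rw [map_mul]
    ring
  rw [hxy]
  refine WF_sum σ m hS hI F _ _ fun l _ => WF_sum σ m hS hI F _ _ fun l' _ => ?_
  exact WF_smul σ m hS hI F (F.mul_mem (hx l) (hy l')) (hT l l')

include hI hm1 in
lemma WF_one : (1 : Λ) ∈ WF σ m hS F := by
  rw [← hm1]
  exact WF_m σ m hS hI F i₀

include hI hm1 in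
lemma WF_pow (hT : ∀ l l', m l * m l' ∈ WF σ m hS F) {x : Λ} (hx : x ∈ WF σ m hS F) (j : ℕ) :
    x ^ j ∈ WF σ m hS F := by
  induction j with
  | zero => rw [pow_zero]; exact WF_one σ m i₀ hm1 hS hI F
  | succ j ih => rw [pow_succ]; exact WF_mul σ m hS hI F hT ih hx

include hσ hI hm1 hmm in
/-- units of `Λ` lying in `W_F` have their inverse in `W_F`. -/
lemma WF_inv (hT : ∀ l l', m l * m l' ∈ WF σ m hS F) (n : ℕ) (hn : maximalIdeal Λ ^ n = ⊥)
    {x : Λ} (hx : x ∈ WF σ m hS F) (hu : IsUnit x) :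
    ∃ y ∈ WF σ m hS F, x * y = 1 := by
  set f := co σ m hS x i₀ with hf
  have hfF : f ∈ F := hx i₀
  have hres : residue Λ x = f := residue_eq_co σ hσ m i₀ hm1 hmm hS x
  have hf0 : f ≠ 0 := by
    rw [← hres]
    intro h0
    exact ((residue_eq_zero_iff x).1 h0) hu
  set z := 1 - σ f⁻¹ * x with hz
  have hzW : z ∈ WF σ m hS F := by
    rw [hz, sub_eq_add_neg]
    exact WF_add σ m hS hI F (WF_one σ m i₀ hm1 hS hI F)
      (WF_neg σ m hS hI F (WF_smul σ m hS hI F (F.inv_mem hfF) hx))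
  have hzm : z ∈ maximalIdeal Λ := by
    rw [← residue_eq_zero_iff, hz, map_sub, map_one, map_mul, hσ, hres, inv_mul_cancel₀ hf0,
      sub_self]
  have hzn : z ^ n = 0 := by
    have := Ideal.pow_mem_pow hzm n
    rwa [hn] at this
  refine ⟨σ f⁻¹ * ∑ i ∈ Finset.range n, z ^ i, ?_, ?_⟩
  · exact WF_smul σ m hS hI F (F.inv_mem hfF)
      (WF_sum σ m hS hI F _ _ fun i _ => WF_pow σ m i₀ hm1 hS hI F hT hzW i)
  · have h1 : σ f⁻¹ * x = 1 - z := by rw [hz]; ring
    calc x * (σ f⁻¹ * ∑ i ∈ Finset.range n, z ^ i)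
        = (σ f⁻¹ * x) * ∑ i ∈ Finset.range n, z ^ i := by ring
      _ = (1 - z) * ∑ i ∈ Finset.range n, z ^ i := by rw [h1]
      _ = 1 - z ^ n := mul_neg_geom_sum z n
      _ = 1 := by rw [hzn, sub_zero]

end Coord

end Groth.Agent.Helper2.ArtSub
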