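import Mathlib
import Groth.Agent.Helper2.ArtD

set_option autoImplicit false

namespace Groth.Agent.Helper2.ArtSub

open IsLocalRing

universe u

section SubAlg

variable {k Λ : Type u} [Field k] [CommRing Λ] [Algebra k Λ] [IsLocalRing Λ]
  (σ : ResidueField Λ →+* Λ)
  (hσ : ∀ x, residue Λ (σ x) = x)
  {ι : Type} [Fintype ι] (m : ι → Λ) (i₀ : ι) (hm1 : m i₀ = 1)
  (hmm : ∀ l, l ≠ i₀ → m l ∈ maximalIdeal Λ)
  (hS : ∀ x : Λ, ∃ c : ι → ResidueField Λ, x = ∑ l, σ (c l) * m l)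
  (hI : ∀ c : ι → ResidueField Λ, ∑ l, σ (c l) * m l = 0 → c = 0)
  (F : Subfield (ResidueField Λ))
  (hT : ∀ l l', m l * m l' ∈ WF σ m hS F) (n : ℕ) (hn : maximalIdeal Λ ^ n = ⊥)
  (A : Subalgebra k Λ) (hA : ∀ x, x ∈ A ↔ x ∈ WF σ m hS F)

include hσ hm1 hmm hI hT hn hA in
lemma isUnit_of_isUnit_val (a : A) (ha : IsUnit (a : Λ)) : IsUnit a := by
  obtain ⟨y, hy, hxy⟩ := WF_inv σ hσ m i₀ hm1 hmm hS hI F hT n hn ((hA _).1 a.2) ha
  refine isUnit_iff_exists_inv.2 ⟨⟨y, (hA _).2 hy⟩, ?_⟩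
  apply Subtype.ext
  exact hxy

include hσ hm1 hmm hI hT hn hA in
lemma isLocalHom_algebraMap : IsLocalHom (algebraMap A Λ) :=
  ⟨fun a ha => isUnit_of_isUnit_val σ hσ m i₀ hm1 hmm hS hI F hT n hn A hA a ha⟩

include hσ hm1 hmm hI hT hn hA in
lemma isLocalRing_sub : IsLocalRing A :=
  haveI := isLocalHom_algebraMap σ hσ m i₀ hm1 hmm hS hI F hT n hn A hA
  RingHom.domain_isLocalRing (algebraMap A Λ)

include hσ hm1 hmm hI hT hn hA in
lemma map_maximalIdeal_sub [IsLocalRing A] :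
    (maximalIdeal A).map (algebraMap A Λ) = maximalIdeal Λ := by
  classical
  haveI := isLocalHom_algebraMap σ hσ m i₀ hm1 hmm hS hI F hT n hn A hA
  apply le_antisymm
  · rw [Ideal.map_le_iff_le_comap]
    intro a ha
    rw [Ideal.mem_comap, mem_maximalIdeal, mem_nonunits_iff]
    intro hu
    exact ha (isUnit_of_isUnit_val σ hσ m i₀ hm1 hmm hS hI F hT n hn A hA a hu)
  · intro x hx
    have hx0 : co σ m hS x i₀ = 0 := by
      rw [← residue_eq_co σ hσ m i₀ hm1 hmm hS x]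
      exact (residue_eq_zero_iff x).2 hx
    rw [← ofCo_co σ m hS x]
    unfold ofCo
    refine Ideal.sum_mem _ fun l _ => ?_
    by_cases hl : l = i₀
    · rw [hl, hx0, map_zero, zero_mul]
      exact Ideal.zero_mem _
    · refine Ideal.mul_mem_left _ _ ?_
      have hml : m l ∈ A := (hA _).2 (WF_m σ m hS hI F l)
      have : (⟨m l, hml⟩ : A) ∈ maximalIdeal A := by
        rw [mem_maximalIdeal, mem_nonunits_iff]
        intro hu
        have hu' : IsUnit (algebraMap A Λ ⟨m l, hml⟩) := hu.map _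
        exact (hmm l hl) hu'
      exact Ideal.mem_map_of_mem (algebraMap A Λ) this

end SubAlg

end Groth.Agent.Helper2.ArtSub
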