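import Mathlib
import Groth.Agent.Helper2.ArtE

set_option autoImplicit false

namespace Groth.Agent.Helper2.ArtSub

open IsLocalRing

universe u

section SubAlg

variable {k Λ : Type u} [Field k] [CommRing Λ] [Algebra k Λ] [IsLocalRing Λ]
  (σ : ResidueField Λ →+* Λ)
  (hσ : ∀ x, residue Λ (σ x) = x)
  {ι : Type} [Fintype ι] (m : ι → Λ) (i₀ : ι) (hm1 : m i₀ = 1)
  (hmm : ∀ l, l ≠ i₀ → m l ∈ maximalIdeal Λ)
  (hS : ∀ x : Λ, ∃ c : ι → ResidueField Λ, x = ∑ l, σ (c l) * m l)
  (hI : ∀ c : ι → ResidueField Λ, ∑ l, σ (c l) * m l = 0 → c = 0)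
  (F : Subfield (ResidueField Λ))
  (hT : ∀ l l', m l * m l' ∈ WF σ m hS F) (n : ℕ) (hn : maximalIdeal Λ ^ n = ⊥)
  (A : Subalgebra k Λ) (hA : ∀ x, x ∈ A ↔ x ∈ WF σ m hS F)

include hm1 hI hA in
lemma sigma_mem_sub {f : ResidueField Λ} (hf : f ∈ F) : σ f ∈ A := by
  have h := WF_smul σ m hS hI F hf (WF_m σ m hS hI F i₀)
  rw [hm1, mul_one] at h
  exact (hA _).2 h

include hm1 hI hA in
lemma free_sub : Module.Free A Λ := by
  classical
  let β := Module.Basis.ofVectorSpace F (ResidueField Λ)
  let v : Module.Basis.ofVectorSpaceIndex F (ResidueField Λ) → Λ := fun α => σ (β α)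
  have hli : LinearIndependent A v := by
    rw [linearIndependent_iff']
    intro s g hg α hα
    have hc : ∀ α l, co σ m hS (g α : Λ) l ∈ F := fun α l => (hA _).1 (g α).2 l
    have h1 : ∑ l, σ (∑ α ∈ s, co σ m hS (g α : Λ) l * β α) * m l = 0 := by
      rw [← hg]
      have h2 : ∀ α ∈ s, g α • v α = ∑ l, σ (co σ m hS (g α : Λ) l * β α) * m l := by
        intro α _
        rw [Subalgebra.smul_def, smul_eq_mul]
        conv_lhs => rw [← ofCo_co σ m hS (g α : Λ)]
        unfold ofCo
        rw [Finset.sum_mul]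
        apply Finset.sum_congr rfl
        intro l _
        rw [map_mul]
        ring
      rw [Finset.sum_congr rfl h2, Finset.sum_comm]
      apply Finset.sum_congr rfl
      intro l _
      rw [map_sum, Finset.sum_mul]
    have h3 := hI _ h1
    have h4 : ∀ l, co σ m hS (g α : Λ) l = 0 := by
      intro l
      have h5 : ∑ α ∈ s, (⟨co σ m hS (g α : Λ) l, hc α l⟩ : F) • β α = 0 := by
        have := congrFun h3 l
        simpa [Subfield.smul_def] using this
      have h6 := linearIndependent_iff'.1 β.linearIndependent s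
        (fun α => (⟨co σ m hS (g α : Λ) l, hc α l⟩ : F)) h5 α hα
      exact congrArg Subtype.val h6
    apply Subtype.ext
    rw [← ofCo_co σ m hS (g α : Λ)]
    have : co σ m hS (g α : Λ) = 0 := funext h4
    rw [this]
    simp [ofCo]
  have hsp : ⊤ ≤ Submodule.span A (Set.range v) := by
    intro x _
    have key : ∀ (l : ι) (c : ResidueField Λ), σ c * m l ∈ Submodule.span A (Set.range v) := by
      intro l c
      have hc : c ∈ Submodule.span F (Set.range β) := by rw [β.span_eq]; trivial
      induction hc using Submodule.span_induction with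
      | mem c hc =>
        obtain ⟨α, rfl⟩ := hc
        have hml : m l ∈ A := (hA _).2 (WF_m σ m hS hI F l)
        have : σ (β α) * m l = (⟨m l, hml⟩ : A) • v α := by
          rw [Subalgebra.smul_def, smul_eq_mul, mul_comm]
        rw [this]
        exact Submodule.smul_mem _ _ (Submodule.subset_span (Set.mem_range_self α))
      | zero => rw [map_zero, zero_mul]; exact Submodule.zero_mem _
      | add c c' _ _ h h' => rw [map_add, add_mul]; exact Submodule.add_mem _ h h'
      | smul f c _ h =>
        have hf : σ (f : ResidueField Λ) ∈ A := sigma_mem_sub σ m i₀ hm1 hS hI F A hA f.2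
        have : σ (f • c) * m l = (⟨σ (f : ResidueField Λ), hf⟩ : A) • (σ c * m l) := by
          rw [Subalgebra.smul_def, smul_eq_mul, Subfield.smul_def, smul_eq_mul, map_mul, mul_assoc]
        rw [this]
        exact Submodule.smul_mem _ _ h
    rw [← ofCo_co σ m hS x]
    unfold ofCo
    exact Submodule.sum_mem _ fun l _ => key l _
  exact Module.Free.of_basis (Module.Basis.mk hli hsp)

end SubAlg

end Groth.Agent.Helper2.ArtSub
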