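import Mathlib
import Groth.Agent.Helper2.ArtF

set_option autoImplicit false

namespace Groth.Agent.Helper2.ArtSub

open IsLocalRing

universe u

section Bp

variable {k Λ : Type u} [Field k] [CommRing Λ] [Algebra k Λ]

/-- the "localization" of `adjoin k S` inside `Λ`. -/
def Bp (k : Type u) {Λ : Type u} [Field k] [CommRing Λ] [Algebra k Λ] (S : Set Λ) : Set Λ :=
  {x | ∃ t ∈ Algebra.adjoin k S, IsUnit t ∧ x * t ∈ Algebra.adjoin k S}

lemma Bp_of_mem {S : Set Λ} {x : Λ} (hx : x ∈ Algebra.adjoin k S) : x ∈ Bp k S :=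
  ⟨1, one_mem _, isUnit_one, by rwa [mul_one]⟩

lemma Bp_add {S : Set Λ} {x y : Λ} (hx : x ∈ Bp k S) (hy : y ∈ Bp k S) : x + y ∈ Bp k S := by
  obtain ⟨t, ht, hut, hxt⟩ := hx
  obtain ⟨t', ht', hut', hyt⟩ := hy
  refine ⟨t * t', mul_mem ht ht', hut.mul hut', ?_⟩
  have : (x + y) * (t * t') = (x * t) * t' + (y * t') * t := by ring
  rw [this]
  exact add_mem (mul_mem hxt ht') (mul_mem hyt ht)

lemma Bp_mul {S : Set Λ} {x y : Λ} (hx : x ∈ Bp k S) (hy : y ∈ Bp k S) : x * y ∈ Bp k S := by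
  obtain ⟨t, ht, hut, hxt⟩ := hx
  obtain ⟨t', ht', hut', hyt⟩ := hy
  refine ⟨t * t', mul_mem ht ht', hut.mul hut', ?_⟩
  have : (x * y) * (t * t') = (x * t) * (y * t') := by ring
  rw [this]
  exact mul_mem hxt hyt

lemma Bp_neg {S : Set Λ} {x : Λ} (hx : x ∈ Bp k S) : -x ∈ Bp k S := by
  obtain ⟨t, ht, hut, hxt⟩ := hx
  refine ⟨t, ht, hut, ?_⟩
  rw [neg_mul]
  exact neg_mem hxt

lemma Bp_sum {S : Set Λ} {κ : Type*} (s : Finset κ) (x : κ → Λ) (hx : ∀ i ∈ s, x i ∈ Bp k S) :
    ∑ i ∈ s, x i ∈ Bp k S := by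
  classical
  induction s using Finset.induction_on with
  | empty => simpa using Bp_of_mem (k := k) (S := S) (zero_mem _)
  | insert a s ha ih =>
    rw [Finset.sum_insert ha]
    exact Bp_add (hx a (Finset.mem_insert_self a s))
      (ih fun i hi => hx i (Finset.mem_insert_of_mem hi))

lemma Bp_inv {S : Set Λ} {x y : Λ} (hx : x ∈ Bp k S) (hxy : x * y = 1) : y ∈ Bp k S := by
  obtain ⟨t, ht, hut, hxt⟩ := hx
  have hux : IsUnit x := isUnit_iff_exists_inv.2 ⟨y, hxy⟩
  refine ⟨x * t, hxt, hux.mul hut, ?_⟩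
  have : y * (x * t) = (x * y) * t := by ring
  rw [this, hxy, one_mul]
  exact ht

end Bp

section SubAlg

variable {k Λ : Type u} [Field k] [CommRing Λ] [Algebra k Λ] [IsLocalRing Λ]
  (σ : ResidueField Λ →+* Λ)
  (hσ : ∀ x, residue Λ (σ x) = x)
  {ι : Type} [Fintype ι] (m : ι → Λ) (i₀ : ι) (hm1 : m i₀ = 1)
  (hmm : ∀ l, l ≠ i₀ → m l ∈ maximalIdeal Λ)
  (hS : ∀ x : Λ, ∃ c : ι → ResidueField Λ, x = ∑ l, σ (c l) * m l)
  (hI : ∀ c : ι → ResidueField Λ, ∑ l, σ (c l) * m l = 0 → c = 0)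
  (F : Subfield (ResidueField Λ))
  (hT : ∀ l l', m l * m l' ∈ WF σ m hS F) (n : ℕ) (hn : maximalIdeal Λ ^ n = ⊥)
  (A : Subalgebra k Λ) (hA : ∀ x, x ∈ A ↔ x ∈ WF σ m hS F)

include hσ hm1 hmm hI hT hn hA in
lemma artinian_sub [IsArtinianRing Λ] : IsArtinianRing A := by
  haveI := isLocalRing_sub σ hσ m i₀ hm1 hmm hS hI F hT n hn A hA
  haveI := isLocalHom_algebraMap σ hσ m i₀ hm1 hmm hS hI F hT n hn A hA
  haveI : Module.Free A Λ := free_sub σ m i₀ hm1 hS hI F A hA
  haveI : Module.FaithfullyFlat A Λ := Module.FaithfullyFlat.of_flat_of_isLocalHom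
  have hmono : StrictMono (fun I : Ideal A => I.map (algebraMap A Λ)) := by
    intro I J hIJ
    refine lt_of_le_of_ne (Ideal.map_mono hIJ.le) fun h => ?_
    have h1 := Ideal.comap_map_eq_self_of_faithfullyFlat (B := Λ) I
    have h2 := Ideal.comap_map_eq_self_of_faithfullyFlat (B := Λ) J
    have h3 : I.map (algebraMap A Λ) = J.map (algebraMap A Λ) := h
    rw [h3] at h1
    exact hIJ.ne (h1.symm.trans h2)
  exact hmono.wellFoundedLT

/-- the subfield of elements of the residue field whose lift is in `Bp`. -/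
def BpField (S : Set Λ) : Subfield (ResidueField Λ) where
  carrier := {f | σ f ∈ Bp k S}
  mul_mem' := by
    intro a b ha hb
    show σ (a * b) ∈ Bp k S
    rw [map_mul]
    exact Bp_mul ha hb
  one_mem' := by
    show σ 1 ∈ Bp k S
    rw [map_one]
    exact Bp_of_mem (one_mem _)
  add_mem' := by
    intro a b ha hb
    show σ (a + b) ∈ Bp k S
    rw [map_add]
    exact Bp_add ha hb
  zero_mem' := by
    show σ 0 ∈ Bp k S
    rw [map_zero]
    exact Bp_of_mem (zero_mem _)
  neg_mem' := by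
    intro a ha
    show σ (-a) ∈ Bp k S
    rw [map_neg]
    exact Bp_neg ha
  inv_mem' := by
    intro a ha
    show σ a⁻¹ ∈ Bp k S
    by_cases h0 : a = 0
    · rw [h0, inv_zero, map_zero]
      exact Bp_of_mem (zero_mem _)
    · refine Bp_inv ha ?_
      rw [← map_mul, mul_inv_cancel₀ h0, map_one]

lemma mem_BpField (S : Set Λ) (f : ResidueField Λ) :
    f ∈ BpField (k := k) σ S ↔ σ f ∈ Bp k S := Iff.rfl

include hσ hm1 hmm hI hT hn hA in
lemma essFiniteType_sub (Z : Finset k)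
    (hZ : Subfield.closure ({a : k | σ (algebraMap k (ResidueField Λ) a) = algebraMap k Λ a} ∪
        (Z : Set k)) = ⊤)
    (T : Finset (ResidueField Λ))
    (hF : F = Subfield.closure (Set.range (algebraMap k (ResidueField Λ)) ∪ (T : Set _))) :
    Algebra.EssFiniteType k A := by
  classical
  -- the finite generating set
  let S : Finset Λ := Finset.univ.image m ∪
    Z.image (fun z => σ (algebraMap k (ResidueField Λ) z)) ∪ T.image σ
  have hkF : ∀ a : k, algebraMap k (ResidueField Λ) a ∈ F := by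
    intro a
    rw [hF]
    exact Subfield.subset_closure (Or.inl (Set.mem_range_self a))
  have hTF : ∀ t ∈ T, t ∈ F := by
    intro t ht
    rw [hF]
    exact Subfield.subset_closure (Or.inr ht)
  have hSA : ∀ x ∈ S, x ∈ A := by
    intro x hx
    simp only [S, Finset.mem_union, Finset.mem_image, Finset.mem_univ, true_and] at hx
    rcases hx with (⟨l, rfl⟩ | ⟨z, _, rfl⟩) | ⟨t, ht, rfl⟩
    · exact (hA _).2 (WF_m σ m hS hI F l)
    · exact sigma_mem_sub σ m i₀ hm1 hS hI F A hA (hkF z)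
    · exact sigma_mem_sub σ m i₀ hm1 hS hI F A hA (hTF t ht)
  -- step 1: all `σ ā` are in `Bp`
  have h1 : ∀ a : k, σ (algebraMap k (ResidueField Λ) a) ∈ Bp k (S : Set Λ) := by
    intro a
    have hle : Subfield.closure ({a : k | σ (algebraMap k (ResidueField Λ) a) = algebraMap k Λ a} ∪
        (Z : Set k)) ≤ (BpField (k := k) σ (S : Set Λ)).comap (algebraMap k (ResidueField Λ)) := by
      rw [Subfield.closure_le]
      rintro b (hb | hb)
      · show σ (algebraMap k (ResidueField Λ) b) ∈ Bp k (S : Set Λ)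
        rw [Set.mem_setOf_eq] at hb
        rw [hb]
        exact Bp_of_mem (Subalgebra.algebraMap_mem _ _)
      · show σ (algebraMap k (ResidueField Λ) b) ∈ Bp k (S : Set Λ)
        refine Bp_of_mem (Algebra.subset_adjoin ?_)
        simp only [S, Finset.coe_union, Finset.coe_image, Set.mem_union, Set.mem_image,
          Finset.mem_coe]
        exact Or.inl (Or.inr ⟨b, hb, rfl⟩)
    have : a ∈ Subfield.closure ({a : k | σ (algebraMap k (ResidueField Λ) a) = algebraMap k Λ a} ∪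
        (Z : Set k)) := by rw [hZ]; trivial
    exact hle this
  -- step 2
  have h2 : F ≤ BpField (k := k) σ (S : Set Λ) := by
    rw [hF, Subfield.closure_le]
    rintro f (⟨a, rfl⟩ | hf)
    · exact h1 a
    · show σ f ∈ Bp k (S : Set Λ)
      refine Bp_of_mem (Algebra.subset_adjoin ?_)
      simp only [S, Finset.coe_union, Finset.coe_image, Set.mem_union, Set.mem_image,
        Finset.mem_coe]
      exact Or.inr ⟨f, hf, rfl⟩
  -- step 3
  have h3 : ∀ x ∈ A, x ∈ Bp k (S : Set Λ) := by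
    intro x hx
    rw [← ofCo_co σ m hS x]
    unfold ofCo
    refine Bp_sum _ _ fun l _ => Bp_mul (h2 ((hA _).1 hx l)) (Bp_of_mem (Algebra.subset_adjoin ?_))
    simp only [S, Finset.coe_union, Finset.coe_image, Set.mem_union, Set.mem_image,
      Finset.mem_coe]
    exact Or.inl (Or.inl ⟨l, Finset.mem_univ _, rfl⟩)
  -- step 4
  rw [Algebra.essFiniteType_iff]
  refine ⟨S.subtype (fun x => x ∈ A), ?_⟩
  have himg : A.val '' ((S.subtype (fun x => x ∈ A) : Finset A) : Set A) = (S : Set Λ) := by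
    ext x
    simp only [Set.mem_image, Finset.mem_coe, Finset.mem_subtype, Subalgebra.coe_val]
    constructor
    · rintro ⟨a, ha, rfl⟩
      exact ha
    · intro hx
      exact ⟨⟨x, hSA x hx⟩, hx, rfl⟩
  have hadj : (Algebra.adjoin k ((S.subtype (fun x => x ∈ A) : Finset A) : Set A)).map A.val =
      Algebra.adjoin k (S : Set Λ) := by
    rw [AlgHom.map_adjoin, himg]
  intro x
  obtain ⟨t, ht, hut, hxt⟩ := h3 x x.2
  rw [← hadj] at ht hxt
  obtain ⟨t', ht', rfl⟩ := ht
  obtain ⟨y, hy, hyx⟩ := hxt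
  refine ⟨t', ht', isUnit_of_isUnit_val σ hσ m i₀ hm1 hmm hS hI F hT n hn A hA t' hut, ?_⟩
  have : x * t' = y := by
    apply Subtype.ext
    exact hyx.symm
  rw [this]
  exact hy

end SubAlg

end Groth.Agent.Helper2.ArtSub
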