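import Mathlib
import Groth.Agent.Helper2.ArtB
import Groth.Agent.Helper2.ArtG

set_option autoImplicit false

namespace Groth.Agent.Helper2.ArtSub

open IsLocalRing

universe u

section SubAlg

variable {k Λ : Type u} [Field k] [CommRing Λ] [Algebra k Λ] [IsLocalRing Λ]
  (σ : ResidueField Λ →+* Λ)
  (hσ : ∀ x, residue Λ (σ x) = x)
  {ι : Type} [Fintype ι] (m : ι → Λ) (i₀ : ι) (hm1 : m i₀ = 1)
  (hmm : ∀ l, l ≠ i₀ → m l ∈ maximalIdeal Λ)
  (hS : ∀ x : Λ, ∃ c : ι → ResidueField Λ, x = ∑ l, σ (c l) * m l)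
  (hI : ∀ c : ι → ResidueField Λ, ∑ l, σ (c l) * m l = 0 → c = 0)
  (F : Subfield (ResidueField Λ))
  (hT : ∀ l l', m l * m l' ∈ WF σ m hS F) (n : ℕ) (hn : maximalIdeal Λ ^ n = ⊥)

/-- the subfield of `k` of elements mapping into `W_F`. -/
def WFField (hσ : ∀ x, residue Λ (σ x) = x) (hm1 : m i₀ = 1)
    (hmm : ∀ l, l ≠ i₀ → m l ∈ maximalIdeal Λ)
    (hI : ∀ c : ι → ResidueField Λ, ∑ l, σ (c l) * m l = 0 → c = 0)
    (hT : ∀ l l', m l * m l' ∈ WF σ m hS F) (n : ℕ) (hn : maximalIdeal Λ ^ n = ⊥) :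
    Subfield k where
  carrier := {a | algebraMap k Λ a ∈ WF σ m hS F}
  mul_mem' := by
    intro a b ha hb
    show algebraMap k Λ (a * b) ∈ WF σ m hS F
    rw [map_mul]
    exact WF_mul σ m hS hI F hT ha hb
  one_mem' := by
    show algebraMap k Λ 1 ∈ WF σ m hS F
    rw [map_one]
    exact WF_one σ m i₀ hm1 hS hI F
  add_mem' := by
    intro a b ha hb
    show algebraMap k Λ (a + b) ∈ WF σ m hS F
    rw [map_add]
    exact WF_add σ m hS hI F ha hb
  zero_mem' := by
    show algebraMap k Λ 0 ∈ WF σ m hS F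
    rw [map_zero]
    exact WF_zero σ m hS hI F
  neg_mem' := by
    intro a ha
    show algebraMap k Λ (-a) ∈ WF σ m hS F
    rw [map_neg]
    exact WF_neg σ m hS hI F ha
  inv_mem' := by
    intro a ha
    show algebraMap k Λ a⁻¹ ∈ WF σ m hS F
    by_cases h0 : a = 0
    · rw [h0, inv_zero, map_zero]
      exact WF_zero σ m hS hI F
    · have hu : IsUnit (algebraMap k Λ a) := (IsUnit.mk0 a h0).map _
      obtain ⟨y, hy, hxy⟩ := WF_inv σ hσ m i₀ hm1 hmm hS hI F hT n hn ha hu
      have h1 : algebraMap k Λ a * algebraMap k Λ a⁻¹ = 1 := by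
        rw [← map_mul, mul_inv_cancel₀ h0, map_one]
      have : y = algebraMap k Λ a⁻¹ := by
        calc y = (algebraMap k Λ a * y) * algebraMap k Λ a⁻¹ := by
              rw [mul_comm (algebraMap k Λ a) y, mul_assoc, h1, mul_one]
          _ = _ := by rw [hxy, one_mul]
      rw [← this]
      exact hy

end SubAlg

set_option maxHeartbeats 1000000 in
theorem main {k Λ : Type u} [Field k] (p : ℕ) [Fact p.Prime]
    [CharP k p] [CommRing Λ] [Algebra k Λ] [IsArtinianRing Λ] [IsLocalRing Λ]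
    (hH : Module.Finite (IsLocalRing.ResidueField Λ)
      (Algebra.H1Cotangent k (IsLocalRing.ResidueField Λ)))
    (E : Finset Λ) :
    ∃ (A : Subalgebra k Λ) (_ : IsLocalRing A), (↑E : Set Λ) ⊆ A ∧ IsArtinianRing A ∧
      Module.Flat A Λ ∧ Algebra.EssFiniteType k A ∧
      (IsLocalRing.maximalIdeal A).map (algebraMap A Λ) = IsLocalRing.maximalIdeal Λ := by
  classical
  obtain ⟨σ, Z, hσ, hZ⟩ := exists_coeffField p hH
  obtain ⟨d, lam, hlam⟩ : ∃ (d : ℕ) (lam : Fin d → Λ),
      Ideal.span (Set.range lam) = maximalIdeal Λ := by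
    have : (maximalIdeal Λ).FG := IsNoetherian.noetherian _
    obtain ⟨d, lam, h⟩ := Submodule.fg_iff_exists_fin_generating_family.1 this
    exact ⟨d, lam, h⟩
  obtain ⟨n, hn⟩ : ∃ n, maximalIdeal Λ ^ n = ⊥ := by
    have := IsArtinianRing.isNilpotent_jacobson_bot (R := Λ)
    rw [IsLocalRing.jacobson_eq_maximalIdeal ⊥ bot_ne_top] at this
    exact this
  obtain ⟨ι, _, m, i₀, hm1, hmm, -, hS, hI⟩ := exists_monomial_basis σ hσ lam hlam n hn
  let T : Finset (ResidueField Λ) :=
    (Finset.univ : Finset (ι × ι × ι)).image (fun q => co σ m hS (m q.1 * m q.2.1) q.2.2) ∪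
    (Z ×ˢ (Finset.univ : Finset ι)).image (fun q => co σ m hS (algebraMap k Λ q.1) q.2) ∪
    (E ×ˢ (Finset.univ : Finset ι)).image (fun q => co σ m hS q.1 q.2)
  let F : Subfield (ResidueField Λ) :=
    Subfield.closure (Set.range (algebraMap k (ResidueField Λ)) ∪ (T : Set _))
  have hTF : ∀ t ∈ T, t ∈ F := fun t ht => Subfield.subset_closure (Or.inr ht)
  have hT : ∀ l l', m l * m l' ∈ WF σ m hS F := by
    intro l l' l''
    apply hTF
    simp only [T, Finset.mem_union, Finset.mem_image, Finset.mem_univ, true_and]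
    exact Or.inl (Or.inl ⟨(l, l', l''), rfl⟩)
  have hZW : ∀ z ∈ Z, algebraMap k Λ z ∈ WF σ m hS F := by
    intro z hz l
    apply hTF
    simp only [T, Finset.mem_union, Finset.mem_image, Finset.mem_product, Finset.mem_univ,
      and_true]
    exact Or.inl (Or.inr ⟨(z, l), hz, rfl⟩)
  have hEW : ∀ e ∈ E, e ∈ WF σ m hS F := by
    intro e he l
    apply hTF
    simp only [T, Finset.mem_union, Finset.mem_image, Finset.mem_product, Finset.mem_univ,
      and_true]
    exact Or.inr ⟨(e, l), he, rfl⟩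
  have hkF : ∀ a : k, algebraMap k (ResidueField Λ) a ∈ F := fun a =>
    Subfield.subset_closure (Or.inl (Set.mem_range_self a))
  have hk : ∀ a : k, algebraMap k Λ a ∈ WF σ m hS F := by
    intro a
    have hle : Subfield.closure ({a : k | σ (algebraMap k (ResidueField Λ) a) = algebraMap k Λ a} ∪
        (Z : Set k)) ≤ WFField (k := k) σ m i₀ hS F hσ hm1 hmm hI hT n hn := by
      rw [Subfield.closure_le]
      rintro b (hb | hb)
      · show algebraMap k Λ b ∈ WF σ m hS F
        rw [Set.mem_setOf_eq] at hb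
        rw [← hb]
        have h := WF_smul σ m hS hI F (hkF b) (WF_m σ m hS hI F i₀)
        rwa [hm1, mul_one] at h
      · exact hZW b hb
    have : a ∈ Subfield.closure ({a : k | σ (algebraMap k (ResidueField Λ) a) = algebraMap k Λ a} ∪
        (Z : Set k)) := by rw [hZ]; trivial
    exact hle this
  let A : Subalgebra k Λ :=
    { carrier := WF σ m hS F
      mul_mem' := fun ha hb => WF_mul σ m hS hI F hT ha hb
      one_mem' := WF_one σ m i₀ hm1 hS hI F
      add_mem' := fun ha hb => WF_add σ m hS hI F ha hb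
      zero_mem' := WF_zero σ m hS hI F
      algebraMap_mem' := hk }
  have hA : ∀ x, x ∈ A ↔ x ∈ WF σ m hS F := fun x => Iff.rfl
  haveI hloc : IsLocalRing A := isLocalRing_sub σ hσ m i₀ hm1 hmm hS hI F hT n hn A hA
  refine ⟨A, hloc, ?_, ?_, ?_, ?_, ?_⟩
  · intro e he
    exact hEW e he
  · exact artinian_sub σ hσ m i₀ hm1 hmm hS hI F hT n hn A hA
  · haveI : Module.Free A Λ := free_sub σ m i₀ hm1 hS hI F A hA
    infer_instance
  · exact essFiniteType_sub σ hσ m i₀ hm1 hmm hS hI F hT n hn A hA Z hZ T rfl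
  · exact map_maximalIdeal_sub σ hσ m i₀ hm1 hmm hS hI F hT n hn A hA

end Groth.Agent.Helper2.ArtSub
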