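import Mathlib
import Groth.Agent.Helper2.ArtH

set_option autoImplicit false

namespace Groth.Agent.Helper2.ArtSub

open IsLocalRing

universe u

/-- In an artinian local ring of characteristic `p`, a high `p`-power only depends on the
residue class. -/
theorem pow_eq_sigma {Λ : Type u} [CommRing Λ] [IsLocalRing Λ] (p : ℕ) [Fact p.Prime] [CharP Λ p]
    (σ : ResidueField Λ →+* Λ) (hσ : ∀ x, residue Λ (σ x) = x)
    (n : ℕ) (hn : maximalIdeal Λ ^ n = ⊥) (x : Λ) :
    x ^ (p ^ n) = σ ((residue Λ x) ^ (p ^ n)) := by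
  have hv : x - σ (residue Λ x) ∈ maximalIdeal Λ := by
    rw [← residue_eq_zero_iff, map_sub, hσ, sub_self]
  have hv0 : (x - σ (residue Λ x)) ^ (p ^ n) = 0 := by
    have h1 : (x - σ (residue Λ x)) ^ (p ^ n) ∈ maximalIdeal Λ ^ (p ^ n) := Ideal.pow_mem_pow hv _
    have h2 : maximalIdeal Λ ^ (p ^ n) ≤ maximalIdeal Λ ^ n :=
      Ideal.pow_le_pow_right (Nat.lt_pow_self (Fact.out : p.Prime).one_lt).le
    have h3 := h2 h1
    rwa [hn] at h3
  have hx : x = (x - σ (residue Λ x)) + σ (residue Λ x) := by ring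
  conv_lhs => rw [hx]
  rw [add_pow_char_pow, hv0, zero_add, map_pow]

set_option maxHeartbeats 1600000 in
theorem main_strong {k Λ : Type u} [Field k] (p : ℕ) [Fact p.Prime]
    [CharP k p] [CommRing Λ] [Algebra k Λ] [IsArtinianRing Λ] [IsLocalRing Λ]
    (hH : Module.Finite (IsLocalRing.ResidueField Λ)
      (Algebra.H1Cotangent k (IsLocalRing.ResidueField Λ)))
    (G : Submonoid Λ) (hG : ∀ x : Λ, ∃ a b, a ∈ G ∧ b ∈ G ∧ IsUnit b ∧ x * b = a)
    (E : Finset Λ) :
    ∃ (A : Subalgebra k Λ) (_ : IsLocalRing A) (Y : Finset Λ), (↑E : Set Λ) ⊆ A ∧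
      IsArtinianRing A ∧
      Module.Flat A Λ ∧ Algebra.EssFiniteType k A ∧
      (IsLocalRing.maximalIdeal A).map (algebraMap A Λ) = IsLocalRing.maximalIdeal Λ ∧
      IsLocalHom (algebraMap A Λ) ∧
      (↑Y : Set Λ) ⊆ A ∧ (↑Y : Set Λ) ⊆ G ∧
      ∀ x ∈ A, residue Λ x ∈ Subfield.closure
        (Set.range (algebraMap k (ResidueField Λ)) ∪ (residue Λ) '' (↑Y : Set Λ)) := by
  classical
  haveI : CharP Λ p := charP_of_injective_algebraMap (algebraMap k Λ).injective p
  obtain ⟨σ, Z, hσ, hZ⟩ := exists_coeffField p hH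
  obtain ⟨d, lam, hlam⟩ : ∃ (d : ℕ) (lam : Fin d → Λ),
      Ideal.span (Set.range lam) = maximalIdeal Λ := by
    have : (maximalIdeal Λ).FG := IsNoetherian.noetherian _
    obtain ⟨d, lam, h⟩ := Submodule.fg_iff_exists_fin_generating_family.1 this
    exact ⟨d, lam, h⟩
  obtain ⟨n, hn⟩ : ∃ n, maximalIdeal Λ ^ n = ⊥ := by
    have := IsArtinianRing.isNilpotent_jacobson_bot (R := Λ)
    rw [IsLocalRing.jacobson_eq_maximalIdeal ⊥ bot_ne_top] at this
    exact this
  obtain ⟨ι, _, m, i₀, hm1, hmm, -, hS, hI⟩ := exists_monomial_basis σ hσ lam hlam n hn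
  let T₀ : Finset (ResidueField Λ) :=
    (Finset.univ : Finset (ι × ι × ι)).image (fun q => co σ m hS (m q.1 * m q.2.1) q.2.2) ∪
    (Z ×ˢ (Finset.univ : Finset ι)).image (fun q => co σ m hS (algebraMap k Λ q.1) q.2) ∪
    (E ×ˢ (Finset.univ : Finset ι)).image (fun q => co σ m hS q.1 q.2)
  -- numerators and denominators
  choose a b haG hbG hbu hab using fun t : ResidueField Λ => hG (σ t)
  let β : ResidueField Λ → ResidueField Λ := fun t => (residue Λ (b t)) ^ (p ^ n)
  have hbpow : ∀ t, b t ^ (p ^ n) = σ (β t) := fun t => pow_eq_sigma p σ hσ n hn (b t)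
  have hβ0 : ∀ t, β t ≠ 0 := by
    intro t
    apply pow_ne_zero
    intro h0
    rw [residue_eq_zero_iff] at h0
    exact (mem_maximalIdeal _).1 h0 (hbu t)
  have hppos : 1 ≤ p ^ n := Nat.one_le_pow _ _ (Fact.out : p.Prime).pos
  have hapow : ∀ t, a t * b t ^ (p ^ n - 1) = σ (t * β t) := by
    intro t
    rw [← hab t, mul_assoc, ← pow_succ', Nat.sub_add_cancel hppos, hbpow, map_mul]
  let T : Finset (ResidueField Λ) := T₀ ∪ T₀.image β
  let Y : Finset Λ := T₀.image (fun t => a t * b t ^ (p ^ n - 1)) ∪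
    T₀.image (fun t => b t ^ (p ^ n))
  let F : Subfield (ResidueField Λ) :=
    Subfield.closure (Set.range (algebraMap k (ResidueField Λ)) ∪ (T : Set _))
  have hTF : ∀ t ∈ T, t ∈ F := fun t ht => Subfield.subset_closure (Or.inr ht)
  have hT₀F : ∀ t ∈ T₀, t ∈ F := fun t ht => hTF t (Finset.mem_union_left _ ht)
  have hβF : ∀ t ∈ T₀, β t ∈ F := fun t ht =>
    hTF _ (Finset.mem_union_right _ (Finset.mem_image_of_mem β ht))
  have hT : ∀ l l', m l * m l' ∈ WF σ m hS F := by
    intro l l' l''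
    apply hT₀F
    simp only [T₀, Finset.mem_union, Finset.mem_image, Finset.mem_univ, true_and]
    exact Or.inl (Or.inl ⟨(l, l', l''), rfl⟩)
  have hZW : ∀ z ∈ Z, algebraMap k Λ z ∈ WF σ m hS F := by
    intro z hz l
    apply hT₀F
    simp only [T₀, Finset.mem_union, Finset.mem_image, Finset.mem_product, Finset.mem_univ,
      and_true]
    exact Or.inl (Or.inr ⟨(z, l), hz, rfl⟩)
  have hEW : ∀ e ∈ E, e ∈ WF σ m hS F := by
    intro e he l
    apply hT₀F
    simp only [T₀, Finset.mem_union, Finset.mem_image, Finset.mem_product, Finset.mem_univ,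
      and_true]
    exact Or.inr ⟨(e, l), he, rfl⟩
  have hkF : ∀ a : k, algebraMap k (ResidueField Λ) a ∈ F := fun a =>
    Subfield.subset_closure (Or.inl (Set.mem_range_self a))
  have hk : ∀ a : k, algebraMap k Λ a ∈ WF σ m hS F := by
    intro a
    have hle : Subfield.closure ({a : k | σ (algebraMap k (ResidueField Λ) a) = algebraMap k Λ a} ∪
        (Z : Set k)) ≤ WFField (k := k) σ m i₀ hS F hσ hm1 hmm hI hT n hn := by
      rw [Subfield.closure_le]
      rintro b (hb | hb)
      · show algebraMap k Λ b ∈ WF σ m hS F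
        rw [Set.mem_setOf_eq] at hb
        rw [← hb]
        have h := WF_smul σ m hS hI F (hkF b) (WF_m σ m hS hI F i₀)
        rwa [hm1, mul_one] at h
      · exact hZW b hb
    have : a ∈ Subfield.closure ({a : k | σ (algebraMap k (ResidueField Λ) a) = algebraMap k Λ a} ∪
        (Z : Set k)) := by rw [hZ]; trivial
    exact hle this
  let A : Subalgebra k Λ :=
    { carrier := WF σ m hS F
      mul_mem' := fun ha hb => WF_mul σ m hS hI F hT ha hb
      one_mem' := WF_one σ m i₀ hm1 hS hI F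
      add_mem' := fun ha hb => WF_add σ m hS hI F ha hb
      zero_mem' := WF_zero σ m hS hI F
      algebraMap_mem' := hk }
  have hA : ∀ x, x ∈ A ↔ x ∈ WF σ m hS F := fun x => Iff.rfl
  haveI hloc : IsLocalRing A := isLocalRing_sub σ hσ m i₀ hm1 hmm hS hI F hT n hn A hA
  have hYA : ∀ y ∈ Y, y ∈ A := by
    intro y hy
    simp only [Y, Finset.mem_union, Finset.mem_image] at hy
    rcases hy with ⟨t, ht, rfl⟩ | ⟨t, ht, rfl⟩
    · rw [hapow]
      exact sigma_mem_sub σ m i₀ hm1 hS hI F A hA (F.mul_mem (hT₀F t ht) (hβF t ht))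
    · rw [hbpow]
      exact sigma_mem_sub σ m i₀ hm1 hS hI F A hA (hβF t ht)
  have hYG : ∀ y ∈ Y, y ∈ G := by
    intro y hy
    simp only [Y, Finset.mem_union, Finset.mem_image] at hy
    rcases hy with ⟨t, ht, rfl⟩ | ⟨t, ht, rfl⟩
    · exact G.mul_mem (haG t) (G.pow_mem (hbG t) _)
    · exact G.pow_mem (hbG t) _
  refine ⟨A, hloc, Y, ?_, ?_, ?_, ?_, ?_, ?_, ?_, ?_, ?_⟩
  · intro e he
    exact hEW e he
  · exact artinian_sub σ hσ m i₀ hm1 hmm hS hI F hT n hn A hA
  · haveI : Module.Free A Λ := free_sub σ m i₀ hm1 hS hI F A hA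
    infer_instance
  · exact essFiniteType_sub σ hσ m i₀ hm1 hmm hS hI F hT n hn A hA Z hZ T rfl
  · exact map_maximalIdeal_sub σ hσ m i₀ hm1 hmm hS hI F hT n hn A hA
  · exact isLocalHom_algebraMap σ hσ m i₀ hm1 hmm hS hI F hT n hn A hA
  · intro y hy
    exact hYA y hy
  · intro y hy
    exact hYG y hy
  · intro x hx
    rw [residue_eq_co σ hσ m i₀ hm1 hmm hS x]
    have h1 : co σ m hS x i₀ ∈ F := (hA x).1 hx i₀
    have hle : F ≤ Subfield.closure
        (Set.range (algebraMap k (ResidueField Λ)) ∪ (residue Λ) '' (↑Y : Set Λ)) := by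
      rw [Subfield.closure_le]
      have hβmem : ∀ t ∈ T₀, β t ∈ Subfield.closure
          (Set.range (algebraMap k (ResidueField Λ)) ∪ (residue Λ) '' (↑Y : Set Λ)) := by
        intro t ht
        apply Subfield.subset_closure
        refine Or.inr ⟨b t ^ (p ^ n), ?_, ?_⟩
        · simp only [Y, Finset.coe_union, Finset.coe_image, Set.mem_union, Set.mem_image,
            Finset.mem_coe]
          exact Or.inr ⟨t, ht, rfl⟩
        · rw [hbpow, hσ]
      rintro t (ht | ht)
      · exact Subfield.subset_closure (Or.inl ht)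
      · have ht' : t ∈ T₀ ∪ T₀.image β := ht
        rw [Finset.mem_union] at ht'
        rcases ht' with ht' | ht'
        · have h2 : t * β t ∈ Subfield.closure
              (Set.range (algebraMap k (ResidueField Λ)) ∪ (residue Λ) '' (↑Y : Set Λ)) := by
            apply Subfield.subset_closure
            refine Or.inr ⟨a t * b t ^ (p ^ n - 1), ?_, ?_⟩
            · simp only [Y, Finset.coe_union, Finset.coe_image, Set.mem_union, Set.mem_image,
                Finset.mem_coe]
              exact Or.inl ⟨t, ht', rfl⟩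
            · rw [hapow, hσ]
          have h3 : t = (t * β t) * (β t)⁻¹ := by
            rw [mul_assoc, mul_inv_cancel₀ (hβ0 t), mul_one]
          rw [h3]
          exact Subfield.mul_mem _ h2 (Subfield.inv_mem _ (hβmem t ht'))
        · rw [Finset.mem_image] at ht'
          obtain ⟨t', ht', rfl⟩ := ht'
          exact hβmem t' ht'
    exact hle h1

end Groth.Agent.Helper2.ArtSub
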