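import Mathlib
import Groth.Prelude
import Groth.Agent.Helper8.GeomReg13
import Groth.Agent.Helper2.InsA
import Groth.Agent.Helper2.InsB
import Groth.Agent.Helper2.InsG

set_option autoImplicit false

namespace Groth.Agent.Helper2.Ins

open IsLocalRing TensorProduct Groth.Agent.Helper8.GeomReg

universe u

section A1

variable (p : ℕ) [Fact p.Prime] {k Λ : Type u} [Field k] [CharP k p] [CommRing Λ] [Algebra k Λ]
  [IsNoetherianRing Λ] (q : Ideal Λ) [q.IsPrime]

/-- the map to the artinian quotient of the local ring. -/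
noncomputable def toLbar (N : ℕ) : Λ →ₐ[k] QP (Localization.AtPrime q) N :=
  (Ideal.Quotient.mkₐ k _).comp (IsScalarTower.toAlgHom k Λ (Localization.AtPrime q))

lemma toLbar_apply (N : ℕ) (x : Λ) :
    toLbar (k := k) q N x = Ideal.Quotient.mk _ (algebraMap Λ (Localization.AtPrime q) x) := rfl

include p in
set_option maxHeartbeats 1600000 in
theorem exists_D (hadic : CAlgX.IsAdicFormallySmooth k (Localization.AtPrime q)
      (maximalIdeal (Localization.AtPrime q)))
    {N : ℕ} (hN : 0 < N) [IsLocalRing (QP (Localization.AtPrime q) N)] (E₀ : Finset Λ) :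
    ∃ (D : Subalgebra k (QP (Localization.AtPrime q) N)) (_ : IsLocalRing D)
      (Y : Finset (QP (Localization.AtPrime q) N)),
      IsLocalHom (algebraMap D (QP (Localization.AtPrime q) N)) ∧
      Module.Flat D (QP (Localization.AtPrime q) N) ∧
      (maximalIdeal D).map (algebraMap D (QP (Localization.AtPrime q) N)) =
        maximalIdeal (QP (Localization.AtPrime q) N) ∧
      Algebra.EssFiniteType k D ∧
      (∀ x ∈ E₀, toLbar (k := k) q N x ∈ D) ∧
      (∀ y ∈ Y, ∃ x : Λ, toLbar (k := k) q N x = y) ∧
      ∃ hYD : ∀ y ∈ Y, y ∈ D,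
        Subfield.closure (Set.range (algebraMap k (ResidueField D)) ∪
          Set.range (fun y : {y // y ∈ Y} => residue D ⟨y.1, hYD y.1 y.2⟩)) = ⊤ := by
  classical
  haveI : IsArtinianRing (QP (Localization.AtPrime q) N) := isArtinianRing_QP _ hN
  -- finiteness of H₁
  have hH : Module.Finite (ResidueField (QP (Localization.AtPrime q) N))
      (Algebra.H1Cotangent k (ResidueField (QP (Localization.AtPrime q) N))) := by
    refine h1_finite k (Localization.AtPrime q) (ResidueField (QP (Localization.AtPrime q) N))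
      (maximalIdeal (Localization.AtPrime q)) hadic ?_ ⟨1, ?_⟩
    · intro x
      obtain ⟨y, rfl⟩ := residue_surjective x
      obtain ⟨l, rfl⟩ := Ideal.Quotient.mk_surjective y
      exact ⟨l, rfl⟩
    · intro x hx
      rw [pow_one] at hx
      show residue _ (Ideal.Quotient.mk _ x) = 0
      rw [residue_eq_zero_iff, mk_mem_maximalIdeal_QP_iff _ hN]
      exact hx
  -- the multiplicative set of elements coming from `Λ`
  let G : Submonoid (QP (Localization.AtPrime q) N) :=
    { carrier := Set.range (toLbar (k := k) q N)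
      mul_mem' := by
        rintro _ _ ⟨a, rfl⟩ ⟨b, rfl⟩
        exact ⟨a * b, map_mul _ _ _⟩
      one_mem' := ⟨1, map_one _⟩ }
  have hG : ∀ x : QP (Localization.AtPrime q) N, ∃ a b, a ∈ G ∧ b ∈ G ∧ IsUnit b ∧ x * b = a := by
    intro x
    obtain ⟨l, rfl⟩ := Ideal.Quotient.mk_surjective x
    obtain ⟨⟨a', s⟩, has⟩ := IsLocalization.surj q.primeCompl l
    refine ⟨toLbar (k := k) q N a', toLbar (k := k) q N s, ⟨a', rfl⟩, ⟨s, rfl⟩, ?_, ?_⟩
    · rw [toLbar_apply]
      exact (IsLocalization.map_units (Localization.AtPrime q) s).map _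
    · rw [toLbar_apply, toLbar_apply, ← map_mul, has]
  obtain ⟨D, hDloc, Y, hED, -, hflat, hess, hmax, hlocal, hYD, hYG, hres⟩ :=
    Groth.Agent.Helper2.ArtSub.main_strong p hH G hG (E₀.image (toLbar (k := k) q N))
  haveI := hDloc
  haveI := hlocal
  refine ⟨D, hDloc, Y, hlocal, hflat, hmax, hess, ?_, ?_, ?_⟩
  · intro x hx
    exact hED (Finset.mem_coe.2 (Finset.mem_image_of_mem _ hx))
  · intro y hy
    exact hYG (Finset.mem_coe.2 hy)
  · refine ⟨fun y hy => hYD (Finset.mem_coe.2 hy), ?_⟩
    rw [eq_top_iff]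
    intro xbar _
    obtain ⟨x, rfl⟩ := residue_surjective xbar
    set SF : Set (ResidueField D) := Set.range (algebraMap k (ResidueField D)) ∪
      Set.range (fun y : {y // y ∈ Y} => residue D ⟨y.1, hYD (Finset.mem_coe.2 y.2)⟩) with hSF
    let ιK : ResidueField D →+* ResidueField (QP (Localization.AtPrime q) N) :=
      algebraMap (ResidueField D) (ResidueField (QP (Localization.AtPrime q) N))
    have hιK : ∀ w : D, ιK (residue D w) = residue _ (w : QP (Localization.AtPrime q) N) :=
      fun w => ResidueField.algebraMap_residue w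
    have h1 := hres (x : QP (Localization.AtPrime q) N) x.2
    have hle : Subfield.closure (Set.range (algebraMap k
          (ResidueField (QP (Localization.AtPrime q) N))) ∪
        (residue (QP (Localization.AtPrime q) N)) '' (↑Y : Set (QP (Localization.AtPrime q) N))) ≤
        (Subfield.closure SF).map ιK := by
      rw [Subfield.closure_le]
      rintro w (⟨a, rfl⟩ | ⟨y, hy, rfl⟩)
      · refine ⟨algebraMap k (ResidueField D) a, Subfield.subset_closure (Or.inl ⟨a, rfl⟩), ?_⟩
        exact (IsScalarTower.algebraMap_apply k (ResidueField D) _ a).symm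
      · refine ⟨residue D ⟨y, hYD hy⟩, Subfield.subset_closure (Or.inr ⟨⟨y, hy⟩, rfl⟩), ?_⟩
        exact hιK _
    obtain ⟨w, hw, hwx⟩ := hle h1
    have : w = residue D x := by
      apply ιK.injective
      rw [hwx, hιK]
    rw [← this]
    exact hw

end A1

end Groth.Agent.Helper2.Ins
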