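import Mathlib

set_option autoImplicit false

namespace Groth.Agent.Helper2.KeyFlat

open MvPolynomial IsLocalRing

universe u

section Chain

variable {k : Type u} [CommRing k] {σ : Type} [Fintype σ] [DecidableEq σ]
  {M : Type u} [AddCommGroup M] [Module (MvPolynomial σ k) M]

/-- chain rule for an (absolute) derivation of a polynomial ring which kills the constants -/
theorem deriv_eq_sum (D : Derivation ℤ (MvPolynomial σ k) M) (hD : ∀ c : k, D (C c) = 0)
    (g : MvPolynomial σ k) : D g = ∑ i, pderiv i g • D (X i) := by
  induction g using MvPolynomial.induction_on with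
  | C a =>
    rw [hD]
    simp
  | add p q hp hq =>
    rw [map_add, hp, hq, ← Finset.sum_add_distrib]
    apply Finset.sum_congr rfl
    intro i _
    rw [map_add, add_smul]
  | mul_X p j hp =>
    rw [Derivation.leibniz, hp, Finset.smul_sum]
    have h1 : ∀ i, pderiv i (p * X j) = pderiv i p * X j + p * (if i = j then 1 else 0) := by
      intro i
      rw [Derivation.leibniz, pderiv_X, smul_eq_mul, smul_eq_mul, Pi.single_apply]
      have : (j = i) = (i = j) := propext eq_comm
      simp only [this]
      ring
    simp_rw [h1, add_smul, Finset.sum_add_distrib]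
    rw [add_comm]
    congr 1
    · apply Finset.sum_congr rfl
      intro i _
      rw [smul_smul, mul_comm]
    · rw [Finset.sum_eq_single j]
      · simp
      · intro i _ hij
        rw [if_neg hij]
        simp
      · intro h
        exact absurd (Finset.mem_univ _) h

end Chain


section Chain2

variable {k : Type u} [CommRing k] {σ : Type} [Fintype σ] [DecidableEq σ]
  {B : Type u} [CommRing B] [Algebra k B] {N : Type u} [AddCommGroup N] [Module B N]
  [Module k N] [IsScalarTower k B N]

/-- chain rule for `aeval` -/
theorem deriv_aeval (D : Derivation k B N) (b : σ → B) (g : MvPolynomial σ k) :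
    D (aeval b g) = ∑ i, aeval b (pderiv i g) • D (b i) := by
  letI algPB : Algebra (MvPolynomial σ k) B := (aeval b).toRingHom.toAlgebra
  letI modP : Module (MvPolynomial σ k) N := Module.compHom N (aeval b).toRingHom
  haveI tow1 : IsScalarTower (MvPolynomial σ k) B N := ⟨fun x y z => by
    show (aeval b x * y) • z = aeval b x • (y • z)
    rw [mul_smul]⟩
  haveI tow2 : IsScalarTower k (MvPolynomial σ k) B := IsScalarTower.of_algebraMap_eq fun c => by
    show algebraMap k B c = aeval b (algebraMap k (MvPolynomial σ k) c)
    rw [AlgHom.commutes]
  let D' : Derivation ℤ (MvPolynomial σ k) N :=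
    (D.restrictScalars ℤ).compAlgebraMap (MvPolynomial σ k)
  have hD'apply : ∀ g, D' g = D (aeval b g) := fun g => rfl
  have hD' : ∀ c : k, D' (C c) = 0 := by
    intro c
    rw [hD'apply, aeval_C]
    exact D.map_algebraMap c
  have h := deriv_eq_sum D' hD' g
  rw [hD'apply] at h
  rw [h]
  apply Finset.sum_congr rfl
  intro i _
  rw [hD'apply, aeval_X]
  rfl

end Chain2

section Partial

variable {k : Type u} [Field k] {σ : Type} [Fintype σ] [DecidableEq σ]
  {F : Type u} [Field F] [Algebra k F]

/-- if the differentials of the `f i` are linearly independent, every relation among the `f i`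
has all its partial derivatives vanishing at `f`. -/
theorem aeval_pderiv_eq_zero (f : σ → F)
    (hli : LinearIndependent F (fun i => KaehlerDifferential.D k F (f i)))
    (g : MvPolynomial σ k) (hg : aeval f g = 0) (i : σ) : aeval f (pderiv i g) = 0 := by
  have h := deriv_aeval (KaehlerDifferential.D k F) f g
  rw [hg, map_zero] at h
  exact (Fintype.linearIndependent_iff.1 hli) (fun i => aeval f (pderiv i g)) h.symm i

end Partial

end Groth.Agent.Helper2.KeyFlat
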