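import Mathlib
import Groth.Agent.Helper8.GeomReg7
import Groth.Agent.Helper2.KeyA

set_option autoImplicit false

namespace Groth.Agent.Helper2.KeyFlat

open MvPolynomial IsLocalRing Groth.Agent.Helper8.GeomReg

universe u

section Claim1

variable {k : Type u} [Field k] {A : Type u} [CommRing A] [IsLocalRing A] [Algebra k A]
  {σ : Type} [Fintype σ] [DecidableEq σ]
  {F : Type u} [Field F] [Algebra k F] [Algebra F (ResidueField A)]
  [IsScalarTower k F (ResidueField A)]
  (φ : MvPolynomial σ k →ₐ[k] A) (f : σ → F)

/-- the module structure of the residue field over the polynomial ring. -/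
@[reducible] noncomputable def modPK : Module (MvPolynomial σ k) (ResidueField A) :=
  Module.compHom (ResidueField A) ((residue A).comp φ.toRingHom)

include f in
theorem algebraMap_aeval (hf : ∀ i, algebraMap F (ResidueField A) (f i) = residue A (φ (X i)))
    (g : MvPolynomial σ k) : algebraMap F (ResidueField A) (aeval f g) = residue A (φ g) := by
  have h : (IsScalarTower.toAlgHom k F (ResidueField A)).comp (aeval f) =
      (IsScalarTower.toAlgHom k A (ResidueField A)).comp φ := by
    apply MvPolynomial.algHom_ext
    intro i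
    simp only [AlgHom.comp_apply, aeval_X, IsScalarTower.coe_toAlgHom']
    exact hf i
  exact AlgHom.congr_fun h g

set_option maxHeartbeats 800000 in
/-- Claim 1: derivations of the polynomial ring into the residue field see no difference
between `𝔭` and `𝔪²`. -/
theorem claim1 (hD : DerExt k A (maximalIdeal A))
    (hf : ∀ i, algebraMap F (ResidueField A) (f i) = residue A (φ (X i)))
    (hli : LinearIndependent F (fun i => KaehlerDifferential.D k F (f i)))
    {n : ℕ} (g : Fin n → MvPolynomial σ k) (hg : ∀ j, φ (g j) ∈ maximalIdeal A)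
    (c : Fin n → A) (hc : ∑ j, c j * φ (g j) ∈ maximalIdeal A ^ 2) :
    letI := modPK φ
    ∀ dd : Derivation ℤ (MvPolynomial σ k) (ResidueField A),
      ∑ j, residue A (c j) * dd (g j) = 0 := by
  letI modP := modPK φ
  intro dd
  have hsmul : ∀ (x : MvPolynomial σ k) (v : ResidueField A), x • v = residue A (φ x) * v :=
    fun _ _ => rfl
  haveI tow1 : IsScalarTower k (MvPolynomial σ k) (ResidueField A) := ⟨fun c x v => by
    rw [hsmul, hsmul, Algebra.smul_def, map_mul, AlgHom.commutes, Algebra.smul_def, map_mul,
      mul_assoc]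
    rfl⟩
  letI algPA : Algebra (MvPolynomial σ k) A := φ.toRingHom.toAlgebra
  haveI tow2 : IsScalarTower (MvPolynomial σ k) A (ResidueField A) := ⟨fun x a v => by
    show (φ x * a) • v = residue A (φ x) * (a • v)
    rw [mul_smul, Algebra.smul_def (φ x)]
    rfl⟩
  -- restriction to k and extension to A
  let δ : Derivation ℤ k (ResidueField A) := dd.compAlgebraMap k
  have hδ : ∀ c : k, δ c = dd (C c) := fun c => rfl
  obtain ⟨D0, hD0⟩ := hD (ResidueField A) (fun a ha v => by
    rw [Algebra.smul_def]
    have : algebraMap A (ResidueField A) a = 0 := (residue_eq_zero_iff a).2 ha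
    rw [this, zero_mul]) δ
  let D0' : Derivation ℤ (MvPolynomial σ k) (ResidueField A) :=
    Derivation.mk' ((D0 : A →+ ResidueField A).comp
      (φ.toRingHom : MvPolynomial σ k →+ A)).toIntLinearMap (fun a b => by
      show D0 (φ (a * b)) = a • D0 (φ b) + b • D0 (φ a)
      rw [map_mul, Derivation.leibniz]
      rfl)
  have hD0' : ∀ x, D0' x = D0 (φ x) := fun x => rfl
  let dd1 : Derivation ℤ (MvPolynomial σ k) (ResidueField A) := dd - D0'
  have hdd1C : ∀ c : k, dd1 (C c) = 0 := by
    intro c
    show dd (C c) - D0' (C c) = 0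
    rw [hD0', ← hδ, sub_eq_zero]
    have : φ (C c) = algebraMap k A c := φ.commutes c
    rw [this, hD0]
  -- dd1 kills the prime
  have hdd1 : ∀ x, φ x ∈ maximalIdeal A → dd1 x = 0 := by
    intro x hx
    rw [deriv_eq_sum dd1 hdd1C x]
    apply Finset.sum_eq_zero
    intro i _
    rw [hsmul, ← algebraMap_aeval φ f hf]
    have hx0 : aeval f x = 0 := by
      apply (algebraMap F (ResidueField A)).injective
      rw [algebraMap_aeval φ f hf, map_zero]
      exact (residue_eq_zero_iff _).2 hx
    rw [aeval_pderiv_eq_zero f hli x hx0 i, map_zero, zero_mul]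
  have hdd : ∀ j, dd (g j) = D0 (φ (g j)) := by
    intro j
    have := hdd1 (g j) (hg j)
    have h2 : dd1 (g j) = dd (g j) - D0' (g j) := rfl
    rw [h2, sub_eq_zero, hD0'] at this
    exact this
  -- D0 kills 𝔪²
  have hm : ∀ a ∈ maximalIdeal A, ∀ v : ResidueField A, a • v = 0 := by
    intro a ha v
    rw [Algebra.smul_def]
    have : algebraMap A (ResidueField A) a = 0 := (residue_eq_zero_iff a).2 ha
    rw [this, zero_mul]
  have hD0sq : ∀ x ∈ maximalIdeal A ^ 2, D0 x = 0 := by
    intro x hx
    rw [pow_two] at hx
    refine Submodule.mul_induction_on hx ?_ ?_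
    · intro u hu v hv
      rw [Derivation.leibniz, hm u hu, hm v hv, add_zero]
    · intro x y hx hy
      rw [map_add, hx, hy, add_zero]
  have h3 : D0 (∑ j, c j * φ (g j)) = ∑ j, residue A (c j) * D0 (φ (g j)) := by
    rw [map_sum]
    apply Finset.sum_congr rfl
    intro j _
    rw [Derivation.leibniz, hm _ (hg j), add_zero, Algebra.smul_def]
    rfl
  rw [Finset.sum_congr rfl (fun j _ => by rw [hdd j]), ← h3]
  exact hD0sq _ hc

end Claim1

end Groth.Agent.Helper2.KeyFlat
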