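import Mathlib

set_option autoImplicit false

namespace Groth.Agent.Helper2.KeyFlat

open IsLocalRing TensorProduct

universe u

section Conormal

variable (F₀ Q : Type u) [Field F₀] [CommRing Q] [IsLocalRing Q] [Algebra F₀ Q]
  [Algebra.FormallySmooth F₀ Q] [Algebra.FormallySmooth F₀ (ResidueField Q)]

/-- conormal injectivity, in element form. -/
theorem mem_sq_of_tmul_D_eq_zero (x : Q) (hx : x ∈ maximalIdeal Q)
    (h : (1 : ResidueField Q) ⊗ₜ[Q] KaehlerDifferential.D F₀ Q x = 0) :
    x ∈ maximalIdeal Q ^ 2 := by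
  have hsurj : Function.Surjective (algebraMap Q (ResidueField Q)) := residue_surjective
  have hinj : Function.Injective (KaehlerDifferential.kerCotangentToTensor F₀ Q (ResidueField Q)) :=
    (Algebra.FormallySmooth.kerCotangentToTensor_injective_iff hsurj).2 inferInstance
  have hker : RingHom.ker (algebraMap Q (ResidueField Q)) = maximalIdeal Q := IsLocalRing.ker_residue
  have hx' : x ∈ RingHom.ker (algebraMap Q (ResidueField Q)) := by rw [hker]; exact hx
  have h1 : KaehlerDifferential.kerCotangentToTensor F₀ Q (ResidueField Q)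
      (Ideal.toCotangent _ ⟨x, hx'⟩) = 0 := by
    rw [KaehlerDifferential.kerCotangentToTensor_toCotangent]
    exact h
  have h2 := hinj (h1.trans (map_zero _).symm)
  rw [Ideal.toCotangent_eq_zero] at h2
  rw [← hker]
  exact h2

end Conormal


section Dual

variable (F₀ Q : Type u) [Field F₀] [CommRing Q] [IsLocalRing Q] [Algebra F₀ Q]
  [Algebra.FormallySmooth F₀ Q] [Algebra.FormallySmooth F₀ (ResidueField Q)]

set_option maxHeartbeats 800000 in
/-- dual derivations for elements of the maximal ideal which are independent modulo `𝔪²`. -/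
theorem exists_derivation_dual {h : ℕ} (g : Fin h → Q) (hg : ∀ j, g j ∈ maximalIdeal Q)
    (hind : ∀ a : Fin h → Q, ∑ j, a j * g j ∈ maximalIdeal Q ^ 2 → ∀ j, a j ∈ maximalIdeal Q)
    (l : Fin h) :
    ∃ d : Derivation F₀ Q (ResidueField Q), ∀ j, d (g j) = if j = l then 1 else 0 := by
  classical
  let v : Fin h → ResidueField Q ⊗[Q] Ω[Q⁄F₀] := fun j => 1 ⊗ₜ KaehlerDifferential.D F₀ Q (g j)
  have hres0 : ∀ x ∈ maximalIdeal Q, ∀ ω : Ω[Q⁄F₀], (1 : ResidueField Q) ⊗ₜ[Q] (x • ω) = 0 := by
    intro x hx ω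
    rw [← TensorProduct.smul_tmul, Algebra.smul_def, mul_one]
    have : algebraMap Q (ResidueField Q) x = 0 := (residue_eq_zero_iff x).2 hx
    rw [this, zero_tmul]
  have hv : LinearIndependent (ResidueField Q) v := by
    rw [Fintype.linearIndependent_iff]
    intro a ha j
    choose a' ha' using fun j => residue_surjective (a j)
    have h1 : (1 : ResidueField Q) ⊗ₜ[Q] KaehlerDifferential.D F₀ Q (∑ j, a' j * g j) = 0 := by
      rw [← ha, map_sum, tmul_sum]
      apply Finset.sum_congr rfl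
      intro j _
      rw [Derivation.leibniz, tmul_add, hres0 _ (hg j), add_zero, ← ha' j]
      show _ = residue Q (a' j) • ((1 : ResidueField Q) ⊗ₜ[Q] KaehlerDifferential.D F₀ Q (g j))
      rw [TensorProduct.smul_tmul', ← TensorProduct.smul_tmul, Algebra.smul_def, smul_eq_mul]
      rfl
    have h2 := mem_sq_of_tmul_D_eq_zero F₀ Q _
      (Ideal.sum_mem _ fun j _ => Ideal.mul_mem_left _ _ (hg j)) h1
    rw [← ha' j]
    exact (residue_eq_zero_iff _).2 (hind a' h2 j)
  -- the dual functional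
  let f0 : Submodule.span (ResidueField Q) (Set.range v) →ₗ[ResidueField Q] ResidueField Q :=
    (Finsupp.lapply l).comp hv.repr
  obtain ⟨ℓ, hℓ⟩ := LinearMap.exists_extend f0
  have hℓv : ∀ j, ℓ (v j) = if j = l then 1 else 0 := by
    intro j
    have hmem : v j ∈ Submodule.span (ResidueField Q) (Set.range v) :=
      Submodule.subset_span (Set.mem_range_self j)
    have h3 : ℓ (v j) = f0 ⟨v j, hmem⟩ := by
      rw [← hℓ]
      rfl
    rw [h3]
    show (hv.repr ⟨v j, hmem⟩) l = _
    rw [hv.repr_eq_single j ⟨v j, hmem⟩ rfl, Finsupp.single_apply]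
  let L : Ω[Q⁄F₀] →ₗ[Q] ResidueField Q :=
    (ℓ.restrictScalars Q).comp (TensorProduct.mk Q (ResidueField Q) Ω[Q⁄F₀] 1)
  refine ⟨L.compDer (KaehlerDifferential.D F₀ Q), fun j => ?_⟩
  show ℓ ((1 : ResidueField Q) ⊗ₜ[Q] KaehlerDifferential.D F₀ Q (g j)) = _
  exact hℓv j

end Dual

end Groth.Agent.Helper2.KeyFlat
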