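import Mathlib
import Groth.Prelude.Def_Found
import Groth.Agent.Helper2.RegHom2

namespace Groth.Agent.Helper2.RegHom3
open IsLocalRing TensorProduct

universe u

/-- smooth over a regular ring is regular -/
theorem isRegularRing_of_smooth (A B : Type u) [CommRing A] [CommRing B] [Algebra A B]
    [IsRegularRing A] [Algebra.Smooth A B] : IsRegularRing B := by
  haveI : IsNoetherianRing B := Algebra.FiniteType.isNoetherianRing A B
  exact Groth.Agent.Helper2.RegHom.isRegularRing_of_isRegularHom A B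
    (Groth.Agent.Helper2.RegHom2.isRegularHom_of_smooth A B)

theorem isGeometricallyRegular_of_smooth (k : Type u) [Field k] (A : Type u) [CommRing A]
    [Algebra k A] (B : Type u) [CommRing B] [Algebra k B] [Algebra A B]
    [IsScalarTower k A B] [Algebra.Smooth A B] (hA : CAlg.IsGeometricallyRegular k A) :
    CAlg.IsGeometricallyRegular k B := by
  intro k' _ _ hfin
  have h1 : IsRegularRing (k' ⊗[k] A) := hA k' hfin
  haveI h2 : IsRegularRing (A ⊗[k] k') :=
    IsRegularRing.of_ringEquiv (Algebra.TensorProduct.comm k k' A).toRingEquiv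
  haveI : Algebra.Smooth (A ⊗[k] k') ((A ⊗[k] k') ⊗[A] B) := inferInstance
  have h3 : IsRegularRing ((A ⊗[k] k') ⊗[A] B) := isRegularRing_of_smooth (A ⊗[k] k') _
  have e1 : (A ⊗[k] k') ⊗[A] B ≃+* B ⊗[A] (A ⊗[k] k') :=
    (Algebra.TensorProduct.comm A (A ⊗[k] k') B).toRingEquiv
  have e2 : B ⊗[A] (A ⊗[k] k') ≃+* B ⊗[k] k' :=
    (Algebra.TensorProduct.cancelBaseChange k A A B k').toRingEquiv
  have e3 : B ⊗[k] k' ≃+* k' ⊗[k] B := (Algebra.TensorProduct.comm k B k').toRingEquiv
  exact IsRegularRing.of_ringEquiv ((e1.trans e2).trans e3)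

end Groth.Agent.Helper2.RegHom3
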