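import Mathlib
import Groth.Agent.Helper7.KAlgB
import Groth.Agent.Helper8.GeomReg9
import Groth.Agent.Helper2.KeyB
import Groth.Agent.Helper2.KeyC

set_option autoImplicit false

namespace Groth.Agent.Helper2.KeyFlat

open IsLocalRing MvPolynomial Groth.Agent.Helper8.GeomReg

universe u

section Gens

variable {Q : Type u} [CommRing Q] [IsRegularLocalRing Q]

/-- a minimal system of generators of the maximal ideal of a regular local ring is independent
modulo `𝔪²` (element form). -/
theorem hind_of_gens {h : ℕ} (hd : ringKrullDim Q = h) (t : Fin h → Q)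
    (ht : Ideal.span (Set.range t) = maximalIdeal Q) :
    ∀ a : Fin h → Q, ∑ j, a j * t j ∈ maximalIdeal Q ^ 2 → ∀ j, a j ∈ maximalIdeal Q := by
  have htm : ∀ j, t j ∈ maximalIdeal Q := fun j => ht ▸ Ideal.subset_span (Set.mem_range_self j)
  let x : Fin h → maximalIdeal Q := fun j => ⟨t j, htm j⟩
  have hspan : Submodule.span Q (Set.range x) = ⊤ := by
    apply Submodule.map_injective_of_injective (maximalIdeal Q).injective_subtype
    rw [Submodule.map_span, Submodule.map_top, Submodule.range_subtype, ← Set.range_comp]
    exact ht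
  have hspan' : Submodule.span (ResidueField Q)
      (Set.range fun j => (maximalIdeal Q).toCotangent (x j)) = ⊤ := by
    have := (CotangentSpace.span_image_eq_top_iff (R := Q) (s := Set.range x)).2 hspan
    rw [← Set.range_comp] at this
    exact this
  have hfin : Module.finrank (ResidueField Q) (CotangentSpace Q) = h := by
    have h1 := (IsRegularLocalRing.iff_finrank_cotangentSpace Q).1 inferInstance
    rw [hd] at h1
    exact_mod_cast h1
  have hli : LinearIndependent (ResidueField Q) (fun j => (maximalIdeal Q).toCotangent (x j)) := by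
    apply linearIndependent_of_top_le_span_of_card_eq_finrank (le_of_eq hspan'.symm)
    rw [Fintype.card_fin]
    exact hfin.symm
  exact (Groth.Agent.Helper7.KAlg.cot_li_iff' x).1 hli

end Gens


section Main

variable {k : Type u} [Field k] {A : Type u} [CommRing A] [IsLocalRing A] [Algebra k A]
  {m : ℕ} {F : Type u} [Field F] [Algebra k F] [Algebra F (ResidueField A)]
  [IsScalarTower k F (ResidueField A)]
  (φ : MvPolynomial (Fin m) k →ₐ[k] A) (f : Fin m → F)

/-- the prime of the polynomial ring under the maximal ideal. -/
noncomputable abbrev pp : Ideal (MvPolynomial (Fin m) k) := Ideal.comap φ.toRingHom (maximalIdeal A)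

instance : (pp φ).IsPrime := Ideal.comap_isPrime _ _

include f in
set_option maxHeartbeats 1600000 in
/-- a minimal system of generators of `𝔭 P_𝔭` maps to elements of `𝔪` independent modulo `𝔪²`. -/
theorem indep_of_gens (hD : DerExt k A (maximalIdeal A))
    (hf : ∀ i, algebraMap F (ResidueField A) (f i) = residue A (φ (X i)))
    (hli : LinearIndependent F (fun i => KaehlerDifferential.D k F (f i)))
    {h : ℕ} (hd : ringKrullDim (Localization.AtPrime (pp φ)) = h)
    (g : Fin h → MvPolynomial (Fin m) k)
    (hg : Ideal.span (Set.range fun j =>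
        algebraMap (MvPolynomial (Fin m) k) (Localization.AtPrime (pp φ)) (g j)) =
      maximalIdeal (Localization.AtPrime (pp φ)))
    (c : Fin h → A) (hc : ∑ j, c j * φ (g j) ∈ maximalIdeal A ^ 2) :
    ∀ j, c j ∈ maximalIdeal A := by
  classical
  obtain ⟨F₀, _, _, hF₀⟩ := exists_primeField k
  haveI : Algebra.FormallySmooth F₀ k := hF₀ k
  haveI : Algebra.FormallySmooth F₀ (MvPolynomial (Fin m) k) :=
    Algebra.FormallySmooth.comp F₀ k (MvPolynomial (Fin m) k)
  haveI : Algebra.FormallySmooth (MvPolynomial (Fin m) k) (Localization.AtPrime (pp φ)) :=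
    Algebra.FormallySmooth.of_isLocalization (pp φ).primeCompl
  haveI : Algebra.FormallySmooth F₀ (Localization.AtPrime (pp φ)) :=
    Algebra.FormallySmooth.comp F₀ (MvPolynomial (Fin m) k) (Localization.AtPrime (pp φ))
  haveI : Algebra.FormallySmooth F₀ (ResidueField (Localization.AtPrime (pp φ))) := hF₀ _
  have hgm : ∀ j, algebraMap (MvPolynomial (Fin m) k) (Localization.AtPrime (pp φ)) (g j) ∈
      maximalIdeal (Localization.AtPrime (pp φ)) := fun j =>
    hg ▸ Ideal.subset_span (Set.mem_range_self j)
  have hgp : ∀ j, φ (g j) ∈ maximalIdeal A := by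
    intro j
    have := (IsLocalization.AtPrime.to_map_mem_maximal_iff (Localization.AtPrime (pp φ))
      (pp φ) (g j)).1 (hgm j)
    exact this
  have hind := hind_of_gens hd _ hg
  -- the local homomorphism
  have hunits : ∀ y : (pp φ).primeCompl, IsUnit (φ.toRingHom y) := by
    intro y
    by_contra hy
    exact y.2 ((mem_maximalIdeal _).2 hy)
  let ψ : Localization.AtPrime (pp φ) →+* A := IsLocalization.lift hunits
  have hψ : ∀ x, ψ (algebraMap _ _ x) = φ x := fun x => IsLocalization.lift_eq hunits x
  haveI hloc : IsLocalHom ψ := by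
    apply ((IsLocalRing.local_hom_TFAE ψ).out 0 2).2
    rw [← Localization.AtPrime.map_eq_maximalIdeal, Ideal.map_map]
    have : ψ.comp (algebraMap (MvPolynomial (Fin m) k) (Localization.AtPrime (pp φ))) =
        φ.toRingHom := RingHom.ext hψ
    rw [this]
    exact Ideal.map_comap_le
  let ι : ResidueField (Localization.AtPrime (pp φ)) →+* ResidueField A := ResidueField.map ψ
  have hι : ∀ x : MvPolynomial (Fin m) k,
      ι (residue _ (algebraMap _ (Localization.AtPrime (pp φ)) x)) = residue A (φ x) := by
    intro x
    show ResidueField.map ψ (residue _ _) = _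
    rw [ResidueField.map_residue, hψ]
  letI modP := modPK φ
  have hsmul : ∀ (x : MvPolynomial (Fin m) k) (v : ResidueField A), x • v = residue A (φ x) * v :=
    fun _ _ => rfl
  intro l
  obtain ⟨d, hdl⟩ := exists_derivation_dual F₀ (Localization.AtPrime (pp φ)) _ hgm hind l
  let addmap : MvPolynomial (Fin m) k →+ ResidueField A :=
    { toFun := fun x => ι (d (algebraMap _ (Localization.AtPrime (pp φ)) x))
      map_zero' := by rw [map_zero, map_zero, map_zero]
      map_add' := fun x y => by rw [map_add, map_add, map_add] }
  let dd : Derivation ℤ (MvPolynomial (Fin m) k) (ResidueField A) :=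
    Derivation.mk' addmap.toIntLinearMap (fun a b => by
      show ι (d (algebraMap _ _ (a * b))) = a • ι (d (algebraMap _ _ b)) + b • ι (d (algebraMap _ _ a))
      rw [map_mul, Derivation.leibniz, map_add, hsmul, hsmul, Algebra.smul_def, Algebra.smul_def,
        map_mul, map_mul]
      congr 1
      · congr 1
        exact hι a
      · congr 1
        exact hι b)
  have hdd : ∀ x, dd x = ι (d (algebraMap _ _ x)) := fun x => rfl
  have h1 := claim1 φ f hD hf hli g hgp c hc dd
  rw [Finset.sum_eq_single l] at h1
  · rw [hdd, hdl l, if_pos rfl, map_one, mul_one] at h1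
    exact (residue_eq_zero_iff _).1 h1
  · intro j _ hjl
    rw [hdd, hdl j, if_neg hjl, map_zero, mul_zero]
  · intro hl
    exact absurd (Finset.mem_univ _) hl

end Main

end Groth.Agent.Helper2.KeyFlat
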