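import Mathlib
import Groth.Agent.Lead.RegLocal
import Groth.Agent.Helper2.RegCM
import Groth.Agent.Helper2.Miracle
import Groth.Agent.Helper2.ParamAnn
import Groth.Agent.Helper2.KeyD

set_option autoImplicit false

namespace Groth.Agent.Helper2.KeyFlat

open IsLocalRing MvPolynomial Groth.Agent.Helper8.GeomReg

universe u

section RegQuot

/-- the quotient of a regular local ring by elements of `𝔪` independent modulo `𝔪²` is regular,
and the dimension drops by the number of elements. -/
theorem regQuot : ∀ (h : ℕ) (R : Type u) [CommRing R] [IsRegularLocalRing R] (x : Fin h → R),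
    (∀ j, x j ∈ maximalIdeal R) →
    (∀ a : Fin h → R, ∑ j, a j * x j ∈ maximalIdeal R ^ 2 → ∀ j, a j ∈ maximalIdeal R) →
    IsRegularLocalRing (R ⧸ Ideal.span (Set.range x)) ∧
      ringKrullDim (R ⧸ Ideal.span (Set.range x)) + h = ringKrullDim R := by
  intro h
  induction h with
  | zero =>
    intro R _ _ x _ _
    have h0 : Ideal.span (Set.range x) = ⊥ := by
      rw [Set.range_eq_empty x, Ideal.span_empty]
    let e : R ≃+* (R ⧸ Ideal.span (Set.range x)) :=
      (RingEquiv.quotientBot R).symm.trans (Ideal.quotEquivOfEq h0.symm)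
    refine ⟨IsRegularLocalRing.of_ringEquiv e, ?_⟩
    rw [← ringKrullDim_eq_of_ringEquiv e]
    simp
  | succ h ih =>
    intro R _ _ x hx hind
    classical
    have hx0 : x 0 ∈ maximalIdeal R := hx 0
    have hx02 : x 0 ∉ maximalIdeal R ^ 2 := by
      intro hmem
      have h1 := hind (Pi.single 0 1) (by
        rw [Finset.sum_eq_single 0]
        · rw [Pi.single_eq_same, one_mul]; exact hmem
        · intro j _ hj
          rw [Pi.single_eq_of_ne hj, zero_mul]
        · intro h0; exact absurd (Finset.mem_univ _) h0) 0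
      rw [Pi.single_eq_same] at h1
      exact (maximalIdeal.isMaximal R).ne_top ((Ideal.eq_top_iff_one _).2 h1)
    obtain ⟨hreg', hdim', -⟩ := Groth.Agent.Lead.RegLocal.quotient_isRegularLocalRing hx0 hx02
    haveI := hreg'
    have hI : Ideal.span {x 0} ≠ ⊤ := by
      intro htop
      have : Ideal.span {x 0} ≤ maximalIdeal R := (Ideal.span_singleton_le_iff_mem _).mpr hx0
      rw [htop] at this
      exact (maximalIdeal.isMaximal R).ne_top (top_le_iff.mp this)
    obtain ⟨_, hmax⟩ := Groth.Agent.Lead.RegLocal.quotient_local hI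
    let x' : Fin h → R ⧸ Ideal.span {x 0} := fun j => Ideal.Quotient.mk _ (x j.succ)
    have hx' : ∀ j, x' j ∈ maximalIdeal (R ⧸ Ideal.span {x 0}) := by
      intro j
      rw [← hmax]
      exact Ideal.mem_map_of_mem _ (hx j.succ)
    have hind' : ∀ a : Fin h → R ⧸ Ideal.span {x 0},
        ∑ j, a j * x' j ∈ maximalIdeal (R ⧸ Ideal.span {x 0}) ^ 2 →
        ∀ j, a j ∈ maximalIdeal (R ⧸ Ideal.span {x 0}) := by
      intro a ha j
      choose a0 ha0 using fun j => Ideal.Quotient.mk_surjective (a j)
      have h1 : Ideal.Quotient.mk (Ideal.span {x 0}) (∑ j, a0 j * x j.succ) ∈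
          (maximalIdeal R ^ 2).map (Ideal.Quotient.mk (Ideal.span {x 0})) := by
        rw [Ideal.map_pow, hmax, map_sum]
        convert ha using 1
        apply Finset.sum_congr rfl
        intro j _
        rw [map_mul, ha0]
      rw [Ideal.mem_map_iff_of_surjective _ Ideal.Quotient.mk_surjective] at h1
      obtain ⟨y, hy, hyeq⟩ := h1
      have h2 : y - ∑ j, a0 j * x j.succ ∈ Ideal.span {x 0} := Ideal.Quotient.eq.1 hyeq
      obtain ⟨b, hb⟩ := Ideal.mem_span_singleton'.1 h2
      have h3 := hind (Fin.cons b a0) (by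
        rw [Fin.sum_univ_succ]
        simp only [Fin.cons_zero, Fin.cons_succ]
        rw [hb, sub_add_cancel]
        exact hy) j.succ
      rw [Fin.cons_succ] at h3
      rw [← ha0 j, ← hmax]
      exact Ideal.mem_map_of_mem _ h3
    obtain ⟨hreg'', hdim''⟩ := ih (R ⧸ Ideal.span {x 0}) x' hx' hind'
    -- the isomorphism
    have hrange : Set.range x = insert (x 0) (Set.range fun j : Fin h => x j.succ) := by
      ext z
      constructor
      · rintro ⟨j, rfl⟩
        refine Fin.cases ?_ (fun j => ?_) j
        · exact Set.mem_insert _ _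
        · exact Set.mem_insert_of_mem _ ⟨j, rfl⟩
      · rintro (rfl | ⟨j, rfl⟩)
        · exact ⟨0, rfl⟩
        · exact ⟨j.succ, rfl⟩
    have hsup : Ideal.span {x 0} ⊔ Ideal.span (Set.range fun j : Fin h => x j.succ) =
        Ideal.span (Set.range x) := by
      rw [hrange, Ideal.span_insert]
    have hmap : (Ideal.span (Set.range fun j : Fin h => x j.succ)).map
        (Ideal.Quotient.mk (Ideal.span {x 0})) = Ideal.span (Set.range x') := by
      rw [Ideal.map_span, ← Set.range_comp]
      rfl
    let e : (R ⧸ Ideal.span {x 0}) ⧸ Ideal.span (Set.range x') ≃+* R ⧸ Ideal.span (Set.range x) :=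
      (Ideal.quotEquivOfEq hmap.symm).trans
        ((DoubleQuot.quotQuotEquivQuotSup _ _).trans (Ideal.quotEquivOfEq hsup))
    haveI := hreg''
    refine ⟨IsRegularLocalRing.of_ringEquiv e, ?_⟩
    rw [← ringKrullDim_eq_of_ringEquiv e, ← hdim', ← hdim'']
    push_cast
    rw [add_assoc]

end RegQuot


section Main2

variable {k : Type u} [Field k] {A : Type u} [CommRing A] [IsRegularLocalRing A] [Algebra k A]
  {m : ℕ} {F : Type u} [Field F] [Algebra k F] [Algebra F (ResidueField A)]
  [IsScalarTower k F (ResidueField A)]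
  (φ : MvPolynomial (Fin m) k →ₐ[k] A) (f : Fin m → F)

include f in
set_option maxHeartbeats 1600000 in
/-- The key flatness statement. -/
theorem main (hD : DerExt k A (maximalIdeal A))
    (hf : ∀ i, algebraMap F (ResidueField A) (f i) = residue A (φ (X i)))
    (hli : LinearIndependent F (fun i => KaehlerDifferential.D k F (f i))) :
    letI := φ.toRingHom.toAlgebra
    Module.Flat (MvPolynomial (Fin m) k) A ∧
      IsRegularLocalRing (A ⧸ (pp φ).map φ.toRingHom) ∧
      ringKrullDim (A ⧸ (pp φ).map φ.toRingHom) + ringKrullDim (Localization.AtPrime (pp φ)) =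
        ringKrullDim A := by
  classical
  obtain ⟨h, hd⟩ : ∃ h : ℕ, ringKrullDim (Localization.AtPrime (pp φ)) = h :=
    ⟨_, IsRegularLocalRing.spanFinrank_maximalIdeal.symm⟩
  obtain ⟨g, hg⟩ := Groth.Agent.Helper2.ParamAnn.exists_gens (pp φ) hd
  have hgm : ∀ j, algebraMap (MvPolynomial (Fin m) k) (Localization.AtPrime (pp φ)) (g j) ∈
      maximalIdeal (Localization.AtPrime (pp φ)) := fun j =>
    hg ▸ Ideal.subset_span (Set.mem_range_self j)
  have hx : ∀ j, φ (g j) ∈ maximalIdeal A := by
    intro j
    have := (IsLocalization.AtPrime.to_map_mem_maximal_iff (Localization.AtPrime (pp φ))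
      (pp φ) (g j)).1 (hgm j)
    exact this
  have hindA : ∀ c : Fin _ → A, ∑ j, c j * φ (g j) ∈ maximalIdeal A ^ 2 →
      ∀ j, c j ∈ maximalIdeal A := fun c hc => indep_of_gens φ f hD hf hli hd g hg c hc
  obtain ⟨hregq, hdimq⟩ := regQuot _ A (fun j => φ (g j)) hx hindA
  -- the local homomorphism
  have hunits : ∀ y : (pp φ).primeCompl, IsUnit (φ.toRingHom y) := by
    intro y
    by_contra hy
    exact y.2 ((mem_maximalIdeal _).2 hy)
  let ψ : Localization.AtPrime (pp φ) →+* A := IsLocalization.lift hunits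
  have hψ : ∀ x, ψ (algebraMap _ _ x) = φ x := fun x => IsLocalization.lift_eq hunits x
  have hψcomp : ψ.comp (algebraMap (MvPolynomial (Fin m) k) (Localization.AtPrime (pp φ))) =
      φ.toRingHom := RingHom.ext hψ
  have hmaxmap : (maximalIdeal (Localization.AtPrime (pp φ))).map ψ =
      Ideal.span (Set.range fun j => φ (g j)) := by
    rw [← hg, Ideal.map_span, ← Set.range_comp]
    congr 1
    ext z
    constructor
    · rintro ⟨j, rfl⟩
      exact ⟨j, (hψ _).symm⟩
    · rintro ⟨j, rfl⟩
      exact ⟨j, hψ _⟩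
  have hIeq : (pp φ).map φ.toRingHom = Ideal.span (Set.range fun j => φ (g j)) := by
    rw [← hmaxmap, ← Localization.AtPrime.map_eq_maximalIdeal, Ideal.map_map, hψcomp]
  haveI hloc : IsLocalHom ψ := by
    apply ((IsLocalRing.local_hom_TFAE ψ).out 0 2).2
    rw [hmaxmap, Ideal.span_le]
    rintro _ ⟨j, rfl⟩
    exact hx j
  refine ⟨?_, ?_, ?_⟩
  · letI algPA : Algebra (MvPolynomial (Fin m) k) A := φ.toRingHom.toAlgebra
    letI algQA : Algebra (Localization.AtPrime (pp φ)) A := ψ.toAlgebra
    haveI tow : IsScalarTower (MvPolynomial (Fin m) k) (Localization.AtPrime (pp φ)) A :=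
      IsScalarTower.of_algebraMap_eq fun x => (hψ x).symm
    haveI : IsLocalHom (algebraMap (Localization.AtPrime (pp φ)) A) := hloc
    haveI : LocCoh.IsCohenMacaulayLocalRing A :=
      { supportDim_eq_depth := Groth.Agent.Helper2.RegCM.cm_of_isRegularLocalRing A }
    haveI : Module.Flat (Localization.AtPrime (pp φ)) A := by
      apply Groth.Agent.Helper2.Miracle.flat_of_cm_ring
      have h1 : (maximalIdeal (Localization.AtPrime (pp φ))).map
          (algebraMap (Localization.AtPrime (pp φ)) A) =
          Ideal.span (Set.range fun j => φ (g j)) := hmaxmap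
      rw [h1, ← hdimq, hd, add_comm]
    haveI : Module.Flat (MvPolynomial (Fin m) k) (Localization.AtPrime (pp φ)) :=
      IsLocalization.flat _ (pp φ).primeCompl
    exact Module.Flat.trans (MvPolynomial (Fin m) k) (Localization.AtPrime (pp φ)) A
  · rw [hIeq]
    exact hregq
  · rw [hIeq, hd]
    exact hdimq

end Main2

end Groth.Agent.Helper2.KeyFlat
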