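import Mathlib
import Groth.Prelude
import Groth.Agent.Helper2.KeyE
import Groth.Agent.Helper2.InsE
import Groth.Agent.Helper2.InsF
import Groth.Agent.Helper2.InsH
import Groth.Agent.Helper2.InsI

set_option autoImplicit false

namespace Groth.Agent.Helper2.Ins

open IsLocalRing TensorProduct MvPolynomial Groth.Agent.Helper8.GeomReg

universe u

section A2

variable {k Λ : Type u} [Field k] [CommRing Λ] [Algebra k Λ] (q : Ideal Λ) [q.IsPrime]
  {N : ℕ} [IsLocalRing (QP (Localization.AtPrime q) N)]
  (D : Subalgebra k (QP (Localization.AtPrime q) N)) [IsLocalRing D]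

/-- choice of elements of `Λ` whose differentials form a basis of `Ω[F⁄k]`. -/
theorem exists_basis_lifts (Y : Finset (QP (Localization.AtPrime q) N))
    (hYΛ : ∀ y ∈ Y, ∃ x : Λ, toLbar (k := k) q N x = y) (hYD : ∀ y ∈ Y, y ∈ D)
    (hcl : Subfield.closure (Set.range (algebraMap k (ResidueField D)) ∪
      Set.range (fun y : {y // y ∈ Y} => residue D ⟨y.1, hYD y.1 y.2⟩)) = ⊤) :
    ∃ (t : ℕ) (lam : Fin t → Λ) (hlamD : ∀ j, toLbar (k := k) q N (lam j) ∈ D),
      LinearIndependent (ResidueField D) (fun j => KaehlerDifferential.D k (ResidueField D)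
        (residue D ⟨toLbar (k := k) q N (lam j), hlamD j⟩)) ∧
      Submodule.span (ResidueField D) (Set.range fun j =>
        KaehlerDifferential.D k (ResidueField D)
          (residue D ⟨toLbar (k := k) q N (lam j), hlamD j⟩)) = ⊤ := by
  classical
  set W : Set (ResidueField D) :=
    Set.range (fun y : {y // y ∈ Y} => residue D ⟨y.1, hYD y.1 y.2⟩) with hW
  have hspan := span_D_of_closure (k := k) W hcl
  obtain ⟨b, hbsub, hbspan, hbli⟩ := exists_linearIndependent (ResidueField D)
    ((KaehlerDifferential.D k (ResidueField D)) '' W)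
  rw [hspan] at hbspan
  have hbfin : b.Finite := ((Set.finite_range _).image _).subset hbsub
  haveI : Fintype b := hbfin.fintype
  let eqv : Fin (Fintype.card b) ≃ b := (Fintype.equivFin b).symm
  have hpre : ∀ j : Fin (Fintype.card b), ∃ (x : Λ) (hx : toLbar (k := k) q N x ∈ D),
      KaehlerDifferential.D k (ResidueField D) (residue D ⟨toLbar (k := k) q N x, hx⟩) =
        (eqv j : Ω[ResidueField D⁄k]) := by
    intro j
    obtain ⟨w, ⟨⟨y, hy⟩, rfl⟩, hw⟩ := hbsub (eqv j).2
    obtain ⟨x, hx⟩ := hYΛ y hy
    refine ⟨x, hx ▸ hYD y hy, ?_⟩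
    rw [← hw]
    congr 2
    exact Subtype.ext hx
  choose lam hlamD hlam using hpre
  refine ⟨Fintype.card b, lam, hlamD, ?_, ?_⟩
  · have : (fun j => KaehlerDifferential.D k (ResidueField D)
        (residue D ⟨toLbar (k := k) q N (lam j), hlamD j⟩)) = Subtype.val ∘ eqv := by
      funext j
      exact hlam j
    rw [this]
    exact hbli.comp eqv eqv.injective
  · have : (Set.range fun j => KaehlerDifferential.D k (ResidueField D)
        (residue D ⟨toLbar (k := k) q N (lam j), hlamD j⟩)) = b := by
      ext w
      constructor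
      · rintro ⟨j, rfl⟩
        beta_reduce
        rw [hlam j]
        exact (eqv j).2
      · intro hw
        refine ⟨eqv.symm ⟨w, hw⟩, ?_⟩
        beta_reduce
        rw [hlam, Equiv.apply_symm_apply]
    rw [this]
    exact hbspan

end A2

section GeomLoc

variable {k A : Type u} [Field k] [CommRing A] [Algebra k A]

/-- geometric regularity passes to localizations (no local hypothesis). -/
theorem geomReg_localization' (h : CAlg.IsGeometricallyRegular k A) (M : Submonoid A)
    (B : Type u) [CommRing B] [Algebra A B] [Algebra k B] [IsScalarTower k A B] [IsLocalization M B] :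
    CAlg.IsGeometricallyRegular k B := by
  intro k' _ _ hfin
  haveI := h k' hfin
  letI : Algebra (k' ⊗[k] A) (k' ⊗[k] B) :=
    (Algebra.TensorProduct.map (AlgHom.id k' k') (IsScalarTower.toAlgHom k A B)).toRingHom.toAlgebra
  haveI : IsScalarTower k' (k' ⊗[k] A) (k' ⊗[k] B) := IsScalarTower.of_algebraMap_eq fun x => by
    change _ = (Algebra.TensorProduct.map (AlgHom.id k' k') (IsScalarTower.toAlgHom k A B))
      (algebraMap k' (k' ⊗[k] A) x)
    rw [AlgHom.commutes]
  haveI := IsLocalization.tensorProduct_tensorProduct_right k k' M B (by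
    ext a
    change (Algebra.TensorProduct.map (AlgHom.id k' k') (IsScalarTower.toAlgHom k A B))
      ((1 : k') ⊗ₜ[k] a) = (1 : k') ⊗ₜ[k] algebraMap A B a
    rw [Algebra.TensorProduct.map_tmul]
    rfl)
  exact Groth.Agent.Helper2.SepAlg.isRegularRing_of_isLocalization
    (M.map (Algebra.TensorProduct.includeRight (R := k) (A := k'))) (k' ⊗[k] B)

end GeomLoc

section A3

variable (p : ℕ) [Fact p.Prime] {k Λ : Type u} [Field k] [CharP k p] [CommRing Λ] [Algebra k Λ]
  [IsNoetherianRing Λ] (q : Ideal Λ) [q.IsPrime]

include p in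
set_option maxHeartbeats 6400000 in
/-- **Lemma P** (Stacks 07F2 analogue). -/
theorem lemmaP (hreg : CAlg.IsGeometricallyRegular k Λ)
    {N : ℕ} (hN : 0 < N) [IsLocalRing (QP (Localization.AtPrime q) N)] (E₀ : Finset Λ) :
    ∃ (P : Type u) (_ : CommRing P) (_ : Algebra k P) (_ : IsRegularRing P)
      (_ : Algebra.FormallySmooth k P) (_ : Algebra.FinitePresentation k P)
      (f : P →ₐ[k] Λ),
      ringKrullDim (Localization.AtPrime
        (pB ((IsScalarTower.toAlgHom k Λ (Localization.AtPrime q)).comp f))) =
          ringKrullDim (Localization.AtPrime q) ∧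
      (pB ((IsScalarTower.toAlgHom k Λ (Localization.AtPrime q)).comp f)).map
        ((IsScalarTower.toAlgHom k Λ (Localization.AtPrime q)).comp f).toRingHom =
          maximalIdeal (Localization.AtPrime q) ∧
      ∃ (D : Subalgebra k (QP (Localization.AtPrime q) N)) (_ : IsLocalRing D),
        IsLocalHom (algebraMap D (QP (Localization.AtPrime q) N)) ∧
        Module.Flat D (QP (Localization.AtPrime q) N) ∧
        (∀ x ∈ E₀, toLbar (k := k) q N x ∈ D) ∧
        ∃ (hPD : ∀ y : P, toLbar (k := k) q N (f y) ∈ D)
          (alg : Algebra (QP (Localization.AtPrime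
            (pB ((IsScalarTower.toAlgHom k Λ (Localization.AtPrime q)).comp f))) N) D),
          @Algebra.Etale _ D _ _ alg ∧
          ∀ y : P, @algebraMap _ _ _ _ alg (Ideal.Quotient.mk _ (algebraMap P _ y)) =
            ⟨toLbar (k := k) q N (f y), hPD y⟩ := by
  classical
  -- the local ring
  have hL : CAlg.IsGeometricallyRegular k (Localization.AtPrime q) :=
    geomReg_localization' hreg q.primeCompl _
  have hadic := (s2036 (k := k) (A := Localization.AtPrime q) p).1 hL
  haveI hregL : IsRegularLocalRing (Localization.AtPrime q) := isRegularLocalRing_of_adic hadic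
  have hDer := derExt_of_adic _ hadic
  -- generators of `q`
  obtain ⟨rq, gq, hgq⟩ := Submodule.fg_iff_exists_fin_generating_family.1
    (IsNoetherian.noetherian q)
  -- the artinian subring
  obtain ⟨D, hDloc, Y, hlocal, hflatD, hmaxD, hess, hED, hYΛ, hYD, hcl⟩ :=
    exists_D p q hadic hN (E₀ ∪ Finset.univ.image gq)
  haveI := hDloc
  haveI := hlocal
  obtain ⟨t, lam, hlamD, hli, hspan⟩ := exists_basis_lifts q D Y hYΛ hYD hcl
  -- the field `F` inside the residue field of `L`
  let ρ₀ : QP (Localization.AtPrime q) N →+* ResidueField (Localization.AtPrime q) :=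
    Ideal.Quotient.factor (Ideal.pow_le_self hN.ne')
  have hρ₀ : ∀ l, ρ₀ (Ideal.Quotient.mk _ l) = residue (Localization.AtPrime q) l := fun l => rfl
  let ιF : ResidueField D →+* ResidueField (Localization.AtPrime q) :=
    Ideal.Quotient.lift (maximalIdeal D) (ρ₀.comp D.val.toRingHom) (by
      intro a ha
      have h1 : (a : QP (Localization.AtPrime q) N) ∈ maximalIdeal _ := by
        rw [mem_maximalIdeal, mem_nonunits_iff] at ha ⊢
        intro hu
        exact ha (isUnit_of_map_unit (algebraMap D (QP (Localization.AtPrime q) N)) a hu)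
      obtain ⟨l, hl⟩ := Ideal.Quotient.mk_surjective (a : QP (Localization.AtPrime q) N)
      show ρ₀ (a : QP (Localization.AtPrime q) N) = 0
      rw [← hl] at h1 ⊢
      rw [mk_mem_maximalIdeal_QP_iff _ hN] at h1
      rw [hρ₀, residue_eq_zero_iff]
      exact h1)
  have hιF : ∀ w : D, ιF (residue D w) = ρ₀ (w : QP (Localization.AtPrime q) N) := fun w => rfl
  letI algF : Algebra (ResidueField D) (ResidueField (Localization.AtPrime q)) := ιF.toAlgebra
  haveI towF : IsScalarTower k (ResidueField D) (ResidueField (Localization.AtPrime q)) := by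
    apply IsScalarTower.of_algebraMap_eq
    intro a
    rfl
  -- the first polynomial ring
  let φ' : MvPolynomial (Fin t) k →ₐ[k] Localization.AtPrime q :=
    (IsScalarTower.toAlgHom k Λ (Localization.AtPrime q)).comp (aeval lam)
  have hφ'X : ∀ j, φ' (X j) = algebraMap Λ (Localization.AtPrime q) (lam j) := by
    intro j
    show algebraMap Λ (Localization.AtPrime q) (aeval lam (X j)) = _
    rw [aeval_X]
  let fF : Fin t → ResidueField D := fun j => residue D ⟨toLbar (k := k) q N (lam j), hlamD j⟩
  have hfF : ∀ j, algebraMap (ResidueField D) (ResidueField (Localization.AtPrime q)) (fF j) =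
      residue _ (φ' (X j)) := by
    intro j
    rw [hφ'X]
    rfl
  obtain ⟨-, hregq, hdimq⟩ := Groth.Agent.Helper2.KeyFlat.main φ' fF hDer hfF hli
  haveI := hregq
  obtain ⟨h₁, hd'⟩ : ∃ h₁ : ℕ, ringKrullDim (Localization.AtPrime
      (Ideal.comap φ'.toRingHom (maximalIdeal (Localization.AtPrime q)))) = h₁ :=
    ⟨_, IsRegularLocalRing.spanFinrank_maximalIdeal.symm⟩
  set J : Ideal (Localization.AtPrime q) :=
    (Ideal.comap φ'.toRingHom (maximalIdeal (Localization.AtPrime q))).map φ'.toRingHom with hJ
  obtain ⟨h', hdq⟩ : ∃ h' : ℕ, ringKrullDim (Localization.AtPrime q ⧸ J) = h' :=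
    ⟨_, IsRegularLocalRing.spanFinrank_maximalIdeal.symm⟩
  have hdimL : ringKrullDim (Localization.AtPrime q) = ((h₁ + h' : ℕ) : WithBot ℕ∞) := by
    rw [← hdimq, hdq, hd', add_comm]
    push_cast
    rfl
  -- selection of the parameters
  have hJle : J ≤ maximalIdeal (Localization.AtPrime q) := by
    rw [hJ]
    exact Ideal.map_comap_le
  have hmaxq : maximalIdeal (Localization.AtPrime q) =
      Ideal.span (Set.range fun i => algebraMap Λ (Localization.AtPrime q) (gq i)) := by
    rw [← Localization.AtPrime.map_eq_maximalIdeal]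
    have h1 : Ideal.map (algebraMap Λ (Localization.AtPrime q)) (Ideal.span (Set.range gq)) =
        Ideal.span (Set.range fun i => algebraMap Λ (Localization.AtPrime q) (gq i)) := by
      rw [Ideal.map_span, ← Set.range_comp]
      rfl
    rw [← h1]
    congr 1
    exact hgq.symm
  have hgen0 : Ideal.span (Set.range fun i =>
      Ideal.Quotient.mk J (algebraMap Λ (Localization.AtPrime q) (gq i))) =
      maximalIdeal (Localization.AtPrime q ⧸ J) := by
    rw [← IsLocalRing.map_maximalIdeal_of_surjective (Ideal.Quotient.mk J)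
      Ideal.Quotient.mk_surjective, hmaxq, Ideal.map_span, ← Set.range_comp]
    rfl
  have hh' : (maximalIdeal (Localization.AtPrime q ⧸ J)).spanFinrank = h' := by
    have h1 := (isRegularLocalRing_iff (Localization.AtPrime q ⧸ J)).1 inferInstance
    rw [hdq] at h1
    exact_mod_cast h1
  obtain ⟨idx, hidx⟩ := exists_subfamily_gens _ hgen0 h' hh'
  let μ : Fin h' → Localization.AtPrime q := fun j => algebraMap Λ _ (gq (idx j))
  have hμ : ∀ j, μ j ∈ maximalIdeal (Localization.AtPrime q) := by
    intro j
    rw [hmaxq]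
    exact Ideal.subset_span ⟨idx j, rfl⟩
  have hgen : J ⊔ Ideal.span (Set.range μ) = maximalIdeal (Localization.AtPrime q) := by
    have h1 : (Ideal.span (Set.range μ)).map (Ideal.Quotient.mk J) =
        (maximalIdeal (Localization.AtPrime q)).map (Ideal.Quotient.mk J) := by
      rw [IsLocalRing.map_maximalIdeal_of_surjective (Ideal.Quotient.mk J)
        Ideal.Quotient.mk_surjective, ← hidx, Ideal.map_span, ← Set.range_comp]
      rfl
    have h2 := congrArg (Ideal.comap (Ideal.Quotient.mk J)) h1
    rw [Ideal.comap_map_of_surjective _ Ideal.Quotient.mk_surjective,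
      Ideal.comap_map_of_surjective _ Ideal.Quotient.mk_surjective,
      ← RingHom.ker_eq_comap_bot, Ideal.mk_ker, sup_eq_left.2 hJle] at h2
    rw [sup_comm]
    exact h2
  obtain ⟨hmapE, hdimE, hflatE⟩ := dim_flat_of_rsop φ'.toRingHom μ hd' hdimL hμ hgen
  -- the big polynomial ring
  let fr : MvPolynomial (Fin h') (MvPolynomial (Fin t) k) →+* Λ :=
    eval₂Hom (aeval lam : MvPolynomial (Fin t) k →ₐ[k] Λ).toRingHom (fun j => gq (idx j))
  let f : MvPolynomial (Fin h') (MvPolynomial (Fin t) k) →ₐ[k] Λ :=
    { fr with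
      commutes' := by
        intro a
        show fr (algebraMap k _ a) = _
        rw [MvPolynomial.algebraMap_apply]
        show eval₂Hom _ _ (C _) = _
        rw [eval₂Hom_C]
        exact (aeval lam).commutes a }
  have hfC : ∀ a, f (C a) = aeval lam a := fun a => eval₂Hom_C _ _ a
  have hfX : ∀ j, f (X j) = gq (idx j) := fun j => eval₂Hom_X' _ _ j
  set φ : MvPolynomial (Fin h') (MvPolynomial (Fin t) k) →ₐ[k] Localization.AtPrime q :=
    (IsScalarTower.toAlgHom k Λ (Localization.AtPrime q)).comp f with hφdef
  have hφeq : φ.toRingHom = phiExt φ'.toRingHom μ := by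
    apply MvPolynomial.ringHom_ext
    · intro a
      show algebraMap Λ (Localization.AtPrime q) (f (C a)) = phiExt φ'.toRingHom μ (C a)
      rw [hfC, phiExt_C]
      rfl
    · intro j
      show algebraMap Λ (Localization.AtPrime q) (f (X j)) = phiExt φ'.toRingHom μ (X j)
      rw [hfX, phiExt_X]
  have key : ∀ g : MvPolynomial (Fin h') (MvPolynomial (Fin t) k) →+* Localization.AtPrime q,
      g = phiExt φ'.toRingHom μ →
      (Ideal.comap g (maximalIdeal (Localization.AtPrime q))).map g =
        maximalIdeal (Localization.AtPrime q) ∧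
      ringKrullDim (Localization.AtPrime (Ideal.comap g
        (maximalIdeal (Localization.AtPrime q)))) = ((h₁ + h' : ℕ) : WithBot ℕ∞) ∧
      ∀ ψ : Localization.AtPrime (Ideal.comap g (maximalIdeal (Localization.AtPrime q))) →+*
          Localization.AtPrime q,
        (∀ x, ψ (algebraMap _ _ x) = g x) →
        letI := ψ.toAlgebra
        Module.Flat (Localization.AtPrime (Ideal.comap g
          (maximalIdeal (Localization.AtPrime q)))) (Localization.AtPrime q) := by
    intro g hg
    subst hg
    exact ⟨hmapE, hdimE, hflatE⟩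
  obtain ⟨hmapP, hdimP, hflatP⟩ := key φ.toRingHom hφeq
  have hflatP' := hflatP (psiB φ) (psiB_algebraMap φ)
  haveI : Algebra.FormallySmooth k (MvPolynomial (Fin h') (MvPolynomial (Fin t) k)) :=
    Algebra.FormallySmooth.comp k (MvPolynomial (Fin t) k) _
  -- `P → D`
  have hgqD : ∀ i, toLbar (k := k) q N (gq i) ∈ D := by
    intro i
    apply hED
    exact Finset.mem_union_right _ (Finset.mem_image_of_mem _ (Finset.mem_univ i))
  have hPD : ∀ y : MvPolynomial (Fin h') (MvPolynomial (Fin t) k),
      toLbar (k := k) q N (f y) ∈ D := by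
    intro y
    induction y using MvPolynomial.induction_on with
    | C a =>
      rw [hfC]
      induction a using MvPolynomial.induction_on with
      | C c =>
        rw [aeval_C, AlgHom.commutes]
        exact D.algebraMap_mem c
      | add a b ha hb =>
        rw [map_add, map_add]
        exact D.add_mem ha hb
      | mul_X a j ha =>
        rw [map_mul, map_mul, aeval_X]
        exact D.mul_mem ha (hlamD j)
    | add a b ha hb =>
      rw [map_add, map_add]
      exact D.add_mem ha hb
    | mul_X a j ha =>
      rw [map_mul, map_mul, hfX]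
      exact D.mul_mem ha (hgqD _)
  have hz : Submodule.span (ResidueField D) (Set.range fun j : Fin t =>
      KaehlerDifferential.D k (ResidueField D)
        (residue D ⟨Ideal.Quotient.mk ((maximalIdeal (Localization.AtPrime q)) ^ N)
          (φ ((C (X j) : MvPolynomial (Fin h') (MvPolynomial (Fin t) k)))), hPD _⟩)) = ⊤ := by
    rw [← hspan]
    congr 2
    funext j
    congr 2
    apply Subtype.ext
    show Ideal.Quotient.mk _ (algebraMap Λ (Localization.AtPrime q) (f (C (X j)))) = _
    rw [hfC, aeval_X]
    rfl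
  obtain ⟨alg, hetale, halg⟩ := partB φ hN hmapP hflatP' D hlocal hflatD hmaxD hess hPD
    (fun j : Fin t => (C (X j) : MvPolynomial (Fin h') (MvPolynomial (Fin t) k))) hz
  refine ⟨MvPolynomial (Fin h') (MvPolynomial (Fin t) k), inferInstance, inferInstance,
    inferInstance, inferInstance, inferInstance, f, ?_, hmapP, D, hDloc, hlocal, hflatD, ?_,
    hPD, alg, hetale, halg⟩
  · rw [hdimL]
    exact hdimP
  · intro x hx
    exact hED x (Finset.mem_union_left _ hx)

end A3

end Groth.Agent.Helper2.Ins
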