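import Mathlib

set_option autoImplicit false

namespace Groth.Agent.Helper2.SStd

open Function MvPolynomial Algebra

universe u

section

variable {R A : Type u} [CommRing R] [CommRing A] [Algebra R A]
  {ι₀ : Type} (val : ι₀ → A) (q : ℕ)

/-- The surjection from the enlarged polynomial ring: new variables go to zero. -/
noncomputable def φ₁ : MvPolynomial (ι₀ ⊕ Fin q) R →ₐ[R] A :=
  aeval (Sum.elim val (fun _ => 0))

/-- Linear forms in the new variables. -/
noncomputable def GG (h : MvPolynomial ι₀ R) (w : Fin q → MvPolynomial ι₀ R) :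
    MvPolynomial (ι₀ ⊕ Fin q) R :=
  rename Sum.inl h + ∑ i, rename Sum.inl (w i) * X (Sum.inr i)

lemma φ₁_rename (h : MvPolynomial ι₀ R) : φ₁ val q (rename Sum.inl h) = aeval val h := by
  rw [φ₁, aeval_rename]
  rfl

lemma φ₁_X_inr (i : Fin q) : φ₁ (R := R) val q (X (Sum.inr i)) = 0 := by
  rw [φ₁, aeval_X]
  rfl

lemma φ₁_GG (h : MvPolynomial ι₀ R) (w : Fin q → MvPolynomial ι₀ R) :
    φ₁ val q (GG q h w) = aeval val h := by
  rw [GG, map_add, map_sum, φ₁_rename]
  simp only [map_mul, φ₁_X_inr, mul_zero, Finset.sum_const_zero, add_zero]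

lemma φ₁_surjective (hval : Surjective (aeval (R := R) val)) : Surjective (φ₁ (R := R) val q) := by
  intro y
  obtain ⟨x, rfl⟩ := hval y
  exact ⟨rename Sum.inl x, φ₁_rename val q x⟩

lemma GG_add (h h' : MvPolynomial ι₀ R) (w w' : Fin q → MvPolynomial ι₀ R) :
    GG q (h + h') (w + w') = GG q h w + GG q h' w' := by
  simp only [GG, map_add, Pi.add_apply, add_mul, Finset.sum_add_distrib]
  ring

lemma GG_smul (r h : MvPolynomial ι₀ R) (w : Fin q → MvPolynomial ι₀ R) :
    GG q (r * h) (fun i => r * w i) = rename Sum.inl r * GG q h w := by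
  simp only [GG, map_mul, mul_add, Finset.mul_sum]
  congr 1
  apply Finset.sum_congr rfl
  intro i _
  ring

lemma GG_sub (h h' : MvPolynomial ι₀ R) (w w' : Fin q → MvPolynomial ι₀ R) :
    GG q (h - h') (w - w') = GG q h w - GG q h' w' := by
  have := GG_add q (h - h') h' (w - w') w'
  rw [sub_add_cancel, sub_add_cancel] at this
  rw [this, add_sub_cancel_right]

lemma GG_sum {J : Type*} (s : Finset J) (h : J → MvPolynomial ι₀ R)
    (w : J → Fin q → MvPolynomial ι₀ R) :
    GG q (∑ j ∈ s, h j) (fun i => ∑ j ∈ s, w j i) = ∑ j ∈ s, GG q (h j) (w j) := by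
  classical
  induction s using Finset.induction_on with
  | empty =>
    simp [GG]
  | insert j s hj ih =>
    rw [Finset.sum_insert hj, Finset.sum_insert hj, ← ih, ← GG_add]
    congr 1
    ext i : 1
    simp [Finset.sum_insert hj]

lemma GG_zero_single [DecidableEq (Fin q)] (i₀ : Fin q) :
    GG (R := R) (ι₀ := ι₀) q 0 (fun i => if i = i₀ then 1 else 0) = X (Sum.inr i₀) := by
  simp only [GG, map_zero, zero_add]
  rw [Finset.sum_eq_single i₀]
  · simp
  · intro i _ hi
    simp [hi]
  · intro h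
    exact absurd (Finset.mem_univ _) h

lemma GG_zero_right (h : MvPolynomial ι₀ R) : GG q h (fun _ => 0) = rename Sum.inl h := by
  simp [GG]

/-- derivative in an old variable, evaluated. -/
lemma φ₁_pderiv_inl [DecidableEq ι₀] (h : MvPolynomial ι₀ R) (w : Fin q → MvPolynomial ι₀ R) (i : ι₀) :
    φ₁ val q (pderiv (Sum.inl i) (GG q h w)) = aeval val (pderiv i h) := by
  classical
  rw [GG, map_add, map_sum, pderiv_rename Sum.inl_injective, map_add, φ₁_rename, map_sum]
  have : ∀ i' : Fin q, φ₁ val q (pderiv (Sum.inl i) (rename Sum.inl (w i') * X (Sum.inr i'))) = 0 := by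
    intro i'
    rw [Derivation.leibniz, pderiv_X, Pi.single_apply, if_neg (by simp), smul_zero, zero_add,
      smul_eq_mul, map_mul, φ₁_X_inr, zero_mul]
  simp only [this, Finset.sum_const_zero, add_zero]

/-- derivative in a new variable, evaluated. -/
lemma φ₁_pderiv_inr [DecidableEq ι₀] (h : MvPolynomial ι₀ R) (w : Fin q → MvPolynomial ι₀ R)
    (i : Fin q) :
    φ₁ val q (pderiv (Sum.inr i) (GG q h w)) = aeval val (w i) := by
  classical
  have hz : ∀ p : MvPolynomial ι₀ R, pderiv (Sum.inr i : ι₀ ⊕ Fin q) (rename Sum.inl p) = 0 := by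
    intro p
    apply pderiv_eq_zero_of_notMem_vars
    intro hmem
    have := vars_rename (Sum.inl : ι₀ → ι₀ ⊕ Fin q) p hmem
    simp at this
  rw [GG, map_add, map_sum, hz, zero_add, map_sum]
  rw [Finset.sum_eq_single i]
  · rw [Derivation.leibniz, hz, smul_zero, add_zero, pderiv_X, Pi.single_eq_same, smul_eq_mul,
      mul_one, φ₁_rename]
  · intro i' _ hi'
    rw [Derivation.leibniz, hz, smul_zero, add_zero, pderiv_X, Pi.single_apply,
      if_neg (by simpa using hi'), smul_zero, map_zero]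
  · intro hh
    exact absurd (Finset.mem_univ _) hh

/-- Two algebra maps out of a polynomial ring differ by the ideal spanned by the differences on
variables. -/
lemma sub_mem_span_of_algHom {V : Type*} {B : Type*} [CommRing B] [Algebra R B]
    (f g : MvPolynomial V R →ₐ[R] B) (x : MvPolynomial V R) :
    f x - g x ∈ Ideal.span (Set.range fun v => f (X v) - g (X v)) := by
  induction x using MvPolynomial.induction_on with
  | C r =>
    rw [← algebraMap_eq, AlgHom.commutes, AlgHom.commutes, sub_self]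
    exact Ideal.zero_mem _
  | add p p' hp hp' =>
    rw [map_add, map_add, add_sub_add_comm]
    exact Ideal.add_mem _ hp hp'
  | mul_X p v hp =>
    have : f (p * X v) - g (p * X v) = f p * (f (X v) - g (X v)) + (f p - g p) * g (X v) := by
      rw [map_mul, map_mul]
      ring
    rw [this]
    exact Ideal.add_mem _ (Ideal.mul_mem_left _ _ (Ideal.subset_span ⟨v, rfl⟩))
      (Ideal.mul_mem_right _ _ hp)

/-- the kernel of `φ₁`. -/
theorem ker_φ₁ {σ₀ : Type*} (rel : σ₀ → MvPolynomial ι₀ R)
    (hker : RingHom.ker (aeval (R := R) val).toRingHom = Ideal.span (Set.range rel)) :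
    RingHom.ker (φ₁ (R := R) val q).toRingHom =
      Ideal.span (Set.range (fun k => rename Sum.inl (rel k)) ∪
        Set.range (fun i : Fin q => (X (Sum.inr i) : MvPolynomial (ι₀ ⊕ Fin q) R))) := by
  apply le_antisymm
  · intro g hg
    rw [RingHom.mem_ker] at hg
    let ψ₀ : MvPolynomial (ι₀ ⊕ Fin q) R →ₐ[R] MvPolynomial ι₀ R :=
      aeval (Sum.elim X (fun _ => 0))
    let ψ : MvPolynomial (ι₀ ⊕ Fin q) R →ₐ[R] MvPolynomial (ι₀ ⊕ Fin q) R :=
      (rename Sum.inl).comp ψ₀
    have h1 : g - ψ g ∈ Ideal.span (Set.range fun v =>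
        (AlgHom.id R (MvPolynomial (ι₀ ⊕ Fin q) R)) (X v) - ψ (X v)) :=
      sub_mem_span_of_algHom (AlgHom.id R _) ψ g
    have h2 : Ideal.span (Set.range fun v =>
        (AlgHom.id R (MvPolynomial (ι₀ ⊕ Fin q) R)) (X v) - ψ (X v)) ≤
        Ideal.span (Set.range (fun k => rename Sum.inl (rel k)) ∪
          Set.range (fun i : Fin q => (X (Sum.inr i) : MvPolynomial (ι₀ ⊕ Fin q) R))) := by
      rw [Ideal.span_le]
      rintro _ ⟨v, rfl⟩
      rcases v with i | i
      · have : ψ (X (Sum.inl i)) = X (Sum.inl i) := by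
          simp [ψ, ψ₀]
        simp only [AlgHom.coe_id, id_eq, this, sub_self]
        exact Ideal.zero_mem _
      · have : ψ (X (Sum.inr i)) = 0 := by
          simp [ψ, ψ₀]
        simp only [AlgHom.coe_id, id_eq, this, sub_zero]
        exact Ideal.subset_span (Or.inr ⟨i, rfl⟩)
    have h3 : ψ g ∈ Ideal.span (Set.range (fun k => rename Sum.inl (rel k)) ∪
          Set.range (fun i : Fin q => (X (Sum.inr i) : MvPolynomial (ι₀ ⊕ Fin q) R))) := by
      have hcomp : (φ₁ (R := R) val q) = (aeval val).comp ψ₀ := by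
        apply MvPolynomial.algHom_ext
        intro v
        rcases v with i | i <;> simp [φ₁, ψ₀]
      have h4 : ψ₀ g ∈ Ideal.span (Set.range rel) := by
        rw [← hker, RingHom.mem_ker]
        have : φ₁ (R := R) val q g = 0 := hg
        rw [hcomp] at this
        exact this
      have h5 := Ideal.mem_map_of_mem
        (rename Sum.inl : MvPolynomial ι₀ R →ₐ[R] MvPolynomial (ι₀ ⊕ Fin q) R).toRingHom h4
      rw [Ideal.map_span] at h5
      refine Ideal.span_mono ?_ h5
      rintro _ ⟨_, ⟨k, rfl⟩, rfl⟩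
      exact Or.inl ⟨k, rfl⟩
    have : g = (g - ψ g) + ψ g := by ring
    rw [this]
    exact Ideal.add_mem _ (h2 h1) h3
  · rw [Ideal.span_le]
    rintro _ (⟨k, rfl⟩ | ⟨i, rfl⟩)
    · show _ ∈ RingHom.ker _
      rw [RingHom.mem_ker]
      show φ₁ val q (rename Sum.inl (rel k)) = 0
      rw [φ₁_rename]
      have : rel k ∈ RingHom.ker (aeval (R := R) val).toRingHom := by
        rw [hker]
        exact Ideal.subset_span ⟨k, rfl⟩
      exact this
    · show _ ∈ RingHom.ker _
      rw [RingHom.mem_ker]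
      exact φ₁_X_inr val q i

/-- `GG` of data in `I², I` lies in the square of the big kernel. -/
theorem GG_mem_sq (I : Ideal (MvPolynomial ι₀ R)) (I₁ : Ideal (MvPolynomial (ι₀ ⊕ Fin q) R))
    (hI : ∀ x ∈ I, rename Sum.inl x ∈ I₁) (hX : ∀ i : Fin q, X (Sum.inr i) ∈ I₁)
    (h : MvPolynomial ι₀ R) (w : Fin q → MvPolynomial ι₀ R) (hh : h ∈ I ^ 2) (hw : ∀ i, w i ∈ I) :
    GG q h w ∈ I₁ ^ 2 := by
  have hmap : I.map (rename Sum.inl : MvPolynomial ι₀ R →ₐ[R]
      MvPolynomial (ι₀ ⊕ Fin q) R).toRingHom ≤ I₁ := by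
    rw [Ideal.map_le_iff_le_comap]
    intro x hx
    exact hI x hx
  refine Ideal.add_mem _ ?_ (Ideal.sum_mem _ fun i _ => ?_)
  · have h1 := Ideal.mem_map_of_mem
      (rename Sum.inl : MvPolynomial ι₀ R →ₐ[R] MvPolynomial (ι₀ ⊕ Fin q) R).toRingHom hh
    rw [Ideal.map_pow] at h1
    exact Ideal.pow_right_mono hmap 2 h1
  · rw [pow_two]
    exact Ideal.mul_mem_mul (hI _ (hw i)) (hX i)

end

end Groth.Agent.Helper2.SStd
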