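import Mathlib
import Groth.Agent.Helper2.SStdC

set_option autoImplicit false

namespace Groth.Agent.Helper2.Sep

open MvPolynomial Function

universe u

section TRing

variable {k : Type u} [Field k] {d : ℕ} (K : Ideal (MvPolynomial (Fin d) k)) (e : ℕ)

/-- the ideal generated by the variables in the quotient. -/
noncomputable def mT : Ideal (MvPolynomial (Fin d) k ⧸ K) :=
  Ideal.span (Set.range fun i => Ideal.Quotient.mk K (X i))

variable (hKe : ∀ i, (X i : MvPolynomial (Fin d) k) ^ e ∈ K)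
  (hK : K ≤ Ideal.span (Set.range (X : Fin d → MvPolynomial (Fin d) k)))

include hKe in
theorem mT_isNilpotent : IsNilpotent (mT K) := by
  have hfg : (mT K).FG := Submodule.fg_span (Set.finite_range _)
  rw [hfg.isNilpotent_iff_le_nilradical]
  unfold mT
  rw [Ideal.span_le]
  rintro _ ⟨i, rfl⟩
  refine ⟨e, ?_⟩
  rw [← map_pow]
  exact Ideal.Quotient.eq_zero_iff_mem.2 (hKe i)

theorem sub_const_mem_mT (f : MvPolynomial (Fin d) k) :
    Ideal.Quotient.mk K f - algebraMap k (MvPolynomial (Fin d) k ⧸ K) (constantCoeff f) ∈ mT K := by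
  have h1 := SStd.sub_mem_span_of_algHom (R := k) (AlgHom.id k (MvPolynomial (Fin d) k))
    ((Algebra.ofId k (MvPolynomial (Fin d) k)).comp (aeval (fun _ : Fin d => (0 : k)))) f
  have h2 : Ideal.span (Set.range fun v : Fin d =>
      (AlgHom.id k (MvPolynomial (Fin d) k)) (X v) -
        ((Algebra.ofId k (MvPolynomial (Fin d) k)).comp (aeval (fun _ : Fin d => (0 : k)))) (X v)) =
      Ideal.span (Set.range (X : Fin d → MvPolynomial (Fin d) k)) := by
    congr 1
    ext z
    constructor
    · rintro ⟨v, rfl⟩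
      exact ⟨v, by simp⟩
    · rintro ⟨v, rfl⟩
      exact ⟨v, by simp⟩
  rw [h2] at h1
  have h3 : ((Algebra.ofId k (MvPolynomial (Fin d) k)).comp
      (aeval (fun _ : Fin d => (0 : k)))) f = C (constantCoeff f) := by
    simp only [AlgHom.comp_apply, Algebra.ofId_apply, algebraMap_eq]
    congr 1
    rw [← eval_zero']
    rfl
  rw [h3] at h1
  have h4 := Ideal.mem_map_of_mem (Ideal.Quotient.mk K) h1
  rw [Ideal.map_span] at h4
  have h5 : (Ideal.Quotient.mk K) '' Set.range (X : Fin d → MvPolynomial (Fin d) k) =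
      Set.range fun i => Ideal.Quotient.mk K (X i) := by
    ext z
    constructor
    · rintro ⟨_, ⟨i, rfl⟩, rfl⟩
      exact ⟨i, rfl⟩
    · rintro ⟨i, rfl⟩
      exact ⟨_, ⟨i, rfl⟩, rfl⟩
  rw [h5] at h4
  have h6 : (Ideal.Quotient.mk K) (C (constantCoeff f)) =
      algebraMap k (MvPolynomial (Fin d) k ⧸ K) (constantCoeff f) := rfl
  rw [AlgHom.id_apply, map_sub, h6] at h4
  exact h4

include hK in
theorem one_notMem_mT : (1 : MvPolynomial (Fin d) k ⧸ K) ∉ mT K := by
  have hKker : ∀ x ∈ K, (constantCoeff : MvPolynomial (Fin d) k →+* k) x = 0 := by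
    intro x hx
    have h1 := hK hx
    refine Submodule.span_induction (p := fun z _ => constantCoeff z = 0) ?_ ?_ ?_ ?_ h1
    · rintro _ ⟨i, rfl⟩
      simp
    · simp
    · intro a b _ _ ha hb
      rw [map_add, ha, hb, add_zero]
    · intro a b _ hb
      rw [smul_eq_mul, map_mul, hb, mul_zero]
  let ev : (MvPolynomial (Fin d) k ⧸ K) →+* k := Ideal.Quotient.lift K constantCoeff hKker
  have hle : mT K ≤ RingHom.ker ev := by
    unfold mT
    rw [Ideal.span_le]
    rintro _ ⟨i, rfl⟩
    show ev (Ideal.Quotient.mk K (X i)) = 0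
    simp [ev]
  intro h1
  have := hle h1
  rw [RingHom.mem_ker, map_one] at this
  exact one_ne_zero this

include hKe in
theorem isUnit_of_notMem_mT (x : MvPolynomial (Fin d) k ⧸ K) (hx : x ∉ mT K) : IsUnit x := by
  obtain ⟨f, rfl⟩ := Ideal.Quotient.mk_surjective x
  have h1 := sub_const_mem_mT K f
  have hc : constantCoeff f ≠ 0 := by
    intro h0
    rw [h0, map_zero, sub_zero] at h1
    exact hx h1
  have hnil : IsNilpotent (Ideal.Quotient.mk K f -
      algebraMap k (MvPolynomial (Fin d) k ⧸ K) (constantCoeff f)) := by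
    obtain ⟨N, hN⟩ := mT_isNilpotent K e hKe
    refine ⟨N, ?_⟩
    have := Ideal.pow_mem_pow h1 N
    rw [hN] at this
    exact this
  have hu : IsUnit (algebraMap k (MvPolynomial (Fin d) k ⧸ K) (constantCoeff f)) :=
    (isUnit_iff_ne_zero.2 hc).map _
  have := hnil.isUnit_add_right_of_commute hu (Commute.all _ _)
  simpa using this

include hKe hK in
theorem mT_isMaximal : (mT K).IsMaximal := by
  rw [Ideal.isMaximal_iff]
  refine ⟨one_notMem_mT K hK, ?_⟩
  intro J x _ hx hxJ
  have hu := isUnit_of_notMem_mT K e hKe x hx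
  obtain ⟨y, hy⟩ := hu.exists_left_inv
  rw [← hy]
  exact Ideal.mul_mem_left _ _ hxJ

include hKe hK in
theorem prime_eq_mT (P : Ideal (MvPolynomial (Fin d) k ⧸ K)) [P.IsPrime] : P = mT K := by
  have hle : mT K ≤ P := by
    intro x hx
    obtain ⟨N, hN⟩ := mT_isNilpotent K e hKe
    have := Ideal.pow_mem_pow hx N
    rw [hN] at this
    have h0 : x ^ N = 0 := this
    exact Ideal.IsPrime.mem_of_pow_mem inferInstance N (h0 ▸ Ideal.zero_mem _)
  exact ((mT_isMaximal K e hKe hK).eq_of_le (Ideal.IsPrime.ne_top inferInstance) hle).symm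

include hK in
/-- The residue field of `T` is `k`. -/
theorem bijective_algebraMap_quot :
    Function.Bijective ((Ideal.Quotient.mk (mT K)).comp
      (algebraMap k (MvPolynomial (Fin d) k ⧸ K))) := by
  haveI : Nontrivial ((MvPolynomial (Fin d) k ⧸ K) ⧸ mT K) :=
    Ideal.Quotient.nontrivial_iff.mpr (one_notMem_mT K hK |> fun h => by
      intro htop
      exact h (htop ▸ Submodule.mem_top))
  refine ⟨RingHom.injective _, ?_⟩
  intro y
  obtain ⟨x, rfl⟩ := Ideal.Quotient.mk_surjective y
  obtain ⟨f, rfl⟩ := Ideal.Quotient.mk_surjective x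
  refine ⟨constantCoeff f, ?_⟩
  rw [RingHom.comp_apply, eq_comm, Ideal.Quotient.eq]
  exact sub_const_mem_mT K f

end TRing

end Groth.Agent.Helper2.Sep
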