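import Mathlib
import Groth.Agent.Helper2.SepG
import Groth.Agent.S6000

set_option autoImplicit false

namespace Groth.Agent.Helper2.Sep

open MvPolynomial Function TensorProduct

universe u

section Flat

variable {k : Type u} [Field k] {d : ℕ} (K : Ideal (MvPolynomial (Fin d) k))
  {L : Type u} [CommRing L] [Algebra (MvPolynomial (Fin d) k) L]
  {Λq : Type u} [CommRing Λq] [Algebra (MvPolynomial (Fin d) k ⧸ K) Λq]
  (p : L →+* Λq)

/-- images of the variables in `L`. -/
noncomputable def tt (k : Type u) [Field k] {d : ℕ} (L : Type u) [CommRing L]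
    [Algebra (MvPolynomial (Fin d) k) L] (i : Fin d) : L :=
  algebraMap (MvPolynomial (Fin d) k) L (X i)

/-- the variables as elements of the ideal `mT`. -/
noncomputable def xm (i : Fin d) : mT K :=
  ⟨Ideal.Quotient.mk K (X i), Ideal.subset_span ⟨i, rfl⟩⟩

/-- the map to the tensor product. -/
noncomputable def Psi (lam : Fin d → L) : (mT K) ⊗[MvPolynomial (Fin d) k ⧸ K] Λq :=
  ∑ i, xm K i ⊗ₜ[MvPolynomial (Fin d) k ⧸ K] p (lam i)

lemma Psi_add (lam lam' : Fin d → L) : Psi K p (lam + lam') = Psi K p lam + Psi K p lam' := by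
  simp only [Psi, Pi.add_apply, map_add, tmul_add, Finset.sum_add_distrib]

lemma Psi_zero : Psi K p (0 : Fin d → L) = 0 := by
  simp [Psi]

/-- `Psi` as an additive map. -/
noncomputable def PsiHom : (Fin d → L) →+ (mT K) ⊗[MvPolynomial (Fin d) k ⧸ K] Λq :=
  AddMonoidHom.mk' (Psi K p) (Psi_add K p)

lemma PsiHom_apply (lam : Fin d → L) : PsiHom K p lam = Psi K p lam := rfl

lemma Psi_single [DecidableEq (Fin d)] (i : Fin d) (y : L) :
    Psi K p (Pi.single i y) = xm K i ⊗ₜ[MvPolynomial (Fin d) k ⧸ K] p y := by
  rw [Psi, Finset.sum_eq_single i]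
  · rw [Pi.single_eq_same]
  · intro j _ hj
    rw [Pi.single_apply, if_neg hj, map_zero, tmul_zero]
  · intro h
    exact absurd (Finset.mem_univ _) h

variable (hcomp : ∀ r : MvPolynomial (Fin d) k,
    p (algebraMap (MvPolynomial (Fin d) k) L r) =
      algebraMap (MvPolynomial (Fin d) k ⧸ K) Λq (Ideal.Quotient.mk K r))

include hcomp in
lemma tmul_p_mul (i : Fin d) (r : MvPolynomial (Fin d) k) (y : L) :
    xm K i ⊗ₜ[MvPolynomial (Fin d) k ⧸ K] p (algebraMap (MvPolynomial (Fin d) k) L r * y) =
      (Ideal.Quotient.mk K r • xm K i) ⊗ₜ[MvPolynomial (Fin d) k ⧸ K] p y := by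
  rw [map_mul, hcomp, ← Algebra.smul_def]
  exact (TensorProduct.smul_tmul (Ideal.Quotient.mk K r) (xm K i) (p y)).symm

lemma xm_comm (i j : Fin d) :
    Ideal.Quotient.mk K (X j) • xm K i = Ideal.Quotient.mk K (X i) • xm K j := by
  apply Subtype.ext
  show Ideal.Quotient.mk K (X j) * Ideal.Quotient.mk K (X i) =
    Ideal.Quotient.mk K (X i) * Ideal.Quotient.mk K (X j)
  exact mul_comm _ _

variable (hreg : ∀ (i : Fin d) (y : L),
    tt k L i * y ∈ Ideal.span ((tt k L) '' {j | j < i}) →
      y ∈ Ideal.span ((tt k L) '' {j | j < i}))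

include hcomp hreg in
/-- Koszul-type vanishing. -/
theorem Psi_eq_zero_of_rel : ∀ (m : ℕ) (lam : Fin d → L), (∀ i : Fin d, m ≤ i.val → lam i = 0) →
    ∑ i, tt k L i * lam i = 0 → Psi K p lam = 0 := by
  classical
  intro m
  induction m with
  | zero =>
    intro lam h0 _
    have : lam = 0 := by
      funext i
      exact h0 i (Nat.zero_le _)
    rw [this, Psi_zero]
  | succ m ih =>
    intro lam hsupp hrel
    by_cases hm : m < d
    · let im : Fin d := ⟨m, hm⟩
      -- `t_im * lam_im ∈ (t_j : j < im)`
      have hsplit : ∑ i, tt k L i * lam i =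
          tt k L im * lam im +
            ∑ i ∈ Finset.univ.filter (fun i : Fin d => i < im), tt k L i * lam i := by
        rw [← Finset.sum_filter_add_sum_filter_not Finset.univ (fun i : Fin d => i < im)]
        rw [add_comm]
        congr 1
        rw [Finset.sum_eq_single_of_mem im]
        · simp
        · intro j hj hjim
          have hj' : ¬ j < im := (Finset.mem_filter.1 hj).2
          have : im < j := lt_of_le_of_ne (not_lt.1 hj') (Ne.symm hjim)
          rw [hsupp j (Nat.succ_le_of_lt (Fin.lt_def.1 this)), mul_zero]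
      have hmem : tt k L im * lam im ∈ Ideal.span ((tt k L) '' {j | j < im}) := by
        have h1 : tt k L im * lam im =
            -∑ i ∈ Finset.univ.filter (fun i : Fin d => i < im), tt k L i * lam i := by
          rw [eq_neg_iff_add_eq_zero, ← hsplit, hrel]
        rw [h1]
        refine Ideal.neg_mem_iff _ |>.2 (Ideal.sum_mem _ fun i hi => ?_)
        exact Ideal.mul_mem_right _ _ (Ideal.subset_span ⟨i, (Finset.mem_filter.1 hi).2, rfl⟩)
      have hlam := hreg im (lam im) hmem
      obtain ⟨l, hl, hlsum⟩ := (Finsupp.mem_span_image_iff_linearCombination L).1 hlam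
      have hβ0 : ∀ j : Fin d, ¬ j < im → l j = 0 := by
        intro j hj
        by_contra hne
        have : j ∈ l.support := Finsupp.mem_support_iff.2 hne
        exact hj ((Finsupp.mem_supported _ _).1 hl this)
      have hβsum : lam im = ∑ j, tt k L j * l j := by
        rw [← hlsum, Finsupp.linearCombination_apply,
          Finsupp.sum_fintype l (fun i a => a • tt k L i) (fun i => zero_smul _ _)]
        apply Finset.sum_congr rfl
        intro j _
        rw [smul_eq_mul, mul_comm]
      let lam'' : Fin d → L := lam - Pi.single im (lam im) + fun j => tt k L im * l j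
      have hsupp'' : ∀ i : Fin d, m ≤ i.val → lam'' i = 0 := by
        intro i hi
        show lam i - (Pi.single im (lam im) : Fin d → L) i + tt k L im * l i = 0
        have hnlt : ¬ i < im := not_lt.2 (Fin.le_def.2 hi)
        rw [hβ0 i hnlt, mul_zero, add_zero]
        by_cases hiim : i = im
        · subst hiim
          rw [Pi.single_eq_same, sub_self]
        · rw [Pi.single_apply, if_neg hiim, sub_zero]
          apply hsupp
          have : m ≠ i.val := fun h => hiim (Fin.ext h.symm)
          omega
      have hrel'' : ∑ i, tt k L i * lam'' i = 0 := by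
        have h1 : ∀ i, tt k L i * lam'' i = tt k L i * lam i -
            tt k L i * (Pi.single im (lam im) : Fin d → L) i + tt k L im * (tt k L i * l i) := by
          intro i
          show tt k L i * (lam i - (Pi.single im (lam im) : Fin d → L) i + tt k L im * l i) = _
          ring
        simp_rw [h1]
        rw [Finset.sum_add_distrib, Finset.sum_sub_distrib, hrel, ← Finset.mul_sum, ← hβsum]
        have h2 : ∑ i, tt k L i * (Pi.single im (lam im) : Fin d → L) i = tt k L im * lam im := by
          rw [Finset.sum_eq_single im]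
          · rw [Pi.single_eq_same]
          · intro j _ hj
            rw [Pi.single_apply, if_neg hj, mul_zero]
          · intro h
            exact absurd (Finset.mem_univ _) h
        rw [h2]
        ring
      have hPsi'' := ih lam'' hsupp'' hrel''
      have hdecomp : lam = lam'' + (Pi.single im (lam im) - fun j => tt k L im * l j) := by
        funext j
        show lam j =
          lam j - (Pi.single im (lam im) : Fin d → L) j + tt k L im * l j +
            ((Pi.single im (lam im) : Fin d → L) j - tt k L im * l j)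
        ring
      have hswap : Psi K p (fun j => tt k L im * l j) = Psi K p (Pi.single im (lam im)) := by
        rw [Psi_single, hβsum, map_sum, tmul_sum, Psi]
        apply Finset.sum_congr rfl
        intro j _
        rw [tt, tt, tmul_p_mul K p hcomp, tmul_p_mul K p hcomp, xm_comm]
      have h3 := congrArg (PsiHom K p) hdecomp
      rw [map_add, map_sub] at h3
      rw [PsiHom_apply] at h3
      rw [h3, PsiHom_apply, PsiHom_apply, PsiHom_apply, hPsi'', zero_add, hswap, sub_self]
    · apply ih lam ?_ hrel
      intro i hi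
      exact absurd i.2 (by omega)


omit hreg in
include hcomp in
theorem exists_Psi_eq (hp : Surjective p) (z : (mT K) ⊗[MvPolynomial (Fin d) k ⧸ K] Λq) :
    ∃ lam : Fin d → L, z = Psi K p lam := by
  classical
  induction z using TensorProduct.induction_on with
  | zero => exact ⟨0, (Psi_zero K p).symm⟩
  | tmul m y =>
    obtain ⟨c, hc⟩ := Ideal.mem_span_range_iff_exists_fun.1 m.2
    have hm : m = ∑ i, c i • xm K i := by
      apply Subtype.ext
      rw [← hc, Submodule.coe_sum]
      apply Finset.sum_congr rfl
      intro i _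
      rfl
    choose lam hlam using fun i => hp (c i • y)
    refine ⟨lam, ?_⟩
    rw [hm, sum_tmul, Psi]
    apply Finset.sum_congr rfl
    intro i _
    rw [hlam]
    exact TensorProduct.smul_tmul (c i) (xm K i) y
  | add z z' hz hz' =>
    obtain ⟨lam, rfl⟩ := hz
    obtain ⟨lam', rfl⟩ := hz'
    exact ⟨lam + lam', (Psi_add K p lam lam').symm⟩

include hcomp hreg in
/-- Flatness over the Artinian base. -/
theorem flat_T (e : ℕ) (he : 0 < e)
    (hKe : ∀ i, (X i : MvPolynomial (Fin d) k) ^ e ∈ K)
    (hK : K ≤ Ideal.span (Set.range (X : Fin d → MvPolynomial (Fin d) k)))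
    (hp : Surjective p)
    (hker : RingHom.ker p = Ideal.span (Set.range fun i : Fin d => tt k L i ^ e)) :
    Module.Flat (MvPolynomial (Fin d) k ⧸ K) Λq := by
  classical
  refine (Groth.Agent.S6000.result (MvPolynomial (Fin d) k ⧸ K) (mT K)
    (mT_isNilpotent K e hKe) Λq).2 ⟨?_, ?_⟩
  · haveI := mT_isMaximal K e hKe hK
    letI := Ideal.Quotient.field (mT K)
    infer_instance
  · rw [injective_iff_map_eq_zero]
    intro z hz
    obtain ⟨lam, rfl⟩ := exists_Psi_eq K p hcomp hp z
    -- compute the image
    have h1 : (TensorProduct.lid (MvPolynomial (Fin d) k ⧸ K) Λq)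
        (LinearMap.rTensor Λq (Submodule.subtype (mT K)) (Psi K p lam)) =
        p (∑ i, tt k L i * lam i) := by
      rw [Psi, map_sum, map_sum, map_sum]
      apply Finset.sum_congr rfl
      intro i _
      rw [LinearMap.rTensor_tmul, TensorProduct.lid_tmul, map_mul, tt, hcomp, Algebra.smul_def]
      rfl
    rw [hz, map_zero] at h1
    have h2 : ∑ i, tt k L i * lam i ∈ Ideal.span (Set.range fun i : Fin d => tt k L i ^ e) := by
      rw [← hker, RingHom.mem_ker]
      exact h1.symm
    obtain ⟨μ, hμ⟩ := Ideal.mem_span_range_iff_exists_fun.1 h2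
    obtain ⟨e', rfl⟩ : ∃ e', e = e' + 1 := ⟨e - 1, by omega⟩
    let lam' : Fin d → L := lam - fun i => tt k L i ^ e' * μ i
    have hrel' : ∑ i, tt k L i * lam' i = 0 := by
      have : ∀ i, tt k L i * lam' i = tt k L i * lam i - μ i * tt k L i ^ (e' + 1) := by
        intro i
        show tt k L i * (lam i - tt k L i ^ e' * μ i) = _
        ring
      simp_rw [this]
      rw [Finset.sum_sub_distrib, hμ, sub_self]
    have hPsi' := Psi_eq_zero_of_rel K p hcomp hreg d lam'
      (fun i hi => absurd i.2 (not_lt.2 hi)) hrel'
    have hdec : lam = lam' + fun i => tt k L i ^ e' * μ i := by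
      funext i
      show lam i = lam i - tt k L i ^ e' * μ i + tt k L i ^ e' * μ i
      ring
    rw [hdec, Psi_add, hPsi', zero_add, Psi]
    apply Finset.sum_eq_zero
    intro i _
    have h3 : tt k L i ^ e' = algebraMap (MvPolynomial (Fin d) k) L (X i ^ e') := by
      rw [map_pow]
      rfl
    rw [h3, tmul_p_mul K p hcomp]
    have h4 : Ideal.Quotient.mk K (X i ^ e') • xm K i = 0 := by
      apply Subtype.ext
      show Ideal.Quotient.mk K (X i ^ e') * Ideal.Quotient.mk K (X i) = 0
      rw [← map_mul, ← pow_succ]
      exact Ideal.Quotient.eq_zero_iff_mem.2 (hKe i)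
    rw [h4, zero_tmul]

end Flat

end Groth.Agent.Helper2.Sep
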