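import Mathlib
import Groth.Prelude.Def_Smoothing
import Groth.Agent.Helper2.SepH
import Groth.Agent.Helper2.IndSmoothNil

set_option autoImplicit false

namespace Groth.Agent.Helper2.Sep

open MvPolynomial Function TensorProduct

universe u

/-- ind-smoothness resolves every local problem. -/
theorem resolvable_of_indSmooth {R₀ A₀ Λ₀ : Type u} [CommRing R₀] [CommRing A₀] [Algebra R₀ A₀]
    [Algebra.FinitePresentation R₀ A₀] [CommRing Λ₀] [Algebra R₀ Λ₀]
    (h : Smoothing.IndSmooth R₀ Λ₀) (φ₀ : A₀ →ₐ[R₀] Λ₀) (𝔮₀ : Ideal Λ₀) (hq : 𝔮₀ ≠ ⊤) :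
    Smoothing.Resolvable R₀ φ₀ 𝔮₀ := by
  obtain ⟨B, _, _, hB, g, hh, hgh⟩ := h A₀ inferInstance φ₀
  haveI := hB
  have htop : Smoothing.singRad R₀ hh = ⊤ := by
    unfold Smoothing.singRad Smoothing.singularIdeal
    rw [Algebra.smoothLocus_eq_univ, Set.compl_univ, PrimeSpectrum.vanishingIdeal_empty,
      Ideal.map_top, Ideal.radical_top]
  refine ⟨B, inferInstance, inferInstance, hB.2, g, hh, hgh, ?_, ?_⟩
  · rw [htop]
    exact le_top
  · rw [htop]
    intro hle
    exact hq (top_le_iff.1 hle)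

section IndT

variable {k : Type u} [Field k] {d : ℕ} (K : Ideal (MvPolynomial (Fin d) k))
  {L : Type u} [CommRing L] [IsLocalRing L] [Algebra (MvPolynomial (Fin d) k) L]
  [Algebra k L] [IsScalarTower k (MvPolynomial (Fin d) k) L]
  {Λq : Type u} [CommRing Λq] [Algebra (MvPolynomial (Fin d) k ⧸ K) Λq]
  (p : L →+* Λq)
  (hcomp : ∀ r : MvPolynomial (Fin d) k,
    p (algebraMap (MvPolynomial (Fin d) k) L r) =
      algebraMap (MvPolynomial (Fin d) k ⧸ K) Λq (Ideal.Quotient.mk K r))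
  (hreg : ∀ (i : Fin d) (y : L),
    tt k L i * y ∈ Ideal.span ((tt k L) '' {j | j < i}) →
      y ∈ Ideal.span ((tt k L) '' {j | j < i}))

include hcomp hreg in
theorem indSmooth_T (e : ℕ) (he : 0 < e)
    (hKe : ∀ i, (X i : MvPolynomial (Fin d) k) ^ e ∈ K)
    (hK : K ≤ Ideal.span (Set.range (X : Fin d → MvPolynomial (Fin d) k)))
    (hp : Surjective p)
    (hker : RingHom.ker p = Ideal.span (Set.range fun i : Fin d => tt k L i ^ e))
    (hmax : IsLocalRing.maximalIdeal L = Ideal.span (Set.range (tt k L : Fin d → L)))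
    (hres : Smoothing.IndSmooth k (IsLocalRing.ResidueField L)) :
    Smoothing.IndSmooth (MvPolynomial (Fin d) k ⧸ K) Λq := by
  haveI := flat_T K p hcomp hreg e he hKe hK hp hker
  refine IndSmoothNil.s2022 (mT K) (mT_isNilpotent K e hKe) ?_
  -- the two identifications
  let e₁ : k ≃+* (MvPolynomial (Fin d) k ⧸ K) ⧸ mT K :=
    RingEquiv.ofBijective _ (bijective_algebraMap_quot K hK)
  let q : L →+* Λq ⧸ (mT K).map (algebraMap (MvPolynomial (Fin d) k ⧸ K) Λq) :=
    (Ideal.Quotient.mk _).comp p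
  have hq : Surjective q := Ideal.Quotient.mk_surjective.comp hp
  have hJ' : (mT K).map (algebraMap (MvPolynomial (Fin d) k ⧸ K) Λq) =
      (Ideal.span (Set.range (tt k L : Fin d → L))).map p := by
    unfold mT
    rw [Ideal.map_span, Ideal.map_span]
    congr 1
    ext z
    constructor
    · rintro ⟨_, ⟨i, rfl⟩, rfl⟩
      exact ⟨_, ⟨i, rfl⟩, hcomp (X i)⟩
    · rintro ⟨_, ⟨i, rfl⟩, rfl⟩
      exact ⟨_, ⟨i, rfl⟩, (hcomp (X i)).symm⟩
  have hkerq : RingHom.ker q = IsLocalRing.maximalIdeal L := by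
    ext x
    rw [RingHom.mem_ker]
    show (Ideal.Quotient.mk _) (p x) = 0 ↔ _
    rw [Ideal.Quotient.eq_zero_iff_mem, hJ', ← Ideal.mem_comap, Ideal.comap_map_of_surjective p hp,
      hmax]
    have hle : Ideal.comap p ⊥ ≤ Ideal.span (Set.range (tt k L : Fin d → L)) := by
      change RingHom.ker p ≤ _
      rw [hker, Ideal.span_le]
      rintro _ ⟨i, rfl⟩
      have hmem : tt k L i ∈ Ideal.span (Set.range (tt k L : Fin d → L)) :=
        Ideal.subset_span ⟨i, rfl⟩
      exact Ideal.pow_mem_of_mem _ hmem e he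
    rw [sup_eq_left.2 hle]
  let e₂ : IsLocalRing.ResidueField L ≃+*
      Λq ⧸ (mT K).map (algebraMap (MvPolynomial (Fin d) k ⧸ K) Λq) :=
    (Ideal.quotEquivOfEq hkerq.symm).trans (RingHom.quotientKerEquivOfSurjective hq)
  refine IndSmoothNil.indSmooth_transfer e₁ e₂ ?_ hres
  intro r
  show e₂ (Ideal.Quotient.mk _ (algebraMap k L r)) = _
  have h1 : e₂ (Ideal.Quotient.mk _ (algebraMap k L r)) = q (algebraMap k L r) := rfl
  rw [h1]
  show (Ideal.Quotient.mk _) (p (algebraMap k L r)) = _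
  rw [IsScalarTower.algebraMap_apply k (MvPolynomial (Fin d) k) L, hcomp]
  rfl

end IndT

end Groth.Agent.Helper2.Sep
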