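import Mathlib
import Groth.Prelude.Def_Smoothing
import Groth.Agent.Helper2.DelocA
import Groth.Agent.S2032

set_option autoImplicit false

namespace Groth.Agent.Helper2.Sep

open Function MvPolynomial TensorProduct

universe u

section Defs

variable (k : Type u) [CommRing k] (A : Type u) [CommRing A] [Algebra k A]
  (d r : ℕ) (a : Fin r → A) (n : ℕ)

/-- The polynomial base ring. -/
abbrev RR : Type u := MvPolynomial (Fin d) k

/-- The base change of `A` (a sealed copy of the tensor product). -/
def AR : Type u := RR k d ⊗[k] A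

noncomputable instance : CommRing (AR k A d) := inferInstanceAs (CommRing (RR k d ⊗[k] A))

noncomputable instance : Algebra (RR k d) (AR k A d) :=
  inferInstanceAs (Algebra (RR k d) (RR k d ⊗[k] A))

noncomputable instance : Algebra k (AR k A d) :=
  inferInstanceAs (Algebra k (RR k d ⊗[k] A))

instance : IsScalarTower k (RR k d) (AR k A d) :=
  inferInstanceAs (IsScalarTower k (RR k d) (RR k d ⊗[k] A))

/-- The identification with the tensor product. -/
noncomputable def arEquiv : AR k A d ≃ₐ[RR k d] RR k d ⊗[k] A := AlgEquiv.refl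

/-- The polynomial ring over `AR` in the variables `z_{ij}`. -/
abbrev PB : Type u := MvPolynomial (Fin d × Fin r) (AR k A d)

variable {A}

/-- pure tensors in `AR`. -/
noncomputable def tm (x : RR k d) (y : A) : AR k A d := x ⊗ₜ[k] y

lemma tm_mul (x x' : RR k d) (y y' : A) : tm k d x y * tm k d x' y' = tm k d (x * x') (y * y') :=
  Algebra.TensorProduct.tmul_mul_tmul _ _ _ _

lemma tm_pow (x : RR k d) (y : A) (m : ℕ) : tm k d x y ^ m = tm k d (x ^ m) (y ^ m) :=
  Algebra.TensorProduct.tmul_pow x y m

lemma tm_one : tm k d (1 : RR k d) (1 : A) = 1 := rfl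

lemma algebraMap_AR (x : RR k d) : algebraMap (RR k d) (AR k A d) x = tm k d x 1 := rfl

/-- The relations `x_i^n - ∑_j z_{ij} a_j`. -/
noncomputable def grel (i : Fin d) : PB k A d r :=
  C (tm k d ((X i : RR k d) ^ n) (1 : A)) - ∑ j, X (i, j) * C (tm k d (1 : RR k d) (a j))

/-- The algebra `B = A[x, z]/(x_i^n - ∑ z_{ij} a_j)`. -/
abbrev BB : Type u := PB k A d r ⧸ Ideal.span (Set.range (grel k d r a n))

/-- image of `a_j` in `B`. -/
noncomputable def abar (j : Fin r) : BB k d r a n :=
  algebraMap (AR k A d) (BB k d r a n) (tm k d (1 : RR k d) (a j))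

/-- image of `x_i` in `B`. -/
noncomputable def xbar (i : Fin d) : BB k d r a n :=
  algebraMap (RR k d) (BB k d r a n) (X i)

/-- image of `z_ij` in `B`. -/
noncomputable def zbar (i : Fin d) (j : Fin r) : BB k d r a n :=
  Ideal.Quotient.mk _ (X (i, j))

lemma abar_eq (j : Fin r) :
    abar k d r a n j = Ideal.Quotient.mk _ (C (tm k d (1 : RR k d) (a j))) := rfl

lemma xbar_eq (i : Fin d) :
    xbar k d r a n i = Ideal.Quotient.mk _ (C (tm k d (X i : RR k d) (1 : A))) := by
  rw [xbar, IsScalarTower.algebraMap_apply (RR k d) (AR k A d) (BB k d r a n)]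
  rfl

/-- the defining relation in `B`. -/
lemma rel_BB (i : Fin d) :
    xbar k d r a n i ^ n = ∑ j, zbar k d r a n i j * abar k d r a n j := by
  have h : Ideal.Quotient.mk (Ideal.span (Set.range (grel k d r a n))) (grel k d r a n i) = 0 :=
    Ideal.Quotient.eq_zero_iff_mem.2 (Ideal.subset_span ⟨i, rfl⟩)
  rw [grel, map_sub, sub_eq_zero] at h
  rw [xbar_eq, ← map_pow, ← map_pow, tm_pow, one_pow, h, map_sum]
  apply Finset.sum_congr rfl
  intro j _
  rw [map_mul]
  rfl

instance : Algebra.FinitePresentation (AR k A d) (BB k d r a n) :=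
  Algebra.FinitePresentation.quotient (Submodule.fg_span (Set.finite_range _))

/-- `a_j^{d+1}` is elementary standard in `B` over `A_R`. -/
theorem isElementaryStandard_abar (j : Fin r) :
    Smoothing.IsElementaryStandard (AR k A d) (BB k d r a n) (abar k d r a n j ^ (d + 1)) := by
  classical
  refine Deloc.exists_elementaryStandard_of_data_gen (V := Fin d × Fin r) (κ := Fin d)
    (γ := Fin d) (grel k d r a n) (Ideal.Quotient.mkₐ (AR k A d) _)
    (Ideal.Quotient.mkₐ_surjective _ _) ?_ (Function.Embedding.refl _)
    ⟨fun i => (i, j), fun i i' h => (Prod.mk.inj h).1⟩ _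
    ((-1) ^ d * abar k d r a n j) ?_ ?_
  · ext x
    simp only [RingHom.mem_ker]
    exact Ideal.Quotient.eq_zero_iff_mem
  · have hmat : (Matrix.of fun i i' : Fin d =>
        pderiv (((⟨fun i => (i, j), fun i i' h => (Prod.mk.inj h).1⟩ : Fin d ↪ Fin d × Fin r)) i')
          (grel k d r a n ((Function.Embedding.refl (Fin d)) i))) =
        Matrix.diagonal fun _ : Fin d => -(C (tm k d (1 : RR k d) (a j)) : PB k A d r) := by
      apply Matrix.ext
      intro i i'
      simp only [Matrix.of_apply, Function.Embedding.coeFn_mk, Function.Embedding.refl_apply,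
        Matrix.diagonal_apply]
      rw [grel, map_sub, pderiv_C, zero_sub, map_sum]
      by_cases hii : i = i'
      · subst hii
        rw [if_pos rfl, Finset.sum_eq_single j]
        · rw [Derivation.leibniz, pderiv_C, smul_zero, zero_add, pderiv_X, Pi.single_eq_same,
            smul_eq_mul, mul_one]
        · intro j' _ hj'
          rw [Derivation.leibniz, pderiv_C, smul_zero, zero_add, pderiv_X, Pi.single_apply,
            if_neg (by simpa using hj'), smul_zero]
        · intro h
          exact absurd (Finset.mem_univ _) h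
      · rw [if_neg hii, neg_eq_zero]
        apply Finset.sum_eq_zero
        intro j' _
        rw [Derivation.leibniz, pderiv_C, smul_zero, zero_add, pderiv_X, Pi.single_apply,
          if_neg (by simp [hii]), smul_zero]
    rw [hmat, Matrix.det_diagonal, Finset.prod_const, Finset.card_univ, Fintype.card_fin,
      map_pow, map_neg]
    have : (Ideal.Quotient.mkₐ (AR k A d) (Ideal.span (Set.range (grel k d r a n))))
        (C (tm k d (1 : RR k d) (a j))) = abar k d r a n j := rfl
    rw [this, neg_pow (abar k d r a n j) d, pow_succ]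
    have h2 : ((-1 : BB k d r a n) ^ d) * ((-1) ^ d) = 1 := by
      rw [← mul_pow]
      ring
    calc abar k d r a n j ^ d * abar k d r a n j
        = (((-1 : BB k d r a n) ^ d) * ((-1) ^ d)) * (abar k d r a n j ^ d * abar k d r a n j) := by
          rw [h2, one_mul]
      _ = _ := by ring
  · intro a₁ _ ℓ
    refine Ideal.mem_sup_left (Ideal.mul_mem_left _ _ (Ideal.subset_span ⟨ℓ, rfl⟩))

end Defs

end Groth.Agent.Helper2.Sep
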