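import Mathlib
import Groth.Agent.Helper2.SepC

set_option autoImplicit false

namespace Groth.Agent.Helper2.Sep

open Function MvPolynomial TensorProduct

universe u

/-- Base change of a formally smooth localization. -/
theorem formallySmooth_away_tmul (k : Type u) [CommRing k] (A : Type u) [CommRing A] [Algebra k A]
    (S : Type u) [CommRing S] [Algebra k S] (a : A)
    [Algebra.FormallySmooth k (Localization.Away a)] :
    Algebra.FormallySmooth S (Localization.Away ((1 : S) ⊗ₜ[k] a : S ⊗[k] A)) := by
  haveI : IsLocalization ((Submonoid.powers a).map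
      (Algebra.TensorProduct.includeRight (R := k) (A := S) (B := A)))
      (Localization.Away ((1 : S) ⊗ₜ[k] a : S ⊗[k] A)) := by
    have : (Submonoid.powers a).map
        (Algebra.TensorProduct.includeRight (R := k) (A := S) (B := A)) =
        Submonoid.powers ((1 : S) ⊗ₜ[k] a : S ⊗[k] A) := by
      rw [Submonoid.map_powers]
      rfl
    rw [this]
    infer_instance
  let e := IsLocalization.tensorProductEquivOfMapIncludeRight k S (Submonoid.powers a)
    (Localization.Away a) (Localization.Away ((1 : S) ⊗ₜ[k] a : S ⊗[k] A))
  exact Algebra.FormallySmooth.of_equiv e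

section

variable (k : Type u) [CommRing k] {A : Type u} [CommRing A] [Algebra k A]
  (d r : ℕ) (a : Fin r → A) (n : ℕ)

instance [Algebra.FinitePresentation k A] : Algebra.FinitePresentation (RR k d) (AR k A d) :=
  inferInstanceAs (Algebra.FinitePresentation (RR k d) (RR k d ⊗[k] A))

instance [Algebra.FinitePresentation k A] : Algebra.FinitePresentation (RR k d) (BB k d r a n) :=
  Algebra.FinitePresentation.trans (RR k d) (AR k A d) (BB k d r a n)

theorem formallySmooth_AR_away (j : Fin r) [Algebra.FormallySmooth k (Localization.Away (a j))] :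
    Algebra.FormallySmooth (RR k d) (Localization.Away (tm k d (1 : RR k d) (a j))) :=
  formallySmooth_away_tmul k A (RR k d) (a j)


set_option maxHeartbeats 800000 in
/-- `B` is smooth over `R = k[x]` on `D(a_j)`. -/
theorem smooth_BB_away_abar [Algebra.FinitePresentation k A] (j : Fin r)
    [Algebra.FormallySmooth k (Localization.Away (a j))] :
    Algebra.Smooth (RR k d) (Localization.Away (abar k d r a n j ^ (d + 1))) := by
  haveI hstd : Algebra.IsStandardSmooth (AR k A d)
      (Localization.Away (abar k d r a n j ^ (d + 1))) :=
    Groth.Agent.S2032.result _ (isElementaryStandard_abar k d r a n j)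
  haveI hfs1 : Algebra.FormallySmooth (AR k A d)
      (Localization.Away (abar k d r a n j ^ (d + 1))) := inferInstance
  haveI := formallySmooth_AR_away k d r a j
  -- the unit
  have hunit : IsUnit (algebraMap (AR k A d) (Localization.Away (abar k d r a n j ^ (d + 1)))
      (tm k d (1 : RR k d) (a j))) := by
    rw [IsScalarTower.algebraMap_apply (AR k A d) (BB k d r a n)
      (Localization.Away (abar k d r a n j ^ (d + 1)))]
    have h1 : IsUnit (algebraMap (BB k d r a n) (Localization.Away (abar k d r a n j ^ (d + 1)))
        (abar k d r a n j ^ (d + 1))) := IsLocalization.Away.algebraMap_isUnit _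
    rw [map_pow] at h1
    exact (isUnit_pow_iff (Nat.succ_ne_zero d)).1 h1
  letI alg' : Algebra (Localization.Away (tm k d (1 : RR k d) (a j)))
      (Localization.Away (abar k d r a n j ^ (d + 1))) :=
    (IsLocalization.Away.lift (tm k d (1 : RR k d) (a j)) hunit).toAlgebra
  haveI tow1 : IsScalarTower (AR k A d) (Localization.Away (tm k d (1 : RR k d) (a j)))
      (Localization.Away (abar k d r a n j ^ (d + 1))) :=
    IsScalarTower.of_algebraMap_eq fun x => (IsLocalization.Away.lift_eq _ hunit x).symm
  haveI tow2 : IsScalarTower (RR k d) (Localization.Away (tm k d (1 : RR k d) (a j)))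
      (Localization.Away (abar k d r a n j ^ (d + 1))) := by
    refine IsScalarTower.of_algebraMap_eq fun x => ?_
    rw [IsScalarTower.algebraMap_apply (RR k d) (AR k A d)
        (Localization.Away (tm k d (1 : RR k d) (a j))),
      ← IsScalarTower.algebraMap_apply (AR k A d) (Localization.Away (tm k d (1 : RR k d) (a j)))
        (Localization.Away (abar k d r a n j ^ (d + 1))),
      ← IsScalarTower.algebraMap_apply (RR k d) (AR k A d)
        (Localization.Away (abar k d r a n j ^ (d + 1)))]
  haveI hfs2 : Algebra.FormallySmooth (Localization.Away (tm k d (1 : RR k d) (a j)))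
      (Localization.Away (abar k d r a n j ^ (d + 1))) :=
    Algebra.FormallySmooth.localization_base (Submonoid.powers (tm k d (1 : RR k d) (a j)))
  haveI hfs3 : Algebra.FormallySmooth (RR k d)
      (Localization.Away (abar k d r a n j ^ (d + 1))) :=
    Algebra.FormallySmooth.comp (RR k d) (Localization.Away (tm k d (1 : RR k d) (a j))) _
  haveI hfp : Algebra.FinitePresentation (RR k d)
      (Localization.Away (abar k d r a n j ^ (d + 1))) :=
    Algebra.FinitePresentation.trans (RR k d) (BB k d r a n) _
  exact ⟨hfs3, hfp⟩

/-- smoothness at primes not containing `a_j`. -/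
theorem isSmoothAt_of_abar_notMem [Algebra.FinitePresentation k A] (j : Fin r)
    [Algebra.FormallySmooth k (Localization.Away (a j))]
    (P : Ideal (BB k d r a n)) [P.IsPrime] (hP : abar k d r a n j ∉ P) :
    Algebra.IsSmoothAt (RR k d) P := by
  have hsm := smooth_BB_away_abar k d r a n j
  have h1 := (Algebra.basicOpen_subset_smoothLocus_iff_smooth (R := RR k d)
    (f := abar k d r a n j ^ (d + 1))).2 hsm
  have h2 : (⟨P, inferInstance⟩ : PrimeSpectrum (BB k d r a n)) ∈
      (PrimeSpectrum.basicOpen (abar k d r a n j ^ (d + 1)) : Set _) := by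
    show abar k d r a n j ^ (d + 1) ∉ P
    intro h
    exact hP (Ideal.IsPrime.mem_of_pow_mem inferInstance _ h)
  exact h1 h2

/-- smoothness at primes not containing `x_i`. -/
theorem isSmoothAt_of_xbar_notMem [Algebra.FinitePresentation k A]
    (hsm : ∀ j, Algebra.FormallySmooth k (Localization.Away (a j))) (i : Fin d)
    (P : Ideal (BB k d r a n)) [P.IsPrime] (hP : xbar k d r a n i ∉ P) :
    Algebra.IsSmoothAt (RR k d) P := by
  have h1 : ∃ j, abar k d r a n j ∉ P := by
    by_contra hcon
    push Not at hcon
    apply hP
    apply Ideal.IsPrime.mem_of_pow_mem inferInstance n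
    rw [rel_BB]
    exact Ideal.sum_mem _ fun j _ => Ideal.mul_mem_left _ _ (hcon j)
  obtain ⟨j, hj⟩ := h1
  haveI := hsm j
  exact isSmoothAt_of_abar_notMem k d r a n j P hj

/-- `B_{x_i}` is smooth over `R`. -/
theorem smooth_BB_away_xbar [Algebra.FinitePresentation k A]
    (hsm : ∀ j, Algebra.FormallySmooth k (Localization.Away (a j))) (i : Fin d) :
    Algebra.Smooth (RR k d) (Localization.Away (xbar k d r a n i)) := by
  rw [← Algebra.basicOpen_subset_smoothLocus_iff_smooth]
  intro P hP
  haveI : P.asIdeal.IsPrime := P.2
  exact isSmoothAt_of_xbar_notMem k d r a n hsm i P.asIdeal hP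

end

end Groth.Agent.Helper2.Sep
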