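import Mathlib
import Groth.Prelude.Def_Smoothing
import Groth.Agent.Helper2.SepD

set_option autoImplicit false

namespace Groth.Agent.Helper2.Sep

open Function MvPolynomial TensorProduct

universe u

section PsiB

variable (k : Type u) [CommRing k] {A : Type u} [CommRing A] [Algebra k A]
  (d r : ℕ) (a : Fin r → A) (n : ℕ)

/-- the ring map `A → B`. -/
noncomputable def iotaA : A →+* BB k d r a n :=
  (algebraMap (AR k A d) (BB k d r a n)).comp
    ((Algebra.TensorProduct.includeRight (R := k) (A := RR k d) (B := A)) : A →+* RR k d ⊗[k] A)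

lemma iotaA_apply (y : A) :
    iotaA k d r a n y = algebraMap (AR k A d) (BB k d r a n) (tm k d (1 : RR k d) y) := rfl

lemma iotaA_a (j : Fin r) : iotaA k d r a n (a j) = abar k d r a n j := rfl

lemma iotaA_algebraMap (x : k) :
    iotaA k d r a n (algebraMap k A x) =
      algebraMap (RR k d) (BB k d r a n) (algebraMap k (RR k d) x) := by
  rw [iotaA_apply, IsScalarTower.algebraMap_apply (RR k d) (AR k A d) (BB k d r a n),
    algebraMap_AR]
  congr 1
  show (1 : RR k d) ⊗ₜ[k] (algebraMap k A x) = (algebraMap k (RR k d) x) ⊗ₜ[k] (1 : A)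
  rw [Algebra.algebraMap_eq_smul_one, Algebra.algebraMap_eq_smul_one, TensorProduct.smul_tmul]

variable {Λ : Type u} [CommRing Λ] [Algebra k Λ] [Algebra (RR k d) Λ] [IsScalarTower k (RR k d) Λ]

/-- the map `B → Λ`. -/
theorem exists_psiB (φ : A →ₐ[k] Λ) (lam : Fin d → Fin r → Λ)
    (hrel : ∀ i, algebraMap (RR k d) Λ (X i) ^ n = ∑ j, lam i j * φ (a j)) :
    ∃ ψ : BB k d r a n →ₐ[RR k d] Λ, ∀ y : A, ψ (iotaA k d r a n y) = φ y := by
  classical
  -- the map AR → Λ
  let f₁ : AR k A d →ₐ[RR k d] Λ :=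
    (Algebra.TensorProduct.lift (Algebra.ofId (RR k d) Λ) φ (fun _ _ => Commute.all _ _)).comp
      (arEquiv k A d).toAlgHom
  have hf₁ : ∀ (x : RR k d) (y : A), f₁ (tm k d x y) = algebraMap (RR k d) Λ x * φ y := by
    intro x y
    exact Algebra.TensorProduct.lift_tmul (Algebra.ofId (RR k d) Λ) φ
      (fun _ _ => Commute.all _ _) x y
  letI algAR : Algebra (AR k A d) Λ := f₁.toRingHom.toAlgebra
  haveI : IsScalarTower (RR k d) (AR k A d) Λ :=
    IsScalarTower.of_algebraMap_eq (fun x => (f₁.commutes x).symm)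
  let f₂ : PB k A d r →ₐ[RR k d] Λ :=
    (aeval (fun p : Fin d × Fin r => lam p.1 p.2) : PB k A d r →ₐ[AR k A d] Λ).restrictScalars
      (RR k d)
  have hf₂C : ∀ t : AR k A d, f₂ (C t) = f₁ t := by
    intro t
    show aeval (fun p : Fin d × Fin r => lam p.1 p.2) (C t) = f₁ t
    rw [aeval_C]
    rfl
  have hf₂X : ∀ p : Fin d × Fin r, f₂ (X p) = lam p.1 p.2 := by
    intro p
    show aeval (fun p : Fin d × Fin r => lam p.1 p.2) (X p) = _
    rw [aeval_X]
  have hle : Ideal.span (Set.range (grel k d r a n)) ≤ RingHom.ker f₂.toRingHom := by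
    rw [Ideal.span_le]
    rintro _ ⟨i, rfl⟩
    show f₂ (grel k d r a n i) = 0
    rw [grel, map_sub, map_sum, hf₂C, hf₁, map_one, mul_one, map_pow, hrel, sub_eq_zero]
    apply Finset.sum_congr rfl
    intro j _
    rw [map_mul, hf₂X, hf₂C, hf₁, map_one, one_mul]
  have hkill : ∀ x ∈ Ideal.span (Set.range (grel k d r a n)), f₂ x = 0 := fun x hx => hle hx
  refine ⟨Ideal.Quotient.liftₐ _ f₂ hkill, ?_⟩
  intro y
  rw [iotaA_apply]
  show f₂ (C (tm k d 1 y)) = φ y
  rw [hf₂C, hf₁, map_one, one_mul]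

end PsiB

end Groth.Agent.Helper2.Sep
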