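import Mathlib
import Groth.Prelude.Def_Smoothing
import Groth.Agent.Helper2.SepL
import Groth.Agent.Helper2.SepI

set_option autoImplicit false

namespace Groth.Agent.Helper2.Ins

open Function MvPolynomial TensorProduct Groth.Agent.Helper2.Sep

universe u

section PsiB

variable (k : Type u) [CommRing k] {A : Type u} [CommRing A] [Algebra k A]
  (d r : ℕ) (a : Fin r → A) (n : ℕ)

variable {Λ : Type u} [CommRing Λ] [Algebra k Λ] [Algebra (RR k d) Λ] [IsScalarTower k (RR k d) Λ]

/-- the map `B → Λ`, with its value on the `z_{ij}`. -/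
theorem exists_psiB' (φ : A →ₐ[k] Λ) (lam : Fin d → Fin r → Λ)
    (hrel : ∀ i, algebraMap (RR k d) Λ (X i) ^ n = ∑ j, lam i j * φ (a j)) :
    ∃ ψ : BB k d r a n →ₐ[RR k d] Λ, (∀ y : A, ψ (iotaA k d r a n y) = φ y) ∧
      ∀ i j, ψ (zbar k d r a n i j) = lam i j := by
  classical
  let f₁ : AR k A d →ₐ[RR k d] Λ :=
    (Algebra.TensorProduct.lift (Algebra.ofId (RR k d) Λ) φ (fun _ _ => Commute.all _ _)).comp
      (arEquiv k A d).toAlgHom
  have hf₁ : ∀ (x : RR k d) (y : A), f₁ (tm k d x y) = algebraMap (RR k d) Λ x * φ y := by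
    intro x y
    exact Algebra.TensorProduct.lift_tmul (Algebra.ofId (RR k d) Λ) φ
      (fun _ _ => Commute.all _ _) x y
  letI algAR : Algebra (AR k A d) Λ := f₁.toRingHom.toAlgebra
  haveI : IsScalarTower (RR k d) (AR k A d) Λ :=
    IsScalarTower.of_algebraMap_eq (fun x => (f₁.commutes x).symm)
  let f₂ : PB k A d r →ₐ[RR k d] Λ :=
    (aeval (fun p : Fin d × Fin r => lam p.1 p.2) : PB k A d r →ₐ[AR k A d] Λ).restrictScalars
      (RR k d)
  have hf₂C : ∀ t : AR k A d, f₂ (C t) = f₁ t := by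
    intro t
    show aeval (fun p : Fin d × Fin r => lam p.1 p.2) (C t) = f₁ t
    rw [aeval_C]
    rfl
  have hf₂X : ∀ p : Fin d × Fin r, f₂ (X p) = lam p.1 p.2 := by
    intro p
    show aeval (fun p : Fin d × Fin r => lam p.1 p.2) (X p) = _
    rw [aeval_X]
  have hle : Ideal.span (Set.range (grel k d r a n)) ≤ RingHom.ker f₂.toRingHom := by
    rw [Ideal.span_le]
    rintro _ ⟨i, rfl⟩
    show f₂ (grel k d r a n i) = 0
    rw [grel, map_sub, map_sum, hf₂C, hf₁, map_one, mul_one, map_pow, hrel, sub_eq_zero]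
    apply Finset.sum_congr rfl
    intro j _
    rw [map_mul, hf₂X, hf₂C, hf₁, map_one, one_mul]
  have hkill : ∀ x ∈ Ideal.span (Set.range (grel k d r a n)), f₂ x = 0 := fun x hx => hle hx
  refine ⟨Ideal.Quotient.liftₐ _ f₂ hkill, ?_, ?_⟩
  · intro y
    rw [iotaA_apply]
    show f₂ (C (tm k d 1 y)) = φ y
    rw [hf₂C, hf₁, map_one, one_mul]
  · intro i j
    show f₂ (X (i, j)) = lam i j
    rw [hf₂X]

/-- algebra maps out of `B` are determined by the values on `A` and on the `z_{ij}`. -/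
theorem BB_algHom_ext {T : Type u} [CommRing T] [Algebra (RR k d) T]
    (ψ₁ ψ₂ : BB k d r a n →ₐ[RR k d] T)
    (hA : ∀ y : A, ψ₁ (iotaA k d r a n y) = ψ₂ (iotaA k d r a n y))
    (hz : ∀ i j, ψ₁ (zbar k d r a n i j) = ψ₂ (zbar k d r a n i j)) : ψ₁ = ψ₂ := by
  apply AlgHom.ext
  intro b
  obtain ⟨g, rfl⟩ := Ideal.Quotient.mk_surjective b
  induction g using MvPolynomial.induction_on with
  | C t =>
    -- `t` is a tensor
    have key : ∀ t' : RR k d ⊗[k] A,
        ψ₁ (Ideal.Quotient.mk _ (C ((arEquiv k A d).symm t'))) =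
          ψ₂ (Ideal.Quotient.mk _ (C ((arEquiv k A d).symm t'))) := by
      intro t'
      induction t' using TensorProduct.induction_on with
      | zero => rw [map_zero, C_0, map_zero, map_zero, map_zero]
      | tmul x y =>
        have h1 : (Ideal.Quotient.mk (Ideal.span (Set.range (grel k d r a n))))
            (C (tm k d x y)) = algebraMap (RR k d) (BB k d r a n) x * iotaA k d r a n y := by
          rw [iotaA_apply, IsScalarTower.algebraMap_apply (RR k d) (AR k A d) (BB k d r a n),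
            algebraMap_AR, ← map_mul, tm_mul, mul_one, one_mul]
          rfl
        show ψ₁ ((Ideal.Quotient.mk _) (C (tm k d x y))) = ψ₂ ((Ideal.Quotient.mk _) (C (tm k d x y)))
        rw [h1, map_mul, map_mul, hA, AlgHom.commutes, AlgHom.commutes]
      | add t₁ t₂ h₁ h₂ =>
        rw [map_add, C_add, map_add, map_add, map_add, h₁, h₂]
    obtain ⟨t', rfl⟩ := (arEquiv k A d).symm.surjective t
    exact key t'
  | add g₁ g₂ h₁ h₂ =>
    rw [map_add, map_add, map_add, h₁, h₂]
  | mul_X g p hg =>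
    rw [map_mul, map_mul, map_mul, hg]
    congr 1
    exact hz p.1 p.2

end PsiB

section Syz

variable {D Lb : Type u} [CommRing D] [CommRing Lb] [Algebra D Lb] [Module.FaithfullyFlat D Lb]

/-- the syzygy trick: a relation with coefficients in a faithfully flat extension is a
combination of relations with coefficients in the base. -/
theorem exists_syzygy {r : ℕ} (ab : Fin r → D) (G : D) (ω : Fin r → Lb)
    (h : algebraMap D Lb G = ∑ j, ω j * algebraMap D Lb (ab j)) :
    ∃ (δ : Fin r → D) (κ : ℕ) (σ : Fin κ → Fin r → D) (y : Fin κ → Lb),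
      G = ∑ j, δ j * ab j ∧ (∀ l, ∑ j, σ l j * ab j = 0) ∧
      ∀ j, ω j = algebraMap D Lb (δ j) + ∑ l, y l * algebraMap D Lb (σ l j) := by
  classical
  have hG : G ∈ Ideal.span (Set.range ab) := by
    rw [← Ideal.comap_map_eq_self_of_faithfullyFlat (B := Lb) (Ideal.span (Set.range ab)),
      Ideal.mem_comap, h]
    apply Ideal.sum_mem
    intro j _
    exact Ideal.mul_mem_left _ _ (Ideal.mem_map_of_mem _ (Ideal.subset_span ⟨j, rfl⟩))
  obtain ⟨δ, hδ⟩ := Ideal.mem_span_range_iff_exists_fun.1 hG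
  have hrel : ∑ j, ab j • (ω j - algebraMap D Lb (δ j)) = 0 := by
    have h2 : ∀ j, ab j • (ω j - algebraMap D Lb (δ j)) =
        ω j * algebraMap D Lb (ab j) - algebraMap D Lb (δ j * ab j) := by
      intro j
      rw [Algebra.smul_def, map_mul]
      ring
    rw [Finset.sum_congr rfl (fun j _ => h2 j), Finset.sum_sub_distrib, ← h, ← map_sum, hδ,
      sub_self]
  obtain ⟨κ, c, y, hxy, hc⟩ := Module.Flat.isTrivialRelation_of_sum_smul_eq_zero (R := D)
    (M := Lb) (f := ab) (x := fun j => ω j - algebraMap D Lb (δ j)) hrel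
  refine ⟨δ, κ, fun l j => c j l, y, hδ.symm, ?_, ?_⟩
  · intro l
    rw [← hc l]
    exact Finset.sum_congr rfl fun j _ => mul_comm _ _
  · intro j
    have := hxy j
    rw [sub_eq_iff_eq_add] at this
    rw [this, add_comm]
    congr 1
    apply Finset.sum_congr rfl
    intro l _
    rw [Algebra.smul_def, mul_comm]

end Syz

section LR

variable {R Rₚ A Λq : Type u} [CommRing R] [CommRing Rₚ] [Algebra R Rₚ] [CommRing A] [Algebra R A]
  [CommRing Λq] [Algebra R Λq] [Algebra Rₚ Λq] [IsScalarTower R Rₚ Λq]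

/-- a factorization of the local problem through a smooth algebra resolves it. -/
theorem resolvable_of_factor (χ : A →ₐ[R] Λq) (S : Type u) [CommRing S] [Algebra Rₚ S]
    [Algebra.Smooth Rₚ S] [Algebra R S] [IsScalarTower R Rₚ S] (g₀ : A →ₐ[R] S)
    (h : S →ₐ[Rₚ] Λq) (hcomp : ∀ x, h (g₀ x) = χ x) (𝔮 : Ideal Λq) (hq : 𝔮 ≠ ⊤) :
    Smoothing.Resolvable Rₚ
      (Algebra.TensorProduct.lift (Algebra.ofId Rₚ Λq) χ (fun _ _ => Commute.all _ _) :
        Rₚ ⊗[R] A →ₐ[Rₚ] Λq) 𝔮 := by
  have htop : Smoothing.singRad Rₚ h = ⊤ := by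
    unfold Smoothing.singRad Smoothing.singularIdeal
    rw [Algebra.smoothLocus_eq_univ, Set.compl_univ, PrimeSpectrum.vanishingIdeal_empty,
      Ideal.map_top, Ideal.radical_top]
  let g : Rₚ ⊗[R] A →ₐ[Rₚ] S :=
    Algebra.TensorProduct.lift (Algebra.ofId Rₚ S) g₀ (fun _ _ => Commute.all _ _)
  refine ⟨S, inferInstance, inferInstance, inferInstance, g, h, ?_, ?_, ?_⟩
  · apply Algebra.TensorProduct.ext
    · apply AlgHom.ext
      intro x
      simp [g]
    · apply AlgHom.ext
      intro x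
      simp only [AlgHom.comp_apply, AlgHom.coe_restrictScalars',
        Algebra.TensorProduct.includeRight_apply, g, Algebra.TensorProduct.lift_tmul, map_one,
        one_mul]
      exact hcomp x
  · rw [htop]
    exact le_top
  · rw [htop]
    intro hle
    exact hq (top_le_iff.1 hle)

end LR

section QuotAlg

variable {R₂ M S : Type u} [CommRing R₂] [CommRing M] [Algebra R₂ M] [CommRing S] [Algebra R₂ S]
  (K : Ideal R₂) [Algebra (R₂ ⧸ K) S] [IsScalarTower R₂ (R₂ ⧸ K) S]

/-- an algebra map to an algebra over the quotient descends to the quotient. -/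
noncomputable def quotAlgHom (γ : M →ₐ[R₂] S) :
    (M ⧸ K.map (algebraMap R₂ M)) →ₐ[R₂ ⧸ K] S :=
  { toRingHom := Ideal.Quotient.lift _ γ.toRingHom (by
      intro x hx
      have hle : K.map (algebraMap R₂ M) ≤ RingHom.ker γ.toRingHom := by
        rw [Ideal.map_le_iff_le_comap]
        intro r hr
        show γ (algebraMap R₂ M r) = 0
        rw [γ.commutes, IsScalarTower.algebraMap_apply R₂ (R₂ ⧸ K) S,
          Ideal.Quotient.algebraMap_eq, Ideal.Quotient.eq_zero_iff_mem.2 hr, map_zero]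
      exact hle hx)
    commutes' := by
      intro x
      obtain ⟨r, rfl⟩ := Ideal.Quotient.mk_surjective x
      show Ideal.Quotient.lift _ γ.toRingHom _
        (algebraMap (R₂ ⧸ K) (M ⧸ K.map (algebraMap R₂ M)) (Ideal.Quotient.mk K r)) = _
      rw [Ideal.Quotient.algebraMap_quotient_map_quotient, Ideal.Quotient.lift_mk]
      show γ (algebraMap R₂ M r) = _
      rw [γ.commutes, IsScalarTower.algebraMap_apply R₂ (R₂ ⧸ K) S]
      rfl }

lemma quotAlgHom_mk (γ : M →ₐ[R₂] S) (m : M) :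
    quotAlgHom K γ (Ideal.Quotient.mk _ m) = γ m := rfl

end QuotAlg

end Groth.Agent.Helper2.Ins
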