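import Mathlib
import Groth.Prelude.Def_Smoothing
import Groth.Agent.Helper2.InsK

set_option autoImplicit false

namespace Groth.Agent.Helper2.Ins

open Function MvPolynomial TensorProduct Groth.Agent.Helper2.Sep

universe u

section ALL

variable (k : Type u) [CommRing k] {A : Type u} [CommRing A] [Algebra k A]
  (d r : ℕ) (a : Fin r → A) (n : ℕ)
  {T' Λ' Pb D Lb : Type u}
  [CommRing T'] [Algebra k T'] [Algebra (RR k d) T'] [IsScalarTower k (RR k d) T']
  [CommRing Λ'] [Algebra T' Λ'] [Algebra (RR k d) Λ'] [IsScalarTower (RR k d) T' Λ']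
  [CommRing Pb] [Algebra Pb T'] [Algebra k Pb] [IsScalarTower k Pb T']
  [CommRing D] [Algebra k D] [Algebra Pb D] [IsScalarTower k Pb D] [Algebra.Etale Pb D]
  [CommRing Lb] [Algebra D Lb] [Module.FaithfullyFlat D Lb]

set_option maxHeartbeats 3200000 in
/-- the abstract local step: the map from `B` factors through a smooth algebra. -/
theorem exists_smooth_factor (ρ : Lb →+* Λ')
    (hρP : ∀ x : Pb, ρ (algebraMap D Lb (algebraMap Pb D x)) =
      algebraMap T' Λ' (algebraMap Pb T' x))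
    (φD : A →ₐ[k] D) (pbar : Fin d → Pb) (tt : Fin d → T')
    (hX : ∀ i, algebraMap (RR k d) T' (X i) = algebraMap Pb T' (pbar i) * tt i)
    (ω : Fin d → Fin r → Lb)
    (hω : ∀ i, algebraMap D Lb (algebraMap Pb D (pbar i)) ^ n =
      ∑ j, ω i j * algebraMap D Lb (φD (a j)))
    (ψB' : BB k d r a n →ₐ[RR k d] Λ')
    (hψA : ∀ y : A, ψB' (iotaA k d r a n y) = ρ (algebraMap D Lb (φD y)))
    (hψz : ∀ i j, ψB' (zbar k d r a n i j) = algebraMap T' Λ' (tt i) ^ n * ρ (ω i j)) :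
    ∃ (S : Type u) (_ : CommRing S) (_ : Algebra T' S) (_ : Algebra.Smooth T' S)
      (_ : Algebra (RR k d) S) (_ : IsScalarTower (RR k d) T' S)
      (γ : BB k d r a n →ₐ[RR k d] S) (h : S →ₐ[T'] Λ'), ∀ b, h (γ b) = ψB' b := by
  classical
  -- the syzygies
  have hsyz : ∀ i, ∃ (δ : Fin r → D) (κ : ℕ) (σ : Fin κ → Fin r → D) (y : Fin κ → Lb),
      algebraMap Pb D (pbar i) ^ n = ∑ j, δ j * φD (a j) ∧
      (∀ l, ∑ j, σ l j * φD (a j) = 0) ∧
      ∀ j, ω i j = algebraMap D Lb (δ j) + ∑ l, y l * algebraMap D Lb (σ l j) := by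
    intro i
    exact exists_syzygy (fun j => φD (a j)) (algebraMap Pb D (pbar i) ^ n) (ω i)
      (by rw [map_pow]; exact hω i)
  choose δ κ σ y hδ hσ hωy using hsyz
  -- the étale algebra
  letI algPΛ : Algebra Pb Λ' := ((algebraMap T' Λ').comp (algebraMap Pb T')).toAlgebra
  haveI towPΛ : IsScalarTower Pb T' Λ' := IsScalarTower.of_algebraMap_eq (fun _ => rfl)
  let θD : D →ₐ[Pb] Λ' :=
    { toRingHom := ρ.comp (algebraMap D Lb)
      commutes' := hρP }
  have hθD : ∀ x, θD x = ρ (algebraMap D Lb x) := fun x => rfl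
  let hS' : T' ⊗[Pb] D →ₐ[T'] Λ' :=
    Algebra.TensorProduct.lift (Algebra.ofId T' Λ') θD (fun _ _ => Commute.all _ _)
  have hhS' : ∀ (t : T') (x : D), hS' (t ⊗ₜ x) = algebraMap T' Λ' t * ρ (algebraMap D Lb x) :=
    fun t x => Algebra.TensorProduct.lift_tmul _ _ _ t x
  -- the smooth algebra
  let ι : Type := Σ i : Fin d, Fin (κ i)
  haveI : Algebra.Smooth (T' ⊗[Pb] D) (MvPolynomial ι (T' ⊗[Pb] D)) := {}
  haveI hsm : Algebra.Smooth T' (MvPolynomial ι (T' ⊗[Pb] D)) :=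
    Algebra.Smooth.comp T' (T' ⊗[Pb] D) (MvPolynomial ι (T' ⊗[Pb] D))
  letI algRS : Algebra (RR k d) (MvPolynomial ι (T' ⊗[Pb] D)) :=
    ((algebraMap T' (MvPolynomial ι (T' ⊗[Pb] D))).comp (algebraMap (RR k d) T')).toAlgebra
  haveI towRS : IsScalarTower (RR k d) T' (MvPolynomial ι (T' ⊗[Pb] D)) :=
    IsScalarTower.of_algebraMap_eq (fun _ => rfl)
  letI algkS : Algebra k (MvPolynomial ι (T' ⊗[Pb] D)) :=
    ((algebraMap T' (MvPolynomial ι (T' ⊗[Pb] D))).comp (algebraMap k T')).toAlgebra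
  haveI towkS : IsScalarTower k (RR k d) (MvPolynomial ι (T' ⊗[Pb] D)) := by
    apply IsScalarTower.of_algebraMap_eq
    intro c
    show algebraMap T' _ (algebraMap k T' c) = algebraMap T' _ (algebraMap (RR k d) T' _)
    rw [← IsScalarTower.algebraMap_apply k (RR k d) T']
  have halgT : ∀ t : T', algebraMap T' (MvPolynomial ι (T' ⊗[Pb] D)) t =
      C (t ⊗ₜ[Pb] (1 : D)) := fun t => rfl
  -- the map from `A`
  let φS : A →ₐ[k] MvPolynomial ι (T' ⊗[Pb] D) :=
    { toRingHom := (C : T' ⊗[Pb] D →+* MvPolynomial ι (T' ⊗[Pb] D)).comp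
        ((Algebra.TensorProduct.includeRight : D →ₐ[Pb] T' ⊗[Pb] D).toRingHom.comp φD.toRingHom)
      commutes' := by
        intro c
        show C ((1 : T') ⊗ₜ[Pb] (φD (algebraMap k A c))) = C (algebraMap k T' c ⊗ₜ[Pb] (1 : D))
        rw [φD.commutes, IsScalarTower.algebraMap_apply k Pb D,
          IsScalarTower.algebraMap_apply k Pb T', Algebra.algebraMap_eq_smul_one,
          Algebra.algebraMap_eq_smul_one (algebraMap k Pb c), TensorProduct.smul_tmul] }
  have hφS : ∀ x, φS x = C ((1 : T') ⊗ₜ[Pb] (φD x)) := fun x => rfl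
  -- the elements `Z`
  let Z : Fin d → Fin r → MvPolynomial ι (T' ⊗[Pb] D) := fun i j =>
    C ((tt i ^ n) ⊗ₜ[Pb] (δ i j)) + ∑ l : Fin (κ i), X (⟨i, l⟩ : ι) * C ((tt i ^ n) ⊗ₜ[Pb] (σ i l j))
  have hrel : ∀ i, algebraMap (RR k d) (MvPolynomial ι (T' ⊗[Pb] D)) (X i) ^ n =
      ∑ j, Z i j * φS (a j) := by
    intro i
    have h1 : algebraMap (RR k d) (MvPolynomial ι (T' ⊗[Pb] D)) (X i) ^ n =
        C ((tt i ^ n) ⊗ₜ[Pb] (algebraMap Pb D (pbar i) ^ n)) := by
      show (algebraMap T' _ (algebraMap (RR k d) T' (X i))) ^ n = _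
      rw [hX, halgT, ← map_pow, Algebra.TensorProduct.tmul_pow, one_pow, mul_pow]
      congr 1
      rw [← map_pow, ← map_pow, Algebra.algebraMap_eq_smul_one (R := Pb) (A := T'),
        smul_mul_assoc, one_mul, TensorProduct.smul_tmul, ← Algebra.algebraMap_eq_smul_one]
    have h2 : ∀ j, Z i j * φS (a j) = C ((tt i ^ n) ⊗ₜ[Pb] (δ i j * φD (a j))) +
        ∑ l : Fin (κ i), X (⟨i, l⟩ : ι) * C ((tt i ^ n) ⊗ₜ[Pb] (σ i l j * φD (a j))) := by
      intro j
      rw [hφS, add_mul, Finset.sum_mul, ← C_mul, Algebra.TensorProduct.tmul_mul_tmul, mul_one]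
      congr 1
      apply Finset.sum_congr rfl
      intro l _
      rw [mul_assoc, ← C_mul, Algebra.TensorProduct.tmul_mul_tmul, mul_one]
    rw [h1, Finset.sum_congr rfl (fun j _ => h2 j), Finset.sum_add_distrib, hδ i,
      TensorProduct.tmul_sum, map_sum, Finset.sum_comm]
    have h3 : ∀ l : Fin (κ i), ∑ j, X (⟨i, l⟩ : ι) * C ((tt i ^ n) ⊗ₜ[Pb] (σ i l j * φD (a j))) =
        (0 : MvPolynomial ι (T' ⊗[Pb] D)) := by
      intro l
      rw [← Finset.mul_sum, ← map_sum, ← TensorProduct.tmul_sum, hσ i l, TensorProduct.tmul_zero,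
        map_zero, mul_zero]
    rw [Finset.sum_congr rfl (fun l _ => h3 l), Finset.sum_const_zero, add_zero]
  obtain ⟨γ, hγA, hγz⟩ := exists_psiB' k d r a n φS Z hrel
  -- the map to `Λ'`
  let vals : ι → Λ' := fun il => ρ (y il.1 il.2)
  let h : MvPolynomial ι (T' ⊗[Pb] D) →ₐ[T'] Λ' :=
    { toRingHom := eval₂Hom (hS' : T' ⊗[Pb] D →+* Λ') vals
      commutes' := by
        intro t
        show eval₂Hom (hS' : T' ⊗[Pb] D →+* Λ') vals (C (t ⊗ₜ[Pb] (1 : D))) = _
        rw [eval₂Hom_C]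
        show hS' (t ⊗ₜ[Pb] (1 : D)) = _
        rw [hhS', map_one, map_one, mul_one] }
  have hhC : ∀ x, h (C x) = hS' x := fun x => eval₂Hom_C _ _ x
  have hhX : ∀ il, h (X il) = vals il := fun il => eval₂Hom_X' _ _ il
  refine ⟨MvPolynomial ι (T' ⊗[Pb] D), inferInstance, inferInstance, hsm, algRS, towRS, γ, h, ?_⟩
  have hext : (h.restrictScalars (RR k d)).comp γ = ψB' := by
    apply BB_algHom_ext
    · intro y'
      show h (γ (iotaA k d r a n y')) = _
      rw [hγA, hφS, hhC, hhS', map_one, one_mul, hψA]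
    · intro i j
      show h (γ (zbar k d r a n i j)) = _
      rw [hγz, hψz, hωy i j]
      show h (C ((tt i ^ n) ⊗ₜ[Pb] (δ i j)) +
        ∑ l : Fin (κ i), X (⟨i, l⟩ : ι) * C ((tt i ^ n) ⊗ₜ[Pb] (σ i l j))) = _
      rw [map_add, map_sum, hhC, hhS', map_add, mul_add, map_sum, Finset.mul_sum, map_pow]
      congr 1
      apply Finset.sum_congr rfl
      intro l _
      rw [map_mul, hhX, hhC, hhS', map_mul, map_pow]
      ring
  intro b
  exact AlgHom.congr_fun hext b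

end ALL

end Groth.Agent.Helper2.Ins
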