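import Mathlib
import Groth.Prelude

set_option autoImplicit false

namespace Groth.Agent.Helper2.Deloc

open Function MvPolynomial Algebra

universe u

section Homog

variable {R : Type u} [CommRing R] {ι : Type}

/-- the exponent of the homogenized monomial -/
noncomputable def hexp (d : ℕ) (m : ι →₀ ℕ) : Option ι →₀ ℕ :=
  m.mapDomain some + Finsupp.single none (d - m.degree)

/-- homogenization to degree `d`, the new variable being `none`. -/
noncomputable def homog (d : ℕ) (F : MvPolynomial ι R) : MvPolynomial (Option ι) R :=
  ∑ m ∈ F.support, monomial (hexp d m) (F.coeff m)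

variable {L : Type u} [CommRing L] [Algebra R L]

theorem aeval_monomial_hexp' (g : Option ι → L) (m : ι →₀ ℕ) (e : ℕ) (c : R) :
    aeval g (monomial (m.mapDomain some + Finsupp.single none e) c) =
      algebraMap R L c * (m.prod fun i k => g (some i) ^ k) * g none ^ e := by
  classical
  rw [aeval_monomial, Finsupp.prod_add_index' (by simp) (by intros; rw [pow_add]),
    Finsupp.prod_mapDomain_index_inj (Option.some_injective ι),
    Finsupp.prod_single_index (by simp), mul_assoc]

theorem prod_mul_pow (x : ι → L) (w : L) (m : ι →₀ ℕ) :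
    (m.prod fun i k => (x i * w) ^ k) = (m.prod fun i k => x i ^ k) * w ^ m.degree := by
  classical
  simp only [mul_pow]
  rw [Finsupp.prod_mul]
  congr 1
  rw [Finsupp.degree_apply, Finsupp.prod, Finset.prod_pow_eq_pow_sum]

theorem aeval_monomial_hexp (x : ι → L) (w : L) (m : ι →₀ ℕ) (e : ℕ) (c : R) :
    aeval (fun o : Option ι => Option.elim o w (fun i => x i * w))
        (monomial (m.mapDomain some + Finsupp.single none e) c) =
      w ^ (m.degree + e) * aeval x (monomial m c) := by
  rw [aeval_monomial_hexp', aeval_monomial]
  simp only [Option.elim]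
  rw [prod_mul_pow, pow_add]
  ring

theorem aeval_homog (x : ι → L) (w : L) (d : ℕ) (F : MvPolynomial ι R)
    (hd : ∀ m ∈ F.support, m.degree ≤ d) :
    aeval (fun o : Option ι => Option.elim o w (fun i => x i * w)) (homog d F) =
      w ^ d * aeval x F := by
  conv_rhs => rw [← support_sum_monomial_coeff F]
  rw [homog, map_sum, map_sum, Finset.mul_sum]
  apply Finset.sum_congr rfl
  intro m hm
  rw [hexp, aeval_monomial_hexp, Nat.add_sub_cancel' (hd m hm)]

theorem aeval_homog_scale (g : Option ι → L) (c : L) (d : ℕ) (F : MvPolynomial ι R)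
    (hd : ∀ m ∈ F.support, m.degree ≤ d) :
    aeval (fun o : Option ι => c * g o) (homog d F) = c ^ d * aeval g (homog d F) := by
  classical
  rw [homog, map_sum, map_sum, Finset.mul_sum]
  apply Finset.sum_congr rfl
  intro m hm
  rw [hexp, aeval_monomial_hexp', aeval_monomial_hexp']
  have h1 : (m.prod fun i k => (c * g (some i)) ^ k) =
      (m.prod fun i k => g (some i) ^ k) * c ^ m.degree := by
    rw [← prod_mul_pow]
    simp only [mul_comm c]
  rw [h1, mul_pow]
  have h2 : c ^ d = c ^ m.degree * c ^ (d - m.degree) := by
    rw [← pow_add, Nat.add_sub_cancel' (hd m hm)]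
  rw [h2]
  ring

theorem hexp_sub (d : ℕ) (m : ι →₀ ℕ) (i : ι) (e : ℕ) :
    m.mapDomain some + Finsupp.single none e - Finsupp.single (some i) 1 =
      (m - Finsupp.single i 1).mapDomain some + Finsupp.single none e := by
  classical
  ext o
  rcases o with _ | l
  · simp only [Finsupp.coe_tsub, Finsupp.coe_add, Pi.sub_apply, Pi.add_apply,
      Finsupp.single_eq_same]
    rw [Finsupp.mapDomain_notin_range, Finsupp.mapDomain_notin_range]
    · simp
    · simp
    · simp
  · simp only [Finsupp.coe_tsub, Finsupp.coe_add, Pi.sub_apply, Pi.add_apply]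
    rw [Finsupp.mapDomain_apply (Option.some_injective ι),
      Finsupp.mapDomain_apply (Option.some_injective ι)]
    simp only [Finsupp.coe_tsub, Pi.sub_apply]
    by_cases hli : l = i
    · subst hli
      simp
    · have : (some i : Option ι) ≠ some l := fun h => hli (Option.some_injective ι h).symm
      rw [Finsupp.single_eq_of_ne (Ne.symm this), Finsupp.single_eq_of_ne (Ne.symm (fun h => hli h.symm))]
      simp

theorem aeval_pderiv_homog (x : ι → L) (w : L) (d : ℕ) (F : MvPolynomial ι R)
    (hd : ∀ m ∈ F.support, m.degree ≤ d) (i : ι) :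
    aeval (fun o : Option ι => Option.elim o w (fun i => x i * w))
        (pderiv (some i) (homog d F)) * w =
      w ^ d * aeval x (pderiv i F) := by
  classical
  conv_rhs => rw [← support_sum_monomial_coeff F]
  rw [homog, map_sum, map_sum, map_sum, map_sum, Finset.mul_sum, Finset.sum_mul]
  apply Finset.sum_congr rfl
  intro m hm
  rw [pderiv_monomial, pderiv_monomial, hexp, hexp_sub d, aeval_monomial_hexp]
  have hmi : (m.mapDomain some + Finsupp.single none (d - m.degree) : Option ι →₀ ℕ) (some i) = m i := by
    rw [Finsupp.add_apply, Finsupp.mapDomain_apply (Option.some_injective ι)]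
    simp
  rw [hmi]
  by_cases h0 : m i = 0
  · simp [h0]
  · have hdeg : (m - Finsupp.single i 1).degree + 1 = m.degree := by
      have h1 : m = (m - Finsupp.single i 1) + Finsupp.single i 1 := by
        ext l
        by_cases hli : l = i
        · subst hli
          simp
          omega
        · simp [Finsupp.single_eq_of_ne (Ne.symm (fun h => hli h.symm))]
      conv_rhs => rw [h1]
      rw [map_add, Finsupp.degree_single]
    have h2 : w ^ ((m - Finsupp.single i 1).degree + (d - m.degree)) * w = w ^ d := by
      rw [← pow_succ]
      congr 1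
      have := hd m hm
      omega
    rw [← h2]
    ring

end Homog

end Groth.Agent.Helper2.Deloc
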