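import Mathlib
import Groth.Prelude
import Groth.Agent.Helper2.DelocD
import Groth.Agent.Helper2.DelocH

set_option autoImplicit false

namespace Groth.Agent.Helper2.Deloc

open Function MvPolynomial Algebra

universe u

section LeadH

variable {R : Type u} [CommRing R] {ι σ : Type} [Fintype σ] [DecidableEq σ] [DecidableEq ι]
  {nA : ℕ}

/-- the homogenized leading relations -/
noncomputable def leadH (d : ℕ) (F : σ → MvPolynomial ι R) (Pk : Fin nA → MvPolynomial ι R)
    (t : Fin nA → R) : σ ⊕ Fin nA → MvPolynomial (Fin nA ⊕ Option ι) R :=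
  Sum.elim (fun j => rename Sum.inr (homog d (F j)))
    (fun k => C (t k) * X (Sum.inr none) ^ d * X (Sum.inl k) - rename Sum.inr (homog d (Pk k)))

theorem jac_blockH (cols0 : σ ↪ Option ι) (d : ℕ) (F : σ → MvPolynomial ι R)
    (Pk : Fin nA → MvPolynomial ι R) (t : Fin nA → R) :
    Matrix.det (Matrix.of fun a b : σ ⊕ Fin nA =>
        pderiv (colsV (nA := nA) cols0 b) (leadH d F Pk t a)) =
      rename Sum.inr (Matrix.det (Matrix.of fun j j' : σ =>
          pderiv (cols0 j') (homog d (F j)))) *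
        ∏ k, (C (t k) * X (Sum.inr none) ^ d : MvPolynomial (Fin nA ⊕ Option ι) R) := by
  classical
  have hM : (Matrix.of fun a b : σ ⊕ Fin nA =>
        pderiv (colsV (nA := nA) cols0 b) (leadH d F Pk t a)) =
      Matrix.fromBlocks
        ((rename Sum.inr : MvPolynomial (Option ι) R →ₐ[R]
            MvPolynomial (Fin nA ⊕ Option ι) R).mapMatrix
            (Matrix.of fun j j' : σ => pderiv (cols0 j') (homog d (F j))))
        0
        (Matrix.of fun (k : Fin nA) (j' : σ) =>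
          pderiv (Sum.inr (cols0 j') : Fin nA ⊕ Option ι) (leadH d F Pk t (Sum.inr k)))
        (Matrix.diagonal fun k : Fin nA =>
          (C (t k) * X (Sum.inr none) ^ d : MvPolynomial (Fin nA ⊕ Option ι) R)) := by
    ext a b
    rcases a with j | k <;> rcases b with j' | k'
    · simp only [Matrix.of_apply, Matrix.fromBlocks_apply₁₁, colsV, leadH, Embedding.coeFn_mk,
        Sum.elim_inl, AlgHom.mapMatrix_apply, Matrix.map_apply]
      rw [pderiv_rename Sum.inr_injective]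
    · simp only [Matrix.of_apply, Matrix.fromBlocks_apply₁₂, colsV, leadH, Embedding.coeFn_mk,
        Sum.elim_inl, Sum.elim_inr, Matrix.zero_apply]
      rw [pderiv_inl_rename_inr]
    · simp only [Matrix.of_apply, Matrix.fromBlocks_apply₂₁, colsV, Embedding.coeFn_mk,
        Sum.elim_inl]
    · simp only [Matrix.of_apply, Matrix.fromBlocks_apply₂₂, colsV, leadH, Embedding.coeFn_mk,
        Sum.elim_inr]
      rw [map_sub, pderiv_inl_rename_inr, sub_zero, Derivation.leibniz, pderiv_C_mul,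
        Derivation.leibniz_pow, pderiv_X_of_ne (by simp : (Sum.inr none : Fin nA ⊕ Option ι) ≠ Sum.inl k'), pderiv_X]
      by_cases hkk : k = k'
      · subst hkk
        rw [Matrix.diagonal_apply_eq, Pi.single_eq_same]
        simp
      · rw [Matrix.diagonal_apply_ne _ hkk]
        have : (Sum.inl k : Fin nA ⊕ Option ι) ≠ Sum.inl k' := fun h => hkk (Sum.inl_injective h)
        rw [Pi.single_eq_of_ne this]
        simp
  rw [hM, Matrix.det_fromBlocks_zero₁₂, Matrix.det_diagonal, ← AlgHom.map_det]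

end LeadH

section LocM

variable {T : Type u} [CommRing T] (I₀ : Ideal T) (M : Submonoid T)

theorem exists_mul_of_isUnit_locM (x : T)
    (hx : IsUnit (algebraMap (T ⧸ I₀) (Localization (M.map (Ideal.Quotient.mk I₀)))
      (Ideal.Quotient.mk I₀ x))) :
    ∃ b : T, ∃ m ∈ M, b * x - m ∈ I₀ := by
  obtain ⟨y, hy⟩ := hx.exists_right_inv
  obtain ⟨⟨b, ⟨m, hm⟩⟩, hb⟩ := IsLocalization.surj (M.map (Ideal.Quotient.mk I₀)) y
  obtain ⟨m₁, hm₁, rfl⟩ := hm
  obtain ⟨b, rfl⟩ := Ideal.Quotient.mk_surjective b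
  have h1 : algebraMap (T ⧸ I₀) (Localization (M.map (Ideal.Quotient.mk I₀)))
      (Ideal.Quotient.mk I₀ (x * b)) =
      algebraMap (T ⧸ I₀) (Localization (M.map (Ideal.Quotient.mk I₀)))
        (Ideal.Quotient.mk I₀ m₁) := by
    rw [map_mul, map_mul, ← hb, ← mul_assoc, hy, one_mul]
  rw [IsLocalization.eq_iff_exists (M.map (Ideal.Quotient.mk I₀))] at h1
  obtain ⟨⟨c, ⟨m₂, hm₂, rfl⟩⟩, hc⟩ := h1
  refine ⟨m₂ * b, m₂ * m₁, M.mul_mem hm₂ hm₁, ?_⟩
  have hc' : Ideal.Quotient.mk I₀ m₂ * Ideal.Quotient.mk I₀ (x * b) =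
      Ideal.Quotient.mk I₀ m₂ * Ideal.Quotient.mk I₀ m₁ := hc
  rw [← map_mul, ← map_mul, Ideal.Quotient.eq] at hc'
  have : m₂ * b * x - m₂ * m₁ = m₂ * (x * b) - m₂ * m₁ := by ring
  rw [this]
  exact hc'

theorem exists_mul_of_map_eq_zero_locM (x : T)
    (hx : algebraMap (T ⧸ I₀) (Localization (M.map (Ideal.Quotient.mk I₀)))
      (Ideal.Quotient.mk I₀ x) = 0) :
    ∃ m ∈ M, m * x ∈ I₀ := by
  rw [IsLocalization.map_eq_zero_iff (M.map (Ideal.Quotient.mk I₀))] at hx
  obtain ⟨⟨c, ⟨m, hm, rfl⟩⟩, hc⟩ := hx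
  refine ⟨m, hm, ?_⟩
  have hc' : Ideal.Quotient.mk I₀ m * Ideal.Quotient.mk I₀ x = 0 := hc
  rw [← map_mul, Ideal.Quotient.eq_zero_iff_mem] at hc'
  exact hc'

end LocM

end Groth.Agent.Helper2.Deloc
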