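import Mathlib
import Groth.Prelude
import Groth.Agent.Helper2.DelocI

set_option autoImplicit false

namespace Groth.Agent.Helper2.Deloc

open Function MvPolynomial Algebra TensorProduct

universe u

set_option maxHeartbeats 1600000 in
theorem loc_coreH
    {R : Type u} [CommRing R] (S : Submonoid R) {K : Type u} [CommRing K] [Algebra R K]
    [IsLocalization S K]
    {B'' : Type u} [CommRing B''] [Algebra K B'']
    {A : Type u} [CommRing A] [Algebra R A]
    {ι σ : Type} [Fintype σ] [DecidableEq ι] [DecidableEq σ] {nA : ℕ}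
    (z : ι → B'') (f' : σ → MvPolynomial ι K) (cols0 : σ ↪ ι)
    (hker : RingHom.ker (aeval z : MvPolynomial ι K →ₐ[K] B'').toRingHom =
      Ideal.span (Set.range f'))
    (hsurj : Surjective (aeval z : MvPolynomial ι K →ₐ[K] B''))
    (hjac : IsUnit (aeval z (Matrix.det (Matrix.of fun j k : σ => pderiv (cols0 k) (f' j)))))
    (πA : MvPolynomial (Fin nA) R →ₐ[R] A)
    (g'' : K ⊗[R] A →ₐ[K] B'')
    (F : σ → MvPolynomial ι R) (v : σ → R) (hv : ∀ j, v j ∈ S)
    (hF : ∀ j, MvPolynomial.map (algebraMap R K) (F j) = C (algebraMap R K (v j)) * f' j)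
    (p : Fin nA → MvPolynomial ι K) (hp : ∀ k, aeval z (p k) = g'' ((1 : K) ⊗ₜ[R] πA (X k)))
    (Pk : Fin nA → MvPolynomial ι R) (t : Fin nA → R) (ht : ∀ k, t k ∈ S)
    (hPk : ∀ k, MvPolynomial.map (algebraMap R K) (Pk k) = C (algebraMap R K (t k)) * p k)
    (d : ℕ) (hdF : ∀ j, ∀ m ∈ (F j).support, m.degree ≤ d)
    (hdP : ∀ k, ∀ m ∈ (Pk k).support, m.degree ≤ d)
    (M : Submonoid (MvPolynomial (Fin nA ⊕ Option ι) R)) (hMC : ∀ s ∈ S, C s ∈ M)
    (hMW : X (Sum.inr none) ∈ M) :
    (∃ b : MvPolynomial (Fin nA ⊕ Option ι) R, ∃ m₀ ∈ M,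
      b * Matrix.det (Matrix.of fun a b : σ ⊕ Fin nA =>
        pderiv (colsV (nA := nA) (cols0.trans ⟨some, Option.some_injective ι⟩) b)
          (leadH d F Pk t a)) - m₀ ∈
        Ideal.span (Set.range (leadH d F Pk t))) ∧
    (∀ q : MvPolynomial (Fin nA) R, πA q = 0 → ∃ m ∈ M,
      m * rename Sum.inl q ∈ Ideal.span (Set.range (leadH d F Pk t))) := by
  classical
  set ld := leadH d F Pk t with hld
  set I₀ : Ideal (MvPolynomial (Fin nA ⊕ Option ι) R) := Ideal.span (Set.range ld) with hI₀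
  let B₀ := MvPolynomial (Fin nA ⊕ Option ι) R ⧸ I₀
  let L := Localization (M.map (Ideal.Quotient.mk I₀))
  let mk₀ : MvPolynomial (Fin nA ⊕ Option ι) R →ₐ[R] L :=
    (IsScalarTower.toAlgHom R B₀ L).comp (Ideal.Quotient.mkₐ R I₀)
  have hmk₀ : ∀ x, mk₀ x = algebraMap B₀ L (Ideal.Quotient.mk I₀ x) := fun x => rfl
  have hunitM : ∀ m ∈ M, IsUnit (mk₀ m) := by
    intro m hm
    rw [hmk₀]
    exact IsLocalization.map_units L
      (⟨Ideal.Quotient.mk I₀ m, ⟨m, hm, rfl⟩⟩ : M.map (Ideal.Quotient.mk I₀))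
  have hmkC : ∀ r : R, mk₀ (C r) = algebraMap R L r := by
    intro r
    rw [← MvPolynomial.algebraMap_eq, AlgHom.commutes]
  have hunit : ∀ y : S, IsUnit (algebraMap R L y) := by
    intro y
    rw [← hmkC]
    exact hunitM _ (hMC y y.2)
  let ρ : K →+* L := IsLocalization.lift (M := S) (S := K) (P := L) (g := algebraMap R L) hunit
  have hρ : ∀ r : R, ρ (algebraMap R K r) = algebraMap R L r := fun r => IsLocalization.lift_eq _ _
  have hmk_lead : ∀ a, mk₀ (ld a) = 0 := by
    intro a
    rw [hmk₀]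
    have hmem : ld a ∈ I₀ := Ideal.subset_span (Set.mem_range_self a)
    rw [Ideal.Quotient.eq_zero_iff_mem.mpr hmem, map_zero]
  set Wb : L := mk₀ (X (Sum.inr none)) with hWb
  have hWunit : IsUnit Wb := hunitM _ hMW
  obtain ⟨wi, hwi⟩ := hWunit.exists_right_inv
  have hwiunit : IsUnit wi := IsUnit.of_mul_eq_one Wb (by rw [mul_comm]; exact hwi)
  let xt : ι → L := fun i => mk₀ (X (Sum.inr (some i))) * wi
  let gfun : Option ι → L := fun o => mk₀ (X (Sum.inr o))
  have hg : gfun = fun o : Option ι => Option.elim o Wb (fun i => xt i * Wb) := by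
    funext o
    rcases o with _ | i
    · rfl
    · show mk₀ (X (Sum.inr (some i))) = mk₀ (X (Sum.inr (some i))) * wi * Wb
      rw [mul_assoc, mul_comm wi, hwi, mul_one]
  have hmk_rename : ∀ Q : MvPolynomial (Option ι) R, mk₀ (rename Sum.inr Q) = aeval gfun Q := by
    intro Q
    have : mk₀.comp (rename Sum.inr : MvPolynomial (Option ι) R →ₐ[R] _) = aeval gfun := by
      apply MvPolynomial.algHom_ext
      intro o
      simp [gfun]
    exact congrArg (fun k : MvPolynomial (Option ι) R →ₐ[R] L => k Q) this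
  let Φ : MvPolynomial ι K →+* L := eval₂Hom ρ xt
  have hΦC : ∀ c : K, Φ (C c) = ρ c := fun c => eval₂_C _ _ _
  have E2 : ∀ Q : MvPolynomial ι R, Φ (MvPolynomial.map (algebraMap R K) Q) = aeval xt Q := by
    intro Q
    have : Φ.comp (MvPolynomial.map (algebraMap R K)) =
        (aeval xt : MvPolynomial ι R →ₐ[R] L).toRingHom := by
      apply MvPolynomial.ringHom_ext
      · intro r
        show Φ (MvPolynomial.map (algebraMap R K) (C r)) = aeval xt (C r)
        rw [map_C, hΦC, hρ, aeval_C]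
      · intro i
        show Φ (MvPolynomial.map (algebraMap R K) (X i)) = aeval xt (X i)
        rw [map_X, aeval_X]
        exact eval₂_X _ _ _
    exact congrArg (fun k : MvPolynomial ι R →+* L => k Q) this
  have EH : ∀ Q : MvPolynomial ι R, (∀ m ∈ Q.support, m.degree ≤ d) →
      mk₀ (rename Sum.inr (homog d Q)) = Wb ^ d * Φ (MvPolynomial.map (algebraMap R K) Q) := by
    intro Q hQ
    rw [hmk_rename, hg, aeval_homog xt Wb d Q hQ, E2]
  have hΦf : ∀ j, Φ (f' j) = 0 := by
    intro j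
    have h1 : Φ (MvPolynomial.map (algebraMap R K) (F j)) =
        ρ (algebraMap R K (v j)) * Φ (f' j) := by
      rw [hF, map_mul, hΦC]
    have h2 : Wb ^ d * Φ (MvPolynomial.map (algebraMap R K) (F j)) = 0 := by
      rw [← EH _ (hdF j)]
      exact hmk_lead (Sum.inl j)
    have h3 := (hWunit.pow d).mul_right_eq_zero.mp h2
    rw [h3, hρ] at h1
    exact (hunit (⟨v j, hv j⟩ : S)).mul_right_eq_zero.mp h1.symm
  have hle : RingHom.ker (aeval z : MvPolynomial ι K →ₐ[K] B'').toRingHom ≤ RingHom.ker Φ := by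
    rw [hker, Ideal.span_le]
    rintro _ ⟨j, rfl⟩
    exact hΦf j
  let ω : B'' →+* L :=
    (aeval z : MvPolynomial ι K →ₐ[K] B'').toRingHom.liftOfSurjective hsurj ⟨Φ, hle⟩
  have hω : ∀ q : MvPolynomial ι K, ω (aeval z q) = Φ q := fun q =>
    RingHom.liftOfSurjective_comp_apply _ hsurj ⟨Φ, hle⟩ q
  -- E3
  have E3 : ∀ k : Fin nA, mk₀ (X (Sum.inl k)) = ω (g'' ((1 : K) ⊗ₜ[R] πA (X k))) := by
    intro k
    have h1 : mk₀ (C (t k)) * Wb ^ d * mk₀ (X (Sum.inl k)) -
        mk₀ (rename Sum.inr (homog d (Pk k))) = 0 := by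
      rw [hWb, ← map_pow, ← map_mul, ← map_mul, ← map_sub]
      exact hmk_lead (Sum.inr k)
    rw [sub_eq_zero, EH _ (hdP k), hPk, map_mul, hΦC, hρ, ← hω, hp, hmkC] at h1
    have h2 : (algebraMap R L (t k) * Wb ^ d) * mk₀ (X (Sum.inl k)) =
        (algebraMap R L (t k) * Wb ^ d) * ω (g'' ((1 : K) ⊗ₜ[R] πA (X k))) := by
      rw [h1]
      ring
    exact ((hunit (⟨t k, ht k⟩ : S)).mul (hWunit.pow d)).mul_left_cancel h2
  have E4 : ∀ q : MvPolynomial (Fin nA) R,
      mk₀ (rename Sum.inl q) = ω (g'' ((1 : K) ⊗ₜ[R] πA q)) := by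
    intro q
    let Ψ : MvPolynomial (Fin nA) R →+* L :=
      (ω.comp g''.toRingHom).comp
        ((Algebra.TensorProduct.includeRight : A →ₐ[R] K ⊗[R] A).toRingHom.comp πA.toRingHom)
    have : mk₀.toRingHom.comp (rename Sum.inl :
        MvPolynomial (Fin nA) R →ₐ[R] MvPolynomial (Fin nA ⊕ Option ι) R).toRingHom = Ψ := by
      apply MvPolynomial.ringHom_ext
      · intro r
        show mk₀ (rename Sum.inl (C r)) = ω (g'' ((1 : K) ⊗ₜ[R] πA (C r)))
        rw [rename_C, hmkC, ← MvPolynomial.algebraMap_eq, AlgHom.commutes]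
        have h1 : (1 : K) ⊗ₜ[R] (algebraMap R A r) =
            algebraMap K (K ⊗[R] A) (algebraMap R K r) := by
          rw [Algebra.TensorProduct.algebraMap_apply, Algebra.algebraMap_eq_smul_one r,
            Algebra.algebraMap_eq_smul_one (A := K) r, Algebra.algebraMap_self, RingHom.id_apply,
            TensorProduct.smul_tmul]
        rw [h1, AlgHom.commutes]
        have h2 : algebraMap K B'' (algebraMap R K r) = aeval z (C (algebraMap R K r)) := by
          rw [aeval_C]
        rw [h2, hω, hΦC, hρ]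
      · intro k
        show mk₀ (rename Sum.inl (X k)) = ω (g'' ((1 : K) ⊗ₜ[R] πA (X k)))
        rw [rename_X, E3]
    exact congrArg (fun k : MvPolynomial (Fin nA) R →+* L => k q) this
  constructor
  · -- the Jacobian is a unit in L
    have hentry : ∀ j j' : σ,
        mk₀ (rename Sum.inr (pderiv (some (cols0 j')) (homog d (F j)))) =
          (wi * Wb ^ d * ρ (algebraMap R K (v j))) * Φ (pderiv (cols0 j') (f' j)) := by
      intro j j'
      have h1 := aeval_pderiv_homog xt Wb d (F j) (hdF j) (cols0 j')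
      rw [← hg, ← hmk_rename, ← E2, ← pderiv_map, hF, pderiv_C_mul, map_mul, hΦC] at h1
      calc mk₀ (rename Sum.inr (pderiv (some (cols0 j')) (homog d (F j))))
          = mk₀ (rename Sum.inr (pderiv (some (cols0 j')) (homog d (F j)))) * Wb * wi := by
            rw [mul_assoc, hwi, mul_one]
        _ = _ := by rw [h1]; ring
    have hD : IsUnit (mk₀ (Matrix.det (Matrix.of fun a b : σ ⊕ Fin nA =>
        pderiv (colsV (nA := nA) (cols0.trans ⟨some, Option.some_injective ι⟩) b) (ld a)))) := by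
      rw [jac_blockH, map_mul, map_prod]
      refine IsUnit.mul ?_ ?_
      · rw [AlgHom.map_det, AlgHom.map_det]
        have hmat : mk₀.mapMatrix ((rename Sum.inr : MvPolynomial (Option ι) R →ₐ[R]
            MvPolynomial (Fin nA ⊕ Option ι) R).mapMatrix
            (Matrix.of fun j j' : σ => pderiv
              ((cols0.trans ⟨some, Option.some_injective ι⟩) j') (homog d (F j)))) =
            Matrix.of fun j j' : σ => (wi * Wb ^ d * ρ (algebraMap R K (v j))) *
              (Φ.mapMatrix (Matrix.of fun j k : σ => pderiv (cols0 k) (f' j))) j j' := by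
          ext j j'
          simp only [AlgHom.mapMatrix_apply, RingHom.mapMatrix_apply, Matrix.map_apply,
            Matrix.of_apply, Embedding.trans_apply, Embedding.coeFn_mk]
          exact hentry j j'
        rw [hmat, Matrix.det_mul_column, ← RingHom.map_det, ← hω]
        refine IsUnit.mul ?_ (hjac.map ω)
        rw [IsUnit.prod_univ_iff]
        intro j
        rw [hρ]
        exact (hwiunit.mul (hWunit.pow d)).mul (hunit (⟨v j, hv j⟩ : S))
      · rw [IsUnit.prod_univ_iff]
        intro k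
        rw [map_mul, map_pow, hmkC]
        exact (hunit (⟨t k, ht k⟩ : S)).mul (hWunit.pow d)
    obtain ⟨b, m₀, hm₀, hb⟩ := exists_mul_of_isUnit_locM I₀ M _ hD
    exact ⟨b, m₀, hm₀, hb⟩
  · intro q hq
    have h1 : mk₀ (rename Sum.inl q) = 0 := by
      rw [E4, hq, TensorProduct.tmul_zero, map_zero, map_zero]
    exact exists_mul_of_map_eq_zero_locM I₀ M _ h1

end Groth.Agent.Helper2.Deloc
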