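import Mathlib
import Groth.Prelude
import Groth.Agent.Helper2.SmLiftI
import Groth.Agent.Helper2.DelocB
import Groth.Agent.Helper2.DelocC
import Groth.Agent.Helper2.DelocJ

set_option autoImplicit false

namespace Groth.Agent.Helper2.Deloc

open Function MvPolynomial Algebra TensorProduct

universe u

/-- the data produced by the delocalization construction. -/
structure CoreData {R : Type u} [CommRing R] {A Λ : Type u} [CommRing A] [Algebra R A]
    [CommRing Λ] [Algebra R Λ] (φ : A →ₐ[R] Λ) (𝔮 : Ideal Λ) {nA mA : ℕ}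
    (πA : MvPolynomial (Fin nA) R →ₐ[R] A) (G : Fin mA → MvPolynomial (Fin nA) R) where
  (V : Type)
  (γ : Type)
  [fV : Fintype V]
  [dV : DecidableEq V]
  [fγ : Fintype γ]
  [dγ : DecidableEq γ]
  ld : γ → MvPolynomial (Fin nA ⊕ V) R
  cols : γ ↪ Fin nA ⊕ V
  ev : MvPolynomial (Fin nA ⊕ V) R →ₐ[R] Λ
  b : MvPolynomial (Fin nA ⊕ V) R
  e₀ : MvPolynomial (Fin nA ⊕ V) R
  hev : ∀ q : MvPolynomial (Fin nA) R, ev (rename Sum.inl q) = φ (πA q)
  hld : ∀ a, ev (ld a) = 0
  hb : b * Matrix.det (Matrix.of fun a c : γ => pderiv (cols c) (ld a)) - e₀ ∈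
    Ideal.span (Set.range ld)
  htail : ∀ t' : Fin mA, e₀ * rename Sum.inl (G t') ∈ Ideal.span (Set.range ld)
  he₀ : ev e₀ ∉ 𝔮

set_option maxHeartbeats 3200000 in
theorem coreH_data
    {R : Type u} [CommRing R] {A Λ : Type u} [CommRing A] [Algebra R A] [CommRing Λ] [Algebra R Λ]
    (φ : A →ₐ[R] Λ) (𝔮 : Ideal Λ) [𝔮.IsPrime]
    {K : Type u} [CommRing K] [Algebra R K]
    [IsLocalization.AtPrime K (𝔮.comap (algebraMap R Λ))]
    {Λq : Type u} [CommRing Λq] [Algebra Λ Λq] [IsLocalization.AtPrime Λq 𝔮] [Algebra R Λq]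
    [IsScalarTower R Λ Λq] [Algebra K Λq] [IsScalarTower R K Λq]
    {B'' : Type u} [CommRing B''] [Algebra K B'']
    {ι σ : Type} [Fintype ι] [Fintype σ] [DecidableEq ι] [DecidableEq σ] {nA mA : ℕ}
    (z : ι → B'') (f' : σ → MvPolynomial ι K) (cols0 : σ ↪ ι)
    (hker : RingHom.ker (aeval z : MvPolynomial ι K →ₐ[K] B'').toRingHom =
      Ideal.span (Set.range f'))
    (hsurj : Surjective (aeval z : MvPolynomial ι K →ₐ[K] B''))
    (hjac : IsUnit (aeval z (Matrix.det (Matrix.of fun j k : σ => pderiv (cols0 k) (f' j)))))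
    (πA : MvPolynomial (Fin nA) R →ₐ[R] A) (hπA : Surjective πA)
    (G : Fin mA → MvPolynomial (Fin nA) R)
    (hG : RingHom.ker πA.toRingHom = Ideal.span (Set.range G))
    (g'' : K ⊗[R] A →ₐ[K] B'') (h'' : B'' →ₐ[K] Λq)
    (hgh : ∀ a : A, h'' (g'' ((1 : K) ⊗ₜ[R] a)) = algebraMap Λ Λq (φ a))
    (ν : Λ) (hν : ν ∉ 𝔮) (lam : ι → Λ)
    (hlam : ∀ i, h'' (z i) * algebraMap Λ Λq ν = algebraMap Λ Λq (lam i)) :
    Nonempty (CoreData φ 𝔮 πA G) := by
  classical
  set S : Submonoid R := (𝔮.comap (algebraMap R Λ)).primeCompl with hS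
  choose F v hv hF using fun j => exists_clear S (K := K) (f' j)
  choose p hp using fun k : Fin nA => hsurj (g'' ((1 : K) ⊗ₜ[R] πA (X k)))
  choose Pk t ht hPk using fun k => exists_clear S (K := K) (p k)
  set d : ℕ := 1 + ((∑ j, (F j).totalDegree) + ∑ k, (Pk k).totalDegree) with hd
  have hdF : ∀ j, ∀ m ∈ (F j).support, m.degree ≤ d := by
    intro j m hm
    have h1 : m.degree ≤ (F j).totalDegree := le_totalDegree hm
    have h2 : (F j).totalDegree ≤ ∑ j, (F j).totalDegree :=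
      Finset.single_le_sum (f := fun j => (F j).totalDegree) (fun _ _ => Nat.zero_le _)
        (Finset.mem_univ j)
    omega
  have hdP : ∀ k, ∀ m ∈ (Pk k).support, m.degree ≤ d := by
    intro k m hm
    have h1 : m.degree ≤ (Pk k).totalDegree := le_totalDegree hm
    have h2 : (Pk k).totalDegree ≤ ∑ k, (Pk k).totalDegree :=
      Finset.single_le_sum (f := fun k => (Pk k).totalDegree) (fun _ _ => Nat.zero_le _)
        (Finset.mem_univ k)
    omega
  obtain ⟨d', hd'⟩ : ∃ d', d = d' + 1 := ⟨_, by rw [hd, add_comm]⟩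
  have hpow : ∀ y : Λ, y ^ d = y ^ d' * y := fun y => by rw [hd', pow_succ]
  -- computations in Λq
  set w : Λq := algebraMap Λ Λq ν with hw
  let x : ι → Λq := fun i => h'' (z i)
  have E1 : ∀ Q : MvPolynomial ι R, aeval x Q =
      h'' (aeval z (MvPolynomial.map (algebraMap R K) Q)) := by
    intro Q
    have : (aeval x : MvPolynomial ι R →ₐ[R] Λq).toRingHom =
        h''.toRingHom.comp ((aeval z : MvPolynomial ι K →ₐ[K] B'').toRingHom.comp
          (MvPolynomial.map (algebraMap R K))) := by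
      apply MvPolynomial.ringHom_ext
      · intro r
        show aeval x (C r) = h'' (aeval z (MvPolynomial.map (algebraMap R K) (C r)))
        rw [map_C, aeval_C, aeval_C, AlgHom.commutes, ← IsScalarTower.algebraMap_apply]
      · intro i
        show aeval x (X i) = h'' (aeval z (MvPolynomial.map (algebraMap R K) (X i)))
        rw [map_X, aeval_X, aeval_X]
    exact congrArg (fun k : MvPolynomial ι R →+* Λq => k Q) this
  let g0 : Option ι → Λ := fun o => Option.elim o ν lam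
  have hg0 : (fun o => algebraMap Λ Λq (g0 o)) =
      fun o : Option ι => Option.elim o w (fun i => x i * w) := by
    funext o
    rcases o with _ | i
    · rfl
    · exact (hlam i).symm
  have EΛ : ∀ Q : MvPolynomial ι R, (∀ m ∈ Q.support, m.degree ≤ d) →
      algebraMap Λ Λq (aeval g0 (homog d Q)) =
        w ^ d * h'' (aeval z (MvPolynomial.map (algebraMap R K) Q)) := by
    intro Q hQ
    have h1 : algebraMap Λ Λq (aeval g0 (homog d Q)) =
        aeval (fun o => algebraMap Λ Λq (g0 o)) (homog d Q) := by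
      have := MvPolynomial.comp_aeval (R := R) g0 (IsScalarTower.toAlgHom R Λ Λq)
      exact congrArg (fun k : MvPolynomial (Option ι) R →ₐ[R] Λq => k (homog d Q)) this
    rw [h1, hg0, aeval_homog x w d Q hQ, E1]
  have hzf : ∀ j, aeval z (f' j) = 0 := by
    intro j
    have : f' j ∈ RingHom.ker (aeval z : MvPolynomial ι K →ₐ[K] B'').toRingHom := by
      rw [hker]
      exact Ideal.subset_span (Set.mem_range_self j)
    exact this
  let μ : Fin nA → Λ := fun k => φ (πA (X k))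
  have h5 : ∀ j, ∃ c ∈ 𝔮.primeCompl, c * aeval g0 (homog d (F j)) = 0 := by
    intro j
    have h1 : algebraMap Λ Λq (aeval g0 (homog d (F j))) = 0 := by
      rw [EΛ _ (hdF j), hF, map_mul, hzf, mul_zero, map_zero, mul_zero]
    rw [IsLocalization.map_eq_zero_iff 𝔮.primeCompl] at h1
    obtain ⟨c, hc⟩ := h1
    exact ⟨c, c.2, hc⟩
  choose c1 hc1 hc1' using h5
  have h6 : ∀ k, ∃ c ∈ 𝔮.primeCompl,
      c * (algebraMap R Λ (t k) * ν ^ d * μ k - aeval g0 (homog d (Pk k))) = 0 := by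
    intro k
    have h1 : algebraMap Λ Λq
        (algebraMap R Λ (t k) * ν ^ d * μ k - aeval g0 (homog d (Pk k))) = 0 := by
      have hh : h'' (aeval z (MvPolynomial.map (algebraMap R K) (Pk k))) =
          algebraMap R Λq (t k) * algebraMap Λ Λq (μ k) := by
        rw [hPk, map_mul, aeval_C, hp, map_mul, AlgHom.commutes, hgh,
          ← IsScalarTower.algebraMap_apply]
      rw [map_sub, EΛ _ (hdP k), hh, map_mul, map_mul, map_pow,
        ← IsScalarTower.algebraMap_apply]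
      ring
    rw [IsLocalization.map_eq_zero_iff 𝔮.primeCompl] at h1
    obtain ⟨c, hc⟩ := h1
    exact ⟨c, c.2, hc⟩
  choose c2 hc2 hc2' using h6
  set lam0 : Λ := (∏ j, c1 j) * ∏ k, c2 k with hlam0
  have hlam0q : lam0 ∈ 𝔮.primeCompl :=
    Submonoid.mul_mem _ (Submonoid.prod_mem _ fun j _ => hc1 j)
      (Submonoid.prod_mem _ fun k _ => hc2 k)
  have hk1 : ∀ j, lam0 * aeval g0 (homog d (F j)) = 0 := by
    intro j
    obtain ⟨e, he⟩ : c1 j ∣ lam0 :=
      Dvd.dvd.mul_right (Finset.dvd_prod_of_mem _ (Finset.mem_univ j)) _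
    rw [he, mul_comm (c1 j), mul_assoc, hc1', mul_zero]
  have hk2 : ∀ k, lam0 * (algebraMap R Λ (t k) * ν ^ d * μ k - aeval g0 (homog d (Pk k))) = 0 := by
    intro k
    obtain ⟨e, he⟩ : c2 k ∣ lam0 :=
      Dvd.dvd.mul_left (Finset.dvd_prod_of_mem _ (Finset.mem_univ k)) _
    rw [he, mul_comm (c2 k), mul_assoc, hc2', mul_zero]
  -- the evaluation
  let g1 : Option ι → Λ := fun o => lam0 * g0 o
  let ev : MvPolynomial (Fin nA ⊕ Option ι) R →ₐ[R] Λ := aeval (Sum.elim μ g1)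
  have hevμ : ∀ q : MvPolynomial (Fin nA) R, ev (rename Sum.inl q) = φ (πA q) := by
    intro q
    have : (ev.comp (rename Sum.inl : MvPolynomial (Fin nA) R →ₐ[R] _)) = φ.comp πA := by
      apply MvPolynomial.algHom_ext
      intro k
      simp [ev, μ]
    exact congrArg (fun f : MvPolynomial (Fin nA) R →ₐ[R] Λ => f q) this
  have hevh : ∀ Q : MvPolynomial ι R, (∀ m ∈ Q.support, m.degree ≤ d) →
      ev (rename Sum.inr (homog d Q)) = lam0 ^ d * aeval g0 (homog d Q) := by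
    intro Q hQ
    show aeval (Sum.elim μ g1) (rename Sum.inr (homog d Q)) = _
    rw [aeval_rename, Sum.elim_comp_inr]
    exact aeval_homog_scale g0 lam0 d Q hQ
  let M : Submonoid (MvPolynomial (Fin nA ⊕ Option ι) R) := 𝔮.primeCompl.comap ev
  have hM : ∀ m, m ∈ M ↔ ev m ∉ 𝔮 := fun m => Iff.rfl
  have hMC : ∀ s ∈ S, C s ∈ M := by
    intro s hs
    rw [hM, ← MvPolynomial.algebraMap_eq, AlgHom.commutes]
    exact hs
  have hMW : X (Sum.inr none) ∈ M := by
    rw [hM]
    show aeval (Sum.elim μ g1) (X (Sum.inr none)) ∉ 𝔮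
    rw [aeval_X]
    show lam0 * ν ∉ 𝔮
    exact (𝔮.primeCompl.mul_mem hlam0q hν)
  obtain ⟨⟨b, m₀, hm₀, hb⟩, htail⟩ := loc_coreH S z f' cols0 hker hsurj hjac πA g'' F v hv hF p hp
    Pk t ht hPk d hdF hdP M hMC hMW
  have hπG : ∀ t' : Fin mA, πA (G t') = 0 := by
    intro t'
    have : G t' ∈ RingHom.ker πA.toRingHom := by
      rw [hG]
      exact Ideal.subset_span (Set.mem_range_self t')
    exact this
  choose st hst hst' using fun t' : Fin mA => htail (G t') (hπG t')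
  set ld := leadH d F Pk t with hld
  set P : MvPolynomial (Fin nA ⊕ Option ι) R := ∏ t' : Fin mA, st t' with hP
  have hPM : P ∈ M := Submonoid.prod_mem M (fun t' _ => hst t')
  have hevld : ∀ a, ev (ld a) = 0 := by
    rintro (j | k)
    · show ev (rename Sum.inr (homog d (F j))) = 0
      rw [hevh _ (hdF j), hpow, mul_assoc, hk1, mul_zero]
    · show ev (C (t k) * X (Sum.inr none) ^ d * X (Sum.inl k) -
          rename Sum.inr (homog d (Pk k))) = 0
      rw [map_sub, hevh _ (hdP k), map_mul, map_mul, map_pow, ← MvPolynomial.algebraMap_eq,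
        AlgHom.commutes]
      have e1 : ev (X (Sum.inl k)) = μ k := by simp [ev]
      have e2 : ev (X (Sum.inr none)) = lam0 * ν := by simp [ev, g1, g0]
      rw [e1, e2, mul_pow]
      have : algebraMap R Λ (t k) * (lam0 ^ d * ν ^ d) * μ k -
          lam0 ^ d * aeval g0 (homog d (Pk k)) =
          lam0 ^ d' * (lam0 * (algebraMap R Λ (t k) * ν ^ d * μ k -
            aeval g0 (homog d (Pk k)))) := by
        rw [hpow lam0]
        ring
      rw [this, hk2, mul_zero]
  refine ⟨{ V := Option ι, γ := σ ⊕ Fin nA, ld := ld,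
            cols := colsV (nA := nA) (cols0.trans ⟨some, Option.some_injective ι⟩),
            ev := ev, b := b * P, e₀ := m₀ * P, hev := hevμ, hld := hevld,
            hb := ?_, htail := ?_, he₀ := ?_ }⟩
  · have : ∀ D : MvPolynomial (Fin nA ⊕ Option ι) R,
        b * P * D - m₀ * P = P * (b * D - m₀) := fun D => by ring
    rw [this]
    exact Ideal.mul_mem_left _ _ hb
  · intro t'
    obtain ⟨c, hc⟩ : st t' ∣ P := Finset.dvd_prod_of_mem _ (Finset.mem_univ t')
    have : (m₀ * P) * rename Sum.inl (G t') = (m₀ * c) * (st t' * rename Sum.inl (G t')) := by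
      rw [hc]
      ring
    rw [this]
    exact Ideal.mul_mem_left _ _ (hst' t')
  · exact (hM _).mp (M.mul_mem hm₀ hPM)

set_option maxHeartbeats 1600000 in
/-- the smooth case, data version -/
theorem mainH_smooth_data {R A Λ Rₚ Λq B' : Type u} [CommRing R] [CommRing A]
    [Algebra R A] [CommRing Λ] [Algebra R Λ] (φ : A →ₐ[R] Λ)
    (𝔮 : Ideal Λ) [𝔮.IsPrime]
    [CommRing Rₚ] [Algebra R Rₚ] [IsLocalization.AtPrime Rₚ (𝔮.comap (algebraMap R Λ))]
    [CommRing Λq] [Algebra Λ Λq] [IsLocalization.AtPrime Λq 𝔮] [Algebra R Λq] [IsScalarTower R Λ Λq]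
    [Algebra Rₚ Λq] [IsScalarTower R Rₚ Λq]
    [CommRing B'] [Algebra Rₚ B'] [Algebra.Smooth Rₚ B']
    (g : Rₚ ⊗[R] A →ₐ[Rₚ] B') (h : B' →ₐ[Rₚ] Λq)
    (hgh : ∀ a : A, h (g ((1 : Rₚ) ⊗ₜ[R] a)) = algebraMap Λ Λq (φ a))
    {nA mA : ℕ} (πA : MvPolynomial (Fin nA) R →ₐ[R] A) (hπA : Surjective πA)
    (G : Fin mA → MvPolynomial (Fin nA) R)
    (hG : RingHom.ker πA.toRingHom = Ideal.span (Set.range G)) :
    Nonempty (CoreData φ 𝔮 πA G) := by
  classical
  obtain ⟨B'', _, _, _, _, -, ⟨r⟩, hstd⟩ :=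
    SmLift.exists_smooth_retract_isStandardSmooth Rₚ B'
  let g'' : Rₚ ⊗[R] A →ₐ[Rₚ] B'' := (IsScalarTower.toAlgHom Rₚ B' B'').comp g
  let h'' : B'' →ₐ[Rₚ] Λq := h.comp (r.restrictScalars Rₚ)
  have hgh'' : ∀ a : A, h'' (g'' ((1 : Rₚ) ⊗ₜ[R] a)) = algebraMap Λ Λq (φ a) := by
    intro a
    rw [← hgh]
    show h (r (algebraMap B' B'' (g _))) = h (g _)
    rw [AlgHom.commutes]
    rfl
  obtain ⟨ι, σ, _, _, ⟨P⟩⟩ := hstd.out
  haveI : Fintype ι := Fintype.ofFinite ι
  haveI : Fintype σ := Fintype.ofFinite σ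
  obtain ⟨f', hker, hsurj, hjac⟩ := scaled_data P (1 : Rₚ) isUnit_one
  set z : ι → B'' := fun i => algebraMap Rₚ B'' 1 * P.val i with hz
  clear_value z
  -- denominators
  have hsurjq : ∀ i, ∃ (l : Λ) (s : Λ), s ∈ 𝔮.primeCompl ∧
      h'' (z i) * algebraMap Λ Λq s = algebraMap Λ Λq l := by
    intro i
    obtain ⟨⟨l, s⟩, hls⟩ := IsLocalization.surj 𝔮.primeCompl (h'' (z i))
    exact ⟨l, s, s.2, hls⟩
  choose l s hs hls using hsurjq
  let ν : Λ := ∏ i, s i
  have hν : ν ∈ 𝔮.primeCompl := Submonoid.prod_mem _ (fun i _ => hs i)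
  let lam : ι → Λ := fun i => (∏ i' ∈ Finset.univ.erase i, s i') * l i
  have hlam : ∀ i, h'' (z i) * algebraMap Λ Λq ν = algebraMap Λ Λq (lam i) := by
    intro i
    have hu : ν = (∏ i' ∈ Finset.univ.erase i, s i') * s i :=
      (Finset.prod_erase_mul _ _ (Finset.mem_univ i)).symm
    show h'' (z i) * algebraMap Λ Λq ν =
      algebraMap Λ Λq ((∏ i' ∈ Finset.univ.erase i, s i') * l i)
    rw [hu, map_mul (algebraMap Λ Λq), map_mul (algebraMap Λ Λq), ← hls]
    ring
  exact coreH_data φ 𝔮 z f' ⟨P.map, P.map_inj⟩ hker hsurj hjac πA hπA G hG g'' h'' hgh''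
    ν hν lam hlam

set_option maxHeartbeats 1600000 in
theorem mainH_data {R A Λ Rₚ Λq : Type u} [CommRing R] [CommRing A]
    [Algebra R A] [CommRing Λ] [Algebra R Λ] (φ : A →ₐ[R] Λ)
    (𝔮 : Ideal Λ) [𝔮.IsPrime]
    [CommRing Rₚ] [Algebra R Rₚ] [IsLocalization.AtPrime Rₚ (𝔮.comap (algebraMap R Λ))]
    [CommRing Λq] [Algebra Λ Λq] [IsLocalization.AtPrime Λq 𝔮] [Algebra R Λq] [IsScalarTower R Λ Λq]
    [Algebra Rₚ Λq] [IsScalarTower R Rₚ Λq]
    (hres : Smoothing.Resolvable Rₚ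
      (Algebra.TensorProduct.lift (Algebra.ofId Rₚ Λq) ((IsScalarTower.toAlgHom R Λ Λq).comp φ)
        (fun _ _ => Commute.all _ _) : Rₚ ⊗[R] A →ₐ[Rₚ] Λq) (𝔮.map (algebraMap Λ Λq)))
    {nA mA : ℕ} (πA : MvPolynomial (Fin nA) R →ₐ[R] A) (hπA : Surjective πA)
    (G : Fin mA → MvPolynomial (Fin nA) R)
    (hG : RingHom.ker πA.toRingHom = Ideal.span (Set.range G)) :
    Nonempty (CoreData φ 𝔮 πA G) := by
  classical
  obtain ⟨B', _, _, hfp, g, h, hgh, -, hnot⟩ := hres
  haveI : IsLocalRing Λq := IsLocalization.AtPrime.isLocalRing Λq 𝔮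
  have hmax : 𝔮.map (algebraMap Λ Λq) = IsLocalRing.maximalIdeal Λq :=
    IsLocalization.AtPrime.map_eq_maximalIdeal 𝔮 Λq
  rw [hmax] at hnot
  obtain ⟨b', hb', hb'u⟩ : ∃ b' ∈ Smoothing.singularIdeal Rₚ B', IsUnit (h b') := by
    by_contra hcon
    push_neg at hcon
    apply hnot
    unfold Smoothing.singRad
    rw [Ideal.IsPrime.radical_le_iff (IsLocalRing.maximalIdeal.isMaximal Λq).isPrime,
      Ideal.map_le_iff_le_comap]
    intro b hb
    rw [Ideal.mem_comap]
    exact (IsLocalRing.mem_maximalIdeal _).mpr (hcon b hb)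
  haveI : Algebra.Smooth Rₚ (Localization.Away b') := by
    rw [← Algebra.basicOpen_subset_smoothLocus_iff_smooth]
    intro x hx
    by_contra hxs
    have h1 : b' ∈ x.asIdeal := by
      unfold Smoothing.singularIdeal at hb'
      rw [PrimeSpectrum.mem_vanishingIdeal] at hb'
      exact hb' x hxs
    exact hx h1
  let h₁ : Localization.Away b' →ₐ[Rₚ] Λq :=
    IsLocalization.liftAlgHom (M := Submonoid.powers b') (f := h) (by
      rintro ⟨y, n, rfl⟩
      show IsUnit (h (b' ^ n))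
      rw [map_pow]
      exact hb'u.pow n)
  let g₁ : Rₚ ⊗[R] A →ₐ[Rₚ] Localization.Away b' :=
    (IsScalarTower.toAlgHom Rₚ B' (Localization.Away b')).comp g
  have hgh₁ : ∀ a : A, h₁ (g₁ ((1 : Rₚ) ⊗ₜ[R] a)) = algebraMap Λ Λq (φ a) := by
    intro a
    show IsLocalization.lift _ (algebraMap B' (Localization.Away b') (g _)) = _
    rw [IsLocalization.lift_eq]
    show h (g _) = _
    have := congrArg (fun k : Rₚ ⊗[R] A →ₐ[Rₚ] Λq => k ((1 : Rₚ) ⊗ₜ[R] a)) hgh
    simp only [AlgHom.comp_apply] at this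
    rw [this, Algebra.TensorProduct.lift_tmul, map_one, one_mul]
    rfl
  exact mainH_smooth_data φ 𝔮 g₁ h₁ hgh₁ πA hπA G hG

end Groth.Agent.Helper2.Deloc
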