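import Mathlib
import Groth.Prelude

set_option autoImplicit false

namespace Groth.Agent.Helper2.Deloc

open Function MvPolynomial Algebra

universe u

section RelB

variable {R : Type u} [CommRing R] {nA mA r : ℕ} {V γ : Type} [Fintype V] [DecidableEq V]
  [Fintype γ] [DecidableEq γ]

/-- the variables of the big algebra -/
abbrev WB (nA r : ℕ) (V γ : Type) := (Fin nA ⊕ V) ⊕ (Fin r ⊕ (Unit ⊕ Fin r × γ))

def yv (i : Fin r) : WB nA r V γ := Sum.inr (Sum.inl i)
def zv : WB nA r V γ := Sum.inr (Sum.inr (Sum.inl ()))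
def tv (i : Fin r) (j : γ) : WB nA r V γ := Sum.inr (Sum.inr (Sum.inr (i, j)))

/-- relations of the big algebra -/
noncomputable def relB (G : Fin mA → MvPolynomial (Fin nA) R)
    (ld : γ → MvPolynomial (Fin nA ⊕ V) R) :
    Fin mA ⊕ (γ ⊕ Fin r) → MvPolynomial (WB nA r V γ) R :=
  Sum.elim (fun s => rename (Sum.inl ∘ Sum.inl) (G s))
    (Sum.elim (fun j => rename Sum.inl (ld j) + ∑ i : Fin r, X (yv i) * X (tv i j))
      (fun i => X zv * X (yv i)))

theorem pderiv_XX {σ : Type} (v a b : σ) (hva : a ≠ v) (hvb : b ≠ v) :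
    pderiv v (X a * X b : MvPolynomial σ R) = 0 := by
  rw [Derivation.leibniz, pderiv_X_of_ne hva, pderiv_X_of_ne hvb]
  simp

theorem pderiv_inr_rename_inl {σ τ : Type} (v : τ) (q : MvPolynomial σ R) :
    pderiv (Sum.inr v : σ ⊕ τ) (rename Sum.inl q) = 0 := by
  classical
  apply pderiv_eq_zero_of_notMem_vars
  intro h
  have := vars_rename (Sum.inl : σ → σ ⊕ τ) q h
  simp at this

theorem pderiv_inr_rename_inl_inl {σ σ' τ : Type} (v : τ) (q : MvPolynomial σ R) :
    pderiv (Sum.inr v : (σ ⊕ σ') ⊕ τ) (rename (Sum.inl ∘ Sum.inl) q) = 0 := by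
  classical
  apply pderiv_eq_zero_of_notMem_vars
  intro h
  have := vars_rename (Sum.inl ∘ Sum.inl : σ → (σ ⊕ σ') ⊕ τ) q h
  simp at this

/-- first choice of columns -/
def cols1 (cols : γ ↪ Fin nA ⊕ V) : γ ⊕ Fin r ↪ WB nA r V γ where
  toFun := Sum.elim (fun j => Sum.inl (cols j)) (fun i => yv i)
  inj' := by
    rintro (a | a) (b | b) h
    · simp only [Sum.elim_inl, Sum.inl.injEq] at h
      rw [cols.injective h]
    · simp [yv] at h
    · simp [yv] at h
    · simp only [Sum.elim_inr, yv, Sum.inr.injEq, Sum.inl.injEq] at h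
      rw [h]

theorem jac1 (G : Fin mA → MvPolynomial (Fin nA) R) (ld : γ → MvPolynomial (Fin nA ⊕ V) R)
    (cols : γ ↪ Fin nA ⊕ V) :
    Matrix.det (Matrix.of fun a c : γ ⊕ Fin r =>
        pderiv (cols1 (r := r) cols c) (relB (r := r) G ld (Sum.inr a))) =
      rename Sum.inl (Matrix.det (Matrix.of fun a c : γ => pderiv (cols c) (ld a))) *
        (X zv : MvPolynomial (WB nA r V γ) R) ^ r := by
  classical
  have hM : (Matrix.of fun a c : γ ⊕ Fin r =>
        pderiv (cols1 (r := r) cols c) (relB (r := r) G ld (Sum.inr a))) =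
      Matrix.fromBlocks
        ((rename Sum.inl : MvPolynomial (Fin nA ⊕ V) R →ₐ[R]
            MvPolynomial (WB nA r V γ) R).mapMatrix
            (Matrix.of fun a c : γ => pderiv (cols c) (ld a)))
        (Matrix.of fun (j : γ) (i : Fin r) =>
          pderiv (yv i : WB nA r V γ) (relB (r := r) G ld (Sum.inr (Sum.inl j))))
        0
        (Matrix.diagonal fun _ : Fin r => (X zv : MvPolynomial (WB nA r V γ) R)) := by
    apply Matrix.ext
    intro a c
    rcases a with j | i <;> rcases c with j' | i'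
    · simp only [Matrix.of_apply, Matrix.fromBlocks_apply₁₁, cols1, relB, Embedding.coeFn_mk,
        Sum.elim_inl, Sum.elim_inr, AlgHom.mapMatrix_apply, Matrix.map_apply]
      rw [map_add, pderiv_rename Sum.inl_injective, map_sum]
      rw [Finset.sum_eq_zero, add_zero]
      intro i _
      exact pderiv_XX _ _ _ (by simp [yv]) (by simp [tv])
    · simp only [Matrix.of_apply, Matrix.fromBlocks_apply₁₂, cols1, Embedding.coeFn_mk,
        Sum.elim_inr]
    · simp only [Matrix.of_apply, Matrix.fromBlocks_apply₂₁, cols1, relB, Embedding.coeFn_mk,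
        Sum.elim_inl, Sum.elim_inr, Matrix.zero_apply]
      exact pderiv_XX _ _ _ (by simp [zv]) (by simp [yv])
    · simp only [Matrix.of_apply, Matrix.fromBlocks_apply₂₂, cols1, relB, Embedding.coeFn_mk,
        Sum.elim_inr]
      rw [Derivation.leibniz, pderiv_X_of_ne (by simp [zv, yv] : (zv : WB nA r V γ) ≠ yv i'),
        pderiv_X]
      by_cases hii : i = i'
      · subst hii
        rw [Matrix.diagonal_apply_eq, Pi.single_eq_same]
        simp
      · rw [Matrix.diagonal_apply_ne _ hii]
        have : (yv i : WB nA r V γ) ≠ yv i' := fun h => hii (by simpa [yv] using h)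
        rw [Pi.single_eq_of_ne this]
        simp
  rw [hM, Matrix.det_fromBlocks_zero₂₁, Matrix.det_diagonal, ← AlgHom.map_det,
    Finset.prod_const, Finset.card_univ, Fintype.card_fin]

/-- second choice of rows -/
def rows2 {c : ℕ} (rowsA : Fin c ↪ Fin mA) (ℓ : Fin r) :
    Fin c ⊕ (γ ⊕ Unit) ↪ Fin mA ⊕ (γ ⊕ Fin r) where
  toFun := Sum.elim (fun k => Sum.inl (rowsA k))
    (Sum.elim (fun j => Sum.inr (Sum.inl j)) (fun _ => Sum.inr (Sum.inr ℓ)))
  inj' := by
    rintro (a | a | a) (b | b | b) h
    · simp only [Sum.elim_inl, Sum.inl.injEq] at h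
      rw [rowsA.injective h]
    · simp at h
    · simp at h
    · simp at h
    · simp only [Sum.elim_inr, Sum.elim_inl, Sum.inr.injEq, Sum.inl.injEq] at h
      rw [h]
    · simp at h
    · simp at h
    · simp at h
    · rfl

/-- second choice of columns -/
def cols2 {c : ℕ} (colsA : Fin c ↪ Fin nA) (ℓ : Fin r) :
    Fin c ⊕ (γ ⊕ Unit) ↪ WB nA r V γ where
  toFun := Sum.elim (fun k => Sum.inl (Sum.inl (colsA k)))
    (Sum.elim (fun j => tv ℓ j) (fun _ => zv))
  inj' := by
    rintro (a | a | a) (b | b | b) h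
    · simp only [Sum.elim_inl, Sum.inl.injEq] at h
      rw [colsA.injective h]
    · simp [tv] at h
    · simp [zv] at h
    · simp [tv] at h
    · simp only [Sum.elim_inr, Sum.elim_inl, tv, Sum.inr.injEq, Prod.mk.injEq, true_and] at h
      rw [h]
    · simp [tv, zv] at h
    · simp [zv] at h
    · simp [tv, zv] at h
    · rfl

theorem jac2 (G : Fin mA → MvPolynomial (Fin nA) R) (ld : γ → MvPolynomial (Fin nA ⊕ V) R)
    {c : ℕ} (rowsA : Fin c ↪ Fin mA) (colsA : Fin c ↪ Fin nA) (ℓ : Fin r) :
    Matrix.det (Matrix.of fun a c' : Fin c ⊕ (γ ⊕ Unit) =>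
        pderiv (cols2 (V := V) (γ := γ) colsA ℓ c')
          (relB (r := r) G ld (rows2 (γ := γ) rowsA ℓ a))) =
      rename (Sum.inl ∘ Sum.inl)
          (Matrix.det (Matrix.of fun k k' : Fin c => pderiv (colsA k') (G (rowsA k)))) *
        (X (yv ℓ) : MvPolynomial (WB nA r V γ) R) ^ (Fintype.card γ + 1) := by
  classical
  have hinj : Injective (Sum.inl ∘ Sum.inl : Fin nA → WB nA r V γ) :=
    Sum.inl_injective.comp Sum.inl_injective
  have hM : (Matrix.of fun a c' : Fin c ⊕ (γ ⊕ Unit) =>
        pderiv (cols2 (V := V) (γ := γ) colsA ℓ c')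
          (relB (r := r) G ld (rows2 (γ := γ) rowsA ℓ a))) =
      Matrix.fromBlocks
        ((rename (Sum.inl ∘ Sum.inl) : MvPolynomial (Fin nA) R →ₐ[R]
            MvPolynomial (WB nA r V γ) R).mapMatrix
            (Matrix.of fun k k' : Fin c => pderiv (colsA k') (G (rowsA k))))
        0
        (Matrix.of fun (a : γ ⊕ Unit) (k' : Fin c) =>
          pderiv (Sum.inl (Sum.inl (colsA k')) : WB nA r V γ)
            (relB (r := r) G ld (rows2 (γ := γ) rowsA ℓ (Sum.inr a))))
        (Matrix.diagonal fun _ : γ ⊕ Unit => (X (yv ℓ) : MvPolynomial (WB nA r V γ) R)) := by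
    apply Matrix.ext
    intro a c'
    rcases a with k | j | u <;> rcases c' with k' | j' | u'
    · simp only [Matrix.of_apply, Matrix.fromBlocks_apply₁₁, cols2, rows2, relB,
        Embedding.coeFn_mk, Sum.elim_inl, AlgHom.mapMatrix_apply, Matrix.map_apply]
      exact pderiv_rename hinj (x := colsA k') (G (rowsA k))
    · simp only [Matrix.of_apply, Matrix.fromBlocks_apply₁₂, cols2, rows2, relB,
        Embedding.coeFn_mk, Sum.elim_inl, Sum.elim_inr, Matrix.zero_apply]
      exact pderiv_inr_rename_inl_inl _ _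
    · simp only [Matrix.of_apply, Matrix.fromBlocks_apply₁₂, cols2, rows2, relB,
        Embedding.coeFn_mk, Sum.elim_inl, Sum.elim_inr, Matrix.zero_apply]
      exact pderiv_inr_rename_inl_inl _ _
    · simp only [Matrix.of_apply, Matrix.fromBlocks_apply₂₁, cols2, Embedding.coeFn_mk,
        Sum.elim_inl]
    · simp only [Matrix.of_apply, Matrix.fromBlocks_apply₂₂, cols2, rows2, relB,
        Embedding.coeFn_mk, Sum.elim_inl, Sum.elim_inr]
      rw [map_add, map_sum]
      have h0 : pderiv (tv ℓ j' : WB nA r V γ) (rename Sum.inl (ld j)) = 0 :=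
        pderiv_inr_rename_inl _ _
      rw [h0, zero_add]
      by_cases hjj : j = j'
      · subst hjj
        rw [Matrix.diagonal_apply_eq, Finset.sum_eq_single ℓ]
        · rw [Derivation.leibniz,
            pderiv_X_of_ne (by simp [tv, yv] : (yv ℓ : WB nA r V γ) ≠ tv ℓ j), pderiv_X,
            Pi.single_eq_same]
          simp
        · intro i _ hi
          exact pderiv_XX _ _ _ (by simp [tv, yv])
            (by simp only [tv, ne_eq, Sum.inr.injEq, Prod.mk.injEq, not_and]; exact fun h => absurd h hi)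
        · simp
      · rw [Matrix.diagonal_apply_ne _ (fun h => hjj (Sum.inl_injective h))]
        apply Finset.sum_eq_zero
        intro i _
        exact pderiv_XX _ _ _ (by simp [tv, yv])
          (by simp only [tv, ne_eq, Sum.inr.injEq, Prod.mk.injEq, not_and]; exact fun _ h => hjj h)
    · simp only [Matrix.of_apply, Matrix.fromBlocks_apply₂₂, cols2, rows2, relB,
        Embedding.coeFn_mk, Sum.elim_inl, Sum.elim_inr]
      rw [Matrix.diagonal_apply_ne _ (by simp), map_add, map_sum]
      have h0 : pderiv (zv : WB nA r V γ) (rename Sum.inl (ld j)) = 0 :=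
        pderiv_inr_rename_inl _ _
      rw [h0, zero_add]
      apply Finset.sum_eq_zero
      intro i _
      exact pderiv_XX _ _ _ (by simp [zv, yv]) (by simp [zv, tv])
    · simp only [Matrix.of_apply, Matrix.fromBlocks_apply₂₁, cols2, Embedding.coeFn_mk,
        Sum.elim_inl]
    · simp only [Matrix.of_apply, Matrix.fromBlocks_apply₂₂, cols2, rows2, relB,
        Embedding.coeFn_mk, Sum.elim_inl, Sum.elim_inr]
      rw [Matrix.diagonal_apply_ne _ (by simp)]
      exact pderiv_XX _ _ _ (by simp [zv, tv]) (by simp [tv, yv])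
    · simp only [Matrix.of_apply, Matrix.fromBlocks_apply₂₂, cols2, rows2, relB,
        Embedding.coeFn_mk, Sum.elim_inr]
      rw [Matrix.diagonal_apply_eq, Derivation.leibniz,
        pderiv_X_of_ne (by simp [zv, yv] : (yv ℓ : WB nA r V γ) ≠ zv), pderiv_X,
        Pi.single_eq_same]
      simp
  rw [hM, Matrix.det_fromBlocks_zero₁₂, Matrix.det_diagonal, ← AlgHom.map_det,
    Finset.prod_const, Finset.card_univ, Fintype.card_sum, Fintype.card_unit]

end RelB

end Groth.Agent.Helper2.Deloc
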