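import Mathlib
import Groth.Prelude
import Groth.Agent.Helper2.DelocA
import Groth.Agent.Helper2.DelocM
import Groth.Agent.Helper2.DelocN

set_option autoImplicit false

namespace Groth.Agent.Helper2.Deloc

open Function MvPolynomial Algebra TensorProduct

universe u

set_option maxHeartbeats 3200000 in
theorem resolve_core
    {R : Type u} [CommRing R] {A Λ : Type u} [CommRing A] [Algebra R A] [CommRing Λ] [Algebra R Λ]
    (φ : A →ₐ[R] Λ) (𝔮 : Ideal Λ) [𝔮.IsPrime] {nA mA : ℕ}
    (πA : MvPolynomial (Fin nA) R →ₐ[R] A) (hπA : Surjective πA)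
    (G : Fin mA → MvPolynomial (Fin nA) R)
    (hG : RingHom.ker πA.toRingHom = Ideal.span (Set.range G))
    (D : CoreData φ 𝔮 πA G)
    {r : ℕ} (a : Fin r → A)
    (hdata : ∀ ℓ, ∃ (c : ℕ) (rows : Fin c ↪ Fin mA) (cols : Fin c ↪ Fin nA) (a' : A),
      a ℓ = a' * πA (Smoothing.jacobianMinor G rows cols) ∧
      ∀ a₁ : MvPolynomial (Fin nA) R, πA a₁ = a ℓ → ∀ s : Fin mA,
        a₁ * G s ∈ Ideal.span (Set.range (G ∘ rows)) ⊔ Ideal.span (Set.range G) ^ 2)
    (N : ℕ) (lamz : Λ) (hlamz : lamz ∉ 𝔮) (hkillz : ∀ ℓ, lamz * φ (a ℓ) ^ N = 0) :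
    ∃ (B : Type u) (_ : CommRing B) (_ : Algebra R B), Algebra.FinitePresentation R B ∧
      ∃ (α : A →ₐ[R] B) (β : B →ₐ[R] Λ), β.comp α = φ ∧
        (∃ e : B, Smoothing.IsElementaryStandard R B e ∧ β e ∉ 𝔮) ∧
        (∀ ℓ, ∃ e : B, Smoothing.IsElementaryStandard R B e ∧
          ∃ k : ℕ, β e = φ (a ℓ) ^ (k + 1)) := by
  classical
  obtain ⟨V, γ, ld, cols, ev, b, e₀, hev, hld, hb, htail, he₀⟩ := D
  set rel : Fin mA ⊕ (γ ⊕ Fin r) → MvPolynomial (WB nA r V γ) R := relB (r := r) G ld with hrel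
  let I : Ideal (MvPolynomial (WB nA r V γ) R) := Ideal.span (Set.range rel)
  have hrelI : ∀ ℓ, rel ℓ ∈ I := fun ℓ => Ideal.subset_span (Set.mem_range_self ℓ)
  have hπG : ∀ s : Fin mA, πA (G s) = 0 := by
    intro s
    have : G s ∈ RingHom.ker πA.toRingHom := by
      rw [hG]
      exact Ideal.subset_span (Set.mem_range_self s)
    exact this
  -- the evaluation
  let evB : MvPolynomial (WB nA r V γ) R →ₐ[R] Λ :=
    aeval (Sum.elim (fun v => ev (X v))
      (Sum.elim (fun i => φ (a i) ^ N) (Sum.elim (fun _ => lamz) (fun _ => 0))))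
  have hevB_inl : ∀ q : MvPolynomial (Fin nA ⊕ V) R, evB (rename Sum.inl q) = ev q := by
    intro q
    have : evB.comp (rename Sum.inl : MvPolynomial (Fin nA ⊕ V) R →ₐ[R] _) = ev := by
      apply MvPolynomial.algHom_ext
      intro v
      simp [evB]
    exact congrArg (fun f : MvPolynomial (Fin nA ⊕ V) R →ₐ[R] Λ => f q) this
  have hrr : ∀ q : MvPolynomial (Fin nA) R,
      rename (Sum.inl ∘ Sum.inl : Fin nA → WB nA r V γ) q = rename Sum.inl (rename Sum.inl q) := by
    intro q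
    rw [rename_rename]
  have hevB_inlinl : ∀ q : MvPolynomial (Fin nA) R,
      evB (rename (Sum.inl ∘ Sum.inl) q) = φ (πA q) := by
    intro q
    rw [hrr, hevB_inl, hev]
  have hevBy : ∀ i, evB (X (yv i)) = φ (a i) ^ N := by
    intro i
    simp [evB, yv]
  have hevBz : evB (X zv) = lamz := by simp [evB, zv]
  have hevBt : ∀ i j, evB (X (tv i j)) = 0 := by
    intro i j
    simp [evB, tv]
  have hevI : ∀ x ∈ I, evB x = 0 := by
    intro x hx
    have hle : I ≤ RingHom.ker evB.toRingHom := by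
      rw [Ideal.span_le]
      rintro _ ⟨ℓ, rfl⟩
      show evB (rel ℓ) = 0
      rcases ℓ with s | j | i
      · show evB (rename (Sum.inl ∘ Sum.inl) (G s)) = 0
        rw [hevB_inlinl, hπG, map_zero]
      · show evB (rename Sum.inl (ld j) + ∑ i : Fin r, X (yv i) * X (tv i j)) = 0
        rw [map_add, hevB_inl, hld, zero_add, map_sum]
        apply Finset.sum_eq_zero
        intro i _
        rw [map_mul, hevBt, mul_zero]
      · show evB (X zv * X (yv i)) = 0
        rw [map_mul, hevBz, hevBy]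
        exact hkillz i
    exact hle hx
  let β : (MvPolynomial (WB nA r V γ) R ⧸ I) →ₐ[R] Λ := Ideal.Quotient.liftₐ I evB hevI
  let α₀ : MvPolynomial (Fin nA) R →ₐ[R] (MvPolynomial (WB nA r V γ) R ⧸ I) :=
    (Ideal.Quotient.mkₐ R I).comp (rename (Sum.inl ∘ Sum.inl))
  have hα₀ : RingHom.ker πA.toRingHom ≤ RingHom.ker α₀.toRingHom := by
    rw [hG, Ideal.span_le]
    rintro _ ⟨s, rfl⟩
    show Ideal.Quotient.mk I (rename (Sum.inl ∘ Sum.inl) (G s)) = 0
    rw [Ideal.Quotient.eq_zero_iff_mem]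
    exact hrelI (Sum.inl s)
  let α : A →ₐ[R] (MvPolynomial (WB nA r V γ) R ⧸ I) := AlgHom.liftOfSurjective πA hπA α₀ hα₀
  have hfp : Algebra.FinitePresentation R (MvPolynomial (WB nA r V γ) R ⧸ I) := by
    apply Algebra.FinitePresentation.quotient
    exact Submodule.fg_span (Set.finite_range rel)
  have hkerB : RingHom.ker (Ideal.Quotient.mkₐ R I).toRingHom = Ideal.span (Set.range rel) := by
    ext x
    rw [RingHom.mem_ker]
    show Ideal.Quotient.mk I x = 0 ↔ _
    rw [Ideal.Quotient.eq_zero_iff_mem]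
  refine ⟨MvPolynomial (WB nA r V γ) R ⧸ I, inferInstance, inferInstance, hfp, α, β, ?_, ?_, ?_⟩
  · apply AlgHom.ext
    intro x
    obtain ⟨q, rfl⟩ := hπA x
    show β (α (πA q)) = φ (πA q)
    rw [AlgHom.liftOfSurjective_apply]
    show evB (rename (Sum.inl ∘ Sum.inl) q) = _
    exact hevB_inlinl q
  · -- first family
    set rows1 : γ ⊕ Fin r ↪ Fin mA ⊕ (γ ⊕ Fin r) := ⟨Sum.inr, Sum.inr_injective⟩ with hrows1
    set I₁ : Ideal (MvPolynomial (WB nA r V γ) R) := Ideal.span (Set.range (rel ∘ rows1)) with hI₁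
    have hI₁I : I₁ ≤ I := by
      apply Ideal.span_mono
      rintro _ ⟨x, rfl⟩
      exact ⟨rows1 x, rfl⟩
    have hI₁mem : ∀ x : γ ⊕ Fin r, rel (Sum.inr x) ∈ I₁ :=
      fun x => Ideal.subset_span ⟨x, rfl⟩
    have lemZ : ∀ x ∈ Ideal.span (Set.range ld),
        (X zv : MvPolynomial (WB nA r V γ) R) * rename Sum.inl x ∈ I₁ := by
      intro x hx
      induction hx using Submodule.span_induction with
      | mem x hx =>
        obtain ⟨j, rfl⟩ := hx
        have h1 : (X zv : MvPolynomial (WB nA r V γ) R) * rename Sum.inl (ld j) =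
            X zv * rel (Sum.inr (Sum.inl j)) -
              ∑ i : Fin r, X (tv i j) * rel (Sum.inr (Sum.inr i)) := by
          show _ = X zv * (rename Sum.inl (ld j) + ∑ i : Fin r, X (yv i) * X (tv i j)) -
              ∑ i : Fin r, X (tv i j) * (X zv * X (yv i))
          rw [mul_add, Finset.mul_sum, add_sub_assoc, ← Finset.sum_sub_distrib]
          rw [Finset.sum_eq_zero, add_zero]
          intro i _
          ring
        rw [h1]
        refine Ideal.sub_mem _ (Ideal.mul_mem_left _ _ (hI₁mem _)) ?_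
        exact Ideal.sum_mem _ fun i _ => Ideal.mul_mem_left _ _ (hI₁mem _)
      | zero => simp
      | add x y _ _ hx hy =>
        rw [map_add, mul_add]
        exact Ideal.add_mem _ hx hy
      | smul c x _ hx =>
        rw [smul_eq_mul, map_mul, mul_left_comm]
        exact Ideal.mul_mem_left _ _ hx
    let D₀ : MvPolynomial (Fin nA ⊕ V) R :=
      Matrix.det (Matrix.of fun a c : γ => pderiv (cols c) (ld a))
    refine ⟨Ideal.Quotient.mk I (X zv ^ (r + 1) * rename Sum.inl e₀), ?_, ?_⟩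
    swap
    · show evB (X zv ^ (r + 1) * rename Sum.inl e₀) ∉ 𝔮
      rw [map_mul, map_pow, hevBz, hevB_inl]
      intro hmem
      rcases Ideal.IsPrime.mem_or_mem inferInstance hmem with h1 | h1
      · exact hlamz (Ideal.IsPrime.mem_of_pow_mem inferInstance _ h1)
      · exact he₀ h1
    refine exists_elementaryStandard_of_data_gen (V := WB nA r V γ)
      (κ := Fin mA ⊕ (γ ⊕ Fin r)) (γ := γ ⊕ Fin r) rel (Ideal.Quotient.mkₐ R I)
      (Ideal.Quotient.mkₐ_surjective R I) hkerB rows1 (cols1 (r := r) cols) _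
      (Ideal.Quotient.mk I (X zv * rename Sum.inl b)) ?_ ?_
    · have hdet : Matrix.det (Matrix.of fun j k : γ ⊕ Fin r =>
          pderiv (cols1 (r := r) cols k) (rel (rows1 j))) =
          rename Sum.inl D₀ * (X zv : MvPolynomial (WB nA r V γ) R) ^ r :=
        jac1 (r := r) G ld cols
      rw [hdet]
      show Ideal.Quotient.mk I (X zv ^ (r + 1) * rename Sum.inl e₀) =
        Ideal.Quotient.mk I (X zv * rename Sum.inl b) *
          Ideal.Quotient.mk I (rename Sum.inl D₀ * X zv ^ r)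
      rw [← map_mul, eq_comm, Ideal.Quotient.eq]
      have h2 : (X zv : MvPolynomial (WB nA r V γ) R) * rename Sum.inl b *
            (rename Sum.inl D₀ * X zv ^ r) - X zv ^ (r + 1) * rename Sum.inl e₀ =
          X zv ^ r * (X zv * rename Sum.inl (b * D₀ - e₀)) := by
        rw [map_sub, map_mul]
        ring
      rw [h2]
      exact hI₁I (Ideal.mul_mem_left _ _ (lemZ _ hb))
    · intro a₁ ha₁ ℓ
      have ha₁' : a₁ - X zv ^ (r + 1) * rename Sum.inl e₀ ∈ I := by
        rw [← Ideal.Quotient.eq_zero_iff_mem, map_sub, sub_eq_zero]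
        exact ha₁
      rcases ℓ with s | x
      · have hsplit : a₁ * rel (Sum.inl s) =
            X zv ^ r * (X zv * rename Sum.inl (e₀ * rename Sum.inl (G s))) +
              (a₁ - X zv ^ (r + 1) * rename Sum.inl e₀) * rel (Sum.inl s) := by
          show a₁ * rename (Sum.inl ∘ Sum.inl) (G s) = _ + _ * rename (Sum.inl ∘ Sum.inl) (G s)
          rw [hrr, map_mul]
          ring
        rw [hsplit]
        apply Ideal.add_mem
        · apply Ideal.mem_sup_left
          exact Ideal.mul_mem_left _ _ (lemZ _ (htail s))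
        · apply Ideal.mem_sup_right
          rw [pow_two]
          exact Ideal.mul_mem_mul ha₁' (hrelI _)
      · apply Ideal.mem_sup_left
        apply Ideal.mul_mem_left
        exact hI₁mem x
  · -- second family
    intro ℓ
    obtain ⟨c, rowsA, colsA, a', ha, hk⟩ := hdata ℓ
    obtain ⟨ã', rfl⟩ := hπA a'
    set minor : MvPolynomial (Fin nA) R := Smoothing.jacobianMinor G rowsA colsA with hminor
    set ã : MvPolynomial (Fin nA) R := ã' * minor with hã
    have hπã : πA ã = a ℓ := by rw [hã, map_mul, ha]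
    set rows₂ : Fin c ⊕ (γ ⊕ Unit) ↪ Fin mA ⊕ (γ ⊕ Fin r) := rows2 (γ := γ) rowsA ℓ with hrows₂
    set I₂ : Ideal (MvPolynomial (WB nA r V γ) R) := Ideal.span (Set.range (rel ∘ rows₂)) with hI₂
    have hI₂a : ∀ k : Fin c, rel (Sum.inl (rowsA k)) ∈ I₂ :=
      fun k => Ideal.subset_span ⟨Sum.inl k, rfl⟩
    have hI₂b : ∀ j : γ, rel (Sum.inr (Sum.inl j)) ∈ I₂ :=
      fun j => Ideal.subset_span ⟨Sum.inr (Sum.inl j), rfl⟩
    have hI₂c : rel (Sum.inr (Sum.inr ℓ)) ∈ I₂ :=
      Ideal.subset_span ⟨Sum.inr (Sum.inr ()), rfl⟩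
    set K : ℕ := Fintype.card γ + 1 with hK
    refine ⟨Ideal.Quotient.mk I (rename (Sum.inl ∘ Sum.inl) ã * X (yv ℓ) ^ K), ?_,
      N * K, ?_⟩
    swap
    · show evB (rename (Sum.inl ∘ Sum.inl) ã * X (yv ℓ) ^ K) = _
      rw [map_mul, map_pow, hevB_inlinl, hevBy, hπã, ← pow_mul, pow_succ, mul_comm]
    refine exists_elementaryStandard_of_data_gen (V := WB nA r V γ)
      (κ := Fin mA ⊕ (γ ⊕ Fin r)) (γ := Fin c ⊕ (γ ⊕ Unit)) rel (Ideal.Quotient.mkₐ R I)
      (Ideal.Quotient.mkₐ_surjective R I) hkerB rows₂ (cols2 (V := V) (γ := γ) colsA ℓ) _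
      (Ideal.Quotient.mk I (rename (Sum.inl ∘ Sum.inl) ã')) ?_ ?_
    · have hdet : Matrix.det (Matrix.of fun j k : Fin c ⊕ (γ ⊕ Unit) =>
          pderiv (cols2 (V := V) (γ := γ) colsA ℓ k) (rel (rows₂ j))) =
          rename (Sum.inl ∘ Sum.inl) minor *
            (X (yv ℓ) : MvPolynomial (WB nA r V γ) R) ^ K :=
        jac2 (r := r) G ld rowsA colsA ℓ
      rw [hdet]
      show Ideal.Quotient.mk I (rename (Sum.inl ∘ Sum.inl) ã * X (yv ℓ) ^ K) =
        Ideal.Quotient.mk I (rename (Sum.inl ∘ Sum.inl) ã') *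
          Ideal.Quotient.mk I (rename (Sum.inl ∘ Sum.inl) minor * X (yv ℓ) ^ K)
      rw [← map_mul, hã, map_mul (rename (Sum.inl ∘ Sum.inl)), mul_assoc]
    · intro a₁ ha₁ κ
      have ha₁' : a₁ - rename (Sum.inl ∘ Sum.inl) ã * X (yv ℓ) ^ K ∈ I := by
        rw [← Ideal.Quotient.eq_zero_iff_mem, map_sub, sub_eq_zero]
        exact ha₁
      have hsq : ∀ κ, (a₁ - rename (Sum.inl ∘ Sum.inl) ã * X (yv ℓ) ^ K) * rel κ ∈
          I₂ ⊔ I ^ 2 := by
        intro κ
        apply Ideal.mem_sup_right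
        rw [pow_two]
        exact Ideal.mul_mem_mul ha₁' (hrelI _)
      rcases κ with s | j | i
      · have hsplit : a₁ * rel (Sum.inl s) =
            X (yv ℓ) ^ K * rename (Sum.inl ∘ Sum.inl) (ã * G s) +
              (a₁ - rename (Sum.inl ∘ Sum.inl) ã * X (yv ℓ) ^ K) * rel (Sum.inl s) := by
          show a₁ * rename (Sum.inl ∘ Sum.inl) (G s) = _ + _ * rename (Sum.inl ∘ Sum.inl) (G s)
          rw [map_mul]
          ring
        rw [hsplit]
        refine Ideal.add_mem _ (Ideal.mul_mem_left _ _ ?_) (hsq _)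
        have h1 := hk ã hπã s
        have h2 := Ideal.mem_map_of_mem (rename (Sum.inl ∘ Sum.inl) :
          MvPolynomial (Fin nA) R →ₐ[R] MvPolynomial (WB nA r V γ) R).toRingHom h1
        rw [Ideal.map_sup, Ideal.map_pow, Ideal.map_span, Ideal.map_span] at h2
        refine (sup_le_sup (a := Ideal.span _) (b := I₂) (c := Ideal.span _ ^ 2) (d := I ^ 2)
          ?_ ?_) h2
        · rw [Ideal.span_le]
          rintro _ ⟨_, ⟨k, rfl⟩, rfl⟩
          exact hI₂a k
        · apply Ideal.pow_right_mono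
          rw [Ideal.span_le]
          rintro _ ⟨_, ⟨s', rfl⟩, rfl⟩
          exact hrelI (Sum.inl s')
      · apply Ideal.mem_sup_left
        apply Ideal.mul_mem_left
        exact hI₂b j
      · have hsplit : a₁ * rel (Sum.inr (Sum.inr i)) =
            (rename (Sum.inl ∘ Sum.inl) ã * X (yv ℓ) ^ Fintype.card γ * X (yv i)) *
              rel (Sum.inr (Sum.inr ℓ)) +
              (a₁ - rename (Sum.inl ∘ Sum.inl) ã * X (yv ℓ) ^ K) * rel (Sum.inr (Sum.inr i)) := by
          show a₁ * (X zv * X (yv i)) = _ * (X zv * X (yv ℓ)) + _ * (X zv * X (yv i))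
          rw [hK, pow_succ]
          ring
        rw [hsplit]
        refine Ideal.add_mem _ ?_ (hsq _)
        apply Ideal.mem_sup_left
        exact Ideal.mul_mem_left _ _ hI₂c

end Groth.Agent.Helper2.Deloc
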