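import Mathlib
import Groth.Prelude
import Groth.Agent.Helper2.StdElem
import Groth.Agent.Helper2.StdPerm
import Groth.Agent.Helper2.SingIdeal
import Groth.Agent.Helper2.DelocO

set_option autoImplicit false

namespace Groth.Agent.Helper2.Deloc

open Function MvPolynomial Algebra TensorProduct

universe u

set_option maxHeartbeats 1600000 in
theorem resolvable_dim_zero {R A Λ Rₚ Λq : Type u} [CommRing R] [IsNoetherianRing R] [CommRing A]
    [Algebra R A] [Algebra.FinitePresentation R A] [CommRing Λ] [Algebra R Λ] (φ : A →ₐ[R] Λ)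
    (𝔮 : Ideal Λ) [𝔮.IsPrime] (hmin : 𝔮 ∈ (Smoothing.singRad R φ).minimalPrimes)
    [CommRing Rₚ] [Algebra R Rₚ] [IsLocalization.AtPrime Rₚ (𝔮.comap (algebraMap R Λ))]
    [CommRing Λq] [Algebra Λ Λq] [IsLocalization.AtPrime Λq 𝔮] [Algebra R Λq] [IsScalarTower R Λ Λq]
    [Algebra Rₚ Λq] [IsScalarTower R Rₚ Λq] (hdim : ringKrullDim Λq = 0)
    (hres : Smoothing.Resolvable Rₚ
      (Algebra.TensorProduct.lift (Algebra.ofId Rₚ Λq) ((IsScalarTower.toAlgHom R Λ Λq).comp φ)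
        (fun _ _ => Commute.all _ _) : Rₚ ⊗[R] A →ₐ[Rₚ] Λq) (𝔮.map (algebraMap Λ Λq))) :
    Smoothing.Resolvable R φ 𝔮 := by
  classical
  obtain ⟨nA, πA, hπA, hfg⟩ := Algebra.FinitePresentation.out (R := R) (A := A)
  obtain ⟨mA, G, hG'⟩ := Submodule.fg_iff_exists_fin_generating_family.mp hfg
  have hG : RingHom.ker πA.toRingHom = Ideal.span (Set.range G) := hG'.symm
  obtain ⟨D⟩ := mainH_data φ 𝔮 hres πA hπA G hG
  haveI : IsNoetherianRing A := Algebra.FiniteType.isNoetherianRing R A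
  -- elements with elementary standard data for the fixed presentation
  let HasData : A → Prop := fun a =>
    ∃ (c : ℕ) (rows : Fin c ↪ Fin mA) (cols : Fin c ↪ Fin nA) (a' : A),
      a = a' * πA (Smoothing.jacobianMinor G rows cols) ∧
      ∀ a₁ : MvPolynomial (Fin nA) R, πA a₁ = a → ∀ s : Fin mA,
        a₁ * G s ∈ Ideal.span (Set.range (G ∘ rows)) ⊔ Ideal.span (Set.range G) ^ 2
  let J : Ideal A := Ideal.span {a | HasData a}
  have hHJ : Smoothing.singularIdeal R A ≤ J.radical := by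
    intro x hx
    rw [Ideal.radical_eq_sInf, Ideal.mem_sInf]
    rintro P ⟨hP, hPp⟩
    unfold Smoothing.singularIdeal at hx
    rw [PrimeSpectrum.mem_vanishingIdeal] at hx
    refine hx ⟨P, hPp⟩ ?_
    intro hsm
    haveI : Algebra.IsSmoothAt R P := hsm
    obtain ⟨a, haP, c, rows, cols, a', ha, hkill⟩ :=
      Groth.Agent.Helper2.StdElem.s2108 G πA hπA hG P
    exact haP (hP (Ideal.subset_span ⟨c, rows, cols, a', ha, hkill⟩))
  have hdataH : ∀ a, HasData a → a ∈ Smoothing.singularIdeal R A := by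
    rintro a ⟨c, rows, cols, a', ha, hkill⟩
    have hes : Smoothing.IsElementaryStandard R A a :=
      Groth.Agent.Helper2.StdPerm.exists_elementaryStandard_of_data G πA hπA hG rows cols a a'
        ha hkill
    rw [(SingIdeal.s2026 (R := R) (A := A)).2]
    exact Ideal.le_radical (Ideal.subset_span hes)
  have hJfg : (Submodule.span A {a | HasData a}).FG := (inferInstance : IsNoetherian A A).noetherian _
  obtain ⟨s', hs'sub, hs'span⟩ := (Submodule.fg_span_iff_fg_span_finset_subset _).mp hJfg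
  let r : ℕ := s'.card
  let a : Fin r → A := fun i => (s'.equivFin.symm i : A)
  have harange : Set.range a = (s' : Set A) := by
    ext x
    constructor
    · rintro ⟨i, rfl⟩
      exact (s'.equivFin.symm i).2
    · intro hx
      exact ⟨s'.equivFin ⟨x, hx⟩, by simp [a]⟩
  have hJa : J = Ideal.span (Set.range a) := by
    rw [harange]
    exact hs'span
  have hadata : ∀ ℓ, HasData (a ℓ) := fun ℓ => hs'sub (s'.equivFin.symm ℓ).2
  -- nilpotency
  haveI : IsLocalRing Λq := IsLocalization.AtPrime.isLocalRing Λq 𝔮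
  haveI : Ring.KrullDimLE 0 Λq := Ring.krullDimLE_iff.mpr (by rw [hdim]; rfl)
  have hφq : ∀ ℓ, φ (a ℓ) ∈ 𝔮 := by
    intro ℓ
    apply hmin.1.2
    unfold Smoothing.singRad
    exact Ideal.le_radical (Ideal.mem_map_of_mem φ (hdataH _ (hadata ℓ)))
  have hnil : ∀ ℓ, ∃ (n : ℕ) (c : Λ), c ∉ 𝔮 ∧ c * φ (a ℓ) ^ n = 0 := by
    intro ℓ
    have h1 : algebraMap Λ Λq (φ (a ℓ)) ∈ IsLocalRing.maximalIdeal Λq := by
      rw [← IsLocalization.AtPrime.map_eq_maximalIdeal 𝔮 Λq]
      exact Ideal.mem_map_of_mem _ (hφq ℓ)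
    rw [← Ring.KrullDimLE.isNilpotent_iff_mem_maximalIdeal] at h1
    obtain ⟨n, hn⟩ := h1
    rw [← map_pow, IsLocalization.map_eq_zero_iff 𝔮.primeCompl] at hn
    obtain ⟨c, hc⟩ := hn
    exact ⟨n, c, c.2, hc⟩
  choose n c hc hcn using hnil
  let N : ℕ := ∑ ℓ, n ℓ
  let lamz : Λ := ∏ ℓ, c ℓ
  have hlamz : lamz ∉ 𝔮 := by
    have : lamz ∈ 𝔮.primeCompl := Submonoid.prod_mem _ (fun ℓ _ => hc ℓ)
    exact this
  have hkillz : ∀ ℓ, lamz * φ (a ℓ) ^ N = 0 := by
    intro ℓ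
    obtain ⟨e, he⟩ : c ℓ ∣ lamz := Finset.dvd_prod_of_mem _ (Finset.mem_univ ℓ)
    have hN : n ℓ ≤ N := Finset.single_le_sum (f := n) (fun _ _ => Nat.zero_le _) (Finset.mem_univ ℓ)
    obtain ⟨k, hk⟩ := Nat.exists_eq_add_of_le hN
    rw [he, hk, pow_add]
    calc c ℓ * e * (φ (a ℓ) ^ n ℓ * φ (a ℓ) ^ k) = (c ℓ * φ (a ℓ) ^ n ℓ) * (e * φ (a ℓ) ^ k) := by ring
      _ = 0 := by rw [hcn, zero_mul]
  obtain ⟨B, _, _, hfp, α, β, hαβ, ⟨e₁, he₁, he₁q⟩, hfam⟩ :=
    resolve_core φ 𝔮 πA hπA G hG D a hadata N lamz hlamz hkillz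
  have hesB : ∀ e : B, Smoothing.IsElementaryStandard R B e → e ∈ Smoothing.singularIdeal R B := by
    intro e he
    rw [(SingIdeal.s2026 (R := R) (A := B)).2]
    exact Ideal.le_radical (Ideal.subset_span he)
  refine ⟨B, inferInstance, inferInstance, hfp, α, β, hαβ, ?_, ?_⟩
  · unfold Smoothing.singRad
    rw [(Ideal.radical_isRadical _).radical_le_iff, Ideal.map_le_iff_le_comap]
    intro x hx
    rw [Ideal.mem_comap]
    have hx' := hHJ hx
    obtain ⟨k, hk⟩ := hx'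
    rw [hJa] at hk
    have h1 : φ (x ^ k) ∈ (Ideal.span (Set.range a)).map φ := Ideal.mem_map_of_mem φ hk
    have h2 : (Ideal.span (Set.range a)).map φ ≤
        ((Smoothing.singularIdeal R B).map β).radical := by
      rw [Ideal.map_span, Ideal.span_le]
      rintro _ ⟨_, ⟨ℓ, rfl⟩, rfl⟩
      obtain ⟨e, he, k', hk'⟩ := hfam ℓ
      refine ⟨k' + 1, ?_⟩
      show φ (a ℓ) ^ (k' + 1) ∈ _
      rw [← hk']
      exact Ideal.mem_map_of_mem β (hesB e he)
    have h3 := h2 h1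
    rw [map_pow] at h3
    exact (Ideal.radical_isRadical _) ⟨k, h3⟩
  · intro hle
    apply he₁q
    apply hle
    unfold Smoothing.singRad
    exact Ideal.le_radical (Ideal.mem_map_of_mem β (hesB e₁ he₁))

end Groth.Agent.Helper2.Deloc
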