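import Mathlib
import Groth.Prelude.Def_Smoothing
import Groth.Agent.Helper2.InsL
import Groth.Agent.Helper2.InsG
import Groth.Agent.S2034

set_option autoImplicit false

namespace Groth.Agent.Helper2.Ins

open Function TensorProduct IsLocalRing

universe u

section Kill

variable {R : Type u} [CommRing R]

theorem sup_pow_le {ι : Type*} [DecidableEq ι] (t : ι → R) (e : ℕ) (s : Finset ι) :
    (s.sup fun i => Ideal.span {t i}) ^ (s.card * e + 1) ≤ s.sup fun i => Ideal.span {t i ^ e} := by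
  induction s using Finset.induction_on with
  | empty => simp
  | insert a s ha ih =>
    rw [Finset.sup_insert, Finset.sup_insert, Finset.card_insert_of_notMem ha]
    have h1 : (s.card + 1) * e + 1 = e + (s.card * e + 1) := by ring
    rw [h1]
    refine le_trans Ideal.sup_pow_add_le_pow_sup_pow ?_
    apply sup_le_sup
    · rw [Ideal.span_singleton_pow]
    · exact ih

theorem span_range_pow_le {d : ℕ} (t : Fin d → R) (e : ℕ) :
    Ideal.span (Set.range t) ^ (d * e + 1) ≤ Ideal.span (Set.range fun i => t i ^ e) := by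
  classical
  have h1 : ∀ u : Fin d → R, Ideal.span (Set.range u) =
      Finset.univ.sup fun i => Ideal.span {u i} := by
    intro u
    rw [Finset.sup_univ_eq_iSup]
    exact Submodule.span_range_eq_iSup
  rw [h1 t, h1 (fun i => t i ^ e)]
  have := sup_pow_le t e (Finset.univ : Finset (Fin d))
  rwa [Finset.card_univ, Fintype.card_fin] at this

/-- a ring map killing the `e`-th powers of generators of the maximal ideal factors through
the artinian quotient. -/
theorem exists_QP_lift {Loc T : Type u} [CommRing Loc] [IsLocalRing Loc] [CommRing T]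
    (θ : Loc →+* T) (d e : ℕ) (t : Fin d → Loc)
    (ht : maximalIdeal Loc = Ideal.span (Set.range t)) (h0 : ∀ i, θ (t i) ^ e = 0) :
    ∃ θ' : QP Loc (d * e + 1) →+* T, ∀ x, θ' (Ideal.Quotient.mk _ x) = θ x := by
  have hker : maximalIdeal Loc ^ (d * e + 1) ≤ RingHom.ker θ := by
    rw [ht]
    refine le_trans (span_range_pow_le t e) ?_
    rw [Ideal.span_le]
    rintro _ ⟨i, rfl⟩
    show θ (t i ^ e) = 0
    rw [map_pow, h0]
  exact ⟨Ideal.Quotient.lift _ θ (fun x hx => hker hx), fun x => Ideal.Quotient.lift_mk _ _ _⟩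

end Kill

section LocalFactor

/-- the problem over a minimal prime is resolvable as soon as the localized map factors
through a smooth algebra. -/
theorem resolvable_of_local_factor {R A' Λt Rₚ Λq : Type u} [CommRing R] [IsNoetherianRing R]
    [CommRing A'] [Algebra R A'] [Algebra.FinitePresentation R A'] [CommRing Λt] [Algebra R Λt]
    (χ₀ : A' →ₐ[R] Λt) (𝔮 : Ideal Λt) [𝔮.IsPrime] (hminq : 𝔮 ∈ minimalPrimes Λt)
    [CommRing Rₚ] [Algebra R Rₚ] [IsLocalization.AtPrime Rₚ (𝔮.comap (algebraMap R Λt))]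
    [CommRing Λq] [Algebra Λt Λq] [IsLocalization.AtPrime Λq 𝔮] [Algebra R Λq]
    [IsScalarTower R Λt Λq] [Algebra Rₚ Λq] [IsScalarTower R Rₚ Λq]
    (S : Type u) [CommRing S] [Algebra Rₚ S] [Algebra.Smooth Rₚ S] [Algebra R S]
    [IsScalarTower R Rₚ S] (g₀ : A' →ₐ[R] S) (h : S →ₐ[Rₚ] Λq)
    (hcomp : ∀ x, h (g₀ x) = algebraMap Λt Λq (χ₀ x)) :
    Smoothing.Resolvable R χ₀ 𝔮 := by
  by_cases hle : Smoothing.singRad R χ₀ ≤ 𝔮
  swap
  · exact ⟨A', inferInstance, inferInstance, inferInstance, AlgHom.id _ _, χ₀,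
      AlgHom.comp_id _, le_rfl, hle⟩
  have hmin : 𝔮 ∈ (Smoothing.singRad R χ₀).minimalPrimes :=
    ⟨⟨inferInstance, hle⟩, fun P hP hPq => hminq.2 ⟨hP.1, bot_le⟩ hPq⟩
  have hdim : ringKrullDim Λq = 0 := by
    rw [IsLocalization.AtPrime.ringKrullDim_eq_height 𝔮 Λq, Ideal.height_eq_zero_iff.2 hminq]
    rfl
  have hqtop : 𝔮.map (algebraMap Λt Λq) ≠ ⊤ := by
    haveI := IsLocalization.AtPrime.isLocalRing Λq 𝔮
    rw [IsLocalization.AtPrime.map_eq_maximalIdeal 𝔮 Λq]
    exact (maximalIdeal.isMaximal _).ne_top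
  refine Groth.Agent.S2034.result (Rₚ := Rₚ) (Λq := Λq) χ₀ 𝔮 hmin hdim ?_
  exact resolvable_of_factor ((IsScalarTower.toAlgHom R Λt Λq).comp χ₀) S g₀ h hcomp _ hqtop

end LocalFactor

end Groth.Agent.Helper2.Ins
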