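import Mathlib
import Groth.Prelude.Def_Smoothing
import Groth.Agent.Helper2.InsM
import Groth.Agent.Helper2.InsJ
import Groth.Agent.Helper2.ResE

set_option autoImplicit false

namespace Groth.Agent.Helper2.Ins

open Function MvPolynomial TensorProduct IsLocalRing Groth.Agent.Helper2.Sep

universe u

section Aux

theorem pow_eq_zero_of_mul_unit {T : Type*} [CommRing T] (x u : T) (hu : IsUnit u) (m e : ℕ)
    (h : (x * u ^ m) ^ e = 0) : x ^ e = 0 := by
  rw [mul_pow] at h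
  exact ((hu.pow m).pow e).mul_left_eq_zero.1 h

end Aux

section Local

variable (k : Type u) [Field k] {A : Type u} [CommRing A] [Algebra k A]
  (d r : ℕ) (a : Fin r → A) (n : ℕ)
  {P Λ : Type u} [CommRing P] [IsNoetherianRing P] [Algebra k P] [CommRing Λ] [Algebra k Λ]
  [IsNoetherianRing Λ]
  (φ : A →ₐ[k] Λ) (f : P →ₐ[k] Λ) (q : Ideal Λ) [q.IsPrime]
  {R₂ Λ₁ : Type u} [CommRing R₂] [IsNoetherianRing R₂] [Algebra k R₂] [Algebra (RR k d) R₂]
  [IsScalarTower k (RR k d) R₂]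
  [CommRing Λ₁] [Algebra R₂ Λ₁] [Algebra (RR k d) Λ₁] [IsScalarTower (RR k d) R₂ Λ₁]

variable (ιP : P →ₐ[k] R₂) (ιΛ : Λ →+* Λ₁) (q₁ : Ideal Λ₁) [q₁.IsPrime] (K : Ideal R₂) (e : ℕ)

local notation "L" => Localization.AtPrime q
local notation "φP" => (AlgHom.comp (IsScalarTower.toAlgHom k Λ (Localization.AtPrime q)) f)
local notation "Pp" => Localization.AtPrime (pB φP)
local notation "Rq" => (R₂ ⧸ K)
local notation "Λt" => (Λ₁ ⧸ Ideal.map (algebraMap R₂ Λ₁) K)
local notation "qt" => (Ideal.map (Ideal.Quotient.mk (Ideal.map (algebraMap R₂ Λ₁) K)) q₁)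
local notation "𝔭t" => (Ideal.comap (algebraMap (R₂ ⧸ K) (Λ₁ ⧸ Ideal.map (algebraMap R₂ Λ₁) K)) qt)
local notation "Rloc" => (Localization.AtPrime 𝔭t)
local notation "Λloc" => (Localization.AtPrime qt)
local notation "Pb" => (QP Pp (d * e + 1))
local notation "Lb" => (QP L (d * e + 1))

set_option maxHeartbeats 6400000 in
/-- the local step modulo `K`. -/
theorem resolvable_modK_local
    (hι : ∀ y, algebraMap R₂ Λ₁ (ιP y) = ιΛ (f y))
    (hq₁ : q₁.comap ιΛ = q)
    (hKq : K.map (algebraMap R₂ Λ₁) ≤ q₁)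
    (π' : Fin d → P) (kx : Fin d → ℕ) (xR : R₂) (xΛ : Λ₁) (s : Λ) (hs : s ∉ q)
    (hxx : algebraMap R₂ Λ₁ xR = ιΛ s * xΛ) (hxΛ : xΛ ∉ q₁)
    (hPi : ∀ i, algebraMap (RR k d) R₂ (X i) = ιP (π' i) * xR ^ kx i)
    (hK : ∀ i, (ιP (π' i) * xR ^ kx i) ^ e ∈ K)
    (hQmin : ∀ Q : Ideal Λ₁, Q.IsPrime → (∀ i, ιΛ (f (π' i)) ∈ Q) → Q ≤ q₁ → q₁ ≤ Q)
    (hπmax : maximalIdeal Pp = Ideal.span (Set.range fun i => algebraMap P Pp (π' i)))
    (hgmax : maximalIdeal L = Ideal.span (Set.range fun i => algebraMap Λ L (f (π' i))))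
    [IsLocalRing Lb]
    (D : Subalgebra k Lb) [IsLocalRing D]
    [IsLocalHom (algebraMap D Lb)]
    [Module.Flat D Lb]
    (hAD : ∀ y : A, toLbar (k := k) q (d * e + 1) (φ y) ∈ D)
    (hPD : ∀ y : P, toLbar (k := k) q (d * e + 1) (f y) ∈ D)
    [Algebra Pb D] [Algebra.Etale Pb D]
    (halg : ∀ y : P, algebraMap Pb D (Ideal.Quotient.mk _ (algebraMap P Pp y)) =
      ⟨toLbar (k := k) q (d * e + 1) (f y), hPD y⟩)
    (ζ : Fin d → Fin r → Λ) (hζ : ∀ i, ∑ j, ζ i j * φ (a j) = (f (π' i) * s ^ kx i) ^ n)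
    {C : Type u} [CommRing C] [Algebra (RR k d) C] [Algebra (BB k d r a n) C]
    [IsScalarTower (RR k d) (BB k d r a n) C]
    (retr : C →ₐ[BB k d r a n] BB k d r a n)
    (ψB : BB k d r a n →ₐ[RR k d] Λ₁) (hψA : ∀ y, ψB (iotaA k d r a n y) = ιΛ (φ y))
    (hψz : ∀ i j, ψB (zbar k d r a n i j) = ιΛ (ζ i j) * xΛ ^ (kx i * n))
    [Algebra.FinitePresentation (R₂ ⧸ K)
      ((R₂ ⊗[RR k d] C) ⧸ K.map (algebraMap R₂ (R₂ ⊗[RR k d] C)))] :
    Smoothing.Resolvable (R₂ ⧸ K)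
      (Res.φI (Algebra.TensorProduct.lift (Algebra.ofId R₂ Λ₁)
        (ψB.comp (retr.restrictScalars (RR k d))) (fun _ _ => Commute.all _ _) :
          R₂ ⊗[RR k d] C →ₐ[R₂] Λ₁) K)
      (q₁.map (Ideal.Quotient.mk (K.map (algebraMap R₂ Λ₁)))) := by
  classical
  have hqtprime : (q₁.map (Ideal.Quotient.mk (K.map (algebraMap R₂ Λ₁)))).IsPrime :=
    Ideal.map_isPrime_of_surjective Ideal.Quotient.mk_surjective
      (by rw [Ideal.mk_ker]; exact hKq)
  haveI := hqtprime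
  have hmemq : ∀ z : Λ₁, Ideal.Quotient.mk (K.map (algebraMap R₂ Λ₁)) z ∈
      q₁.map (Ideal.Quotient.mk (K.map (algebraMap R₂ Λ₁))) ↔ z ∈ q₁ := by
    intro z
    rw [← Ideal.mem_comap, Ideal.comap_map_of_surjective _ Ideal.Quotient.mk_surjective,
      ← RingHom.ker_eq_comap_bot, Ideal.mk_ker, sup_eq_left.2 hKq]
  have hsq₁ : ιΛ s ∉ q₁ := by
    intro hmem
    have : s ∈ q₁.comap ιΛ := hmem
    rw [hq₁] at this
    exact hs this
  have hxRq₁ : algebraMap R₂ Λ₁ xR ∉ q₁ := by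
    rw [hxx]
    intro hmem
    rcases (inferInstance : q₁.IsPrime).mem_or_mem hmem with h1 | h1
    · exact hsq₁ h1
    · exact hxΛ h1
  -- minimality
  have hminq : (q₁.map (Ideal.Quotient.mk (K.map (algebraMap R₂ Λ₁)))) ∈
      minimalPrimes (Λ₁ ⧸ K.map (algebraMap R₂ Λ₁)) := by
    refine ⟨⟨hqtprime, bot_le⟩, ?_⟩
    rintro Pt ⟨hPt, -⟩ hPq
    have hQ : (Pt.comap (Ideal.Quotient.mk (K.map (algebraMap R₂ Λ₁)))).IsPrime :=
      Ideal.comap_isPrime _ _
    have hQq : Pt.comap (Ideal.Quotient.mk (K.map (algebraMap R₂ Λ₁))) ≤ q₁ :=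
      fun y hy => (hmemq y).1 (hPq hy)
    have hgen : ∀ i, ιΛ (f (π' i)) ∈ Pt.comap (Ideal.Quotient.mk (K.map (algebraMap R₂ Λ₁))) := by
      intro i
      have h1 : algebraMap R₂ Λ₁ ((ιP (π' i) * xR ^ kx i) ^ e) ∈
          Pt.comap (Ideal.Quotient.mk (K.map (algebraMap R₂ Λ₁))) := by
        rw [Ideal.mem_comap, Ideal.Quotient.eq_zero_iff_mem.2 (Ideal.mem_map_of_mem _ (hK i))]
        exact Pt.zero_mem
      rw [map_pow, map_mul, map_pow, hι] at h1
      have h2 := hQ.mem_of_pow_mem _ h1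
      rcases hQ.mem_or_mem h2 with h3 | h3
      · exact h3
      · exact absurd (hQq (hQ.mem_of_pow_mem _ h3)) hxRq₁
    rw [Ideal.map_le_iff_le_comap]
    exact hQmin _ hQ hgen hQq
  -- the localizations
  have hmem𝔭 : ∀ y : R₂, Ideal.Quotient.mk K y ∈ 𝔭t ↔ algebraMap R₂ Λ₁ y ∈ q₁ := by
    intro y
    rw [Ideal.mem_comap, Ideal.Quotient.algebraMap_quotient_map_quotient, hmemq]
  have hunitΛ : ∀ z : Λ₁, z ∉ q₁ → IsUnit (algebraMap Λt Λloc (Ideal.Quotient.mk _ z)) :=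
    fun z hz => IsLocalization.map_units Λloc
      (⟨Ideal.Quotient.mk _ z, fun hmem => hz ((hmemq z).1 hmem)⟩ : (qt).primeCompl)
  have hunitR : ∀ y : R₂, algebraMap R₂ Λ₁ y ∉ q₁ →
      IsUnit (algebraMap Rq Rloc (Ideal.Quotient.mk K y)) :=
    fun y hy => IsLocalization.map_units Rloc
      (⟨Ideal.Quotient.mk K y, fun hmem => hy ((hmem𝔭 y).1 hmem)⟩ : (𝔭t).primeCompl)
  letI algRΛloc : Algebra Rloc Λloc :=
    (Localization.localRingHom 𝔭t qt (algebraMap Rq Λt) rfl).toAlgebra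
  have halgRΛloc : ∀ y : Rq, algebraMap Rloc Λloc (algebraMap Rq Rloc y) =
      algebraMap Λt Λloc (algebraMap Rq Λt y) :=
    fun y => Localization.localRingHom_to_map 𝔭t qt (algebraMap Rq Λt) rfl y
  have hRΛ : ∀ y : R₂, algebraMap Rloc Λloc (algebraMap Rq Rloc (Ideal.Quotient.mk K y)) =
      algebraMap Λt Λloc (Ideal.Quotient.mk _ (algebraMap R₂ Λ₁ y)) := by
    intro y
    rw [halgRΛloc, Ideal.Quotient.algebraMap_quotient_map_quotient]
  haveI tow1 : IsScalarTower Rq Rloc Λloc := IsScalarTower.of_algebraMap_eq (fun x => by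
    rw [halgRΛloc]
    exact IsScalarTower.algebraMap_apply Rq Λt Λloc x)
  haveI tow0 : IsScalarTower (RR k d) Rq Λt := IsScalarTower.of_algebraMap_eq (fun x => by
    rw [IsScalarTower.algebraMap_apply (RR k d) R₂ Rq, Ideal.Quotient.algebraMap_eq,
      Ideal.Quotient.algebraMap_quotient_map_quotient,
      ← IsScalarTower.algebraMap_apply (RR k d) R₂ Λ₁,
      IsScalarTower.algebraMap_apply (RR k d) Λ₁ Λt]
    rfl)
  haveI tow2 : IsScalarTower (RR k d) Rloc Λloc := IsScalarTower.of_algebraMap_eq (fun x => by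
    rw [IsScalarTower.algebraMap_apply (RR k d) Rq Rloc, halgRΛloc,
      ← IsScalarTower.algebraMap_apply (RR k d) Rq Λt,
      ← IsScalarTower.algebraMap_apply (RR k d) Λt Λloc])
  -- the prime of `P`
  have hpB : ∀ y : P, y ∈ pB φP ↔ f y ∈ q := by
    intro y
    exact IsLocalization.AtPrime.to_map_mem_maximal_iff L q (f y)
  -- the map from `P_p`
  let σP : P →+* Rloc := (algebraMap Rq Rloc).comp ((Ideal.Quotient.mk K).comp ιP.toRingHom)
  have hσP : ∀ y, σP y = algebraMap Rq Rloc (Ideal.Quotient.mk K (ιP y)) := fun y => rfl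
  have hσPunit : ∀ y : (pB φP).primeCompl, IsUnit (σP y) := by
    intro y
    rw [hσP]
    apply hunitR
    rw [hι]
    intro hmem
    have h1 : f y ∈ q₁.comap ιΛ := hmem
    rw [hq₁] at h1
    exact y.2 ((hpB y).2 h1)
  let τ₀ : Pp →+* Rloc := IsLocalization.lift hσPunit
  have hτ₀ : ∀ y, τ₀ (algebraMap P Pp y) = σP y := fun y => IsLocalization.lift_eq hσPunit y
  have hxRunit : IsUnit (algebraMap Rq Rloc (Ideal.Quotient.mk K xR)) := hunitR xR hxRq₁
  obtain ⟨τP, hτP⟩ := exists_QP_lift τ₀ d e (fun i => algebraMap P Pp (π' i)) hπmax (by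
    intro i
    rw [hτ₀, hσP]
    apply pow_eq_zero_of_mul_unit _ _ hxRunit (kx i) e
    have h1 : algebraMap Rq Rloc (Ideal.Quotient.mk K ((ιP (π' i) * xR ^ kx i) ^ e)) = 0 := by
      rw [Ideal.Quotient.eq_zero_iff_mem.2 (hK i), map_zero]
    simpa only [map_pow, map_mul] using h1)
  -- the map from `L`
  let σL : Λ →+* Λloc := (algebraMap Λt Λloc).comp ((Ideal.Quotient.mk _).comp ιΛ)
  have hσL : ∀ y, σL y = algebraMap Λt Λloc (Ideal.Quotient.mk _ (ιΛ y)) := fun y => rfl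
  have hσLunit : ∀ y : q.primeCompl, IsUnit (σL y) := by
    intro y
    rw [hσL]
    apply hunitΛ
    intro hmem
    have h1 : (y : Λ) ∈ q₁.comap ιΛ := hmem
    rw [hq₁] at h1
    exact y.2 h1
  let ρ₀ : L →+* Λloc := IsLocalization.lift hσLunit
  have hρ₀ : ∀ y, ρ₀ (algebraMap Λ L y) = σL y := fun y => IsLocalization.lift_eq hσLunit y
  have hxΛunit : IsUnit (algebraMap Λt Λloc (Ideal.Quotient.mk _ (algebraMap R₂ Λ₁ xR))) :=
    hunitΛ _ hxRq₁
  obtain ⟨ρL, hρL⟩ := exists_QP_lift ρ₀ d e (fun i => algebraMap Λ L (f (π' i))) hgmax (by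
    intro i
    rw [hρ₀, hσL]
    apply pow_eq_zero_of_mul_unit _ _ hxΛunit (kx i) e
    have h1 : algebraMap Λt Λloc (Ideal.Quotient.mk _
        (algebraMap R₂ Λ₁ ((ιP (π' i) * xR ^ kx i) ^ e))) = 0 := by
      rw [Ideal.Quotient.eq_zero_iff_mem.2 (Ideal.mem_map_of_mem _ (hK i)), map_zero]
    rw [map_pow, map_mul, map_pow, hι] at h1
    simpa only [map_pow, map_mul] using h1)
  -- the algebra structures
  letI algPT : Algebra Pb Rloc := τP.toAlgebra
  have halgPT : ∀ y : P, algebraMap Pb Rloc (Ideal.Quotient.mk _ (algebraMap P Pp y)) =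
      algebraMap Rq Rloc (Ideal.Quotient.mk K (ιP y)) := by
    intro y
    show τP _ = _
    rw [hτP, hτ₀, hσP]
  have hkPb : ∀ c : k, algebraMap k Pb c =
      Ideal.Quotient.mk _ (algebraMap P Pp (algebraMap k P c)) := by
    intro c
    rw [IsScalarTower.algebraMap_apply k Pp Pb, IsScalarTower.algebraMap_apply k P Pp]
    rfl
  haveI towkPT : IsScalarTower k Pb Rloc := IsScalarTower.of_algebraMap_eq (fun c => by
    rw [hkPb, halgPT, ιP.commutes, IsScalarTower.algebraMap_apply k Rq Rloc,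
      IsScalarTower.algebraMap_apply k R₂ Rq]
    rfl)
  haveI towkPD : IsScalarTower k Pb D := IsScalarTower.of_algebraMap_eq (fun c => by
    rw [hkPb, halg]
    apply Subtype.ext
    show algebraMap k Lb c = toLbar (k := k) q (d * e + 1) (f (algebraMap k P c))
    rw [f.commutes, (toLbar (k := k) q (d * e + 1)).commutes])
  haveI hff : Module.FaithfullyFlat D Lb := Module.FaithfullyFlat.of_flat_of_isLocalHom
  -- compatibility
  have hρP : ∀ x : Pb, ρL (algebraMap D Lb (algebraMap Pb D x)) =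
      algebraMap Rloc Λloc (algebraMap Pb Rloc x) := by
    have heq : (ρL.comp ((algebraMap D Lb).comp (algebraMap Pb D))) =
        (algebraMap Rloc Λloc).comp (algebraMap Pb Rloc) := by
      apply Ideal.Quotient.ringHom_ext
      apply IsLocalization.ringHom_ext (pB φP).primeCompl
      refine RingHom.ext fun y => ?_
      show ρL (algebraMap D Lb (algebraMap Pb D (Ideal.Quotient.mk _ (algebraMap P Pp y)))) =
        algebraMap Rloc Λloc (algebraMap Pb Rloc (Ideal.Quotient.mk _ (algebraMap P Pp y)))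
      rw [halg, halgPT, hRΛ, hι]
      show ρL (toLbar (k := k) q (d * e + 1) (f y)) = _
      rw [toLbar_apply, hρL, hρ₀, hσL]
    exact fun x => RingHom.congr_fun heq x
  -- the map from `A`
  let φD : A →ₐ[k] D := ((toLbar (k := k) q (d * e + 1)).comp φ).codRestrict D hAD
  have hφD : ∀ y, algebraMap D Lb (φD y) = toLbar (k := k) q (d * e + 1) (φ y) := fun y => rfl
  let pbar : Fin d → Pb := fun i => Ideal.Quotient.mk _ (algebraMap P Pp (π' i))
  let tt : Fin d → Rloc := fun i => (algebraMap Rq Rloc (Ideal.Quotient.mk K xR)) ^ kx i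
  have hX : ∀ i, algebraMap (RR k d) Rloc (X i) = algebraMap Pb Rloc (pbar i) * tt i := by
    intro i
    show _ = algebraMap Pb Rloc (Ideal.Quotient.mk _ (algebraMap P Pp (π' i))) *
      (algebraMap Rq Rloc (Ideal.Quotient.mk K xR)) ^ kx i
    rw [halgPT, IsScalarTower.algebraMap_apply (RR k d) R₂ Rloc, hPi,
      IsScalarTower.algebraMap_apply R₂ Rq Rloc, map_mul, map_mul, map_pow, map_pow]
    rfl
  -- the inverse of `s`
  have hsunit : IsUnit (toLbar (k := k) q (d * e + 1) s) := by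
    rw [toLbar_apply]
    exact (IsLocalization.map_units L (⟨s, hs⟩ : q.primeCompl)).map _
  obtain ⟨sinv, hsinv⟩ := hsunit.exists_right_inv
  let ω : Fin d → Fin r → Lb := fun i j =>
    toLbar (k := k) q (d * e + 1) (ζ i j) * sinv ^ (kx i * n)
  have hω : ∀ i, algebraMap D Lb (algebraMap Pb D (pbar i)) ^ n =
      ∑ j, ω i j * algebraMap D Lb (φD (a j)) := by
    intro i
    show algebraMap D Lb (algebraMap Pb D (Ideal.Quotient.mk _ (algebraMap P Pp (π' i)))) ^ n =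
      ∑ j, (toLbar (k := k) q (d * e + 1) (ζ i j) * sinv ^ (kx i * n)) *
        algebraMap D Lb (φD (a j))
    rw [halg]
    show toLbar (k := k) q (d * e + 1) (f (π' i)) ^ n = _
    have h1 : ∀ j, (toLbar (k := k) q (d * e + 1) (ζ i j) * sinv ^ (kx i * n)) *
        algebraMap D Lb (φD (a j)) =
        sinv ^ (kx i * n) * toLbar (k := k) q (d * e + 1) (ζ i j * φ (a j)) := by
      intro j
      rw [hφD, map_mul]
      ring
    rw [Finset.sum_congr rfl (fun j _ => h1 j), ← Finset.mul_sum, ← map_sum, hζ i, map_pow,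
      map_mul, map_pow, mul_pow, ← pow_mul, mul_comm (sinv ^ (kx i * n)), mul_assoc, ← mul_pow,
      hsinv, one_pow, mul_one]
  -- the map from `B`
  let ψB' : BB k d r a n →ₐ[RR k d] Λloc :=
    (IsScalarTower.toAlgHom (RR k d) Λt Λloc).comp ((IsScalarTower.toAlgHom (RR k d) Λ₁ Λt).comp ψB)
  have hψB' : ∀ b, ψB' b = algebraMap Λt Λloc (Ideal.Quotient.mk _ (ψB b)) := fun b => rfl
  have hψA' : ∀ y : A, ψB' (iotaA k d r a n y) = ρL (algebraMap D Lb (φD y)) := by
    intro y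
    rw [hψB', hψA, hφD, toLbar_apply, hρL, hρ₀, hσL]
  have hρsinv : σL s * ρL sinv = 1 := by
    rw [← hρ₀, ← hρL, ← map_mul, ← toLbar_apply (k := k), hsinv, map_one]
  have hψz' : ∀ i j, ψB' (zbar k d r a n i j) = algebraMap Rloc Λloc (tt i) ^ n * ρL (ω i j) := by
    intro i j
    show _ = algebraMap Rloc Λloc ((algebraMap Rq Rloc (Ideal.Quotient.mk K xR)) ^ kx i) ^ n *
      ρL (toLbar (k := k) q (d * e + 1) (ζ i j) * sinv ^ (kx i * n))
    have e1 : algebraMap Rloc Λloc ((algebraMap Rq Rloc (Ideal.Quotient.mk K xR)) ^ kx i) =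
        (σL s * algebraMap Λt Λloc (Ideal.Quotient.mk _ xΛ)) ^ kx i := by
      rw [map_pow, hRΛ, hxx, map_mul, map_mul, hσL]
    have e2 : ρL (toLbar (k := k) q (d * e + 1) (ζ i j) * sinv ^ (kx i * n)) =
        σL (ζ i j) * ρL sinv ^ (kx i * n) := by
      rw [map_mul, map_pow, toLbar_apply, hρL, hρ₀]
    rw [hψB', hψz, e1, e2, hσL (ζ i j), map_mul, map_mul, map_pow, map_pow, ← pow_mul]
    have h1 : (σL s * algebraMap Λt Λloc (Ideal.Quotient.mk _ xΛ)) ^ (kx i * n) *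
        (algebraMap Λt Λloc (Ideal.Quotient.mk _ (ιΛ (ζ i j))) * ρL sinv ^ (kx i * n)) =
        algebraMap Λt Λloc (Ideal.Quotient.mk _ (ιΛ (ζ i j))) *
          algebraMap Λt Λloc (Ideal.Quotient.mk _ xΛ) ^ (kx i * n) *
          (σL s * ρL sinv) ^ (kx i * n) := by ring
    rw [h1, hρsinv, one_pow, mul_one]
  obtain ⟨S, instS, algTS, smS, algRRS, towRRS, γ, h, hγ⟩ :=
    exists_smooth_factor k d r a n (T' := Rloc) (Λ' := Λloc) (D := D)
      ρL hρP φD pbar tt hX ω hω ψB' hψA' hψz'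
  letI := instS
  letI := algTS
  haveI := smS
  letI := algRRS
  haveI := towRRS
  letI algRS : Algebra Rq S := ((algebraMap Rloc S).comp (algebraMap Rq Rloc)).toAlgebra
  haveI towRS : IsScalarTower Rq Rloc S := IsScalarTower.of_algebraMap_eq (fun _ => rfl)
  letI algR₂S : Algebra R₂ S := ((algebraMap Rq S).comp (algebraMap R₂ Rq)).toAlgebra
  haveI towR₂S : IsScalarTower R₂ Rq S := IsScalarTower.of_algebraMap_eq (fun _ => rfl)
  have halgR₂S : ∀ y : R₂, algebraMap R₂ S y =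
      algebraMap Rloc S (algebraMap Rq Rloc (Ideal.Quotient.mk K y)) := fun y => rfl
  haveI towRRR₂S : IsScalarTower (RR k d) R₂ S := IsScalarTower.of_algebraMap_eq (fun x => by
    rw [IsScalarTower.algebraMap_apply (RR k d) Rloc S, halgR₂S,
      IsScalarTower.algebraMap_apply (RR k d) R₂ Rloc, IsScalarTower.algebraMap_apply R₂ Rq Rloc]
    rfl)
  let γC : C →ₐ[RR k d] S := γ.comp (retr.restrictScalars (RR k d))
  let γCR : R₂ ⊗[RR k d] C →ₐ[R₂] S :=
    Algebra.TensorProduct.lift (Algebra.ofId R₂ S) γC (fun _ _ => Commute.all _ _)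
  refine resolvable_of_local_factor (Rₚ := Rloc) (Λq := Λloc) _ _ hminq S (quotAlgHom K γCR) h ?_
  intro x
  obtain ⟨z, rfl⟩ := Ideal.Quotient.mk_surjective x
  rw [quotAlgHom_mk, Res.φI_mk]
  induction z using TensorProduct.induction_on with
  | zero => simp
  | tmul r₂ c =>
    rw [Algebra.TensorProduct.lift_tmul, Algebra.TensorProduct.lift_tmul, map_mul, map_mul,
      map_mul]
    congr 1
    · show h (algebraMap Rloc S (algebraMap Rq Rloc (Ideal.Quotient.mk K r₂))) = _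
      rw [h.commutes]
      exact hRΛ r₂
    · show h (γ (retr c)) = algebraMap Λt Λloc (Ideal.Quotient.mk _ (ψB (retr c)))
      rw [hγ, hψB']
  | add x y hx hy => rw [map_add, map_add, hx, hy, map_add, map_add, map_add]

end Local

end Groth.Agent.Helper2.Ins
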