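import Mathlib
import Groth.Prelude.Def_Smoothing

set_option autoImplicit false

namespace Groth.Agent.Helper2.SStd

open Function MvPolynomial Algebra

universe u

variable {R A : Type u} [CommRing R] [CommRing A] [Algebra R A]

/-- General-index criterion for strictly standard elements. -/
theorem isStrictlyStandard_of_data {V τ : Type} [Fintype V] [Fintype τ] [DecidableEq V]
    {c : ℕ} (hcV : c ≤ Fintype.card V)
    (lead : Fin c → MvPolynomial V R) (tail : τ → MvPolynomial V R)
    (φ : MvPolynomial V R →ₐ[R] A) (hφ : Surjective φ)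
    (hker : RingHom.ker φ.toRingHom = Ideal.span (Set.range lead ∪ Set.range tail))
    (a : A)
    (ha : a ∈ Ideal.span (Set.range fun cols : Fin c → V =>
        φ (Matrix.det (Matrix.of fun j k : Fin c => pderiv (cols k) (lead j)))))
    (a₁ : MvPolynomial V R) (ha₁ : φ a₁ = a)
    (hkill : ∀ t, a₁ * tail t ∈ Ideal.span (Set.range lead) ⊔
      (Ideal.span (Set.range lead ∪ Set.range tail)) ^ 2) :
    Smoothing.IsStrictlyStandard R A a := by
  classical
  let eV : V ≃ Fin (Fintype.card V) := Fintype.equivFin V
  let eτ : τ ≃ Fin (Fintype.card τ) := Fintype.equivFin τ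
  have hρτ : ∀ x : MvPolynomial (Fin (Fintype.card V)) R, rename eV (rename eV.symm x) = x := by
    intro x
    rw [rename_rename]
    simp
  have hτρ : ∀ x : MvPolynomial V R, rename eV.symm (rename eV x) = x := by
    intro x
    rw [rename_rename]
    simp
  let rel : Fin (c + Fintype.card τ) → MvPolynomial (Fin (Fintype.card V)) R :=
    Fin.addCases (fun j => rename eV (lead j)) (fun k => rename eV (tail (eτ.symm k)))
  let φ₂ : MvPolynomial (Fin (Fintype.card V)) R →ₐ[R] A := φ.comp (rename eV.symm)
  have hrange : Set.range rel = (rename eV : MvPolynomial V R → _) ''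
      (Set.range lead ∪ Set.range tail) := by
    ext x
    constructor
    · rintro ⟨j, rfl⟩
      induction j using Fin.addCases with
      | left j => exact ⟨lead j, Or.inl ⟨j, rfl⟩, by simp [rel]⟩
      | right k => exact ⟨tail (eτ.symm k), Or.inr ⟨_, rfl⟩, by simp [rel]⟩
    · rintro ⟨_, (⟨j, rfl⟩ | ⟨t, rfl⟩), rfl⟩
      · exact ⟨Fin.castAdd _ j, by simp [rel]⟩
      · exact ⟨Fin.natAdd _ (eτ t), by simp [rel]⟩
  have hmap_span : (Ideal.span (Set.range lead ∪ Set.range tail)).map
      (rename eV : MvPolynomial V R →ₐ[R] MvPolynomial (Fin (Fintype.card V)) R).toRingHom =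
      Ideal.span (Set.range rel) := by
    rw [Ideal.map_span, hrange]
    rfl
  have hlead_range : rel '' {j' : Fin (c + Fintype.card τ) | (j' : ℕ) < c} =
      (rename eV : MvPolynomial V R → _) '' Set.range lead := by
    ext x
    constructor
    · rintro ⟨j, hj, rfl⟩
      induction j using Fin.addCases with
      | left j => exact ⟨lead j, ⟨j, rfl⟩, by simp [rel]⟩
      | right k =>
        exfalso
        simp only [Set.mem_setOf_eq, Fin.val_natAdd] at hj
        omega
    · rintro ⟨_, ⟨j, rfl⟩, rfl⟩
      exact ⟨Fin.castAdd _ j, by simp, by simp [rel]⟩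
  have hmap_lead : (Ideal.span (Set.range lead)).map
      (rename eV : MvPolynomial V R →ₐ[R] MvPolynomial (Fin (Fintype.card V)) R).toRingHom =
      Ideal.span (rel '' {j' : Fin (c + Fintype.card τ) | (j' : ℕ) < c}) := by
    rw [Ideal.map_span, hlead_range]
    rfl
  have hsurj : Surjective φ₂ := by
    intro y
    obtain ⟨x, rfl⟩ := hφ y
    exact ⟨rename eV x, by simp [φ₂, hτρ]⟩
  have hker₂ : RingHom.ker φ₂.toRingHom = Ideal.span (Set.range rel) := by
    rw [← hmap_span]
    ext x
    rw [RingHom.mem_ker]
    constructor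
    · intro hx
      have h1 : rename eV.symm x ∈ Ideal.span (Set.range lead ∪ Set.range tail) := by
        rw [← hker, RingHom.mem_ker]
        exact hx
      have h2 := Ideal.mem_map_of_mem
        (rename eV : MvPolynomial V R →ₐ[R] MvPolynomial (Fin (Fintype.card V)) R).toRingHom h1
      rwa [show (rename eV : MvPolynomial V R →ₐ[R] _).toRingHom (rename eV.symm x) = x
        from hρτ x] at h2
    · intro hx
      have h1 : (Ideal.span (Set.range lead ∪ Set.range tail)).map
          (rename eV : MvPolynomial V R →ₐ[R] MvPolynomial (Fin (Fintype.card V)) R).toRingHom ≤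
          (RingHom.ker φ.toRingHom).comap
            (rename eV.symm : MvPolynomial (Fin (Fintype.card V)) R →ₐ[R] MvPolynomial V R).toRingHom := by
        rw [Ideal.map_le_iff_le_comap]
        intro z hz
        rw [Ideal.mem_comap, Ideal.mem_comap]
        show rename eV.symm (rename eV z) ∈ _
        rw [hτρ, hker]
        exact hz
      have h2 := h1 hx
      rw [Ideal.mem_comap, RingHom.mem_ker] at h2
      exact h2
  let P : Smoothing.MarkedPresentation R A :=
    { n := Fintype.card V
      m := c + Fintype.card τ
      c := c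
      hcn := hcV
      hcm := Nat.le_add_right _ _
      rel := rel
      hom := φ₂
      surj := hsurj
      ker_eq := hker₂ }
  refine ⟨P, ?_, ?_⟩
  · refine Ideal.span_le.2 ?_ ha
    rintro _ ⟨cols, rfl⟩
    apply Ideal.subset_span
    refine ⟨fun k => eV (cols k), ?_⟩
    show φ (rename eV.symm (Smoothing.jacobianMinor rel (Fin.castLE (Nat.le_add_right _ _))
      fun k => eV (cols k))) = _
    congr 1
    have h1 : Smoothing.jacobianMinor rel (Fin.castLE (Nat.le_add_right c (Fintype.card τ)))
        (fun k => eV (cols k)) =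
        rename eV (Matrix.det (Matrix.of fun j k : Fin c => pderiv (cols k) (lead j))) := by
      unfold Smoothing.jacobianMinor
      rw [AlgHom.map_det]
      congr 1
      ext j k
      simp only [Matrix.of_apply, AlgHom.mapMatrix_apply, Matrix.map_apply]
      have : rel (Fin.castLE (Nat.le_add_right c (Fintype.card τ)) j) = rename eV (lead j) := by
        have : Fin.castLE (Nat.le_add_right c (Fintype.card τ)) j = Fin.castAdd _ j := rfl
        rw [this]
        simp [rel]
      rw [this, pderiv_rename eV.injective]
    rw [h1, hτρ]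
  · intro a' ha' j hj
    show a' * rel j ∈ Ideal.span (rel '' {j' : Fin (c + Fintype.card τ) | (j' : ℕ) < c}) ⊔
      Ideal.span (Set.range rel) ^ 2
    induction j using Fin.addCases with
    | left j =>
      exfalso
      simp only [Fin.val_castAdd] at hj
      exact absurd j.2 (not_lt.2 hj)
    | right k =>
      have hrel : rel (Fin.natAdd c k) = rename eV (tail (eτ.symm k)) := by simp [rel]
      rw [hrel]
      have h1 := hkill (eτ.symm k)
      have h2 := Ideal.mem_map_of_mem
        (rename eV : MvPolynomial V R →ₐ[R] MvPolynomial (Fin (Fintype.card V)) R).toRingHom h1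
      rw [Ideal.map_sup, Ideal.map_pow, hmap_span, hmap_lead] at h2
      have h3 : (rename eV : MvPolynomial V R →ₐ[R] MvPolynomial (Fin (Fintype.card V)) R).toRingHom
          (a₁ * tail (eτ.symm k)) = rename eV a₁ * rename eV (tail (eτ.symm k)) := map_mul _ _ _
      rw [h3] at h2
      -- a' - rename eV a₁ ∈ ker
      have hdiff : a' - rename eV a₁ ∈ Ideal.span (Set.range rel) := by
        rw [← hker₂, RingHom.mem_ker]
        show φ₂ (a' - rename eV a₁) = 0
        rw [map_sub]
        have : φ₂ (rename eV a₁) = a := by
          show φ (rename eV.symm (rename eV a₁)) = a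
          rw [hτρ, ha₁]
        rw [this]
        have : φ₂ a' = a := ha'
        rw [this, sub_self]
      have htail : rename eV (tail (eτ.symm k)) ∈ Ideal.span (Set.range rel) := by
        apply Ideal.subset_span
        exact ⟨Fin.natAdd c k, hrel⟩
      have h4 : (a' - rename eV a₁) * rename eV (tail (eτ.symm k)) ∈
          Ideal.span (Set.range rel) ^ 2 := by
        rw [pow_two]
        exact Ideal.mul_mem_mul hdiff htail
      have h5 : a' * rename eV (tail (eτ.symm k)) =
          rename eV a₁ * rename eV (tail (eτ.symm k)) +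
            (a' - rename eV a₁) * rename eV (tail (eτ.symm k)) := by ring
      rw [h5]
      exact Ideal.add_mem _ h2 (Ideal.mem_sup_right h4)

/-- Strictly standard elements are stable under multiplication. -/
theorem isStrictlyStandard_mul (a b : A) (ha : Smoothing.IsStrictlyStandard R A a) :
    Smoothing.IsStrictlyStandard R A (b * a) := by
  obtain ⟨P, hmem, hk⟩ := ha
  refine ⟨P, Ideal.mul_mem_left _ _ hmem, ?_⟩
  intro a'' ha'' j hj
  obtain ⟨b', hb'⟩ := P.surj b
  obtain ⟨a', ha'⟩ := P.surj a
  have h1 := hk a' ha' j hj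
  have hdiff : a'' - b' * a' ∈ Ideal.span (Set.range P.rel) := by
    rw [← P.ker_eq, RingHom.mem_ker]
    show P.hom (a'' - b' * a') = 0
    rw [map_sub, map_mul, ha'', hb', ha', sub_self]
  have hrel : P.rel j ∈ Ideal.span (Set.range P.rel) := Ideal.subset_span ⟨j, rfl⟩
  have h4 : (a'' - b' * a') * P.rel j ∈ Ideal.span (Set.range P.rel) ^ 2 := by
    rw [pow_two]
    exact Ideal.mul_mem_mul hdiff hrel
  have h5 : a'' * P.rel j = b' * (a' * P.rel j) + (a'' - b' * a') * P.rel j := by ring
  rw [h5]
  exact Ideal.add_mem _ (Ideal.mul_mem_left _ _ h1) (Ideal.mem_sup_right h4)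

/-- zero is strictly standard in a finitely presented algebra. -/
theorem isStrictlyStandard_zero [Algebra.FinitePresentation R A] :
    Smoothing.IsStrictlyStandard R A (0 : A) := by
  classical
  let P₀ := Algebra.Presentation.ofFinitePresentation R A
  refine isStrictlyStandard_of_data (c := 0) (Nat.zero_le _) (fun j => Fin.elim0 j)
    (fun t => P₀.relation t) (MvPolynomial.aeval P₀.val) ?_ ?_ 0 ?_ 0 (map_zero _) ?_
  · intro y
    obtain ⟨x, hx⟩ := P₀.algebraMap_surjective y
    exact ⟨x, (P₀.algebraMap_apply x).symm.trans hx⟩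
  · have : Set.range (fun j : Fin 0 => (Fin.elim0 j :
        MvPolynomial (Fin (Presentation.ofFinitePresentationVars R A)) R)) = ∅ := by
      ext x
      simp
    rw [this, Set.empty_union]
    have := P₀.span_range_relation_eq_ker
    rw [this]
    ext x
    rw [RingHom.mem_ker]
    show _ ↔ x ∈ RingHom.ker (algebraMap P₀.Ring A)
    rw [RingHom.mem_ker, P₀.algebraMap_apply]
    rfl
  · exact Ideal.zero_mem _
  · intro t
    rw [zero_mul]
    exact Ideal.zero_mem _

end Groth.Agent.Helper2.SStd
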