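import Mathlib

namespace Groth.Agent.Helper2.SymFree
open TensorProduct

universe u

theorem formallySmooth_away {A : Type u} [CommRing A] (N : Type u) [AddCommGroup N] [Module A N]
    (a : A) (S' : Type u) [CommRing S'] [Algebra A S'] [IsLocalization.Away a S']
    (Ca : Type u) [CommRing Ca] [Algebra (SymmetricAlgebra A N) Ca] [Algebra A Ca]
    [IsScalarTower A (SymmetricAlgebra A N) Ca]
    [IsLocalization.Away (algebraMap A (SymmetricAlgebra A N) a) Ca]
    [Module.Projective S' (S' ⊗[A] N)] : Algebra.FormallySmooth A Ca := by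
  refine Algebra.FormallySmooth.of_comp_surjective fun B _ _ I hI g => ?_
  have hu : IsUnit (algebraMap A B a) := by
    apply (IsNilpotent.isUnit_quotient_mk_iff ⟨2, hI⟩).mp
    have h1 : IsUnit (algebraMap A Ca a) := by
      rw [IsScalarTower.algebraMap_apply A (SymmetricAlgebra A N) Ca]
      exact IsLocalization.Away.algebraMap_isUnit _
    convert h1.map g
    simp
  letI algS'B : Algebra S' B := (IsLocalization.Away.lift a hu).toAlgebra
  haveI : IsScalarTower A S' B :=
    IsScalarTower.of_algebraMap_eq fun x => (IsLocalization.Away.lift_eq a hu x).symm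
  let φ : N →ₗ[A] B ⧸ I := g.toLinearMap ∘ₗ
    (IsScalarTower.toAlgHom A (SymmetricAlgebra A N) Ca).toLinearMap ∘ₗ SymmetricAlgebra.ι A N
  let φa : S' ⊗[A] N →ₗ[S'] B ⧸ I := LinearMap.liftBaseChange S' φ
  let q : B →ₗ[S'] B ⧸ I := (Ideal.Quotient.mkₐ S' I).toLinearMap
  obtain ⟨ha, hha⟩ := Module.projective_lifting_property q φa Ideal.Quotient.mk_surjective
  let h : N →ₗ[A] B := (ha.restrictScalars A) ∘ₗ (TensorProduct.mk A S' N 1)
  let F : SymmetricAlgebra A N →ₐ[A] B := SymmetricAlgebra.lift h
  have hF : IsUnit (F (algebraMap A _ a)) := by rw [AlgHom.commutes]; exact hu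
  let f : Ca →ₐ[A] B :=
    { IsLocalization.Away.lift _ hF with
      commutes' := fun r => by
        rw [IsScalarTower.algebraMap_apply A (SymmetricAlgebra A N) Ca]
        simp [IsLocalization.Away.lift_eq] }
  refine ⟨f, ?_⟩
  apply AlgHom.coe_ringHom_injective
  refine IsLocalization.ringHom_ext (Submonoid.powers (algebraMap A (SymmetricAlgebra A N) a)) ?_
  have key : ((Ideal.Quotient.mkₐ A I).comp f).comp
      (IsScalarTower.toAlgHom A (SymmetricAlgebra A N) Ca) =
      g.comp (IsScalarTower.toAlgHom A (SymmetricAlgebra A N) Ca) := by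
    apply SymmetricAlgebra.algHom_ext
    ext n
    have h1 : f (algebraMap (SymmetricAlgebra A N) Ca (SymmetricAlgebra.ι A N n)) = h n := by
      change IsLocalization.Away.lift _ hF _ = _
      rw [IsLocalization.Away.lift_eq]
      exact SymmetricAlgebra.lift_ι_apply _ _
    have h2 := congr($hha (1 ⊗ₜ n))
    change Ideal.Quotient.mk I (f (algebraMap _ Ca (SymmetricAlgebra.ι A N n))) =
      g (algebraMap _ Ca (SymmetricAlgebra.ι A N n))
    rw [h1]
    have h3 : φa (1 ⊗ₜ[A] n) = g (algebraMap _ Ca (SymmetricAlgebra.ι A N n)) := by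
      simp only [φa, LinearMap.liftBaseChange_tmul, one_smul]
      rfl
    rw [← h3, ← h2]
    rfl
  ext x
  exact congr($key x)

end Groth.Agent.Helper2.SymFree
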