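import Mathlib
import Groth.Agent.Helper2.SymFree1
import Groth.Agent.Helper2.SmoothLocLink
import Groth.Agent.Helper8.SymK
import Groth.Agent.Helper1.JZ

namespace Groth.Agent.Helper2.SymFree
open TensorProduct KaehlerDifferential

universe u

/-- For `A → T` formally smooth, `Ω[T/R]` splits as `T ⊗ Ω[A/R] × Ω[T/A]`. -/
theorem kaehler_split (R A T : Type u) [CommRing R] [CommRing A] [CommRing T] [Algebra R A]
    [Algebra A T] [Algebra R T] [IsScalarTower R A T] [Algebra.FormallySmooth A T] :
    Nonempty (Ω[T⁄R] ≃ₗ[T] (T ⊗[A] Ω[A⁄R]) × Ω[T⁄A]) := by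
  have hex := KaehlerDifferential.exact_mapBaseChange_map R A T
  have hsurj := KaehlerDifferential.map_surjective R A T
  have hinj := Groth.Agent.Helper1.JZ.injective_of_subsingleton_h1Cotangent R A T
  obtain ⟨s, hs⟩ := Module.projective_lifting_property (KaehlerDifferential.map R A T T)
    LinearMap.id hsurj
  exact ⟨(hex.splitSurjectiveEquiv hinj ⟨s, hs⟩).1⟩

/-- Differentials of a localization of the symmetric algebra. -/
theorem kaehler_sym_away {A : Type u} [CommRing A] (N : Type u) [AddCommGroup N] [Module A N]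
    (a : A) (Ca : Type u) [CommRing Ca] [Algebra (SymmetricAlgebra A N) Ca] [Algebra A Ca]
    [IsScalarTower A (SymmetricAlgebra A N) Ca]
    [IsLocalization.Away (algebraMap A (SymmetricAlgebra A N) a) Ca] :
    Nonempty (Ω[Ca⁄A] ≃ₗ[Ca] Ca ⊗[A] N) := by
  haveI : Algebra.FormallyEtale (SymmetricAlgebra A N) Ca :=
    Algebra.FormallyEtale.of_isLocalization
      (Submonoid.powers (algebraMap A (SymmetricAlgebra A N) a))
  let e1 := KaehlerDifferential.tensorKaehlerEquivOfFormallyEtale A (SymmetricAlgebra A N) Ca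
  let e2 : (SymmetricAlgebra A N) ⊗[A] N ≃ₗ[SymmetricAlgebra A N] Ω[SymmetricAlgebra A N⁄A] :=
    LinearEquiv.ofBijective _ (Groth.Agent.Helper8.SymK.s7237 A N)
  let e3 := TensorProduct.AlgebraTensorModule.cancelBaseChange A (SymmetricAlgebra A N) Ca Ca N
  exact ⟨e1.symm ≪≫ₗ
    (TensorProduct.AlgebraTensorModule.congr (LinearEquiv.refl Ca Ca) e2.symm) ≪≫ₗ e3⟩

/-- Freeness after base change along a map inverting `a`. -/
theorem free_of_away {A : Type u} [CommRing A] (a : A) (S' : Type u) [CommRing S'] [Algebra A S']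
    [IsLocalization.Away a S'] (T : Type u) [CommRing T] [Algebra A T]
    (hu : IsUnit (algebraMap A T a)) (X F : Type u) [AddCommGroup X] [Module A X]
    [AddCommGroup F] [Module A F] [Module.Free A F] (e : S' ⊗[A] X ≃ₗ[S'] S' ⊗[A] F) :
    Module.Free T (T ⊗[A] X) := by
  letI : Algebra S' T := (IsLocalization.Away.lift a hu).toAlgebra
  haveI : IsScalarTower A S' T :=
    IsScalarTower.of_algebraMap_eq fun x => (IsLocalization.Away.lift_eq a hu x).symm
  exact Module.Free.of_equiv
    ((TensorProduct.AlgebraTensorModule.congr (LinearEquiv.refl T T) e.symm) ≪≫ₗ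
      TensorProduct.AlgebraTensorModule.cancelBaseChange A S' T T X)

/-- From smoothness of `A_a`: projectivity of the localized conormal module and the splitting. -/
theorem conormal_split {R A : Type u} [CommRing R] [CommRing A] [Algebra R A]
    (E : Algebra.Extension.{u} R A) [Algebra.FormallySmooth R E.Ring]
    (a : A) (S' : Type u) [CommRing S'] [Algebra A S'] [IsLocalization.Away a S']
    [Algebra R S'] [IsScalarTower R A S'] [Algebra.FormallySmooth R S'] :
    Module.Projective S' (S' ⊗[A] E.Cotangent) ∧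
      Nonempty (S' ⊗[A] (Ω[A⁄R] × E.Cotangent) ≃ₗ[S'] S' ⊗[A] E.CotangentSpace) := by
  obtain ⟨l, hl⟩ := (SmoothLocLink.formallySmooth_localization_iff E S'
    (Submonoid.powers a)).mp inferInstance
  have hproj : Module.Projective S' (S' ⊗[A] E.CotangentSpace) := inferInstance
  refine ⟨Module.Projective.of_split (E.cotangentComplex.baseChange S') l hl, ?_⟩
  have hex0 : Function.Exact (E.cotangentComplex.baseChange S') (E.toKaehler.baseChange S') :=
    lTensor_exact S' E.exact_cotangentComplex_toKaehler E.toKaehler_surjective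
  have hsurj : Function.Surjective (E.toKaehler.baseChange S') :=
    LinearMap.lTensor_surjective S' E.toKaehler_surjective
  let e1 := (hex0.splitInjectiveEquiv hsurj ⟨l, hl⟩).1
  exact ⟨(TensorProduct.prodRight A S' S' Ω[A⁄R] E.Cotangent) ≪≫ₗ
    (LinearEquiv.prodComm S' _ _) ≪≫ₗ e1.symm⟩

end Groth.Agent.Helper2.SymFree
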