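import Mathlib
import Groth.Agent.Helper2.SymFree2
import Groth.Agent.Helper8.CauchyBinet

set_option autoImplicit false

namespace Groth.Agent.Helper2.SStd

open Function TensorProduct KaehlerDifferential Algebra

universe u

/-- Consequence of Cauchy–Binet: a matrix with a right inverse has maximal minors generating the
unit ideal. -/
theorem one_mem_span_minors {S : Type u} [CommRing S] {V : Type} [Fintype V] [DecidableEq V] {c : ℕ}
    (B : Matrix (Fin c) V S) (N : Matrix V (Fin c) S) (h : B * N = 1) :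
    (1 : S) ∈ Ideal.span (Set.range fun cols : Fin c → V => (B.submatrix id cols).det) := by
  classical
  let eV : V ≃ Fin (Fintype.card V) := Fintype.equivFin V
  let B₂ : Matrix (Fin c) (Fin (Fintype.card V)) S := B.submatrix id eV.symm
  let N₂ : Matrix (Fin (Fintype.card V)) (Fin c) S := N.submatrix eV.symm id
  have h2 : B₂ * N₂ = 1 := by
    rw [Matrix.submatrix_mul_equiv, h, Matrix.submatrix_id_id]
  have h3 := Groth.Agent.Helper8.CauchyBinet.cb c (Fintype.card V) B₂ N₂
  rw [h2, Matrix.det_one] at h3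
  rw [h3]
  refine Ideal.sum_mem _ fun s _ => Ideal.mul_mem_right _ _ (Ideal.subset_span ?_)
  exact ⟨fun k => eV.symm (s.1.orderEmbOfFin s.2 k), rfl⟩

section

variable {R A : Type u} [CommRing R] [CommRing A] [Algebra R A]
  {ι₀ : Type} [Fintype ι₀] [DecidableEq ι₀]
  (G : Algebra.Generators R A ι₀) (a : A)
  (S' : Type u) [CommRing S'] [Algebra A S'] [Algebra R S'] [IsScalarTower R A S']
  [IsLocalization.Away a S'] (q : ℕ)

/-- The ambient module: localized conormal module times a free module. -/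
abbrev XX : Type u := (S' ⊗[A] G.toExtension.Cotangent) × (Fin q → S')

/-- The basis of the base-changed cotangent space. -/
noncomputable def bF : Module.Basis ι₀ S' (S' ⊗[A] G.toExtension.CotangentSpace) :=
  G.cotangentSpaceBasis.baseChange S'

/-- The coordinate map. -/
noncomputable def DD : XX G S' q →ₗ[S'] (ι₀ ⊕ Fin q → S') :=
  (LinearEquiv.sumArrowLequivProdArrow ι₀ (Fin q) S' S').symm.toLinearMap ∘ₗ
    LinearMap.prodMap
      ((bF G S').equivFun.toLinearMap ∘ₗ G.toExtension.cotangentComplex.baseChange S')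
      LinearMap.id

lemma DD_inl (x : XX G S' q) (i : ι₀) :
    DD G S' q x (Sum.inl i) =
      (bF G S').repr (G.toExtension.cotangentComplex.baseChange S' x.1) i := by
  simp [DD, LinearEquiv.sumArrowLequivProdArrow]

lemma DD_inr (x : XX G S' q) (i : Fin q) : DD G S' q x (Sum.inr i) = x.2 i := by
  simp [DD, LinearEquiv.sumArrowLequivProdArrow]

variable [Algebra.FormallySmooth R S']

include a in
theorem exists_leftInverse_DD :
    ∃ Dinv : (ι₀ ⊕ Fin q → S') →ₗ[S'] XX G S' q, Dinv ∘ₗ DD G S' q = LinearMap.id := by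
  haveI : Algebra.FormallySmooth R G.toExtension.Ring :=
    inferInstanceAs (Algebra.FormallySmooth R (MvPolynomial ι₀ R))
  obtain ⟨l, hl⟩ := (SmoothLocLink.formallySmooth_localization_iff G.toExtension S'
    (Submonoid.powers a)).mp inferInstance
  refine ⟨LinearMap.prodMap (l ∘ₗ (bF G S').equivFun.symm.toLinearMap) LinearMap.id ∘ₗ
    (LinearEquiv.sumArrowLequivProdArrow ι₀ (Fin q) S' S').toLinearMap, ?_⟩
  apply LinearMap.ext
  intro x
  have h1 : l (G.toExtension.cotangentComplex.baseChange S' x.1) = x.1 := by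
    have := congrArg (fun f => f x.1) hl
    simpa using this
  simp only [DD, LinearMap.coe_comp, LinearEquiv.coe_coe, comp_apply, LinearEquiv.apply_symm_apply,
    LinearMap.prodMap_apply, LinearMap.id_coe, id_eq, LinearEquiv.symm_apply_apply, h1]

include a in
theorem free_XX (p : ℕ) (e : (Ω[S'⁄R] × (Fin p → S')) ≃ₗ[S'] (Fin q → S')) :
    Module.Free S' (XX G S' q) ∧ Module.Finite S' (XX G S' q) := by
  haveI : Algebra.FormallySmooth R G.toExtension.Ring :=
    inferInstanceAs (Algebra.FormallySmooth R (MvPolynomial ι₀ R))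
  obtain ⟨-, ⟨e1⟩⟩ := SymFree.conormal_split G.toExtension a S'
  haveI : Algebra.FormallyEtale A S' := Algebra.FormallyEtale.of_isLocalization (Submonoid.powers a)
  let tK := KaehlerDifferential.tensorKaehlerEquivOfFormallyEtale R A S'
  let E1 : XX G S' q ≃ₗ[S']
      (S' ⊗[A] G.toExtension.Cotangent) × (Ω[S'⁄R] × (Fin p → S')) :=
    LinearEquiv.prodCongr (LinearEquiv.refl _ _) e.symm
  let E2 : ((S' ⊗[A] G.toExtension.Cotangent) × (Ω[S'⁄R] × (Fin p → S'))) ≃ₗ[S']
      ((S' ⊗[A] G.toExtension.Cotangent) × Ω[S'⁄R]) × (Fin p → S') :=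
    (LinearEquiv.prodAssoc S' _ _ _).symm
  let E3 : ((S' ⊗[A] G.toExtension.Cotangent) × Ω[S'⁄R]) ≃ₗ[S']
      (S' ⊗[A] Ω[A⁄R]) × (S' ⊗[A] G.toExtension.Cotangent) :=
    (LinearEquiv.prodComm S' _ _) ≪≫ₗ LinearEquiv.prodCongr tK.symm (LinearEquiv.refl _ _)
  let E4 : ((S' ⊗[A] Ω[A⁄R]) × (S' ⊗[A] G.toExtension.Cotangent)) ≃ₗ[S']
      S' ⊗[A] G.toExtension.CotangentSpace :=
    (TensorProduct.prodRight A S' S' Ω[A⁄R] G.toExtension.Cotangent).symm ≪≫ₗ e1
  let EE : XX G S' q ≃ₗ[S'] (S' ⊗[A] G.toExtension.CotangentSpace) × (Fin p → S') :=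
    E1 ≪≫ₗ E2 ≪≫ₗ LinearEquiv.prodCongr (E3 ≪≫ₗ E4) (LinearEquiv.refl _ _)
  haveI : Module.Free S' (S' ⊗[A] G.toExtension.CotangentSpace) :=
    Module.Free.of_basis (bF G S')
  haveI : Module.Finite S' (S' ⊗[A] G.toExtension.CotangentSpace) :=
    Module.Finite.of_basis (bF G S')
  exact ⟨Module.Free.of_equiv EE.symm, Module.Finite.equiv EE.symm⟩

end

end Groth.Agent.Helper2.SStd
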