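import Mathlib

set_option autoImplicit false

namespace Groth.Agent.Helper2.SStd

open Function

universe u

section

variable {A : Type u} [CommRing A] (a : A)

/-- common denominators in a localized module at powers of `a`. -/
theorem exists_common_pow {M M' : Type*} [AddCommGroup M] [AddCommGroup M'] [Module A M]
    [Module A M'] (f : M →ₗ[A] M') [IsLocalizedModule (Submonoid.powers a) f]
    {J : Type*} [Finite J] (y : J → M') : ∃ N : ℕ, ∀ j, ∃ x : M, a ^ N • y j = f x := by
  classical
  cases nonempty_fintype J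
  have h1 : ∀ j, ∃ (n : ℕ) (x : M), a ^ n • y j = f x := by
    intro j
    obtain ⟨⟨x, s⟩, hs⟩ := IsLocalizedModule.surj (Submonoid.powers a) f (y j)
    obtain ⟨n, hn⟩ := s.2
    refine ⟨n, x, ?_⟩
    rw [← hs]
    show a ^ n • y j = (s : A) • y j
    rw [← hn]
  choose n x hx using h1
  refine ⟨∑ j, n j, fun j => ⟨a ^ (∑ j, n j - n j) • x j, ?_⟩⟩
  have hle : n j ≤ ∑ j, n j := Finset.single_le_sum (fun _ _ => Nat.zero_le _) (Finset.mem_univ j)
  rw [map_smul, ← hx j, smul_smul, ← pow_add, Nat.sub_add_cancel hle]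

variable (S' : Type u) [CommRing S'] [Algebra A S'] [IsLocalization.Away a S']

/-- Every element of the lattice is, up to a power of `a`, a combination of the lifted basis. -/
theorem exists_pow_smul_eq_sum {X₀ X : Type u} [AddCommGroup X₀] [Module A X₀] [AddCommGroup X]
    [Module A X] [Module S' X] [IsScalarTower A S' X]
    (L : X₀ →ₗ[A] X) [IsLocalizedModule (Submonoid.powers a) L]
    {c : ℕ} (b : Module.Basis (Fin c) S' X) (N : ℕ) (x : Fin c → X₀)
    (hx : ∀ j, a ^ N • b j = L (x j)) (xt : X₀) :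
    ∃ (Nt : ℕ) (r : Fin c → A), a ^ Nt • xt = ∑ j, r j • x j := by
  classical
  obtain ⟨N', hN'⟩ := exists_common_pow a (Algebra.linearMap A S') (fun j => b.repr (L xt) j)
  choose r hr using hN'
  have h1 : L (a ^ (N' + N) • xt) = L (∑ j, r j • x j) := by
    rw [map_smul, map_sum]
    conv_lhs => rw [← b.sum_repr (L xt)]
    rw [Finset.smul_sum]
    apply Finset.sum_congr rfl
    intro j _
    rw [map_smul, ← hx j, pow_add, mul_smul]
    have h2 : a ^ N' • (b.repr (L xt) j) = algebraMap A S' (r j) := hr j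
    rw [smul_comm (a ^ N) (b.repr (L xt) j) (b j), ← smul_assoc, h2, algebraMap_smul, smul_comm]
  obtain ⟨⟨_, N'', rfl⟩, hc⟩ := IsLocalizedModule.exists_of_eq (S := Submonoid.powers a) h1
  refine ⟨N'' + (N' + N), fun j => a ^ N'' * r j, ?_⟩
  rw [pow_add, mul_smul]
  have hc' : a ^ N'' • (a ^ (N' + N) • xt) = a ^ N'' • ∑ j, r j • x j := hc
  rw [hc', Finset.smul_sum]
  apply Finset.sum_congr rfl
  intro j _
  rw [mul_smul]

end

end Groth.Agent.Helper2.SStd
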