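import Mathlib
import Groth.Agent.Helper2.SStdA
import Groth.Agent.Helper2.SStdB
import Groth.Agent.Helper2.SStdC
import Groth.Agent.Helper2.SStdD

set_option autoImplicit false

namespace Groth.Agent.Helper2.SStd

open Function TensorProduct KaehlerDifferential Algebra MvPolynomial

universe u

section

variable {R A : Type u} [CommRing R] [CommRing A] [Algebra R A]
  {ι₀ : Type} [Fintype ι₀] [DecidableEq ι₀]
  (G : Algebra.Generators R A ι₀) (a : A)
  (S' : Type u) [CommRing S'] [Algebra A S'] [Algebra R S'] [IsScalarTower R A S']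
  [IsLocalization.Away a S'] (q : ℕ)

/-- The lattice. -/
abbrev XX₀ : Type u := G.toExtension.Cotangent × (Fin q → A)

/-- The localization map of the lattice. -/
noncomputable def LL : XX₀ G q →ₗ[A] XX G S' q :=
  (TensorProduct.mk A S' G.toExtension.Cotangent 1).prodMap
    (LinearMap.pi fun i => Algebra.linearMap A S' ∘ₗ LinearMap.proj i)

instance instLL : IsLocalizedModule (Submonoid.powers a) (LL G S' q) := by
  unfold LL
  infer_instance

/-- The lattice element attached to polynomial data. -/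
noncomputable def xOf (h : G.toExtension.ker) (w : Fin q → MvPolynomial ι₀ R) : XX₀ G q :=
  (Algebra.Extension.Cotangent.mk h, fun i => aeval G.val (w i))

lemma DD_LL_xOf (h : G.toExtension.ker) (w : Fin q → MvPolynomial ι₀ R) (v : ι₀ ⊕ Fin q) :
    DD G S' q (LL G S' q (xOf G q h w)) v =
      algebraMap A S' (φ₁ G.val q (pderiv v (GG q ((h : G.toExtension.Ring) : MvPolynomial ι₀ R) w))) := by
  rcases v with i | i
  · rw [DD_inl, φ₁_pderiv_inl]
    have h1 : (LL G S' q (xOf G q h w)).1 = (1 : S') ⊗ₜ[A] Algebra.Extension.Cotangent.mk h := rfl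
    rw [h1, LinearMap.baseChange_tmul, Algebra.Extension.cotangentComplex_mk, bF,
      Module.Basis.baseChange_repr_tmul, Algebra.Generators.cotangentSpaceBasis_repr_one_tmul,
      Algebra.smul_def, mul_one]
  · rw [DD_inr, φ₁_pderiv_inr]
    rfl

/-- Polynomial translation of a relation in the lattice. -/
theorem poly_of_lattice_rel {c : ℕ} (at' : MvPolynomial ι₀ R) (hat : aeval G.val at' = a)
    (h : Fin c → G.toExtension.ker) (wt : Fin c → Fin q → MvPolynomial ι₀ R)
    (u₀ : G.toExtension.ker) (ut : Fin q → MvPolynomial ι₀ R) (Nt : ℕ) (r : Fin c → A)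
    (hrel : a ^ Nt • xOf G q u₀ ut = ∑ j, r j • xOf G q (h j) (wt j)) :
    ∃ rt : Fin c → MvPolynomial ι₀ R,
      (rename Sum.inl at') ^ Nt * GG q ((u₀ : G.toExtension.Ring) : MvPolynomial ι₀ R) ut -
        ∑ j, rename Sum.inl (rt j) * GG q ((h j : G.toExtension.Ring) : MvPolynomial ι₀ R) (wt j) ∈
      RingHom.ker (φ₁ (R := R) G.val q).toRingHom ^ 2 := by
  classical
  have hsurj : ∀ y : A, ∃ x : MvPolynomial ι₀ R, aeval G.val x = y := by
    intro y
    obtain ⟨x, hx⟩ := G.algebraMap_surjective y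
    exact ⟨x, (G.algebraMap_apply x).symm.trans hx⟩
  choose rt hrt using fun j => hsurj (r j)
  refine ⟨rt, ?_⟩
  -- the kernel element
  let toE : MvPolynomial ι₀ R → G.toExtension.Ring := fun x => x
  let z₀ : G.toExtension.ker := toE (at' ^ Nt) • u₀ - ∑ j, toE (rt j) • h j
  let zw : Fin q → MvPolynomial ι₀ R := fun i => at' ^ Nt * ut i - ∑ j, rt j * wt j i
  have hmk : ∀ (ρ : G.toExtension.Ring) (y : G.toExtension.ker),
      Algebra.Extension.Cotangent.mk (ρ • y) =
        (algebraMap G.toExtension.Ring A ρ) • Algebra.Extension.Cotangent.mk y := by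
    intro ρ y
    rw [map_smul, algebraMap_smul]
  have hz₀ : Algebra.Extension.Cotangent.mk z₀ = 0 := by
    have h1 := congrArg Prod.fst hrel
    simp only [xOf, Prod.smul_fst, Prod.fst_sum] at h1
    show Algebra.Extension.Cotangent.mk (toE (at' ^ Nt) • u₀ - ∑ j, toE (rt j) • h j) = 0
    rw [map_sub, map_sum, hmk]
    simp_rw [hmk]
    have e1 : algebraMap G.toExtension.Ring A (toE (at' ^ Nt)) = a ^ Nt := by
      rw [← hat, ← map_pow]
      exact G.algebraMap_apply (at' ^ Nt)
    have e2 : ∀ j, algebraMap G.toExtension.Ring A (toE (rt j)) = r j := fun j =>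
      (G.algebraMap_apply (rt j)).trans (hrt j)
    rw [e1]
    simp_rw [e2]
    rw [h1, sub_self]
  have hz₀' : ((z₀ : G.toExtension.Ring) : MvPolynomial ι₀ R) ∈
      (RingHom.ker (aeval (R := R) G.val).toRingHom) ^ 2 := by
    have := (Algebra.Extension.Cotangent.mk_eq_zero_iff z₀).1 hz₀
    have hk : G.toExtension.ker = RingHom.ker (aeval (R := R) G.val).toRingHom := by
      have := G.ker_eq_ker_aeval_val
      exact this
    rw [← hk]
    exact this
  have hzw : ∀ i, zw i ∈ RingHom.ker (aeval (R := R) G.val).toRingHom := by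
    intro i
    rw [RingHom.mem_ker]
    show aeval G.val (at' ^ Nt * ut i - ∑ j, rt j * wt j i) = 0
    have h2 := congrFun (congrArg Prod.snd hrel) i
    simp only [xOf, Prod.smul_snd, Prod.snd_sum, Pi.smul_apply, Finset.sum_apply, smul_eq_mul] at h2
    rw [map_sub, map_mul, map_pow, hat, map_sum]
    simp_rw [map_mul, hrt]
    rw [h2, sub_self]
  have hmem := GG_mem_sq (R := R) q (RingHom.ker (aeval (R := R) G.val).toRingHom)
    (RingHom.ker (φ₁ (R := R) G.val q).toRingHom)
    (fun x hx => by
      rw [RingHom.mem_ker] at hx ⊢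
      show φ₁ G.val q (rename Sum.inl x) = 0
      rw [φ₁_rename]
      exact hx)
    (fun i => by
      rw [RingHom.mem_ker]
      exact φ₁_X_inr G.val q i)
    ((z₀ : G.toExtension.Ring) : MvPolynomial ι₀ R) zw hz₀' hzw
  let ofE : G.toExtension.Ring → MvPolynomial ι₀ R := fun x => x
  have hz₀val : ofE (z₀ : G.toExtension.Ring) =
      at' ^ Nt * ofE (u₀ : G.toExtension.Ring) -
        ∑ j, rt j * ofE (h j : G.toExtension.Ring) := by
    show (((toE (at' ^ Nt) • u₀ - ∑ j, toE (rt j) • h j : G.toExtension.ker) :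
      G.toExtension.Ring)) = _
    rw [Submodule.coe_sub, Submodule.coe_sum]
    rfl
  have hzwfun : zw = (fun i => at' ^ Nt * ut i) - (fun i => ∑ j, rt j * wt j i) := rfl
  change GG q (ofE (z₀ : G.toExtension.Ring)) zw ∈ _ at hmem
  rw [hz₀val, hzwfun, GG_sub, GG_smul, GG_sum] at hmem
  simp_rw [GG_smul] at hmem
  rw [map_pow] at hmem
  exact hmem

end

end Groth.Agent.Helper2.SStd
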