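import Mathlib
import Groth.Agent.Helper2.SStdE

set_option autoImplicit false

namespace Groth.Agent.Helper2.SStd

open Function TensorProduct KaehlerDifferential Algebra MvPolynomial

universe u

set_option maxHeartbeats 1600000 in
theorem main {R A : Type u} [CommRing R] [CommRing A] [Algebra R A]
    [Algebra.FinitePresentation R A] (a : A) [Algebra.Smooth R (Localization.Away a)] (p q : ℕ)
    (e : (Ω[Localization.Away a⁄R] × (Fin p → Localization.Away a)) ≃ₗ[Localization.Away a]
      (Fin q → Localization.Away a)) :
    ∃ e₀ : ℕ, ∀ n : ℕ, e₀ ≤ n → Smoothing.IsStrictlyStandard R A (a ^ n) := by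
  classical
  by_cases hS : Subsingleton (Localization.Away a)
  · obtain ⟨N, hN⟩ : ∃ N : ℕ, a ^ N = 0 := by
      have h0 := (IsLocalization.subsingleton_iff (M := Submonoid.powers a)
        (S := Localization.Away a)).1 hS
      obtain ⟨N, hN⟩ := h0
      exact ⟨N, hN⟩
    refine ⟨N, fun n hn => ?_⟩
    have : a ^ n = 0 := by
      rw [← Nat.sub_add_cancel hn, pow_add, hN, mul_zero]
    rw [this]
    exact isStrictlyStandard_zero
  · haveI : Nontrivial (Localization.Away a) := not_subsingleton_iff_nontrivial.1 hS
    let P₀ := Algebra.Presentation.ofFinitePresentation R A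
    let G : Algebra.Generators R A (Fin (Presentation.ofFinitePresentationVars R A)) :=
      P₀.toGenerators
    haveI : Algebra.FormallySmooth R (Localization.Away a) := inferInstance
    obtain ⟨hfree, hfin⟩ := free_XX G a (Localization.Away a) q p e
    let b₀ := Module.Free.chooseBasis (Localization.Away a) (XX G (Localization.Away a) q)
    let c := Fintype.card (Module.Free.ChooseBasisIndex (Localization.Away a)
      (XX G (Localization.Away a) q))
    let b : Module.Basis (Fin c) (Localization.Away a) (XX G (Localization.Away a) q) :=
      b₀.reindex (Fintype.equivFin _)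
    obtain ⟨Dinv, hDinv⟩ := exists_leftInverse_DD G a (Localization.Away a) q
    have hDinv' : ∀ x, Dinv (DD G (Localization.Away a) q x) = x := fun x => by
      have := congrArg (fun f => f x) hDinv
      simpa using this
    -- lifts of the basis
    obtain ⟨N, hN⟩ := exists_common_pow a (LL G (Localization.Away a) q) (fun j => b j)
    choose x hx using hN
    have hxform : ∀ j, ∃ (h : G.toExtension.ker)
        (wt : Fin q → MvPolynomial (Fin (Presentation.ofFinitePresentationVars R A)) R),
        x j = xOf G q h wt := by
      intro j
      obtain ⟨h, hh⟩ := Algebra.Extension.Cotangent.mk_surjective (x j).1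
      have hsurj : ∀ y : A, ∃ z : MvPolynomial (Fin (Presentation.ofFinitePresentationVars R A)) R,
          aeval G.val z = y := by
        intro y
        obtain ⟨z, hz⟩ := G.algebraMap_surjective y
        exact ⟨z, (G.algebraMap_apply z).symm.trans hz⟩
      choose wt hwt using fun i => hsurj ((x j).2 i)
      refine ⟨h, wt, ?_⟩
      apply Prod.ext
      · exact hh.symm
      · funext i
        exact (hwt i).symm
    choose h wt hxj using hxform
    obtain ⟨at', hat⟩ : ∃ z : MvPolynomial (Fin (Presentation.ofFinitePresentationVars R A)) R,
        aeval G.val z = a := by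
      obtain ⟨z, hz⟩ := G.algebraMap_surjective a
      exact ⟨z, (G.algebraMap_apply z).symm.trans hz⟩
    -- the leading relations
    let lead : Fin c → MvPolynomial (Fin (Presentation.ofFinitePresentationVars R A) ⊕ Fin q) R :=
      fun j => GG q ((h j : G.toExtension.Ring) :
        MvPolynomial (Fin (Presentation.ofFinitePresentationVars R A)) R) (wt j)
    -- tail data
    let tail₀ : Fin (Presentation.ofFinitePresentationRels R A) ⊕ Fin q → G.toExtension.ker :=
      Sum.elim (fun k => ⟨P₀.relation k, P₀.relation_mem_ker k⟩) (fun _ => 0)
    let tailw : Fin (Presentation.ofFinitePresentationRels R A) ⊕ Fin q → Fin q →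
        MvPolynomial (Fin (Presentation.ofFinitePresentationVars R A)) R :=
      Sum.elim (fun _ _ => 0) (fun i₀ i => if i = i₀ then 1 else 0)
    let tail : Fin (Presentation.ofFinitePresentationRels R A) ⊕ Fin q →
        MvPolynomial (Fin (Presentation.ofFinitePresentationVars R A) ⊕ Fin q) R :=
      fun t => GG q ((tail₀ t : G.toExtension.Ring) :
        MvPolynomial (Fin (Presentation.ofFinitePresentationVars R A)) R) (tailw t)
    have htail_inl : ∀ k, tail (Sum.inl k) = rename Sum.inl (P₀.relation k) := by
      intro k
      exact GG_zero_right q _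
    have htail_inr : ∀ i, tail (Sum.inr i) = X (Sum.inr i) := by
      intro i
      exact GG_zero_single q i
    -- kernel
    have hker₀ : RingHom.ker (aeval (R := R) G.val).toRingHom =
        Ideal.span (Set.range P₀.relation) := by
      rw [P₀.span_range_relation_eq_ker]
      exact G.ker_eq_ker_aeval_val.symm
    have hker₁ := ker_φ₁ (R := R) G.val q P₀.relation hker₀
    have hrange_tail : Set.range tail =
        Set.range (fun k => rename Sum.inl (P₀.relation k)) ∪
        Set.range (fun i : Fin q => (X (Sum.inr i) :
          MvPolynomial (Fin (Presentation.ofFinitePresentationVars R A) ⊕ Fin q) R)) := by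
      ext y
      constructor
      · rintro ⟨t, rfl⟩
        rcases t with k | i
        · exact Or.inl ⟨k, (htail_inl k).symm⟩
        · exact Or.inr ⟨i, (htail_inr i).symm⟩
      · rintro (⟨k, rfl⟩ | ⟨i, rfl⟩)
        · exact ⟨Sum.inl k, htail_inl k⟩
        · exact ⟨Sum.inr i, htail_inr i⟩
    have hlead_mem : ∀ j, lead j ∈ RingHom.ker (φ₁ (R := R) G.val q).toRingHom := by
      intro j
      rw [RingHom.mem_ker]
      show φ₁ G.val q (GG q _ (wt j)) = 0
      rw [φ₁_GG]
      exact G.aeval_val_eq_zero (h j).2
    have hker : RingHom.ker (φ₁ (R := R) G.val q).toRingHom =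
        Ideal.span (Set.range lead ∪ Set.range tail) := by
      apply le_antisymm
      · rw [hker₁, ← hrange_tail]
        exact Ideal.span_mono Set.subset_union_right
      · rw [Ideal.span_le]
        rintro y (⟨j, rfl⟩ | hy)
        · exact hlead_mem j
        · rw [hker₁, ← hrange_tail]
          exact Ideal.subset_span hy
    -- kill conditions
    have hkill : ∀ t, ∃ Nt : ℕ, (rename Sum.inl at') ^ Nt * tail t ∈
        Ideal.span (Set.range lead) ⊔ (Ideal.span (Set.range lead ∪ Set.range tail)) ^ 2 := by
      intro t
      obtain ⟨Nt, r, hrel⟩ := exists_pow_smul_eq_sum a (Localization.Away a)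
        (LL G (Localization.Away a) q) b N x hx (xOf G q (tail₀ t) (tailw t))
      simp_rw [hxj] at hrel
      obtain ⟨rt, hrt⟩ := poly_of_lattice_rel G a q at' hat h wt (tail₀ t) (tailw t) Nt r hrel
      refine ⟨Nt, ?_⟩
      rw [← hker]
      have hsum : ∑ j, rename Sum.inl (rt j) * lead j ∈ Ideal.span (Set.range lead) :=
        Ideal.sum_mem _ fun j _ => Ideal.mul_mem_left _ _ (Ideal.subset_span ⟨j, rfl⟩)
      have heq : (rename Sum.inl at') ^ Nt * tail t =
          ∑ j, rename Sum.inl (rt j) * lead j +
            ((rename Sum.inl at') ^ Nt * tail t - ∑ j, rename Sum.inl (rt j) * lead j) := by ring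
      rw [heq]
      exact Ideal.add_mem _ (Ideal.mem_sup_left hsum) (Ideal.mem_sup_right hrt)
    choose Nt hNt using hkill
    -- the matrices
    let Bmat : Matrix (Fin c) (Fin (Presentation.ofFinitePresentationVars R A) ⊕ Fin q)
        (Localization.Away a) := fun j v => DD G (Localization.Away a) q (b j) v
    let Nmat : Matrix (Fin (Presentation.ofFinitePresentationVars R A) ⊕ Fin q) (Fin c)
        (Localization.Away a) := fun v j => b.repr (Dinv (Pi.single v 1)) j
    have hBN : Bmat * Nmat = 1 := by
      ext j j'
      rw [Matrix.mul_apply]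
      have h1 : ∑ v, Bmat j v * Nmat v j' =
          b.repr (Dinv (∑ v, Bmat j v • Pi.single v (1 : Localization.Away a))) j' := by
        rw [map_sum, map_sum, Finsupp.finset_sum_apply]
        apply Finset.sum_congr rfl
        intro v _
        rw [map_smul, map_smul, Finsupp.smul_apply, smul_eq_mul]
      have h2 : ∑ v, Bmat j v • Pi.single v (1 : Localization.Away a) =
          DD G (Localization.Away a) q (b j) := by
        funext v
        rw [Finset.sum_apply, Finset.sum_eq_single v]
        · simp [Bmat]
        · intro v' _ hv'
          simp [Pi.single_apply, hv'.symm]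
        · intro hh
          exact absurd (Finset.mem_univ _) hh
      rw [h1, h2, hDinv', Module.Basis.repr_self, Matrix.one_apply, Finsupp.single_apply]
    have h1mem := one_mem_span_minors Bmat Nmat hBN
    -- c ≤ card V
    have hcV : c ≤ Fintype.card (Fin (Presentation.ofFinitePresentationVars R A) ⊕ Fin q) := by
      have hinj : Injective ((DD G (Localization.Away a) q) ∘ₗ b.equivFun.symm.toLinearMap) := by
        intro y y' hyy
        have := congrArg Dinv hyy
        simp only [LinearMap.coe_comp, LinearEquiv.coe_coe, comp_apply, hDinv'] at this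
        exact b.equivFun.symm.injective this
      have := card_le_of_injective (R := Localization.Away a) _ hinj
      simpa using this
    -- the Jacobian over A
    let Jmat : Matrix (Fin c) (Fin (Presentation.ofFinitePresentationVars R A) ⊕ Fin q) A :=
      fun j v => φ₁ G.val q (pderiv v (lead j))
    have hJ : ∀ j v, algebraMap A (Localization.Away a) (Jmat j v) =
        algebraMap A (Localization.Away a) (a ^ N) * Bmat j v := by
      intro j v
      have h1 := DD_LL_xOf G (Localization.Away a) q (h j) (wt j) v
      rw [← hxj j, ← hx j] at h1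
      show algebraMap A (Localization.Away a) (φ₁ G.val q (pderiv v (lead j))) = _
      rw [← h1, ← algebraMap_smul (Localization.Away a) (a ^ N) (b j), map_smul]
      rfl
    have hminor : ∀ cols : Fin c → Fin (Presentation.ofFinitePresentationVars R A) ⊕ Fin q,
        algebraMap A (Localization.Away a) ((Jmat.submatrix id cols).det) =
          algebraMap A (Localization.Away a) (a ^ N) ^ c * (Bmat.submatrix id cols).det := by
      intro cols
      rw [RingHom.map_det]
      have : (algebraMap A (Localization.Away a)).mapMatrix (Jmat.submatrix id cols) =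
          algebraMap A (Localization.Away a) (a ^ N) • (Bmat.submatrix id cols) := by
        ext j k
        simp only [RingHom.mapMatrix_apply, Matrix.map_apply, Matrix.submatrix_apply, id_eq,
          Matrix.smul_apply, smul_eq_mul]
        exact hJ j (cols k)
      rw [this, Matrix.det_smul, Fintype.card_fin]
    have hmin : ∃ Nm : ℕ, a ^ Nm ∈ Ideal.span (Set.range fun cols :
        Fin c → Fin (Presentation.ofFinitePresentationVars R A) ⊕ Fin q =>
        (Jmat.submatrix id cols).det) := by
      have h2 : algebraMap A (Localization.Away a) (a ^ N) ^ c ∈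
          Ideal.map (algebraMap A (Localization.Away a)) (Ideal.span (Set.range fun cols :
            Fin c → Fin (Presentation.ofFinitePresentationVars R A) ⊕ Fin q =>
            (Jmat.submatrix id cols).det)) := by
        rw [Ideal.map_span]
        have h3 : algebraMap A (Localization.Away a) (a ^ N) ^ c =
            algebraMap A (Localization.Away a) (a ^ N) ^ c * 1 := (mul_one _).symm
        rw [h3]
        refine Submodule.span_induction (p := fun z _ =>
          algebraMap A (Localization.Away a) (a ^ N) ^ c * z ∈ Ideal.span _) ?_ ?_ ?_ ?_ h1mem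
        · rintro _ ⟨cols, rfl⟩
          apply Ideal.subset_span
          exact ⟨_, ⟨cols, rfl⟩, hminor cols⟩
        · rw [mul_zero]
          exact Ideal.zero_mem _
        · intro y y' _ _ hy hy'
          rw [mul_add]
          exact Ideal.add_mem _ hy hy'
        · intro s y _ hy
          rw [smul_eq_mul, mul_left_comm]
          exact Ideal.mul_mem_left _ _ hy
      rw [← map_pow] at h2
      obtain ⟨⟨⟨y, hy⟩, ⟨_, k, rfl⟩⟩, hys⟩ := (IsLocalization.mem_map_algebraMap_iff
        (Submonoid.powers a) (Localization.Away a)).1 h2
      simp only at hys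
      rw [← map_mul] at hys
      obtain ⟨⟨_, l, rfl⟩, hl⟩ := (IsLocalization.eq_iff_exists (Submonoid.powers a)
        (Localization.Away a)).1 hys
      simp only at hl
      refine ⟨l + (N * c + k), ?_⟩
      have : a ^ (l + (N * c + k)) = a ^ l * y := by
        rw [← hl]
        ring
      rw [this]
      exact Ideal.mul_mem_left _ _ hy
    obtain ⟨Nm, hNm⟩ := hmin
    refine ⟨Nm + ∑ t, Nt t, fun n hn => ?_⟩
    have hval : Surjective (aeval (R := R) G.val) := by
      intro y
      obtain ⟨z, hz⟩ := G.algebraMap_surjective y
      exact ⟨z, (G.algebraMap_apply z).symm.trans hz⟩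
    refine isStrictlyStandard_of_data hcV lead tail (φ₁ (R := R) G.val q)
      (φ₁_surjective G.val q hval) hker (a ^ n) ?_ ((rename Sum.inl at') ^ n) ?_ ?_
    · have hle : Nm ≤ n := le_trans (Nat.le_add_right _ _) hn
      have h1 : a ^ n = a ^ (n - Nm) * a ^ Nm := by
        rw [← pow_add, Nat.sub_add_cancel hle]
      rw [h1]
      refine Ideal.mul_mem_left _ _ ?_
      have heq : (fun cols : Fin c → Fin (Presentation.ofFinitePresentationVars R A) ⊕ Fin q =>
          φ₁ (R := R) G.val q (Matrix.det (Matrix.of fun j k : Fin c =>
            pderiv (cols k) (lead j)))) =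
          fun cols => (Jmat.submatrix id cols).det := by
        funext cols
        rw [AlgHom.map_det]
        congr 1
      rw [heq]
      exact hNm
    · rw [map_pow, φ₁_rename, hat]
    · intro t
      have hle : Nt t ≤ n := by
        have h1 : Nt t ≤ ∑ t, Nt t :=
          Finset.single_le_sum (fun _ _ => Nat.zero_le _) (Finset.mem_univ t)
        omega
      have h1 : (rename Sum.inl at') ^ n * tail t =
          (rename Sum.inl at') ^ (n - Nt t) * ((rename Sum.inl at') ^ Nt t * tail t) := by
        rw [← mul_assoc, ← pow_add, Nat.sub_add_cancel hle]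
      rw [h1]
      exact Ideal.mul_mem_left _ _ (hNt t)

end Groth.Agent.Helper2.SStd
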