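import Mathlib
import Groth.Agent.Helper2.SymFree2

namespace Groth.Agent.Helper2.SymFree
open TensorProduct KaehlerDifferential

universe u

/-- Main: if `A_a` is formally smooth over `R`, then the differentials of `Sym_A(I/I²)_a` over
`R` are free. -/
theorem main {R A : Type u} [CommRing R] [CommRing A] [Algebra R A]
    (E : Algebra.Extension.{u} R A) [Algebra.FormallySmooth R E.Ring]
    [Module.Free A E.CotangentSpace]
    (a : A) (S' : Type u) [CommRing S'] [Algebra A S'] [IsLocalization.Away a S']
    [Algebra R S'] [IsScalarTower R A S'] [Algebra.FormallySmooth R S']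
    (Ca : Type u) [CommRing Ca] [Algebra (SymmetricAlgebra A E.Cotangent) Ca] [Algebra A Ca]
    [IsScalarTower A (SymmetricAlgebra A E.Cotangent) Ca]
    [IsLocalization.Away (algebraMap A (SymmetricAlgebra A E.Cotangent) a) Ca]
    [Algebra R Ca] [IsScalarTower R A Ca] :
    Module.Free Ca Ω[Ca⁄R] := by
  obtain ⟨hproj, ⟨eS⟩⟩ := conormal_split E a S'
  haveI := hproj
  haveI : Algebra.FormallySmooth A Ca := formallySmooth_away E.Cotangent a S' Ca
  obtain ⟨e1⟩ := kaehler_split R A Ca
  obtain ⟨e2⟩ := kaehler_sym_away E.Cotangent a Ca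
  have hu : IsUnit (algebraMap A Ca a) := by
    rw [IsScalarTower.algebraMap_apply A (SymmetricAlgebra A E.Cotangent) Ca]
    exact IsLocalization.Away.algebraMap_isUnit _
  haveI := free_of_away a S' Ca hu (Ω[A⁄R] × E.Cotangent) E.CotangentSpace eS
  exact Module.Free.of_equiv
    ((TensorProduct.prodRight A Ca Ca Ω[A⁄R] E.Cotangent) ≪≫ₗ
      (LinearEquiv.prodCongr (LinearEquiv.refl Ca _) e2.symm) ≪≫ₗ e1.symm)

theorem sym_finiteType {A N : Type u} [CommRing A] [AddCommGroup N] [Module A N]
    [Module.Finite A N] : Algebra.FiniteType A (SymmetricAlgebra A N) := by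
  classical
  obtain ⟨s, hs⟩ := (Module.finite_def.mp (inferInstance : Module.Finite A N))
  refine ⟨⟨s.image (SymmetricAlgebra.ι A N), ?_⟩⟩
  rw [eq_top_iff]
  intro x _
  induction x using SymmetricAlgebra.induction with
  | algebraMap r => exact Subalgebra.algebraMap_mem _ r
  | ι m =>
    have hm : m ∈ Submodule.span A (s : Set N) := by rw [hs]; trivial
    refine Submodule.span_induction (p := fun m _ => SymmetricAlgebra.ι A N m ∈
      Algebra.adjoin A ((s.image (SymmetricAlgebra.ι A N) : Finset _) :
        Set (SymmetricAlgebra A N))) ?_ ?_ ?_ ?_ hm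
    · intro y hy
      exact Algebra.subset_adjoin (by
        rw [Finset.coe_image]; exact ⟨y, hy, rfl⟩)
    · rw [map_zero]; exact Subalgebra.zero_mem _
    · intro a b _ _ ha hb
      rw [map_add]; exact Subalgebra.add_mem _ ha hb
    · intro c a _ ha
      rw [map_smul]; exact Subalgebra.smul_mem _ ha c
  | mul a b ha hb => exact Subalgebra.mul_mem _ (ha trivial) (hb trivial)
  | add a b ha hb => exact Subalgebra.add_mem _ (ha trivial) (hb trivial)

end Groth.Agent.Helper2.SymFree
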