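import Mathlib
import Groth.Agent.Helper2.SymFree3

set_option autoImplicit false

namespace Groth.Agent.Helper2.Sep

open Function TensorProduct KaehlerDifferential

universe u

set_option maxHeartbeats 800000 in
/-- Strengthened retract lemma: the symmetric algebra on the conormal module is smooth with free
differentials over every smooth basic open. -/
theorem exists_retract_smooth_free {R B : Type u} [CommRing R] [IsNoetherianRing R] [CommRing B]
    [Algebra R B] [Algebra.FinitePresentation R B] :
    ∃ (C : Type u) (_ : CommRing C) (_ : Algebra B C) (_ : Algebra R C) (_ : IsScalarTower R B C),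
      Algebra.FinitePresentation R C ∧ Nonempty (C →ₐ[B] B) ∧
      ∀ b : B, Algebra.Smooth R (Localization.Away b) →
        Algebra.Smooth R (Localization.Away (algebraMap B C b)) ∧
        Module.Free (Localization.Away (algebraMap B C b))
          Ω[Localization.Away (algebraMap B C b)⁄R] := by
  classical
  let P := Algebra.Presentation.ofFinitePresentation R B
  let E : Algebra.Extension.{u} R B := P.toExtension
  haveI : Algebra.FormallySmooth R E.Ring :=
    inferInstanceAs (Algebra.FormallySmooth R (MvPolynomial _ R))
  haveI : Module.Free B E.CotangentSpace := Module.Free.of_basis P.cotangentSpaceBasis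
  haveI : Module.Finite B E.Cotangent := Algebra.Extension.Cotangent.finite P.fg_ker
  letI algRC : Algebra R (SymmetricAlgebra B E.Cotangent) :=
    ((algebraMap B (SymmetricAlgebra B E.Cotangent)).comp (algebraMap R B)).toAlgebra
  haveI tow := @IsScalarTower.of_algebraMap_eq R B (SymmetricAlgebra B E.Cotangent) _ _ _ _ _ algRC
    (fun _ => rfl)
  haveI hftBC : Algebra.FiniteType B (SymmetricAlgebra B E.Cotangent) :=
    Groth.Agent.Helper2.SymFree.sym_finiteType
  haveI hftRB : Algebra.FiniteType R B := inferInstance
  haveI hftRC : Algebra.FiniteType R (SymmetricAlgebra B E.Cotangent) :=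
    Algebra.FiniteType.trans hftRB hftBC
  haveI hfpRC : Algebra.FinitePresentation R (SymmetricAlgebra B E.Cotangent) :=
    Algebra.FinitePresentation.of_finiteType.mp hftRC
  refine ⟨SymmetricAlgebra B E.Cotangent, inferInstance, inferInstance, algRC, tow,
    hfpRC, ⟨SymmetricAlgebra.algebraMapInv⟩, ?_⟩
  intro b hsm
  haveI := hsm
  haveI towL : IsScalarTower R B
      (Localization.Away (algebraMap B (SymmetricAlgebra B E.Cotangent) b)) := by
    refine IsScalarTower.of_algebraMap_eq fun x => ?_
    rw [IsScalarTower.algebraMap_apply R (SymmetricAlgebra B E.Cotangent)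
        (Localization.Away (algebraMap B (SymmetricAlgebra B E.Cotangent) b)),
      IsScalarTower.algebraMap_apply B (SymmetricAlgebra B E.Cotangent)
        (Localization.Away (algebraMap B (SymmetricAlgebra B E.Cotangent) b)),
      ← IsScalarTower.algebraMap_apply R B (SymmetricAlgebra B E.Cotangent)]
  refine ⟨?_, Groth.Agent.Helper2.SymFree.main E b (Localization.Away b) _⟩
  -- smoothness
  obtain ⟨hproj, -⟩ := Groth.Agent.Helper2.SymFree.conormal_split E b (Localization.Away b)
  haveI := hproj
  haveI hfsB : Algebra.FormallySmooth B
      (Localization.Away (algebraMap B (SymmetricAlgebra B E.Cotangent) b)) :=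
    Groth.Agent.Helper2.SymFree.formallySmooth_away E.Cotangent b (Localization.Away b) _
  have hunit : IsUnit (algebraMap B
      (Localization.Away (algebraMap B (SymmetricAlgebra B E.Cotangent) b)) b) := by
    rw [IsScalarTower.algebraMap_apply B (SymmetricAlgebra B E.Cotangent)
      (Localization.Away (algebraMap B (SymmetricAlgebra B E.Cotangent) b))]
    exact IsLocalization.Away.algebraMap_isUnit _
  letI alg' : Algebra (Localization.Away b)
      (Localization.Away (algebraMap B (SymmetricAlgebra B E.Cotangent) b)) :=
    (IsLocalization.Away.lift b hunit).toAlgebra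
  haveI tow1 : IsScalarTower B (Localization.Away b)
      (Localization.Away (algebraMap B (SymmetricAlgebra B E.Cotangent) b)) :=
    IsScalarTower.of_algebraMap_eq fun x => (IsLocalization.Away.lift_eq _ hunit x).symm
  haveI tow2 : IsScalarTower R (Localization.Away b)
      (Localization.Away (algebraMap B (SymmetricAlgebra B E.Cotangent) b)) := by
    refine IsScalarTower.of_algebraMap_eq fun x => ?_
    rw [IsScalarTower.algebraMap_apply R B (Localization.Away b),
      ← IsScalarTower.algebraMap_apply B (Localization.Away b)
        (Localization.Away (algebraMap B (SymmetricAlgebra B E.Cotangent) b)),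
      ← IsScalarTower.algebraMap_apply R B
        (Localization.Away (algebraMap B (SymmetricAlgebra B E.Cotangent) b))]
  haveI hfs2 : Algebra.FormallySmooth (Localization.Away b)
      (Localization.Away (algebraMap B (SymmetricAlgebra B E.Cotangent) b)) :=
    Algebra.FormallySmooth.localization_base (Submonoid.powers b)
  haveI hfs3 : Algebra.FormallySmooth R
      (Localization.Away (algebraMap B (SymmetricAlgebra B E.Cotangent) b)) :=
    @Algebra.FormallySmooth.comp R _ (Localization.Away b) _ _
      (Localization.Away (algebraMap B (SymmetricAlgebra B E.Cotangent) b)) _ _ alg' tow2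
      inferInstance hfs2
  haveI hfp : Algebra.FinitePresentation R
      (Localization.Away (algebraMap B (SymmetricAlgebra B E.Cotangent) b)) :=
    Algebra.FinitePresentation.trans R (SymmetricAlgebra B E.Cotangent) _
  exact ⟨hfs3, hfp⟩

end Groth.Agent.Helper2.Sep
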