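import Mathlib
import Groth.Agent.Helper2.SStdC

set_option autoImplicit false

namespace Groth.Agent.Helper2.Sep

open MvPolynomial Function

universe u

section Mono

variable {k : Type u} [CommRing k] {d : ℕ}

/-- `X i` is a nonzerodivisor modulo `(X j ^ e : j < i)`. -/
theorem X_mul_mem (e : ℕ) (i : Fin d) (y : MvPolynomial (Fin d) k)
    (h : X i * y ∈ Ideal.span ((fun j => (X j : MvPolynomial (Fin d) k) ^ e) '' {j | j < i})) :
    y ∈ Ideal.span ((fun j => (X j : MvPolynomial (Fin d) k) ^ e) '' {j | j < i}) := by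
  classical
  have himg : (fun j => (X j : MvPolynomial (Fin d) k) ^ e) '' {j | j < i} =
      (fun s => monomial s (1 : k)) '' ((fun j => Finsupp.single j e) '' {j | j < i}) := by
    rw [Set.image_image]
    apply Set.image_congr
    intro j _
    exact X_pow_eq_monomial
  rw [himg, mem_ideal_span_monomial_image] at h ⊢
  intro m hm
  have hm' : Finsupp.single i 1 + m ∈ (X i * y).support := by
    rw [support_X_mul]
    exact Finset.mem_map_of_mem _ hm
  obtain ⟨s, ⟨j, hj, rfl⟩, hs⟩ := h _ hm'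
  refine ⟨_, ⟨j, hj, rfl⟩, ?_⟩
  have hji : j ≠ i := ne_of_lt hj
  intro l
  have := hs l
  by_cases hl : l = j
  · subst hl
    simpa [Finsupp.single_apply, hji.symm] using this
  · simp [Finsupp.single_apply, Ne.symm hl]

theorem X_pow_mul_mem (e m : ℕ) (i : Fin d) (y : MvPolynomial (Fin d) k)
    (h : X i ^ m * y ∈ Ideal.span ((fun j => (X j : MvPolynomial (Fin d) k) ^ e) '' {j | j < i})) :
    y ∈ Ideal.span ((fun j => (X j : MvPolynomial (Fin d) k) ^ e) '' {j | j < i}) := by
  induction m with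
  | zero => simpa using h
  | succ m ih =>
    apply ih
    apply X_mul_mem e i
    have : X i * (X i ^ m * y) = X i ^ (m + 1) * y := by ring
    rw [this]
    exact h

/-- The annihilator condition for the base ring, in the form needed. -/
theorem hR_poly (c : ℕ) (i : Fin d)
    (x : MvPolynomial (Fin d) k ⧸ Ideal.span (Set.range
      fun j : {j : Fin d // (j : ℕ) < (i : ℕ)} => ((X (j : Fin d) : MvPolynomial (Fin d) k) ^ c) ^ 8))
    (hx : Ideal.Quotient.mk _ ((X i : MvPolynomial (Fin d) k) ^ c) ^ 2 * x = 0) :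
    Ideal.Quotient.mk _ ((X i : MvPolynomial (Fin d) k) ^ c) * x = 0 := by
  have hK : Ideal.span (Set.range fun j : {j : Fin d // (j : ℕ) < (i : ℕ)} =>
      ((X (j : Fin d) : MvPolynomial (Fin d) k) ^ c) ^ 8) =
      Ideal.span ((fun j => (X j : MvPolynomial (Fin d) k) ^ (c * 8)) '' {j | j < i}) := by
    congr 1
    ext z
    constructor
    · rintro ⟨⟨j, hj⟩, rfl⟩
      exact ⟨j, Fin.lt_def.2 hj, by simp [pow_mul]⟩
    · rintro ⟨j, hj, rfl⟩
      exact ⟨⟨j, Fin.lt_def.1 hj⟩, by simp [pow_mul]⟩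
  obtain ⟨y, rfl⟩ := Ideal.Quotient.mk_surjective x
  rw [← map_pow, ← map_mul, Ideal.Quotient.eq_zero_iff_mem, hK] at hx
  rw [← map_mul, Ideal.Quotient.eq_zero_iff_mem, hK]
  have h1 : X i ^ (c * 2) * y ∈
      Ideal.span ((fun j => (X j : MvPolynomial (Fin d) k) ^ (c * 8)) '' {j | j < i}) := by
    rw [pow_mul]
    exact hx
  exact Ideal.mul_mem_left _ _ (X_pow_mul_mem _ _ i y h1)

end Mono

end Groth.Agent.Helper2.Sep
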