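import Mathlib
import Groth.Prelude.Def_Smoothing
import Groth.Agent.Helper2.SepI
import Groth.Agent.Helper2.ParamAnn
import Groth.Agent.S2034

set_option autoImplicit false

namespace Groth.Agent.Helper2.Sep

open MvPolynomial Function TensorProduct IsLocalRing

universe u

section ModK

variable {k : Type u} [Field k] {d : ℕ} {Λ : Type u} [CommRing Λ]
  [Algebra (MvPolynomial (Fin d) k) Λ] [Algebra k Λ] [IsScalarTower k (MvPolynomial (Fin d) k) Λ]
  (𝔮 : Ideal Λ) [𝔮.IsPrime]

instance : IsScalarTower k (MvPolynomial (Fin d) k) (Localization.AtPrime 𝔮) :=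
  IsScalarTower.of_algebraMap_eq (fun x => by
    rw [IsScalarTower.algebraMap_apply k Λ (Localization.AtPrime 𝔮),
      IsScalarTower.algebraMap_apply (MvPolynomial (Fin d) k) Λ (Localization.AtPrime 𝔮),
      ← IsScalarTower.algebraMap_apply k (MvPolynomial (Fin d) k) Λ])

theorem resolvable_modK [IsRegularLocalRing (Localization.AtPrime 𝔮)]
    (hd : ringKrullDim (Localization.AtPrime 𝔮) = d)
    (hmax : maximalIdeal (Localization.AtPrime 𝔮) =
      Ideal.span (Set.range (tt k (Localization.AtPrime 𝔮) : Fin d → _)))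
    (hres : Smoothing.IndSmooth k (IsLocalRing.ResidueField (Localization.AtPrime 𝔮)))
    (e : ℕ) (he : 0 < e) (K : Ideal (MvPolynomial (Fin d) k))
    (hK : K = Ideal.span (Set.range fun i : Fin d => (X i : MvPolynomial (Fin d) k) ^ e))
    {C₀ : Type u} [CommRing C₀] [Algebra (MvPolynomial (Fin d) k ⧸ K) C₀]
    [Algebra.FinitePresentation (MvPolynomial (Fin d) k ⧸ K) C₀]
    (φ₀ : C₀ →ₐ[MvPolynomial (Fin d) k ⧸ K] Λ ⧸ K.map (algebraMap (MvPolynomial (Fin d) k) Λ)) :
    Smoothing.Resolvable (MvPolynomial (Fin d) k ⧸ K) φ₀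
      (𝔮.map (Ideal.Quotient.mk (K.map (algebraMap (MvPolynomial (Fin d) k) Λ)))) := by
  classical
  have htt : ∀ i, tt k (Localization.AtPrime 𝔮) i =
      algebraMap Λ (Localization.AtPrime 𝔮) (algebraMap (MvPolynomial (Fin d) k) Λ (X i)) := by
    intro i
    exact IsScalarTower.algebraMap_apply (MvPolynomial (Fin d) k) Λ (Localization.AtPrime 𝔮) (X i)
  have hxq : ∀ i, algebraMap (MvPolynomial (Fin d) k) Λ (X i) ∈ 𝔮 := by
    intro i
    rw [← IsLocalization.AtPrime.to_map_mem_maximal_iff (Localization.AtPrime 𝔮) 𝔮, hmax, ← htt]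
    exact Ideal.subset_span ⟨i, rfl⟩
  have hJq : K.map (algebraMap (MvPolynomial (Fin d) k) Λ) ≤ 𝔮 := by
    rw [hK, Ideal.map_span, Ideal.span_le]
    rintro _ ⟨_, ⟨i, rfl⟩, rfl⟩
    rw [map_pow]
    exact Ideal.pow_mem_of_mem _ (hxq i) e he
  haveI hprime : (𝔮.map (Ideal.Quotient.mk
      (K.map (algebraMap (MvPolynomial (Fin d) k) Λ)))).IsPrime :=
    Ideal.map_isPrime_of_surjective Ideal.Quotient.mk_surjective
      (by rw [Ideal.mk_ker]; exact hJq)
  by_cases hle : Smoothing.singRad (MvPolynomial (Fin d) k ⧸ K) φ₀ ≤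
      𝔮.map (Ideal.Quotient.mk (K.map (algebraMap (MvPolynomial (Fin d) k) Λ)))
  swap
  · exact ⟨C₀, inferInstance, inferInstance, inferInstance, AlgHom.id _ _, φ₀,
      AlgHom.comp_id _, le_rfl, hle⟩
  -- the ideal JL in the local ring
  have hJL : (K.map (algebraMap (MvPolynomial (Fin d) k) Λ)).map
      (algebraMap Λ (Localization.AtPrime 𝔮)) =
      Ideal.span (Set.range fun i : Fin d => tt k (Localization.AtPrime 𝔮) i ^ e) := by
    rw [hK, Ideal.map_span, Ideal.map_span]
    congr 1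
    ext z
    constructor
    · rintro ⟨_, ⟨_, ⟨i, rfl⟩, rfl⟩, rfl⟩
      exact ⟨i, by simp only [htt, map_pow]⟩
    · rintro ⟨i, rfl⟩
      exact ⟨_, ⟨_, ⟨i, rfl⟩, rfl⟩, by simp only [htt, map_pow]⟩
  have hge : ∀ Q : Ideal (Localization.AtPrime 𝔮), Q.IsPrime →
      (K.map (algebraMap (MvPolynomial (Fin d) k) Λ)).map
        (algebraMap Λ (Localization.AtPrime 𝔮)) ≤ Q → maximalIdeal (Localization.AtPrime 𝔮) ≤ Q := by
    intro Q hQ hle'
    rw [hmax, Ideal.span_le]
    rintro _ ⟨i, rfl⟩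
    apply hQ.mem_of_pow_mem e
    apply hle'
    rw [hJL]
    exact Ideal.subset_span ⟨i, rfl⟩
  have hJLle : (K.map (algebraMap (MvPolynomial (Fin d) k) Λ)).map
      (algebraMap Λ (Localization.AtPrime 𝔮)) ≤ maximalIdeal (Localization.AtPrime 𝔮) := by
    rw [hJL, Ideal.span_le]
    rintro _ ⟨i, rfl⟩
    apply Ideal.pow_mem_of_mem _ _ e he
    rw [hmax]
    exact Ideal.subset_span ⟨i, rfl⟩
  -- minimality
  have hmin : 𝔮.map (Ideal.Quotient.mk (K.map (algebraMap (MvPolynomial (Fin d) k) Λ))) ∈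
      (Smoothing.singRad (MvPolynomial (Fin d) k ⧸ K) φ₀).minimalPrimes := by
    refine ⟨⟨hprime, hle⟩, ?_⟩
    rintro P ⟨hP, -⟩ hPq
    rw [Ideal.map_le_iff_le_comap]
    intro x hx
    have hP' : (P.comap (Ideal.Quotient.mk
        (K.map (algebraMap (MvPolynomial (Fin d) k) Λ)))).IsPrime := Ideal.comap_isPrime _ _
    have hP'q : P.comap (Ideal.Quotient.mk
        (K.map (algebraMap (MvPolynomial (Fin d) k) Λ))) ≤ 𝔮 := by
      intro y hy
      have h1 := hPq hy
      rw [← Ideal.mem_comap, Ideal.comap_map_of_surjective _ Ideal.Quotient.mk_surjective,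
        ← RingHom.ker_eq_comap_bot, Ideal.mk_ker, sup_eq_left.2 hJq] at h1
      exact h1
    have hdisj : Disjoint (𝔮.primeCompl : Set Λ) (P.comap (Ideal.Quotient.mk
        (K.map (algebraMap (MvPolynomial (Fin d) k) Λ))) : Set Λ) := by
      rw [Set.disjoint_left]
      intro y hy hy'
      exact hy (hP'q hy')
    have hprimeL := IsLocalization.isPrime_of_isPrime_disjoint 𝔮.primeCompl
      (Localization.AtPrime 𝔮) _ hP' hdisj
    have hJP : K.map (algebraMap (MvPolynomial (Fin d) k) Λ) ≤ P.comap (Ideal.Quotient.mk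
        (K.map (algebraMap (MvPolynomial (Fin d) k) Λ))) := by
      intro y hy
      rw [Ideal.mem_comap, Ideal.Quotient.eq_zero_iff_mem.2 hy]
      exact P.zero_mem
    have h2 := hge _ hprimeL (Ideal.map_mono hJP)
    have h3 : algebraMap Λ (Localization.AtPrime 𝔮) x ∈
        maximalIdeal (Localization.AtPrime 𝔮) :=
      (IsLocalization.AtPrime.to_map_mem_maximal_iff (Localization.AtPrime 𝔮) 𝔮 x).2 hx
    have h4 := h2 h3
    have h5 := IsLocalization.comap_map_of_isPrime_disjoint 𝔮.primeCompl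
      (Localization.AtPrime 𝔮) hP' hdisj
    rw [← h5]
    exact h4
  -- the local ring Λq
  letI algT : Algebra (MvPolynomial (Fin d) k ⧸ K) ((Localization.AtPrime 𝔮) ⧸
      (K.map (algebraMap (MvPolynomial (Fin d) k) Λ)).map
        (algebraMap Λ (Localization.AtPrime 𝔮))) :=
    ((algebraMap (Λ ⧸ K.map (algebraMap (MvPolynomial (Fin d) k) Λ)) _).comp
      (algebraMap (MvPolynomial (Fin d) k ⧸ K)
        (Λ ⧸ K.map (algebraMap (MvPolynomial (Fin d) k) Λ)))).toAlgebra
  haveI tow : IsScalarTower (MvPolynomial (Fin d) k ⧸ K)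
      (Λ ⧸ K.map (algebraMap (MvPolynomial (Fin d) k) Λ))
      ((Localization.AtPrime 𝔮) ⧸ (K.map (algebraMap (MvPolynomial (Fin d) k) Λ)).map
        (algebraMap Λ (Localization.AtPrime 𝔮))) :=
    IsScalarTower.of_algebraMap_eq (fun _ => rfl)
  have hS : Algebra.algebraMapSubmonoid (Λ ⧸ K.map (algebraMap (MvPolynomial (Fin d) k) Λ))
      𝔮.primeCompl = (𝔮.map (Ideal.Quotient.mk
        (K.map (algebraMap (MvPolynomial (Fin d) k) Λ)))).primeCompl := by
    ext z
    constructor
    · rintro ⟨y, hy, rfl⟩ hmem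
      apply hy
      replace hmem : Ideal.Quotient.mk _ y ∈ 𝔮.map (Ideal.Quotient.mk
        (K.map (algebraMap (MvPolynomial (Fin d) k) Λ))) := hmem
      rw [← Ideal.mem_comap, Ideal.comap_map_of_surjective _ Ideal.Quotient.mk_surjective,
        ← RingHom.ker_eq_comap_bot, Ideal.mk_ker, sup_eq_left.2 hJq] at hmem
      exact hmem
    · intro hz
      obtain ⟨y, rfl⟩ := Ideal.Quotient.mk_surjective z
      refine ⟨y, ?_, rfl⟩
      intro hy
      exact hz (Ideal.mem_map_of_mem _ hy)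
  haveI hloc : IsLocalization.AtPrime ((Localization.AtPrime 𝔮) ⧸
      (K.map (algebraMap (MvPolynomial (Fin d) k) Λ)).map
        (algebraMap Λ (Localization.AtPrime 𝔮)))
      (𝔮.map (Ideal.Quotient.mk (K.map (algebraMap (MvPolynomial (Fin d) k) Λ)))) := by
    show IsLocalization _ _
    rw [← hS]
    infer_instance
  -- dimension zero
  have hne : (K.map (algebraMap (MvPolynomial (Fin d) k) Λ)).map
      (algebraMap Λ (Localization.AtPrime 𝔮)) ≠ ⊤ := by
    intro h
    exact (maximalIdeal.isMaximal (Localization.AtPrime 𝔮)).ne_top (top_le_iff.1 (h ▸ hJLle))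
  haveI hnt : Nontrivial ((Localization.AtPrime 𝔮) ⧸
      (K.map (algebraMap (MvPolynomial (Fin d) k) Λ)).map
        (algebraMap Λ (Localization.AtPrime 𝔮))) := Ideal.Quotient.nontrivial_iff.2 hne
  have hdim : ringKrullDim ((Localization.AtPrime 𝔮) ⧸
      (K.map (algebraMap (MvPolynomial (Fin d) k) Λ)).map
        (algebraMap Λ (Localization.AtPrime 𝔮))) = 0 := by
    rw [← ringKrullDimZero_iff_ringKrullDim_eq_zero,
      Ideal.krullDimLE_zero_quotient_iff_forall_minimalPrimes_isMaximal]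
    intro Q hQ
    have h1 := hge Q hQ.1.1 hQ.1.2
    rw [← (maximalIdeal.isMaximal (Localization.AtPrime 𝔮)).eq_of_le hQ.1.1.ne_top h1]
    exact maximalIdeal.isMaximal _
  -- the base is its own localization
  have hKe : ∀ i, (X i : MvPolynomial (Fin d) k) ^ e ∈ K := by
    intro i
    rw [hK]
    exact Ideal.subset_span ⟨i, rfl⟩
  have hKX : K ≤ Ideal.span (Set.range (X : Fin d → MvPolynomial (Fin d) k)) := by
    rw [hK, Ideal.span_le]
    rintro _ ⟨i, rfl⟩
    exact Ideal.pow_mem_of_mem _ (Ideal.subset_span (Set.mem_range_self i)) e he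
  haveI hlocT : IsLocalization.AtPrime (MvPolynomial (Fin d) k ⧸ K)
      ((𝔮.map (Ideal.Quotient.mk (K.map (algebraMap (MvPolynomial (Fin d) k) Λ)))).comap
        (algebraMap (MvPolynomial (Fin d) k ⧸ K)
          (Λ ⧸ K.map (algebraMap (MvPolynomial (Fin d) k) Λ)))) := by
    apply IsLocalization.of_le_isUnit
    intro x hx
    apply isUnit_of_notMem_mT K e hKe
    rw [← prime_eq_mT K e hKe hKX ((𝔮.map (Ideal.Quotient.mk
      (K.map (algebraMap (MvPolynomial (Fin d) k) Λ)))).comap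
        (algebraMap (MvPolynomial (Fin d) k ⧸ K)
          (Λ ⧸ K.map (algebraMap (MvPolynomial (Fin d) k) Λ))))]
    exact hx
  -- ind-smoothness of Λq over T
  have hind : Smoothing.IndSmooth (MvPolynomial (Fin d) k ⧸ K) ((Localization.AtPrime 𝔮) ⧸
      (K.map (algebraMap (MvPolynomial (Fin d) k) Λ)).map
        (algebraMap Λ (Localization.AtPrime 𝔮))) := by
    refine indSmooth_T K (Ideal.Quotient.mk ((K.map (algebraMap (MvPolynomial (Fin d) k) Λ)).map
        (algebraMap Λ (Localization.AtPrime 𝔮)))) ?_ ?_ e he hKe hKX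
        Ideal.Quotient.mk_surjective ?_ hmax hres
    · intro r
      rfl
    · intro i y hy
      have := ParamAnn.regular_cond_pow d hd (tt k (Localization.AtPrime 𝔮)) hmax.symm 1
        one_pos i y (by simpa only [pow_one] using hy)
      simpa only [pow_one] using this
    · rw [Ideal.mk_ker, hJL]
  have hqtop : (𝔮.map (Ideal.Quotient.mk (K.map (algebraMap (MvPolynomial (Fin d) k) Λ)))).map
      (algebraMap (Λ ⧸ K.map (algebraMap (MvPolynomial (Fin d) k) Λ))
        ((Localization.AtPrime 𝔮) ⧸ (K.map (algebraMap (MvPolynomial (Fin d) k) Λ)).map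
          (algebraMap Λ (Localization.AtPrime 𝔮)))) ≠ ⊤ := by
    rw [IsLocalization.map_algebraMap_ne_top_iff_disjoint (𝔮.map (Ideal.Quotient.mk
      (K.map (algebraMap (MvPolynomial (Fin d) k) Λ)))).primeCompl]
    rw [Set.disjoint_left]
    intro y hy hy'
    exact hy hy'
  haveI tow2 : IsScalarTower (MvPolynomial (Fin d) k ⧸ K) (MvPolynomial (Fin d) k ⧸ K)
      ((Localization.AtPrime 𝔮) ⧸ (K.map (algebraMap (MvPolynomial (Fin d) k) Λ)).map
        (algebraMap Λ (Localization.AtPrime 𝔮))) :=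
    ⟨fun x y z => mul_smul x y z⟩
  refine Groth.Agent.S2034.result (Rₚ := MvPolynomial (Fin d) k ⧸ K)
    (Λq := (Localization.AtPrime 𝔮) ⧸ (K.map (algebraMap (MvPolynomial (Fin d) k) Λ)).map
        (algebraMap Λ (Localization.AtPrime 𝔮))) φ₀ _ hmin hdim ?_
  exact resolvable_of_indSmooth hind _ _ hqtop

end ModK

end Groth.Agent.Helper2.Sep
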