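import Mathlib
import Groth.Prelude.Def_Smoothing
import Groth.Agent.Helper2.DesgJ

set_option autoImplicit false

namespace Groth.Agent.Helper2.Sep

open Function

universe u

section Descend

variable {k R : Type u} [CommRing k] [CommRing R] [Algebra k R] [Algebra.FormallySmooth k R]
  [Algebra.FinitePresentation k R]

/-- smoothness over a formally smooth base implies smoothness over the ground ring. -/
theorem singularIdeal_le_of_tower {D : Type u} [CommRing D] [Algebra R D] [Algebra k D]
    [IsScalarTower k R D] :
    Smoothing.singularIdeal R D ≤ Smoothing.singularIdeal k D := by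
  intro x hx
  rw [Desg.mem_singularIdeal_iff] at hx ⊢
  intro Q _ hQ
  apply hx Q
  intro hsm
  apply hQ
  haveI : Algebra.FormallySmooth R (Localization.AtPrime Q) := hsm
  exact Algebra.FormallySmooth.comp k R (Localization.AtPrime Q)

/-- If a problem over `R` (smooth over `k`) refining a problem over `k` can be resolved, so can the
problem over `k`. -/
theorem resolvable_descend {A C Λ : Type u} [CommRing A] [Algebra k A] [CommRing C] [Algebra R C]
    [CommRing Λ] [Algebra R Λ] [Algebra k Λ] [IsScalarTower k R Λ]
    (φ : A →ₐ[k] Λ) (ψ : C →ₐ[R] Λ) (g₀ : A →+* C)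
    (hg₀ : ∀ x : k, g₀ (algebraMap k A x) = algebraMap R C (algebraMap k R x))
    (hψ : ∀ y : A, ψ (g₀ y) = φ y) (𝔮 : Ideal Λ)
    (hle : Smoothing.singRad k φ ≤ Smoothing.singRad R ψ)
    (hres : Smoothing.Resolvable R ψ 𝔮) : Smoothing.Resolvable k φ 𝔮 := by
  obtain ⟨D, _, _, hfp, g, h, hgh, hle', hnle⟩ := hres
  letI algkD : Algebra k D := ((algebraMap R D).comp (algebraMap k R)).toAlgebra
  haveI : IsScalarTower k R D := IsScalarTower.of_algebraMap_eq (fun _ => rfl)
  haveI : Algebra.FinitePresentation k D := Algebra.FinitePresentation.trans k R D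
  let g' : A →ₐ[k] D :=
    { toRingHom := g.toRingHom.comp g₀
      commutes' := by
        intro x
        show g (g₀ (algebraMap k A x)) = algebraMap R D (algebraMap k R x)
        rw [hg₀, g.commutes] }
  have hmono : Smoothing.singRad R h ≤ Smoothing.singRad k (h.restrictScalars k) := by
    unfold Smoothing.singRad
    apply Ideal.radical_mono
    exact Ideal.map_mono (singularIdeal_le_of_tower (k := k) (R := R) (D := D))
  refine ⟨D, inferInstance, algkD, inferInstance, g', h.restrictScalars k, ?_, ?_, ?_⟩
  · apply AlgHom.ext
    intro y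
    show h (g (g₀ y)) = φ y
    rw [← hψ y, ← hgh]
    rfl
  · exact hle.trans (hle'.trans hmono)
  · intro hcon
    exact hnle (hmono.trans hcon)

end Descend

end Groth.Agent.Helper2.Sep
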