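import Mathlib
import Groth.Prelude.Def_Smoothing
import Groth.Agent.Helper2.SepJ
import Groth.Agent.Helper2.SepK
import Groth.Agent.Helper2.SepL
import Groth.Agent.Helper2.SepM
import Groth.Agent.Helper2.SepE
import Groth.Agent.Helper2.SepF
import Groth.Agent.Helper2.SStdF
import Groth.Agent.Helper2.ResE

set_option autoImplicit false

namespace Groth.Agent.Helper2.Sep

open Function IsLocalRing MvPolynomial

universe u

set_option maxHeartbeats 1600000 in
theorem main_pos {k A Λ : Type u} [Field k] [CommRing A] [Algebra k A]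
    [Algebra.FinitePresentation k A]
    [CommRing Λ] [Algebra k Λ] [IsNoetherianRing Λ] (φ : A →ₐ[k] Λ) (𝔮 : Ideal Λ) [𝔮.IsPrime]
    (hmin : 𝔮 ∈ (Smoothing.singRad k φ).minimalPrimes)
    [IsRegularLocalRing (Localization.AtPrime 𝔮)]
    (hres : Smoothing.IndSmooth k (IsLocalRing.ResidueField (Localization.AtPrime 𝔮)))
    (d : ℕ) (hd : ringKrullDim (Localization.AtPrime 𝔮) = d) (hdpos : 0 < d) :
    Smoothing.Resolvable k φ 𝔮 := by
  classical
  -- generators of the singular ideal
  haveI : IsNoetherianRing A := Algebra.FiniteType.isNoetherianRing k A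
  obtain ⟨r, a, ha⟩ := Submodule.fg_iff_exists_fin_generating_family.1
    (IsNoetherian.noetherian (Smoothing.singularIdeal k A))
  have hsm : ∀ j, Algebra.FormallySmooth k (Localization.Away (a j)) := by
    intro j
    apply formallySmooth_away_of_mem_singularIdeal
    rw [← ha]
    exact Submodule.subset_span ⟨j, rfl⟩
  -- the exponent n
  have hminI : 𝔮 ∈ ((Smoothing.singularIdeal k A).map φ).minimalPrimes := by
    have := hmin
    unfold Smoothing.singRad at this
    rwa [Ideal.radical_minimalPrimes] at this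
  obtain ⟨n, hn, hpow⟩ := exists_pow_le 𝔮 _ hminI
  -- the algebra C
  obtain ⟨C, instC, algBC, algRC, tow, hfpC, ⟨retr⟩, hC⟩ :=
    exists_retract_smooth_free (R := RR k d) (B := BB k d r a n)
  -- the exponent c
  have hstd0 : ∀ i : Fin d, ∃ e₀ : ℕ, ∀ m : ℕ, e₀ ≤ m →
      Smoothing.IsStrictlyStandard (RR k d) C
        ((algebraMap (BB k d r a n) C (xbar k d r a n i)) ^ m) := by
    intro i
    obtain ⟨hsmC, hfree⟩ := hC (xbar k d r a n i) (smooth_BB_away_xbar k d r a n hsm i)
    haveI := hsmC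
    haveI := hfree
    obtain ⟨q, ⟨eq⟩⟩ := exists_equiv_fin
      (Localization.Away (algebraMap (BB k d r a n) C (xbar k d r a n i)))
      (Ω[Localization.Away (algebraMap (BB k d r a n) C (xbar k d r a n i))⁄RR k d])
    exact SStd.main (algebraMap (BB k d r a n) C (xbar k d r a n i)) 0 q
      ((LinearEquiv.prodUnique).trans eq)
  choose e₀ he₀ using hstd0
  obtain ⟨c, hcpos, hc⟩ : ∃ c : ℕ, 0 < c ∧ ∀ i, e₀ i ≤ c :=
    ⟨Finset.univ.sup e₀ + 1, Nat.succ_pos _, fun i =>
      (Finset.le_sup (f := e₀) (Finset.mem_univ i)).trans (Nat.le_succ _)⟩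
  -- the parameters
  obtain ⟨π, hπmax, hπI, hπann⟩ := s2109_strong 𝔮 ((Smoothing.singularIdeal k A).map φ) n (c * 8) d
    hn (Nat.mul_pos hcpos (by norm_num)) hpow hd
  have hlam : ∀ i, ∃ l : Fin r → Λ, ∑ j, l j * φ (a j) = π i ^ n := by
    intro i
    have h1 := hπI i
    rw [← ha] at h1
    change π i ^ n ∈ Ideal.map φ (Ideal.span (Set.range a)) at h1
    rw [Ideal.map_span, ← Set.range_comp] at h1
    exact Ideal.mem_span_range_iff_exists_fun.1 h1
  choose lam hlam using hlam
  -- the algebra structure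
  letI algRΛ : Algebra (RR k d) Λ := (aeval π : RR k d →ₐ[k] Λ).toRingHom.toAlgebra
  haveI towΛ : IsScalarTower k (RR k d) Λ :=
    IsScalarTower.of_algebraMap_eq (fun x => ((aeval π : RR k d →ₐ[k] Λ).commutes x).symm)
  have halg : ∀ i, algebraMap (RR k d) Λ (X i) = π i := fun i => aeval_X π i
  obtain ⟨ψB, hψB⟩ := exists_psiB k d r a n φ lam (fun i => by rw [halg, hlam])
  let ψC : C →ₐ[RR k d] Λ := ψB.comp (retr.restrictScalars (RR k d))
  let g₀ : A →+* C := (algebraMap (BB k d r a n) C).comp (iotaA k d r a n)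
  have hψCg : ∀ y : A, ψC (g₀ y) = φ y := by
    intro y
    show ψB (retr (algebraMap (BB k d r a n) C (iotaA k d r a n y))) = φ y
    rw [retr.commutes]
    exact hψB y
  have hg₀ : ∀ x : k, g₀ (algebraMap k A x) = algebraMap (RR k d) C (algebraMap k (RR k d) x) := by
    intro x
    show algebraMap (BB k d r a n) C (iotaA k d r a n (algebraMap k A x)) = _
    rw [iotaA_algebraMap, ← IsScalarTower.algebraMap_apply (RR k d) (BB k d r a n) C]
  -- comparison of singular radicals
  have hle : Smoothing.singRad k φ ≤ Smoothing.singRad (RR k d) ψC := by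
    unfold Smoothing.singRad
    rw [Ideal.radical_le_radical_iff, ← ha]
    change Ideal.map φ (Ideal.span (Set.range a)) ≤ _
    rw [Ideal.map_span, Ideal.span_le]
    rintro _ ⟨_, ⟨j, rfl⟩, rfl⟩
    refine ⟨d + 1, ?_⟩
    have h1 : (φ (a j)) ^ (d + 1) =
        ψC (algebraMap (BB k d r a n) C (abar k d r a n j ^ (d + 1))) := by
      rw [map_pow, map_pow, ← iotaA_a]
      exact congrArg (· ^ (d + 1)) (hψCg (a j)).symm
    rw [h1]
    apply Ideal.mem_map_of_mem
    apply mem_singularIdeal_of_smooth_away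
    haveI := hsm j
    exact (hC (abar k d r a n j ^ (d + 1)) (smooth_BB_away_abar k d r a n j)).1
  refine resolvable_descend φ ψC g₀ hg₀ hψCg 𝔮 hle ?_
  -- the local data
  have htt : ∀ i, tt k (Localization.AtPrime 𝔮) i =
      algebraMap Λ (Localization.AtPrime 𝔮) (π i) := by
    intro i
    rw [← halg]
    exact IsScalarTower.algebraMap_apply (RR k d) Λ (Localization.AtPrime 𝔮) (X i)
  have hmax : maximalIdeal (Localization.AtPrime 𝔮) =
      Ideal.span (Set.range (tt k (Localization.AtPrime 𝔮) : Fin d → _)) := by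
    rw [← hπmax]
    congr 1
    ext z
    constructor
    · rintro ⟨i, rfl⟩
      exact ⟨i, htt i⟩
    · rintro ⟨i, rfl⟩
      exact ⟨i, (htt i).symm⟩
  have hπq : ∀ i, π i ∈ 𝔮 := by
    intro i
    rw [← IsLocalization.AtPrime.to_map_mem_maximal_iff (Localization.AtPrime 𝔮) 𝔮, ← hπmax]
    exact Ideal.subset_span ⟨i, rfl⟩
  have hKeq : Ideal.span (Set.range fun i : Fin d => ((X i : RR k d) ^ c) ^ 8) =
      Ideal.span (Set.range fun i : Fin d => (X i : RR k d) ^ (c * 8)) := by
    congr 1
    ext z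
    constructor
    · rintro ⟨i, rfl⟩
      exact ⟨i, pow_mul _ _ _⟩
    · rintro ⟨i, rfl⟩
      exact ⟨i, (pow_mul _ _ _).symm⟩
  haveI hfpq : Algebra.FinitePresentation
      (RR k d ⧸ Ideal.span (Set.range fun i : Fin d => ((X i : RR k d) ^ c) ^ 8))
      (C ⧸ (Ideal.span (Set.range fun i : Fin d => ((X i : RR k d) ^ c) ^ 8)).map
        (algebraMap (RR k d) C)) := by
    haveI : Algebra.FinitePresentation (RR k d)
        (C ⧸ (Ideal.span (Set.range fun i : Fin d => ((X i : RR k d) ^ c) ^ 8)).map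
          (algebraMap (RR k d) C)) :=
      Algebra.FinitePresentation.quotient
        (Ideal.FG.map (IsNoetherian.noetherian _) (algebraMap (RR k d) C))
    exact Algebra.FinitePresentation.of_restrict_scalars_finitePresentation (RR k d) _ _
  refine Res.main ψC 𝔮 hdpos (fun i => (X i : RR k d) ^ c) ?_ ?_ ?_ ?_ _ rfl
    (Res.φI ψC _) (Res.φI_mk ψC _) ?_
  · intro i
    show algebraMap (RR k d) Λ ((X i : RR k d) ^ c) ∈ 𝔮
    rw [map_pow, halg]
    exact Ideal.pow_mem_of_mem _ (hπq i) c hcpos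
  · intro i x hx
    exact hR_poly c i x hx
  · intro i x hx
    exact hΛ_conv π (fun j => algebraMap (RR k d) Λ ((X j : RR k d) ^ c)) c hcpos
      (fun j => by rw [map_pow, halg]) hπann i x hx
  · intro i
    show Smoothing.IsStrictlyStandard (RR k d) C (algebraMap (RR k d) C ((X i : RR k d) ^ c))
    rw [map_pow, IsScalarTower.algebraMap_apply (RR k d) (BB k d r a n) C]
    exact he₀ i c (hc i)
  · exact resolvable_modK 𝔮 hd hmax hres (c * 8) (Nat.mul_pos hcpos (by norm_num)) _ hKeq _

end Groth.Agent.Helper2.Sep
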