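import Mathlib
import Groth.Prelude.Def_Smoothing
import Groth.Agent.Helper2.InsN
import Groth.Agent.Helper2.InsD
import Groth.Agent.Helper2.InsC
import Groth.Agent.Helper2.SepN
import Groth.Agent.S6829

set_option autoImplicit false

namespace Groth.Agent.Helper2.Ins

open Function Polynomial TensorProduct IsLocalRing Groth.Agent.Helper2.Sep
  Groth.Agent.Helper2.ParamAnn

universe u

section PolyFacts

variable {Λ : Type u} [CommRing Λ] (q : Ideal Λ) [q.IsPrime]

lemma C_mem_map_C_iff (x : Λ) : C x ∈ q.map (C : Λ →+* Λ[X]) ↔ x ∈ q := by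
  rw [Ideal.mem_map_C_iff]
  constructor
  · intro h
    simpa using h 0
  · intro h n
    rw [coeff_C]
    split_ifs
    · exact h
    · exact q.zero_mem

lemma X_notMem_map_C : (X : Λ[X]) ∉ q.map (C : Λ →+* Λ[X]) := by
  rw [Ideal.mem_map_C_iff]
  intro h
  have := h 1
  rw [coeff_X_one] at this
  exact (‹q.IsPrime›).ne_top ((Ideal.eq_top_iff_one _).2 this)

lemma comap_C_map_C : (q.map (C : Λ →+* Λ[X])).comap (C : Λ →+* Λ[X]) = q := by
  ext x
  rw [Ideal.mem_comap, C_mem_map_C_iff]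

theorem hQmin_poly {d : ℕ} (g0 : Fin d → Λ)
    (hg0 : Ideal.span (Set.range fun j => algebraMap Λ (Localization.AtPrime q) (g0 j)) =
      maximalIdeal (Localization.AtPrime q))
    (Q : Ideal Λ[X]) (hQ : Q.IsPrime) (hgQ : ∀ i, C (g0 i) ∈ Q)
    (hQq : Q ≤ q.map (C : Λ →+* Λ[X])) : q.map (C : Λ →+* Λ[X]) ≤ Q := by
  rw [Ideal.map_le_iff_le_comap]
  intro y hy
  have h1 : algebraMap Λ (Localization.AtPrime q) y ∈
      (Ideal.span (Set.range g0)).map (algebraMap Λ (Localization.AtPrime q)) := by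
    rw [Ideal.map_span, ← Set.range_comp]
    show _ ∈ Ideal.span (Set.range fun j => algebraMap Λ _ (g0 j))
    rw [hg0]
    exact (IsLocalization.AtPrime.to_map_mem_maximal_iff _ q y).2 hy
  rw [IsLocalization.mem_map_algebraMap_iff q.primeCompl] at h1
  obtain ⟨⟨⟨c, hc⟩, ⟨t, ht⟩⟩, hct⟩ := h1
  rw [← map_mul, IsLocalization.eq_iff_exists q.primeCompl] at hct
  obtain ⟨⟨t', ht'⟩, heq⟩ := hct
  have heq' : t' * (y * t) = t' * c := heq
  have h2 : C (t' * t) * C y ∈ Q := by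
    have h3 : C (t' * t) * C y = C (t' * c) := by
      rw [← C_mul, ← heq']
      congr 1
      ring
    rw [h3]
    have h4 : (Ideal.span (Set.range g0)).map (C : Λ →+* Λ[X]) ≤ Q := by
      rw [Ideal.map_span, Ideal.span_le]
      rintro _ ⟨_, ⟨i, rfl⟩, rfl⟩
      exact hgQ i
    exact h4 (Ideal.mem_map_of_mem _ (Ideal.mul_mem_left _ _ hc))
  rcases hQ.mem_or_mem h2 with h5 | h5
  · exfalso
    have := hQq h5
    rw [C_mem_map_C_iff] at this
    exact (q.primeCompl.mul_mem ht' ht) this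
  · exact h5

end PolyFacts

section Main

set_option maxHeartbeats 12800000 in
/-- the positive-dimensional case with infinite residue field. -/
theorem main_pos_ins {k A Λ : Type u} [Field k] (p : ℕ) [Fact p.Prime] [CharP k p]
    [CommRing A] [Algebra k A] [Algebra.FinitePresentation k A]
    [CommRing Λ] [Algebra k Λ] [IsNoetherianRing Λ] (hreg : CAlg.IsGeometricallyRegular k Λ)
    (φ : A →ₐ[k] Λ) (𝔮 : Ideal Λ) [𝔮.IsPrime]
    (hmin : 𝔮 ∈ (Smoothing.singRad k φ).minimalPrimes)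
    [IsRegularLocalRing (Localization.AtPrime 𝔮)]
    (d : ℕ) (hd : ringKrullDim (Localization.AtPrime 𝔮) = d) (hdpos : 0 < d)
    [Infinite (Λ ⧸ 𝔮)] :
    Smoothing.Resolvable k φ 𝔮 := by
  classical
  apply resolvable_of_polynomial φ 𝔮
  -- generators of the singular ideal
  haveI : IsNoetherianRing A := Algebra.FiniteType.isNoetherianRing k A
  obtain ⟨r, a, ha⟩ := Submodule.fg_iff_exists_fin_generating_family.1
    (IsNoetherian.noetherian (Smoothing.singularIdeal k A))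
  have hsm : ∀ j, Algebra.FormallySmooth k (Localization.Away (a j)) := by
    intro j
    apply formallySmooth_away_of_mem_singularIdeal
    rw [← ha]
    exact Submodule.subset_span ⟨j, rfl⟩
  -- the exponent n
  have hminI : 𝔮 ∈ ((Smoothing.singularIdeal k A).map φ).minimalPrimes := by
    have := hmin
    unfold Smoothing.singRad at this
    rwa [Ideal.radical_minimalPrimes] at this
  obtain ⟨n, hn, hpow⟩ := exists_pow_le 𝔮 _ hminI
  -- the algebra CC
  obtain ⟨CC, instC, algBC, algRC, tow, hfpC, ⟨retr⟩, hC⟩ :=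
    exists_retract_smooth_free (R := RR k d) (B := BB k d r a n)
  -- the exponent c
  have hstd0 : ∀ i : Fin d, ∃ e₀ : ℕ, ∀ m : ℕ, e₀ ≤ m →
      Smoothing.IsStrictlyStandard (RR k d) CC
        ((algebraMap (BB k d r a n) CC (xbar k d r a n i)) ^ m) := by
    intro i
    obtain ⟨hsmC, hfree⟩ := hC (xbar k d r a n i) (smooth_BB_away_xbar k d r a n hsm i)
    haveI := hsmC
    haveI := hfree
    obtain ⟨q', ⟨eq⟩⟩ := exists_equiv_fin
      (Localization.Away (algebraMap (BB k d r a n) CC (xbar k d r a n i)))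
      (Ω[Localization.Away (algebraMap (BB k d r a n) CC (xbar k d r a n i))⁄RR k d])
    exact SStd.main (algebraMap (BB k d r a n) CC (xbar k d r a n i)) 0 q'
      ((LinearEquiv.prodUnique).trans eq)
  choose e₀ he₀ using hstd0
  obtain ⟨c, hcpos, hc⟩ : ∃ c : ℕ, 0 < c ∧ ∀ i, e₀ i ≤ c :=
    ⟨Finset.univ.sup e₀ + 1, Nat.succ_pos _, fun i =>
      (Finset.le_sup (f := e₀) (Finset.mem_univ i)).trans (Nat.le_succ _)⟩
  have he : 0 < c * 8 := Nat.mul_pos hcpos (by norm_num)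
  have hN : 0 < d * (c * 8) + 1 := Nat.succ_pos _
  haveI hLbloc : IsLocalRing (QP (Localization.AtPrime 𝔮) (d * (c * 8) + 1)) :=
    isLocalRing_QP _ hN
  -- the smooth algebra `P`
  obtain ⟨sA, hsA⟩ := (Algebra.FiniteType.out : (⊤ : Subalgebra k A).FG)
  obtain ⟨P, instP, algkP, hregP, hfsP, hfpP, f, hdimP, hmapP, D, hDloc, hlocal, hflat, hE₀D,
    hPD, alg, hetale, halg⟩ := lemmaP p 𝔮 hreg hN (sA.image φ)
  have hAD : ∀ y : A, toLbar (k := k) 𝔮 (d * (c * 8) + 1) (φ y) ∈ D := by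
    have h1 : Algebra.adjoin k (sA : Set A) ≤
        D.comap ((toLbar (k := k) 𝔮 (d * (c * 8) + 1)).comp φ) := by
      rw [Algebra.adjoin_le_iff]
      intro y hy
      exact hE₀D _ (Finset.mem_image_of_mem _ hy)
    rw [hsA] at h1
    intro y
    exact h1 Algebra.mem_top
  -- parameters of `P`
  haveI hregPp : IsRegularLocalRing (Localization.AtPrime
      (pB ((IsScalarTower.toAlgHom k Λ (Localization.AtPrime 𝔮)).comp f))) :=
    IsRegularRing.isRegularLocalRing_localization _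
  have hdP : ringKrullDim (Localization.AtPrime
      (pB ((IsScalarTower.toAlgHom k Λ (Localization.AtPrime 𝔮)).comp f))) = d := hdimP.trans hd
  obtain ⟨π', hπmax, -, hπann⟩ := s2109_strong
    (pB ((IsScalarTower.toAlgHom k Λ (Localization.AtPrime 𝔮)).comp f))
    (pB ((IsScalarTower.toAlgHom k Λ (Localization.AtPrime 𝔮)).comp f)) 1 (c * 8) d one_pos he
    (by rw [pow_one]) hdP
  have hg0 : Ideal.span (Set.range fun j => algebraMap Λ (Localization.AtPrime 𝔮) (f (π' j))) =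
      maximalIdeal (Localization.AtPrime 𝔮) := by
    rw [← psiB_map_maximalIdeal ((IsScalarTower.toAlgHom k Λ (Localization.AtPrime 𝔮)).comp f)
      hmapP, ← hπmax, Ideal.map_span, ← Set.range_comp]
    congr 1
    ext z
    constructor
    · rintro ⟨j, rfl⟩
      exact ⟨j, psiB_algebraMap
        ((IsScalarTower.toAlgHom k Λ (Localization.AtPrime 𝔮)).comp f) (π' j)⟩
    · rintro ⟨j, rfl⟩
      exact ⟨j, (psiB_algebraMap
        ((IsScalarTower.toAlgHom k Λ (Localization.AtPrime 𝔮)).comp f) (π' j)).symm⟩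
  have hgq : ∀ j, f (π' j) ∈ 𝔮 := by
    intro j
    rw [← IsLocalization.AtPrime.to_map_mem_maximal_iff (Localization.AtPrime 𝔮) 𝔮, ← hg0]
    exact Ideal.subset_span ⟨j, rfl⟩
  have hI : ∀ j, ∃ s, s ∉ 𝔮 ∧ s * f (π' j) ^ n ∈ (Smoothing.singularIdeal k A).map φ := by
    intro j
    have h1 : algebraMap Λ (Localization.AtPrime 𝔮) (f (π' j) ^ n) ∈
        ((Smoothing.singularIdeal k A).map φ).map (algebraMap Λ (Localization.AtPrime 𝔮)) :=
      hpow (Ideal.mem_map_of_mem _ (Ideal.pow_mem_pow (hgq j) n))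
    rw [IsLocalization.mem_map_algebraMap_iff 𝔮.primeCompl] at h1
    obtain ⟨⟨⟨c', hc'⟩, ⟨t, ht⟩⟩, hct⟩ := h1
    rw [← map_mul, IsLocalization.eq_iff_exists 𝔮.primeCompl] at hct
    obtain ⟨⟨t', ht'⟩, heq⟩ := hct
    have heq' : t' * (f (π' j) ^ n * t) = t' * c' := heq
    refine ⟨t' * t, 𝔮.primeCompl.mul_mem ht' ht, ?_⟩
    have : t' * t * f (π' j) ^ n = t' * c' := by rw [← heq']; ring
    rw [this]
    exact Ideal.mul_mem_left _ _ hc'
  obtain ⟨s, hs, hsI, hsann⟩ := exists_seq_pow 𝔮 hd (c * 8) he (fun j => f (π' j)) hg0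
    ((Smoothing.singularIdeal k A).map φ) n hn hI
  have hζ : ∀ i, ∃ l : Fin r → Λ, ∑ j, l j * φ (a j) = (f (π' i) * s ^ kk (c * 8) i) ^ n := by
    intro i
    have h1 := hsI i
    rw [← ha] at h1
    change _ ∈ Ideal.map φ (Ideal.span (Set.range a)) at h1
    rw [Ideal.map_span, ← Set.range_comp] at h1
    exact Ideal.mem_span_range_iff_exists_fun.1 h1
  choose ζ hζ using hζ
  -- the polynomial rings
  haveI hnoeP : IsNoetherianRing P := Algebra.FiniteType.isNoetherianRing k P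
  haveI hfsPX : Algebra.FormallySmooth k P[X] := Algebra.FormallySmooth.comp k P P[X]
  haveI hfpPX : Algebra.FinitePresentation k P[X] := Algebra.FinitePresentation.trans k P P[X]
  let Pm : Fin d → P[X] := fun i => C (π' i) * X ^ kk (c * 8) i
  letI algRR₂ : Algebra (RR k d) P[X] :=
    (MvPolynomial.aeval Pm : RR k d →ₐ[k] P[X]).toRingHom.toAlgebra
  haveI towkRR₂ : IsScalarTower k (RR k d) P[X] :=
    IsScalarTower.of_algebraMap_eq
      (fun x => ((MvPolynomial.aeval Pm : RR k d →ₐ[k] P[X]).commutes x).symm)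
  have halgPm : ∀ i, algebraMap (RR k d) P[X] (MvPolynomial.X i) = Pm i :=
    fun i => MvPolynomial.aeval_X Pm i
  let f₂ : P[X] →+* Λ[X] :=
    Polynomial.eval₂RingHom ((C : Λ →+* Λ[X]).comp f.toRingHom) (C s * X)
  have hf₂C : ∀ y, f₂ (C y) = C (f y) := fun y => Polynomial.eval₂_C _ _
  have hf₂X : f₂ X = C s * X := Polynomial.eval₂_X _ _
  letI algR₂Λ₁ : Algebra P[X] Λ[X] := f₂.toAlgebra
  letI algRRΛ₁ : Algebra (RR k d) Λ[X] :=
    ((algebraMap P[X] Λ[X]).comp (algebraMap (RR k d) P[X])).toAlgebra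
  haveI towRRR₂Λ₁ : IsScalarTower (RR k d) P[X] Λ[X] :=
    IsScalarTower.of_algebraMap_eq (fun _ => rfl)
  haveI towkR₂Λ₁ : IsScalarTower k P[X] Λ[X] := IsScalarTower.of_algebraMap_eq (fun x => by
    show algebraMap k Λ[X] x = f₂ (algebraMap k P[X] x)
    rw [Polynomial.algebraMap_apply, Polynomial.algebraMap_apply, hf₂C, f.commutes])
  haveI towkRRΛ₁ : IsScalarTower k (RR k d) Λ[X] := IsScalarTower.of_algebraMap_eq (fun x => by
    rw [IsScalarTower.algebraMap_apply k P[X] Λ[X], IsScalarTower.algebraMap_apply k (RR k d) P[X]]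
    rfl)
  have halgΛ : ∀ i, algebraMap P[X] Λ[X] (Pm i) =
      C (f (π' i) * s ^ kk (c * 8) i) * X ^ kk (c * 8) i := by
    intro i
    show f₂ (C (π' i) * X ^ kk (c * 8) i) = _
    rw [map_mul, map_pow, hf₂C, hf₂X, mul_pow, C_mul, C_pow]
    ring
  -- the map from `B`
  have hrel : ∀ i, algebraMap (RR k d) Λ[X] (MvPolynomial.X i) ^ n =
      ∑ j, (C (ζ i j) * X ^ (kk (c * 8) i * n)) * phi1 φ (a j) := by
    intro i
    have h1 : algebraMap (RR k d) Λ[X] (MvPolynomial.X i) =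
        algebraMap P[X] Λ[X] (algebraMap (RR k d) P[X] (MvPolynomial.X i)) := rfl
    rw [h1, halgPm, halgΛ]
    have h2 : ∀ j, (C (ζ i j) * X ^ (kk (c * 8) i * n)) * phi1 φ (a j) =
        C (ζ i j * φ (a j)) * X ^ (kk (c * 8) i * n) := by
      intro j
      rw [phi1_apply, C_mul]
      ring
    rw [Finset.sum_congr rfl (fun j _ => h2 j), ← Finset.sum_mul, ← map_sum, hζ i, mul_pow,
      ← C_pow, ← pow_mul]
  obtain ⟨ψB, hψBA, hψBz⟩ := exists_psiB' k d r a n (phi1 φ)
    (fun i j => C (ζ i j) * X ^ (kk (c * 8) i * n)) hrel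
  let g₀ : A →+* P[X] ⊗[RR k d] CC :=
    (Algebra.TensorProduct.includeRight : CC →ₐ[RR k d] P[X] ⊗[RR k d] CC).toRingHom.comp
      ((algebraMap (BB k d r a n) CC).comp (iotaA k d r a n))
  have hg₀app : ∀ y, g₀ y = (1 : P[X]) ⊗ₜ[RR k d] (algebraMap (BB k d r a n) CC (iotaA k d r a n y)) :=
    fun y => rfl
  have hψ1 : ∀ c' : CC, (Algebra.TensorProduct.lift (Algebra.ofId P[X] Λ[X])
      (ψB.comp (retr.restrictScalars (RR k d))) (fun _ _ => Commute.all _ _) :
        P[X] ⊗[RR k d] CC →ₐ[P[X]] Λ[X]) ((1 : P[X]) ⊗ₜ[RR k d] c') = ψB (retr c') := by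
    intro c'
    rw [Algebra.TensorProduct.lift_tmul, map_one, one_mul]
    rfl
  have hψg : ∀ y : A, (Algebra.TensorProduct.lift (Algebra.ofId P[X] Λ[X])
      (ψB.comp (retr.restrictScalars (RR k d))) (fun _ _ => Commute.all _ _) :
        P[X] ⊗[RR k d] CC →ₐ[P[X]] Λ[X]) (g₀ y) = phi1 φ y := by
    intro y
    rw [hg₀app, hψ1, retr.commutes]
    exact hψBA y
  have hg₀ : ∀ x : k, g₀ (algebraMap k A x) =
      algebraMap P[X] (P[X] ⊗[RR k d] CC) (algebraMap k P[X] x) := by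
    intro x
    rw [hg₀app, iotaA_algebraMap, ← IsScalarTower.algebraMap_apply (RR k d) (BB k d r a n) CC,
      Algebra.TensorProduct.algebraMap_apply, IsScalarTower.algebraMap_apply k (RR k d) P[X]]
    show (1 : P[X]) ⊗ₜ[RR k d] (algebraMap (RR k d) CC (algebraMap k (RR k d) x)) =
      (algebraMap (RR k d) P[X] (algebraMap k (RR k d) x)) ⊗ₜ[RR k d] (1 : CC)
    rw [Algebra.algebraMap_eq_smul_one (A := CC), Algebra.algebraMap_eq_smul_one (A := P[X]),
      TensorProduct.smul_tmul]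
  -- comparison of singular radicals
  have hle : Smoothing.singRad k (phi1 φ) ≤ Smoothing.singRad P[X]
      (Algebra.TensorProduct.lift (Algebra.ofId P[X] Λ[X])
        (ψB.comp (retr.restrictScalars (RR k d))) (fun _ _ => Commute.all _ _) :
          P[X] ⊗[RR k d] CC →ₐ[P[X]] Λ[X]) := by
    unfold Smoothing.singRad
    rw [Ideal.radical_le_radical_iff, ← ha]
    change Ideal.map (phi1 φ) (Ideal.span (Set.range a)) ≤ _
    rw [Ideal.map_span, Ideal.span_le]
    rintro _ ⟨_, ⟨j, rfl⟩, rfl⟩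
    refine ⟨d + 1, ?_⟩
    have h1 : (phi1 φ (a j)) ^ (d + 1) =
        (Algebra.TensorProduct.lift (Algebra.ofId P[X] Λ[X])
          (ψB.comp (retr.restrictScalars (RR k d))) (fun _ _ => Commute.all _ _) :
            P[X] ⊗[RR k d] CC →ₐ[P[X]] Λ[X])
          ((1 : P[X]) ⊗ₜ[RR k d] (algebraMap (BB k d r a n) CC (abar k d r a n j ^ (d + 1)))) := by
      rw [hψ1, retr.commutes]
      show _ = ψB (abar k d r a n j ^ (d + 1))
      rw [map_pow, ← iotaA_a, hψBA]
    rw [h1]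
    apply Ideal.mem_map_of_mem
    apply mem_singularIdeal_of_smooth_away
    haveI := hsm j
    haveI hsmC : Algebra.Smooth (RR k d) (Localization.Away
        (algebraMap (BB k d r a n) CC (abar k d r a n j ^ (d + 1)))) :=
      (hC (abar k d r a n j ^ (d + 1)) (smooth_BB_away_abar k d r a n j)).1
    haveI := formallySmooth_away_tmul (RR k d) CC P[X]
      (algebraMap (BB k d r a n) CC (abar k d r a n j ^ (d + 1)))
    haveI : Algebra.FinitePresentation (P[X] ⊗[RR k d] CC) (Localization.Away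
        ((1 : P[X]) ⊗ₜ[RR k d] (algebraMap (BB k d r a n) CC (abar k d r a n j ^ (d + 1))))) :=
      IsLocalization.Away.finitePresentation
        ((1 : P[X]) ⊗ₜ[RR k d] (algebraMap (BB k d r a n) CC (abar k d r a n j ^ (d + 1))))
    haveI : Algebra.FinitePresentation P[X] (Localization.Away
        ((1 : P[X]) ⊗ₜ[RR k d] (algebraMap (BB k d r a n) CC (abar k d r a n j ^ (d + 1))))) :=
      Algebra.FinitePresentation.trans P[X] (P[X] ⊗[RR k d] CC) _
    exact ⟨inferInstance, inferInstance⟩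
  refine resolvable_descend (phi1 φ) _ g₀ hg₀ hψg _ hle ?_
  -- annihilator conditions
  have hkx : ∀ i j : Fin d, j < i → c * 8 * kk (c * 8) j ≤ kk (c * 8) i := by
    intro i j hji
    have := kk_lt (c * 8) (Fin.lt_def.1 hji)
    omega
  have hannP : ∀ i : Fin d, ∀ x : P[X], Pm i ^ 2 * x ∈ Kid Pm (c * 8) i →
      Pm i * x ∈ Kid Pm (c * 8) i :=
    fun i x hx => ann_poly π' (c * 8) (fun i : Fin d => kk (c * 8) i) hkx i (hπann i) x hx
  have hannΛ : ∀ i : Fin d, ∀ x : Λ[X],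
      (C (f (π' i) * s ^ kk (c * 8) i) * X ^ kk (c * 8) i) ^ 2 * x ∈
        Kid (fun j => C (f (π' j) * s ^ kk (c * 8) j) * X ^ kk (c * 8) j) (c * 8) i →
      (C (f (π' i) * s ^ kk (c * 8) i) * X ^ kk (c * 8) i) * x ∈
        Kid (fun j => C (f (π' j) * s ^ kk (c * 8) j) * X ^ kk (c * 8) j) (c * 8) i :=
    fun i x hx => ann_poly (fun j => f (π' j) * s ^ kk (c * 8) j) (c * 8)
      (fun i : Fin d => kk (c * 8) i) hkx i
      (hsann i) x hx
  haveI hq₁prime : (𝔮.map (C : Λ →+* Λ[X])).IsPrime := Ideal.isPrime_map_C_of_isPrime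
  haveI hfpq : Algebra.FinitePresentation
      (P[X] ⧸ Ideal.span (Set.range fun i : Fin d => (Pm i ^ c) ^ 8))
      ((P[X] ⊗[RR k d] CC) ⧸ (Ideal.span (Set.range fun i : Fin d => (Pm i ^ c) ^ 8)).map
        (algebraMap P[X] (P[X] ⊗[RR k d] CC))) := by
    haveI : Algebra.FinitePresentation P[X]
        ((P[X] ⊗[RR k d] CC) ⧸ (Ideal.span (Set.range fun i : Fin d => (Pm i ^ c) ^ 8)).map
          (algebraMap P[X] (P[X] ⊗[RR k d] CC))) :=
      Algebra.FinitePresentation.quotient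
        (Ideal.FG.map (IsNoetherian.noetherian _) (algebraMap P[X] (P[X] ⊗[RR k d] CC)))
    exact Algebra.FinitePresentation.of_restrict_scalars_finitePresentation P[X]
      (P[X] ⧸ Ideal.span (Set.range fun i : Fin d => (Pm i ^ c) ^ 8))
      ((P[X] ⊗[RR k d] CC) ⧸ (Ideal.span (Set.range fun i : Fin d => (Pm i ^ c) ^ 8)).map
        (algebraMap P[X] (P[X] ⊗[RR k d] CC)))
  have hPmq : ∀ i, algebraMap P[X] Λ[X] (Pm i ^ c) ∈ 𝔮.map (C : Λ →+* Λ[X]) := by
    intro i
    rw [map_pow, halgΛ]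
    apply Ideal.pow_mem_of_mem _ _ c hcpos
    apply Ideal.mul_mem_right
    rw [C_mem_map_C_iff]
    exact 𝔮.mul_mem_right _ (hgq i)
  refine Res.main _ (𝔮.map (C : Λ →+* Λ[X])) hdpos (fun i => Pm i ^ c) ?_ ?_ ?_ ?_ _ rfl
    (Res.φI _ _) (Res.φI_mk _ _) ?_
  · exact hPmq
  · intro i x hx
    exact hΛ_conv Pm (fun j => Pm j ^ c) c hcpos (fun j => rfl) hannP i x hx
  · intro i x hx
    exact hΛ_conv (fun j => C (f (π' j) * s ^ kk (c * 8) j) * X ^ kk (c * 8) j)
      (fun j => algebraMap P[X] Λ[X] (Pm j ^ c)) c hcpos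
      (fun j => by rw [map_pow, halgΛ]) hannΛ i x hx
  · intro i
    show Smoothing.IsStrictlyStandard P[X] (P[X] ⊗[RR k d] CC)
      (algebraMap P[X] (P[X] ⊗[RR k d] CC) (Pm i ^ c))
    have h1 := (Groth.Agent.S6829.result (R := RR k d) (A := CC) (R' := P[X])
      ((algebraMap (BB k d r a n) CC (xbar k d r a n i)) ^ c)).2 (he₀ i c (hc i))
    have h2 : algebraMap P[X] (P[X] ⊗[RR k d] CC) (Pm i ^ c) =
        (1 : P[X]) ⊗ₜ[RR k d] ((algebraMap (BB k d r a n) CC (xbar k d r a n i)) ^ c) := by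
      rw [Algebra.TensorProduct.algebraMap_apply, ← halgPm, ← map_pow]
      show (algebraMap (RR k d) P[X] (MvPolynomial.X i ^ c)) ⊗ₜ[RR k d] (1 : CC) = _
      rw [Algebra.algebraMap_eq_smul_one (A := P[X]), TensorProduct.smul_tmul,
        ← Algebra.algebraMap_eq_smul_one, map_pow,
        IsScalarTower.algebraMap_apply (RR k d) (BB k d r a n) CC]
      rfl
    rw [h2]
    exact h1
  · refine resolvable_modK_local k d r a n φ f 𝔮 (Polynomial.CAlgHom : P →ₐ[k] P[X])
      (C : Λ →+* Λ[X]) (𝔮.map (C : Λ →+* Λ[X]))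
      (Ideal.span (Set.range fun i : Fin d => (Pm i ^ c) ^ 8)) (c * 8)
      (fun y => hf₂C y) (comap_C_map_C 𝔮) ?_ π' (fun i : Fin d => kk (c * 8) i) X X s hs hf₂X
      (X_notMem_map_C 𝔮) halgPm ?_
      (fun Q hQ hgQ hQq => hQmin_poly 𝔮 (fun j => f (π' j)) hg0 Q hQ hgQ hQq)
      hπmax.symm hg0.symm D hAD hPD halg ζ hζ retr ψB hψBA hψBz
    · rw [Ideal.map_span, Ideal.span_le]
      rintro _ ⟨_, ⟨i, rfl⟩, rfl⟩
      show algebraMap P[X] Λ[X] ((Pm i ^ c) ^ 8) ∈ _
      rw [map_pow]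
      exact Ideal.pow_mem_of_mem _ (hPmq i) 8 (by norm_num)
    · intro i
      show (Pm i) ^ (c * 8) ∈ _
      rw [pow_mul]
      exact Ideal.subset_span ⟨i, rfl⟩

end Main

end Groth.Agent.Helper2.Ins
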