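import Mathlib
import Groth.Prelude.Def_Smoothing
import Groth.Agent.Helper2.SepN
import Groth.Agent.Helper2.SepB
import Groth.Agent.Helper1.FieldSmooth7

set_option autoImplicit false

namespace Groth.Agent.Helper2.Sep

open Function IsLocalRing MvPolynomial TensorProduct

universe u

theorem main_zero {k A Λ : Type u} [Field k] [CommRing A] [Algebra k A]
    [Algebra.FinitePresentation k A]
    [CommRing Λ] [Algebra k Λ] [IsNoetherianRing Λ] (φ : A →ₐ[k] Λ) (𝔮 : Ideal Λ) [𝔮.IsPrime]
    (hmin : 𝔮 ∈ (Smoothing.singRad k φ).minimalPrimes)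
    [IsRegularLocalRing (Localization.AtPrime 𝔮)]
    (hres : Smoothing.IndSmooth k (IsLocalRing.ResidueField (Localization.AtPrime 𝔮)))
    (hd : ringKrullDim (Localization.AtPrime 𝔮) = (0 : ℕ)) :
    Smoothing.Resolvable k φ 𝔮 := by
  classical
  obtain ⟨g0, hg0⟩ := ParamAnn.exists_gens 𝔮 hd
  have hbot : maximalIdeal (Localization.AtPrime 𝔮) = ⊥ := by
    rw [← hg0]
    have : (Set.range fun j : Fin 0 => algebraMap Λ (Localization.AtPrime 𝔮) (g0 j)) = ∅ := by
      ext x
      simp
    rw [this, Ideal.span_empty]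
  let e₂ : IsLocalRing.ResidueField (Localization.AtPrime 𝔮) ≃+* Localization.AtPrime 𝔮 :=
    (Ideal.quotEquivOfEq hbot).trans (RingEquiv.quotientBot _)
  have hind : Smoothing.IndSmooth k (Localization.AtPrime 𝔮) := by
    refine IndSmoothNil.indSmooth_transfer (RingEquiv.refl k) e₂ ?_ hres
    intro x
    rfl
  haveI hlocT : IsLocalization.AtPrime k (𝔮.comap (algebraMap k Λ)) := by
    apply IsLocalization.of_le_isUnit
    intro x hx
    have hx0 : x ≠ 0 := by
      rintro rfl
      exact hx (Ideal.zero_mem _)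
    exact isUnit_iff_ne_zero.2 hx0
  have hqtop : 𝔮.map (algebraMap Λ (Localization.AtPrime 𝔮)) ≠ ⊤ := by
    rw [Localization.AtPrime.map_eq_maximalIdeal]
    exact (maximalIdeal.isMaximal _).ne_top
  have hdim : ringKrullDim (Localization.AtPrime 𝔮) = 0 := by
    rw [hd]
    rfl
  refine Groth.Agent.S2034.result (Rₚ := k) (Λq := Localization.AtPrime 𝔮) φ 𝔮 hmin hdim ?_
  exact resolvable_of_indSmooth hind _ _ hqtop

/-- **Popescu, separable residue field case** (Stacks 07FC). -/
theorem main {k A Λ : Type u} [Field k] [CommRing A] [Algebra k A]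
    [Algebra.FinitePresentation k A]
    [CommRing Λ] [Algebra k Λ] [IsNoetherianRing Λ]
    (φ : A →ₐ[k] Λ) (𝔮 : Ideal Λ) [𝔮.IsPrime] (hmin : 𝔮 ∈ (Smoothing.singRad k φ).minimalPrimes)
    [IsRegularLocalRing (Localization.AtPrime 𝔮)]
    [Algebra.IsGeometricallyReduced k 𝔮.ResidueField] : Smoothing.Resolvable k φ 𝔮 := by
  haveI : Algebra.FormallySmooth k 𝔮.ResidueField :=
    Groth.Agent.Helper1.FieldSmooth.formallySmooth_iff_isGeometricallyReduced.2 inferInstance
  have hres : Smoothing.IndSmooth k 𝔮.ResidueField := indSmooth_of_formallySmooth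
  have hd := ((isRegularLocalRing_iff (Localization.AtPrime 𝔮)).1 inferInstance).symm
  rcases Nat.eq_zero_or_pos ((maximalIdeal (Localization.AtPrime 𝔮)).spanFinrank) with h0 | hpos
  · rw [h0] at hd
    exact main_zero φ 𝔮 hmin hres hd
  · exact main_pos φ 𝔮 hmin hres _ hd hpos

end Groth.Agent.Helper2.Sep
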