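import Mathlib
import Groth.Prelude.Def_Smoothing
import Groth.Agent.Helper2.InsO
import Groth.Agent.Helper2.SepO
import Groth.Agent.Helper1.FieldSmooth7

set_option autoImplicit false

namespace Groth.Agent.Helper2.Ins

open Function IsLocalRing Groth.Agent.Helper2.Sep Groth.Agent.Helper8.GeomReg

universe u

set_option maxHeartbeats 1600000 in
/-- **Popescu, inseparable residue field case** (Stacks 07FJ). -/
theorem main_ins {k A Λ : Type u} [Field k] (p : ℕ) [Fact p.Prime] [CharP k p]
    [CommRing A] [Algebra k A] [Algebra.FinitePresentation k A]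
    [CommRing Λ] [Algebra k Λ] [IsNoetherianRing Λ] (hreg : CAlg.IsGeometricallyRegular k Λ)
    (φ : A →ₐ[k] Λ) (𝔮 : Ideal Λ) [𝔮.IsPrime]
    (hmin : 𝔮 ∈ (Smoothing.singRad k φ).minimalPrimes) :
    Smoothing.Resolvable k φ 𝔮 := by
  classical
  have hL : CAlg.IsGeometricallyRegular k (Localization.AtPrime 𝔮) :=
    geomReg_localization' hreg 𝔮.primeCompl _
  have hadic := (s2036 (k := k) (A := Localization.AtPrime 𝔮) p).1 hL
  haveI hregL : IsRegularLocalRing (Localization.AtPrime 𝔮) := isRegularLocalRing_of_adic hadic
  by_cases hfin : Finite (Λ ⧸ 𝔮)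
  · -- finite residue field: the base field is perfect
    haveI : Finite k :=
      Finite.of_injective (algebraMap k (Λ ⧸ 𝔮)) (algebraMap k (Λ ⧸ 𝔮)).injective
    haveI : Algebra.IsGeometricallyReduced k 𝔮.ResidueField :=
      Groth.Agent.Helper1.FieldSmooth.isGeometricallyReduced_of_perfectField
    exact Sep.main φ 𝔮 hmin
  · haveI : Infinite (Λ ⧸ 𝔮) := not_finite_iff_infinite.1 hfin
    have hd := ((isRegularLocalRing_iff (Localization.AtPrime 𝔮)).1 inferInstance).symm
    rcases Nat.eq_zero_or_pos ((maximalIdeal (Localization.AtPrime 𝔮)).spanFinrank) with h0 | hpos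
    · -- dimension zero: the local ring is a field, formally smooth over `k`
      rw [h0] at hd
      obtain ⟨g0, hg0⟩ := ParamAnn.exists_gens 𝔮 hd
      have hbot : maximalIdeal (Localization.AtPrime 𝔮) = ⊥ := by
        rw [← hg0]
        have : (Set.range fun j : Fin 0 => algebraMap Λ (Localization.AtPrime 𝔮) (g0 j)) = ∅ := by
          ext x
          simp
        rw [this, Ideal.span_empty]
      haveI hfsL : Algebra.FormallySmooth k (Localization.AtPrime 𝔮) := by
        refine Algebra.FormallySmooth.of_comp_surjective fun B _ _ I hI ψ => ?_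
        exact hadic B I hI ψ ⟨1, fun x hx => by
          rw [pow_one, hbot] at hx
          rw [(Submodule.mem_bot _).1 hx, map_zero]⟩
      have hbij : Function.Bijective
          (IsScalarTower.toAlgHom k (Localization.AtPrime 𝔮) 𝔮.ResidueField) := by
        constructor
        · show Function.Injective (IsLocalRing.residue (Localization.AtPrime 𝔮))
          rw [RingHom.injective_iff_ker_eq_bot, IsLocalRing.ker_residue]
          exact hbot
        · exact IsLocalRing.residue_surjective
      haveI : Algebra.FormallySmooth k 𝔮.ResidueField :=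
        Algebra.FormallySmooth.of_equiv (AlgEquiv.ofBijective _ hbij)
      haveI : Algebra.IsGeometricallyReduced k 𝔮.ResidueField :=
        Groth.Agent.Helper1.FieldSmooth.formallySmooth_iff_isGeometricallyReduced.1 inferInstance
      exact Sep.main φ 𝔮 hmin
    · exact main_pos_ins p hreg φ 𝔮 hmin _ hd hpos

end Groth.Agent.Helper2.Ins
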