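import Mathlib
import Groth.Prelude.Def_Smoothing
import Groth.Agent.Helper2.InsP
import Groth.Agent.Helper2.PopA
import Groth.Agent.Helper2.RegHom

set_option autoImplicit false

namespace Groth.Agent.Helper2.Pop

open Function

universe u

/-- resolvability at minimal primes over a field with geometrically regular target. -/
theorem resolvable_field {k Λ : Type u} [Field k] [CommRing Λ] [Algebra k Λ] [IsNoetherianRing Λ]
    (hreg : CAlg.IsGeometricallyRegular k Λ)
    (A : Type u) [CommRing A] [Algebra k A] [Algebra.FinitePresentation k A] (φ : A →ₐ[k] Λ)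
    (q : Ideal Λ) [q.IsPrime] (hmin : q ∈ (Smoothing.singRad k φ).minimalPrimes) :
    Smoothing.Resolvable k φ q := by
  obtain ⟨p, hp⟩ := CharP.exists k
  rcases CharP.char_is_prime_or_zero k p with hpp | hp0
  · haveI : Fact p.Prime := ⟨hpp⟩
    exact Groth.Agent.Helper2.Ins.main_ins p hreg φ q hmin
  · subst hp0
    haveI : CharZero k := CharP.charP_to_charZero k
    haveI hregΛ : IsRegularRing Λ :=
      Groth.Agent.Helper2.RegHom.isRegularRing_of_isGeometricallyRegular k Λ hreg
    haveI : IsRegularLocalRing (Localization.AtPrime q) :=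
      IsRegularRing.isRegularLocalRing_localization q
    haveI : Algebra.IsGeometricallyReduced k q.ResidueField :=
      Groth.Agent.Helper1.FieldSmooth.isGeometricallyReduced_of_perfectField
    exact Sep.main φ q hmin

/-- **Popescu over a field**: a Noetherian geometrically regular algebra over a field is
ind-smooth. -/
theorem popescu_field {k Λ : Type u} [Field k] [CommRing Λ] [Algebra k Λ] [IsNoetherianRing Λ]
    (hreg : CAlg.IsGeometricallyRegular k Λ) : Smoothing.IndSmooth k Λ := by
  classical
  have key : ∀ 𝔞 : Ideal Λ, ∀ (A : Type u) [CommRing A] [Algebra k A]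
      (_ : Algebra.FinitePresentation k A) (φ : A →ₐ[k] Λ), Smoothing.singRad k φ = 𝔞 →
      ∃ (B : Type u) (_ : CommRing B) (_ : Algebra k B), Algebra.Smooth k B ∧
        ∃ (g : A →ₐ[k] B) (h : B →ₐ[k] Λ), h.comp g = φ := by
    intro 𝔞
    induction 𝔞 using IsNoetherian.induction with
    | hgt 𝔞 ih =>
      intro A _ _ hA φ hφ
      haveI := hA
      by_cases htop : 𝔞 = ⊤
      · apply exists_smooth_factor_of_top φ
        rw [← Ideal.radical_eq_top]
        exact hφ.trans htop
      · obtain ⟨M, hM, h𝔞M⟩ := Ideal.exists_le_maximal 𝔞 htop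
        obtain ⟨q, hq, -⟩ := Ideal.exists_minimalPrimes_le h𝔞M
        haveI : q.IsPrime := hq.1.1
        rw [← hφ] at hq
        obtain ⟨B, instB, algB, hfpB, g, h, hgh, hle, hnle⟩ := resolvable_field hreg A φ q hq
        have hlt : 𝔞 < Smoothing.singRad k h := by
          rw [← hφ]
          refine lt_of_le_of_ne hle ?_
          intro heq
          apply hnle
          rw [← heq]
          exact hq.1.2
        obtain ⟨B', instB', algB', hsm, g', h', hg'h'⟩ := ih _ hlt B hfpB h rfl
        refine ⟨B', instB', algB', hsm, g'.comp g, h', ?_⟩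
        rw [← AlgHom.comp_assoc, hg'h', hgh]
  intro A _ _ hA φ
  exact key _ A hA φ rfl

end Groth.Agent.Helper2.Pop
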