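import Mathlib
import Groth.Prelude.Def_Smoothing
import Groth.Agent.Helper2.PopE
import Groth.Agent.Helper2.PopC
import Groth.Agent.Helper2.PopD
import Groth.Agent.Helper2.IndSmoothNil

set_option autoImplicit false

namespace Groth.Agent.Helper2.Pop

open Function IsLocalRing TensorProduct

universe u

set_option maxHeartbeats 1600000 in
/-- the inductive step in Popescu's theorem. -/
theorem popescu_step {R Λ : Type u} [CommRing R] [IsNoetherianRing R] [CommRing Λ]
    [IsNoetherianRing Λ] [Algebra R Λ] (hreg : CAlg.IsRegularHom R Λ)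
    (hquot : ∀ K : Ideal R, K ≠ ⊥ →
      Smoothing.IndSmooth (R ⧸ K) (Λ ⧸ K.map (algebraMap R Λ))) :
    Smoothing.IndSmooth R Λ := by
  classical
  haveI hflat : Module.Flat R Λ := hreg.1
  rcases subsingleton_or_nontrivial R with hsub | hnt
  · exact indSmooth_of_subsingleton
  by_cases hred : IsReduced R
  swap
  · have hN : nilradical R ≠ ⊥ := fun h => hred (nilradical_eq_bot_iff.1 h)
    exact IndSmoothNil.s2022 (nilradical R) (IsNoetherianRing.isNilpotent_nilradical R)
      (hquot _ hN)
  haveI := hred
  obtain ⟨⟨p, hp⟩⟩ := Ideal.nonempty_minimalPrimes (I := (⊥ : Ideal R)) bot_ne_top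
  haveI : p.IsPrime := hp.1.1
  have hRann : ∀ s r : R, s ^ 2 * r = 0 → s * r = 0 := by
    intro s r h
    have h2 : (s * r) ^ 2 = 0 := by rw [mul_pow, sq r, ← mul_assoc, h, zero_mul]
    exact IsNilpotent.eq_zero ⟨2, h2⟩
  refine generic_step p.primeCompl (Rₛ := Localization.AtPrime p) ?_ ?_ ?_ ?_
  · intro s _ r h
    exact hRann s r h
  · intro s _ x h
    have := Desg.smul_eq_zero_of_flat (s ^ 2) 1 s
      (fun a ha => by rw [one_mul]; exact hRann s a ha) x h
    rwa [one_smul] at this
  · intro s hs
    apply hquot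
    rw [Ne, Ideal.span_singleton_eq_bot]
    intro h0
    have hs0 : s = 0 := IsNilpotent.eq_zero ⟨8, h0⟩
    exact hs (hs0 ▸ p.zero_mem)
  · -- the generic fibre
    haveI : Ring.KrullDimLE 0 (Localization.AtPrime p) := by
      rw [Ring.krullDimLE_iff, IsLocalization.AtPrime.ringKrullDim_eq_height p,
        Ideal.height_eq_zero_iff.2 hp]
      rfl
    haveI : IsArtinianRing (Localization.AtPrime p) :=
      isArtinianRing_iff_isNoetherianRing_krullDimLE_zero.2 ⟨inferInstance, inferInstance⟩
    have hfield : IsField (Localization.AtPrime p) :=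
      IsArtinianRing.isField_of_isReduced_of_isLocalRing _
    have hbot : maximalIdeal (Localization.AtPrime p) = ⊥ :=
      IsLocalRing.isField_iff_maximalIdeal_eq.1 hfield
    have hbij : Function.Bijective
        (IsScalarTower.toAlgHom R (Localization.AtPrime p) p.ResidueField) := by
      constructor
      · show Function.Injective (IsLocalRing.residue (Localization.AtPrime p))
        rw [RingHom.injective_iff_ker_eq_bot, IsLocalRing.ker_residue]
        exact hbot
      · exact IsLocalRing.residue_surjective
    let e : Localization.AtPrime p ≃ₐ[R] p.ResidueField := AlgEquiv.ofBijective _ hbij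
    obtain ⟨hNoe, hG⟩ := hreg.2 p
    haveI := hNoe
    have hfib : Smoothing.IndSmooth p.ResidueField (p.Fiber Λ) := popescu_field hG
    refine IndSmoothNil.indSmooth_transfer e.symm.toRingEquiv
      (Algebra.TensorProduct.congr e.symm (AlgEquiv.refl : Λ ≃ₐ[R] Λ)).toRingEquiv ?_ hfib
    intro r
    show (Algebra.TensorProduct.congr e.symm (AlgEquiv.refl : Λ ≃ₐ[R] Λ))
      (algebraMap p.ResidueField (p.ResidueField ⊗[R] Λ) r) =
      algebraMap (Localization.AtPrime p) (Localization.AtPrime p ⊗[R] Λ) (e.symm r)
    rw [Algebra.TensorProduct.algebraMap_apply, Algebra.TensorProduct.algebraMap_apply,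
      Algebra.TensorProduct.congr_apply, Algebra.TensorProduct.map_tmul]
    rfl

end Groth.Agent.Helper2.Pop
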