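import Mathlib
import Groth.Prelude.Def_Smoothing
import Groth.Agent.Helper2.PopF
import Groth.Agent.Helper2.RegBC
import Groth.Agent.Helper2.RegBC2

set_option autoImplicit false

namespace Groth.Agent.Helper2.Pop

open Function IsLocalRing TensorProduct

universe u

section Quot

variable {R Λ : Type u} [CommRing R] [CommRing Λ] [Algebra R Λ]

/-- the base change to a quotient is the quotient, as algebras over the quotient. -/
noncomputable def quotTensorEquiv (I : Ideal R) :
    (R ⧸ I) ⊗[R] Λ ≃ₐ[R ⧸ I] Λ ⧸ I.map (algebraMap R Λ) :=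
  AlgEquiv.ofRingEquiv
    (f := ((((Algebra.TensorProduct.quotIdealMapEquivTensorQuot Λ I).restrictScalars R).trans
      (Algebra.TensorProduct.comm R Λ (R ⧸ I))).symm : (R ⧸ I) ⊗[R] Λ ≃ₐ[R] _).toRingEquiv)
    (by
      intro x
      obtain ⟨r, rfl⟩ := Ideal.Quotient.mk_surjective x
      have h1 : algebraMap (R ⧸ I) ((R ⧸ I) ⊗[R] Λ) (Ideal.Quotient.mk I r) =
          algebraMap R ((R ⧸ I) ⊗[R] Λ) r :=
        (IsScalarTower.algebraMap_apply R (R ⧸ I) ((R ⧸ I) ⊗[R] Λ) r).symm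
      rw [h1]
      exact ((((Algebra.TensorProduct.quotIdealMapEquivTensorQuot Λ I).restrictScalars R).trans
        (Algebra.TensorProduct.comm R Λ (R ⧸ I))).symm : (R ⧸ I) ⊗[R] Λ ≃ₐ[R] _).commutes r)

theorem isRegularHom_quotient (hreg : CAlg.IsRegularHom R Λ) (I : Ideal R) :
    CAlg.IsRegularHom (R ⧸ I) (Λ ⧸ I.map (algebraMap R Λ)) :=
  Groth.Agent.Helper2.RegBC2.isRegularHom_of_algEquiv (R ⧸ I) _ _ (quotTensorEquiv I)
    (Groth.Agent.Helper2.RegBC.isRegularHom_baseChange R Λ (R ⧸ I) (Or.inr inferInstance) hreg)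

/-- transfer of ind-smoothness to an iterated quotient. -/
theorem indSmooth_doubleQuot (I J : Ideal R) (hIJ : I ≤ J)
    (h : Smoothing.IndSmooth (R ⧸ J) (Λ ⧸ J.map (algebraMap R Λ))) :
    Smoothing.IndSmooth ((R ⧸ I) ⧸ J.map (Ideal.Quotient.mk I))
      ((Λ ⧸ I.map (algebraMap R Λ)) ⧸ (J.map (Ideal.Quotient.mk I)).map
        (algebraMap (R ⧸ I) (Λ ⧸ I.map (algebraMap R Λ)))) := by
  have hIJΛ : I.map (algebraMap R Λ) ≤ J.map (algebraMap R Λ) := Ideal.map_mono hIJ
  have hmapeq : (J.map (Ideal.Quotient.mk I)).map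
      (algebraMap (R ⧸ I) (Λ ⧸ I.map (algebraMap R Λ))) =
      (J.map (algebraMap R Λ)).map (Ideal.Quotient.mk (I.map (algebraMap R Λ))) := by
    rw [Ideal.map_map, Ideal.map_map]
    rfl
  let e : R ⧸ J ≃+* (R ⧸ I) ⧸ J.map (Ideal.Quotient.mk I) :=
    (DoubleQuot.quotQuotEquivQuotOfLE hIJ).symm
  let eΛ : Λ ⧸ J.map (algebraMap R Λ) ≃+* (Λ ⧸ I.map (algebraMap R Λ)) ⧸
      (J.map (Ideal.Quotient.mk I)).map (algebraMap (R ⧸ I) (Λ ⧸ I.map (algebraMap R Λ))) :=
    (DoubleQuot.quotQuotEquivQuotOfLE hIJΛ).symm.trans (Ideal.quotEquivOfEq hmapeq.symm)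
  refine IndSmoothNil.indSmooth_transfer e eΛ ?_ h
  intro r
  obtain ⟨r, rfl⟩ := Ideal.Quotient.mk_surjective r
  change eΛ (Ideal.Quotient.mk _ (algebraMap R Λ r)) = _
  simp only [e, eΛ, RingEquiv.trans_apply, DoubleQuot.quotQuotEquivQuotOfLE_symm_mk]
  rfl

end Quot

/-- **Popescu's theorem**: a regular homomorphism of Noetherian rings is ind-smooth. -/
theorem popescu {R Λ : Type u} [CommRing R] [IsNoetherianRing R] [CommRing Λ]
    [IsNoetherianRing Λ] [Algebra R Λ] (hreg : CAlg.IsRegularHom R Λ) :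
    Smoothing.IndSmooth R Λ := by
  have key : ∀ I : Ideal R, Smoothing.IndSmooth (R ⧸ I) (Λ ⧸ I.map (algebraMap R Λ)) := by
    intro I
    induction I using IsNoetherian.induction with
    | hgt I ih =>
      apply popescu_step (isRegularHom_quotient hreg I)
      intro K hK
      have hIJ : I ≤ K.comap (Ideal.Quotient.mk I) := by
        intro x hx
        rw [Ideal.mem_comap, Ideal.Quotient.eq_zero_iff_mem.2 hx]
        exact K.zero_mem
      have hKJ : (K.comap (Ideal.Quotient.mk I)).map (Ideal.Quotient.mk I) = K :=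
        Ideal.map_comap_of_surjective _ Ideal.Quotient.mk_surjective K
      have hlt : I < K.comap (Ideal.Quotient.mk I) := by
        refine lt_of_le_of_ne hIJ ?_
        intro heq
        apply hK
        rw [← hKJ, ← heq, Ideal.map_quotient_self]
      have h := indSmooth_doubleQuot I _ hIJ (ih _ hlt)
      rw [hKJ] at h
      exact h
  exact popescu_step hreg (fun K _ => key K)

end Groth.Agent.Helper2.Pop
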