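import Mathlib
import Groth.Prelude.Def_Smoothing
import Groth.Agent.Helper2.PopG
import Groth.Agent.Helper2.SmLiftG
import Groth.Agent.Helper2.CAwayQuot
import Groth.Agent.Helper3.HensBasic
import Groth.Agent.S0543

set_option autoImplicit false

namespace Groth.Agent.Helper2.ArtApx

open Function Polynomial

universe u

section HensPow

variable {A : Type*} [CommRing A]

/-- a pair henselian along `I` is henselian along the powers of `I`. -/
theorem henselianRing_pow (I : Ideal A) [hI : HenselianRing A I] (N : ℕ) (hN : 0 < N) :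
    HenselianRing A (I ^ N) where
  jac := le_trans (Ideal.pow_le_self hN.ne') hI.jac
  is_henselian := by
    intro f hf a₀ h0 hu
    have hle : I ^ N ≤ I := Ideal.pow_le_self hN.ne'
    have hu' : IsUnit (Ideal.Quotient.mk I (f.derivative.eval a₀)) := by
      have := hu.map (Ideal.Quotient.factor hle)
      rwa [Ideal.Quotient.factor_mk] at this
    obtain ⟨a, ha, haI⟩ := hI.is_henselian f hf a₀ (hle h0) hu'
    refine ⟨a, ha, ?_⟩
    obtain ⟨c, hc⟩ := f.binomExpansion a₀ (a - a₀)
    rw [add_sub_cancel, ha.eq_zero] at hc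
    -- the unit
    have hunit : IsUnit (f.derivative.eval a₀ + c * (a - a₀)) := by
      apply Groth.Agent.Helper3.HensBasic.isUnit_of_isUnit_mk hI.jac
      have : Ideal.Quotient.mk I (f.derivative.eval a₀ + c * (a - a₀)) =
          Ideal.Quotient.mk I (f.derivative.eval a₀) := by
        rw [map_add, Ideal.Quotient.eq_zero_iff_mem.2 (I.mul_mem_left c haI), add_zero]
      rw [this]
      exact hu'
    obtain ⟨v, hv⟩ := hunit.exists_left_inv
    have h1 : (f.derivative.eval a₀ + c * (a - a₀)) * (a - a₀) = -f.eval a₀ := by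
      linear_combination -hc
    have h2 : a - a₀ = v * (-f.eval a₀) := by
      rw [← h1, ← mul_assoc, hv, one_mul]
    rw [h2]
    exact Ideal.mul_mem_left _ _ (neg_mem h0)

end HensPow

section Approx

variable (A : Type u) [CommRing A] (I : Ideal A) [HenselianRing A I]

/-- approximation of a map from a smooth algebra to the completion by a map to the ring. -/
theorem approx_of_smooth (hfg : I.FG) (B : Type u) [CommRing B] [Algebra A B]
    [Algebra.Smooth A B] (h : B →ₐ[A] AdicCompletion I A) (N : ℕ) :
    ∃ τ : B →ₐ[A] A, ∀ y, h y - algebraMap A (AdicCompletion I A) (τ y) ∈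
      (I ^ N).map (algebraMap A (AdicCompletion I A)) := by
  have key : ∀ M : ℕ, 0 < M → ∃ τ : B →ₐ[A] A, ∀ y,
      h y - algebraMap A (AdicCompletion I A) (τ y) ∈
        (I ^ M).map (algebraMap A (AdicCompletion I A)) := by
    intro M hM
    haveI := henselianRing_pow I M hM
    obtain ⟨τ, hτ⟩ := Groth.Agent.Helper2.SmLift.s0536 A B A (I ^ M)
      ((AdicCompletion.evalₐ I M).comp h)
    refine ⟨τ, fun y => ?_⟩
    rw [Ideal.map_pow, ← Groth.Agent.Helper2.CAwayQuot.ker_evalₐ_gen I hfg M, RingHom.mem_ker,
      map_sub, sub_eq_zero]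
    have h1 := AlgHom.congr_fun hτ y
    rw [AlgHom.comp_apply, AlgHom.comp_apply] at h1
    rw [← h1, AlgHom.commutes]
    rfl
  rcases Nat.eq_zero_or_pos N with h0 | hpos
  · obtain ⟨τ, -⟩ := key 1 one_pos
    refine ⟨τ, fun y => ?_⟩
    rw [h0, pow_zero, Ideal.one_eq_top, Ideal.map_top]
    trivial
  · exact key N hpos

end Approx

section Main

open MvPolynomial

/-- **Artin approximation for henselian pairs with regular completion map.** -/
theorem s0597 (A : Type u) [CommRing A] [IsNoetherianRing A]
    (I : Ideal A) [HenselianRing A I] (hreg : CAlg.IsRegularHom A (AdicCompletion I A)) (n m : ℕ)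
    (F : Fin m → MvPolynomial (Fin n) A) (a : Fin n → (AdicCompletion I A))
    (ha : ∀ j, MvPolynomial.eval a (MvPolynomial.map (algebraMap A (AdicCompletion I A)) (F j)) = 0)
    (N : ℕ) :
    ∃ b : Fin n → A, (∀ j, MvPolynomial.eval b (F j) = 0) ∧
      ∀ i, a i - algebraMap A (AdicCompletion I A) (b i) ∈
        (I ^ N).map (algebraMap A (AdicCompletion I A)) := by
  classical
  haveI : IsNoetherianRing (AdicCompletion I A) := Groth.Agent.S0543.result A I
  -- the finitely presented algebra
  haveI hfp : Algebra.FinitePresentation A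
      (MvPolynomial (Fin n) A ⧸ Ideal.span (Set.range F)) :=
    Algebra.FinitePresentation.quotient (Submodule.fg_span (Set.finite_range F))
  have ha' : ∀ j, MvPolynomial.aeval a (F j) = 0 := by
    intro j
    rw [MvPolynomial.aeval_def, MvPolynomial.eval₂_eq_eval_map]
    exact ha j
  let φ : (MvPolynomial (Fin n) A ⧸ Ideal.span (Set.range F)) →ₐ[A] AdicCompletion I A :=
    Ideal.Quotient.liftₐ _ (MvPolynomial.aeval a) (by
      intro x hx
      have hle : Ideal.span (Set.range F) ≤ RingHom.ker (MvPolynomial.aeval a :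
          MvPolynomial (Fin n) A →ₐ[A] AdicCompletion I A).toRingHom := by
        rw [Ideal.span_le]
        rintro _ ⟨j, rfl⟩
        exact ha' j
      exact hle hx)
  have hφ : ∀ x, φ (Ideal.Quotient.mk _ x) = MvPolynomial.aeval a x := fun x => rfl
  obtain ⟨B, instB, algB, hsm, g, h, hgh⟩ :=
    Groth.Agent.Helper2.Pop.popescu hreg _ hfp φ
  haveI := hsm
  obtain ⟨τ, hτ⟩ := approx_of_smooth A I ((isNoetherianRing_iff_ideal_fg A).1 inferInstance I)
    B h N
  refine ⟨fun i => τ (g (Ideal.Quotient.mk _ (X i))), ?_, ?_⟩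
  · intro j
    have h1 : ((τ.comp g).comp (Ideal.Quotient.mkₐ A (Ideal.span (Set.range F)))) =
        MvPolynomial.aeval (fun i => τ (g (Ideal.Quotient.mk _ (X i)))) := by
      apply MvPolynomial.algHom_ext
      intro i
      rw [MvPolynomial.aeval_X]
      rfl
    have h2 := AlgHom.congr_fun h1 (F j)
    have h3 : MvPolynomial.eval (fun i => τ (g (Ideal.Quotient.mk _ (X i)))) (F j) =
        MvPolynomial.aeval (fun i => τ (g (Ideal.Quotient.mk _ (X i)))) (F j) :=
      (RingHom.congr_fun (MvPolynomial.coe_aeval_eq_eval _) (F j)).symm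
    rw [h3, ← h2]
    show τ (g (Ideal.Quotient.mk _ (F j))) = 0
    have h4 : (Ideal.Quotient.mk (Ideal.span (Set.range F))) (F j) = 0 :=
      Ideal.Quotient.eq_zero_iff_mem.2 (Ideal.subset_span ⟨j, rfl⟩)
    rw [h4, map_zero, map_zero]
  · intro i
    have h1 : a i = h (g (Ideal.Quotient.mk _ (X i))) := by
      have := AlgHom.congr_fun hgh (Ideal.Quotient.mk _ (X i))
      rw [AlgHom.comp_apply, hφ, MvPolynomial.aeval_X] at this
      exact this.symm
    rw [h1]
    exact hτ _

end Main

end Groth.Agent.Helper2.ArtApx
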