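import Mathlib
import Groth.Prelude.Def_Found
import Groth.Prelude.Def_EGA4b
import Groth.Agent.Helper2.AdicHom
set_option autoImplicit false
universe u
open IsLocalRing TensorProduct

namespace Groth.Agent.Helper2.GLoc

/-- regularity of the completion map is invariant under ring isomorphisms -/
theorem isRegularHom_cpl_of_ringEquiv {R R' : Type u} [CommRing R] [CommRing R']
    [IsNoetherianRing R] [IsNoetherianRing R'] [IsLocalRing R] [IsLocalRing R'] (e : R ≃+* R')
    (h : CAlg.IsRegularHom R (EGA4.Cpl R)) : CAlg.IsRegularHom R' (EGA4.Cpl R') := by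
  letI : Algebra R' R := e.symm.toRingHom.toAlgebra
  haveI : IsLocalization (⊥ : Submonoid R') R :=
    IsLocalization.of_le_isUnit_of_bijective (by
      rintro _ ⟨x, hx, rfl⟩
      have hx1 : x = 1 := Submonoid.mem_bot.mp hx
      subst hx1
      simp) e.symm.bijective
  have h0 : CAlg.IsRegularHom R' R :=
    Groth.Agent.Helper2.LocHom.isRegularHom_localization_self R' ⊥ R
  haveI : IsLocalHom (algebraMap R' R) := by
    change IsLocalHom e.symm.toRingHom
    exact ⟨fun a ha => by
      have := ha.map e.toRingHom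
      simpa using this⟩
  exact Groth.Agent.Helper2.CplDesc.isRegularHom_cpl R' R h0 h

section Sch
open AlgebraicGeometry CategoryTheory

/-- the statement S7414 -/
theorem gScheme_iff (X : Scheme.{u}) :
    (∀ x : X, ∃ U : X.Opens, x ∈ U ∧ IsAffineOpen U ∧ CAlg.IsGRing Γ(X, U)) ↔
      ∀ U : X.Opens, IsAffineOpen U → CAlg.IsGRing Γ(X, U) := by
  constructor
  · intro H U hU
    choose V hxV hVaff hVG using H
    haveI : IsLocallyNoetherian X :=
      isLocallyNoetherian_of_affine_cover (S := fun x : X => (⟨V x, hVaff x⟩ : X.affineOpens))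
        (by
          rw [eq_top_iff]
          intro x _
          exact TopologicalSpace.Opens.mem_iSup.mpr ⟨x, hxV x⟩)
        (fun x => (hVG x).1)
    haveI hUN : IsNoetherianRing Γ(X, U) := IsLocallyNoetherian.component_noetherian ⟨U, hU⟩
    refine ⟨hUN, fun p hp => ?_⟩
    set y : PrimeSpectrum Γ(X, U) := ⟨p, hp⟩ with hy
    have hyU : hU.fromSpec y ∈ U := by
      have := hU.range_fromSpec
      rw [← SetLike.mem_coe, ← this]
      exact ⟨y, rfl⟩
    have h1 := hU.isLocalization_stalk' y hyU
    set x : X := hU.fromSpec y with hx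
    have h2 := (hVaff x).isLocalization_stalk ⟨x, hxV x⟩
    haveI hVN : IsNoetherianRing Γ(X, V x) := (hVG x).1
    obtain ⟨e1⟩ : Nonempty (Localization.AtPrime p ≃+* X.presheaf.stalk x) := by
      letI := TopCat.Presheaf.algebra_section_stalk X.presheaf ⟨x, hyU⟩
      haveI : IsLocalization p.primeCompl (X.presheaf.stalk x) := h1
      exact ⟨(IsLocalization.algEquiv p.primeCompl (Localization.AtPrime p)
        (X.presheaf.stalk x)).toRingEquiv⟩
    obtain ⟨e2⟩ : Nonempty (Localization.AtPrime ((hVaff x).primeIdealOf ⟨x, hxV x⟩).asIdeal ≃+*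
        X.presheaf.stalk x) := by
      letI := TopCat.Presheaf.algebra_section_stalk X.presheaf ⟨x, hxV x⟩
      haveI := h2
      exact ⟨(IsLocalization.algEquiv ((hVaff x).primeIdealOf ⟨x, hxV x⟩).asIdeal.primeCompl
        (Localization.AtPrime ((hVaff x).primeIdealOf ⟨x, hxV x⟩).asIdeal)
        (X.presheaf.stalk x)).toRingEquiv⟩
    exact isRegularHom_cpl_of_ringEquiv (e2.trans e1.symm)
      ((hVG x).2 ((hVaff x).primeIdealOf ⟨x, hxV x⟩).asIdeal)
  · intro H x
    obtain ⟨_, ⟨U, hU, rfl⟩, hxU, -⟩ := X.isBasis_affineOpens.exists_subset_of_mem_open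
      (Set.mem_univ x) isOpen_univ
    exact ⟨U, hxU, hU, H _ hU⟩

end Sch

end Groth.Agent.Helper2.GLoc
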