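import Mathlib
import Groth.Prelude.Def_Smoothing
import Groth.Agent.Helper2.ArtApxA
import Groth.Agent.Helper2.GLoc
import Groth.Agent.Helper2.AdicHom

set_option autoImplicit false

namespace Groth.Agent.Helper2.ArtApx

open Function IsLocalRing

universe u

/-- the completion map of a local G-ring is regular. -/
theorem isRegularHom_cpl_of_isGRing (R : Type u) [CommRing R] [IsLocalRing R]
    (hG : CAlg.IsGRing R) :
    CAlg.IsRegularHom R (AdicCompletion (maximalIdeal R) R) := by
  haveI : IsNoetherianRing R := hG.1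
  have h1 := hG.2 (maximalIdeal R)
  let e : R ≃ₐ[R] Localization.AtPrime (maximalIdeal R) :=
    IsLocalization.atUnits R (maximalIdeal R).primeCompl (by
      intro x hx
      exact (IsLocalRing.notMem_maximalIdeal.1 hx))
  exact Groth.Agent.Helper2.GLoc.isRegularHom_cpl_of_ringEquiv e.symm.toRingEquiv h1

/-- **Artin approximation for henselian local G-rings.** -/
theorem s0596 (R : Type u) [CommRing R] [HenselianLocalRing R]
    (hG : CAlg.IsGRing R) (n m : ℕ) (F : Fin m → MvPolynomial (Fin n) R)
    (a : Fin n → (AdicCompletion (IsLocalRing.maximalIdeal R) R))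
    (ha : ∀ j, MvPolynomial.eval a (MvPolynomial.map
      (algebraMap R (AdicCompletion (IsLocalRing.maximalIdeal R) R)) (F j)) = 0) (N : ℕ) :
    ∃ b : Fin n → R, (∀ j, MvPolynomial.eval b (F j) = 0) ∧
      ∀ i, a i - algebraMap R (AdicCompletion (IsLocalRing.maximalIdeal R) R) (b i) ∈
        (IsLocalRing.maximalIdeal R ^ N).map
          (algebraMap R (AdicCompletion (IsLocalRing.maximalIdeal R) R)) := by
  haveI : IsNoetherianRing R := hG.1
  exact s0597 R (maximalIdeal R) (isRegularHom_cpl_of_isGRing R hG) n m F a ha N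

/-- the approximation property in the form used for functors. -/
theorem hAP_of_regular (A : Type u) [CommRing A] [IsNoetherianRing A] (I : Ideal A)
    [HenselianRing A I] (hreg : CAlg.IsRegularHom A (AdicCompletion I A))
    (k l c : ℕ) (f : Fin l → MvPolynomial (Fin k) A) (â : Fin k → AdicCompletion I A)
    (hf : ∀ i, MvPolynomial.aeval â (f i) = 0) :
    ∃ a : Fin k → A, (∀ i, MvPolynomial.eval a (f i) = 0) ∧
      ∀ j, Ideal.Quotient.mk (I ^ c) (a j) = AdicCompletion.evalₐ I c (â j) := by
  have hf' : ∀ i, MvPolynomial.eval â (MvPolynomial.map (algebraMap A (AdicCompletion I A)) (f i)) = 0 := by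
    intro i
    rw [← MvPolynomial.eval₂_eq_eval_map, ← MvPolynomial.aeval_def]
    exact hf i
  obtain ⟨a, ha, hâ⟩ := s0597 A I hreg k l f â hf' c
  refine ⟨a, ha, fun j => ?_⟩
  have h1 := hâ j
  rw [Ideal.map_pow, ← Groth.Agent.Helper2.CAwayQuot.ker_evalₐ_gen I
    ((isNoetherianRing_iff_ideal_fg A).1 inferInstance I) c, RingHom.mem_ker, map_sub,
    sub_eq_zero] at h1
  rw [h1, AlgHom.commutes]
  rfl

/-- the completion map of a G-ring along any ideal is regular. -/
theorem isRegularHom_adic_of_isGRing (A : Type u) [CommRing A] (hG : CAlg.IsGRing A) (I : Ideal A) :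
    CAlg.IsRegularHom A (AdicCompletion I A) := by
  haveI : IsNoetherianRing A := hG.1
  exact Groth.Agent.Helper2.AdicHom.isRegularHom_adicCompletion A I (fun p _ => hG.2 p)

end Groth.Agent.Helper2.ArtApx
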