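import Mathlib
import Groth.Prelude.Def_Smoothing
import Groth.Agent.Helper2.ArtApxB
import Groth.Agent.Helper3.ArtinFun

set_option autoImplicit false

namespace Groth.Agent.Helper2.ArtApx

open Function IsLocalRing CategoryTheory CategoryTheory.Limits

universe u

/-- S13503 -/
theorem s13503 (A : Type u) [CommRing A] [IsNoetherianRing A]
    [HenselianLocalRing A]
    (hreg : CAlg.IsRegularHom A (AdicCompletion (IsLocalRing.maximalIdeal A) A))
    (F : Under (CommRingCat.of A) ⥤ Type u)
    (hF : ∀ (J : Type u) [SmallCategory J] [IsFiltered J], PreservesColimitsOfShape J F)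
    (n : ℕ)
    (π : Under.mk (CommRingCat.ofHom (algebraMap A (AdicCompletion (IsLocalRing.maximalIdeal A) A))) ⟶
      Under.mk (CommRingCat.ofHom (algebraMap A (A ⧸ IsLocalRing.maximalIdeal A ^ n))))
    (hπ : π.right = CommRingCat.ofHom
      (AdicCompletion.evalₐ (IsLocalRing.maximalIdeal A) n : AdicCompletion (IsLocalRing.maximalIdeal A) A →ₐ[A]
        A ⧸ IsLocalRing.maximalIdeal A ^ n).toRingHom)
    (ρ : Under.mk (𝟙 (CommRingCat.of A)) ⟶
      Under.mk (CommRingCat.ofHom (algebraMap A (A ⧸ IsLocalRing.maximalIdeal A ^ n))))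
    (ξ : F.obj (Under.mk (CommRingCat.ofHom (algebraMap A (AdicCompletion (IsLocalRing.maximalIdeal A) A))))) :
    ∃ η : F.obj (Under.mk (𝟙 (CommRingCat.of A))), F.map ρ η = F.map π ξ :=
  Groth.Agent.Helper3.ArtinFun.main A (maximalIdeal A) (maximalIdeal.isMaximal A).ne_top
    (fun k l c f â hf => hAP_of_regular A (maximalIdeal A) hreg k l c f â hf) F hF n π hπ ρ ξ

/-- S14050 -/
theorem s14050 (A : Type u) [CommRing A]
    (I : Ideal A) [HenselianRing A I] (hG : CAlg.IsGRing A)
    (F : Under (CommRingCat.of A) ⥤ Type u)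
    (hF : ∀ (J : Type u) [SmallCategory J] [IsFiltered J], PreservesColimitsOfShape J F)
    (n : ℕ)
    (π : Under.mk (CommRingCat.ofHom (algebraMap A (AdicCompletion I A))) ⟶
      Under.mk (CommRingCat.ofHom (algebraMap A (A ⧸ I ^ (n + 1)))))
    (hπ : π.right = CommRingCat.ofHom
      (AdicCompletion.evalₐ I (n + 1) : AdicCompletion I A →ₐ[A] A ⧸ I ^ (n + 1)).toRingHom)
    (ρ : Under.mk (𝟙 (CommRingCat.of A)) ⟶
      Under.mk (CommRingCat.ofHom (algebraMap A (A ⧸ I ^ (n + 1)))))
    (ξ : F.obj (Under.mk (CommRingCat.ofHom (algebraMap A (AdicCompletion I A))))) :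
    ∃ η : F.obj (Under.mk (𝟙 (CommRingCat.of A))), F.map ρ η = F.map π ξ := by
  haveI : IsNoetherianRing A := hG.1
  by_cases hI : I = ⊤
  · -- the zero ring
    haveI hsub : Subsingleton A := by
      have h1 : (1 : A) ∈ Ideal.jacobson (⊥ : Ideal A) :=
        (HenselianRing.jac (R := A) (I := I)) (by rw [hI]; trivial)
      rw [Ideal.mem_jacobson_bot] at h1
      have h2 := h1 (-1)
      have h3 : (1 : A) * (-1) + 1 = 0 := by ring
      rw [h3] at h2
      exact subsingleton_of_zero_eq_one (isUnit_zero_iff.1 h2)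
    let f0 : AdicCompletion I A →+* A :=
      { toFun := fun _ => 0
        map_one' := Subsingleton.elim _ _
        map_mul' := fun _ _ => Subsingleton.elim _ _
        map_zero' := rfl
        map_add' := fun _ _ => Subsingleton.elim _ _ }
    let u : Under.mk (CommRingCat.ofHom (algebraMap A (AdicCompletion I A))) ⟶
        Under.mk (𝟙 (CommRingCat.of A)) :=
      Under.homMk (CommRingCat.ofHom f0) (by
        ext x
        exact @Subsingleton.elim A hsub _ _)
    refine ⟨F.map u ξ, ?_⟩
    have hsubq : Subsingleton (A ⧸ I ^ (n + 1)) := Module.subsingleton A _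
    have h : u ≫ ρ = π := by
      apply Under.UnderMorphism.ext
      ext x
      exact @Subsingleton.elim (A ⧸ I ^ (n + 1)) hsubq _ _
    rw [← h, FunctorToTypes.map_comp_apply]
  · exact Groth.Agent.Helper3.ArtinFun.main A I hI
      (fun k l c f â hf => hAP_of_regular A I (isRegularHom_adic_of_isGRing A hG I) k l c f â hf)
      F hF (n + 1) π hπ ρ ξ

end Groth.Agent.Helper2.ArtApx
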