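import Mathlib
import Groth.Prelude
import Groth.Agent.Helper2.SmLiftG
import Groth.Agent.Helper2.PairHensNbhd3
import Groth.Agent.Helper2.PairHensUniv
set_option autoImplicit false

universe u

noncomputable section

namespace Groth.Agent.Helper2.SmLift

open MvPolynomial Groth.Agent.Helper2.PairHens

theorem s2043 {A B : Type u} [CommRing A] [CommRing B] [Algebra A B]
    [Algebra.Smooth A B] (I : Ideal A) (σ : B →ₐ[A] A ⧸ I) :
    ∃ (A' : Type u) (_ : CommRing A') (_ : Algebra A A'), Algebra.Etale A A' ∧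
      Function.Bijective (algebraMap (A ⧸ I) (A' ⧸ I.map (algebraMap A A'))) ∧
      ∃ τ : B →ₐ[A] A', ∀ b : B,
        Ideal.Quotient.mk (I.map (algebraMap A A')) (τ b) =
          algebraMap (A ⧸ I) (A' ⧸ I.map (algebraMap A A')) (σ b) := by
  classical
  have hP : Hens2.IsPairHenselization A I (Hens I) := Hens.isPairHenselization A I
  set P := Hens I with hPdef
  haveI : HenselianRing P (I.map (algebraMap A P)) := hP.1
  -- the target of the lifting problem
  let q : A ⧸ I →ₐ[A] P ⧸ I.map (algebraMap A P) :=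
    Ideal.quotientMapₐ (I.map (algebraMap A P)) (Algebra.ofId A P) Ideal.le_comap_map
  have hq : ∀ a : A, q (Ideal.Quotient.mk I a) = Ideal.Quotient.mk _ (algebraMap A P a) :=
    fun a => rfl
  obtain ⟨τh, hτh⟩ := s0536 A B P (I.map (algebraMap A P)) (q.comp σ)
  have hτh' : ∀ b, Ideal.Quotient.mk (I.map (algebraMap A P)) (τh b) = q (σ b) :=
    fun b => congr($hτh b)
  -- a presentation of `B`
  obtain ⟨m, π, hπ, hK⟩ := Algebra.FinitePresentation.out (R := A) (A := B)
  obtain ⟨F, hF⟩ := hK
  -- lift the images of the variables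
  obtain ⟨N, hN⟩ := Nbhd.exists_lift hP (Finset.univ.image fun k => τh (π (X k)))
  choose c hc using fun k => hN (τh (π (X k))) (Finset.mem_image_of_mem _ (Finset.mem_univ k))
  let ev : MvPolynomial (Fin m) A →ₐ[A] N.A := aeval c
  have hev : ∀ f, algebraMap N.A P (ev f) = τh (π f) := by
    intro f
    have : (IsScalarTower.toAlgHom A N.A P).comp ev = τh.comp π := by
      apply MvPolynomial.algHom_ext
      intro k
      simp only [AlgHom.comp_apply, ev, aeval_X, IsScalarTower.toAlgHom_apply]
      exact hc k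
    exact congr($this f)
  have hFker : ∀ f ∈ F, π f = 0 := by
    intro f hf
    have : f ∈ RingHom.ker π.toRingHom := hF ▸ Ideal.subset_span hf
    exact this
  -- kill the relations
  obtain ⟨N', hN'⟩ := Nbhd.exists_kill_finset N.hens (F.image ev) (by
    intro z hz
    obtain ⟨f, hf, rfl⟩ := Finset.mem_image.mp hz
    rw [hev, hFker f hf, map_zero])
  obtain ⟨N'', ψ, hψ1, hψ2, hψ3⟩ := Nbhd.exists_trans N N'
  let ψa : N.A →ₐ[A] N''.A := { ψ with commutes' := hψ1 }
  let ev'' : MvPolynomial (Fin m) A →ₐ[A] N''.A := ψa.comp ev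
  have hker : RingHom.ker π.toRingHom ≤ RingHom.ker ev''.toRingHom := by
    rw [← hF, Ideal.span_le]
    intro f hf
    show ψ (ev f) = 0
    exact hψ3 _ (hN' _ (Finset.mem_image_of_mem _ hf))
  let τ : B →ₐ[A] N''.A := AlgHom.liftOfSurjective π hπ ev'' hker
  have hτ : ∀ f, τ (π f) = ψ (ev f) := fun f => AlgHom.liftOfSurjective_apply π hπ ev'' hker f
  refine ⟨N''.A, inferInstance, inferInstance, inferInstance, N''.bij, τ, fun b => ?_⟩
  obtain ⟨f, rfl⟩ := hπ b
  obtain ⟨a, ha⟩ := Ideal.Quotient.mk_surjective (σ (π f))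
  rw [← ha]
  show _ = Ideal.Quotient.mk _ (algebraMap A N''.A a)
  rw [Ideal.Quotient.eq]
  -- contraction along the henselization
  have h1 : algebraMap N''.A P (τ (π f) - algebraMap A N''.A a) ∈
      ((I.map (algebraMap A N''.A)) ^ 1).map (algebraMap N''.A P) := by
    rw [pow_one, Ideal.map_map, ← IsScalarTower.algebraMap_eq, map_sub,
      ← IsScalarTower.algebraMap_apply, hτ, hψ2, hev, ← Ideal.Quotient.eq, hτh', ← ha, hq]
  have h2 := mem_pow_of_algebraMap_mem N''.hens 1 _ h1
  rwa [pow_one] at h2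

end Groth.Agent.Helper2.SmLift
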