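import Mathlib
import Groth.Prelude.Def_Smoothing
import Groth.Agent.Helper2.ArtApxB
import Groth.Agent.Helper2.SmLiftH

set_option autoImplicit false

namespace Groth.Agent.Helper2.ArtApx

open Function IsLocalRing MvPolynomial

universe u

set_option maxHeartbeats 1600000 in
/-- S6825: étale-local Artin approximation for local G-rings. -/
theorem s6825 {R : Type u} [CommRing R] [IsLocalRing R] (hG : CAlg.IsGRing R)
    {n m : ℕ} (F : Fin m → MvPolynomial (Fin n) R)
    (a : Fin n → AdicCompletion (IsLocalRing.maximalIdeal R) R)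
    (ha : ∀ j, MvPolynomial.aeval a (F j) = 0) (N : ℕ) :
    ∃ (R' : Type u) (_ : CommRing R') (_ : Algebra R R'), Algebra.Etale R R' ∧
      ∃ (ψ : R' →ₐ[R] AdicCompletion (IsLocalRing.maximalIdeal R) R) (m' : Ideal R'),
        m'.IsMaximal ∧
        m'.comap (algebraMap R R') = IsLocalRing.maximalIdeal R ∧
        (∀ x : R', ∃ r : R, x - algebraMap R R' r ∈ m') ∧
        (∀ x ∈ m', ψ x ∈ (IsLocalRing.maximalIdeal R).map
          (algebraMap R (AdicCompletion (IsLocalRing.maximalIdeal R) R))) ∧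
        ∃ b : Fin n → R', (∀ j, MvPolynomial.aeval b (F j) = 0) ∧
          ∀ i, a i - ψ (b i) ∈ (IsLocalRing.maximalIdeal R ^ N).map
            (algebraMap R (AdicCompletion (IsLocalRing.maximalIdeal R) R)) := by
  classical
  haveI : IsNoetherianRing R := hG.1
  have hfg : (maximalIdeal R).FG := (isNoetherianRing_iff_ideal_fg R).1 inferInstance _
  haveI : IsNoetherianRing (AdicCompletion (maximalIdeal R) R) :=
    Groth.Agent.S0543.result R (maximalIdeal R)
  have hreg : CAlg.IsRegularHom R (AdicCompletion (maximalIdeal R) R) :=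
    isRegularHom_adic_of_isGRing R hG (maximalIdeal R)
  -- the finitely presented algebra
  haveI hfp : Algebra.FinitePresentation R
      (MvPolynomial (Fin n) R ⧸ Ideal.span (Set.range F)) :=
    Algebra.FinitePresentation.quotient (Submodule.fg_span (Set.finite_range F))
  let φ : (MvPolynomial (Fin n) R ⧸ Ideal.span (Set.range F)) →ₐ[R]
      AdicCompletion (maximalIdeal R) R :=
    Ideal.Quotient.liftₐ _ (MvPolynomial.aeval a) (by
      intro x hx
      have hle : Ideal.span (Set.range F) ≤ RingHom.ker (MvPolynomial.aeval a :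
          MvPolynomial (Fin n) R →ₐ[R] AdicCompletion (maximalIdeal R) R).toRingHom := by
        rw [Ideal.span_le]
        rintro _ ⟨j, rfl⟩
        exact ha j
      exact hle hx)
  have hφ : ∀ x, φ (Ideal.Quotient.mk _ x) = MvPolynomial.aeval a x := fun x => rfl
  obtain ⟨B, instB, algB, hsm, g, h, hgh⟩ :=
    Groth.Agent.Helper2.Pop.popescu hreg _ hfp φ
  haveI := hsm
  -- the exponent
  obtain ⟨M, hM1, hNM⟩ : ∃ M, 0 < M ∧ N ≤ M := ⟨N + 1, Nat.succ_pos _, Nat.le_succ _⟩
  obtain ⟨R', instR', algR', hetale, hbij, τ, hτ⟩ :=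
    Groth.Agent.Helper2.SmLift.s2043 (maximalIdeal R ^ M)
      ((AdicCompletion.evalₐ (maximalIdeal R) M).comp h)
  haveI := hetale
  -- the henselian pair
  haveI : IsAdicComplete ((maximalIdeal R).map
      (algebraMap R (AdicCompletion (maximalIdeal R) R))) (AdicCompletion (maximalIdeal R) R) :=
    AdicCompletion.isAdicComplete_self (maximalIdeal R) hfg
  haveI hhT : HenselianRing (AdicCompletion (maximalIdeal R) R) ((maximalIdeal R).map
      (algebraMap R (AdicCompletion (maximalIdeal R) R))) := inferInstance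
  haveI hhTM : HenselianRing (AdicCompletion (maximalIdeal R) R) (((maximalIdeal R).map
      (algebraMap R (AdicCompletion (maximalIdeal R) R))) ^ M) := henselianRing_pow _ M hM1
  have hJ : ((maximalIdeal R).map (algebraMap R (AdicCompletion (maximalIdeal R) R))) ^ M =
      (maximalIdeal R ^ M).map (algebraMap R (AdicCompletion (maximalIdeal R) R)) :=
    (Ideal.map_pow _ _ _).symm
  have hker : RingHom.ker (AdicCompletion.evalₐ (maximalIdeal R) M) =
      ((maximalIdeal R).map (algebraMap R (AdicCompletion (maximalIdeal R) R))) ^ M :=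
    Groth.Agent.Helper2.CAwayQuot.ker_evalₐ_gen (maximalIdeal R) hfg M
  -- the maps
  let ε : (R ⧸ maximalIdeal R ^ M) ≃ₐ[R] (R' ⧸ (maximalIdeal R ^ M).map (algebraMap R R')) :=
    AlgEquiv.ofBijective (IsScalarTower.toAlgHom R (R ⧸ maximalIdeal R ^ M)
      (R' ⧸ (maximalIdeal R ^ M).map (algebraMap R R'))) hbij
  have hε : ∀ z, ε z = algebraMap (R ⧸ maximalIdeal R ^ M)
      (R' ⧸ (maximalIdeal R ^ M).map (algebraMap R R')) z := fun z => rfl
  let q : R ⧸ maximalIdeal R ^ M →ₐ[R] AdicCompletion (maximalIdeal R) R ⧸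
      ((maximalIdeal R).map (algebraMap R (AdicCompletion (maximalIdeal R) R))) ^ M :=
    Ideal.quotientMapₐ _ (Algebra.ofId R (AdicCompletion (maximalIdeal R) R)) (by
      rw [hJ]
      exact Ideal.le_comap_map)
  have hq : ∀ r : R, q (Ideal.Quotient.mk _ r) =
      Ideal.Quotient.mk _ (algebraMap R (AdicCompletion (maximalIdeal R) R) r) := fun r => rfl
  let σ' : R' →ₐ[R] AdicCompletion (maximalIdeal R) R ⧸
      ((maximalIdeal R).map (algebraMap R (AdicCompletion (maximalIdeal R) R))) ^ M :=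
    q.comp (ε.symm.toAlgHom.comp (Ideal.Quotient.mkₐ R _))
  have hσ' : ∀ x, σ' x = q (ε.symm (Ideal.Quotient.mk _ x)) := fun x => rfl
  obtain ⟨ψ, hψ⟩ := Groth.Agent.Helper2.SmLift.s0536 R R' (AdicCompletion (maximalIdeal R) R)
    (((maximalIdeal R).map (algebraMap R (AdicCompletion (maximalIdeal R) R))) ^ M) σ'
  have hψ' : ∀ x, Ideal.Quotient.mk _ (ψ x) = σ' x := fun x => AlgHom.congr_fun hψ x
  -- key facts
  have hK1 : ∀ t : AdicCompletion (maximalIdeal R) R,
      q (AdicCompletion.evalₐ (maximalIdeal R) M t) = Ideal.Quotient.mk _ t := by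
    intro t
    obtain ⟨r, hr⟩ := Ideal.Quotient.mk_surjective (AdicCompletion.evalₐ (maximalIdeal R) M t)
    rw [← hr, hq]
    symm
    rw [Ideal.Quotient.eq, ← hker, RingHom.mem_ker, map_sub, sub_eq_zero, ← hr,
      AlgHom.commutes]
    rfl
  have hK2 : ∀ y : B, Ideal.Quotient.mk (((maximalIdeal R).map
      (algebraMap R (AdicCompletion (maximalIdeal R) R))) ^ M) (ψ (τ y)) =
      Ideal.Quotient.mk _ (h y) := by
    intro y
    rw [hψ', hσ', hτ, ← hε, ε.symm_apply_apply, AlgHom.comp_apply, hK1]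
  -- the maximal ideal
  have hle : maximalIdeal R ^ M ≤ maximalIdeal R := Ideal.pow_le_self hM1.ne'
  let χ : R' →ₐ[R] R ⧸ maximalIdeal R :=
    (Ideal.Quotient.factorₐ R hle).comp (ε.symm.toAlgHom.comp (Ideal.Quotient.mkₐ R _))
  have hχ : ∀ x, χ x = Ideal.Quotient.factor hle (ε.symm (Ideal.Quotient.mk _ x)) := fun x => rfl
  have hχsurj : Function.Surjective χ := by
    intro z
    obtain ⟨r, rfl⟩ := Ideal.Quotient.mk_surjective z
    refine ⟨algebraMap R R' r, ?_⟩
    rw [AlgHom.commutes]
    rfl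
  refine ⟨R', instR', algR', hetale, ψ, RingHom.ker χ.toRingHom, ?_, ?_, ?_, ?_, ?_⟩
  · letI : Field (R ⧸ maximalIdeal R) := Ideal.Quotient.field _
    exact RingHom.ker_isMaximal_of_surjective χ.toRingHom hχsurj
  · ext x
    rw [Ideal.mem_comap, RingHom.mem_ker]
    show χ (algebraMap R R' x) = 0 ↔ _
    rw [AlgHom.commutes, Ideal.Quotient.algebraMap_eq, Ideal.Quotient.eq_zero_iff_mem]
  · intro x
    obtain ⟨r, hr⟩ := Ideal.Quotient.mk_surjective (χ x)
    refine ⟨r, ?_⟩
    rw [RingHom.mem_ker]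
    show χ (x - algebraMap R R' r) = 0
    rw [map_sub, AlgHom.commutes, ← hr]
    exact sub_self _
  · intro x hx
    have hx0 : χ x = 0 := hx
    obtain ⟨r, hr⟩ := Ideal.Quotient.mk_surjective (ε.symm (Ideal.Quotient.mk _ x))
    have hr𝔪 : r ∈ maximalIdeal R := by
      rw [hχ, ← hr, Ideal.Quotient.factor_mk, Ideal.Quotient.eq_zero_iff_mem] at hx0
      exact hx0
    have h1 : Ideal.Quotient.mk (((maximalIdeal R).map
        (algebraMap R (AdicCompletion (maximalIdeal R) R))) ^ M) (ψ x) =
        Ideal.Quotient.mk _ (algebraMap R (AdicCompletion (maximalIdeal R) R) r) := by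
      rw [hψ', hσ', ← hr, hq]
    rw [Ideal.Quotient.eq] at h1
    have h2 : ψ x - algebraMap R (AdicCompletion (maximalIdeal R) R) r ∈ (maximalIdeal R).map
        (algebraMap R (AdicCompletion (maximalIdeal R) R)) := Ideal.pow_le_self hM1.ne' h1
    have h3 : algebraMap R (AdicCompletion (maximalIdeal R) R) r ∈ (maximalIdeal R).map
        (algebraMap R (AdicCompletion (maximalIdeal R) R)) := Ideal.mem_map_of_mem _ hr𝔪
    have := Ideal.add_mem _ h2 h3
    rwa [sub_add_cancel] at this
  · refine ⟨fun i => τ (g (Ideal.Quotient.mk _ (X i))), ?_, ?_⟩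
    · intro j
      have h1 : ((τ.comp g).comp (Ideal.Quotient.mkₐ R (Ideal.span (Set.range F)))) =
          MvPolynomial.aeval (fun i => τ (g (Ideal.Quotient.mk _ (X i)))) := by
        apply MvPolynomial.algHom_ext
        intro i
        rw [MvPolynomial.aeval_X]
        rfl
      have h2 := AlgHom.congr_fun h1 (F j)
      rw [← h2]
      show τ (g (Ideal.Quotient.mk _ (F j))) = 0
      have h4 : (Ideal.Quotient.mk (Ideal.span (Set.range F))) (F j) = 0 :=
        Ideal.Quotient.eq_zero_iff_mem.2 (Ideal.subset_span ⟨j, rfl⟩)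
      rw [h4, map_zero, map_zero]
    · intro i
      have h1 : a i = h (g (Ideal.Quotient.mk _ (X i))) := by
        have := AlgHom.congr_fun hgh (Ideal.Quotient.mk _ (X i))
        rw [AlgHom.comp_apply, hφ, MvPolynomial.aeval_X] at this
        exact this.symm
      rw [h1]
      have h2 := (hK2 (g (Ideal.Quotient.mk _ (X i)))).symm
      rw [Ideal.Quotient.eq, hJ] at h2
      exact Ideal.map_mono (Ideal.pow_le_pow_right hNM) h2

end Groth.Agent.Helper2.ArtApx
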