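import Mathlib
import Groth.Prelude.Def_Found
import Groth.Prelude.Def_EGA4b
import Groth.Agent.Helper2.LocHom
import Groth.Agent.Helper2.RegBC2
import Groth.Agent.Helper2.RegComp
import Groth.Agent.Helper2.RegDescent
import Groth.Agent.Helper2.FFDesc
set_option autoImplicit false
universe u
open IsLocalRing TensorProduct

namespace Groth.Agent.Helper2.RegLoc

/-! First part: original content of this file (used by S5807); kept so that all importers build. -/

lemma isRegularRing_localization (P : Type u) [CommRing P] [IsRegularRing P] (T : Submonoid P) :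
    IsRegularRing (Localization T) := by
  have hn : IsNoetherianRing (Localization T) := IsLocalization.isNoetherianRing T _ inferInstance
  rw [isRegularRing_iff]
  intro q hq
  have : (q.comap (algebraMap P (Localization T))).IsPrime := Ideal.comap_isPrime _ q
  have hreg : IsRegularLocalRing (Localization.AtPrime (q.comap (algebraMap P (Localization T)))) :=
    IsRegularRing.isRegularLocalRing_localization _
  exact IsRegularLocalRing.of_ringEquiv
    (IsLocalization.localizationLocalizationAtPrimeIsoLocalization T q).toRingEquiv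


section Desc
variable (A B C : Type u) [CommRing A] [CommRing B] [CommRing C]
    [Algebra A B] [Algebra B C] [Algebra A C] [IsScalarTower A B C]

/-- descent of regularity of `k' ⊗ fibre` along a faithfully flat `B → C` (no Noetherian
hypothesis on `B`). -/
theorem regular_fiber_descent [Module.FaithfullyFlat B C]
    (p : Ideal A) [p.IsPrime] (k' : Type u) [Field k']
    [Algebra p.ResidueField k'] [Algebra A k'] [IsScalarTower A p.ResidueField k']
    (h : IsRegularRing (k' ⊗[p.ResidueField] (p.Fiber C))) :
    IsRegularRing (k' ⊗[p.ResidueField] (p.Fiber B)) := by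
  have eB : (k' ⊗[p.ResidueField] (p.Fiber B)) ≃+* (B ⊗[A] k') :=
    (Algebra.TensorProduct.cancelBaseChange A p.ResidueField k' k' B).toRingEquiv.trans
        (Algebra.TensorProduct.comm A k' B).toRingEquiv
  have eC : (k' ⊗[p.ResidueField] (p.Fiber C)) ≃+* (C ⊗[A] k') :=
    (Algebra.TensorProduct.cancelBaseChange A p.ResidueField k' k' C).toRingEquiv.trans
        (Algebra.TensorProduct.comm A k' C).toRingEquiv
  letI : Algebra (B ⊗[A] k') (C ⊗[A] k') :=
    (Algebra.TensorProduct.map (IsScalarTower.toAlgHom A B C) (AlgHom.id A k')).toRingHom.toAlgebra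
  haveI : IsScalarTower B (B ⊗[A] k') (C ⊗[A] k') := by
    refine IsScalarTower.of_algebraMap_eq (R := B) (S := B ⊗[A] k') (A := C ⊗[A] k') (fun x => ?_)
    rw [RingHom.algebraMap_toAlgebra
      (Algebra.TensorProduct.map (IsScalarTower.toAlgHom A B C) (AlgHom.id A k')).toRingHom]
    simp only [Algebra.TensorProduct.algebraMap_apply, AlgHom.toRingHom_eq_coe, RingHom.coe_coe,
      Algebra.TensorProduct.map_tmul, map_one]
    rfl
  haveI hpo : Algebra.IsPushout B C (B ⊗[A] k') (C ⊗[A] k') :=
    Algebra.IsPushout.tensorProduct_tensorProduct A k' B C (by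
      ext c
      simp [RingHom.algebraMap_toAlgebra])
  haveI hpo' : Algebra.IsPushout B (B ⊗[A] k') C (C ⊗[A] k') := hpo.symm
  haveI : Module.FaithfullyFlat (B ⊗[A] k') (C ⊗[A] k') :=
    Module.FaithfullyFlat.of_linearEquiv _ _
      (Algebra.IsPushout.equiv B (B ⊗[A] k') C (C ⊗[A] k')).symm.toLinearEquiv
  haveI : IsRegularRing (C ⊗[A] k') :=
    IsRegularRing.of_ringEquiv (R := k' ⊗[p.ResidueField] (p.Fiber C)) eC
  haveI := Groth.Agent.Helper2.RegDescent.isRegularRing_of_faithfullyFlat (B ⊗[A] k') (C ⊗[A] k')
  exact IsRegularRing.of_ringEquiv (R := B ⊗[A] k') eB.symm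

/-- descent of regular homomorphisms along a faithfully flat `B → C` (no Noetherian hypothesis). -/
theorem isRegularHom_descent [Module.FaithfullyFlat B C]
    (hAC : CAlg.IsRegularHom A C) : CAlg.IsRegularHom A B := by
  haveI := hAC.1
  have key : ∀ (p : Ideal A) [p.IsPrime] (k' : Type u) [Field k'] [Algebra p.ResidueField k'],
      Module.Finite p.ResidueField k' → IsRegularRing (k' ⊗[p.ResidueField] (p.Fiber B)) := by
    intro p _ k' _ _ hfin
    letI : Algebra A k' :=
      ((algebraMap p.ResidueField k').comp (algebraMap A p.ResidueField)).toAlgebra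
    haveI : IsScalarTower A p.ResidueField k' := IsScalarTower.of_algebraMap_eq (fun _ => rfl)
    exact regular_fiber_descent A B C p k' ((hAC.2 p).2 k' hfin)
  refine ⟨Groth.Agent.Helper2.FFDesc.flat_of_flat_comp A B C, fun p hp =>
    ⟨?_, fun k' _ _ hfin => key p k' hfin⟩⟩
  haveI hreg := key p p.ResidueField inferInstance
  haveI : IsNoetherianRing (p.ResidueField ⊗[p.ResidueField] (p.Fiber B)) := hreg.toIsNoetherian
  exact isNoetherianRing_of_ringEquiv (p.ResidueField ⊗[p.ResidueField] (p.Fiber B))
    (Algebra.TensorProduct.lid p.ResidueField (p.Fiber B)).toRingEquiv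

end Desc

section Local
variable (R Λ : Type u) [CommRing R] [CommRing Λ] [Algebra R Λ] [IsNoetherianRing Λ]

theorem loc_of_isRegularHom (h : CAlg.IsRegularHom R Λ) (q : Ideal Λ) [q.IsPrime] :
    letI := (Localization.localRingHom (Ideal.comap (algebraMap R Λ) q) q
      (algebraMap R Λ) rfl).toAlgebra
    CAlg.IsRegularHom (Localization.AtPrime (Ideal.comap (algebraMap R Λ) q))
      (Localization.AtPrime q) := by
  letI := (Localization.localRingHom (Ideal.comap (algebraMap R Λ) q) q
    (algebraMap R Λ) rfl).toAlgebra
  haveI : IsScalarTower R (Localization.AtPrime (Ideal.comap (algebraMap R Λ) q))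
      (Localization.AtPrime q) := IsScalarTower.of_algebraMap_eq (fun x => by
    rw [RingHom.algebraMap_toAlgebra, Localization.localRingHom_to_map,
      IsScalarTower.algebraMap_apply R Λ (Localization.AtPrime q)])
  have h1 : CAlg.IsRegularHom Λ (Localization.AtPrime q) :=
    Groth.Agent.Helper2.LocHom.isRegularHom_localization_self Λ q.primeCompl _
  have h2 : CAlg.IsRegularHom R (Localization.AtPrime q) :=
    Groth.Agent.Helper2.RegComp.isRegularHom_comp R Λ (Localization.AtPrime q) h h1
      (fun p' _ => Groth.Agent.Helper2.RegBC.isNoetherianRing_fiber R _ p')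
  haveI : IsLocalization (Algebra.algebraMapSubmonoid (Localization.AtPrime q)
      (Ideal.comap (algebraMap R Λ) q).primeCompl) (Localization.AtPrime q) := by
    apply IsLocalization.of_le_isUnit
    rintro _ ⟨s, hs, rfl⟩
    rw [IsScalarTower.algebraMap_apply R Λ (Localization.AtPrime q)]
    exact IsLocalization.map_units _ (⟨algebraMap R Λ s, hs⟩ : q.primeCompl)
  exact Groth.Agent.Helper2.RegBC2.isRegularHom_localization R (Localization.AtPrime q)
    (Ideal.comap (algebraMap R Λ) q).primeCompl
    (Localization.AtPrime (Ideal.comap (algebraMap R Λ) q)) (Localization.AtPrime q) h2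

theorem isRegularHom_of_loc
    (h : ∀ (n : Ideal Λ) [n.IsMaximal],
      letI := (Localization.localRingHom (Ideal.comap (algebraMap R Λ) n) n
        (algebraMap R Λ) rfl).toAlgebra
      CAlg.IsRegularHom (Localization.AtPrime (Ideal.comap (algebraMap R Λ) n))
        (Localization.AtPrime n)) : CAlg.IsRegularHom R Λ := by
  have key : ∀ (n : Ideal Λ) [n.IsMaximal], CAlg.IsRegularHom R (Localization.AtPrime n) := by
    intro n hn
    letI := (Localization.localRingHom (Ideal.comap (algebraMap R Λ) n) n
      (algebraMap R Λ) rfl).toAlgebra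
    haveI : IsScalarTower R (Localization.AtPrime (Ideal.comap (algebraMap R Λ) n))
        (Localization.AtPrime n) := IsScalarTower.of_algebraMap_eq (fun x => by
      rw [RingHom.algebraMap_toAlgebra, Localization.localRingHom_to_map,
        IsScalarTower.algebraMap_apply R Λ (Localization.AtPrime n)])
    have h0 : CAlg.IsRegularHom R (Localization.AtPrime (Ideal.comap (algebraMap R Λ) n)) :=
      Groth.Agent.Helper2.LocHom.isRegularHom_localization_self R
        (Ideal.comap (algebraMap R Λ) n).primeCompl _
    exact Groth.Agent.Helper2.RegComp.isRegularHom_comp R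
      (Localization.AtPrime (Ideal.comap (algebraMap R Λ) n)) (Localization.AtPrime n) h0 (h n)
      (fun p' _ => Groth.Agent.Helper2.RegBC.isNoetherianRing_fiber R _ p')
  haveI : Module.Flat R Λ :=
    Module.flat_of_isLocalized_maximal Λ Λ (fun P _ => Localization.AtPrime P)
      (fun P _ => Algebra.linearMap Λ (Localization.AtPrime P)) (fun P _ => (key P).1)
  exact Groth.Agent.Helper2.LocHom.isRegularHom_of_forall_maximal R Λ key

end Local

end Groth.Agent.Helper2.RegLoc
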