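import Mathlib
import Groth.Prelude.Def_Smoothing
import Groth.Agent.Helper2.ArtApxD
import Groth.Agent.Helper2.AlgCatFP
import Groth.Agent.S0598
import Groth.Agent.S0599

set_option autoImplicit false

namespace Groth.Agent.Helper2.ArtApx

open Function IsLocalRing CategoryTheory CategoryTheory.Limits

universe u

/-- a field is a G-ring. -/
theorem isGRing_field (k : Type u) [Field k] : CAlg.IsGRing k := by
  haveI : IsAdicComplete (maximalIdeal k) k := by
    rw [IsLocalRing.maximalIdeal_eq_bot]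
    infer_instance
  exact Groth.Agent.S0598.result k

/-- algebras of finite type over a field are G-rings. -/
theorem isGRing_of_finiteType_field (k : Type u) [Field k] (A : Type u) [CommRing A]
    [Algebra k A] [Algebra.FiniteType k A] : CAlg.IsGRing A :=
  Groth.Agent.S0599.result k (isGRing_field k) A

set_option maxHeartbeats 1600000 in
/-- étale-local Artin approximation for functors, over a G-ring. -/
theorem approx_functor_of_isGRing (A : Type u) [CommRing A] (hG : CAlg.IsGRing A)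
    (m : Ideal A)
    (F : CommAlgCat.{u} A ⥤ Type u) [PreservesFilteredColimitsOfSize.{u, u} F]
    (ξ : F.obj (CommAlgCat.of A (AdicCompletion m A))) (M : ℕ) :
    ∃ (A' : Type u) (_ : CommRing A') (_ : Algebra A A') (_ : Algebra.Etale A A')
      (ψ : A' →ₐ[A] (A ⧸ m ^ M)) (_ : Function.Surjective ψ)
      (ξ' : F.obj (CommAlgCat.of A A')),
      F.map (CommAlgCat.ofHom ψ) ξ' =
        F.map (CommAlgCat.ofHom (AdicCompletion.evalₐ m M)) ξ := by
  classical
  haveI : IsNoetherianRing A := hG.1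
  haveI : IsNoetherianRing (AdicCompletion m A) := Groth.Agent.S0543.result A m
  have hreg : CAlg.IsRegularHom A (AdicCompletion m A) := isRegularHom_adic_of_isGRing A hG m
  obtain ⟨B₀, instB₀, algB₀, hfp, u, ξ₀, hξ₀⟩ :=
    Groth.Agent.Helper2.AlgCatFP.exists_fp_of_preserves A F (AdicCompletion m A) ξ
  obtain ⟨B, instB, algB, hsm, g, h, hgh⟩ := Groth.Agent.Helper2.Pop.popescu hreg B₀ hfp u
  haveI := hsm
  obtain ⟨A', instA', algA', hetale, hbij, τ, hτ⟩ :=
    Groth.Agent.Helper2.SmLift.s2043 (m ^ M) ((AdicCompletion.evalₐ m M).comp h)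
  let ε : (A ⧸ m ^ M) ≃ₐ[A] (A' ⧸ (m ^ M).map (algebraMap A A')) :=
    AlgEquiv.ofBijective (IsScalarTower.toAlgHom A (A ⧸ m ^ M)
      (A' ⧸ (m ^ M).map (algebraMap A A'))) hbij
  have hε : ∀ z, ε z = algebraMap (A ⧸ m ^ M) (A' ⧸ (m ^ M).map (algebraMap A A')) z :=
    fun z => rfl
  let ψ : A' →ₐ[A] A ⧸ m ^ M := ε.symm.toAlgHom.comp (Ideal.Quotient.mkₐ A _)
  have hψ : ∀ x, ψ x = ε.symm (Ideal.Quotient.mk _ x) := fun x => rfl
  have hψsurj : Function.Surjective ψ := by
    intro z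
    obtain ⟨r, rfl⟩ := Ideal.Quotient.mk_surjective z
    refine ⟨algebraMap A A' r, ?_⟩
    rw [AlgHom.commutes]
    rfl
  refine ⟨A', instA', algA', hetale, ψ, hψsurj, F.map (CommAlgCat.ofHom (τ.comp g)) ξ₀, ?_⟩
  have hcomp : ψ.comp (τ.comp g) = (AdicCompletion.evalₐ m M).comp u := by
    apply AlgHom.ext
    intro y
    show ψ (τ (g y)) = AdicCompletion.evalₐ m M (u y)
    rw [hψ, hτ, ← hε, ε.symm_apply_apply, ← hgh]
    rfl
  rw [← hξ₀, ← FunctorToTypes.map_comp_apply, ← FunctorToTypes.map_comp_apply,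
    ← CommAlgCat.ofHom_comp, ← CommAlgCat.ofHom_comp, hcomp]

/-- S18340 -/
theorem s18340 (k : Type u) [Field k] [IsAlgClosed k]
    (A : Type u) [CommRing A] [Algebra k A] [Algebra.FiniteType k A] (m : Ideal A) [m.IsMaximal]
    (F : CommAlgCat.{u} A ⥤ Type u) [Limits.PreservesFilteredColimits F]
    (ξ : F.obj (CommAlgCat.of A (AdicCompletion m A))) (N : ℕ) :
    ∃ (A' : Type u) (_ : CommRing A') (_ : Algebra A A') (_ : Algebra.Etale A A')
      (ψ : A' →ₐ[A] (A ⧸ m ^ (N + 1))) (_ : Function.Surjective ψ)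
      (ξ' : F.obj (CommAlgCat.of A A')),
      F.map (CommAlgCat.ofHom ψ) ξ' =
        F.map (CommAlgCat.ofHom (AdicCompletion.evalₐ m (N + 1))) ξ :=
  approx_functor_of_isGRing A (isGRing_of_finiteType_field k A) m F ξ (N + 1)

end Groth.Agent.Helper2.ArtApx
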