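import Mathlib
import Groth.Prelude.Def_Smoothing
import Groth.Agent.Helper2.ArtApxE
import Groth.Agent.Helper2.AlgCatFP2

set_option autoImplicit false

namespace Groth.Agent.Helper2.ArtApx

open Function IsLocalRing CategoryTheory CategoryTheory.Limits Groth.Agent.Helper2.AlgCatFP

universe u

/-- S15755 -/
theorem s15755 (A : Type u) [CommRing A]
    [IsNoetherianRing A] (I : Ideal A) [HenselianRing A I]
    (hreg : CAlg.IsRegularHom A (AdicCompletion I A))
    (F : CommAlgCat.{u} A ⥤ Type u) [PreservesFilteredColimitsOfSize.{u, u} F] :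
    Function.Injective (F.map (CommAlgCat.ofHom (Algebra.ofId A (AdicCompletion I A)))) ∧
    ∀ xbar : F.obj (CommAlgCat.of A (A ⧸ I)),
      (∃ x : F.obj (CommAlgCat.of A A),
        F.map (CommAlgCat.ofHom (Ideal.Quotient.mkₐ A I)) x = xbar) ↔
      (∃ y : F.obj (CommAlgCat.of A (AdicCompletion I A)),
        F.map (CommAlgCat.ofHom (AdicCompletion.evalOneₐ I)) y = xbar) := by
  haveI : IsNoetherianRing (AdicCompletion I A) := Groth.Agent.S0543.result A I
  have hretr : ∀ (B₀ : Type u) [CommRing B₀] [Algebra A B₀], Algebra.FinitePresentation A B₀ →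
      ∀ u : B₀ →ₐ[A] AdicCompletion I A, ∃ r : B₀ →ₐ[A] A,
        (Ideal.Quotient.mkₐ A I).comp r = (AdicCompletion.evalOneₐ I).comp u := by
    intro B₀ _ _ hfp u
    obtain ⟨B, _, _, hsm, g, h, hgh⟩ := Groth.Agent.Helper2.Pop.popescu hreg B₀ hfp u
    haveI := hsm
    obtain ⟨τ, hτ⟩ := Groth.Agent.Helper2.SmLift.s0536 A B A I
      ((AdicCompletion.evalOneₐ I).comp h)
    refine ⟨τ.comp g, ?_⟩
    rw [← AlgHom.comp_assoc, hτ, AlgHom.comp_assoc, hgh]
  constructor
  · intro x x' hxx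
    obtain ⟨B₀, _, _, hfp, u, heq⟩ :=
      exists_fp_eq_of_preserves A F (AdicCompletion I A) x x' hxx
    obtain ⟨r, -⟩ := hretr B₀ hfp u
    have hid : CommAlgCat.ofHom (Algebra.ofId A B₀) ≫ CommAlgCat.ofHom r =
        𝟙 (CommAlgCat.of A A) := hom_ext_of_self A _ _
    have := congrArg (F.map (CommAlgCat.ofHom r)) heq
    rw [← FunctorToTypes.map_comp_apply, ← FunctorToTypes.map_comp_apply, hid,
      FunctorToTypes.map_id_apply, FunctorToTypes.map_id_apply] at this
    exact this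
  · intro xbar
    constructor
    · rintro ⟨x, rfl⟩
      refine ⟨F.map (CommAlgCat.ofHom (Algebra.ofId A (AdicCompletion I A))) x, ?_⟩
      rw [← FunctorToTypes.map_comp_apply]
      exact congrArg (fun φ => F.map φ x) (hom_ext_of_self A _ _)
    · rintro ⟨y, rfl⟩
      obtain ⟨B₀, _, _, hfp, u, ξ₀, hξ₀⟩ := exists_fp_of_preserves A F (AdicCompletion I A) y
      obtain ⟨r, hr⟩ := hretr B₀ hfp u
      refine ⟨F.map (CommAlgCat.ofHom r) ξ₀, ?_⟩
      rw [← hξ₀, ← FunctorToTypes.map_comp_apply, ← FunctorToTypes.map_comp_apply,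
        ← CommAlgCat.ofHom_comp, ← CommAlgCat.ofHom_comp, hr]

end Groth.Agent.Helper2.ArtApx
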