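import Mathlib

set_option autoImplicit false

namespace Groth.Agent.Helper2.Spread

open MvPolynomial

universe u

attribute [local instance] MvPolynomial.algebraMvPolynomial

/-- Spreading out a finitely presented algebra over `R_p` to a finitely presented `R`-algebra,
keeping track of finitely many elements satisfying polynomial equations over `R`. -/
theorem exists_fp_model {R : Type u} [CommRing R] (p : Ideal R) [p.IsPrime]
    (S : Type u) [CommRing S] [Algebra (Localization.AtPrime p) S] [Algebra R S]
    [IsScalarTower R (Localization.AtPrime p) S]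
    [Algebra.FinitePresentation (Localization.AtPrime p) S] {n m : ℕ}
    (F : Fin m → MvPolynomial (Fin n) R) (y : Fin n → S)
    (hy : ∀ j, MvPolynomial.aeval y (F j) = 0) :
    ∃ (C : Type u) (_ : CommRing C) (_ : Algebra R C) (_ : Algebra C S)
      (_ : IsScalarTower R C S),
      Algebra.FinitePresentation R C ∧
      IsLocalization (Algebra.algebraMapSubmonoid C p.primeCompl) S ∧
      ∃ c : Fin n → C, (∀ i, algebraMap C S (c i) = y i) ∧
        ∀ j, MvPolynomial.aeval c (F j) = 0 := by
  classical
  obtain ⟨k, f, hf, hfker⟩ :=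
    (Algebra.FinitePresentation.out : ∃ (k : ℕ) (f : MvPolynomial (Fin k) (Localization.AtPrime p) →ₐ[Localization.AtPrime p] S),
      Function.Surjective f ∧ (RingHom.ker f.toRingHom).FG)
  -- the enlarged presentation
  let v : Fin n ⊕ Fin k → S := Sum.elim y (fun i => f (X i))
  let g : MvPolynomial (Fin n ⊕ Fin k) (Localization.AtPrime p) →ₐ[Localization.AtPrime p] S :=
    aeval v
  have hgs : Function.Surjective g := by
    intro s
    obtain ⟨P, rfl⟩ := hf s
    refine ⟨rename Sum.inr P, ?_⟩
    show aeval v (rename Sum.inr P) = f P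
    rw [aeval_rename]
    have : (v ∘ Sum.inr) = fun i => f (X i) := rfl
    rw [this]
    have h2 : (aeval fun i => f (X i)) = f := by
      apply MvPolynomial.algHom_ext
      intro i
      rw [aeval_X]
    rw [h2]
  have hgker : (RingHom.ker g.toRingHom).FG :=
    Algebra.FinitePresentation.ker_fG_of_surjective g hgs
  obtain ⟨T, hT⟩ := hgker
  -- lifts
  have hlift : ∀ t : MvPolynomial (Fin n ⊕ Fin k) (Localization.AtPrime p),
      ∃ (s : R) (t' : MvPolynomial (Fin n ⊕ Fin k) R), s ∈ p.primeCompl ∧
        MvPolynomial.map (algebraMap R (Localization.AtPrime p)) t' =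
          C (algebraMap R (Localization.AtPrime p) s) * t := by
    intro t
    obtain ⟨⟨a, ⟨_, s, hs, rfl⟩⟩, h⟩ := IsLocalization.surj
      (p.primeCompl.map (C (σ := Fin n ⊕ Fin k))) t
    refine ⟨s, a, hs, ?_⟩
    simp only [MvPolynomial.algebraMap_def, map_C] at h
    rw [← h, mul_comm]
  choose sl tl hsl htl using hlift
  let gR : MvPolynomial (Fin n ⊕ Fin k) R →ₐ[R] S := aeval v
  have hgR : ∀ a, g (MvPolynomial.map (algebraMap R (Localization.AtPrime p)) a) = gR a := by
    intro a
    exact aeval_map_algebraMap _ _ _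
  let I : Ideal (MvPolynomial (Fin n ⊕ Fin k) R) :=
    Ideal.span ((T.image tl : Set _) ∪ Set.range (fun j => rename Sum.inl (F j)))
  have hIfg : I.FG := by
    refine ⟨T.image tl ∪ (Finset.univ.image (fun j => rename Sum.inl (F j))), ?_⟩
    simp [I]
  have hI : ∀ a ∈ I, gR a = 0 := by
    intro a ha
    have hle : I ≤ RingHom.ker gR.toRingHom := by
      rw [Ideal.span_le]
      rintro x (hx | ⟨j, rfl⟩)
      · obtain ⟨t, ht, rfl⟩ := Finset.mem_image.1 (Finset.mem_coe.1 hx)
        show gR (tl t) = 0
        rw [← hgR, htl, map_mul]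
        have : t ∈ RingHom.ker g.toRingHom := by
          rw [← hT]
          exact Ideal.subset_span ht
        have h0 : g t = 0 := this
        rw [h0, mul_zero]
      · show aeval v (rename Sum.inl (F j)) = 0
        rw [aeval_rename]
        exact hy j
    exact hle ha
  let κ : (MvPolynomial (Fin n ⊕ Fin k) R ⧸ I) →ₐ[R] S := Ideal.Quotient.liftₐ I gR hI
  letI : Algebra (MvPolynomial (Fin n ⊕ Fin k) R ⧸ I) S := κ.toRingHom.toAlgebra
  haveI : IsScalarTower R (MvPolynomial (Fin n ⊕ Fin k) R ⧸ I) S :=
    IsScalarTower.of_algebraMap_eq' κ.comp_algebraMap.symm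
  haveI hfp : Algebra.FinitePresentation R (MvPolynomial (Fin n ⊕ Fin k) R ⧸ I) :=
    Algebra.FinitePresentation.quotient hIfg
  have hκ : ∀ a, algebraMap (MvPolynomial (Fin n ⊕ Fin k) R ⧸ I) S (Ideal.Quotient.mk I a) =
      gR a := fun a => rfl
  refine ⟨MvPolynomial (Fin n ⊕ Fin k) R ⧸ I, inferInstance, inferInstance, inferInstance,
    inferInstance, hfp, ?_, fun i => Ideal.Quotient.mk I (X (Sum.inl i)), ?_, ?_⟩
  · have hloc := IsLocalization.of_surjective (p.primeCompl.map (C (σ := Fin n ⊕ Fin k)))
      (MvPolynomial (Fin n ⊕ Fin k) (Localization.AtPrime p))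
      (Ideal.Quotient.mk I) Ideal.Quotient.mk_surjective g.toRingHom hgs
      (S' := S) (by
        ext a
        · show g (MvPolynomial.map (algebraMap R (Localization.AtPrime p)) (C a)) = gR (C a)
          rw [hgR]
        · show g (MvPolynomial.map (algebraMap R (Localization.AtPrime p)) (X a)) = gR (X a)
          rw [hgR]) (by
        rw [Ideal.mk_ker, ← hT, Ideal.span_le]
        intro t ht
        have h1 : algebraMap (MvPolynomial (Fin n ⊕ Fin k) R)
            (MvPolynomial (Fin n ⊕ Fin k) (Localization.AtPrime p)) (tl t) ∈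
            I.map (algebraMap (MvPolynomial (Fin n ⊕ Fin k) R)
            (MvPolynomial (Fin n ⊕ Fin k) (Localization.AtPrime p))) :=
          Ideal.mem_map_of_mem _ (Ideal.subset_span (Or.inl (Finset.mem_coe.2
            (Finset.mem_image_of_mem _ ht))))
        rw [MvPolynomial.algebraMap_def, htl] at h1
        have hu : IsUnit (C (σ := Fin n ⊕ Fin k) (algebraMap R (Localization.AtPrime p) (sl t))) :=
          (IsLocalization.map_units (Localization.AtPrime p) ⟨sl t, hsl t⟩).map C
        exact (Ideal.unit_mul_mem_iff_mem _ hu).1 h1)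
    convert hloc using 1
    ext x
    simp only [Algebra.algebraMapSubmonoid, Submonoid.mem_map]
    constructor
    · rintro ⟨r, hr, rfl⟩
      exact ⟨C r, ⟨r, hr, rfl⟩, rfl⟩
    · rintro ⟨_, ⟨r, hr, rfl⟩, rfl⟩
      exact ⟨r, hr, rfl⟩
  · intro i
    rw [hκ]
    show aeval v (X (Sum.inl i)) = y i
    rw [aeval_X]
    rfl
  · intro j
    have h1 : aeval (fun i => Ideal.Quotient.mk I (X (Sum.inl i))) (F j) =
        Ideal.Quotient.mk I (rename Sum.inl (F j)) := by
      have := MvPolynomial.comp_aeval_apply (fun i : Fin n => (X (Sum.inl i) :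
        MvPolynomial (Fin n ⊕ Fin k) R)) (Ideal.Quotient.mkₐ R I) (F j)
      rw [Ideal.Quotient.mkₐ_eq_mk] at this
      rw [rename_eq_aeval]
      exact this.symm
    rw [h1, Ideal.Quotient.eq_zero_iff_mem]
    exact Ideal.subset_span (Or.inr ⟨j, rfl⟩)

end Groth.Agent.Helper2.Spread
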