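import Mathlib
import Groth.Agent.Helper2.SpreadA

set_option autoImplicit false

namespace Groth.Agent.Helper2.Spread

open MvPolynomial IsLocalRing

universe u

set_option maxHeartbeats 1600000 in
/-- Spreading out an étale `R_p`-algebra with a point to an étale `R`-algebra. -/
theorem spread_etale {R : Type u} [CommRing R] (p : Ideal R) [p.IsPrime]
    (T : Type u) [CommRing T] [IsLocalRing T] [Algebra (Localization.AtPrime p) T]
    [IsLocalHom (algebraMap (Localization.AtPrime p) T)]
    (hsurj : ∀ t : T, ∃ ρ : Localization.AtPrime p,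
      t - algebraMap (Localization.AtPrime p) T ρ ∈ maximalIdeal T)
    (S : Type u) [CommRing S] [Algebra (Localization.AtPrime p) S]
    [Algebra.Etale (Localization.AtPrime p) S]
    (ψ₀ : S →ₐ[Localization.AtPrime p] T) (𝔫 : Ideal S) [𝔫.IsMaximal]
    (h𝔫 : ∀ x ∈ 𝔫, ψ₀ x ∈ maximalIdeal T)
    {n m : ℕ} (F : Fin m → MvPolynomial (Fin n) R) (y : Fin n → S)
    (hy : ∀ j, aeval y (MvPolynomial.map (algebraMap R (Localization.AtPrime p)) (F j)) = 0) :
    ∃ (R' : Type u) (_ : CommRing R') (_ : Algebra R R'), Algebra.Etale R R' ∧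
      ∃ (ψ : R' →+* T) (p' : Ideal R'), p'.IsPrime ∧
        (∀ r : R, ψ (algebraMap R R' r) =
          algebraMap (Localization.AtPrime p) T (algebraMap R (Localization.AtPrime p) r)) ∧
        p'.comap (algebraMap R R') = p ∧
        (∀ x : R', ∃ r s : R, s ∉ p ∧ algebraMap R R' s * x - algebraMap R R' r ∈ p') ∧
        (∀ x ∈ p', ψ x ∈ maximalIdeal T) ∧
        ∃ b : Fin n → R', (∀ j, aeval b (F j) = 0) ∧ ∀ i, ψ (b i) = ψ₀ (y i) := by
  classical
  letI : Algebra R S :=
    ((algebraMap (Localization.AtPrime p) S).comp (algebraMap R (Localization.AtPrime p))).toAlgebra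
  haveI : IsScalarTower R (Localization.AtPrime p) S := IsScalarTower.of_algebraMap_eq' rfl
  have hy' : ∀ j, aeval y (F j) = 0 := fun j => by rw [← hy j, aeval_map_algebraMap]
  obtain ⟨C, instC, algRC, algCS, towerRCS, hfp, hloc, c, hc, hcF⟩ :=
    exists_fp_model p S F y hy'
  -- the prime q
  let q : Ideal C := 𝔫.comap (algebraMap C S)
  haveI : q.IsPrime := Ideal.comap_isPrime _ _
  haveI hD : IsLocalization.AtPrime (Localization.AtPrime 𝔫) q :=
    IsLocalization.isLocalization_isLocalization_atPrime_isLocalization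
      (Algebra.algebraMapSubmonoid C p.primeCompl) (Localization.AtPrime 𝔫) 𝔫
  -- formal étaleness
  haveI : Algebra.FormallyEtale R (Localization.AtPrime p) :=
    Algebra.FormallyEtale.of_isLocalization p.primeCompl
  haveI : Algebra.FormallyEtale S (Localization.AtPrime 𝔫) :=
    Algebra.FormallyEtale.of_isLocalization 𝔫.primeCompl
  haveI : Algebra.FormallyEtale (Localization.AtPrime p) (Localization.AtPrime 𝔫) :=
    Algebra.FormallyEtale.comp _ S _
  haveI : Algebra.FormallyEtale R (Localization.AtPrime 𝔫) :=
    Algebra.FormallyEtale.comp R (Localization.AtPrime p) _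
  let e : Localization.AtPrime q ≃ₐ[C] Localization.AtPrime 𝔫 :=
    IsLocalization.algEquiv q.primeCompl _ _
  haveI : Algebra.IsEtaleAt R q :=
    Algebra.FormallyEtale.of_equiv (e.symm.restrictScalars R)
  obtain ⟨f, hfq, hfet⟩ := Algebra.exists_etale_of_isEtaleAt (R := R) q
  -- the point
  have hcomap : (maximalIdeal T).comap ψ₀.toRingHom = 𝔫 := by
    symm
    refine Ideal.IsMaximal.eq_of_le inferInstance (Ideal.comap_ne_top _ (maximalIdeal.isMaximal T).ne_top)
      (fun x hx => h𝔫 x hx)
  have hunit : IsUnit ((ψ₀.toRingHom.comp (algebraMap C S)) f) := by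
    have h1 : algebraMap C S f ∉ 𝔫 := hfq
    rw [← hcomap] at h1
    exact (IsLocalRing.notMem_maximalIdeal).1 h1
  let ψ : Localization.Away f →+* T :=
    IsLocalization.Away.lift (S := Localization.Away f) f hunit
  have hψ : ∀ x : C, ψ (algebraMap C (Localization.Away f) x) = ψ₀ (algebraMap C S x) :=
    fun x => IsLocalization.Away.lift_eq f hunit x
  have hψR : ∀ r : R, ψ (algebraMap R (Localization.Away f) r) =
      algebraMap (Localization.AtPrime p) T (algebraMap R (Localization.AtPrime p) r) := by
    intro r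
    rw [IsScalarTower.algebraMap_apply R C (Localization.Away f), hψ,
      ← IsScalarTower.algebraMap_apply R C S, IsScalarTower.algebraMap_apply R (Localization.AtPrime p) S,
      AlgHom.commutes]
  have hloc' : (maximalIdeal T).comap (algebraMap (Localization.AtPrime p) T) =
      maximalIdeal (Localization.AtPrime p) :=
    IsLocalRing.maximalIdeal_comap (algebraMap (Localization.AtPrime p) T)
  have hmem : ∀ ρ : Localization.AtPrime p, algebraMap (Localization.AtPrime p) T ρ ∈ maximalIdeal T ↔
      ρ ∈ maximalIdeal (Localization.AtPrime p) := by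
    intro ρ
    rw [← hloc', Ideal.mem_comap]
  refine ⟨Localization.Away f, inferInstance, inferInstance, hfet, ψ, (maximalIdeal T).comap ψ,
    Ideal.comap_isPrime _ _, hψR, ?_, ?_, fun x hx => hx, fun i => algebraMap C _ (c i), ?_, ?_⟩
  · ext r
    rw [Ideal.mem_comap, Ideal.mem_comap, hψR, hmem,
      IsLocalization.AtPrime.to_map_mem_maximal_iff (Localization.AtPrime p) p]
  · intro x
    obtain ⟨ρ, hρ⟩ := hsurj (ψ x)
    obtain ⟨r, s, hrs⟩ := IsLocalization.exists_mk'_eq p.primeCompl ρ
    refine ⟨r, s, s.2, ?_⟩
    rw [Ideal.mem_comap, map_sub, map_mul, hψR, hψR]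
    have h1 : ρ * algebraMap R (Localization.AtPrime p) s = algebraMap R (Localization.AtPrime p) r := by
      rw [← hrs, IsLocalization.mk'_spec]
    rw [← h1, map_mul]
    have : algebraMap (Localization.AtPrime p) T (algebraMap R (Localization.AtPrime p) s) * ψ x -
        algebraMap (Localization.AtPrime p) T ρ *
          algebraMap (Localization.AtPrime p) T (algebraMap R (Localization.AtPrime p) s) =
        algebraMap (Localization.AtPrime p) T (algebraMap R (Localization.AtPrime p) s) *
          (ψ x - algebraMap (Localization.AtPrime p) T ρ) := by ring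
    rw [this]
    exact Ideal.mul_mem_left _ _ hρ
  · intro j
    have := MvPolynomial.aeval_algebraMap_apply (A := C) (B := Localization.Away f) c (F j)
    rw [show (fun i => algebraMap C (Localization.Away f) (c i)) =
      (algebraMap C (Localization.Away f)) ∘ c from rfl, this, hcF j, map_zero]
  · intro i
    rw [hψ, hc]

end Groth.Agent.Helper2.Spread
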