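import Mathlib
import Groth.Prelude.Def_Smoothing
import Groth.Agent.Helper2.ArtApxD
import Groth.Agent.Helper2.SpreadB

set_option autoImplicit false

namespace Groth.Agent.Helper2.ArtApx

open MvPolynomial IsLocalRing

universe u

set_option maxHeartbeats 1600000 in
/-- S6843: étale-local Artin approximation at a prime with `R_p` a G-ring. -/
theorem s6843 {R : Type u} [CommRing R] [IsNoetherianRing R]
    (p : Ideal R) [p.IsPrime] (hG : CAlg.IsGRing (Localization.AtPrime p)) {n m : ℕ}
    (F : Fin m → MvPolynomial (Fin n) R)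
    (a : Fin n → AdicCompletion (IsLocalRing.maximalIdeal (Localization.AtPrime p)) (Localization.AtPrime p))
    (ha : ∀ j, MvPolynomial.aeval a (MvPolynomial.map (algebraMap R (Localization.AtPrime p)) (F j)) = 0) (N : ℕ) :
    ∃ (R' : Type u) (_ : CommRing R') (_ : Algebra R R'), Algebra.Etale R R' ∧
      ∃ (ψ : R' →+* AdicCompletion (IsLocalRing.maximalIdeal (Localization.AtPrime p)) (Localization.AtPrime p))
        (p' : Ideal R'), p'.IsPrime ∧
        (∀ r : R, ψ (algebraMap R R' r) =
          algebraMap (Localization.AtPrime p) _ (algebraMap R (Localization.AtPrime p) r)) ∧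
        p'.comap (algebraMap R R') = p ∧
        (∀ x : R', ∃ r s : R, s ∉ p ∧ algebraMap R R' s * x - algebraMap R R' r ∈ p') ∧
        (∀ x ∈ p', ψ x ∈ (IsLocalRing.maximalIdeal (Localization.AtPrime p)).map
          (algebraMap (Localization.AtPrime p)
            (AdicCompletion (IsLocalRing.maximalIdeal (Localization.AtPrime p)) (Localization.AtPrime p)))) ∧
        ∃ b : Fin n → R', (∀ j, MvPolynomial.aeval b (F j) = 0) ∧
          ∀ i, a i - ψ (b i) ∈ (IsLocalRing.maximalIdeal (Localization.AtPrime p) ^ N).map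
            (algebraMap (Localization.AtPrime p)
              (AdicCompletion (IsLocalRing.maximalIdeal (Localization.AtPrime p)) (Localization.AtPrime p))) := by
  classical
  haveI : IsNoetherianRing (Localization.AtPrime p) := hG.1
  obtain ⟨S, instS, algS, hetale, ψ₀, 𝔫, h𝔫max, h𝔫comap, h𝔫res, h𝔫ψ, y, hy, hay⟩ :=
    s6825 hG (fun j => MvPolynomial.map (algebraMap R (Localization.AtPrime p)) (F j)) a ha N
  haveI := hetale
  haveI := h𝔫max
  have hmax := AdicCompletion.maximalIdeal_eq_map (R := Localization.AtPrime p)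
  have hfg : (maximalIdeal (Localization.AtPrime p)).FG :=
    (isNoetherianRing_iff_ideal_fg _).1 inferInstance _
  have hsurj : ∀ t : AdicCompletion (maximalIdeal (Localization.AtPrime p)) (Localization.AtPrime p),
      ∃ ρ : Localization.AtPrime p, t - algebraMap (Localization.AtPrime p) _ ρ ∈
        maximalIdeal (AdicCompletion (maximalIdeal (Localization.AtPrime p)) (Localization.AtPrime p)) := by
    intro t
    obtain ⟨ρ, hρ⟩ := Ideal.Quotient.mk_surjective
      (AdicCompletion.evalOneₐ (maximalIdeal (Localization.AtPrime p)) t)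
    refine ⟨ρ, ?_⟩
    rw [hmax, ← AdicCompletion.ker_evalOneₐ_eq_map _ hfg, RingHom.mem_ker]
    show AdicCompletion.evalOneₐ (maximalIdeal (Localization.AtPrime p))
      (t - algebraMap (Localization.AtPrime p) _ ρ) = 0
    rw [map_sub, AlgHom.commutes, ← hρ]
    exact sub_self _
  obtain ⟨R', instR', algR', hR'et, ψ, p', hp', hψR, hcomap, hres, hψp', b, hb, hψb⟩ :=
    Groth.Agent.Helper2.Spread.spread_etale p
      (AdicCompletion (maximalIdeal (Localization.AtPrime p)) (Localization.AtPrime p))
      hsurj S ψ₀ 𝔫 (fun x hx => by rw [hmax]; exact h𝔫ψ x hx) F y hy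
  refine ⟨R', instR', algR', hR'et, ψ, p', hp', hψR, hcomap, hres, ?_, b, hb, ?_⟩
  · intro x hx
    rw [← hmax]
    exact hψp' x hx
  · intro i
    rw [hψb]
    exact hay i

end Groth.Agent.Helper2.ArtApx
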