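import Mathlib
import Groth.Prelude.Def_Smoothing
import Groth.Agent.Helper2.ArtApxD
import Groth.Agent.S0599

set_option autoImplicit false

namespace Groth.Agent.Helper2.ArtApx

open TensorProduct

universe u

set_option quotPrecheck false in
set_option hygiene false in
local notation "𝔎" => Ideal.map (algebraMap A C) I

set_option maxHeartbeats 1600000 in
set_option quotPrecheck false in
/-- S8823: étale neighbourhood approximating a map of completions over a G-ring. -/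
theorem s8823 (A : Type u) [CommRing A] (hA : CAlg.IsGRing A) (I : Ideal A) (B C : Type u)
    [CommRing B] [Algebra A B] [Algebra.FiniteType A B] [CommRing C] [Algebra A C]
    [Algebra.FiniteType A C]
    (φ : (AdicCompletion (I.map (algebraMap A B)) B) →ₐ[A]
      (AdicCompletion (I.map (algebraMap A C)) C))
    (N : ℕ) (hN : 1 ≤ N) :
    ∃ (C' : Type u) (_ : CommRing C') (_ : Algebra C C') (_ : Algebra A C')
      (_ : IsScalarTower A C C') (_ : Algebra.Etale C C') (ψ : B →ₐ[A] C'),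
      ((∀ c' : C', ∃ c : C, algebraMap C C' c - c' ∈ I.map (algebraMap A C')) ∧
        ∀ c : C, algebraMap C C' c ∈ I.map (algebraMap A C') → c ∈ I.map (algebraMap A C)) ∧
      ∀ b : B, ∃ c : C, ψ b - algebraMap C C' c ∈ (I.map (algebraMap A C')) ^ N ∧
        AdicCompletion.eval (I.map (algebraMap A C)) C N
          (φ (AdicCompletion.of (I.map (algebraMap A B)) B b)) = Submodule.Quotient.mk c := by
  classical
  haveI : IsNoetherianRing A := hA.1
  have hGC : CAlg.IsGRing C := Groth.Agent.S0599.result A hA C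
  haveI : IsNoetherianRing C := hGC.1
  haveI : IsNoetherianRing (AdicCompletion 𝔎 C) := Groth.Agent.S0543.result C 𝔎
  have hreg : CAlg.IsRegularHom C (AdicCompletion 𝔎 C) := isRegularHom_adic_of_isGRing C hGC 𝔎
  haveI : IsScalarTower A C (AdicCompletion 𝔎 C) := IsScalarTower.of_algebraMap_eq (fun _ => rfl)
  haveI : IsScalarTower A B (AdicCompletion (I.map (algebraMap A B)) B) :=
    IsScalarTower.of_algebraMap_eq (fun _ => rfl)
  -- the finitely presented algebra
  haveI : Algebra.FinitePresentation A B := Algebra.FinitePresentation.of_finiteType.1 inferInstance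
  haveI hfp : Algebra.FinitePresentation C (C ⊗[A] B) := inferInstance
  let β : B →ₐ[A] AdicCompletion 𝔎 C :=
    φ.comp ((Algebra.ofId B (AdicCompletion (I.map (algebraMap A B)) B)).restrictScalars A)
  have hβ : ∀ b, β b = φ (AdicCompletion.of (I.map (algebraMap A B)) B b) := fun b => rfl
  let θ : C ⊗[A] B →ₐ[C] AdicCompletion 𝔎 C :=
    Algebra.TensorProduct.lift (Algebra.ofId C (AdicCompletion 𝔎 C)) β (fun _ _ => Commute.all _ _)
  have hθ : ∀ b, θ (1 ⊗ₜ b) = β b := by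
    intro b
    show Algebra.TensorProduct.lift (Algebra.ofId C (AdicCompletion 𝔎 C)) β
      (fun _ _ => Commute.all _ _) (1 ⊗ₜ b) = β b
    rw [Algebra.TensorProduct.lift_tmul, map_one, one_mul]
  obtain ⟨D, instD, algD, hsm, g, h, hgh⟩ := Groth.Agent.Helper2.Pop.popescu hreg _ hfp θ
  haveI := hsm
  letI : Algebra A D := ((algebraMap C D).comp (algebraMap A C)).toAlgebra
  haveI : IsScalarTower A C D := IsScalarTower.of_algebraMap_eq' rfl
  obtain ⟨C', instC', algC', hetale, hbij, τ, hτ⟩ :=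
    Groth.Agent.Helper2.SmLift.s2043 (𝔎 ^ N) ((AdicCompletion.evalₐ 𝔎 N).comp h)
  letI : Algebra A C' := ((algebraMap C C').comp (algebraMap A C)).toAlgebra
  haveI : IsScalarTower A C C' := IsScalarTower.of_algebraMap_eq' rfl
  let ψ : B →ₐ[A] C' :=
    (τ.restrictScalars A).comp ((g.restrictScalars A).comp Algebra.TensorProduct.includeRight)
  have hψ : ∀ b, ψ b = τ (g (1 ⊗ₜ b)) := fun b => rfl
  have hKmap : I.map (algebraMap A C') = Ideal.map (algebraMap C C') 𝔎 := by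
    rw [Ideal.map_map]
    rfl
  have hKN : (𝔎 ^ N).map (algebraMap C C') = (I.map (algebraMap A C')) ^ N := by
    rw [Ideal.map_pow, hKmap]
  have hle : (𝔎 ^ N).map (algebraMap C C') ≤ Ideal.map (algebraMap C C') 𝔎 :=
    Ideal.map_mono (Ideal.pow_le_self (Nat.one_le_iff_ne_zero.1 hN))
  have hmk : ∀ c : C, algebraMap (C ⧸ 𝔎 ^ N) (C' ⧸ (𝔎 ^ N).map (algebraMap C C'))
      (Ideal.Quotient.mk _ c) = Ideal.Quotient.mk _ (algebraMap C C' c) := fun c => rfl
  -- approximation of elements of `C'`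
  have happ : ∀ c' : C', ∃ c : C, algebraMap C C' c - c' ∈ (𝔎 ^ N).map (algebraMap C C') := by
    intro c'
    obtain ⟨z, hz⟩ := hbij.2 (Ideal.Quotient.mk _ c')
    obtain ⟨c, rfl⟩ := Ideal.Quotient.mk_surjective z
    refine ⟨c, ?_⟩
    rw [hmk, Ideal.Quotient.eq] at hz
    exact hz
  have hT : ∀ x ∈ Ideal.map (algebraMap C C') 𝔎, ∃ k ∈ 𝔎,
      x - algebraMap C C' k ∈ (𝔎 ^ N).map (algebraMap C C') := by
    intro x hx
    refine Submodule.span_induction (p := fun x _ => ∃ k ∈ 𝔎,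
      x - algebraMap C C' k ∈ (𝔎 ^ N).map (algebraMap C C')) ?_ ?_ ?_ ?_ hx
    · rintro _ ⟨k, hk, rfl⟩
      exact ⟨k, hk, by rw [sub_self]; exact Ideal.zero_mem _⟩
    · exact ⟨0, Ideal.zero_mem 𝔎, by rw [map_zero, sub_self]; exact Ideal.zero_mem _⟩
    · rintro x₁ x₂ _ _ ⟨k₁, hk₁, h₁⟩ ⟨k₂, hk₂, h₂⟩
      refine ⟨k₁ + k₂, Ideal.add_mem 𝔎 hk₁ hk₂, ?_⟩
      have : x₁ + x₂ - algebraMap C C' (k₁ + k₂) =
          (x₁ - algebraMap C C' k₁) + (x₂ - algebraMap C C' k₂) := by
        rw [map_add]; ring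
      rw [this]
      exact Ideal.add_mem _ h₁ h₂
    · rintro c' x _ ⟨k, hk, h₁⟩
      obtain ⟨c₀, hc₀⟩ := happ c'
      refine ⟨c₀ * k, Ideal.mul_mem_left 𝔎 _ hk, ?_⟩
      have : c' • x - algebraMap C C' (c₀ * k) =
          c' * (x - algebraMap C C' k) - (algebraMap C C' c₀ - c') * algebraMap C C' k := by
        rw [map_mul, smul_eq_mul]; ring
      rw [this]
      exact Ideal.sub_mem _ (Ideal.mul_mem_left _ _ h₁) (Ideal.mul_mem_right _ _ hc₀)
  refine ⟨C', instC', algC', inferInstance, inferInstance, hetale, ψ, ⟨?_, ?_⟩, ?_⟩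
  · intro c'
    obtain ⟨c, hc⟩ := happ c'
    exact ⟨c, by rw [hKmap]; exact hle hc⟩
  · intro c hc
    rw [hKmap] at hc
    obtain ⟨k, hk, hck⟩ := hT _ hc
    have h1 : algebraMap (C ⧸ 𝔎 ^ N) (C' ⧸ (𝔎 ^ N).map (algebraMap C C'))
        (Ideal.Quotient.mk _ (c - k)) = algebraMap (C ⧸ 𝔎 ^ N) _ 0 := by
      rw [hmk, map_zero, Ideal.Quotient.eq_zero_iff_mem, map_sub]
      exact hck
    have h2 := hbij.1 h1
    rw [Ideal.Quotient.eq_zero_iff_mem] at h2
    have h3 : c - k ∈ 𝔎 := Ideal.pow_le_self (Nat.one_le_iff_ne_zero.1 hN) h2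
    have := Ideal.add_mem 𝔎 h3 hk
    rwa [sub_add_cancel] at this
  · intro b
    obtain ⟨c, hc⟩ := Ideal.Quotient.mk_surjective
      (AdicCompletion.evalₐ 𝔎 N (h (g (1 ⊗ₜ b))))
    have hhg : h (g (1 ⊗ₜ b)) = φ (AdicCompletion.of (I.map (algebraMap A B)) B b) := by
      rw [← hβ, ← hθ, ← hgh]
      rfl
    refine ⟨c, ?_, ?_⟩
    · have h1 := hτ (g (1 ⊗ₜ b))
      rw [AlgHom.comp_apply, ← hc, hmk, Ideal.Quotient.eq] at h1
      rw [hψ, ← hKN]
      exact h1
    · rw [← hhg]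
      have hle' : 𝔎 ^ N ≤ 𝔎 ^ N • (⊤ : Ideal C) := by
        rw [smul_eq_mul, Ideal.mul_top]
      rw [← AdicCompletion.factor_evalₐ_eq_eval 𝔎 _ hle', ← hc]
      rfl

end Groth.Agent.Helper2.ArtApx
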