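import Mathlib
import Groth.Prelude.Def_Smoothing
import Groth.Agent.Helper2.ArtApxD
import Groth.Agent.Helper2.FPColim2

set_option autoImplicit false

namespace Groth.Agent.Helper2.ArtApx

open CategoryTheory CategoryTheory.Limits IsLocalRing Groth.Agent.Helper2.FPColim

universe u

set_option maxHeartbeats 1600000 in
/-- S16106: Artin approximation, étale neighbourhood form for functors. -/
theorem s16106 (A : Type u) [CommRing A] [IsLocalRing A]
    (hG : CAlg.IsGRing A)
    (F : Under (CommRingCat.of A) ⥤ Type u)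
    (hF : ∀ (J : Type u) [SmallCategory J] [IsFiltered J], PreservesColimitsOfShape J F)
    (N : ℕ)
    (π : Under.mk (CommRingCat.ofHom (algebraMap A
        (AdicCompletion (IsLocalRing.maximalIdeal A) A))) ⟶
      Under.mk (CommRingCat.ofHom (algebraMap A (A ⧸ IsLocalRing.maximalIdeal A ^ (N + 1)))))
    (hπ : π.right = CommRingCat.ofHom
      (AdicCompletion.evalₐ (IsLocalRing.maximalIdeal A) (N + 1) :
        AdicCompletion (IsLocalRing.maximalIdeal A) A →ₐ[A]
          A ⧸ IsLocalRing.maximalIdeal A ^ (N + 1)).toRingHom)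
    (ξ : F.obj (Under.mk (CommRingCat.ofHom (algebraMap A
        (AdicCompletion (IsLocalRing.maximalIdeal A) A))))) :
    ∃ (A' : Type u) (_ : CommRing A') (_ : Algebra A A') (_ : Algebra.Etale A A')
      (φ : Under.mk (CommRingCat.ofHom (algebraMap A A')) ⟶
        Under.mk (CommRingCat.ofHom (algebraMap A (A ⧸ IsLocalRing.maximalIdeal A ^ (N + 1)))))
      (ξ' : F.obj (Under.mk (CommRingCat.ofHom (algebraMap A A')))),
      F.map φ ξ' = F.map π ξ := by
  classical
  haveI : IsNoetherianRing A := hG.1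
  haveI : IsNoetherianRing (AdicCompletion (maximalIdeal A) A) :=
    Groth.Agent.S0543.result A (maximalIdeal A)
  have hreg : CAlg.IsRegularHom A (AdicCompletion (maximalIdeal A) A) :=
    isRegularHom_adic_of_isGRing A hG (maximalIdeal A)
  haveI := hF (GIdx A (AdicCompletion (maximalIdeal A) A))
  have hFc : IsColimit (F.mapCocone
      (genCocone (R := A) (B := AdicCompletion (maximalIdeal A) A))) :=
    isColimitOfPreserves F genCoconeIsColimit
  obtain ⟨i, ξi, hξi⟩ := Types.jointly_surjective_of_isColimit hFc ξ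
  let ιi : (genFunctor (R := A) (B := AdicCompletion (maximalIdeal A) A)).obj i ⟶
      Under.mk (CommRingCat.ofHom (algebraMap A (AdicCompletion (maximalIdeal A) A))) :=
    (genCocone (R := A) (B := AdicCompletion (maximalIdeal A) A)).ι.app i
  have hιi : ∀ y, ιi.right.hom y = GIdx.toB i y := fun y => rfl
  have hξi' : F.map ιi ξi = ξ := hξi
  obtain ⟨D, instD, algD, hsm, g, h, hgh⟩ :=
    Groth.Agent.Helper2.Pop.popescu hreg _ (GIdx.finitePresentation i) (GIdx.toB i)
  haveI := hsm
  obtain ⟨A', instA', algA', hetale, hbij, τ, hτ⟩ :=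
    Groth.Agent.Helper2.SmLift.s2043 (maximalIdeal A ^ (N + 1))
      ((AdicCompletion.evalₐ (maximalIdeal A) (N + 1)).comp h)
  let ε : (A ⧸ maximalIdeal A ^ (N + 1)) ≃ₐ[A]
      (A' ⧸ (maximalIdeal A ^ (N + 1)).map (algebraMap A A')) :=
    AlgEquiv.ofBijective (IsScalarTower.toAlgHom A (A ⧸ maximalIdeal A ^ (N + 1))
      (A' ⧸ (maximalIdeal A ^ (N + 1)).map (algebraMap A A'))) hbij
  have hε : ∀ z, ε z = algebraMap (A ⧸ maximalIdeal A ^ (N + 1))
      (A' ⧸ (maximalIdeal A ^ (N + 1)).map (algebraMap A A')) z := fun z => rfl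
  let φalg : A' →ₐ[A] A ⧸ maximalIdeal A ^ (N + 1) :=
    ε.symm.toAlgHom.comp (Ideal.Quotient.mkₐ A _)
  have hφalg : ∀ x, φalg x = ε.symm (Ideal.Quotient.mk _ x) := fun x => rfl
  let φ : Under.mk (CommRingCat.ofHom (algebraMap A A')) ⟶
      Under.mk (CommRingCat.ofHom (algebraMap A (A ⧸ maximalIdeal A ^ (N + 1)))) :=
    Under.homMk (CommRingCat.ofHom φalg.toRingHom) (by ext x; exact φalg.commutes x)
  let γ : GIdx.Alg i →ₐ[A] A' := τ.comp g
  let γU : (genFunctor (R := A) (B := AdicCompletion (maximalIdeal A) A)).obj i ⟶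
      Under.mk (CommRingCat.ofHom (algebraMap A A')) :=
    Under.homMk (CommRingCat.ofHom γ.toRingHom) (by ext x; exact γ.commutes x)
  refine ⟨A', instA', algA', hetale, φ, F.map γU ξi, ?_⟩
  rw [← hξi', ← FunctorToTypes.map_comp_apply, ← FunctorToTypes.map_comp_apply]
  have hcomm : γU ≫ φ = ιi ≫ π := by
    apply Under.UnderMorphism.ext
    rw [Under.comp_right, Under.comp_right, hπ]
    ext y
    show φalg (τ (g y)) = AdicCompletion.evalₐ (maximalIdeal A) (N + 1) (ιi.right.hom y)
    rw [hιi, hφalg, hτ, ← hε, ε.symm_apply_apply, AlgHom.comp_apply, ← hgh]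
    rfl
  rw [hcomm]

end Groth.Agent.Helper2.ArtApx
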