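import Mathlib

namespace Groth.Agent.Helper2.ArtFinite
open IsLocalRing

universe u

/-- an Artinian local algebra with residue field `k` is finite-dimensional -/
theorem finite_of_artinian_residue {k E : Type*} [Field k] [CommRing E] [Algebra k E]
    [IsLocalRing E] [IsArtinianRing E]
    (hres : ∀ e : E, ∃ c : k, e - algebraMap k E c ∈ maximalIdeal E) : Module.Finite k E := by
  have key : ∀ I : Ideal E, (I.restrictScalars k).FG := by
    intro I
    induction I using WellFoundedLT.induction with
    | ind I ih =>
      by_cases hI : I = ⊥
      · rw [hI]
        have : (⊥ : Ideal E).restrictScalars k = ⊥ := by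
          ext x; simp
        rw [this]
        exact Submodule.fg_bot
      · -- a maximal proper subideal
        have hne : {I' : Ideal E | I' < I}.Nonempty := ⟨⊥, bot_lt_iff_ne_bot.mpr hI⟩
        obtain ⟨I', hI'lt, hI'max⟩ := WellFounded.has_min
          (wellFounded_gt (α := Ideal E)) _ hne
        have hI'lt' : I' < I := hI'lt
        have hmax : ∀ J : Ideal E, J < I → I' ≤ J → J = I' := by
          intro J hJ hle
          by_contra hne'
          exact hI'max J hJ (lt_of_le_of_ne hle (Ne.symm hne'))
        have hmI : maximalIdeal E • I ≤ I' := by
          have h1 : I' ⊔ maximalIdeal E • I ≤ I := sup_le hI'lt'.le Ideal.mul_le_right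
          have h2 : I' ⊔ maximalIdeal E • I ≠ I := by
            intro heq
            have h3 : I ≤ I' := by
              apply Submodule.le_of_le_smul_of_le_jacobson_bot (IsNoetherian.noetherian I)
                (IsLocalRing.maximalIdeal_le_jacobson ⊥)
              rw [heq]
            exact absurd (lt_of_lt_of_le hI'lt' h3) (lt_irrefl _)
          have h4 := hmax _ (lt_of_le_of_ne h1 h2) le_sup_left
          rw [← h4]
          exact le_sup_right
        obtain ⟨x, hxI, hxI'⟩ := SetLike.exists_of_lt hI'lt'
        have hspan : I' ⊔ Ideal.span {x} = I := by
          by_contra hne'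
          have h1 : I' ⊔ Ideal.span {x} ≤ I :=
            sup_le hI'lt'.le ((Ideal.span_singleton_le_iff_mem _).2 hxI)
          have h4 := hmax _ (lt_of_le_of_ne h1 hne') le_sup_left
          apply hxI'
          rw [← h4]
          exact Ideal.mem_sup_right (Ideal.subset_span rfl)
        have heq : I.restrictScalars k = I'.restrictScalars k ⊔ Submodule.span k {x} := by
          apply le_antisymm
          · intro y hy
            have hy' : y ∈ I' ⊔ Ideal.span {x} := by rw [hspan]; exact hy
            obtain ⟨i', hi', z, hz, rfl⟩ := Submodule.mem_sup.mp hy'
            obtain ⟨e, rfl⟩ := Ideal.mem_span_singleton'.mp hz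
            obtain ⟨c, hc⟩ := hres e
            have hux : (e - algebraMap k E c) * x ∈ I' :=
              hmI (Ideal.mul_mem_mul hc hxI)
            have : i' + e * x = (i' + (e - algebraMap k E c) * x) + c • x := by
              rw [Algebra.smul_def]; ring
            rw [this]
            exact Submodule.add_mem_sup (I'.add_mem hi' hux)
              (Submodule.smul_mem _ _ (Submodule.subset_span rfl))
          · refine sup_le ?_ ?_
            · intro y hy
              exact hI'lt'.le hy
            · rw [Submodule.span_le]
              rintro _ rfl
              exact hxI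
        rw [heq]
        exact (ih I' hI'lt').sup (Submodule.fg_span_singleton x)
  have htop : ((⊤ : Ideal E).restrictScalars k) = ⊤ := by
    ext x; simp
  exact ⟨htop ▸ key ⊤⟩

end Groth.Agent.Helper2.ArtFinite
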