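import Mathlib

set_option autoImplicit false
universe u v
open TensorProduct WithConv

namespace Groth.Agent.Helper2.SepTensor

section Lin
variable {k : Type u} [Field k] {Q : Type v} [AddCommGroup Q] [Module k Q]

lemma eq_zero_of_left_slices (t : Q ⊗[k] Q)
    (h : ∀ θ : Q →ₗ[k] k, (TensorProduct.lid k Q) (θ.rTensor Q t) = 0) : t = 0 := by
  classical
  let e := Module.Basis.ofVectorSpace k Q
  obtain ⟨b, hb⟩ := TensorProduct.eq_repr_basis_left e t
  have hbi : ∀ i, b i = 0 := by
    intro i
    have := h (e.coord i)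
    rw [← hb] at this
    simp only [Finsupp.sum, map_sum, LinearMap.rTensor_tmul, TensorProduct.lid_tmul,
      Module.Basis.coord_apply, Module.Basis.repr_self, Finsupp.single_apply, ite_smul, one_smul,
      zero_smul, Finset.sum_ite_eq', Finsupp.mem_support_iff] at this
    by_cases hi : b i = 0
    · exact hi
    · simpa [hi] using this
  rw [← hb]
  simp [Finsupp.sum, hbi]

/-- functionals separating points of `Q` separate points of `Q ⊗ Q` -/
lemma eq_zero_of_separating (F : Set (Q →ₗ[k] k)) (hF : ∀ q : Q, (∀ f ∈ F, f q = 0) → q = 0)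
    (t : Q ⊗[k] Q)
    (h : ∀ f ∈ F, ∀ g ∈ F, (LinearMap.mul' k k) (TensorProduct.map f g t) = 0) : t = 0 := by
  -- right slices by `g ∈ F` vanish
  have hv : ∀ g ∈ F, (TensorProduct.rid k Q) (g.lTensor Q t) = 0 := by
    intro g hg
    apply hF
    intro f hf
    have key : f ∘ₗ (TensorProduct.rid k Q).toLinearMap ∘ₗ g.lTensor Q =
        LinearMap.mul' k k ∘ₗ TensorProduct.map f g := by
      ext x y
      simp [mul_comm]
    have := LinearMap.congr_fun key t
    simp only [LinearMap.comp_apply, LinearEquiv.coe_coe] at this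
    rw [this]
    exact h f hf g hg
  apply eq_zero_of_left_slices
  intro θ
  apply hF
  intro g hg
  have key : g ∘ₗ (TensorProduct.lid k Q).toLinearMap ∘ₗ θ.rTensor Q =
      θ ∘ₗ (TensorProduct.rid k Q).toLinearMap ∘ₗ g.lTensor Q := by
    ext x y
    simp [mul_comm]
  have := LinearMap.congr_fun key t
  simp only [LinearMap.comp_apply, LinearEquiv.coe_coe] at this
  rw [this, hv g hg, map_zero]

end Lin

end Groth.Agent.Helper2.SepTensor
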