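import Mathlib
import Groth.Agent.Helper2.SepTensor
import Groth.Agent.Helper2.MultTypeSemi

set_option autoImplicit false
universe u
open TensorProduct WithConv

namespace Groth.Agent.Helper2.GLSep

open Groth.Agent.Helper2.MultTypeSemi

section char

/-- a "derivation at a character" lying in the span of characters is zero -/
lemma deriv_char_zero {G : Type*} [Monoid G] {L : Type*} [Field L] (χ : G →* L) (F : G → L)
    (hF : F ∈ Submodule.span L (Set.range (fun f : G →* L => (f : G → L))))
    (hder : ∀ θ ψ, F (θ * ψ) = F θ * χ ψ + χ θ * F ψ) : F = 0 := by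
  classical
  obtain ⟨c, hc⟩ := (Finsupp.mem_span_range_iff_exists_finsupp).mp hF
  have lin := linearIndependent_monoidHom G L
  set s : Finset (G →* L) := insert χ c.support with hs
  have hFs : ∀ θ, F θ = ∑ f ∈ s, c f * f θ := by
    intro θ
    rw [← hc, Finsupp.sum, Finset.sum_apply]
    simp only [Pi.smul_apply, smul_eq_mul]
    apply Finset.sum_subset (Finset.subset_insert _ _)
    intro f _ hf
    rw [Finsupp.notMem_support_iff.mp hf, zero_mul]
  funext ψ
  have key := linearIndependent_iff'.mp lin s
    (fun f => c f * (f ψ - χ ψ) - (if f = χ then F ψ else 0)) ?_ χ (Finset.mem_insert_self _ _)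
  · simpa using key
  · funext θ
    rw [Finset.sum_apply]
    simp only [Pi.smul_apply, smul_eq_mul, Pi.zero_apply]
    have h1 : ∑ f ∈ s, c f * (f ψ - χ ψ) * f θ = F (θ * ψ) - χ ψ * F θ := by
      rw [hFs (θ * ψ), hFs θ, Finset.mul_sum, ← Finset.sum_sub_distrib]
      apply Finset.sum_congr rfl
      intro f _
      rw [map_mul]
      ring
    have h2 : ∑ f ∈ s, (if f = χ then F ψ else 0) * f θ = F ψ * χ θ := by
      rw [Finset.sum_eq_single χ]
      · simp
      · intro f _ hf
        simp [hf]
      · intro h
        exact absurd (Finset.mem_insert_self _ _) h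
    have h3 : ∑ f ∈ s, (c f * (f ψ - χ ψ) - (if f = χ then F ψ else 0)) * f θ =
        ∑ f ∈ s, c f * (f ψ - χ ψ) * f θ - ∑ f ∈ s, (if f = χ then F ψ else 0) * f θ := by
      rw [← Finset.sum_sub_distrib]
      apply Finset.sum_congr rfl
      intro f _
      ring
    rw [h3, h1, h2, hder θ ψ]
    ring

end char

section ev

variable {k : Type u} [Field k] {A : Type u} [CommRing A] [Bialgebra k A]
variable (L : Type u) [Field L] [Algebra k L]

/-- evaluation of a `k`-linear functional on `L ⊗ A` -/
noncomputable def ev (θ : A →ₗ[k] k) : L ⊗[k] A →ₗ[L] L :=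
  (TensorProduct.AlgebraTensorModule.rid k L L).toLinearMap ∘ₗ θ.baseChange L

@[simp] lemma ev_tmul (θ : A →ₗ[k] k) (l : L) (a : A) : ev L θ (l ⊗ₜ a) = θ a • l := by
  simp [ev]

lemma ev_counit (x : L ⊗[k] A) :
    ev L (Coalgebra.counit (R := k) (A := A)) x = Coalgebra.counit (R := L) x := by
  induction x using TensorProduct.induction_on with
  | zero => simp
  | add x y hx hy => rw [map_add, map_add, hx, hy]
  | tmul l a => simp [Algebra.smul_def, mul_comm]

lemma ev_comul (θ ψ : A →ₗ[k] k) (x : L ⊗[k] A) :
    LinearMap.mul' L L (TensorProduct.map (ev L θ) (ev L ψ) (Coalgebra.comul (R := L) x)) =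
      ev L ((toConv θ * toConv ψ).ofConv) x := by
  have h : LinearMap.mul' L L ∘ₗ TensorProduct.map (ev L θ) (ev L ψ) ∘ₗ
      (Coalgebra.comul (R := L) (A := L ⊗[k] A)) = ev L ((toConv θ * toConv ψ).ofConv) := by
    ext a
    simp only [TensorProduct.AlgebraTensorModule.curry_apply, LinearMap.restrictScalars_comp,
      TensorProduct.curry_apply, LinearMap.coe_comp, LinearMap.coe_restrictScalars,
      Function.comp_apply, ev_tmul]
    have h1 := (isSemiCoalg_includeRight k L A).comul a
    simp only [Algebra.TensorProduct.includeRight_apply] at h1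
    rw [h1]
    simp only [LinearMap.convMul_def, ofConv_toConv, LinearMap.comp_apply]
    generalize Coalgebra.comul (R := k) a = t
    induction t using TensorProduct.induction_on with
    | zero => simp
    | add x y hx hy => simp only [map_add, hx, hy, add_smul]
    | tmul x y => simp [mul_comm, smul_smul]
  exact LinearMap.congr_fun h x

lemma ev_groupLike_mul {g : L ⊗[k] A} (hg : IsGroupLikeElem L g) (θ ψ : A →ₗ[k] k) :
    ev L ((toConv θ * toConv ψ).ofConv) g = ev L θ g * ev L ψ g := by
  rw [← ev_comul, hg.comul_eq_tmul_self]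
  simp

lemma ev_groupLike_one {g : L ⊗[k] A} (hg : IsGroupLikeElem L g) :
    ev L ((1 : WithConv (A →ₗ[k] k)).ofConv) g = 1 := by
  have : (1 : WithConv (A →ₗ[k] k)).ofConv = Coalgebra.counit (R := k) (A := A) := by
    ext a
    simp [LinearMap.convOne_def]
  rw [this, ev_counit, hg.counit_eq_one]

/-- the character of the convolution algebra attached to a group-like element -/
noncomputable def chi {g : L ⊗[k] A} (hg : IsGroupLikeElem L g) : WithConv (A →ₗ[k] k) →* L where
  toFun θ := ev L θ.ofConv g
  map_one' := ev_groupLike_one L hg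
  map_mul' θ ψ := ev_groupLike_mul L hg θ.ofConv ψ.ofConv

/-- all evaluations, as an `L`-linear map -/
noncomputable def Efun : L ⊗[k] A →ₗ[L] (WithConv (A →ₗ[k] k) → L) where
  toFun x θ := ev L θ.ofConv x
  map_add' x y := by funext θ; simp
  map_smul' c x := by funext θ; simp

lemma ev_rTensor_der (D : Derivation k L L) (θ : A →ₗ[k] k) (x : L ⊗[k] A) :
    ev L θ (LinearMap.rTensor A (D : L →ₗ[k] L) x) = D (ev L θ x) := by
  induction x using TensorProduct.induction_on with
  | zero => simp
  | add x y hx hy => simp only [map_add, hx, hy]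
  | tmul l a => simp

/-- if `L ⊗ A` is spanned by group-likes, every `k`-derivation of `L` kills the coordinates of
group-likes -/
theorem der_ev_groupLike (hspan : Submodule.span L {a : L ⊗[k] A | IsGroupLikeElem L a} = ⊤)
    (D : Derivation k L L) {g : L ⊗[k] A} (hg : IsGroupLikeElem L g) (θ : A →ₗ[k] k) :
    D (ev L θ g) = 0 := by
  set F : WithConv (A →ₗ[k] k) → L := fun θ => D (ev L θ.ofConv g) with hF
  have hFE : F = Efun L (LinearMap.rTensor A (D : L →ₗ[k] L) g) := by
    funext θ
    simp only [hF, Efun, LinearMap.coe_mk, AddHom.coe_mk]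
    rw [ev_rTensor_der]
  have hmem : F ∈ Submodule.span L (Set.range (fun f : WithConv (A →ₗ[k] k) →* L =>
      (f : WithConv (A →ₗ[k] k) → L))) := by
    rw [hFE]
    have hx : LinearMap.rTensor A (D : L →ₗ[k] L) g ∈
        Submodule.span L {a : L ⊗[k] A | IsGroupLikeElem L a} := by rw [hspan]; trivial
    have := Submodule.mem_map_of_mem (f := Efun L) hx
    rw [Submodule.map_span] at this
    refine Submodule.span_mono ?_ this
    rintro _ ⟨a, ha, rfl⟩
    exact ⟨chi L ha, rfl⟩
  have hder : ∀ θ ψ, F (θ * ψ) = F θ * chi L hg ψ + chi L hg θ * F ψ := by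
    intro θ ψ
    simp only [hF]
    have h1 : ev L (θ * ψ).ofConv g = ev L θ.ofConv g * ev L ψ.ofConv g :=
      ev_groupLike_mul L hg θ.ofConv ψ.ofConv
    rw [h1, Derivation.leibniz]
    simp only [chi, MonoidHom.coe_mk, OneHom.coe_mk, smul_eq_mul]
    ring
  have := deriv_char_zero (chi L hg) F hmem hder
  have h2 := congrFun this (toConv θ)
  simpa [hF] using h2

lemma ev_coord {ι : Type*} (b : Module.Basis ι k A) (β : ι) (x : L ⊗[k] A) :
    ev L (b.coord β) x = (Algebra.TensorProduct.basis L b).repr x β := by
  induction x using TensorProduct.induction_on with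
  | zero => simp
  | add x y hx hy => simp only [map_add, hx, hy, Finsupp.add_apply]
  | tmul l a =>
    simp [Algebra.smul_def, mul_comm]

lemma eq_zero_of_ev (x : L ⊗[k] A) (h : ∀ θ : A →ₗ[k] k, ev L θ x = 0) : x = 0 := by
  let b := Module.Basis.ofVectorSpace k A
  apply (Algebra.TensorProduct.basis L b).repr.injective
  ext β
  rw [← ev_coord, h]
  simp

section tower

variable (K : Type u) [Field K] [Algebra k K] [Algebra L K] [IsScalarTower k L K]

/-- the comparison map `L ⊗ A → K ⊗ A` -/
noncomputable def iota : L ⊗[k] A →ₐ[k] K ⊗[k] A :=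
  Algebra.TensorProduct.map (IsScalarTower.toAlgHom k L K) (AlgHom.id k A)

@[simp] lemma iota_tmul (l : L) (a : A) :
    iota (k := k) (A := A) L K (l ⊗ₜ[k] a) = algebraMap L K l ⊗ₜ[k] a := rfl

lemma ev_iota (θ : A →ₗ[k] k) (x : L ⊗[k] A) :
    ev K θ (iota L K x) = algebraMap L K (ev L θ x) := by
  induction x using TensorProduct.induction_on with
  | zero => simp
  | add x y hx hy => simp only [map_add, hx, hy]
  | tmul l a =>
    simp only [iota_tmul, ev_tmul]
    rw [Algebra.smul_def, Algebra.smul_def, map_mul, ← IsScalarTower.algebraMap_apply]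

lemma iota_injective : Function.Injective (iota (k := k) (A := A) L K) := by
  intro x y hxy
  rw [← sub_eq_zero]
  apply eq_zero_of_ev L
  intro θ
  have h1 := ev_iota L K θ (x - y)
  rw [map_sub, hxy, sub_self, map_zero] at h1
  exact (map_eq_zero_iff _ (algebraMap L K).injective).mp h1.symm

/-- group-likeness descends along `L ⊗ A → K ⊗ A` -/
theorem isGroupLikeElem_of_iota {g : L ⊗[k] A} (h : IsGroupLikeElem K (iota L K g)) :
    IsGroupLikeElem L g := by
  constructor
  · apply (algebraMap L K).injective
    rw [← ev_counit, ← ev_iota, ev_counit, h.counit_eq_one, map_one]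
  · rw [← sub_eq_zero]
    apply Groth.Agent.Helper2.SepTensor.eq_zero_of_separating (Set.range (ev (k := k) (A := A) L))
    · intro q hq
      exact eq_zero_of_ev L q (fun θ => hq _ ⟨θ, rfl⟩)
    · rintro _ ⟨θ, rfl⟩ _ ⟨ψ, rfl⟩
      rw [map_sub, map_sub, ev_comul]
      simp only [TensorProduct.map_tmul, LinearMap.mul'_apply]
      apply (algebraMap L K).injective
      rw [map_sub, map_mul, ← ev_iota, ← ev_iota, ← ev_iota, ev_groupLike_mul K h, sub_self,
        map_zero]

/-- span membership descends along `L ⊗ A → K ⊗ A` -/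
theorem mem_span_of_iota (S : Set (L ⊗[k] A)) (v : L ⊗[k] A)
    (h : iota L K v ∈ Submodule.span K (iota L K '' S)) : v ∈ Submodule.span L S := by
  by_contra hv
  obtain ⟨φ, hφv, hφ⟩ := Submodule.exists_le_ker_of_notMem hv
  let ψ : A →ₗ[k] K := (Algebra.linearMap L K).restrictScalars k ∘ₗ (φ.restrictScalars k) ∘ₗ
    (TensorProduct.mk k L A 1)
  let φK : K ⊗[k] A →ₗ[K] K := ψ.liftBaseChange K
  have key : ∀ x : L ⊗[k] A, φK (iota L K x) = algebraMap L K (φ x) := by
    intro x
    induction x using TensorProduct.induction_on with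
    | zero => simp
    | add x y hx hy => simp only [map_add, hx, hy]
    | tmul l a =>
      have h1 : (l ⊗ₜ[k] a : L ⊗[k] A) = l • ((1 : L) ⊗ₜ[k] a) := by
        rw [TensorProduct.smul_tmul', smul_eq_mul, mul_one]
      simp only [iota_tmul, φK, LinearMap.liftBaseChange_tmul, ψ, LinearMap.comp_apply,
        LinearMap.restrictScalars_apply, TensorProduct.mk_apply, Algebra.linearMap_apply]
      conv_rhs => rw [h1, map_smul, smul_eq_mul, map_mul]
      rw [smul_eq_mul]
  have hzero : ∀ y ∈ Submodule.span K (iota (k := k) (A := A) L K '' S), φK y = 0 := by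
    intro y hy
    induction hy using Submodule.span_induction with
    | mem y hy =>
      obtain ⟨s, hs, rfl⟩ := hy
      rw [key]
      have : φ s = 0 := hφ (Submodule.subset_span hs)
      rw [this, map_zero]
    | zero => simp
    | add a b _ _ ha hb => rw [map_add, ha, hb, add_zero]
    | smul c a _ ha => rw [map_smul, ha, smul_zero]
  have := hzero _ h
  rw [key] at this
  exact hφv ((map_eq_zero_iff _ (algebraMap L K).injective).mp this)

end tower

end ev

end Groth.Agent.Helper2.GLSep
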