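import Mathlib
import Groth.Agent.Helper2.GLSep

set_option autoImplicit false
universe u
open TensorProduct WithConv

namespace Groth.Agent.Helper2.GLSep

section derzero

variable {k : Type u} [Field k] {K : Type u} [Field K] [Algebra k K]

/-- a derivation of `adjoin k C` killing `C` vanishes -/
lemma der_eq_zero_of_adjoin (C : Set K) (D : Derivation k (IntermediateField.adjoin k C)
      (IntermediateField.adjoin k C))
    (hC : ∀ c (hc : c ∈ C), D ⟨c, IntermediateField.subset_adjoin k C hc⟩ = 0) : D = 0 := by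
  have key : ∀ x (hx : x ∈ IntermediateField.adjoin k C), D ⟨x, hx⟩ = 0 := by
    intro x hx
    induction hx using IntermediateField.adjoin_induction with
    | mem x hx => exact hC x hx
    | algebraMap x =>
      have : (⟨algebraMap k K x, IntermediateField.algebraMap_mem _ _⟩ :
          IntermediateField.adjoin k C) = algebraMap k _ x := rfl
      rw [this, Derivation.map_algebraMap]
    | add x y hx hy hx' hy' =>
      have : (⟨x + y, add_mem hx hy⟩ : IntermediateField.adjoin k C) = ⟨x, hx⟩ + ⟨y, hy⟩ := rfl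
      rw [this, map_add, hx', hy', add_zero]
    | inv x hx hx' =>
      have : (⟨x⁻¹, inv_mem hx⟩ : IntermediateField.adjoin k C) = (⟨x, hx⟩)⁻¹ := rfl
      rw [this, Derivation.leibniz_inv, hx', smul_zero]
    | mul x y hx hy hx' hy' =>
      have : (⟨x * y, mul_mem hx hy⟩ : IntermediateField.adjoin k C) = ⟨x, hx⟩ * ⟨y, hy⟩ := rfl
      rw [this, Derivation.leibniz, hx', hy', smul_zero, smul_zero, add_zero]
  apply Derivation.ext
  intro x
  exact key x.1 x.2

/-- a finitely generated field extension without derivations is finite separable -/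
lemma finite_separable_of_der_eq_zero (L : Type u) [Field L] [Algebra k L]
    [Algebra.EssFiniteType k L] (h : ∀ D : Derivation k L L, D = 0) :
    Module.Finite k L ∧ Algebra.IsSeparable k L := by
  haveI : Algebra.FormallyUnramified k L := by
    constructor
    rw [← Submodule.subsingleton_iff L, ← subsingleton_iff_bot_eq_top,
      ← KaehlerDifferential.span_range_derivation, eq_comm, Submodule.span_eq_bot]
    rintro _ ⟨x, rfl⟩
    rw [← Module.forall_dual_apply_eq_zero_iff L]
    intro f
    have := h (f.compDer (KaehlerDifferential.D k L))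
    have h2 := congrArg (fun D : Derivation k L L => D x) this
    simpa using h2
  exact ⟨Algebra.FormallyUnramified.finite_of_free k L, Algebra.FormallyUnramified.isSeparable k L⟩

end derzero

section span

variable {k : Type u} [Field k] {A : Type u} [CommRing A] [Bialgebra k A]
variable (L : Type u) [Field L] [Algebra k L]

/-- if the `1 ⊗ a`, `a ∈ s`, lie in the span of group-likes and `s` generates `A`, then `L ⊗ A`
is spanned by group-likes -/
lemma span_groupLike_eq_top (s : Set A) (hs : Algebra.adjoin k s = ⊤)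
    (h : ∀ a ∈ s, (1 : L) ⊗ₜ[k] a ∈ Submodule.span L {x : L ⊗[k] A | IsGroupLikeElem L x}) :
    Submodule.span L {x : L ⊗[k] A | IsGroupLikeElem L x} = ⊤ := by
  set B : Subalgebra L (L ⊗[k] A) := Algebra.adjoin L {x : L ⊗[k] A | IsGroupLikeElem L x} with hB
  have hBspan : Subalgebra.toSubmodule B =
      Submodule.span L {x : L ⊗[k] A | IsGroupLikeElem L x} := by
    rw [hB, Algebra.adjoin_eq_span]
    congr 1
    exact congrArg (fun S : Submonoid (L ⊗[k] A) => (S : Set (L ⊗[k] A)))
      (Submonoid.closure_eq (groupLikeSubmonoid L (L ⊗[k] A)))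
  have h1 : ∀ a ∈ s, (1 : L) ⊗ₜ[k] a ∈ B := by
    intro a ha
    have := h a ha
    rw [← hBspan] at this
    exact this
  have h2 : ∀ a : A, (1 : L) ⊗ₜ[k] a ∈ B := by
    intro a
    have ha : a ∈ Algebra.adjoin k s := by rw [hs]; trivial
    induction ha using Algebra.adjoin_induction with
    | mem x hx => exact h1 x hx
    | algebraMap r =>
      have : (1 : L) ⊗ₜ[k] (algebraMap k A r) = algebraMap L (L ⊗[k] A) (algebraMap k L r) := by
        rw [Algebra.TensorProduct.algebraMap_apply, Algebra.algebraMap_eq_smul_one r,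
          Algebra.algebraMap_eq_smul_one (A := L) r]
        simp [TensorProduct.smul_tmul']
      rw [this]
      exact B.algebraMap_mem _
    | add x y _ _ hx hy => rw [TensorProduct.tmul_add]; exact add_mem hx hy
    | mul x y _ _ hx hy =>
      have : (1 : L) ⊗ₜ[k] (x * y) = ((1 : L) ⊗ₜ[k] x) * ((1 : L) ⊗ₜ[k] y) := by
        rw [Algebra.TensorProduct.tmul_mul_tmul, mul_one]
      rw [this]
      exact mul_mem hx hy
  have h3 : B = ⊤ := by
    rw [eq_top_iff]
    rintro x -
    induction x using TensorProduct.induction_on with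
    | zero => exact zero_mem _
    | add x y hx hy => exact add_mem hx hy
    | tmul l a =>
      have : l ⊗ₜ[k] a = l • ((1 : L) ⊗ₜ[k] a) := by
        rw [TensorProduct.smul_tmul', smul_eq_mul, mul_one]
      rw [this]
      exact B.smul_mem (h2 a) l
  rw [← hBspan, h3]
  simp

end span

section core

variable (k : Type u) [Field k] (A : Type u) [CommRing A] [Bialgebra k A] [Algebra.FiniteType k A]
  (K : Type u) [Field K] [Algebra k K]

/-- if `K ⊗ A` is spanned by group-likes, so is `L ⊗ A` for some finite separable `L/k` inside `K` -/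
theorem core (hK : Submodule.span K {x : K ⊗[k] A | IsGroupLikeElem K x} = ⊤) :
    ∃ L : IntermediateField k K, Module.Finite k L ∧ Algebra.IsSeparable k L ∧
      Submodule.span L {x : L ⊗[k] A | IsGroupLikeElem L x} = ⊤ := by
  classical
  obtain ⟨s, hs⟩ := (Algebra.FiniteType.out : (⊤ : Subalgebra k A).FG)
  have hex : ∀ a : A, ∃ T : Finset (K ⊗[k] A), (T : Set (K ⊗[k] A)) ⊆
      {x : K ⊗[k] A | IsGroupLikeElem K x} ∧ (1 : K) ⊗ₜ[k] a ∈ Submodule.span K (T : Set (K ⊗[k] A)) := by
    intro a
    apply Submodule.mem_span_finite_of_mem_span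
    rw [hK]; trivial
  choose T hT1 hT2 using hex
  set S₀ : Finset (K ⊗[k] A) := s.biUnion T with hS₀
  have hS₀gl : ∀ g ∈ S₀, IsGroupLikeElem K g := by
    intro g hg
    rw [hS₀, Finset.mem_biUnion] at hg
    obtain ⟨a, _, hga⟩ := hg
    exact hT1 a hga
  have hS₀span : ∀ a ∈ s, (1 : K) ⊗ₜ[k] a ∈ Submodule.span K (S₀ : Set (K ⊗[k] A)) := by
    intro a ha
    refine Submodule.span_mono ?_ (hT2 a)
    intro x hx
    rw [hS₀]
    exact Finset.mem_biUnion.mpr ⟨a, ha, hx⟩
  let b := Module.Basis.ofVectorSpace k A
  let bK := Algebra.TensorProduct.basis K b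
  set C : Finset K := S₀.biUnion (fun g => (bK.repr g).support.image (bK.repr g)) with hC
  set L : IntermediateField k K := IntermediateField.adjoin k (C : Set K) with hL
  have hcoord : ∀ g ∈ S₀, ∀ β, bK.repr g β ∈ L := by
    intro g hg β
    by_cases hβ : β ∈ (bK.repr g).support
    · apply IntermediateField.subset_adjoin
      rw [hC, Finset.mem_coe, Finset.mem_biUnion]
      exact ⟨g, hg, Finset.mem_image_of_mem _ hβ⟩
    · rw [Finsupp.notMem_support_iff.mp hβ]
      exact zero_mem _
  -- descent of the group-likes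
  have hdesc : ∀ g ∈ S₀, ∃ g' : L ⊗[k] A, iota L K g' = g := by
    intro g hg
    refine ⟨∑ β ∈ (bK.repr g).support, (⟨bK.repr g β, hcoord g hg β⟩ : L) ⊗ₜ[k] b β, ?_⟩
    rw [map_sum]
    conv_rhs => rw [← bK.linearCombination_repr g, Finsupp.linearCombination_apply, Finsupp.sum]
    apply Finset.sum_congr rfl
    intro β _
    rw [iota_tmul, Algebra.TensorProduct.basis_apply, TensorProduct.smul_tmul', smul_eq_mul,
      mul_one]
    rfl
  set S' : Set (L ⊗[k] A) := (iota (k := k) (A := A) L K) ⁻¹' (S₀ : Set (K ⊗[k] A)) with hS'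
  have hS'gl : S' ⊆ {x : L ⊗[k] A | IsGroupLikeElem L x} := by
    intro x hx
    exact isGroupLikeElem_of_iota L K (hS₀gl _ hx)
  have himg : iota (k := k) (A := A) L K '' S' = (S₀ : Set (K ⊗[k] A)) := by
    ext g
    constructor
    · rintro ⟨g', hg', rfl⟩
      exact hg'
    · intro hg
      obtain ⟨g', rfl⟩ := hdesc g hg
      exact ⟨g', hg, rfl⟩
  have hspanL : Submodule.span L {x : L ⊗[k] A | IsGroupLikeElem L x} = ⊤ := by
    apply span_groupLike_eq_top L (s : Set A) hs
    intro a ha
    refine Submodule.span_mono hS'gl ?_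
    apply mem_span_of_iota L K
    rw [himg]
    have : iota (k := k) (A := A) L K ((1 : L) ⊗ₜ[k] a) = (1 : K) ⊗ₜ[k] a := by
      rw [iota_tmul, map_one]
    rw [this]
    exact hS₀span a ha
  -- separability
  haveI : Algebra.EssFiniteType k L := by
    rw [IntermediateField.essFiniteType_iff]
    exact ⟨C, rfl⟩
  have hD : ∀ D : Derivation k L L, D = 0 := by
    intro D
    apply der_eq_zero_of_adjoin (C : Set K) D
    intro c hc
    rw [hC, Finset.mem_coe, Finset.mem_biUnion] at hc
    obtain ⟨g, hg, hcg⟩ := hc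
    obtain ⟨β, _, rfl⟩ := Finset.mem_image.mp hcg
    obtain ⟨g', rfl⟩ := hdesc g hg
    have hg'gl : IsGroupLikeElem L g' := isGroupLikeElem_of_iota L K (hS₀gl _ hg)
    have h1 : (⟨bK.repr (iota L K g') β, IntermediateField.subset_adjoin k (C : Set K) hc⟩ : L) =
        ev L (b.coord β) g' := by
      apply Subtype.ext
      have := ev_iota L K (b.coord β) g'
      rw [ev_coord] at this
      exact this
    rw [h1]
    exact der_ev_groupLike L hspanL D hg'gl _
  obtain ⟨hfin, hsep⟩ := finite_separable_of_der_eq_zero (k := k) L hD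
  exact ⟨L, hfin, hsep, hspanL⟩

end core

end Groth.Agent.Helper2.GLSep
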