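import Mathlib
import Groth.Prelude.Def_SGA3b
import Groth.Agent.Helper2.MultTypeChart
import Groth.Agent.Helper2.DiagSpan
import Groth.Agent.Helper2.AbResFin
import Groth.Agent.Helper1.EtRed

set_option autoImplicit false
universe u
open TensorProduct

namespace Groth.Agent.Helper2.TorsDense

open Groth.Agent.Helper2.MultTypeSemi Groth.Agent.Helper2.DiagSpan Groth.Agent.Helper2.MultTypeChart

section grpalg

variable (K : Type u) [Field K] (M : Type u) [CommGroup M]

/-- the quotient map killing `n`-th powers -/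
noncomputable def piN (n : ℕ) :
    MonoidAlgebra K M →ₐ[K] MonoidAlgebra K (M ⧸ (powMonoidHom n : M →* M).range) :=
  MonoidAlgebra.mapDomainAlgHom K K (QuotientGroup.mk' _)

lemma piN_lpow (n : ℕ) (y : MonoidAlgebra K M) :
    piN K M n (lpow K (MonoidAlgebra K M) n y) = algebraMap K _ (Coalgebra.counit y) := by
  induction y using MonoidAlgebra.induction_linear with
  | zero => simp
  | add x y hx hy => simp only [map_add, hx, hy]
  | single m r =>
    rw [lpow_single]
    have h1 : ((m : M ⧸ (powMonoidHom n : M →* M).range)) ^ n = 1 := by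
      rw [← QuotientGroup.mk_pow]
      exact (QuotientGroup.eq_one_iff _).mpr ⟨m, rfl⟩
    simp [piN, h1, MonoidAlgebra.coe_algebraMap]

lemma torsionIdeal_le_ker (n : ℕ) :
    SGA3b.torsionIdeal K (MonoidAlgebra K M) n ≤ RingHom.ker (piN K M n) := by
  rw [SGA3b.torsionIdeal, Ideal.map_le_iff_le_comap]
  intro y hy
  rw [RingHom.mem_ker] at hy
  rw [Ideal.mem_comap, RingHom.mem_ker]
  have h1 : piN K M n (SGA3b.powConv K (MonoidAlgebra K M) n y) = 0 := by
    rw [powConv_eq_lpow, piN_lpow]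
    have : Coalgebra.counit (R := K) y = 0 := hy
    rw [this, map_zero]
  exact h1

theorem iInf_torsionIdeal_monoidAlgebra [Group.FG M] (p : ℕ) (hp : p = 0 ∨ p.Prime)
    (htors : p ≠ 0 → ∀ m : M, m ^ p = 1 → m = 1) :
    ⨅ n : {n : ℕ // 0 < n ∧ ¬ p ∣ n}, SGA3b.torsionIdeal K (MonoidAlgebra K M) n.1 = ⊥ := by
  classical
  rw [eq_bot_iff]
  intro y hy
  rw [Ideal.mem_iInf] at hy
  obtain ⟨n, hn, hpn, hinj⟩ := Groth.Agent.Helper2.AbResFin.exists_pow_injOn M p hp htors
    y.coeff.support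
  have h1 : piN K M n y = 0 := torsionIdeal_le_ker K M n (hy ⟨n, hn, hpn⟩)
  have hf : Set.InjOn (QuotientGroup.mk' (powMonoidHom n : M →* M).range)
      (y.coeff.support : Set M) := by
    intro s hs t ht hst
    have h2 : s⁻¹ * t ∈ (powMonoidHom n : M →* M).range := QuotientGroup.eq.mp hst
    obtain ⟨h, hh⟩ := h2
    have h3 : t = s := hinj t ht s hs ⟨h, by rw [mul_comm]; exact hh⟩
    exact h3.symm
  have h2 := Finsupp.mapDomain_injOn (M := K) (y.coeff.support : Set M) hf
  have h3 : Finsupp.mapDomain (QuotientGroup.mk' (powMonoidHom n : M →* M).range) y.coeff =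
      Finsupp.mapDomain (QuotientGroup.mk' (powMonoidHom n : M →* M).range) (0 : M →₀ K) := by
    rw [Finsupp.mapDomain_zero]
    have := congrArg MonoidAlgebra.coeff h1
    simpa [piN] using this
  have h4 := h2 (show y.coeff ∈ {w : M →₀ K | (w.support : Set M) ⊆ y.coeff.support} from
    Set.Subset.refl _) (show (0 : M →₀ K) ∈ {w : M →₀ K | (w.support : Set M) ⊆ y.coeff.support} by
    simp) h3
  rw [Ideal.mem_bot]
  exact MonoidAlgebra.coeff_injective (by simpa using h4)

end grpalg

section span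

variable {L R₀ K : Type u} [CommRing L] [CommRing R₀] [CommRing K] [Algebra L R₀] [Algebra L K]
  [Algebra R₀ K] [IsScalarTower L R₀ K]
variable {X X' : Type u} [CommRing X] [Bialgebra L X] [CommRing X'] [Bialgebra L X']

/-- if `R₀ ⊗ X` is a group algebra, then for `R₀ ↠ K` and `X ↠ X'` the `K`-bialgebra `K ⊗ X'` is
spanned by group-like elements -/
theorem span_groupLike_bc (hK : Function.Surjective (algebraMap R₀ K)) (g : X →ₐc[L] X')
    (hg : Function.Surjective g) {M : Type u} [CommGroup M]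
    (e : R₀ ⊗[L] X ≃ₐc[R₀] MonoidAlgebra R₀ M) :
    Submodule.span K {a : K ⊗[L] X' | IsGroupLikeElem K a} = ⊤ := by
  have hθ := isSemiCoalg_bcMap L R₀ K g
  have key : ∀ x, bcMap L R₀ K g x ∈ Submodule.span K {a | IsGroupLikeElem K a} := by
    intro x
    have hx : x ∈ Submodule.span R₀ {a : R₀ ⊗[L] X | IsGroupLikeElem R₀ a} := by
      have h1 : e x ∈ Submodule.span R₀ {a : MonoidAlgebra R₀ M | IsGroupLikeElem R₀ a} := by
        rw [MonoidAlgebra.span_isGroupLikeElem]; trivial
      have h2 : ∀ w ∈ Submodule.span R₀ {a : MonoidAlgebra R₀ M | IsGroupLikeElem R₀ a},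
          e.symm w ∈ Submodule.span R₀ {a : R₀ ⊗[L] X | IsGroupLikeElem R₀ a} := by
        intro w hw
        induction hw using Submodule.span_induction with
        | mem a ha => exact Submodule.subset_span ((isGroupLikeElem_map_equiv e.symm).mpr ha)
        | zero => simp
        | add a b _ _ ha hb => rw [map_add]; exact add_mem ha hb
        | smul r a _ ha => rw [map_smul]; exact Submodule.smul_mem _ _ ha
      simpa using h2 _ h1
    induction hx using Submodule.span_induction with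
    | mem a ha => exact Submodule.subset_span (isGroupLikeElem_of_isSemiCoalg _ _ hθ ha)
    | zero => simp
    | add a b _ _ ha hb => rw [map_add]; exact add_mem ha hb
    | smul r a _ ha =>
      rw [map_smul, ← algebraMap_smul K r (bcMap L R₀ K g a)]
      exact Submodule.smul_mem _ _ ha
  rw [eq_top_iff]
  rintro y -
  induction y using TensorProduct.induction_on with
  | zero => exact zero_mem _
  | add a b ha hb => exact add_mem ha hb
  | tmul c z =>
    obtain ⟨r, rfl⟩ := hK c
    obtain ⟨z', rfl⟩ := hg z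
    exact key (r ⊗ₜ z')

end span

section transfer

variable {R S : Type u} [CommRing R] [CommRing S] [Algebra R S] {A B : Type u} [CommRing A]
  [HopfAlgebra R A] [CommRing B] [HopfAlgebra S B] [Algebra R B] [IsScalarTower R S B]

lemma map_mem_torsionIdeal {θ : A →ₐ[R] B} (h : IsSemiCoalg R S θ) (n : ℕ) {x : A}
    (hx : x ∈ SGA3b.torsionIdeal R A n) : θ x ∈ SGA3b.torsionIdeal S B n := by
  rw [SGA3b.torsionIdeal, Ideal.map] at hx
  induction hx using Submodule.span_induction with
  | mem y hy =>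
    obtain ⟨a, ha, rfl⟩ := hy
    have h1 : θ (SGA3b.powConv R A n a) = SGA3b.powConv S B n (θ a) := by
      rw [powConv_eq_lpow, powConv_eq_lpow, lpow_semi h]
    have h2 : θ a ∈ RingHom.ker (Bialgebra.counitAlgHom S B) := by
      rw [RingHom.mem_ker]
      have h3 : Coalgebra.counit (R := R) a = 0 := ha
      show Coalgebra.counit (R := S) (θ a) = 0
      rw [h.counit, h3, map_zero]
    show θ (SGA3b.powConv R A n a) ∈ _
    rw [h1]
    exact Ideal.mem_map_of_mem _ h2
  | zero => rw [map_zero]; exact zero_mem _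
  | add a b _ _ ha hb => rw [map_add]; exact add_mem ha hb
  | smul c y _ hy =>
    rw [smul_eq_mul, map_mul]
    exact Ideal.mul_mem_left _ _ hy

end transfer

theorem s7989 (k A : Type u) [Field k] [CommRing A] [HopfAlgebra k A]
    [Algebra.FiniteType k A] [Algebra.FormallySmooth k A] (h : SGA3b.IsMultType k A) :
    ⨅ n : {n : ℕ // 0 < n ∧ ¬ ringChar k ∣ n}, SGA3b.torsionIdeal k A n.1 = ⊥ := by
  obtain ⟨s, hs, hf⟩ := h
  have hex : ∃ f ∈ s, f ≠ 0 := by
    by_contra hcon
    push Not at hcon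
    have h1 : Ideal.span s ≤ ⊥ := Ideal.span_le.mpr (fun x hx => by simp [hcon x hx])
    rw [hs] at h1
    exact top_ne_bot (le_bot_iff.mp h1)
  obtain ⟨f, hfs, hf0⟩ := hex
  obtain ⟨R₀, _, _, hff, M₀, _, ⟨e⟩⟩ := hf f hfs
  have hLfield : IsField (Localization.Away f) := isField_away hf0
  haveI : Nontrivial (Localization.Away f) := hLfield.nontrivial
  haveI : Nontrivial R₀ := by
    haveI := hff
    exact (TensorProduct.rid (Localization.Away f) R₀).symm.toEquiv.nontrivial
  obtain ⟨𝔪, h𝔪⟩ := Ideal.exists_maximal R₀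
  letI : Field (R₀ ⧸ 𝔪) := Ideal.Quotient.field 𝔪
  letI : Algebra k R₀ := ((algebraMap (Localization.Away f) R₀).comp
    (algebraMap k (Localization.Away f))).toAlgebra
  haveI : IsScalarTower k (Localization.Away f) R₀ := IsScalarTower.of_algebraMap_eq (fun _ => rfl)
  haveI : IsScalarTower k (Localization.Away f) (R₀ ⧸ 𝔪) :=
    IsScalarTower.of_algebraMap_eq (fun _ => rfl)
  haveI hffK : Module.FaithfullyFlat (Localization.Away f) (R₀ ⧸ 𝔪) :=
    faithfullyFlat_of_isField _ _ hLfield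
  haveI hffL : Module.FaithfullyFlat k (Localization.Away f) :=
    faithfullyFlat_of_isField _ _ (Field.toIsField k)
  -- the Hopf algebra `H'`
  have hspan : Submodule.span (R₀ ⧸ 𝔪)
      {a : (R₀ ⧸ 𝔪) ⊗[Localization.Away f] (Localization.Away f ⊗[k] A) |
        IsGroupLikeElem (R₀ ⧸ 𝔪) a} = ⊤ :=
    span_groupLike_bc (L := Localization.Away f) (R₀ := R₀) (K := R₀ ⧸ 𝔪)
      Ideal.Quotient.mk_surjective (BialgHom.id _ _) Function.surjective_id e
  obtain ⟨M, _, ⟨e'⟩⟩ := isDiag_of_span_groupLike (R₀ ⧸ 𝔪)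
    ((R₀ ⧸ 𝔪) ⊗[Localization.Away f] (Localization.Away f ⊗[k] A)) hspan
  -- smoothness and reducedness
  haveI : Algebra.FinitePresentation k A := Algebra.FinitePresentation.of_finiteType.mp inferInstance
  haveI : Algebra.Smooth k A := ⟨inferInstance, inferInstance⟩
  haveI : Algebra.Smooth (R₀ ⧸ 𝔪)
      ((R₀ ⧸ 𝔪) ⊗[Localization.Away f] (Localization.Away f ⊗[k] A)) := inferInstance
  haveI hred : IsReduced ((R₀ ⧸ 𝔪) ⊗[Localization.Away f] (Localization.Away f ⊗[k] A)) :=
    Groth.Agent.Helper1.EtRed.isReduced_of_smooth (R₀ ⧸ 𝔪)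
      ((R₀ ⧸ 𝔪) ⊗[Localization.Away f] (Localization.Away f ⊗[k] A))
  haveI hredM : IsReduced (MonoidAlgebra (R₀ ⧸ 𝔪) M) := by
    refine ⟨fun x hx => ?_⟩
    have h1 : IsNilpotent (e'.symm x) := hx.map e'.symm
    have h2 := hred.eq_zero _ h1
    have h3 : e'.symm x = e'.symm 0 := by rw [h2, map_zero]
    exact e'.symm.injective h3
  -- finite generation
  haveI : Algebra.FiniteType (R₀ ⧸ 𝔪) (MonoidAlgebra (R₀ ⧸ 𝔪) M) :=
    Algebra.FiniteType.equiv inferInstance (AlgEquivClass.toAlgEquiv e')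
  haveI : Group.FG M := (MonoidAlgebra.finiteType_iff_group_fg (R := R₀ ⧸ 𝔪)).mp inferInstance
  -- characteristic
  haveI : CharP k (ringChar k) := ringChar.charP k
  have hp : ringChar k = 0 ∨ (ringChar k).Prime := (CharP.char_is_prime_or_zero k (ringChar k)).symm
  haveI : CharP (R₀ ⧸ 𝔪) (ringChar k) :=
    charP_of_injective_algebraMap (algebraMap k (R₀ ⧸ 𝔪)).injective (ringChar k)
  haveI : CharP (MonoidAlgebra (R₀ ⧸ 𝔪) M) (ringChar k) :=
    charP_of_injective_algebraMap
      (algebraMap (R₀ ⧸ 𝔪) (MonoidAlgebra (R₀ ⧸ 𝔪) M)).injective (ringChar k)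
  have htors : ringChar k ≠ 0 → ∀ m : M, m ^ ringChar k = 1 → m = 1 := by
    intro hp0 m hm
    have hpp : (ringChar k).Prime := hp.resolve_left hp0
    haveI : Fact (ringChar k).Prime := ⟨hpp⟩
    have h1 : (MonoidAlgebra.single m (1 : R₀ ⧸ 𝔪) - 1) ^ ringChar k = 0 := by
      rw [sub_pow_char, MonoidAlgebra.single_pow, hm, one_pow, one_pow, MonoidAlgebra.one_def,
        sub_self]
    have h2 : MonoidAlgebra.single m (1 : R₀ ⧸ 𝔪) - 1 = 0 := IsReduced.eq_zero _ ⟨_, h1⟩
    rw [sub_eq_zero, MonoidAlgebra.one_def] at h2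
    by_contra hne
    have h3 := congrArg (fun z => z.coeff m) h2
    simp only [MonoidAlgebra.coeff_single] at h3
    rw [Finsupp.single_eq_same, Finsupp.single_eq_of_ne hne] at h3
    exact one_ne_zero h3
  have hbot := iInf_torsionIdeal_monoidAlgebra (R₀ ⧸ 𝔪) M (ringChar k) hp htors
  -- the comparison map
  have h1 := isSemiCoalg_includeRight k (Localization.Away f) A
  have h2 := isSemiCoalg_includeRight (Localization.Away f) (R₀ ⧸ 𝔪) (Localization.Away f ⊗[k] A)
  have h12 := h1.comp k (Localization.Away f) (R₀ ⧸ 𝔪) h2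
  have h3 := isSemiCoalg_bialgHom (R₀ ⧸ 𝔪) (e'.toBialgHom)
  have h123 := h12.comp k (R₀ ⧸ 𝔪) (R₀ ⧸ 𝔪) h3
  rw [eq_bot_iff]
  intro x hx
  rw [Ideal.mem_iInf] at hx
  have hx' := Ideal.mem_iInf.mpr (fun n : {n : ℕ // 0 < n ∧ ¬ ringChar k ∣ n} =>
    map_mem_torsionIdeal h123 n.1 (hx n))
  rw [hbot, Ideal.mem_bot] at hx'
  rw [Ideal.mem_bot]
  apply Module.FaithfullyFlat.tensorProduct_mk_injective (A := k) (B := Localization.Away f) A
  apply Module.FaithfullyFlat.tensorProduct_mk_injective (A := Localization.Away f)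
    (B := R₀ ⧸ 𝔪) (Localization.Away f ⊗[k] A)
  apply e'.injective
  rw [map_zero, map_zero, map_zero]
  exact hx'

end Groth.Agent.Helper2.TorsDense
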