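import Mathlib
import Groth.Agent.Helper2.GLSep2
import Groth.Agent.Helper2.TorsDense

set_option autoImplicit false
universe u
open TensorProduct WithConv

namespace Groth.Agent.Helper2.GLSep

open Groth.Agent.Helper2.MultTypeSemi

section cancel

variable (k L₀ K : Type u) [CommRing k] [CommRing L₀] [CommRing K] [Algebra k L₀] [Algebra L₀ K]
  [Algebra k K] [IsScalarTower k L₀ K]
variable (A : Type u) [CommRing A] [Bialgebra k A]

/-- the cancellation isomorphism is a coalgebra isomorphism -/
noncomputable def cancelCoalgEquiv : (K ⊗[k] A) ≃ₗc[K] (K ⊗[L₀] (L₀ ⊗[k] A)) :=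
  { (Algebra.TensorProduct.cancelBaseChange k L₀ K K A).symm.toLinearEquiv with
    counit_comp := by
      have h1 := isSemiCoalg_includeRight k L₀ A
      have h2 := isSemiCoalg_includeRight L₀ K (L₀ ⊗[k] A)
      have h12 := h1.comp k L₀ K h2
      have h3 := isSemiCoalg_includeRight k K A
      ext a
      have e1 := h12.counit a
      have e3 := h3.counit a
      simp only [AlgHom.comp_apply, AlgHom.restrictScalars_apply,
        Algebra.TensorProduct.includeRight_apply] at e1 e3
      simp only [TensorProduct.AlgebraTensorModule.curry_apply, LinearMap.restrictScalars_comp,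
        TensorProduct.curry_apply, LinearMap.coe_comp, LinearMap.coe_restrictScalars,
        Function.comp_apply]
      rw [e3]
      simpa using e1
    map_comp_comul := by
      have h1 := isSemiCoalg_includeRight k L₀ A
      have h2 := isSemiCoalg_includeRight L₀ K (L₀ ⊗[k] A)
      have h12 := h1.comp k L₀ K h2
      have h3 := isSemiCoalg_includeRight k K A
      ext a
      have e1 := h12.comul a
      have e3 := h3.comul a
      simp only [AlgHom.comp_apply, AlgHom.restrictScalars_apply,
        Algebra.TensorProduct.includeRight_apply] at e1 e3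
      simp only [TensorProduct.AlgebraTensorModule.curry_apply, LinearMap.restrictScalars_comp,
        TensorProduct.curry_apply, LinearMap.coe_comp, LinearMap.coe_restrictScalars,
        Function.comp_apply]
      rw [e3]
      have e4 : ((Algebra.TensorProduct.cancelBaseChange k L₀ K K A).symm.toLinearEquiv :
          K ⊗[k] A →ₗ[K] K ⊗[L₀] (L₀ ⊗[k] A)) ((1 : K) ⊗ₜ[k] a) =
          (1 : K) ⊗ₜ[L₀] ((1 : L₀) ⊗ₜ[k] a) := by
        simp
      erw [e4, e1]
      generalize Coalgebra.comul (R := k) a = t
      induction t using TensorProduct.induction_on with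
      | zero => simp
      | add x y hx hy => simp only [map_add, hx, hy]
      | tmul x y => simp }

end cancel

section transfer

lemma span_groupLike_of_coalgEquiv {K : Type*} [CommRing K] {C C' : Type*} [AddCommGroup C]
    [Module K C] [Coalgebra K C] [AddCommGroup C'] [Module K C'] [Coalgebra K C']
    (e : C ≃ₗc[K] C') (h : Submodule.span K {x : C' | IsGroupLikeElem K x} = ⊤) :
    Submodule.span K {x : C | IsGroupLikeElem K x} = ⊤ := by
  rw [eq_top_iff]
  rintro x -
  have h1 : e x ∈ Submodule.span K {x : C' | IsGroupLikeElem K x} := by rw [h]; trivial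
  have h2 : ∀ w ∈ Submodule.span K {x : C' | IsGroupLikeElem K x},
      e.symm w ∈ Submodule.span K {x : C | IsGroupLikeElem K x} := by
    intro w hw
    induction hw using Submodule.span_induction with
    | mem a ha => exact Submodule.subset_span ((isGroupLikeElem_map_equiv e.symm).mpr ha)
    | zero => simp
    | add a b _ _ ha hb => rw [map_add]; exact add_mem ha hb
    | smul r a _ ha => rw [map_smul]; exact Submodule.smul_mem _ _ ha
  simpa using h2 _ h1

end transfer

open Groth.Agent.Helper2.DiagSpan Groth.Agent.Helper2.TorsDense in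
theorem s2969 (k : Type u) [Field k] (A : Type u) [CommRing A] [HopfAlgebra k A]
    (hft : Algebra.FiniteType k A) (h : SGA3b.IsMultType k A) :
    ∃ (k' : Type u) (_ : Field k') (_ : Algebra k k'), Module.Finite k k' ∧
      Algebra.IsSeparable k k' ∧ SGA3b.IsDiagFT k' (k' ⊗[k] A) := by
  haveI := hft
  obtain ⟨s, hs, hf⟩ := h
  have hex : ∃ f ∈ s, f ≠ 0 := by
    by_contra hcon
    push Not at hcon
    have h1 : Ideal.span s ≤ ⊥ := Ideal.span_le.mpr (fun x hx => by simp [hcon x hx])
    rw [hs] at h1
    exact top_ne_bot (le_bot_iff.mp h1)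
  obtain ⟨f, hfs, hf0⟩ := hex
  obtain ⟨R₀, _, _, hff, M₀, _, ⟨e⟩⟩ := hf f hfs
  have hLfield : IsField (Localization.Away f) := isField_away hf0
  haveI : Nontrivial (Localization.Away f) := hLfield.nontrivial
  haveI : Nontrivial R₀ := by
    haveI := hff
    exact (TensorProduct.rid (Localization.Away f) R₀).symm.toEquiv.nontrivial
  obtain ⟨𝔪, h𝔪⟩ := Ideal.exists_maximal R₀
  letI : Field (R₀ ⧸ 𝔪) := Ideal.Quotient.field 𝔪
  letI : Algebra k R₀ := ((algebraMap (Localization.Away f) R₀).comp
    (algebraMap k (Localization.Away f))).toAlgebra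
  haveI : IsScalarTower k (Localization.Away f) R₀ := IsScalarTower.of_algebraMap_eq (fun _ => rfl)
  haveI : IsScalarTower k (Localization.Away f) (R₀ ⧸ 𝔪) :=
    IsScalarTower.of_algebraMap_eq (fun _ => rfl)
  have hspanH : Submodule.span (R₀ ⧸ 𝔪)
      {a : (R₀ ⧸ 𝔪) ⊗[Localization.Away f] (Localization.Away f ⊗[k] A) |
        IsGroupLikeElem (R₀ ⧸ 𝔪) a} = ⊤ :=
    span_groupLike_bc (L := Localization.Away f) (R₀ := R₀) (K := R₀ ⧸ 𝔪)
      Ideal.Quotient.mk_surjective (BialgHom.id _ _) Function.surjective_id e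
  have hspanK : Submodule.span (R₀ ⧸ 𝔪) {a : (R₀ ⧸ 𝔪) ⊗[k] A | IsGroupLikeElem (R₀ ⧸ 𝔪) a} = ⊤ :=
    span_groupLike_of_coalgEquiv (cancelCoalgEquiv k (Localization.Away f) (R₀ ⧸ 𝔪) A) hspanH
  obtain ⟨L, hfin, hsep, hspanL⟩ := core k A (R₀ ⧸ 𝔪) hspanK
  refine ⟨L, inferInstance, inferInstance, hfin, hsep, ?_⟩
  obtain ⟨M, _, ⟨e'⟩⟩ := isDiag_of_span_groupLike L (L ⊗[k] A) hspanL
  haveI : Algebra.FiniteType L (MonoidAlgebra L M) :=
    Algebra.FiniteType.equiv inferInstance (AlgEquivClass.toAlgEquiv e')
  haveI : Group.FG M := (MonoidAlgebra.finiteType_iff_group_fg (R := L)).mp inferInstance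
  exact ⟨M, inferInstance, inferInstance, ⟨e'⟩⟩

end Groth.Agent.Helper2.GLSep
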