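import Mathlib
import Groth.Prelude.Def_SGA3b
import Groth.Agent.Helper2.DefApp
import Groth.Agent.Helper2.GLSep3

set_option autoImplicit false

namespace Groth.Agent.Helper2.ArtIso
open TensorProduct Groth.Agent.Helper2.MultTypeSemi Groth.Agent.Helper2.SemiIso
  Groth.Agent.Helper2.DefApp Groth.Agent.Helper2.MultTypeChart SGA3b IsLocalRing

universe u

lemma etale_of_finite_separable (k k' : Type*) [Field k] [Field k'] [Algebra k k']
    [Module.Finite k k'] [Algebra.IsSeparable k k'] : Algebra.Etale k k' where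
  formallyEtale := Algebra.FormallyEtale.of_isSeparable k k'
  finitePresentation := Algebra.FinitePresentation.of_finiteType.mp inferInstance

theorem s5252 (A : Type u) [CommRing A] [IsArtinianRing A] [IsLocalRing A]
    (C : Type u) [CommRing C] [HopfAlgebra A C] [Module.Flat A C] (hft : Algebra.FiniteType A C)
    (h0 : IsMultType (ResidueField A) (ResidueField A ⊗[A] C)) :
    IsMultType A C ∧ IsIsotrivial A C := by
  have hnil : IsNilpotent (maximalIdeal A) := by
    have := IsArtinianRing.isNilpotent_jacobson_bot (R := A)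
    rwa [IsLocalRing.jacobson_eq_maximalIdeal ⊥ bot_ne_top] at this
  haveI := hft
  have hftk : Algebra.FiniteType (ResidueField A) (ResidueField A ⊗[A] C) := inferInstance
  obtain ⟨k', _, _, hfin, hsep, M, _, -, ⟨e⟩⟩ :=
    Groth.Agent.Helper2.GLSep.s2969 (ResidueField A) (ResidueField A ⊗[A] C) hftk h0
  letI : Algebra A k' := ((algebraMap (ResidueField A) k').comp
    (algebraMap A (ResidueField A))).toAlgebra
  haveI : IsScalarTower A (ResidueField A) k' := IsScalarTower.of_algebraMap_eq (fun _ => rfl)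
  haveI : Algebra.Etale (ResidueField A) k' := etale_of_finite_separable _ _
  let χ := chart A C (ResidueField A) k' M e
  have hχ : IsSemiIso A k' χ := chart_isSemiIso _ _ _ _ _ e
  letI : Algebra (A ⧸ maximalIdeal A) k' := (inferInstance : Algebra (ResidueField A) k')
  haveI : IsScalarTower A (A ⧸ maximalIdeal A) k' :=
    (inferInstance : IsScalarTower A (ResidueField A) k')
  haveI : Algebra.Etale (A ⧸ maximalIdeal A) k' :=
    (inferInstance : Algebra.Etale (ResidueField A) k')
  haveI : Module.Finite (A ⧸ maximalIdeal A) k' := hfin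
  have hmap : Ideal.map (algebraMap A k') (maximalIdeal A) = ⊥ := by
    rw [eq_bot_iff, Ideal.map_le_iff_le_comap]
    intro x hx
    rw [Ideal.mem_comap, Ideal.mem_bot]
    show algebraMap (ResidueField A) k' (algebraMap A (ResidueField A) x) = 0
    have hx0 : algebraMap A (ResidueField A) x = 0 := (IsLocalRing.residue_eq_zero_iff x).mpr hx
    rw [hx0, map_zero]
  have hne : ∀ 𝔭 : Ideal A, 𝔭 ≠ ⊤ → Ideal.map (algebraMap A k') 𝔭 ≠ ⊤ := by
    intro 𝔭 h𝔭 htop
    have h1 : Ideal.map (algebraMap A k') 𝔭 ≤ Ideal.map (algebraMap A k') (maximalIdeal A) :=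
      Ideal.map_mono (IsLocalRing.le_maximalIdeal h𝔭)
    rw [hmap, htop] at h1
    exact top_ne_bot (le_bot_iff.mp h1)
  constructor
  · refine ⟨{1}, by simp, ?_⟩
    intro f hf
    obtain rfl : f = 1 := hf
    obtain ⟨R', _, _, -, hff, hdiag⟩ :=
      isQuasiIsotrivialConst_of_chart A C (maximalIdeal A) k' M hnil 1 (by simp)
        (fun 𝔭 h𝔭 _ => hne 𝔭 h𝔭.ne_top) χ hχ
    exact ⟨R', inferInstance, inferInstance, hff, hdiag⟩
  · exact isIsotrivial_of_chart A C (maximalIdeal A) k' M hnil
      (fun 𝔮 h𝔮 => hne 𝔮 h𝔮.ne_top) χ hχ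

end Groth.Agent.Helper2.ArtIso
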