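import Mathlib
import Groth.Agent.Helper2.ArtStalk

namespace Groth.Agent.Helper2.ArtPrin
open IsLocalRing Groth.Agent.Helper2.ArtStalk Groth.Agent.Helper2.AdicJacArt

universe u

/-- a surjective ring hom from a local ring to a nontrivial ring reflects units. -/
theorem isUnit_of_surjective {E F : Type*} [CommRing E] [CommRing F] [IsLocalRing E] [Nontrivial F]
    (π : E →+* F) (hπ : Function.Surjective π) (a : E) (ha : IsUnit (π a)) : IsUnit a := by
  haveI := IsLocalHom.of_surjective π hπ
  exact isUnit_of_map_unit π a ha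

theorem map_mem_maximalIdeal_of_surjective {E F : Type*} [CommRing E] [CommRing F] [IsLocalRing E]
    [IsLocalRing F] (π : E →+* F) (hπ : Function.Surjective π) (a : E) (ha : a ∈ maximalIdeal E) :
    π a ∈ maximalIdeal F := by
  rw [IsLocalRing.mem_maximalIdeal, mem_nonunits_iff] at ha ⊢
  exact fun h => ha (isUnit_of_surjective π hπ a h)

/-- Lifting along surjections whose kernel is generated by `d` elements killed by the maximal ideal,
given lifting along the principal ones. -/
theorem lift_of_principal {R₀ T : Type u} [CommRing R₀] [CommRing T] [Algebra R₀ T] [IsLocalRing T]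
    (Hprin : ∀ (E E' : Type u) [CommRing E] [CommRing E'] [IsLocalRing E] [IsLocalRing E']
      [IsArtinianRing E] [IsArtinianRing E'] [Algebra R₀ E] [Algebra R₀ E'] (π : E →ₐ[R₀] E'),
      Function.Surjective π →
      (∃ t : E, RingHom.ker π.toRingHom = Ideal.span {t} ∧ ∀ a ∈ maximalIdeal E, a * t = 0) →
      ∀ ψ : T →ₐ[R₀] E', (∀ s ∈ maximalIdeal T, ψ s ∈ maximalIdeal E') →
        ∃ χ : T →ₐ[R₀] E, π.comp χ = ψ) :
    ∀ (d : ℕ) (E F : Type u) [CommRing E] [CommRing F] [IsLocalRing E] [IsLocalRing F]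
      [IsArtinianRing E] [Algebra R₀ E] [Algebra R₀ F] (π : E →ₐ[R₀] F),
      Function.Surjective π → ∀ (x : Fin d → E),
      RingHom.ker π.toRingHom = Ideal.span (Set.range x) →
      (∀ a ∈ maximalIdeal E, ∀ b ∈ RingHom.ker π.toRingHom, a * b = 0) →
      ∀ ψ : T →ₐ[R₀] F, (∀ s ∈ maximalIdeal T, ψ s ∈ maximalIdeal F) →
        ∃ χ : T →ₐ[R₀] E, π.comp χ = ψ := by
  intro d
  induction d with
  | zero =>
    intro E F _ _ _ _ _ _ _ π hπ x hx _ ψ _
    have hinj : Function.Injective π := by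
      have : RingHom.ker π.toRingHom = ⊥ := by
        rw [hx]
        have : Set.range x = ∅ := Set.range_eq_empty x
        rw [this, Ideal.span_empty]
      exact (RingHom.injective_iff_ker_eq_bot π.toRingHom).mpr this
    let e : E ≃ₐ[R₀] F := AlgEquiv.ofBijective π ⟨hinj, hπ⟩
    refine ⟨e.symm.toAlgHom.comp ψ, ?_⟩
    ext s
    change π (e.symm (ψ s)) = ψ s
    exact e.apply_symm_apply (ψ s)
  | succ d ih =>
    intro E F _ _ _ _ _ _ _ π hπ x hx hm ψ hψ
    set t := x 0 with ht
    have htker : t ∈ RingHom.ker π.toRingHom := by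
      rw [hx]; exact Ideal.subset_span ⟨0, rfl⟩
    have hkerle : RingHom.ker π.toRingHom ≤ maximalIdeal E :=
      IsLocalRing.le_maximalIdeal (RingHom.ker_ne_top _)
    have hspan_le : Ideal.span {t} ≤ RingHom.ker π.toRingHom := by
      rw [Ideal.span_singleton_le_iff_mem]; exact htker
    have hspan_top : Ideal.span {t} ≠ ⊤ := fun h =>
      (maximalIdeal.isMaximal E).ne_top (top_le_iff.mp (h ▸ hspan_le.trans hkerle))
    haveI : Nontrivial (E ⧸ Ideal.span {t}) := Ideal.Quotient.nontrivial_iff.mpr hspan_top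
    haveI : IsLocalRing (E ⧸ Ideal.span {t}) :=
      IsLocalRing.of_surjective' (Ideal.Quotient.mk _) Ideal.Quotient.mk_surjective
    let π' : (E ⧸ Ideal.span {t}) →ₐ[R₀] F :=
      Ideal.Quotient.liftₐ (Ideal.span {t}) π (fun a ha => hspan_le ha)
    have hπ'mk : ∀ a, π' (Ideal.Quotient.mk _ a) = π a := fun a => rfl
    have hπ' : Function.Surjective π' := by
      intro y
      obtain ⟨a, rfl⟩ := hπ y
      exact ⟨Ideal.Quotient.mk _ a, rfl⟩
    have hker' : RingHom.ker π'.toRingHom =
        (RingHom.ker π.toRingHom).map (Ideal.Quotient.mk (Ideal.span {t})) := by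
      ext y
      obtain ⟨a, rfl⟩ := Ideal.Quotient.mk_surjective y
      rw [RingHom.mem_ker]
      change π' (Ideal.Quotient.mk _ a) = 0 ↔ _
      rw [hπ'mk]
      constructor
      · intro h
        exact Ideal.mem_map_of_mem _ (RingHom.mem_ker.mpr h)
      · intro h
        rw [Ideal.mem_map_iff_of_surjective _ Ideal.Quotient.mk_surjective] at h
        obtain ⟨a', ha', haa'⟩ := h
        have h1 : a' - a ∈ Ideal.span {t} := Ideal.Quotient.eq.mp haa'
        have h2 : a' - a ∈ RingHom.ker π.toRingHom := hspan_le h1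
        have h3 : a = a' - (a' - a) := by ring
        have h4 : a ∈ RingHom.ker π.toRingHom := by
          rw [h3]; exact Ideal.sub_mem _ ha' h2
        exact RingHom.mem_ker.mp h4
    let x' : Fin d → E ⧸ Ideal.span {t} := fun i => Ideal.Quotient.mk _ (x i.succ)
    have hx' : RingHom.ker π'.toRingHom = Ideal.span (Set.range x') := by
      rw [hker', hx, Ideal.map_span]
      apply le_antisymm
      · rw [Ideal.span_le]
        rintro _ ⟨_, ⟨i, rfl⟩, rfl⟩
        refine Fin.cases ?_ (fun j => ?_) i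
        · have : Ideal.Quotient.mk (Ideal.span {t}) (x 0) = 0 :=
            Ideal.Quotient.eq_zero_iff_mem.mpr (Ideal.subset_span rfl)
          rw [this]
          exact Ideal.zero_mem _
        · exact Ideal.subset_span ⟨j, rfl⟩
      · rw [Ideal.span_le]
        rintro _ ⟨j, rfl⟩
        exact Ideal.subset_span ⟨x j.succ, ⟨j.succ, rfl⟩, rfl⟩
    have hm' : ∀ a ∈ maximalIdeal (E ⧸ Ideal.span {t}), ∀ b ∈ RingHom.ker π'.toRingHom,
        a * b = 0 := by
      intro a ha b hb
      obtain ⟨a₀, rfl⟩ := Ideal.Quotient.mk_surjective a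
      rw [hker', Ideal.mem_map_iff_of_surjective _ Ideal.Quotient.mk_surjective] at hb
      obtain ⟨b₀, hb₀, rfl⟩ := hb
      have ha₀ : a₀ ∈ maximalIdeal E := by
        rw [IsLocalRing.mem_maximalIdeal, mem_nonunits_iff] at ha ⊢
        exact fun h => ha (h.map _)
      rw [← map_mul, hm a₀ ha₀ b₀ hb₀, map_zero]
    obtain ⟨χ', hχ'⟩ := ih (E ⧸ Ideal.span {t}) F π' hπ' x' hx' hm' ψ hψ
    have hχ'loc : ∀ s ∈ maximalIdeal T, χ' s ∈ maximalIdeal (E ⧸ Ideal.span {t}) := by
      intro s hs
      have h1 : π' (χ' s) ∈ maximalIdeal F := by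
        have := AlgHom.congr_fun hχ' s
        rw [AlgHom.comp_apply] at this
        rw [this]
        exact hψ s hs
      rw [IsLocalRing.mem_maximalIdeal, mem_nonunits_iff] at h1 ⊢
      exact fun h => h1 (h.map _)
    obtain ⟨χ, hχ⟩ := Hprin E (E ⧸ Ideal.span {t}) (Ideal.Quotient.mkₐ R₀ (Ideal.span {t}))
      Ideal.Quotient.mk_surjective
      ⟨t, by
        change RingHom.ker (Ideal.Quotient.mk (Ideal.span {t})) = _
        exact Ideal.mk_ker, fun a ha => hm a ha t htker⟩ χ' hχ'loc
    refine ⟨χ, ?_⟩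
    ext s
    have h1 := AlgHom.congr_fun hχ s
    have h2 := AlgHom.congr_fun hχ' s
    rw [AlgHom.comp_apply] at h1 h2 ⊢
    rw [← h2, ← h1]
    rfl

/-- From principal lifting to the strong Artinian lifting property. -/
theorem artLiftS_of_principal {R₀ T : Type u} [CommRing R₀] [CommRing T] [Algebra R₀ T]
    [IsLocalRing T]
    (Hprin : ∀ (E E' : Type u) [CommRing E] [CommRing E'] [IsLocalRing E] [IsLocalRing E']
      [IsArtinianRing E] [IsArtinianRing E'] [Algebra R₀ E] [Algebra R₀ E'] (π : E →ₐ[R₀] E'),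
      Function.Surjective π →
      (∃ t : E, RingHom.ker π.toRingHom = Ideal.span {t} ∧ ∀ a ∈ maximalIdeal E, a * t = 0) →
      ∀ ψ : T →ₐ[R₀] E', (∀ s ∈ maximalIdeal T, ψ s ∈ maximalIdeal E') →
        ∃ χ : T →ₐ[R₀] E, π.comp χ = ψ) : ArtLiftS R₀ T := by
  intro E _ _ _ _ N hN hNm ψ hψ
  haveI : Nontrivial (E ⧸ N) := Ideal.Quotient.nontrivial_iff.mpr hN
  haveI : IsLocalRing (E ⧸ N) :=
    IsLocalRing.of_surjective' (Ideal.Quotient.mk _) Ideal.Quotient.mk_surjective
  have hfg : N.FG := IsNoetherian.noetherian N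
  obtain ⟨d, x, hx⟩ := Submodule.fg_iff_exists_fin_generating_family.mp hfg
  refine lift_of_principal Hprin d E (E ⧸ N) (Ideal.Quotient.mkₐ R₀ N) Ideal.Quotient.mk_surjective
    x ?_ ?_ ψ ?_
  · change RingHom.ker (Ideal.Quotient.mk N) = _
    rw [Ideal.mk_ker]
    exact hx.symm
  · intro a ha b hb
    have hb' : b ∈ N := by
      have : RingHom.ker (Ideal.Quotient.mk N) = N := Ideal.mk_ker
      rw [← this]; exact hb
    have : b * a ∈ N * maximalIdeal E := Ideal.mul_mem_mul hb' ha
    rw [hNm, Ideal.mem_bot] at this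
    rw [mul_comm]; exact this
  · intro s hs
    exact map_mem_maximalIdeal_of_surjective ψ.toRingHom hψ s hs

end Groth.Agent.Helper2.ArtPrin
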