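import Mathlib
import Groth.Agent.Helper2.ArtPrin

namespace Groth.Agent.Helper2.ArtSmoothAt
open IsLocalRing Groth.Agent.Helper2.ArtStalk Groth.Agent.Helper2.AdicJacArt
  Groth.Agent.Helper2.ArtPrin

universe u

theorem isSmoothAt_iff {R S : Type u} [CommRing R] [IsNoetherianRing R]
    [CommRing S] [Algebra R S] [Algebra.FiniteType R S] (q : Ideal S) [q.IsPrime] :
    Algebra.IsSmoothAt R q ↔
      ∀ (B' B : Type u) [CommRing B'] [CommRing B] [IsLocalRing B'] [IsLocalRing B]
        [IsArtinianRing B'] [IsArtinianRing B] [Algebra R B'] [Algebra R B] (π : B' →ₐ[R] B),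
        Function.Surjective π →
        (∃ t : B', RingHom.ker π.toRingHom = Ideal.span {t} ∧
          ∀ a ∈ IsLocalRing.maximalIdeal B', a * t = 0) →
        ∀ g : S →ₐ[R] B, (IsLocalRing.maximalIdeal B).comap g = q →
          ∃ g' : S →ₐ[R] B', π.comp g' = g := by
  constructor
  · intro hsm B' B _ _ _ _ _ _ _ _ π hπ ht g hg
    haveI : Algebra.FormallySmooth R (Localization.AtPrime q) := hsm
    obtain ⟨t, hker, hmt⟩ := ht
    have hunits : ∀ y : q.primeCompl, IsUnit (g y) := by
      intro y
      by_contra hc
      have h1 : g y ∈ maximalIdeal B := (IsLocalRing.mem_maximalIdeal _).mpr hc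
      have h2 : (y : S) ∈ (maximalIdeal B).comap g := h1
      rw [hg] at h2
      exact y.2 h2
    let gq : Localization.AtPrime q →ₐ[R] B :=
      IsLocalization.liftAlgHom (M := q.primeCompl) (f := g) hunits
    have htm : t ∈ maximalIdeal B' := by
      have : RingHom.ker π.toRingHom ≤ maximalIdeal B' :=
        IsLocalRing.le_maximalIdeal (RingHom.ker_ne_top _)
      apply this
      rw [hker]
      exact Ideal.subset_span rfl
    have hnil : IsNilpotent (RingHom.ker (π : B' →+* B)) := by
      refine ⟨2, ?_⟩
      change RingHom.ker π.toRingHom ^ 2 = ⊥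
      rw [hker, Ideal.span_singleton_pow, pow_two, hmt t htm, Ideal.span_singleton_eq_bot]
    let L := Algebra.FormallySmooth.liftOfSurjective gq π hπ hnil
    refine ⟨L.comp (IsScalarTower.toAlgHom R S (Localization.AtPrime q)), ?_⟩
    ext s
    change π (L (algebraMap S (Localization.AtPrime q) s)) = g s
    rw [Algebra.FormallySmooth.liftOfSurjective_apply]
    change IsLocalization.lift hunits (algebraMap S (Localization.AtPrime q) s) = g s
    rw [IsLocalization.lift_eq]
    rfl
  · intro H
    change Algebra.FormallySmooth R (Localization.AtPrime q)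
    apply formallySmooth_of_artLiftS
    apply artLiftS_of_principal
    intro E E' _ _ _ _ _ _ _ _ π hπ ht ψ hψ
    let g : S →ₐ[R] E' := ψ.comp (IsScalarTower.toAlgHom R S (Localization.AtPrime q))
    have hgapp : ∀ s, g s = ψ (algebraMap S (Localization.AtPrime q) s) := fun s => rfl
    have hcomap : (maximalIdeal E').comap g = q := by
      ext s
      rw [Ideal.mem_comap, hgapp]
      constructor
      · intro hs
        by_contra hsq
        have h1 : IsUnit (algebraMap S (Localization.AtPrime q) s) :=
          (IsLocalization.AtPrime.isUnit_to_map_iff (Localization.AtPrime q) q s).mpr hsq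
        exact ((IsLocalRing.mem_maximalIdeal _).mp hs) (h1.map ψ)
      · intro hs
        exact hψ _ ((IsLocalization.AtPrime.to_map_mem_maximal_iff (Localization.AtPrime q) q s).mpr hs)
    obtain ⟨g', hg'⟩ := H E E' π hπ ht g hcomap
    have hg'app : ∀ s, π (g' s) = g s := fun s => AlgHom.congr_fun hg' s
    have hunits : ∀ y : q.primeCompl, IsUnit (g' y) := by
      intro y
      apply isUnit_of_surjective π.toRingHom hπ
      change IsUnit (π (g' y))
      rw [hg'app, hgapp]
      exact ((IsLocalization.AtPrime.isUnit_to_map_iff (Localization.AtPrime q) q y).mpr y.2).map ψ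
    let χ : Localization.AtPrime q →ₐ[R] E :=
      IsLocalization.liftAlgHom (M := q.primeCompl) (f := g') hunits
    refine ⟨χ, ?_⟩
    have hring : (π.comp χ).toRingHom = ψ.toRingHom := by
      apply IsLocalization.ringHom_ext q.primeCompl
      ext s
      simp only [RingHom.comp_apply, AlgHom.toRingHom_eq_coe, RingHom.coe_coe, AlgHom.comp_apply]
      change π (IsLocalization.lift hunits (algebraMap S (Localization.AtPrime q) s)) = _
      rw [IsLocalization.lift_eq]
      change π (g' s) = _
      rw [hg'app, hgapp]
    refine AlgHom.ext fun z => ?_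
    exact RingHom.congr_fun hring z

end Groth.Agent.Helper2.ArtSmoothAt
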