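import Mathlib
import Groth.Prelude.Def_Exal
import Groth.Agent.Helper2.ArtPrin

namespace Groth.Agent.Helper2.SmallExt
open IsLocalRing Groth.Agent.Helper2.ArtPrin

universe u

section Basic

variable {Λ : Type u} [CommRing Λ] {R : Type u} [CommRing R] [Algebra Λ R] [IsLocalRing R]
  (X : Exal.Ext Λ R (ResidueField R))

theorem incl_residue (e : X.E) : X.incl (residue R (X.proj e)) = e * X.incl 1 := by
  rw [X.isExtension.mul_incl]
  congr 1
  rw [Algebra.smul_def, mul_one]
  rfl

theorem proj_incl (z : ResidueField R) : X.proj (X.incl z) = 0 :=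
  (X.isExtension.exact _).2 ⟨z, rfl⟩

theorem eps_sq : X.incl 1 * X.incl 1 = 0 := by
  rw [X.isExtension.mul_incl, proj_incl, zero_smul, map_zero]

theorem exists_mul_eps (e : X.E) (he : X.proj e = 0) : ∃ e' : X.E, e = e' * X.incl 1 := by
  obtain ⟨z, rfl⟩ := (X.isExtension.exact e).1 he
  obtain ⟨r, rfl⟩ := residue_surjective z
  obtain ⟨e', rfl⟩ := X.isExtension.proj_surjective r
  exact ⟨e', incl_residue X e'⟩

theorem isLocalHom_proj : IsLocalHom (X.proj : X.E →+* R) := by
  constructor
  intro e he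
  obtain ⟨r, hr⟩ := he.exists_right_inv
  obtain ⟨e', rfl⟩ := X.isExtension.proj_surjective r
  have h0 : X.proj (e * e' - 1) = 0 := by
    rw [map_sub, map_mul, map_one]
    exact sub_eq_zero.mpr hr
  obtain ⟨c, hc⟩ := exists_mul_eps X _ h0
  have hnil : IsNilpotent (e * e' - 1) := by
    refine ⟨2, ?_⟩
    rw [hc, pow_two]
    calc c * X.incl 1 * (c * X.incl 1) = c * c * (X.incl 1 * X.incl 1) := by ring
      _ = 0 := by rw [eps_sq, mul_zero]
  have hu : IsUnit (e * e') := by
    have := hnil.isUnit_add_one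
    rwa [sub_add_cancel] at this
  exact isUnit_of_mul_isUnit_left hu

end Basic


section BtoA

variable {k : Type u} [Field k] {Λ : Type u} [CommRing Λ] [Algebra k Λ]
  {R : Type u} [CommRing R] [Algebra Λ R] [IsLocalRing R]

theorem isLocalRing_E (X : Exal.Ext Λ R (ResidueField R)) : IsLocalRing X.E := by
  haveI := isLocalHom_proj X
  exact RingHom.domain_isLocalRing (X.proj : X.E →+* R)

theorem mem_maximalIdeal_E_iff (X : Exal.Ext Λ R (ResidueField R)) [IsLocalRing X.E] (e : X.E) :
    e ∈ maximalIdeal X.E ↔ X.proj e ∈ maximalIdeal R := by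
  haveI := isLocalHom_proj X
  rw [IsLocalRing.mem_maximalIdeal, mem_nonunits_iff, IsLocalRing.mem_maximalIdeal, mem_nonunits_iff]
  constructor
  · intro h h'
    exact h (isUnit_of_map_unit (X.proj : X.E →+* R) e h')
  · intro h h'
    exact h (h'.map X.proj)

theorem mul_eps_eq_zero (X : Exal.Ext Λ R (ResidueField R)) [IsLocalRing X.E] (e : X.E)
    (he : e ∈ maximalIdeal X.E) : e * X.incl 1 = 0 := by
  rw [← incl_residue]
  have : residue R (X.proj e) = 0 := by
    rw [residue_eq_zero_iff]
    exact (mem_maximalIdeal_E_iff X e).1 he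
  rw [this, map_zero]

theorem eps_ne_zero (X : Exal.Ext Λ R (ResidueField R)) : X.incl 1 ≠ 0 := by
  intro h
  have := X.isExtension.incl_injective (h.trans (map_zero X.incl).symm)
  exact one_ne_zero this

theorem ker_proj_eq (X : Exal.Ext Λ R (ResidueField R)) :
    RingHom.ker (X.proj : X.E →+* R) = Ideal.span {X.incl 1} := by
  apply le_antisymm
  · intro e he
    obtain ⟨e', rfl⟩ := exists_mul_eps X e he
    exact Ideal.mul_mem_left _ _ (Ideal.subset_span rfl)
  · rw [Ideal.span_singleton_le_iff_mem]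
    exact proj_incl X 1

theorem isNoetherianRing_E [IsNoetherianRing R] (X : Exal.Ext Λ R (ResidueField R)) : IsNoetherianRing X.E := by
  haveI := isLocalRing_E X
  rw [isNoetherianRing_iff_ideal_fg]
  intro I
  refine Ideal.fg_of_fg_map_of_fg_inf_ker_of_surjective (f := (X.proj : X.E →+* R))
    ((isNoetherianRing_iff_ideal_fg R).1 inferInstance _) ?_ X.isExtension.proj_surjective
  by_cases hε : X.incl 1 ∈ I
  · have : I ⊓ RingHom.ker (X.proj : X.E →+* R) = Ideal.span {X.incl 1} := by
      rw [ker_proj_eq, inf_eq_right, Ideal.span_singleton_le_iff_mem]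
      exact hε
    rw [this]
    exact ⟨{X.incl 1}, by simp⟩
  · have : I ⊓ RingHom.ker (X.proj : X.E →+* R) = ⊥ := by
      rw [eq_bot_iff]
      rintro x ⟨hxI, hxK⟩
      obtain ⟨e', rfl⟩ := exists_mul_eps X x hxK
      by_cases hu : IsUnit e'
      · exfalso
        apply hε
        have : X.incl 1 = ↑(hu.unit⁻¹) * (e' * X.incl 1) := by
          rw [← mul_assoc, IsUnit.val_inv_mul, one_mul]
        rw [this]
        exact Ideal.mul_mem_left _ _ hxI
      · rw [Ideal.mem_bot]
        exact mul_eps_eq_zero X e' hu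
    rw [this]
    exact Submodule.fg_bot


theorem trivial_of_lift [IsNoetherianRing R]
    (hR : ∀ r : R, ∃ c : k, r - algebraMap Λ R (algebraMap k Λ c) ∈ maximalIdeal R)
    (hb : ∀ (B : Type u) [CommRing B] [Algebra Λ B] [IsLocalRing B] [IsArtinianRing B],
      (∀ b : B, ∃ c : k, b - algebraMap Λ B (algebraMap k Λ c) ∈ maximalIdeal B) →
      ∀ t : B, t ∈ maximalIdeal B → (∀ b ∈ maximalIdeal B, b * t = 0) →
      ∀ φ : R →ₐ[Λ] B ⧸ Ideal.span {t},
        ∃ φ' : R →ₐ[Λ] B, (Ideal.Quotient.mkₐ Λ (Ideal.span {t})).comp φ' = φ)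
    (X : Exal.Ext Λ R (ResidueField R)) : X.IsTrivial := by
  haveI := isLocalRing_E X
  haveI := isNoetherianRing_E X
  set ε : X.E := X.incl 1 with hεdef
  have hε0 : ε ≠ 0 := eps_ne_zero X
  have hεm : ε ∈ maximalIdeal X.E := by
    rw [mem_maximalIdeal_E_iff, hεdef, proj_incl]
    exact zero_mem _
  -- Krull
  obtain ⟨n, hn⟩ : ∃ n : ℕ, ε ∉ maximalIdeal X.E ^ n := by
    by_contra hcon
    push Not at hcon
    have hbot := Ideal.iInf_pow_eq_bot_of_isLocalRing (maximalIdeal X.E)
      (maximalIdeal.isMaximal X.E).ne_top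
    have : ε ∈ (⨅ i, maximalIdeal X.E ^ i : Ideal X.E) := by
      rw [Ideal.mem_iInf]
      exact hcon
    rw [hbot, Ideal.mem_bot] at this
    exact hε0 this
  have hn0 : n ≠ 0 := by
    rintro rfl
    apply hn
    rw [pow_zero, Ideal.one_eq_top]
    trivial
  set Q : Ideal X.E := maximalIdeal X.E ^ n with hQ
  have hQle : Q ≤ maximalIdeal X.E := Ideal.pow_le_self hn0
  have hQtop : Q ≠ ⊤ := fun h => (maximalIdeal.isMaximal X.E).ne_top (top_le_iff.mp (h ▸ hQle))
  haveI : Nontrivial (X.E ⧸ Q) := Ideal.Quotient.nontrivial_iff.mpr hQtop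
  haveI : IsLocalRing (X.E ⧸ Q) :=
    IsLocalRing.of_surjective' (Ideal.Quotient.mk Q) Ideal.Quotient.mk_surjective
  have hmE : maximalIdeal (X.E ⧸ Q) ≤ (maximalIdeal X.E).map (Ideal.Quotient.mk Q) := by
    intro x hx
    obtain ⟨r, rfl⟩ := Ideal.Quotient.mk_surjective x
    apply Ideal.mem_map_of_mem
    rw [IsLocalRing.mem_maximalIdeal, mem_nonunits_iff] at hx ⊢
    exact fun hr => hx (hr.map _)
  haveI : IsArtinianRing (X.E ⧸ Q) := by
    rw [isArtinianRing_iff_isNilpotent_maximalIdeal]
    refine ⟨n, ?_⟩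
    rw [Ideal.zero_eq_bot, eq_bot_iff]
    refine (Ideal.pow_right_mono hmE n).trans ?_
    rw [← Ideal.map_pow, Ideal.map_le_iff_le_comap]
    intro r hr
    rw [Ideal.mem_comap, Ideal.mem_bot, Ideal.Quotient.eq_zero_iff_mem]
    exact hr
  -- residue condition on B
  have hBres : ∀ b : X.E ⧸ Q, ∃ c : k,
      b - algebraMap Λ (X.E ⧸ Q) (algebraMap k Λ c) ∈ maximalIdeal (X.E ⧸ Q) := by
    intro b
    obtain ⟨e, rfl⟩ := Ideal.Quotient.mk_surjective b
    obtain ⟨c, hc⟩ := hR (X.proj e)
    refine ⟨c, ?_⟩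
    have h1 : e - algebraMap Λ X.E (algebraMap k Λ c) ∈ maximalIdeal X.E := by
      rw [mem_maximalIdeal_E_iff, map_sub, AlgHom.commutes]
      exact hc
    have := map_mem_maximalIdeal_of_surjective (Ideal.Quotient.mk Q) Ideal.Quotient.mk_surjective _ h1
    rw [map_sub] at this
    exact this
  set t : X.E ⧸ Q := Ideal.Quotient.mk Q ε with ht
  have htm : t ∈ maximalIdeal (X.E ⧸ Q) :=
    map_mem_maximalIdeal_of_surjective (Ideal.Quotient.mk Q) Ideal.Quotient.mk_surjective _ hεm
  have hmt : ∀ b ∈ maximalIdeal (X.E ⧸ Q), b * t = 0 := by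
    intro b hbm
    obtain ⟨e, rfl⟩ := Ideal.Quotient.mk_surjective b
    have hem : e ∈ maximalIdeal X.E := by
      rw [IsLocalRing.mem_maximalIdeal, mem_nonunits_iff] at hbm ⊢
      exact fun h => hbm (h.map _)
    rw [ht, ← map_mul, mul_eps_eq_zero X e hem, map_zero]
  -- the test map
  let q : X.E →ₐ[Λ] (X.E ⧸ Q) ⧸ Ideal.span {t} :=
    (Ideal.Quotient.mkₐ Λ (Ideal.span {t})).comp (Ideal.Quotient.mkₐ Λ Q)
  have hq : RingHom.ker X.proj.toRingHom ≤ RingHom.ker q.toRingHom := by
    intro e he
    obtain ⟨e', rfl⟩ := exists_mul_eps X e he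
    rw [RingHom.mem_ker]
    change Ideal.Quotient.mk (Ideal.span {t}) (Ideal.Quotient.mk Q (e' * ε)) = 0
    rw [Ideal.Quotient.eq_zero_iff_mem, map_mul]
    exact Ideal.mul_mem_left _ _ (Ideal.subset_span rfl)
  let φ : R →ₐ[Λ] (X.E ⧸ Q) ⧸ Ideal.span {t} :=
    AlgHom.liftOfSurjective X.proj X.isExtension.proj_surjective q hq
  have hφ : ∀ e : X.E, φ (X.proj e) = q e :=
    fun e => AlgHom.liftOfSurjective_apply X.proj X.isExtension.proj_surjective q hq e
  obtain ⟨φ', hφ'⟩ := hb (X.E ⧸ Q) hBres t htm hmt φ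
  have hφ'r : ∀ r : R, Ideal.Quotient.mk (Ideal.span {t}) (φ' r) = φ r := fun r => by
    rw [← hφ']; rfl
  -- the embedding
  let ι : X.E →ₐ[Λ] R × (X.E ⧸ Q) := AlgHom.prod X.proj (Ideal.Quotient.mkₐ Λ Q)
  have hι : Function.Injective ι := by
    rw [injective_iff_map_eq_zero]
    intro e he
    have h1 : X.proj e = 0 := congrArg Prod.fst he
    have h2 : Ideal.Quotient.mk Q e = 0 := congrArg Prod.snd he
    rw [Ideal.Quotient.eq_zero_iff_mem] at h2
    obtain ⟨e', rfl⟩ := exists_mul_eps X e h1
    by_cases hu : IsUnit e'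
    · exfalso
      apply hn
      have : ε = ↑(hu.unit⁻¹) * (e' * ε) := by
        rw [← mul_assoc, IsUnit.val_inv_mul, one_mul]
      rw [this]
      exact Ideal.mul_mem_left _ _ h2
    · exact mul_eps_eq_zero X e' hu
  let g : R →ₐ[Λ] R × (X.E ⧸ Q) := AlgHom.prod (AlgHom.id Λ R) φ'
  have hg : ∀ r : R, g r ∈ ι.range := by
    intro r
    obtain ⟨e₀, rfl⟩ := X.isExtension.proj_surjective r
    have h1 : Ideal.Quotient.mk (Ideal.span {t}) (φ' (X.proj e₀) - Ideal.Quotient.mk Q e₀) = 0 := by
      rw [map_sub, hφ'r, hφ, sub_eq_zero]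
      rfl
    rw [Ideal.Quotient.eq_zero_iff_mem, Ideal.mem_span_singleton'] at h1
    obtain ⟨b, hb'⟩ := h1
    obtain ⟨e'', rfl⟩ := Ideal.Quotient.mk_surjective b
    refine ⟨e₀ + e'' * ε, ?_⟩
    refine Prod.ext ?_ ?_
    · change X.proj (e₀ + e'' * ε) = X.proj e₀
      rw [map_add, map_mul, hεdef, proj_incl, mul_zero, add_zero]
    · change Ideal.Quotient.mk Q (e₀ + e'' * ε) = φ' (X.proj e₀)
      rw [map_add, map_mul, ← ht, hb']
      ring
  let e := AlgEquiv.ofInjective ι hι
  refine ⟨e.symm.toAlgHom.comp (g.codRestrict ι.range hg), ?_⟩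
  intro r
  have h1 : ι (e.symm (g.codRestrict ι.range hg r)) = g r := by
    have := e.apply_symm_apply (g.codRestrict ι.range hg r)
    exact congrArg Subtype.val this
  exact congrArg Prod.fst h1

end BtoA


section AtoB

variable {Λ : Type u} [CommRing Λ] {R : Type u} [CommRing R] [Algebra Λ R] [IsLocalRing R]
  {B : Type u} [CommRing B] [Algebra Λ B]

theorem key_mul (t : B) (htt : t * t = 0) (b b' : B)
    (h : Ideal.Quotient.mk (Ideal.span {t}) b = Ideal.Quotient.mk (Ideal.span {t}) b') :
    b * t = b' * t := by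
  rw [Ideal.Quotient.eq, Ideal.mem_span_singleton'] at h
  obtain ⟨c, hc⟩ := h
  have : (b - b') * t = 0 := by
    rw [← hc, mul_assoc, htt, mul_zero]
  rw [sub_mul, sub_eq_zero] at this
  exact this

theorem lift_of_trivial
    (htriv : ∀ X : Exal.Ext Λ R (ResidueField R), X.IsTrivial)
    (t : B) (htt : t * t = 0)
    (φ : R →ₐ[Λ] B ⧸ Ideal.span {t})
    (h0 : ∀ r ∈ maximalIdeal R, ∀ b : B, Ideal.Quotient.mk (Ideal.span {t}) b = φ r → b * t = 0)
    (h1 : ∀ r : R, r ∉ maximalIdeal R →
      ∀ b : B, Ideal.Quotient.mk (Ideal.span {t}) b = φ r → b * t ≠ 0)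
    (hres : ∀ b : B, ∃ r : R,
      ∀ b' : B, Ideal.Quotient.mk (Ideal.span {t}) b' = φ r → b * t = b' * t) :
    ∃ φ' : R →ₐ[Λ] B, (Ideal.Quotient.mkₐ Λ (Ideal.span {t})).comp φ' = φ := by
  classical
  let π : B →ₐ[Λ] B ⧸ Ideal.span {t} := Ideal.Quotient.mkₐ Λ (Ideal.span {t})
  have hπ : Function.Surjective π := Ideal.Quotient.mk_surjective
  let E := AlgHom.pullback φ π
  let bl : R → B := fun r => (hπ (φ r)).choose
  have hbl : ∀ r, Ideal.Quotient.mk (Ideal.span {t}) (bl r) = φ r := fun r => (hπ (φ r)).choose_spec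
  have hmem : ∀ b : B, ((0 : R), b * t) ∈ E := by
    intro b
    change φ 0 = Ideal.Quotient.mk (Ideal.span {t}) (b * t)
    rw [map_zero, eq_comm, Ideal.Quotient.eq_zero_iff_mem]
    exact Ideal.mul_mem_left _ _ (Ideal.subset_span rfl)
  let j : R →+ E :=
    { toFun := fun r => ⟨(0, bl r * t), hmem _⟩
      map_zero' := by
        apply Subtype.ext
        refine Prod.ext rfl ?_
        change bl 0 * t = 0
        rw [key_mul t htt (bl 0) 0 (by rw [hbl, map_zero, map_zero]), zero_mul]
      map_add' := fun r r' => by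
        apply Subtype.ext
        refine Prod.ext (add_zero 0).symm ?_
        change bl (r + r') * t = bl r * t + bl r' * t
        rw [← add_mul]
        exact key_mul t htt _ _ (by rw [hbl, map_add, map_add, hbl, hbl]) }
  have hj : ∀ r, (j r : R × B) = (0, bl r * t) := fun r => rfl
  have hjker : ∀ r ∈ (maximalIdeal R).toAddSubgroup, j r = 0 := by
    intro r hr
    apply Subtype.ext
    refine Prod.ext rfl ?_
    change bl r * t = 0
    exact h0 r hr _ (hbl r)
  let incl : ResidueField R →+ E :=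
    QuotientAddGroup.lift (maximalIdeal R).toAddSubgroup j hjker
  have hincl : ∀ r : R, incl (residue R r) = j r := fun r => rfl
  let X : Exal.Ext Λ R (ResidueField R) :=
    { E := E
      proj := AlgHom.pullbackFst φ π
      incl := incl
      isExtension :=
        { proj_surjective := AlgHom.surjective_pullbackFst_of_surjective φ π hπ
          incl_injective := by
            rw [injective_iff_map_eq_zero]
            intro z hz
            obtain ⟨r, rfl⟩ := residue_surjective z
            rw [hincl] at hz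
            by_contra hne
            have hr : r ∉ maximalIdeal R := fun h => hne ((residue_eq_zero_iff r).2 h)
            apply h1 r hr (bl r) (hbl r)
            have := congrArg (fun x : E => (x : R × B).2) hz
            exact this
          exact := by
            intro x
            constructor
            · intro hx
              obtain ⟨⟨r, b⟩, hxm⟩ := x
              change r = 0 at hx
              subst hx
              have hb : Ideal.Quotient.mk (Ideal.span {t}) b = 0 := by
                have : φ 0 = Ideal.Quotient.mk (Ideal.span {t}) b := hxm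
                rw [← this, map_zero]
              rw [Ideal.Quotient.eq_zero_iff_mem, Ideal.mem_span_singleton'] at hb
              obtain ⟨c, rfl⟩ := hb
              obtain ⟨r, hr⟩ := hres c
              refine ⟨residue R r, ?_⟩
              rw [hincl]
              apply Subtype.ext
              refine Prod.ext rfl ?_
              change bl r * t = c * t
              exact (hr _ (hbl r)).symm
            · rintro ⟨z, rfl⟩
              obtain ⟨r, rfl⟩ := residue_surjective z
              rw [hincl]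
              rfl
          mul_incl := by
            intro x z
            obtain ⟨r', rfl⟩ := residue_surjective z
            obtain ⟨⟨r, b⟩, hxm⟩ := x
            have hsmul : (AlgHom.pullbackFst φ π ⟨(r, b), hxm⟩) • residue R r' = residue R (r * r') := by
              rw [Algebra.smul_def, map_mul]
              rfl
            rw [hsmul, hincl, hincl]
            apply Subtype.ext
            refine Prod.ext ?_ ?_
            · change r * 0 = 0
              exact mul_zero r
            · change b * (bl r' * t) = bl (r * r') * t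
              rw [← mul_assoc]
              refine key_mul t htt _ _ ?_
              have : φ r = Ideal.Quotient.mk (Ideal.span {t}) b := hxm
              rw [map_mul, hbl, hbl, map_mul, this] } }
  obtain ⟨s, hs⟩ := htriv X
  refine ⟨(AlgHom.pullbackSnd φ π).comp s, ?_⟩
  ext r
  have h2 : φ (AlgHom.pullbackFst φ π (s r)) = π (AlgHom.pullbackSnd φ π (s r)) :=
    (s r).2
  have h3 : AlgHom.pullbackFst φ π (s r) = r := hs r
  rw [h3] at h2
  exact h2.symm

end AtoB


section Main

variable {k : Type u} [Field k] {Λ : Type u} [CommRing Λ] [Algebra k Λ]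
  {R : Type u} [CommRing R] [Algebra Λ R] [IsLocalRing R]

theorem lift_small
    (htriv : ∀ X : Exal.Ext Λ R (ResidueField R), X.IsTrivial)
    (B : Type u) [CommRing B] [Algebra Λ B] [IsLocalRing B]
    (hB : ∀ b : B, ∃ c : k, b - algebraMap Λ B (algebraMap k Λ c) ∈ maximalIdeal B)
    (t : B) (ht : t ∈ maximalIdeal B) (hmt : ∀ b ∈ maximalIdeal B, b * t = 0)
    (φ : R →ₐ[Λ] B ⧸ Ideal.span {t}) :
    ∃ φ' : R →ₐ[Λ] B, (Ideal.Quotient.mkₐ Λ (Ideal.span {t})).comp φ' = φ := by
  by_cases ht0 : t = 0
  · -- the quotient map is bijective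
    have hinj : Function.Injective (Ideal.Quotient.mkₐ Λ (Ideal.span {t})) := by
      rw [injective_iff_map_eq_zero]
      intro b hb
      have : Ideal.Quotient.mk (Ideal.span {t}) b = 0 := hb
      rw [Ideal.Quotient.eq_zero_iff_mem, ht0, Ideal.mem_span_singleton'] at this
      obtain ⟨c, rfl⟩ := this
      exact mul_zero c
    let e : B ≃ₐ[Λ] B ⧸ Ideal.span {t} :=
      AlgEquiv.ofBijective (Ideal.Quotient.mkₐ Λ (Ideal.span {t}))
        ⟨hinj, Ideal.Quotient.mk_surjective⟩
    refine ⟨e.symm.toAlgHom.comp φ, ?_⟩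
    ext r
    exact e.apply_symm_apply (φ r)
  · have htt : t * t = 0 := hmt t ht
    have hspan : Ideal.span {t} ≤ maximalIdeal B := by
      rw [Ideal.span_singleton_le_iff_mem]; exact ht
    -- a lift of a unit is a unit
    have hunit : ∀ b : B, IsUnit (Ideal.Quotient.mk (Ideal.span {t}) b) → IsUnit b := by
      intro b hb
      by_contra hnb
      obtain ⟨c, hc⟩ := hb.exists_right_inv
      obtain ⟨c, rfl⟩ := Ideal.Quotient.mk_surjective c
      rw [← map_mul, ← map_one (Ideal.Quotient.mk (Ideal.span {t})), Ideal.Quotient.eq] at hc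
      have h1 : b * c - 1 ∈ maximalIdeal B := hspan hc
      have h2 : b * c ∈ maximalIdeal B := Ideal.mul_mem_right _ _ hnb
      have h3 : (1 : B) ∈ maximalIdeal B := by
        have := Ideal.sub_mem _ h2 h1
        rwa [sub_sub_cancel] at this
      exact (maximalIdeal.isMaximal B).ne_top ((Ideal.eq_top_iff_one _).2 h3)
    -- φ is local
    have hloc : ∀ r ∈ maximalIdeal R, ∀ b : B,
        Ideal.Quotient.mk (Ideal.span {t}) b = φ r → b ∈ maximalIdeal B := by
      intro r hr b hb
      by_contra hbu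
      rw [IsLocalRing.mem_maximalIdeal, mem_nonunits_iff, not_not] at hbu
      obtain ⟨c, hc⟩ := hB b
      have hc0 : c ≠ 0 := by
        rintro rfl
        rw [map_zero, map_zero, sub_zero] at hc
        exact hc hbu
      have hcu : IsUnit (algebraMap Λ R (algebraMap k Λ c)) :=
        ((isUnit_iff_ne_zero.mpr hc0).map (algebraMap k Λ)).map (algebraMap Λ R)
      have hru : IsUnit (r - algebraMap Λ R (algebraMap k Λ c)) := by
        by_contra hnu
        have h1 : r - algebraMap Λ R (algebraMap k Λ c) ∈ maximalIdeal R := hnu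
        have h2 := Ideal.sub_mem _ hr h1
        rw [sub_sub_cancel] at h2
        exact h2 hcu
      have hφu := hru.map φ
      rw [map_sub, AlgHom.commutes, ← hb] at hφu
      have : algebraMap Λ (B ⧸ Ideal.span {t}) (algebraMap k Λ c) =
          Ideal.Quotient.mk (Ideal.span {t}) (algebraMap Λ B (algebraMap k Λ c)) := rfl
      rw [this, ← map_sub] at hφu
      exact hc (hunit _ hφu)
    refine lift_of_trivial htriv t htt φ ?_ ?_ ?_
    · intro r hr b hb
      exact hmt b (hloc r hr b hb)
    · intro r hr b hb hbt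
      have hru : IsUnit r := by
        by_contra h; exact hr h
      have hbu : IsUnit b := hunit b (hb ▸ hru.map φ)
      apply ht0
      have : t = ↑(hbu.unit⁻¹) * (b * t) := by
        rw [← mul_assoc, IsUnit.val_inv_mul, one_mul]
      rw [this, hbt, mul_zero]
    · intro b
      obtain ⟨c, hc⟩ := hB b
      refine ⟨algebraMap Λ R (algebraMap k Λ c), ?_⟩
      intro b' hb'
      rw [AlgHom.commutes] at hb'
      have h1 : b' * t = algebraMap Λ B (algebraMap k Λ c) * t :=
        key_mul t htt _ _ hb'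
      have h2 := hmt _ hc
      rw [sub_mul, sub_eq_zero] at h2
      rw [h1, h2]

theorem main [IsNoetherianRing R]
    (hR : ∀ r : R, ∃ c : k, r - algebraMap Λ R (algebraMap k Λ c) ∈ maximalIdeal R) :
    (∀ X : Exal.Ext Λ R (IsLocalRing.ResidueField R), X.IsTrivial) ↔
    (∀ (B : Type u) [CommRing B] [Algebra Λ B] [IsLocalRing B] [IsArtinianRing B],
      (∀ b : B, ∃ c : k, b - algebraMap Λ B (algebraMap k Λ c) ∈ IsLocalRing.maximalIdeal B) →
      ∀ t : B, t ∈ IsLocalRing.maximalIdeal B → (∀ b ∈ IsLocalRing.maximalIdeal B, b * t = 0) →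
      ∀ φ : R →ₐ[Λ] B ⧸ Ideal.span {t},
        ∃ φ' : R →ₐ[Λ] B, (Ideal.Quotient.mkₐ Λ (Ideal.span {t})).comp φ' = φ) := by
  constructor
  · intro htriv B _ _ _ _ hB t ht hmt φ
    exact lift_small htriv B hB t ht hmt φ
  · intro hb X
    exact trivial_of_lift hR hb X

end Main

end Groth.Agent.Helper2.SmallExt
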