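import Mathlib
import Groth.Prelude.Def_Exal
import Groth.Agent.Helper2.SmallExt
import Groth.Agent.Helper2.ArtinReg

namespace Groth.Agent.Helper2.ArtTower
open IsLocalRing PowerSeries Groth.Agent.Helper2.ArtPrin

universe u

section Tower
variable (k : Type u) [Field k]

/-- truncated power series ring -/
abbrev T (j : ℕ) : Type u := k⟦X⟧ ⧸ (Ideal.span {(X : k⟦X⟧) ^ j})

theorem not_isUnit_X_pow {j : ℕ} (hj : j ≠ 0) : ¬ IsUnit ((X : k⟦X⟧) ^ j) := by
  rw [isUnit_pow_iff hj]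
  intro h
  have := (PowerSeries.isUnit_iff_constantCoeff).1 h
  simp at this

theorem span_ne_top {j : ℕ} (hj : j ≠ 0) : Ideal.span {(X : k⟦X⟧) ^ j} ≠ ⊤ := by
  rw [Ne, Ideal.span_singleton_eq_top]
  exact not_isUnit_X_pow k hj

theorem nontrivial_T {j : ℕ} (hj : j ≠ 0) : Nontrivial (T k j) :=
  Ideal.Quotient.nontrivial_iff.mpr (span_ne_top k hj)

theorem isLocalRing_T {j : ℕ} (hj : j ≠ 0) : IsLocalRing (T k j) := by
  haveI := nontrivial_T k hj
  exact IsLocalRing.of_surjective' (Ideal.Quotient.mk _) Ideal.Quotient.mk_surjective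

theorem mk_mem_maximalIdeal {j : ℕ} [IsLocalRing (T k j)] (p : k⟦X⟧) (hp : p ∈ maximalIdeal k⟦X⟧) :
    (Ideal.Quotient.mk (Ideal.span {(X : k⟦X⟧) ^ j}) p : T k j) ∈ maximalIdeal (T k j) :=
  map_mem_maximalIdeal_of_surjective (Ideal.Quotient.mk _) Ideal.Quotient.mk_surjective p hp

theorem res_T {j : ℕ} [IsLocalRing (T k j)] (b : T k j) :
    ∃ c : k, b - algebraMap k (T k j) c ∈ maximalIdeal (T k j) := by
  obtain ⟨p, rfl⟩ := Ideal.Quotient.mk_surjective b
  refine ⟨constantCoeff p, ?_⟩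
  have h1 : p - C (constantCoeff p) ∈ maximalIdeal k⟦X⟧ := by
    rw [maximalIdeal_eq_span_X, Ideal.mem_span_singleton, X_dvd_iff]
    simp
  have := mk_mem_maximalIdeal k (j := j) _ h1
  rw [map_sub] at this
  exact this

end Tower


section Lift
variable (k : Type u) [Field k]

/-- small-extension lifting property (test rings local with residue field `k`). -/
def SmallLift (A : Type u) [CommRing A] [Algebra k A] : Prop :=
  ∀ (B : Type u) [CommRing B] [Algebra k B] [IsLocalRing B],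
    (∀ b : B, ∃ c : k, b - algebraMap k B c ∈ maximalIdeal B) →
    ∀ t : B, t ∈ maximalIdeal B → (∀ b ∈ maximalIdeal B, b * t = 0) →
    ∀ φ : A →ₐ[k] B ⧸ Ideal.span {t},
      ∃ φ' : A →ₐ[k] B, (Ideal.Quotient.mkₐ k (Ideal.span {t})).comp φ' = φ

variable {k}

theorem SmallLift.lift_prin {A : Type u} [CommRing A] [Algebra k A] (h : SmallLift k A)
    {B B' : Type u} [CommRing B] [Algebra k B] [IsLocalRing B] [CommRing B'] [Algebra k B']
    (hB : ∀ b : B, ∃ c : k, b - algebraMap k B c ∈ maximalIdeal B)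
    (π : B →ₐ[k] B') (hπ : Function.Surjective π) (t : B) (ht : t ∈ maximalIdeal B)
    (hmt : ∀ b ∈ maximalIdeal B, b * t = 0) (hker : RingHom.ker π.toRingHom = Ideal.span {t})
    (φ : A →ₐ[k] B') : ∃ χ : A →ₐ[k] B, π.comp χ = φ := by
  let e : (B ⧸ Ideal.span {t}) ≃ₐ[k] B' :=
    (Ideal.quotientEquivAlgOfEq k hker.symm).trans (Ideal.quotientKerAlgEquivOfSurjective hπ)
  have he : ∀ b : B, e (Ideal.Quotient.mk _ b) = π b := fun b => rfl
  obtain ⟨χ, hχ⟩ := h B hB t ht hmt (e.symm.toAlgHom.comp φ)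
  refine ⟨χ, ?_⟩
  ext a
  have h1 := AlgHom.congr_fun hχ a
  change Ideal.Quotient.mk _ (χ a) = e.symm (φ a) at h1
  change π (χ a) = φ a
  rw [← he, h1, AlgEquiv.apply_symm_apply]

end Lift

section Tower2
variable (k : Type u) [Field k]

/-- the transition maps of the tower -/
noncomputable def proj (j : ℕ) : T k (j + 1) →ₐ[k] T k j :=
  Ideal.Quotient.factorₐ k (by
    rw [Ideal.span_singleton_le_span_singleton, pow_succ]
    exact Dvd.intro _ rfl)

theorem proj_mk (j : ℕ) (p : k⟦X⟧) :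
    proj k j (Ideal.Quotient.mk _ p) = Ideal.Quotient.mk _ p := rfl

theorem proj_surjective (j : ℕ) : Function.Surjective (proj k j) := by
  intro b
  obtain ⟨p, rfl⟩ := Ideal.Quotient.mk_surjective b
  exact ⟨Ideal.Quotient.mk _ p, rfl⟩

theorem ker_proj (j : ℕ) : RingHom.ker (proj k j).toRingHom =
    Ideal.span {(Ideal.Quotient.mk (Ideal.span {(X : k⟦X⟧) ^ (j + 1)}) (X ^ j) : T k (j + 1))} := by
  apply le_antisymm
  · intro b hb
    obtain ⟨p, rfl⟩ := Ideal.Quotient.mk_surjective b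
    rw [RingHom.mem_ker] at hb
    change proj k j (Ideal.Quotient.mk _ p) = 0 at hb
    rw [proj_mk, Ideal.Quotient.eq_zero_iff_mem, Ideal.mem_span_singleton'] at hb
    obtain ⟨r, rfl⟩ := hb
    rw [map_mul]
    exact Ideal.mul_mem_left _ _ (Ideal.subset_span rfl)
  · rw [Ideal.span_singleton_le_iff_mem, RingHom.mem_ker]
    change proj k j (Ideal.Quotient.mk _ (X ^ j)) = 0
    rw [proj_mk, Ideal.Quotient.eq_zero_iff_mem]
    exact Ideal.subset_span rfl

theorem t_mem {j : ℕ} (hj : j ≠ 0) [IsLocalRing (T k (j + 1))] :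
    (Ideal.Quotient.mk (Ideal.span {(X : k⟦X⟧) ^ (j + 1)}) (X ^ j) : T k (j + 1)) ∈
      maximalIdeal (T k (j + 1)) := by
  apply mk_mem_maximalIdeal
  rw [maximalIdeal_eq_span_X]
  obtain ⟨i, rfl⟩ := Nat.exists_eq_succ_of_ne_zero hj
  rw [pow_succ]
  exact Ideal.mul_mem_left _ _ (Ideal.subset_span rfl)

theorem mul_t (j : ℕ) [IsLocalRing (T k (j + 1))] (b : T k (j + 1))
    (hb : b ∈ maximalIdeal (T k (j + 1))) :
    b * (Ideal.Quotient.mk (Ideal.span {(X : k⟦X⟧) ^ (j + 1)}) (X ^ j) : T k (j + 1)) = 0 := by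
  obtain ⟨p, rfl⟩ := Ideal.Quotient.mk_surjective b
  have hp : p ∈ maximalIdeal k⟦X⟧ := by
    rw [IsLocalRing.mem_maximalIdeal, mem_nonunits_iff] at hb ⊢
    exact fun h => hb (h.map _)
  rw [maximalIdeal_eq_span_X, Ideal.mem_span_singleton'] at hp
  obtain ⟨r, rfl⟩ := hp
  rw [← map_mul, Ideal.Quotient.eq_zero_iff_mem, Ideal.mem_span_singleton']
  exact ⟨r, by ring⟩

end Tower2


section Char
variable {k : Type u} [Field k] {A : Type u} [CommRing A] [Algebra k A] [IsLocalRing A]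

theorem exists_char (hres : ∀ a : A, ∃ c : k, a - algebraMap k A c ∈ maximalIdeal A) :
    ∃ c : A →ₐ[k] k, ∀ a, a - algebraMap k A (c a) ∈ maximalIdeal A := by
  have hbij : Function.Bijective (Algebra.ofId k (ResidueField A)) := by
    refine ⟨(algebraMap k (ResidueField A)).injective, ?_⟩
    intro z
    obtain ⟨a, rfl⟩ := residue_surjective z
    obtain ⟨c, hc⟩ := hres a
    refine ⟨c, ?_⟩
    rw [← residue_eq_zero_iff, map_sub, sub_eq_zero] at hc
    rw [hc]
    rfl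
  let e : k ≃ₐ[k] ResidueField A := AlgEquiv.ofBijective _ hbij
  refine ⟨e.symm.toAlgHom.comp (IsScalarTower.toAlgHom k A (ResidueField A)), ?_⟩
  intro a
  rw [← residue_eq_zero_iff, map_sub, sub_eq_zero]
  change residue A a = algebraMap A (ResidueField A) (algebraMap k A (e.symm (residue A a)))
  rw [← IsScalarTower.algebraMap_apply k A (ResidueField A)]
  exact (e.apply_symm_apply (residue A a)).symm

theorem char_eq_zero (c : A →ₐ[k] k) (hc : ∀ a, a - algebraMap k A (c a) ∈ maximalIdeal A)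
    (a : A) (ha : a ∈ maximalIdeal A) : c a = 0 := by
  by_contra hne
  have h1 : algebraMap k A (c a) ∈ maximalIdeal A := by
    have := Ideal.sub_mem _ ha (hc a)
    rwa [sub_sub_cancel] at this
  exact h1 ((isUnit_iff_ne_zero.mpr hne).map (algebraMap k A))

theorem exists_functional [IsArtinianRing A]
    (c : A →ₐ[k] k) (hc : ∀ a, a - algebraMap k A (c a) ∈ maximalIdeal A)
    (hA : maximalIdeal A ≠ ⊥) :
    ∃ (x₀ : A) (f : A →ₗ[k] k), x₀ ∈ maximalIdeal A ∧ f x₀ = 1 ∧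
      ∀ a b, f (a * b) = c a * f b + c b * f a := by
  -- an element of m not in m²
  obtain ⟨N, hN⟩ : ∃ N : ℕ, maximalIdeal A ^ N = ⊥ := by
    obtain ⟨N, hN⟩ := Groth.Agent.Helper2.ArtinReg.isNilpotent_maximalIdeal A
    exact ⟨N, hN⟩
  have hnle : ¬ maximalIdeal A ≤ maximalIdeal A ^ 2 := by
    intro hle
    have heq : ∀ j : ℕ, maximalIdeal A ≤ maximalIdeal A ^ (j + 1) := by
      intro j
      induction j with
      | zero => simp
      | succ j ih =>
        calc maximalIdeal A ≤ maximalIdeal A ^ 2 := hle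
          _ = maximalIdeal A * maximalIdeal A := pow_two _
          _ ≤ maximalIdeal A ^ (j + 1) * maximalIdeal A := Ideal.mul_mono_left ih
          _ = maximalIdeal A ^ (j + 1 + 1) := (pow_succ _ _).symm
    apply hA
    rw [eq_bot_iff]
    refine (heq N).trans ?_
    rw [pow_succ, hN, Ideal.bot_mul]
  obtain ⟨x₀, hx₀m, hx₀⟩ := SetLike.not_le_iff_exists.mp hnle
  let W : Submodule k A := Submodule.span k {(1 : A)} ⊔ (maximalIdeal A ^ 2).restrictScalars k
  have hxW : x₀ ∉ W := by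
    intro hmem
    obtain ⟨y, hy, z, hz, hyz⟩ := Submodule.mem_sup.mp hmem
    obtain ⟨r, rfl⟩ := Submodule.mem_span_singleton.mp hy
    have hz' : z ∈ maximalIdeal A ^ 2 := hz
    have hzm : z ∈ maximalIdeal A := Ideal.pow_le_self (by norm_num) hz'
    have hr : r = 0 := by
      by_contra hne
      have h1 : algebraMap k A r ∈ maximalIdeal A := by
        have : algebraMap k A r = x₀ - z := by
          rw [← hyz, Algebra.algebraMap_eq_smul_one]; ring
        rw [this]
        exact Ideal.sub_mem _ hx₀m hzm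
      exact h1 ((isUnit_iff_ne_zero.mpr hne).map (algebraMap k A))
    rw [hr, zero_smul, zero_add] at hyz
    exact hx₀ (hyz ▸ hz')
  obtain ⟨f₀, hf₀, hf₀W⟩ := Submodule.exists_dual_map_eq_bot_of_notMem hxW inferInstance
  have hW0 : ∀ w ∈ W, f₀ w = 0 := by
    intro w hw
    have : f₀ w ∈ W.map f₀ := Submodule.mem_map_of_mem hw
    rw [hf₀W] at this
    exact this
  let f : A →ₗ[k] k := (f₀ x₀)⁻¹ • f₀
  have hf : ∀ a, f a = (f₀ x₀)⁻¹ * f₀ a := fun a => rfl
  have hf1 : f 1 = 0 := by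
    rw [hf, hW0 1 (Submodule.mem_sup_left (Submodule.mem_span_singleton_self 1)), mul_zero]
  have hfm2 : ∀ u ∈ maximalIdeal A, ∀ u' ∈ maximalIdeal A, f (u * u') = 0 := by
    intro u hu u' hu'
    have hmem : u * u' ∈ W := by
      refine Submodule.mem_sup_right ?_
      change u * u' ∈ maximalIdeal A ^ 2
      rw [pow_two]
      exact Ideal.mul_mem_mul hu hu'
    rw [hf, hW0 _ hmem, mul_zero]
  have hfalg : ∀ r : k, f (algebraMap k A r) = 0 := by
    intro r
    rw [Algebra.algebraMap_eq_smul_one, map_smul, hf1, smul_zero]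
  refine ⟨x₀, f, hx₀m, ?_, ?_⟩
  · rw [hf, inv_mul_cancel₀ hf₀]
  · intro a b
    set u := a - algebraMap k A (c a) with hu
    set u' := b - algebraMap k A (c b) with hu'
    have hfu : f u = f a := by rw [hu, map_sub, hfalg, sub_zero]
    have hfu' : f u' = f b := by rw [hu', map_sub, hfalg, sub_zero]
    have hab : a * b = algebraMap k A (c a * c b) + (c a) • u' + (c b) • u + u * u' := by
      rw [hu, hu', Algebra.smul_def, Algebra.smul_def, map_mul]
      ring
    rw [hab, map_add, map_add, map_add, hfalg, map_smul, map_smul, hfm2 u (hc a) u' (hc b),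
      hfu, hfu', smul_eq_mul, smul_eq_mul]
    ring

end Char


section Main
variable {k : Type u} [Field k] {A : Type u} [CommRing A] [Algebra k A]

/-- the tangent vector as an algebra map to `k[[X]]/(X^2)`. -/
theorem exists_gamma_two (c : A →ₐ[k] k) (f : A →ₗ[k] k)
    (hf : ∀ a b, f (a * b) = c a * f b + c b * f a) (x₀ : A) (hc0 : c x₀ = 0) (hf0 : f x₀ = 1) :
    ∃ γ : A →ₐ[k] T k 2, ∃ q : k⟦X⟧, γ x₀ = Ideal.Quotient.mk _ (X + X ^ 2 * q) := by
  have hf1 : f 1 = 0 := by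
    have := hf 1 1
    rw [mul_one, (map_one c : c 1 = 1), one_mul] at this
    linear_combination (-1 : k) * this
  let ℓ : A →ₗ[k] k⟦X⟧ := c.toLinearMap.smulRight (1 : k⟦X⟧) + f.smulRight (X : k⟦X⟧)
  have hℓ : ∀ a, ℓ a = C (c a) + C (f a) * X := by
    intro a
    change c a • (1 : k⟦X⟧) + f a • (X : k⟦X⟧) = _
    rw [smul_eq_C_mul, smul_eq_C_mul, mul_one]
  let L : A →ₗ[k] T k 2 := (Ideal.Quotient.mkₐ k (Ideal.span {(X : k⟦X⟧) ^ 2})).toLinearMap ∘ₗ ℓ
  have hL : ∀ a, L a = Ideal.Quotient.mk _ (C (c a) + C (f a) * X) := by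
    intro a
    change Ideal.Quotient.mk _ (ℓ a) = _
    rw [hℓ]
  have hone : L 1 = 1 := by
    rw [hL, map_one, hf1, map_one, map_zero, zero_mul, add_zero, map_one]
  have hmul : ∀ a b, L (a * b) = L a * L b := by
    intro a b
    rw [hL, hL, hL, ← map_mul, Ideal.Quotient.eq, Ideal.mem_span_singleton']
    refine ⟨-(C (f a) * C (f b)), ?_⟩
    rw [map_mul, hf, map_add, map_mul, map_mul, map_mul]
    ring
  refine ⟨AlgHom.ofLinearMap L hone hmul, 0, ?_⟩
  change L x₀ = _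
  rw [hL, hc0, hf0, map_zero, map_one, zero_add, one_mul, mul_zero, add_zero]

theorem exists_gamma (h : SmallLift k A) (x₀ : A)
    (h2 : ∃ γ : A →ₐ[k] T k 2, ∃ q : k⟦X⟧, γ x₀ = Ideal.Quotient.mk _ (X + X ^ 2 * q)) :
    ∀ i : ℕ, ∃ γ : A →ₐ[k] T k (i + 2), ∃ q : k⟦X⟧,
      γ x₀ = Ideal.Quotient.mk _ (X + X ^ 2 * q) := by
  intro i
  induction i with
  | zero => exact h2
  | succ i ih =>
    obtain ⟨γ, q, hγ⟩ := ih
    haveI : IsLocalRing (T k (i + 2 + 1)) := isLocalRing_T k (by omega)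
    obtain ⟨γ', hγ'⟩ := h.lift_prin (B := T k (i + 2 + 1)) (B' := T k (i + 2))
      (res_T k) (proj k (i + 2)) (proj_surjective k (i + 2)) _ (t_mem k (by omega))
      (mul_t k (i + 2)) (ker_proj k (i + 2)) γ
    obtain ⟨p', hp'⟩ := Ideal.Quotient.mk_surjective (γ' x₀)
    have h1 : proj k (i + 2) (γ' x₀) = γ x₀ := AlgHom.congr_fun hγ' x₀
    rw [← hp', proj_mk, hγ, Ideal.Quotient.eq, Ideal.mem_span_singleton'] at h1
    obtain ⟨r, hr⟩ := h1
    refine ⟨γ', q + X ^ i * r, ?_⟩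
    rw [← hp']
    congr 1
    have : p' = X + X ^ 2 * q + r * X ^ (i + 2) := by rw [hr]; ring
    rw [this]
    ring

theorem not_smallLift [IsLocalRing A] [IsArtinianRing A]
    (hres : ∀ a : A, ∃ c : k, a - algebraMap k A c ∈ maximalIdeal A)
    (hA : maximalIdeal A ≠ ⊥) : ¬ SmallLift k A := by
  intro h
  obtain ⟨c, hc⟩ := exists_char hres
  obtain ⟨x₀, f, hx₀, hf0, hf⟩ := exists_functional c hc hA
  have hc0 : c x₀ = 0 := char_eq_zero c hc x₀ hx₀
  obtain ⟨N, hN⟩ : ∃ N : ℕ, maximalIdeal A ^ N = ⊥ := by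
    obtain ⟨N, hN⟩ := Groth.Agent.Helper2.ArtinReg.isNilpotent_maximalIdeal A
    exact ⟨N, hN⟩
  have hxN : x₀ ^ (N + 1) = 0 := by
    have : x₀ ^ (N + 1) ∈ maximalIdeal A ^ (N + 1) := Ideal.pow_mem_pow hx₀ _
    rw [pow_succ, hN, Ideal.bot_mul] at this
    exact this
  obtain ⟨γ, q, hγ⟩ := exists_gamma h x₀ (exists_gamma_two c f hf x₀ hc0 hf0) N
  have h1 : γ (x₀ ^ (N + 1)) = 0 := by rw [hxN, map_zero]
  rw [map_pow, hγ, ← map_pow, Ideal.Quotient.eq_zero_iff_mem, Ideal.mem_span_singleton'] at h1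
  obtain ⟨r, hr⟩ := h1
  have h2 : (X : k⟦X⟧) ^ (N + 1) * (X * r) = X ^ (N + 1) * (1 + X * q) ^ (N + 1) := by
    have : (X + X ^ 2 * q : k⟦X⟧) = X * (1 + X * q) := by ring
    rw [this, mul_pow] at hr
    rw [← hr]; ring
  have h3 := mul_left_cancel₀ (pow_ne_zero (N + 1) (X_ne_zero (R := k))) h2
  have h4 := congrArg (constantCoeff (R := k)) h3
  simp at h4

end Main


section Final
variable {k : Type u} [Field k] {A : Type u} [CommRing A] [Algebra k A] [IsLocalRing A]

theorem smallLift_of_trivial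
    (htriv : ∀ X : Exal.Ext k A (ResidueField A), X.IsTrivial) : SmallLift k A := by
  intro B _ _ _ hB t ht hmt φ
  exact Groth.Agent.Helper2.SmallExt.lift_small (k := k) (Λ := k) (R := A) htriv B
    (fun b => hB b) t ht hmt φ

theorem exists_nontrivial_ext [IsArtinianRing A]
    (hres : ∀ a : A, ∃ c : k, a - algebraMap k A c ∈ maximalIdeal A)
    (hA : maximalIdeal A ≠ ⊥) :
    ∃ X : Exal.Ext k A (ResidueField A), ¬ X.IsTrivial := by
  by_contra hcon
  push Not at hcon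
  exact not_smallLift hres hA (smallLift_of_trivial hcon)

end Final

end Groth.Agent.Helper2.ArtTower
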