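import Mathlib
import Groth.Agent.Helper2.ArtinReg
import Groth.Agent.Helper2.FlatFibre2

set_option autoImplicit false
universe u v w

namespace Groth.Agent.Helper2.ArtinRegSeq

open RingTheory.Sequence Function IsLocalRing Pointwise
open Groth.Agent.Helper2.ArtinReg
open Groth.Agent.Helper2.FlatFibre2 (mk_mem_smul_top_iff)

section
variable {A : Type u} {B : Type v} [CommRing A] [CommRing B] [Algebra A B]
  {M : Type w} [AddCommGroup M] [Module B M] [Module A M] [IsScalarTower A B M]

/-- the submodule generated by the first `i` elements -/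
abbrev Nq (fs : List B) (i : ℕ) : Submodule B M := Ideal.ofList (fs.take i) • ⊤

lemma take_succ_smul_top (fs : List B) (i : ℕ) (hi : i < fs.length) :
    (Nq fs (i + 1) : Submodule B M) = Nq fs i ⊔ fs[i] • (⊤ : Submodule B M) := by
  unfold Nq
  rw [List.take_succ_eq_append_getElem hi, Ideal.ofList_append, Ideal.ofList_singleton,
    Submodule.sup_smul, Submodule.ideal_span_singleton_smul]

lemma exact_aux (fs : List B) (i : ℕ) (hi : i < fs.length) :
    Function.Exact
      (((LinearMap.lsmul B (M ⧸ (Nq fs i : Submodule B M))) fs[i]).restrictScalars A)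
      ((Submodule.factor (show (Nq fs i : Submodule B M) ≤ Nq fs (i + 1) by
          rw [take_succ_smul_top fs i hi]; exact le_sup_left)).restrictScalars A) := by
  intro x
  obtain ⟨x, rfl⟩ := Submodule.Quotient.mk_surjective _ x
  simp only [LinearMap.coe_restrictScalars, LinearMap.lsmul_apply, Set.mem_range]
  erw [Submodule.factor_mk]
  rw [Submodule.mkQ_apply, Submodule.Quotient.mk_eq_zero, take_succ_smul_top fs i hi,
    Submodule.mem_sup]
  constructor
  · rintro ⟨u, hu, w, hw, rfl⟩
    rw [Submodule.mem_smul_pointwise_iff_exists] at hw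
    obtain ⟨y, -, rfl⟩ := hw
    refine ⟨Submodule.Quotient.mk y, ?_⟩
    rw [← Submodule.Quotient.mk_smul, Submodule.Quotient.eq]
    simpa using hu
  · rintro ⟨y, hy⟩
    obtain ⟨y, rfl⟩ := Submodule.Quotient.mk_surjective _ y
    rw [← Submodule.Quotient.mk_smul, Submodule.Quotient.eq] at hy
    refine ⟨x - fs[i] • y, ?_, fs[i] • y, Submodule.smul_mem_pointwise_smul _ _ _ trivial, by abel⟩
    rw [← neg_sub]
    exact neg_mem hy

/-- elementwise condition: the `i`-th element is regular modulo `K` and the previous ones. -/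
def E (K : Submodule B M) (fs : List B) (i : ℕ) : Prop :=
  ∀ z : M, fs.getD i 0 • z ∈ K ⊔ Nq fs i → z ∈ K ⊔ Nq fs i

lemma isWeaklyRegular_quot_iff (K : Submodule B M) (fs : List B) :
    IsWeaklyRegular (M ⧸ K) fs ↔ ∀ i, i < fs.length → E K fs i := by
  rw [isWeaklyRegular_iff]
  refine forall_congr' fun i => ?_
  refine forall_congr' fun hi => ?_
  rw [isSMulRegular_quotient_iff_mem_of_smul_mem]
  unfold E
  rw [List.getD_eq_getElem _ _ hi]
  rw [K.mkQ_surjective.forall]
  refine forall_congr' fun z => ?_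
  rw [Submodule.mkQ_apply, ← Submodule.Quotient.mk_smul, mk_mem_smul_top_iff, mk_mem_smul_top_iff,
    sup_comm]

lemma isWeaklyRegular_iff_E_bot (fs : List B) :
    IsWeaklyRegular M fs ↔ ∀ i, i < fs.length → E (⊥ : Submodule B M) fs i := by
  rw [isWeaklyRegular_iff]
  refine forall_congr' fun i => ?_
  refine forall_congr' fun hi => ?_
  rw [isSMulRegular_quotient_iff_mem_of_smul_mem]
  unfold E
  rw [List.getD_eq_getElem _ _ hi, bot_sup_eq]

lemma injMod_iff (I : Ideal A) (Q : Submodule B M) (r : B) :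
    InjMod ((LinearMap.lsmul B (M ⧸ Q) r).restrictScalars A) I ↔
      ∀ z : M, r • z ∈ (I.map (algebraMap A B) • ⊤ : Submodule B M) ⊔ Q →
        z ∈ (I.map (algebraMap A B) • ⊤ : Submodule B M) ⊔ Q := by
  have hmem : ∀ x : M ⧸ Q, x ∈ (I • ⊤ : Submodule A (M ⧸ Q)) ↔
      x ∈ (I.map (algebraMap A B) • ⊤ : Submodule B (M ⧸ Q)) := by
    intro x
    have : (I • ⊤ : Submodule A (M ⧸ Q)) =
        (I.map (algebraMap A B) • (⊤ : Submodule B (M ⧸ Q))).restrictScalars A := by
      rw [Ideal.smul_restrictScalars, Submodule.restrictScalars_top]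
    rw [this, Submodule.restrictScalars_mem]
  unfold InjMod
  rw [Q.mkQ_surjective.forall]
  refine forall_congr' fun z => ?_
  rw [hmem, hmem, LinearMap.coe_restrictScalars, LinearMap.lsmul_apply, Submodule.mkQ_apply,
    ← Submodule.Quotient.mk_smul, mk_mem_smul_top_iff, mk_mem_smul_top_iff]

lemma injective_iff (Q : Submodule B M) (r : B) :
    Injective ((LinearMap.lsmul B (M ⧸ Q) r).restrictScalars A) ↔
      ∀ z : M, r • z ∈ Q → z ∈ Q :=
  isSMulRegular_quotient_iff_mem_of_smul_mem Q r

end

section ind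
variable {A : Type u} {B : Type v} [CommRing A] [CommRing B] [Algebra A B] [IsLocalRing A]
  {M : Type w} [AddCommGroup M] [Module B M] [Module A M] [IsScalarTower A B M]

theorem flat_and_iff (hnil : IsNilpotent (maximalIdeal A)) (I : Ideal A) (hI : I ≠ ⊤)
    [Module.Flat A M] (K : Submodule B M) (hK : K = I.map (algebraMap A B) • ⊤) (fs : List B) :
    ∀ i, i ≤ fs.length →
      ((∀ j, j < i → E (⊥ : Submodule B M) fs j) ↔ (∀ j, j < i → E K fs j)) ∧
      ((∀ j, j < i → E (⊥ : Submodule B M) fs j) → Module.Flat A (M ⧸ (Nq fs i : Submodule B M))) := by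
  intro i
  induction i with
  | zero =>
    intro _
    refine ⟨⟨fun _ j hj => absurd hj (Nat.not_lt_zero j), fun _ j hj => absurd hj (Nat.not_lt_zero j)⟩,
      fun _ => ?_⟩
    have h0 : (Nq fs 0 : Submodule B M) = ⊥ := by
      unfold Nq
      rw [List.take_zero, Ideal.ofList_nil, Submodule.bot_smul]
    exact Module.Flat.of_linearEquiv ((Submodule.quotEquivOfEqBot _ h0).restrictScalars A)
  | succ i ih =>
    intro hi
    have hi' : i < fs.length := hi
    obtain ⟨hiff, hflat⟩ := ih (Nat.le_of_succ_le hi)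
    -- the step, given flatness of `M_i`
    have step : Module.Flat A (M ⧸ (Nq fs i : Submodule B M)) →
        ((E (⊥ : Submodule B M) fs i ↔ E K fs i) ∧
          (E (⊥ : Submodule B M) fs i → Module.Flat A (M ⧸ (Nq fs (i + 1) : Submodule B M)))) := by
      intro hfl
      have hπ : Surjective ((Submodule.factor (show (Nq fs i : Submodule B M) ≤ Nq fs (i + 1) by
          rw [take_succ_smul_top fs i hi']; exact le_sup_left)).restrictScalars A) := by
        intro x
        obtain ⟨x, rfl⟩ := Submodule.Quotient.mk_surjective _ x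
        exact ⟨Submodule.Quotient.mk x, rfl⟩
      obtain ⟨h1, h2⟩ := main hnil
        (((LinearMap.lsmul B (M ⧸ (Nq fs i : Submodule B M))) fs[i]).restrictScalars A) I hI _ hπ
        (exact_aux (A := A) fs i hi')
      rw [injective_iff, injMod_iff] at h1
      rw [injective_iff] at h2
      have e1 : E (⊥ : Submodule B M) fs i ↔
          ∀ z : M, fs[i] • z ∈ (Nq fs i : Submodule B M) → z ∈ (Nq fs i : Submodule B M) := by
        unfold E
        rw [List.getD_eq_getElem _ _ hi', bot_sup_eq]
      have e2 : E K fs i ↔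
          ∀ z : M, fs[i] • z ∈ (I.map (algebraMap A B) • ⊤ : Submodule B M) ⊔ Nq fs i →
            z ∈ (I.map (algebraMap A B) • ⊤ : Submodule B M) ⊔ Nq fs i := by
        unfold E
        rw [List.getD_eq_getElem _ _ hi', hK]
      rw [e1, e2]
      exact ⟨h1, h2⟩
    have split : ∀ (p : ℕ → Prop), (∀ j, j < i + 1 → p j) ↔ ((∀ j, j < i → p j) ∧ p i) := by
      intro p
      constructor
      · intro h
        exact ⟨fun j hj => h j (Nat.lt_succ_of_lt hj), h i (Nat.lt_succ_self i)⟩
      · rintro ⟨h1, h2⟩ j hj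
        rcases Nat.lt_succ_iff_lt_or_eq.1 hj with h | rfl
        · exact h1 j h
        · exact h2
    rw [split, split]
    refine ⟨⟨?_, ?_⟩, ?_⟩
    · rintro ⟨h1, h2⟩
      exact ⟨hiff.1 h1, (step (hflat h1)).1.1 h2⟩
    · rintro ⟨h1, h2⟩
      have h1' := hiff.2 h1
      exact ⟨h1', (step (hflat h1')).1.2 h2⟩
    · rintro ⟨h1, h2⟩
      exact (step (hflat h1)).2 h2

end ind

end Groth.Agent.Helper2.ArtinRegSeq
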