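import Mathlib
import Groth.Agent.Helper2.ArtinRegSeq
import Groth.Agent.Helper2.NilpNak

set_option autoImplicit false
universe u v

namespace Groth.Agent.Helper2.ArtinLift

open RingTheory.Sequence Function IsLocalRing
open Groth.Agent.Helper2.ArtinReg Groth.Agent.Helper2.ArtinRegSeq Groth.Agent.Helper2.NilpNak

section
variable {C' : Type u} [CommRing C'] {A' : Type v} [CommRing A'] [Algebra C' A']

/-- generators of the reduction of an ideal with flat quotient lift to generators (nilpotent `J`). -/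
theorem eq_span_of_map_eq_span (J : Ideal C') (hJ : IsNilpotent J) (I' : Ideal A')
    [Module.Flat C' (A' ⧸ I')] {ι : Type*} (a' : ι → A') (ha' : ∀ i, a' i ∈ I')
    (hI' : I'.map (Ideal.Quotient.mk (J.map (algebraMap C' A'))) =
      Ideal.span (Set.range fun i => Ideal.Quotient.mk (J.map (algebraMap C' A')) (a' i))) :
    I' = Ideal.span (Set.range a') := by
  have hle : Ideal.span (Set.range a') ≤ I' := by
    rw [Ideal.span_le]
    rintro _ ⟨i, rfl⟩
    exact ha' i
  apply le_antisymm _ hle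
  set φ : A' →ₗ[C'] (A' ⧸ I') := (Ideal.Quotient.mkₐ C' I').toLinearMap with hφ
  have hφs : Surjective φ := Ideal.Quotient.mk_surjective
  set Ks : Submodule C' A' := LinearMap.ker φ with hKs
  have hKmem : ∀ x, x ∈ Ks ↔ x ∈ I' := by
    intro x
    rw [hKs, LinearMap.mem_ker]
    exact Ideal.Quotient.eq_zero_iff_mem
  set Fs : Submodule C' A' := (Ideal.span (Set.range a')).restrictScalars C' with hFs
  have hFK : Fs ≤ Ks := fun q hq => (hKmem q).2 (hle hq)
  have ha : Ks ≤ Fs ⊔ J • ⊤ := by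
    intro q hq
    have hq' : q ∈ I' := (hKmem q).1 hq
    have h1 : Ideal.Quotient.mk (J.map (algebraMap C' A')) q ∈
        (Ideal.span (Set.range a')).map (Ideal.Quotient.mk (J.map (algebraMap C' A'))) := by
      rw [Ideal.map_span, ← Set.range_comp]
      have := Ideal.mem_map_of_mem (Ideal.Quotient.mk (J.map (algebraMap C' A'))) hq'
      rw [hI'] at this
      exact this
    rw [Ideal.mem_map_iff_of_surjective _ Ideal.Quotient.mk_surjective] at h1
    obtain ⟨q', hq'F, hqq⟩ := h1
    rw [Submodule.mem_sup]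
    refine ⟨q', hq'F, q - q', ?_, by abel⟩
    rw [Ideal.smul_top_eq_map, Submodule.restrictScalars_mem, ← Ideal.Quotient.eq_zero_iff_mem,
      map_sub, hqq, sub_self]
  have hb' : Ks ⊓ J • ⊤ ≤ J • Ks := ker_inf_smul_le' φ hφs J
  have hc : Ks ≤ Fs ⊔ J • Ks := by
    intro q hq
    obtain ⟨q', hq', r, hr, rfl⟩ := Submodule.mem_sup.1 (ha hq)
    have hrK : r ∈ Ks := by
      have := Ks.sub_mem hq (hFK hq')
      simpa using this
    exact Submodule.mem_sup.2 ⟨q', hq', r, hb' ⟨hrK, hr⟩, rfl⟩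
  have hd := le_of_le_sup_smul_of_isNilpotent J hJ Ks Fs hc
  intro q hq
  exact hd ((hKmem q).2 hq)

end

section
variable {C' : Type u} [CommRing C'] [IsLocalRing C'] {A' : Type v} [CommRing A'] [Algebra C' A']

lemma isNilpotent_of_ne_top (hnil : IsNilpotent (maximalIdeal C')) (J : Ideal C') (hJ : J ≠ ⊤) :
    IsNilpotent J := by
  obtain ⟨k, hk⟩ := hnil
  refine ⟨k, ?_⟩
  rw [Ideal.zero_eq_bot, ← le_bot_iff, ← Ideal.zero_eq_bot, ← hk]
  exact Ideal.pow_right_mono (le_maximalIdeal hJ) k

/-- a sequence which is regular modulo `J` is regular, with flat quotient. -/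
theorem isRegular_and_flat_of_isRegular_quotient (hnil : IsNilpotent (maximalIdeal C'))
    (J : Ideal C') (hJ : J ≠ ⊤) [Module.Flat C' A'] (fs : List A')
    (hreg : IsRegular (A' ⧸ J.map (algebraMap C' A'))
      (fs.map (Ideal.Quotient.mk (J.map (algebraMap C' A'))))) :
    IsRegular A' fs ∧ Module.Flat C' (A' ⧸ Ideal.ofList fs) := by
  set Jb := J.map (algebraMap C' A') with hJb
  rw [isRegular_iff] at hreg
  obtain ⟨hW', hT'⟩ := hreg
  obtain ⟨h3, h4⟩ := flat_and_iff (A := C') (M := A') hnil J hJ (Jb : Submodule A' A')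
      (by rw [smul_eq_mul, Ideal.mul_top]) fs fs.length le_rfl
  have hEJ : ∀ i, i < fs.length → E (Jb : Submodule A' A') fs i := by
    have h1 : IsWeaklyRegular (A' ⧸ Jb) fs :=
      (isWeaklyRegular_map_algebraMap_iff (A' ⧸ Jb) (A' ⧸ Jb) fs).1 hW'
    exact (isWeaklyRegular_quot_iff _ _).1 h1
  have hE0 := h3.2 hEJ
  have hflat := h4 hE0
  have hW : IsWeaklyRegular A' fs := (isWeaklyRegular_iff_E_bot fs).2 hE0
  refine ⟨⟨hW, ?_⟩, ?_⟩
  · intro htop
    apply hT'
    rw [smul_eq_mul, Ideal.mul_top] at htop ⊢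
    rw [← Ideal.map_ofList, ← htop, Ideal.map_top]
  · have h6 : (Nq fs fs.length : Submodule A' A') = Ideal.ofList fs := by
      unfold Nq
      rw [List.take_length, smul_eq_mul, Ideal.mul_top]
    exact Module.Flat.of_linearEquiv ((Submodule.quotEquivOfEq _ _ h6).restrictScalars C').symm

end

end Groth.Agent.Helper2.ArtinLift
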