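import Mathlib
import Groth.Agent.Helper1.TorsionFreeEmb

/-!
# Dévissage along associated primes

A property of finite modules over a Noetherian ring which passes to submodules and extensions holds
for `M` as soon as it holds for `A ⧸ p` for every associated prime `p` of `M`.
(Abstract form of `Groth.Agent.Helper1.H1Fin.h1f_iff`.)
-/

set_option autoImplicit false
set_option linter.style.haveILetI false
set_option linter.unusedSectionVars false

namespace Groth.Agent.Helper2.AssDev

universe u

variable {A : Type u} [CommRing A] [IsNoetherianRing A]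

/-- closure properties of a predicate on modules -/
structure Good (P : ∀ (M : Type u) [AddCommGroup M] [Module A M], Prop) : Prop where
  zero : ∀ (M : Type u) [AddCommGroup M] [Module A M] [Subsingleton M], P M
  sub : ∀ (N M : Type u) [AddCommGroup N] [Module A N] [AddCommGroup M] [Module A M]
      [Module.Finite A M] (f : N →ₗ[A] M), Function.Injective f → P M → P N
  ext : ∀ (M' M M'' : Type u) [AddCommGroup M'] [Module A M'] [AddCommGroup M] [Module A M]
      [AddCommGroup M''] [Module A M''] [Module.Finite A M] (f : M' →ₗ[A] M) (g : M →ₗ[A] M''),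
      Function.Injective f → Function.Surjective g → Function.Exact f g → P M' → P M'' → P M

variable {P : ∀ (M : Type u) [AddCommGroup M] [Module A M], Prop} (hP : Good P)

include hP

theorem Good.equiv {M' M : Type u} [AddCommGroup M'] [Module A M'] [AddCommGroup M]
    [Module A M] [Module.Finite A M] (e : M' ≃ₗ[A] M) (h : P M) : P M' :=
  hP.sub M' M e.toLinearMap e.injective h

theorem Good.pi_fin (N : Type u) [AddCommGroup N] [Module A N] [Module.Finite A N] (h : P N) :
    ∀ s : ℕ, P (Fin s → N) := by
  intro s
  induction s with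
  | zero => exact hP.zero _
  | succ s ih =>
    refine hP.ext N (Fin (s + 1) → N) (Fin s → N)
      (LinearMap.single A (fun _ : Fin (s + 1) => N) 0)
      (LinearMap.funLeft A N (Fin.succ : Fin s → Fin (s + 1))) ?_ ?_ ?_ h ih
    · intro x y hxy
      have := congrFun hxy 0
      simpa using this
    · intro v
      refine ⟨Fin.cons 0 v, ?_⟩
      ext i
      simp [LinearMap.funLeft_apply]
    · intro v
      constructor
      · intro hv
        refine ⟨v 0, ?_⟩
        ext i
        refine Fin.cases ?_ (fun j => ?_) i
        · simp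
        · have := congrFun hv j
          simp only [LinearMap.funLeft_apply, Pi.zero_apply] at this
          simp [this]
      · rintro ⟨x, rfl⟩
        ext j
        simp [LinearMap.funLeft_apply, Fin.succ_ne_zero]

theorem Good.prod (N N' : Type u) [AddCommGroup N] [Module A N] [AddCommGroup N'] [Module A N']
    [Module.Finite A N] [Module.Finite A N']
    (h : P N) (h' : P N') : P (N × N') :=
  hP.ext N (N × N') N' (LinearMap.inl A N N') (LinearMap.snd A N N') LinearMap.inl_injective
    LinearMap.snd_surjective (by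
      intro x
      constructor
      · intro hx
        exact ⟨x.1, Prod.ext rfl (by simpa using hx.symm)⟩
      · rintro ⟨y, rfl⟩
        simp) h h'

section coprimary

variable (p : Ideal A) [p.IsPrime]

/-- finite modules killed by `p` and torsion-free over `A ⧸ p` -/
theorem Good.killed (hp : P (A ⧸ p)) (N : Type u) [AddCommGroup N] [Module A N]
    [Module.Finite A N] (hk : ∀ a ∈ p, ∀ x : N, a • x = 0)
    (htf : ∀ a ∉ p, ∀ x : N, a • x = 0 → x = 0) : P N := by
  obtain ⟨n, φ, hφ⟩ := Groth.Agent.Helper1.TorsionFreeEmb.exists_injective_pi_quotient p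
    (M := N) hk htf
  exact hP.sub N (Fin n → A ⧸ p) φ hφ (hP.pi_fin (A ⧸ p) hp n)

/-- finite `p`-coprimary modules -/
theorem Good.coprimary (hp : P (A ⧸ p)) : ∀ (k : ℕ) (N : Type u) [AddCommGroup N] [Module A N]
    [Module.Finite A N], (∀ a ∈ p ^ k, ∀ x : N, a • x = 0) →
    (∀ a ∉ p, ∀ x : N, a • x = 0 → x = 0) → P N := by
  intro k
  induction k with
  | zero =>
    intro N _ _ _ hk _
    haveI : Subsingleton N := by
      refine ⟨fun x y => ?_⟩
      have hx := hk 1 (by simp) x
      have hy := hk 1 (by simp) y
      rw [one_smul] at hx hy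
      rw [hx, hy]
    exact hP.zero N
  | succ k ih =>
    intro N _ _ _ hk htf
    let N₁ : Submodule A N := Submodule.torsionBySet A N (p : Set A)
    have h1 : P N₁ := by
      apply hP.killed p hp N₁
      · intro a ha x
        apply Subtype.ext
        exact (Submodule.mem_torsionBySet_iff _ _).1 x.2 ⟨a, ha⟩
      · intro a ha x hx
        apply Subtype.ext
        exact htf a ha x.1 (congrArg Subtype.val hx)
    have h2 : P (N ⧸ N₁) := by
      apply ih (N ⧸ N₁)
      · intro a ha x
        obtain ⟨x, rfl⟩ := Submodule.mkQ_surjective N₁ x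
        rw [← map_smul]
        refine (Submodule.Quotient.mk_eq_zero N₁).2 ?_
        rw [Submodule.mem_torsionBySet_iff]
        rintro ⟨b, hb⟩
        show b • a • x = 0
        rw [← mul_smul]
        apply hk
        rw [pow_succ']
        exact Ideal.mul_mem_mul hb ha
      · intro a ha x hx
        obtain ⟨x, rfl⟩ := Submodule.mkQ_surjective N₁ x
        rw [← map_smul] at hx
        have hx' : a • x ∈ N₁ := (Submodule.Quotient.mk_eq_zero N₁).1 hx
        refine (Submodule.Quotient.mk_eq_zero N₁).2 ?_
        rw [Submodule.mem_torsionBySet_iff] at hx' ⊢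
        rintro ⟨b, hb⟩
        have := hx' ⟨b, hb⟩
        change b • a • x = 0 at this
        rw [smul_comm] at this
        exact htf a ha _ this
    exact hP.ext N₁ N (N ⧸ N₁) N₁.subtype N₁.mkQ (Submodule.injective_subtype _)
      (Submodule.mkQ_surjective _) (LinearMap.exact_subtype_mkQ _) h1 h2

end coprimary

section primary

variable {M : Type u} [AddCommGroup M] [Module A M] [Module.Finite A M]

theorem Good.quotient_primary (Q : Submodule A M) (hQ : Q.IsPrimary)
    (h : P (A ⧸ (Q.colon Set.univ).radical)) :
    P (M ⧸ Q) := by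
  haveI : (Q.colon Set.univ).radical.IsPrime := hQ.isPrime_radical_colon
  obtain ⟨k, hk⟩ := Ideal.exists_radical_pow_le_of_fg (Q.colon Set.univ)
    (IsNoetherian.noetherian _)
  have hkill : ∀ a ∈ (Q.colon Set.univ).radical ^ k, ∀ x : M ⧸ Q, a • x = 0 := by
    intro a ha x
    obtain ⟨x, rfl⟩ := Submodule.mkQ_surjective Q x
    rw [← map_smul]
    exact (Submodule.Quotient.mk_eq_zero Q).2 (Submodule.mem_colon.1 (hk ha) x (Set.mem_univ _))
  apply hP.coprimary _ h k (M ⧸ Q) hkill
  intro a ha x hx
  obtain ⟨x, rfl⟩ := Submodule.mkQ_surjective Q x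
  rw [← map_smul] at hx
  have hx' : a • x ∈ Q := (Submodule.Quotient.mk_eq_zero Q).1 hx
  exact (Submodule.Quotient.mk_eq_zero Q).2 ((hQ.mem_or_mem hx').resolve_right ha)

theorem Good.quotient_inf (Q Q' : Submodule A M) (hQ : P (M ⧸ Q)) (hQ' : P (M ⧸ Q')) :
    P (M ⧸ (Q ⊓ Q')) := by
  have hle : Q ⊓ Q' ≤ LinearMap.ker (LinearMap.prod Q.mkQ Q'.mkQ) := by
    rw [LinearMap.ker_prod, Submodule.ker_mkQ, Submodule.ker_mkQ]
  refine hP.sub _ _ ((Q ⊓ Q').liftQ (LinearMap.prod Q.mkQ Q'.mkQ) hle) ?_
    (hP.prod _ _ hQ hQ')
  rw [← LinearMap.ker_eq_bot, Submodule.ker_liftQ_eq_bot']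
  rw [LinearMap.ker_prod, Submodule.ker_mkQ, Submodule.ker_mkQ]

theorem Good.quotient_finsetInf (t : Finset (Submodule A M)) (h : ∀ Q ∈ t, P (M ⧸ Q)) :
    P (M ⧸ t.inf id) := by
  classical
  induction t using Finset.induction_on with
  | empty =>
    rw [Finset.inf_empty]
    exact hP.zero _
  | insert Q s hQ ih =>
    rw [Finset.inf_insert]
    exact hP.quotient_inf Q (s.inf id) (h Q (Finset.mem_insert_self _ _))
      (ih fun Q' hQ' => h Q' (Finset.mem_insert_of_mem hQ'))

variable (M)

/-- the dévissage: `P M` iff `P (A ⧸ p)` for the associated primes `p` of `M`. -/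
theorem Good.main :
    P M ↔ ∀ p : Ideal A, p ∈ associatedPrimes A M → P (A ⧸ p) := by
  constructor
  · intro h p hp
    obtain ⟨_, f, hf⟩ := (isAssociatedPrime_iff_exists_injective_linearMap p M).1 hp
    exact hP.sub _ _ f hf h
  · intro h
    obtain ⟨t, ht⟩ := Submodule.IsLasker.exists_isMinimalPrimaryDecomposition
      (Submodule.isLasker A M) (⊥ : Submodule A M)
    have h1 : P (M ⧸ t.inf id) := by
      apply hP.quotient_finsetInf
      intro Q hQ
      apply hP.quotient_primary Q (ht.primary hQ)
      exact h _ (ht.mem_associatedPrimes hQ)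
    rw [ht.inf_eq] at h1
    exact hP.equiv (Submodule.quotEquivOfEqBot ⊥ rfl).symm h1

end primary

end Groth.Agent.Helper2.AssDev
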