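import Mathlib
import Groth.Prelude
import Groth.Agent.Helper2.AssTens8
import Groth.Agent.Helper2.GenStalk1
import Groth.Agent.Helper5.FibStalk
import Groth.Agent.Helper3.AssBCC

set_option autoImplicit false
set_option linter.unusedVariables false
open CategoryTheory CategoryTheory.Limits AlgebraicGeometry TopologicalSpace Topology TensorProduct
open IsLocalRing
universe u

namespace Groth.Agent.Helper2.AssTS

open Groth.Agent.Helper2.AssTens

/-- the stalks of a fibre of a morphism from a locally Noetherian scheme are Noetherian. -/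
theorem isNoetherianRing_stalk_fiber {X S : Scheme.{u}} [IsLocallyNoetherian X] (f : X ⟶ S) (s : S)
    (z : ↥(f.fiber s)) : IsNoetherianRing ((f.fiber s).presheaf.stalk z) :=
  isNoetherianRing_of_surjective _ _ ((f.fiberι s).stalkMap z).hom
    ((f.fiberι s).stalkMap_surjective z)

/-- associated points of the pullback of a module along a flat morphism. -/
theorem isAssPoint_pullback_iff_of_flat {W V : Scheme.{u}} (r : W ⟶ V) [Flat r] (Gb : V.Modules)
    (w : W) [IsNoetherianRing (W.presheaf.stalk w)] [IsNoetherianRing (V.presheaf.stalk (r w))] :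
    Curv2.IsAssPoint ((Scheme.Modules.pullback r).obj Gb) w ↔
      Curv2.IsAssPoint Gb (r w) ∧
        (letI := (r.stalkMap w).hom.toAlgebra
         IsAssociatedPrime (maximalIdeal (W.presheaf.stalk w))
          ((W.presheaf.stalk w) ⊗[V.presheaf.stalk (r w)]
            ResidueField (V.presheaf.stalk (r w)))) := by
  letI algAB : Algebra (V.presheaf.stalk (r w)) (W.presheaf.stalk w) :=
    (r.stalkMap w).hom.toAlgebra
  haveI : IsLocalHom (algebraMap (V.presheaf.stalk (r w)) (W.presheaf.stalk w)) :=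
    inferInstanceAs (IsLocalHom (r.stalkMap w).hom)
  haveI : Module.Flat (V.presheaf.stalk (r w)) (W.presheaf.stalk w) := Flat.stalkMap r w
  obtain ⟨e1⟩ := Groth.Agent.Helper2.GenStalk.nonempty_stalk_pullback_equiv r Gb w
  show IsAssociatedPrime _ _ ↔ IsAssociatedPrime _ _ ∧ IsAssociatedPrime _ _
  rw [e1.isAssociatedPrime_iff, isAssociatedPrime_tensor_iff]

end Groth.Agent.Helper2.AssTS

namespace Groth.Agent.Helper2.AssTS

open Groth.Agent.Helper2.AssTens

/-- the third component of the criterion in terms of the structure sheaf of an iterated fibre. -/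
theorem isAssociatedPrime_fibre_iff {W V Y : Scheme.{u}} (r : W ⟶ V) (ι : V ⟶ Y)
    (hι : ∀ v, Function.Surjective (ι.stalkMap v).hom) (y : Y) (w : ↥((r ≫ ι).fiber y))
    [IsNoetherianRing (W.presheaf.stalk ((r ≫ ι).fiberι y w))] :
    (letI := (r.stalkMap ((r ≫ ι).fiberι y w)).hom.toAlgebra
     IsAssociatedPrime (maximalIdeal (W.presheaf.stalk ((r ≫ ι).fiberι y w)))
      ((W.presheaf.stalk ((r ≫ ι).fiberι y w)) ⊗[V.presheaf.stalk (r ((r ≫ ι).fiberι y w))]
        ResidueField (V.presheaf.stalk (r ((r ≫ ι).fiberι y w))))) ↔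
      w ∈ AssSch.Ass (Coh.structureModule ((r ≫ ι).fiber y)) := by
  let zb : W := (r ≫ ι).fiberι y w
  letI algAB : Algebra (V.presheaf.stalk (r zb)) (W.presheaf.stalk zb) :=
    (r.stalkMap zb).hom.toAlgebra
  have hX := Groth.Agent.Helper5.FibStalk.s9501 (r ≫ ι) y w
  have hker : RingHom.ker (((r ≫ ι).fiberι y).stalkMap w).hom =
      (maximalIdeal (V.presheaf.stalk (r zb))).map
        (algebraMap (V.presheaf.stalk (r zb)) (W.presheaf.stalk zb)) := by
    rw [hX.2, Scheme.Hom.stalkMap_comp]
    rw [← IsLocalRing.map_maximalIdeal_of_surjective (ι.stalkMap (r zb)).hom (hι (r zb)),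
      Ideal.map_map]
    rfl
  letI algBB' : Algebra (W.presheaf.stalk zb) (((r ≫ ι).fiber y).presheaf.stalk w) :=
    (((r ≫ ι).fiberι y).stalkMap w).hom.toAlgebra
  have h2 := isAssociatedPrime_fibre_dict
    (A := V.presheaf.stalk (r zb)) (B := W.presheaf.stalk zb) (M := W.presheaf.stalk zb)
    (N := ((r ≫ ι).fiber y).presheaf.stalk w)
    (((r ≫ ι).fiberι y).stalkMap w).hom hX.1 hker
    (TensorProduct.AlgebraTensorModule.rid (W.presheaf.stalk zb)
      (((r ≫ ι).fiber y).presheaf.stalk w) (((r ≫ ι).fiber y).presheaf.stalk w)).symm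
  rw [Groth.Agent.Helper3.AssBCC.mem_ass_iff]
  exact h2.symm

end Groth.Agent.Helper2.AssTS
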