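import Mathlib

set_option autoImplicit false
set_option linter.unusedVariables false
open TensorProduct
universe u v

namespace Groth.Agent.Helper2.FieldTensNE

/-- the tensor product of a purely transcendental extension with any field extension is a
domain. -/
theorem isDomain_fractionRing_tensor (k : Type u) [Field k] (ι : Type v) (L : Type u) [Field L]
    [Algebra k L] : IsDomain (FractionRing (MvPolynomial ι k) ⊗[k] L) := by
  let A := MvPolynomial ι k
  let B := FractionRing A
  -- `A ⊗ L` is a domain
  let e : A ⊗[k] L ≃+* MvPolynomial ι L :=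
    ((Algebra.TensorProduct.comm k A L).trans
      ((MvPolynomial.algebraTensorAlgEquiv k L).restrictScalars k)).toRingEquiv
  haveI hdom : IsDomain (A ⊗[k] L) := e.toMulEquiv.isDomain _
  let φ : A ⊗[k] L →ₐ[k] B ⊗[k] L :=
    Algebra.TensorProduct.map (IsScalarTower.toAlgHom k A B) (AlgHom.id k L)
  letI alg : Algebra (A ⊗[k] L) (B ⊗[k] L) := φ.toRingHom.toAlgebra
  haveI : IsScalarTower A (A ⊗[k] L) (B ⊗[k] L) := by
    refine ⟨fun a x y => ?_⟩
    change φ (a • x) * y = a • (φ x * y)
    rw [Algebra.smul_def a x, map_mul, Algebra.smul_def a (φ x * y), mul_assoc]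
    congr 1
  have H : (algebraMap (A ⊗[k] L) (B ⊗[k] L)).comp
      (Algebra.TensorProduct.includeRight : L →ₐ[k] A ⊗[k] L).toRingHom =
      (Algebra.TensorProduct.includeRight : L →ₐ[k] B ⊗[k] L).toRingHom := by
    ext l
    simp [RingHom.algebraMap_toAlgebra, φ]
  haveI := IsLocalization.tensorProduct_tensorProduct k L (nonZeroDivisors A) B H
  refine IsLocalization.isDomain_of_le_nonZeroDivisors (M := Algebra.algebraMapSubmonoid (A ⊗[k] L)
    (nonZeroDivisors A)) (B ⊗[k] L) ?_
  rintro _ ⟨a, ha, rfl⟩
  apply mem_nonZeroDivisors_of_ne_zero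
  have hinj : Function.Injective (Algebra.TensorProduct.includeLeft : A →ₐ[k] A ⊗[k] L) :=
    Algebra.TensorProduct.includeLeft_injective (algebraMap k L).injective
  intro h0
  have : a = 0 := hinj (by rw [map_zero]; exact h0)
  exact nonZeroDivisors.ne_zero ha this

end Groth.Agent.Helper2.FieldTensNE
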