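import Mathlib
import Groth.Agent.Helper2.FieldTensNE1

set_option autoImplicit false
set_option linter.unusedVariables false
open TensorProduct
universe u

namespace Groth.Agent.Helper2.FieldTensNE

/-- core: over a domain `R0`, in a flat integral `R0`-algebra, two comparable primes consisting of
zero divisors are equal. -/
theorem eq_of_le_of_zeroDivisors_of_flat_integral {R0 R : Type u} [CommRing R0] [IsDomain R0]
    [CommRing R] [Algebra R0 R] [Module.Flat R0 R] [Algebra.IsIntegral R0 R]
    (P P' : Ideal R) [P.IsPrime] [P'.IsPrime] (h : P ≤ P')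
    (hz : ∀ a ∈ P', a ∉ nonZeroDivisors R) : P = P' := by
  have hbot : P'.comap (algebraMap R0 R) = ⊥ := by
    rw [eq_bot_iff]
    intro a ha
    rw [Ideal.mem_comap] at ha
    rw [Ideal.mem_bot]
    by_contra ha0
    have hreg : IsSMulRegular R a :=
      Module.Flat.isSMulRegular_of_nonZeroDivisors (mem_nonZeroDivisors_of_ne_zero ha0)
    apply hz _ ha
    rw [mem_nonZeroDivisors_iff_right]
    intro y hy
    apply hreg
    show a • y = a • 0
    rw [smul_zero, Algebra.smul_def, mul_comm]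
    exact hy
  by_contra hne
  have hlt : P < P' := lt_of_le_of_ne h hne
  obtain ⟨c, hc', hc⟩ := SetLike.exists_of_lt hlt
  have := Ideal.comap_lt_comap_of_integral_mem_sdiff (R := R0) h ⟨hc', hc⟩
    (Algebra.IsIntegral.isIntegral c)
  rw [hbot] at this
  exact not_lt_bot this

theorem eq_of_le_of_zeroDivisors_aux (k K0 K L : Type u) [Field k] [Field K0] [Field K] [Field L]
    [Algebra k K0] [Algebra K0 K] [Algebra k K] [IsScalarTower k K0 K] [Algebra k L]
    [Algebra.IsIntegral K0 K] [IsDomain (K0 ⊗[k] L)]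
    (P P' : Ideal (K ⊗[k] L)) [P.IsPrime] [P'.IsPrime] (h : P ≤ P')
    (hz : ∀ a ∈ P', a ∉ nonZeroDivisors (K ⊗[k] L)) : P = P' := by
  let ψ : (K0 ⊗[k] L) ⊗[K0] K ≃+* K ⊗[k] L :=
    ((Algebra.TensorProduct.comm K0 (K0 ⊗[k] L) K).trans
      (Algebra.TensorProduct.cancelBaseChange k K0 K0 K L)).toRingEquiv
  have hinj : Function.Injective (Ideal.comap (ψ : (K0 ⊗[k] L) ⊗[K0] K →+* K ⊗[k] L)) :=
    Ideal.comap_injective_of_surjective _ ψ.surjective
  apply hinj
  haveI : (P.comap (ψ : (K0 ⊗[k] L) ⊗[K0] K →+* K ⊗[k] L)).IsPrime := Ideal.IsPrime.comap _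
  haveI : (P'.comap (ψ : (K0 ⊗[k] L) ⊗[K0] K →+* K ⊗[k] L)).IsPrime := Ideal.IsPrime.comap _
  refine eq_of_le_of_zeroDivisors_of_flat_integral (R0 := K0 ⊗[k] L) _ _ (Ideal.comap_mono h) ?_
  intro a ha hnz
  apply hz (ψ a) ha
  rw [mem_nonZeroDivisors_iff_right] at hnz ⊢
  intro y hy
  have h1 : ψ.symm y * a = 0 := by
    apply ψ.injective
    rw [map_mul, ψ.apply_symm_apply, hy, map_zero]
  have h2 := hnz _ h1
  have : y = ψ (ψ.symm y) := (ψ.apply_symm_apply y).symm
  rw [this, h2, map_zero]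

/-- the tensor product of two field extensions has no embedded primes: two comparable primes
consisting of zero divisors are equal. -/
theorem eq_of_le_of_zeroDivisors (k K L : Type u) [Field k] [Field K] [Field L] [Algebra k K]
    [Algebra k L] (P P' : Ideal (K ⊗[k] L)) [P.IsPrime] [P'.IsPrime] (h : P ≤ P')
    (hz : ∀ a ∈ P', a ∉ nonZeroDivisors (K ⊗[k] L)) : P = P' := by
  obtain ⟨ι, x, hx⟩ := exists_isTranscendenceBasis' k K
  haveI : Algebra.IsAlgebraic (IntermediateField.adjoin k (Set.range x)) K := hx.isAlgebraic_field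
  haveI : Algebra.IsIntegral (IntermediateField.adjoin k (Set.range x)) K :=
    Algebra.IsAlgebraic.isIntegral
  let e0 : FractionRing (MvPolynomial ι k) ≃ₐ[k] (IntermediateField.adjoin k (Set.range x)) :=
    hx.1.aevalEquivField
  haveI hd := isDomain_fractionRing_tensor k ι L
  haveI : IsDomain ((IntermediateField.adjoin k (Set.range x)) ⊗[k] L) :=
    (Algebra.TensorProduct.congr e0 (AlgEquiv.refl : L ≃ₐ[k] L)).symm.toMulEquiv.isDomain _
  exact eq_of_le_of_zeroDivisors_aux k (IntermediateField.adjoin k (Set.range x)) K L P P' h hz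

end Groth.Agent.Helper2.FieldTensNE
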