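import Mathlib
import Groth.Prelude
import Groth.Agent.Helper2.FieldTensNE2
import Groth.Agent.Helper4.AssSpec
import Groth.Agent.Helper3.AssBCC

set_option autoImplicit false
set_option linter.unusedVariables false
open CategoryTheory CategoryTheory.Limits AlgebraicGeometry TensorProduct IsLocalRing
universe u

namespace Groth.Agent.Helper2.FieldTensNE

/-- if the maximal ideal of the localization at `p` is associated, then `p` consists of zero
divisors. -/
theorem not_mem_nonZeroDivisors_of_isAssociatedPrime {R Rp : Type u} [CommRing R] [CommRing Rp]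
    [Algebra R Rp] (p : Ideal R) [p.IsPrime] [IsLocalization.AtPrime Rp p] [IsLocalRing Rp]
    (h : IsAssociatedPrime (maximalIdeal Rp) Rp) (b : R) (hb : b ∈ p) :
    b ∉ nonZeroDivisors R := by
  obtain ⟨hprime, a, ha⟩ := h
  have hbm : algebraMap R Rp b ∈ maximalIdeal Rp :=
    (IsLocalization.AtPrime.to_map_mem_maximal_iff Rp p b).2 hb
  rw [ha] at hbm
  obtain ⟨n, hn⟩ := hbm
  have hn' : (algebraMap R Rp b) ^ n * a = 0 := by
    rw [Submodule.mem_colon_singleton, Submodule.mem_bot, smul_eq_mul] at hn
    exact hn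
  have ha0 : a ≠ 0 := by
    rintro rfl
    apply hprime.ne_top
    rw [ha]
    rw [Ideal.eq_top_iff_one]
    refine ⟨1, ?_⟩
    rw [Submodule.mem_colon_singleton, Submodule.mem_bot, smul_zero]
  -- minimal exponent
  classical
  have hex : ∃ m, (algebraMap R Rp b) ^ m * a = 0 := ⟨n, hn'⟩
  let m := Nat.find hex
  have hm : (algebraMap R Rp b) ^ m * a = 0 := Nat.find_spec hex
  have hm0 : m ≠ 0 := by
    intro h0
    rw [h0, pow_zero, one_mul] at hm
    exact ha0 hm
  obtain ⟨m', hm'⟩ := Nat.exists_eq_succ_of_ne_zero hm0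
  have hmin : (algebraMap R Rp b) ^ m' * a ≠ 0 := by
    intro h0
    have := Nat.find_min' hex h0
    omega
  have hkill : algebraMap R Rp b * ((algebraMap R Rp b) ^ m' * a) = 0 := by
    rw [← mul_assoc, ← pow_succ']
    have : m' + 1 = m := hm'.symm
    rw [this]
    exact hm
  obtain ⟨⟨r, s⟩, hrs⟩ := IsLocalization.mk'_surjective p.primeCompl
    ((algebraMap R Rp b) ^ m' * a)
  rw [← hrs] at hkill hmin
  have h1 : IsLocalization.mk' Rp (b * r) s = 0 := by
    rw [IsLocalization.mk'_eq_mul_mk'_one, map_mul, mul_assoc, ← IsLocalization.mk'_eq_mul_mk'_one]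
    exact hkill
  rw [IsLocalization.mk'_eq_zero_iff] at h1
  obtain ⟨t, ht⟩ := h1
  intro hbnz
  apply hmin
  rw [IsLocalization.mk'_eq_zero_iff]
  refine ⟨t, ?_⟩
  rw [mem_nonZeroDivisors_iff_right] at hbnz
  apply hbnz
  rw [mul_comm, ← mul_assoc, mul_comm b, mul_assoc]
  rw [mul_comm b r] at ht ⊢
  linear_combination ht

end Groth.Agent.Helper2.FieldTensNE

namespace Groth.Agent.Helper2.FieldTensNE

open Groth.Agent.Helper4.AssSpec

/-- associated points of the structure sheaf of an affine scheme consist of zero divisors. -/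
theorem not_mem_nonZeroDivisors_of_mem_ass (R : CommRingCat.{u}) (w : ↥(Spec R))
    (hw : w ∈ AssSch.Ass (Coh.structureModule (Spec R))) (b : R) (hb : b ∈ w.asIdeal) :
    b ∉ nonZeroDivisors R := by
  rw [Groth.Agent.Helper3.AssBCC.mem_ass_iff] at hw
  exact not_mem_nonZeroDivisors_of_isAssociatedPrime (R := R)
    (Rp := (Spec R).presheaf.stalk w) w.asIdeal hw b hb

/-- the structure sheaf of the spectrum of a tensor product of fields has no embedded
associated points. -/
theorem noEmbedded_spec_tensor (k K L : Type u) [Field k] [Field K] [Field L] [Algebra k K]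
    [Algebra k L] :
    AssSch.NoEmbedded (Coh.structureModule (Spec (CommRingCat.of (K ⊗[k] L)))) := by
  intro w hw w' hw' hsp
  have hle : w'.asIdeal ≤ w.asIdeal := by
    have h1 : (show PrimeSpectrum (K ⊗[k] L) from w') ≤ (show PrimeSpectrum (K ⊗[k] L) from w) :=
      (PrimeSpectrum.le_iff_specializes _ _).2 hsp
    exact h1
  have := eq_of_le_of_zeroDivisors k K L w'.asIdeal w.asIdeal hle
    (fun a ha => not_mem_nonZeroDivisors_of_mem_ass (CommRingCat.of (K ⊗[k] L)) w hw a ha)
  exact (PrimeSpectrum.ext this).symm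

/-- `NoEmbedded` for structure sheaves transports along isomorphisms of schemes. -/
theorem noEmbedded_structure_of_iso {T T' : Scheme.{u}} (φ : T ≅ T')
    (h : AssSch.NoEmbedded (Coh.structureModule T')) :
    AssSch.NoEmbedded (Coh.structureModule T) := by
  intro w hw w' hw' hsp
  have key : ∀ v : T, v ∈ AssSch.Ass (Coh.structureModule T) →
      φ.hom v ∈ AssSch.Ass (Coh.structureModule T') := by
    intro v hv
    rw [Groth.Agent.Helper3.AssBCC.mem_ass_iff] at hv ⊢
    let e : T'.presheaf.stalk (φ.hom v) ≃+* T.presheaf.stalk v :=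
      (asIso (φ.hom.stalkMap v)).commRingCatIsoToRingEquiv
    exact Groth.Agent.Helper3.AssBCC.maximalIdeal_mem_ass e.symm hv
  have := h (φ.hom w) (key w hw) (φ.hom w') (key w' hw') (hsp.map φ.hom.continuous)
  have h2 := congrArg (fun t => φ.inv t) this
  simpa [← Scheme.Hom.comp_apply] using h2

end Groth.Agent.Helper2.FieldTensNE
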