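import Mathlib
import Groth.Prelude
import Groth.Agent.Helper2.AssTS2
import Groth.Agent.Helper2.FieldTensNE3
import Groth.Agent.Lead.AssRestr
import Groth.Agent.Helper4.AssMax2

set_option autoImplicit false
set_option linter.unusedVariables false
open CategoryTheory CategoryTheory.Limits AlgebraicGeometry TopologicalSpace Topology TensorProduct
open IsLocalRing
universe u

namespace Groth.Agent.Helper2.AssRel

open Groth.Agent.Helper2.AssTens Groth.Agent.Helper2.AssTS

section
variable {X S S' : Scheme.{u}} (f : X ⟶ S) (g : S' ⟶ S)

/-- the comparison morphism from the fibre of the second projection over `s'` to the fibre of `f`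
over `g s'`. -/
noncomputable def fibMap' (s' : S') : (pullback.snd f g).fiber s' ⟶ f.fiber (g s') :=
  pullback.map _ _ _ _ (pullback.fst f g) (Spec.map (g.residueFieldMap s')) g
    (IsPullback.of_hasPullback f g).w.symm (by simp)

theorem isPullback_fibMap' (s' : S') :
    IsPullback (fibMap' f g s') ((pullback.snd f g).fiberToSpecResidueField s')
      (f.fiberToSpecResidueField (g s')) (Spec.map (g.residueFieldMap s')) :=
  isPullback_fiberToSpecResidueField_of_isPullback (IsPullback.of_hasPullback f g) s'

theorem fibMap'_fiberι (s' : S') :
    fibMap' f g s' ≫ f.fiberι (g s') = (pullback.snd f g).fiberι s' ≫ pullback.fst f g := by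
  unfold fibMap' Scheme.Hom.fiberι
  exact pullback.lift_fst _ _ _

instance flat_fibMap' (s' : S') : Flat (fibMap' f g s') := by
  haveI : Flat (Spec.map (g.residueFieldMap s')) := by
    rw [Flat.SpecMap_iff]
    letI : Algebra (S.residueField (g s')) (S'.residueField s') := (g.residueFieldMap s').hom.toAlgebra
    exact (inferInstance : Module.Flat (S.residueField (g s')) (S'.residueField s'))
  exact MorphismProperty.of_isPullback (isPullback_fibMap' f g s').flip inferInstance

/-- the restriction of the pullback of `F` to the fibre over `s'` is the pullback of the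
restriction of `F` to the fibre over `g s'`. -/
noncomputable def fibModIso' (s' : S') (F : X.Modules) :
    (Scheme.Modules.pullback ((pullback.snd f g).fiberι s')).obj
        ((Scheme.Modules.pullback (pullback.fst f g)).obj F) ≅
      (Scheme.Modules.pullback (fibMap' f g s')).obj
        ((Scheme.Modules.pullback (f.fiberι (g s'))).obj F) :=
  (Scheme.Modules.pullbackComp _ _).app F ≪≫
    (Scheme.Modules.pullbackCongr (fibMap'_fiberι f g s').symm).app F ≪≫
    ((Scheme.Modules.pullbackComp _ _).app F).symm

end

/-- the fibres of a base change of a morphism of spectra of fields are spectra of tensor products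
of fields. -/
theorem nonempty_fiber_iso_spec {W V : Scheme.{u}} (K' k' : Type u) [Field K'] [Field k']
    (r : W ⟶ V) (a : W ⟶ Spec (CommRingCat.of K')) (b : V ⟶ Spec (CommRingCat.of k'))
    (c : k' →+* K')
    (h : IsPullback r a b (Spec.map (CommRingCat.ofHom c))) (v : V) :
    ∃ (k K L : Type u) (_ : Field k) (_ : Field K) (_ : Field L) (_ : Algebra k K)
      (_ : Algebra k L), Nonempty (r.fiber v ≅ Spec (CommRingCat.of (K ⊗[k] L))) := by
  have h1 : IsPullback (r.fiberToSpecResidueField v) (r.fiberι v) (V.fromSpecResidueField v) r :=
    (IsPullback.of_hasPullback r (V.fromSpecResidueField v)).flip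
  have h2 := h1.paste_vert h
  let β : CommRingCat.of k' ⟶ V.residueField v := Spec.preimage (V.fromSpecResidueField v ≫ b)
  have hβ : Spec.map β = V.fromSpecResidueField v ≫ b := Spec.map_preimage _
  rw [← hβ] at h2
  letI algK : Algebra k' (V.residueField v) := β.hom.toAlgebra
  letI algL : Algebra k' K' := c.toAlgebra
  refine ⟨k', V.residueField v, K', inferInstance, inferInstance, inferInstance, algK, algL, ⟨?_⟩⟩
  exact h2.isoPullback ≪≫ pullbackSpecIso k' (V.residueField v) K'

end Groth.Agent.Helper2.AssRel
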