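import Mathlib
import Groth.Prelude
import Groth.Agent.Helper2.AssRel1
import Groth.Agent.Helper4.FinLocFree6

set_option autoImplicit false
set_option linter.unusedVariables false
open CategoryTheory CategoryTheory.Limits AlgebraicGeometry TopologicalSpace Topology TensorProduct
open IsLocalRing
universe u

namespace Groth.Agent.Helper2.AssRel

open Groth.Agent.Helper2.AssTens Groth.Agent.Helper2.AssTS

/-- the third component of the criterion in terms of the structure sheaf of the fibre. -/
theorem isAssociatedPrime_fibre_iff' {W V : Scheme.{u}} (r : W ⟶ V) (v : V) (w : ↥(r.fiber v))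
    [IsNoetherianRing (W.presheaf.stalk (r.fiberι v w))] :
    (letI := (r.stalkMap (r.fiberι v w)).hom.toAlgebra
     IsAssociatedPrime (maximalIdeal (W.presheaf.stalk (r.fiberι v w)))
      ((W.presheaf.stalk (r.fiberι v w)) ⊗[V.presheaf.stalk (r (r.fiberι v w))]
        ResidueField (V.presheaf.stalk (r (r.fiberι v w))))) ↔
      w ∈ AssSch.Ass (Coh.structureModule (r.fiber v)) := by
  let zb : W := r.fiberι v w
  letI algAB : Algebra (V.presheaf.stalk (r zb)) (W.presheaf.stalk zb) :=
    (r.stalkMap zb).hom.toAlgebra
  have hX := Groth.Agent.Helper5.FibStalk.s9501 r v w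
  letI algBB' : Algebra (W.presheaf.stalk zb) ((r.fiber v).presheaf.stalk w) :=
    ((r.fiberι v).stalkMap w).hom.toAlgebra
  have h2 := isAssociatedPrime_fibre_dict
    (A := V.presheaf.stalk (r zb)) (B := W.presheaf.stalk zb) (M := W.presheaf.stalk zb)
    (N := (r.fiber v).presheaf.stalk w)
    ((r.fiberι v).stalkMap w).hom hX.1 hX.2
    (TensorProduct.AlgebraTensorModule.rid (W.presheaf.stalk zb)
      ((r.fiber v).presheaf.stalk w) ((r.fiber v).presheaf.stalk w)).symm
  rw [Groth.Agent.Helper3.AssBCC.mem_ass_iff]
  exact h2.symm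

/-- on a scheme whose structure sheaf has no embedded associated points, the associated points
are the points which are maximal under generization. -/
theorem mem_ass_structure_iff_maximal {Φ : Scheme.{u}}
    (hne : AssSch.NoEmbedded (Coh.structureModule Φ)) (w : Φ) :
    w ∈ AssSch.Ass (Coh.structureModule Φ) ↔ ∀ w'' : Φ, w'' ⤳ w → w'' = w := by
  haveI : (Coh.structureModule Φ).IsQuasicoherent :=
    Groth.Agent.Helper4.FinLocFree4.isQuasicoherent_of_isFinLocFree _
      (Groth.Agent.Helper4.FinLocFree6.isFinLocFree_unit (X := Φ))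
  have hnt : ∀ t : Φ, Nontrivial ((Coh.structureModule Φ).presheaf.stalk t) := by
    intro t
    have e := Groth.Agent.Lead.CartSec.unitStalkEquiv t
    exact e.symm.toEquiv.nontrivial
  constructor
  · intro hw w'' hsp
    obtain ⟨w1, hw1, hsp1⟩ := Groth.Agent.Helper4.AssMax2.exists_isAssPoint_specializes
      (Coh.structureModule Φ) w'' (hnt w'')
    have h1 : w = w1 := hne w hw w1 hw1 (hsp1.trans hsp)
    subst h1
    exact (hsp.antisymm hsp1).eq
  · intro hmax
    obtain ⟨w1, hw1, hsp1⟩ := Groth.Agent.Helper4.AssMax2.exists_isAssPoint_specializes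
      (Coh.structureModule Φ) w (hnt w)
    rw [← hmax w1 hsp1]
    exact hw1

end Groth.Agent.Helper2.AssRel
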