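import Mathlib
import Groth.Prelude
import Groth.Agent.Helper2.AssRel2

set_option autoImplicit false
set_option linter.unusedVariables false
open CategoryTheory CategoryTheory.Limits AlgebraicGeometry TopologicalSpace Topology TensorProduct
open IsLocalRing
universe u

namespace Groth.Agent.Helper2.AssRel

open Groth.Agent.Helper2.AssTens Groth.Agent.Helper2.AssTS

theorem map_fiberι' {X Y : Scheme.{u}} (f : X ⟶ Y) (s : Y) (z : ↥(f.fiber s)) :
    f (f.fiberι s z) = s := by
  have : f.fiberι s z ∈ Set.range (f.fiberι s) := ⟨z, rfl⟩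
  rw [f.range_fiberι] at this
  exact this

/-- associated-ness in a fibre only depends on the image point. -/
theorem isAssPoint_fibre_congr {X S : Scheme.{u}} (f : X ⟶ S) (F : X.Modules) (t1 t2 : S)
    (z1 : ↥(f.fiber t1)) (z2 : ↥(f.fiber t2)) (h : f.fiberι t1 z1 = f.fiberι t2 z2) :
    Curv2.IsAssPoint ((Scheme.Modules.pullback (f.fiberι t1)).obj F) z1 ↔
      Curv2.IsAssPoint ((Scheme.Modules.pullback (f.fiberι t2)).obj F) z2 := by
  have ht : t1 = t2 := by
    rw [← map_fiberι' f t1 z1, ← map_fiberι' f t2 z2, h]
  subst ht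
  have hz : z1 = z2 := (f.fiberι t1).isEmbedding.injective h
  subst hz
  rfl

theorem isLocallyNoetherian_fiber {X S : Scheme.{u}} (f : X ⟶ S) [LocallyOfFiniteType f] (s : S) :
    IsLocallyNoetherian (f.fiber s) := by
  haveI : LocallyOfFiniteType (f.fiberToSpecResidueField s) :=
    MorphismProperty.pullback_snd _ _ inferInstance
  exact LocallyOfFiniteType.isLocallyNoetherian (f.fiberToSpecResidueField s)

theorem s8885 {X S S' : Scheme.{u}} (f : X ⟶ S) [LocallyOfFiniteType f] (g : S' ⟶ S)
    (F : X.Modules) (hF : Coh.IsQCoh F) (x' : ↥(pullback f g)) :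
    Curv2.IsAssPoint
        ((Scheme.Modules.pullback ((pullback.snd f g).fiberι ((pullback.snd f g) x'))).obj
          ((Scheme.Modules.pullback (pullback.fst f g)).obj F))
        ((pullback.snd f g).asFiber x') ↔
      Curv2.IsAssPoint ((Scheme.Modules.pullback (f.fiberι (f ((pullback.fst f g) x')))).obj F)
          (f.asFiber ((pullback.fst f g) x')) ∧
        ∀ x'' : ↥(pullback f g), (pullback.snd f g) x'' = (pullback.snd f g) x' →
          (pullback.fst f g) x'' = (pullback.fst f g) x' → x'' ⤳ x' → x'' = x' := by
  let s' : S' := pullback.snd f g x'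
  let zb' : ↥((pullback.snd f g).fiber s') := (pullback.snd f g).asFiber x'
  have hzb' : (pullback.snd f g).fiberι s' zb' = x' := (pullback.snd f g).fiberι_asFiber x'
  let r := fibMap' f g s'
  haveI hW : IsLocallyNoetherian ((pullback.snd f g).fiber s') :=
    isLocallyNoetherian_fiber (pullback.snd f g) s'
  haveI hV : IsLocallyNoetherian (f.fiber (g s')) := isLocallyNoetherian_fiber f (g s')
  have step2 := Groth.Agent.Lead.AssRestr.isAssPoint_iff_of_iso (fibModIso' f g s' F) zb'
  have step3 := isAssPoint_pullback_iff_of_flat r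
    ((Scheme.Modules.pullback (f.fiberι (g s'))).obj F) zb'
  -- the point of `X`
  have hfst : ∀ t : ↥((pullback.snd f g).fiber s'),
      f.fiberι (g s') (r t) = pullback.fst f g ((pullback.snd f g).fiberι s' t) := by
    intro t
    have := congrArg (fun φ : (pullback.snd f g).fiber s' ⟶ X => φ t) (fibMap'_fiberι f g s')
    exact this
  have hC1 : Curv2.IsAssPoint ((Scheme.Modules.pullback (f.fiberι (g s'))).obj F) (r zb') ↔
      Curv2.IsAssPoint ((Scheme.Modules.pullback (f.fiberι (f ((pullback.fst f g) x')))).obj F)
          (f.asFiber ((pullback.fst f g) x')) := by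
    apply isAssPoint_fibre_congr
    rw [hfst, hzb', Scheme.Hom.fiberι_asFiber]
  -- the fibre of `r`
  let w : ↥(r.fiber (r zb')) := r.asFiber zb'
  have hw : r.fiberι (r zb') w = zb' := r.fiberι_asFiber zb'
  have h4 := isAssociatedPrime_fibre_iff' r (r zb') w
  rw [hw] at h4
  have hne : AssSch.NoEmbedded (Coh.structureModule (r.fiber (r zb'))) := by
    obtain ⟨k, K, L, _, _, _, _, _, ⟨φ⟩⟩ := nonempty_fiber_iso_spec
      (S'.residueField s') (S.residueField (g s')) r
      ((pullback.snd f g).fiberToSpecResidueField s') (f.fiberToSpecResidueField (g s'))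
      (g.residueFieldMap s').hom (isPullback_fibMap' f g s') (r zb')
    exact Groth.Agent.Helper2.FieldTensNE.noEmbedded_structure_of_iso φ
      (Groth.Agent.Helper2.FieldTensNE.noEmbedded_spec_tensor k K L)
  have h5 := mem_ass_structure_iff_maximal hne w
  have hC2 : (∀ w'' : ↥(r.fiber (r zb')), w'' ⤳ w → w'' = w) ↔
      ∀ x'' : ↥(pullback f g), (pullback.snd f g) x'' = (pullback.snd f g) x' →
          (pullback.fst f g) x'' = (pullback.fst f g) x' → x'' ⤳ x' → x'' = x' := by
    constructor
    · intro hmax x'' h1 h2 hsp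
      have hr1 : x'' ∈ Set.range ((pullback.snd f g).fiberι s') := by
        rw [Scheme.Hom.range_fiberι]; exact h1
      obtain ⟨zb'', rfl⟩ := hr1
      have hrr : r zb'' = r zb' := by
        apply (f.fiberι (g s')).isEmbedding.injective
        rw [hfst, hfst, hzb']
        exact h2
      have hr2 : zb'' ∈ Set.range (r.fiberι (r zb')) := by
        rw [Scheme.Hom.range_fiberι]; exact hrr
      obtain ⟨w'', rfl⟩ := hr2
      have hsp1 : r.fiberι (r zb') w'' ⤳ zb' := by
        rw [← ((pullback.snd f g).fiberι s').isEmbedding.isInducing.specializes_iff, hzb']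
        exact hsp
      have hsp2 : w'' ⤳ w := by
        rw [← (r.fiberι (r zb')).isEmbedding.isInducing.specializes_iff, hw]
        exact hsp1
      rw [hmax w'' hsp2, hw, hzb']
    · intro hmax w'' hsp
      have hsp1 : r.fiberι (r zb') w'' ⤳ zb' := by
        have := hsp.map (r.fiberι (r zb')).continuous
        rwa [hw] at this
      have hsp2 : (pullback.snd f g).fiberι s' (r.fiberι (r zb') w'') ⤳ x' := by
        have := hsp1.map ((pullback.snd f g).fiberι s').continuous
        rwa [hzb'] at this
      have h1 : pullback.snd f g ((pullback.snd f g).fiberι s' (r.fiberι (r zb') w'')) =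
          pullback.snd f g x' := map_fiberι' (pullback.snd f g) s' _
      have h2 : pullback.fst f g ((pullback.snd f g).fiberι s' (r.fiberι (r zb') w'')) =
          pullback.fst f g x' := by
        rw [← hfst, map_fiberι' r (r zb') w'', hfst, hzb']
      have h3 := hmax _ h1 h2 hsp2
      have e1 : (pullback.snd f g).fiberι s' (r.fiberι (r zb') w'') =
          (pullback.snd f g).fiberι s' zb' := h3.trans hzb'.symm
      have e2 : r.fiberι (r zb') w'' = r.fiberι (r zb') w :=
        (((pullback.snd f g).fiberι s').isEmbedding.injective e1).trans hw.symm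
      exact (r.fiberι (r zb')).isEmbedding.injective e2
  rw [step2, step3, hC1, h4, h5, hC2]

end Groth.Agent.Helper2.AssRel
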