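import Mathlib
import Groth.Prelude
import Groth.Agent.Lead.FlatBC2
import Groth.Agent.Lead.StalkPull2

set_option autoImplicit false
set_option linter.unusedVariables false
open CategoryTheory CategoryTheory.Limits AlgebraicGeometry TopologicalSpace Topology TensorProduct
open IsLocalRing
universe u

namespace Groth.Agent.Helper2.AssTS

section
variable {X Y S : Scheme.{u}} (f : X ⟶ S) (g : Y ⟶ S)

/-- the second pullback of a module flat over the base is flat over the first factor. -/
theorem isFlatOver_fst (G : Y.Modules) (hG : Coh.IsQCoh G) (hGfl : FlatMod.IsFlatOver g G) :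
    FlatMod.IsFlatOver (pullback.fst f g) ((Scheme.Modules.pullback (pullback.snd f g)).obj G) := by
  intro z
  exact Groth.Agent.Lead.FlatBC.main_baseChange g (pullback.fst f g) (pullback.snd f g) f
    (IsPullback.of_hasPullback f g).flip G hG z (hGfl _)

/-- the comparison morphism from the fibre of the first projection over `x` to the fibre of `g`
over `f x`. -/
noncomputable def fibMap (x : X) : (pullback.fst f g).fiber x ⟶ g.fiber (f x) :=
  pullback.map _ _ _ _ (pullback.snd f g) (Spec.map (f.residueFieldMap x)) f
    (IsPullback.of_hasPullback f g).flip.w.symm (by simp)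

theorem isPullback_fibMap (x : X) :
    IsPullback (fibMap f g x) ((pullback.fst f g).fiberToSpecResidueField x)
      (g.fiberToSpecResidueField (f x)) (Spec.map (f.residueFieldMap x)) :=
  isPullback_fiberToSpecResidueField_of_isPullback (IsPullback.of_hasPullback f g).flip x

theorem fibMap_fiberι (x : X) :
    fibMap f g x ≫ g.fiberι (f x) = (pullback.fst f g).fiberι x ≫ pullback.snd f g := by
  unfold fibMap Scheme.Hom.fiberι
  exact pullback.lift_fst _ _ _

instance flat_fibMap (x : X) : Flat (fibMap f g x) := by
  haveI : Flat (Spec.map (f.residueFieldMap x)) := by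
    rw [Flat.SpecMap_iff]
    letI : Algebra (S.residueField (f x)) (X.residueField x) := (f.residueFieldMap x).hom.toAlgebra
    exact (inferInstance : Module.Flat (S.residueField (f x)) (X.residueField x))
  exact MorphismProperty.of_isPullback (isPullback_fibMap f g x).flip inferInstance

/-- the restriction of the pullback of `G` to the fibre over `x` is the pullback of the
restriction of `G` to the fibre over `f x`. -/
noncomputable def fibModIso (x : X) (G : Y.Modules) :
    (Scheme.Modules.pullback ((pullback.fst f g).fiberι x)).obj
        ((Scheme.Modules.pullback (pullback.snd f g)).obj G) ≅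
      (Scheme.Modules.pullback (fibMap f g x)).obj
        ((Scheme.Modules.pullback (g.fiberι (f x))).obj G) :=
  (Scheme.Modules.pullbackComp _ _).app G ≪≫
    (Scheme.Modules.pullbackCongr (fibMap_fiberι f g x).symm).app G ≪≫
    ((Scheme.Modules.pullbackComp _ _).app G).symm

end

end Groth.Agent.Helper2.AssTS
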