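import Mathlib
import Groth.Prelude
import Groth.Agent.Helper2.AssTS1

set_option autoImplicit false
set_option linter.unusedVariables false
open CategoryTheory CategoryTheory.Limits AlgebraicGeometry TopologicalSpace Topology TensorProduct
open IsLocalRing
universe u

namespace Groth.Agent.Helper2.AssTS

section
variable {X Y S : Scheme.{u}} (f : X ⟶ S) (g : Y ⟶ S) (x : X) (y : Y)

/-- the scheme `Spec κ(x) ×_S Spec κ(y)`. -/
noncomputable abbrev TT : Scheme.{u} :=
  pullback (X.fromSpecResidueField x ≫ f) (Y.fromSpecResidueField y ≫ g)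

/-- the canonical monomorphism `Spec κ(x) ×_S Spec κ(y) ⟶ X ×_S Y`. -/
noncomputable abbrev jj : TT f g x y ⟶ pullback f g :=
  pullback.map (X.fromSpecResidueField x ≫ f) (Y.fromSpecResidueField y ≫ g) f g
    (X.fromSpecResidueField x) (Y.fromSpecResidueField y) (𝟙 S) (Category.comp_id _)
    (Category.comp_id _)

/-- the composite of the fibre over `x` to `Y`. -/
noncomputable abbrev hh : (pullback.fst f g).fiber x ⟶ Y := fibMap f g x ≫ g.fiberι (f x)

theorem hh_eq : hh f g x = (pullback.fst f g).fiberι x ≫ pullback.snd f g := fibMap_fiberι f g x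

theorem jj_fst : jj f g x y ≫ pullback.fst f g = pullback.fst _ _ ≫ X.fromSpecResidueField x :=
  pullback.lift_fst _ _ _

theorem jj_snd : jj f g x y ≫ pullback.snd f g = pullback.snd _ _ ≫ Y.fromSpecResidueField y :=
  pullback.lift_snd _ _ _

noncomputable def toW : TT f g x y ⟶ (pullback.fst f g).fiber x :=
  pullback.lift (jj f g x y) (pullback.fst _ _) (jj_fst f g x y)

theorem toW_fiberι : toW f g x y ≫ (pullback.fst f g).fiberι x = jj f g x y :=
  pullback.lift_fst _ _ _

theorem toW_toSpec : toW f g x y ≫ (pullback.fst f g).fiberToSpecResidueField x =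
    pullback.fst _ _ :=
  pullback.lift_snd _ _ _

noncomputable def isoHom : TT f g x y ⟶ (hh f g x).fiber y :=
  pullback.lift (toW f g x y) (pullback.snd _ _) (by
    rw [hh_eq, ← Category.assoc, toW_fiberι, jj_snd])

theorem isoHom_fiberι : isoHom f g x y ≫ (hh f g x).fiberι y = toW f g x y :=
  pullback.lift_fst _ _ _

theorem isoHom_toSpec : isoHom f g x y ≫ (hh f g x).fiberToSpecResidueField y =
    pullback.snd _ _ :=
  pullback.lift_snd _ _ _

noncomputable def isoInv : (hh f g x).fiber y ⟶ TT f g x y :=
  pullback.lift ((hh f g x).fiberι y ≫ (pullback.fst f g).fiberToSpecResidueField x)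
    ((hh f g x).fiberToSpecResidueField y) (by
      rw [Category.assoc, ← Category.assoc _ _ f, ← Scheme.Hom.fiber_fac, Category.assoc,
        pullback.condition, ← Category.assoc _ _ g, ← hh_eq, ← Category.assoc,
        Scheme.Hom.fiber_fac, Category.assoc])

theorem isoInv_fst : isoInv f g x y ≫ pullback.fst _ _ =
    (hh f g x).fiberι y ≫ (pullback.fst f g).fiberToSpecResidueField x :=
  pullback.lift_fst _ _ _

theorem isoInv_snd : isoInv f g x y ≫ pullback.snd _ _ =
    (hh f g x).fiberToSpecResidueField y :=
  pullback.lift_snd _ _ _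

theorem isoInv_jj : isoInv f g x y ≫ jj f g x y =
    (hh f g x).fiberι y ≫ (pullback.fst f g).fiberι x := by
  apply pullback.hom_ext
  · rw [Category.assoc, jj_fst, ← Category.assoc, isoInv_fst, Category.assoc, Category.assoc,
      Scheme.Hom.fiber_fac]
  · rw [Category.assoc, jj_snd, ← Category.assoc, isoInv_snd, Category.assoc, ← hh_eq,
      Scheme.Hom.fiber_fac]

/-- `Spec κ(x) ×_S Spec κ(y)` is the fibre over `y` of the fibre over `x`. -/
noncomputable def ttIso : TT f g x y ≅ (hh f g x).fiber y where
  hom := isoHom f g x y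
  inv := isoInv f g x y
  hom_inv_id := by
    apply pullback.hom_ext
    · rw [Category.assoc, isoInv_fst, ← Category.assoc, isoHom_fiberι, toW_toSpec, Category.id_comp]
    · rw [Category.assoc, isoInv_snd, isoHom_toSpec, Category.id_comp]
  inv_hom_id := by
    apply pullback.hom_ext
    · change (isoInv f g x y ≫ isoHom f g x y) ≫ (hh f g x).fiberι y = 𝟙 _ ≫ (hh f g x).fiberι y
      rw [Category.assoc, isoHom_fiberι, Category.id_comp]
      apply pullback.hom_ext
      · change (isoInv f g x y ≫ toW f g x y) ≫ (pullback.fst f g).fiberι x = _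
        rw [Category.assoc, toW_fiberι, isoInv_jj]
        rfl
      · change (isoInv f g x y ≫ toW f g x y) ≫ (pullback.fst f g).fiberToSpecResidueField x = _
        rw [Category.assoc, toW_toSpec, isoInv_fst]
        rfl
    · change (isoInv f g x y ≫ isoHom f g x y) ≫ (hh f g x).fiberToSpecResidueField y =
        𝟙 _ ≫ (hh f g x).fiberToSpecResidueField y
      rw [Category.assoc, isoHom_toSpec, isoInv_snd, Category.id_comp]

theorem ttIso_inv_jj : (ttIso f g x y).inv ≫ jj f g x y =
    (hh f g x).fiberι y ≫ (pullback.fst f g).fiberι x := isoInv_jj f g x y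

theorem ttIso_hom_fiberι : (ttIso f g x y).hom ≫ (hh f g x).fiberι y ≫ (pullback.fst f g).fiberι x =
    jj f g x y := by
  rw [← ttIso_inv_jj, Iso.hom_inv_id_assoc]

end

end Groth.Agent.Helper2.AssTS
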