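import Mathlib
import Groth.Prelude
import Groth.Agent.Helper2.AssTS2
import Groth.Agent.Helper2.AssTS3
import Groth.Agent.Helper2.AssTens6
import Groth.Agent.Lead.AssRestr

set_option autoImplicit false
set_option linter.unusedVariables false
open CategoryTheory CategoryTheory.Limits AlgebraicGeometry TopologicalSpace Topology TensorProduct
open IsLocalRing
universe u

namespace Groth.Agent.Helper2.AssTS

open Groth.Agent.Helper2.AssTens

/-- associated points of the structure sheaf transport along isomorphisms of schemes. -/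
theorem mem_ass_structure_iff_of_iso {T T' : Scheme.{u}} (φ : T ≅ T') (w : T) :
    w ∈ AssSch.Ass (Coh.structureModule T) ↔
      φ.hom w ∈ AssSch.Ass (Coh.structureModule T') := by
  rw [Groth.Agent.Helper3.AssBCC.mem_ass_iff, Groth.Agent.Helper3.AssBCC.mem_ass_iff]
  let e : T'.presheaf.stalk (φ.hom w) ≃+* T.presheaf.stalk w :=
    (asIso (φ.hom.stalkMap w)).commRingCatIsoToRingEquiv
  exact ⟨Groth.Agent.Helper3.AssBCC.maximalIdeal_mem_ass e.symm,
    Groth.Agent.Helper3.AssBCC.maximalIdeal_mem_ass e⟩

section
variable {X Y S : Scheme.{u}} (f : X ⟶ S) (g : Y ⟶ S)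
  [IsLocallyNoetherian X] [IsLocallyNoetherian Y] [IsLocallyNoetherian (pullback f g)]
  (F : X.Modules) (hF : Coh.IsQCoh F) (G : Y.Modules) (hG : Coh.IsQCoh G)
  (hGfl : FlatMod.IsFlatOver g G)

include hF hG hGfl in
/-- the associated points of `F ⊗_S G` in terms of the iterated fibres. -/
theorem mem_ass_tensorS_iff (x : X) (y : Y) (w : ↥((hh f g x).fiber y)) :
    (pullback.fst f g).fiberι x ((hh f g x).fiberι y w) ∈
        AssSch.Ass (CohB1.tensorMod ((Scheme.Modules.pullback (pullback.fst f g)).obj F)
          ((Scheme.Modules.pullback (pullback.snd f g)).obj G)) ↔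
      x ∈ AssSch.Ass F ∧
        fibMap f g x ((hh f g x).fiberι y w) ∈
          AssSch.Ass ((Scheme.Modules.pullback (g.fiberι (f x))).obj G) ∧
        w ∈ AssSch.Ass (Coh.structureModule ((hh f g x).fiber y)) := by
  haveI : G.IsQuasicoherent := hG
  haveI : ((Scheme.Modules.pullback (pullback.snd f g)).obj G).IsQuasicoherent :=
    Groth.Agent.Lead.StalkPull.isQuasicoherent_pullbackObj _ _
  let zb : ↥((pullback.fst f g).fiber x) := (hh f g x).fiberι y w
  haveI N1 : IsNoetherianRing (((pullback.fst f g).fiber x).presheaf.stalk zb) :=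
    isNoetherianRing_stalk_fiber (pullback.fst f g) x zb
  haveI N2 : IsNoetherianRing ((g.fiber (f x)).presheaf.stalk (fibMap f g x zb)) :=
    isNoetherianRing_stalk_fiber g (f x) _
  have step1 := isAssPoint_tensor_iff (pullback.fst f g)
    ((Scheme.Modules.pullback (pullback.snd f g)).obj G) F x zb
    (isFlatOver_fst f g G hG hGfl _)
  rw [map_fiberι (pullback.fst f g) x zb] at step1
  have step2 := Groth.Agent.Lead.AssRestr.isAssPoint_iff_of_iso (fibModIso f g x G) zb
  have step3 := isAssPoint_pullback_iff_of_flat (fibMap f g x)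
    ((Scheme.Modules.pullback (g.fiberι (f x))).obj G) zb
  have step4 := isAssociatedPrime_fibre_iff (fibMap f g x) (g.fiberι (f x))
    (fun v => (g.fiberι (f x)).stalkMap_surjective v) y w
  show Curv2.IsAssPoint _ _ ↔ _
  rw [step1, step2, step3, step4]
  rfl

end

end Groth.Agent.Helper2.AssTS
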