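import Mathlib
import Groth.Prelude
import Groth.Agent.Helper2.AssTS4

set_option autoImplicit false
set_option linter.unusedVariables false
open CategoryTheory CategoryTheory.Limits AlgebraicGeometry TopologicalSpace Topology TensorProduct
open IsLocalRing
universe u

namespace Groth.Agent.Helper2.AssTS

open Groth.Agent.Helper2.AssTens

theorem map_fiberι' {X Y : Scheme.{u}} (f : X ⟶ Y) (s : Y) (z : ↥(f.fiber s)) :
    f (f.fiberι s z) = s := by
  have : f.fiberι s z ∈ Set.range (f.fiberι s) := ⟨z, rfl⟩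
  rw [f.range_fiberι] at this
  exact this

section
variable {X Y S : Scheme.{u}} (f : X ⟶ S) (g : Y ⟶ S)
  [IsLocallyNoetherian X] [IsLocallyNoetherian Y] [IsLocallyNoetherian (pullback f g)]
  (F : X.Modules) (hF : Coh.IsQCoh F) (G : Y.Modules) (hG : Coh.IsQCoh G)
  (hGfl : FlatMod.IsFlatOver g G)

include hF hG hGfl in
theorem s4668 :
    AssSch.Ass (CohB1.tensorMod ((Scheme.Modules.pullback (pullback.fst f g)).obj F) ((Scheme.Modules.pullback (pullback.snd f g)).obj G)) =
      ⋃ (x : ↥X) (_ : x ∈ AssSch.Ass F) (y' : ↥(g.fiber (f x)))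
        (_ : y' ∈ AssSch.Ass ((Scheme.Modules.pullback (g.fiberι (f x))).obj G)) (y : ↥Y) (_ : y = g.fiberι (f x) y'),
        ⇑(pullback.map (X.fromSpecResidueField x ≫ f) (Y.fromSpecResidueField y ≫ g) f g (X.fromSpecResidueField x)
            (Y.fromSpecResidueField y) (𝟙 S) (Category.comp_id _) (Category.comp_id _)) ''
          AssSch.Ass (Coh.structureModule (pullback (X.fromSpecResidueField x ≫ f) (Y.fromSpecResidueField y ≫ g))) := by
  ext z
  simp only [Set.mem_iUnion, Set.mem_image, exists_prop]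
  constructor
  · intro hz
    obtain ⟨x, hx⟩ : ∃ x, x = pullback.fst f g z := ⟨_, rfl⟩
    have hzr : z ∈ Set.range ((pullback.fst f g).fiberι x) := by
      rw [Scheme.Hom.range_fiberι]; exact hx.symm
    obtain ⟨zb, rfl⟩ := hzr
    obtain ⟨y, hy⟩ : ∃ y, y = hh f g x zb := ⟨_, rfl⟩
    have hzbr : zb ∈ Set.range ((hh f g x).fiberι y) := by
      rw [Scheme.Hom.range_fiberι]; exact hy.symm
    obtain ⟨w, rfl⟩ := hzbr
    obtain ⟨h1, h2, h3⟩ := (mem_ass_tensorS_iff f g F hF G hG hGfl x y w).1 hz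
    refine ⟨x, h1, fibMap f g x ((hh f g x).fiberι y w), h2, y, hy, (ttIso f g x y).inv w, ?_, ?_⟩
    · rw [mem_ass_structure_iff_of_iso (ttIso f g x y)]
      have : (ttIso f g x y).hom ((ttIso f g x y).inv w) = w := by
        rw [← Scheme.Hom.comp_apply, Iso.inv_hom_id]; rfl
      rw [this]
      exact h3
    · have := congrArg (fun φ : (hh f g x).fiber y ⟶ pullback f g => φ w) (ttIso_inv_jj f g x y)
      exact this
  · rintro ⟨x, hx, y', hy', y, rfl, w0, hw0, rfl⟩
    have hj : jj f g x (g.fiberι (f x) y') w0 =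
        (pullback.fst f g).fiberι x ((hh f g x).fiberι (g.fiberι (f x) y')
          ((ttIso f g x (g.fiberι (f x) y')).hom w0)) := by
      have := congrArg (fun φ : TT f g x (g.fiberι (f x) y') ⟶ pullback f g => φ w0)
        (ttIso_hom_fiberι f g x (g.fiberι (f x) y'))
      exact this.symm
    change jj f g x (g.fiberι (f x) y') w0 ∈ _
    rw [hj]
    apply (mem_ass_tensorS_iff f g F hF G hG hGfl x _ _).2
    refine ⟨hx, ?_, (mem_ass_structure_iff_of_iso (ttIso f g x (g.fiberι (f x) y')) w0).1 hw0⟩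
    have hy'' : fibMap f g x ((hh f g x).fiberι (g.fiberι (f x) y')
        ((ttIso f g x (g.fiberι (f x) y')).hom w0)) = y' := by
      apply (g.fiberι (f x)).isEmbedding.injective
      exact map_fiberι' (hh f g x) (g.fiberι (f x) y') _
    rw [hy'']
    exact hy'

end

end Groth.Agent.Helper2.AssTS
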