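import Mathlib
import Groth.Prelude
import Groth.Agent.Helper2.AssTS5

set_option autoImplicit false
set_option linter.unusedVariables false
open CategoryTheory CategoryTheory.Limits AlgebraicGeometry TopologicalSpace Topology TensorProduct
open IsLocalRing
universe u

namespace Groth.Agent.Helper2.AssTS

open Groth.Agent.Helper2.AssTens

/-- associated points of a module flat over the base. -/
theorem isAssPoint_iff_of_isFlatOverAt {Y S : Scheme.{u}} (g : Y ⟶ S) (G : Y.Modules)
    [G.IsQuasicoherent] (s : S) (yb : ↥(g.fiber s))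
    [IsNoetherianRing (Y.presheaf.stalk (g.fiberι s yb))]
    [IsNoetherianRing (S.presheaf.stalk (g (g.fiberι s yb)))]
    (hfl : FlatMod.IsFlatOverAt g G (g.fiberι s yb)) :
    Curv2.IsAssPoint G (g.fiberι s yb) ↔
      g (g.fiberι s yb) ∈ AssSch.Ass (Coh.structureModule S) ∧
        Curv2.IsAssPoint ((Scheme.Modules.pullback (g.fiberι s)).obj G) yb := by
  let x : Y := g.fiberι s yb
  letI algAB : Algebra (S.presheaf.stalk (g x)) (Y.presheaf.stalk x) :=
    (g.stalkMap x).hom.toAlgebra
  letI modAM : Module (S.presheaf.stalk (g x)) (G.presheaf.stalk x) :=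
    FlatMod.moduleStalkOver g G x
  haveI : IsScalarTower (S.presheaf.stalk (g x)) (Y.presheaf.stalk x) (G.presheaf.stalk x) :=
    IsScalarTower.of_algebraMap_smul (fun _ _ => rfl)
  haveI : IsLocalHom (algebraMap (S.presheaf.stalk (g x)) (Y.presheaf.stalk x)) :=
    inferInstanceAs (IsLocalHom (g.stalkMap x).hom)
  haveI : Module.Flat (S.presheaf.stalk (g x)) (G.presheaf.stalk x) := hfl
  let e : G.presheaf.stalk x ≃ₗ[Y.presheaf.stalk x]
      (G.presheaf.stalk x) ⊗[S.presheaf.stalk (g x)] (S.presheaf.stalk (g x)) :=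
    (TensorProduct.AlgebraTensorModule.rid (S.presheaf.stalk (g x)) (Y.presheaf.stalk x)
      (G.presheaf.stalk x)).symm
  have hX := Groth.Agent.Helper5.FibStalk.s9501 g s yb
  obtain ⟨E'⟩ := Groth.Agent.Lead.StalkPull.nonempty_stalk_pullback_equiv (g.fiberι s) G yb
  have h2 := isAssociatedPrime_fibre_dict
    (A := S.presheaf.stalk (g x)) (B := Y.presheaf.stalk x) (M := G.presheaf.stalk x)
    ((g.fiberι s).stalkMap yb).hom hX.1 hX.2 E'
  rw [Groth.Agent.Helper3.AssBCC.mem_ass_iff]
  show IsAssociatedPrime _ _ ↔ IsAssociatedPrime _ _ ∧ IsAssociatedPrime _ _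
  rw [e.isAssociatedPrime_iff, isAssociatedPrime_tensor_iff, h2]

end Groth.Agent.Helper2.AssTS
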