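import Mathlib
import Groth.Prelude
import Groth.Agent.Helper2.AssTS6

set_option autoImplicit false
set_option linter.unusedVariables false
open CategoryTheory CategoryTheory.Limits AlgebraicGeometry TopologicalSpace Topology TensorProduct
open IsLocalRing
universe u

namespace Groth.Agent.Helper2.AssTS

open Groth.Agent.Helper2.AssTens

section
variable {X Y S : Scheme.{u}} (f : X ⟶ S) (g : Y ⟶ S)
  [IsLocallyNoetherian X] [IsLocallyNoetherian Y] [IsLocallyNoetherian S]
  [IsLocallyNoetherian (pullback f g)]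
  (F : X.Modules) (hF : Coh.IsQCoh F) (G : Y.Modules) (hG : Coh.IsQCoh G)
  (hGfl : FlatMod.IsFlatOver g G)

include hG hGfl in
/-- associated points of `G` in terms of the fibres. -/
theorem mem_ass_iff_fibre (s : S) (yb : ↥(g.fiber s)) :
    g.fiberι s yb ∈ AssSch.Ass G ↔
      s ∈ AssSch.Ass (Coh.structureModule S) ∧
        yb ∈ AssSch.Ass ((Scheme.Modules.pullback (g.fiberι s)).obj G) := by
  haveI : G.IsQuasicoherent := hG
  have := isAssPoint_iff_of_isFlatOverAt g G s yb (hGfl _)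
  rw [map_fiberι' g s yb] at this
  exact this

include hF hG hGfl in
theorem s4670 (hAss : ∀ x ∈ AssSch.Ass F, f x ∈ AssSch.Ass (Coh.structureModule S))
    (z : ↥(pullback f g)) (hz : z ∈ AssSch.Ass (CohB1.tensorMod ((Scheme.Modules.pullback (pullback.fst f g)).obj F) ((Scheme.Modules.pullback (pullback.snd f g)).obj G))) :
    pullback.snd f g z ∈ AssSch.Ass G := by
  obtain ⟨x, hx⟩ : ∃ x, x = pullback.fst f g z := ⟨_, rfl⟩
  have hzr : z ∈ Set.range ((pullback.fst f g).fiberι x) := by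
    rw [Scheme.Hom.range_fiberι]; exact hx.symm
  obtain ⟨zb, rfl⟩ := hzr
  obtain ⟨y, hy⟩ : ∃ y, y = hh f g x zb := ⟨_, rfl⟩
  have hzbr : zb ∈ Set.range ((hh f g x).fiberι y) := by
    rw [Scheme.Hom.range_fiberι]; exact hy.symm
  obtain ⟨w, rfl⟩ := hzbr
  obtain ⟨h1, h2, h3⟩ := (mem_ass_tensorS_iff f g F hF G hG hGfl x y w).1 hz
  have hq : pullback.snd f g ((pullback.fst f g).fiberι x ((hh f g x).fiberι y w)) =
      g.fiberι (f x) (fibMap f g x ((hh f g x).fiberι y w)) := by
    have := congrArg (fun φ : (pullback.fst f g).fiber x ⟶ Y => φ ((hh f g x).fiberι y w))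
      (hh_eq f g x)
    exact this.symm
  rw [hq]
  exact (mem_ass_iff_fibre g G hG hGfl (f x) _).2 ⟨hAss x h1, h2⟩

include hF hG hGfl in
theorem s4669 (hAss : ∀ x ∈ AssSch.Ass F, f x ∈ AssSch.Ass (Coh.structureModule S)) :
    AssSch.Ass (CohB1.tensorMod ((Scheme.Modules.pullback (pullback.fst f g)).obj F) ((Scheme.Modules.pullback (pullback.snd f g)).obj G)) =
      ⋃ (x : ↥X) (_ : x ∈ AssSch.Ass F) (y : ↥Y) (_ : y ∈ AssSch.Ass G) (_ : f x = g y),
        ⇑(pullback.map (X.fromSpecResidueField x ≫ f) (Y.fromSpecResidueField y ≫ g) f g (X.fromSpecResidueField x)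
            (Y.fromSpecResidueField y) (𝟙 S) (Category.comp_id _) (Category.comp_id _)) ''
          AssSch.Ass (Coh.structureModule (pullback (X.fromSpecResidueField x ≫ f) (Y.fromSpecResidueField y ≫ g))) := by
  rw [s4668 f g F hF G hG hGfl]
  ext z
  simp only [Set.mem_iUnion, Set.mem_image, exists_prop]
  constructor
  · rintro ⟨x, hx, y', hy', y, rfl, w0, hw0, rfl⟩
    exact ⟨x, hx, g.fiberι (f x) y',
      (mem_ass_iff_fibre g G hG hGfl (f x) y').2 ⟨hAss x hx, hy'⟩,
      (map_fiberι' g (f x) y').symm, w0, hw0, rfl⟩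
  · rintro ⟨x, hx, y, hy, hxy, w0, hw0, rfl⟩
    have hyr : y ∈ Set.range (g.fiberι (f x)) := by
      rw [Scheme.Hom.range_fiberι]; exact hxy.symm
    obtain ⟨y', rfl⟩ := hyr
    exact ⟨x, hx, y', ((mem_ass_iff_fibre g G hG hGfl (f x) y').1 hy).2, g.fiberι (f x) y', rfl,
      w0, hw0, rfl⟩

end

end Groth.Agent.Helper2.AssTS
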