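import Mathlib
import Groth.Prelude
import Groth.Agent.Helper2.AssTS3
import Groth.Agent.Helper2.FieldTensNE3

set_option autoImplicit false
set_option linter.unusedVariables false
open CategoryTheory CategoryTheory.Limits AlgebraicGeometry TopologicalSpace Topology TensorProduct
open IsLocalRing
universe u

namespace Groth.Agent.Helper2.AssTS

section
variable {X Y S : Scheme.{u}} (f : X ⟶ S) (g : Y ⟶ S) (x : X) (y : Y)

/-- `Spec κ(x) ×_S Spec κ(y)` is the spectrum of a tensor product of fields. -/
theorem nonempty_ttIso_spec (h : f x = g y) :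
    ∃ (k K L : Type u) (_ : Field k) (_ : Field K) (_ : Field L) (_ : Algebra k K)
      (_ : Algebra k L), Nonempty (TT f g x y ≅ Spec (CommRingCat.of (K ⊗[k] L))) := by
  let α : S.residueField (f x) ⟶ X.residueField x := f.residueFieldMap x
  let β : S.residueField (f x) ⟶ Y.residueField y :=
    (S.residueFieldCongr h).hom ≫ g.residueFieldMap y
  letI algK : Algebra (S.residueField (f x)) (X.residueField x) := α.hom.toAlgebra
  letI algL : Algebra (S.residueField (f x)) (Y.residueField y) := β.hom.toAlgebra
  refine ⟨S.residueField (f x), X.residueField x, Y.residueField y, inferInstance, inferInstance,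
    inferInstance, algK, algL, ⟨?_⟩⟩
  have ha : X.fromSpecResidueField x ≫ f = Spec.map α ≫ S.fromSpecResidueField (f x) :=
    (Scheme.Hom.SpecMap_residueFieldMap_fromSpecResidueField f x).symm
  have hb : Y.fromSpecResidueField y ≫ g = Spec.map β ≫ S.fromSpecResidueField (f x) := by
    rw [Spec.map_comp, Category.assoc, Scheme.residueFieldCongr_fromSpecResidueField]
    exact (Scheme.Hom.SpecMap_residueFieldMap_fromSpecResidueField g y).symm
  let e1 : TT f g x y ≅ pullback (Spec.map α ≫ S.fromSpecResidueField (f x))
      (Spec.map β ≫ S.fromSpecResidueField (f x)) := pullback.congrHom ha hb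
  let e2 : pullback (Spec.map α ≫ S.fromSpecResidueField (f x))
      (Spec.map β ≫ S.fromSpecResidueField (f x)) ≅ pullback (Spec.map α) (Spec.map β) :=
    (limit.isLimit _).conePointUniqueUpToIso
      (pullbackIsPullbackOfCompMono (Spec.map α) (Spec.map β) (S.fromSpecResidueField (f x)))
  exact e1 ≪≫ e2 ≪≫ pullbackSpecIso (S.residueField (f x)) (X.residueField x) (Y.residueField y)

/-- the structure sheaf of `Spec κ(x) ×_S Spec κ(y)` has no embedded associated points. -/
theorem noEmbedded_tt (h : f x = g y) :
    AssSch.NoEmbedded (Coh.structureModule (TT f g x y)) := by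
  obtain ⟨k, K, L, _, _, _, _, _, ⟨φ⟩⟩ := nonempty_ttIso_spec f g x y h
  exact Groth.Agent.Helper2.FieldTensNE.noEmbedded_structure_of_iso φ
    (Groth.Agent.Helper2.FieldTensNE.noEmbedded_spec_tensor k K L)

/-- the structure sheaf of the iterated fibre has no embedded associated points. -/
theorem noEmbedded_fiber_fiber (h : f x = g y) :
    AssSch.NoEmbedded (Coh.structureModule ((hh f g x).fiber y)) :=
  Groth.Agent.Helper2.FieldTensNE.noEmbedded_structure_of_iso (ttIso f g x y).symm
    (noEmbedded_tt f g x y h)

end

end Groth.Agent.Helper2.AssTS
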