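import Mathlib
import Groth.Prelude
import Groth.Agent.Helper2.AssTS7
import Groth.Agent.Helper2.AssTS8

set_option autoImplicit false
set_option linter.unusedVariables false
open CategoryTheory CategoryTheory.Limits AlgebraicGeometry TopologicalSpace Topology TensorProduct
open IsLocalRing
universe u

namespace Groth.Agent.Helper2.AssTS

open Groth.Agent.Helper2.AssTens

section
variable {X Y S : Scheme.{u}} (f : X ⟶ S) (g : Y ⟶ S)
  [IsLocallyNoetherian X] [IsLocallyNoetherian Y] [IsLocallyNoetherian (pullback f g)]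
  (F : X.Modules) (hF : Coh.IsQCoh F) (G : Y.Modules) (hG : Coh.IsQCoh G)
  (hGfl : FlatMod.IsFlatOver g G)

include hF hG hGfl in
/-- `F ⊗_S G` has no embedded associated points as soon as two comparable associated points
have the same images in `X` and `Y`. -/
theorem noEmbedded_tensorS_of (hFne : AssSch.NoEmbedded F)
    (hY : ∀ z ∈ AssSch.Ass (CohB1.tensorMod ((Scheme.Modules.pullback (pullback.fst f g)).obj F)
        ((Scheme.Modules.pullback (pullback.snd f g)).obj G)),
      ∀ z' ∈ AssSch.Ass (CohB1.tensorMod ((Scheme.Modules.pullback (pullback.fst f g)).obj F)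
        ((Scheme.Modules.pullback (pullback.snd f g)).obj G)), z' ⤳ z →
        pullback.fst f g z = pullback.fst f g z' → pullback.snd f g z = pullback.snd f g z') :
    AssSch.NoEmbedded (CohB1.tensorMod ((Scheme.Modules.pullback (pullback.fst f g)).obj F)
      ((Scheme.Modules.pullback (pullback.snd f g)).obj G)) := by
  intro z hz z' hz' hsp
  -- the images in `X` agree
  have hxx : pullback.fst f g z = pullback.fst f g z' := by
    have h1 : pullback.fst f g z ∈ AssSch.Ass F := by
      obtain ⟨x, hx⟩ : ∃ x, x = pullback.fst f g z := ⟨_, rfl⟩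
      have hzr : z ∈ Set.range ((pullback.fst f g).fiberι x) := by
        rw [Scheme.Hom.range_fiberι]; exact hx.symm
      obtain ⟨zb, rfl⟩ := hzr
      obtain ⟨y, hy⟩ : ∃ y, y = hh f g x zb := ⟨_, rfl⟩
      have hzbr : zb ∈ Set.range ((hh f g x).fiberι y) := by
        rw [Scheme.Hom.range_fiberι]; exact hy.symm
      obtain ⟨w, rfl⟩ := hzbr
      rw [← hx]
      exact ((mem_ass_tensorS_iff f g F hF G hG hGfl x y w).1 hz).1
    have h2 : pullback.fst f g z' ∈ AssSch.Ass F := by
      obtain ⟨x, hx⟩ : ∃ x, x = pullback.fst f g z' := ⟨_, rfl⟩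
      have hzr : z' ∈ Set.range ((pullback.fst f g).fiberι x) := by
        rw [Scheme.Hom.range_fiberι]; exact hx.symm
      obtain ⟨zb, rfl⟩ := hzr
      obtain ⟨y, hy⟩ : ∃ y, y = hh f g x zb := ⟨_, rfl⟩
      have hzbr : zb ∈ Set.range ((hh f g x).fiberι y) := by
        rw [Scheme.Hom.range_fiberι]; exact hy.symm
      obtain ⟨w, rfl⟩ := hzbr
      rw [← hx]
      exact ((mem_ass_tensorS_iff f g F hF G hG hGfl x y w).1 hz').1
    exact hFne _ h1 _ h2 (hsp.map (pullback.fst f g).continuous)
  have hyy := hY z hz z' hz' hsp hxx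
  -- decompose `z` and `z'` in the same iterated fibre
  obtain ⟨x, hx⟩ : ∃ x, x = pullback.fst f g z := ⟨_, rfl⟩
  have hzr : z ∈ Set.range ((pullback.fst f g).fiberι x) := by
    rw [Scheme.Hom.range_fiberι]; exact hx.symm
  have hzr' : z' ∈ Set.range ((pullback.fst f g).fiberι x) := by
    rw [Scheme.Hom.range_fiberι]; exact (hx.trans hxx).symm
  obtain ⟨zb, rfl⟩ := hzr
  obtain ⟨zb', rfl⟩ := hzr'
  have hq : ∀ t : ↥((pullback.fst f g).fiber x),
      pullback.snd f g ((pullback.fst f g).fiberι x t) = hh f g x t := by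
    intro t
    have := congrArg (fun φ : (pullback.fst f g).fiber x ⟶ Y => φ t) (hh_eq f g x)
    exact this.symm
  obtain ⟨y, hy⟩ : ∃ y, y = hh f g x zb := ⟨_, rfl⟩
  have hzbr : zb ∈ Set.range ((hh f g x).fiberι y) := by
    rw [Scheme.Hom.range_fiberι]; exact hy.symm
  have hzbr' : zb' ∈ Set.range ((hh f g x).fiberι y) := by
    rw [Scheme.Hom.range_fiberι]
    show hh f g x zb' = y
    rw [hy, ← hq, ← hq]
    exact hyy.symm
  obtain ⟨w, rfl⟩ := hzbr
  obtain ⟨w', rfl⟩ := hzbr'
  have h3 := ((mem_ass_tensorS_iff f g F hF G hG hGfl x y w).1 hz).2.2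
  have h3' := ((mem_ass_tensorS_iff f g F hF G hG hGfl x y w').1 hz').2.2
  have hsp1 : (hh f g x).fiberι y w' ⤳ (hh f g x).fiberι y w := by
    rw [← ((pullback.fst f g).fiberι x).isEmbedding.isInducing.specializes_iff]
    exact hsp
  have hsp2 : w' ⤳ w := by
    rw [← ((hh f g x).fiberι y).isEmbedding.isInducing.specializes_iff]
    exact hsp1
  have hfg : f x = g y := by
    rw [hy]
    exact (map_fiberι' g (f x) (fibMap f g x ((hh f g x).fiberι y w))).symm
  have := noEmbedded_fiber_fiber f g x y hfg w h3 w' h3' hsp2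
  rw [this]

end

end Groth.Agent.Helper2.AssTS
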