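import Mathlib
import Groth.Prelude
import Groth.Agent.Helper2.AssTS9

set_option autoImplicit false
set_option linter.unusedVariables false
open CategoryTheory CategoryTheory.Limits AlgebraicGeometry TopologicalSpace Topology TensorProduct
open IsLocalRing
universe u

namespace Groth.Agent.Helper2.AssTS

open Groth.Agent.Helper2.AssTens

section
variable {X Y S : Scheme.{u}} (f : X ⟶ S) (g : Y ⟶ S)
  [IsLocallyNoetherian X] [IsLocallyNoetherian Y] [IsLocallyNoetherian (pullback f g)]
  (F : X.Modules) (hF : Coh.IsQCoh F) (G : Y.Modules) (hG : Coh.IsQCoh G)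
  (hGfl : FlatMod.IsFlatOver g G)

include hF hG hGfl in
theorem s4671 [IsLocallyNoetherian S]
    (hAss : ∀ x ∈ AssSch.Ass F, f x ∈ AssSch.Ass (Coh.structureModule S))
    (hFne : AssSch.NoEmbedded F) (hGne : AssSch.NoEmbedded G) :
    AssSch.NoEmbedded (CohB1.tensorMod ((Scheme.Modules.pullback (pullback.fst f g)).obj F) ((Scheme.Modules.pullback (pullback.snd f g)).obj G)) := by
  refine noEmbedded_tensorS_of f g F hF G hG hGfl hFne ?_
  intro z hz z' hz' hsp _
  exact hGne _ (s4670 f g F hF G hG hGfl hAss z hz) _ (s4670 f g F hF G hG hGfl hAss z' hz')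
    (hsp.map (pullback.snd f g).continuous)

include hF hG hGfl in
theorem s4685 (hFne : AssSch.NoEmbedded F)
    (hGne : ∀ s : ↥S, AssSch.NoEmbedded ((Scheme.Modules.pullback (g.fiberι s)).obj G)) :
    AssSch.NoEmbedded (CohB1.tensorMod ((Scheme.Modules.pullback (pullback.fst f g)).obj F) ((Scheme.Modules.pullback (pullback.snd f g)).obj G)) := by
  refine noEmbedded_tensorS_of f g F hF G hG hGfl hFne ?_
  intro z hz z' hz' hsp hxx
  obtain ⟨x, hx⟩ : ∃ x, x = pullback.fst f g z := ⟨_, rfl⟩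
  have hzr : z ∈ Set.range ((pullback.fst f g).fiberι x) := by
    rw [Scheme.Hom.range_fiberι]; exact hx.symm
  have hzr' : z' ∈ Set.range ((pullback.fst f g).fiberι x) := by
    rw [Scheme.Hom.range_fiberι]; exact (hx.trans hxx).symm
  obtain ⟨zb, rfl⟩ := hzr
  obtain ⟨zb', rfl⟩ := hzr'
  have hq : ∀ t : ↥((pullback.fst f g).fiber x),
      pullback.snd f g ((pullback.fst f g).fiberι x t) =
        g.fiberι (f x) (fibMap f g x t) := by
    intro t
    have := congrArg (fun φ : (pullback.fst f g).fiber x ⟶ Y => φ t) (hh_eq f g x)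
    exact this.symm
  have hsp1 : zb' ⤳ zb := by
    rw [← ((pullback.fst f g).fiberι x).isEmbedding.isInducing.specializes_iff]
    exact hsp
  have h2 : fibMap f g x zb ∈ AssSch.Ass ((Scheme.Modules.pullback (g.fiberι (f x))).obj G) := by
    obtain ⟨y, hy⟩ : ∃ y, y = hh f g x zb := ⟨_, rfl⟩
    have hzbr : zb ∈ Set.range ((hh f g x).fiberι y) := by
      rw [Scheme.Hom.range_fiberι]; exact hy.symm
    obtain ⟨w, rfl⟩ := hzbr
    exact ((mem_ass_tensorS_iff f g F hF G hG hGfl x y w).1 hz).2.1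
  have h2' : fibMap f g x zb' ∈ AssSch.Ass ((Scheme.Modules.pullback (g.fiberι (f x))).obj G) := by
    obtain ⟨y, hy⟩ : ∃ y, y = hh f g x zb' := ⟨_, rfl⟩
    have hzbr : zb' ∈ Set.range ((hh f g x).fiberι y) := by
      rw [Scheme.Hom.range_fiberι]; exact hy.symm
    obtain ⟨w, rfl⟩ := hzbr
    exact ((mem_ass_tensorS_iff f g F hF G hG hGfl x y w).1 hz').2.1
  have := hGne (f x) _ h2 _ h2' (hsp1.map (fibMap f g x).continuous)
  rw [hq, hq, this]

end

end Groth.Agent.Helper2.AssTS
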