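import Mathlib
import Groth.Prelude

namespace Groth.Agent.Helper2.AutLift

open IsLocalRing

universe u

section KL

variable {A : Type u} [CommRing A] [IsLocalRing A]
  (t : A) (ht : t ∈ maximalIdeal A) (ht0 : t ≠ 0)
  (htm : ∀ a ∈ maximalIdeal A, a * t = 0)
  {B : Type u} [CommRing B] [Algebra A B]

include ht0 htm in
theorem mem_of_mul_eq_zero [Module.Flat A B] {b : B} (h : algebraMap A B t * b = 0) :
    b ∈ (maximalIdeal A).map (algebraMap A B) := by
  obtain ⟨n, a, y, hx, ha⟩ := Module.Flat.isTrivialRelation_of_sum_smul_eq_zero (R := A) (M := B)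
    (f := fun _ : Unit => t) (x := fun _ : Unit => b) (by simp [Algebra.smul_def, h])
  have hb : b = ∑ j, a () j • y j := hx ()
  rw [hb]
  refine Ideal.sum_mem _ fun j _ => ?_
  rw [Algebra.smul_def]
  refine Ideal.mul_mem_right _ _ (Ideal.mem_map_of_mem _ ?_)
  have h2 : t * a () j = 0 := by simpa using ha j
  by_contra hu
  have hunit : IsUnit (a () j) := by
    by_contra hnu
    exact hu ((IsLocalRing.mem_maximalIdeal _).mpr hnu)
  exact ht0 (by
    have := hunit.mul_left_eq_zero.mp h2
    exact this)

include htm in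
theorem mul_eq_zero_of_mem {x : B} (hx : x ∈ (maximalIdeal A).map (algebraMap A B)) :
    algebraMap A B t * x = 0 := by
  have hle : (maximalIdeal A).map (algebraMap A B) ≤
      LinearMap.ker (LinearMap.mul B B (algebraMap A B t)) := by
    rw [Ideal.map_le_iff_le_comap]
    intro a ha
    simp only [Ideal.mem_comap, LinearMap.mem_ker, LinearMap.mul_apply']
    rw [← map_mul, mul_comm, htm a ha, map_zero]
  exact hle hx

include ht htm in
theorem T_mul_T : algebraMap A B t * algebraMap A B t = 0 := by
  rw [← map_mul, htm t ht, map_zero]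

include ht in
theorem T_mem : algebraMap A B t ∈ (maximalIdeal A).map (algebraMap A B) :=
  Ideal.mem_map_of_mem _ ht

end KL

section Der

variable {k : Type u} [Field k] {B : Type u} [CommRing B] [Algebra k B]

/-- A function `D : B → B ⧸ I` which is additive, `k`-homogeneous, satisfies the Leibniz rule and
kills `I` descends to a `k`-derivation of `B ⧸ I`. -/
theorem exists_derivation (I : Ideal B) (D : B → B ⧸ I)
    (hadd : ∀ b c, D (b + c) = D b + D c)
    (hsmul : ∀ (c : k) (b : B), D (c • b) = c • D b)
    (hmul : ∀ b c, D (b * c) = Ideal.Quotient.mk I b * D c + Ideal.Quotient.mk I c * D b)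
    (hker : ∀ b ∈ I, D b = 0) :
    ∃ d : Derivation k (B ⧸ I) (B ⧸ I), ∀ b, d (Ideal.Quotient.mk I b) = D b := by
  classical
  have hD0 : D 0 = 0 := hker 0 I.zero_mem
  have hneg : ∀ b, D (-b) = -D b := by
    intro b
    have := hadd b (-b)
    rw [add_neg_cancel, hD0] at this
    exact (neg_eq_of_add_eq_zero_right this.symm).symm
  have hclass : ∀ b c, Ideal.Quotient.mk I b = Ideal.Quotient.mk I c → D b = D c := by
    intro b c h
    rw [Ideal.Quotient.eq] at h
    have h1 := hker _ h
    rw [sub_eq_add_neg, hadd, hneg] at h1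
    exact (sub_eq_zero.mp (by rw [sub_eq_add_neg]; exact h1))
  let sec : B ⧸ I → B := fun x => Classical.choose (Ideal.Quotient.mk_surjective x)
  have hsec : ∀ x, Ideal.Quotient.mk I (sec x) = x :=
    fun x => Classical.choose_spec (Ideal.Quotient.mk_surjective x)
  have hDsec : ∀ b, D (sec (Ideal.Quotient.mk I b)) = D b := fun b => hclass _ _ (hsec _)
  let d₀ : (B ⧸ I) →ₗ[k] (B ⧸ I) :=
    { toFun := fun x => D (sec x)
      map_add' := by
        intro x y
        obtain ⟨b, rfl⟩ := Ideal.Quotient.mk_surjective x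
        obtain ⟨c, rfl⟩ := Ideal.Quotient.mk_surjective y
        rw [← map_add, hDsec, hDsec, hDsec, hadd]
      map_smul' := by
        intro r x
        obtain ⟨b, rfl⟩ := Ideal.Quotient.mk_surjective x
        have : r • Ideal.Quotient.mk I b = Ideal.Quotient.mk I (r • b) := rfl
        rw [this, hDsec, hDsec, hsmul]
        rfl }
  have hd₀ : ∀ b, d₀ (Ideal.Quotient.mk I b) = D b := hDsec
  refine ⟨Derivation.mk' d₀ ?_, ?_⟩
  · intro x y
    obtain ⟨b, rfl⟩ := Ideal.Quotient.mk_surjective x
    obtain ⟨c, rfl⟩ := Ideal.Quotient.mk_surjective y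
    rw [← map_mul, hd₀, hd₀, hd₀, hmul, smul_eq_mul, smul_eq_mul]
  · intro b
    exact hd₀ b

end Der

section Main

variable {k : Type u} [Field k]
  {A : Type u} [CommRing A] [Algebra k A] [IsLocalRing A]
  (hres : ∀ a : A, ∃ c : k, a - algebraMap k A c ∈ maximalIdeal A)
  (t : A) (ht : t ∈ maximalIdeal A) (ht0 : t ≠ 0)
  (htm : ∀ a ∈ maximalIdeal A, a * t = 0)
  {B : Type u} [CommRing B] [Algebra A B] [Module.Flat A B] [Algebra k B] [IsScalarTower k A B]
  (τ : B ≃ₐ[A] B)
  (hτ0 : ∀ b : B, τ b - b ∈ (maximalIdeal A).map (algebraMap A B))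

include ht ht0 htm hτ0 in
theorem part1 (η : B ≃ₐ[A] B) (hη : ∀ b, ∃ c, η b = τ b + algebraMap A B t * c) :
    ∃! d : Derivation k (B ⧸ (maximalIdeal A).map (algebraMap A B))
          (B ⧸ (maximalIdeal A).map (algebraMap A B)),
        ∀ b b' : B, Ideal.Quotient.mk ((maximalIdeal A).map (algebraMap A B)) b' =
            d (Ideal.Quotient.mk ((maximalIdeal A).map (algebraMap A B)) b) →
          η b = τ b + algebraMap A B t * b' := by
  classical
  choose δ hδ using hη
  have uniq : ∀ b c, η b = τ b + algebraMap A B t * c →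
      Ideal.Quotient.mk ((maximalIdeal A).map (algebraMap A B)) c =
        Ideal.Quotient.mk ((maximalIdeal A).map (algebraMap A B)) (δ b) := by
    intro b c hc
    rw [Ideal.Quotient.eq]
    apply mem_of_mul_eq_zero t ht0 htm
    have := hδ b
    rw [hc] at this
    rw [mul_sub, sub_eq_zero]
    exact add_left_cancel this
  have hτmk : ∀ b, Ideal.Quotient.mk ((maximalIdeal A).map (algebraMap A B)) (τ b) =
      Ideal.Quotient.mk ((maximalIdeal A).map (algebraMap A B)) b := by
    intro b
    rw [Ideal.Quotient.eq]
    exact hτ0 b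
  have hTτ : ∀ b c, algebraMap A B t * (τ b * c) = algebraMap A B t * (b * c) := by
    intro b c
    have := mul_eq_zero_of_mem t htm (hτ0 b)
    linear_combination c * this
  have hηm : ∀ b ∈ (maximalIdeal A).map (algebraMap A B), η b = τ b := by
    intro b hb
    have hx : b ∈ (maximalIdeal A • (⊤ : Submodule A B)) := by
      rw [Ideal.smul_top_eq_map]; exact hb
    refine Submodule.smul_induction_on (p := fun x => η x = τ x) hx ?_ ?_
    · intro a ha n _
      rw [map_smul, map_smul, hδ n, smul_add, Algebra.smul_def a (_ * _), ← mul_assoc, ← map_mul,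
        htm a ha, map_zero, zero_mul, add_zero]
    · intro x y hx hy
      rw [map_add, map_add, hx, hy]
  obtain ⟨d, hd⟩ := exists_derivation (k := k) ((maximalIdeal A).map (algebraMap A B))
    (fun b => Ideal.Quotient.mk _ (δ b))
    (by
      intro b c
      rw [← map_add]
      refine (uniq _ _ ?_).symm
      rw [map_add, map_add, hδ b, hδ c]
      ring)
    (by
      intro c b
      have : c • Ideal.Quotient.mk ((maximalIdeal A).map (algebraMap A B)) (δ b) =
        Ideal.Quotient.mk ((maximalIdeal A).map (algebraMap A B)) (c • δ b) := rfl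
      rw [this]
      refine (uniq _ _ ?_).symm
      rw [← algebraMap_smul A c b, ← algebraMap_smul A c (δ b), map_smul, map_smul, hδ b,
        Algebra.smul_def, Algebra.smul_def, Algebra.smul_def]
      ring)
    (by
      intro b c
      rw [← hτmk b, ← hτmk c, ← map_mul, ← map_mul, ← map_add]
      refine (uniq _ _ ?_).symm
      rw [map_mul, map_mul, hδ b, hδ c]
      have := T_mul_T (B := B) t ht htm
      linear_combination (δ b * δ c) * this)
    (by
      intro b hb
      have h0 := (uniq b 0 (by rw [mul_zero, add_zero]; exact hηm b hb)).symm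
      rw [h0, map_zero])
  refine ⟨d, ?_, ?_⟩
  · intro b b' hb'
    rw [hd, Ideal.Quotient.eq] at hb'
    have := mul_eq_zero_of_mem t htm hb'
    rw [hδ b]
    linear_combination (-1 : B) * this
  · intro d' hd'
    ext x
    obtain ⟨b, rfl⟩ := Ideal.Quotient.mk_surjective x
    obtain ⟨b', hb'⟩ := Ideal.Quotient.mk_surjective
      (d' (Ideal.Quotient.mk ((maximalIdeal A).map (algebraMap A B)) b))
    rw [hd, ← hb']
    exact uniq b b' (hd' b b' hb')

include hres ht htm hτ0 in
theorem part2 (d : Derivation k (B ⧸ (maximalIdeal A).map (algebraMap A B))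
          (B ⧸ (maximalIdeal A).map (algebraMap A B))) :
    ∃ η : B ≃ₐ[A] B, (∀ b, ∃ c, η b = τ b + algebraMap A B t * c) ∧
      ∀ b b' : B, Ideal.Quotient.mk ((maximalIdeal A).map (algebraMap A B)) b' =
            d (Ideal.Quotient.mk ((maximalIdeal A).map (algebraMap A B)) b) →
          η b = τ b + algebraMap A B t * b' := by
  classical
  set T : B := algebraMap A B t with hT
  let l : B → B := fun b => Classical.choose (Ideal.Quotient.mk_surjective
    (d (Ideal.Quotient.mk ((maximalIdeal A).map (algebraMap A B)) b)))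
  have hl : ∀ b, Ideal.Quotient.mk ((maximalIdeal A).map (algebraMap A B)) (l b) = d (Ideal.Quotient.mk ((maximalIdeal A).map (algebraMap A B)) b) :=
    fun b => Classical.choose_spec (Ideal.Quotient.mk_surjective (d (Ideal.Quotient.mk ((maximalIdeal A).map (algebraMap A B)) b)))
  have key : ∀ b b', Ideal.Quotient.mk ((maximalIdeal A).map (algebraMap A B)) b' = d (Ideal.Quotient.mk ((maximalIdeal A).map (algebraMap A B)) b) → T * b' = T * l b := by
    intro b b' h
    have h1 : b' - l b ∈ ((maximalIdeal A).map (algebraMap A B)) := by rw [← Ideal.Quotient.eq, h, hl]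
    have := mul_eq_zero_of_mem t htm h1
    linear_combination this
  have hTT : T * T = 0 := T_mul_T t ht htm
  have hTτ : ∀ b, T * τ b = T * b := by
    intro b
    have := mul_eq_zero_of_mem t htm (hτ0 b)
    linear_combination this
  have hTmem : T ∈ ((maximalIdeal A).map (algebraMap A B)) := T_mem t ht
  let η₀ : B →ₐ[A] B :=
    { toFun := fun b => τ b + T * l b
      map_one' := by
        have : T * (0 : B) = T * l 1 := key 1 0 (by rw [map_one, map_zero, Derivation.map_one_eq_zero])
        rw [← this, mul_zero, add_zero, map_one]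
      map_mul' := by
        intro b c
        have h1 : T * (b * l c + c * l b) = T * l (b * c) := key _ _ (by
          rw [map_add, map_mul, map_mul, hl, hl, map_mul, Derivation.leibniz, smul_eq_mul,
            smul_eq_mul])
        rw [← h1, map_mul]
        linear_combination (-l c) * hTτ b + (-l b) * hTτ c + (-(l b * l c)) * hTT
      map_zero' := by
        have : T * (0 : B) = T * l 0 := key 0 0 (by rw [map_zero, map_zero])
        rw [← this, mul_zero, add_zero, map_zero]
      map_add' := by
        intro b c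
        have h1 : T * (l b + l c) = T * l (b + c) := key _ _ (by
          rw [map_add, hl, hl, map_add, map_add])
        rw [← h1, map_add]
        ring
      commutes' := by
        intro a
        obtain ⟨c, hc⟩ := hres a
        have h1 : Ideal.Quotient.mk ((maximalIdeal A).map (algebraMap A B)) (algebraMap A B a) = algebraMap k (B ⧸ ((maximalIdeal A).map (algebraMap A B))) c := by
          have h2 : algebraMap k (B ⧸ ((maximalIdeal A).map (algebraMap A B))) c = Ideal.Quotient.mk ((maximalIdeal A).map (algebraMap A B)) (algebraMap A B (algebraMap k A c)) := by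
            rw [← IsScalarTower.algebraMap_apply]; rfl
          rw [h2, Ideal.Quotient.eq, ← map_sub]
          exact Ideal.mem_map_of_mem _ hc
        have : T * (0 : B) = T * l (algebraMap A B a) := key _ 0 (by
          rw [h1, Derivation.map_algebraMap, map_zero])
        rw [← this, mul_zero, add_zero, τ.commutes] }
  have hη₀ : ∀ b, η₀ b = τ b + T * l b := fun _ => rfl
  have hinj : Function.Injective η₀ := by
    rw [injective_iff_map_eq_zero]
    intro b hb
    rw [hη₀] at hb
    have h1 : τ b = -(T * l b) := eq_neg_of_add_eq_zero_left hb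
    have h2 : b = -(T * τ.symm (l b)) := by
      have := congrArg τ.symm h1
      rw [AlgEquiv.symm_apply_apply, map_neg, map_mul, hT, τ.symm.commutes] at this
      exact this
    have h3 : Ideal.Quotient.mk ((maximalIdeal A).map (algebraMap A B)) b = 0 := by
      rw [Ideal.Quotient.eq_zero_iff_mem, h2]
      exact ((maximalIdeal A).map (algebraMap A B)).neg_mem (((maximalIdeal A).map (algebraMap A B)).mul_mem_right _ hTmem)
    have h4 : T * (0 : B) = T * l b := key b 0 (by rw [h3, map_zero, map_zero])
    rw [← h4, mul_zero, neg_zero] at h1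
    exact (map_eq_zero_iff τ τ.injective).mp h1
  have hsurj : Function.Surjective η₀ := by
    intro y
    set z := τ.symm y with hz
    refine ⟨z - T * τ.symm (l z), ?_⟩
    have h3 : Ideal.Quotient.mk ((maximalIdeal A).map (algebraMap A B)) (z - T * τ.symm (l z)) = Ideal.Quotient.mk ((maximalIdeal A).map (algebraMap A B)) z := by
      rw [Ideal.Quotient.eq, sub_sub_cancel_left]
      exact ((maximalIdeal A).map (algebraMap A B)).neg_mem (((maximalIdeal A).map (algebraMap A B)).mul_mem_right _ hTmem)
    have h4 : T * l z = T * l (z - T * τ.symm (l z)) := key _ _ (by rw [h3, hl])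
    rw [hη₀, ← h4, map_sub, map_mul, AlgEquiv.apply_symm_apply, hz, AlgEquiv.apply_symm_apply, hT,
      τ.commutes]
    ring
  refine ⟨AlgEquiv.ofBijective η₀ ⟨hinj, hsurj⟩, ?_, ?_⟩
  · intro b
    exact ⟨l b, rfl⟩
  · intro b b' h
    rw [key b b' h]
    rfl

include hres ht ht0 htm hτ0 in
theorem main
    (σ : (B ⧸ Ideal.span {algebraMap A B t}) ≃ₐ[A] (B ⧸ Ideal.span {algebraMap A B t}))
    (hτ : ∀ b : B, Ideal.Quotient.mk (Ideal.span {algebraMap A B t}) (τ b) =
      σ (Ideal.Quotient.mk (Ideal.span {algebraMap A B t}) b)) :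
    (∀ η : B ≃ₐ[A] B, (∀ b : B, Ideal.Quotient.mk (Ideal.span {algebraMap A B t}) (η b) =
        σ (Ideal.Quotient.mk (Ideal.span {algebraMap A B t}) b)) →
      ∃! d : Derivation k (B ⧸ (IsLocalRing.maximalIdeal A).map (algebraMap A B))
          (B ⧸ (IsLocalRing.maximalIdeal A).map (algebraMap A B)),
        ∀ b b' : B, Ideal.Quotient.mk ((IsLocalRing.maximalIdeal A).map (algebraMap A B)) b' =
            d (Ideal.Quotient.mk ((IsLocalRing.maximalIdeal A).map (algebraMap A B)) b) →
          η b = τ b + algebraMap A B t * b') ∧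
    (∀ d : Derivation k (B ⧸ (IsLocalRing.maximalIdeal A).map (algebraMap A B))
        (B ⧸ (IsLocalRing.maximalIdeal A).map (algebraMap A B)),
      ∃ η : B ≃ₐ[A] B, (∀ b : B, Ideal.Quotient.mk (Ideal.span {algebraMap A B t}) (η b) =
          σ (Ideal.Quotient.mk (Ideal.span {algebraMap A B t}) b)) ∧
        ∀ b b' : B, Ideal.Quotient.mk ((IsLocalRing.maximalIdeal A).map (algebraMap A B)) b' =
            d (Ideal.Quotient.mk ((IsLocalRing.maximalIdeal A).map (algebraMap A B)) b) →
          η b = τ b + algebraMap A B t * b') := by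
  refine ⟨fun η hη => part1 (k := k) t ht ht0 htm τ hτ0 η ?_, fun d => ?_⟩
  · intro b
    have h1 : η b - τ b ∈ Ideal.span {algebraMap A B t} := by
      rw [← Ideal.Quotient.eq, hη, hτ]
    obtain ⟨c, hc⟩ := Ideal.mem_span_singleton'.mp h1
    exact ⟨c, by linear_combination (-1 : B) * hc⟩
  · obtain ⟨η, h1, h2⟩ := part2 hres t ht htm τ hτ0 d
    refine ⟨η, fun b => ?_, h2⟩
    obtain ⟨c, hc⟩ := h1 b
    rw [← hτ, Ideal.Quotient.eq, hc, add_sub_cancel_left]
    exact Ideal.mul_mem_right _ _ (Ideal.mem_span_singleton_self _)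

end Main

end Groth.Agent.Helper2.AutLift
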