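import Mathlib
import Groth.Prelude
import Groth.Agent.Helper2.EtLiftE
set_option autoImplicit false

universe u

noncomputable section

namespace Groth.Agent.Helper2.AwayBij

open TensorProduct

/-- kernel of a surjection from a finite type algebra onto a finitely presented one is f.g. -/
theorem ker_fg_of_finiteType (R S S' : Type u) [CommRing R] [CommRing S]
    [CommRing S'] [Algebra R S] [Algebra R S'] [Algebra.FiniteType R S]
    [Algebra.FinitePresentation R S'] (f : S →ₐ[R] S') (hf : Function.Surjective f) :
    (RingHom.ker f.toRingHom).FG := by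
  obtain ⟨n, π, hπ⟩ := Algebra.FiniteType.iff_quotient_mvPolynomial''.mp
    (inferInstance : Algebra.FiniteType R S)
  have h1 := Algebra.FinitePresentation.ker_fG_of_surjective (f.comp π) (hf.comp hπ)
  have h2 := h1.map π.toRingHom
  convert h2
  simp_rw [RingHom.ker_eq_comap_bot, AlgHom.toRingHom_eq_coe, AlgHom.comp_toRingHom]
  rw [← Ideal.comap_comap, Ideal.map_comap_of_surjective (π : MvPolynomial (Fin n) R →+* S) hπ]

/-- an element annihilating a finitely generated ideal that dies in the localization -/
theorem exists_notMem_mul_eq_zero {S : Type u} [CommRing S] (q : Ideal S) [q.IsPrime]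
    (J : Ideal S) (hJ : J.FG)
    (h0 : ∀ j ∈ J, algebraMap S (Localization.AtPrime q) j = 0) :
    ∃ g : S, g ∉ q ∧ ∀ j ∈ J, g * j = 0 := by
  classical
  obtain ⟨T, rfl⟩ := hJ
  have key : ∀ T' : Finset S, (∀ j ∈ T', algebraMap S (Localization.AtPrime q) j = 0) →
      ∃ g : S, g ∉ q ∧ ∀ j ∈ T', g * j = 0 := by
    intro T'
    induction T' using Finset.induction_on with
    | empty => exact fun _ => ⟨1, fun h => (Ideal.IsPrime.ne_top inferInstance)
        ((Ideal.eq_top_iff_one q).mpr h), fun j hj => absurd hj (Finset.notMem_empty j)⟩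
    | insert a T' ha ih =>
      intro h
      obtain ⟨g, hg, hgT⟩ := ih (fun j hj => h j (Finset.mem_insert_of_mem hj))
      have ha0 := h a (Finset.mem_insert_self a T')
      rw [IsLocalization.map_eq_zero_iff q.primeCompl] at ha0
      obtain ⟨c, hc⟩ := ha0
      refine ⟨c * g, ?_, ?_⟩
      · intro hmem
        rcases Ideal.IsPrime.mem_or_mem inferInstance hmem with h1 | h1
        · exact c.2 h1
        · exact hg h1
      · intro j hj
        rcases Finset.mem_insert.mp hj with rfl | hj
        · rw [mul_assoc, mul_comm g, ← mul_assoc, hc, zero_mul]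
        · rw [mul_assoc, hgT j hj, mul_zero]
  obtain ⟨g, hg, hgT⟩ := key T (fun j hj => h0 j (Ideal.subset_span hj))
  refine ⟨g, hg, fun j hj => ?_⟩
  refine Submodule.span_induction ?_ ?_ ?_ ?_ hj
  · intro x hx; exact hgT x hx
  · exact mul_zero g
  · intro x y _ _ hx hy; rw [mul_add, hx, hy, add_zero]
  · intro a x _ hx; rw [smul_eq_mul, mul_left_comm, hx, mul_zero]

theorem s9166 (R S S' : Type u) [CommRing R] [CommRing S]
    [CommRing S'] [Algebra R S] [Algebra R S'] [Algebra.FiniteType R S] [Algebra.FinitePresentation R S']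
    (I : Ideal R) (f : S →ₐ[R] S') (hf : Function.Surjective f) (q : Ideal S) [q.IsPrime]
    (hq : I.map (algebraMap R S) ≤ q)
    (hker : ∀ j : S, f j = 0 →
      algebraMap S (Localization.AtPrime q) j ∈ I.map (algebraMap R (Localization.AtPrime q)))
    (hflat : letI : Module S S' := f.toRingHom.toModule
      Module.Flat R (LocalizedModule q.primeCompl S')) :
    ∃ g : S, g ∉ q ∧ Function.Bijective (Localization.awayMap f.toRingHom g) := by
  classical
  letI : Module S S' := f.toRingHom.toModule
  haveI : IsScalarTower R S S' := IsScalarTower.of_algebraMap_smul fun r x => by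
    show f (algebraMap R S r) * x = r • x
    rw [f.commutes, Algebra.smul_def]
  haveI : Module.Flat R (LocalizedModule q.primeCompl S') := hflat
  set J : Ideal S := RingHom.ker f.toRingHom with hJ
  have hJfg : J.FG := ker_fg_of_finiteType R S S' f hf
  let Sq := Localization.AtPrime q
  let fl : S →ₗ[S] S' := { toFun := f, map_add' := map_add f, map_smul' := fun a b => (by
    show f (a * b) = f a * f b
    exact map_mul f a b) }
  have hfl : Function.Surjective fl := hf
  let F : LocalizedModule q.primeCompl S →ₗ[S] LocalizedModule q.primeCompl S' :=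
    LocalizedModule.map q.primeCompl fl
  have hFsurj : Function.Surjective F := LocalizedModule.map_surjective q.primeCompl fl hfl
  let FR : Sq →ₗ[R] LocalizedModule q.primeCompl S' := F.restrictScalars R
  set Jq : Ideal Sq := J.map (algebraMap S Sq) with hJq
  have hJqfg : Jq.FG := hJfg.map _
  -- kernel of the localized map
  have hkerF : ∀ x : Sq, FR x = 0 ↔ x ∈ Jq := by
    intro x
    have h1 := LinearMap.ker_localizedMap_eq_localized₀_ker q.primeCompl
      (LocalizedModule.mkLinearMap q.primeCompl S) (LocalizedModule.mkLinearMap q.primeCompl S') fl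
    have h2 : FR x = 0 ↔ x ∈ LinearMap.ker (IsLocalizedModule.map q.primeCompl
      (LocalizedModule.mkLinearMap q.primeCompl S) (LocalizedModule.mkLinearMap q.primeCompl S') fl) :=
      Iff.rfl
    rw [h2, h1, Submodule.mem_localized₀]
    constructor
    · rintro ⟨j, hj, s, rfl⟩
      have hj' : j ∈ J := hj
      have : IsLocalizedModule.mk' (LocalizedModule.mkLinearMap q.primeCompl S) j s =
          IsLocalization.mk' Sq j s := by
        rw [IsLocalizedModule.mk'_eq_iff]
        show algebraMap S Sq j = (s : S) • IsLocalization.mk' Sq j s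
        rw [Algebra.smul_def, mul_comm, IsLocalization.mk'_spec]
      rw [this, IsLocalization.mk'_eq_mul_mk'_one]
      exact Ideal.mul_mem_right _ _ (Ideal.mem_map_of_mem _ hj')
    · intro hx
      rw [hJq, IsLocalization.mem_map_algebraMap_iff q.primeCompl] at hx
      obtain ⟨⟨⟨j, hj⟩, s⟩, hjs⟩ := hx
      refine ⟨j, hj, s, ?_⟩
      rw [IsLocalizedModule.mk'_eq_iff]
      show algebraMap S Sq j = (s : S) • x
      rw [Algebra.smul_def, mul_comm]
      exact hjs.symm
  -- Jq ≤ I Sq * Jq
  have hISq : I.map (algebraMap R Sq) ≤ Ideal.jacobson ⊥ := by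
    rw [IsLocalRing.jacobson_eq_maximalIdeal ⊥ bot_ne_top,
      ← Localization.AtPrime.map_eq_maximalIdeal (I := q)]
    rw [IsScalarTower.algebraMap_eq R S Sq, ← Ideal.map_map]
    exact Ideal.map_mono hq
  have hle : Jq ≤ I.map (algebraMap R Sq) * Jq := by
    intro k hk
    have hk0 : FR k = 0 := (hkerF k).mpr hk
    have hkI : k ∈ I • (⊤ : Submodule R Sq) := by
      rw [Ideal.smul_top_eq_map]
      have : Jq ≤ I.map (algebraMap R Sq) := by
        rw [hJq, Ideal.map_le_iff_le_comap]
        intro j hj
        exact hker j hj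
      exact this hk
    have h2 := Groth.Agent.Helper2.JacEt.mem_smul_ker_of_flat I FR hFsurj k hk0 hkI
    refine Submodule.smul_induction_on h2 ?_ ?_
    · intro a ha x hx
      rw [Algebra.smul_def]
      exact Ideal.mul_mem_mul (Ideal.mem_map_of_mem _ ha) ((hkerF x).mp hx)
    · intro x y hx hy
      exact Ideal.add_mem _ hx hy
  have hJq0 : Jq = ⊥ :=
    Submodule.eq_bot_of_le_smul_of_le_jacobson_bot (I.map (algebraMap R Sq)) Jq hJqfg
      (by rw [Ideal.smul_eq_mul]; exact hle) hISq
  have h0 : ∀ j ∈ J, algebraMap S Sq j = 0 := by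
    intro j hj
    have : algebraMap S Sq j ∈ Jq := Ideal.mem_map_of_mem _ hj
    rwa [hJq0, Ideal.mem_bot] at this
  obtain ⟨g, hg, hgJ⟩ := exists_notMem_mul_eq_zero q J hJfg h0
  refine ⟨g, hg, ?_, ?_⟩
  · rw [Localization.awayMap_injective_iff]
    intro a ha
    exact ⟨1, by rw [pow_one]; exact hgJ a ha⟩
  · rw [Localization.awayMap_surjective_iff]
    intro a
    obtain ⟨b, hb⟩ := hf a
    exact ⟨b, 0, by rw [pow_zero, one_mul]; exact hb⟩

end Groth.Agent.Helper2.AwayBij
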