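import Mathlib
import Groth.Agent.Helper2.FlatFibre

set_option linter.style.haveILetI false
set_option linter.unusedSectionVars false
set_option autoImplicit false

/-! Exactness of `B' ⊗[B] -` on sequences of `B`-modules from exactness of `A' ⊗[A] -`, for a
pushout square `B' = A' ⊗[A] B`; exactness of base change of four-term sequences with flat
cokernel. -/

namespace Groth.Agent.Helper2.BCExact

open TensorProduct

universe u

section Nat
variable (A B A' B' : Type u) [CommRing A] [CommRing B] [CommRing A'] [CommRing B']
  [Algebra A B] [Algebra A A'] [Algebra B B'] [Algebra A' B'] [Algebra A B']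
  [IsScalarTower A B B'] [IsScalarTower A A' B'] [Algebra.IsPushout A A' B B']
  {M N P : Type u} [AddCommGroup M] [Module B M] [Module A M] [IsScalarTower A B M]
  [AddCommGroup N] [Module B N] [Module A N] [IsScalarTower A B N]
  [AddCommGroup P] [Module B P] [Module A P] [IsScalarTower A B P]

theorem cancel_natural (g : M →ₗ[B] N) (x : A' ⊗[A] M) :
    g.baseChange B' ((Algebra.IsPushout.cancelBaseChange A A' B B' M).symm x) =
      (Algebra.IsPushout.cancelBaseChange A A' B B' N).symm
        ((g.restrictScalars A).lTensor A' x) := by
  induction x using TensorProduct.induction_on with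
  | zero => simp
  | add x y hx hy => simp only [map_add, hx, hy]
  | tmul s m =>
    simp only [Algebra.IsPushout.cancelBaseChange_symm_tmul, LinearMap.baseChange_tmul,
      LinearMap.lTensor_tmul, LinearMap.coe_restrictScalars]

theorem baseChange_injective (g : M →ₗ[B] N)
    (h : Function.Injective ((g.restrictScalars A).lTensor A')) :
    Function.Injective (g.baseChange B') := by
  intro z1 z2 hz
  obtain ⟨x1, rfl⟩ := (Algebra.IsPushout.cancelBaseChange A A' B B' M).symm.surjective z1
  obtain ⟨x2, rfl⟩ := (Algebra.IsPushout.cancelBaseChange A A' B B' M).symm.surjective z2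
  rw [cancel_natural, cancel_natural] at hz
  rw [h ((Algebra.IsPushout.cancelBaseChange A A' B B' N).symm.injective hz)]

theorem baseChange_exact (g : M →ₗ[B] N) (k : N →ₗ[B] P)
    (h : Function.Exact ((g.restrictScalars A).lTensor A') ((k.restrictScalars A).lTensor A')) :
    Function.Exact (g.baseChange B') (k.baseChange B') := by
  intro z
  obtain ⟨y, rfl⟩ := (Algebra.IsPushout.cancelBaseChange A A' B B' N).symm.surjective z
  rw [cancel_natural, LinearEquiv.map_eq_zero_iff, h y]
  constructor
  · rintro ⟨x, rfl⟩
    exact ⟨(Algebra.IsPushout.cancelBaseChange A A' B B' M).symm x, cancel_natural A B A' B' g x⟩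
  · rintro ⟨w, hw⟩
    obtain ⟨x, rfl⟩ := (Algebra.IsPushout.cancelBaseChange A A' B B' M).symm.surjective w
    rw [cancel_natural] at hw
    exact ⟨x, (Algebra.IsPushout.cancelBaseChange A A' B B' N).symm.injective hw⟩

end Nat

section Four
variable (A : Type u) [CommRing A] (X : Type u) [AddCommGroup X] [Module A X]
  {F E0 E1 G : Type u} [AddCommGroup F] [Module A F] [AddCommGroup E0] [Module A E0]
  [AddCommGroup E1] [Module A E1] [AddCommGroup G] [Module A G]
  (f : F →ₗ[A] E0) (u : E0 →ₗ[A] E1) (v : E1 →ₗ[A] G)

/-- tensoring a four-term exact sequence with flat middle-right terms and flat cokernel stays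
left exact -/
theorem lTensor_four [Module.Flat A E1] [Module.Flat A G]
    (hf : Function.Injective f) (hfu : Function.Exact f u) (huv : Function.Exact u v)
    (hv : Function.Surjective v) :
    Function.Injective (f.lTensor X) ∧ Function.Exact (f.lTensor X) (u.lTensor X) := by
  -- the image of `u`
  have hexI : Function.Exact (LinearMap.range u).subtype v := by
    intro x
    rw [huv x]
    constructor
    · intro h; exact ⟨⟨x, h⟩, rfl⟩
    · rintro ⟨y, rfl⟩; exact y.2
  have hIinj : Function.Injective ((LinearMap.range u).subtype.lTensor X) :=
    LinearMap.lTensor_injective_of_exact_of_flat v hv (LinearMap.range u).subtype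
      (LinearMap.range u).injective_subtype hexI X
  haveI : Module.Flat A (LinearMap.range u) :=
    Groth.Agent.Helper2.FlatFibre.flat_of_exact_of_flat (LinearMap.range u).subtype v
      (LinearMap.range u).injective_subtype hexI hv
  have hexR : Function.Exact f u.rangeRestrict := by
    intro x
    rw [← hfu x]
    constructor
    · intro h; exact congrArg Subtype.val h
    · intro h; exact Subtype.ext h
  refine ⟨LinearMap.lTensor_injective_of_exact_of_flat u.rangeRestrict
    u.surjective_rangeRestrict f hf hexR X, ?_⟩
  have h1 : Function.Exact (f.lTensor X) (u.rangeRestrict.lTensor X) :=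
    lTensor_exact X hexR u.surjective_rangeRestrict
  have h2 : u.lTensor X = ((LinearMap.range u).subtype.lTensor X) ∘ₗ
      (u.rangeRestrict.lTensor X) := by
    rw [← LinearMap.lTensor_comp]
    congr 1
  rw [h2, LinearMap.coe_comp]
  exact h1.comp_injective _ hIinj (map_zero _)

end Four

end Groth.Agent.Helper2.BCExact
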