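import Mathlib

namespace Groth.Agent.Helper2.BinomSeries

/-- truncated binomial series -/
noncomputable def E {A : Type*} [CommRing A] (m : ℕ) (y : A) (n : ℤ) : A :=
  ∑ k ∈ Finset.range (m+1), (Ring.choose n k) • y ^ k

lemma E_succ {A : Type*} [CommRing A] (m : ℕ) (y : A) (hy : y^(m+1) = 0) (n : ℤ) :
    E m y (n+1) = (1+y) * E m y n := by
  unfold E
  rw [add_mul, one_mul, Finset.sum_range_succ', Finset.mul_sum]
  conv_rhs => rw [Finset.sum_range_succ', Finset.sum_range_succ]
  simp only [Ring.choose_succ_succ, add_smul, Finset.sum_add_distrib, Ring.choose_zero_right,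
    pow_zero, one_smul]
  have h1 : ∀ k, y * (Ring.choose n k • y ^ k) = Ring.choose n k • y ^ (k+1) := by
    intro k
    rw [mul_smul_comm, pow_succ']
  simp only [h1, hy, smul_zero, add_zero]
  abel

lemma E_zero {A : Type*} [CommRing A] (m : ℕ) (y : A) : E m y 0 = 1 := by
  unfold E
  rw [Finset.sum_range_succ']
  simp [Ring.choose_zero_succ]

lemma val_zpow {A : Type*} [CommRing A] (m : ℕ) (u : Aˣ) (y : A) (hu : (u : A) = 1 + y)
    (hy : y^(m+1) = 0) (n : ℤ) : ((u ^ n : Aˣ) : A) = E m y n := by
  induction n using Int.induction_on with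
  | zero => simp [E_zero]
  | succ n ih =>
    rw [zpow_add_one, Units.val_mul, ih, hu, E_succ m y hy, mul_comm]
  | pred n ih =>
    have h := E_succ m y hy (-(n:ℤ) - 1)
    rw [sub_add_cancel] at h
    rw [zpow_sub_one, Units.val_mul, ih, h, ← hu, mul_comm, Units.inv_mul_cancel_left]
    
end Groth.Agent.Helper2.BinomSeries
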