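import Mathlib
import Groth.Prelude

set_option autoImplicit false

open AlgebraicGeometry CategoryTheory Topology

namespace Groth.Agent.Helper2.BrSch

universe u

section top

/-- points with no proper generization -/
def MaxGen (α : Type*) [TopologicalSpace α] : Set α := {η | ∀ y, y ⤳ η → η ⤳ y}

variable {α : Type*} [TopologicalSpace α]

theorem mem_genericPoints_iff [QuasiSober α] [T0Space α] (η : α) :
    η ∈ genericPoints α ↔ η ∈ MaxGen α := by
  constructor
  · intro h y hy
    -- closure {η} ⊆ closure {y}, the latter irreducible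
    have h1 : closure {η} ⊆ closure {y} := by
      rw [specializes_iff_closure_subset] at hy
      exact hy
    have h2 : IsPreirreducible (closure ({y} : Set α)) :=
      (isIrreducible_singleton.closure).isPreirreducible
    have h3 : closure {y} ⊆ closure {η} := h.2 (isIrreducible_singleton.closure) h1
    rw [specializes_iff_closure_subset]
    exact h3
  · intro h
    have hirr : IsIrreducible (closure ({η} : Set α)) := isIrreducible_singleton.closure
    obtain ⟨Z, hZ, hηZ, hmax⟩ := exists_preirreducible (closure ({η} : Set α)) hirr.isPreirreducible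
    have hZirr : IsIrreducible Z := ⟨hirr.nonempty.mono hηZ, hZ⟩
    have hZmem : Z ∈ irreducibleComponents α := ⟨hZirr, fun W hW hZW => (hmax W hW.isPreirreducible hZW).le⟩
    have hZcl : IsClosed Z := isClosed_of_mem_irreducibleComponents Z hZmem
    have hgen := hZirr.isGenericPoint_genericPoint hZcl
    set y := hZirr.genericPoint with hy
    have hyη : y ⤳ η := by
      rw [specializes_iff_mem_closure, hgen.def]
      exact hηZ (subset_closure rfl)
    have hηy : η ⤳ y := h y hyη
    have : closure ({η} : Set α) = Z := by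
      apply le_antisymm hηZ
      rw [← hgen.def]
      rw [specializes_iff_closure_subset] at hηy
      exact hηy
    show closure {η} ∈ irreducibleComponents α
    rw [this]
    exact hZmem

theorem encard_components_eq [QuasiSober α] [T0Space α] (u : α) :
    {Z : Set α | Z ∈ irreducibleComponents α ∧ u ∈ Z}.encard =
      {η : α | η ∈ MaxGen α ∧ η ⤳ u}.encard := by
  have himg : (fun η : α => closure ({η} : Set α)) '' {η : α | η ∈ MaxGen α ∧ η ⤳ u} =
      {Z : Set α | Z ∈ irreducibleComponents α ∧ u ∈ Z} := by
    ext Z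
    constructor
    · rintro ⟨η, ⟨h1, h2⟩, rfl⟩
      exact ⟨(mem_genericPoints_iff η).2 h1, specializes_iff_mem_closure.1 h2⟩
    · rintro ⟨hZ, huZ⟩
      have hgen := genericPoints.isGenericPoint_ofComponent ⟨Z, hZ⟩
      refine ⟨(genericPoints.ofComponent ⟨Z, hZ⟩).1, ⟨?_, ?_⟩, hgen.def⟩
      · exact (mem_genericPoints_iff _).1 (genericPoints.ofComponent ⟨Z, hZ⟩).2
      · rw [specializes_iff_mem_closure, hgen.def]
        exact huZ
  rw [← himg]
  apply Set.InjOn.encard_image
  intro a _ b _ hab
  have h1 : IsGenericPoint a (closure {b}) := hab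
  have h2 : IsGenericPoint b (closure {b}) := rfl
  exact h1.eq h2

theorem image_maxGen {β : Type*} [TopologicalSpace β] (j : β → α) (hj : IsEmbedding j) (u : α)
    (hr : Set.range j = {y | y ⤳ u}) :
    j '' MaxGen β = {η : α | η ∈ MaxGen α ∧ η ⤳ u} := by
  ext η
  constructor
  · rintro ⟨t, ht, rfl⟩
    have htu : j t ⤳ u := by
      have : j t ∈ Set.range j := ⟨t, rfl⟩
      rw [hr] at this
      exact this
    refine ⟨?_, htu⟩
    intro y hy
    have hyu : y ⤳ u := hy.trans htu
    have : y ∈ Set.range j := by rw [hr]; exact hyu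
    obtain ⟨s, rfl⟩ := this
    rw [hj.isInducing.specializes_iff] at hy ⊢
    exact ht s hy
  · rintro ⟨h1, h2⟩
    have : η ∈ Set.range j := by rw [hr]; exact h2
    obtain ⟨t, rfl⟩ := this
    refine ⟨t, ?_, rfl⟩
    intro s hs
    have := h1 (j s) ((hj.isInducing.specializes_iff).2 hs)
    exact (hj.isInducing.specializes_iff).1 this

theorem maxGen_primeSpectrum (R : Type*) [CommRing R] :
    MaxGen (PrimeSpectrum R) = {t | t.asIdeal ∈ minimalPrimes R} := by
  ext t
  constructor
  · intro h
    refine ⟨⟨t.isPrime, bot_le⟩, ?_⟩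
    rintro q ⟨hq, -⟩ hqt
    have h1 : (⟨q, hq⟩ : PrimeSpectrum R) ⤳ t := (PrimeSpectrum.le_iff_specializes _ _).1 hqt
    have h2 := h _ h1
    exact (PrimeSpectrum.le_iff_specializes _ _).2 h2
  · intro h y hy
    have h1 : y.asIdeal ≤ t.asIdeal := (PrimeSpectrum.le_iff_specializes y t).2 hy
    have h2 := h.2 ⟨y.isPrime, bot_le⟩ h1
    exact (PrimeSpectrum.le_iff_specializes t y).1 h2

theorem encard_maxGen_primeSpectrum (R : Type*) [CommRing R] :
    (MaxGen (PrimeSpectrum R)).encard = (minimalPrimes R).encard := by
  have : PrimeSpectrum.asIdeal '' MaxGen (PrimeSpectrum R) = minimalPrimes R := by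
    rw [maxGen_primeSpectrum]
    ext p
    constructor
    · rintro ⟨t, ht, rfl⟩
      exact ht
    · intro hp
      exact ⟨⟨p, hp.1.1⟩, hp, rfl⟩
  rw [← this]
  symm
  apply Set.InjOn.encard_image
  intro a _ b _ hab
  exact PrimeSpectrum.ext hab

end top

/-- the number of irreducible components through a point is the number of minimal primes of the
local ring -/
theorem encard_components_eq_minimalPrimes (U : Scheme.{u}) (x : U) :
    {Z : Set ↑U | Z ∈ irreducibleComponents ↑U ∧ x ∈ Z}.encard =
      (minimalPrimes ↑(U.presheaf.stalk x)).encard := by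
  rw [encard_components_eq x]
  have h1 := image_maxGen (⇑(U.fromSpecStalk x)) (U.fromSpecStalk x).isEmbedding x
    Scheme.range_fromSpecStalk
  rw [← h1, Set.InjOn.encard_image ((U.fromSpecStalk x).isEmbedding.injective.injOn)]
  exact encard_maxGen_primeSpectrum _

end Groth.Agent.Helper2.BrSch
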