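import Mathlib
import Groth.Prelude.Def_Found
import Groth.Prelude.Def_EGA4b
import Groth.Agent.Helper1.HensRed
import Groth.Agent.Helper1.HensTransfer
import Groth.Agent.Helper4.NormalLocal
import Groth.Agent.Helper5.SmNorm5

set_option autoImplicit false
set_option linter.dupNamespace false
set_option linter.style.haveILetI false
set_option linter.unusedSectionVars false

/-!
# Localizations of `B ⊗[R] Hens R Ω` at primes are domains when `B` is a normal ring
-/

universe u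

open IsLocalRing TensorProduct Polynomial

namespace Groth.Agent.Helper2.DomLoc

open Groth.Agent.Helper1.Hens Groth.Agent.Helper4.NormalLocal

variable {R : Type u} [CommRing R] {Ω : Type u} [Field Ω] [Algebra R Ω]
variable (B : Type u) [CommRing B] [Algebra R B]

/-- the stage map `B ⊗ C → B ⊗ Hens`. -/
noncomputable def θ {C : Type u} [CommRing C] [Algebra R C] [Algebra.Etale R C] (γ : C →ₐ[R] Ω) :
    B ⊗[R] C →ₐ[B] B ⊗[R] Hens R Ω :=
  Algebra.TensorProduct.map (AlgHom.id B B) (Hens.ι γ)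

theorem θ_tmul {C : Type u} [CommRing C] [Algebra R C] [Algebra.Etale R C] (γ : C →ₐ[R] Ω)
    (b : B) (c : C) : θ B γ (b ⊗ₜ[R] c) = b ⊗ₜ[R] Hens.ι γ c := by
  simp [θ]

/-- transition maps -/
noncomputable def tr {C D : Type u} [CommRing C] [Algebra R C] [CommRing D] [Algebra R D]
    (φ : C →ₐ[R] D) : B ⊗[R] C →ₐ[B] B ⊗[R] D :=
  Algebra.TensorProduct.map (AlgHom.id B B) φ

theorem tr_tmul {C D : Type u} [CommRing C] [Algebra R C] [CommRing D] [Algebra R D]
    (φ : C →ₐ[R] D) (b : B) (c : C) : tr B φ (b ⊗ₜ[R] c) = b ⊗ₜ[R] φ c := by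
  simp [tr]

theorem θ_tr {C D : Type u} [CommRing C] [Algebra R C] [Algebra.Etale R C] [CommRing D]
    [Algebra R D] [Algebra.Etale R D] (γ : C →ₐ[R] Ω) (δ : D →ₐ[R] Ω) (φ : C →ₐ[R] D)
    (hφ : ∀ c, δ (φ c) = γ c) (z : B ⊗[R] C) : θ B δ (tr B φ z) = θ B γ z := by
  induction z using TensorProduct.induction_on with
  | zero => simp
  | tmul b c => rw [tr_tmul, θ_tmul, θ_tmul, Hens.ι_comp γ δ φ hφ c]
  | add x y hx hy => rw [map_add, map_add, map_add, hx, hy]

/-- finitely many elements of `B ⊗ Hens` come from a common stage. -/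
theorem exists_stage {m : ℕ} (t : Fin m → B ⊗[R] Hens R Ω) :
    ∃ (C : Type u) (_ : CommRing C) (_ : Algebra R C) (_ : Algebra.Etale R C) (γ : C →ₐ[R] Ω),
      ∀ i, ∃ z : B ⊗[R] C, θ B γ z = t i := by
  classical
  choose k b h ht using fun i => TensorProduct.exists_sum_tmul_eq (t i)
  let F : Finset (Hens R Ω) := Finset.univ.biUnion (fun i => Finset.univ.image (h i))
  obtain ⟨C, _, _, _, γ, hC⟩ := Hens.exists_ι_eq_finset F
  refine ⟨C, inferInstance, inferInstance, inferInstance, γ, fun i => ?_⟩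
  have hmem : ∀ j, ∃ c : C, Hens.ι γ c = h i j := fun j => hC _ (by
    simp only [F, Finset.mem_biUnion, Finset.mem_univ, Finset.mem_image, true_and]
    exact ⟨i, j, rfl⟩)
  choose c hc using hmem
  refine ⟨∑ j, b i j ⊗ₜ[R] c j, ?_⟩
  rw [map_sum, ht i]
  exact Finset.sum_congr rfl fun j _ => by rw [θ_tmul, hc]

/-- finitely many elements of a stage which die in `Hens` die at a later stage. -/
theorem exists_kill (n : ℕ) : ∀ (C : Type u) [CommRing C] [Algebra R C] [Algebra.Etale R C]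
    (γ : C →ₐ[R] Ω) (e : Fin n → C), (∀ k, Hens.ι γ (e k) = 0) →
    ∃ (D : Type u) (_ : CommRing D) (_ : Algebra R D) (_ : Algebra.Etale R D) (δ : D →ₐ[R] Ω)
      (φ : C →ₐ[R] D), (∀ c, δ (φ c) = γ c) ∧ ∀ k, φ (e k) = 0 := by
  induction n with
  | zero =>
    intro C _ _ _ γ e _
    exact ⟨C, inferInstance, inferInstance, inferInstance, γ, AlgHom.id R C, fun _ => rfl,
      fun k => k.elim0⟩
  | succ n ih =>
    intro C _ _ _ γ e he
    obtain ⟨D₁, _, _, _, δ₁, φ₁, hφ₁, h0⟩ := Hens.exists_of_ι_eq_zero γ (e 0) (he 0)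
    obtain ⟨D, _, _, _, δ, φ, hφ, hk⟩ := ih D₁ δ₁ (fun k => φ₁ (e k.succ)) (fun k => by
      rw [Hens.ι_comp γ δ₁ φ₁ hφ₁]; exact he _)
    refine ⟨D, inferInstance, inferInstance, inferInstance, δ, φ.comp φ₁, fun c => ?_, fun k => ?_⟩
    · rw [AlgHom.comp_apply, hφ, hφ₁]
    · refine Fin.cases ?_ (fun k => ?_) k
      · rw [AlgHom.comp_apply, h0, map_zero]
      · exact hk k

/-- an element of a stage `B ⊗ C` which dies in `B ⊗ Hens` dies at a later stage. -/
theorem exists_refine {C : Type u} [CommRing C] [Algebra R C] [Algebra.Etale R C]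
    (γ : C →ₐ[R] Ω) (z : B ⊗[R] C) (hz : θ B γ z = 0) :
    ∃ (D : Type u) (_ : CommRing D) (_ : Algebra R D) (_ : Algebra.Etale R D) (δ : D →ₐ[R] Ω)
      (φ : C →ₐ[R] D), (∀ c, δ (φ c) = γ c) ∧ tr B φ z = 0 := by
  classical
  obtain ⟨n, b, c, rfl⟩ := TensorProduct.exists_sum_tmul_eq z
  have h1 : ∑ k, b k ⊗ₜ[R] Hens.ι γ (c k) = (0 : B ⊗[R] Hens R Ω) := by
    rw [← hz, map_sum]
    exact Finset.sum_congr rfl fun k _ => (θ_tmul B γ _ _).symm
  have hflat : Function.Injective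
      (LinearMap.rTensor (Hens R Ω) (Submodule.span R (Set.range b)).subtype) :=
    Module.Flat.rTensor_preserves_injective_linearMap _ (Submodule.injective_subtype _)
  obtain ⟨l, a, y, hy, ha⟩ :=
    TensorProduct.vanishesTrivially_of_sum_tmul_eq_zero_of_rTensor_injective R hflat h1
  -- lift the `y j`
  obtain ⟨C₂, _, _, _, γ₂, hC₂⟩ := Hens.exists_ι_eq_finset (Finset.univ.image y)
  have hmem : ∀ j, ∃ d : C₂, Hens.ι γ₂ d = y j := fun j => hC₂ _ (by simp)
  choose d hd using hmem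
  -- common stage
  haveI : Algebra.Etale C (C ⊗[R] C₂) := inferInstance
  haveI : Algebra.Etale R (C ⊗[R] C₂) := Algebra.Etale.comp R C _
  let γ₃ : C ⊗[R] C₂ →ₐ[R] Ω := Algebra.TensorProduct.productMap γ γ₂
  let φ₁ : C →ₐ[R] C ⊗[R] C₂ := Algebra.TensorProduct.includeLeft
  let φ₂ : C₂ →ₐ[R] C ⊗[R] C₂ := Algebra.TensorProduct.includeRight
  have hφ₁ : ∀ x, γ₃ (φ₁ x) = γ x := fun x => by
    simp [γ₃, φ₁]
  have hφ₂ : ∀ x, γ₃ (φ₂ x) = γ₂ x := fun x => by
    simp [γ₃, φ₂]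
  let e : Fin n → C ⊗[R] C₂ := fun k => φ₁ (c k) - ∑ j, a k j • φ₂ (d j)
  have he : ∀ k, Hens.ι γ₃ (e k) = 0 := by
    intro k
    simp only [e, map_sub, map_sum, map_smul]
    have hyk : Hens.ι γ (c k) = ∑ j, a k j • y j := hy k
    rw [Hens.ι_comp γ γ₃ φ₁ hφ₁, hyk, sub_eq_zero]
    exact Finset.sum_congr rfl fun j _ => by rw [Hens.ι_comp γ₂ γ₃ φ₂ hφ₂, hd]
  obtain ⟨D, _, _, _, δ, ψ, hψ, hk⟩ := exists_kill n (C ⊗[R] C₂) γ₃ e he
  refine ⟨D, inferInstance, inferInstance, inferInstance, δ, ψ.comp φ₁, fun x => ?_, ?_⟩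
  · rw [AlgHom.comp_apply, hψ, hφ₁]
  · have hck : ∀ k, ψ (φ₁ (c k)) = ∑ j, a k j • ψ (φ₂ (d j)) := by
      intro k
      have := hk k
      simp only [e, map_sub, map_sum, map_smul, sub_eq_zero] at this
      exact this
    rw [map_sum]
    calc ∑ k, tr B (ψ.comp φ₁) (b k ⊗ₜ[R] c k)
        = ∑ k, ∑ j, (a k j • b k) ⊗ₜ[R] ψ (φ₂ (d j)) := by
          refine Finset.sum_congr rfl fun k _ => ?_
          rw [tr_tmul, AlgHom.comp_apply, hck, TensorProduct.tmul_sum]
          exact Finset.sum_congr rfl fun j _ => by rw [TensorProduct.tmul_smul, TensorProduct.smul_tmul']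
      _ = ∑ j, (∑ k, a k j • b k) ⊗ₜ[R] ψ (φ₂ (d j)) := by
          rw [Finset.sum_comm]
          exact Finset.sum_congr rfl fun j _ => (TensorProduct.sum_tmul _ _ _).symm
      _ = 0 := by
          refine Finset.sum_eq_zero fun j _ => ?_
          rw [ha j, TensorProduct.zero_tmul]

variable {B}

/-- the main result: localizations at primes of `B ⊗ Hens` are domains for `B` a normal ring -/
theorem isDomain_atPrime (hB : EGA4.IsNormalRing B) (M : Ideal (B ⊗[R] Hens R Ω)) [M.IsPrime] :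
    IsDomain (Localization.AtPrime M) := by
  apply isDomain_of_dProp
  intro x y ⟨u, hu, hE⟩
  obtain ⟨C, _, _, _, γ, hC⟩ := exists_stage B ![x, y, u]
  obtain ⟨xC, hxC⟩ := hC 0
  obtain ⟨yC, hyC⟩ := hC 1
  obtain ⟨uC, huC⟩ := hC 2
  simp only [Matrix.cons_val_zero, Matrix.cons_val_one, Matrix.cons_val_two,
    Matrix.head_cons, Matrix.tail_cons] at hxC hyC huC
  have hz : θ B γ (uC * (xC * yC)) = 0 := by
    rw [map_mul, map_mul, hxC, hyC, huC, hE]
  obtain ⟨D, _, _, _, δ, φ, hφ, h0⟩ := exists_refine B γ _ hz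
  have hxD : θ B δ (tr B φ xC) = x := by rw [θ_tr B γ δ φ hφ, hxC]
  have hyD : θ B δ (tr B φ yC) = y := by rw [θ_tr B γ δ φ hφ, hyC]
  have huD : θ B δ (tr B φ uC) = u := by rw [θ_tr B γ δ φ hφ, huC]
  haveI : (M.comap (θ B δ).toRingHom).IsPrime := Ideal.comap_isPrime _ _
  have hD : EGA4.IsNormalRing (B ⊗[R] D) := (Groth.Agent.Helper5.SmNorm.s1182 B (B ⊗[R] D)).1 hB
  obtain ⟨hd, -⟩ := hD (M.comap (θ B δ).toRingHom)
  have hDP : DProp (M.comap (θ B δ).toRingHom) := dProp_of_isDomain _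
  have huD' : tr B φ uC ∉ M.comap (θ B δ).toRingHom := by
    intro h
    apply hu
    rw [← huD]
    exact h
  rw [map_mul, map_mul] at h0
  rcases hDP (tr B φ xC) (tr B φ yC) ⟨tr B φ uC, huD', h0⟩ with ⟨v, hv, hvx⟩ | ⟨v, hv, hvy⟩
  · left
    refine ⟨θ B δ v, hv, ?_⟩
    rw [← hxD, ← map_mul, hvx, map_zero]
  · right
    refine ⟨θ B δ v, hv, ?_⟩
    rw [← hyD, ← map_mul, hvy, map_zero]

end Groth.Agent.Helper2.DomLoc
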