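import Mathlib

set_option autoImplicit false
set_option linter.style.haveILetI false

/-!
# Contraction is a bijection on minimal primes for `R ⊆ T` with `T ⊆ W⁻¹R`
-/

namespace Groth.Agent.Helper2.MinCondW

section

variable {R T : Type*} [CommRing R] [CommRing T] [Algebra R T]
  (hinj : Function.Injective (algebraMap R T)) (W : Submonoid R)
  (hcond : ∀ x : T, ∃ w ∈ W, ∃ r : R, algebraMap R T w * x = algebraMap R T r)

/-- the extension of a prime of `R` disjoint from `W`. -/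
def ext (P : Ideal R) [P.IsPrime] (hWP : ∀ w ∈ W, w ∉ P) : Ideal T where
  carrier := {x | ∃ w ∈ W, ∃ r ∈ P, algebraMap R T w * x = algebraMap R T r}
  add_mem' := by
    rintro x y ⟨w, hw, r, hr, hx⟩ ⟨v, hv, s, hs, hy⟩
    refine ⟨w * v, W.mul_mem hw hv, v * r + w * s,
      P.add_mem (P.mul_mem_left v hr) (P.mul_mem_left w hs), ?_⟩
    rw [map_add, map_mul, map_mul, map_mul, ← hx, ← hy]
    ring
  zero_mem' := ⟨1, W.one_mem, 0, P.zero_mem, by rw [mul_zero, map_zero]⟩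
  smul_mem' := by
    rintro c x ⟨w, hw, r, hr, hx⟩
    obtain ⟨v, hv, s, hs⟩ := hcond c
    refine ⟨v * w, W.mul_mem hv hw, s * r, P.mul_mem_left s hr, ?_⟩
    rw [map_mul, map_mul, ← hs, ← hx, smul_eq_mul]
    ring

include hinj hcond

theorem mem_ext (P : Ideal R) [P.IsPrime] (hWP : ∀ w ∈ W, w ∉ P) (x : T) :
    x ∈ ext W hcond P hWP ↔ ∃ w ∈ W, ∃ r ∈ P, algebraMap R T w * x = algebraMap R T r := Iff.rfl

theorem ext_isPrime (P : Ideal R) [P.IsPrime] (hWP : ∀ w ∈ W, w ∉ P) :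
    (ext W hcond P hWP).IsPrime := by
  refine ⟨?_, ?_⟩
  · intro htop
    have h1 : (1 : T) ∈ ext W hcond P hWP := htop ▸ Submodule.mem_top
    obtain ⟨w, hw, r, hr, h⟩ := h1
    rw [mul_one] at h
    exact hWP w hw ((hinj h) ▸ hr)
  · rintro x y ⟨w, hw, r, hr, hxy⟩
    obtain ⟨w₁, hw₁, a, ha⟩ := hcond x
    obtain ⟨w₂, hw₂, b, hb⟩ := hcond y
    have h1 : algebraMap R T (w * (a * b)) = algebraMap R T (w₁ * w₂ * r) := by
      rw [map_mul, map_mul, map_mul, map_mul, ← ha, ← hb, ← hxy]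
      ring
    have h2 : w * (a * b) = w₁ * w₂ * r := hinj h1
    have h3 : w * (a * b) ∈ P := h2 ▸ P.mul_mem_left _ hr
    have h4 : a * b ∈ P :=
      (Ideal.IsPrime.mem_or_mem inferInstance h3).resolve_left (hWP w hw)
    rcases (Ideal.IsPrime.mem_or_mem inferInstance h4) with h | h
    · left; exact ⟨w₁, hw₁, a, h, ha⟩
    · right; exact ⟨w₂, hw₂, b, h, hb⟩

theorem comap_ext (P : Ideal R) [P.IsPrime] (hWP : ∀ w ∈ W, w ∉ P) :
    (ext W hcond P hWP).comap (algebraMap R T) = P := by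
  ext r
  rw [Ideal.mem_comap, mem_ext hinj]
  constructor
  · rintro ⟨w, hw, s, hs, h⟩
    rw [← map_mul] at h
    have h2 : w * r = s := hinj h
    have h3 : w * r ∈ P := h2 ▸ hs
    exact (Ideal.IsPrime.mem_or_mem inferInstance h3).resolve_left (hWP w hw)
  · intro hr
    exact ⟨1, W.one_mem, r, hr, by rw [map_one, one_mul]⟩

theorem ext_comap (Q : Ideal T) [Q.IsPrime] (hWQ : ∀ w ∈ W, algebraMap R T w ∉ Q) :
    ext W hcond (Q.comap (algebraMap R T)) (fun w hw h => hWQ w hw h) = Q := by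
  ext x
  rw [mem_ext hinj]
  constructor
  · rintro ⟨w, hw, r, hr, h⟩
    have h1 : algebraMap R T w * x ∈ Q := h ▸ hr
    exact (Ideal.IsPrime.mem_or_mem inferInstance h1).resolve_left (hWQ w hw)
  · intro hx
    obtain ⟨w, hw, r, hr⟩ := hcond x
    refine ⟨w, hw, r, ?_, hr⟩
    rw [Ideal.mem_comap, ← hr]
    exact Q.mul_mem_left _ hx

theorem ext_mono (P₁ P₂ : Ideal R) [P₁.IsPrime] [P₂.IsPrime] (h₁ : ∀ w ∈ W, w ∉ P₁)
    (h₂ : ∀ w ∈ W, w ∉ P₂) (hle : P₁ ≤ P₂) : ext W hcond P₁ h₁ ≤ ext W hcond P₂ h₂ := by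
  rintro x ⟨w, hw, r, hr, h⟩
  exact ⟨w, hw, r, hle hr, h⟩

theorem algebraMap_notMem_ext (P : Ideal R) [P.IsPrime] (hWP : ∀ w ∈ W, w ∉ P) (v : R)
    (hv : v ∈ W) : algebraMap R T v ∉ ext W hcond P hWP := by
  rintro ⟨w, hw, r, hr, h⟩
  rw [← map_mul] at h
  have h2 : w * v = r := hinj h
  have h3 : w * v ∈ P := h2 ▸ hr
  rcases (Ideal.IsPrime.mem_or_mem inferInstance h3) with h | h
  · exact hWP w hw h
  · exact hWP v hv h

/-- contraction is a bijection on minimal primes when every element of `T` has a multiple in `R` by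
an element of a multiplicative set `W` of nonzerodivisors. -/
theorem bijOn_minimalPrimes (hW : ∀ w ∈ W, algebraMap R T w ∈ nonZeroDivisors T) :
    Set.BijOn (Ideal.comap (algebraMap R T)) (minimalPrimes T) (minimalPrimes R) := by
  have hWR : ∀ w ∈ W, w ∈ nonZeroDivisors R := by
    intro w hw
    rw [mem_nonZeroDivisors_iff_right]
    intro x hx
    apply hinj
    rw [map_zero]
    have h1 : algebraMap R T x * algebraMap R T w = 0 := by rw [← map_mul, hx, map_zero]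
    exact (mem_nonZeroDivisors_iff_right.mp (hW w hw)) _ h1
  have hT : ∀ Q ∈ minimalPrimes T, ∀ w ∈ W, algebraMap R T w ∉ Q := fun Q hQ w hw h =>
    Set.disjoint_left.mp (Ideal.disjoint_nonZeroDivisors_of_mem_minimalPrimes hQ) h (hW w hw)
  have hR : ∀ P ∈ minimalPrimes R, ∀ w ∈ W, w ∉ P := fun P hP w hw h =>
    Set.disjoint_left.mp (Ideal.disjoint_nonZeroDivisors_of_mem_minimalPrimes hP) h (hWR w hw)
  refine ⟨?_, ?_, ?_⟩
  · intro Q hQ
    haveI : Q.IsPrime := hQ.1.1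
    have htQ := hT Q hQ
    refine ⟨⟨Ideal.comap_isPrime _ _, bot_le⟩, ?_⟩
    rintro P ⟨hPprime, -⟩ hPQ
    haveI := hPprime
    have htP : ∀ w ∈ W, w ∉ P := fun w hw h => htQ w hw (hPQ h)
    haveI := ext_isPrime hinj W hcond P htP
    have h1 : ext W hcond P htP ≤ Q := by
      have := ext_mono hinj W hcond P (Q.comap (algebraMap R T)) htP (fun w hw h => htQ w hw h) hPQ
      rwa [ext_comap hinj W hcond Q htQ] at this
    have h2 : Q ≤ ext W hcond P htP := hQ.2 ⟨inferInstance, bot_le⟩ h1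
    have h3 := Ideal.comap_mono (f := algebraMap R T) h2
    rwa [comap_ext hinj] at h3
  · intro Q₁ hQ₁ Q₂ hQ₂ he
    haveI : Q₁.IsPrime := hQ₁.1.1
    haveI : Q₂.IsPrime := hQ₂.1.1
    have h1 := ext_comap hinj W hcond Q₁ (hT Q₁ hQ₁)
    have h2 := ext_comap hinj W hcond Q₂ (hT Q₂ hQ₂)
    rw [← h1, ← h2]
    congr 1
  · intro P hP
    haveI : P.IsPrime := hP.1.1
    have htP := hR P hP
    haveI := ext_isPrime hinj W hcond P htP
    refine ⟨ext W hcond P htP, ⟨⟨inferInstance, bot_le⟩, ?_⟩, comap_ext hinj W hcond P htP⟩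
    rintro Q ⟨hQprime, -⟩ hQP
    haveI := hQprime
    have htQ : ∀ w ∈ W, algebraMap R T w ∉ Q := fun w hw h =>
      algebraMap_notMem_ext hinj W hcond P htP w hw (hQP h)
    have h1 : Q.comap (algebraMap R T) ≤ P := by
      have := Ideal.comap_mono (f := algebraMap R T) hQP
      rwa [comap_ext hinj] at this
    have h2 : P ≤ Q.comap (algebraMap R T) := hP.2 ⟨Ideal.comap_isPrime _ _, bot_le⟩ h1
    have h3 := ext_mono hinj W hcond P (Q.comap (algebraMap R T)) htP (fun w hw h => htQ w hw h) h2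
    rwa [ext_comap hinj W hcond Q htQ] at h3

end

end Groth.Agent.Helper2.MinCondW
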