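import Mathlib
import Groth.Prelude

set_option autoImplicit false
set_option linter.style.haveILetI false
set_option linter.unusedSectionVars false

/-!
# Maximal ideals of `B ⊗[A] C` for `B` integral over a local ring `A` and `C` a local `A`-algebra
with `C/𝔪C = A/𝔪`
-/

namespace Groth.Agent.Helper2.NormCountG

universe u

open TensorProduct IsLocalRing

section T

variable (A B C : Type u) [CommRing A] [CommRing B] [CommRing C] [Algebra A B] [Algebra A C]
  [IsLocalRing A] [IsLocalRing C]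

/-- the ideal `𝔪 T`. -/
noncomputable abbrev mT : Ideal (B ⊗[A] C) := (maximalIdeal A).map (algebraMap A (B ⊗[A] C))

theorem algebraMap_eq_tmul (r : A) :
    algebraMap A (B ⊗[A] C) r = (1 : B) ⊗ₜ[A] (algebraMap A C r) := by
  rw [Algebra.algebraMap_eq_smul_one, Algebra.algebraMap_eq_smul_one (A := C),
    TensorProduct.tmul_smul]
  rfl

variable {A B C}
variable (hres : ∀ c : C, ∃ r : A, c - algebraMap A C r ∈ maximalIdeal C)
  (hmax : maximalIdeal C = (maximalIdeal A).map (algebraMap A C))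

include hmax in
theorem tmul_mem_mT (a : B) (b : C) (hb : b ∈ maximalIdeal C) : a ⊗ₜ[A] b ∈ mT A B C := by
  rw [hmax] at hb
  refine Submodule.span_induction (p := fun b _ => a ⊗ₜ[A] b ∈ mT A B C) ?_ ?_ ?_ ?_ hb
  · rintro _ ⟨r, hr, rfl⟩
    have h1 : a ⊗ₜ[A] (algebraMap A C r) = algebraMap A (B ⊗[A] C) r * (a ⊗ₜ[A] (1 : C)) := by
      rw [algebraMap_eq_tmul, Algebra.TensorProduct.tmul_mul_tmul, one_mul, mul_one]
    rw [h1]
    exact Ideal.mul_mem_right _ _ (Ideal.mem_map_of_mem _ hr)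
  · rw [TensorProduct.tmul_zero]
    exact Ideal.zero_mem _
  · intro x y _ _ hx hy
    rw [TensorProduct.tmul_add]
    exact Ideal.add_mem _ hx hy
  · intro c x _ hx
    have h1 : a ⊗ₜ[A] (c • x) = ((1 : B) ⊗ₜ[A] c) * (a ⊗ₜ[A] x) := by
      rw [Algebra.TensorProduct.tmul_mul_tmul, one_mul, smul_eq_mul]
    rw [h1]
    exact Ideal.mul_mem_left _ _ hx

include hres hmax in
theorem exists_sub_mem (x : B ⊗[A] C) : ∃ a : B, x - a ⊗ₜ[A] (1 : C) ∈ mT A B C := by
  induction x using TensorProduct.induction_on with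
  | zero => exact ⟨0, by rw [TensorProduct.zero_tmul, sub_self]; exact Ideal.zero_mem _⟩
  | tmul a b =>
    obtain ⟨r, hr⟩ := hres b
    refine ⟨r • a, ?_⟩
    have h1 : a ⊗ₜ[A] b - (r • a) ⊗ₜ[A] (1 : C) = a ⊗ₜ[A] (b - algebraMap A C r) := by
      rw [TensorProduct.tmul_sub, TensorProduct.smul_tmul, Algebra.algebraMap_eq_smul_one]
    rw [h1]
    exact tmul_mem_mT hmax a _ hr
  | add x y hx hy =>
    obtain ⟨a, ha⟩ := hx
    obtain ⟨b, hb⟩ := hy
    refine ⟨a + b, ?_⟩
    have h1 : x + y - (a + b) ⊗ₜ[A] (1 : C) =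
        (x - a ⊗ₜ[A] (1 : C)) + (y - b ⊗ₜ[A] (1 : C)) := by
      rw [TensorProduct.add_tmul]; ring
    rw [h1]
    exact Ideal.add_mem _ ha hb

variable (A B C)

/-- the inclusion `C → T`. -/
noncomputable abbrev incl : C →+* (B ⊗[A] C) :=
  (Algebra.TensorProduct.includeRight : C →ₐ[A] (B ⊗[A] C)).toRingHom

theorem incl_apply (c : C) : incl A B C c = (1 : B) ⊗ₜ[A] c := rfl

theorem includeRight_isIntegral [Algebra.IsIntegral A B] :
    RingHom.IsIntegral (R := C) (A := B ⊗[A] C) (incl A B C) := by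
  have h1 : (algebraMap C (C ⊗[A] B)).IsIntegral :=
    algebraMap_isIntegral_iff.2 (Algebra.IsIntegral.tensorProduct A C B)
  have h2 : RingHom.IsIntegral (R := C ⊗[A] B) (A := B ⊗[A] C)
      (Algebra.TensorProduct.comm A C B).toAlgHom.toRingHom :=
    RingHom.isIntegral_of_surjective (R := C ⊗[A] B) (S := B ⊗[A] C)
      (Algebra.TensorProduct.comm A C B).toAlgHom.toRingHom
      (Algebra.TensorProduct.comm A C B).surjective
  have h3 : incl A B C =
      (Algebra.TensorProduct.comm A C B).toAlgHom.toRingHom.comp (algebraMap C (C ⊗[A] B)) := by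
    ext b
    simp [Algebra.TensorProduct.algebraMap_apply]
  rw [h3]
  exact RingHom.IsIntegral.trans (R := C) (S := C ⊗[A] B) (T := B ⊗[A] C)
    (algebraMap C (C ⊗[A] B)) (Algebra.TensorProduct.comm A C B).toAlgHom.toRingHom h1 h2

variable {A B C}

include hmax in
theorem mT_le [Algebra.IsIntegral A B] (M : Ideal (B ⊗[A] C)) [M.IsMaximal] : mT A B C ≤ M := by
  have h := Ideal.isMaximal_comap_of_isIntegral_of_isMaximal' (R := C) (S := B ⊗[A] C)
    (incl A B C) (includeRight_isIntegral A B C) M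
  have h2 := IsLocalRing.eq_maximalIdeal h
  rw [mT, Ideal.map_le_iff_le_comap]
  intro r hr
  rw [Ideal.mem_comap, algebraMap_eq_tmul]
  have h3 : algebraMap A C r ∈ maximalIdeal C := by
    rw [hmax]
    exact Ideal.mem_map_of_mem _ hr
  rw [← h2] at h3
  exact h3

theorem comap_eq_maximalIdeal [Algebra.IsIntegral A B] (P : Ideal B) [P.IsMaximal] :
    P.comap (algebraMap A B) = maximalIdeal A := by
  have h1 : (P.comap (algebraMap A B)).IsMaximal :=
    Ideal.isMaximal_comap_of_isIntegral_of_isMaximal P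
  exact IsLocalRing.eq_maximalIdeal h1

theorem mT_le_map [Algebra.IsIntegral A B] (P : Ideal B) [P.IsMaximal] :
    mT A B C ≤ P.map (algebraMap B (B ⊗[A] C)) := by
  have h1 : mT A B C =
      ((maximalIdeal A).map (algebraMap A B)).map (algebraMap B (B ⊗[A] C)) := by
    rw [Ideal.map_map, ← IsScalarTower.algebraMap_eq]
  rw [h1]
  apply Ideal.map_mono
  rw [Ideal.map_le_iff_le_comap, comap_eq_maximalIdeal P]

theorem comap_map_eq [Module.FaithfullyFlat A C] (P : Ideal B) :
    (P.map (algebraMap B (B ⊗[A] C))).comap (algebraMap B (B ⊗[A] C)) = P :=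
  Ideal.comap_map_eq_self_of_faithfullyFlat P

include hres hmax in
theorem map_isMaximal [Algebra.IsIntegral A B] [Module.FaithfullyFlat A C]
    (P : Ideal B) [hP : P.IsMaximal] : (P.map (algebraMap B (B ⊗[A] C))).IsMaximal := by
  rw [Ideal.isMaximal_iff]
  constructor
  · intro h1
    have h2 : (1 : B) ∈ (P.map (algebraMap B (B ⊗[A] C))).comap (algebraMap B (B ⊗[A] C)) := by
      rw [Ideal.mem_comap, map_one]; exact h1
    rw [comap_map_eq] at h2
    exact hP.ne_top ((Ideal.eq_top_iff_one _).2 h2)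
  · intro J x hle hx hxJ
    obtain ⟨a, ha⟩ := exists_sub_mem hres hmax x
    have ha' : x - a ⊗ₜ[A] (1 : C) ∈ P.map (algebraMap B (B ⊗[A] C)) := mT_le_map P ha
    have haP : a ∉ P := by
      intro haP
      apply hx
      have h3 : a ⊗ₜ[A] (1 : C) ∈ P.map (algebraMap B (B ⊗[A] C)) := Ideal.mem_map_of_mem _ haP
      have := Ideal.add_mem _ ha' h3
      rwa [sub_add_cancel] at this
    obtain ⟨b, p, hp, hb⟩ := hP.exists_inv haP
    -- b * a + p = 1
    have h4 : (algebraMap B (B ⊗[A] C)) (b * a + p) = 1 := by rw [hb, map_one]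
    have h5 : a ⊗ₜ[A] (1 : C) ∈ J := by
      have := Ideal.sub_mem J hxJ (hle ha')
      rwa [sub_sub_cancel] at this
    have h6 : algebraMap B (B ⊗[A] C) a = a ⊗ₜ[A] (1 : C) := rfl
    rw [← h4, map_add, map_mul, h6]
    exact J.add_mem (J.mul_mem_left _ h5) (hle (Ideal.mem_map_of_mem _ hp))

include hmax in
theorem comap_isMaximal [Algebra.IsIntegral A B] (M : Ideal (B ⊗[A] C)) [hM : M.IsMaximal] :
    (M.comap (algebraMap B (B ⊗[A] C))).IsMaximal := by
  haveI : (M.comap (algebraMap B (B ⊗[A] C))).IsPrime := Ideal.comap_isPrime _ _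
  have h1 : (M.comap (algebraMap B (B ⊗[A] C))).comap (algebraMap A B) = maximalIdeal A := by
    rw [Ideal.comap_comap, ← IsScalarTower.algebraMap_eq]
    have h2 := mT_le hmax M
    rw [mT, Ideal.map_le_iff_le_comap] at h2
    have h3 : (M.comap (algebraMap A (B ⊗[A] C))) ≠ ⊤ := (Ideal.comap_isPrime _ M).ne_top
    exact ((maximalIdeal.isMaximal A).eq_of_le h3 h2).symm
  apply Ideal.isMaximal_of_isIntegral_of_isMaximal_comap (R := A)
  rw [h1]
  exact maximalIdeal.isMaximal A

include hres hmax in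
theorem map_comap_eq [Algebra.IsIntegral A B] [Module.FaithfullyFlat A C]
    (M : Ideal (B ⊗[A] C)) [hM : M.IsMaximal] :
    (M.comap (algebraMap B (B ⊗[A] C))).map (algebraMap B (B ⊗[A] C)) = M := by
  haveI := comap_isMaximal hmax M
  have h1 := map_isMaximal hres hmax (M.comap (algebraMap B (B ⊗[A] C)))
  exact h1.eq_of_le hM.ne_top Ideal.map_comap_le

include hres hmax in
theorem ncard_max [Algebra.IsIntegral A B] [Module.FaithfullyFlat A C] :
    {P : Ideal B | P.IsMaximal}.ncard = {M : Ideal (B ⊗[A] C) | M.IsMaximal}.ncard := by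
  apply Set.ncard_congr (fun P _ => P.map (algebraMap B (B ⊗[A] C)))
  · intro P hP
    haveI : P.IsMaximal := hP
    exact map_isMaximal hres hmax P
  · intro P Q _ _ h
    have := congrArg (Ideal.comap (algebraMap B (B ⊗[A] C))) h
    rwa [comap_map_eq, comap_map_eq] at this
  · intro M hM
    haveI : M.IsMaximal := hM
    exact ⟨M.comap (algebraMap B (B ⊗[A] C)), comap_isMaximal hmax M, map_comap_eq hres hmax M⟩

end T

end Groth.Agent.Helper2.NormCountG
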