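import Mathlib
import Groth.Prelude
import Groth.Agent.Helper2.Unibr1

set_option autoImplicit false
set_option linter.style.haveILetI false
set_option linter.unusedSectionVars false

/-!
# Maximal ideals vs minimal primes for a ring integral over a henselian local ring
whose localizations at maximal ideals are domains
-/

namespace Groth.Agent.Helper2.NormCountG

universe u

open IsLocalRing

section maxmin

variable (T : Type u) [CommRing T]
  (hdom : ∀ (M : Ideal T) [M.IsMaximal], IsDomain (Localization.AtPrime M))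

/-- the kernel of the localization map at `M`. -/
noncomputable abbrev qM (M : Ideal T) [M.IsPrime] : Ideal T :=
  RingHom.ker (algebraMap T (Localization.AtPrime M))

variable {T}

theorem qM_le (M : Ideal T) [M.IsPrime] : qM T M ≤ M := by
  intro x hx
  rw [RingHom.mem_ker] at hx
  by_contra hxM
  have h1 : IsUnit (algebraMap T (Localization.AtPrime M) x) :=
    IsLocalization.map_units (Localization.AtPrime M) (⟨x, hxM⟩ : M.primeCompl)
  rw [hx] at h1
  exact not_isUnit_zero h1

theorem qM_le_of_le (M : Ideal T) [M.IsPrime] (q : Ideal T) [q.IsPrime] (hq : q ≤ M) :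
    qM T M ≤ q := by
  intro x hx
  rw [RingHom.mem_ker, IsLocalization.map_eq_zero_iff M.primeCompl] at hx
  obtain ⟨m, hm⟩ := hx
  have h1 : (m : T) * x ∈ q := by rw [hm]; exact q.zero_mem
  rcases Ideal.IsPrime.mem_or_mem inferInstance h1 with h | h
  · exact absurd (hq h) m.2
  · exact h

include hdom in
theorem qM_isPrime (M : Ideal T) [M.IsMaximal] : (qM T M).IsPrime := by
  haveI := hdom M
  exact RingHom.ker_isPrime _

include hdom in
theorem qM_mem_minimalPrimes (M : Ideal T) [M.IsMaximal] : qM T M ∈ minimalPrimes T := by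
  haveI := qM_isPrime hdom M
  refine ⟨⟨inferInstance, bot_le⟩, ?_⟩
  rintro q ⟨hq, -⟩ hle
  haveI := hq
  exact qM_le_of_le M q (hle.trans (qM_le M))

theorem eq_comap_maximalIdeal (q : Ideal T) [IsLocalRing (T ⧸ q)] (M : Ideal T) [hM : M.IsMaximal]
    (hqM : q ≤ M) : M = (maximalIdeal (T ⧸ q)).comap (Ideal.Quotient.mk q) := by
  have hmax : ((maximalIdeal (T ⧸ q)).comap (Ideal.Quotient.mk q)).IsMaximal :=
    Ideal.comap_isMaximal_of_surjective _ Ideal.Quotient.mk_surjective
  refine hM.eq_of_le hmax.ne_top ?_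
  intro x hx
  rw [Ideal.mem_comap, IsLocalRing.mem_maximalIdeal, mem_nonunits_iff]
  intro hu
  obtain ⟨y, hy⟩ := hu.exists_right_inv
  obtain ⟨y, rfl⟩ := Ideal.Quotient.mk_surjective y
  rw [← map_mul, ← map_one (Ideal.Quotient.mk q), Ideal.Quotient.eq] at hy
  have h1 : x * y - 1 ∈ M := hqM hy
  have h2 : x * y ∈ M := M.mul_mem_right _ hx
  have h3 : (1 : T) ∈ M := by
    have := M.sub_mem h2 h1
    rwa [sub_sub_cancel] at this
  exact hM.ne_top ((Ideal.eq_top_iff_one _).2 h3)

include hdom in
theorem qM_injective (C : Type u) [CommRing C] [Algebra C T] [Algebra.IsIntegral C T]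
    [HenselianLocalRing C] (M M' : Ideal T) [hM : M.IsMaximal] [hM' : M'.IsMaximal]
    (h : qM T M = qM T M') : M = M' := by
  haveI := qM_isPrime hdom M
  set q := qM T M with hq
  haveI : IsDomain (T ⧸ q) := Ideal.Quotient.isDomain q
  haveI : Algebra.IsIntegral C (T ⧸ q) :=
    Algebra.IsIntegral.trans (R := C) (A := T) (B := T ⧸ q)
  haveI : IsLocalRing (T ⧸ q) :=
    Groth.Agent.Helper2.Unibr1.isLocalRing_of_isIntegral_of_isDomain C (T ⧸ q)
  have h1 : q ≤ M := qM_le M
  have h2 : q ≤ M' := by rw [h]; exact qM_le M'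
  rw [eq_comap_maximalIdeal q M h1, ← eq_comap_maximalIdeal q M' h2]

include hdom in
theorem ncard_max_eq_ncard_min (C : Type u) [CommRing C] [Algebra C T] [Algebra.IsIntegral C T]
    [HenselianLocalRing C] :
    {M : Ideal T | M.IsMaximal}.ncard = (minimalPrimes T).ncard := by
  classical
  apply Set.ncard_congr (fun M _ => if h : M.IsMaximal then @qM T _ M h.isPrime else ⊥)
  · intro M hM
    have hM0 : M.IsMaximal := hM
    haveI : M.IsMaximal := hM
    simp only [dif_pos hM0]
    exact qM_mem_minimalPrimes hdom M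
  · intro M M' hM hM' h
    have hM0 : M.IsMaximal := hM
    have hM0' : M'.IsMaximal := hM'
    haveI : M.IsMaximal := hM
    haveI : M'.IsMaximal := hM'
    simp only [dif_pos hM0, dif_pos hM0'] at h
    exact qM_injective hdom C M M' h
  · intro q hq
    haveI : q.IsPrime := hq.1.1
    obtain ⟨M, hM, hqM⟩ := Ideal.exists_le_maximal q (Ideal.IsPrime.ne_top inferInstance)
    haveI : M.IsMaximal := hM
    refine ⟨M, hM, ?_⟩
    have hM0 : M.IsMaximal := hM
    simp only [dif_pos hM0]
    have h1 : qM T M ≤ q := qM_le_of_le M q hqM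
    have h2 := qM_mem_minimalPrimes hdom M
    exact le_antisymm h1 (hq.2 h2.1 h1)

end maxmin

end Groth.Agent.Helper2.NormCountG
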