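import Mathlib
import Groth.Prelude
import Groth.Agent.Helper2.NormCountG1
import Groth.Agent.Helper2.NormCountG2

set_option autoImplicit false
set_option linter.style.haveILetI false
set_option linter.unusedSectionVars false

/-!
# `encard` versions of the counting lemmas
-/

namespace Groth.Agent.Helper2.NormCountG

universe u

open TensorProduct IsLocalRing

theorem encard_congr' {α β : Type*} {s : Set α} {t : Set β} (f : ∀ a ∈ s, β)
    (h₁ : ∀ a ha, f a ha ∈ t) (h₂ : ∀ a b ha hb, f a ha = f b hb → a = b)
    (h₃ : ∀ b ∈ t, ∃ a ha, f a ha = b) : s.encard = t.encard := by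
  refine Set.encard_congr (Equiv.ofBijective (fun a : s => (⟨f a.1 a.2, h₁ a.1 a.2⟩ : t)) ⟨?_, ?_⟩)
  · intro a b hab
    apply Subtype.ext
    exact h₂ _ _ _ _ (congrArg Subtype.val hab)
  · rintro ⟨b, hb⟩
    obtain ⟨a, ha, hab⟩ := h₃ b hb
    exact ⟨⟨a, ha⟩, Subtype.ext hab⟩

section T

variable {A B C : Type u} [CommRing A] [CommRing B] [CommRing C] [Algebra A B] [Algebra A C]
  [IsLocalRing A] [IsLocalRing C]
  (hres : ∀ c : C, ∃ r : A, c - algebraMap A C r ∈ maximalIdeal C)
  (hmax : maximalIdeal C = (maximalIdeal A).map (algebraMap A C))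

include hres hmax in
theorem encard_max [Algebra.IsIntegral A B] [Module.FaithfullyFlat A C] :
    {P : Ideal B | P.IsMaximal}.encard = {M : Ideal (B ⊗[A] C) | M.IsMaximal}.encard := by
  apply encard_congr' (fun P _ => P.map (algebraMap B (B ⊗[A] C)))
  · intro P hP
    haveI : P.IsMaximal := hP
    exact map_isMaximal hres hmax P
  · intro P Q _ _ h
    have := congrArg (Ideal.comap (algebraMap B (B ⊗[A] C))) h
    rwa [comap_map_eq, comap_map_eq] at this
  · intro M hM
    haveI : M.IsMaximal := hM
    exact ⟨M.comap (algebraMap B (B ⊗[A] C)), comap_isMaximal hmax M, map_comap_eq hres hmax M⟩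

end T

section maxmin

variable {T : Type u} [CommRing T]
  (hdom : ∀ (M : Ideal T) [M.IsMaximal], IsDomain (Localization.AtPrime M))

include hdom in
theorem encard_max_eq_encard_min (C : Type u) [CommRing C] [Algebra C T] [Algebra.IsIntegral C T]
    [HenselianLocalRing C] :
    {M : Ideal T | M.IsMaximal}.encard = (minimalPrimes T).encard := by
  classical
  apply encard_congr' (fun M _ => if h : M.IsMaximal then @qM T _ M h.isPrime else ⊥)
  · intro M hM
    have hM0 : M.IsMaximal := hM
    haveI : M.IsMaximal := hM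
    simp only [dif_pos hM0]
    exact qM_mem_minimalPrimes hdom M
  · intro M M' hM hM' h
    have hM0 : M.IsMaximal := hM
    have hM0' : M'.IsMaximal := hM'
    haveI : M.IsMaximal := hM
    haveI : M'.IsMaximal := hM'
    simp only [dif_pos hM0, dif_pos hM0'] at h
    exact qM_injective hdom C M M' h
  · intro q hq
    haveI : q.IsPrime := hq.1.1
    obtain ⟨M, hM, hqM⟩ := Ideal.exists_le_maximal q (Ideal.IsPrime.ne_top inferInstance)
    haveI : M.IsMaximal := hM
    refine ⟨M, hM, ?_⟩
    have hM0 : M.IsMaximal := hM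
    simp only [dif_pos hM0]
    have h1 : qM T M ≤ q := qM_le_of_le M q hqM
    have h2 := qM_mem_minimalPrimes hdom M
    exact le_antisymm h1 (hq.2 h2.1 h1)

end maxmin

end Groth.Agent.Helper2.NormCountG
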