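import Mathlib
import Groth.Prelude
import Groth.Agent.Helper2.NormCountG5
import Groth.Agent.Helper2.MinCondW

set_option autoImplicit false
set_option linter.style.haveILetI false
set_option linter.unusedSectionVars false

/-!
# counting maximal ideals of `B` by minimal primes of `C` (general form, `encard`)
-/

namespace Groth.Agent.Helper2.NormCountG

universe u

open TensorProduct IsLocalRing

section T

variable {A B C : Type u} [CommRing A] [CommRing B] [CommRing C] [Algebra A B] [Algebra A C]
  [IsLocalRing A] [IsLocalRing C]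
  (hres : ∀ c : C, ∃ r : A, c - algebraMap A C r ∈ maximalIdeal C)
  (hmax : maximalIdeal C = (maximalIdeal A).map (algebraMap A C))

variable (A B C) in
/-- the multiplicative set of denominators, in `C`. -/
def Wden : Submonoid C :=
  (Submonoid.comap (algebraMap A B) (nonZeroDivisors B)).map (algebraMap A C)

theorem bijOn_min' [Module.Flat A C] (hinj : Function.Injective (algebraMap A B))
    (hden : ∀ b : B, ∃ t : A, algebraMap A B t ∈ nonZeroDivisors B ∧
      ∃ r : A, algebraMap A B t * b = algebraMap A B r) :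
    Set.BijOn (Ideal.comap (incl A B C)) (minimalPrimes (B ⊗[A] C)) (minimalPrimes C) := by
  letI : Algebra C (B ⊗[A] C) := (incl A B C).toAlgebra
  have hinj' : Function.Injective (algebraMap C (B ⊗[A] C)) :=
    Algebra.TensorProduct.includeRight_injective hinj
  have hkey : ∀ t : A, algebraMap C (B ⊗[A] C) (algebraMap A C t) =
      algebraMap B (B ⊗[A] C) (algebraMap A B t) := by
    intro t
    change (1 : B) ⊗ₜ[A] (algebraMap A C t) = (algebraMap A B t) ⊗ₜ[A] (1 : C)
    rw [Algebra.algebraMap_eq_smul_one, Algebra.algebraMap_eq_smul_one (A := B),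
      TensorProduct.smul_tmul]
  have hW : ∀ w ∈ Wden A B C, algebraMap C (B ⊗[A] C) w ∈ nonZeroDivisors (B ⊗[A] C) := by
    rintro _ ⟨t, ht, rfl⟩
    rw [hkey]
    have h1 : IsSMulRegular (B ⊗[A] C) (algebraMap A B t) :=
      Module.Flat.isSMulRegular_of_nonZeroDivisors ht
    rw [mem_nonZeroDivisors_iff_right]
    intro x hx
    apply h1
    change (algebraMap A B t) • x = (algebraMap A B t) • (0 : B ⊗[A] C)
    rw [smul_zero, Algebra.smul_def, mul_comm]
    exact hx
  have hcond : ∀ x : B ⊗[A] C, ∃ w ∈ Wden A B C, ∃ r : C,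
      algebraMap C (B ⊗[A] C) w * x = algebraMap C (B ⊗[A] C) r := by
    intro x
    induction x using TensorProduct.induction_on with
    | zero => exact ⟨1, (Wden A B C).one_mem, 0, by rw [mul_zero, map_zero]⟩
    | tmul b c =>
      obtain ⟨t, ht, r, hr⟩ := hden b
      refine ⟨algebraMap A C t, ⟨t, ht, rfl⟩, algebraMap A C r * c, ?_⟩
      rw [hkey]
      change (algebraMap A B t) ⊗ₜ[A] (1 : C) * b ⊗ₜ[A] c = (1 : B) ⊗ₜ[A] (algebraMap A C r * c)
      rw [Algebra.TensorProduct.tmul_mul_tmul, one_mul, hr, Algebra.algebraMap_eq_smul_one,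
        TensorProduct.smul_tmul, Algebra.smul_def, Algebra.algebraMap_eq_smul_one (A := C),
        smul_mul_assoc, one_mul]
    | add x y hx hy =>
      obtain ⟨w, hw, a, ha⟩ := hx
      obtain ⟨v, hv, b, hb⟩ := hy
      refine ⟨w * v, (Wden A B C).mul_mem hw hv, v * a + w * b, ?_⟩
      rw [map_add, map_mul, map_mul, map_mul, ← ha, ← hb]
      ring
  exact Groth.Agent.Helper2.MinCondW.bijOn_minimalPrimes hinj' (Wden A B C) hcond hW

include hres hmax in
theorem main' [HenselianLocalRing C] [Algebra.IsIntegral A B] [Module.FaithfullyFlat A C]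
    (hdom : ∀ (M : Ideal (B ⊗[A] C)) [M.IsMaximal], IsDomain (Localization.AtPrime M))
    (hinj : Function.Injective (algebraMap A B))
    (hden : ∀ b : B, ∃ t : A, algebraMap A B t ∈ nonZeroDivisors B ∧
      ∃ r : A, algebraMap A B t * b = algebraMap A B r) :
    {P : Ideal B | P.IsMaximal}.encard = (minimalPrimes C).encard := by
  rw [encard_max hres hmax (A := A) (B := B) (C := C)]
  letI : Algebra C (B ⊗[A] C) := (incl A B C).toAlgebra
  haveI : Algebra.IsIntegral C (B ⊗[A] C) := ⟨includeRight_isIntegral A B C⟩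
  rw [encard_max_eq_encard_min (T := B ⊗[A] C) hdom C]
  have h := bijOn_min' (C := C) hinj hden
  rw [← h.image_eq]
  exact (h.injOn.encard_image).symm

end T

end Groth.Agent.Helper2.NormCountG
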