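import Mathlib
import Groth.Prelude
import Groth.Agent.Helper2.NormCountG6
import Groth.Agent.Helper2.DomLoc
import Groth.Agent.Helper7.NormProd2

set_option autoImplicit false
set_option linter.style.haveILetI false
set_option linter.unusedSectionVars false
set_option linter.dupNamespace false

/-!
# Number of branches: the reduced case
-/

namespace Groth.Agent.Helper2.Brnch

universe u

open TensorProduct IsLocalRing Groth.Agent.Helper1.Hens

section normal

variable (A : Type u) [CommRing A] [IsReduced A] (hfin : (minimalPrimes A).Finite)

/-- the index type of minimal primes -/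
abbrev MinIdx' : Type u := {q : Ideal A // q ∈ minimalPrimes A}

instance (i : MinIdx' A) : i.1.IsPrime := i.2.1.1

open Groth.Agent.Helper7.NormProd in
theorem good' : Good (fun i : MinIdx' A => i.1) where
  inf_eq := by
    intro a ha
    have h1 : a ∈ sInf (minimalPrimes A) := by
      rw [Ideal.mem_sInf]
      intro q hq
      exact ha ⟨q, hq⟩
    have h2 : sInf (minimalPrimes A) = (⊥ : Ideal A) := by
      rw [minimalPrimes, Ideal.sInf_minimalPrimes, Ideal.radical_bot_of_isReduced]
    rw [h2] at h1
    exact h1
  incomp := by
    intro i j hij hle
    apply hij
    apply Subtype.ext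
    exact le_antisymm (i.2.2 ⟨j.2.1.1, bot_le⟩ hle) hle
  nzd := by
    intro t ht i hmem
    exact Set.disjoint_left.1 (Ideal.disjoint_nonZeroDivisors_of_mem_minimalPrimes i.2) hmem ht

include hfin in
open Groth.Agent.Helper7.NormProd in
/-- the integral closure of a reduced ring with finitely many minimal primes in its total ring of
fractions is a normal ring -/
theorem normal_closure_of_finite : EGA4.IsNormalRing (integralClosure A (FractionRing A)) := by
  classical
  haveI : Finite (MinIdx' A) := hfin.to_subtype
  letI : Fintype (MinIdx' A) := Fintype.ofFinite _
  refine isNormalRing_of_ringEquiv (equiv (good' A)).symm ?_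
  apply Groth.Agent.S6279.result
  intro i
  haveI : IsIntegrallyClosed (integralClosure (A ⧸ i.1) (FractionRing (A ⧸ i.1))) :=
    integralClosure.isIntegrallyClosedOfFiniteExtension (FractionRing (A ⧸ i.1))
  exact isNormalRing_of_isIntegrallyClosed _

end normal

section den

variable (A : Type u) [CommRing A]

theorem injective_algebraMap' :
    Function.Injective (algebraMap A (integralClosure A (FractionRing A))) := by
  intro a b hab
  have h1 := congrArg (algebraMap (integralClosure A (FractionRing A)) (FractionRing A)) hab
  rw [← IsScalarTower.algebraMap_apply, ← IsScalarTower.algebraMap_apply] at h1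
  exact IsLocalization.injective (FractionRing A) (le_refl (nonZeroDivisors A)) h1

theorem algebraMap_mem_nonZeroDivisors (t : A) (ht : t ∈ nonZeroDivisors A) :
    algebraMap A (integralClosure A (FractionRing A)) t ∈
      nonZeroDivisors (integralClosure A (FractionRing A)) := by
  rw [mem_nonZeroDivisors_iff_right]
  intro x hx
  apply Subtype.ext
  have h1 : (x : FractionRing A) * algebraMap A (FractionRing A) t = 0 := by
    have := congrArg (algebraMap (integralClosure A (FractionRing A)) (FractionRing A)) hx
    rw [map_mul, map_zero, ← IsScalarTower.algebraMap_apply] at this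
    exact this
  have hu : IsUnit (algebraMap A (FractionRing A) t) :=
    IsLocalization.map_units (FractionRing A) (⟨t, ht⟩ : nonZeroDivisors A)
  exact hu.mul_left_eq_zero.mp h1

theorem exists_den (x : integralClosure A (FractionRing A)) :
    ∃ t : A, algebraMap A (integralClosure A (FractionRing A)) t ∈
        nonZeroDivisors (integralClosure A (FractionRing A)) ∧
      ∃ r : A, algebraMap A (integralClosure A (FractionRing A)) t * x =
        algebraMap A (integralClosure A (FractionRing A)) r := by
  obtain ⟨a, t, hat⟩ := IsLocalization.exists_mk'_eq (nonZeroDivisors A) (x : FractionRing A)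
  refine ⟨t.1, algebraMap_mem_nonZeroDivisors A t.1 t.2, a, ?_⟩
  apply Subtype.ext
  change algebraMap A (FractionRing A) t.1 * (x : FractionRing A) = algebraMap A (FractionRing A) a
  rw [← hat, IsLocalization.mk'_spec']

end den

section main

variable (A : Type u) [CommRing A] [IsLocalRing A] [IsReduced A]

/-- transfer of the domain property along a ring isomorphism -/
theorem isDomain_atPrime_of_ringEquiv {T T' : Type u} [CommRing T] [CommRing T'] (e : T ≃+* T')
    (h : ∀ (M' : Ideal T') [M'.IsPrime], IsDomain (Localization.AtPrime M'))
    (M : Ideal T) [M.IsPrime] : IsDomain (Localization.AtPrime M) := by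
  haveI : (M.comap (e.symm : T' →+* T)).IsPrime := Ideal.comap_isPrime _ _
  have hM : M = (M.comap (e.symm : T' →+* T)).comap (e : T →+* T') := by
    ext x
    simp [Ideal.mem_comap]
  let e' := Localization.localRingEquiv M (M.comap (e.symm : T' →+* T)) e hM
  haveI := h (M.comap (e.symm : T' →+* T))
  exact e'.toMulEquiv.isDomain _

/-- the reduced case, for the concrete henselization -/
theorem encard_reduced_Hh (hfin : (minimalPrimes A).Finite) :
    {P : Ideal (integralClosure A (FractionRing A)) | P.IsMaximal}.encard =
      (minimalPrimes (Hh A)).encard := by
  have hN := normal_closure_of_finite A hfin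
  haveI : Algebra.IsIntegral A (integralClosure A (FractionRing A)) := inferInstance
  refine Groth.Agent.Helper2.NormCountG.main' (A := A)
    (B := integralClosure A (FractionRing A)) (C := Hh A)
    (Hh.exists_sub_mem) (Hens.map_maximalIdeal).symm ?_ (injective_algebraMap' A) (exists_den A)
  intro M hM
  exact Groth.Agent.Helper2.DomLoc.isDomain_atPrime hN M

end main

end Groth.Agent.Helper2.Brnch
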