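import Mathlib
import Groth.Prelude
import Groth.Agent.Helper2.BrnchA
import Groth.Agent.Helper2.HensInt
import Groth.Agent.Helper2.Unibr3

set_option autoImplicit false
set_option linter.style.haveILetI false
set_option linter.unusedSectionVars false
set_option linter.dupNamespace false

/-!
# Number of branches = number of minimal primes of the henselization (S9237)
-/

namespace Groth.Agent.Helper2.Brnch

universe u

open TensorProduct IsLocalRing Groth.Agent.Helper1.Hens

section generic

/-- contraction along a surjection with nil kernel is a bijection on minimal primes -/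
theorem bijOn_minimalPrimes_of_surjective {R R' : Type*} [CommRing R] [CommRing R'] (f : R →+* R')
    (hf : Function.Surjective f) (hker : RingHom.ker f ≤ nilradical R) :
    Set.BijOn (Ideal.comap f) (minimalPrimes R') (minimalPrimes R) := by
  have h1 : (RingHom.ker f).minimalPrimes = minimalPrimes R := by
    ext p
    constructor
    · rintro ⟨⟨hp, -⟩, hmin⟩
      refine ⟨⟨hp, bot_le⟩, fun q hq hqp => hmin ⟨hq.1, ?_⟩ hqp⟩
      haveI := hq.1
      exact hker.trans (nilradical_le_prime q)
    · rintro ⟨⟨hp, -⟩, hmin⟩
      haveI := hp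
      exact ⟨⟨hp, hker.trans (nilradical_le_prime p)⟩, fun q hq hqp => hmin ⟨hq.1, bot_le⟩ hqp⟩
  have h2 := Ideal.comap_minimalPrimes_eq_of_surjective hf (⊥ : Ideal R')
  rw [← RingHom.ker_eq_comap_bot, h1] at h2
  refine ⟨?_, ?_, ?_⟩
  · intro q hq
    rw [h2]
    exact ⟨q, hq, rfl⟩
  · intro q _ q' _ h
    exact Ideal.comap_injective_of_surjective f hf h
  · intro p hp
    rw [h2] at hp
    exact hp

theorem encard_minimalPrimes_of_ringEquiv {R R' : Type*} [CommRing R] [CommRing R']
    (e : R ≃+* R') : (minimalPrimes R).encard = (minimalPrimes R').encard := by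
  have h := bijOn_minimalPrimes_of_surjective (e : R →+* R') e.surjective (by
    intro x hx
    rw [RingHom.mem_ker] at hx
    have : x = 0 := e.injective (by rw [map_zero]; exact hx)
    rw [this]
    exact Ideal.zero_mem _)
  rw [← h.image_eq]
  exact h.injOn.encard_image

end generic

section main

variable (A S : Type u) [CommRing A] [IsLocalRing A]
    [CommRing S] [IsLocalRing S] [Algebra A S] [IsLocalHom (algebraMap A S)]
    [Hensel.IsHenselization A S]

/-- the reduced case for an abstract henselization -/
theorem encard_reduced [IsReduced A] (hfin : (minimalPrimes A).Finite) :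
    {P : Ideal (integralClosure A (FractionRing A)) | P.IsMaximal}.encard =
      (minimalPrimes S).encard := by
  rw [encard_reduced_Hh A hfin]
  exact (encard_minimalPrimes_of_ringEquiv (equivOfIsHenselization (R := A) S).toRingEquiv).symm

theorem exists_minimalPrimes_comap_eq (p : Ideal A) (hp : p ∈ minimalPrimes A) :
    ∃ q ∈ minimalPrimes S, q.comap (algebraMap A S) = p := by
  haveI := faithfullyFlat_of_isHenselization A S
  haveI : p.IsPrime := hp.1.1
  obtain ⟨P, hP, hPp⟩ := Ideal.exists_isPrime_liesOver_of_faithfullyFlat (B := S) p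
  obtain ⟨q, hq, hqP⟩ := Ideal.exists_minimalPrimes_le (bot_le : (⊥ : Ideal S) ≤ P)
  refine ⟨q, hq, ?_⟩
  haveI : q.IsPrime := hq.1.1
  have h1 : q.comap (algebraMap A S) ≤ p := by
    rw [hPp.over]
    exact Ideal.comap_mono hqP
  exact le_antisymm h1 (hp.2 ⟨Ideal.comap_isPrime _ _, bot_le⟩ h1)

theorem s9237 : ENat.card (minimalPrimes S) = Brnch.numBranches A := by
  classical
  unfold Brnch.numBranches
  split_ifs with hfin
  · -- finite case
    obtain ⟨hloc, hlh, hH⟩ := Groth.Agent.Helper2.HensInt.main A (CAlg2.red A) S
    haveI := hloc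
    haveI := hlh
    haveI := hH
    -- minimal primes of `red A`
    have hb := bijOn_minimalPrimes_of_surjective (Ideal.Quotient.mk (nilradical A))
      Ideal.Quotient.mk_surjective (by rw [Ideal.mk_ker])
    have hfin' : (minimalPrimes (CAlg2.red A)).Finite := by
      have h1 : (Ideal.comap (Ideal.Quotient.mk (nilradical A)) '' minimalPrimes (CAlg2.red A)).Finite := by
        rw [hb.image_eq]; exact hfin
      exact h1.of_finite_image hb.injOn
    haveI : IsReduced (CAlg2.red A) :=
      (Ideal.isRadical_iff_quotient_reduced (nilradical A)).mp (Ideal.radical_isRadical _)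
    have h1 := encard_reduced (CAlg2.red A) (CAlg2.red A ⊗[A] S) hfin'
    -- minimal primes of `red A ⊗ S` versus `S`
    have hJ : (nilradical A).map (algebraMap A S) ≤ nilradical S := by
      rw [Ideal.map_le_iff_le_comap]
      intro a ha
      rw [Ideal.mem_comap]
      exact (mem_nilradical.mp ha).map _
    have h2 := encard_minimalPrimes_of_ringEquiv
      (Algebra.TensorProduct.quotIdealMapEquivQuotTensor S (nilradical A)).toRingEquiv
    have hb2 := bijOn_minimalPrimes_of_surjective
      (Ideal.Quotient.mk ((nilradical A).map (algebraMap A S)))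
      Ideal.Quotient.mk_surjective (by rw [Ideal.mk_ker]; exact hJ)
    have h3 : (minimalPrimes (S ⧸ (nilradical A).map (algebraMap A S))).encard =
        (minimalPrimes S).encard := by
      rw [← hb2.image_eq]
      exact (hb2.injOn.encard_image).symm
    have h4 : ENat.card (MaximalSpectrum (CAlg2.normRed A)) =
        {P : Ideal (CAlg2.normRed A) | P.IsMaximal}.encard :=
      ENat.card_congr (MaximalSpectrum.equivSubtype (R := CAlg2.normRed A))
    rw [h4, h1, ← h2, h3]
    rfl
  · -- infinite case
    rw [ENat.card_eq_top]
    rw [Set.infinite_coe_iff]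
    intro hSfin
    apply hfin
    refine (hSfin.image (Ideal.comap (algebraMap A S))).subset ?_
    intro p hp
    obtain ⟨q, hq, hqp⟩ := exists_minimalPrimes_comap_eq A S p hp
    exact ⟨q, hq, hqp⟩

end main

end Groth.Agent.Helper2.Brnch
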