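import Mathlib
import Groth.Prelude
import Groth.Agent.Helper2.BrnchB
import Groth.Agent.Helper1.HensStrictTransfer

set_option autoImplicit false
set_option linter.style.haveILetI false
set_option linter.unusedSectionVars false
set_option linter.dupNamespace false

/-!
# Minimal primes and maximal ideals of `A' ⊗ A^sh` (S9305)
-/

namespace Groth.Agent.Helper2.Brnch

universe u

open TensorProduct IsLocalRing Groth.Agent.Helper1.Hens Groth.Agent.Helper2.NormCountG

section generic

variable {T : Type u} [CommRing T]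
  (hdom : ∀ (M : Ideal T) [M.IsMaximal], IsDomain (Localization.AtPrime M))

include hdom in
theorem existsUnique_minimalPrime_le (M : Ideal T) (hM : M.IsMaximal) :
    ∃! q : Ideal T, q ∈ minimalPrimes T ∧ q ≤ M := by
  haveI := hM
  refine ⟨qM T M, ⟨qM_mem_minimalPrimes hdom M, qM_le M⟩, ?_⟩
  rintro q ⟨hq, hqM⟩
  haveI : q.IsPrime := hq.1.1
  have h1 : qM T M ≤ q := qM_le_of_le M q hqM
  exact le_antisymm (hq.2 (qM_mem_minimalPrimes hdom M).1 h1) h1

theorem existsUnique_maximal_ge (C : Type u) [CommRing C] [Algebra C T] [Algebra.IsIntegral C T]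
    [HenselianLocalRing C] (q : Ideal T) (hq : q ∈ minimalPrimes T) :
    ∃! m : Ideal T, m.IsMaximal ∧ q ≤ m := by
  haveI : q.IsPrime := hq.1.1
  obtain ⟨M, hM, hqM⟩ := Ideal.exists_le_maximal q (Ideal.IsPrime.ne_top inferInstance)
  refine ⟨M, ⟨hM, hqM⟩, ?_⟩
  rintro M' ⟨hM', hqM'⟩
  haveI := hM
  haveI := hM'
  haveI : IsDomain (T ⧸ q) := Ideal.Quotient.isDomain q
  haveI : Algebra.IsIntegral C (T ⧸ q) :=
    Algebra.IsIntegral.trans (R := C) (A := T) (B := T ⧸ q)
  haveI : IsLocalRing (T ⧸ q) :=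
    Groth.Agent.Helper2.Unibr1.isLocalRing_of_isIntegral_of_isDomain C (T ⧸ q)
  rw [eq_comap_maximalIdeal q M' hqM', ← eq_comap_maximalIdeal q M hqM]

end generic

section main

variable {A Ash : Type u} [CommRing A] [IsLocalRing A] [CommRing Ash] [IsLocalRing Ash]
    [Algebra A Ash] [IsLocalHom (algebraMap A Ash)] [Hensel.IsStrictHenselization A Ash]

instance isIntegral_normRed : Algebra.IsIntegral A (CAlg2.normRed A) :=
  Algebra.IsIntegral.trans (R := A) (A := CAlg2.red A) (B := CAlg2.normRed A)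

theorem isNormalRing_normRed (hfin : (minimalPrimes A).Finite) :
    EGA4.IsNormalRing (CAlg2.normRed A) := by
  have hb := bijOn_minimalPrimes_of_surjective (Ideal.Quotient.mk (nilradical A))
    Ideal.Quotient.mk_surjective (by rw [Ideal.mk_ker])
  have hfin' : (minimalPrimes (CAlg2.red A)).Finite := by
    have h1 : (Ideal.comap (Ideal.Quotient.mk (nilradical A)) ''
        minimalPrimes (CAlg2.red A)).Finite := by
      rw [hb.image_eq]; exact hfin
    exact h1.of_finite_image hb.injOn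
  haveI : IsReduced (CAlg2.red A) :=
    (Ideal.isRadical_iff_quotient_reduced (nilradical A)).mp (Ideal.radical_isRadical _)
  exact normal_closure_of_finite (CAlg2.red A) hfin'

theorem isDomain_atPrime_strict (hfin : (minimalPrimes A).Finite)
    (M : Ideal ((CAlg2.normRed A) ⊗[A] Ash)) [M.IsPrime] :
    IsDomain (Localization.AtPrime M) := by
  have hN := isNormalRing_normRed (A := A) hfin
  let e : (CAlg2.normRed A) ⊗[A] Ash ≃ₐ[A] (CAlg2.normRed A) ⊗[A] Hens A (ResidueField Ash) :=
    Algebra.TensorProduct.congr AlgEquiv.refl (equivOfIsStrictHenselization A Ash)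
  exact isDomain_atPrime_of_ringEquiv (T := (CAlg2.normRed A) ⊗[A] Ash)
    (T' := (CAlg2.normRed A) ⊗[A] Hens A (ResidueField Ash)) e.toRingEquiv
    (fun M' _ => Groth.Agent.Helper2.DomLoc.isDomain_atPrime hN M') M

theorem s9305 (hfin : (minimalPrimes A).Finite) :
    (∀ q ∈ minimalPrimes ((CAlg2.normRed A) ⊗[A] Ash),
        ∃! m : Ideal ((CAlg2.normRed A) ⊗[A] Ash), m.IsMaximal ∧ q ≤ m) ∧
      (∀ m : Ideal ((CAlg2.normRed A) ⊗[A] Ash), m.IsMaximal →
        ∃! q : Ideal ((CAlg2.normRed A) ⊗[A] Ash),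
          q ∈ minimalPrimes ((CAlg2.normRed A) ⊗[A] Ash) ∧ q ≤ m) := by
  haveI : HenselianLocalRing Ash := Hensel.IsStrictHenselization.henselian (R := A)
  letI : Algebra Ash ((CAlg2.normRed A) ⊗[A] Ash) := (incl A (CAlg2.normRed A) Ash).toAlgebra
  haveI : Algebra.IsIntegral Ash ((CAlg2.normRed A) ⊗[A] Ash) :=
    ⟨includeRight_isIntegral A (CAlg2.normRed A) Ash⟩
  refine ⟨fun q hq => existsUnique_maximal_ge (T := (CAlg2.normRed A) ⊗[A] Ash) Ash q hq,
    fun m hm => ?_⟩
  exact existsUnique_minimalPrime_le (T := (CAlg2.normRed A) ⊗[A] Ash)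
    (fun M _ => isDomain_atPrime_strict (A := A) (Ash := Ash) hfin M) m hm

end main

end Groth.Agent.Helper2.Brnch
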