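import Mathlib
import Groth.Prelude
import Groth.Agent.Helper2.NormCountG6
import Groth.Agent.Helper2.BrnchB

set_option autoImplicit false
set_option linter.style.haveILetI false
set_option linter.unusedSectionVars false
set_option linter.dupNamespace false

/-!
# minimal primes of `B ⊗[A] C` versus `C` when `C → B ⊗ C` has nil kernel
-/

namespace Groth.Agent.Helper2.NormCountG

universe u

open TensorProduct IsLocalRing

section T

variable {A B C : Type u} [CommRing A] [CommRing B] [CommRing C] [Algebra A B] [Algebra A C]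
  [IsLocalRing A] [IsLocalRing C]

theorem bijOn_min'' [Module.Flat A C]
    (hker : ∀ c : C, (1 : B) ⊗ₜ[A] c = 0 → IsNilpotent c)
    (hden : ∀ b : B, ∃ t : A, algebraMap A B t ∈ nonZeroDivisors B ∧
      ∃ r : A, algebraMap A B t * b = algebraMap A B r) :
    Set.BijOn (Ideal.comap (incl A B C)) (minimalPrimes (B ⊗[A] C)) (minimalPrimes C) := by
  -- factor `incl` through its image
  let K : Ideal C := RingHom.ker (incl A B C)
  have hK : K ≤ nilradical C := by
    intro c hc
    rw [RingHom.mem_ker] at hc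
    exact mem_nilradical.mpr (hker c hc)
  let g : C ⧸ K →+* B ⊗[A] C := RingHom.kerLift (incl A B C)
  have hg : Function.Injective g := RingHom.kerLift_injective (incl A B C)
  have hgmk : ∀ c : C, g (Ideal.Quotient.mk K c) = incl A B C c := fun c => rfl
  letI : Algebra (C ⧸ K) (B ⊗[A] C) := g.toAlgebra
  have halg : ∀ x : C ⧸ K, algebraMap (C ⧸ K) (B ⊗[A] C) x = g x := fun x => rfl
  have hkey : ∀ t : A, incl A B C (algebraMap A C t) =
      algebraMap B (B ⊗[A] C) (algebraMap A B t) := by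
    intro t
    change (1 : B) ⊗ₜ[A] (algebraMap A C t) = (algebraMap A B t) ⊗ₜ[A] (1 : C)
    rw [Algebra.algebraMap_eq_smul_one, Algebra.algebraMap_eq_smul_one (A := B),
      TensorProduct.smul_tmul]
  let W : Submonoid (C ⧸ K) := (Wden A B C).map (Ideal.Quotient.mk K)
  have hW : ∀ w ∈ W, algebraMap (C ⧸ K) (B ⊗[A] C) w ∈ nonZeroDivisors (B ⊗[A] C) := by
    rintro _ ⟨_, ⟨t, ht, rfl⟩, rfl⟩
    rw [halg, hgmk, hkey]
    have h1 : IsSMulRegular (B ⊗[A] C) (algebraMap A B t) :=
      Module.Flat.isSMulRegular_of_nonZeroDivisors ht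
    rw [mem_nonZeroDivisors_iff_right]
    intro x hx
    apply h1
    change (algebraMap A B t) • x = (algebraMap A B t) • (0 : B ⊗[A] C)
    rw [smul_zero, Algebra.smul_def, mul_comm]
    exact hx
  have hcond : ∀ x : B ⊗[A] C, ∃ w ∈ W, ∃ r : C ⧸ K,
      algebraMap (C ⧸ K) (B ⊗[A] C) w * x = algebraMap (C ⧸ K) (B ⊗[A] C) r := by
    intro x
    induction x using TensorProduct.induction_on with
    | zero => exact ⟨1, W.one_mem, 0, by rw [mul_zero, map_zero]⟩
    | tmul b c =>
      obtain ⟨t, ht, r, hr⟩ := hden b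
      refine ⟨Ideal.Quotient.mk K (algebraMap A C t), ⟨_, ⟨t, ht, rfl⟩, rfl⟩,
        Ideal.Quotient.mk K (algebraMap A C r * c), ?_⟩
      rw [halg, halg, hgmk, hgmk, hkey]
      change (algebraMap A B t) ⊗ₜ[A] (1 : C) * b ⊗ₜ[A] c = (1 : B) ⊗ₜ[A] (algebraMap A C r * c)
      rw [Algebra.TensorProduct.tmul_mul_tmul, one_mul, hr, Algebra.algebraMap_eq_smul_one,
        TensorProduct.smul_tmul, Algebra.smul_def, Algebra.algebraMap_eq_smul_one (A := C),
        smul_mul_assoc, one_mul]
    | add x y hx hy =>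
      obtain ⟨w, hw, a, ha⟩ := hx
      obtain ⟨v, hv, b, hb⟩ := hy
      refine ⟨w * v, W.mul_mem hw hv, v * a + w * b, ?_⟩
      rw [map_add, map_mul, map_mul, map_mul, ← ha, ← hb]
      ring
  have h1 : Set.BijOn (Ideal.comap (algebraMap (C ⧸ K) (B ⊗[A] C))) (minimalPrimes (B ⊗[A] C))
      (minimalPrimes (C ⧸ K)) :=
    Groth.Agent.Helper2.MinCondW.bijOn_minimalPrimes hg W hcond hW
  have h2 : Set.BijOn (Ideal.comap (Ideal.Quotient.mk K)) (minimalPrimes (C ⧸ K))
      (minimalPrimes C) :=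
    Groth.Agent.Helper2.Brnch.bijOn_minimalPrimes_of_surjective (Ideal.Quotient.mk K)
      Ideal.Quotient.mk_surjective (by rw [Ideal.mk_ker]; exact hK)
  have h3 := h2.comp h1
  have h4 : (Ideal.comap (Ideal.Quotient.mk K)) ∘ (Ideal.comap (algebraMap (C ⧸ K) (B ⊗[A] C))) =
      Ideal.comap (incl A B C) := by
    funext Q
    simp only [Function.comp_apply]
    rw [Ideal.comap_comap]
    rfl
  rwa [h4] at h3

end T

end Groth.Agent.Helper2.NormCountG
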