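import Mathlib
import Groth.Prelude
import Groth.Agent.Helper2.BrnchC
import Groth.Agent.Helper2.NormCountG7

set_option autoImplicit false
set_option linter.style.haveILetI false
set_option linter.unusedSectionVars false
set_option linter.dupNamespace false

/-!
# Maximal ideals of `A' ⊗ A^sh` and embeddings of residue fields (towards S9238)
-/

namespace Groth.Agent.Helper2.Brnch

universe u

open TensorProduct IsLocalRing Groth.Agent.Helper1.Hens Groth.Agent.Helper2.NormCountG

section uniq

/-- Lemma U: two ring maps from an integral algebra over a local ring with separably closed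
residue field into a field, agreeing on the base and with the same kernel, are equal. -/
theorem eq_of_ker_eq {S T L : Type u} [CommRing S] [IsLocalRing S] [IsSepClosed (ResidueField S)]
    [CommRing T] [Algebra S T] [Algebra.IsIntegral S T] [Field L]
    (ψ ψ' : T →+* L) (hS : ψ.comp (algebraMap S T) = ψ'.comp (algebraMap S T))
    (hj : RingHom.ker (ψ.comp (algebraMap S T)) = maximalIdeal S)
    (hker : RingHom.ker ψ = RingHom.ker ψ') : ψ = ψ' := by
  set M := RingHom.ker ψ with hM
  haveI : M.IsPrime := RingHom.ker_isPrime ψ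
  haveI : M.LiesOver (maximalIdeal S) := ⟨by
    rw [← hj, hM]
    rfl⟩
  haveI : M.IsMaximal := by
    apply Ideal.isMaximal_of_isIntegral_of_isMaximal_comap (R := S) M
    have : M.comap (algebraMap S T) = maximalIdeal S := by
      rw [← hj, hM]
      rfl
    rw [this]
    exact maximalIdeal.isMaximal S
  letI : Field (T ⧸ M) := Ideal.Quotient.field M
  letI : Algebra (S ⧸ maximalIdeal S) (T ⧸ M) := Ideal.Quotient.algebraOfLiesOver M (maximalIdeal S)
  haveI : Algebra.IsIntegral (S ⧸ maximalIdeal S) (T ⧸ M) :=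
    Ideal.Quotient.algebra_isIntegral_of_liesOver M (maximalIdeal S)
  letI : Field (S ⧸ maximalIdeal S) := Ideal.Quotient.field (maximalIdeal S)
  haveI : IsSepClosed (S ⧸ maximalIdeal S) := ‹IsSepClosed (ResidueField S)›
  haveI : IsPurelyInseparable (S ⧸ maximalIdeal S) (T ⧸ M) := inferInstance
  let φ : T ⧸ M →+* L := Ideal.Quotient.lift M ψ (fun a ha => ha)
  let φ' : T ⧸ M →+* L := Ideal.Quotient.lift M ψ' (fun a ha => RingHom.mem_ker.mp (hker ▸ ha))
  have h1 : φ.comp (algebraMap (S ⧸ maximalIdeal S) (T ⧸ M)) =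
      φ'.comp (algebraMap (S ⧸ maximalIdeal S) (T ⧸ M)) := by
    apply Ideal.Quotient.ringHom_ext
    ext s
    exact congr($hS s)
  have h2 : φ = φ' :=
    IsPurelyInseparable.injective_comp_algebraMap (S ⧸ maximalIdeal S) (T ⧸ M) L h1
  ext t
  exact congr($h2 (Ideal.Quotient.mk M t))

/-- Lemma E: extension of a map `S → L` into an algebraically closed field to `T/M`. -/
theorem exists_extension {S T L : Type u} [CommRing S] [IsLocalRing S]
    [CommRing T] [Algebra S T] [Algebra.IsIntegral S T] [Field L] [IsAlgClosed L]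
    (j : S →+* L) (hj : RingHom.ker j = maximalIdeal S) (M : Ideal T) [hM : M.IsMaximal] :
    ∃ u : T →+* L, RingHom.ker u = M ∧ u.comp (algebraMap S T) = j := by
  have hcomap : M.comap (algebraMap S T) = maximalIdeal S :=
    IsLocalRing.eq_maximalIdeal (Ideal.isMaximal_comap_of_isIntegral_of_isMaximal M)
  haveI : M.LiesOver (maximalIdeal S) := ⟨hcomap.symm⟩
  letI : Field (T ⧸ M) := Ideal.Quotient.field M
  letI : Field (S ⧸ maximalIdeal S) := Ideal.Quotient.field (maximalIdeal S)
  letI : Algebra (S ⧸ maximalIdeal S) (T ⧸ M) := Ideal.Quotient.algebraOfLiesOver M (maximalIdeal S)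
  haveI : Algebra.IsIntegral (S ⧸ maximalIdeal S) (T ⧸ M) :=
    Ideal.Quotient.algebra_isIntegral_of_liesOver M (maximalIdeal S)
  let jb : S ⧸ maximalIdeal S →+* L := Ideal.Quotient.lift (maximalIdeal S) j (fun a ha => by
    rw [← hj] at ha; exact ha)
  letI : Algebra (S ⧸ maximalIdeal S) L := jb.toAlgebra
  let v : T ⧸ M →ₐ[S ⧸ maximalIdeal S] L := IsAlgClosed.lift
  refine ⟨v.toRingHom.comp (Ideal.Quotient.mk M), ?_, ?_⟩
  · ext t
    rw [RingHom.mem_ker, RingHom.comp_apply]
    constructor
    · intro h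
      have h1 : Ideal.Quotient.mk M t = 0 := (map_eq_zero v.toRingHom).mp h
      exact Ideal.Quotient.eq_zero_iff_mem.mp h1
    · intro h
      rw [Ideal.Quotient.eq_zero_iff_mem.mpr h, map_zero]
  · ext s
    rw [RingHom.comp_apply, RingHom.comp_apply]
    have h1 : Ideal.Quotient.mk M (algebraMap S T s) =
        algebraMap (S ⧸ maximalIdeal S) (T ⧸ M) (Ideal.Quotient.mk (maximalIdeal S) s) := rfl
    rw [h1]
    exact v.commutes (Ideal.Quotient.mk (maximalIdeal S) s)

end uniq

section emb

variable (A S : Type u) [CommRing A] [IsLocalRing A] [CommRing S] [IsLocalRing S] [Algebra A S]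
    [IsLocalHom (algebraMap A S)] [hS : Hensel.IsStrictHenselization A S]

instance : IsSepClosure (ResidueField A) (ResidueField S) := hS.isSepClosure

instance : Algebra.IsAlgebraic (ResidueField A) (ResidueField S) :=
  haveI : Algebra.IsSeparable (ResidueField A) (ResidueField S) :=
    IsSepClosure.separable
  inferInstance

/-- the chosen embedding of the residue field of `S` in the algebraic closure -/
noncomputable def j₀ : ResidueField S →ₐ[ResidueField A] AlgebraicClosure (ResidueField A) :=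
  IsAlgClosed.lift

/-- the map `S → κ̄`. -/
noncomputable def jmap : S →+* AlgebraicClosure (ResidueField A) :=
  (j₀ A S).toRingHom.comp (residue S)

theorem jmap_comp : (jmap A S).comp (algebraMap A S) = _root_.Brnch.toClosure A := by
  ext a
  simp only [jmap, RingHom.comp_apply, _root_.Brnch.toClosure]
  rw [← IsLocalRing.ResidueField.algebraMap_residue]
  exact (j₀ A S).commutes (residue A a)

theorem ker_jmap : RingHom.ker (jmap A S) = maximalIdeal S := by
  ext s
  rw [RingHom.mem_ker, jmap, RingHom.comp_apply]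
  constructor
  · intro h
    have h1 : residue S s = 0 := (map_eq_zero (j₀ A S).toRingHom).mp h
    exact (IsLocalRing.residue_eq_zero_iff s).mp h1
  · intro h
    rw [(IsLocalRing.residue_eq_zero_iff s).mpr h, map_zero]

/-- the ring map `A' ⊗ S → κ̄` attached to an embedding of a residue field of `A'`. -/
noncomputable def psi (m' : MaximalSpectrum (CAlg2.normRed A)) (σ : _root_.Brnch.Emb A m') :
    (CAlg2.normRed A) ⊗[A] S →+* AlgebraicClosure (ResidueField A) :=
  letI : Algebra A (AlgebraicClosure (ResidueField A)) := (_root_.Brnch.toClosure A).toAlgebra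
  (Algebra.TensorProduct.lift
    ({ toRingHom := σ.1.comp (Ideal.Quotient.mk m'.asIdeal)
       commutes' := fun a => congr($(σ.2) a) } :
      CAlg2.normRed A →ₐ[A] AlgebraicClosure (ResidueField A))
    ({ toRingHom := jmap A S
       commutes' := fun a => congr($(jmap_comp A S) a) } :
      S →ₐ[A] AlgebraicClosure (ResidueField A))
    (fun _ _ => Commute.all _ _)).toRingHom

theorem psi_tmul (m' : MaximalSpectrum (CAlg2.normRed A)) (σ : _root_.Brnch.Emb A m')
    (a : CAlg2.normRed A) (s : S) :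
    psi A S m' σ (a ⊗ₜ[A] s) = σ.1 (Ideal.Quotient.mk m'.asIdeal a) * jmap A S s := by
  simp [psi]

theorem psi_comp_incl (m' : MaximalSpectrum (CAlg2.normRed A)) (σ : _root_.Brnch.Emb A m') :
    (psi A S m' σ).comp (incl A (CAlg2.normRed A) S) = jmap A S := by
  ext s
  rw [RingHom.comp_apply, incl_apply, psi_tmul, map_one, map_one, one_mul]

theorem comap_ker_psi (m' : MaximalSpectrum (CAlg2.normRed A)) (σ : _root_.Brnch.Emb A m') :
    (RingHom.ker (psi A S m' σ)).comap (algebraMap (CAlg2.normRed A) ((CAlg2.normRed A) ⊗[A] S)) =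
      m'.asIdeal := by
  ext a
  rw [Ideal.mem_comap, RingHom.mem_ker]
  have h1 : algebraMap (CAlg2.normRed A) ((CAlg2.normRed A) ⊗[A] S) a = a ⊗ₜ[A] (1 : S) := rfl
  rw [h1, psi_tmul, map_one, mul_one]
  haveI := m'.isMaximal
  letI : Field (CAlg2.normRed A ⧸ m'.asIdeal) := Ideal.Quotient.field _
  rw [map_eq_zero, Ideal.Quotient.eq_zero_iff_mem]

theorem ker_psi_isMaximal (m' : MaximalSpectrum (CAlg2.normRed A)) (σ : _root_.Brnch.Emb A m') :
    (RingHom.ker (psi A S m' σ)).IsMaximal := by
  letI : Algebra S ((CAlg2.normRed A) ⊗[A] S) := (incl A (CAlg2.normRed A) S).toAlgebra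
  haveI : Algebra.IsIntegral S ((CAlg2.normRed A) ⊗[A] S) :=
    ⟨includeRight_isIntegral A (CAlg2.normRed A) S⟩
  haveI : (RingHom.ker (psi A S m' σ)).IsPrime := RingHom.ker_isPrime _
  have h1 : (RingHom.ker (psi A S m' σ)).comap (algebraMap S ((CAlg2.normRed A) ⊗[A] S)) =
      maximalIdeal S := by
    rw [← ker_jmap A S, ← psi_comp_incl A S m' σ]
    rfl
  have hI : ∀ (I : Ideal ((CAlg2.normRed A) ⊗[A] S)) [I.IsPrime],
      (I.comap (algebraMap S ((CAlg2.normRed A) ⊗[A] S))).IsMaximal → I.IsMaximal :=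
    fun I _ h => Ideal.isMaximal_of_isIntegral_of_isMaximal_comap (R := S)
      (S := (CAlg2.normRed A) ⊗[A] S) I h
  refine hI _ ?_
  rw [h1]
  exact maximalIdeal.isMaximal S

/-- the map from pairs (maximal ideal, embedding) to maximal ideals of `A' ⊗ S` -/
noncomputable def Phi :
    (Σ m' : MaximalSpectrum (CAlg2.normRed A), _root_.Brnch.Emb A m') →
      {M : Ideal ((CAlg2.normRed A) ⊗[A] S) // M.IsMaximal} :=
  fun x => ⟨RingHom.ker (psi A S x.1 x.2), ker_psi_isMaximal A S x.1 x.2⟩

theorem Phi_injective : Function.Injective (Phi A S) := by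
  rintro ⟨m₁, σ₁⟩ ⟨m₂, σ₂⟩ h
  have hk : RingHom.ker (psi A S m₁ σ₁) = RingHom.ker (psi A S m₂ σ₂) := congrArg Subtype.val h
  have hm : m₁ = m₂ := by
    apply MaximalSpectrum.ext
    rw [← comap_ker_psi A S m₁ σ₁, ← comap_ker_psi A S m₂ σ₂, hk]
  subst hm
  letI : Algebra S ((CAlg2.normRed A) ⊗[A] S) := (incl A (CAlg2.normRed A) S).toAlgebra
  haveI : Algebra.IsIntegral S ((CAlg2.normRed A) ⊗[A] S) :=
    ⟨includeRight_isIntegral A (CAlg2.normRed A) S⟩
  haveI : IsSepClosed (ResidueField S) := IsSepClosure.sep_closed (ResidueField A)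
  have hψ : psi A S m₁ σ₁ = psi A S m₁ σ₂ := by
    refine eq_of_ker_eq (S := S) (T := (CAlg2.normRed A) ⊗[A] S) _ _ ?_ ?_ hk
    · exact (psi_comp_incl A S m₁ σ₁).trans (psi_comp_incl A S m₁ σ₂).symm
    · exact (congrArg RingHom.ker (psi_comp_incl A S m₁ σ₁)).trans (ker_jmap A S)
  have hσ : σ₁ = σ₂ := by
    apply Subtype.ext
    apply Ideal.Quotient.ringHom_ext
    ext a
    have := congr($hψ (a ⊗ₜ[A] (1 : S)))
    rw [psi_tmul, psi_tmul, map_one, mul_one, mul_one] at this
    exact this
  rw [hσ]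

theorem Phi_surjective : Function.Surjective (Phi A S) := by
  rintro ⟨M, hM⟩
  haveI := hM
  letI : Algebra S ((CAlg2.normRed A) ⊗[A] S) := (incl A (CAlg2.normRed A) S).toAlgebra
  haveI : Algebra.IsIntegral S ((CAlg2.normRed A) ⊗[A] S) :=
    ⟨includeRight_isIntegral A (CAlg2.normRed A) S⟩
  obtain ⟨u, hu, huj⟩ := exists_extension (S := S) (T := (CAlg2.normRed A) ⊗[A] S)
    (jmap A S) (ker_jmap A S) M
  have hmax : maximalIdeal S = (maximalIdeal A).map (algebraMap A S) :=
    (map_maximalIdeal_of_isStrictHenselization A S).symm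
  have hm' := comap_isMaximal (A := A) (B := CAlg2.normRed A) (C := S) hmax M
  let m' : MaximalSpectrum (CAlg2.normRed A) := ⟨_, hm'⟩
  let σ₀ : CAlg2.normRed A ⧸ m'.asIdeal →+* AlgebraicClosure (ResidueField A) :=
    Ideal.Quotient.lift m'.asIdeal
      (u.comp (algebraMap (CAlg2.normRed A) ((CAlg2.normRed A) ⊗[A] S))) (by
        intro a ha
        have h1 : algebraMap (CAlg2.normRed A) ((CAlg2.normRed A) ⊗[A] S) a ∈ M := ha
        rw [← hu] at h1
        exact h1)
  have hσ₀ : σ₀.comp (_root_.Brnch.toResidue A m') = _root_.Brnch.toClosure A := by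
    ext a
    rw [← jmap_comp A S, ← huj]
    simp only [RingHom.comp_apply, _root_.Brnch.toResidue, σ₀, Ideal.Quotient.lift_mk]
    congr 1
    change (algebraMap A (CAlg2.normRed A) a) ⊗ₜ[A] (1 : S) = (1 : CAlg2.normRed A) ⊗ₜ[A] (algebraMap A S a)
    rw [Algebra.algebraMap_eq_smul_one, Algebra.algebraMap_eq_smul_one (A := S),
      TensorProduct.smul_tmul]
  refine ⟨⟨m', ⟨σ₀, hσ₀⟩⟩, ?_⟩
  apply Subtype.ext
  change RingHom.ker (psi A S m' ⟨σ₀, hσ₀⟩) = M
  have hψu : psi A S m' ⟨σ₀, hσ₀⟩ = u := by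
    refine RingHom.ext fun x => ?_
    induction x using TensorProduct.induction_on with
    | zero => rw [map_zero, map_zero]
    | tmul a s =>
      rw [psi_tmul]
      have h1 : a ⊗ₜ[A] s = (a ⊗ₜ[A] (1 : S)) * ((1 : CAlg2.normRed A) ⊗ₜ[A] s) := by
        rw [Algebra.TensorProduct.tmul_mul_tmul, mul_one, one_mul]
      rw [h1, map_mul]
      congr 1
      exact (congr($huj s)).symm
    | add x y hx hy => rw [map_add, map_add, hx, hy]
  rw [hψu, hu]

theorem encard_max_eq_card_emb :
    {M : Ideal ((CAlg2.normRed A) ⊗[A] S) | M.IsMaximal}.encard =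
      ENat.card (Σ m' : MaximalSpectrum (CAlg2.normRed A), _root_.Brnch.Emb A m') :=
  (ENat.card_congr (Equiv.ofBijective (Phi A S) ⟨Phi_injective A S, Phi_surjective A S⟩)).symm

end emb

end Groth.Agent.Helper2.Brnch
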