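import Mathlib
import Groth.Prelude
import Groth.Agent.Helper2.BrnchD
import Groth.Agent.Helper2.SmGU2

set_option autoImplicit false
set_option linter.style.haveILetI false
set_option linter.unusedSectionVars false
set_option linter.dupNamespace false

/-!
# Number of geometric branches = number of minimal primes of the strict henselization (S9238)
-/

namespace Groth.Agent.Helper2.Brnch

universe u

open TensorProduct IsLocalRing Groth.Agent.Helper1.Hens Groth.Agent.Helper2.NormCountG

theorem exists_minimalPrimes_comap_eq' (A S : Type u) [CommRing A] [CommRing S] [Algebra A S]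
    [Module.FaithfullyFlat A S] (p : Ideal A) (hp : p ∈ minimalPrimes A) :
    ∃ q ∈ minimalPrimes S, q.comap (algebraMap A S) = p := by
  haveI : p.IsPrime := hp.1.1
  obtain ⟨P, hP, hPp⟩ := Ideal.exists_isPrime_liesOver_of_faithfullyFlat (B := S) p
  obtain ⟨q, hq, hqP⟩ := Ideal.exists_minimalPrimes_le (bot_le : (⊥ : Ideal S) ≤ P)
  refine ⟨q, hq, ?_⟩
  haveI : q.IsPrime := hq.1.1
  have h1 : q.comap (algebraMap A S) ≤ p := by
    rw [hPp.over]
    exact Ideal.comap_mono hqP
  exact le_antisymm h1 (hp.2 ⟨Ideal.comap_isPrime _ _, bot_le⟩ h1)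

theorem infinite_minimalPrimes_of_faithfullyFlat (A S : Type u) [CommRing A] [CommRing S]
    [Algebra A S] [Module.FaithfullyFlat A S] (h : ¬ (minimalPrimes A).Finite) :
    ENat.card (minimalPrimes S) = ⊤ := by
  rw [ENat.card_eq_top, Set.infinite_coe_iff]
  intro hSfin
  apply h
  refine (hSfin.image (Ideal.comap (algebraMap A S))).subset ?_
  intro p hp
  obtain ⟨q, hq, hqp⟩ := exists_minimalPrimes_comap_eq' A S p hp
  exact ⟨q, hq, hqp⟩

/-- denominators for `normRed A` coming from `A` -/
theorem exists_den_normRed (A : Type u) [CommRing A] (b : CAlg2.normRed A) :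
    ∃ t : A, algebraMap A (CAlg2.normRed A) t ∈ nonZeroDivisors (CAlg2.normRed A) ∧
      ∃ r : A, algebraMap A (CAlg2.normRed A) t * b = algebraMap A (CAlg2.normRed A) r := by
  obtain ⟨t', ht', r', hr'⟩ := exists_den (CAlg2.red A) b
  obtain ⟨t, rfl⟩ := Ideal.Quotient.mk_surjective t'
  obtain ⟨r, rfl⟩ := Ideal.Quotient.mk_surjective r'
  exact ⟨t, ht', r, hr'⟩

section main

variable (A S : Type u) [CommRing A] [IsLocalRing A] [CommRing S] [IsLocalRing S] [Algebra A S]
    [IsLocalHom (algebraMap A S)] [hS : Hensel.IsStrictHenselization A S]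

theorem s9238 : ENat.card (minimalPrimes S) = _root_.Brnch.numGeomBranches A := by
  classical
  haveI := faithfullyFlat_of_isStrictHenselization A S
  unfold _root_.Brnch.numGeomBranches
  split_ifs with hfin
  · haveI : HenselianLocalRing S := Hensel.IsStrictHenselization.henselian (R := A)
    letI : Algebra S ((CAlg2.normRed A) ⊗[A] S) := (incl A (CAlg2.normRed A) S).toAlgebra
    haveI : Algebra.IsIntegral S ((CAlg2.normRed A) ⊗[A] S) :=
      ⟨includeRight_isIntegral A (CAlg2.normRed A) S⟩
    have h1 := bijOn_min'' (A := A) (B := CAlg2.normRed A) (C := S)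
      (fun c hc => Groth.Agent.Helper2.SmGU2.isNilpotent_of_tmul_eq_zero A S c hc)
      (exists_den_normRed A)
    have h2 := encard_max_eq_encard_min (T := (CAlg2.normRed A) ⊗[A] S)
      (fun M _ => isDomain_atPrime_strict (A := A) (Ash := S) hfin M) S
    have h3 := encard_max_eq_card_emb A S
    have h4 : (minimalPrimes ((CAlg2.normRed A) ⊗[A] S)).encard = (minimalPrimes S).encard := by
      rw [← h1.image_eq]
      exact (h1.injOn.encard_image).symm
    rw [← h3, h2, h4]
    rfl
  · exact infinite_minimalPrimes_of_faithfullyFlat A S hfin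

end main

end Groth.Agent.Helper2.Brnch
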