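import Mathlib
import Groth.Prelude
import Groth.Agent.Helper3.HensProd2
set_option autoImplicit false
universe u
open IsLocalRing TensorProduct

namespace Groth.Agent.Helper2.HensFactor

/-- local factors of a finite algebra over a henselian local ring: every element outside a maximal
ideal becomes invertible, with inverse in the image, after localizing. -/
theorem exists_inv (H C : Type u) [CommRing H] [HenselianLocalRing H] [CommRing C] [Algebra H C]
    [Module.Finite H C] (Q : Ideal C) [hQ : Q.IsMaximal] (s : C) (hs : s ∉ Q) :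
    ∃ t u : C, u ∉ Q ∧ u * (s * t - 1) = 0 := by
  classical
  obtain ⟨ι, _, A, _, hloc, ⟨e⟩⟩ := Groth.Agent.Helper3.HensProd.finite_pi_of_hens H C
  haveI := hloc
  let Q' : Ideal (∀ i, A i) := Q.comap (e.symm : (∀ i, A i) →+* C)
  haveI hQ' : Q'.IsMaximal := Ideal.comap_isMaximal_of_surjective _ e.symm.surjective
  obtain ⟨i, q, hq⟩ := PrimeSpectrum.exists_comap_evalRingHom_eq
    (⟨Q', hQ'.isPrime⟩ : PrimeSpectrum (∀ i, A i))
  have hq' : ∀ x : (∀ i, A i), x ∈ Q' ↔ x i ∈ q.asIdeal := by
    intro x
    have := congrArg (fun p : PrimeSpectrum (∀ i, A i) => x ∈ p.asIdeal) hq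
    simp only [PrimeSpectrum.comap_asIdeal, Ideal.mem_comap, Pi.evalRingHom_apply,
      eq_iff_iff] at this
    exact this.symm
  have hes : e s ∉ Q' := by
    intro h
    have : e.symm (e s) ∈ Q := h
    rw [e.symm_apply_apply] at this
    exact hs this
  have hunit : IsUnit (e s i) := by
    by_contra hnu
    have hm : e s i ∈ maximalIdeal (A i) := (mem_maximalIdeal _).mpr hnu
    let M : Ideal (∀ i, A i) := (maximalIdeal (A i)).comap (Pi.evalRingHom A i)
    have hM : M ≠ ⊤ := by
      intro h
      have h1 : (1 : ∀ i, A i) ∈ M := h ▸ Submodule.mem_top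
      have h2 : (1 : A i) ∈ maximalIdeal (A i) := h1
      exact (Ideal.ne_top_iff_one _).mp (maximalIdeal.isMaximal (A i)).ne_top h2
    have hle : Q' ≤ M := by
      intro x hx
      have h1 : x i ∈ q.asIdeal := (hq' x).mp hx
      exact IsLocalRing.le_maximalIdeal q.2.ne_top h1
    have heq : Q' = M := hQ'.eq_of_le hM hle
    exact hes (heq ▸ hm)
  obtain ⟨w, hw⟩ := hunit.exists_right_inv
  refine ⟨e.symm (Pi.single i w), e.symm (Pi.single i 1), ?_, ?_⟩
  · intro h
    have h1 : (Pi.single i (1 : A i) : ∀ i, A i) ∈ Q' := h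
    rw [hq', Pi.single_eq_same] at h1
    exact q.2.ne_top ((Ideal.eq_top_iff_one _).mpr h1)
  · apply e.injective
    rw [map_mul, map_sub, map_mul, map_one, map_zero, e.apply_symm_apply, e.apply_symm_apply]
    ext j
    by_cases hj : j = i
    · subst hj
      simp [hw]
    · simp [Pi.single_eq_of_ne hj]

theorem surjective_algebraMap (H C : Type u) [CommRing H] [HenselianLocalRing H] [CommRing C]
    [Algebra H C] [Module.Finite H C] (Q : Ideal C) [hQ : Q.IsMaximal] :
    Function.Surjective (algebraMap C (Localization.AtPrime Q)) := by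
  intro x
  obtain ⟨c, s, rfl⟩ := IsLocalization.exists_mk'_eq Q.primeCompl x
  obtain ⟨t, u, hu, hust⟩ := exists_inv H C Q s s.2
  refine ⟨c * t, ?_⟩
  rw [eq_comm, IsLocalization.mk'_eq_iff_eq_mul]
  have hu' : IsUnit (algebraMap C (Localization.AtPrime Q) u) :=
    IsLocalization.map_units _ (⟨u, hu⟩ : Q.primeCompl)
  have h1 : algebraMap C (Localization.AtPrime Q) (s * t - 1) = 0 := by
    have := congrArg (algebraMap C (Localization.AtPrime Q)) hust
    rw [map_mul, map_zero] at this
    exact (hu'.mul_right_eq_zero).mp this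
  rw [map_sub, map_mul, map_one, sub_eq_zero] at h1
  rw [map_mul, mul_assoc, mul_comm (algebraMap C _ t), h1, mul_one]

end Groth.Agent.Helper2.HensFactor
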