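import Mathlib
import Groth.Prelude
set_option autoImplicit false
universe u
open IsLocalRing TensorProduct

namespace Groth.Agent.Helper2.HensTens

section Abstract
variable {P L T Rh Sh E : Type u} [CommRing P] [CommRing L] [CommRing T] [CommRing Rh]
  [CommRing Sh] [CommRing E] [IsLocalRing P] [IsLocalRing L] [IsLocalRing T] [IsLocalRing Rh]
  [IsLocalRing Sh] [IsLocalRing E]
  [Algebra P Rh] [IsLocalHom (algebraMap P Rh)] [Hensel.IsHenselization P Rh]
  [Algebra L Sh] [IsLocalHom (algebraMap L Sh)] [Hensel.IsHenselization L Sh]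
  [Algebra T E] [IsLocalHom (algebraMap T E)] [Hensel.IsHenselization T E]

theorem abstract_equiv (a : P →+* L) [IsLocalHom a] (σ : L →+* T) [IsLocalHom σ]
    (ρ : Rh →+* T) (hρ : ρ.comp (algebraMap P Rh) = σ.comp a)
    (ψ : T →+* Sh) [IsLocalHom ψ] (hψ : ψ.comp σ = algebraMap L Sh)
    (hepi : ∀ (u v : T →+* E), u.comp ρ = v.comp ρ → u.comp σ = v.comp σ → u = v) :
    ∃ e : E ≃+* Sh, ∀ t : T, e (algebraMap T E t) = ψ t := by
  haveI hSh : HenselianLocalRing Sh := Hensel.IsHenselization.henselian L
  haveI hE : HenselianLocalRing E := Hensel.IsHenselization.henselian T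
  -- g : E → Sh
  obtain ⟨g, hg, -⟩ := Hensel.IsHenselization.universal (R := T) (S := E) Sh ψ inferInstance
  -- h : Sh → E
  have hfloc : IsLocalHom ((algebraMap T E).comp σ) := RingHom.isLocalHom_comp _ _
  obtain ⟨h, hh, -⟩ := Hensel.IsHenselization.universal (R := L) (S := Sh) E
    ((algebraMap T E).comp σ) hfloc
  -- g ∘ h = id
  have hgh : g.comp h = RingHom.id Sh := by
    obtain ⟨w, -, hw⟩ := Hensel.IsHenselization.universal (R := L) (S := Sh) Sh
      (algebraMap L Sh) inferInstance
    have e1 : (g.comp h).comp (algebraMap L Sh) = algebraMap L Sh := by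
      rw [RingHom.comp_assoc, hh, ← RingHom.comp_assoc, hg, hψ]
    have e2 : (RingHom.id Sh).comp (algebraMap L Sh) = algebraMap L Sh := by simp
    rw [hw (g.comp h) e1, hw (RingHom.id Sh) e2]
  -- h ∘ ψ = algebraMap T E
  have hσ : (h.comp ψ).comp σ = (algebraMap T E).comp σ := by
    rw [RingHom.comp_assoc, hψ, hh]
  have hhψ : h.comp ψ = algebraMap T E := by
    apply hepi
    · have hf'loc : IsLocalHom (((algebraMap T E).comp σ).comp a) := RingHom.isLocalHom_comp _ _
      obtain ⟨w, -, hw⟩ := Hensel.IsHenselization.universal (R := P) (S := Rh) E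
        (((algebraMap T E).comp σ).comp a) hf'loc
      have e1 : ((h.comp ψ).comp ρ).comp (algebraMap P Rh) =
          ((algebraMap T E).comp σ).comp a := by
        rw [RingHom.comp_assoc, hρ, ← RingHom.comp_assoc, hσ]
      have e2 : ((algebraMap T E).comp ρ).comp (algebraMap P Rh) =
          ((algebraMap T E).comp σ).comp a := by
        rw [RingHom.comp_assoc, hρ, ← RingHom.comp_assoc]
      rw [hw ((h.comp ψ).comp ρ) e1, hw ((algebraMap T E).comp ρ) e2]
    · exact hσ
  have hhg : h.comp g = RingHom.id E := by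
    obtain ⟨w, -, hw⟩ := Hensel.IsHenselization.universal (R := T) (S := E) E
      (algebraMap T E) inferInstance
    have e1 : (h.comp g).comp (algebraMap T E) = algebraMap T E := by
      rw [RingHom.comp_assoc, hg, hhψ]
    have e2 : (RingHom.id E).comp (algebraMap T E) = algebraMap T E := by simp
    rw [hw (h.comp g) e1, hw (RingHom.id E) e2]
  refine ⟨RingEquiv.ofRingHom g h hgh hhg, fun t => ?_⟩
  exact congrArg (fun k => k t) hg

end Abstract

section Concrete

variable (R : Type u) [CommRing R] (S : Type u)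
    [CommRing S] [Algebra R S] (p : Ideal R) [p.IsPrime] (q : Ideal S) [q.IsPrime] [q.LiesOver p]
    (Rh : Type u) [CommRing Rh] [IsLocalRing Rh] [Algebra (Localization.AtPrime p) Rh]
    [IsLocalHom (algebraMap (Localization.AtPrime p) Rh)]
    [Hensel.IsHenselization (Localization.AtPrime p) Rh] [Algebra R Rh]
    [IsScalarTower R (Localization.AtPrime p) Rh]
    (Sh : Type u) [CommRing Sh] [IsLocalRing Sh] [Algebra (Localization.AtPrime q) Sh]
    [IsLocalHom (algebraMap (Localization.AtPrime q) Sh)]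
    [Hensel.IsHenselization (Localization.AtPrime q) Sh] [Algebra S Sh]
    [IsScalarTower S (Localization.AtPrime q) Sh] [Algebra R Sh] [IsScalarTower R S Sh]
    [Algebra Rh Sh] [IsScalarTower R Rh Sh]

include p q in
theorem concrete (φ : Rh ⊗[R] S →ₐ[R] Sh)
    (hφl : ∀ x : Rh, φ (x ⊗ₜ 1) = algebraMap Rh Sh x)
    (hφr : ∀ y : S, φ (1 ⊗ₜ y) = algebraMap S Sh y)
    (E : Type u) [CommRing E] [IsLocalRing E]
    [Algebra (Localization.AtPrime (Ideal.comap φ (IsLocalRing.maximalIdeal Sh))) E]
    [IsLocalHom (algebraMap (Localization.AtPrime (Ideal.comap φ (IsLocalRing.maximalIdeal Sh))) E)]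
    [Hensel.IsHenselization (Localization.AtPrime (Ideal.comap φ (IsLocalRing.maximalIdeal Sh))) E] :
    ∃ e : E ≃+* Sh, ∀ d : Rh ⊗[R] S,
      e (algebraMap (Localization.AtPrime (Ideal.comap φ (IsLocalRing.maximalIdeal Sh))) E
        (algebraMap (Rh ⊗[R] S) _ d)) = φ d := by
  let incR : S →+* Rh ⊗[R] S := (Algebra.TensorProduct.includeRight : S →ₐ[R] Rh ⊗[R] S).toRingHom
  let incL : Rh →+* Rh ⊗[R] S := (Algebra.TensorProduct.includeLeft : Rh →ₐ[R] Rh ⊗[R] S).toRingHom
  have hqQ : q = (Ideal.comap φ (IsLocalRing.maximalIdeal Sh)).comap incR := by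
    ext y
    change y ∈ q ↔ φ (1 ⊗ₜ y) ∈ maximalIdeal Sh
    rw [hφr, IsScalarTower.algebraMap_apply S (Localization.AtPrime q) Sh]
    constructor
    · intro hy
      have h1 : algebraMap S (Localization.AtPrime q) y ∈ maximalIdeal (Localization.AtPrime q) :=
        (IsLocalization.AtPrime.to_map_mem_maximal_iff (Localization.AtPrime q) q y).mpr hy
      intro hu
      exact h1 (isUnit_of_map_unit (algebraMap (Localization.AtPrime q) Sh) _ hu)
    · intro hy
      by_contra hyq
      have h1 : IsUnit (algebraMap S (Localization.AtPrime q) y) :=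
        IsLocalization.map_units _ (⟨y, hyq⟩ : q.primeCompl)
      exact hy (h1.map _)
  let a : Localization.AtPrime p →+* Localization.AtPrime q :=
    Localization.localRingHom p q (algebraMap R S) (Ideal.LiesOver.over)
  haveI : IsLocalHom a := Localization.isLocalHom_localRingHom _ _ _ _
  let σ : Localization.AtPrime q →+*
      Localization.AtPrime (Ideal.comap φ (IsLocalRing.maximalIdeal Sh)) :=
    Localization.localRingHom q (Ideal.comap φ (IsLocalRing.maximalIdeal Sh)) incR hqQ
  haveI : IsLocalHom σ := Localization.isLocalHom_localRingHom _ _ _ _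
  let ρ : Rh →+* Localization.AtPrime (Ideal.comap φ (IsLocalRing.maximalIdeal Sh)) :=
    (algebraMap (Rh ⊗[R] S)
      (Localization.AtPrime (Ideal.comap φ (IsLocalRing.maximalIdeal Sh)))).comp incL
  have hunits : ∀ y : (Ideal.comap φ (IsLocalRing.maximalIdeal Sh)).primeCompl,
      IsUnit (φ.toRingHom y) := by
    intro y
    have hy : φ (y : Rh ⊗[R] S) ∉ maximalIdeal Sh := y.2
    by_contra hnu
    exact hy hnu
  let ψ : Localization.AtPrime (Ideal.comap φ (IsLocalRing.maximalIdeal Sh)) →+* Sh :=
    IsLocalization.lift (M := (Ideal.comap φ (IsLocalRing.maximalIdeal Sh)).primeCompl) hunits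
  have hψeq : ∀ d, ψ (algebraMap (Rh ⊗[R] S)
      (Localization.AtPrime (Ideal.comap φ (IsLocalRing.maximalIdeal Sh))) d) = φ d := fun d =>
    IsLocalization.lift_eq hunits d
  haveI : IsLocalHom ψ := by
    constructor
    intro x hx
    obtain ⟨d, s, rfl⟩ := IsLocalization.exists_mk'_eq
      (Ideal.comap φ (IsLocalRing.maximalIdeal Sh)).primeCompl x
    have h1 : ψ (IsLocalization.mk' (Localization.AtPrime
        (Ideal.comap φ (IsLocalRing.maximalIdeal Sh))) d s) * φ s = φ d := by
      rw [← hψeq s, ← map_mul, IsLocalization.mk'_spec, hψeq]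
    have h2 : IsUnit (φ d) := by
      rw [← h1]
      exact hx.mul (hunits s)
    have hd : d ∉ (Ideal.comap φ (IsLocalRing.maximalIdeal Sh)) := by
      intro hm
      have hm' : φ d ∈ maximalIdeal Sh := hm
      exact hm' h2
    have h3 : IsUnit (algebraMap (Rh ⊗[R] S)
        (Localization.AtPrime (Ideal.comap φ (IsLocalRing.maximalIdeal Sh))) d) :=
      IsLocalization.map_units _
        (⟨d, hd⟩ : (Ideal.comap φ (IsLocalRing.maximalIdeal Sh)).primeCompl)
    rw [← IsLocalization.mk'_spec (Localization.AtPrime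
      (Ideal.comap φ (IsLocalRing.maximalIdeal Sh))) d s] at h3
    exact isUnit_of_mul_isUnit_left h3
  have hσeq : ∀ y : S, σ (algebraMap S (Localization.AtPrime q) y) =
      algebraMap (Rh ⊗[R] S) (Localization.AtPrime
        (Ideal.comap φ (IsLocalRing.maximalIdeal Sh))) (1 ⊗ₜ y) := fun y =>
    Localization.localRingHom_to_map _ _ _ _ _
  have hρ : ρ.comp (algebraMap (Localization.AtPrime p) Rh) = σ.comp a := by
    apply IsLocalization.ringHom_ext p.primeCompl
    refine RingHom.ext fun r => ?_
    simp only [RingHom.comp_apply]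
    rw [← IsScalarTower.algebraMap_apply R (Localization.AtPrime p) Rh]
    have ha : a (algebraMap R (Localization.AtPrime p) r) =
        algebraMap S (Localization.AtPrime q) (algebraMap R S r) :=
      Localization.localRingHom_to_map _ _ _ _ _
    rw [ha, hσeq]
    have key : (algebraMap R Rh r) ⊗ₜ[R] (1 : S) = (1 : Rh) ⊗ₜ[R] (algebraMap R S r) := by
      rw [Algebra.algebraMap_eq_smul_one, Algebra.algebraMap_eq_smul_one, TensorProduct.smul_tmul]
    show algebraMap (Rh ⊗[R] S) _ ((algebraMap R Rh r) ⊗ₜ[R] (1 : S)) = _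
    rw [key]
  have hψ : ψ.comp σ = algebraMap (Localization.AtPrime q) Sh := by
    apply IsLocalization.ringHom_ext q.primeCompl
    refine RingHom.ext fun y => ?_
    simp only [RingHom.comp_apply]
    rw [hσeq, hψeq, hφr, ← IsScalarTower.algebraMap_apply S (Localization.AtPrime q) Sh]
  have hepi : ∀ (u v : Localization.AtPrime (Ideal.comap φ (IsLocalRing.maximalIdeal Sh)) →+* E),
      u.comp ρ = v.comp ρ → u.comp σ = v.comp σ → u = v := by
    intro u v h1 h2
    apply IsLocalization.ringHom_ext (Ideal.comap φ (IsLocalRing.maximalIdeal Sh)).primeCompl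
    refine RingHom.ext fun d => ?_
    simp only [RingHom.comp_apply]
    induction d using TensorProduct.induction_on with
    | zero => simp
    | tmul x y =>
      have hxy : x ⊗ₜ[R] y = (x ⊗ₜ[R] (1 : S)) * ((1 : Rh) ⊗ₜ[R] y) := by
        rw [Algebra.TensorProduct.tmul_mul_tmul, mul_one, one_mul]
      rw [hxy, map_mul, map_mul, map_mul]
      have e1 : u (algebraMap (Rh ⊗[R] S) _ (x ⊗ₜ 1)) = v (algebraMap (Rh ⊗[R] S) _ (x ⊗ₜ 1)) :=
        congrArg (fun k => k x) h1
      have e2 : u (algebraMap (Rh ⊗[R] S) _ (1 ⊗ₜ y)) = v (algebraMap (Rh ⊗[R] S) _ (1 ⊗ₜ y)) := by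
        have := congrArg (fun k => k (algebraMap S (Localization.AtPrime q) y)) h2
        simp only [RingHom.comp_apply] at this
        rwa [hσeq] at this
      rw [e1, e2]
    | add d₁ d₂ hd₁ hd₂ => rw [map_add, map_add, map_add, hd₁, hd₂]
  obtain ⟨e, he⟩ := abstract_equiv (P := Localization.AtPrime p) (L := Localization.AtPrime q)
    (T := Localization.AtPrime (Ideal.comap φ (IsLocalRing.maximalIdeal Sh)))
    (Rh := Rh) (Sh := Sh) (E := E) a σ ρ hρ ψ hψ hepi
  exact ⟨e, fun d => by rw [he, hψeq]⟩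

end Concrete

end Groth.Agent.Helper2.HensTens
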