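import Mathlib
import Groth.Prelude
import Groth.Agent.S0538
set_option autoImplicit false
universe u
open IsLocalRing TensorProduct

namespace Groth.Agent.Helper2.HensTensS

section Abstract
variable {P L T Rh Sh E : Type u} [CommRing P] [CommRing L] [CommRing T] [CommRing Rh]
  [CommRing Sh] [CommRing E] [IsLocalRing P] [IsLocalRing L] [IsLocalRing T] [IsLocalRing Rh]
  [IsLocalRing Sh] [IsLocalRing E]
  [Algebra P Rh] [IsLocalHom (algebraMap P Rh)] [Hensel.IsStrictHenselization P Rh]
  [Algebra L Sh] [IsLocalHom (algebraMap L Sh)] [Hensel.IsStrictHenselization L Sh]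
  [Algebra T E] [IsLocalHom (algebraMap T E)] [Hensel.IsStrictHenselization T E]

theorem abstract_equiv (a : P →+* L) [IsLocalHom a] (σ : L →+* T) [IsLocalHom σ]
    (ρ : Rh →+* T) [IsLocalHom ρ] (hρ : ρ.comp (algebraMap P Rh) = σ.comp a)
    (ψ : T →+* Sh) [IsLocalHom ψ] (hψ : ψ.comp σ = algebraMap L Sh)
    (hepi : ∀ (u v : T →+* E), u.comp ρ = v.comp ρ → u.comp σ = v.comp σ → u = v) :
    ∃ e : E ≃+* Sh, ∀ t : T, e (algebraMap T E t) = ψ t := by
  haveI hSh : HenselianLocalRing Sh := Hensel.IsStrictHenselization.henselian L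
  haveI hE : HenselianLocalRing E := Hensel.IsStrictHenselization.henselian T
  have hψx : ∀ x, ψ (σ x) = algebraMap L Sh x := fun x => congrArg (fun k => k x) hψ
  have hρx : ∀ x, ρ (algebraMap P Rh x) = σ (a x) := fun x => congrArg (fun k => k x) hρ
  -- residue field data
  haveI : IsSepClosed (ResidueField Sh) :=
    (Hensel.IsStrictHenselization.isSepClosure (R := L) (S := Sh)).sep_closed
  haveI : IsSepClosed (ResidueField E) :=
    (Hensel.IsStrictHenselization.isSepClosure (R := T) (S := E)).sep_closed
  haveI : Algebra.IsSeparable (ResidueField T) (ResidueField E) :=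
    (Hensel.IsStrictHenselization.isSepClosure (R := T) (S := E)).separable
  haveI : Algebra.IsSeparable (ResidueField L) (ResidueField Sh) :=
    (Hensel.IsStrictHenselization.isSepClosure (R := L) (S := Sh)).separable
  letI algTSh : Algebra (ResidueField T) (ResidueField Sh) := (ResidueField.map ψ).toAlgebra
  let τE : ResidueField E →ₐ[ResidueField T] ResidueField Sh := IsSepClosed.lift
  have hτE : ∀ t : T, τE (residue E (algebraMap T E t)) = residue Sh (ψ t) := fun t =>
    τE.commutes (residue T t)
  -- surjectivity of τE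
  letI algLT : Algebra (ResidueField L) (ResidueField T) := (ResidueField.map σ).toAlgebra
  haveI : IsScalarTower (ResidueField L) (ResidueField T) (ResidueField Sh) := by
    refine IsScalarTower.of_algebraMap_eq fun z => ?_
    obtain ⟨x, rfl⟩ := residue_surjective z
    show residue Sh (algebraMap L Sh x) = residue Sh (ψ (σ x))
    rw [hψx]
  haveI : Algebra.IsSeparable (ResidueField T) (ResidueField Sh) :=
    Algebra.isSeparable_tower_top_of_isSeparable (ResidueField L) (ResidueField T) (ResidueField Sh)
  letI algESh : Algebra (ResidueField E) (ResidueField Sh) := τE.toRingHom.toAlgebra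
  haveI : IsScalarTower (ResidueField T) (ResidueField E) (ResidueField Sh) :=
    IsScalarTower.of_algebraMap_eq fun z => (τE.commutes z).symm
  haveI : Algebra.IsSeparable (ResidueField E) (ResidueField Sh) :=
    Algebra.isSeparable_tower_top_of_isSeparable (ResidueField T) (ResidueField E) (ResidueField Sh)
  have hτsurj : Function.Surjective τE :=
    IsSepClosed.algebraMap_surjective (ResidueField E) (ResidueField Sh)
  have hτinj : Function.Injective τE := τE.toRingHom.injective
  let τeq : ResidueField E ≃+* ResidueField Sh := RingEquiv.ofBijective τE.toRingHom ⟨hτinj, hτsurj⟩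
  have hτeq : ∀ z, τeq z = τE z := fun z => rfl
  -- g : E → Sh
  have hcompat1 : τE.toRingHom.comp (ResidueField.map (algebraMap T E)) = ResidueField.map ψ := by
    refine RingHom.ext fun z => ?_
    obtain ⟨t, rfl⟩ := residue_surjective z
    exact hτE t
  obtain ⟨g, ⟨hg, hgres⟩, -⟩ := Hensel.IsStrictHenselization.universal (R := T) (S := E) Sh ψ
    τE.toRingHom hcompat1
  -- h : Sh → E
  haveI hfloc : IsLocalHom ((algebraMap T E).comp σ) := RingHom.isLocalHom_comp _ _
  have hcompat2 : (τeq.symm : ResidueField Sh →+* ResidueField E).comp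
      (ResidueField.map (algebraMap L Sh)) = ResidueField.map ((algebraMap T E).comp σ) := by
    refine RingHom.ext fun z => ?_
    obtain ⟨x, rfl⟩ := residue_surjective z
    apply τeq.injective
    show τeq (τeq.symm (residue Sh (algebraMap L Sh x))) = τeq (residue E (algebraMap T E (σ x)))
    rw [τeq.apply_symm_apply, hτeq, hτE, hψx]
  obtain ⟨h, ⟨hh, hhres⟩, -⟩ := Hensel.IsStrictHenselization.universal (R := L) (S := Sh) E
    ((algebraMap T E).comp σ) (τeq.symm : ResidueField Sh →+* ResidueField E) hcompat2
  have hhres' : ∀ x : Sh, residue E (h x) = τeq.symm (residue Sh x) := hhres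
  have hgres' : ∀ x : E, residue Sh (g x) = τeq (residue E x) := hgres
  -- g ∘ h = id
  have hgh : g.comp h = RingHom.id Sh := by
    have hc : (RingHom.id (ResidueField Sh)).comp (ResidueField.map (algebraMap L Sh)) =
        ResidueField.map (algebraMap L Sh) := RingHom.id_comp _
    obtain ⟨w, -, hw⟩ := Hensel.IsStrictHenselization.universal (R := L) (S := Sh) Sh
      (algebraMap L Sh) (RingHom.id _) hc
    have e1 : (g.comp h).comp (algebraMap L Sh) = algebraMap L Sh ∧
        ∀ x : Sh, residue Sh ((g.comp h) x) = RingHom.id _ (residue Sh x) := by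
      refine ⟨?_, fun x => ?_⟩
      · rw [RingHom.comp_assoc, hh, ← RingHom.comp_assoc, hg, hψ]
      · show residue Sh (g (h x)) = residue Sh x
        rw [hgres', hhres']
        exact τeq.apply_symm_apply _
    have e2 : (RingHom.id Sh).comp (algebraMap L Sh) = algebraMap L Sh ∧
        ∀ x : Sh, residue Sh ((RingHom.id Sh) x) = RingHom.id _ (residue Sh x) :=
      ⟨RingHom.id_comp _, fun x => rfl⟩
    rw [hw (g.comp h) e1, hw (RingHom.id Sh) e2]
  -- h ∘ ψ = algebraMap T E
  have hσ : (h.comp ψ).comp σ = (algebraMap T E).comp σ := by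
    rw [RingHom.comp_assoc, hψ, hh]
  have hhψ : h.comp ψ = algebraMap T E := by
    apply hepi
    · haveI hf'loc : IsLocalHom (((algebraMap T E).comp σ).comp a) := RingHom.isLocalHom_comp _ _
      haveI hρloc : IsLocalHom ((algebraMap T E).comp ρ) := RingHom.isLocalHom_comp _ _
      have hc : (ResidueField.map ((algebraMap T E).comp ρ)).comp
          (ResidueField.map (algebraMap P Rh)) =
          ResidueField.map (((algebraMap T E).comp σ).comp a) := by
        refine RingHom.ext fun z => ?_
        obtain ⟨x, rfl⟩ := residue_surjective z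
        show residue E (algebraMap T E (ρ (algebraMap P Rh x))) =
          residue E (algebraMap T E (σ (a x)))
        rw [hρx]
      obtain ⟨w, -, hw⟩ := Hensel.IsStrictHenselization.universal (R := P) (S := Rh) E
        (((algebraMap T E).comp σ).comp a) (ResidueField.map ((algebraMap T E).comp ρ)) hc
      have e1 : ((h.comp ψ).comp ρ).comp (algebraMap P Rh) = ((algebraMap T E).comp σ).comp a ∧
          ∀ x : Rh, residue E (((h.comp ψ).comp ρ) x) =
            ResidueField.map ((algebraMap T E).comp ρ) (residue Rh x) := by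
        refine ⟨?_, fun x => ?_⟩
        · rw [RingHom.comp_assoc, hρ, ← RingHom.comp_assoc, hσ]
        · show residue E (h (ψ (ρ x))) = residue E (algebraMap T E (ρ x))
          rw [hhres']
          apply τeq.injective
          rw [τeq.apply_symm_apply, hτeq, hτE]
      have e2 : ((algebraMap T E).comp ρ).comp (algebraMap P Rh) =
          ((algebraMap T E).comp σ).comp a ∧
          ∀ x : Rh, residue E (((algebraMap T E).comp ρ) x) =
            ResidueField.map ((algebraMap T E).comp ρ) (residue Rh x) := by
        refine ⟨?_, fun x => rfl⟩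
        rw [RingHom.comp_assoc, hρ, ← RingHom.comp_assoc]
      rw [hw ((h.comp ψ).comp ρ) e1, hw ((algebraMap T E).comp ρ) e2]
    · exact hσ
  have hhg : h.comp g = RingHom.id E := by
    have hc : (RingHom.id (ResidueField E)).comp (ResidueField.map (algebraMap T E)) =
        ResidueField.map (algebraMap T E) := RingHom.id_comp _
    obtain ⟨w, -, hw⟩ := Hensel.IsStrictHenselization.universal (R := T) (S := E) E
      (algebraMap T E) (RingHom.id _) hc
    have e1 : (h.comp g).comp (algebraMap T E) = algebraMap T E ∧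
        ∀ x : E, residue E ((h.comp g) x) = RingHom.id _ (residue E x) := by
      refine ⟨?_, fun x => ?_⟩
      · rw [RingHom.comp_assoc, hg, hhψ]
      · show residue E (h (g x)) = residue E x
        rw [hhres', hgres']
        exact τeq.symm_apply_apply _
    have e2 : (RingHom.id E).comp (algebraMap T E) = algebraMap T E ∧
        ∀ x : E, residue E ((RingHom.id E) x) = RingHom.id _ (residue E x) :=
      ⟨RingHom.id_comp _, fun x => rfl⟩
    rw [hw (h.comp g) e1, hw (RingHom.id E) e2]
  refine ⟨RingEquiv.ofRingHom g h hgh hhg, fun t => ?_⟩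
  exact congrArg (fun k => k t) hg

end Abstract

section Concrete

variable (R : Type u) [CommRing R] (S : Type u)
    [CommRing S] [Algebra R S] (p : Ideal R) [p.IsPrime] (q : Ideal S) [q.IsPrime] [q.LiesOver p]
    (Rh : Type u) [CommRing Rh] [IsLocalRing Rh] [Algebra (Localization.AtPrime p) Rh]
    [IsLocalHom (algebraMap (Localization.AtPrime p) Rh)]
    [Hensel.IsStrictHenselization (Localization.AtPrime p) Rh] [Algebra R Rh]
    [IsScalarTower R (Localization.AtPrime p) Rh]
    (Sh : Type u) [CommRing Sh] [IsLocalRing Sh] [Algebra (Localization.AtPrime q) Sh]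
    [IsLocalHom (algebraMap (Localization.AtPrime q) Sh)]
    [Hensel.IsStrictHenselization (Localization.AtPrime q) Sh] [Algebra S Sh]
    [IsScalarTower S (Localization.AtPrime q) Sh] [Algebra R Sh] [IsScalarTower R S Sh]
    [Algebra Rh Sh] [IsScalarTower R Rh Sh]

include p q in
theorem concrete (φ : Rh ⊗[R] S →ₐ[R] Sh)
    (hφl : ∀ x : Rh, φ (x ⊗ₜ 1) = algebraMap Rh Sh x)
    (hφr : ∀ y : S, φ (1 ⊗ₜ y) = algebraMap S Sh y)
    (E : Type u) [CommRing E] [IsLocalRing E]
    [Algebra (Localization.AtPrime (Ideal.comap φ (IsLocalRing.maximalIdeal Sh))) E]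
    [IsLocalHom (algebraMap (Localization.AtPrime (Ideal.comap φ (IsLocalRing.maximalIdeal Sh))) E)]
    [Hensel.IsStrictHenselization (Localization.AtPrime (Ideal.comap φ (IsLocalRing.maximalIdeal Sh))) E] :
    ∃ e : E ≃+* Sh, ∀ d : Rh ⊗[R] S,
      e (algebraMap (Localization.AtPrime (Ideal.comap φ (IsLocalRing.maximalIdeal Sh))) E
        (algebraMap (Rh ⊗[R] S) _ d)) = φ d := by
  let incR : S →+* Rh ⊗[R] S := (Algebra.TensorProduct.includeRight : S →ₐ[R] Rh ⊗[R] S).toRingHom
  let incL : Rh →+* Rh ⊗[R] S := (Algebra.TensorProduct.includeLeft : Rh →ₐ[R] Rh ⊗[R] S).toRingHom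
  have hqQ : q = (Ideal.comap φ (IsLocalRing.maximalIdeal Sh)).comap incR := by
    ext y
    change y ∈ q ↔ φ (1 ⊗ₜ y) ∈ maximalIdeal Sh
    rw [hφr, IsScalarTower.algebraMap_apply S (Localization.AtPrime q) Sh]
    constructor
    · intro hy
      have h1 : algebraMap S (Localization.AtPrime q) y ∈ maximalIdeal (Localization.AtPrime q) :=
        (IsLocalization.AtPrime.to_map_mem_maximal_iff (Localization.AtPrime q) q y).mpr hy
      intro hu
      exact h1 (isUnit_of_map_unit (algebraMap (Localization.AtPrime q) Sh) _ hu)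
    · intro hy
      by_contra hyq
      have h1 : IsUnit (algebraMap S (Localization.AtPrime q) y) :=
        IsLocalization.map_units _ (⟨y, hyq⟩ : q.primeCompl)
      exact hy (h1.map _)
  let a : Localization.AtPrime p →+* Localization.AtPrime q :=
    Localization.localRingHom p q (algebraMap R S) (Ideal.LiesOver.over)
  haveI : IsLocalHom a := Localization.isLocalHom_localRingHom _ _ _ _
  let σ : Localization.AtPrime q →+*
      Localization.AtPrime (Ideal.comap φ (IsLocalRing.maximalIdeal Sh)) :=
    Localization.localRingHom q (Ideal.comap φ (IsLocalRing.maximalIdeal Sh)) incR hqQ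
  haveI : IsLocalHom σ := Localization.isLocalHom_localRingHom _ _ _ _
  let ρ : Rh →+* Localization.AtPrime (Ideal.comap φ (IsLocalRing.maximalIdeal Sh)) :=
    (algebraMap (Rh ⊗[R] S)
      (Localization.AtPrime (Ideal.comap φ (IsLocalRing.maximalIdeal Sh)))).comp incL
  have hunits : ∀ y : (Ideal.comap φ (IsLocalRing.maximalIdeal Sh)).primeCompl,
      IsUnit (φ.toRingHom y) := by
    intro y
    have hy : φ (y : Rh ⊗[R] S) ∉ maximalIdeal Sh := y.2
    by_contra hnu
    exact hy hnu
  let ψ : Localization.AtPrime (Ideal.comap φ (IsLocalRing.maximalIdeal Sh)) →+* Sh :=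
    IsLocalization.lift (M := (Ideal.comap φ (IsLocalRing.maximalIdeal Sh)).primeCompl) hunits
  have hψeq : ∀ d, ψ (algebraMap (Rh ⊗[R] S)
      (Localization.AtPrime (Ideal.comap φ (IsLocalRing.maximalIdeal Sh))) d) = φ d := fun d =>
    IsLocalization.lift_eq hunits d
  haveI : IsLocalHom ψ := by
    constructor
    intro x hx
    obtain ⟨d, s, rfl⟩ := IsLocalization.exists_mk'_eq
      (Ideal.comap φ (IsLocalRing.maximalIdeal Sh)).primeCompl x
    have h1 : ψ (IsLocalization.mk' (Localization.AtPrime
        (Ideal.comap φ (IsLocalRing.maximalIdeal Sh))) d s) * φ s = φ d := by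
      rw [← hψeq s, ← map_mul, IsLocalization.mk'_spec, hψeq]
    have h2 : IsUnit (φ d) := by
      rw [← h1]
      exact hx.mul (hunits s)
    have hd : d ∉ (Ideal.comap φ (IsLocalRing.maximalIdeal Sh)) := by
      intro hm
      have hm' : φ d ∈ maximalIdeal Sh := hm
      exact hm' h2
    have h3 : IsUnit (algebraMap (Rh ⊗[R] S)
        (Localization.AtPrime (Ideal.comap φ (IsLocalRing.maximalIdeal Sh))) d) :=
      IsLocalization.map_units _
        (⟨d, hd⟩ : (Ideal.comap φ (IsLocalRing.maximalIdeal Sh)).primeCompl)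
    rw [← IsLocalization.mk'_spec (Localization.AtPrime
      (Ideal.comap φ (IsLocalRing.maximalIdeal Sh))) d s] at h3
    exact isUnit_of_mul_isUnit_left h3
  have hσeq : ∀ y : S, σ (algebraMap S (Localization.AtPrime q) y) =
      algebraMap (Rh ⊗[R] S) (Localization.AtPrime
        (Ideal.comap φ (IsLocalRing.maximalIdeal Sh))) (1 ⊗ₜ y) := fun y =>
    Localization.localRingHom_to_map _ _ _ _ _
  have hρ : ρ.comp (algebraMap (Localization.AtPrime p) Rh) = σ.comp a := by
    apply IsLocalization.ringHom_ext p.primeCompl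
    refine RingHom.ext fun r => ?_
    simp only [RingHom.comp_apply]
    rw [← IsScalarTower.algebraMap_apply R (Localization.AtPrime p) Rh]
    have ha : a (algebraMap R (Localization.AtPrime p) r) =
        algebraMap S (Localization.AtPrime q) (algebraMap R S r) :=
      Localization.localRingHom_to_map _ _ _ _ _
    rw [ha, hσeq]
    have key : (algebraMap R Rh r) ⊗ₜ[R] (1 : S) = (1 : Rh) ⊗ₜ[R] (algebraMap R S r) := by
      rw [Algebra.algebraMap_eq_smul_one, Algebra.algebraMap_eq_smul_one, TensorProduct.smul_tmul]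
    show algebraMap (Rh ⊗[R] S) _ ((algebraMap R Rh r) ⊗ₜ[R] (1 : S)) = _
    rw [key]
  haveI : IsLocalHom ρ := by
    have h1 : (maximalIdeal Rh).map ρ ≤
        maximalIdeal (Localization.AtPrime (Ideal.comap φ (IsLocalRing.maximalIdeal Sh))) := by
      rw [← Groth.Agent.S0538.result (Localization.AtPrime p) Rh, Ideal.map_map, hρ]
      have hloc : IsLocalHom (σ.comp a) := RingHom.isLocalHom_comp _ _
      have h2 := (local_hom_TFAE (σ.comp a)).out 0 2
      exact h2.mp hloc
    have h3 := (local_hom_TFAE ρ).out 0 2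
    exact h3.mpr h1
  have hψ : ψ.comp σ = algebraMap (Localization.AtPrime q) Sh := by
    apply IsLocalization.ringHom_ext q.primeCompl
    refine RingHom.ext fun y => ?_
    simp only [RingHom.comp_apply]
    rw [hσeq, hψeq, hφr, ← IsScalarTower.algebraMap_apply S (Localization.AtPrime q) Sh]
  have hepi : ∀ (u v : Localization.AtPrime (Ideal.comap φ (IsLocalRing.maximalIdeal Sh)) →+* E),
      u.comp ρ = v.comp ρ → u.comp σ = v.comp σ → u = v := by
    intro u v h1 h2
    apply IsLocalization.ringHom_ext (Ideal.comap φ (IsLocalRing.maximalIdeal Sh)).primeCompl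
    refine RingHom.ext fun d => ?_
    simp only [RingHom.comp_apply]
    induction d using TensorProduct.induction_on with
    | zero => simp
    | tmul x y =>
      have hxy : x ⊗ₜ[R] y = (x ⊗ₜ[R] (1 : S)) * ((1 : Rh) ⊗ₜ[R] y) := by
        rw [Algebra.TensorProduct.tmul_mul_tmul, mul_one, one_mul]
      rw [hxy, map_mul, map_mul, map_mul]
      have e1 : u (algebraMap (Rh ⊗[R] S) _ (x ⊗ₜ 1)) = v (algebraMap (Rh ⊗[R] S) _ (x ⊗ₜ 1)) :=
        congrArg (fun k => k x) h1
      have e2 : u (algebraMap (Rh ⊗[R] S) _ (1 ⊗ₜ y)) = v (algebraMap (Rh ⊗[R] S) _ (1 ⊗ₜ y)) := by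
        have := congrArg (fun k => k (algebraMap S (Localization.AtPrime q) y)) h2
        simp only [RingHom.comp_apply] at this
        rwa [hσeq] at this
      rw [e1, e2]
    | add d₁ d₂ hd₁ hd₂ => rw [map_add, map_add, map_add, hd₁, hd₂]
  obtain ⟨e, he⟩ := abstract_equiv (P := Localization.AtPrime p) (L := Localization.AtPrime q)
    (T := Localization.AtPrime (Ideal.comap φ (IsLocalRing.maximalIdeal Sh)))
    (Rh := Rh) (Sh := Sh) (E := E) a σ ρ hρ ψ hψ hepi
  exact ⟨e, fun d => by rw [he, hψeq]⟩

end Concrete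

end Groth.Agent.Helper2.HensTensS
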