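import Mathlib
import Groth.Prelude
import Groth.Agent.Helper2.HensFactor
import Groth.Agent.Helper2.HensTens
import Groth.Agent.Helper2.HensTensS
import Groth.Agent.Helper3.HensQF
import Groth.Agent.Helper3.StrictHensFinite
import Groth.Agent.S0507
set_option autoImplicit false
universe u
open IsLocalRing TensorProduct

namespace Groth.Agent.Helper2.HensQFin

section Factor

theorem surjective_of_exists_inv {C : Type u} [CommRing C] (Q : Ideal C) [Q.IsPrime]
    (h : ∀ s, s ∉ Q → ∃ t u : C, u ∉ Q ∧ u * (s * t - 1) = 0) :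
    Function.Surjective (algebraMap C (Localization.AtPrime Q)) := by
  intro x
  obtain ⟨c, s, rfl⟩ := IsLocalization.exists_mk'_eq Q.primeCompl x
  obtain ⟨t, u, hu, hust⟩ := h s s.2
  refine ⟨c * t, ?_⟩
  rw [eq_comm, IsLocalization.mk'_eq_iff_eq_mul]
  have hu' : IsUnit (algebraMap C (Localization.AtPrime Q) u) :=
    IsLocalization.map_units _ (⟨u, hu⟩ : Q.primeCompl)
  have h1 : algebraMap C (Localization.AtPrime Q) (s * t - 1) = 0 := by
    have := congrArg (algebraMap C (Localization.AtPrime Q)) hust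
    rw [map_mul, map_zero] at this
    exact (hu'.mul_right_eq_zero).mp this
  rw [map_sub, map_mul, map_one, sub_eq_zero] at h1
  rw [map_mul, mul_assoc, mul_comm (algebraMap C _ t), h1, mul_one]

/-- the local ring of a finite type algebra over a henselian local ring at a prime over the
closed point at which it is quasi-finite is a quotient of the algebra and is module-finite. -/
theorem qf_local_factor (H C : Type u) [CommRing H] [HenselianLocalRing H] [CommRing C]
    [Algebra H C] [Algebra.FiniteType H C] (Q : Ideal C) [Q.IsPrime]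
    [hQ : Q.LiesOver (maximalIdeal H)] [Algebra.QuasiFiniteAt H Q] :
    Function.Surjective (algebraMap C (Localization.AtPrime Q)) ∧
      Module.Finite H (Localization.AtPrime Q) := by
  obtain ⟨e, he, heQ, hfg⟩ := Groth.Agent.Helper3.HensQF.exists_idem_of_qfAt H C Q
  haveI hfin : Module.Finite H (C ⧸ Ideal.span ({1 - e} : Set C)) :=
    Groth.Agent.Helper3.HensQF.finite_quot_of_fg e hfg
  have he1 : e * (1 - e) = 0 := by
    have := he.eq
    rw [mul_sub, mul_one, this, sub_self]
  have h1e : 1 - e ∈ Q := by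
    have h0 : e * (1 - e) ∈ Q := he1 ▸ Q.zero_mem
    exact (Ideal.IsPrime.mem_or_mem inferInstance h0).resolve_left heQ
  have hker : Ideal.span ({1 - e} : Set C) ≤ Q := by
    rw [Ideal.span_singleton_le_iff_mem]; exact h1e
  let mk := Ideal.Quotient.mk (Ideal.span ({1 - e} : Set C))
  let Q₁ : Ideal (C ⧸ Ideal.span ({1 - e} : Set C)) := Q.map mk
  have hcomap : Q₁.comap mk = Q := by
    rw [Ideal.comap_map_of_surjective mk Ideal.Quotient.mk_surjective, sup_eq_left]
    rw [← RingHom.ker_eq_comap_bot, Ideal.mk_ker]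
    exact hker
  haveI hQ₁p : Q₁.IsPrime := by
    apply Ideal.map_isPrime_of_surjective Ideal.Quotient.mk_surjective
    rw [Ideal.mk_ker]; exact hker
  haveI : Algebra.IsIntegral H (C ⧸ Ideal.span ({1 - e} : Set C)) := Algebra.IsIntegral.of_finite _ _
  haveI hQ₁m : Q₁.IsMaximal := by
    refine Ideal.isMaximal_of_isIntegral_of_isMaximal_comap (R := H) Q₁ ?_
    have : Q₁.comap (algebraMap H (C ⧸ Ideal.span ({1 - e} : Set C))) = maximalIdeal H := by
      rw [IsScalarTower.algebraMap_eq H C (C ⧸ Ideal.span ({1 - e} : Set C)), ← Ideal.comap_comap]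
      show (Q₁.comap mk).comap (algebraMap H C) = _
      rw [hcomap]
      exact hQ.over.symm
    rw [this]
    exact maximalIdeal.isMaximal H
  have hsurj : Function.Surjective (algebraMap C (Localization.AtPrime Q)) := by
    apply surjective_of_exists_inv
    intro s hs
    have hs₁ : mk s ∉ Q₁ := by
      intro h
      have : s ∈ Q₁.comap mk := h
      rw [hcomap] at this
      exact hs this
    obtain ⟨t₁, u₁, hu₁, hut⟩ := Groth.Agent.Helper2.HensFactor.exists_inv H
      (C ⧸ Ideal.span ({1 - e} : Set C)) Q₁ (mk s) hs₁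
    obtain ⟨t, rfl⟩ := Ideal.Quotient.mk_surjective t₁
    obtain ⟨u, rfl⟩ := Ideal.Quotient.mk_surjective u₁
    have hu : u ∉ Q := by
      intro h
      exact hu₁ (Ideal.mem_map_of_mem _ h)
    have h2 : u * (s * t - 1) ∈ Ideal.span ({1 - e} : Set C) := by
      rw [← Ideal.Quotient.eq_zero_iff_mem]
      simpa using hut
    obtain ⟨y, hy⟩ := Ideal.mem_span_singleton'.mp h2
    refine ⟨t, e * u, ?_, ?_⟩
    · intro h
      rcases Ideal.IsPrime.mem_or_mem inferInstance h with h | h
      · exact heQ h
      · exact hu h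
    · rw [mul_assoc, ← hy]
      calc e * (y * (1 - e)) = y * (e * (1 - e)) := by ring
        _ = 0 := by rw [he1, mul_zero]
  refine ⟨hsurj, ?_⟩
  -- finiteness
  have hkill : ∀ a ∈ Ideal.span ({1 - e} : Set C),
      (IsScalarTower.toAlgHom H C (Localization.AtPrime Q)) a = 0 := by
    intro a ha
    obtain ⟨y, rfl⟩ := Ideal.mem_span_singleton'.mp ha
    show algebraMap C (Localization.AtPrime Q) (y * (1 - e)) = 0
    have hu' : IsUnit (algebraMap C (Localization.AtPrime Q) e) :=
      IsLocalization.map_units _ (⟨e, heQ⟩ : Q.primeCompl)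
    have h0 : algebraMap C (Localization.AtPrime Q) e *
        algebraMap C (Localization.AtPrime Q) (1 - e) = 0 := by
      rw [← map_mul, he1, map_zero]
    rw [map_mul, (hu'.mul_right_eq_zero).mp h0, mul_zero]
  let g : (C ⧸ Ideal.span ({1 - e} : Set C)) →ₐ[H] Localization.AtPrime Q :=
    Ideal.Quotient.liftₐ _ (IsScalarTower.toAlgHom H C (Localization.AtPrime Q)) hkill
  refine Module.Finite.of_surjective g.toLinearMap ?_
  intro x
  obtain ⟨c, rfl⟩ := hsurj x
  exact ⟨mk c, by simp [g, mk]⟩

end Factor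

section Self

theorem isHenselization_self (L : Type u) [CommRing L] [HenselianLocalRing L] :
    Hensel.IsHenselization L L where
  henselian := inferInstance
  universal := by
    intro T _ _ f hf
    exact ⟨f, RingHom.comp_id f, fun g hg => by rw [← hg]; exact (RingHom.comp_id g).symm⟩

theorem isStrictHenselization_self (L : Type u) [CommRing L] [HenselianLocalRing L]
    [IsSepClosed (ResidueField L)] :
    Hensel.IsStrictHenselization L L where
  henselian := inferInstance
  isSepClosure := by
    convert IsSepClosure.self_of_isSepClosed (ResidueField L)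
    apply Algebra.algebra_ext
    intro r
    obtain ⟨y, rfl⟩ := residue_surjective r
    rfl
  universal := by
    intro T _ _ f hf τ hτ
    refine ⟨f, ⟨RingHom.comp_id f, fun x => ?_⟩, fun g hg => by
      rw [← hg.1]; exact (RingHom.comp_id g).symm⟩
    have := congrArg (fun k => k (residue L x)) hτ
    simp only [RingHom.comp_apply] at this
    have h2 : ResidueField.map (algebraMap L L) (residue L x) = residue L x := rfl
    rw [h2] at this
    rw [this]
    rfl

end Self

section Statements

variable (R : Type u) [CommRing R] (S : Type u)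
    [CommRing S] [Algebra R S] [Algebra.FiniteType R S] (p : Ideal R) [p.IsPrime] (q : Ideal S)
    [q.IsPrime] [q.LiesOver p] [Algebra.QuasiFiniteAt R q]
    (Rh : Type u) [CommRing Rh] [IsLocalRing Rh] [Algebra (Localization.AtPrime p) Rh]
    [IsLocalHom (algebraMap (Localization.AtPrime p) Rh)]
    [Algebra R Rh] [IsScalarTower R (Localization.AtPrime p) Rh]
    (Sh : Type u) [CommRing Sh] [IsLocalRing Sh] [Algebra (Localization.AtPrime q) Sh]
    [IsLocalHom (algebraMap (Localization.AtPrime q) Sh)]
    [Algebra S Sh]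
    [IsScalarTower S (Localization.AtPrime q) Sh] [Algebra R Sh] [IsScalarTower R S Sh]
    [Algebra Rh Sh] [IsScalarTower R Rh Sh] [IsLocalHom (algebraMap Rh Sh)]

include p q in
/-- common part: the local ring of `Rh ⊗ S` at the preimage of the maximal ideal is a
module-finite quotient, when `Rh` is henselian. -/
theorem common [HenselianLocalRing Rh] (φ : Rh ⊗[R] S →ₐ[R] Sh)
    (hφl : ∀ x : Rh, φ (x ⊗ₜ 1) = algebraMap Rh Sh x)
    (hφr : ∀ y : S, φ (1 ⊗ₜ y) = algebraMap S Sh y) :
    Function.Surjective (algebraMap (Rh ⊗[R] S)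
      (Localization.AtPrime (Ideal.comap φ (maximalIdeal Sh)))) ∧
    Module.Finite Rh (Localization.AtPrime (Ideal.comap φ (maximalIdeal Sh))) ∧
    IsLocalHom (algebraMap Rh (Localization.AtPrime (Ideal.comap φ (maximalIdeal Sh)))) := by
  let incR : S →+* Rh ⊗[R] S := (Algebra.TensorProduct.includeRight : S →ₐ[R] Rh ⊗[R] S).toRingHom
  have hqQ : q = (Ideal.comap φ (IsLocalRing.maximalIdeal Sh)).comap incR := by
    ext y
    change y ∈ q ↔ φ (1 ⊗ₜ y) ∈ maximalIdeal Sh
    rw [hφr, IsScalarTower.algebraMap_apply S (Localization.AtPrime q) Sh]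
    constructor
    · intro hy
      have h1 : algebraMap S (Localization.AtPrime q) y ∈ maximalIdeal (Localization.AtPrime q) :=
        (IsLocalization.AtPrime.to_map_mem_maximal_iff (Localization.AtPrime q) q y).mpr hy
      intro hu
      exact h1 (isUnit_of_map_unit (algebraMap (Localization.AtPrime q) Sh) _ hu)
    · intro hy
      by_contra hyq
      have h1 : IsUnit (algebraMap S (Localization.AtPrime q) y) :=
        IsLocalization.map_units _ (⟨y, hyq⟩ : q.primeCompl)
      exact hy (h1.map _)
  haveI : Algebra.QuasiFiniteAt Rh (Ideal.comap φ (maximalIdeal Sh)) :=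
    Algebra.QuasiFiniteAt.baseChange q _ hqQ
  have hmem : ∀ x : Rh, algebraMap Rh (Rh ⊗[R] S) x ∈ Ideal.comap φ (maximalIdeal Sh) ↔
      x ∈ maximalIdeal Rh := by
    intro x
    change φ (x ⊗ₜ 1) ∈ maximalIdeal Sh ↔ _
    rw [hφl]
    constructor
    · intro h hx
      exact h (hx.map _)
    · intro h hx
      exact h (isUnit_of_map_unit (algebraMap Rh Sh) x hx)
  haveI hlies : (Ideal.comap φ (maximalIdeal Sh)).LiesOver (maximalIdeal Rh) :=
    ⟨by ext x; exact (hmem x).symm⟩
  obtain ⟨hsurj, hfin⟩ := qf_local_factor Rh (Rh ⊗[R] S) (Ideal.comap φ (maximalIdeal Sh))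
  refine ⟨hsurj, hfin, ⟨fun x hx => ?_⟩⟩
  by_contra hnu
  have h1 : x ∈ maximalIdeal Rh := (mem_maximalIdeal x).mpr hnu
  have h2 : algebraMap Rh (Rh ⊗[R] S) x ∈ Ideal.comap φ (maximalIdeal Sh) := (hmem x).mpr h1
  rw [IsScalarTower.algebraMap_apply Rh (Rh ⊗[R] S)
    (Localization.AtPrime (Ideal.comap φ (maximalIdeal Sh)))] at hx
  have h3 := (IsLocalization.AtPrime.to_map_mem_maximal_iff
    (Localization.AtPrime (Ideal.comap φ (maximalIdeal Sh)))
    (Ideal.comap φ (maximalIdeal Sh)) (algebraMap Rh (Rh ⊗[R] S) x)).mpr h2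
  exact h3 hx

include p q in
/-- transfer of finiteness along the comparison isomorphism -/
theorem finite_of_equiv (φ : Rh ⊗[R] S →ₐ[R] Sh)
    (hφl : ∀ x : Rh, φ (x ⊗ₜ 1) = algebraMap Rh Sh x)
    (hfin : Module.Finite Rh (Localization.AtPrime (Ideal.comap φ (maximalIdeal Sh))))
    (e : Localization.AtPrime (Ideal.comap φ (maximalIdeal Sh)) ≃+* Sh)
    (he : ∀ d : Rh ⊗[R] S, e (algebraMap (Rh ⊗[R] S) _ d) = φ d) :
    Module.Finite Rh Sh := by
  let eL : Localization.AtPrime (Ideal.comap φ (maximalIdeal Sh)) →ₗ[Rh] Sh :=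
    { toFun := e
      map_add' := map_add e
      map_smul' := fun x y => by
        simp only [RingHom.id_apply]
        rw [Algebra.smul_def, Algebra.smul_def, map_mul,
          IsScalarTower.algebraMap_apply Rh (Rh ⊗[R] S)
            (Localization.AtPrime (Ideal.comap φ (maximalIdeal Sh))), he]
        congr 1
        exact hφl x }
  exact Module.Finite.of_surjective eL e.surjective

/-- statement S9461 -/
theorem s9461 [Hensel.IsStrictHenselization (Localization.AtPrime p) Rh]
    [Hensel.IsStrictHenselization (Localization.AtPrime q) Sh] :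
    Module.Finite Rh Sh ∧
      Module.Finite (IsLocalRing.ResidueField Rh) (IsLocalRing.ResidueField Sh) ∧
      IsPurelyInseparable (IsLocalRing.ResidueField Rh) (IsLocalRing.ResidueField Sh) := by
  haveI hRh : HenselianLocalRing Rh := Hensel.IsStrictHenselization.henselian (Localization.AtPrime p)
  haveI : IsSepClosed (ResidueField Rh) :=
    (Hensel.IsStrictHenselization.isSepClosure (R := Localization.AtPrime p) (S := Rh)).sep_closed
  let φ : Rh ⊗[R] S →ₐ[R] Sh := Algebra.TensorProduct.lift (IsScalarTower.toAlgHom R Rh Sh)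
    (IsScalarTower.toAlgHom R S Sh) (fun _ _ => Commute.all _ _)
  have hφl : ∀ x : Rh, φ (x ⊗ₜ 1) = algebraMap Rh Sh x := fun x => by simp [φ]
  have hφr : ∀ y : S, φ (1 ⊗ₜ y) = algebraMap S Sh y := fun y => by simp [φ]
  obtain ⟨hsurj, hfin, hloc⟩ := common R S p q Rh Sh φ hφl hφr
  haveI := hfin
  haveI := hloc
  obtain ⟨hLh, hLs⟩ := Groth.Agent.Helper3.StrictHensFinite.main
    (algebraMap Rh (Localization.AtPrime (Ideal.comap φ (maximalIdeal Sh))))
    (RingHom.finite_algebraMap.mpr hfin) ⟨hRh, inferInstance⟩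
  haveI := hLh
  haveI := hLs
  haveI := isStrictHenselization_self (Localization.AtPrime (Ideal.comap φ (maximalIdeal Sh)))
  obtain ⟨e, he⟩ := Groth.Agent.Helper2.HensTensS.concrete R S p q Rh Sh φ hφl hφr
    (Localization.AtPrime (Ideal.comap φ (maximalIdeal Sh)))
  have hfinSh : Module.Finite Rh Sh := finite_of_equiv R S p q Rh Sh φ hφl hfin e he
  haveI := hfinSh
  refine ⟨hfinSh, inferInstance, ?_⟩
  haveI : Algebra.IsAlgebraic (ResidueField Rh) (ResidueField Sh) :=
    Algebra.IsAlgebraic.of_finite _ _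
  have hbot : separableClosure (ResidueField Rh) (ResidueField Sh) = ⊥ :=
    IntermediateField.eq_bot_of_isSepClosed_of_isSeparable _
  exact (separableClosure.eq_bot_iff).mp hbot

end Statements

end Groth.Agent.Helper2.HensQFin
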