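import Mathlib
import Groth.Prelude
import Groth.Agent.Helper2.BrnchE
import Groth.Agent.Helper2.HensQFin
import Groth.Agent.Helper1.HensNoeth
import Groth.Agent.Helper1.HensStrict

set_option autoImplicit false
set_option linter.style.haveILetI false
set_option linter.unusedSectionVars false
set_option linter.dupNamespace false

/-!
# Branches of a Noetherian local ring versus its completion (S9239)
-/

namespace Groth.Agent.Helper2.Brnch

universe u

open TensorProduct IsLocalRing Groth.Agent.Helper1.Hens Groth.Agent.Helper1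

theorem card_minimalPrimes_le_of_faithfullyFlat (R T : Type u) [CommRing R] [CommRing T]
    [Algebra R T] [Module.FaithfullyFlat R T] :
    ENat.card (minimalPrimes R) ≤ ENat.card (minimalPrimes T) := by
  change (minimalPrimes R).encard ≤ (minimalPrimes T).encard
  have h1 : minimalPrimes R ⊆ Ideal.comap (algebraMap R T) '' minimalPrimes T := by
    intro p hp
    obtain ⟨q, hq, hqp⟩ := exists_minimalPrimes_comap_eq' R T p hp
    exact ⟨q, hq, hqp⟩
  exact (Set.encard_le_encard h1).trans (Set.encard_image_le _ _)

section flat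

variable {R : Type u} [CommRing R] {Ω : Type u} [Field Ω] [Algebra R Ω]

/-- any `R`-algebra map from `Hens R Ω` to a flat `R`-algebra is flat. -/
theorem flat_of_algHom_hens (T : Type u) [CommRing T] [Algebra R T] [Module.Flat R T]
    (ψ : Hens R Ω →ₐ[R] T) :
    letI : Algebra (Hens R Ω) T := ψ.toRingHom.toAlgebra
    Module.Flat (Hens R Ω) T := by
  letI : Algebra (Hens R Ω) T := ψ.toRingHom.toAlgebra
  refine Hens.flat_of_flat_stages T fun i => ?_
  exact FlatUnram.flat_of_algHom (ψ.comp (Hens.ofAlg i))

variable {T : Type u} [CommRing T] [HenselianLocalRing T] [Algebra R T]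
  (τ : Ω →+* ResidueField T) (hτ : ∀ r, τ (algebraMap R Ω r) = residue T (algebraMap R T r))

theorem faithfullyFlat_lift [Module.Flat R T] :
    letI : Algebra (Hens R Ω) T := (Hens.lift τ hτ).toRingHom.toAlgebra
    Module.FaithfullyFlat (Hens R Ω) T := by
  letI : Algebra (Hens R Ω) T := (Hens.lift τ hτ).toRingHom.toAlgebra
  haveI : IsLocalHom (algebraMap (Hens R Ω) T) := by
    constructor
    intro z hz
    have h1 : IsUnit (residue T (Hens.lift τ hτ z)) := hz.map (residue T)
    rw [Hens.residue_lift, isUnit_iff_ne_zero, Ne, map_eq_zero] at h1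
    exact (Hens.isUnit_iff z).2 h1
  haveI : Module.Flat (Hens R Ω) T := flat_of_algHom_hens T (Hens.lift τ hτ)
  exact Module.FaithfullyFlat.of_flat_of_isLocalHom

include τ hτ in
theorem card_minimalPrimes_hens_le [Module.Flat R T] :
    ENat.card (minimalPrimes (Hens R Ω)) ≤ ENat.card (minimalPrimes T) := by
  letI : Algebra (Hens R Ω) T := (Hens.lift τ hτ).toRingHom.toAlgebra
  haveI := faithfullyFlat_lift τ hτ
  exact card_minimalPrimes_le_of_faithfullyFlat (Hens R Ω) T

end flat

section main

variable (A : Type u) [CommRing A] [IsLocalRing A] [IsNoetherianRing A]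

local notation "Ah" => AdicCompletion (maximalIdeal A) A

theorem numBranches_le : _root_.Brnch.numBranches A ≤ _root_.Brnch.numBranches Ah := by
  haveI : IsLocalHom (algebraMap Ah Ah) := ⟨fun a ha => ha⟩
  haveI := Groth.Agent.Helper2.HensQFin.isHenselization_self Ah
  rw [← s9237 A (Hh A), ← s9237 Ah Ah]
  haveI : Module.Flat A Ah := AdicCompletion.flat_of_isNoetherian (maximalIdeal A)
  have hτ : ∀ r, ResidueField.map (algebraMap A Ah) (algebraMap A (ResidueField A) r) =
      residue Ah (algebraMap A Ah r) := fun r => ResidueField.map_residue _ r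
  exact card_minimalPrimes_hens_le (ResidueField.map (algebraMap A Ah)) hτ

local notation "ΩA" => SeparableClosure (ResidueField A)
local notation "ΩAh" => SeparableClosure (ResidueField (AdicCompletion (maximalIdeal A) A))

theorem numGeomBranches_le :
    _root_.Brnch.numGeomBranches A ≤ _root_.Brnch.numGeomBranches Ah := by
  rw [← s9238 A (Hens A ΩA), ← s9238 Ah (Hens Ah ΩAh)]
  haveI : Module.Flat A Ah := AdicCompletion.flat_of_isNoetherian (maximalIdeal A)
  letI : Algebra A (Hens Ah ΩAh) :=
    ((algebraMap Ah (Hens Ah ΩAh)).comp (algebraMap A Ah)).toAlgebra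
  haveI : IsScalarTower A Ah (Hens Ah ΩAh) := IsScalarTower.of_algebraMap_eq (fun _ => rfl)
  haveI : Module.Flat A (Hens Ah ΩAh) := Module.Flat.trans A Ah (Hens Ah ΩAh)
  haveI : IsLocalHom (algebraMap A (Hens Ah ΩAh)) := by
    rw [IsScalarTower.algebraMap_eq A Ah (Hens Ah ΩAh)]
    exact RingHom.isLocalHom_comp _ _
  haveI : IsSepClosed (ResidueField (Hens Ah ΩAh)) :=
    IsSepClosure.sep_closed (ResidueField Ah)
  let τ : ΩA →ₐ[ResidueField A] ResidueField (Hens Ah ΩAh) := IsSepClosed.lift
  have hτ : ∀ r, τ.toRingHom (algebraMap A ΩA r) =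
      residue (Hens Ah ΩAh) (algebraMap A (Hens Ah ΩAh) r) := by
    intro r
    rw [IsScalarTower.algebraMap_apply A (ResidueField A) ΩA]
    change τ (algebraMap (ResidueField A) ΩA (residue A r)) = _
    rw [τ.commutes, IsLocalRing.ResidueField.algebraMap_residue]
  exact card_minimalPrimes_hens_le τ.toRingHom hτ

theorem s9239 : _root_.Brnch.numBranches A ≤ _root_.Brnch.numBranches Ah ∧
    _root_.Brnch.numGeomBranches A ≤ _root_.Brnch.numGeomBranches Ah :=
  ⟨numBranches_le A, numGeomBranches_le A⟩

end main

end Groth.Agent.Helper2.Brnch
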