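import Mathlib
import Groth.Prelude
import Groth.Agent.Helper2.EssEtSub2
import Groth.Agent.Helper2.BrnchE
import Groth.Agent.Helper2.BrnchB
import Groth.Agent.Helper2.BrnchF
import Groth.Agent.Helper1.EssEtHensel
import Groth.Agent.Helper1.FlatUnram

set_option autoImplicit false
set_option linter.style.haveILetI false
set_option linter.unusedSectionVars false
set_option linter.dupNamespace false

namespace Groth.Agent.Helper2.BrSch

universe u

open IsLocalRing Groth.Agent.Helper1.Hens Groth.Agent.Helper1 Groth.Agent.Helper2.EssEtSub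

section ring

variable (A E : Type u) [CommRing A] [IsLocalRing A] [CommRing E] [IsLocalRing E] [Algebra A E]
  [IsLocalHom (algebraMap A E)] [Algebra.EssFiniteType A E] [Algebra.FormallyUnramified A E]
  [Module.Flat A E]

theorem isEssentiallyEtale_of_flat_unramified : EGA4loc.IsEssentiallyEtale A E := by
  obtain ⟨P, _, _, hP, χ, hχ⟩ := exists_surjective_of_unramified A E
  let 𝔮 : Ideal P := (maximalIdeal E).comap (χ : P →+* E)
  haveI : 𝔮.IsPrime := Ideal.comap_isPrime _ _
  have hmem : ∀ p : P, p ∈ 𝔮.primeCompl ↔ IsUnit (χ p) := by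
    intro p
    rw [Ideal.mem_primeCompl_iff, Ideal.mem_comap, mem_maximalIdeal, mem_nonunits_iff, not_not]
    rfl
  have hunit : ∀ y : 𝔮.primeCompl, IsUnit (χ y) := fun y => (hmem y).mp y.2
  let χ' : Localization.AtPrime 𝔮 →ₐ[A] E :=
    IsLocalization.liftAlgHom (M := 𝔮.primeCompl) (f := χ) hunit
  have hχ' : ∀ p, χ' (algebraMap P (Localization.AtPrime 𝔮) p) = χ p := by
    intro p
    simp [χ']
  have hmk : ∀ (p : P) (s : 𝔮.primeCompl),
      χ' (IsLocalization.mk' (Localization.AtPrime 𝔮) p s) * χ s = χ p := by
    intro p s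
    rw [← hχ' s, ← map_mul, IsLocalization.mk'_spec, hχ']
  have hsurj : Function.Surjective χ' := by
    intro d
    obtain ⟨p, s, hs, hd⟩ := hχ d
    refine ⟨IsLocalization.mk' _ p (⟨s, (hmem s).mpr hs⟩ : 𝔮.primeCompl), ?_⟩
    have h1 := hmk p ⟨s, (hmem s).mpr hs⟩
    rw [← hd] at h1
    exact hs.mul_left_injective h1
  have hlocal : ∀ x, IsUnit (χ' x) → IsUnit x := by
    intro x hx
    obtain ⟨p, s, rfl⟩ := IsLocalization.exists_mk'_eq 𝔮.primeCompl x
    have h1 := hmk p s
    have h2 : IsUnit (χ p) := by
      rw [← h1]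
      exact hx.mul (hunit s)
    have h3 : p ∈ 𝔮.primeCompl := (hmem p).mpr h2
    have h4 : IsUnit (algebraMap P (Localization.AtPrime 𝔮) p) :=
      IsLocalization.map_units _ (⟨p, h3⟩ : 𝔮.primeCompl)
    have h5 : IsLocalization.mk' (Localization.AtPrime 𝔮) p s *
        algebraMap P (Localization.AtPrime 𝔮) s = algebraMap P (Localization.AtPrime 𝔮) p :=
      IsLocalization.mk'_spec _ p s
    exact isUnit_of_mul_isUnit_left (h5 ▸ h4)
  haveI : Algebra.EssFiniteType A (Localization.AtPrime 𝔮) :=
    Algebra.EssFiniteType.comp A P (Localization.AtPrime 𝔮)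
  haveI : Algebra.FormallyEtale P (Localization.AtPrime 𝔮) :=
    Algebra.FormallyEtale.of_isLocalization 𝔮.primeCompl
  haveI : Algebra.FormallyEtale A (Localization.AtPrime 𝔮) :=
    Algebra.FormallyEtale.comp A P (Localization.AtPrime 𝔮)
  have hinj' : Function.Injective χ' := injective_of_algHom_local χ' hlocal
  refine ⟨P, inferInstance, inferInstance, 𝔮, inferInstance, hP, ?_,
    ⟨(AlgEquiv.ofBijective χ' ⟨hinj', hsurj⟩).symm⟩⟩
  show ((maximalIdeal E).comap (χ : P →+* E)).comap (algebraMap A P) = maximalIdeal A
  rw [Ideal.comap_comap, ← maximalIdeal_comap (algebraMap A E)]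
  congr 1
  apply RingHom.ext
  intro a
  exact χ.commutes a

/-- a local map into any henselian local `A`-algebra `B`, given a compatible residue field map. -/
theorem exists_local_algHom (B : Type u) [CommRing B] [HenselianLocalRing B] [Algebra A B]
    [IsLocalHom (algebraMap A B)]
    (α : ResidueField E →+* ResidueField B)
    (hα : α.comp (ResidueField.map (algebraMap A E)) = ResidueField.map (algebraMap A B)) :
    ∃ ψ : E →ₐ[A] B, ∀ x, IsUnit (ψ x) → IsUnit x := by
  obtain ⟨ψ', ⟨h1, h2, -⟩, -⟩ := EssEt.existsUnique_lift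
    (isEssentiallyEtale_of_flat_unramified A E) (algebraMap A B) α hα
  refine ⟨{ ψ' with commutes' := fun a => congr($h2 a) }, ?_⟩
  intro x hx
  exact h1.map_nonunit x hx

theorem encard_minimalPrimes_le (B : Type u) [CommRing B] [HenselianLocalRing B] [Algebra A B]
    [IsLocalHom (algebraMap A B)] [Module.Flat A B]
    (α : ResidueField E →+* ResidueField B)
    (hα : α.comp (ResidueField.map (algebraMap A E)) = ResidueField.map (algebraMap A B)) :
    (minimalPrimes E).encard ≤ (minimalPrimes B).encard := by
  obtain ⟨ψ, hψ⟩ := exists_local_algHom A E B α hα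
  letI : Algebra E B := ψ.toRingHom.toAlgebra
  haveI : Module.Flat E B := FlatUnram.flat_of_algHom ψ
  haveI : IsLocalHom (algebraMap E B) := ⟨hψ⟩
  haveI : Module.FaithfullyFlat E B := Module.FaithfullyFlat.of_flat_of_isLocalHom
  exact Brnch.card_minimalPrimes_le_of_faithfullyFlat E B

theorem encard_minimalPrimes_le_numGeomBranches :
    (minimalPrimes E).encard ≤ _root_.Brnch.numGeomBranches A := by
  let Ω := SeparableClosure (ResidueField A)
  haveI : IsSepClosure (ResidueField A) Ω := inferInstance
  let S := Hens A Ω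
  haveI hS : Hensel.IsStrictHenselization A S := isStrictHenselization
  haveI : HenselianLocalRing S := hS.henselian
  haveI := faithfullyFlat_of_isStrictHenselization A S
  haveI : IsSepClosure (ResidueField A) (ResidueField S) := hS.isSepClosure
  haveI : IsSepClosed (ResidueField S) := IsSepClosure.sep_closed (ResidueField A)
  let α : ResidueField E →ₐ[ResidueField A] ResidueField S :=
    IsSepClosed.lift
  have hα : α.toRingHom.comp (ResidueField.map (algebraMap A E)) =
      ResidueField.map (algebraMap A S) := by
    ext x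
    exact α.commutes x
  have h1 := encard_minimalPrimes_le A E S α.toRingHom hα
  have h2 := Brnch.s9238 A S
  rw [← h2]
  exact h1

theorem encard_minimalPrimes_le_numBranches
    (hres : Function.Bijective (ResidueField.map (algebraMap A E))) :
    (minimalPrimes E).encard ≤ _root_.Brnch.numBranches A := by
  let S := Hh A
  haveI hS : Hensel.IsHenselization A S := isHenselization
  haveI : HenselianLocalRing S := hS.henselian
  haveI := faithfullyFlat_of_isHenselization A S
  let e : ResidueField A ≃+* ResidueField E := RingEquiv.ofBijective _ hres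
  let α : ResidueField E →+* ResidueField S :=
    (ResidueField.map (algebraMap A S)).comp e.symm.toRingHom
  have hα : α.comp (ResidueField.map (algebraMap A E)) =
      ResidueField.map (algebraMap A S) := by
    ext x
    show ResidueField.map (algebraMap A S) (e.symm (e x)) = _
    rw [RingEquiv.symm_apply_apply]
  have h1 := encard_minimalPrimes_le A E S α hα
  have h2 := Brnch.s9237 A S
  rw [← h2]
  exact h1

end ring

end Groth.Agent.Helper2.BrSch
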