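import Mathlib
import Groth.Prelude
import Groth.Agent.Helper2.BrSchA
import Groth.Agent.Helper2.BrSchB

set_option autoImplicit false
set_option linter.style.haveILetI false
set_option linter.unusedSectionVars false
set_option linter.dupNamespace false

namespace Groth.Agent.Helper2.BrSch

universe u

open IsLocalRing AlgebraicGeometry CategoryTheory

theorem le_numGeomBranchesAt {U X : Scheme.{u}} (g : U ⟶ X) [Etale g] (u : U) :
    {Z : Set ↑U | Z ∈ irreducibleComponents ↑U ∧ u ∈ Z}.encard ≤
      _root_.Brnch.numGeomBranchesAt X (g u) := by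
  rw [encard_components_eq_minimalPrimes]
  letI : Algebra ↑(X.presheaf.stalk (g u)) ↑(U.presheaf.stalk u) := (g.stalkMap u).hom.toAlgebra
  haveI : IsLocalHom (algebraMap ↑(X.presheaf.stalk (g u)) ↑(U.presheaf.stalk u)) :=
    inferInstanceAs (IsLocalHom (g.stalkMap u).hom)
  haveI : Algebra.EssFiniteType ↑(X.presheaf.stalk (g u)) ↑(U.presheaf.stalk u) :=
    LocallyOfFiniteType.stalkMap g u
  haveI : Algebra.FormallyUnramified ↑(X.presheaf.stalk (g u)) ↑(U.presheaf.stalk u) :=
    FormallyUnramified.stalkMap g u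
  haveI : Module.Flat ↑(X.presheaf.stalk (g u)) ↑(U.presheaf.stalk u) :=
    Flat.stalkMap g u
  exact encard_minimalPrimes_le_numGeomBranches _ _

theorem le_numBranchesAt {U X : Scheme.{u}} (g : U ⟶ X) [Etale g] (u : U)
    (hres : Function.Bijective (g.residueFieldMap u)) :
    {Z : Set ↑U | Z ∈ irreducibleComponents ↑U ∧ u ∈ Z}.encard ≤
      _root_.Brnch.numBranchesAt X (g u) := by
  rw [encard_components_eq_minimalPrimes]
  letI : Algebra ↑(X.presheaf.stalk (g u)) ↑(U.presheaf.stalk u) := (g.stalkMap u).hom.toAlgebra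
  haveI : IsLocalHom (algebraMap ↑(X.presheaf.stalk (g u)) ↑(U.presheaf.stalk u)) :=
    inferInstanceAs (IsLocalHom (g.stalkMap u).hom)
  haveI : Algebra.EssFiniteType ↑(X.presheaf.stalk (g u)) ↑(U.presheaf.stalk u) :=
    LocallyOfFiniteType.stalkMap g u
  haveI : Algebra.FormallyUnramified ↑(X.presheaf.stalk (g u)) ↑(U.presheaf.stalk u) :=
    FormallyUnramified.stalkMap g u
  haveI : Module.Flat ↑(X.presheaf.stalk (g u)) ↑(U.presheaf.stalk u) :=
    Flat.stalkMap g u
  exact encard_minimalPrimes_le_numBranches _ _ hres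

end Groth.Agent.Helper2.BrSch
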