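import Mathlib
import Groth.Prelude

set_option autoImplicit false
set_option linter.style.haveILetI false
set_option linter.unusedSectionVars false
set_option linter.dupNamespace false

namespace Groth.Agent.Helper2.BrSch

universe u

open IsLocalRing Polynomial

section locAt

variable {C T : Type*} [CommRing C] [CommRing T] [IsLocalRing T] (ψ : C →+* T)

/-- the prime of the point `ψ : C → T` of a local ring `T` -/
def ptOf : Ideal C := (maximalIdeal T).comap ψ

instance : (ptOf ψ).IsPrime := Ideal.comap_isPrime _ _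

lemma mem_primeCompl_ptOf (c : C) : c ∈ (ptOf ψ).primeCompl ↔ IsUnit (ψ c) := by
  rw [Ideal.mem_primeCompl_iff, ptOf, Ideal.mem_comap, mem_maximalIdeal, mem_nonunits_iff, not_not]

/-- the induced map on the localization -/
noncomputable def locLift : Localization.AtPrime (ptOf ψ) →+* T :=
  IsLocalization.lift (M := (ptOf ψ).primeCompl) (g := ψ)
    (fun y => (mem_primeCompl_ptOf ψ y).1 y.2)

lemma locLift_algebraMap (c : C) :
    locLift ψ (algebraMap C (Localization.AtPrime (ptOf ψ)) c) = ψ c :=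
  IsLocalization.lift_eq _ _

lemma locLift_mk'_mul (c : C) (s : (ptOf ψ).primeCompl) :
    locLift ψ (IsLocalization.mk' (Localization.AtPrime (ptOf ψ)) c s) * ψ s = ψ c := by
  rw [← locLift_algebraMap ψ (s : C), ← map_mul, IsLocalization.mk'_spec, locLift_algebraMap]

lemma isUnit_of_isUnit_locLift (x : Localization.AtPrime (ptOf ψ)) (hx : IsUnit (locLift ψ x)) :
    IsUnit x := by
  obtain ⟨p, s, rfl⟩ := IsLocalization.exists_mk'_eq (ptOf ψ).primeCompl x
  have h1 := locLift_mk'_mul ψ p s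
  have h2 : IsUnit (ψ p) := by
    rw [← h1]
    exact hx.mul ((mem_primeCompl_ptOf ψ s).1 s.2)
  have h3 : p ∈ (ptOf ψ).primeCompl := (mem_primeCompl_ptOf ψ p).2 h2
  have h4 : IsUnit (algebraMap C (Localization.AtPrime (ptOf ψ)) p) :=
    IsLocalization.map_units _ (⟨p, h3⟩ : (ptOf ψ).primeCompl)
  have h5 : IsLocalization.mk' (Localization.AtPrime (ptOf ψ)) p s *
      algebraMap C (Localization.AtPrime (ptOf ψ)) s =
      algebraMap C (Localization.AtPrime (ptOf ψ)) p :=
    IsLocalization.mk'_spec _ p s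
  exact isUnit_of_mul_isUnit_left (h5 ▸ h4)

instance : IsLocalHom (locLift ψ) := ⟨isUnit_of_isUnit_locLift ψ⟩

lemma mem_range_locLift_iff (t : T) :
    t ∈ (locLift ψ).range ↔ ∃ c c' : C, IsUnit (ψ c') ∧ t * ψ c' = ψ c := by
  constructor
  · rintro ⟨x, rfl⟩
    obtain ⟨p, s, rfl⟩ := IsLocalization.exists_mk'_eq (ptOf ψ).primeCompl x
    exact ⟨p, s, (mem_primeCompl_ptOf ψ s).1 s.2, locLift_mk'_mul ψ p s⟩
  · rintro ⟨c, c', hc', h⟩
    refine ⟨IsLocalization.mk' _ c (⟨c', (mem_primeCompl_ptOf ψ c').2 hc'⟩ : (ptOf ψ).primeCompl), ?_⟩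
    have h1 := locLift_mk'_mul ψ c ⟨c', (mem_primeCompl_ptOf ψ c').2 hc'⟩
    rw [← h] at h1
    exact hc'.mul_left_injective h1

lemma inv_mem_range_locLift {t t' : T} (ht : t ∈ (locLift ψ).range) (h : t * t' = 1) :
    t' ∈ (locLift ψ).range := by
  obtain ⟨x, rfl⟩ := ht
  have hu : IsUnit (locLift ψ x) := IsUnit.of_mul_eq_one _ h
  have hx : IsUnit x := isUnit_of_isUnit_locLift ψ x hu
  obtain ⟨y, hy⟩ := hx.exists_right_inv
  refine ⟨y, ?_⟩
  have h1 : locLift ψ x * locLift ψ y = 1 := by rw [← map_mul, hy, map_one]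
  exact hu.mul_left_cancel (h1.trans h.symm)

end locAt

section model


/-- spreading out an étale algebra over `A = R_p` with a point in a local ring `T`,
keeping a finite set of elements of `T` in the (local) image. -/
theorem exists_etale_model (R : Type u) [CommRing R] (p : Ideal R) [p.IsPrime] (A : Type u)
    [CommRing A] [Algebra R A] [IsLocalization.AtPrime A p]
    (T : Type u) [CommRing T] [IsLocalRing T] [Algebra A T] [Algebra R T] [IsScalarTower R A T]
    (C : Type u) [CommRing C] [Algebra A C] [Algebra.Etale A C]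
    (γ : C →ₐ[A] T) (F : Finset T)
    (hF : ∀ t ∈ F, ∃ c c' : C, IsUnit (γ c') ∧ t * γ c' = γ c) :
    ∃ (C₀ : Type u) (_ : CommRing C₀) (_ : Algebra R C₀) (_ : Algebra.Etale R C₀)
      (ψ : C₀ →ₐ[R] T), ∀ t ∈ F, ∃ c c' : C₀, IsUnit (ψ c') ∧ t * ψ c' = ψ c := by
  classical
  haveI : Nontrivial A := by
    haveI := IsLocalization.AtPrime.isLocalRing A p
    infer_instance
  let q : Ideal C := ptOf γ.toRingHom
  haveI : q.IsPrime := inferInstanceAs (ptOf γ.toRingHom).IsPrime
  haveI : Algebra.FormallyEtale C (Localization.AtPrime q) :=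
    Algebra.FormallyEtale.of_isLocalization q.primeCompl
  haveI : Algebra.IsEtaleAt A q := Algebra.FormallyEtale.comp A C _
  obtain ⟨f, hfq, hstd⟩ := Algebra.IsEtaleAt.exists_isStandardEtale (R := A) q
  obtain ⟨P⟩ := hstd.nonempty_standardEtalePresentation
  have hγf : IsUnit (γ f) := by
    have : f ∈ q.primeCompl := hfq
    exact (mem_primeCompl_ptOf γ.toRingHom f).1 this
  let γf : Localization.Away f →ₐ[A] T := IsLocalization.Away.liftAlgHom f (f := γ) hγf
  have hγf' : ∀ c, γf (algebraMap C _ c) = γ c := fun c => by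
    simp [γf, IsLocalization.Away.liftAlgHom_apply]
  let ξ : T := γf P.x
  have hξ : P.HasMap ξ := P.hasMap.map γf
  -- common denominator
  obtain ⟨⟨s₀, hs₀⟩, hs₀'⟩ := IsLocalization.exist_integer_multiples_of_finset p.primeCompl
    (P.f.coeffs ∪ P.g.coeffs : Finset A)
  have hs₀u : IsUnit (algebraMap R A s₀) :=
    IsLocalization.map_units A (⟨s₀, hs₀⟩ : p.primeCompl)
  let R' := Localization.Away s₀
  let φ : R' →+* A := IsLocalization.Away.lift s₀ hs₀u
  have hφ : ∀ r, φ (algebraMap R R' r) = algebraMap R A r := fun r =>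
    IsLocalization.Away.lift_eq s₀ hs₀u r
  letI : Algebra R' A := φ.toAlgebra
  haveI : IsScalarTower R R' A := IsScalarTower.of_algebraMap_eq (fun r => (hφ r).symm)
  letI : Algebra R' T := ((algebraMap A T).comp φ).toAlgebra
  haveI : IsScalarTower R' A T := IsScalarTower.of_algebraMap_eq (fun r => rfl)
  haveI : IsScalarTower R R' T := IsScalarTower.of_algebraMap_eq (fun r => by
    show algebraMap R T r = algebraMap A T (φ (algebraMap R R' r))
    rw [hφ, ← IsScalarTower.algebraMap_apply])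
  have hrange : ∀ a ∈ (P.f.coeffs ∪ P.g.coeffs : Finset A), a ∈ Set.range φ := by
    intro a ha
    obtain ⟨r, hr⟩ := hs₀' a ha
    have hr' : algebraMap R A r = algebraMap R A s₀ * a := by
      rw [hr, Algebra.smul_def]
    refine ⟨IsLocalization.mk' R' r (⟨s₀, Submonoid.mem_powers s₀⟩ : Submonoid.powers s₀), ?_⟩
    have h1 : φ (IsLocalization.mk' R' r (⟨s₀, Submonoid.mem_powers s₀⟩ : Submonoid.powers s₀)) *
        φ (algebraMap R R' s₀) = φ (algebraMap R R' r) := by
      rw [← map_mul, IsLocalization.mk'_spec]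
    rw [hφ, hφ, hr', mul_comm] at h1
    exact hs₀u.mul_left_cancel h1
  have hcoeff : ∀ (g : A[X]), (g.coeffs ⊆ (P.f.coeffs ∪ P.g.coeffs : Finset A)) →
      g ∈ Polynomial.lifts φ := by
    intro g hg
    rw [Polynomial.lifts_iff_coeff_lifts]
    intro n
    by_cases h0 : g.coeff n = 0
    · rw [h0]; exact ⟨0, map_zero _⟩
    · exact hrange _ (hg (Polynomial.coeff_mem_coeffs h0))
  obtain ⟨f₀, hf₀, -, hf₀m⟩ := Polynomial.lifts_and_degree_eq_and_monic
    (hcoeff P.f Finset.subset_union_left) P.monic_f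
  obtain ⟨g₀, hg₀⟩ := (Polynomial.mem_lifts _).1 (hcoeff P.g Finset.subset_union_right)
  let P₀ : StandardEtalePair R' :=
    { f := f₀
      monic_f := hf₀m
      g := g₀ * derivative f₀
      cond := ⟨g₀, 0, 1, by ring⟩ }
  have hfmap : f₀.map (algebraMap R' A) = P.f := hf₀
  have hgmap : g₀.map (algebraMap R' A) = P.g := hg₀
  have hP₀ : P₀.HasMap ξ := by
    refine ⟨?_, ?_⟩
    · show aeval ξ f₀ = 0
      rw [← Polynomial.aeval_map_algebraMap A, hfmap]
      exact hξ.1
    · show IsUnit (aeval ξ (g₀ * derivative f₀))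
      rw [map_mul, ← Polynomial.aeval_map_algebraMap A ξ g₀,
        ← Polynomial.aeval_map_algebraMap A ξ (derivative f₀), ← Polynomial.derivative_map, hfmap,
        hgmap]
      exact hξ.2.mul hξ.isUnit_derivative_f
  let C₀ := P₀.Ring
  letI : Algebra R C₀ := ((algebraMap R' C₀).comp (algebraMap R R')).toAlgebra
  haveI : IsScalarTower R R' C₀ := IsScalarTower.of_algebraMap_eq (fun r => rfl)
  haveI : Algebra.Etale R R' := by
    haveI : Algebra.FormallyEtale R R' := Algebra.FormallyEtale.of_isLocalization (Submonoid.powers s₀)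
    haveI : Algebra.FinitePresentation R R' := IsLocalization.Away.finitePresentation s₀
    exact ⟨inferInstance, inferInstance⟩
  haveI : Algebra.Etale R C₀ := Algebra.Etale.comp R R' C₀
  let ψ' : C₀ →ₐ[R'] T := P₀.lift ξ hP₀
  let ψ : C₀ →ₐ[R] T := ψ'.restrictScalars R
  have hψX : ψ P₀.X = ξ := P₀.lift_X ξ hP₀
  refine ⟨C₀, inferInstance, inferInstance, inferInstance, ψ, ?_⟩
  -- the subring of essentially-image elements
  let W : Subring T := (locLift ψ.toRingHom).range
  have hW : ∀ t, t ∈ W ↔ ∃ c c' : C₀, IsUnit (ψ c') ∧ t * ψ c' = ψ c :=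
    fun t => mem_range_locLift_iff ψ.toRingHom t
  have hWψ : ∀ c, ψ c ∈ W := fun c => (hW _).2 ⟨c, 1, by simp, by simp⟩
  have hWinv : ∀ {t t' : T}, t ∈ W → t * t' = 1 → t' ∈ W :=
    fun ht h => inv_mem_range_locLift ψ.toRingHom ht h
  have hWA : ∀ a : A, algebraMap A T a ∈ W := by
    intro a
    obtain ⟨⟨r, m⟩, hrm⟩ := IsLocalization.surj p.primeCompl a
    rw [hW]
    refine ⟨algebraMap R C₀ r, algebraMap R C₀ m, ?_, ?_⟩
    · rw [ψ.commutes, IsScalarTower.algebraMap_apply R A T]
      exact (IsLocalization.map_units A m).map _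
    · rw [ψ.commutes, ψ.commutes, IsScalarTower.algebraMap_apply R A T,
        IsScalarTower.algebraMap_apply R A T, ← map_mul, hrm]
  have hWξ : ξ ∈ W := hψX ▸ hWψ _
  have hWpoly : ∀ g : A[X], aeval ξ g ∈ W := by
    intro g
    rw [Polynomial.aeval_eq_sum_range]
    refine Subring.sum_mem _ (fun n _ => ?_)
    rw [Algebra.smul_def]
    exact W.mul_mem (hWA _) (W.pow_mem hWξ _)
  have hWγf : ∀ c', γf c' ∈ W := by
    intro c'
    obtain ⟨g, n, hgn⟩ := P.exists_mul_aeval_x_g_pow_eq_aeval_x c'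
    have h1 : γf c' * (aeval ξ P.g) ^ n = aeval ξ g := by
      have := congrArg γf hgn
      rw [map_mul, map_pow, ← Polynomial.aeval_algHom_apply, ← Polynomial.aeval_algHom_apply] at this
      exact this
    obtain ⟨v, hv⟩ := (hξ.2.pow n).exists_right_inv
    have hvW : v ∈ W := hWinv (W.pow_mem (hWpoly _) n) hv
    have h2 : γf c' = aeval ξ g * v := by
      rw [← h1, mul_assoc, hv, mul_one]
    rw [h2]
    exact W.mul_mem (hWpoly _) hvW
  have hWγ : ∀ c, γ c ∈ W := fun c => hγf' c ▸ hWγf _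
  intro t ht
  obtain ⟨c, c', hc', hcc'⟩ := hF t ht
  rw [← hW]
  obtain ⟨v, hv⟩ := hc'.exists_right_inv
  have hvW : v ∈ W := hWinv (hWγ c') hv
  have : t = γ c * v := by
    rw [← hcc', mul_assoc, hv, mul_one]
  rw [this]
  exact W.mul_mem (hWγ c) hvW

end model

end Groth.Agent.Helper2.BrSch
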