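import Mathlib
import Groth.Prelude
import Groth.Agent.Helper2.BrnchF

set_option autoImplicit false
set_option linter.style.haveILetI false
set_option linter.unusedSectionVars false
set_option linter.dupNamespace false

/-!
# Equality of the number of branches of `A` and its completion (S9243)
-/

namespace Groth.Agent.Helper2.Brnch

universe u

open TensorProduct IsLocalRing Groth.Agent.Helper1.Hens Groth.Agent.Helper1

section generic

variable {R T : Type u} [CommRing R] [CommRing T] [Algebra R T] [Module.FaithfullyFlat R T]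

/-- minimal primes contract to minimal primes along flat maps -/
theorem comap_mem_minimalPrimes (P : Ideal T) (hP : P ∈ minimalPrimes T) :
    P.comap (algebraMap R T) ∈ minimalPrimes R := by
  haveI : P.IsPrime := hP.1.1
  refine ⟨⟨Ideal.comap_isPrime _ _, bot_le⟩, ?_⟩
  rintro p' ⟨hp', -⟩ hle
  haveI := hp'
  by_contra hnle
  have hlt : p' < P.comap (algebraMap R T) := lt_of_le_of_ne hle (fun h => hnle (h ▸ le_refl _))
  haveI : P.LiesOver (P.comap (algebraMap R T)) := ⟨rfl⟩
  obtain ⟨P', hP'lt, hP'prime, -⟩ :=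
    Ideal.exists_ideal_lt_liesOver_of_lt (p := p') (q := P.comap (algebraMap R T)) P hlt
  exact absurd (hP.2 ⟨hP'prime, bot_le⟩ hP'lt.le) (not_le_of_gt hP'lt)

/-- the minimal primes of `T` over a minimal prime `q` of `R` are the minimal primes of `qT` -/
theorem mem_minimalPrimes_map_of_comap_eq (q : Ideal R) (P : Ideal T) (hP : P ∈ minimalPrimes T)
    (hPq : P.comap (algebraMap R T) = q) : P ∈ (q.map (algebraMap R T)).minimalPrimes := by
  refine ⟨⟨hP.1.1, ?_⟩, fun P' hP' hle => hP.2 ⟨hP'.1, bot_le⟩ hle⟩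
  rw [Ideal.map_le_iff_le_comap, hPq]

theorem mem_minimalPrimes_of_mem_minimalPrimes_map (q : Ideal R) (hq : q ∈ minimalPrimes R)
    (P : Ideal T) (hP : P ∈ (q.map (algebraMap R T)).minimalPrimes) :
    P ∈ minimalPrimes T ∧ P.comap (algebraMap R T) = q := by
  haveI : P.IsPrime := hP.1.1
  haveI : q.IsPrime := hq.1.1
  have hqP : q ≤ P.comap (algebraMap R T) := Ideal.map_le_iff_le_comap.mp hP.1.2
  -- going down
  have hcomap : P.comap (algebraMap R T) = q := by
    by_contra hne
    have hlt : q < P.comap (algebraMap R T) := lt_of_le_of_ne hqP (fun h => hne h.symm)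
    haveI : P.LiesOver (P.comap (algebraMap R T)) := ⟨rfl⟩
    obtain ⟨P', hP'lt, hP'prime, hP'q⟩ :=
      Ideal.exists_ideal_lt_liesOver_of_lt (p := q) (q := P.comap (algebraMap R T)) P hlt
    have h1 : q.map (algebraMap R T) ≤ P' := by
      rw [Ideal.map_le_iff_le_comap, hP'q.over]
    exact absurd (hP.2 ⟨hP'prime, h1⟩ hP'lt.le) (not_le_of_gt hP'lt)
  refine ⟨⟨⟨inferInstance, bot_le⟩, ?_⟩, hcomap⟩
  rintro P' ⟨hP'prime, -⟩ hle
  haveI := hP'prime
  have h1 : P'.comap (algebraMap R T) ≤ q := by
    rw [← hcomap]; exact Ideal.comap_mono hle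
  have h2 : q ≤ P'.comap (algebraMap R T) := hq.2 ⟨Ideal.comap_isPrime _ _, bot_le⟩ h1
  exact hP.2 ⟨hP'prime, Ideal.map_le_iff_le_comap.mpr h2⟩ hle

theorem radical_isPrime_iff (I : Ideal T) :
    I.radical.IsPrime ↔ ∃ P, I.minimalPrimes = {P} := by
  constructor
  · intro h
    refine ⟨I.radical, Set.eq_singleton_iff_unique_mem.mpr ⟨?_, ?_⟩⟩
    · refine ⟨⟨h, Ideal.le_radical⟩, fun P' hP' _ => ?_⟩
      exact (Ideal.IsPrime.radical_le_iff hP'.1).mpr hP'.2
    · intro P hP
      have h1 : I.radical ≤ P := (Ideal.IsPrime.radical_le_iff hP.1.1).mpr hP.1.2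
      exact le_antisymm (hP.2 ⟨h, Ideal.le_radical⟩ h1) h1
  · rintro ⟨P, hP⟩
    have h1 : I.radical = P := by
      rw [← Ideal.sInf_minimalPrimes, hP, sInf_singleton]
    rw [h1]
    have : P ∈ I.minimalPrimes := by rw [hP]; exact Set.mem_singleton P
    exact this.1.1

theorem card_eq_iff (hfin : (minimalPrimes T).Finite) :
    ENat.card (minimalPrimes R) = ENat.card (minimalPrimes T) ↔
      ∀ q ∈ minimalPrimes R, (q.map (algebraMap R T)).radical.IsPrime := by
  have himg : Ideal.comap (algebraMap R T) '' minimalPrimes T = minimalPrimes R := by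
    apply Set.Subset.antisymm
    · rintro _ ⟨P, hP, rfl⟩
      exact comap_mem_minimalPrimes P hP
    · intro p hp
      obtain ⟨q, hq, hqp⟩ := exists_minimalPrimes_comap_eq' R T p hp
      exact ⟨q, hq, hqp⟩
  change (minimalPrimes R).encard = (minimalPrimes T).encard ↔ _
  constructor
  · intro h q hq
    have hinj : Set.InjOn (Ideal.comap (algebraMap R T)) (minimalPrimes T) :=
      hfin.injOn_of_encard_image_eq (by rw [himg, h])
    rw [radical_isPrime_iff]
    obtain ⟨P, hP, hPq⟩ := exists_minimalPrimes_comap_eq' R T q hq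
    refine ⟨P, Set.eq_singleton_iff_unique_mem.mpr
      ⟨mem_minimalPrimes_map_of_comap_eq q P hP hPq, fun P' hP' => ?_⟩⟩
    obtain ⟨h1, h2⟩ := mem_minimalPrimes_of_mem_minimalPrimes_map q hq P' hP'
    exact hinj h1 hP (h2.trans hPq.symm)
  · intro h
    have hinj : Set.InjOn (Ideal.comap (algebraMap R T)) (minimalPrimes T) := by
      intro P hP P' hP' he
      have hq := comap_mem_minimalPrimes (R := R) P hP
      obtain ⟨P₀, hP₀⟩ := (radical_isPrime_iff _).mp (h _ hq)
      have h1 := mem_minimalPrimes_map_of_comap_eq (R := R) _ P hP rfl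
      have h2 := mem_minimalPrimes_map_of_comap_eq (R := R) _ P' hP' he.symm
      rw [hP₀, Set.mem_singleton_iff] at h1 h2
      rw [h1, h2]
    rw [← himg]
    exact hinj.encard_image

end generic

section main

variable (A S : Type u) [CommRing A] [IsLocalRing A] [IsNoetherianRing A]
    [CommRing S] [IsLocalRing S] [Algebra A S] [IsLocalHom (algebraMap A S)]
    [Hensel.IsHenselization A S]

local notation "Ah" => AdicCompletion (maximalIdeal A) A

/-- any `A`-algebra map from a henselization to the completion is faithfully flat -/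
theorem faithfullyFlat_of_comp_eq (ψ : S →+* Ah) (hψ : ψ.comp (algebraMap A S) = algebraMap A Ah) :
    letI : Algebra S Ah := ψ.toAlgebra
    Module.FaithfullyFlat S Ah := by
  letI : Algebra S Ah := ψ.toAlgebra
  haveI : Module.Flat A Ah := AdicCompletion.flat_of_isNoetherian (maximalIdeal A)
  let e := equivOfIsHenselization (R := A) S
  let ψa : S →ₐ[A] Ah := { ψ with commutes' := fun a => congr($hψ a) }
  let χ : Hh A →ₐ[A] Ah := ψa.comp e.symm.toAlgHom
  letI : Algebra (Hh A) Ah := χ.toRingHom.toAlgebra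
  haveI : Module.Flat (Hh A) Ah := flat_of_algHom_hens Ah χ
  letI : Algebra S (Hh A) := e.toAlgHom.toRingHom.toAlgebra
  haveI : IsScalarTower S (Hh A) Ah := IsScalarTower.of_algebraMap_eq (fun s => by
    change ψ s = ψ (e.symm (e s))
    rw [AlgEquiv.symm_apply_apply])
  haveI : Module.Flat S (Hh A) := by
    have : Module.Flat S S := inferInstance
    exact Module.Flat.of_linearEquiv
      ({ e.toLinearEquiv with
          map_smul' := fun s x => by
            change e (s * x) = e s * e x
            exact map_mul e s x } : S ≃ₗ[S] Hh A).symm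
  haveI : Module.Flat S Ah := Module.Flat.trans S (Hh A) Ah
  haveI : IsLocalHom (algebraMap S Ah) := by
    refine ((local_hom_TFAE (algebraMap S Ah)).out 0 2 rfl rfl).mpr ?_
    rw [← map_maximalIdeal_of_isHenselization A S, Ideal.map_map]
    have h1 : (algebraMap S Ah).comp (algebraMap A S) = algebraMap A Ah := hψ
    rw [h1]
    exact ((local_hom_TFAE (algebraMap A Ah)).out 0 2 rfl rfl).mp inferInstance
  exact Module.FaithfullyFlat.of_flat_of_isLocalHom

theorem s9243 (ψ : S →+* Ah) (hψ : ψ.comp (algebraMap A S) = algebraMap A Ah) :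
    _root_.Brnch.numBranches A = _root_.Brnch.numBranches Ah ↔
      ∀ q ∈ minimalPrimes S, (Ideal.map ψ q).radical.IsPrime := by
  haveI : IsLocalHom (algebraMap Ah Ah) := ⟨fun a ha => ha⟩
  haveI := Groth.Agent.Helper2.HensQFin.isHenselization_self Ah
  rw [← s9237 A S, ← s9237 Ah Ah]
  letI : Algebra S Ah := ψ.toAlgebra
  haveI := faithfullyFlat_of_comp_eq A S ψ hψ
  exact card_eq_iff (R := S) (T := Ah) (minimalPrimes.finite_of_isNoetherianRing Ah)

end main

end Groth.Agent.Helper2.Brnch
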