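import Mathlib
import Groth.Prelude
import Groth.Agent.Helper2.BrSchD
import Groth.Agent.Helper2.BrnchG
import Groth.Agent.Helper1.FlatUnram
import Groth.Agent.Helper1.HensProps

set_option autoImplicit false
set_option linter.style.haveILetI false
set_option linter.unusedSectionVars false
set_option linter.dupNamespace false

namespace Groth.Agent.Helper2.BrSch

universe u

open IsLocalRing Polynomial Groth.Agent.Helper1.Hens Groth.Agent.Helper1

/-- finitely many pairwise distinct minimal primes are separated by a finite set of elements -/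
theorem exists_separating_finset {S : Type*} [CommRing S] (Qs : Finset (Ideal S))
    (hQs : ∀ Q ∈ Qs, Q ∈ minimalPrimes S) :
    ∃ F : Finset S, ∀ Q ∈ Qs, ∀ Q' ∈ Qs, Q ≠ Q' → ∃ t ∈ F, t ∈ Q ∧ t ∉ Q' := by
  classical
  have hex : ∀ x : Ideal S × Ideal S, ∃ t : S, x.1 ∈ Qs → x.2 ∈ Qs → x.1 ≠ x.2 →
      t ∈ x.1 ∧ t ∉ x.2 := by
    rintro ⟨Q, Q'⟩
    by_cases h : Q ∈ Qs ∧ Q' ∈ Qs ∧ Q ≠ Q'
    · obtain ⟨hQ, hQ', hne⟩ := h
      have hnle : ¬ Q ≤ Q' := by
        intro hle
        have := (hQs Q' hQ').2 (hQs Q hQ).1 hle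
        exact hne (le_antisymm hle this)
      obtain ⟨t, ht, ht'⟩ := Set.not_subset.1 hnle
      exact ⟨t, fun _ _ _ => ⟨ht, ht'⟩⟩
    · refine ⟨0, fun h1 h2 h3 => absurd ⟨h1, h2, h3⟩ h⟩
  choose t ht using hex
  refine ⟨(Qs ×ˢ Qs).image t, fun Q hQ Q' hQ' hne => ⟨t (Q, Q'), ?_, ht (Q, Q') hQ hQ' hne⟩⟩
  exact Finset.mem_image_of_mem _ (Finset.mem_product.2 ⟨hQ, hQ'⟩)

section model

variable (R : Type u) [CommRing R] (p : Ideal R) [p.IsPrime] (A : Type u) [CommRing A]
  [Algebra R A] [IsLocalization.AtPrime A p] [IsLocalRing A]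
  (Ω : Type u) [Field Ω] [Algebra A Ω] [IsLocalHom (algebraMap A Ω)]

include p in
theorem exists_model_hens (Qs : Finset (Ideal (Hens A Ω)))
    (hQs : ∀ Q ∈ Qs, Q ∈ minimalPrimes (Hens A Ω)) :
    ∃ (C₀ : Type u) (_ : CommRing C₀) (_ : Algebra R C₀) (_ : Algebra.Etale R C₀)
      (ψ : C₀ →+* Hens A Ω),
      ψ.comp (algebraMap R C₀) = (algebraMap A (Hens A Ω)).comp (algebraMap R A) ∧
      (Qs.card : ℕ∞) ≤ (minimalPrimes (Localization.AtPrime (ptOf ψ))).encard := by
  classical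
  set S := Hens A Ω with hS
  obtain ⟨F, hF⟩ := exists_separating_finset Qs hQs
  -- a stage containing F
  obtain ⟨i, x', hx'⟩ := Hens.exists_of_family (R := A) (Ω := Ω) (fun k : F => (k : S))
  letI : Algebra R S := ((algebraMap A S).comp (algebraMap R A)).toAlgebra
  haveI : IsScalarTower R A S := IsScalarTower.of_algebraMap_eq (fun r => rfl)
  let γ : i.C →ₐ[A] S := (Hens.ofAlg i).comp (IsScalarTower.toAlgHom A i.C i.L)
  have hγ : ∀ c, γ c = Hens.of i (algebraMap i.C i.L c) := fun c => rfl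
  have hFγ : ∀ t ∈ F, ∃ c c' : i.C, IsUnit (γ c') ∧ t * γ c' = γ c := by
    intro t ht
    obtain ⟨c, s, hcs⟩ := IsLocalization.exists_mk'_eq (pt i.γ).primeCompl (x' ⟨t, ht⟩)
    refine ⟨c, s, ?_, ?_⟩
    · rw [hγ]
      exact (IsLocalization.map_units i.L s).map (Hens.of i)
    · have h1 := hx' ⟨t, ht⟩
      rw [hγ, hγ]
      calc t * (Hens.of i) ((algebraMap i.C i.L) ↑s)
          = (Hens.of i) (x' ⟨t, ht⟩) * (Hens.of i) ((algebraMap i.C i.L) ↑s) := by rw [h1]
        _ = (Hens.of i) ((algebraMap i.C i.L) c) := by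
          rw [← map_mul, ← hcs, IsLocalization.mk'_spec]
  obtain ⟨C₀, _, _, _, ψ, hψ⟩ := exists_etale_model R p A S i.C γ F hFγ
  refine ⟨C₀, inferInstance, inferInstance, inferInstance, ψ.toRingHom, ?_, ?_⟩
  · ext r
    exact ψ.commutes r
  -- the local ring
  let L₀ := Localization.AtPrime (ptOf ψ.toRingHom)
  let ψL : L₀ →+* S := locLift ψ.toRingHom
  have hcomm : ∀ r : R, ψL (algebraMap R L₀ r) = algebraMap R S r := by
    intro r
    rw [IsScalarTower.algebraMap_apply R C₀ L₀]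
    show locLift ψ.toRingHom _ = _
    rw [locLift_algebraMap]
    exact ψ.commutes r
  let ψA : L₀ →ₐ[R] S := { ψL with commutes' := hcomm }
  haveI : Algebra.EssFiniteType R L₀ := Algebra.EssFiniteType.comp R C₀ L₀
  haveI : Algebra.FormallyEtale C₀ L₀ :=
    Algebra.FormallyEtale.of_isLocalization (ptOf ψ.toRingHom).primeCompl
  haveI : Algebra.FormallyEtale R L₀ := Algebra.FormallyEtale.comp R C₀ L₀
  haveI : Module.Flat R A := IsLocalization.flat A p.primeCompl
  haveI : Module.Flat R S := Module.Flat.trans R A S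
  letI : Algebra L₀ S := ψA.toRingHom.toAlgebra
  haveI : Module.Flat L₀ S := FlatUnram.flat_of_algHom ψA
  haveI : IsLocalHom (algebraMap L₀ S) := inferInstanceAs (IsLocalHom (locLift ψ.toRingHom))
  haveI : Module.FaithfullyFlat L₀ S := Module.FaithfullyFlat.of_flat_of_isLocalHom
  have h1 : (Ideal.comap (algebraMap L₀ S)) '' (Qs : Set (Ideal S)) ⊆ minimalPrimes L₀ := by
    rintro _ ⟨Q, hQ, rfl⟩
    exact Brnch.comap_mem_minimalPrimes Q (hQs Q hQ)
  have h2 : Set.InjOn (Ideal.comap (algebraMap L₀ S)) (Qs : Set (Ideal S)) := by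
    intro Q hQ Q' hQ' h
    by_contra hne
    obtain ⟨t, htF, ht1, ht2⟩ := hF Q hQ Q' hQ' hne
    obtain ⟨c, c', hc', hcc'⟩ := hψ t htF
    have hmem : t ∈ (locLift ψ.toRingHom).range :=
      (mem_range_locLift_iff ψ.toRingHom t).2 ⟨c, c', hc', hcc'⟩
    obtain ⟨l, hl⟩ := hmem
    have h3 : l ∈ Q.comap (algebraMap L₀ S) := by
      show locLift ψ.toRingHom l ∈ Q
      rw [hl]; exact ht1
    rw [h] at h3
    have h4 : locLift ψ.toRingHom l ∈ Q' := h3
    rw [hl] at h4
    exact ht2 h4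
  calc (Qs.card : ℕ∞) = (Qs : Set (Ideal S)).encard := (Set.encard_coe_eq_coe_finsetCard Qs).symm
    _ = ((Ideal.comap (algebraMap L₀ S)) '' (Qs : Set (Ideal S))).encard := (h2.encard_image).symm
    _ ≤ (minimalPrimes L₀).encard := Set.encard_le_encard h1

end model

end Groth.Agent.Helper2.BrSch
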