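import Mathlib
import Groth.Prelude
import Groth.Agent.Helper2.BrSchA
import Groth.Agent.Helper2.BrnchB
import Groth.Agent.Helper3.QFSch

set_option autoImplicit false
set_option linter.style.haveILetI false
set_option linter.unusedSectionVars false
set_option linter.dupNamespace false

namespace Groth.Agent.Helper2.BrSch

universe u

open IsLocalRing AlgebraicGeometry CategoryTheory

/-- an étale algebra over the sections of an affine open gives an étale neighbourhood -/
theorem exists_etale_nbhd_of_model {X : Scheme.{u}} (x : X) {V : X.Opens} (hV : IsAffineOpen V)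
    (hx : x ∈ V) (C₀ : Type u) [CommRing C₀] [Algebra Γ(X, V) C₀] [Algebra.Etale Γ(X, V) C₀]
    (q₀ : Ideal C₀) [q₀.IsPrime]
    (hq₀ : q₀.comap (algebraMap Γ(X, V) C₀) = (hV.primeIdealOf ⟨x, hx⟩).asIdeal) :
    ∃ (g : Spec (CommRingCat.of C₀) ⟶ X) (u : Spec (CommRingCat.of C₀)),
      g = Spec.map (CommRingCat.ofHom (algebraMap Γ(X, V) C₀)) ≫ hV.fromSpec ∧
      u.asIdeal = q₀ ∧ Etale g ∧ g u = x ∧
      {Z : Set ↑(Spec (CommRingCat.of C₀)) | Z ∈ irreducibleComponents
        ↑(Spec (CommRingCat.of C₀)) ∧ u ∈ Z}.encard =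
        (minimalPrimes (Localization.AtPrime q₀)).encard := by
  haveI := hV.isOpenImmersion_fromSpec
  let φ : Γ(X, V) ⟶ CommRingCat.of C₀ := CommRingCat.ofHom (algebraMap Γ(X, V) C₀)
  haveI : Etale (Spec.map φ) := by
    rw [HasRingHomProperty.Spec_iff (P := @Etale)]
    exact RingHom.etale_algebraMap.2 inferInstance
  let u : Spec (CommRingCat.of C₀) := ⟨q₀, inferInstance⟩
  refine ⟨Spec.map φ ≫ hV.fromSpec, u, rfl, rfl, inferInstance, ?_, ?_⟩
  · have h1 : (Spec.map φ) u = hV.primeIdealOf ⟨x, hx⟩ := PrimeSpectrum.ext hq₀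
    show hV.fromSpec ((Spec.map φ) u) = x
    rw [h1, hV.fromSpec_primeIdealOf]
  · rw [encard_components_eq_minimalPrimes]
    exact (Brnch.encard_minimalPrimes_of_ringEquiv
      (StructureSheaf.stalkIso C₀ u).toRingEquiv).symm

end Groth.Agent.Helper2.BrSch
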