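import Mathlib
import Groth.Prelude
import Groth.Agent.Helper2.BrSchE
import Groth.Agent.Helper2.BrSchF
import Groth.Agent.Helper2.BrnchE
import Groth.Agent.Helper2.BrnchB
import Groth.Agent.Helper1.HensStrict
import Groth.Agent.Helper1.HensIsHens

set_option autoImplicit false
set_option linter.style.haveILetI false
set_option linter.unusedSectionVars false
set_option linter.dupNamespace false

namespace Groth.Agent.Helper2.BrSch

universe u

open IsLocalRing AlgebraicGeometry CategoryTheory Groth.Agent.Helper1.Hens Groth.Agent.Helper1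

theorem exists_finset_of_le_encard {α : Type*} (s : Set α) (n : ℕ) (hn : (n : ℕ∞) ≤ s.encard) :
    ∃ t : Finset α, (∀ a ∈ t, a ∈ s) ∧ t.card = n := by
  obtain ⟨t, hts, ht⟩ := Set.exists_subset_encard_eq hn
  have hfin : t.Finite := Set.finite_of_encard_eq_coe ht
  refine ⟨hfin.toFinset, fun a ha => hts (hfin.mem_toFinset.1 ha), ?_⟩
  have := hfin.encard_eq_coe_toFinset_card
  rw [ht] at this
  exact_mod_cast this.symm

theorem comap_ptOf {R A S C₀ : Type*} [CommRing R] [CommRing A] [IsLocalRing A] [CommRing S]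
    [IsLocalRing S] [CommRing C₀] [Algebra R A] [Algebra A S] [IsLocalHom (algebraMap A S)]
    [Algebra R C₀] (p : Ideal R) [p.IsPrime] [IsLocalization.AtPrime A p] (ψ : C₀ →+* S)
    (hψ : ψ.comp (algebraMap R C₀) = (algebraMap A S).comp (algebraMap R A)) :
    (ptOf ψ).comap (algebraMap R C₀) = p := by
  rw [ptOf, Ideal.comap_comap, hψ, ← Ideal.comap_comap, maximalIdeal_comap]
  exact IsLocalization.AtPrime.under_maximalIdeal A p

theorem exists_nbhd_geom {X : Scheme.{u}} (x : X) (n : ℕ)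
    (hn : (n : ℕ∞) ≤ _root_.Brnch.numGeomBranchesAt X x) :
    ∃ (U : Scheme.{u}) (g : U ⟶ X) (u : U), (Etale g ∧ g u = x) ∧
      (n : ℕ∞) ≤ {Z : Set ↑U | Z ∈ irreducibleComponents ↑U ∧ u ∈ Z}.encard := by
  obtain ⟨_, ⟨V, hV : IsAffineOpen V, rfl⟩, hx, -⟩ :=
    X.isBasis_affineOpens.exists_subset_of_mem_open (Set.mem_univ x) isOpen_univ
  let A := X.presheaf.stalk x
  let R := Γ(X, V)
  letI : Algebra R A := TopCat.Presheaf.algebra_section_stalk X.presheaf ⟨x, hx⟩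
  haveI : IsLocalization.AtPrime A (hV.primeIdealOf ⟨x, hx⟩).asIdeal :=
    hV.isLocalization_stalk ⟨x, hx⟩
  let Ω := SeparableClosure (ResidueField A)
  let S := Hens A Ω
  haveI hS : Hensel.IsStrictHenselization A S := isStrictHenselization
  have h1 : (minimalPrimes S).encard = _root_.Brnch.numGeomBranches A := Brnch.s9238 A S
  have hn' : (n : ℕ∞) ≤ (minimalPrimes S).encard := by rw [h1]; exact hn
  obtain ⟨Qs, hQs, hcard⟩ := exists_finset_of_le_encard _ n hn'
  obtain ⟨C₀, _, _, _, ψ, hψ, hle⟩ :=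
    exists_model_hens R (hV.primeIdealOf ⟨x, hx⟩).asIdeal A Ω Qs hQs
  have hq₀ := comap_ptOf (A := A) (hV.primeIdealOf ⟨x, hx⟩).asIdeal ψ hψ
  obtain ⟨g, u, -, -, hg, hgu, henc⟩ := exists_etale_nbhd_of_model x hV hx C₀ (ptOf ψ) hq₀
  refine ⟨_, g, u, ⟨hg, hgu⟩, ?_⟩
  rw [henc, ← hcard]
  exact hle

theorem exists_nbhd_elem {X : Scheme.{u}} (x : X) (n : ℕ)
    (hn : (n : ℕ∞) ≤ _root_.Brnch.numBranchesAt X x) :
    ∃ (U : Scheme.{u}) (g : U ⟶ X) (u : U), Hens2.IsEtaleNbhd g u x ∧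
      (n : ℕ∞) ≤ {Z : Set ↑U | Z ∈ irreducibleComponents ↑U ∧ u ∈ Z}.encard := by
  obtain ⟨_, ⟨V, hV : IsAffineOpen V, rfl⟩, hx, -⟩ :=
    X.isBasis_affineOpens.exists_subset_of_mem_open (Set.mem_univ x) isOpen_univ
  let A := X.presheaf.stalk x
  let R := Γ(X, V)
  letI : Algebra R A := TopCat.Presheaf.algebra_section_stalk X.presheaf ⟨x, hx⟩
  haveI : IsLocalization.AtPrime A (hV.primeIdealOf ⟨x, hx⟩).asIdeal :=
    hV.isLocalization_stalk ⟨x, hx⟩
  let S := Hh A
  haveI hS : Hensel.IsHenselization A S := isHenselization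
  have h1 : (minimalPrimes S).encard = _root_.Brnch.numBranches A := Brnch.s9237 A S
  have hn' : (n : ℕ∞) ≤ (minimalPrimes S).encard := by rw [h1]; exact hn
  obtain ⟨Qs, hQs, hcard⟩ := exists_finset_of_le_encard _ n hn'
  obtain ⟨C₀, _, _, _, ψ, hψ, hle⟩ :=
    exists_model_hens R (hV.primeIdealOf ⟨x, hx⟩).asIdeal A (ResidueField A) Qs hQs
  have hq₀ := comap_ptOf (A := A) (hV.primeIdealOf ⟨x, hx⟩).asIdeal ψ hψ
  obtain ⟨g, u, hgdef, hu, hg, hgu, henc⟩ := exists_etale_nbhd_of_model x hV hx C₀ (ptOf ψ) hq₀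
  have hψR : ∀ r : R, ψ (algebraMap R C₀ r) = algebraMap A S (algebraMap R A r) :=
    fun r => congr($hψ r)
  have H : ∀ r' : C₀, ∃ a b : R, algebraMap R C₀ b ∉ u.asIdeal ∧
      r' * algebraMap R C₀ b - algebraMap R C₀ a ∈ u.asIdeal := by
    intro c
    obtain ⟨a', ha'⟩ := residue_surjective (Hens.γ (ψ c))
    have hz : ψ c - algebraMap A S a' ∈ maximalIdeal S := by
      rw [← Hens.γ_eq_zero_iff, map_sub, Hens.γ_algebraMap, ← ha']
      exact sub_self _
    obtain ⟨⟨a, b⟩, hab⟩ := IsLocalization.surj (hV.primeIdealOf ⟨x, hx⟩).asIdeal.primeCompl a'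
    refine ⟨a, b, ?_, ?_⟩
    · rw [hu]
      show ¬ (ψ (algebraMap R C₀ b) ∈ maximalIdeal S)
      rw [hψR, mem_maximalIdeal, mem_nonunits_iff, not_not]
      exact (IsLocalization.map_units A b).map _
    · rw [hu]
      show ψ (c * algebraMap R C₀ b - algebraMap R C₀ a) ∈ maximalIdeal S
      rw [map_sub, map_mul, hψR, hψR, ← hab, map_mul, ← sub_mul]
      exact Ideal.mul_mem_right _ _ hz
  have hsurj := Groth.Agent.Helper3.QFSch.residue_g hV C₀ u H
  refine ⟨_, g, u, ⟨hg, hgu, ⟨?_, ?_⟩⟩, ?_⟩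
  · exact (g.residueFieldMap u).hom.injective
  · subst hgdef
    exact hsurj
  · rw [henc, ← hcard]
    exact hle

end Groth.Agent.Helper2.BrSch
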