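import Mathlib
import Groth.Prelude
import Groth.Agent.Helper2.BrSchC
import Groth.Agent.Helper2.BrSchG
import Groth.Agent.S9235
import Groth.Agent.S9236

set_option autoImplicit false
set_option linter.style.haveILetI false
set_option linter.unusedSectionVars false
set_option linter.dupNamespace false

namespace Groth.Agent.Helper2.BrSch

universe u

open IsLocalRing AlgebraicGeometry CategoryTheory

theorem s9753 (X : Scheme.{u}) (x : X) :
    _root_.Brnch.numGeomBranchesAt X x =
      ⨆ (U : Scheme.{u}) (g : U ⟶ X) (u : U) (_ : Etale g ∧ g u = x),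
        {Z : Set ↑U | Z ∈ irreducibleComponents ↑U ∧ u ∈ Z}.encard := by
  apply le_antisymm
  · rw [← ENat.forall_natCast_le_iff_le]
    intro n hn
    obtain ⟨U, g, u, h, hle⟩ := exists_nbhd_geom x n hn
    exact hle.trans (le_iSup_of_le U (le_iSup_of_le g (le_iSup_of_le u (le_iSup_of_le h le_rfl))))
  · refine iSup_le fun U => iSup_le fun g => iSup_le fun u => iSup_le ?_
    rintro ⟨hg, rfl⟩
    exact le_numGeomBranchesAt g u

theorem s9752 (X : Scheme.{u}) (x : X) :
    _root_.Brnch.numBranchesAt X x =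
      ⨆ (U : Scheme.{u}) (g : U ⟶ X) (u : U) (_ : Hens2.IsEtaleNbhd g u x),
        {Z : Set ↑U | Z ∈ irreducibleComponents ↑U ∧ u ∈ Z}.encard := by
  apply le_antisymm
  · rw [← ENat.forall_natCast_le_iff_le]
    intro n hn
    obtain ⟨U, g, u, h, hle⟩ := exists_nbhd_elem x n hn
    exact hle.trans (le_iSup_of_le U (le_iSup_of_le g (le_iSup_of_le u (le_iSup_of_le h le_rfl))))
  · refine iSup_le fun U => iSup_le fun g => iSup_le fun u => iSup_le ?_
    rintro ⟨hg, rfl, hres⟩
    haveI := hg
    exact le_numBranchesAt g u hres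

theorem one_le_encard_components (U : Scheme.{u}) (u : U) :
    1 ≤ {Z : Set ↑U | Z ∈ irreducibleComponents ↑U ∧ u ∈ Z}.encard := by
  rw [encard_components_eq_minimalPrimes, Set.one_le_encard_iff_nonempty]
  obtain ⟨q, hq, -⟩ := Ideal.exists_minimalPrimes_le
    (bot_le : (⊥ : Ideal ↑(U.presheaf.stalk u)) ≤ maximalIdeal _)
  exact ⟨q, hq⟩

theorem isEtaleNbhd_id (X : Scheme.{u}) (x : X) : Hens2.IsEtaleNbhd (𝟙 X) x x := by
  refine ⟨inferInstance, rfl, ?_⟩
  rw [Scheme.residueFieldMap_id]
  exact Function.bijective_id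

theorem s9781 (X : Scheme.{u}) (x : X) :
    CAlg2.IsUnibranch ↑(X.presheaf.stalk x) ↔
      ∀ (U : Scheme.{u}) (g : U ⟶ X) (u : U), Hens2.IsEtaleNbhd g u x →
        {Z : Set ↑U | Z ∈ irreducibleComponents ↑U ∧ u ∈ Z}.encard = 1 := by
  rw [← Groth.Agent.S9235.result]
  have h := s9752 X x
  unfold _root_.Brnch.numBranchesAt at h
  rw [h]
  constructor
  · intro h1 U g u hgu
    apply le_antisymm
    · rw [← h1]
      exact le_iSup_of_le U (le_iSup_of_le g (le_iSup_of_le u (le_iSup_of_le hgu le_rfl)))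
    · exact one_le_encard_components U u
  · intro h1
    apply le_antisymm
    · refine iSup_le fun U => iSup_le fun g => iSup_le fun u => iSup_le fun hgu => ?_
      exact (h1 U g u hgu).le
    · rw [← h1 X (𝟙 X) x (isEtaleNbhd_id X x)]
      exact le_iSup_of_le X (le_iSup_of_le (𝟙 X) (le_iSup_of_le x
        (le_iSup_of_le (isEtaleNbhd_id X x) le_rfl)))

theorem s9782 (X : Scheme.{u}) (x : X) :
    CAlg2.IsGeomUnibranch ↑(X.presheaf.stalk x) ↔
      ∀ (U : Scheme.{u}) (g : U ⟶ X) (u : U), Etale g → g u = x →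
        {Z : Set ↑U | Z ∈ irreducibleComponents ↑U ∧ u ∈ Z}.encard = 1 := by
  rw [← Groth.Agent.S9236.result]
  have h := s9753 X x
  unfold _root_.Brnch.numGeomBranchesAt at h
  rw [h]
  constructor
  · intro h1 U g u hg hgu
    apply le_antisymm
    · rw [← h1]
      exact le_iSup_of_le U (le_iSup_of_le g (le_iSup_of_le u (le_iSup_of_le ⟨hg, hgu⟩ le_rfl)))
    · exact one_le_encard_components U u
  · intro h1
    apply le_antisymm
    · refine iSup_le fun U => iSup_le fun g => iSup_le fun u => iSup_le fun hgu => ?_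
      exact (h1 U g u hgu.1 hgu.2).le
    · rw [← h1 X (𝟙 X) x inferInstance rfl]
      exact le_iSup_of_le X (le_iSup_of_le (𝟙 X) (le_iSup_of_le x
        (le_iSup_of_le ⟨inferInstance, rfl⟩ le_rfl)))

end Groth.Agent.Helper2.BrSch
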