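import Mathlib
import Groth.Prelude.Def_Found
import Groth.Prelude.Def_EGA4b
import Groth.Agent.Helper4.NormalLocal
import Groth.Agent.Helper5.SmNorm5
import Groth.Agent.Helper2.SepAlg
set_option autoImplicit false
universe u
open TensorProduct Polynomial

namespace Groth.Agent.Helper2.NorGen1

open Groth.Agent.Helper4.NormalLocal

section Directed
variable {R : Type u} [CommRing R] {ι : Type*} [Nonempty ι]
    (S : ι → Subring R) (hdir : Directed (· ≤ ·) S) (hcov : ∀ x, ∃ i, x ∈ S i)

include hdir hcov in
theorem exists_index (T : Finset R) : ∃ i, ∀ x ∈ T, x ∈ S i := by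
  classical
  choose idx hidx using hcov
  obtain ⟨z, hz⟩ := hdir.finset_le (T.image idx)
  refine ⟨z, fun x hx => ?_⟩
  exact hz (idx x) (Finset.mem_image_of_mem idx hx) (hidx x)

include hdir hcov in
/-- a directed union of normal subrings is a normal ring -/
theorem isNormalRing_of_directed (h : ∀ i, EGA4.IsNormalRing (S i)) : EGA4.IsNormalRing R := by
  classical
  intro p hp
  have hD : DProp p := by
    rintro a b ⟨u, hu, huab⟩
    obtain ⟨i, hi⟩ := exists_index S hdir hcov {a, b, u}
    have ha : a ∈ S i := hi a (by simp)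
    have hb : b ∈ S i := hi b (by simp)
    have hu' : u ∈ S i := hi u (by simp)
    haveI : (p.comap (S i).subtype).IsPrime := Ideal.comap_isPrime _ _
    obtain ⟨h1, h2⟩ := h i (p.comap (S i).subtype)
    have hDi : DProp (p.comap (S i).subtype) := dProp_of_isDomain _
    rcases hDi ⟨a, ha⟩ ⟨b, hb⟩ ⟨⟨u, hu'⟩, hu, Subtype.ext huab⟩ with ⟨v, hv, hva⟩ | ⟨v, hv, hvb⟩
    · exact Or.inl ⟨v.1, hv, congrArg Subtype.val hva⟩
    · exact Or.inr ⟨v.1, hv, congrArg Subtype.val hvb⟩
  haveI : IsDomain (Localization.AtPrime p) := isDomain_of_dProp p hD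
  refine ⟨inferInstance, isIntegrallyClosed_of_nProp p ?_⟩
  intro a b P hP hb ⟨u, hu, huE⟩
  obtain ⟨i, hi⟩ := exists_index S hdir hcov (insert a (insert b (insert u P.coeffs)))
  have ha : a ∈ S i := hi a (by simp)
  have hb' : b ∈ S i := hi b (by simp)
  have hu' : u ∈ S i := hi u (by simp)
  have hPl : P ∈ Polynomial.lifts (S i).subtype := by
    rw [Polynomial.lifts_iff_coeff_lifts]
    intro n
    by_cases h0 : P.coeff n = 0
    · exact ⟨0, by rw [h0]; rfl⟩
    · exact ⟨⟨P.coeff n, hi _ (by
        simp only [Finset.mem_insert]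
        right; right; right
        exact Polynomial.coeff_mem_coeffs h0)⟩, rfl⟩
  haveI : Nontrivial R :=
    ⟨⟨0, 1, fun h01 => hp.ne_top ((Ideal.eq_top_iff_one p).2 (h01 ▸ p.zero_mem))⟩⟩
  obtain ⟨Q, hQP, -, hQ⟩ := Polynomial.lifts_and_degree_eq_and_monic hPl hP
  haveI : (p.comap (S i).subtype).IsPrime := Ideal.comap_isPrime _ _
  obtain ⟨h1, h2⟩ := h i (p.comap (S i).subtype)
  have hNi : NProp (p.comap (S i).subtype) := nProp_of_isIntegrallyClosed _
  have hev : (S i).subtype ((Q.scaleRoots ⟨b, hb'⟩).eval ⟨a, ha⟩) = (P.scaleRoots b).eval a := by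
    rw [← hQP]
    have h3 : (Q.map (S i).subtype).scaleRoots b = (Q.scaleRoots ⟨b, hb'⟩).map (S i).subtype := by
      rw [Polynomial.map_scaleRoots]
      · rfl
      · rw [hQ.leadingCoeff, map_one]
        exact one_ne_zero
    rw [h3, Polynomial.eval_map]
    exact (Polynomial.eval₂_at_apply (S i).subtype (⟨a, ha⟩ : S i)).symm
  obtain ⟨w, z, hw, hwz⟩ := hNi ⟨a, ha⟩ ⟨b, hb'⟩ Q hQ
    (fun v hv hvb => hb v.1 hv (congrArg Subtype.val hvb))
    ⟨⟨u, hu'⟩, hu, by
      apply Subtype.ext
      show u * ((S i).subtype ((Q.scaleRoots ⟨b, hb'⟩).eval ⟨a, ha⟩)) = 0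
      rw [hev]
      exact huE⟩
  exact ⟨w.1, z.1, hw, congrArg Subtype.val hwz⟩

end Directed

section TensorDirected
variable (k A B : Type u) [Field k] [CommRing A] [CommRing B] [Algebra k A] [Algebra k B]
    {ι : Type*} [Nonempty ι] (T : ι → Subalgebra k B) (hdir : Directed (· ≤ ·) T)
    (hcov : ∀ x, ∃ i, x ∈ T i)

/-- the inclusion `A ⊗ T i → A ⊗ B` -/
noncomputable def incl (i : ι) : A ⊗[k] T i →ₐ[k] A ⊗[k] B :=
  Algebra.TensorProduct.map (AlgHom.id k A) (T i).val

omit [Nonempty ι] in
theorem incl_injective (i : ι) : Function.Injective (incl k A B T i) := by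
  have h : (incl k A B T i : A ⊗[k] T i → A ⊗[k] B) =
      LinearMap.lTensor A (T i).val.toLinearMap := by
    ext x
    induction x using TensorProduct.induction_on with
    | zero => simp
    | tmul a b => rfl
    | add x y hx hy =>
      rw [map_add, map_add, hx, hy]
  rw [h]
  exact Module.Flat.lTensor_preserves_injective_linearMap _ Subtype.val_injective

omit [Nonempty ι] in
theorem incl_range_mono {i j : ι} (hij : T i ≤ T j) :
    (incl k A B T i).toRingHom.range ≤ (incl k A B T j).toRingHom.range := by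
  rintro _ ⟨y, rfl⟩
  refine ⟨Algebra.TensorProduct.map (AlgHom.id k A) (Subalgebra.inclusion hij) y, ?_⟩
  show (incl k A B T j) (Algebra.TensorProduct.map (AlgHom.id k A) (Subalgebra.inclusion hij) y) =
    incl k A B T i y
  induction y using TensorProduct.induction_on with
  | zero => simp
  | tmul a b => rfl
  | add x y hx hy => rw [map_add, map_add, map_add, hx, hy]

include hdir hcov in
/-- `A ⊗ B` is normal when `B` is a directed union of subalgebras `T i` with `A ⊗ T i` normal -/
theorem isNormalRing_tensor_of_directed (h : ∀ i, EGA4.IsNormalRing (A ⊗[k] T i)) :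
    EGA4.IsNormalRing (A ⊗[k] B) := by
  refine isNormalRing_of_directed (fun i => (incl k A B T i).toRingHom.range) ?_ ?_ ?_
  · intro i j
    obtain ⟨l, hil, hjl⟩ := hdir i j
    exact ⟨l, incl_range_mono k A B T hil, incl_range_mono k A B T hjl⟩
  · intro x
    induction x using TensorProduct.induction_on with
    | zero => exact ⟨Classical.arbitrary ι, Subring.zero_mem _⟩
    | tmul a b =>
      obtain ⟨i, hi⟩ := hcov b
      exact ⟨i, a ⊗ₜ ⟨b, hi⟩, rfl⟩
    | add x y hx hy =>
      obtain ⟨i, hi⟩ := hx
      obtain ⟨j, hj⟩ := hy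
      obtain ⟨l, hil, hjl⟩ := hdir i j
      exact ⟨l, Subring.add_mem _ (incl_range_mono k A B T hil hi)
        (incl_range_mono k A B T hjl hj)⟩
  · intro i
    let e : A ⊗[k] T i ≃+* (incl k A B T i).toRingHom.range :=
      RingEquiv.ofBijective (incl k A B T i).toRingHom.rangeRestrict
        ⟨fun x y hxy => incl_injective k A B T i (congrArg Subtype.val hxy),
          RingHom.rangeRestrict_surjective _⟩
    exact Groth.Agent.Helper2.GeomNor.isNormalRing_of_ringEquiv e (h i)

end TensorDirected

/-- normality descends along faithfully flat ring maps -/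
theorem isNormalRing_of_faithfullyFlat (A B : Type u) [CommRing A] [CommRing B] [Algebra A B]
    [Module.FaithfullyFlat A B] (hB : EGA4.IsNormalRing B) : EGA4.IsNormalRing A := by
  intro p hp
  obtain ⟨q, hq, hqp⟩ := Ideal.exists_isPrime_liesOver_of_faithfullyFlat (B := B) p
  obtain ⟨h1, h2⟩ := hB q
  letI := Localization.AtPrime.algebraOfLiesOver p q
  haveI : IsLocalHom (algebraMap (Localization.AtPrime p) (Localization.AtPrime q)) := by
    rw [RingHom.algebraMap_toAlgebra]
    exact Localization.isLocalHom_localRingHom p q (algebraMap A B) Ideal.LiesOver.over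
  haveI : Module.FaithfullyFlat (Localization.AtPrime p) (Localization.AtPrime q) :=
    Module.FaithfullyFlat.of_flat_of_isLocalHom
  exact Groth.Agent.Helper5.SmNorm.normal_descent (Localization.AtPrime p) (Localization.AtPrime q)

/-- base change of a normal ring along a smooth algebra is normal -/
theorem isNormalRing_tensor_of_smooth (k C N : Type u) [CommRing k] [CommRing C] [CommRing N]
    [Algebra k C] [Algebra k N] [Algebra.Smooth k C] (hN : EGA4.IsNormalRing N) :
    EGA4.IsNormalRing (C ⊗[k] N) := by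
  have h1 : EGA4.IsNormalRing (N ⊗[k] C) :=
    (Groth.Agent.Helper5.SmNorm.s1182 N (N ⊗[k] C)).1 hN
  exact Groth.Agent.Helper2.GeomNor.isNormalRing_of_ringEquiv
    (Algebra.TensorProduct.comm k N C).toRingEquiv h1

section FieldStep
variable (k K₁ N : Type u) [Field k] [Field K₁] [Algebra k K₁] [Algebra.EssFiniteType k K₁]
    [Algebra.FormallySmooth k K₁] [CommRing N] [Algebra k N]

/-- `K₁ ⊗_k N` is normal for a finitely generated separable field extension `K₁/k` and a normal
`k`-algebra `N` (no finiteness assumption on `N`). -/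
theorem isNormalRing_tensor_of_field (hN : EGA4.IsNormalRing N) :
    EGA4.IsNormalRing (K₁ ⊗[k] N) := by
  classical
  let C := Algebra.EssFiniteType.subalgebra k K₁
  let M := Algebra.EssFiniteType.submonoid k K₁
  haveI : IsLocalization M K₁ := Algebra.EssFiniteType.isLocalization k K₁
  haveI : Algebra.FinitePresentation k C := Algebra.FinitePresentation.of_finiteType.mp inferInstance
  -- `M` is the complement of `⊥`
  have hM : M = (⊥ : Ideal C).primeCompl := by
    ext x
    show IsUnit (algebraMap C K₁ x) ↔ x ∉ (⊥ : Ideal C)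
    rw [Ideal.mem_bot, isUnit_iff_ne_zero]
    exact not_congr (by
      constructor
      · intro h
        exact Subtype.ext h
      · intro h
        rw [h]; rfl)
  haveI : IsLocalization.AtPrime K₁ (⊥ : Ideal C) := by
    show IsLocalization (⊥ : Ideal C).primeCompl K₁
    rw [← hM]
    infer_instance
  let e : Localization.AtPrime (⊥ : Ideal C) ≃ₐ[C] K₁ :=
    IsLocalization.algEquiv (⊥ : Ideal C).primeCompl _ _
  haveI : Algebra.FormallySmooth k (Localization.AtPrime (⊥ : Ideal C)) :=
    Algebra.FormallySmooth.of_equiv (e.symm.restrictScalars k)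
  obtain ⟨f, hf, hsm⟩ := Algebra.IsSmoothAt.exists_notMem_smooth k (⊥ : Ideal C)
  have hf0 : f ≠ 0 := fun h => hf (by rw [h]; exact Ideal.zero_mem _)
  have hfM : f ∈ M := by rw [hM]; exact hf
  have hfu : IsUnit (algebraMap C K₁ f) := hfM
  letI : Algebra (Localization.Away f) K₁ := (IsLocalization.Away.lift f hfu).toAlgebra
  haveI : IsScalarTower C (Localization.Away f) K₁ :=
    IsScalarTower.of_algebraMap_eq fun x => (IsLocalization.Away.lift_eq f hfu x).symm
  haveI : IsScalarTower k (Localization.Away f) K₁ := IsScalarTower.of_algebraMap_eq fun x => by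
    rw [IsScalarTower.algebraMap_apply k C (Localization.Away f),
      ← IsScalarTower.algebraMap_apply C (Localization.Away f) K₁,
      ← IsScalarTower.algebraMap_apply k C K₁]
  have hle : Submonoid.powers f ≤ M := by
    rintro _ ⟨n, rfl⟩
    exact M.pow_mem hfM n
  haveI : IsLocalization (M.map (algebraMap C (Localization.Away f))) K₁ :=
    IsLocalization.isLocalization_of_submonoid_le (Localization.Away f) K₁ (Submonoid.powers f) M hle
  have h1 : EGA4.IsNormalRing (Localization.Away f ⊗[k] N) :=
    isNormalRing_tensor_of_smooth k (Localization.Away f) N hN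
  have h2 : EGA4.IsNormalRing ((Localization.Away f ⊗[k] N) ⊗[Localization.Away f] K₁) :=
    Groth.Agent.Helper2.SepAlg.isNormalRing_of_isLocalization
      (Algebra.algebraMapSubmonoid (Localization.Away f ⊗[k] N)
        (M.map (algebraMap C (Localization.Away f)))) _ h1
  let e1 : (Localization.Away f ⊗[k] N) ⊗[Localization.Away f] K₁ ≃+*
      K₁ ⊗[Localization.Away f] (Localization.Away f ⊗[k] N) :=
    (Algebra.TensorProduct.comm (Localization.Away f) _ _).toRingEquiv
  let e2 : K₁ ⊗[Localization.Away f] (Localization.Away f ⊗[k] N) ≃+* K₁ ⊗[k] N :=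
    (Algebra.TensorProduct.cancelBaseChange k (Localization.Away f) K₁ K₁ N).toRingEquiv
  exact Groth.Agent.Helper2.GeomNor.isNormalRing_of_ringEquiv (e1.trans e2) h2

end FieldStep

end Groth.Agent.Helper2.NorGen1
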