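import Mathlib
import Groth.Prelude.Def_Found
import Groth.Prelude.Def_EGA4b
import Groth.Agent.Helper2.NorGen1
import Groth.Agent.Helper2.LemmaF
set_option autoImplicit false
universe u
open TensorProduct

namespace Groth.Agent.Helper2.NorGen2

open Groth.Agent.Helper2.NorGen1 Groth.Agent.Helper2.GeomNor

section N
variable (k S : Type u) [Field k] [CommRing S] [Algebra k S]

/-- Normality after finite purely inseparable extensions gives normality after all finitely
generated field extensions; no Noetherian hypothesis. -/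
theorem normal_of_pi_essFT
    (hb : ∀ (k' : Type u) [Field k'] [Algebra k k'], Module.Finite k k' → IsPurelyInseparable k k' →
      EGA4.IsNormalRing (k' ⊗[k] S))
    (K : Type u) [Field K] [Algebra k K] [Algebra.EssFiniteType k K] :
    EGA4.IsNormalRing (K ⊗[k] S) := by
  obtain ⟨k₁, K₁, _, _, _, _, _, _, _, _, hfin, hpi, hess, hsm⟩ :=
    Groth.Agent.Helper2.LemmaF.exists_fields k K
  have hR₁ : EGA4.IsNormalRing (k₁ ⊗[k] S) := hb k₁ hfin hpi
  haveI := hess
  haveI := hsm
  have hR₂ : EGA4.IsNormalRing (K₁ ⊗[k₁] (k₁ ⊗[k] S)) :=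
    isNormalRing_tensor_of_field k₁ K₁ (k₁ ⊗[k] S) hR₁
  let e2 : K₁ ⊗[k₁] (k₁ ⊗[k] S) ≃+* K₁ ⊗[k] S :=
    (Algebra.TensorProduct.cancelBaseChange k k₁ K₁ K₁ S).toRingEquiv
  let e3 : K₁ ⊗[K] (K ⊗[k] S) ≃+* K₁ ⊗[k] S :=
    (Algebra.TensorProduct.cancelBaseChange k K K₁ K₁ S).toRingEquiv
  let e4 : (K ⊗[k] S) ⊗[K] K₁ ≃+* K₁ ⊗[K] (K ⊗[k] S) :=
    (Algebra.TensorProduct.comm K (K ⊗[k] S) K₁).toRingEquiv
  have h3 : EGA4.IsNormalRing ((K ⊗[k] S) ⊗[K] K₁) :=
    isNormalRing_of_ringEquiv (e2.trans (e3.symm.trans e4.symm)) hR₂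
  exact isNormalRing_of_faithfullyFlat (K ⊗[k] S) ((K ⊗[k] S) ⊗[K] K₁) h3

/-- Normality after finite purely inseparable extensions gives normality after all field
extensions. -/
theorem normal_of_pi
    (hb : ∀ (k' : Type u) [Field k'] [Algebra k k'], Module.Finite k k' → IsPurelyInseparable k k' →
      EGA4.IsNormalRing (k' ⊗[k] S))
    (K : Type u) [Field K] [Algebra k K] : EGA4.IsNormalRing (K ⊗[k] S) := by
  classical
  have h1 : EGA4.IsNormalRing (S ⊗[k] K) := by
    refine isNormalRing_tensor_of_directed k S K (ι := Finset K)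
      (fun s => (IntermediateField.adjoin k (s : Set K)).toSubalgebra) ?_ ?_ ?_
    · intro s t
      refine ⟨s ∪ t, ?_, ?_⟩
      · exact IntermediateField.adjoin.mono k _ _ (by
          intro x hx
          simp only [Finset.coe_union]
          exact Or.inl hx)
      · exact IntermediateField.adjoin.mono k _ _ (by
          intro x hx
          simp only [Finset.coe_union]
          exact Or.inr hx)
    · intro x
      exact ⟨{x}, IntermediateField.subset_adjoin k _ (by simp)⟩
    · intro s
      haveI : Algebra.EssFiniteType k (IntermediateField.adjoin k (s : Set K)) :=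
        IntermediateField.essFiniteType_iff.mpr (IntermediateField.fg_adjoin_finset s)
      have h2 := normal_of_pi_essFT k S hb (IntermediateField.adjoin k (s : Set K))
      exact isNormalRing_of_ringEquiv
        (Algebra.TensorProduct.comm k (IntermediateField.adjoin k (s : Set K)) S).toRingEquiv h2
  exact isNormalRing_of_ringEquiv (Algebra.TensorProduct.comm k S K).toRingEquiv h1

/-- geometric normality (finite extensions) gives normality after all field extensions -/
theorem normal_of_isGeomNormal (h : EGA4.IsGeomNormal k S)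
    (K : Type u) [Field K] [Algebra k K] : EGA4.IsNormalRing (K ⊗[k] S) :=
  normal_of_pi k S (fun k' _ _ hfin _ => h k' hfin) K

end N

end Groth.Agent.Helper2.NorGen2
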