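import Mathlib
import Groth.Prelude
import Groth.Agent.Helper2.BrnchD

/-!
# For a separably closed residue field, geometric branches are branches
-/

set_option autoImplicit false
set_option linter.style.haveILetI false
set_option linter.unusedSectionVars false
universe u

namespace Groth.Agent.Helper2.Brnch

open IsLocalRing

variable (A : Type u) [CommRing A] [IsLocalRing A] [IsSepClosed (ResidueField A)]

theorem ker_toClosure' : RingHom.ker (_root_.Brnch.toClosure A) = maximalIdeal A := by
  unfold _root_.Brnch.toClosure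
  rw [RingHom.ker_comp_of_injective _ (RingHom.injective _), IsLocalRing.ker_residue]

theorem toResidue_eq (m' : MaximalSpectrum (CAlg2.normRed A)) :
    _root_.Brnch.toResidue A m' =
      (Ideal.Quotient.mk m'.asIdeal).comp (algebraMap A (CAlg2.normRed A)) := rfl

theorem nonempty_unique_emb (m' : MaximalSpectrum (CAlg2.normRed A)) :
    Nonempty (Unique (_root_.Brnch.Emb A m')) := by
  haveI := m'.isMaximal
  obtain ⟨u, hu, huA⟩ := exists_extension (S := A) (T := CAlg2.normRed A)
    (L := AlgebraicClosure (ResidueField A)) (_root_.Brnch.toClosure A)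
    (ker_toClosure' A) m'.asIdeal
  let σ₀ : CAlg2.normRed A ⧸ m'.asIdeal →+* AlgebraicClosure (ResidueField A) :=
    Ideal.Quotient.lift m'.asIdeal u (fun a ha => by rw [← hu] at ha; exact ha)
  have hσ₀ : σ₀.comp (_root_.Brnch.toResidue A m') = _root_.Brnch.toClosure A := by
    rw [toResidue_eq, ← RingHom.comp_assoc]
    have : σ₀.comp (Ideal.Quotient.mk m'.asIdeal) = u := Ideal.Quotient.lift_comp_mk _ _ _
    rw [this, huA]
  refine ⟨⟨⟨⟨σ₀, hσ₀⟩⟩, ?_⟩⟩
  rintro ⟨σ, hσ⟩
  apply Subtype.ext
  show σ = σ₀
  have hker : ∀ τ : CAlg2.normRed A ⧸ m'.asIdeal →+* AlgebraicClosure (ResidueField A),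
      RingHom.ker (τ.comp (Ideal.Quotient.mk m'.asIdeal)) = m'.asIdeal := by
    intro τ
    letI : Field (CAlg2.normRed A ⧸ m'.asIdeal) := Ideal.Quotient.field _
    ext a
    rw [RingHom.mem_ker, RingHom.comp_apply, map_eq_zero, Ideal.Quotient.eq_zero_iff_mem]
  have h1 : σ.comp (Ideal.Quotient.mk m'.asIdeal) = σ₀.comp (Ideal.Quotient.mk m'.asIdeal) := by
    apply eq_of_ker_eq (S := A) (T := CAlg2.normRed A)
    · rw [RingHom.comp_assoc, RingHom.comp_assoc, ← toResidue_eq, hσ, hσ₀]
    · rw [RingHom.comp_assoc, ← toResidue_eq, hσ]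
      exact ker_toClosure' A
    · rw [hker σ, hker σ₀]
  exact (RingHom.cancel_right Ideal.Quotient.mk_surjective).mp h1

theorem numGeomBranches_eq_numBranches :
    _root_.Brnch.numGeomBranches A = _root_.Brnch.numBranches A := by
  classical
  unfold _root_.Brnch.numGeomBranches _root_.Brnch.numBranches
  by_cases hfin : (minimalPrimes A).Finite
  · rw [if_pos hfin, if_pos hfin]
    haveI : ∀ m' : MaximalSpectrum (CAlg2.normRed A), Unique (_root_.Brnch.Emb A m') :=
      fun m' => (nonempty_unique_emb A m').some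
    exact ENat.card_congr (Equiv.sigmaUnique _ _)
  · rw [if_neg hfin, if_neg hfin]

end Groth.Agent.Helper2.Brnch
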