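import Mathlib
import Groth.Prelude
import Groth.Agent.Helper2.C2Flat1
import Groth.Agent.Helper5.AssHt

set_option autoImplicit false
set_option linter.unusedSectionVars false
set_option linter.style.haveILetI false
universe u

open Submodule Pointwise IsLocalRing

namespace Groth.Agent.Helper2.C2Flat

section regpair

variable (A' : Type u) [CommRing A'] [IsDomain A'] [IsNoetherianRing A'] [IsLocalRing A']
  [IsIntegrallyClosed A']

/-- a normal Noetherian local domain of dimension at least two has a regular sequence of length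
two in its maximal ideal -/
theorem exists_regular_pair (hdim : (2 : WithBot ℕ∞) ≤ ringKrullDim A') :
    ∃ x y : A', x ∈ maximalIdeal A' ∧ y ∈ maximalIdeal A' ∧
      RingTheory.Sequence.IsWeaklyRegular A' [x, y] := by
  classical
  -- a nonzero element of the maximal ideal
  have hnf : maximalIdeal A' ≠ ⊥ := by
    intro hbot
    have hfield : IsField A' := IsLocalRing.isField_iff_maximalIdeal_eq.2 hbot
    have h0 : ringKrullDim A' = 0 := by
      letI := hfield.toField
      exact ringKrullDim_eq_zero_of_field A'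
    rw [h0] at hdim
    exact absurd hdim (by decide)
  obtain ⟨x, hxm, hx0⟩ := Submodule.exists_mem_ne_zero_of_ne_bot hnf
  have hxreg : IsSMulRegular A' x := by
    intro a b hab
    exact mul_left_cancel₀ hx0 hab
  -- the module A'/xA'
  have hxtop : (x • (⊤ : Submodule A' A')) = Ideal.span {x} := by
    ext m
    rw [Submodule.mem_smul_pointwise_iff_exists, Ideal.mem_span_singleton']
    constructor
    · rintro ⟨n, -, rfl⟩; exact ⟨n, by rw [smul_eq_mul, mul_comm]⟩
    · rintro ⟨n, rfl⟩; exact ⟨n, Submodule.mem_top, by rw [smul_eq_mul, mul_comm]⟩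
  let e : QuotSMulTop x A' ≃ₗ[A'] (A' ⧸ Ideal.span {x}) := Submodule.quotEquivOfEq _ _ hxtop
  have hass : associatedPrimes A' (QuotSMulTop x A') = associatedPrimes A' (A' ⧸ Ideal.span {x}) :=
    LinearEquiv.AssociatedPrimes.eq e
  haveI : Module.Finite A' (QuotSMulTop x A') := inferInstance
  have hfin : (associatedPrimes A' (QuotSMulTop x A')).Finite := associatedPrimes.finite A' _
  have hht : ∀ P ∈ associatedPrimes A' (QuotSMulTop x A'), P.height = 1 := by
    intro P hP
    rw [hass] at hP
    exact Groth.Agent.Helper5.AssHt.main A' x hx0 P hP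
  have hmht : (maximalIdeal A').height = ringKrullDim A' :=
    IsLocalRing.maximalIdeal_height_eq_ringKrullDim
  -- prime avoidance
  have hnot : ¬ ((maximalIdeal A' : Set A') ⊆ ⋃ P ∈ (hfin.toFinset : Set (Ideal A')), (P : Set A')) := by
    intro hsub
    rw [Ideal.subset_union_prime (f := fun P : Ideal A' => P) ⊥ ⊥] at hsub
    · obtain ⟨P, hP, hle⟩ := hsub
      rw [Set.Finite.mem_toFinset] at hP
      haveI : P.IsPrime := hP.isPrime
      have hPm : P = maximalIdeal A' :=
        ((IsLocalRing.maximalIdeal.isMaximal A').eq_of_le (Ideal.IsPrime.ne_top ‹_›) hle).symm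
      have h1 := hht P hP
      rw [hPm] at h1
      rw [← hmht, h1] at hdim
      exact absurd hdim (by decide)
    · intro P hP _ _
      rw [Set.Finite.mem_toFinset] at hP
      exact hP.isPrime
  obtain ⟨y, hym, hy⟩ := Set.not_subset.1 hnot
  refine ⟨x, y, hxm, hym, ?_⟩
  rw [RingTheory.Sequence.isWeaklyRegular_cons_iff, RingTheory.Sequence.isWeaklyRegular_cons_iff]
  refine ⟨hxreg, ?_, RingTheory.Sequence.IsWeaklyRegular.nil _ _⟩
  -- y is a nonzerodivisor on A'/xA'
  rw [isSMulRegular_iff_right_eq_zero_of_smul]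
  intro m hm
  by_contra hm0
  apply hy
  have h1 : y ∈ {r : A' | ∃ z : QuotSMulTop x A', z ≠ 0 ∧ r • z = 0} := ⟨m, hm0, hm⟩
  rw [← biUnion_associatedPrimes_eq_zero_divisors] at h1
  obtain ⟨P, hP, hyP⟩ := Set.mem_iUnion₂.1 h1
  exact Set.mem_biUnion (by simpa using hP) hyP

end regpair

end Groth.Agent.Helper2.C2Flat
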