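import Mathlib
import Groth.Prelude
import Groth.Agent.Helper2.C2Flat2
import Groth.Agent.Helper5.IntegralDim

set_option autoImplicit false
set_option linter.unusedSectionVars false
set_option linter.style.haveILetI false
universe u

open Submodule Pointwise IsLocalRing TensorProduct

namespace Groth.Agent.Helper2.C2Flat

section core

variable (A B A' : Type u) [CommRing A] [CommRing B] [CommRing A'] [IsNoetherianRing A]
  [IsNoetherianRing B] [IsLocalRing A] [IsLocalRing B] [Algebra A B] [IsLocalHom (algebraMap A B)]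
  [Module.Flat A B] [IsDomain A'] [IsNoetherianRing A'] [IsLocalRing A'] [IsIntegrallyClosed A']
  [Algebra A A'] [Module.Finite A A']

attribute [local instance] Algebra.TensorProduct.rightAlgebra

theorem ker_le (Q : Ideal B) [Q.IsPrime]
    (hQq : Q.comap (algebraMap A B) = RingHom.ker (algebraMap A A')) :
    RingHom.ker (algebraMap B (B ⊗[A] A')) ≤ Q := by
  intro b hb
  rw [RingHom.mem_ker, Algebra.TensorProduct.algebraMap_apply, Algebra.algebraMap_self,
    RingHom.id_apply] at hb
  set q := RingHom.ker (algebraMap A A') with hq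
  have hqle : q ≤ LinearMap.ker (Algebra.linearMap A A') := by
    intro a ha
    rw [LinearMap.mem_ker, Algebra.linearMap_apply]
    exact ha
  let f : (A ⧸ q) →ₗ[A] A' := Submodule.liftQ q (Algebra.linearMap A A') hqle
  have hf : Function.Injective f := by
    rw [← LinearMap.ker_eq_bot]
    apply Submodule.ker_liftQ_eq_bot
    intro a ha
    rw [LinearMap.mem_ker, Algebra.linearMap_apply] at ha
    exact ha
  have hinj := Module.Flat.lTensor_preserves_injective_linearMap (M := B) f hf
  have h1 : (f.lTensor B) (b ⊗ₜ[A] (Ideal.Quotient.mk q 1)) = 0 := by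
    rw [LinearMap.lTensor_tmul]
    have : f (Ideal.Quotient.mk q 1) = 1 := by
      change f (Submodule.Quotient.mk 1) = 1
      rw [Submodule.liftQ_apply, Algebra.linearMap_apply, map_one]
    rw [this, hb]
  have h2 : b ⊗ₜ[A] (Ideal.Quotient.mk q (1 : A)) = 0 := hinj (by rw [h1, map_zero])
  have h3 := congrArg (TensorProduct.tensorQuotEquivQuotSMul B q) h2
  rw [TensorProduct.tensorQuotEquivQuotSMul_tmul_mk, one_smul, map_zero,
    Submodule.Quotient.mk_eq_zero] at h3
  have hle : q • (⊤ : Submodule A B) ≤ Q.restrictScalars A := by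
    rw [Submodule.smul_le]
    intro a ha b' _
    change a • b' ∈ Q
    rw [Algebra.smul_def]
    apply Q.mul_mem_right
    have : a ∈ Q.comap (algebraMap A B) := by rw [hQq]; exact ha
    exact this
  exact hle h3

theorem two_le_dim_of_normal (hdim : (2 : WithBot ℕ∞) ≤ ringKrullDim A') (Q : Ideal B)
    (hQ : Q ∈ minimalPrimes B)
    (hQq : Q.comap (algebraMap A B) = RingHom.ker (algebraMap A A')) :
    (2 : WithBot ℕ∞) ≤ ringKrullDim (B ⧸ Q) := by
  classical
  haveI : Q.IsPrime := hQ.1.1
  obtain ⟨x, y, hxm, hym, hreg⟩ := exists_regular_pair A' hdim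
  -- flatness of `B ⊗ A'` over `A'`
  let e0 : A' ⊗[A] B ≃ₐ[A] B ⊗[A] A' := Algebra.TensorProduct.comm A A' B
  let e : A' ⊗[A] B ≃ₗ[A'] B ⊗[A] A' :=
    { e0.toLinearEquiv with
      map_smul' := fun a' z => by
        change e0 (a' • z) = a' • e0 z
        rw [Algebra.smul_def, Algebra.smul_def, map_mul]
        congr 1 }
  haveI hflat : Module.Flat A' (B ⊗[A] A') := Module.Flat.of_linearEquiv e.symm
  haveI : IsNoetherianRing (B ⊗[A] A') := IsNoetherianRing.of_finite B _
  have hreg' := hreg.of_flat (S := B ⊗[A] A')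
  -- Jacobson radical
  have hsq : (algebraMap A' (B ⊗[A] A')).comp (algebraMap A A') =
      (algebraMap B (B ⊗[A] A')).comp (algebraMap A B) := by
    ext a
    simp only [RingHom.comp_apply, Algebra.TensorProduct.right_algebraMap_apply,
      Algebra.TensorProduct.algebraMap_apply, Algebra.algebraMap_self, RingHom.id_apply]
    rw [Algebra.algebraMap_eq_smul_one, Algebra.algebraMap_eq_smul_one, TensorProduct.tmul_smul,
      TensorProduct.smul_tmul']
  have hjac : ∀ z ∈ maximalIdeal A',
      algebraMap A' (B ⊗[A] A') z ∈ Ideal.jacobson (⊥ : Ideal (B ⊗[A] A')) := by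
    intro z hz
    rw [Ideal.jacobson, Ideal.mem_sInf]
    rintro M ⟨-, hM⟩
    haveI := hM
    have h1 : (M.comap (algebraMap B (B ⊗[A] A'))).IsMaximal :=
      Ideal.isMaximal_comap_of_isIntegral_of_isMaximal M
    have h2 : M.comap (algebraMap B (B ⊗[A] A')) = maximalIdeal B := IsLocalRing.eq_maximalIdeal h1
    have h3 : (M.comap (algebraMap A' (B ⊗[A] A'))).comap (algebraMap A A') = maximalIdeal A := by
      rw [Ideal.comap_comap, hsq, ← Ideal.comap_comap, h2]
      exact ((local_hom_TFAE (algebraMap A B)).out 0 4).1 ‹IsLocalHom (algebraMap A B)›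
    haveI : (M.comap (algebraMap A' (B ⊗[A] A'))).IsPrime := Ideal.comap_isPrime _ _
    have h4 : (M.comap (algebraMap A' (B ⊗[A] A'))).IsMaximal := by
      apply Ideal.isMaximal_of_isIntegral_of_isMaximal_comap (R := A)
      rw [h3]
      infer_instance
    have h5 := IsLocalRing.eq_maximalIdeal h4
    have : z ∈ M.comap (algebraMap A' (B ⊗[A] A')) := h5 ▸ hz
    exact this
  -- a minimal prime over `Q`
  have hker := ker_le A B A' Q hQq
  obtain ⟨Q'', -, hQ''p, hQ''c⟩ :=
    Ideal.exists_ideal_over_prime_of_isIntegral (S := B ⊗[A] A') Q ⊥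
      (by rw [← RingHom.ker_eq_comap_bot]; exact hker)
  obtain ⟨Q', hQ'min, hQ'le⟩ := Ideal.exists_minimalPrimes_le (show (⊥ : Ideal (B ⊗[A] A')) ≤ Q'' from bot_le)
  haveI : Q'.IsPrime := hQ'min.1.1
  have hQ'c : Q'.comap (algebraMap B (B ⊗[A] A')) = Q := by
    have hle : Q'.comap (algebraMap B (B ⊗[A] A')) ≤ Q := hQ''c ▸ Ideal.comap_mono hQ'le
    exact le_antisymm hle (hQ.2 ⟨Ideal.comap_isPrime _ _, bot_le⟩ hle)
  have hQ'ass : Q' ∈ associatedPrimes (B ⊗[A] A') (B ⊗[A] A') := by
    apply Module.associatedPrimes.minimalPrimes_annihilator_subset_associatedPrimes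
    have : Module.annihilator (B ⊗[A] A') (B ⊗[A] A') = ⊥ := Module.annihilator_eq_bot.2 inferInstance
    rw [this]
    exact hQ'min
  obtain ⟨P₁, P₂, hP₁, hP₂, h1, h2⟩ := exists_chain (B ⊗[A] A') _ _ (hjac x hxm) (hjac y hym)
    (by simpa using hreg') Q' hQ'ass
  haveI := hP₁
  haveI := hP₂
  have h1' := Ideal.IsIntegral.comap_lt_comap (R := B) h1
  have h2' := Ideal.IsIntegral.comap_lt_comap (R := B) h2
  rw [hQ'c] at h1'
  exact two_le_dim_quotient B Q _ _ h1' h2'

end core

end Groth.Agent.Helper2.C2Flat
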