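import Mathlib
set_option autoImplicit false

noncomputable section

namespace Groth.Agent.Helper2.ComplEquiv

open AdicCompletion

section Factor

variable {R : Type*} [CommRing R] (I : Ideal R)

theorem factor_evalₐ {m n : ℕ} (hmn : m ≤ n) (x : AdicCompletion I R) :
    Ideal.Quotient.factor (Ideal.pow_le_pow_right hmn) (evalₐ I n x) = evalₐ I m x := by
  obtain ⟨a, rfl⟩ := AdicCompletion.mk_surjective I R x
  rw [evalₐ_mk, evalₐ_mk]
  rw [Ideal.Quotient.factor_mk, Ideal.Quotient.eq]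
  have := a.property hmn
  rw [SModEq.sub_mem, smul_eq_mul, Ideal.mul_top] at this
  have h2 := (I ^ m).neg_mem this
  rwa [neg_sub] at h2

end Factor

variable {A B D : Type*} [CommRing A] [CommRing B] [CommRing D] [Algebra A B] [Algebra A D]
  (f : B →ₐ[A] D) (KB : Ideal B) (KD : Ideal D)
  (hle : ∀ n, KB ^ n ≤ (KD ^ n).comap f)
  (hinj : ∀ n b, f b ∈ KD ^ n → b ∈ KB ^ n) (hsurj : ∀ n d, ∃ b, d - f b ∈ KD ^ n)

/-- the induced maps on truncations -/
def qn (n : ℕ) : B ⧸ KB ^ n →ₐ[A] D ⧸ KD ^ n := Ideal.quotientMapₐ (KD ^ n) f (hle n)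

theorem qn_mk (n : ℕ) (b : B) :
    qn f KB KD hle n (Ideal.Quotient.mk _ b) = Ideal.Quotient.mk _ (f b) := rfl

include hinj hsurj in
theorem qn_bijective (n : ℕ) : Function.Bijective (qn f KB KD hle n) := by
  constructor
  · rw [injective_iff_map_eq_zero]
    intro x hx
    obtain ⟨b, rfl⟩ := Ideal.Quotient.mk_surjective x
    rw [qn_mk, Ideal.Quotient.eq_zero_iff_mem] at hx
    exact Ideal.Quotient.eq_zero_iff_mem.mpr (hinj n b hx)
  · intro y
    obtain ⟨d, rfl⟩ := Ideal.Quotient.mk_surjective y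
    obtain ⟨b, hb⟩ := hsurj n d
    exact ⟨Ideal.Quotient.mk _ b, by rw [qn_mk, eq_comm, Ideal.Quotient.eq]; exact hb⟩

/-- the induced isomorphisms on truncations -/
def en (n : ℕ) : (B ⧸ KB ^ n) ≃ₐ[A] (D ⧸ KD ^ n) :=
  AlgEquiv.ofBijective (qn f KB KD hle n) (qn_bijective f KB KD hle hinj hsurj n)

theorem en_apply (n : ℕ) (x : B ⧸ KB ^ n) :
    en f KB KD hle hinj hsurj n x = qn f KB KD hle n x := rfl

theorem qn_factor {m n : ℕ} (hmn : m ≤ n) (x : B ⧸ KB ^ n) :
    Ideal.Quotient.factor (Ideal.pow_le_pow_right hmn) (qn f KB KD hle n x) =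
      qn f KB KD hle m (Ideal.Quotient.factor (Ideal.pow_le_pow_right hmn) x) := by
  obtain ⟨b, rfl⟩ := Ideal.Quotient.mk_surjective x
  rfl

/-- the family defining the forward map -/
def ΦF (n : ℕ) : AdicCompletion KB B →ₐ[A] D ⧸ KD ^ n :=
  (qn f KB KD hle n).comp ((evalₐ KB n).restrictScalars A)

theorem ΦF_compat {m n : ℕ} (hmn : m ≤ n) :
    (Ideal.Quotient.factorₐ A (Ideal.pow_le_pow_right hmn)).comp (ΦF f KB KD hle n) =
      ΦF f KB KD hle m := by
  refine AlgHom.ext fun x => ?_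
  show Ideal.Quotient.factor (Ideal.pow_le_pow_right hmn) (qn f KB KD hle n (evalₐ KB n x)) =
    qn f KB KD hle m (evalₐ KB m x)
  rw [qn_factor f KB KD hle hmn, factor_evalₐ KB hmn]

/-- the forward map -/
def Φ : AdicCompletion KB B →ₐ[A] AdicCompletion KD D :=
  AdicCompletion.liftAlgHom KD (ΦF f KB KD hle) (fun hmn => ΦF_compat f KB KD hle hmn)

theorem evalₐ_Φ (n : ℕ) (x : AdicCompletion KB B) :
    evalₐ KD n (Φ f KB KD hle x) = qn f KB KD hle n (evalₐ KB n x) :=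
  evalₐ_liftAlgHom KD (ΦF f KB KD hle) (fun hmn => ΦF_compat f KB KD hle hmn) n x

/-- the family defining the backward map -/
def ΨF (n : ℕ) : AdicCompletion KD D →ₐ[A] B ⧸ KB ^ n :=
  ((en f KB KD hle hinj hsurj n).symm : (D ⧸ KD ^ n) →ₐ[A] (B ⧸ KB ^ n)).comp
      ((evalₐ KD n).restrictScalars A)

theorem ΨF_compat {m n : ℕ} (hmn : m ≤ n) :
    (Ideal.Quotient.factorₐ A (Ideal.pow_le_pow_right hmn)).comp (ΨF f KB KD hle hinj hsurj n) =
      ΨF f KB KD hle hinj hsurj m := by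
  refine AlgHom.ext fun x => ?_
  show Ideal.Quotient.factor (Ideal.pow_le_pow_right hmn)
      ((en f KB KD hle hinj hsurj n).symm (evalₐ KD n x)) =
    (en f KB KD hle hinj hsurj m).symm (evalₐ KD m x)
  apply (en f KB KD hle hinj hsurj m).injective
  rw [AlgEquiv.apply_symm_apply, en_apply, ← qn_factor f KB KD hle hmn,
    ← en_apply f KB KD hle hinj hsurj n, AlgEquiv.apply_symm_apply, factor_evalₐ KD hmn]

/-- the backward map -/
def Ψ : AdicCompletion KD D →ₐ[A] AdicCompletion KB B :=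
  AdicCompletion.liftAlgHom KB (ΨF f KB KD hle hinj hsurj)
    (fun hmn => ΨF_compat f KB KD hle hinj hsurj hmn)

theorem evalₐ_Ψ (n : ℕ) (y : AdicCompletion KD D) :
    evalₐ KB n (Ψ f KB KD hle hinj hsurj y) = (en f KB KD hle hinj hsurj n).symm (evalₐ KD n y) :=
  evalₐ_liftAlgHom KB (ΨF f KB KD hle hinj hsurj)
    (fun hmn => ΨF_compat f KB KD hle hinj hsurj hmn) n y

/-- adic completions agree when all truncations agree -/
def equiv : AdicCompletion KB B ≃ₐ[A] AdicCompletion KD D :=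
  AlgEquiv.ofAlgHom (Φ f KB KD hle) (Ψ f KB KD hle hinj hsurj)
    (by
      refine AlgHom.ext fun y => ?_
      apply ext_evalₐ
      intro n
      show evalₐ KD n (Φ f KB KD hle (Ψ f KB KD hle hinj hsurj y)) = evalₐ KD n y
      rw [evalₐ_Φ, evalₐ_Ψ, ← en_apply f KB KD hle hinj hsurj, AlgEquiv.apply_symm_apply])
    (by
      refine AlgHom.ext fun x => ?_
      apply ext_evalₐ
      intro n
      show evalₐ KB n (Ψ f KB KD hle hinj hsurj (Φ f KB KD hle x)) = evalₐ KB n x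
      rw [evalₐ_Ψ, evalₐ_Φ, ← en_apply f KB KD hle hinj hsurj, AlgEquiv.symm_apply_apply])

end Groth.Agent.Helper2.ComplEquiv
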