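import Mathlib
import Groth.Agent.Helper2.ComplEquiv
import Groth.Agent.Helper2.SmLiftG
import Groth.Agent.Helper3.ComplUnram

set_option autoImplicit false

namespace Groth.Agent.Helper2.ComplLift

open AdicCompletion

universe u

/-- finite mod `J` + complete ⟹ finite (ring hom version). -/
theorem finite_of_complete {R S : Type u} [CommRing R] [CommRing S] (φ : R →+* S) (J : Ideal R)
    (K : Ideal S) (hK : J.map φ = K) [IsPrecomplete J R] [IsHausdorff K S]
    (hfin : ((Ideal.Quotient.mk K).comp φ).Finite) : φ.Finite := by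
  subst hK
  letI : Algebra R S := φ.toAlgebra
  have hH' : IsHausdorff (J.map (algebraMap R S)) S := ‹_›
  haveI : IsHausdorff J S := IsHausdorff.map_algebraMap_iff.mp hH'
  have hfin' : Module.Finite R (S ⧸ J.map (algebraMap R S)) := by
    rw [← RingHom.finite_algebraMap]
    exact hfin
  haveI : Module.Finite R (S ⧸ (J • ⊤ : Submodule R S)) := by
    let e1 := (Submodule.Quotient.restrictScalarsEquiv R (J.map (algebraMap R S)))
    let e2 := Submodule.quotEquivOfEq _ _ (Ideal.smul_top_eq_map (R := R) (S := S) J)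
    exact Module.Finite.equiv (e2.trans e1).symm
  show Module.Finite R S
  exact Helper3.ComplUnram.finite_of_finite_quotient J

/-- Lifting a finite map mod `I` to the completions, for `A` smooth. -/
theorem exists_lift_completion (V : Type u) [CommRing V] (I : Ideal V) (hI : I.FG)
    (A C : Type u) [CommRing A] [Algebra V A] [Algebra.Smooth V A]
    [CommRing C] [Algebra V C]
    (φ₀ : (A ⧸ I.map (algebraMap V A)) →ₐ[V] (C ⧸ I.map (algebraMap V C)))
    (hφ₀ : φ₀.toRingHom.Finite) :
    ∃ φ : AdicCompletion (I.map (algebraMap V A)) A →ₐ[V]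
        AdicCompletion (I.map (algebraMap V C)) C,
      φ.toRingHom.Finite ∧
      (AdicCompletion.evalOneₐ (I.map (algebraMap V C))).toRingHom.comp φ.toRingHom =
        φ₀.toRingHom.comp (AdicCompletion.evalOneₐ (I.map (algebraMap V A))).toRingHom := by
  classical
  have fgA : (I.map (algebraMap V A)).FG := hI.map _
  have fgC : (I.map (algebraMap V C)).FG := hI.map _
  generalize hIA : I.map (algebraMap V A) = IA at *
  generalize hIC : I.map (algebraMap V C) = IC at *
  let K : Ideal (AdicCompletion IC C) := IC.map (algebraMap C (AdicCompletion IC C))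
  haveI : IsAdicComplete K (AdicCompletion IC C) := AdicCompletion.isAdicComplete_self IC fgC
  let evC : AdicCompletion IC C →ₐ[V] C ⧸ IC := (evalOneₐ IC).restrictScalars V
  have hev_surj : Function.Surjective evC := evalOneₐ_surjective IC
  have hker : RingHom.ker evC = K := ker_evalOneₐ_eq_map IC fgC
  let e : (AdicCompletion IC C ⧸ K) ≃ₐ[V] (C ⧸ IC) :=
    (Ideal.quotientEquivAlgOfEq V hker.symm).trans (Ideal.quotientKerAlgEquivOfSurjective hev_surj)
  have he : ∀ y, e (Ideal.Quotient.mk K y) = evC y := fun y => rfl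
  let σ : A →ₐ[V] AdicCompletion IC C ⧸ K :=
    (e.symm : _ →ₐ[V] _).comp (φ₀.comp (Ideal.Quotient.mkₐ V IA))
  obtain ⟨τ, hτ⟩ := SmLift.s0536 V A (AdicCompletion IC C) K σ
  have hτ' : ∀ a, evC (τ a) = φ₀ (Ideal.Quotient.mk IA a) := by
    intro a
    have h1 : Ideal.Quotient.mk K (τ a) = σ a := congrArg (fun g => g a) hτ
    rw [← he, h1]
    show e (e.symm (φ₀ (Ideal.Quotient.mk IA a))) = _
    rw [AlgEquiv.apply_symm_apply]
  have hIAle : IA ≤ K.comap τ := by
    rw [← hIA, Ideal.map_le_iff_le_comap]
    intro v hv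
    rw [Ideal.mem_comap, Ideal.mem_comap, AlgHom.commutes,
      IsScalarTower.algebraMap_apply V C (AdicCompletion IC C)]
    apply Ideal.mem_map_of_mem
    rw [← hIC]; exact Ideal.mem_map_of_mem _ hv
  have hle : ∀ n, IA ^ n ≤ (K ^ n).comap τ := fun n =>
    (Ideal.pow_right_mono hIAle n).trans (Ideal.le_comap_pow _ n)
  let φ : AdicCompletion IA A →ₐ[V] AdicCompletion IC C :=
    IsAdicComplete.liftAlgHom K (ComplEquiv.ΦF τ IA K hle)
      (fun hmn => ComplEquiv.ΦF_compat τ IA K hle hmn)
  have hφ : ∀ n x, Ideal.Quotient.mk (K ^ n) (φ x) =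
      ComplEquiv.qn τ IA K hle n (evalₐ IA n x) := fun n x =>
    IsAdicComplete.mk_liftAlgHom K _ _ n x
  have hcomm : ∀ x, evalOneₐ IC (φ x) = φ₀ (evalOneₐ IA x) := by
    intro x
    obtain ⟨a, ha⟩ := Ideal.Quotient.mk_surjective (evalₐ IA 1 x)
    have h1 := hφ 1 x
    rw [← ha, ComplEquiv.qn_mk] at h1
    have h2 : φ x - τ a ∈ K := by
      have := Ideal.Quotient.eq.mp h1
      rwa [pow_one] at this
    have h3 : evC (φ x) = evC (τ a) := by
      rw [← hker] at h2
      have := RingHom.mem_ker.mp h2
      rwa [map_sub, sub_eq_zero] at this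
    have h4 : evalOneₐ IA x = Ideal.Quotient.mk IA a := by
      rw [← factorₐ_evalₐ_one, ← ha]; rfl
    show evC (φ x) = _
    rw [h3, hτ', h4]
  refine ⟨φ, ?_, RingHom.ext hcomm⟩
  have keyA : ∀ (f : A →+* AdicCompletion IC C), IA.map f = I.map (f.comp (algebraMap V A)) := by
    intro f; rw [← hIA, Ideal.map_map]
  have keyC : ∀ (D : Type u) [CommRing D] (g : C →+* D),
      IC.map g = I.map (g.comp (algebraMap V C)) := by
    intro D _ g; rw [← hIC, Ideal.map_map]
  let KA : Ideal (AdicCompletion IA A) := IA.map (algebraMap A (AdicCompletion IA A))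
  haveI : IsAdicComplete KA (AdicCompletion IA A) := AdicCompletion.isAdicComplete_self IA fgA
  have hKmap : KA.map φ.toRingHom = K := by
    show (IA.map (algebraMap A (AdicCompletion IA A))).map φ.toRingHom =
      IC.map (algebraMap C (AdicCompletion IC C))
    rw [Ideal.map_map, keyA, keyC]
    congr 1
    refine RingHom.ext fun v => ?_
    show φ (algebraMap A (AdicCompletion IA A) (algebraMap V A v)) =
      algebraMap C (AdicCompletion IC C) (algebraMap V C v)
    rw [← IsScalarTower.algebraMap_apply V A (AdicCompletion IA A),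
      ← IsScalarTower.algebraMap_apply V C (AdicCompletion IC C), AlgHom.commutes]
  refine finite_of_complete φ.toRingHom KA K hKmap ?_
  have hcomp : (Ideal.Quotient.mk K).comp φ.toRingHom =
      (e.symm : (C ⧸ IC) →+* _).comp (φ₀.toRingHom.comp (evalOneₐ IA).toRingHom) := by
    ext x
    show Ideal.Quotient.mk K (φ x) = e.symm (φ₀ (evalOneₐ IA x))
    rw [← hcomm x, AlgEquiv.eq_symm_apply, he]
    rfl
  rw [hcomp]
  refine RingHom.Finite.comp (RingHom.Finite.of_surjective _ e.symm.surjective)
    (RingHom.Finite.comp hφ₀ (RingHom.Finite.of_surjective _ (evalOneₐ_surjective IA)))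

end Groth.Agent.Helper2.ComplLift
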