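import Mathlib
import Groth.Prelude
import Groth.Agent.Helper2.ComplLocFlat
import Groth.Agent.Helper2.ComplLift

set_option autoImplicit false

namespace Groth.Agent.Helper2.ComplCofinal

open AdicCompletion

universe u

variable {S : Type u} [CommRing S] (I K : Ideal S)

theorem cauchy_sub_mem (a : AdicCauchySequence I S) {m n : ℕ} (hmn : m ≤ n) :
    a.val m - a.val n ∈ I ^ m := by
  have := a.property hmn
  rw [SModEq.sub_mem, smul_eq_mul, Ideal.mul_top] at this
  exact this

/-- Completions along cofinal ideals agree. -/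
theorem complMap_bijective_of_cofinal (hIK : I ≤ K) (c : ℕ) (hc : K ^ c ≤ I)
    (h : I.map (RingHom.id S) ≤ K) :
    Function.Bijective (FSch.complMap I K (RingHom.id S) h) := by
  -- wlog `c ≥ 1`
  obtain ⟨c, hc, hc1⟩ : ∃ c, K ^ c ≤ I ∧ 1 ≤ c :=
    ⟨c + 1, (Ideal.pow_le_pow_right (Nat.le_succ c)).trans hc, Nat.succ_le_succ (Nat.zero_le c)⟩
  have hpow : ∀ n, K ^ (c * n) ≤ I ^ n := fun n => by
    rw [pow_mul]; exact Ideal.pow_right_mono hc n
  have hle : ∀ n, n ≤ c * n := fun n => Nat.le_mul_of_pos_left n hc1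
  have hev : ∀ (a : AdicCauchySequence I S) (n : ℕ),
      evalₐ K n (FSch.complMap I K (RingHom.id S) h (AdicCompletion.mk I S a)) =
        Ideal.Quotient.mk (K ^ n) (a.val n) := by
    intro a n
    rw [ComplLocFlat.evalₐ_complMap, evalₐ_mk]
    rfl
  constructor
  · rw [injective_iff_map_eq_zero]
    intro x hx
    obtain ⟨a, rfl⟩ := AdicCompletion.mk_surjective I S x
    apply ext_evalₐ
    intro n
    rw [_root_.map_zero, evalₐ_mk, Ideal.Quotient.eq_zero_iff_mem]
    have h1 : a.val (c * n) ∈ K ^ (c * n) := by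
      have := hev a (c * n)
      rw [hx, _root_.map_zero, eq_comm, Ideal.Quotient.eq_zero_iff_mem] at this
      exact this
    have h2 := cauchy_sub_mem I a (hle n)
    have h3 := (I ^ n).add_mem h2 (hpow n h1)
    rwa [sub_add_cancel] at h3
  · intro y
    obtain ⟨b, rfl⟩ := AdicCompletion.mk_surjective K S y
    let a : AdicCauchySequence I S := ⟨fun n => b.val (c * n), by
      intro m n hmn
      rw [SModEq.sub_mem, smul_eq_mul, Ideal.mul_top]
      exact hpow m (cauchy_sub_mem K b (Nat.mul_le_mul_left c hmn))⟩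
    refine ⟨AdicCompletion.mk I S a, ?_⟩
    apply ext_evalₐ
    intro n
    rw [hev, evalₐ_mk, Ideal.Quotient.eq]
    have := cauchy_sub_mem K b (hle n)
    have h2 := (K ^ n).neg_mem this
    rwa [neg_sub] at h2

section S9138

open IsLocalRing TensorProduct

variable (R S : Type u) [CommRing R] [CommRing S] [IsLocalRing R] [IsLocalRing S] [Algebra R S]

theorem finite_quotient
    (hfib : Module.Finite (maximalIdeal R).ResidueField ((maximalIdeal R).Fiber S)) :
    Module.Finite R (S ⧸ (maximalIdeal R).map (algebraMap R S)) := by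
  haveI : Module.Finite R ((maximalIdeal R).Fiber S) :=
    Module.Finite.trans (maximalIdeal R).ResidueField _
  let e₂ : (R ⧸ maximalIdeal R) ≃ₗ[R] (maximalIdeal R).ResidueField :=
    LinearEquiv.ofBijective
      ((Algebra.linearMap (R ⧸ maximalIdeal R) (maximalIdeal R).ResidueField).restrictScalars R)
      ((maximalIdeal R).bijective_algebraMap_quotient_residueField)
  let e₃ : (R ⧸ maximalIdeal R) ⊗[R] S ≃ₗ[R] (maximalIdeal R).ResidueField ⊗[R] S :=
    TensorProduct.congr e₂ (LinearEquiv.refl R S)
  let e₁ : (R ⧸ maximalIdeal R) ⊗[R] S ≃ₗ[R] S ⧸ (maximalIdeal R • ⊤ : Submodule R S) :=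
    TensorProduct.quotTensorEquivQuotSMul S (maximalIdeal R)
  let e₄ := Submodule.quotEquivOfEq _ _ (Ideal.smul_top_eq_map (R := R) (S := S) (maximalIdeal R))
  let e₅ := Submodule.Quotient.restrictScalarsEquiv R ((maximalIdeal R).map (algebraMap R S))
  exact Module.Finite.equiv (e₃.symm.trans (e₁.trans (e₄.trans e₅)))

theorem exists_pow_le
    (hfib : Module.Finite (maximalIdeal R).ResidueField ((maximalIdeal R).Fiber S))
    (h : (maximalIdeal R).map (algebraMap R S) ≤ maximalIdeal S) :
    ∃ c : ℕ, maximalIdeal S ^ c ≤ (maximalIdeal R).map (algebraMap R S) := by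
  haveI := finite_quotient R S hfib
  haveI : Module.Finite (R ⧸ maximalIdeal R) (S ⧸ (maximalIdeal R).map (algebraMap R S)) :=
    Module.Finite.of_restrictScalars_finite R _ _
  haveI : IsArtinianRing (R ⧸ maximalIdeal R) := inferInstanceAs (IsArtinianRing (ResidueField R))
  haveI : IsArtinianRing (S ⧸ (maximalIdeal R).map (algebraMap R S)) :=
    IsArtinianRing.of_finite (R ⧸ maximalIdeal R) _
  obtain ⟨c, hc⟩ := IsArtinianRing.isNilpotent_jacobson_bot
    (R := S ⧸ (maximalIdeal R).map (algebraMap R S))
  refine ⟨c, ?_⟩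
  have hne : (maximalIdeal R).map (algebraMap R S) ≠ ⊤ := fun htop =>
    (maximalIdeal.isMaximal S).ne_top (top_le_iff.mp (htop ▸ h))
  have h1 : (maximalIdeal S).map (Ideal.Quotient.mk ((maximalIdeal R).map (algebraMap R S))) ≤
      Ideal.jacobson ⊥ := by
    rw [Ideal.map_le_iff_le_comap, Ideal.comap_jacobson_of_surjective Ideal.Quotient.mk_surjective,
      ← RingHom.ker_eq_comap_bot, Ideal.mk_ker, IsLocalRing.jacobson_eq_maximalIdeal _ hne]
  have h2 : (maximalIdeal S ^ c).map (Ideal.Quotient.mk ((maximalIdeal R).map (algebraMap R S))) ≤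
      ⊥ := by
    rw [Ideal.map_pow, ← Ideal.zero_eq_bot, ← hc]
    exact Ideal.pow_right_mono h1 c
  rw [Ideal.map_le_iff_le_comap, ← RingHom.ker_eq_comap_bot, Ideal.mk_ker] at h2
  exact h2

theorem complMap_algebraMap {S T : Type u} [CommRing S] [CommRing T] (I : Ideal S) (K : Ideal T)
    (g : S →+* T) (h : I.map g ≤ K) (x : S) :
    FSch.complMap I K g h (algebraMap S (AdicCompletion I S) x) =
      algebraMap T (AdicCompletion K T) (g x) := by
  apply ext_evalₐ
  intro n
  rw [ComplLocFlat.evalₐ_complMap]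
  rfl

theorem isHausdorff_of_le {S : Type u} [CommRing S] {I K : Ideal S} (hIK : I ≤ K)
    [IsHausdorff K S] : IsHausdorff I S where
  haus' x hx := IsHausdorff.haus' (I := K) x fun n =>
    SModEq.mono (Submodule.smul_mono_left (Ideal.pow_right_mono hIK n)) (hx n)

theorem s9138 [IsLocalHom (algebraMap R S)]
    (hm : (maximalIdeal R).FG) (hn : (maximalIdeal S).FG)
    (hfib : Module.Finite (maximalIdeal R).ResidueField ((maximalIdeal R).Fiber S))
    (h : (maximalIdeal R).map (algebraMap R S) ≤ maximalIdeal S)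
    (h' : ((maximalIdeal R).map (algebraMap R S)).map (RingHom.id S) ≤ maximalIdeal S) :
    Function.Bijective (FSch.complMap ((maximalIdeal R).map (algebraMap R S))
        (maximalIdeal S) (RingHom.id S) h') ∧
      (FSch.complMap (maximalIdeal R) (maximalIdeal S) (algebraMap R S) h).Finite := by
  obtain ⟨c, hc⟩ := exists_pow_le R S hfib h
  refine ⟨complMap_bijective_of_cofinal _ _ h c hc h', ?_⟩
  set φ := FSch.complMap (maximalIdeal R) (maximalIdeal S) (algebraMap R S) h with hφ
  haveI := AdicCompletion.isAdicComplete_self (maximalIdeal R) hm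
  haveI := AdicCompletion.isAdicComplete_self (maximalIdeal S) hn
  have hφι : φ.comp (algebraMap R (AdicCompletion (maximalIdeal R) R)) =
      (algebraMap S (AdicCompletion (maximalIdeal S) S)).comp (algebraMap R S) :=
    RingHom.ext fun r => complMap_algebraMap _ _ _ h r
  have hK : ((maximalIdeal R).map (algebraMap R (AdicCompletion (maximalIdeal R) R))).map φ =
      ((maximalIdeal R).map (algebraMap R S)).map
        (algebraMap S (AdicCompletion (maximalIdeal S) S)) := by
    rw [Ideal.map_map, Ideal.map_map, hφι]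
  have hKle : ((maximalIdeal R).map (algebraMap R S)).map
      (algebraMap S (AdicCompletion (maximalIdeal S) S)) ≤
        (maximalIdeal S).map (algebraMap S (AdicCompletion (maximalIdeal S) S)) :=
    Ideal.map_mono h
  haveI : IsHausdorff (((maximalIdeal R).map (algebraMap R S)).map
      (algebraMap S (AdicCompletion (maximalIdeal S) S))) (AdicCompletion (maximalIdeal S) S) :=
    isHausdorff_of_le hKle
  refine ComplLift.finite_of_complete φ
    ((maximalIdeal R).map (algebraMap R (AdicCompletion (maximalIdeal R) R)))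
    (((maximalIdeal R).map (algebraMap R S)).map
      (algebraMap S (AdicCompletion (maximalIdeal S) S))) hK ?_
  -- the quotient map `S/mS → Ŝ/K`
  let θ : S ⧸ (maximalIdeal R).map (algebraMap R S) →+*
      AdicCompletion (maximalIdeal S) S ⧸ ((maximalIdeal R).map (algebraMap R S)).map
        (algebraMap S (AdicCompletion (maximalIdeal S) S)) :=
    Ideal.quotientMap _ (algebraMap S (AdicCompletion (maximalIdeal S) S)) Ideal.le_comap_map
  have hθ : Function.Surjective θ := by
    intro y
    obtain ⟨y, rfl⟩ := Ideal.Quotient.mk_surjective y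
    obtain ⟨s, hs⟩ := ComplLocFlat.exists_sub_mem (maximalIdeal S) hn c y
    refine ⟨Ideal.Quotient.mk _ s, ?_⟩
    show Ideal.Quotient.mk _ (algebraMap S (AdicCompletion (maximalIdeal S) S) s) = _
    rw [eq_comm, Ideal.Quotient.eq]
    exact Ideal.map_mono hc hs
  haveI := finite_quotient R S hfib
  have h1 : (algebraMap R (S ⧸ (maximalIdeal R).map (algebraMap R S))).Finite :=
    RingHom.finite_algebraMap.mpr inferInstance
  have h2 : (θ.comp (algebraMap R (S ⧸ (maximalIdeal R).map (algebraMap R S)))).Finite :=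
    RingHom.Finite.comp (RingHom.Finite.of_surjective θ hθ) h1
  refine RingHom.Finite.of_comp_finite
    (f := algebraMap R (AdicCompletion (maximalIdeal R) R)) ?_
  convert h2 using 1
  refine RingHom.ext fun r => ?_
  show Ideal.Quotient.mk _ (φ (algebraMap R (AdicCompletion (maximalIdeal R) R) r)) =
    Ideal.Quotient.mk _ (algebraMap S (AdicCompletion (maximalIdeal S) S) (algebraMap R S r))
  rw [hφ, complMap_algebraMap]

end S9138

end Groth.Agent.Helper2.ComplCofinal
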