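import Mathlib
import Groth.Prelude
import Groth.Agent.Helper2.C2Flat3
import Groth.Agent.Helper2.NagataCompl3
import Groth.Agent.Helper2.ComplCofinal
import Groth.Agent.S0543
import Groth.Agent.Helper2.ComplLocFlat

set_option autoImplicit false
set_option linter.unusedSectionVars false
set_option linter.style.haveILetI false
universe u

open Submodule Pointwise IsLocalRing TensorProduct

namespace Groth.Agent.Helper2.C2Flat

section complete

variable (A B : Type u) [CommRing A] [CommRing B] [IsNoetherianRing A] [IsNoetherianRing B]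
  [IsLocalRing A] [IsLocalRing B] [IsAdicComplete (maximalIdeal A) A] [Algebra A B]
  [IsLocalHom (algebraMap A B)] [Module.Flat A B]

theorem c2_of_flat
    (hA : ∀ q ∈ minimalPrimes A, (2 : WithBot ℕ∞) ≤ ringKrullDim (A ⧸ q)) :
    ∀ Q ∈ minimalPrimes B, (2 : WithBot ℕ∞) ≤ ringKrullDim (B ⧸ Q) := by
  intro Q hQ
  haveI : Q.IsPrime := hQ.1.1
  set q := Q.comap (algebraMap A B) with hqdef
  haveI : q.IsPrime := Ideal.comap_isPrime _ _
  -- `q` is a minimal prime
  have hq : q ∈ minimalPrimes A := by
    obtain ⟨q0, hq0min, hq0le⟩ := Ideal.exists_minimalPrimes_le (show (⊥ : Ideal A) ≤ q from bot_le)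
    rcases eq_or_lt_of_le hq0le with heq | hlt
    · rw [← heq]; exact hq0min
    · exfalso
      haveI : q0.IsPrime := hq0min.1.1
      haveI : Q.LiesOver q := ⟨rfl⟩
      obtain ⟨P, hPlt, hPprime, -⟩ := Ideal.exists_ideal_lt_liesOver_of_lt (p := q0) (q := q) Q hlt
      exact absurd (hQ.2 ⟨hPprime, bot_le⟩ hPlt.le) (not_le_of_gt hPlt)
  have hdimq := hA q hq
  -- the normalization of `A/q`
  obtain ⟨hloc, hcompl⟩ := Groth.Agent.Helper2.NagataCompl2.local_complete_of_finite A (A ⧸ q)
  letI := hloc
  haveI := hcompl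
  have hN2 := Groth.Agent.Helper2.NagataCompl.isN2_of_complete (A ⧸ q)
  haveI hfin1 : Module.Finite (A ⧸ q) (integralClosure (A ⧸ q) (FractionRing (A ⧸ q))) :=
    hN2 (FractionRing (A ⧸ q)) inferInstance
  haveI : Module.Finite A (integralClosure (A ⧸ q) (FractionRing (A ⧸ q))) :=
    Module.Finite.trans (A ⧸ q) _
  haveI : IsNoetherianRing (integralClosure (A ⧸ q) (FractionRing (A ⧸ q))) :=
    IsNoetherianRing.of_finite (A ⧸ q) _
  haveI : IsIntegrallyClosed (integralClosure (A ⧸ q) (FractionRing (A ⧸ q))) :=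
    integralClosure.isIntegrallyClosedOfFiniteExtension (FractionRing (A ⧸ q))
  obtain ⟨hloc', -⟩ := Groth.Agent.Helper2.NagataCompl2.local_complete_of_finite (A ⧸ q)
    (integralClosure (A ⧸ q) (FractionRing (A ⧸ q)))
  letI := hloc'
  have hinj : Function.Injective
      (algebraMap (A ⧸ q) (integralClosure (A ⧸ q) (FractionRing (A ⧸ q)))) := by
    intro a b hab
    apply IsFractionRing.injective (A ⧸ q) (FractionRing (A ⧸ q))
    exact congrArg Subtype.val hab
  have hdim' : (2 : WithBot ℕ∞) ≤
      ringKrullDim (integralClosure (A ⧸ q) (FractionRing (A ⧸ q))) := by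
    rw [Groth.Agent.Helper5.IntegralDim.ringKrullDim_eq_of_isIntegral_of_injective hinj]
    exact hdimq
  have hker : Q.comap (algebraMap A B) =
      RingHom.ker (algebraMap A (integralClosure (A ⧸ q) (FractionRing (A ⧸ q)))) := by
    ext a
    rw [RingHom.mem_ker, IsScalarTower.algebraMap_apply A (A ⧸ q), map_eq_zero_iff _ hinj,
      Ideal.Quotient.algebraMap_eq, Ideal.Quotient.eq_zero_iff_mem]
  exact two_le_dim_of_normal A B (integralClosure (A ⧸ q) (FractionRing (A ⧸ q))) hdim' Q hQ hker

end complete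

section final

theorem s16576
    (A B : Type u) [CommRing A] [CommRing B] [IsNoetherianRing A] [IsNoetherianRing B]
    [IsLocalRing A] [IsLocalRing B] (f : A →+* B) [IsLocalHom f] (hf : f.Flat)
    (hA : ∀ q ∈ minimalPrimes (AdicCompletion (IsLocalRing.maximalIdeal A) A), (2 : WithBot ℕ∞) ≤ ringKrullDim (AdicCompletion (IsLocalRing.maximalIdeal A) A ⧸ q)) :
    ∀ q ∈ minimalPrimes (AdicCompletion (IsLocalRing.maximalIdeal B) B), (2 : WithBot ℕ∞) ≤ ringKrullDim (AdicCompletion (IsLocalRing.maximalIdeal B) B ⧸ q) := by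
  letI := f.toAlgebra
  haveI : Module.Flat A B := hf
  have hloc : (maximalIdeal A).map f ≤ maximalIdeal B :=
    ((local_hom_TFAE f).out 0 2).1 ‹IsLocalHom f›
  let ψ := FSch.complMap (maximalIdeal A) (maximalIdeal B) f hloc
  have hψ : ψ.comp (algebraMap A (AdicCompletion (maximalIdeal A) A)) =
      (algebraMap B (AdicCompletion (maximalIdeal B) B)).comp (algebraMap A B) := by
    refine RingHom.ext fun a => ?_
    exact Groth.Agent.Helper2.ComplCofinal.complMap_algebraMap _ _ f hloc a
  have hflat : ψ.Flat :=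
    Groth.Agent.Helper2.ComplLocFlat.flat_completion_map A B (maximalIdeal A) (maximalIdeal B) ψ hψ hloc
  letI := ψ.toAlgebra
  haveI : Module.Flat (AdicCompletion (maximalIdeal A) A) (AdicCompletion (maximalIdeal B) B) := hflat
  haveI : IsNoetherianRing (AdicCompletion (maximalIdeal A) A) := Groth.Agent.S0543.result A _
  haveI : IsNoetherianRing (AdicCompletion (maximalIdeal B) B) := Groth.Agent.S0543.result B _
  haveI : IsLocalHom (algebraMap (AdicCompletion (maximalIdeal A) A)
      (AdicCompletion (maximalIdeal B) B)) := by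
    apply ((local_hom_TFAE _).out 0 2).2
    change (maximalIdeal (AdicCompletion (maximalIdeal A) A)).map ψ ≤ _
    rw [AdicCompletion.maximalIdeal_eq_map, AdicCompletion.maximalIdeal_eq_map, Ideal.map_map, hψ,
      ← Ideal.map_map]
    exact Ideal.map_mono hloc
  exact c2_of_flat (AdicCompletion (maximalIdeal A) A) (AdicCompletion (maximalIdeal B) B) hA

end final

end Groth.Agent.Helper2.C2Flat

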