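import Mathlib
import Groth.Prelude
import Groth.Agent.Helper2.IdemDesc4
import Groth.Agent.Helper2.BrnchG
import Groth.Agent.Helper1.HensDim

set_option autoImplicit false
set_option linter.style.haveILetI false

/-! Uniqueness of minimal primes over `P H'` with one-dimensional quotient, injectivity of contraction
on minimal primes in dimension `≤ 1`. -/

universe u

namespace Groth.Agent.Helper2.IdemDesc

open IsLocalRing

section General

/-- (iii) follows from its case `n = 1`. -/
theorem hsurj_of_one {H H' : Type*} [CommRing H] [CommRing H'] [Algebra H H'] (m : Ideal H)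
    (h1 : ∀ x : H', ∃ a : H, x - algebraMap H H' a ∈ m.map (algebraMap H H')) :
    ∀ n : ℕ, ∀ x : H', ∃ a : H, x - algebraMap H H' a ∈ (m ^ n).map (algebraMap H H') := by
  intro n
  induction n with
  | zero =>
    intro x
    exact ⟨0, by rw [pow_zero, Ideal.one_eq_top, Ideal.map_top]; exact Submodule.mem_top⟩
  | succ n ih =>
    have key : ∀ y ∈ (m ^ n).map (algebraMap H H'), ∃ c : H,
        y - algebraMap H H' c ∈ (m ^ (n + 1)).map (algebraMap H H') := by
      intro y hy
      induction hy using Submodule.span_induction with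
      | mem y hy =>
        obtain ⟨μ, -, rfl⟩ := hy
        exact ⟨μ, by rw [sub_self]; exact Ideal.zero_mem _⟩
      | zero => exact ⟨0, by rw [map_zero, sub_self]; exact Ideal.zero_mem _⟩
      | add y₁ y₂ _ _ h₁ h₂ =>
        obtain ⟨c₁, e₁⟩ := h₁
        obtain ⟨c₂, e₂⟩ := h₂
        refine ⟨c₁ + c₂, ?_⟩
        have := Ideal.add_mem _ e₁ e₂
        rw [map_add]
        convert this using 1
        ring
      | smul t y hy hc =>
        obtain ⟨c, e⟩ := hc
        obtain ⟨b, hb⟩ := h1 t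
        refine ⟨b * c, ?_⟩
        have hy' : y ∈ (m ^ n).map (algebraMap H H') := hy
        have e1 : (t - algebraMap H H' b) * y ∈ (m ^ (n + 1)).map (algebraMap H H') := by
          rw [pow_succ', Ideal.map_mul]
          exact Ideal.mul_mem_mul hb hy'
        have e2 := Ideal.mul_mem_left _ (algebraMap H H' b) e
        have := Ideal.add_mem _ e1 e2
        rw [smul_eq_mul, map_mul]
        convert this using 1
        ring
    intro x
    obtain ⟨a, ha⟩ := ih x
    obtain ⟨c, hc⟩ := key _ ha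
    refine ⟨a + c, ?_⟩
    rw [map_add]
    convert hc using 1
    ring

/-- a chain `Q < P` forces `dim B/Q ≥ 1` -/
theorem one_le_dim_quotient (B : Type*) [CommRing B] (Q P : Ideal B) [Q.IsPrime] [P.IsPrime]
    (h1 : Q < P) : (1 : WithBot ℕ∞) ≤ ringKrullDim (B ⧸ Q) := by
  have hsurj : Function.Surjective (Ideal.Quotient.mk Q) := Ideal.Quotient.mk_surjective
  have hker : ∀ P : Ideal B, Q ≤ P → RingHom.ker (Ideal.Quotient.mk Q) ≤ P := by
    intro P hP
    rwa [Ideal.mk_ker]
  have hp : ∀ P : Ideal B, P.IsPrime → Q ≤ P → (P.map (Ideal.Quotient.mk Q)).IsPrime :=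
    fun P hP hQP => Ideal.map_isPrime_of_surjective hsurj (hker P hQP)
  have hcm : ∀ P : Ideal B, Q ≤ P →
      (P.map (Ideal.Quotient.mk Q)).comap (Ideal.Quotient.mk Q) = P := by
    intro P hQP
    rw [Ideal.comap_map_of_surjective _ hsurj, ← RingHom.ker_eq_comap_bot, Ideal.mk_ker]
    exact sup_eq_left.2 hQP
  let a : PrimeSpectrum (B ⧸ Q) := ⟨Q.map (Ideal.Quotient.mk Q), hp Q inferInstance le_rfl⟩
  let b : PrimeSpectrum (B ⧸ Q) := ⟨P.map (Ideal.Quotient.mk Q), hp P inferInstance h1.le⟩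
  have hab : a < b := by
    refine lt_of_le_of_ne (Ideal.map_mono h1.le) ?_
    intro h
    have : Q = P := by
      rw [← hcm Q le_rfl, ← hcm P h1.le]
      exact congrArg (fun z : PrimeSpectrum (B ⧸ Q) => z.asIdeal.comap (Ideal.Quotient.mk Q)) h
    exact h1.ne this
  have hsm : StrictMono ![a, b] := by
    rw [Fin.strictMono_iff_lt_succ]
    intro i
    fin_cases i
    exact hab
  exact Order.LTSeries.length_le_krullDim (LTSeries.mk 1 ![a, b] hsm)

end General

section Over

variable {H H' : Type u} [CommRing H] [IsNoetherianRing H] [HenselianLocalRing H]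
  [CommRing H'] [IsLocalRing H'] [IsNoetherianRing H'] [Algebra H H'] [Module.Flat H H']

/-- the unique minimal prime: general form. If `Q` is minimal over `P H'` with `dim H'/Q = 1`, then
`Q` is the only prime minimal over `P H'`, and `dim H/P = 1`. -/
theorem unique_over (hmax : maximalIdeal H' = (maximalIdeal H).map (algebraMap H H'))
    (hsurj : ∀ n : ℕ, ∀ x : H', ∃ a : H,
      x - algebraMap H H' a ∈ ((maximalIdeal H) ^ n).map (algebraMap H H'))
    (P : Ideal H) [hP : P.IsPrime] (Q : Ideal H') (hQ : Q ∈ (P.map (algebraMap H H')).minimalPrimes)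
    (hdim : ringKrullDim (H' ⧸ Q) = 1) :
    (∀ Q₂ ∈ (P.map (algebraMap H H')).minimalPrimes, Q₂ = Q) ∧ ringKrullDim (H ⧸ P) = 1 := by
  haveI hQp : Q.IsPrime := hQ.1.1
  set K : Ideal H' := P.map (algebraMap H H') with hK
  have hKQ : K ≤ Q := hQ.1.2
  haveI : Nontrivial (H ⧸ P) := Ideal.Quotient.nontrivial_iff.mpr hP.ne_top
  haveI : IsLocalRing (H ⧸ P) :=
    IsLocalRing.of_surjective' (Ideal.Quotient.mk P) Ideal.Quotient.mk_surjective
  haveI : Nontrivial (H' ⧸ K) :=
    Ideal.Quotient.nontrivial_iff.mpr (fun h => hQp.ne_top (top_le_iff.mp (h ▸ hKQ)))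
  haveI : IsLocalRing (H' ⧸ K) :=
    IsLocalRing.of_surjective' (Ideal.Quotient.mk K) Ideal.Quotient.mk_surjective
  haveI : IsDomain (H ⧸ P) := Ideal.Quotient.isDomain P
  haveI : Algebra.IsIntegral H (H ⧸ P) :=
    Algebra.isIntegral_of_surjective Ideal.Quotient.mk_surjective
  haveI : HenselianLocalRing (H ⧸ P) :=
    Groth.Agent.Helper2.HensInt.henselianLocalRing_of_isIntegral H (H ⧸ P)
  haveI : Module.Flat (H ⧸ P) (H' ⧸ K) := flat_quotient_map H H' P
  obtain ⟨hmax', hsurj'⟩ := transfer (H := H) (H' := H') hmax hsurj P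
  let mk := Ideal.Quotient.mk K
  have hmks : Function.Surjective mk := Ideal.Quotient.mk_surjective
  have hker : RingHom.ker mk = K := Ideal.mk_ker
  have hminset : minimalPrimes (H' ⧸ K) = Ideal.map mk '' K.minimalPrimes := by
    have := Ideal.minimalPrimes_map_of_surjective hmks (⊥ : Ideal H')
    rw [Ideal.map_bot, hker, bot_sup_eq] at this
    exact this
  have hqbar : Q.map mk ∈ minimalPrimes (H' ⧸ K) := by
    rw [hminset]; exact ⟨Q, hQ, rfl⟩
  have hdim' : ringKrullDim ((H' ⧸ K) ⧸ Q.map mk) = 1 := by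
    rw [← hdim]
    exact ringKrullDim_eq_of_ringEquiv (DoubleQuot.quotQuotEquivQuotOfLE hKQ)
  have huniq := unique_minimalPrime (H := H ⧸ P) (H' := H' ⧸ K) hmax' hsurj' (Q.map mk) hqbar hdim'
  have hcm : ∀ p : Ideal H', K ≤ p → (p.map mk).comap mk = p := by
    intro p hp
    rw [Ideal.comap_map_of_surjective _ hmks, ← RingHom.ker_eq_comap_bot, hker]
    exact sup_eq_left.2 hp
  refine ⟨?_, ?_⟩
  · intro p hp
    have h1 : p.map mk ∈ minimalPrimes (H' ⧸ K) := by
      rw [hminset]; exact ⟨p, hp, rfl⟩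
    have h2 := huniq _ h1
    rw [← hcm p hp.1.2, ← hcm Q hKQ, h2]
  · -- dimension of H/P
    haveI : IsLocalHom (algebraMap (H ⧸ P) (H' ⧸ K)) :=
      isLocalHom_of_max (H := H ⧸ P) (H' := H' ⧸ K) hmax'
    haveI : Module.FaithfullyFlat (H ⧸ P) (H' ⧸ K) := Module.FaithfullyFlat.of_flat_of_isLocalHom
    have hle1 : ringKrullDim (H ⧸ P) ≤ ringKrullDim (H' ⧸ K) :=
      Groth.Agent.Helper1.Hens.ringKrullDim_le_of_faithfullyFlat (H ⧸ P) (H' ⧸ K)
    -- dim (H'/K) ≤ dim of quotient by its unique minimal prime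
    have hle2 : ringKrullDim (H' ⧸ K) ≤ ringKrullDim ((H' ⧸ K) ⧸ Q.map mk) := by
      haveI hqbp : (Q.map mk).IsPrime := hqbar.1.1
      have hbelow : ∀ p : PrimeSpectrum (H' ⧸ K), Q.map mk ≤ p.asIdeal := by
        intro p
        obtain ⟨p₀, hp₀, hp₀le⟩ := Ideal.exists_minimalPrimes_le (bot_le : (⊥ : Ideal (H' ⧸ K)) ≤ p.asIdeal)
        rw [← huniq p₀ hp₀]; exact hp₀le
      let mk2 := Ideal.Quotient.mk (Q.map mk)
      have hmk2s : Function.Surjective mk2 := Ideal.Quotient.mk_surjective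
      have hcm2 : ∀ p : PrimeSpectrum (H' ⧸ K), (p.asIdeal.map mk2).comap mk2 = p.asIdeal := by
        intro p
        rw [Ideal.comap_map_of_surjective _ hmk2s, ← RingHom.ker_eq_comap_bot, Ideal.mk_ker]
        exact sup_eq_left.2 (hbelow p)
      let f : PrimeSpectrum (H' ⧸ K) → PrimeSpectrum ((H' ⧸ K) ⧸ Q.map mk) := fun p =>
        ⟨p.asIdeal.map mk2, Ideal.map_isPrime_of_surjective hmk2s
          (by rw [Ideal.mk_ker]; exact hbelow p)⟩
      refine Order.krullDim_le_of_strictMono f ?_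
      intro p₁ p₂ h12
      refine lt_of_le_of_ne (Ideal.map_mono h12.le) ?_
      intro h
      have : p₁.asIdeal = p₂.asIdeal := by
        rw [← hcm2 p₁, ← hcm2 p₂]
        exact congrArg (fun z : PrimeSpectrum ((H' ⧸ K) ⧸ Q.map mk) => z.asIdeal.comap mk2) h
      exact h12.ne (PrimeSpectrum.ext this)
    have hle : ringKrullDim (H ⧸ P) ≤ 1 := hle1.trans (hle2.trans hdim'.le)
    refine le_antisymm hle ?_
    -- lower bound: the maximal ideal of H/P is nonzero
    have hmne : maximalIdeal (H ⧸ P) ≠ ⊥ := by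
      intro h
      have h0 : maximalIdeal (H' ⧸ K) = ⊥ := by rw [hmax', h, Ideal.map_bot]
      have hqle : Q.map mk ≤ maximalIdeal (H' ⧸ K) :=
        IsLocalRing.le_maximalIdeal hqbar.1.1.ne_top
      rw [h0, le_bot_iff] at hqle
      have : IsField ((H' ⧸ K) ⧸ Q.map mk) := by
        rw [← Ideal.Quotient.maximal_ideal_iff_isField_quotient, hqle, ← h0]
        exact maximalIdeal.isMaximal _
      rw [ringKrullDim_eq_zero_of_isField this] at hdim'
      exact zero_ne_one hdim'
    have hlt : (⊥ : Ideal (H ⧸ P)) < maximalIdeal (H ⧸ P) := bot_lt_iff_ne_bot.mpr hmne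
    haveI : (⊥ : Ideal (H ⧸ P)).IsPrime := Ideal.bot_prime
    have h1 := one_le_dim_quotient (H ⧸ P) ⊥ (maximalIdeal (H ⧸ P)) hlt
    rwa [ringKrullDim_eq_of_ringEquiv (RingEquiv.quotientBot (H ⧸ P))] at h1

end Over

section ThmC

variable {H H' : Type u} [CommRing H] [IsNoetherianRing H] [HenselianLocalRing H]
  [CommRing H'] [IsLocalRing H'] [IsNoetherianRing H'] [Algebra H H'] [Module.Flat H H']

theorem comap_injOn_minimalPrimes (hmax : maximalIdeal H' = (maximalIdeal H).map (algebraMap H H'))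
    (hsurj : ∀ n : ℕ, ∀ x : H', ∃ a : H,
      x - algebraMap H H' a ∈ ((maximalIdeal H) ^ n).map (algebraMap H H'))
    (hdim : ringKrullDim H' ≤ 1) :
    Set.InjOn (Ideal.comap (algebraMap H H')) (minimalPrimes H') := by
  haveI : IsLocalHom (algebraMap H H') := isLocalHom_of_max (H := H) (H' := H') hmax
  haveI : Module.FaithfullyFlat H H' := Module.FaithfullyFlat.of_flat_of_isLocalHom
  have key : ∀ Q₁ ∈ minimalPrimes H', ∀ Q₂ ∈ minimalPrimes H',
      Q₁.comap (algebraMap H H') = Q₂.comap (algebraMap H H') → Q₁ ≠ maximalIdeal H' → Q₂ = Q₁ := by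
    intro Q₁ hQ₁ Q₂ hQ₂ hcomap hne
    haveI hQ₁p : Q₁.IsPrime := hQ₁.1.1
    set P := Q₁.comap (algebraMap H H') with hP
    haveI : P.IsPrime := Ideal.comap_isPrime _ _
    have h1 := Groth.Agent.Helper2.Brnch.mem_minimalPrimes_map_of_comap_eq P Q₁ hQ₁ rfl
    have h2 := Groth.Agent.Helper2.Brnch.mem_minimalPrimes_map_of_comap_eq P Q₂ hQ₂ hcomap.symm
    have hlt : Q₁ < maximalIdeal H' :=
      lt_of_le_of_ne (IsLocalRing.le_maximalIdeal hQ₁p.ne_top) hne
    have hd1 : ringKrullDim (H' ⧸ Q₁) = 1 :=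
      le_antisymm ((ringKrullDim_quotient_le Q₁).trans hdim)
        (one_le_dim_quotient H' Q₁ (maximalIdeal H') hlt)
    exact (unique_over (H := H) (H' := H') hmax hsurj P Q₁ h1 hd1).1 Q₂ h2
  intro Q₁ hQ₁ Q₂ hQ₂ hcomap
  by_cases h1 : Q₁ = maximalIdeal H'
  · by_cases h2 : Q₂ = maximalIdeal H'
    · rw [h1, h2]
    · exact key Q₂ hQ₂ Q₁ hQ₁ hcomap.symm h2
  · exact (key Q₁ hQ₁ Q₂ hQ₂ hcomap h1).symm

theorem card_minimalPrimes_eq (hmax : maximalIdeal H' = (maximalIdeal H).map (algebraMap H H'))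
    (hsurj : ∀ n : ℕ, ∀ x : H', ∃ a : H,
      x - algebraMap H H' a ∈ ((maximalIdeal H) ^ n).map (algebraMap H H'))
    (hdim : ringKrullDim H' ≤ 1) :
    ENat.card (minimalPrimes H') = ENat.card (minimalPrimes H) := by
  haveI : IsLocalHom (algebraMap H H') := isLocalHom_of_max (H := H) (H' := H') hmax
  haveI : Module.FaithfullyFlat H H' := Module.FaithfullyFlat.of_flat_of_isLocalHom
  have hinj := comap_injOn_minimalPrimes (H := H) (H' := H') hmax hsurj hdim
  have himg : Ideal.comap (algebraMap H H') '' minimalPrimes H' = minimalPrimes H := by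
    apply Set.Subset.antisymm
    · rintro p ⟨Q, hQ, rfl⟩
      exact Groth.Agent.Helper2.Brnch.comap_mem_minimalPrimes Q hQ
    · intro p hp
      obtain ⟨q, hq, hqp⟩ := Groth.Agent.Helper2.Brnch.exists_minimalPrimes_comap_eq' H H' p hp
      exact ⟨q, hq, hqp⟩
  change (minimalPrimes H').encard = (minimalPrimes H).encard
  rw [← himg, hinj.encard_image]

end ThmC

end Groth.Agent.Helper2.IdemDesc
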