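import Mathlib
import Groth.Prelude
import Groth.Agent.Helper2.IdemDesc5
import Groth.Agent.Helper2.BrnchF
import Groth.Agent.Helper1.HensStrictTransfer
import Groth.Agent.Helper1.HensStrictNoeth
import Groth.Agent.Helper1.HensDim
import Groth.Agent.Helper6.FormEquidimMin
import Groth.Agent.Helper2.HensQFin

set_option autoImplicit false
set_option linter.style.haveILetI false

/-! The map from a strict henselization of `A` to a strict henselization of the completion `Â`
is flat and "completion-like". -/

universe u

namespace Groth.Agent.Helper2.IdemDesc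

open IsLocalRing Groth.Agent.Helper1.Hens Groth.Agent.Helper1

section CL

variable (A : Type u) [CommRing A] [IsNoetherianRing A] [IsLocalRing A]

local notation "Ah" => AdicCompletion (maximalIdeal A) A

variable (S' : Type u) [CommRing S'] [IsLocalRing S'] [Algebra A S'] [IsLocalHom (algebraMap A S')]
  [hS : Hensel.IsStrictHenselization A S']
  (T' : Type u) [CommRing T'] [IsLocalRing T'] [Algebra (AdicCompletion (maximalIdeal A) A) T']
  [IsLocalHom (algebraMap (AdicCompletion (maximalIdeal A) A) T')]
  [hT : Hensel.IsStrictHenselization (AdicCompletion (maximalIdeal A) A) T']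

theorem exists_map_strict : ∃ f : S' →+* T',
    f.comp (algebraMap A S') = (algebraMap Ah T').comp (algebraMap A Ah) ∧
    (letI := f.toAlgebra; Module.Flat S' T') ∧
    maximalIdeal T' = (maximalIdeal S').map f ∧
    ∀ (n : ℕ) (x : T'), ∃ a : S', x - f a ∈ ((maximalIdeal S') ^ n).map f := by
  haveI : HenselianLocalRing T' := hT.henselian
  haveI : HenselianLocalRing S' := hS.henselian
  let f₀ : A →+* T' := (algebraMap Ah T').comp (algebraMap A Ah)
  haveI hloc₀ : IsLocalHom f₀ := RingHom.isLocalHom_comp _ _
  letI : Algebra A T' := f₀.toAlgebra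
  haveI : IsScalarTower A Ah T' := IsScalarTower.of_algebraMap_eq (fun _ => rfl)
  haveI : IsLocalHom (algebraMap A T') := hloc₀
  -- residue fields
  haveI : IsSepClosed (ResidueField T') := IsSepClosure.sep_closed (ResidueField Ah)
  haveI : IsSepClosed (ResidueField S') := IsSepClosure.sep_closed (ResidueField A)
  haveI : Algebra.IsSeparable (ResidueField A) (ResidueField S') := IsSepClosure.separable
  let τ : ResidueField S' →ₐ[ResidueField A] ResidueField T' := IsSepClosed.lift
  have hτ : τ.toRingHom.comp (ResidueField.map (algebraMap A S')) = ResidueField.map f₀ := by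
    ext x
    exact τ.commutes x
  obtain ⟨f, ⟨hf1, hf2⟩, -⟩ := hS.universal T' f₀ τ.toRingHom hτ
  have hmaxT : maximalIdeal T' = (maximalIdeal S').map f := by
    rw [← map_maximalIdeal_of_isStrictHenselization (AdicCompletion (maximalIdeal A) A) T',
      AdicCompletion.maximalIdeal_eq_map, ← map_maximalIdeal_of_isStrictHenselization A S',
      Ideal.map_map, Ideal.map_map, hf1]
  refine ⟨f, hf1, ?_, hmaxT, ?_⟩
  · letI := f.toAlgebra
    let e := equivOfIsStrictHenselization A S'
    haveI : Module.FaithfullyFlat (AdicCompletion (maximalIdeal A) A) T' :=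
      faithfullyFlat_of_isStrictHenselization (AdicCompletion (maximalIdeal A) A) T'
    haveI : Module.Flat A (AdicCompletion (maximalIdeal A) A) :=
      AdicCompletion.flat_of_isNoetherian (maximalIdeal A)
    haveI : Module.Flat A T' := Module.Flat.trans A (AdicCompletion (maximalIdeal A) A) T'
    let fA : S' →ₐ[A] T' := { f with commutes' := fun r => congr($hf1 r) }
    let ψ' : Hens A (ResidueField S') →ₐ[A] T' := fA.comp e.symm.toAlgHom
    have hfl := Groth.Agent.Helper2.Brnch.flat_of_algHom_hens T' ψ'
    letI : Algebra (Hens A (ResidueField S')) T' := ψ'.toRingHom.toAlgebra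
    letI : Algebra S' (Hens A (ResidueField S')) := e.toAlgHom.toRingHom.toAlgebra
    haveI : IsScalarTower S' (Hens A (ResidueField S')) T' :=
      IsScalarTower.of_algebraMap_eq (fun s => by
        show f s = fA (e.symm (e s))
        rw [e.symm_apply_apply]
        rfl)
    let l : Hens A (ResidueField S') ≃ₗ[S'] S' :=
      { e.symm.toRingEquiv.toAddEquiv with
        map_smul' := fun s h => by
          show e.symm (e s * h) = s * e.symm h
          rw [map_mul, e.symm_apply_apply] }
    haveI : Module.Flat S' (Hens A (ResidueField S')) := Module.Flat.of_linearEquiv l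
    exact Module.Flat.trans S' (Hens A (ResidueField S')) T'
  · letI := f.toAlgebra
    refine hsurj_of_one (H := S') (H' := T') (maximalIdeal S') ?_
    intro x
    letI : Algebra (ResidueField S') (ResidueField T') := τ.toRingHom.toAlgebra
    haveI : IsScalarTower (ResidueField A) (ResidueField S') (ResidueField T') :=
      IsScalarTower.of_algebraMap_eq (fun x => (τ.commutes x).symm)
    haveI : Algebra.IsSeparable (ResidueField (AdicCompletion (maximalIdeal A) A))
      (ResidueField T') := IsSepClosure.separable
    haveI : IsScalarTower (ResidueField A) (ResidueField (AdicCompletion (maximalIdeal A) A))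
        (ResidueField T') := IsScalarTower.of_algebraMap_eq (fun x => by
      obtain ⟨x, rfl⟩ := residue_surjective x
      rfl)
    haveI : Algebra.IsSeparable (ResidueField A)
        (ResidueField (AdicCompletion (maximalIdeal A) A)) :=
      ⟨fun y => by
        obtain ⟨x, rfl⟩ := (AdicCompletion.residueField_map_bijective A).2 y
        exact isSeparable_algebraMap x⟩
    haveI : Algebra.IsSeparable (ResidueField A) (ResidueField T') :=
      Algebra.IsSeparable.trans (ResidueField A)
        (ResidueField (AdicCompletion (maximalIdeal A) A)) (ResidueField T')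
    haveI : Algebra.IsSeparable (ResidueField S') (ResidueField T') :=
      Algebra.isSeparable_tower_top_of_isSeparable (ResidueField A) (ResidueField S')
        (ResidueField T')
    have hτsurj : Function.Surjective τ :=
      IsSepClosed.algebraMap_surjective (ResidueField S') (ResidueField T')
    obtain ⟨y, hy⟩ := hτsurj (residue T' x)
    obtain ⟨a, rfl⟩ := residue_surjective y
    refine ⟨a, ?_⟩
    show x - f a ∈ Ideal.map f (maximalIdeal S')
    rw [← hmaxT, ← residue_eq_zero_iff, map_sub, hf2 a, sub_eq_zero]
    exact hy.symm

end CL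

section S9241

variable (A : Type u) [CommRing A] [IsLocalRing A] [IsNoetherianRing A]

local notation "Ah" => AdicCompletion (maximalIdeal A) A
local notation "ΩA" => SeparableClosure (ResidueField A)
local notation "ΩAh" => SeparableClosure (ResidueField (AdicCompletion (maximalIdeal A) A))

theorem s9241 (hA : ringKrullDim A = 1) :
    _root_.Brnch.numBranches Ah = _root_.Brnch.numBranches A ∧
      _root_.Brnch.numGeomBranches Ah = _root_.Brnch.numGeomBranches A := by
  haveI hNC : IsNoetherianRing Ah := Groth.Agent.S0543.result A (maximalIdeal A)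
  have hdimC : ringKrullDim Ah ≤ 1 := by
    rw [Groth.Agent.Helper6.FormEquidimMin.dim_compl A, hA]
  haveI : HenselianLocalRing Ah := henselianLocalRing_of_isAdicComplete _
  constructor
  · haveI : IsLocalHom (algebraMap Ah Ah) := ⟨fun a ha => ha⟩
    haveI := Groth.Agent.Helper2.HensQFin.isHenselization_self Ah
    rw [← Groth.Agent.Helper2.Brnch.s9237 A (Hh A), ← Groth.Agent.Helper2.Brnch.s9237 Ah Ah]
    obtain ⟨ψ, hψ, -⟩ := Hensel.IsHenselization.universal (R := A) (S := Hh A) Ah
      (algebraMap A Ah) inferInstance
    letI := ψ.toAlgebra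
    haveI := Groth.Agent.Helper2.ComplHensMin.faithfullyFlat A (Hh A) ψ hψ
    obtain ⟨hmax, hsurj⟩ := hens_cpl_hyps A (Hh A) ψ hψ
    haveI : IsNoetherianRing (Hh A) := isNoetherianRing_of_isHenselization A (Hh A)
    haveI : HenselianLocalRing (Hh A) := Hensel.IsHenselization.henselian (R := A)
    exact card_minimalPrimes_eq (H := Hh A) (H' := Ah) hmax hsurj hdimC
  · rw [← Groth.Agent.Helper2.Brnch.s9238 A (Hens A ΩA),
      ← Groth.Agent.Helper2.Brnch.s9238 Ah (Hens Ah ΩAh)]
    obtain ⟨f, -, hflat, hmax, hsurj⟩ := exists_map_strict A (Hens A ΩA) (Hens Ah ΩAh)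
    letI := f.toAlgebra
    haveI := hflat
    haveI : IsNoetherianRing (Hens A ΩA) := isNoetherianRing_of_isStrictHenselization A _
    haveI : IsNoetherianRing (Hens Ah ΩAh) := isNoetherianRing_of_isStrictHenselization Ah _
    haveI : HenselianLocalRing (Hens A ΩA) := Hensel.IsStrictHenselization.henselian (R := A)
    have hdimT : ringKrullDim (Hens Ah ΩAh) ≤ 1 := by
      rw [ringKrullDim_of_isStrictHenselization Ah _]; exact hdimC
    exact card_minimalPrimes_eq (H := Hens A ΩA) (H' := Hens Ah ΩAh) hmax hsurj hdimT

end S9241

end Groth.Agent.Helper2.IdemDesc
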