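import Mathlib
import Groth.Prelude.Def_Hensel
import Groth.Agent.Helper1.HensElts
import Groth.Agent.Helper1.HensReg
import Groth.Agent.Helper1.HensStrictNoeth
import Groth.Agent.Helper2.RegBC
set_option autoImplicit false
universe u
open IsLocalRing TensorProduct

namespace Groth.Agent.Helper2.HensFib

open Groth.Agent.Helper1.Hens

section Lift
variable {R : Type u} [CommRing R] {Ω : Type u} [Field Ω] [Algebra R Ω]

/-- every element of `k ⊗ Hens R Ω` comes from `k ⊗ C` for a pointed étale algebra `C`. -/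
theorem exists_lift (k : Type u) [CommRing k] [Algebra R k] (x : k ⊗[R] Hens R Ω) :
    ∃ (C : Type u) (_ : CommRing C) (_ : Algebra R C) (_ : Algebra.Etale R C) (γ : C →ₐ[R] Ω)
      (xC : k ⊗[R] C), Algebra.TensorProduct.map (AlgHom.id k k) (Hens.ι γ) xC = x := by
  induction x using TensorProduct.induction_on with
  | zero =>
    exact ⟨R, inferInstance, inferInstance, inferInstance, Algebra.ofId R Ω, 0, map_zero _⟩
  | tmul z h =>
    obtain ⟨C, _, _, _, γ, c, rfl⟩ := Hens.exists_ι_eq h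
    exact ⟨C, inferInstance, inferInstance, inferInstance, γ, z ⊗ₜ c, by simp⟩
  | add x₁ x₂ h₁ h₂ =>
    obtain ⟨C₁, _, _, _, γ₁, y₁, rfl⟩ := h₁
    obtain ⟨C₂, _, _, _, γ₂, y₂, rfl⟩ := h₂
    haveI : Algebra.Etale C₁ (C₁ ⊗[R] C₂) := inferInstance
    haveI : Algebra.Etale R (C₁ ⊗[R] C₂) := Algebra.Etale.comp R C₁ _
    let δ : C₁ ⊗[R] C₂ →ₐ[R] Ω := Algebra.TensorProduct.productMap γ₁ γ₂
    have hδ₁ : ∀ c, δ ((Algebra.TensorProduct.includeLeft : C₁ →ₐ[R] C₁ ⊗[R] C₂) c) = γ₁ c := by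
      intro c; simp [δ]
    have hδ₂ : ∀ c, δ ((Algebra.TensorProduct.includeRight : C₂ →ₐ[R] C₁ ⊗[R] C₂) c) = γ₂ c := by
      intro c; simp [δ]
    have e₁ : (Algebra.TensorProduct.map (AlgHom.id k k) (Hens.ι δ)).comp
        (Algebra.TensorProduct.map (AlgHom.id k k)
          (Algebra.TensorProduct.includeLeft : C₁ →ₐ[R] C₁ ⊗[R] C₂)) =
        Algebra.TensorProduct.map (AlgHom.id k k) (Hens.ι γ₁) := by
      apply Algebra.TensorProduct.ext'
      intro a b
      simp only [AlgHom.comp_apply, Algebra.TensorProduct.map_tmul, AlgHom.id_apply]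
      rw [Hens.ι_comp γ₁ δ _ hδ₁]
    have e₂ : (Algebra.TensorProduct.map (AlgHom.id k k) (Hens.ι δ)).comp
        (Algebra.TensorProduct.map (AlgHom.id k k)
          (Algebra.TensorProduct.includeRight : C₂ →ₐ[R] C₁ ⊗[R] C₂)) =
        Algebra.TensorProduct.map (AlgHom.id k k) (Hens.ι γ₂) := by
      apply Algebra.TensorProduct.ext'
      intro a b
      simp only [AlgHom.comp_apply, Algebra.TensorProduct.map_tmul, AlgHom.id_apply]
      rw [Hens.ι_comp γ₂ δ _ hδ₂]
    refine ⟨C₁ ⊗[R] C₂, inferInstance, inferInstance, inferInstance, δ,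
      Algebra.TensorProduct.map (AlgHom.id k k) Algebra.TensorProduct.includeLeft y₁ +
      Algebra.TensorProduct.map (AlgHom.id k k) Algebra.TensorProduct.includeRight y₂, ?_⟩
    rw [map_add, ← AlgHom.comp_apply, ← AlgHom.comp_apply, e₁, e₂]

end Lift

section VNR

/-- von Neumann regular rings. -/
def IsVNR (A : Type*) [CommRing A] : Prop := ∀ x : A, ∃ y : A, x * x * y = x

theorem isVNR_of_etale_field (K A : Type u) [Field K] [CommRing A] [Algebra K A]
    [Algebra.Etale K A] : IsVNR A := by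
  obtain ⟨I, _, Ai, _, _, e, _⟩ := (Algebra.Etale.iff_exists_algEquiv_prod K A).mp inferInstance
  intro x
  refine ⟨e.symm (fun i => (e x i)⁻¹), ?_⟩
  apply e.injective
  ext i
  simp only [map_mul, e.apply_symm_apply, Pi.mul_apply]
  by_cases h : e x i = 0
  · simp [h]
  · rw [mul_assoc, mul_inv_cancel₀ h, mul_one]

theorem IsVNR.isReduced {A : Type*} [CommRing A] (h : IsVNR A) : IsReduced A := by
  rw [isReduced_iff_pow_one_lt 2 one_lt_two]
  intro x hx
  obtain ⟨y, hy⟩ := h x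
  rw [← hy, ← pow_two, hx, zero_mul]

theorem IsVNR.isMaximal {A : Type*} [CommRing A] (h : IsVNR A) (P : Ideal A) [hP : P.IsPrime] :
    P.IsMaximal := by
  apply Ideal.Quotient.maximal_of_isField
  refine ⟨⟨0, 1, zero_ne_one⟩, mul_comm, fun {a} ha => ?_⟩
  obtain ⟨x, rfl⟩ := Ideal.Quotient.mk_surjective a
  obtain ⟨y, hy⟩ := h x
  refine ⟨Ideal.Quotient.mk P y, ?_⟩
  have h1 : Ideal.Quotient.mk P x * (Ideal.Quotient.mk P x * Ideal.Quotient.mk P y - 1) = 0 := by
    rw [mul_sub, mul_one, ← mul_assoc, ← map_mul, ← map_mul, hy, sub_self]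
  rcases mul_eq_zero.mp h1 with h2 | h2
  · exact absurd h2 ha
  · exact sub_eq_zero.mp h2

theorem IsVNR.isArtinianRing {A : Type*} [CommRing A] [IsNoetherianRing A] (h : IsVNR A) :
    IsArtinianRing A := by
  rw [isArtinianRing_iff_isNoetherianRing_krullDimLE_zero]
  refine ⟨inferInstance, ?_⟩
  rw [Ring.krullDimLE_zero_iff]
  intro I hI
  exact h.isMaximal I

variable {R : Type u} [CommRing R] {Ω : Type u} [Field Ω] [Algebra R Ω]

theorem isVNR_fibre (k : Type u) [Field k] [Algebra R k] : IsVNR (k ⊗[R] Hens R Ω) := by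
  intro x
  obtain ⟨C, _, _, _, γ, xC, rfl⟩ := exists_lift k x
  obtain ⟨y, hy⟩ := isVNR_of_etale_field k (k ⊗[R] C) xC
  exact ⟨Algebra.TensorProduct.map (AlgHom.id k k) (Hens.ι γ) y, by rw [← map_mul, ← map_mul, hy]⟩

/-- images of elements of the fibre in a field quotient are separable. -/
theorem isSeparable_quotient (k : Type u) [Field k] [Algebra R k]
    (m : Ideal (k ⊗[R] Hens R Ω)) [m.IsMaximal] :
    Algebra.IsSeparable k ((k ⊗[R] Hens R Ω) ⧸ m) := by
  letI := Ideal.Quotient.field m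
  refine ⟨fun z => ?_⟩
  obtain ⟨x, rfl⟩ := Ideal.Quotient.mk_surjective z
  obtain ⟨C, _, _, _, γ, xC, rfl⟩ := exists_lift k x
  let ψ : k ⊗[R] C →ₐ[k] (k ⊗[R] Hens R Ω) ⧸ m :=
    (Ideal.Quotient.mkₐ k m).comp (Algebra.TensorProduct.map (AlgHom.id k k) (Hens.ι γ))
  haveI : (RingHom.ker ψ).IsPrime := RingHom.ker_isPrime ψ
  have h1 : IsSeparable k (Ideal.Quotient.mk (RingHom.ker ψ) xC) :=
    Algebra.IsSeparable.isSeparable k _
  have h2 := h1.map (Ideal.kerLiftAlg ψ) (Ideal.kerLiftAlg_injective ψ)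
  exact h2

end VNR

section Fibre

/-- a Noetherian von Neumann regular `k`-algebra all of whose residue fields are separable over `k`
is a finite product of separable field extensions. -/
theorem exists_pi (k F : Type u) [Field k] [CommRing F] [Algebra k F] [IsNoetherianRing F]
    (hv : IsVNR F) (hs : ∀ (m : Ideal F) [m.IsMaximal], Algebra.IsSeparable k (F ⧸ m)) :
    ∃ (n : ℕ) (K : Fin n → Type u) (_ : ∀ i, Field (K i)) (_ : ∀ i, Algebra k (K i)),
      (∀ i, Algebra.IsSeparable k (K i)) ∧ Nonempty (F ≃ₐ[k] (Π i, K i)) := by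
  haveI := hv.isArtinianRing
  haveI := hv.isReduced
  let e0 : F ≃ₐ[k] Π (m : MaximalSpectrum F), F ⧸ m.asIdeal :=
    (IsArtinianRing.equivPi F).restrictScalars k
  let eqv : MaximalSpectrum F ≃ Fin (Nat.card (MaximalSpectrum F)) := Finite.equivFin _
  let e1 : (Π (m : MaximalSpectrum F), F ⧸ m.asIdeal) ≃ₐ[k]
      Π (i : Fin (Nat.card (MaximalSpectrum F))), F ⧸ (eqv.symm i).asIdeal :=
    AlgEquiv.piCongrLeft' k (fun m : MaximalSpectrum F => F ⧸ m.asIdeal) eqv
  refine ⟨Nat.card (MaximalSpectrum F), fun i => F ⧸ (eqv.symm i).asIdeal,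
    fun i => Ideal.Quotient.field _, fun i => inferInstance, fun i => ?_, ⟨e0.trans e1⟩⟩
  exact hs (eqv.symm i).asIdeal

variable (R : Type u) [CommRing R] [IsNoetherianRing R] (Ω : Type u) [Field Ω] [Algebra R Ω]

theorem fibre_hens [IsNoetherianRing (Hens R Ω)] (p : Ideal R) [p.IsPrime] :
    ∃ (n : ℕ) (K : Fin n → Type u) (_ : ∀ i, Field (K i)) (_ : ∀ i, Algebra p.ResidueField (K i)),
      (∀ i, Algebra.IsSeparable p.ResidueField (K i)) ∧
      Nonempty ((p.ResidueField ⊗[R] Hens R Ω) ≃ₐ[p.ResidueField] (Π i, K i)) := by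
  haveI : IsNoetherianRing (p.ResidueField ⊗[R] Hens R Ω) :=
    Groth.Agent.Helper2.RegBC.isNoetherianRing_fiber R (Hens R Ω) p
  exact exists_pi p.ResidueField _ (isVNR_fibre p.ResidueField)
    (fun m _ => isSeparable_quotient p.ResidueField m)

end Fibre

/-- the statement S2736 -/
theorem henselization (R S : Type u) [CommRing R] [IsLocalRing R] [IsNoetherianRing R]
    [CommRing S] [IsLocalRing S] [Algebra R S] [IsLocalHom (algebraMap R S)]
    [Hensel.IsHenselization R S] (p : Ideal R) [p.IsPrime] :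
    ∃ (n : ℕ) (K : Fin n → Type u) (_ : ∀ i, Field (K i)) (_ : ∀ i, Algebra p.ResidueField (K i)),
      (∀ i, Algebra.IsSeparable p.ResidueField (K i)) ∧
      Nonempty ((p.ResidueField ⊗[R] S) ≃ₐ[p.ResidueField] (Π i, K i)) := by
  haveI := Hh.isNoetherianRing R
  obtain ⟨n, K, i1, i2, hsep, ⟨e⟩⟩ := fibre_hens R (ResidueField R) p
  refine ⟨n, K, i1, i2, hsep, ⟨?_⟩⟩
  exact (Algebra.TensorProduct.congr AlgEquiv.refl (equivOfIsHenselization (R := R) S)).trans e

/-- the statement S2817 -/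
theorem strictHenselization (R S : Type u) [CommRing R] [IsLocalRing R] [IsNoetherianRing R]
    [CommRing S] [IsLocalRing S] [Algebra R S] [IsLocalHom (algebraMap R S)]
    [Hensel.IsStrictHenselization R S] (p : Ideal R) [p.IsPrime] :
    ∃ (n : ℕ) (K : Fin n → Type u) (_ : ∀ i, Field (K i)) (_ : ∀ i, Algebra p.ResidueField (K i)),
      (∀ i, Algebra.IsSeparable p.ResidueField (K i)) ∧
      Nonempty ((p.ResidueField ⊗[R] S) ≃ₐ[p.ResidueField] (Π i, K i)) := by
  haveI := Hens.isNoetherianRing R (ResidueField S)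
  obtain ⟨n, K, i1, i2, hsep, ⟨e⟩⟩ := fibre_hens R (ResidueField S) p
  refine ⟨n, K, i1, i2, hsep, ⟨?_⟩⟩
  exact (Algebra.TensorProduct.congr AlgEquiv.refl (equivOfIsStrictHenselization R S)).trans e

end Groth.Agent.Helper2.HensFib
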