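import Mathlib
import Groth.Prelude.Def_Hensel
import Groth.Prelude.Def_Found
import Groth.Agent.Helper2.HensFib
import Groth.Agent.Helper2.SepAlg
import Groth.Agent.Helper2.AdicHom
import Groth.Agent.Helper2.GLoc
import Groth.Agent.Helper2.SmoothDense
import Groth.Agent.Helper4.FiberAss2
set_option autoImplicit false
universe u
open IsLocalRing TensorProduct

namespace Groth.Agent.Helper2.HensGReg

open Groth.Agent.Helper1.Hens Groth.Agent.Helper2.HensFib

section FactU
variable {R H : Type u} [CommRing R] [CommRing H] [Algebra R H]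

/-- von Neumann regular fibre implies "unramified" at every prime. -/
theorem factU (Q : Ideal H) [Q.IsPrime] (p : Ideal R) [p.IsPrime] (hQ : Q.under R = p)
    (hv : IsVNR (p.ResidueField ⊗[R] H)) {x : H} (hx : x ∈ Q) :
    ∃ t ∉ Q, t * x ∈ p.map (algebraMap R H) := by
  obtain ⟨yb, hy⟩ := hv ((1 : p.ResidueField) ⊗ₜ[R] x)
  obtain ⟨r, hr, y, hry⟩ := Ideal.Fiber.exists_smul_eq_one_tmul p yb
  have h1 : (1 : p.ResidueField) ⊗ₜ[R] (r • x - x * x * y) = 0 := by
    rw [TensorProduct.tmul_sub, TensorProduct.tmul_smul, sub_eq_zero]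
    have : (1 : p.ResidueField) ⊗ₜ[R] (x * x * y) =
        ((1 : p.ResidueField) ⊗ₜ[R] x) * ((1 : p.ResidueField) ⊗ₜ[R] x) *
          ((1 : p.ResidueField) ⊗ₜ[R] y) := by
      simp [Algebra.TensorProduct.tmul_mul_tmul]
    rw [this, ← hry, mul_smul_comm, hy]
  obtain ⟨r', hr', h2⟩ :=
    Groth.Agent.Helper4.FiberAss.exists_smul_mem_of_one_tmul_eq_zero H p _ h1
  rw [Ideal.smul_top_eq_map, Submodule.restrictScalars_mem] at h2
  refine ⟨algebraMap R H r' * (algebraMap R H r - x * y), ?_, ?_⟩
  · intro hmem
    rcases Ideal.IsPrime.mem_or_mem inferInstance hmem with h3 | h3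
    · apply hr'
      rw [← hQ]
      exact h3
    · apply hr
      rw [← hQ]
      have : algebraMap R H r = (algebraMap R H r - x * y) + x * y := by ring
      show algebraMap R H r ∈ Q
      rw [this]
      exact Q.add_mem h3 (Q.mul_mem_right _ hx)
  · have : algebraMap R H r' * (algebraMap R H r - x * y) * x = r' • (r • x - x * x * y) := by
      rw [Algebra.smul_def, Algebra.smul_def]; ring
    rw [this]
    exact h2

end FactU

section Loc

/-- the fibre over a prime whose complement acts invertibly is the quotient. -/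
theorem nonempty_fiberEquivQuot (A A' : Type u) [CommRing A] [CommRing A'] [Algebra A A']
    (p : Ideal A) [p.IsPrime] (hu : ∀ a ∉ p, IsUnit (algebraMap A A' a)) :
    letI : Algebra A' (p.Fiber A') := Algebra.TensorProduct.rightAlgebra
    Nonempty (p.Fiber A' ≃ₐ[A'] A' ⧸ p.map (algebraMap A A')) := by
  letI : Algebra A' (p.Fiber A') := Algebra.TensorProduct.rightAlgebra
  have hM : Algebra.algebraMapSubmonoid A' p.primeCompl ≤ IsUnit.submonoid A' := by
    rintro _ ⟨a, ha, rfl⟩
    exact hu a ha
  let e : A' ≃ₐ[A'] Localization (Algebra.algebraMapSubmonoid A' p.primeCompl) :=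
    IsLocalization.atUnits A' _ hM
  let e1 := Ideal.Fiber.algEquivAux₁ p (S := A')
  let e2 : (A' ⧸ p.map (algebraMap A A')) ≃ₐ[A']
      Localization (Algebra.algebraMapSubmonoid A' p.primeCompl) ⧸
        (p.map (algebraMap A A')).map (algebraMap A' _) :=
    Ideal.quotientEquivAlg _ _ e (by congr 1)
  exact ⟨e1.trans e2.symm⟩

variable {R H C : Type u} [CommRing R] [CommRing H] [CommRing C] [Algebra R H] [Algebra H C]
  [Algebra R C] [IsScalarTower R H C]

theorem exists_fiber_equiv (Q : Ideal H) [Q.IsPrime] (p : Ideal R) [p.IsPrime]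
    (hQ : Q.under R = p)
    (hU : ∀ x ∈ Q, ∃ t ∉ Q, t * x ∈ p.map (algebraMap R H)) :
    ∃ e : Q.Fiber C ≃+* p.Fiber (Localization (Algebra.algebraMapSubmonoid C Q.primeCompl)),
      ∀ c : C, e (1 ⊗ₜ c) = 1 ⊗ₜ (algebraMap C _ c) := by
  set CT := Localization (Algebra.algebraMapSubmonoid C Q.primeCompl) with hCT
  letI : Algebra C (Q.Fiber C) := Algebra.TensorProduct.rightAlgebra
  letI : Algebra CT (p.Fiber CT) := Algebra.TensorProduct.rightAlgebra
  -- the `Q` side
  let e1 : Q.Fiber C ≃ₐ[C] CT ⧸ (Q.map (algebraMap H C)).map (algebraMap C CT) :=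
    Ideal.Fiber.algEquivAux₁ Q (S := C)
  -- the `p` side
  have hu : ∀ a ∉ p, IsUnit (algebraMap R CT a) := by
    intro a ha
    rw [IsScalarTower.algebraMap_apply R C CT]
    refine IsLocalization.map_units CT (⟨algebraMap R C a, ?_⟩ :
      Algebra.algebraMapSubmonoid C Q.primeCompl)
    refine ⟨algebraMap R H a, ?_, (IsScalarTower.algebraMap_apply R H C a).symm⟩
    intro h
    apply ha
    rw [← hQ]
    exact h
  obtain ⟨e2⟩ := nonempty_fiberEquivQuot R CT p hu
  -- the ideals agree
  have hI : (Q.map (algebraMap H C)).map (algebraMap C CT) = p.map (algebraMap R CT) := by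
    apply le_antisymm
    · rw [Ideal.map_map, Ideal.map_le_iff_le_comap]
      intro x hx
      obtain ⟨t, ht, htx⟩ := hU x hx
      have hunit : IsUnit (algebraMap C CT (algebraMap H C t)) :=
        IsLocalization.map_units CT (⟨algebraMap H C t, t, ht, rfl⟩ :
          Algebra.algebraMapSubmonoid C Q.primeCompl)
      have h1 : ((algebraMap C CT).comp (algebraMap H C)) (t * x) ∈ p.map (algebraMap R CT) := by
        have := Ideal.mem_map_of_mem ((algebraMap C CT).comp (algebraMap H C)) htx
        rw [Ideal.map_map] at this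
        convert this using 2
        ext r
        simp [← IsScalarTower.algebraMap_apply]
      rw [map_mul] at h1
      rw [Ideal.mem_comap]
      exact (Ideal.unit_mul_mem_iff_mem _ hunit).mp h1
    · have h1 : p.map (algebraMap R CT) =
          ((p.map (algebraMap R H)).map (algebraMap H C)).map (algebraMap C CT) := by
        rw [Ideal.map_map, Ideal.map_map]
        congr 1
        ext r
        simp [← IsScalarTower.algebraMap_apply]
      rw [h1]
      apply Ideal.map_mono
      apply Ideal.map_mono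
      rw [← hQ]
      exact Ideal.map_comap_le
  refine ⟨e1.toRingEquiv.trans ((Ideal.quotEquivOfEq hI).trans e2.symm.toRingEquiv), ?_⟩
  intro c
  have h1 : e1 (1 ⊗ₜ c) = Ideal.Quotient.mk _ (algebraMap C CT c) := by
    exact e1.commutes c
  have h2 : e2 (1 ⊗ₜ (algebraMap C CT c)) = Ideal.Quotient.mk _ (algebraMap C CT c) := by
    exact e2.commutes (algebraMap C CT c)
  simp only [RingEquiv.trans_apply, AlgEquiv.coe_ringEquiv]
  rw [h1, Ideal.quotEquivOfEq_mk, ← h2]
  exact e2.symm_apply_apply _

end Loc

section Sep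
variable {R H : Type u} [CommRing R] [CommRing H] [Algebra R H]

theorem isSeparable_of_fibre (Q : Ideal H) [Q.IsPrime]
    (hv : IsVNR ((Q.under R).ResidueField ⊗[R] H))
    (hs : ∀ (m : Ideal ((Q.under R).ResidueField ⊗[R] H)) [m.IsMaximal],
      Algebra.IsSeparable (Q.under R).ResidueField (((Q.under R).ResidueField ⊗[R] H) ⧸ m)) :
    letI := Localization.AtPrime.algebraOfLiesOver (Q.under R) Q
    Algebra.IsSeparable (Q.under R).ResidueField Q.ResidueField := by
  letI := Localization.AtPrime.algebraOfLiesOver (Q.under R) Q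
  haveI i0' : IsScalarTower R (Localization.AtPrime (Q.under R)) (Localization.AtPrime Q) := by
    refine IsScalarTower.of_algebraMap_eq (fun r => ?_)
    rw [Localization.AtPrime.IsLiesOverAlgebra.algebraMap_eq (p := Q.under R) (P := Q)]
    rw [Localization.localRingHom_to_map, ← IsScalarTower.algebraMap_apply]
  let ψ : (Q.under R).ResidueField ⊗[R] H →ₐ[(Q.under R).ResidueField] Q.ResidueField :=
    Algebra.TensorProduct.lift (Algebra.ofId (Q.under R).ResidueField Q.ResidueField)
      (IsScalarTower.toAlgHom R H Q.ResidueField)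
      (fun _ _ => Commute.all _ _)
  haveI : (RingHom.ker ψ).IsPrime := RingHom.ker_isPrime ψ
  haveI := hv.isMaximal (RingHom.ker ψ)
  haveI := hs (RingHom.ker ψ)
  have key : ∀ u, IsSeparable (Q.under R).ResidueField (ψ u) := by
    intro u
    have h1 := Algebra.IsSeparable.isSeparable (Q.under R).ResidueField
      (Ideal.Quotient.mk (RingHom.ker ψ) u)
    have h2 := h1.map (Ideal.kerLiftAlg ψ) (Ideal.kerLiftAlg_injective ψ)
    rwa [Ideal.kerLiftAlg_mk] at h2
  refine ⟨fun z => ?_⟩
  obtain ⟨a, b, hb, rfl⟩ := IsFractionRing.div_surjective (A := H ⧸ Q) z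
  obtain ⟨a', rfl⟩ := Ideal.Quotient.mk_surjective a
  obtain ⟨b', rfl⟩ := Ideal.Quotient.mk_surjective b
  have ha : ∀ h : H, algebraMap (H ⧸ Q) Q.ResidueField (Ideal.Quotient.mk Q h) = ψ (1 ⊗ₜ h) := by
    intro h
    simp only [ψ, Algebra.TensorProduct.lift_tmul, map_one, one_mul, IsScalarTower.coe_toAlgHom']
    exact (IsScalarTower.algebraMap_apply H (H ⧸ Q) Q.ResidueField h).symm
  rw [ha, ha, div_eq_mul_inv]
  exact Field.isSeparable_mul (key _) (Field.isSeparable_inv (key _))

end Sep

section Cancel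
variable (R H C : Type u) [CommRing R] [CommRing H] [CommRing C] [Algebra R H] [Algebra H C]
  [Algebra R C] [IsScalarTower R H C]

theorem isRegularHom_cancel [IsNoetherianRing C] [Module.Flat H C]
    (hRC : CAlg.IsRegularHom R C)
    (hv : ∀ (p : Ideal R) [p.IsPrime], IsVNR (p.ResidueField ⊗[R] H))
    (hsep : ∀ (Q : Ideal H) [Q.IsPrime],
      letI := Localization.AtPrime.algebraOfLiesOver (Q.under R) Q
      Algebra.IsSeparable (Q.under R).ResidueField Q.ResidueField) :
    CAlg.IsRegularHom H C := by
  refine ⟨inferInstance, fun Q hQ =>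
    ⟨Groth.Agent.Helper2.RegBC.isNoetherianRing_fiber H C Q, ?_⟩⟩
  letI := Localization.AtPrime.algebraOfLiesOver (Q.under R) Q
  haveI i0' : IsScalarTower R (Localization.AtPrime (Q.under R)) (Localization.AtPrime Q) := by
    refine IsScalarTower.of_algebraMap_eq (fun r => ?_)
    rw [Localization.AtPrime.IsLiesOverAlgebra.algebraMap_eq (p := Q.under R) (P := Q)]
    rw [Localization.localRingHom_to_map, ← IsScalarTower.algebraMap_apply]
  haveI := hsep Q
  haveI : IsScalarTower (Q.under R).ResidueField Q.ResidueField (Q.Fiber C) :=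
    IsScalarTower.of_algebraMap_eq (fun z => by
      rw [Algebra.TensorProduct.algebraMap_apply, Algebra.TensorProduct.algebraMap_apply,
        Algebra.algebraMap_self, RingHom.id_apply])
  apply Groth.Agent.Helper2.SepAlg.geomRegular_of_geomRegular_bot (Q.under R).ResidueField
    Q.ResidueField (Q.Fiber C)
  obtain ⟨e, he⟩ := exists_fiber_equiv (C := C) Q (Q.under R) rfl
    (fun x hx => factU Q (Q.under R) rfl (hv (Q.under R)) hx)
  haveI : IsNoetherianRing (Localization (Algebra.algebraMapSubmonoid C Q.primeCompl)) :=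
    IsLocalization.isNoetherianRing (Algebra.algebraMapSubmonoid C Q.primeCompl) _ inferInstance
  have hRCT : CAlg.IsRegularHom R (Localization (Algebra.algebraMapSubmonoid C Q.primeCompl)) :=
    Groth.Agent.Helper2.RegComp.isRegularHom_comp R C _ hRC
      (Groth.Agent.Helper2.LocHom.isRegularHom_localization_self C
        (Algebra.algebraMapSubmonoid C Q.primeCompl) _)
      (fun p' _ => Groth.Agent.Helper2.RegBC.isNoetherianRing_fiber R _ p')
  have hY := (hRCT.2 (Q.under R)).2
  have hlin : ∀ z : (Q.under R).ResidueField,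
      e (algebraMap (Q.under R).ResidueField (Q.Fiber C) z) =
        algebraMap (Q.under R).ResidueField
          ((Q.under R).Fiber (Localization (Algebra.algebraMapSubmonoid C Q.primeCompl))) z := by
    have h1 : (e : Q.Fiber C →+* _).comp (algebraMap (Q.under R).ResidueField (Q.Fiber C)) =
        algebraMap (Q.under R).ResidueField
          ((Q.under R).Fiber (Localization (Algebra.algebraMapSubmonoid C Q.primeCompl))) := by
      apply Ideal.ResidueField.ringHom_ext
      ext r
      simp only [RingHom.comp_apply]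
      have e1 : algebraMap (Q.under R).ResidueField (Q.Fiber C)
          (algebraMap R (Q.under R).ResidueField r) =
          (1 : Q.ResidueField) ⊗ₜ[H] (algebraMap R C r) := by
        rw [Algebra.TensorProduct.algebraMap_apply,
          ← IsScalarTower.algebraMap_apply R (Q.under R).ResidueField Q.ResidueField,
          IsScalarTower.algebraMap_apply R H Q.ResidueField,
          Algebra.algebraMap_eq_smul_one, TensorProduct.smul_tmul, ← Algebra.algebraMap_eq_smul_one,
          ← IsScalarTower.algebraMap_apply]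
      rw [e1]
      show e ((1 : Q.ResidueField) ⊗ₜ[H] (algebraMap R C r)) = _
      rw [he, ← IsScalarTower.algebraMap_apply, Algebra.TensorProduct.algebraMap_apply,
        Algebra.algebraMap_self, RingHom.id_apply, Algebra.algebraMap_eq_smul_one (A := Localization _),
        ← TensorProduct.smul_tmul, ← Algebra.algebraMap_eq_smul_one]
    exact fun z => RingHom.congr_fun h1 z
  let e' : Q.Fiber C ≃ₐ[(Q.under R).ResidueField]
      (Q.under R).Fiber (Localization (Algebra.algebraMapSubmonoid C Q.primeCompl)) :=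
    AlgEquiv.ofRingEquiv (f := e) hlin
  intro k'' _ _ hfin
  haveI := hY k'' hfin
  exact IsRegularRing.of_ringEquiv
    (R := k'' ⊗[(Q.under R).ResidueField]
      (Q.under R).Fiber (Localization (Algebra.algebraMapSubmonoid C Q.primeCompl)))
    (Algebra.TensorProduct.congr (AlgEquiv.refl : k'' ≃ₐ[(Q.under R).ResidueField] k'')
      e'.symm).toRingEquiv

end Cancel

section Main

theorem IsVNR.of_ringEquiv {A B : Type*} [CommRing A] [CommRing B] (e : A ≃+* B) (h : IsVNR A) :
    IsVNR B := by
  intro x
  obtain ⟨y, hy⟩ := h (e.symm x)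
  refine ⟨e y, ?_⟩
  apply e.symm.injective
  rw [map_mul, map_mul, e.symm_apply_apply, hy]

/-- a Noetherian von Neumann regular ring is regular. -/
theorem isRegularRing_of_isVNR (A : Type u) [CommRing A] [IsNoetherianRing A] (h : IsVNR A) :
    IsRegularRing A := by
  rw [isRegularRing_iff]
  intro P hP
  apply Groth.Agent.Helper2.SmoothDense.isRegularLocalRing_of_isField
  rw [IsLocalRing.isField_iff_maximalIdeal_eq, eq_bot_iff]
  intro z hz
  obtain ⟨a, s, rfl⟩ := IsLocalization.exists_mk'_eq P.primeCompl z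
  rw [IsLocalization.AtPrime.mk'_mem_maximal_iff (Localization.AtPrime P) P] at hz
  rw [Ideal.mem_bot, IsLocalization.mk'_eq_zero_iff]
  obtain ⟨y, hy⟩ := h a
  refine ⟨⟨1 - a * y, ?_⟩, ?_⟩
  · intro h1
    apply hP.ne_top
    rw [Ideal.eq_top_iff_one]
    have : (1 : A) = (1 - a * y) + a * y := by ring
    rw [this]
    exact P.add_mem h1 (P.mul_mem_right _ hz)
  · show (1 - a * y) * a = 0
    rw [sub_mul, one_mul, mul_comm (a * y) a, ← mul_assoc, hy, sub_self]

variable (R : Type u) [CommRing R] [IsNoetherianRing R] (Ω : Type u) [Field Ω] [Algebra R Ω]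

/-- `R → Hens R Ω` is a regular homomorphism. -/
theorem isRegularHom_hens [IsNoetherianRing (Hens R Ω)] : CAlg.IsRegularHom R (Hens R Ω) := by
  refine ⟨inferInstance, fun p hp =>
    ⟨Groth.Agent.Helper2.RegBC.isNoetherianRing_fiber R (Hens R Ω) p, ?_⟩⟩
  intro k' _ _ hfin
  haveI := hfin
  haveI : IsNoetherianRing (p.Fiber (Hens R Ω)) :=
    Groth.Agent.Helper2.RegBC.isNoetherianRing_fiber R (Hens R Ω) p
  haveI : IsNoetherianRing (k' ⊗[p.ResidueField] (p.Fiber (Hens R Ω))) :=
    Groth.Agent.Helper2.GeomNor.isNoetherianRing_tensor p.ResidueField _ k'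
  letI : Algebra R k' :=
    ((algebraMap p.ResidueField k').comp (algebraMap R p.ResidueField)).toAlgebra
  haveI : IsScalarTower R p.ResidueField k' := IsScalarTower.of_algebraMap_eq (fun _ => rfl)
  let e1 : k' ⊗[p.ResidueField] (p.ResidueField ⊗[R] Hens R Ω) ≃ₐ[k'] k' ⊗[R] Hens R Ω :=
    Algebra.TensorProduct.cancelBaseChange R p.ResidueField k' k' (Hens R Ω)
  exact isRegularRing_of_isVNR _ (IsVNR.of_ringEquiv e1.symm.toRingEquiv (isVNR_fibre k'))

theorem isSeparable_hens (Q : Ideal (Hens R Ω)) [Q.IsPrime] :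
    letI := Localization.AtPrime.algebraOfLiesOver (Q.under R) Q
    Algebra.IsSeparable (Q.under R).ResidueField Q.ResidueField :=
  isSeparable_of_fibre Q (isVNR_fibre _) (fun m _ => isSeparable_quotient _ m)

end Main

section Final
variable (R : Type u) [CommRing R] [IsLocalRing R] [IsNoetherianRing R]

theorem hh_iff [IsNoetherianRing (Hh R)] :
    CAlg.IsRegularHom (Hh R) (EGA4.Cpl (Hh R)) ↔ CAlg.IsRegularHom R (EGA4.Cpl R) := by
  have hm : (maximalIdeal R).map (algebraMap R (Hh R)) = maximalIdeal (Hh R) :=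
    map_maximalIdeal_of_isHenselization R (Hh R)
  have hk : Function.Surjective (ResidueField.map (algebraMap R (Hh R))) :=
    (residueField_map_bijective_of_isHenselization R (Hh R)).2
  obtain ⟨e⟩ := Groth.Agent.Helper2.AdicHom.nonempty_cpl_algEquiv R (Hh R) hm hk
  haveI : IsScalarTower R (Hh R) (EGA4.Cpl (Hh R)) := IsScalarTower.of_algebraMap_eq (fun a => rfl)
  haveI := Groth.Agent.Helper2.CplIff.noeth (Hh R)
  haveI := Groth.Agent.Helper2.CplIff.ff (Hh R)
  constructor
  · intro h
    have h1 : CAlg.IsRegularHom R (EGA4.Cpl (Hh R)) :=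
      Groth.Agent.Helper2.RegComp.isRegularHom_comp R (Hh R) _ (isRegularHom_hens R _) h
        (fun p _ => Groth.Agent.Helper2.RegBC.isNoetherianRing_fiber R _ p)
    exact Groth.Agent.Helper2.RegBC2.isRegularHom_of_algEquiv R _ _ e.symm h1
  · intro h
    have h1 : CAlg.IsRegularHom R (EGA4.Cpl (Hh R)) :=
      Groth.Agent.Helper2.RegBC2.isRegularHom_of_algEquiv R _ _ e h
    exact isRegularHom_cancel R (Hh R) (EGA4.Cpl (Hh R)) h1
      (fun p _ => isVNR_fibre p.ResidueField) (fun Q _ => isSeparable_hens R _ Q)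

/-- the statement S2772 -/
theorem main (S : Type u) [CommRing S] [IsLocalRing S] [Algebra R S]
    [IsLocalHom (algebraMap R S)] [Hensel.IsHenselization R S] :
    CAlg.IsRegularHom S (AdicCompletion (IsLocalRing.maximalIdeal S) S) ↔
      CAlg.IsRegularHom R (AdicCompletion (IsLocalRing.maximalIdeal R) R) := by
  haveI := Hh.isNoetherianRing R
  haveI := isNoetherianRing_of_isHenselization R S
  rw [← hh_iff R]
  exact ⟨Groth.Agent.Helper2.GLoc.isRegularHom_cpl_of_ringEquiv
      (equivOfIsHenselization (R := R) S).toRingEquiv,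
    Groth.Agent.Helper2.GLoc.isRegularHom_cpl_of_ringEquiv
      (equivOfIsHenselization (R := R) S).symm.toRingEquiv⟩

end Final

end Groth.Agent.Helper2.HensGReg
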