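import Mathlib
import Groth.Prelude
import Groth.Agent.Helper2.HensFib
import Groth.Agent.Helper2.HensGReg
import Groth.Agent.Helper1.HensStrictTransfer

set_option autoImplicit false
set_option linter.style.haveILetI false
set_option linter.unusedSectionVars false

/-!
# S16577: immediate étale generizations
-/

namespace Groth.Agent.Helper2.ImmGen

universe u

open TensorProduct IsLocalRing Groth.Agent.Helper1.Hens Groth.Agent.Helper2.HensFib

section generic

variable {R T : Type u} [CommRing R] [CommRing T] [Algebra R T] [Module.Flat R T]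

/-- going down: a minimal prime over `pT` contracts to `p` -/
theorem comap_eq_of_mem_minimalPrimes_map (p : Ideal R) [p.IsPrime] (P : Ideal T)
    (hP : P ∈ (p.map (algebraMap R T)).minimalPrimes) : P.comap (algebraMap R T) = p := by
  haveI : P.IsPrime := hP.1.1
  have hpP : p ≤ P.comap (algebraMap R T) := Ideal.map_le_iff_le_comap.mp hP.1.2
  by_contra hne
  have hlt : p < P.comap (algebraMap R T) := lt_of_le_of_ne hpP (fun h => hne h.symm)
  haveI : P.LiesOver (P.comap (algebraMap R T)) := ⟨rfl⟩
  obtain ⟨P', hP'lt, hP'prime, hP'q⟩ :=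
    Ideal.exists_ideal_lt_liesOver_of_lt (p := p) (q := P.comap (algebraMap R T)) P hlt
  have h1 : p.map (algebraMap R T) ≤ P' := by
    rw [Ideal.map_le_iff_le_comap, hP'q.over]
  exact absurd (hP.2 ⟨hP'prime, h1⟩ hP'lt.le) (not_le_of_gt hP'lt)

omit [Module.Flat R T] in
/-- if the fibre over `p` is von Neumann regular, there are no strict inclusions between primes
over `p` -/
theorem eq_of_le_of_isVNR (p : Ideal R) [p.IsPrime] (hv : IsVNR (p.Fiber T))
    (P P' : Ideal T) [P.IsPrime] [P'.IsPrime] (hP : P.comap (algebraMap R T) = p)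
    (hP' : P'.comap (algebraMap R T) = p) (hle : P' ≤ P) : P' = P := by
  let α := PrimeSpectrum.primesOverOrderIsoFiber R T p
  let x : p.primesOver T := ⟨P, inferInstance, ⟨hP.symm⟩⟩
  let x' : p.primesOver T := ⟨P', inferInstance, ⟨hP'.symm⟩⟩
  have h1 : α x' ≤ α x := α.monotone (show x' ≤ x from hle)
  haveI : (α x').asIdeal.IsMaximal := hv.isMaximal _
  have h2 : (α x').asIdeal = (α x).asIdeal :=
    Ideal.IsMaximal.eq_of_le inferInstance (α x).2.ne_top h1
  have h3 : α x' = α x := PrimeSpectrum.ext h2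
  have h4 : x' = x := α.injective h3
  exact congrArg Subtype.val h4

end generic

section main

variable (A : Type u) [CommRing A] [IsNoetherianRing A] [IsLocalRing A]
    (S' : Type u) [CommRing S'] [IsLocalRing S'] [Algebra A S'] [IsLocalHom (algebraMap A S')]
    [Hensel.IsStrictHenselization A S']

theorem isVNR_fiber (p : Ideal A) [p.IsPrime] : IsVNR (p.Fiber S') := by
  let e := equivOfIsStrictHenselization A S'
  exact Groth.Agent.Helper2.HensGReg.IsVNR.of_ringEquiv
    (Algebra.TensorProduct.congr (AlgEquiv.refl : p.ResidueField ≃ₐ[A] p.ResidueField)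
      e.symm).toRingEquiv (isVNR_fibre p.ResidueField)

theorem s16577 (p : Ideal A) [p.IsPrime] :
    (∃ P ∈ (p.map (algebraMap A S')).minimalPrimes, ringKrullDim (S' ⧸ P) = 1) ↔
    (∃ P : Ideal S', P.IsPrime ∧ P.comap (algebraMap A S') = p ∧ ringKrullDim (S' ⧸ P) = 1) := by
  haveI := faithfullyFlat_of_isStrictHenselization A S'
  constructor
  · rintro ⟨P, hP, hdim⟩
    exact ⟨P, hP.1.1, comap_eq_of_mem_minimalPrimes_map p P hP, hdim⟩
  · rintro ⟨P, hPp, hPc, hdim⟩
    haveI := hPp
    have hle : p.map (algebraMap A S') ≤ P := by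
      rw [Ideal.map_le_iff_le_comap, hPc]
    obtain ⟨P', hP', hP'P⟩ := Ideal.exists_minimalPrimes_le hle
    haveI : P'.IsPrime := hP'.1.1
    have h1 := comap_eq_of_mem_minimalPrimes_map p P' hP'
    have h2 : P' = P := eq_of_le_of_isVNR p (isVNR_fiber A S' p) P P' hPc h1 hP'P
    exact ⟨P, h2 ▸ hP', hdim⟩

end main

end Groth.Agent.Helper2.ImmGen
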