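import Mathlib
import Groth.Prelude
import Groth.Agent.Helper2.IdemDesc6
import Groth.Agent.Helper2.ImmGen
import Groth.Agent.Helper5.RelDepth3

set_option autoImplicit false
set_option linter.style.haveILetI false

/-! Existence of one-dimensional components upstairs, and `S16578`. -/

universe u

namespace Groth.Agent.Helper2.IdemDesc

open IsLocalRing Groth.Agent.Helper1.Hens Groth.Agent.Helper1

section Dim

theorem isLocalHom_of_max' {H H' : Type*} [CommRing H] [IsLocalRing H]
    [CommRing H'] [IsLocalRing H'] [Algebra H H']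
    (hmax : maximalIdeal H' = (maximalIdeal H).map (algebraMap H H')) :
    IsLocalHom (algebraMap H H') := by
  refine ⟨fun x hx => ?_⟩
  by_contra hx'
  have : x ∈ maximalIdeal H := hx'
  have h2 : algebraMap H H' x ∈ maximalIdeal H' := hmax ▸ Ideal.mem_map_of_mem _ this
  exact h2 hx

theorem dim_le {H H' : Type*} [CommRing H] [IsLocalRing H] [IsNoetherianRing H]
    [CommRing H'] [IsLocalRing H'] [IsNoetherianRing H'] [Algebra H H']
    (hmax : maximalIdeal H' = (maximalIdeal H).map (algebraMap H H')) :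
    ringKrullDim H' ≤ ringKrullDim H := by
  haveI : IsLocalHom (algebraMap H H') := isLocalHom_of_max' hmax
  have h := Groth.Agent.Helper5.RelDepth.ringKrullDim_le_quot_add (R := H) (S := H')
  rw [← hmax] at h
  have hf : IsField (H' ⧸ maximalIdeal H') :=
    (Ideal.Quotient.maximal_ideal_iff_isField_quotient _).mp (maximalIdeal.isMaximal H')
  rwa [ringKrullDim_eq_zero_of_isField hf, zero_add] at h

variable {H H' : Type u} [CommRing H] [IsNoetherianRing H] [HenselianLocalRing H]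
  [CommRing H'] [IsLocalRing H'] [IsNoetherianRing H'] [Algebra H H'] [Module.Flat H H']

theorem exists_over (hmax : maximalIdeal H' = (maximalIdeal H).map (algebraMap H H'))
    (hsurj : ∀ n : ℕ, ∀ x : H', ∃ a : H,
      x - algebraMap H H' a ∈ ((maximalIdeal H) ^ n).map (algebraMap H H'))
    (P : Ideal H) [hP : P.IsPrime] (hdim : ringKrullDim (H ⧸ P) = 1) :
    ∃ Q ∈ (P.map (algebraMap H H')).minimalPrimes, ringKrullDim (H' ⧸ Q) = 1 := by
  set K : Ideal H' := P.map (algebraMap H H') with hK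
  haveI : IsLocalHom (algebraMap H H') := isLocalHom_of_max (H := H) (H' := H') hmax
  have hKtop : K ≠ ⊤ := by
    intro h
    have hle : K ≤ maximalIdeal H' := by
      rw [hmax]; exact Ideal.map_mono (IsLocalRing.le_maximalIdeal hP.ne_top)
    exact (maximalIdeal.isMaximal H').ne_top (top_le_iff.mp (h ▸ hle))
  haveI : Nontrivial (H ⧸ P) := Ideal.Quotient.nontrivial_iff.mpr hP.ne_top
  haveI : IsLocalRing (H ⧸ P) :=
    IsLocalRing.of_surjective' (Ideal.Quotient.mk P) Ideal.Quotient.mk_surjective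
  haveI : Nontrivial (H' ⧸ K) := Ideal.Quotient.nontrivial_iff.mpr hKtop
  haveI : IsLocalRing (H' ⧸ K) :=
    IsLocalRing.of_surjective' (Ideal.Quotient.mk K) Ideal.Quotient.mk_surjective
  haveI : Module.Flat (H ⧸ P) (H' ⧸ K) := flat_quotient_map H H' P
  obtain ⟨hmax', -⟩ := transfer (H := H) (H' := H') hmax hsurj P
  haveI : IsLocalHom (algebraMap (H ⧸ P) (H' ⧸ K)) := isLocalHom_of_max' hmax'
  haveI : Module.FaithfullyFlat (H ⧸ P) (H' ⧸ K) := Module.FaithfullyFlat.of_flat_of_isLocalHom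
  have hle1 : ringKrullDim (H ⧸ P) ≤ ringKrullDim (H' ⧸ K) :=
    Groth.Agent.Helper1.Hens.ringKrullDim_le_of_faithfullyFlat (H ⧸ P) (H' ⧸ K)
  have hle2 : ringKrullDim (H' ⧸ K) ≤ ringKrullDim (H ⧸ P) := dim_le hmax'
  have hd : ringKrullDim (H' ⧸ K) = 1 := by rw [← hdim]; exact le_antisymm hle2 hle1
  -- a chain of length one
  have h1le : ((1 : ℕ) : WithBot ℕ∞) ≤ ringKrullDim (H' ⧸ K) := by rw [hd]; rfl
  obtain ⟨l, hl⟩ := (Order.le_krullDim_iff).mp h1le
  have hlt : l ⟨0, by omega⟩ < l ⟨1, by omega⟩ := l.strictMono (by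
    show (0 : ℕ) < 1
    omega)
  obtain ⟨q₀, hq₀, hq₀le⟩ := Ideal.exists_minimalPrimes_le
    (bot_le : (⊥ : Ideal (H' ⧸ K)) ≤ (l ⟨0, by omega⟩).asIdeal)
  haveI hq₀p : q₀.IsPrime := hq₀.1.1
  have hq₀lt : q₀ < (l ⟨1, by omega⟩).asIdeal := lt_of_le_of_lt hq₀le hlt
  have hd0 : ringKrullDim ((H' ⧸ K) ⧸ q₀) = 1 :=
    le_antisymm ((ringKrullDim_quotient_le q₀).trans hd.le)
      (one_le_dim_quotient (H' ⧸ K) q₀ (l ⟨1, by omega⟩).asIdeal hq₀lt)
  let mk := Ideal.Quotient.mk K
  have hmks : Function.Surjective mk := Ideal.Quotient.mk_surjective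
  have hker : RingHom.ker mk = K := Ideal.mk_ker
  have hminset : minimalPrimes (H' ⧸ K) = Ideal.map mk '' K.minimalPrimes := by
    have := Ideal.minimalPrimes_map_of_surjective hmks (⊥ : Ideal H')
    rw [Ideal.map_bot, hker, bot_sup_eq] at this
    exact this
  change q₀ ∈ minimalPrimes (H' ⧸ K) at hq₀
  rw [hminset] at hq₀
  obtain ⟨Q, hQ, rfl⟩ := hq₀
  refine ⟨Q, hQ, ?_⟩
  rw [← hd0]
  exact (ringKrullDim_eq_of_ringEquiv (DoubleQuot.quotQuotEquivQuotOfLE hQ.1.2)).symm

end Dim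

section S16578

variable (A : Type u) [CommRing A] [IsNoetherianRing A] [IsLocalRing A]
  (S' : Type u) [CommRing S'] [IsLocalRing S'] [Algebra A S'] [IsLocalHom (algebraMap A S')]
  [hS : Hensel.IsStrictHenselization A S']
  (T' : Type u) [CommRing T'] [IsLocalRing T'] [Algebra (AdicCompletion (maximalIdeal A) A) T']
  [IsLocalHom (algebraMap (AdicCompletion (maximalIdeal A) A) T')]
  [hT : Hensel.IsStrictHenselization (AdicCompletion (maximalIdeal A) A) T']

local notation "Ah" => AdicCompletion (maximalIdeal A) A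

open Groth.Agent.Helper2.ImmGen in
theorem s16578 (p : Ideal A) [p.IsPrime] :
    (∃ P ∈ (p.map (algebraMap A S')).minimalPrimes, ringKrullDim (S' ⧸ P) = 1) ↔
    (∃ q ∈ (p.map (algebraMap A Ah)).minimalPrimes,
      ∃ Q ∈ (q.map (algebraMap Ah T')).minimalPrimes, ringKrullDim (T' ⧸ Q) = 1) := by
  haveI hNC : IsNoetherianRing Ah := Groth.Agent.S0543.result A (maximalIdeal A)
  haveI : IsNoetherianRing S' := isNoetherianRing_of_isStrictHenselization A S'
  haveI : IsNoetherianRing T' := isNoetherianRing_of_isStrictHenselization Ah T'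
  haveI : HenselianLocalRing S' := hS.henselian
  haveI : Module.FaithfullyFlat A S' := faithfullyFlat_of_isStrictHenselization A S'
  haveI : Module.FaithfullyFlat Ah T' := faithfullyFlat_of_isStrictHenselization Ah T'
  haveI : Module.Flat A Ah := AdicCompletion.flat_of_isNoetherian (maximalIdeal A)
  obtain ⟨f, hf1, hflat, hmax, hsurj⟩ := exists_map_strict A S' T'
  letI : Algebra S' T' := f.toAlgebra
  haveI := hflat
  letI : Algebra A T' := ((algebraMap Ah T').comp (algebraMap A Ah)).toAlgebra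
  haveI : IsScalarTower A Ah T' := IsScalarTower.of_algebraMap_eq (fun _ => rfl)
  haveI : IsScalarTower A S' T' := IsScalarTower.of_algebraMap_eq (fun a => (congr($hf1 a)).symm)
  have hcomapS : ∀ Q : Ideal T', (Q.comap (algebraMap S' T')).comap (algebraMap A S') =
      (Q.comap (algebraMap Ah T')).comap (algebraMap A Ah) := by
    intro Q
    rw [Ideal.comap_comap, Ideal.comap_comap, ← IsScalarTower.algebraMap_eq,
      ← IsScalarTower.algebraMap_eq]
  constructor
  · rintro ⟨P, hP, hdim⟩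
    haveI hPp : P.IsPrime := hP.1.1
    have hPA : P.comap (algebraMap A S') = p := comap_eq_of_mem_minimalPrimes_map p P hP
    obtain ⟨Q, hQ, hQdim⟩ := exists_over (H := S') (H' := T') hmax hsurj P hdim
    haveI hQp : Q.IsPrime := hQ.1.1
    have hQS : Q.comap (algebraMap S' T') = P := comap_eq_of_mem_minimalPrimes_map P Q hQ
    set q' : Ideal Ah := Q.comap (algebraMap Ah T') with hq'
    haveI : q'.IsPrime := Ideal.comap_isPrime _ _
    have hq'A : q'.comap (algebraMap A Ah) = p := by rw [hq', ← hcomapS, hQS, hPA]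
    have hq'min : q' ∈ (p.map (algebraMap A Ah)).minimalPrimes := by
      refine ⟨⟨inferInstance, by rw [Ideal.map_le_iff_le_comap, hq'A]⟩, ?_⟩
      rintro q₀ ⟨hq₀p, hq₀le⟩ hq₀q'
      haveI := hq₀p
      have hq₀A : q₀.comap (algebraMap A Ah) = p := by
        apply le_antisymm
        · rw [← hq'A]; exact Ideal.comap_mono hq₀q'
        · exact Ideal.map_le_iff_le_comap.mp hq₀le
      haveI : Q.LiesOver q' := ⟨rfl⟩
      obtain ⟨Q₀, hQ₀le, hQ₀p, hQ₀lo⟩ :=
        Ideal.exists_ideal_le_liesOver_of_le (S := T') (p := q₀) (q := q') Q hq₀q'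
      haveI := hQ₀p
      have hQ₀c : Q₀.comap (algebraMap Ah T') = q₀ := hQ₀lo.over.symm
      set P₀ : Ideal S' := Q₀.comap (algebraMap S' T') with hP₀
      haveI : P₀.IsPrime := Ideal.comap_isPrime _ _
      have hP₀A : P₀.comap (algebraMap A S') = p := by rw [hP₀, hcomapS, hQ₀c, hq₀A]
      have hP₀P : P₀ ≤ P := by rw [← hQS]; exact Ideal.comap_mono hQ₀le
      have hPeq : P₀ = P := eq_of_le_of_isVNR p (isVNR_fiber A S' p) P P₀ hPA hP₀A hP₀P
      have h1 : P.map (algebraMap S' T') ≤ Q₀ := by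
        rw [Ideal.map_le_iff_le_comap, ← hPeq]
      have h2 : Q ≤ Q₀ := hQ.2 ⟨hQ₀p, h1⟩ hQ₀le
      rw [hq', ← hQ₀c]
      exact Ideal.comap_mono h2
    refine ⟨q', hq'min, ?_⟩
    exact (s16577 Ah T' q').mpr ⟨Q, hQp, rfl, hQdim⟩
  · rintro ⟨q, hq, Q, hQ, hQdim⟩
    haveI hqp : q.IsPrime := hq.1.1
    haveI hQp : Q.IsPrime := hQ.1.1
    have hQq : Q.comap (algebraMap Ah T') = q := comap_eq_of_mem_minimalPrimes_map q Q hQ
    have hqA : q.comap (algebraMap A Ah) = p := comap_eq_of_mem_minimalPrimes_map p q hq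
    set P : Ideal S' := Q.comap (algebraMap S' T') with hP
    haveI hPp : P.IsPrime := Ideal.comap_isPrime _ _
    have hPA : P.comap (algebraMap A S') = p := by rw [hP, hcomapS, hQq, hqA]
    have hQmin : Q ∈ (P.map (algebraMap S' T')).minimalPrimes := by
      refine ⟨⟨hQp, Ideal.map_comap_le⟩, ?_⟩
      rintro Q₀ ⟨hQ₀p, hQ₀le⟩ hQ₀Q
      haveI := hQ₀p
      have hP₀ : Q₀.comap (algebraMap S' T') = P := by
        apply le_antisymm
        · exact Ideal.comap_mono hQ₀Q
        · exact Ideal.map_le_iff_le_comap.mp hQ₀le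
      set q₀ : Ideal Ah := Q₀.comap (algebraMap Ah T') with hq₀
      haveI : q₀.IsPrime := Ideal.comap_isPrime _ _
      have hq₀A : q₀.comap (algebraMap A Ah) = p := by rw [hq₀, ← hcomapS, hP₀, hPA]
      have hq₀q : q₀ ≤ q := by rw [← hQq]; exact Ideal.comap_mono hQ₀Q
      have hqq₀ : q ≤ q₀ :=
        hq.2 ⟨inferInstance, by rw [Ideal.map_le_iff_le_comap, hq₀A]⟩ hq₀q
      have h1 : q.map (algebraMap Ah T') ≤ Q₀ := by
        rw [Ideal.map_le_iff_le_comap]; exact hqq₀
      exact hQ.2 ⟨hQ₀p, h1⟩ hQ₀Q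
    have hdimP := (unique_over (H := S') (H' := T') hmax hsurj P Q hQmin hQdim).2
    exact (s16577 A S' p).mpr ⟨P, hPp, hPA, hdimP⟩

end S16578

end Groth.Agent.Helper2.IdemDesc
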