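import Mathlib
import Groth.Prelude
import Groth.Agent.Helper2.IdemDesc7

set_option autoImplicit false
set_option linter.style.haveILetI false

/-! `core_ideal` with `I₁ ⊓ I₂` only assumed to be of finite length. -/

universe u

namespace Groth.Agent.Helper2.IdemDesc

open IsLocalRing

section CoreIdeal'

variable {H H' : Type*} [CommRing H] [IsNoetherianRing H] [HenselianLocalRing H]
  [CommRing H'] [IsLocalRing H'] [Algebra H H'] [Module.Flat H H']

theorem core_ideal' (hmax : maximalIdeal H' = (maximalIdeal H).map (algebraMap H H'))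
    (hsurj : ∀ n : ℕ, ∀ x : H', ∃ a : H,
      x - algebraMap H H' a ∈ ((maximalIdeal H) ^ n).map (algebraMap H H'))
    (I₁ I₂ : Ideal H') (k₀ : ℕ)
    (hI : ∀ x ∈ I₁ ⊓ I₂, ∀ y ∈ (maximalIdeal H) ^ k₀, y • x = 0) (N : ℕ)
    (hN : ((maximalIdeal H) ^ N).map (algebraMap H H') ≤ I₁ ⊔ I₂) :
    ∃ k : ℕ, ∀ y ∈ (maximalIdeal H) ^ k, ∃ a : H,
      algebraMap H H' a ∈ I₂ ∧ algebraMap H H' (y - a) ∈ I₁ := by
  by_cases hz : (maximalIdeal H) ^ k₀ = ⊥
  · refine ⟨k₀, fun y hy => ⟨0, by rw [map_zero]; exact I₂.zero_mem, ?_⟩⟩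
    rw [hz, Ideal.mem_bot] at hy
    rw [hy, sub_zero, map_zero]
    exact I₁.zero_mem
  haveI : IsLocalHom (algebraMap H H') := isLocalHom_of_max' hmax
  haveI : Module.FaithfullyFlat H H' := Module.FaithfullyFlat.of_flat_of_isLocalHom
  have hιinj : Function.Injective (algebraMap H H') := FaithfulSMul.algebraMap_injective H H'
  set ι := algebraMap H H' with hι
  set Γ' : Ideal H' := I₁ ⊓ I₂ with hΓ'
  set Γ : Ideal H := Γ'.comap ι with hΓ
  have hΓmap : Γ.map ι = Γ' := by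
    apply le_antisymm Ideal.map_comap_le
    intro x hx
    obtain ⟨s, -, hs⟩ := exists_of_smul_eq_zero ((maximalIdeal H) ^ k₀) (hsurj k₀) x (hI x hx)
    have hsΓ : s ∈ Γ := by
      rw [hΓ, Ideal.mem_comap]
      show algebraMap H H' s ∈ Γ'
      rw [hs]; exact hx
    rw [← hs]
    exact Ideal.mem_map_of_mem _ hsΓ
  have hΓtop : Γ ≠ ⊤ := by
    intro h
    apply hz
    rw [eq_bot_iff]
    intro y hy
    have h1 : (1 : H) ∈ Γ := h ▸ Submodule.mem_top
    rw [hΓ, Ideal.mem_comap, map_one] at h1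
    have := hI 1 h1 y hy
    rw [Algebra.smul_def, mul_one] at this
    rw [Ideal.mem_bot]
    exact hιinj (by rw [this, map_zero])
  have hΓm : Γ ≤ maximalIdeal H := IsLocalRing.le_maximalIdeal hΓtop
  set K : Ideal H' := Γ.map ι with hK
  have hKtop : K ≠ ⊤ := by
    intro h
    have hle : K ≤ maximalIdeal H' := by rw [hmax]; exact Ideal.map_mono hΓm
    exact (maximalIdeal.isMaximal H').ne_top (top_le_iff.mp (h ▸ hle))
  have hK₁ : K ≤ I₁ := hΓmap.le.trans inf_le_left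
  have hK₂ : K ≤ I₂ := hΓmap.le.trans inf_le_right
  haveI : Nontrivial (H ⧸ Γ) := Ideal.Quotient.nontrivial_iff.mpr hΓtop
  haveI : IsLocalRing (H ⧸ Γ) :=
    IsLocalRing.of_surjective' (Ideal.Quotient.mk Γ) Ideal.Quotient.mk_surjective
  haveI : Nontrivial (H' ⧸ K) := Ideal.Quotient.nontrivial_iff.mpr hKtop
  haveI : IsLocalRing (H' ⧸ K) :=
    IsLocalRing.of_surjective' (Ideal.Quotient.mk K) Ideal.Quotient.mk_surjective
  haveI : Algebra.IsIntegral H (H ⧸ Γ) :=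
    Algebra.isIntegral_of_surjective Ideal.Quotient.mk_surjective
  haveI : HenselianLocalRing (H ⧸ Γ) :=
    Groth.Agent.Helper2.HensInt.henselianLocalRing_of_isIntegral H (H ⧸ Γ)
  haveI : Module.Flat (H ⧸ Γ) (H' ⧸ K) := flat_quotient_map H H' Γ
  obtain ⟨hmax', hsurj'⟩ := transfer (H := H) (H' := H') hmax hsurj Γ
  let mk' := Ideal.Quotient.mk K
  have hmks : Function.Surjective mk' := Ideal.Quotient.mk_surjective
  have hcm : ∀ J : Ideal H', K ≤ J → (J.map mk').comap mk' = J := by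
    intro J hJ
    rw [Ideal.comap_map_of_surjective _ hmks, ← RingHom.ker_eq_comap_bot, Ideal.mk_ker]
    exact sup_eq_left.2 hJ
  have hIbar : I₁.map mk' ⊓ I₂.map mk' = ⊥ := by
    rw [eq_bot_iff]
    rintro x ⟨h1, h2⟩
    obtain ⟨x₁, rfl⟩ := hmks x
    have e1 : x₁ ∈ I₁ := by
      have : x₁ ∈ (I₁.map mk').comap mk' := h1
      rwa [hcm I₁ hK₁] at this
    have e2 : x₁ ∈ I₂ := by
      have : x₁ ∈ (I₂.map mk').comap mk' := h2
      rwa [hcm I₂ hK₂] at this
    have : x₁ ∈ K := by rw [hΓmap]; exact ⟨e1, e2⟩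
    rw [Ideal.mem_bot]
    exact Ideal.Quotient.eq_zero_iff_mem.mpr this
  have hcomp : (algebraMap (H ⧸ Γ) (H' ⧸ K)).comp (Ideal.Quotient.mk Γ) = mk'.comp ι := by
    ext x
    rfl
  have hpow : ∀ n : ℕ, ((maximalIdeal (H ⧸ Γ)) ^ n).map (algebraMap (H ⧸ Γ) (H' ⧸ K)) =
      (((maximalIdeal H) ^ n).map ι).map mk' := by
    intro n
    rw [← map_mk_maximalIdeal Γ, ← Ideal.map_pow, Ideal.map_map, hcomp, ← Ideal.map_map]
  have hNbar : ((maximalIdeal (H ⧸ Γ)) ^ N).map (algebraMap (H ⧸ Γ) (H' ⧸ K)) ≤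
      I₁.map mk' ⊔ I₂.map mk' := by
    rw [hpow N, ← Ideal.map_sup]
    exact Ideal.map_mono hN
  obtain ⟨k, hk⟩ := core_ideal (H := H ⧸ Γ) (H' := H' ⧸ K) hmax' hsurj' (I₁.map mk') (I₂.map mk')
    hIbar N hNbar
  refine ⟨k, fun y hy => ?_⟩
  have hybar : Ideal.Quotient.mk Γ y ∈ (maximalIdeal (H ⧸ Γ)) ^ k := by
    rw [← map_mk_maximalIdeal Γ, ← Ideal.map_pow]
    exact Ideal.mem_map_of_mem _ hy
  obtain ⟨abar, ha₂, ha₁⟩ := hk _ hybar
  obtain ⟨a, rfl⟩ := Ideal.Quotient.mk_surjective abar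
  refine ⟨a, ?_, ?_⟩
  · have : ι a ∈ (I₂.map mk').comap mk' := ha₂
    rwa [hcm I₂ hK₂] at this
  · have : ι (y - a) ∈ (I₁.map mk').comap mk' := by
      rw [Ideal.mem_comap]
      rw [← map_sub] at ha₁
      exact ha₁
    rwa [hcm I₁ hK₁] at this

end CoreIdeal'

section Gam

variable {R : Type*} [CommRing R]

/-- elements killed by a power of `J` -/
def gam (J : Ideal R) : Ideal R where
  carrier := {x | ∃ n : ℕ, ∀ y ∈ J ^ n, y * x = 0}
  add_mem' := by
    rintro a b ⟨n₁, h₁⟩ ⟨n₂, h₂⟩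
    refine ⟨max n₁ n₂, fun y hy => ?_⟩
    rw [mul_add, h₁ y (Ideal.pow_le_pow_right (le_max_left _ _) hy),
      h₂ y (Ideal.pow_le_pow_right (le_max_right _ _) hy), add_zero]
  zero_mem' := ⟨0, fun y _ => mul_zero y⟩
  smul_mem' := by
    rintro c x ⟨n, h⟩
    exact ⟨n, fun y hy => by rw [smul_eq_mul, mul_left_comm, h y hy, mul_zero]⟩

theorem mem_gam {J : Ideal R} {x : R} : x ∈ gam J ↔ ∃ n : ℕ, ∀ y ∈ J ^ n, y * x = 0 := Iff.rfl

theorem gam_le_of_not_le (J p : Ideal R) [hp : p.IsPrime] (h : ¬ J ≤ p) : gam J ≤ p := by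
  rintro x ⟨n, hn⟩
  have h2 : ¬ J ^ n ≤ p := fun hle => h (hp.le_of_pow_le hle)
  obtain ⟨y, hy, hyp⟩ := Set.not_subset.mp h2
  have : y * x ∈ p := by rw [hn y hy]; exact p.zero_mem
  exact (hp.mem_or_mem this).resolve_left hyp

theorem exists_kill' (q : Ideal R) [q.IsPrime] (J : Ideal R) (hJ : J.FG)
    (hle : ∀ x ∈ J, ∃ s ∉ q, s * x = 0) : ∃ s ∉ q, ∀ x ∈ J, s * x = 0 := by
  revert hle
  refine Submodule.fg_induction (motive := fun J _ => (∀ x ∈ J, ∃ s ∉ q, s * x = 0) →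
    ∃ s ∉ q, ∀ x ∈ J, s * x = 0) ?_ ?_ J hJ
  · intro x hx
    obtain ⟨s, hs, hsx⟩ := hx x (Submodule.mem_span_singleton_self x)
    refine ⟨s, hs, fun y hy => ?_⟩
    obtain ⟨a, rfl⟩ := Submodule.mem_span_singleton.mp hy
    rw [smul_eq_mul, mul_left_comm, hsx, mul_zero]
  · intro J₁ J₂ _ _ h₁ h₂ h
    obtain ⟨s₁, hs₁, e₁⟩ := h₁ (fun x hx => h x (Submodule.mem_sup_left hx))
    obtain ⟨s₂, hs₂, e₂⟩ := h₂ (fun x hx => h x (Submodule.mem_sup_right hx))
    refine ⟨s₁ * s₂, fun hmem => (Ideal.IsPrime.mem_or_mem inferInstance hmem).elim hs₁ hs₂,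
      fun x hx => ?_⟩
    obtain ⟨x₁, hx₁, x₂, hx₂, rfl⟩ := Submodule.mem_sup.mp hx
    have a1 := e₁ x₁ hx₁
    have a2 := e₂ x₂ hx₂
    linear_combination s₂ * a1 + s₁ * a2

theorem exists_mem_gam_notMem [IsNoetherianRing R] (J p : Ideal R) [hp : p.IsPrime]
    (h : ∀ p' : Ideal R, p'.IsPrime → p' ≤ p → J ≤ p') : ∃ s ∈ gam J, s ∉ p := by
  let A := Localization.AtPrime p
  set Np : Ideal R := RingHom.ker (algebraMap R A) with hNp
  have hNpmem : ∀ x, x ∈ Np ↔ ∃ s ∉ p, s * x = 0 := by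
    intro x
    rw [hNp, RingHom.mem_ker, IsLocalization.map_eq_zero_iff p.primeCompl]
    constructor
    · rintro ⟨s, hs⟩
      exact ⟨s.1, s.2, hs⟩
    · rintro ⟨s, hs, e⟩
      exact ⟨⟨s, hs⟩, e⟩
  have hrad : J ≤ Np.radical := by
    intro g hg
    have hnil : IsNilpotent (algebraMap R A g) := by
      rw [nilpotent_iff_mem_prime]
      intro 𝔓 h𝔓
      haveI := h𝔓
      have hle : 𝔓.comap (algebraMap R A) ≤ p := by
        have h1 : 𝔓.comap (algebraMap R A) ≤ (IsLocalRing.maximalIdeal A).comap (algebraMap R A) :=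
          Ideal.comap_mono (IsLocalRing.le_maximalIdeal h𝔓.ne_top)
        have h2 : (IsLocalRing.maximalIdeal A).comap (algebraMap R A) = p :=
          IsLocalization.AtPrime.under_maximalIdeal A p
        exact h1.trans h2.le
      exact h _ (Ideal.comap_isPrime _ _) hle hg
    obtain ⟨e, he⟩ := hnil
    exact ⟨e, by rw [hNp, RingHom.mem_ker, map_pow, he]⟩
  obtain ⟨n, hn⟩ := Ideal.exists_pow_le_of_le_radical_of_fg hrad
    ((isNoetherianRing_iff_ideal_fg R).mp inferInstance J)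
  obtain ⟨s, hsp, hs⟩ := exists_kill' p (J ^ n) ((isNoetherianRing_iff_ideal_fg R).mp inferInstance _)
    (fun x hx => (hNpmem x).mp (hn hx))
  exact ⟨s, ⟨n, fun y hy => by rw [mul_comm]; exact hs y hy⟩, hsp⟩

end Gam

section ThmD

variable {H H' : Type*} [CommRing H] [IsNoetherianRing H] [HenselianLocalRing H]
  [CommRing H'] [IsLocalRing H'] [IsNoetherianRing H'] [Algebra H H'] [Module.Flat H H']

/-- uniform killing power on a finitely generated ideal -/
theorem exists_uniform_kill (J : Ideal H') (hJ : J.FG)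
    (h : ∀ x ∈ J, ∃ k : ℕ, ∀ y ∈ (maximalIdeal H) ^ k, y • x = 0) :
    ∃ k : ℕ, ∀ x ∈ J, ∀ y ∈ (maximalIdeal H) ^ k, y • x = 0 := by
  revert h
  refine Submodule.fg_induction (motive := fun J _ =>
    (∀ x ∈ J, ∃ k : ℕ, ∀ y ∈ (maximalIdeal H) ^ k, y • x = 0) →
    ∃ k : ℕ, ∀ x ∈ J, ∀ y ∈ (maximalIdeal H) ^ k, y • x = 0) ?_ ?_ J hJ
  · intro x hx
    obtain ⟨k, hk⟩ := hx x (Submodule.mem_span_singleton_self x)
    refine ⟨k, fun z hz y hy => ?_⟩
    obtain ⟨a, rfl⟩ := Submodule.mem_span_singleton.mp hz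
    rw [smul_comm, hk y hy, smul_zero]
  · intro J₁ J₂ _ _ h₁ h₂ h
    obtain ⟨k₁, e₁⟩ := h₁ (fun x hx => h x (Submodule.mem_sup_left hx))
    obtain ⟨k₂, e₂⟩ := h₂ (fun x hx => h x (Submodule.mem_sup_right hx))
    refine ⟨max k₁ k₂, fun x hx y hy => ?_⟩
    obtain ⟨x₁, hx₁, x₂, hx₂, rfl⟩ := Submodule.mem_sup.mp hx
    rw [smul_add, e₁ x₁ hx₁ y (Ideal.pow_le_pow_right (le_max_left _ _) hy),
      e₂ x₂ hx₂ y (Ideal.pow_le_pow_right (le_max_right _ _) hy), add_zero]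

theorem punctured_preconnected_iff
    (hmax : maximalIdeal H' = (maximalIdeal H).map (algebraMap H H'))
    (hsurj : ∀ n : ℕ, ∀ x : H', ∃ a : H,
      x - algebraMap H H' a ∈ ((maximalIdeal H) ^ n).map (algebraMap H H')) :
    IsPreconnected ({closedPoint H'}ᶜ : Set (PrimeSpectrum H')) ↔
      IsPreconnected ({closedPoint H}ᶜ : Set (PrimeSpectrum H)) := by
  haveI : IsLocalHom (algebraMap H H') := isLocalHom_of_max' hmax
  haveI : Module.FaithfullyFlat H H' := Module.FaithfullyFlat.of_flat_of_isLocalHom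
  have hιinj : Function.Injective (algebraMap H H') := FaithfulSMul.algebraMap_injective H H'
  set ι := algebraMap H H' with hι
  set m := maximalIdeal H with hm
  set M' := maximalIdeal H' with hM'
  let φ := PrimeSpectrum.comap ι
  have hne : ∀ q : PrimeSpectrum H', q ≠ closedPoint H' ↔ q.asIdeal ≠ M' := by
    intro q
    rw [Ne, PrimeSpectrum.ext_iff]; rfl
  have hne0 : ∀ P : PrimeSpectrum H, P ≠ closedPoint H ↔ P.asIdeal ≠ m := by
    intro P
    rw [Ne, PrimeSpectrum.ext_iff]; rfl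
  have hφU : ∀ q : PrimeSpectrum H', q ≠ closedPoint H' → φ q ≠ closedPoint H := by
    intro q hq
    rw [hne] at hq
    rw [hne0]
    intro h
    apply hq
    have hle : M' ≤ q.asIdeal := by
      rw [hmax, Ideal.map_le_iff_le_comap]
      exact h.ge
    exact ((maximalIdeal.isMaximal H').eq_of_le q.2.ne_top hle).symm
  have hpowM : ∀ k : ℕ, ∀ y ∈ m ^ k, ι y ∈ M' ^ k := by
    intro k y hy
    rw [hmax, ← Ideal.map_pow]
    exact Ideal.mem_map_of_mem _ hy
  have hMfg : M'.FG := (isNoetherianRing_iff_ideal_fg H').mp inferInstance M'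
  constructor
  · intro hU'
    have himg : φ '' ({closedPoint H'}ᶜ : Set (PrimeSpectrum H')) = {closedPoint H}ᶜ := by
      apply Set.Subset.antisymm
      · rintro P ⟨q, hq, rfl⟩
        exact hφU q hq
      · intro P hP
        obtain ⟨q, rfl⟩ := PrimeSpectrum.comap_surjective_of_faithfullyFlat (A := H) (B := H') P
        refine ⟨q, ?_, rfl⟩
        intro hq
        apply hP
        rw [Set.mem_singleton_iff] at hq ⊢
        rw [hq]
        exact (isLocalHom_iff_comap_closedPoint ι).mp inferInstance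
    rw [← himg]
    exact hU'.image φ (PrimeSpectrum.continuous_comap ι).continuousOn
  · intro hU
    rw [isPreconnected_closed_iff]
    intro t t' ht ht' hcov ⟨p₁, hp₁U, hp₁t⟩ ⟨p₂, hp₂U, hp₂t'⟩
    by_contra hempty
    rw [Set.not_nonempty_iff_eq_empty] at hempty
    obtain ⟨J₁, rfl⟩ := (PrimeSpectrum.isClosed_iff_zeroLocus_ideal t).mp ht
    obtain ⟨J₂, rfl⟩ := (PrimeSpectrum.isClosed_iff_zeroLocus_ideal t').mp ht'
    -- basic facts
    have hcov' : ∀ p : Ideal H', p.IsPrime → p ≠ M' → J₁ ≤ p ∨ J₂ ≤ p := by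
      intro p hp hpM
      have hmem : (⟨p, hp⟩ : PrimeSpectrum H') ∈ ({closedPoint H'}ᶜ : Set (PrimeSpectrum H')) := by
        rw [Set.mem_compl_singleton_iff, hne]; exact hpM
      rcases hcov hmem with h | h
      · exact Or.inl ((PrimeSpectrum.mem_zeroLocus _ _).mp h)
      · exact Or.inr ((PrimeSpectrum.mem_zeroLocus _ _).mp h)
    have hdisj : ∀ p : Ideal H', p.IsPrime → p ≠ M' → J₁ ≤ p → J₂ ≤ p → False := by
      intro p hp hpM h1 h2
      have hmem : (⟨p, hp⟩ : PrimeSpectrum H') ∈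
          ({closedPoint H'}ᶜ : Set (PrimeSpectrum H')) ∩
            (PrimeSpectrum.zeroLocus (J₁ : Set H') ∩ PrimeSpectrum.zeroLocus (J₂ : Set H')) := by
        refine ⟨?_, (PrimeSpectrum.mem_zeroLocus _ _).mpr h1, (PrimeSpectrum.mem_zeroLocus _ _).mpr h2⟩
        rw [Set.mem_compl_singleton_iff, hne]; exact hpM
      rw [hempty] at hmem
      exact hmem
    set I₁ : Ideal H' := gam J₂ with hI₁
    set I₂ : Ideal H' := gam J₁ with hI₂
    -- generizations
    have hgen₁ : ∀ p : Ideal H', p.IsPrime → p ≠ M' → J₁ ≤ p →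
        ∀ p' : Ideal H', p'.IsPrime → p' ≤ p → J₁ ≤ p' := by
      intro p hp hpM hJp p' hp' hle
      have hp'M : p' ≠ M' := by
        rintro rfl
        exact hpM ((maximalIdeal.isMaximal H').eq_of_le hp.ne_top hle).symm
      rcases hcov' p' hp' hp'M with h | h
      · exact h
      · exact (hdisj p hp hpM hJp (h.trans hle)).elim
    have hgen₂ : ∀ p : Ideal H', p.IsPrime → p ≠ M' → J₂ ≤ p →
        ∀ p' : Ideal H', p'.IsPrime → p' ≤ p → J₂ ≤ p' := by
      intro p hp hpM hJp p' hp' hle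
      have hp'M : p' ≠ M' := by
        rintro rfl
        exact hpM ((maximalIdeal.isMaximal H').eq_of_le hp.ne_top hle).symm
      rcases hcov' p' hp' hp'M with h | h
      · exact (hdisj p hp hpM (h.trans hle) hJp).elim
      · exact h
    -- (H1)
    have hsup : M' ≤ (I₁ ⊔ I₂).radical := by
      rw [Ideal.radical_eq_sInf]
      refine le_sInf ?_
      rintro p ⟨hIp, hp⟩
      by_contra hnle
      have hpM : p ≠ M' := fun h => hnle h.ge
      haveI := hp
      rcases hcov' p hp hpM with h | h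
      · obtain ⟨s, hs, hsp⟩ := exists_mem_gam_notMem J₁ p (hgen₁ p hp hpM h)
        exact hsp (hIp (Submodule.mem_sup_right hs))
      · obtain ⟨s, hs, hsp⟩ := exists_mem_gam_notMem J₂ p (hgen₂ p hp hpM h)
        exact hsp (hIp (Submodule.mem_sup_left hs))
    obtain ⟨N, hN⟩ := Ideal.exists_pow_le_of_le_radical_of_fg hsup hMfg
    have hN' : ((maximalIdeal H) ^ N).map (algebraMap H H') ≤ I₁ ⊔ I₂ := by
      rw [Ideal.map_pow, ← hmax]
      exact hN
    -- (H2)
    have hJJ : M' ≤ (J₁ ⊔ J₂).radical := by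
      rw [Ideal.radical_eq_sInf]
      refine le_sInf ?_
      rintro p ⟨hIp, hp⟩
      by_contra hnle
      have hpM : p ≠ M' := fun h => hnle h.ge
      exact hdisj p hp hpM (le_sup_left.trans hIp) (le_sup_right.trans hIp)
    obtain ⟨e, he⟩ := Ideal.exists_pow_le_of_le_radical_of_fg hJJ hMfg
    have hkill : ∀ x ∈ I₁ ⊓ I₂, ∃ k : ℕ, ∀ y ∈ (maximalIdeal H) ^ k, y • x = 0 := by
      rintro x ⟨⟨n₂, h₂⟩, ⟨n₁, h₁⟩⟩
      refine ⟨e * (n₁ + n₂), fun y hy => ?_⟩
      have h3 : ι y ∈ J₁ ^ n₁ ⊔ J₂ ^ n₂ := by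
        have h4 := hpowM _ y hy
        rw [pow_mul] at h4
        exact Ideal.sup_pow_add_le_pow_sup_pow (Ideal.pow_right_mono he _ h4)
      obtain ⟨y₁, hy₁, y₂, hy₂, hsum⟩ := Submodule.mem_sup.mp h3
      rw [Algebra.smul_def, ← hsum, add_mul, h₁ y₁ hy₁, h₂ y₂ hy₂, add_zero]
    obtain ⟨k₀, hk₀⟩ := exists_uniform_kill (H := H) (I₁ ⊓ I₂)
      ((isNoetherianRing_iff_ideal_fg H').mp inferInstance _) hkill
    obtain ⟨k, hk⟩ := core_ideal' (H := H) (H' := H') hmax hsurj I₁ I₂ k₀ hk₀ N hN'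
    -- the decomposition downstairs
    set 𝔞₁ : Ideal H := I₁.comap ι with h𝔞₁
    set 𝔞₂ : Ideal H := I₂.comap ι with h𝔞₂
    have hmP : ∀ (P : Ideal H) (n : ℕ), P.IsPrime → m ^ n ≤ P → P = m := by
      intro P n hP hle
      exact ((maximalIdeal.isMaximal H).eq_of_le hP.ne_top (hP.le_of_pow_le hle)).symm
    rw [isPreconnected_closed_iff] at hU
    have hcovU : ({closedPoint H}ᶜ : Set (PrimeSpectrum H)) ⊆
        PrimeSpectrum.zeroLocus (𝔞₁ : Set H) ∪ PrimeSpectrum.zeroLocus (𝔞₂ : Set H) := by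
      intro P hP
      rw [Set.mem_compl_singleton_iff, hne0] at hP
      by_contra hcon
      rw [Set.mem_union, not_or, PrimeSpectrum.mem_zeroLocus, PrimeSpectrum.mem_zeroLocus] at hcon
      obtain ⟨a₁, ha₁, ha₁P⟩ := Set.not_subset.mp hcon.1
      obtain ⟨a₂, ha₂, ha₂P⟩ := Set.not_subset.mp hcon.2
      apply hP
      refine hmP P.asIdeal k₀ P.2 ?_
      intro y hy
      have h1 : ι (a₁ * a₂) ∈ I₁ ⊓ I₂ := by
        rw [map_mul]
        exact ⟨I₁.mul_mem_right _ ha₁, I₂.mul_mem_left _ ha₂⟩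
      have h2 := hk₀ _ h1 y hy
      rw [Algebra.smul_def, ← map_mul] at h2
      have h3 : y * (a₁ * a₂) = 0 := hιinj (by rw [h2, map_zero])
      have h4 : y * (a₁ * a₂) ∈ P.asIdeal := h3 ▸ P.asIdeal.zero_mem
      rcases P.2.mem_or_mem h4 with h | h
      · exact h
      · rcases P.2.mem_or_mem h with h | h
        · exact (ha₁P h).elim
        · exact (ha₂P h).elim
    have hp₁M : p₁.asIdeal ≠ M' := by
      rw [← hne]; exact hp₁U
    have hp₂M : p₂.asIdeal ≠ M' := by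
      rw [← hne]; exact hp₂U
    have hp₁J : J₁ ≤ p₁.asIdeal := (PrimeSpectrum.mem_zeroLocus _ _).mp hp₁t
    have hp₂J : J₂ ≤ p₂.asIdeal := (PrimeSpectrum.mem_zeroLocus _ _).mp hp₂t'
    have hne₁ : (({closedPoint H}ᶜ : Set (PrimeSpectrum H)) ∩
        PrimeSpectrum.zeroLocus (𝔞₁ : Set H)).Nonempty := by
      refine ⟨φ p₁, hφU p₁ hp₁U, ?_⟩
      rw [PrimeSpectrum.mem_zeroLocus]
      haveI := p₁.2
      have : I₁ ≤ p₁.asIdeal :=
        gam_le_of_not_le J₂ p₁.asIdeal (fun h => hdisj p₁.asIdeal p₁.2 hp₁M hp₁J h)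
      exact Ideal.comap_mono this
    have hne₂ : (({closedPoint H}ᶜ : Set (PrimeSpectrum H)) ∩
        PrimeSpectrum.zeroLocus (𝔞₂ : Set H)).Nonempty := by
      refine ⟨φ p₂, hφU p₂ hp₂U, ?_⟩
      rw [PrimeSpectrum.mem_zeroLocus]
      haveI := p₂.2
      have : I₂ ≤ p₂.asIdeal :=
        gam_le_of_not_le J₁ p₂.asIdeal (fun h => hdisj p₂.asIdeal p₂.2 hp₂M h hp₂J)
      exact Ideal.comap_mono this
    obtain ⟨P, hPU, hP₁, hP₂⟩ := hU _ _ (PrimeSpectrum.isClosed_zeroLocus _)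
      (PrimeSpectrum.isClosed_zeroLocus _) hcovU hne₁ hne₂
    rw [Set.mem_compl_singleton_iff, hne0] at hPU
    rw [PrimeSpectrum.mem_zeroLocus] at hP₁ hP₂
    apply hPU
    refine hmP P.asIdeal k P.2 ?_
    intro y hy
    obtain ⟨a, ha₂, ha₁⟩ := hk y hy
    have h1 : a ∈ P.asIdeal := hP₂ ha₂
    have h2 : y - a ∈ P.asIdeal := hP₁ ha₁
    have := P.asIdeal.add_mem h1 h2
    simpa using this

end ThmD

section S9279

open Groth.Agent.Helper1.Hens Groth.Agent.Helper1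

theorem s9279 (A S : Type u) [CommRing A] [IsLocalRing A] [IsNoetherianRing A] [CommRing S]
    [IsLocalRing S] [Algebra A S] [IsLocalHom (algebraMap A S)] [Hensel.IsHenselization A S] :
    IsPreconnected
        ({IsLocalRing.closedPoint (AdicCompletion (IsLocalRing.maximalIdeal A) A)}ᶜ :
          Set (PrimeSpectrum (AdicCompletion (IsLocalRing.maximalIdeal A) A))) ↔
      IsPreconnected ({IsLocalRing.closedPoint S}ᶜ : Set (PrimeSpectrum S)) := by
  haveI hNC : IsNoetherianRing (AdicCompletion (maximalIdeal A) A) :=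
    Groth.Agent.S0543.result A (maximalIdeal A)
  haveI : HenselianLocalRing (AdicCompletion (maximalIdeal A) A) :=
    henselianLocalRing_of_isAdicComplete _
  obtain ⟨ψ, hψ, -⟩ := Hensel.IsHenselization.universal (R := A) (S := S)
    (AdicCompletion (maximalIdeal A) A) (algebraMap A (AdicCompletion (maximalIdeal A) A))
    inferInstance
  letI := ψ.toAlgebra
  haveI := Groth.Agent.Helper2.ComplHensMin.faithfullyFlat A S ψ hψ
  obtain ⟨hmax, hsurj⟩ := hens_cpl_hyps A S ψ hψ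
  haveI : IsNoetherianRing S := isNoetherianRing_of_isHenselization A S
  haveI : HenselianLocalRing S := Hensel.IsHenselization.henselian (R := A)
  exact punctured_preconnected_iff (H := S) (H' := AdicCompletion (maximalIdeal A) A) hmax hsurj

end S9279

end Groth.Agent.Helper2.IdemDesc
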