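import Mathlib
import Groth.Prelude
import Groth.Agent.Helper2.IdemDesc8

set_option autoImplicit false
set_option linter.style.haveILetI false

/-! (ii) ⟺ (iii) of the c₂ TFAE: components of the henselization vs components of the completion. -/

universe u

namespace Groth.Agent.Helper2.C2TFAE

open IsLocalRing Groth.Agent.Helper1.Hens Groth.Agent.Helper1 Groth.Agent.Helper2.IdemDesc

theorem eq_one_of (d : WithBot ℕ∞) (h1 : 1 ≤ d) (h2 : ¬ 2 ≤ d) : d = 1 := by
  induction d using WithBot.recBotCoe with
  | bot => simp at h1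
  | coe d =>
    induction d using ENat.recTopCoe with
    | top => exact absurd le_top h2
    | coe n =>
      have h1' : 1 ≤ n := by
        have : ((1 : ℕ∞) : WithBot ℕ∞) ≤ ((n : ℕ∞) : WithBot ℕ∞) := h1
        exact_mod_cast WithBot.coe_le_coe.mp this
      have h2' : ¬ 2 ≤ n := by
        intro h
        apply h2
        show ((2 : ℕ∞) : WithBot ℕ∞) ≤ ((n : ℕ∞) : WithBot ℕ∞)
        exact WithBot.coe_le_coe.mpr (by exact_mod_cast h)
      have : n = 1 := by omega
      subst this
      rfl

section

variable (A S : Type u) [CommRing A] [IsLocalRing A] [IsNoetherianRing A] [CommRing S]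
  [IsLocalRing S] [Algebra A S] [IsLocalHom (algebraMap A S)] [Hensel.IsHenselization A S]

local notation "Ah" => AdicCompletion (maximalIdeal A) A

theorem hens_iff_cpl :
    (∀ p ∈ minimalPrimes S, (2 : WithBot ℕ∞) ≤ ringKrullDim (S ⧸ p)) ↔
      (∀ q ∈ minimalPrimes Ah, (2 : WithBot ℕ∞) ≤ ringKrullDim (Ah ⧸ q)) := by
  haveI hNC : IsNoetherianRing Ah := Groth.Agent.S0543.result A (maximalIdeal A)
  haveI : HenselianLocalRing Ah := henselianLocalRing_of_isAdicComplete _
  obtain ⟨ψ, hψ, -⟩ := Hensel.IsHenselization.universal (R := A) (S := S) Ah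
    (algebraMap A Ah) inferInstance
  letI := ψ.toAlgebra
  haveI := Groth.Agent.Helper2.ComplHensMin.faithfullyFlat A S ψ hψ
  obtain ⟨hmax, hsurj⟩ := hens_cpl_hyps A S ψ hψ
  haveI : IsNoetherianRing S := isNoetherianRing_of_isHenselization A S
  haveI : HenselianLocalRing S := Hensel.IsHenselization.henselian (R := A)
  have h9240 := Groth.Agent.Helper2.ComplHensMin.s9240 A S ψ hψ
  have halg : algebraMap S Ah = ψ := rfl
  -- quotient dimension comparison
  have hquot : ∀ (p : Ideal S) [p.IsPrime] (hK : p.map (algebraMap S Ah) ≠ ⊤),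
      ringKrullDim (Ah ⧸ p.map (algebraMap S Ah)) = ringKrullDim (S ⧸ p) := by
    intro p hp hK
    haveI : Nontrivial (S ⧸ p) := Ideal.Quotient.nontrivial_iff.mpr hp.ne_top
    haveI : IsLocalRing (S ⧸ p) :=
      IsLocalRing.of_surjective' (Ideal.Quotient.mk p) Ideal.Quotient.mk_surjective
    haveI : Nontrivial (Ah ⧸ p.map (algebraMap S Ah)) := Ideal.Quotient.nontrivial_iff.mpr hK
    haveI : IsLocalRing (Ah ⧸ p.map (algebraMap S Ah)) :=
      IsLocalRing.of_surjective' (Ideal.Quotient.mk _) Ideal.Quotient.mk_surjective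
    haveI : Module.Flat (S ⧸ p) (Ah ⧸ p.map (algebraMap S Ah)) := flat_quotient_map S Ah p
    obtain ⟨hmax', -⟩ := transfer (H := S) (H' := Ah) hmax hsurj p
    haveI : IsLocalHom (algebraMap (S ⧸ p) (Ah ⧸ p.map (algebraMap S Ah))) :=
      isLocalHom_of_max' hmax'
    haveI : Module.FaithfullyFlat (S ⧸ p) (Ah ⧸ p.map (algebraMap S Ah)) :=
      Module.FaithfullyFlat.of_flat_of_isLocalHom
    exact le_antisymm (dim_le hmax')
      (Groth.Agent.Helper1.Hens.ringKrullDim_le_of_faithfullyFlat _ _)
  constructor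
  · intro h q hq
    haveI hqp : q.IsPrime := hq.1.1
    set p : Ideal S := q.comap ψ with hp
    have hpmin : p ∈ minimalPrimes S := h9240.1 hq
    haveI hpp : p.IsPrime := hpmin.1.1
    have h2 := h p hpmin
    have hqK : q ∈ (p.map (algebraMap S Ah)).minimalPrimes :=
      Groth.Agent.Helper2.Brnch.mem_minimalPrimes_map_of_comap_eq p q hq rfl
    have hKtop : p.map (algebraMap S Ah) ≠ ⊤ := fun h' =>
      hqp.ne_top (top_le_iff.mp (h' ▸ hqK.1.2))
    by_contra hcon
    by_cases hqm : q = maximalIdeal Ah
    · -- Â/pÂ has a single prime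
      have hd := hquot p hKtop
      have hsub : ringKrullDim (Ah ⧸ p.map (algebraMap S Ah)) ≤ 0 := by
        haveI : Subsingleton (PrimeSpectrum (Ah ⧸ p.map (algebraMap S Ah))) := by
          refine ⟨fun x y => ?_⟩
          have key : ∀ z : PrimeSpectrum (Ah ⧸ p.map (algebraMap S Ah)),
              z.asIdeal.comap (Ideal.Quotient.mk _) = q := by
            intro z
            have hz1 : p.map (algebraMap S Ah) ≤ z.asIdeal.comap (Ideal.Quotient.mk _) := by
              intro t ht
              rw [Ideal.mem_comap, Ideal.Quotient.eq_zero_iff_mem.mpr ht]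
              exact z.asIdeal.zero_mem
            have hz2 : z.asIdeal.comap (Ideal.Quotient.mk _) ≤ q := by
              rw [hqm]
              exact IsLocalRing.le_maximalIdeal (Ideal.comap_isPrime _ _).ne_top
            exact le_antisymm hz2 (hqK.2 ⟨Ideal.comap_isPrime _ _, hz1⟩ hz2)
          apply PrimeSpectrum.ext
          have := (key x).trans (key y).symm
          exact Ideal.comap_injective_of_surjective _ Ideal.Quotient.mk_surjective this
        exact Order.krullDim_nonpos_of_subsingleton
      rw [hd] at hsub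
      exact absurd (h2.trans hsub) (by norm_num)
    · have hlt : q < maximalIdeal Ah :=
        lt_of_le_of_ne (IsLocalRing.le_maximalIdeal hqp.ne_top) hqm
      have h1 : (1 : WithBot ℕ∞) ≤ ringKrullDim (Ah ⧸ q) :=
        one_le_dim_quotient Ah q (maximalIdeal Ah) hlt
      have hd1 := eq_one_of _ h1 hcon
      have := (unique_over (H := S) (H' := Ah) hmax hsurj p q hqK hd1).2
      rw [this] at h2
      exact absurd h2 (by norm_num)
  · intro h p hpmin
    haveI hpp : p.IsPrime := hpmin.1.1
    obtain ⟨q, hq, hqp⟩ := h9240.2 hpmin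
    haveI hqpr : q.IsPrime := hq.1.1
    have h2 := h q hq
    have hKq : p.map (algebraMap S Ah) ≤ q := by
      rw [Ideal.map_le_iff_le_comap, ← hqp]
      exact le_rfl
    have hKtop : p.map (algebraMap S Ah) ≠ ⊤ := fun h' => hqpr.ne_top (top_le_iff.mp (h' ▸ hKq))
    rw [← hquot p hKtop]
    refine h2.trans ?_
    exact ringKrullDim_le_of_surjective (Ideal.Quotient.factor hKq)
      (Ideal.Quotient.factor_surjective hKq)

end

end Groth.Agent.Helper2.C2TFAE
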