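import Mathlib
import Groth.Prelude
import Groth.Agent.Helper2.C2Flat1

set_option autoImplicit false
set_option linter.style.haveILetI false

/-! chain lemmas for the c₂ TFAE -/

universe u

namespace Groth.Agent.Helper2.C2TFAE

theorem exists_chain_of_two_le_dim_quotient {B : Type*} [CommRing B] (Q : Ideal B)
    (h : (2 : WithBot ℕ∞) ≤ ringKrullDim (B ⧸ Q)) :
    ∃ P₀ P₁ P₂ : Ideal B, P₀.IsPrime ∧ P₁.IsPrime ∧ P₂.IsPrime ∧ Q ≤ P₀ ∧ P₀ < P₁ ∧ P₁ < P₂ := by
  have h' : ((2 : ℕ) : WithBot ℕ∞) ≤ Order.krullDim (PrimeSpectrum (B ⧸ Q)) := h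
  obtain ⟨l, hl⟩ := (Order.le_krullDim_iff).mp h'
  have hsurj : Function.Surjective (Ideal.Quotient.mk Q) := Ideal.Quotient.mk_surjective
  have hinj := Ideal.comap_injective_of_surjective (Ideal.Quotient.mk Q) hsurj
  have hlt : ∀ i j : Fin (l.length + 1), i < j →
      (l i).asIdeal.comap (Ideal.Quotient.mk Q) < (l j).asIdeal.comap (Ideal.Quotient.mk Q) := by
    intro i j hij
    have h1 : l i < l j := l.strictMono hij
    have h2 : (l i).asIdeal < (l j).asIdeal := h1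
    refine lt_of_le_of_ne (Ideal.comap_mono h2.le) ?_
    intro heq
    exact h2.ne (hinj heq)
  refine ⟨(l ⟨0, by omega⟩).asIdeal.comap (Ideal.Quotient.mk Q),
    (l ⟨1, by omega⟩).asIdeal.comap (Ideal.Quotient.mk Q),
    (l ⟨2, by omega⟩).asIdeal.comap (Ideal.Quotient.mk Q),
    Ideal.comap_isPrime _ _, Ideal.comap_isPrime _ _, Ideal.comap_isPrime _ _, ?_,
    hlt _ _ (by simp [Fin.lt_def]), hlt _ _ (by simp [Fin.lt_def])⟩
  intro x hx
  rw [Ideal.mem_comap, Ideal.Quotient.eq_zero_iff_mem.mpr hx]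
  exact Ideal.zero_mem _

theorem exists_chain_of_two_le_dim_atPrime {R : Type*} [CommRing R] (m : Ideal R) [m.IsPrime]
    (h : (2 : WithBot ℕ∞) ≤ ringKrullDim (Localization.AtPrime m)) :
    ∃ q₀ q₁ q₂ : Ideal R, q₀.IsPrime ∧ q₁.IsPrime ∧ q₂.IsPrime ∧ q₀ < q₁ ∧ q₁ < q₂ ∧ q₂ ≤ m := by
  rw [IsLocalization.AtPrime.ringKrullDim_eq_height m (Localization.AtPrime m),
    show m.height = Order.height (⟨m, inferInstance⟩ : PrimeSpectrum R) from
      PrimeSpectrum.height_eq_orderHeight ⟨m, inferInstance⟩] at h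
  have h' : ((2 : ℕ) : ℕ∞) ≤ Order.height (⟨m, inferInstance⟩ : PrimeSpectrum R) := by
    have := WithBot.coe_le_coe.mp h
    exact_mod_cast this
  obtain ⟨l, hlast, hl⟩ := Order.exists_series_of_le_height _ h'
  have hlt : ∀ i j : Fin (l.length + 1), i < j → (l i).asIdeal < (l j).asIdeal := by
    intro i j hij
    exact l.strictMono hij
  refine ⟨(l ⟨0, by omega⟩).asIdeal, (l ⟨1, by omega⟩).asIdeal, (l ⟨2, by omega⟩).asIdeal,
    (l _).2, (l _).2, (l _).2, hlt _ _ (by simp [Fin.lt_def]), hlt _ _ (by simp [Fin.lt_def]), ?_⟩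
  have h2 : l ⟨2, by omega⟩ = l.last := by
    rw [RelSeries.last]
    congr 1
    ext
    simp [hl]
  rw [h2, hlast]

theorem two_le_dim_atPrime_of_chain {R : Type*} [CommRing R] (m : Ideal R) [m.IsPrime]
    (q₀ q₁ q₂ : Ideal R) [h0 : q₀.IsPrime] [h1 : q₁.IsPrime] [h2 : q₂.IsPrime]
    (h01 : q₀ < q₁) (h12 : q₁ < q₂) (h2m : q₂ ≤ m) :
    (2 : WithBot ℕ∞) ≤ ringKrullDim (Localization.AtPrime m) := by
  rw [IsLocalization.AtPrime.ringKrullDim_eq_height m (Localization.AtPrime m),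
    show m.height = Order.height (⟨m, inferInstance⟩ : PrimeSpectrum R) from
      PrimeSpectrum.height_eq_orderHeight ⟨m, inferInstance⟩]
  let l₁ : LTSeries (PrimeSpectrum R) :=
    (RelSeries.singleton _ (⟨q₂, h2⟩ : PrimeSpectrum R)).cons ⟨q₁, h1⟩
      (show (⟨q₁, h1⟩ : PrimeSpectrum R) < ⟨q₂, h2⟩ from h12)
  let l : LTSeries (PrimeSpectrum R) :=
    l₁.cons ⟨q₀, h0⟩ (by
      show (⟨q₀, h0⟩ : PrimeSpectrum R) < l₁.head
      simp only [l₁, RelSeries.head_cons]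
      exact h01)
  have hlast : l.last ≤ (⟨m, inferInstance⟩ : PrimeSpectrum R) := by
    show l.last.asIdeal ≤ m
    simp only [l, l₁, RelSeries.last_cons, RelSeries.last_singleton]
    exact h2m
  have := Order.length_le_height hlast
  have hl : l.length = 2 := by simp [l, l₁]
  rw [hl] at this
  show ((2 : ℕ∞) : WithBot ℕ∞) ≤ _
  exact WithBot.coe_le_coe.mpr (by exact_mod_cast this)

/-- a chain of primes `Q < P₁ < P₂` forces `dim B/Q ≥ 2` (no Noetherian hypothesis) -/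
theorem two_le_dim_quotient' {B : Type*} [CommRing B] (Q P₁ P₂ : Ideal B) [Q.IsPrime]
    [P₁.IsPrime] [P₂.IsPrime]
    (h1 : Q < P₁) (h2 : P₁ < P₂) : (2 : WithBot ℕ∞) ≤ ringKrullDim (B ⧸ Q) := by
  have hsurj : Function.Surjective (Ideal.Quotient.mk Q) := Ideal.Quotient.mk_surjective
  have hker : ∀ P : Ideal B, Q ≤ P → RingHom.ker (Ideal.Quotient.mk Q) ≤ P := by
    intro P hP
    rwa [Ideal.mk_ker]
  have hp : ∀ P : Ideal B, P.IsPrime → Q ≤ P → (P.map (Ideal.Quotient.mk Q)).IsPrime :=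
    fun P hP hQP => Ideal.map_isPrime_of_surjective hsurj (hker P hQP)
  have hcm : ∀ P : Ideal B, Q ≤ P → (P.map (Ideal.Quotient.mk Q)).comap (Ideal.Quotient.mk Q) = P := by
    intro P hQP
    rw [Ideal.comap_map_of_surjective _ hsurj, ← RingHom.ker_eq_comap_bot, Ideal.mk_ker]
    exact sup_eq_left.2 hQP
  let a : PrimeSpectrum (B ⧸ Q) := ⟨Q.map (Ideal.Quotient.mk Q), hp Q inferInstance le_rfl⟩
  let b : PrimeSpectrum (B ⧸ Q) := ⟨P₁.map (Ideal.Quotient.mk Q), hp P₁ inferInstance h1.le⟩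
  let c : PrimeSpectrum (B ⧸ Q) := ⟨P₂.map (Ideal.Quotient.mk Q), hp P₂ inferInstance (h1.le.trans h2.le)⟩
  have hab : a < b := by
    refine lt_of_le_of_ne (Ideal.map_mono h1.le) ?_
    intro h
    have : Q = P₁ := by
      rw [← hcm Q le_rfl, ← hcm P₁ h1.le]
      exact congrArg (fun z : PrimeSpectrum (B ⧸ Q) => z.asIdeal.comap (Ideal.Quotient.mk Q)) h
    exact h1.ne this
  have hbc : b < c := by
    refine lt_of_le_of_ne (Ideal.map_mono h2.le) ?_
    intro h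
    have : P₁ = P₂ := by
      rw [← hcm P₁ h1.le, ← hcm P₂ (h1.le.trans h2.le)]
      exact congrArg (fun z : PrimeSpectrum (B ⧸ Q) => z.asIdeal.comap (Ideal.Quotient.mk Q)) h
    exact h2.ne this
  have hsm : StrictMono ![a, b, c] := by
    rw [Fin.strictMono_iff_lt_succ]
    intro i
    fin_cases i
    · exact hab
    · exact hbc
  exact Order.LTSeries.length_le_krullDim (LTSeries.mk 2 ![a, b, c] hsm)

end Groth.Agent.Helper2.C2TFAE
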