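import Mathlib
import Groth.Prelude
set_option autoImplicit false
universe u
open TensorProduct

/-! For a flat `A`-algebra `C`, contraction along `C → A' ⊗[A] C` (with `A'` the integral closure of
`A_red` in its total ring of fractions) is a bijection on minimal primes. -/

namespace Groth.Agent.Helper2.MinPrNorm

section General

theorem bijOn_of_isLocalization {R L : Type*} [CommRing R] [CommRing L] [Algebra R L]
    (M : Submonoid R) [IsLocalization M L] (hinj : Function.Injective (algebraMap R L)) :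
    Set.BijOn (Ideal.comap (algebraMap R L)) (minimalPrimes L) (minimalPrimes R) := by
  have h := IsLocalization.minimalPrimes_comap M L (⊥ : Ideal L)
  have hbot : (⊥ : Ideal L).comap (algebraMap R L) = ⊥ := by
    rw [← RingHom.ker_eq_comap_bot]
    exact (RingHom.injective_iff_ker_eq_bot _).1 hinj
  rw [hbot] at h
  refine ⟨?_, ?_, ?_⟩
  · intro P hP
    show _ ∈ (⊥ : Ideal R).minimalPrimes
    rw [h]
    exact ⟨P, hP, rfl⟩
  · intro P _ P' _ hPP'
    have h1 := IsLocalization.map_under M L P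
    have h2 := IsLocalization.map_under M L P'
    rw [← h1, ← h2]
    exact congrArg (Ideal.map (algebraMap R L)) hPP'
  · intro p hp
    have hp' : p ∈ (⊥ : Ideal R).minimalPrimes := hp
    rw [h] at hp'
    exact hp'

theorem bijOn_of_surjective {C B : Type*} [CommRing C] [CommRing B] (f : C →+* B)
    (hf : Function.Surjective f) (hker : ∀ c, f c = 0 → IsNilpotent c) :
    Set.BijOn (Ideal.comap f) (minimalPrimes B) (minimalPrimes C) := by
  have h1 := Ideal.comap_minimalPrimes_eq_of_surjective hf ⊥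
  have h2 : ((⊥ : Ideal B).comap f).minimalPrimes = (⊥ : Ideal C).minimalPrimes := by
    rw [← Ideal.radical_minimalPrimes, ← Ideal.radical_minimalPrimes (I := ⊥)]
    congr 1
    apply le_antisymm
    · intro c hc
      obtain ⟨n, hn⟩ := hc
      have hn' : f (c ^ n) = 0 := hn
      obtain ⟨m, hm⟩ := hker _ hn'
      exact ⟨n * m, by rw [pow_mul]; exact hm⟩
    · exact Ideal.radical_mono bot_le
  rw [h2] at h1
  refine ⟨?_, ?_, ?_⟩
  · intro P hP
    show _ ∈ (⊥ : Ideal C).minimalPrimes
    rw [h1]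
    exact ⟨P, hP, rfl⟩
  · intro P _ P' _ hPP'
    exact Ideal.comap_injective_of_surjective f hf hPP'
  · intro p hp
    have hp' : p ∈ (⊥ : Ideal C).minimalPrimes := hp
    rw [h1] at hp'
    exact hp'

theorem bijOn_of_comp {α β γ : Type*} (a : α → β) (b : β → γ) (s : Set α) (t : Set β) (u : Set γ)
    (ha : Set.BijOn a s t) (hba : Set.BijOn (b ∘ a) s u) : Set.BijOn b t u := by
  refine ⟨?_, ?_, ?_⟩
  · intro y hy
    obtain ⟨x, hx, rfl⟩ := ha.surjOn hy
    exact hba.mapsTo hx
  · intro y hy y' hy' hyy'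
    obtain ⟨x, hx, rfl⟩ := ha.surjOn hy
    obtain ⟨x', hx', rfl⟩ := ha.surjOn hy'
    have : x = x' := hba.injOn hx hx' hyy'
    rw [this]
  · intro z hz
    obtain ⟨x, hx, rfl⟩ := hba.surjOn hz
    exact ⟨a x, ha.mapsTo hx, rfl⟩

end General

section Concrete

variable (A C : Type u) [CommRing A] [CommRing C] [Algebra A C]

/-- the total ring of fractions of `A_red` is a localization of the normalization. -/
theorem isLocalization_normRed :
    IsLocalization (Algebra.algebraMapSubmonoid (CAlg2.normRed A) (nonZeroDivisors (CAlg2.red A)))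
      (FractionRing (CAlg2.red A)) where
  map_units := by
    rintro ⟨_, s, hs, rfl⟩
    show IsUnit (algebraMap (CAlg2.normRed A) (FractionRing (CAlg2.red A))
      (algebraMap (CAlg2.red A) (CAlg2.normRed A) s))
    rw [← IsScalarTower.algebraMap_apply]
    exact IsLocalization.map_units (FractionRing (CAlg2.red A))
      (⟨s, hs⟩ : nonZeroDivisors (CAlg2.red A))
  surj := by
    intro z
    obtain ⟨⟨a, s⟩, h⟩ := IsLocalization.surj (nonZeroDivisors (CAlg2.red A)) z
    refine ⟨⟨algebraMap (CAlg2.red A) (CAlg2.normRed A) a,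
      ⟨algebraMap (CAlg2.red A) (CAlg2.normRed A) s, s, s.2, rfl⟩⟩, ?_⟩
    show z * algebraMap (CAlg2.normRed A) (FractionRing (CAlg2.red A))
      (algebraMap (CAlg2.red A) (CAlg2.normRed A) s) =
      algebraMap (CAlg2.normRed A) (FractionRing (CAlg2.red A))
        (algebraMap (CAlg2.red A) (CAlg2.normRed A) a)
    rw [← IsScalarTower.algebraMap_apply, ← IsScalarTower.algebraMap_apply]
    exact h
  exists_of_eq := by
    intro x y h
    refine ⟨1, ?_⟩
    have : x = y := Subtype.ext h
    rw [this]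

theorem injective_of_tmul {X Y : Type u} [CommRing X] [CommRing Y] [Algebra A X] [Algebra A Y]
    [Module.Flat A C] (g : X →ₗ[A] Y) (hg : Function.Injective g) (F : X ⊗[A] C →+ Y ⊗[A] C)
    (hF : ∀ x c, F (x ⊗ₜ c) = g x ⊗ₜ c) : Function.Injective F := by
  have h := Module.Flat.rTensor_preserves_injective_linearMap (M := C) g hg
  have e : ∀ x, F x = g.rTensor C x := by
    intro x
    induction x using TensorProduct.induction_on with
    | zero => simp
    | tmul a c => rw [hF, LinearMap.rTensor_tmul]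
    | add x y hx hy => rw [map_add, map_add, hx, hy]
  intro x y hxy
  apply h
  rw [← e, ← e, hxy]

end Concrete

theorem isNilpotent_of_mem_smul_top (A B : Type u) [CommRing A] [CommRing B] [Algebra A B] (b : B)
    (hb : b ∈ (nilradical A • ⊤ : Submodule A B)) : IsNilpotent b := by
  refine Submodule.smul_induction_on hb ?_ ?_
  · intro a ha b' _
    rw [Algebra.smul_def]
    exact (Commute.all _ b').isNilpotent_mul_right ((mem_nilradical.1 ha).map (algebraMap A B))
  · intro x y hx hy
    exact Commute.isNilpotent_add (Commute.all x y) hx hy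

section Abstract

variable (A C R₁ N Q : Type u) [CommRing A] [CommRing C] [CommRing R₁] [CommRing N] [CommRing Q]
  [Algebra A C] [Algebra A R₁] [Algebra A N] [Algebra A Q] [Algebra R₁ N] [Algebra R₁ Q]
  [Algebra N Q] [IsScalarTower A R₁ N] [IsScalarTower A R₁ Q] [IsScalarTower A N Q]
  [IsScalarTower R₁ N Q] [Module.Flat A C]
  (S : Submonoid R₁) [IsLocalization S Q] [IsLocalization (Algebra.algebraMapSubmonoid N S) Q]

include S in
theorem bijOn_abstract (hinj₁ : Function.Injective (algebraMap R₁ Q))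
    (hinj₂ : Function.Injective (algebraMap N Q))
    (hsurj : Function.Surjective (algebraMap A R₁))
    (hker : ∀ c : C, (1 : R₁) ⊗ₜ[A] c = 0 → IsNilpotent c) :
    Set.BijOn (fun P : Ideal (N ⊗[A] C) =>
        P.comap (Algebra.TensorProduct.includeRight.toRingHom : C →+* N ⊗[A] C))
      (minimalPrimes (N ⊗[A] C)) (minimalPrimes C) := by
  -- `B₁ → L`
  let f₁ : R₁ ⊗[A] C →ₐ[R₁] Q ⊗[A] C :=
    Algebra.TensorProduct.map (Algebra.ofId R₁ Q) (AlgHom.id A C)
  -- `B₂ → L`
  let f₂ : N ⊗[A] C →ₐ[N] Q ⊗[A] C :=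
    Algebra.TensorProduct.map (Algebra.ofId N Q) (AlgHom.id A C)
  have inj₁ : Function.Injective f₁ := by
    refine injective_of_tmul A C (IsScalarTower.toAlgHom A R₁ Q).toLinearMap hinj₁
      (f₁ : _ →+ _) (fun x c => ?_)
    simp [f₁]
  have inj₂ : Function.Injective f₂ := by
    refine injective_of_tmul A C (IsScalarTower.toAlgHom A N Q).toLinearMap hinj₂
      (f₂ : _ →+ _) (fun x c => ?_)
    simp [f₂]
  letI alg₁ : Algebra (R₁ ⊗[A] C) (Q ⊗[A] C) := f₁.toRingHom.toAlgebra
  haveI : IsScalarTower R₁ (R₁ ⊗[A] C) (Q ⊗[A] C) := IsScalarTower.of_algHom f₁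
  haveI loc₁ : IsLocalization (Algebra.algebraMapSubmonoid (R₁ ⊗[A] C) S) (Q ⊗[A] C) :=
    IsLocalization.tensorProduct_tensorProduct A C S Q (by
        ext c
        simp [RingHom.algebraMap_toAlgebra, f₁])
  have bij₁ := bijOn_of_isLocalization (R := R₁ ⊗[A] C) (L := Q ⊗[A] C)
    (Algebra.algebraMapSubmonoid (R₁ ⊗[A] C) S) inj₁
  letI alg₂ : Algebra (N ⊗[A] C) (Q ⊗[A] C) := f₂.toRingHom.toAlgebra
  haveI : IsScalarTower N (N ⊗[A] C) (Q ⊗[A] C) := IsScalarTower.of_algHom f₂
  haveI loc₂ : IsLocalization (Algebra.algebraMapSubmonoid (N ⊗[A] C)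
      (Algebra.algebraMapSubmonoid N S)) (Q ⊗[A] C) :=
    IsLocalization.tensorProduct_tensorProduct A C (Algebra.algebraMapSubmonoid N S) Q (by
        ext c
        simp [RingHom.algebraMap_toAlgebra, f₂])
  have bij₂ := bijOn_of_isLocalization (R := N ⊗[A] C) (L := Q ⊗[A] C)
    (Algebra.algebraMapSubmonoid (N ⊗[A] C) (Algebra.algebraMapSubmonoid N S)) inj₂
  -- `C → B₁`
  let g₁ : C →+* R₁ ⊗[A] C :=
    (Algebra.TensorProduct.includeRight : C →ₐ[A] R₁ ⊗[A] C).toRingHom
  let g₂ : C →+* N ⊗[A] C :=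
    (Algebra.TensorProduct.includeRight : C →ₐ[A] N ⊗[A] C).toRingHom
  have hg₁ : Function.Surjective g₁ := by
    intro x
    induction x using TensorProduct.induction_on with
    | zero => exact ⟨0, map_zero _⟩
    | tmul r c =>
      obtain ⟨a, rfl⟩ := hsurj r
      refine ⟨a • c, ?_⟩
      show (1 : R₁) ⊗ₜ[A] (a • c) = (algebraMap A R₁ a) ⊗ₜ[A] c
      rw [← TensorProduct.smul_tmul, Algebra.smul_def, mul_one]
    | add x y hx hy =>
      obtain ⟨x', rfl⟩ := hx
      obtain ⟨y', rfl⟩ := hy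
      exact ⟨x' + y', map_add _ _ _⟩
  have bij₀ : Set.BijOn (Ideal.comap g₁) (minimalPrimes (R₁ ⊗[A] C)) (minimalPrimes C) :=
    bijOn_of_surjective g₁ hg₁ (fun c hc => hker c hc)
  have hcomp : (algebraMap (R₁ ⊗[A] C) (Q ⊗[A] C)).comp g₁ =
      (algebraMap (N ⊗[A] C) (Q ⊗[A] C)).comp g₂ := by
    ext c
    simp [RingHom.algebraMap_toAlgebra, f₁, f₂, g₁, g₂]
  have bij₃ : Set.BijOn ((fun P : Ideal (N ⊗[A] C) => P.comap g₂) ∘
      (Ideal.comap (algebraMap (N ⊗[A] C) (Q ⊗[A] C))))
      (minimalPrimes (Q ⊗[A] C)) (minimalPrimes C) := by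
    have h := bij₀.comp bij₁
    have e : (Ideal.comap g₁ ∘ Ideal.comap (algebraMap (R₁ ⊗[A] C) (Q ⊗[A] C))) =
        ((fun P : Ideal (N ⊗[A] C) => P.comap g₂) ∘
          (Ideal.comap (algebraMap (N ⊗[A] C) (Q ⊗[A] C)))) := by
      funext P
      show Ideal.comap g₁ (Ideal.comap (algebraMap (R₁ ⊗[A] C) (Q ⊗[A] C)) P) =
        Ideal.comap g₂ (Ideal.comap (algebraMap (N ⊗[A] C) (Q ⊗[A] C)) P)
      rw [Ideal.comap_comap, Ideal.comap_comap, hcomp]
    rw [← e]
    exact h
  exact bijOn_of_comp _ _ _ _ _ bij₂ bij₃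

end Abstract

section Concrete2

variable (A C : Type u) [CommRing A] [CommRing C] [Algebra A C] [Module.Flat A C]

theorem bijOn :
    Set.BijOn (fun P : Ideal (CAlg2.normRed A ⊗[A] C) =>
        P.comap (Algebra.TensorProduct.includeRight.toRingHom : C →+* CAlg2.normRed A ⊗[A] C))
      (minimalPrimes (CAlg2.normRed A ⊗[A] C)) (minimalPrimes C) := by
  haveI := isLocalization_normRed A
  refine bijOn_abstract A C (CAlg2.red A) (CAlg2.normRed A) (FractionRing (CAlg2.red A))
    (nonZeroDivisors (CAlg2.red A))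
    (IsFractionRing.injective (CAlg2.red A) (FractionRing (CAlg2.red A)))
    Subtype.val_injective Ideal.Quotient.mk_surjective ?_
  intro c hc
  have h2 := congrArg (TensorProduct.quotTensorEquivQuotSMul C (nilradical A)) hc
  rw [TensorProduct.quotTensorEquivQuotSMul_mk_one_tmul, map_zero,
    Submodule.Quotient.mk_eq_zero] at h2
  exact isNilpotent_of_mem_smul_top A C c h2

end Concrete2


end Groth.Agent.Helper2.MinPrNorm
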