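import Mathlib
import Groth.Prelude
import Groth.Agent.Helper2.C2TFAE2
import Groth.Agent.Helper2.BrnchC
import Groth.Agent.Helper2.MinPrNorm
import Groth.Agent.Helper2.ImmGen
import Groth.Agent.Helper2.NormCountG1
import Groth.Agent.Helper5.IntegralDim

set_option autoImplicit false
set_option linter.style.haveILetI false
set_option linter.unusedSectionVars false

/-! generic (i) ⟺ (C) for the c₂ TFAE -/

universe u

namespace Groth.Agent.Helper2.C2TFAE

open TensorProduct IsLocalRing Groth.Agent.Helper2.NormCountG Groth.Agent.Helper2.HensFib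

section generic

variable (A B C : Type u) [CommRing A] [IsLocalRing A] [CommRing B] [Algebra A B]
  [Algebra.IsIntegral A B] [CommRing C] [IsLocalRing C]
  [Algebra A C] [Module.FaithfullyFlat A C]

theorem comap_isMaximal' (M : Ideal (B ⊗[A] C)) [M.IsMaximal] :
    (M.comap (algebraMap B (B ⊗[A] C))).IsMaximal := by
  have hM : (M.comap (incl A B C)).IsMaximal :=
    Ideal.isMaximal_comap_of_isIntegral_of_isMaximal' (incl A B C)
      (includeRight_isIntegral A B C) M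
  have h2 := IsLocalRing.eq_maximalIdeal hM
  haveI : (M.comap (algebraMap B (B ⊗[A] C))).IsPrime := Ideal.comap_isPrime _ _
  apply Ideal.isMaximal_of_isIntegral_of_isMaximal_comap (R := A)
  have : (M.comap (algebraMap B (B ⊗[A] C))).comap (algebraMap A B) = maximalIdeal A := by
    rw [Ideal.comap_comap, ← IsScalarTower.algebraMap_eq, ← maximalIdeal_comap (algebraMap A C),
      ← h2, Ideal.comap_comap]
    congr 1
    exact ((Algebra.TensorProduct.includeRight : C →ₐ[A] (B ⊗[A] C)).comp_algebraMap).symm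
  rw [this]
  exact maximalIdeal.isMaximal A

theorem exists_maximal_over (m' : Ideal B) [hm' : m'.IsMaximal] :
    ∃ M : Ideal (B ⊗[A] C), M.IsMaximal ∧ M.comap (algebraMap B (B ⊗[A] C)) = m' := by
  obtain ⟨Q, hQ, hQo⟩ := Ideal.exists_isPrime_liesOver_of_faithfullyFlat (B := (B ⊗[A] C)) m'
  obtain ⟨M, hM, hQM⟩ := Ideal.exists_le_maximal Q hQ.ne_top
  refine ⟨M, hM, ?_⟩
  have h1 : m' ≤ M.comap (algebraMap B (B ⊗[A] C)) := by
    rw [hQo.over]
    exact Ideal.comap_mono hQM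
  haveI := hM
  exact (hm'.eq_of_le (Ideal.comap_isPrime _ M).ne_top h1).symm

theorem eq_of_le_of_comap_eq
    (hvnr : ∀ (k : Type u) [Field k] [Algebra A k], IsVNR (k ⊗[A] C))
    (Q Q' : Ideal (B ⊗[A] C)) [Q.IsPrime] [Q'.IsPrime] (hle : Q' ≤ Q)
    (h : Q'.comap (algebraMap B (B ⊗[A] C)) = Q.comap (algebraMap B (B ⊗[A] C))) : Q' = Q := by
  haveI : (Q.comap (algebraMap B (B ⊗[A] C))).IsPrime := Ideal.comap_isPrime _ _
  let e := Algebra.TensorProduct.cancelBaseChange A B (Q.comap (algebraMap B (B ⊗[A] C))).ResidueField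
    (Q.comap (algebraMap B (B ⊗[A] C))).ResidueField C
  exact Groth.Agent.Helper2.ImmGen.eq_of_le_of_isVNR (Q.comap (algebraMap B (B ⊗[A] C)))
    (Groth.Agent.Helper2.HensGReg.IsVNR.of_ringEquiv e.symm.toRingEquiv
      (hvnr (Q.comap (algebraMap B (B ⊗[A] C))).ResidueField)) Q Q' rfl h hle

theorem dim_quot_eq (P : Ideal (B ⊗[A] C)) [P.IsPrime] :
    ringKrullDim ((B ⊗[A] C) ⧸ P) = ringKrullDim (C ⧸ P.comap (incl A B C)) := by
  letI : Algebra C (B ⊗[A] C) := (incl A B C).toAlgebra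
  haveI : Algebra.IsIntegral C (B ⊗[A] C) := ⟨includeRight_isIntegral A B C⟩
  exact Groth.Agent.Helper5.IntegralDim.ringKrullDim_eq_of_isIntegral_of_injective
    (R := C ⧸ P.comap (algebraMap C (B ⊗[A] C))) (S := (B ⊗[A] C) ⧸ P) Ideal.algebraMap_quotient_injective

section main

variable [HenselianLocalRing C]

theorem i_imp_C
    (hdom : ∀ (M : Ideal (B ⊗[A] C)) [M.IsMaximal], IsDomain (Localization.AtPrime M))
    (hbij : Set.BijOn (fun P : Ideal (B ⊗[A] C) => P.comap (incl A B C))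
      (minimalPrimes (B ⊗[A] C)) (minimalPrimes C))
    (hi : ∀ (m' : Ideal B) [m'.IsMaximal],
      (2 : WithBot ℕ∞) ≤ ringKrullDim (Localization.AtPrime m'))
    (p : Ideal C) (hp : p ∈ minimalPrimes C) : (2 : WithBot ℕ∞) ≤ ringKrullDim (C ⧸ p) := by
  obtain ⟨P, hP, rfl⟩ := hbij.surjOn hp
  haveI : P.IsPrime := hP.1.1
  show (2 : WithBot ℕ∞) ≤ ringKrullDim (C ⧸ P.comap (incl A B C))
  rw [← dim_quot_eq]
  obtain ⟨M, hM, hPM⟩ := Ideal.exists_le_maximal P (Ideal.IsPrime.ne_top inferInstance)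
  haveI := hM
  haveI hm' := comap_isMaximal' A B C M
  obtain ⟨q₀, q₁, q₂, hq0, hq1, hq2, h01, h12, h2m⟩ :=
    exists_chain_of_two_le_dim_atPrime _ (hi (M.comap (algebraMap B (B ⊗[A] C))))
  haveI : M.LiesOver (M.comap (algebraMap B (B ⊗[A] C))) := ⟨rfl⟩
  obtain ⟨Q₂, hQ2M, hQ2p, hQ2o⟩ := Ideal.exists_ideal_le_liesOver_of_le (p := q₂)
    (q := M.comap (algebraMap B (B ⊗[A] C))) M h2m
  obtain ⟨Q₁, hQ12, hQ1p, hQ1o⟩ := Ideal.exists_ideal_lt_liesOver_of_lt (p := q₁) (q := q₂) Q₂ h12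
  obtain ⟨Q₀, hQ01, hQ0p, hQ0o⟩ := Ideal.exists_ideal_lt_liesOver_of_lt (p := q₀) (q := q₁) Q₁ h01
  obtain ⟨P', hP', hP'Q⟩ := Ideal.exists_minimalPrimes_le (bot_le : (⊥ : Ideal (B ⊗[A] C)) ≤ Q₀)
  have huniq := Groth.Agent.Helper2.Brnch.existsUnique_minimalPrime_le hdom M hM
  have hPP' : P' = P := huniq.unique
    ⟨hP', le_trans hP'Q (le_trans hQ01.le (le_trans hQ12.le hQ2M))⟩ ⟨hP, hPM⟩
  subst hPP'
  exact two_le_dim_quotient' P' Q₁ Q₂ (lt_of_le_of_lt hP'Q hQ01) hQ12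

theorem C_imp_i
    (hvnr : ∀ (k : Type u) [Field k] [Algebra A k], IsVNR (k ⊗[A] C))
    (hdom : ∀ (M : Ideal (B ⊗[A] C)) [M.IsMaximal], IsDomain (Localization.AtPrime M))
    (hbij : Set.BijOn (fun P : Ideal (B ⊗[A] C) => P.comap (incl A B C))
      (minimalPrimes (B ⊗[A] C)) (minimalPrimes C))
    (hC : ∀ p ∈ minimalPrimes C, (2 : WithBot ℕ∞) ≤ ringKrullDim (C ⧸ p))
    (m' : Ideal B) [m'.IsMaximal] :
    (2 : WithBot ℕ∞) ≤ ringKrullDim (Localization.AtPrime m') := by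
  obtain ⟨M, hM, hMm⟩ := exists_maximal_over A B C m'
  subst hMm
  haveI := hM
  obtain ⟨P, ⟨hP, hPM⟩, -⟩ := Groth.Agent.Helper2.Brnch.existsUnique_minimalPrime_le hdom M hM
  haveI : P.IsPrime := hP.1.1
  have h2 : (2 : WithBot ℕ∞) ≤ ringKrullDim ((B ⊗[A] C) ⧸ P) := by
    rw [dim_quot_eq]
    exact hC _ (hbij.mapsTo hP)
  obtain ⟨Q₀, Q₁, Q₂, hQ0, hQ1, hQ2, hPQ0, h01, h12⟩ := exists_chain_of_two_le_dim_quotient P h2
  obtain ⟨M', hM', hQ2M'⟩ := Ideal.exists_le_maximal Q₂ hQ2.ne_top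
  letI : Algebra C (B ⊗[A] C) := (incl A B C).toAlgebra
  haveI : Algebra.IsIntegral C (B ⊗[A] C) := ⟨includeRight_isIntegral A B C⟩
  have huniq := Groth.Agent.Helper2.Brnch.existsUnique_maximal_ge C P hP
  have hMM' : M' = M := huniq.unique
    ⟨hM', le_trans hPQ0 (le_trans h01.le (le_trans h12.le hQ2M'))⟩ ⟨hM, hPM⟩
  subst hMM'
  have c01 : Q₀.comap (algebraMap B (B ⊗[A] C)) < Q₁.comap (algebraMap B (B ⊗[A] C)) :=
    lt_of_le_of_ne (Ideal.comap_mono h01.le)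
      (fun heq => h01.ne (eq_of_le_of_comap_eq A B C hvnr Q₁ Q₀ h01.le heq))
  have c12 : Q₁.comap (algebraMap B (B ⊗[A] C)) < Q₂.comap (algebraMap B (B ⊗[A] C)) :=
    lt_of_le_of_ne (Ideal.comap_mono h12.le)
      (fun heq => h12.ne (eq_of_le_of_comap_eq A B C hvnr Q₂ Q₁ h12.le heq))
  exact two_le_dim_atPrime_of_chain (M'.comap (algebraMap B (B ⊗[A] C)))
    (Q₀.comap (algebraMap B (B ⊗[A] C))) (Q₁.comap (algebraMap B (B ⊗[A] C)))
    (Q₂.comap (algebraMap B (B ⊗[A] C))) c01 c12 (Ideal.comap_mono hQ2M')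

end main

end generic

end Groth.Agent.Helper2.C2TFAE
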