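import Mathlib
import Groth.Prelude
import Groth.Agent.Helper2.C2TFAE1
import Groth.Agent.Helper2.C2TFAE3
import Groth.Agent.Helper2.DomLoc

set_option autoImplicit false
set_option linter.style.haveILetI false
set_option linter.unusedSectionVars false

/-! the c₂ TFAE (S16575) -/

universe u

namespace Groth.Agent.Helper2.C2TFAE

open TensorProduct IsLocalRing Groth.Agent.Helper2.NormCountG Groth.Agent.Helper2.HensFib
  Groth.Agent.Helper1.Hens Groth.Agent.Helper1 Groth.Agent.Helper2.Brnch

section model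

variable (A : Type u) [CommRing A] [IsLocalRing A] [IsNoetherianRing A]
  (Ω : Type u) [Field Ω] [Algebra A Ω]
  (C : Type u) [CommRing C] [IsLocalRing C] [HenselianLocalRing C] [Algebra A C]
  [Module.FaithfullyFlat A C]

theorem i_iff_of_equiv (e : C ≃ₐ[A] Hens A Ω) :
    (∀ m' : MaximalSpectrum (CAlg2.normRed A),
      (2 : WithBot ℕ∞) ≤ ringKrullDim (Localization.AtPrime m'.asIdeal)) ↔
    (∀ p ∈ minimalPrimes C, (2 : WithBot ℕ∞) ≤ ringKrullDim (C ⧸ p)) := by
  have hfin : (minimalPrimes A).Finite := minimalPrimes.finite_of_isNoetherianRing A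
  have hN := isNormalRing_normRed (A := A) hfin
  have hvnr : ∀ (k : Type u) [Field k] [Algebra A k], IsVNR (k ⊗[A] C) := by
    intro k _ _
    exact Groth.Agent.Helper2.HensGReg.IsVNR.of_ringEquiv
      (Algebra.TensorProduct.congr (AlgEquiv.refl : k ≃ₐ[A] k) e.symm).toRingEquiv (isVNR_fibre k)
  have hdom : ∀ (M : Ideal ((CAlg2.normRed A) ⊗[A] C)) [M.IsMaximal],
      IsDomain (Localization.AtPrime M) := by
    intro M _
    let e' : (CAlg2.normRed A) ⊗[A] C ≃ₐ[A] (CAlg2.normRed A) ⊗[A] Hens A Ω :=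
      Algebra.TensorProduct.congr AlgEquiv.refl e
    exact isDomain_atPrime_of_ringEquiv (T := (CAlg2.normRed A) ⊗[A] C)
      (T' := (CAlg2.normRed A) ⊗[A] Hens A Ω) e'.toRingEquiv
      (fun M' _ => Groth.Agent.Helper2.DomLoc.isDomain_atPrime hN M') M
  have hbij := Groth.Agent.Helper2.MinPrNorm.bijOn A C
  constructor
  · intro hi p hp
    exact i_imp_C A (CAlg2.normRed A) C hdom hbij
      (fun m' hm' => hi ⟨m', hm'⟩) p hp
  · intro hC m'
    haveI := m'.isMaximal
    exact C_imp_i A (CAlg2.normRed A) C hvnr hdom hbij hC m'.asIdeal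

end model

section final

variable (A : Type u) [CommRing A] [IsNoetherianRing A] [IsLocalRing A]
    (S : Type u) [CommRing S] [IsLocalRing S] [Algebra A S] [IsLocalHom (algebraMap A S)]
    [Hensel.IsHenselization A S]
    (S' : Type u) [CommRing S'] [IsLocalRing S'] [Algebra A S'] [IsLocalHom (algebraMap A S')]
    [Hensel.IsStrictHenselization A S']

theorem s16575 :
    List.TFAE [
      ∀ m' : MaximalSpectrum (CAlg2.normRed A), (2 : WithBot ℕ∞) ≤ ringKrullDim (Localization.AtPrime m'.asIdeal),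
      ∀ p ∈ minimalPrimes S, (2 : WithBot ℕ∞) ≤ ringKrullDim (S ⧸ p),
      ∀ p ∈ minimalPrimes S', (2 : WithBot ℕ∞) ≤ ringKrullDim (S' ⧸ p),
      ∀ q ∈ minimalPrimes (AdicCompletion (IsLocalRing.maximalIdeal A) A), (2 : WithBot ℕ∞) ≤ ringKrullDim (AdicCompletion (IsLocalRing.maximalIdeal A) A ⧸ q)] := by
  haveI := faithfullyFlat_of_isHenselization A S
  haveI : HenselianLocalRing S := Hensel.IsHenselization.henselian (R := A)
  haveI := faithfullyFlat_of_isStrictHenselization A S'
  haveI : HenselianLocalRing S' := Hensel.IsStrictHenselization.henselian (R := A)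
  have h12 := i_iff_of_equiv A (ResidueField A) S (equivOfIsHenselization S)
  have h13 := i_iff_of_equiv A (ResidueField S') S' (equivOfIsStrictHenselization A S')
  have h24 := hens_iff_cpl A S
  tfae_have 1 ↔ 2 := h12
  tfae_have 1 ↔ 3 := h13
  tfae_have 2 ↔ 4 := h24
  tfae_finish

end final

end Groth.Agent.Helper2.C2TFAE
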