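import Mathlib
import Groth.Prelude.Def_CartDual2

set_option autoImplicit false

namespace Groth.Agent.Helper2.CDBC
open TensorProduct CartDual

universe u v w

section lin
variable (R : Type u) [CommRing R] (S : Type v) [CommRing S] [Algebra R S]
variable (A : Type w) [AddCommGroup A] [Module R A]

/-- the base-change comparison map `S ⊗ D R A → D S (S ⊗ A)` -/
noncomputable def bcLin : S ⊗[R] D R A →ₗ[S] D S (S ⊗[R] A) :=
  (WithConv.linearEquiv S (S ⊗[R] A →ₗ[S] S)).symm.toLinearMap ∘ₗ
    (LinearMap.liftBaseChange S (Module.Dual.baseChange S (R := R) (V := A))) ∘ₗ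
      (LinearMap.baseChange S (toDual R A).toLinearMap)

lemma bcLin_tmul_apply (s t : S) (f : D R A) (a : A) :
    bcLin R S A (s ⊗ₜ f) (t ⊗ₜ a) = f a • (s * t) := by
  simp [bcLin, coe_apply, mul_comm]

end lin

end Groth.Agent.Helper2.CDBC

namespace Groth.Agent.Helper2.CDBC
open TensorProduct CartDual

universe u v w

section bij
variable (R : Type u) [CommRing R] (S : Type v) [CommRing S] [Algebra R S]
variable (A : Type w) [AddCommGroup A] [Module R A] [Module.Finite R A] [Module.Projective R A]

theorem bcLin_bijective : Function.Bijective (bcLin R S A) := by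
  let e1 : S ⊗[R] D R A ≃ₗ[R] Module.Dual R A ⊗[R] S :=
    (TensorProduct.congr (LinearEquiv.refl R S) (toDual R A)) ≪≫ₗ TensorProduct.comm R S _
  let e2 : Module.Dual R A ⊗[R] S ≃ₗ[R] (A →ₗ[R] S) := dualTensorHomEquiv R A S
  let e3 : (A →ₗ[R] S) ≃ₗ[S] (S ⊗[R] A →ₗ[S] S) := LinearMap.liftBaseChangeEquiv S
  let e4 : (S ⊗[R] A →ₗ[S] S) ≃ₗ[S] D S (S ⊗[R] A) := (WithConv.linearEquiv S _).symm
  have h : ⇑(bcLin R S A) = e4 ∘ e3 ∘ e2 ∘ e1 := by
    funext x
    induction x using TensorProduct.induction_on with
    | zero => simp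
    | add x y hx hy => simp only [map_add, hx, hy, Function.comp_apply]
    | tmul s f =>
      apply WithConv.ext
      apply TensorProduct.AlgebraTensorModule.ext
      intro t a
      simp [e1, e2, e3, e4, bcLin, coe_apply, mul_comm, Algebra.smul_def, mul_left_comm]
  rw [h]
  exact e4.bijective.comp (e3.bijective.comp (e2.bijective.comp e1.bijective))

end bij

end Groth.Agent.Helper2.CDBC

namespace Groth.Agent.Helper2.CDBC
open TensorProduct CartDual

universe u v w

section alg
variable (R : Type u) [CommRing R] (S : Type v) [CommRing S] [Algebra R S]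
variable (A : Type w) [CommRing A] [Bialgebra R A]

lemma bcLin_one : bcLin R S A 1 = 1 := by
  apply WithConv.ext
  apply TensorProduct.AlgebraTensorModule.ext
  intro t a
  rw [Algebra.TensorProduct.one_def]
  change bcLin R S A (1 ⊗ₜ 1) (t ⊗ₜ a) = (1 : D S (S ⊗[R] A)) (t ⊗ₜ a)
  rw [bcLin_tmul_apply]
  simp [LinearMap.convOne_apply, Algebra.smul_def]

lemma bcLin_mul_aux (s t u : S) (f g : D R A) (z : A ⊗[R] A) :
    LinearMap.mul' S S (TensorProduct.map (bcLin R S A (s ⊗ₜ f)).ofConv (bcLin R S A (t ⊗ₜ g)).ofConv
      (AlgebraTensorModule.tensorTensorTensorComm R S R S S S A A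
        ((Coalgebra.comul (R := S) u) ⊗ₜ[R] z))) =
    LinearMap.mul' R R (TensorProduct.map f.ofConv g.ofConv z) • (s * t * u) := by
  induction z using TensorProduct.induction_on with
  | zero => simp
  | add x y hx hy => simp only [tmul_add, map_add, hx, hy, add_smul]
  | tmul a b =>
    simp only [CommSemiring.comul_apply, AlgebraTensorModule.tensorTensorTensorComm_tmul,
      TensorProduct.map_tmul, LinearMap.mul'_apply]
    rw [← coe_apply, ← coe_apply, bcLin_tmul_apply, bcLin_tmul_apply]
    simp [Algebra.smul_def]
    ring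

lemma bcLin_mul (x y : S ⊗[R] D R A) : bcLin R S A (x * y) = bcLin R S A x * bcLin R S A y := by
  let _ : Semiring (S ⊗[R] D R A) := inferInstance
  induction x using TensorProduct.induction_on with
  | zero => rw [zero_mul, map_zero, zero_mul]
  | add x x' hx hx' => rw [add_mul, map_add, hx, hx', map_add, add_mul]
  | tmul s f =>
    induction y using TensorProduct.induction_on with
    | zero => rw [mul_zero, map_zero, mul_zero]
    | add y y' hy hy' => rw [mul_add, map_add, hy, hy', map_add, mul_add]
    | tmul t g =>
      rw [Algebra.TensorProduct.tmul_mul_tmul]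
      apply WithConv.ext
      apply TensorProduct.AlgebraTensorModule.ext
      intro u a
      change bcLin R S A ((s * t) ⊗ₜ (f * g)) (u ⊗ₜ a) =
        (bcLin R S A (s ⊗ₜ f) * bcLin R S A (t ⊗ₜ g)) (u ⊗ₜ a)
      rw [bcLin_tmul_apply, LinearMap.convMul_apply, LinearMap.convMul_apply,
        TensorProduct.comul_tmul, bcLin_mul_aux]

end alg

end Groth.Agent.Helper2.CDBC

namespace Groth.Agent.Helper2.CDBC
open TensorProduct CartDual

universe u v w

section coalg
variable (R : Type u) [CommRing R] (S : Type v) [CommRing S] [Algebra R S]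
variable (A : Type w) [CommRing A] [Bialgebra R A] [Module.Finite R A] [Module.Projective R A]

lemma bcLin_counit (x : S ⊗[R] D R A) :
    Coalgebra.counit (R := S) (bcLin R S A x) = Coalgebra.counit (R := S) x := by
  induction x using TensorProduct.induction_on with
  | zero => simp
  | add x y hx hy => simp only [map_add, hx, hy]
  | tmul s f =>
    rw [coalgebra_counit_apply, Algebra.TensorProduct.one_def, bcLin_tmul_apply,
      TensorProduct.counit_tmul, coalgebra_counit_apply]
    simp

lemma bcLin_comul_aux (s t u : S) (a b : A) (y : D R A ⊗[R] D R A) :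
    ev₂ S (S ⊗[R] A) (TensorProduct.map (bcLin R S A) (bcLin R S A)
      (AlgebraTensorModule.tensorTensorTensorComm R S R S S S (D R A) (D R A)
        ((Coalgebra.comul (R := S) s) ⊗ₜ[R] y))) ((t ⊗ₜ a) ⊗ₜ (u ⊗ₜ b)) =
    ev₂ R A y (a ⊗ₜ b) • (s * t * u) := by
  induction y using TensorProduct.induction_on with
  | zero => simp
  | add x y hx hy => simp only [tmul_add, map_add, hx, hy, add_smul, LinearMap.add_apply]
  | tmul f g =>
    simp only [CommSemiring.comul_apply, AlgebraTensorModule.tensorTensorTensorComm_tmul,
      TensorProduct.map_tmul, ev₂_tmul, bcLin_tmul_apply]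
    simp [Algebra.smul_def]
    ring

lemma bcLin_comul (x : S ⊗[R] D R A) :
    TensorProduct.map (bcLin R S A) (bcLin R S A) (Coalgebra.comul (R := S) x) =
      Coalgebra.comul (R := S) (bcLin R S A x) := by
  induction x using TensorProduct.induction_on with
  | zero => simp
  | add x y hx hy => simp only [map_add, hx, hy]
  | tmul s f =>
    apply (ev₂ S (S ⊗[R] A)).injective
    apply TensorProduct.ext'
    intro x y
    induction x using TensorProduct.induction_on with
    | zero => simp
    | add x x' hx hx' => simp only [add_tmul, map_add, hx, hx']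
    | tmul t a =>
      induction y using TensorProduct.induction_on with
      | zero => simp
      | add y y' hy hy' => simp only [tmul_add, map_add, hy, hy']
      | tmul u b =>
        rw [TensorProduct.comul_tmul, bcLin_comul_aux, ev₂_coalgebra_comul_tmul,
          ev₂_coalgebra_comul_tmul, Algebra.TensorProduct.tmul_mul_tmul, bcLin_tmul_apply]
        congr 1
        ring

end coalg

end Groth.Agent.Helper2.CDBC

namespace Groth.Agent.Helper2.CDBC
open TensorProduct CartDual

universe u v w

section bialg
variable (R : Type u) [CommRing R] (S : Type v) [CommRing S] [Algebra R S]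
variable (A : Type w) [CommRing A] [Bialgebra R A] [Module.Finite R A] [Module.Projective R A]

/-- base change of the Cartier dual, as a bialgebra map -/
noncomputable def bcHom : S ⊗[R] D R A →ₐc[S] D S (S ⊗[R] A) where
  toLinearMap := bcLin R S A
  counit_comp := by
    apply LinearMap.ext; intro x
    exact bcLin_counit R S A x
  map_comp_comul := by
    apply LinearMap.ext; intro x
    exact bcLin_comul R S A x
  map_one' := bcLin_one R S A
  map_mul' x y := bcLin_mul R S A x y

@[simp] lemma bcHom_apply (x : S ⊗[R] D R A) : bcHom R S A x = bcLin R S A x := rfl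

set_option backward.isDefEq.respectTransparency false in
/-- base change of the Cartier dual, as a bialgebra isomorphism -/
noncomputable def bcEquiv : S ⊗[R] D R A ≃ₐc[S] D S (S ⊗[R] A) :=
  { (bcHom R S A : S ⊗[R] D R A →ₐc[S] D S (S ⊗[R] A)),
    Equiv.ofBijective (bcLin R S A) (bcLin_bijective R S A) with }

lemma bcEquiv_tmul_apply (s t : S) (f : D R A) (a : A) :
    bcEquiv R S A (s ⊗ₜ f) (t ⊗ₜ a) = f a • (s * t) := by
  change bcLin R S A (s ⊗ₜ f) (t ⊗ₜ a) = _
  exact bcLin_tmul_apply R S A s t f a

end bialg

end Groth.Agent.Helper2.CDBC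

namespace Groth.Agent.Helper2.CDBC
open TensorProduct CartDual

universe u v w w'

section nat
variable (R : Type u) [CommRing R] (S : Type v) [CommRing S] [Algebra R S]
variable {A : Type w} [CommRing A] [Bialgebra R A] [Module.Finite R A] [Module.Projective R A]
variable {B : Type w'} [CommRing B] [Bialgebra R B] [Module.Finite R B] [Module.Projective R B]

/-- naturality of the base-change comparison with respect to transposes -/
lemma transpose_bcLin (φ : A →ₐc[R] B) (φ' : S ⊗[R] A →ₐc[S] S ⊗[R] B)
    (h : ∀ a : A, φ' (1 ⊗ₜ a) = 1 ⊗ₜ φ a) (x : S ⊗[R] D R B) :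
    transpose S φ' (bcLin R S B x) = bcLin R S A ((transpose R φ : D R B →ₗ[R] D R A).baseChange S x) := by
  have h' : ∀ (t : S) (a : A), φ' (t ⊗ₜ a) = t ⊗ₜ φ a := by
    intro t a
    have : t ⊗ₜ[R] a = t • ((1 : S) ⊗ₜ[R] a) := by simp [TensorProduct.smul_tmul']
    rw [this, map_smul, h, TensorProduct.smul_tmul', smul_eq_mul, mul_one]
  induction x using TensorProduct.induction_on with
  | zero => simp
  | add x y hx hy => simp only [map_add, hx, hy]
  | tmul s y =>
    apply WithConv.ext
    apply TensorProduct.AlgebraTensorModule.ext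
    intro t a
    change transpose S φ' (bcLin R S B (s ⊗ₜ y)) (t ⊗ₜ a) =
      bcLin R S A (s ⊗ₜ (transpose R φ y)) (t ⊗ₜ a)
    rw [transpose_apply, h', bcLin_tmul_apply, bcLin_tmul_apply, transpose_apply]

/-- functoriality of the dual for bialgebra isomorphisms -/
noncomputable def dualCongr (e : A ≃ₐc[R] B) : D R B ≃ₐc[R] D R A :=
  BialgEquiv.ofBialgHom (transpose R (e : A →ₐc[R] B)) (transpose R (e.symm : B →ₐc[R] A))
    (by
      apply BialgHom.ext; intro x
      apply WithConv.ext; apply LinearMap.ext; intro a
      change x (e.symm (e a)) = x a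
      rw [e.symm_apply_apply])
    (by
      apply BialgHom.ext; intro x
      apply WithConv.ext; apply LinearMap.ext; intro a
      change x (e (e.symm a)) = x a
      rw [e.apply_symm_apply])

@[simp] lemma dualCongr_apply (e : A ≃ₐc[R] B) (x : D R B) (a : A) :
    dualCongr R e x a = x (e a) := rfl

variable (A)

lemma eval_bijective : Function.Bijective (eval R A) := by
  have h := Module.bijective_dual_eval R A
  have : ⇑(eval R A) = (toDual R (D R A)).symm ∘ (toDual R A).toLinearMap.dualMap ∘ Module.Dual.eval R A := rfl
  rw [this]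
  refine (LinearEquiv.bijective _).comp (Function.Bijective.comp ?_ h)
  exact (toDual R A).symm.dualMap.symm.bijective

end nat

end Groth.Agent.Helper2.CDBC

namespace Groth.Agent.Helper2.CDBC
open TensorProduct CartDual

universe u v w

section evalEquiv
variable (R : Type u) [CommRing R]
variable (A : Type w) [CommRing A] [Bialgebra R A] [Module.Finite R A] [Module.Projective R A]

/-- the double-dual isomorphism -/
noncomputable def evalEquiv : A ≃ₐc[R] D R (D R A) :=
  { (eval R A : A →ₐc[R] D R (D R A)), Equiv.ofBijective (eval R A) (eval_bijective R A) with }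

@[simp] lemma evalEquiv_apply (a : A) (x : D R A) : evalEquiv R A a x = x a := rfl

end evalEquiv

end Groth.Agent.Helper2.CDBC
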