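import Mathlib
import Groth.Prelude.Def_SGA3b
import Groth.Agent.Helper2.CDBC1
import Groth.Agent.Helper2.ADiag7
import Groth.Agent.Helper8.CartConst

set_option autoImplicit false

namespace Groth.Agent.Helper2.CDBC
open TensorProduct CartDual Groth.Agent.Helper2.MultTypeSemi Groth.Agent.Helper2.SemiIso
  Groth.Agent.Helper2.DefLemNil

universe u

section chart
variable (R : Type u) [CommRing R] (A : Type u) [CommRing A] [HopfAlgebra R A]

/-- over a local ring a group of multiplicative type has a global faithfully flat chart -/
theorem exists_chart_of_isLocalRing [IsLocalRing R] (h : SGA3b.IsMultType R A) :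
    ∃ (R' : Type u) (_ : CommRing R') (_ : Algebra R R'), Module.FaithfullyFlat R R' ∧
      ∃ (N : Type u) (_ : CommGroup N), Nonempty (R' ⊗[R] A ≃ₐc[R'] MonoidAlgebra R' N) := by
  obtain ⟨s, hs, hf⟩ := h
  have hex : ∃ f ∈ s, IsUnit f := by
    by_contra hcon
    push Not at hcon
    have h1 : Ideal.span s ≤ IsLocalRing.maximalIdeal R :=
      Ideal.span_le.mpr (fun x hx => (IsLocalRing.mem_maximalIdeal x).mpr (hcon x hx))
    rw [hs] at h1
    exact (IsLocalRing.maximalIdeal.isMaximal R).ne_top (top_le_iff.mp h1)
  obtain ⟨f, hfs, hfu⟩ := hex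
  obtain ⟨R', _, _, _, _, hff, hflat, N, _, θ, hθ⟩ :=
    GLikeLI.exists_chart (R := R) (Q := A) f (hf f hfs)
  have hbij : Function.Bijective (algebraMap R (Localization.Away f)) := by
    let ev := IsLocalization.atUnits R (Submonoid.powers f) (S := Localization.Away f) (by
      rintro x ⟨n, rfl⟩
      exact hfu.pow n)
    have h2 : ∀ x, algebraMap R (Localization.Away f) x = ev x := fun x => (ev.commutes x).symm
    have h3 : ⇑(algebraMap R (Localization.Away f)) = ⇑ev := funext h2
    rw [h3]
    exact ev.bijective
  haveI : Module.FaithfullyFlat R (Localization.Away f) :=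
    Module.FaithfullyFlat.of_linearEquiv R R
      (LinearEquiv.ofBijective (Algebra.linearMap R (Localization.Away f)) hbij).symm
  haveI := hff
  haveI : Module.FaithfullyFlat R R' := Module.FaithfullyFlat.trans R (Localization.Away f) R'
  refine ⟨R', inferInstance, inferInstance, inferInstance, N, inferInstance, ?_⟩
  have h1 : IsSemiIso R' R' (liftMap R R' θ) := hθ.lift R R' R'
  have hb : Function.Bijective (liftMap R R' θ) := by
    have h2 := h1.2
    have h3 : ⇑(LinearMap.liftBaseChange R' (liftMap R R' θ).toLinearMap) =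
        ⇑(liftMap R R' θ) ∘ ⇑(TensorProduct.lid R' (R' ⊗[R] A)) := by
      funext x
      induction x using TensorProduct.induction_on with
      | zero => simp
      | add x y hx hy => simp only [map_add, hx, hy, Function.comp_apply]
      | tmul r y => simp
    rw [h3] at h2
    exact (Function.Bijective.of_comp_iff _ (TensorProduct.lid R' (R' ⊗[R] A)).bijective).mp h2
  exact ⟨BialgEquiv.ofBijective (ADiag.bialgOfSemi (liftMap R R' θ) h1.1) hb⟩

end chart

end Groth.Agent.Helper2.CDBC

namespace Groth.Agent.Helper2.CDBC
open TensorProduct CartDual Groth.Agent.Helper2.MultTypeSemi Groth.Agent.Helper2.SemiIso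
  Groth.Agent.Helper2.DefLemNil

universe u

section descent
variable (R : Type u) [CommRing R] (A : Type u) [CommRing A] [Bialgebra R A]
variable (R' : Type u) [CommRing R'] [Algebra R R'] [Module.FaithfullyFlat R R']

lemma semiMap_includeRight_injective :
    Function.Injective (semiMap R R'
      (Algebra.TensorProduct.includeRight : A →ₐ[R] R' ⊗[R] A).toLinearMap) := by
  have h1 := liftBaseChange_semiMap_bijective R R' (isSemiIso_includeRight R R' A)
  intro x y hxy
  apply Module.FaithfullyFlat.tensorProduct_mk_injective (A := R) (B := R') (A ⊗[R] A)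
  apply h1.1
  simp only [TensorProduct.mk_apply, LinearMap.liftBaseChange_tmul, one_smul]
  exact hxy

lemma semiMap_comm (x : A ⊗[R] A) :
    semiMap R R' (Algebra.TensorProduct.includeRight : A →ₐ[R] R' ⊗[R] A).toLinearMap
      (TensorProduct.comm R A A x) =
    TensorProduct.comm R' (R' ⊗[R] A) (R' ⊗[R] A)
      (semiMap R R' (Algebra.TensorProduct.includeRight : A →ₐ[R] R' ⊗[R] A).toLinearMap x) := by
  induction x using TensorProduct.induction_on with
  | zero => simp
  | add x y hx hy => simp only [map_add, hx, hy]
  | tmul a b => simp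

/-- cocommutativity descends along faithfully flat base change -/
theorem isCocomm_of_faithfullyFlat [Coalgebra.IsCocomm R' (R' ⊗[R] A)] : Coalgebra.IsCocomm R A := by
  refine ⟨?_⟩
  apply LinearMap.ext
  intro a
  apply semiMap_includeRight_injective R A R'
  have h := (isSemiCoalg_includeRight R R' A).comul a
  rw [LinearMap.comp_apply, LinearEquiv.coe_coe, semiMap_comm, ← h, Coalgebra.comm_comul]

end descent

end Groth.Agent.Helper2.CDBC

namespace Groth.Agent.Helper2.CDBC
open TensorProduct CartDual Groth.Agent.Helper2.MultTypeSemi Groth.Agent.Helper2.SemiIso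
  Groth.Agent.Helper2.DefLemNil

universe u

section chartcons
variable (R : Type u) [CommRing R] (A : Type u) [CommRing A] [Bialgebra R A]
variable (R' : Type u) [CommRing R'] [Algebra R R'] [Module.FaithfullyFlat R R']
variable (N : Type u) [CommGroup N] (e : R' ⊗[R] A ≃ₐc[R'] MonoidAlgebra R' N)

include e in
theorem flat_of_chart : Module.Flat R A := by
  haveI : Module.Flat R' (R' ⊗[R] A) := Module.Flat.of_linearEquiv e.toLinearEquiv
  exact Module.Flat.of_flat_tensorProduct R A R'

include e in
theorem isCocomm_of_chart : Coalgebra.IsCocomm R A := by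
  haveI : Coalgebra.IsCocomm R' (R' ⊗[R] A) := by
    refine ⟨?_⟩
    apply LinearMap.ext
    intro x
    have h1 : Coalgebra.comul (R := R') x =
        TensorProduct.map (e.symm : MonoidAlgebra R' N →ₗ[R'] R' ⊗[R] A)
          (e.symm : MonoidAlgebra R' N →ₗ[R'] R' ⊗[R] A) (Coalgebra.comul (R := R') (e x)) := by
      have := CoalgHomClass.map_comp_comul_apply e.symm (e x)
      rw [e.symm_apply_apply] at this
      exact this.symm
    rw [LinearMap.comp_apply, LinearEquiv.coe_coe, h1]
    generalize hy : Coalgebra.comul (R := R') (e x) = y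
    have h2 : TensorProduct.comm R' _ _ y = y := by
      rw [← hy]; exact Coalgebra.comm_comul R' (e x)
    conv_rhs => rw [← h2]
    clear h2 hy h1
    induction y using TensorProduct.induction_on with
    | zero => simp
    | add x y hx hy => simp only [map_add, hx, hy]
    | tmul a b => simp
  exact isCocomm_of_faithfullyFlat R A R'

end chartcons

end Groth.Agent.Helper2.CDBC

namespace Groth.Agent.Helper2.CDBC
open TensorProduct CartDual

universe u

section etale
variable (R : Type u) [CommRing R] [Nontrivial R] (A : Type u) [CommRing A] [Bialgebra R A]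
  [Coalgebra.IsCocomm R A] [Module.Finite R A] [Module.Projective R A]
variable (R' : Type u) [CommRing R'] [Algebra R R'] [Module.FaithfullyFlat R R']
variable (N : Type u) [CommGroup N] (e : R' ⊗[R] A ≃ₐc[R'] MonoidAlgebra R' N)

include e in
theorem finite_of_chart : Finite N := by
  haveI : Nontrivial R' := (TensorProduct.rid R R').symm.toEquiv.nontrivial
  haveI : Module.Finite R' (MonoidAlgebra R' N) := Module.Finite.equiv e.toLinearEquiv
  let b : Module.Basis N R' (MonoidAlgebra R' N) := Module.Basis.ofRepr (MonoidAlgebra.coeffLinearEquiv R')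
  exact Module.Finite.finite_basis b

include e in
/-- the Cartier dual of a finite group of multiplicative type is étale -/
theorem etale_dual_of_chart : Algebra.Etale R (D R A) := by
  classical
  haveI : Finite N := finite_of_chart R A R' N e
  haveI : Fintype N := Fintype.ofFinite N
  let e1 : R' ⊗[R] D R A ≃ₐc[R'] D R' (R' ⊗[R] A) := bcEquiv R R' A
  let e2 : D R' (R' ⊗[R] A) ≃ₐc[R'] D R' (MonoidAlgebra R' N) := dualCongr R' e.symm
  let e3 : D R' (MonoidAlgebra R' N) ≃ₐ[R'] ConstGrp.F R' N := Groth.Agent.Helper8.CartConst.alg R' N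
  let e4 : ConstGrp.F R' N ≃ₐ[R'] (N → R') := ConstGrp.equivFun R' N
  let E : (N → R') ≃ₐ[R'] R' ⊗[R] D R A :=
    (((AlgEquivClass.toAlgEquiv e1).trans (AlgEquivClass.toAlgEquiv e2)).trans (e3.trans e4)).symm
  haveI : Algebra.Etale R' (R' ⊗[R] D R A) := Algebra.Etale.of_equiv E
  exact Algebra.Etale.of_etale_tensorProduct_of_faithfullyFlat R'

end etale

end Groth.Agent.Helper2.CDBC
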