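import Mathlib
import Groth.Prelude.Def_SGA3b
import Groth.Agent.Helper2.CDBC2
import Groth.Agent.Helper7.CartTr
import Groth.Agent.S0519

set_option autoImplicit false

namespace Groth.Agent.Helper2.CDBC
open TensorProduct CartDual Groth.Agent.Helper2.MultTypeSemi Groth.Agent.Helper2.SemiIso
  Groth.Agent.Helper2.DefLemNil

universe u

lemma etale_tensor (R X Y : Type*) [CommRing R] [CommRing X] [CommRing Y] [Algebra R X] [Algebra R Y]
    [Algebra.Etale R X] [Algebra.Etale R Y] : Algebra.Etale R (X ⊗[R] Y) :=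
  Algebra.Etale.comp R X (X ⊗[R] Y)

section semi
variable (R k : Type*) [CommRing R] [CommRing k] [Algebra R k]
variable {P Q : Type*} [CommRing P] [Bialgebra R P] [CommRing Q] [Bialgebra R Q]

/-- naturality of `semiMap includeRight` -/
lemma semiMap_map (g : P →ₐ[R] Q) (h : k ⊗[R] P →ₐ[k] k ⊗[R] Q)
    (hg : ∀ x, h (1 ⊗ₜ x) = 1 ⊗ₜ g x) (y : P ⊗[R] P) :
    semiMap R k (Algebra.TensorProduct.includeRight : Q →ₐ[R] k ⊗[R] Q).toLinearMap
      (Algebra.TensorProduct.map g g y) =
    Algebra.TensorProduct.map h h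
      (semiMap R k (Algebra.TensorProduct.includeRight : P →ₐ[R] k ⊗[R] P).toLinearMap y) := by
  induction y using TensorProduct.induction_on with
  | zero => simp
  | add x y hx hy => simp only [map_add, hx, hy]
  | tmul a b => simp [hg]

end semi

end Groth.Agent.Helper2.CDBC

namespace Groth.Agent.Helper2.CDBC
open TensorProduct CartDual Groth.Agent.Helper2.MultTypeSemi Groth.Agent.Helper2.SemiIso
  Groth.Agent.Helper2.DefLemNil IsLocalRing

universe u

section lift
variable (R : Type u) [CommRing R] [HenselianLocalRing R]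
variable (P Q : Type u) [CommRing P] [Bialgebra R P] [CommRing Q] [Bialgebra R Q]
  [Module.Finite R P] [Algebra.Etale R P] [Module.Finite R Q] [Algebra.Etale R Q]

/-- uniqueness principle: algebra maps between finite étale algebras over a henselian local ring
are determined by their reductions -/
lemma algHom_ext_of_tmul (X : Type u) [CommRing X] [Algebra R X] [Module.Finite R X] [Algebra.Etale R X]
    (f f' : P →ₐ[R] X) (h : ∀ x, (1 : ResidueField R) ⊗ₜ[R] f x = 1 ⊗ₜ[R] f' x) : f = f' := by
  apply (Groth.Agent.S0519.result R P X).1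
  apply Algebra.TensorProduct.ext
  · ext
  · ext x
    simpa using h x

theorem lift_bialgHom_etale (h : ResidueField R ⊗[R] P →ₐc[ResidueField R] ResidueField R ⊗[R] Q) :
    ∃ g : P →ₐc[R] Q, ∀ x, h (1 ⊗ₜ x) = 1 ⊗ₜ g x := by
  obtain ⟨g₀, hg₀⟩ := (Groth.Agent.S0519.result R P Q).2 (h : ResidueField R ⊗[R] P →ₐ[ResidueField R] _)
  have hg : ∀ x, h (1 ⊗ₜ x) = 1 ⊗ₜ g₀ x := by
    intro x
    have := congrArg (fun F => F ((1 : ResidueField R) ⊗ₜ[R] x)) hg₀
    simp only [Algebra.TensorProduct.map_tmul, AlgHom.coe_id, id_eq] at this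
    exact this.symm
  haveI : Algebra.Etale R (Q ⊗[R] Q) := etale_tensor R Q Q
  have hcounit : (Bialgebra.counitAlgHom R Q).comp g₀ = Bialgebra.counitAlgHom R P := by
    apply algHom_ext_of_tmul R P R
    intro x
    have h1 : ∀ r : R, (1 : ResidueField R) ⊗ₜ[R] r = (residue R r) ⊗ₜ[R] (1 : R) := by
      intro r
      have : r = r • (1 : R) := by simp
      conv_lhs => rw [this, ← TensorProduct.smul_tmul, Algebra.smul_def, mul_one]
      rfl
    simp only [AlgHom.comp_apply, Bialgebra.counitAlgHom_apply]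
    rw [h1, h1]
    congr 1
    have h2 := CoalgHomClass.counit_comp_apply h ((1 : ResidueField R) ⊗ₜ[R] x)
    rw [hg, TensorProduct.counit_tmul, TensorProduct.counit_tmul] at h2
    simpa [Algebra.smul_def] using h2
  have hcomul : (Algebra.TensorProduct.map g₀ g₀).comp (Bialgebra.comulAlgHom R P) =
      (Bialgebra.comulAlgHom R Q).comp g₀ := by
    apply algHom_ext_of_tmul R P (Q ⊗[R] Q)
    intro x
    have hinj := (liftBaseChange_semiMap_bijective R (ResidueField R)
      (isSemiIso_includeRight R (ResidueField R) Q)).1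
    apply hinj
    simp only [LinearMap.liftBaseChange_tmul, one_smul, AlgHom.comp_apply,
      Bialgebra.comulAlgHom_apply]
    rw [semiMap_map R (ResidueField R) g₀ (h : ResidueField R ⊗[R] P →ₐ[ResidueField R] _)
      (fun x => hg x)]
    rw [← (isSemiCoalg_includeRight R (ResidueField R) Q).comul,
      ← (isSemiCoalg_includeRight R (ResidueField R) P).comul]
    simp only [Algebra.TensorProduct.includeRight_apply]
    rw [← hg]
    have h2 := CoalgHomClass.map_comp_comul_apply h ((1 : ResidueField R) ⊗ₜ[R] x)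
    rw [← h2]
    generalize Coalgebra.comul (R := ResidueField R) ((1 : ResidueField R) ⊗ₜ[R] x) = t
    induction t using TensorProduct.induction_on with
    | zero => simp
    | add x y hx hy => simp only [map_add, hx, hy]
    | tmul a b => rfl
  exact ⟨BialgHom.ofAlgHom g₀ hcounit hcomul, hg⟩

end lift

end Groth.Agent.Helper2.CDBC

namespace Groth.Agent.Helper2.CDBC
open TensorProduct CartDual IsLocalRing

universe u

section ff
variable (A : Type u) [CommRing A] [HenselianLocalRing A]
variable (B : Type u) [CommRing B] [Bialgebra A B] [Coalgebra.IsCocomm A B] [Module.Finite A B]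
  [Module.Projective A B] [Algebra.Etale A (D A B)]
variable (C : Type u) [CommRing C] [Bialgebra A C] [Coalgebra.IsCocomm A C] [Module.Finite A C]
  [Module.Projective A C] [Algebra.Etale A (D A C)]

/-- lifting homomorphisms of finite locally free commutative groups with étale Cartier duals
over a henselian local ring -/
theorem exists_lift_of_etale_dual
    (φ₀ : (ResidueField A ⊗[A] C) →ₐc[ResidueField A] (ResidueField A ⊗[A] B)) :
    ∃ φ : C →ₐc[A] B, ∀ c : C, φ₀ ((1 : ResidueField A) ⊗ₜ c) = (1 : ResidueField A) ⊗ₜ[A] (φ c) := by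
  let k := ResidueField A
  let h : k ⊗[A] D A B →ₐc[k] k ⊗[A] D A C :=
    (((bcEquiv A k C).symm : D k (k ⊗[A] C) →ₐc[k] k ⊗[A] D A C).comp (transpose k φ₀)).comp
      ((bcEquiv A k B : k ⊗[A] D A B →ₐc[k] D k (k ⊗[A] B)))
  obtain ⟨g, hg⟩ := lift_bialgHom_etale A (D A B) (D A C) h
  obtain ⟨φ, hφ⟩ := (Groth.Agent.Helper7.CartTr.transpose_bijective A C B).2 g
  refine ⟨φ, ?_⟩
  let φ' : k ⊗[A] C →ₐc[k] k ⊗[A] B := Bialgebra.TensorProduct.map (BialgHom.id k k) φ
  have hφ' : ∀ c : C, φ' (1 ⊗ₜ c) = 1 ⊗ₜ φ c := fun c => rfl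
  suffices hs : φ₀ = φ' by
    intro c
    rw [hs, hφ']
  apply (Groth.Agent.Helper7.CartTr.transpose_bijective k (k ⊗[A] C) (k ⊗[A] B)).1
  show transpose k φ₀ = transpose k φ'
  have h3 : ∀ x : k ⊗[A] D A B, h x = (transpose A φ : D A B →ₗ[A] D A C).baseChange k x := by
    intro x
    induction x using TensorProduct.induction_on with
    | zero => simp
    | add x y hx hy => rw [map_add, map_add, hx, hy]
    | tmul s f =>
      have : s ⊗ₜ[A] f = s • ((1 : k) ⊗ₜ[A] f) := by simp [TensorProduct.smul_tmul']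
      rw [this, map_smul, map_smul, hg, LinearMap.baseChange_tmul]
      have hφf : (transpose A φ) f = g f := by
        have := congrArg (fun G : D A B →ₐc[A] D A C => G f) hφ
        exact this
      rw [← hφf]
      rfl
  apply BialgHom.ext
  intro y
  obtain ⟨x, rfl⟩ := (bcEquiv A k B).surjective y
  have h1 : transpose k φ' (bcLin A k B x) =
      bcLin A k C ((transpose A φ : D A B →ₗ[A] D A C).baseChange k x) :=
    transpose_bcLin A k φ φ' hφ' x
  have h2 : bcEquiv A k C (h x) = transpose k φ₀ (bcEquiv A k B x) := by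
    simp [h]
  change transpose k φ₀ (bcEquiv A k B x) = transpose k φ' (bcLin A k B x)
  rw [← h2, h1, h3]
  rfl

end ff

end Groth.Agent.Helper2.CDBC
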