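import Mathlib
import Groth.Prelude.Def_SGA3b

set_option autoImplicit false

namespace Groth.Agent.Helper2.ConvGrp
open TensorProduct WithConv Bialgebra Coalgebra

variable {R : Type*} [CommRing R] {C : Type*} [CommRing C] [HopfAlgebra R C]

section push
variable {B B' : Type*} [CommRing B] [Bialgebra R B] [CommRing B'] [Bialgebra R B']

/-- push-forward along an algebra map, as a monoid hom of convolution groups -/
noncomputable def pushHom (h : B →ₐ[R] B') :
    WithConv (C →ₐ[R] B) →* WithConv (C →ₐ[R] B') where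
  toFun f := toConv (h.comp f.ofConv)
  map_one' := by
    rw [AlgHom.convOne_def, ofConv_toConv, AlgHom.convOne_def]
    congr 1
    ext c
    simp [Algebra.ofId_apply]
  map_mul' f g := by
    rw [AlgHom.comp_convMul_distrib]

@[simp] lemma pushHom_apply (h : B →ₐ[R] B') (f : WithConv (C →ₐ[R] B)) :
    pushHom h f = toConv (h.comp f.ofConv) := rfl

end push

section bialg
variable {A : Type*} [CommRing A] [Bialgebra R A]

lemma lmul_comp_map (f : C →ₐ[R] A) :
    (Algebra.TensorProduct.lmul' R).comp (Algebra.TensorProduct.map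
      ((Algebra.TensorProduct.includeLeft : A →ₐ[R] A ⊗[R] A).comp f)
      ((Algebra.TensorProduct.includeRight : A →ₐ[R] A ⊗[R] A).comp f)) =
    Algebra.TensorProduct.map f f := by
  ext <;> simp

lemma push_mul_eq (f : WithConv (C →ₐ[R] A)) :
    pushHom (Algebra.TensorProduct.includeLeft : A →ₐ[R] A ⊗[R] A) f *
      pushHom (Algebra.TensorProduct.includeRight : A →ₐ[R] A ⊗[R] A) f =
    toConv ((Algebra.TensorProduct.map f.ofConv f.ofConv).comp (comulAlgHom R C)) := by
  rw [AlgHom.convMul_def, pushHom_apply, pushHom_apply, ofConv_toConv, ofConv_toConv,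
    ← AlgHom.comp_assoc, lmul_comp_map]

variable [Coalgebra.IsCocomm R C]

/-- the subgroup condition: comultiplicativity and counitality -/
def IsBi (f : WithConv (C →ₐ[R] A)) : Prop :=
  pushHom (comulAlgHom R A) f =
    pushHom (Algebra.TensorProduct.includeLeft : A →ₐ[R] A ⊗[R] A) f *
      pushHom (Algebra.TensorProduct.includeRight : A →ₐ[R] A ⊗[R] A) f ∧
  pushHom (counitAlgHom R A) f = 1

lemma isBi_of_bialgHom (φ : C →ₐc[R] A) : IsBi (toConv (φ : C →ₐ[R] A)) := by
  constructor
  · rw [push_mul_eq, pushHom_apply, ofConv_toConv]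
    congr 1
    exact (BialgHom.map_comp_comulAlgHom φ).symm
  · rw [pushHom_apply, ofConv_toConv, BialgHom.counitAlgHom_comp, AlgHom.convOne_def]
    congr 1

lemma IsBi.mul_inv {f g : WithConv (C →ₐ[R] A)} (hf : IsBi f) (hg : IsBi g) : IsBi (f * g⁻¹) := by
  constructor
  · rw [map_mul, map_inv, hf.1, hg.1, map_mul, map_mul, map_inv, map_inv, _root_.mul_inv]
    exact mul_mul_mul_comm _ _ _ _
  · rw [map_mul, map_inv, hf.2, hg.2, inv_one, mul_one]

/-- a convolution element satisfying the condition is a bialgebra map -/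
noncomputable def IsBi.toBialgHom {f : WithConv (C →ₐ[R] A)} (hf : IsBi f) : C →ₐc[R] A :=
  BialgHom.ofAlgHom f.ofConv
    (by
      have h := hf.2
      rw [pushHom_apply, AlgHom.convOne_def] at h
      have h' := congrArg ofConv h
      rw [ofConv_toConv, ofConv_toConv] at h'
      rw [h']
      ext c
      simp)
    (by
      have h := hf.1
      rw [push_mul_eq, pushHom_apply] at h
      have h' := congrArg ofConv h
      rw [ofConv_toConv, ofConv_toConv] at h'
      exact h'.symm)

@[simp] lemma IsBi.toBialgHom_apply {f : WithConv (C →ₐ[R] A)} (hf : IsBi f) (c : C) :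
    hf.toBialgHom c = f.ofConv c := rfl

/-- the quotient of two bialgebra maps -/
theorem quot_sub_one_mem (𝔞 : Ideal A) (f g k : WithConv (C →ₐ[R] A))
    (h : ∀ c, f.ofConv c - g.ofConv c ∈ 𝔞) (c : C) :
    (f * k).ofConv c - (g * k).ofConv c ∈ 𝔞 := by
  have h1 := AlgHom.convMul_apply f k c
  have h2 := AlgHom.convMul_apply g k c
  change (f * k).ofConv c = _ at h1
  change (g * k).ofConv c = _ at h2
  rw [h1, h2]
  generalize Coalgebra.comul (R := R) c = z
  induction z using TensorProduct.induction_on with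
  | zero => simp
  | add x y hx hy =>
    rw [map_add, map_add, add_sub_add_comm]
    exact add_mem hx hy
  | tmul x y =>
    rw [Algebra.TensorProduct.lift_tmul, Algebra.TensorProduct.lift_tmul, ← sub_mul]
    exact Ideal.mul_mem_right _ _ (h x)

theorem eq_of_quot_trivial (φ ψ : C →ₐc[R] A)
    (h : ∀ c, (toConv (φ : C →ₐ[R] A) * (toConv (ψ : C →ₐ[R] A))⁻¹).ofConv c =
      algebraMap R A (Coalgebra.counit c)) : φ = ψ := by
  have h1 : toConv (φ : C →ₐ[R] A) * (toConv (ψ : C →ₐ[R] A))⁻¹ = 1 := by
    apply ofConv_injective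
    ext c
    rw [h c]
    rfl
  have h2 : toConv (φ : C →ₐ[R] A) = toConv (ψ : C →ₐ[R] A) := mul_inv_eq_one.mp h1
  have h3 : (φ : C →ₐ[R] A) = (ψ : C →ₐ[R] A) := toConv_injective h2
  ext c
  exact congrArg (fun k : C →ₐ[R] A => k c) h3

end bialg

end Groth.Agent.Helper2.ConvGrp
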