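import Mathlib
import Groth.Prelude.Def_Found
import Groth.Agent.Helper3.MLCount
import Groth.Agent.Helper5.ComplPure3

/-!
# Helper2: countably generated flat Mittag-Leffler modules are projective
-/

set_option autoImplicit false
universe u

namespace Groth.Agent.Helper2.CtblProj

open TensorProduct

variable {R : Type u} [CommRing R]

/-- pointwise eventually constant sequences of linear maps have a limit -/
theorem exists_limit {M N : Type*} [AddCommGroup M] [Module R M] [AddCommGroup N] [Module R N]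
    (h : ℕ → M →ₗ[R] N) (hst : ∀ x, ∃ K₀, ∀ K, K₀ ≤ K → h K x = h K₀ x) :
    ∃ h' : M →ₗ[R] N, ∀ x, ∃ K₀, ∀ K, K₀ ≤ K → h K x = h' x := by
  choose K₀ hK₀ using hst
  have key : ∀ x K, K₀ x ≤ K → h K x = h (K₀ x) x := fun x K hK => hK₀ x K hK
  refine ⟨⟨⟨fun x => h (K₀ x) x, ?_⟩, ?_⟩, fun x => ⟨K₀ x, fun K hK => key x K hK⟩⟩
  · intro x y
    set K := max (K₀ x) (max (K₀ y) (K₀ (x + y)))
    have h1 : K₀ x ≤ K := le_max_left _ _
    have h2 : K₀ y ≤ K := le_trans (le_max_left _ _) (le_max_right _ _)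
    have h3 : K₀ (x + y) ≤ K := le_trans (le_max_right _ _) (le_max_right _ _)
    show h (K₀ (x + y)) (x + y) = h (K₀ x) x + h (K₀ y) y
    rw [← key _ K h1, ← key _ K h2, ← key _ K h3, map_add]
  · intro a x
    set K := max (K₀ x) (K₀ (a • x))
    have h1 : K₀ x ≤ K := le_max_left _ _
    have h2 : K₀ (a • x) ≤ K := le_max_right _ _
    show h (K₀ (a • x)) (a • x) = (RingHom.id R) a • h (K₀ x) x
    rw [← key _ K h1, ← key _ K h2, map_smul, RingHom.id_apply]

/-- A countably generated module in which every finite family of elements is fixed by an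
endomorphism factoring through a finite free module is projective. -/
theorem projective_of_local_factorization {M : Type u} [AddCommGroup M] [Module R M]
    (x : ℕ → M) (hx : Submodule.span R (Set.range x) = ⊤)
    (hloc : ∀ (n : ℕ) (y : Fin n → M), ∃ (k : ℕ) (b : M →ₗ[R] (Fin k →₀ R))
      (c : (Fin k →₀ R) →ₗ[R] M), ∀ i, c (b (y i)) = y i) :
    Module.Projective R M := by
  classical
  choose kf bf cf hbc using hloc
  let θ : ℕ → (M →ₗ[R] M) := fun k => Nat.rec LinearMap.id
    (fun k θk => (LinearMap.id - cf (k + 1) (fun i : Fin (k + 1) => θk (x i)) ∘ₗ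
      bf (k + 1) (fun i : Fin (k + 1) => θk (x i))) ∘ₗ θk) k
  have hθ0 : θ 0 = LinearMap.id := rfl
  have hθs : ∀ k, θ (k + 1) = (LinearMap.id - cf (k + 1) (fun i : Fin (k + 1) => θ k (x i)) ∘ₗ
      bf (k + 1) (fun i : Fin (k + 1) => θ k (x i))) ∘ₗ θ k := fun k => rfl
  have hBC : ∀ k (i : Fin (k + 1)),
      cf (k + 1) (fun i : Fin (k + 1) => θ k (x i))
        (bf (k + 1) (fun i : Fin (k + 1) => θ k (x i)) (θ k (x i))) = θ k (x i) :=
    fun k i => hbc (k + 1) _ i
  have hz1 : ∀ (i : ℕ), θ (i + 1) (x i) = 0 := by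
    intro i
    rw [hθs, LinearMap.comp_apply, LinearMap.sub_apply, LinearMap.id_apply,
      LinearMap.comp_apply]
    have := hBC i ⟨i, Nat.lt_succ_self i⟩
    rw [sub_eq_zero]
    exact this.symm
  have hz : ∀ (i k : ℕ), i < k → θ k (x i) = 0 := by
    intro i k hik
    induction k with
    | zero => omega
    | succ k ih =>
      rcases Nat.lt_succ_iff_lt_or_eq.1 hik with h | h
      · rw [hθs, LinearMap.comp_apply, ih h, map_zero]
      · subst h; exact hz1 i
  have hev : ∀ m : M, ∃ K₀, ∀ K, K₀ ≤ K → θ K m = 0 := by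
    intro m
    have hm : m ∈ Submodule.span R (Set.range x) := hx ▸ Submodule.mem_top
    induction hm using Submodule.span_induction with
    | mem y hy =>
      obtain ⟨i, rfl⟩ := hy
      exact ⟨i + 1, fun K hK => hz i K hK⟩
    | zero => exact ⟨0, fun K _ => map_zero _⟩
    | add y z _ _ hy hz' =>
      obtain ⟨K1, h1⟩ := hy
      obtain ⟨K2, h2⟩ := hz'
      exact ⟨max K1 K2, fun K hK => by
        rw [map_add, h1 K (le_of_max_le_left hK), h2 K (le_of_max_le_right hK), add_zero]⟩
    | smul a y _ hy =>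
      obtain ⟨K1, h1⟩ := hy
      exact ⟨K1, fun K hK => by rw [map_smul, h1 K hK, smul_zero]⟩
  have htel : ∀ K (m : M), m = (∑ k ∈ Finset.range K,
      cf (k + 1) (fun i : Fin (k + 1) => θ k (x i))
        (bf (k + 1) (fun i : Fin (k + 1) => θ k (x i)) (θ k m))) + θ K m := by
    intro K m
    induction K with
    | zero => simp [hθ0]
    | succ K ih =>
      rw [Finset.sum_range_succ, hθs K, LinearMap.comp_apply, LinearMap.sub_apply,
        LinearMap.id_apply, LinearMap.comp_apply]
      conv_lhs => rw [ih]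
      abel
  refine Module.Projective.of_lifting_property'' (fun f hf => ?_)
  have hl : ∀ k, ∃ l : (Fin (kf (k + 1) (fun i : Fin (k + 1) => θ k (x i))) →₀ R) →ₗ[R] (M →₀ R),
      f ∘ₗ l = cf (k + 1) (fun i : Fin (k + 1) => θ k (x i)) :=
    fun k => Module.projective_lifting_property f _ hf
  choose l hl using hl
  let hK : ℕ → (M →ₗ[R] (M →₀ R)) := fun K => ∑ k ∈ Finset.range K,
    (l k ∘ₗ bf (k + 1) (fun i : Fin (k + 1) => θ k (x i)) ∘ₗ θ k)
  have hKdef : ∀ K, hK K = ∑ k ∈ Finset.range K,
    (l k ∘ₗ bf (k + 1) (fun i : Fin (k + 1) => θ k (x i)) ∘ₗ θ k) := fun K => rfl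
  have hKs : ∀ K m, hK (K + 1) m = hK K m +
      l K (bf (K + 1) (fun i : Fin (K + 1) => θ K (x i)) (θ K m)) := by
    intro K m
    rw [hKdef (K + 1), hKdef K, Finset.sum_range_succ, LinearMap.add_apply]
    rfl
  have hst : ∀ m, ∃ K₀, ∀ K, K₀ ≤ K → hK K m = hK K₀ m := by
    intro m
    obtain ⟨K₀, h0⟩ := hev m
    refine ⟨K₀, fun K hKK => ?_⟩
    induction K, hKK using Nat.le_induction with
    | base => rfl
    | succ K hKK ih => rw [hKs, ih, h0 K hKK, map_zero, map_zero, add_zero]
  obtain ⟨h', hh'⟩ := exists_limit hK hst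
  refine ⟨h', LinearMap.ext fun m => ?_⟩
  obtain ⟨K1, h1⟩ := hh' m
  obtain ⟨K2, h2⟩ := hev m
  rw [LinearMap.comp_apply, ← h1 (max K1 K2) (le_max_left _ _), LinearMap.id_apply]
  have hf' : ∀ K, f (hK K m) = ∑ k ∈ Finset.range K,
      cf (k + 1) (fun i : Fin (k + 1) => θ k (x i))
        (bf (k + 1) (fun i : Fin (k + 1) => θ k (x i)) (θ k m)) := by
    intro K
    rw [hKdef K, LinearMap.sum_apply, map_sum]
    refine Finset.sum_congr rfl fun k _ => ?_
    rw [LinearMap.comp_apply, LinearMap.comp_apply, ← LinearMap.comp_apply f, hl]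
  rw [hf']
  conv_rhs => rw [htel (max K1 K2) m, h2 _ (le_max_right _ _), add_zero]

/-- **Key lemma**: a countably generated, flat, Mittag-Leffler module is projective. -/
theorem projective_of_flat_of_isML_of_countable {M : Type u} [AddCommGroup M] [Module R M]
    [Module.Flat R M] (hML : CAlg.IsMittagLeffler R M) (hc : CAlg.IsCountablyGenerated R M) :
    Module.Projective R M := by
  classical
  obtain ⟨s, hs, hspan⟩ := hc
  have hs' : (s ∪ {0}).Countable := hs.union (Set.countable_singleton 0)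
  obtain ⟨x, hx⟩ := hs'.exists_eq_range ⟨0, Or.inr rfl⟩
  have hxspan : Submodule.span R (Set.range x) = ⊤ := by
    rw [← hx, ← top_le_iff, ← hspan]
    exact Submodule.span_mono Set.subset_union_left
  have hc' : CAlg.IsCountablyGenerated R M := ⟨s, hs, hspan⟩
  refine projective_of_local_factorization x hxspan ?_
  intro n y
  obtain ⟨Q, _, _, _, b, c, hbc⟩ :=
    Groth.Agent.Helper3.exists_endo_of_isML_countable hML hc' (Fintype.linearCombination R y)
  obtain ⟨k, h₂, h₃, hfac⟩ := Module.Flat.exists_factorization_of_finitePresentation c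
  refine ⟨k, h₂ ∘ₗ b, h₃, fun i => ?_⟩
  have h1 : y i = Fintype.linearCombination R y (Pi.single i 1) := by
    rw [Fintype.linearCombination_apply_single, one_smul]
  have h2 := LinearMap.congr_fun hbc (Pi.single i (1 : R))
  rw [LinearMap.comp_apply, LinearMap.comp_apply, ← h1] at h2
  rw [LinearMap.comp_apply, ← LinearMap.comp_apply h₃, ← hfac]
  exact h2

end Groth.Agent.Helper2.CtblProj
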