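import Mathlib
import Groth.Prelude.Def_Found
import Groth.Agent.Helper2.CtblProj

/-!
# Helper2: countable generation of finite modules over finite type algebras; split injections
-/

set_option autoImplicit false
universe u

namespace Groth.Agent.Helper2.CtblProj

open TensorProduct

variable {R : Type u} [CommRing R]

/-- A finite module over a finite type `R`-algebra is countably generated over `R`. -/
theorem countablyGenerated_of_finite_of_finiteType {S : Type u} [CommRing S] [Algebra R S]
    [Algebra.FiniteType R S] (N : Type u) [AddCommGroup N] [Module S N] [Module R N]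
    [IsScalarTower R S N] [Module.Finite S N] : CAlg.IsCountablyGenerated R N := by
  classical
  obtain ⟨n, φ, hφ⟩ := Algebra.FiniteType.iff_quotient_mvPolynomial''.1
    (inferInstance : Algebra.FiniteType R S)
  obtain ⟨m, g, hg⟩ := Module.Finite.exists_fin (R := S) (M := N)
  let T : Set N := Set.range (fun ai : (Fin n →₀ ℕ) × Fin m =>
    φ (MvPolynomial.monomial ai.1 (1 : R)) • g ai.2)
  refine ⟨T, Set.countable_range _, ?_⟩
  have hmem : ∀ (s : S) (i : Fin m), s • g i ∈ Submodule.span R T := by
    intro s i
    obtain ⟨p, rfl⟩ := hφ s
    let ψ : MvPolynomial (Fin n) R →ₗ[R] N :=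
      { toFun := fun p => φ p • g i
        map_add' := fun p q => by rw [map_add, add_smul]
        map_smul' := fun a p => by
          rw [map_smul, RingHom.id_apply, smul_assoc] }
    have htop : (Submodule.span R T).comap ψ = ⊤ := by
      rw [← top_le_iff, ← (MvPolynomial.basisMonomials (Fin n) R).span_eq, Submodule.span_le]
      rintro _ ⟨a, rfl⟩
      show ψ _ ∈ Submodule.span R T
      rw [MvPolynomial.coe_basisMonomials]
      exact Submodule.subset_span ⟨(a, i), rfl⟩
    have : p ∈ (Submodule.span R T).comap ψ := htop ▸ Submodule.mem_top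
    exact this
  rw [← top_le_iff]
  intro x _
  have hx : x ∈ Submodule.span S (Set.range g) := hg ▸ Submodule.mem_top
  obtain ⟨c, rfl⟩ := (Submodule.mem_span_range_iff_exists_fun S).1 hx
  exact Submodule.sum_mem _ fun i _ => hmem (c i) i

/-- a split injection is universally injective (`rTensor` form) -/
theorem rTensor_injective_of_split {M N : Type u} [AddCommGroup M] [Module R M] [AddCommGroup N]
    [Module R N] (s : M →ₗ[R] N) (π : N →ₗ[R] M) (h : π ∘ₗ s = LinearMap.id)
    (Q : Type u) [AddCommGroup Q] [Module R Q] : Function.Injective (s.rTensor Q) := by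
  have h1 : (π.rTensor Q) ∘ₗ (s.rTensor Q) = LinearMap.id := by
    rw [← LinearMap.rTensor_comp, h, LinearMap.rTensor_id]
  intro a b hab
  have := congrArg (π.rTensor Q) hab
  rwa [← LinearMap.comp_apply, ← LinearMap.comp_apply, h1] at this

/-- `lTensor`-universally injective implies `rTensor`-universally injective -/
theorem rTensor_injective_of_lTensor {M N : Type u} [AddCommGroup M] [Module R M] [AddCommGroup N]
    [Module R N] (f : M →ₗ[R] N) (Q : Type u) [AddCommGroup Q] [Module R Q]
    (h : Function.Injective (f.lTensor Q)) : Function.Injective (f.rTensor Q) := by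
  have h1 : f.rTensor Q = (TensorProduct.comm R Q N).toLinearMap ∘ₗ f.lTensor Q ∘ₗ
      (TensorProduct.comm R M Q).toLinearMap := by
    ext m q
    simp
  rw [h1]
  exact (TensorProduct.comm R Q N).injective.comp (h.comp (TensorProduct.comm R M Q).injective)

end Groth.Agent.Helper2.CtblProj
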