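import Mathlib
import Groth.Prelude.Def_Found
import Groth.Agent.Helper2.CtblProj2
import Groth.Agent.S0583

/-!
# Helper2: projective ⟺ flat + Mittag-Leffler + direct sum of countably generated
-/

set_option autoImplicit false
universe u

namespace Groth.Agent.Helper2.CtblProj

open TensorProduct
open scoped Classical

variable {R : Type u} [CommRing R]

theorem countablyGenerated_of_equiv {A B : Type u} [AddCommGroup A] [Module R A] [AddCommGroup B]
    [Module R B] (e : A ≃ₗ[R] B) (h : CAlg.IsCountablyGenerated R A) :
    CAlg.IsCountablyGenerated R B := by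
  obtain ⟨s, hs, hspan⟩ := h
  refine ⟨e '' s, hs.image _, ?_⟩
  have : Submodule.span R (e '' s) = (Submodule.span R s).map e.toLinearMap := by
    rw [Submodule.map_span]; rfl
  rw [this, hspan, Submodule.map_top, LinearEquiv.range]

theorem countablyGenerated_span_singleton {F : Type u} [AddCommGroup F] [Module R F] (v : F) :
    CAlg.IsCountablyGenerated R ↥(Submodule.span R ({v} : Set F)) := by
  refine ⟨{⟨v, Submodule.mem_span_singleton_self v⟩}, Set.countable_singleton _, ?_⟩
  rw [← top_le_iff]
  rintro ⟨y, hy⟩ _
  obtain ⟨a, rfl⟩ := Submodule.mem_span_singleton.1 hy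
  have : (⟨a • v, hy⟩ : ↥(Submodule.span R ({v} : Set F))) =
      a • ⟨v, Submodule.mem_span_singleton_self v⟩ := rfl
  rw [this]
  exact Submodule.smul_mem _ _ (Submodule.subset_span rfl)

/-- `⇐` direction. -/
theorem projective_of_isInternal {M : Type u} [AddCommGroup M] [Module R M] [Module.Flat R M]
    (hML : CAlg.IsMittagLeffler R M) {ι : Type u} (N : ι → Submodule R M)
    (hN : DirectSum.IsInternal N) (hc : ∀ i, CAlg.IsCountablyGenerated R (N i)) :
    Module.Projective R M := by
  classical
  let e : (DirectSum ι fun i => N i) ≃ₗ[R] M :=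
    LinearEquiv.ofBijective (DirectSum.coeLinearMap N) hN
  have hproj : ∀ i, Module.Projective R (N i) := by
    intro i
    let pr : M →ₗ[R] N i := (DirectSum.component R ι (fun i => N i) i) ∘ₗ e.symm.toLinearMap
    have hpr : pr ∘ₗ (N i).subtype = LinearMap.id := by
      ext y
      have h1 : e (DirectSum.lof R ι (fun i => N i) i y) = (y : M) := by
        show DirectSum.coeLinearMap N _ = _
        rw [DirectSum.coeLinearMap_lof]
      have h2 : e.symm (y : M) = DirectSum.lof R ι (fun i => N i) i y := by
        rw [← h1, LinearEquiv.symm_apply_apply]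
      simp only [pr, LinearMap.comp_apply, Submodule.subtype_apply, LinearEquiv.coe_coe,
        LinearMap.id_apply]
      rw [h2, DirectSum.component.lof_self]
    haveI : Module.Flat R (N i) := Module.Flat.of_retract (N i).subtype pr hpr
    have hMLi : CAlg.IsMittagLeffler R (N i) :=
      Groth.Agent.Helper5.ComplPure.isML_of_rTensor_injective (N i).subtype
        (fun Q _ _ => rTensor_injective_of_split _ pr hpr Q) hML
    exact projective_of_flat_of_isML_of_countable hMLi (hc i)
  haveI : Module.Projective R (DirectSum ι fun i => N i) :=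
    inferInstanceAs (Module.Projective R (Π₀ i, N i))
  exact Module.Projective.of_equiv e

/-- a direct summand of a free module is a direct sum of countably generated submodules. -/
theorem exists_isInternal_of_split {F M : Type u} [AddCommGroup F] [Module R F]
    [AddCommGroup M] [Module R M] {ι : Type u} (b : Module.Basis ι R F)
    (s : M →ₗ[R] F) (π : F →ₗ[R] M) (hs : π ∘ₗ s = LinearMap.id) :
    ∃ (κ : Type u) (N : κ → Submodule R M), DirectSum.IsInternal N ∧
      ∀ i, CAlg.IsCountablyGenerated R (N i) := by
  classical
  have hs' : ∀ m, π (s m) = m := fun m => LinearMap.congr_fun hs m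
  let Nf : ι → Submodule R F := fun i => Submodule.span R {b i}
  have hNf : DirectSum.IsInternal Nf := by
    apply DirectSum.isInternal_submodule_of_iSupIndep_of_iSup_eq_top
    · exact b.linearIndependent.iSupIndep_span_singleton
    · have h1 := b.span_eq
      rw [Submodule.span_range_eq_iSup] at h1
      exact h1
  have hcf : ∀ i, CAlg.IsCountablyGenerated R (Nf i) := fun i =>
    countablyGenerated_span_singleton _
  have hPQ : IsCompl (LinearMap.range s) (LinearMap.ker π) := by
    refine ⟨?_, ?_⟩
    · rw [Submodule.disjoint_def]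
      rintro _ ⟨m, rfl⟩ hk
      have : π (s m) = 0 := hk
      rw [hs'] at this
      rw [this, map_zero]
    · rw [codisjoint_iff, ← top_le_iff]
      intro v _
      have h1 : v = s (π v) + (v - s (π v)) := by abel
      rw [h1]
      refine Submodule.add_mem_sup ⟨π v, rfl⟩ ?_
      rw [LinearMap.mem_ker, map_sub, hs', sub_self]
  obtain ⟨κ, L, hL, hLc⟩ := Groth.Agent.S0583.result R F ι Nf hNf hcf _ _ hPQ
  have hsinj : Function.Injective s := by
    intro a b hab
    rw [← hs' a, ← hs' b, hab]
  let e : M ≃ₗ[R] ↥(LinearMap.range s) := LinearEquiv.ofInjective s hsinj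
  refine ⟨κ, fun k => (L k).map e.symm.toLinearMap, ?_, ?_⟩
  · rw [DirectSum.isInternal_submodule_iff_iSupIndep_and_iSup_eq_top] at hL ⊢
    refine ⟨?_, ?_⟩
    · exact hL.1.map_orderIso (Submodule.orderIsoMapComap e.symm)
    · rw [← Submodule.map_iSup, hL.2, Submodule.map_top, LinearEquiv.range]
  · intro k
    exact countablyGenerated_of_equiv (e.symm.submoduleMap (L k)) (hLc k)

/-- `⇒` direction, decomposition part. -/
theorem exists_isInternal_of_projective {M : Type u} [AddCommGroup M] [Module R M]
    [Module.Projective R M] :
    ∃ (ι : Type u) (N : ι → Submodule R M), DirectSum.IsInternal N ∧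
      ∀ i, CAlg.IsCountablyGenerated R (N i) := by
  obtain ⟨s, hs⟩ := Module.projective_def'.1 ‹Module.Projective R M›
  exact exists_isInternal_of_split (Finsupp.basisSingleOne (R := R) (ι := M)) s _ hs

theorem isML_of_projective {M : Type u} [AddCommGroup M] [Module R M] [Module.Projective R M] :
    CAlg.IsMittagLeffler R M := by
  obtain ⟨s, hs⟩ := Module.projective_def'.1 ‹Module.Projective R M›
  exact Groth.Agent.Helper5.ComplPure.isML_of_rTensor_injective s
    (fun Q _ _ => rTensor_injective_of_split s _ hs Q)
    (Groth.Agent.Helper3.isML_of_free R (M →₀ R))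

end Groth.Agent.Helper2.CtblProj
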