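import Mathlib
import Groth.Prelude.Def_Found
import Groth.Agent.Helper7.Kap1

/-!
# Helper2: descent of projectivity along faithfully flat maps, part 1:
base change of submodules and the countable closure lemma.
-/

set_option autoImplicit false
universe u

namespace Groth.Agent.Helper2.ProjDesc

open TensorProduct Groth.Agent.Helper7.Kap

variable {R : Type u} [CommRing R] (S : Type u) [CommRing S] [Algebra R S]
  {M : Type u} [AddCommGroup M] [Module R M]

theorem span_iSup_restrictScalars {ι : Sort*} (N : ι → Submodule R (S ⊗[R] M)) :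
    Submodule.span S ((⨆ i, N i : Submodule R (S ⊗[R] M)) : Set (S ⊗[R] M)) =
      ⨆ i, Submodule.span S (N i : Set (S ⊗[R] M)) := by
  apply le_antisymm
  · rw [Submodule.span_le]
    have : (⨆ i, N i) ≤ (⨆ i, Submodule.span S (N i : Set (S ⊗[R] M))).restrictScalars R := by
      refine iSup_le fun i => ?_
      intro y hy
      exact (le_iSup (fun i => Submodule.span S (N i : Set (S ⊗[R] M))) i)
        (Submodule.subset_span hy)
    exact this
  · refine iSup_le fun i => Submodule.span_mono ?_
    exact SetLike.coe_subset_coe.2 (le_iSup N i)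

theorem baseChange_iSup {ι : Sort*} (p : ι → Submodule R M) :
    (⨆ i, p i).baseChange S = ⨆ i, (p i).baseChange S := by
  simp_rw [Submodule.baseChange_eq_span]
  rw [Submodule.map_iSup, span_iSup_restrictScalars]

theorem baseChange_sup (p q : Submodule R M) :
    (p ⊔ q).baseChange S = p.baseChange S ⊔ q.baseChange S := by
  rw [sup_eq_iSup, baseChange_iSup, sup_eq_iSup]
  congr 1
  funext b
  cases b <;> rfl

theorem baseChange_sSup (𝓛 : Set (Submodule R M)) :
    (sSup 𝓛).baseChange S = ⨆ L ∈ 𝓛, L.baseChange S := by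
  rw [sSup_eq_iSup, baseChange_iSup]
  congr 1
  funext L
  rw [baseChange_iSup]

/-- every element of `S ⊗ M` lies in the base change of a finitely generated submodule -/
theorem exists_finset_mem_baseChange (z : S ⊗[R] M) :
    ∃ F : Finset M, z ∈ (Submodule.span R (F : Set M)).baseChange S := by
  classical
  induction z using TensorProduct.induction_on with
  | zero => exact ⟨∅, Submodule.zero_mem _⟩
  | tmul s m =>
    exact ⟨{m}, Submodule.tmul_mem_baseChange_of_mem s
      (Submodule.subset_span (by simp))⟩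
  | add y z hy hz =>
    obtain ⟨F₁, h₁⟩ := hy
    obtain ⟨F₂, h₂⟩ := hz
    refine ⟨F₁ ∪ F₂, Submodule.add_mem _ ?_ ?_⟩
    · exact Submodule.baseChange_mono S (Submodule.span_mono (by simp)) h₁
    · exact Submodule.baseChange_mono S (Submodule.span_mono (by simp)) h₂

variable {S}

/-- the sum of the `Q i` over a set of indices -/
def QJ {I : Type u} (Q : I → Submodule S (S ⊗[R] M)) (J : Set I) : Submodule S (S ⊗[R] M) :=
  ⨆ i ∈ J, Q i

theorem QJ_mono {I : Type u} (Q : I → Submodule S (S ⊗[R] M)) {J J' : Set I} (h : J ⊆ J') :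
    QJ Q J ≤ QJ Q J' :=
  biSup_mono h

theorem QJ_union {I : Type u} (Q : I → Submodule S (S ⊗[R] M)) (J J' : Set I) :
    QJ Q (J ∪ J') = QJ Q J ⊔ QJ Q J' :=
  iSup_union

/-- **Closure lemma**: every element of `M` lies in a countably generated submodule whose base
change is a sum of the `Q i` over a countable set of indices. -/
theorem exists_closed {I : Type u} (Q : I → Submodule S (S ⊗[R] M)) (htop : iSup Q = ⊤)
    (hQ : ∀ i, CGs (Q i)) (x : M) :
    ∃ (L : Submodule R M) (D : Set I), CGs L ∧ x ∈ L ∧ D.Countable ∧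
      L.baseChange S = QJ Q D := by
  classical
  -- supports
  have hsupp : ∀ m : M, ∃ F : Finset I, (1 : S) ⊗ₜ[R] m ∈ ⨆ i ∈ F, Q i := by
    intro m
    have hm : (1 : S) ⊗ₜ[R] m ∈ ⨆ i, Q i := by rw [htop]; trivial
    exact Submodule.exists_finset_of_mem_iSup Q hm
  choose suppF hsuppF using hsupp
  -- members
  choose memF hmemF using exists_finset_mem_baseChange (R := R) S (M := M)
  choose G hGc hGspan using hQ
  let B : I → Set M := fun i => ⋃ z ∈ G i, (memF z : Set M)
  have hBc : ∀ i, (B i).Countable := fun i =>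
    (hGc i).biUnion fun z _ => (memF z).countable_toSet
  have hQB : ∀ i, Q i ≤ (Submodule.span R (B i)).baseChange S := by
    intro i
    rw [← hGspan i, Submodule.span_le]
    intro z hz
    refine Submodule.baseChange_mono S (Submodule.span_mono ?_) (hmemF z)
    intro m hm
    exact Set.mem_biUnion hz hm
  -- closure
  let Tcl : M ⊕ I → Set (M ⊕ I) := fun v =>
    Sum.elim (fun m => Sum.inr '' (suppF m : Set I)) (fun i => Sum.inl '' (B i)) v
  have hTcl : ∀ v, (Tcl v).Countable := by
    rintro (m | i)
    · exact ((suppF m).countable_toSet).image _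
    · exact (hBc i).image _
  obtain ⟨C, hCc, hxC, hCcl⟩ := exists_countable_closed Tcl hTcl (Sum.inl x)
  let A : Set M := {m | Sum.inl m ∈ C}
  let D : Set I := {i | Sum.inr i ∈ C}
  have hAc : A.Countable := hCc.preimage_of_injOn Sum.inl_injective.injOn
  have hDc : D.Countable := hCc.preimage_of_injOn Sum.inr_injective.injOn
  have hAD : ∀ m ∈ A, ∀ i ∈ suppF m, i ∈ D := by
    intro m hm i hi
    exact hCcl _ hm ⟨i, hi, rfl⟩
  have hDA : ∀ i ∈ D, B i ⊆ A := by
    intro i hi m hm
    exact hCcl _ hi ⟨m, hm, rfl⟩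
  refine ⟨Submodule.span R A, D, ⟨A, hAc, rfl⟩, Submodule.subset_span hxC, hDc, ?_⟩
  apply le_antisymm
  · rw [Submodule.baseChange_span, Submodule.span_le]
    rintro _ ⟨m, hm, rfl⟩
    have h1 : (⨆ i ∈ suppF m, Q i) ≤ QJ Q D := by
      refine iSup₂_le fun i hi => ?_
      exact le_biSup Q (hAD m hm i hi)
    exact h1 (hsuppF m)
  · refine iSup₂_le fun i hi => ?_
    exact (hQB i).trans (Submodule.baseChange_mono S (Submodule.span_mono (hDA i hi)))

end Groth.Agent.Helper2.ProjDesc
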