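import Mathlib
import Groth.Prelude.Def_Found
import Groth.Agent.Helper2.ProjDesc1
import Groth.Agent.Helper2.CtblProj3
import Groth.Agent.S0586

/-!
# Helper2: descent of projectivity along faithfully flat maps, part 2: the extension step.
-/

set_option autoImplicit false
universe u

namespace Groth.Agent.Helper2.ProjDesc

open TensorProduct Groth.Agent.Helper7.Kap
open scoped Classical

variable {R : Type u} [CommRing R] {S : Type u} [CommRing S] [Algebra R S]

/-- countable case of the descent of projectivity -/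
theorem projective_of_baseChange_of_countable [Module.FaithfullyFlat R S]
    (P : Type u) [AddCommGroup P] [Module R P]
    (hc : CAlg.IsCountablyGenerated R P) [Module.Projective S (S ⊗[R] P)] :
    Module.Projective R P := by
  haveI : Module.Flat R P := Module.Flat.of_flat_tensorProduct R P S
  have hML : CAlg.IsMittagLeffler R P :=
    Groth.Agent.S0586.result R S P Groth.Agent.Helper2.CtblProj.isML_of_projective
  exact Groth.Agent.Helper2.CtblProj.projective_of_flat_of_isML_of_countable hML hc

theorem countablyGenerated_of_surjective {A B : Type u} [AddCommGroup A] [Module R A]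
    [AddCommGroup B] [Module R B] (f : A →ₗ[R] B) (hf : Function.Surjective f)
    (h : CAlg.IsCountablyGenerated R A) : CAlg.IsCountablyGenerated R B := by
  obtain ⟨s, hs, hspan⟩ := h
  refine ⟨f '' s, hs.image _, ?_⟩
  rw [← Submodule.map_span, hspan, Submodule.map_top, LinearMap.range_eq_top.2 hf]

/-- a quotient of a projective module by a submodule killed by a "projection" is projective -/
theorem projective_of_split_ker {V B : Type u} [AddCommGroup V] [Module S V] [AddCommGroup B]
    [Module S B] [Module.Projective S V] (f : V →ₗ[S] B) (hf : Function.Surjective f)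
    (ρ : V →ₗ[S] V) (h1 : LinearMap.ker f ≤ LinearMap.ker ρ) (h2 : f ∘ₗ ρ = f) :
    Module.Projective S B := by
  let e := f.quotKerEquivOfSurjective hf
  let i : B →ₗ[S] V := (LinearMap.ker f).liftQ ρ h1 ∘ₗ e.symm.toLinearMap
  refine Module.Projective.of_split i f ?_
  ext b
  obtain ⟨q, rfl⟩ := e.surjective b
  obtain ⟨a, rfl⟩ := Submodule.Quotient.mk_surjective _ q
  simp only [i, LinearMap.comp_apply, LinearEquiv.coe_coe, LinearEquiv.symm_apply_apply,
    Submodule.liftQ_apply, LinearMap.id_apply]
  have := LinearMap.congr_fun h2 a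
  rw [LinearMap.comp_apply] at this
  rw [this]
  rfl

variable {M : Type u} [AddCommGroup M] [Module R M]

theorem isCompl_QJ {I : Type u} (Q : I → Submodule S (S ⊗[R] M)) (hQ : DirectSum.IsInternal Q)
    (J : Set I) : IsCompl (QJ Q J) (QJ Q Jᶜ) := by
  refine ⟨?_, ?_⟩
  · exact hQ.submodule_iSupIndep.disjoint_biSup_biSup disjoint_compl_right
  · rw [codisjoint_iff, ← QJ_union, Set.union_compl_self]
    show (⨆ i ∈ (Set.univ : Set I), Q i) = ⊤
    rw [iSup_univ]
    exact hQ.submodule_iSup_eq_top

theorem projective_QJ [Module.Projective S (S ⊗[R] M)] {I : Type u}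
    (Q : I → Submodule S (S ⊗[R] M)) (hQ : DirectSum.IsInternal Q) (J : Set I) :
    Module.Projective S (QJ Q J) :=
  Module.Projective.of_split (QJ Q J).subtype
    (Submodule.projectionOnto _ _ (isCompl_QJ Q hQ J))
    (Submodule.projectionOnto_comp_subtype _)

/-- **Extension step.** -/
theorem exists_complement [Module.FaithfullyFlat R S] [Module.Projective S (S ⊗[R] M)]
    {I : Type u} (Q : I → Submodule S (S ⊗[R] M)) (hQ : DirectSum.IsInternal Q)
    (T L' : Submodule R M) (J D : Set I) (hT : T.baseChange S = QJ Q J)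
    (hL' : L'.baseChange S = QJ Q D) (hL'c : CGs L') :
    ∃ L₀ : Submodule R M, CGs L₀ ∧ Disjoint T L₀ ∧ T ⊔ L₀ = T ⊔ L' := by
  set N : Submodule R M := T ⊔ L' with hN
  have hNe : N.baseChange S = QJ Q (J ∪ D) := by rw [baseChange_sup, hT, hL', QJ_union]
  let K : Submodule R N := T.comap N.subtype
  have hKmem : ∀ n : N, n ∈ K ↔ (n : M) ∈ T := fun n => Iff.rfl
  -- countably generated
  have hcP : CAlg.IsCountablyGenerated R (↥N ⧸ K) := by
    have hL'mod : CAlg.IsCountablyGenerated R L' :=
      module_of_cgs L'.subtype L'.injective_subtype (by rwa [Submodule.range_subtype])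
    refine countablyGenerated_of_surjective
      (K.mkQ ∘ₗ Submodule.inclusion (le_sup_right : L' ≤ N)) ?_ hL'mod
    intro q
    obtain ⟨⟨n, hn⟩, rfl⟩ := K.mkQ_surjective q
    obtain ⟨t, ht, l, hl, rfl⟩ := Submodule.mem_sup.1 hn
    refine ⟨⟨l, hl⟩, ?_⟩
    rw [LinearMap.comp_apply, Submodule.mkQ_apply, Submodule.mkQ_apply, Submodule.Quotient.eq,
      hKmem]
    have : ((Submodule.inclusion (le_sup_right : L' ≤ N) ⟨l, hl⟩ - ⟨t + l, hn⟩ : N) : M) = -t := by
      rw [Submodule.coe_sub]
      show l - (t + l) = -t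
      abel
    rw [this]
    exact T.neg_mem ht
  -- the S-side
  let f : S ⊗[R] N →ₗ[S] S ⊗[R] (↥N ⧸ K) := K.mkQ.baseChange S
  let g : S ⊗[R] N →ₗ[S] S ⊗[R] M := N.subtype.baseChange S
  have hf : Function.Surjective f := by
    show Function.Surjective (K.mkQ.baseChange S)
    rw [LinearMap.baseChange_eq_ltensor]
    exact LinearMap.lTensor_surjective S K.mkQ_surjective
  have hg : Function.Injective g := by
    show Function.Injective (N.subtype.baseChange S)
    rw [LinearMap.baseChange_eq_ltensor]
    exact Module.Flat.lTensor_preserves_injective_linearMap N.subtype N.injective_subtype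
  have hgr : LinearMap.range g = QJ Q (J ∪ D) := hNe
  have hker : ∀ a, a ∈ LinearMap.ker f ↔ a ∈ LinearMap.range (K.subtype.baseChange S) := by
    intro a
    have hex := lTensor_exact S (LinearMap.exact_subtype_mkQ K) K.mkQ_surjective
    exact hex a
  -- g maps ker f into QJ J
  have hgK0 : ∀ w, g ((K.subtype.baseChange S) w) ∈ T.baseChange S := by
    intro w
    induction w using TensorProduct.induction_on with
    | zero => simp
    | tmul s k =>
      show (s ⊗ₜ[R] ((k : N) : M)) ∈ T.baseChange S
      exact Submodule.tmul_mem_baseChange_of_mem s ((hKmem k).1 k.2)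
    | add y z hy hz =>
      rw [map_add, map_add]
      exact Submodule.add_mem _ hy hz
  have hgK : ∀ a ∈ LinearMap.ker f, g a ∈ QJ Q J := by
    intro a ha
    obtain ⟨w, rfl⟩ := (hker a).1 ha
    rw [← hT]
    exact hgK0 w
  -- every element of QJ J is g of an element of ker f
  have hKg : ∀ y ∈ QJ Q J, ∃ k ∈ LinearMap.ker f, g k = y := by
    intro y hy
    rw [← hT] at hy
    obtain ⟨w', rfl⟩ := hy
    let τ : T →ₗ[R] K :=
      { toFun := fun t => ⟨⟨t.1, (le_sup_left : T ≤ N) t.2⟩, t.2⟩
        map_add' := fun _ _ => rfl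
        map_smul' := fun _ _ => rfl }
    refine ⟨(K.subtype.baseChange S) ((τ.baseChange S) w'), (hker _).2 ⟨_, rfl⟩, ?_⟩
    show (N.subtype.baseChange S) ((K.subtype.baseChange S) ((τ.baseChange S) w')) = _
    rw [← LinearMap.comp_apply, ← LinearMap.comp_apply, ← LinearMap.baseChange_comp,
      ← LinearMap.baseChange_comp]
    rfl
  -- the projection
  have hcompl : IsCompl (QJ Q Jᶜ) (QJ Q J) := (isCompl_QJ Q hQ J).symm
  let pr : S ⊗[R] M →ₗ[S] S ⊗[R] M := piP (QJ Q Jᶜ) (QJ Q J) hcompl
  have hpr0 : ∀ y ∈ QJ Q J, pr y = 0 := fun y hy => piP_of_mem_right _ _ hcompl hy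
  have hprs : ∀ y, y - pr y ∈ QJ Q J := fun y => sub_piP_mem _ _ hcompl y
  have hprg : ∀ a, pr (g a) ∈ LinearMap.range g := by
    intro a
    rw [hgr]
    have h1 : g a ∈ QJ Q (J ∪ D) := hgr ▸ LinearMap.mem_range_self g a
    have h2 : g a - pr (g a) ∈ QJ Q (J ∪ D) := QJ_mono Q Set.subset_union_left (hprs (g a))
    have := Submodule.sub_mem _ h1 h2
    rwa [sub_sub_cancel] at this
  let e := LinearEquiv.ofInjective g hg
  let ρ : S ⊗[R] N →ₗ[S] S ⊗[R] N :=
    e.symm.toLinearMap ∘ₗ LinearMap.codRestrict (LinearMap.range g) (pr ∘ₗ g) hprg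
  have hρ : ∀ a, g (ρ a) = pr (g a) := by
    intro a
    have := congrArg Subtype.val (e.apply_symm_apply
      (LinearMap.codRestrict (LinearMap.range g) (pr ∘ₗ g) hprg a))
    exact this
  have h1 : LinearMap.ker f ≤ LinearMap.ker ρ := by
    intro a ha
    rw [LinearMap.mem_ker]
    apply hg
    rw [hρ, map_zero]
    exact hpr0 _ (hgK a ha)
  have h2 : f ∘ₗ ρ = f := by
    refine LinearMap.ext fun a => ?_
    show f (ρ a) = f a
    obtain ⟨k, hk, hgk⟩ := hKg _ (hprs (g a))
    have : ρ a = a - k := by
      apply hg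
      rw [hρ, map_sub, hgk, sub_sub_cancel]
    rw [this, map_sub, LinearMap.mem_ker.1 hk, sub_zero]
  haveI : Module.Projective S (S ⊗[R] N) := by
    haveI : Module.Projective S (QJ Q (J ∪ D)) := projective_QJ Q hQ _
    haveI : Module.Projective S (LinearMap.range g) := by rw [hgr]; infer_instance
    exact Module.Projective.of_equiv e.symm
  haveI : Module.Projective S (S ⊗[R] (↥N ⧸ K)) := projective_of_split_ker f hf ρ h1 h2
  haveI : Module.Projective R (↥N ⧸ K) := projective_of_baseChange_of_countable (S := S) _ hcP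
  obtain ⟨σ, hσ⟩ := Module.projective_lifting_property K.mkQ LinearMap.id K.mkQ_surjective
  have hσ' : ∀ p, K.mkQ (σ p) = p := fun p => LinearMap.congr_fun hσ p
  refine ⟨LinearMap.range (N.subtype ∘ₗ σ), ?_, ?_, ?_⟩
  · obtain ⟨s, hs, hspan⟩ := hcP
    refine ⟨(N.subtype ∘ₗ σ) '' s, hs.image _, ?_⟩
    rw [← Submodule.map_span, hspan, Submodule.map_top]
  · rw [Submodule.disjoint_def]
    rintro y hyT ⟨p, rfl⟩
    have hK : σ p ∈ K := (hKmem _).2 hyT
    have : p = 0 := by
      rw [← hσ' p, Submodule.mkQ_apply, Submodule.Quotient.mk_eq_zero]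
      exact hK
    rw [this, map_zero]
  · apply le_antisymm
    · refine sup_le le_sup_left ?_
      rintro _ ⟨p, rfl⟩
      exact (σ p).2
    · intro n hn
      let n' : N := ⟨n, hn⟩
      have hd : n' - σ (K.mkQ n') ∈ K := by
        rw [← Submodule.Quotient.mk_eq_zero]
        show K.mkQ (n' - σ (K.mkQ n')) = 0
        rw [map_sub, hσ', sub_self]
      have hd' : n - (σ (K.mkQ n') : M) ∈ T := (hKmem _).1 hd
      have : n = (n - (σ (K.mkQ n') : M)) + (σ (K.mkQ n') : M) := by abel
      rw [this]
      exact Submodule.add_mem_sup hd' ⟨K.mkQ n', rfl⟩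

end Groth.Agent.Helper2.ProjDesc
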