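import Mathlib
import Groth.Prelude.Def_Found
import Groth.Agent.Helper2.ProjDesc2
import Groth.Agent.Helper7.Kap2

/-!
# Helper2: descent of projectivity along faithfully flat maps, part 3: the Zorn argument.
-/

set_option autoImplicit false
universe u

namespace Groth.Agent.Helper2.ProjDesc

open TensorProduct Groth.Agent.Helper7.Kap
open scoped Classical

variable {R : Type u} [CommRing R] {S : Type u} [CommRing S] [Algebra R S]
variable {M : Type u} [AddCommGroup M] [Module R M]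

section main

variable {I : Type u} (Q : I → Submodule S (S ⊗[R] M))

/-- admissible pairs -/
def Adm (x : Set I × Set (Submodule R M)) : Prop :=
  (∀ L ∈ x.2, CGs L) ∧ sSupIndep x.2 ∧ (sSup x.2).baseChange S = QJ Q x.1

theorem adm_chain (c : Set (Set I × Set (Submodule R M)))
    (hcs : ∀ z ∈ c, Adm Q z) (hch : IsChain (· ≤ ·) c) :
    ∃ ub, Adm Q ub ∧ ∀ z ∈ c, z ≤ ub := by
  set Js : Set I := ⋃₀ (Prod.fst '' c) with hJs
  set Ls : Set (Submodule R M) := ⋃₀ (Prod.snd '' c) with hLs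
  refine ⟨(Js, Ls), ⟨?_, ?_, ?_⟩, ?_⟩
  · rintro L ⟨_, ⟨z, hz, rfl⟩, hL⟩
    exact (hcs z hz).1 L hL
  · apply iSupIndep_sUnion_of_directed
    · rintro _ ⟨z, hz, rfl⟩ _ ⟨z', hz', rfl⟩
      rcases hch.total hz hz' with h | h
      · exact ⟨z'.2, ⟨z', hz', rfl⟩, h.2, le_rfl⟩
      · exact ⟨z.2, ⟨z, hz, rfl⟩, le_rfl, h.2⟩
    · rintro _ ⟨z, hz, rfl⟩
      exact (hcs z hz).2.1
  · show (sSup Ls).baseChange S = QJ Q Js
    apply le_antisymm
    · rw [baseChange_sSup]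
      refine iSup₂_le ?_
      rintro L ⟨_, ⟨z, hz, rfl⟩, hL⟩
      have h1 : L.baseChange S ≤ (sSup z.2).baseChange S :=
        Submodule.baseChange_mono S (le_sSup hL)
      rw [(hcs z hz).2.2] at h1
      exact h1.trans (QJ_mono Q (Set.subset_sUnion_of_mem ⟨z, hz, rfl⟩))
    · refine iSup₂_le ?_
      rintro i ⟨_, ⟨z, hz, rfl⟩, hi⟩
      have h1 : Q i ≤ QJ Q z.1 := le_biSup Q hi
      rw [← (hcs z hz).2.2] at h1
      refine h1.trans (Submodule.baseChange_mono S (sSup_le_sSup ?_))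
      exact Set.subset_sUnion_of_mem ⟨z, hz, rfl⟩
  · intro z hz
    exact ⟨Set.subset_sUnion_of_mem ⟨z, hz, rfl⟩, Set.subset_sUnion_of_mem ⟨z, hz, rfl⟩⟩

theorem adm_extend [Module.FaithfullyFlat R S] [Module.Projective S (S ⊗[R] M)]
    (hQ : DirectSum.IsInternal Q) (hc : ∀ i, CGs (Q i))
    (x : Set I × Set (Submodule R M)) (hx : Adm Q x) (m : M) :
    ∃ y, Adm Q y ∧ x ≤ y ∧ m ∈ sSup y.2 := by
  obtain ⟨J, 𝓛⟩ := x
  obtain ⟨ha, hb, hcc⟩ := hx
  simp only at ha hb hcc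
  have htop : iSup Q = ⊤ := hQ.submodule_iSup_eq_top
  obtain ⟨L', D, hL'c, hmL', -, hL'⟩ := exists_closed Q htop hc m
  obtain ⟨L₀, hL₀c, hdisj, hsup⟩ := exists_complement Q hQ (sSup 𝓛) L' J D hcc hL' hL'c
  refine ⟨(J ∪ D, insert L₀ 𝓛), ⟨?_, ?_, ?_⟩, ⟨Set.subset_union_left, Set.subset_insert _ _⟩, ?_⟩
  · rintro L (rfl | hL)
    · exact hL₀c
    · exact ha L hL
  · exact sSupIndep_insert hb hdisj.symm
  · show (sSup (insert L₀ 𝓛)).baseChange S = QJ Q (J ∪ D)
    rw [sSup_insert, sup_comm, hsup, baseChange_sup, hcc, hL', QJ_union]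
  · show m ∈ sSup (insert L₀ 𝓛)
    rw [sSup_insert, sup_comm, hsup]
    exact Submodule.mem_sup_right hmL'

theorem exists_family [Module.FaithfullyFlat R S] [Module.Projective S (S ⊗[R] M)]
    (hQ : DirectSum.IsInternal Q) (hc : ∀ i, CGs (Q i)) :
    ∃ 𝓛 : Set (Submodule R M), (∀ L ∈ 𝓛, CGs L) ∧ sSupIndep 𝓛 ∧ sSup 𝓛 = ⊤ := by
  obtain ⟨m, hm⟩ := zorn_le₀ {x | Adm Q x} (fun c hcs hch => by
    obtain ⟨ub, hub, hle⟩ := adm_chain Q c hcs hch
    exact ⟨ub, hub, hle⟩)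
  obtain ⟨ha, hb, -⟩ := hm.prop
  refine ⟨m.2, ha, hb, ?_⟩
  rw [eq_top_iff]
  intro x _
  obtain ⟨y, hy, hmy, hx⟩ := adm_extend Q hQ hc m hm.prop x
  exact (sSup_le_sSup (hm.le_of_ge hy hmy).2) hx

end main

/-- **Descent of projectivity** along a faithfully flat ring map (Raynaud–Gruson, Perry). -/
theorem projective_of_baseChange [Module.FaithfullyFlat R S]
    [Module.Projective S (S ⊗[R] M)] : Module.Projective R M := by
  obtain ⟨I, Q, hQ, hQc⟩ :=
    Groth.Agent.Helper2.CtblProj.exists_isInternal_of_projective (R := S) (M := S ⊗[R] M)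
  obtain ⟨𝓛, ha, hb, hsup⟩ := exists_family Q hQ (fun i => cgs_of_module (hQc i))
  haveI : Module.Flat R M := Module.Flat.of_flat_tensorProduct R M S
  have hML : CAlg.IsMittagLeffler R M :=
    Groth.Agent.S0586.result R S M Groth.Agent.Helper2.CtblProj.isML_of_projective
  refine Groth.Agent.Helper2.CtblProj.projective_of_isInternal hML (fun L : 𝓛 => L.1) ?_ ?_
  · suffices key : ∀ (inst : DecidableEq 𝓛), @DirectSum.IsInternal 𝓛 _ _ inst _ _ _
        (fun L : 𝓛 => (L.1 : Submodule R M)) from key _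
    intro inst
    refine (DirectSum.isInternal_submodule_iff_iSupIndep_and_iSup_eq_top _).2 ⟨?_, ?_⟩
    · exact (sSupIndep_iff 𝓛).1 hb
    · rw [← sSup_eq_iSup']
      exact hsup
  · intro L
    refine module_of_cgs L.1.subtype L.1.injective_subtype ?_
    rw [Submodule.range_subtype]
    exact ha L.1 L.2

end Groth.Agent.Helper2.ProjDesc
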