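import Mathlib
import Groth.Prelude.Def_SGA3b
import Groth.Agent.Helper2.NilApp
import Groth.Agent.Helper2.ProjDesc3

set_option autoImplicit false

namespace Groth.Agent.Helper2.TrivRigid
open TensorProduct Groth.Agent.Helper2.MultTypeSemi Groth.Agent.Helper2.SemiIso
  Groth.Agent.Helper2.NilLift Groth.Agent.Helper2.NilGlobal

universe u

section chart
variable (R : Type u) [CommRing R] [IsLocalRing R] (A : Type u) [CommRing A] [HopfAlgebra R A]

/-- over a local ring a group of multiplicative type has a single faithfully flat chart -/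
theorem exists_local_chart (h : SGA3b.IsMultType R A) :
    ∃ (T : Type u) (_ : CommRing T) (_ : Algebra R T), Module.FaithfullyFlat R T ∧
      ∃ (N : Type u) (_ : CommGroup N) (θ : A →ₐ[R] MonoidAlgebra T N), IsSemiIso R T θ := by
  obtain ⟨s, hs, hf⟩ := h
  have hex : ∃ f ∈ s, IsUnit f := by
    by_contra hcon
    push Not at hcon
    have h1 : Ideal.span s ≤ IsLocalRing.maximalIdeal R :=
      Ideal.span_le.mpr (fun x hx => (IsLocalRing.mem_maximalIdeal x).mpr (hcon x hx))
    rw [hs] at h1
    exact (IsLocalRing.maximalIdeal.isMaximal R).ne_top (top_le_iff.mp h1)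
  obtain ⟨f, hfs, hfu⟩ := hex
  obtain ⟨T, _, _, _, _, hff, -, N, _, θ, hθ⟩ :=
    GLikeLI.exists_chart (R := R) (Q := A) f (hf f hfs)
  have hM : Submonoid.powers f ≤ IsUnit.submonoid R := by
    rintro x ⟨n, rfl⟩
    exact hfu.pow n
  let e : R ≃ₐ[R] Localization.Away f := IsLocalization.atUnits R (Submonoid.powers f) hM
  haveI : Module.FaithfullyFlat R (Localization.Away f) :=
    Module.FaithfullyFlat.of_linearEquiv R R e.toLinearEquiv.symm
  haveI := hff
  have : Module.FaithfullyFlat R T := Module.FaithfullyFlat.trans R (Localization.Away f) T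
  exact ⟨T, inferInstance, inferInstance, this, N, inferInstance, θ, hθ⟩

end chart

section chartcons
variable {R : Type u} [CommRing R] {A : Type u} [CommRing A] [HopfAlgebra R A]
variable {T : Type u} [CommRing T] [Algebra R T] [Module.FaithfullyFlat R T]
variable {N : Type u} [CommGroup N] {θ : A →ₐ[R] MonoidAlgebra T N}

include θ in
theorem projective_of_chart (hθ : IsSemiIso R T θ) : Module.Projective R A := by
  let Θ : T ⊗[R] A ≃ₗ[T] MonoidAlgebra T N := LinearEquiv.ofBijective _ hθ.2
  haveI : Module.Projective T (T ⊗[R] A) := Module.Projective.of_equiv Θ.symm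
  exact Groth.Agent.Helper2.ProjDesc.projective_of_baseChange (R := R) (S := T) (M := A)

theorem mem_smul_top_of_chart (hθ : IsSemiIso R T θ) (J : Ideal R) {x : A}
    (hx : θ x ∈ J • (⊤ : Submodule R (MonoidAlgebra T N))) : x ∈ J • (⊤ : Submodule R A) := by
  let Θ : T ⊗[R] A ≃ₗ[T] MonoidAlgebra T N := LinearEquiv.ofBijective _ hθ.2
  have h1 : (1 : T) ⊗ₜ[R] x = Θ.symm (θ x) := by
    rw [LinearEquiv.eq_symm_apply]
    simp [Θ]
  have h2 : (1 : T) ⊗ₜ[R] x ∈ J • (⊤ : Submodule R (T ⊗[R] A)) := by
    rw [h1]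
    exact map_mem_smul_top' J (Θ.symm.restrictScalars R).toLinearMap hx
  have h3 := lTensor_mkQ_eq_zero J T A h2
  rw [LinearMap.lTensor_tmul] at h3
  have h4 : (Submodule.mkQ (J • (⊤ : Submodule R A))) x = 0 := by
    apply Module.FaithfullyFlat.tensorProduct_mk_injective (A := R) (B := T)
    rw [TensorProduct.mk_apply, h3, map_zero]
  exact (Submodule.Quotient.mk_eq_zero _).mp h4

end chartcons

section noprim

/-- the defect of primitivity -/
noncomputable def primDef (S : Type*) [CommRing S] {H : Type*} [CommRing H] [Bialgebra S H]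
    (x : H) : H ⊗[S] H :=
  Coalgebra.comul (R := S) x - x ⊗ₜ[S] 1 - 1 ⊗ₜ[S] x

variable {T : Type*} [CommRing T] {N : Type*} [CommMonoid N] (J' : Ideal T)

lemma coeff_mem_of_primDef (x : MonoidAlgebra T N)
    (h : primDef T x ∈ J' • (⊤ : Submodule T (MonoidAlgebra T N ⊗[T] MonoidAlgebra T N))) (m : N) :
    x.coeff m ∈ J' := by
  classical
  have h1 := map_mem_smul_top' J'
    ((TensorProduct.lid T T).toLinearMap ∘ₗ TensorProduct.map (cf m) (cf m)) h
  have h2 : J' • (⊤ : Submodule T T) = J' := by
    rw [smul_eq_mul, Ideal.mul_top]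
  rw [h2] at h1
  have h3 : ((TensorProduct.lid T T).toLinearMap ∘ₗ TensorProduct.map (cf m) (cf m)) (primDef T x) =
      x.coeff m - x.coeff m * (1 : MonoidAlgebra T N).coeff m -
        (1 : MonoidAlgebra T N).coeff m * x.coeff m := by
    have := cf_comul m m x
    simp only [primDef, map_sub, LinearMap.comp_apply, LinearEquiv.coe_coe, this,
      TensorProduct.map_tmul, TensorProduct.lid_tmul, cf_apply, smul_eq_mul, if_true]
  rw [h3] at h1
  by_cases hm : m = 1
  · subst hm
    rw [MonoidAlgebra.coeff_one_one, mul_one, one_mul, sub_self, zero_sub] at h1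
    simpa using J'.neg_mem h1
  · have h4 : (1 : MonoidAlgebra T N).coeff m = 0 := by
      rw [MonoidAlgebra.one_def, MonoidAlgebra.coeff_single, Finsupp.single_apply, if_neg (Ne.symm hm)]
    rw [h4, mul_zero, zero_mul, sub_zero, sub_zero] at h1
    exact h1

lemma mem_smul_top_of_coeff_mem (x : MonoidAlgebra T N) (h : ∀ m, x.coeff m ∈ J') :
    x ∈ J' • (⊤ : Submodule T (MonoidAlgebra T N)) := by
  rw [← MonoidAlgebra.sum_coeff_single x, Finsupp.sum]
  refine Submodule.sum_mem _ (fun m _ => ?_)
  have : MonoidAlgebra.single m (x.coeff m) = x.coeff m • MonoidAlgebra.single m (1 : T) := by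
    rw [MonoidAlgebra.smul_single, smul_eq_mul, mul_one]
  rw [this]
  exact Submodule.smul_mem_smul (h m) Submodule.mem_top

end noprim

section chartprim
variable {R : Type u} [CommRing R] {A : Type u} [CommRing A] [HopfAlgebra R A]
variable {T : Type u} [CommRing T] [Algebra R T] [Module.FaithfullyFlat R T]
variable {N : Type u} [CommGroup N] {θ : A →ₐ[R] MonoidAlgebra T N}

lemma mem_map_smul_top_of_mem_smul_top {B : Type*} [CommRing B] (J : Ideal B) {T X : Type*}
    [CommRing T] [Algebra B T] [AddCommGroup X]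
    [Module B X] [Module T X] [IsScalarTower B T X] {x : X}
    (hx : x ∈ J • (⊤ : Submodule B X)) : x ∈ (J.map (algebraMap B T)) • (⊤ : Submodule T X) := by
  have h := Ideal.smul_restrictScalars (M := X) J (⊤ : Submodule T X)
  rw [Submodule.restrictScalars_top] at h
  rw [← h] at hx
  exact hx

theorem noPrim_of_chart (hθ : IsSemiIso R T θ) (J : Ideal R) {x : A}
    (hx : primDef R x ∈ J • (⊤ : Submodule R (A ⊗[R] A))) : x ∈ J • (⊤ : Submodule R A) := by
  have h1 : semiMap R T θ.toLinearMap (primDef R x) = primDef T (θ x) := by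
    simp only [primDef, map_sub, semiMap_tmul, AlgHom.toLinearMap_apply, map_one]
    rw [hθ.1.comul]
  have h2 : primDef T (θ x) ∈
      J • (⊤ : Submodule R (MonoidAlgebra T N ⊗[T] MonoidAlgebra T N)) := by
    rw [← h1]
    exact map_mem_smul_top' J (semiMap R T θ.toLinearMap) hx
  have h3 := mem_map_smul_top_of_mem_smul_top J (T := T) h2
  have h4 := mem_smul_top_of_coeff_mem _ (θ x) (coeff_mem_of_primDef _ (θ x) h3)
  exact mem_smul_top_of_chart hθ J (mem_smul_top_of_mem_map_smul_top J h4)

end chartprim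


section delta
variable {R : Type*} [CommRing R] {A : Type*} [CommRing A] [Bialgebra R A]
variable {C : Type*} [CommRing C] [Bialgebra R C]

lemma tmul_mem_smul_top {X Y : Type*} [AddCommGroup X] [Module R X] [AddCommGroup Y] [Module R Y]
    (I I' : Ideal R) {a : X} {b : Y} (ha : a ∈ I • (⊤ : Submodule R X))
    (hb : b ∈ I' • (⊤ : Submodule R Y)) : a ⊗ₜ[R] b ∈ (I * I') • (⊤ : Submodule R (X ⊗[R] Y)) := by
  refine Submodule.smul_induction_on ha ?_ ?_
  · intro i hi a' _
    refine Submodule.smul_induction_on hb ?_ ?_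
    · intro i' hi' b' _
      rw [TensorProduct.smul_tmul_smul]
      exact Submodule.smul_mem_smul (Ideal.mul_mem_mul hi hi') Submodule.mem_top
    · intro x y hx hy
      rw [TensorProduct.tmul_add]
      exact add_mem hx hy
  · intro x y hx hy
    rw [TensorProduct.add_tmul]
    exact add_mem hx hy

/-- the deviation of a map from the trivial homomorphism -/
noncomputable def dev (φ : C →ₐc[R] A) : C →ₗ[R] A :=
  (φ : C →ₗ[R] A) - (Algebra.linearMap R A) ∘ₗ (Coalgebra.counit (R := R) (A := C))

lemma dev_apply (φ : C →ₐc[R] A) (c : C) :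
    dev φ c = φ c - algebraMap R A (Coalgebra.counit (R := R) c) := rfl

lemma primDef_dev (φ : C →ₐc[R] A) (c : C) :
    primDef R (dev φ c) = TensorProduct.map (dev φ) (dev φ) (Coalgebra.comul (R := R) c) := by
  set e : C →ₗ[R] A := (Algebra.linearMap R A) ∘ₗ (Coalgebra.counit (R := R) (A := C)) with he
  have hφ : (φ : C →ₗ[R] A) = e + dev φ := by
    rw [dev, ← he]; abel
  have h1 : TensorProduct.map e (dev φ) (Coalgebra.comul (R := R) c) = 1 ⊗ₜ[R] dev φ c := by
    have : TensorProduct.map e (dev φ) = TensorProduct.map (Algebra.linearMap R A) (dev φ) ∘ₗ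
        (Coalgebra.counit (R := R) (A := C)).rTensor C := by
      ext x y; simp [he]
    rw [this, LinearMap.comp_apply, Coalgebra.rTensor_counit_comul]
    simp
  have h2 : TensorProduct.map (dev φ) e (Coalgebra.comul (R := R) c) = dev φ c ⊗ₜ[R] 1 := by
    have : TensorProduct.map (dev φ) e = TensorProduct.map (dev φ) (Algebra.linearMap R A) ∘ₗ
        (Coalgebra.counit (R := R) (A := C)).lTensor C := by
      ext x y; simp [he]
    rw [this, LinearMap.comp_apply, Coalgebra.lTensor_counit_comul]
    simp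
  have h3 : TensorProduct.map e e (Coalgebra.comul (R := R) c) =
      Coalgebra.comul (R := R) (e c) := by
    have : TensorProduct.map e e = TensorProduct.map (Algebra.linearMap R A) e ∘ₗ
        (Coalgebra.counit (R := R) (A := C)).rTensor C := by
      ext x y; simp [he]
    rw [this, LinearMap.comp_apply, Coalgebra.rTensor_counit_comul, TensorProduct.map_tmul]
    simp only [he, LinearMap.comp_apply, Algebra.linearMap_apply, map_one,
      Bialgebra.comul_algebraMap, Algebra.TensorProduct.algebraMap_apply]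
    rw [Algebra.algebraMap_eq_smul_one, TensorProduct.tmul_smul, TensorProduct.smul_tmul']
  have h4 : TensorProduct.map (φ : C →ₗ[R] A) (φ : C →ₗ[R] A) (Coalgebra.comul (R := R) c) =
      Coalgebra.comul (R := R) (φ c) := CoalgHomClass.map_comp_comul_apply φ c
  have h5 : dev φ c = φ c - e c := rfl
  rw [hφ, TensorProduct.map_add_left, TensorProduct.map_add_right, TensorProduct.map_add_right,
    LinearMap.add_apply, LinearMap.add_apply, LinearMap.add_apply, h1, h2, h3] at h4
  rw [primDef, h5, map_sub, ← h4, ← h5]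
  abel

lemma primDef_dev_mem (φ : C →ₐc[R] A) (I : Ideal R)
    (h : ∀ c, dev φ c ∈ I • (⊤ : Submodule R A)) (c : C) :
    primDef R (dev φ c) ∈ (I * I) • (⊤ : Submodule R (A ⊗[R] A)) := by
  rw [primDef_dev]
  generalize Coalgebra.comul (R := R) c = z
  induction z using TensorProduct.induction_on with
  | zero => rw [map_zero]; exact zero_mem _
  | add x y hx hy => rw [map_add]; exact add_mem hx hy
  | tmul x y =>
    rw [TensorProduct.map_tmul]
    exact tmul_mem_smul_top I I (h x) (h y)

end delta

section proj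
variable {R : Type*} [CommRing R] {A : Type*} [AddCommGroup A] [Module R A]

lemma functional_mem (J : Ideal R) (f : A →ₗ[R] R) {x : A}
    (hx : x ∈ J • (⊤ : Submodule R A)) : f x ∈ J := by
  have := map_mem_smul_top' J f hx
  rwa [smul_eq_mul, Ideal.mul_top] at this

lemma eq_sum_of_section (s : A →ₗ[R] A →₀ R) (hs : Finsupp.linearCombination R id ∘ₗ s = .id)
    (x : A) : x = ∑ a ∈ (s x).support, (s x a) • a := by
  have h := LinearMap.congr_fun hs x
  rw [LinearMap.comp_apply, LinearMap.id_apply, Finsupp.linearCombination_apply, Finsupp.sum] at h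
  exact h.symm

lemma mem_smul_top_of_functional [Module.Projective R A] (J : Ideal R) (x : A)
    (h : ∀ f : A →ₗ[R] R, f x ∈ J) : x ∈ J • (⊤ : Submodule R A) := by
  obtain ⟨s, hs⟩ := Module.projective_def'.mp (inferInstance : Module.Projective R A)
  rw [eq_sum_of_section s hs x]
  refine Submodule.sum_mem _ (fun a _ => ?_)
  exact Submodule.smul_mem_smul (h (Finsupp.lapply a ∘ₗ s)) Submodule.mem_top

lemma exists_fg_content [Module.Projective R A] (xs : Finset A) :
    ∃ I : Ideal R, I.FG ∧ (∀ x ∈ xs, x ∈ I • (⊤ : Submodule R A)) ∧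
      ∀ J : Ideal R, (∀ x ∈ xs, x ∈ J • (⊤ : Submodule R A)) → I ≤ J := by
  classical
  obtain ⟨s, hs⟩ := Module.projective_def'.mp (inferInstance : Module.Projective R A)
  refine ⟨Ideal.span (↑(xs.biUnion fun x => (s x).support.image (s x)) : Set R),
    ⟨_, rfl⟩, ?_, ?_⟩
  · intro x hx
    rw [eq_sum_of_section s hs x]
    refine Submodule.sum_mem _ (fun a ha => ?_)
    refine Submodule.smul_mem_smul (Ideal.subset_span ?_) Submodule.mem_top
    rw [Finset.mem_coe, Finset.mem_biUnion]
    exact ⟨x, hx, Finset.mem_image_of_mem _ ha⟩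
  · intro J hJ
    rw [Ideal.span_le]
    intro r hr
    rw [Finset.mem_coe, Finset.mem_biUnion] at hr
    obtain ⟨x, hx, hr⟩ := hr
    rw [Finset.mem_image] at hr
    obtain ⟨a, -, rfl⟩ := hr
    exact functional_mem J (Finsupp.lapply a ∘ₗ s) (hJ x hx)

lemma eq_zero_of_forall_mem_pow [Module.Projective R A] (𝔪 : Ideal R)
    (hK : ⨅ k : ℕ, 𝔪 ^ k = ⊥) (x : A) (h : ∀ k : ℕ, x ∈ (𝔪 ^ k) • (⊤ : Submodule R A)) :
    x = 0 := by
  have h1 : x ∈ (⊥ : Ideal R) • (⊤ : Submodule R A) := by
    apply mem_smul_top_of_functional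
    intro f
    rw [← hK, Ideal.mem_iInf]
    intro k
    exact functional_mem _ f (h k)
  rw [Submodule.bot_smul] at h1
  exact (Submodule.mem_bot R).mp h1

end proj


section main
variable {R : Type u} [CommRing R] [IsLocalRing R] {A : Type u} [CommRing A] [HopfAlgebra R A]
variable {T : Type u} [CommRing T] [Algebra R T] [Module.FaithfullyFlat R T]
variable {N : Type u} [CommGroup N] {θ : A →ₐ[R] MonoidAlgebra T N}
variable {C : Type u} [CommRing C] [Bialgebra R C]

omit [IsLocalRing R] in
lemma dev_mem_sq (hθ : IsSemiIso R T θ) (φ : C →ₐc[R] A) (I : Ideal R)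
    (h : ∀ c, dev φ c ∈ I • (⊤ : Submodule R A)) (c : C) :
    dev φ c ∈ (I * I) • (⊤ : Submodule R A) :=
  noPrim_of_chart hθ (I * I) (primDef_dev_mem φ I h c)

theorem dev_eq_zero_noeth [IsNoetherianRing R] (hθ : IsSemiIso R T θ) (φ : C →ₐc[R] A)
    (h : ∀ c, dev φ c ∈ (IsLocalRing.maximalIdeal R) • (⊤ : Submodule R A)) (c : C) :
    dev φ c = 0 := by
  haveI := projective_of_chart hθ
  have key : ∀ k : ℕ, ∀ c, dev φ c ∈ ((IsLocalRing.maximalIdeal R) ^ (k + 1)) •
      (⊤ : Submodule R A) := by
    intro k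
    induction k with
    | zero => intro c; rw [zero_add, pow_one]; exact h c
    | succ k ih =>
      intro c
      have h1 := dev_mem_sq hθ φ _ ih c
      rw [← pow_add] at h1
      refine Submodule.smul_mono_left (Ideal.pow_le_pow_right (by omega)) h1
  refine eq_zero_of_forall_mem_pow (IsLocalRing.maximalIdeal R)
    (Ideal.iInf_pow_eq_bot_of_isLocalRing _ Ideal.IsPrime.ne_top') _ (fun k => ?_)
  exact Submodule.smul_mono_left (Ideal.pow_le_pow_right (Nat.le_succ k)) (key k c)

omit [IsLocalRing R] in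
lemma dev_mul (φ : C →ₐc[R] A) (c d : C) :
    dev φ (c * d) = dev φ c * φ d + algebraMap R A (Coalgebra.counit (R := R) c) * dev φ d := by
  simp only [dev_apply, map_mul, Bialgebra.counit_mul]
  ring

theorem dev_eq_zero_ft (hft : Algebra.FiniteType R C) (hθ : IsSemiIso R T θ) (φ : C →ₐc[R] A)
    (h : ∀ c, dev φ c ∈ (IsLocalRing.maximalIdeal R) • (⊤ : Submodule R A)) (c : C) :
    dev φ c = 0 := by
  classical
  haveI := projective_of_chart hθ
  obtain ⟨S, hS⟩ := hft.out
  obtain ⟨I, hfg, hmem, hmin⟩ := exists_fg_content (R := R) (S.image (dev φ))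
  have hI𝔪 : I ≤ IsLocalRing.maximalIdeal R := hmin _ (fun x hx => by
    obtain ⟨c, -, rfl⟩ := Finset.mem_image.mp hx
    exact h c)
  have hall : ∀ c, dev φ c ∈ I • (⊤ : Submodule R A) := by
    intro c
    have hc : c ∈ Algebra.adjoin R (S : Set C) := by rw [hS]; trivial
    induction hc using Algebra.adjoin_induction with
    | mem x hx => exact hmem _ (Finset.mem_image_of_mem _ hx)
    | algebraMap r =>
      have : dev φ (algebraMap R C r) = 0 := by
        rw [dev_apply, Bialgebra.counit_algebraMap]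
        have h1 : φ (algebraMap R C r) = algebraMap R A r := (φ : C →ₐ[R] A).commutes r
        rw [h1]
        simp
      rw [this]; exact zero_mem _
    | add x y _ _ hx hy => rw [map_add]; exact add_mem hx hy
    | mul x y _ _ hx hy =>
      rw [dev_mul]
      refine add_mem ?_ ?_
      · exact map_mem_smul_top' I (LinearMap.mulRight R (φ y)) hx
      · exact map_mem_smul_top' I
          (LinearMap.mulLeft R (algebraMap R A (Coalgebra.counit (R := R) x))) hy
  have hle : I ≤ I * I := hmin _ (fun x hx => by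
    obtain ⟨c, -, rfl⟩ := Finset.mem_image.mp hx
    exact dev_mem_sq hθ φ I hall c)
  have hbot : I = ⊥ := by
    refine Submodule.eq_bot_of_le_smul_of_le_jacobson_bot I I hfg (by rwa [smul_eq_mul]) ?_
    rw [IsLocalRing.jacobson_eq_maximalIdeal ⊥ bot_ne_top]
    exact hI𝔪
  have := hall c
  rw [hbot, Submodule.bot_smul] at this
  exact (Submodule.mem_bot R).mp this

end main

theorem s5245 (R : Type u) [CommRing R] [IsLocalRing R]
    (A : Type u) [CommRing A] [HopfAlgebra R A] (hH : SGA3b.IsMultType R A)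
    (C : Type u) [CommRing C] [Bialgebra R C]
    (hC : IsNoetherianRing R ∨ Algebra.FiniteType R C)
    (φ : C →ₐc[R] A)
    (hs : ∀ c : C, φ c - algebraMap R A (Coalgebra.counit c) ∈
      Ideal.map (algebraMap R A) (IsLocalRing.maximalIdeal R)) :
    ∀ c : C, φ c = algebraMap R A (Coalgebra.counit c) := by
  obtain ⟨T, _, _, hff, N, _, θ, hθ⟩ := exists_local_chart R A hH
  have h : ∀ c, dev φ c ∈ (IsLocalRing.maximalIdeal R) • (⊤ : Submodule R A) := by
    intro c
    rw [Ideal.smul_top_eq_map]
    exact hs c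
  intro c
  rw [← sub_eq_zero, ← dev_apply]
  rcases hC with hC | hC
  · exact dev_eq_zero_noeth hθ φ h c
  · exact dev_eq_zero_ft hC hθ φ h c


end Groth.Agent.Helper2.TrivRigid
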