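import Mathlib
import Groth.Prelude.Def_SGA3b
import Groth.Agent.Helper2.TrivRigid
import Groth.Agent.Helper2.ConvGrp

set_option autoImplicit false
universe u
open Groth.Agent.Helper2.ConvGrp WithConv Groth.Agent.Helper2.TrivRigid

namespace Groth.Agent.Helper2.TrivRigid2

theorem s2985 (R : Type u) [CommRing R] (A : Type u) [CommRing A] [HopfAlgebra R A] [IsLocalRing R]
    (h : SGA3b.IsMultType R A)
    (C : Type u) [CommRing C] [HopfAlgebra R C] [Coalgebra.IsCocomm R C]
    (hC : Algebra.FiniteType R C)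
    (φ ψ : C →ₐc[R] A) (hs : ∀ c : C, φ c - ψ c ∈
      Ideal.map (algebraMap R A) (IsLocalRing.maximalIdeal R)) :
    φ = ψ := by
  have hbi := (isBi_of_bialgHom φ).mul_inv (isBi_of_bialgHom ψ)
  apply eq_of_quot_trivial
  intro c
  refine s5245 R A h C (Or.inr hC) hbi.toBialgHom ?_ c
  intro c
  have h1 := quot_sub_one_mem (Ideal.map (algebraMap R A) (IsLocalRing.maximalIdeal R))
    (toConv (φ : C →ₐ[R] A)) (toConv (ψ : C →ₐ[R] A)) (toConv (ψ : C →ₐ[R] A))⁻¹ hs c
  rw [mul_inv_cancel] at h1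
  exact h1

end Groth.Agent.Helper2.TrivRigid2
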