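import Mathlib
import Groth.Prelude.Def_SGA3b
import Groth.Agent.Helper2.CDBC3
import Groth.Agent.Helper2.TrivRigid2

set_option autoImplicit false

namespace Groth.Agent.Helper2.CDBC
open TensorProduct CartDual IsLocalRing SGA3b

universe u

theorem s5262 (A : Type u) [CommRing A] [HenselianLocalRing A]
    (B : Type u) [CommRing B] [HopfAlgebra A B] [Module.Finite A B] (hG : IsMultType A B)
    (C : Type u) [CommRing C] [HopfAlgebra A C] [Module.Finite A C] (hH : IsMultType A C) :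
    (∀ φ ψ : C →ₐc[A] B, (∀ c : C, (1 : IsLocalRing.ResidueField A) ⊗ₜ[A] (φ c) =
        (1 : IsLocalRing.ResidueField A) ⊗ₜ[A] (ψ c)) → φ = ψ) ∧
    (∀ φ₀ : (IsLocalRing.ResidueField A ⊗[A] C) →ₐc[IsLocalRing.ResidueField A] (IsLocalRing.ResidueField A ⊗[A] B),
      ∃ φ : C →ₐc[A] B, ∀ c : C, φ₀ ((1 : IsLocalRing.ResidueField A) ⊗ₜ c) =
        (1 : IsLocalRing.ResidueField A) ⊗ₜ[A] (φ c)) := by
  obtain ⟨A₁, _, _, hff₁, N₁, _, ⟨e₁⟩⟩ := exists_chart_of_isLocalRing A B hG
  obtain ⟨A₂, _, _, hff₂, N₂, _, ⟨e₂⟩⟩ := exists_chart_of_isLocalRing A C hH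
  haveI := hff₁
  haveI := hff₂
  haveI : Module.Flat A B := flat_of_chart A B A₁ N₁ e₁
  haveI : Module.Flat A C := flat_of_chart A C A₂ N₂ e₂
  haveI : Module.Free A B := Module.free_of_flat_of_isLocalRing
  haveI : Module.Free A C := Module.free_of_flat_of_isLocalRing
  haveI : Coalgebra.IsCocomm A B := isCocomm_of_chart A B A₁ N₁ e₁
  haveI : Coalgebra.IsCocomm A C := isCocomm_of_chart A C A₂ N₂ e₂
  haveI : Algebra.Etale A (D A B) := etale_dual_of_chart A B A₁ N₁ e₁
  haveI : Algebra.Etale A (D A C) := etale_dual_of_chart A C A₂ N₂ e₂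
  constructor
  · intro φ ψ h
    have hC : Algebra.FiniteType A C := inferInstance
    apply Groth.Agent.Helper2.TrivRigid2.s2985 A B hG C hC φ ψ
    intro c
    have h1 : (1 : ResidueField A) ⊗ₜ[A] (φ c - ψ c) = 0 := by
      rw [TensorProduct.tmul_sub, h c, sub_self]
    have h2 := Groth.Agent.Helper2.SemiIso.mem_smul_top_of_tmul_eq_zero A (ResidueField A)
      IsLocalRing.residue_surjective (φ c - ψ c) h1
    rw [Ideal.smul_top_eq_map] at h2
    have h3 : RingHom.ker (algebraMap A (ResidueField A)) = maximalIdeal A := IsLocalRing.ker_residue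
    rw [h3] at h2
    exact h2
  · intro φ₀
    exact exists_lift_of_etale_dual A B C φ₀

end Groth.Agent.Helper2.CDBC
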