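import Mathlib
import Groth.Agent.Helper2.CDBC3

set_option autoImplicit false

namespace Groth.Agent.Helper2.CDBC
open TensorProduct IsLocalRing

universe u

section mix
variable (R k : Type*) [CommRing R] [CommRing k] [Algebra R k]
variable {X Y X₀ Y₀ : Type*} [CommRing X] [CommRing Y] [Algebra R X] [Algebra R Y]
  [CommRing X₀] [CommRing Y₀] [Algebra k X₀] [Algebra k Y₀] [Algebra R X₀] [Algebra R Y₀]
  [IsScalarTower R k X₀] [IsScalarTower R k Y₀]

/-- the mixed tensor product of two semilinear algebra maps -/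
noncomputable def mix (p : X →ₐ[R] X₀) (q : Y →ₐ[R] Y₀) : X ⊗[R] Y →ₐ[R] X₀ ⊗[k] Y₀ :=
  Algebra.TensorProduct.lift
    (((Algebra.TensorProduct.includeLeft : X₀ →ₐ[k] X₀ ⊗[k] Y₀).restrictScalars R).comp p)
    (((Algebra.TensorProduct.includeRight : Y₀ →ₐ[k] X₀ ⊗[k] Y₀).restrictScalars R).comp q)
    (fun _ _ => Commute.all _ _)

@[simp] lemma mix_tmul (p : X →ₐ[R] X₀) (q : Y →ₐ[R] Y₀) (x : X) (y : Y) :
    mix R k p q (x ⊗ₜ y) = p x ⊗ₜ[k] q y := by
  simp [mix]

/-- a map is a reduction if it induces an isomorphism after base change -/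
def IsRed {X X₀ : Type*} [AddCommGroup X] [Module R X] [AddCommGroup X₀] [Module k X₀] [Module R X₀]
    [IsScalarTower R k X₀] (χ : X →ₗ[R] X₀) : Prop :=
  Function.Bijective (LinearMap.liftBaseChange k χ)

lemma isRed_mix {p : X →ₐ[R] X₀} {q : Y →ₐ[R] Y₀} (hp : IsRed R k p.toLinearMap)
    (hq : IsRed R k q.toLinearMap) : IsRed R k (mix R k p q).toLinearMap := by
  let e : k ⊗[R] X ≃ₗ[k] X₀ := LinearEquiv.ofBijective _ hp
  let e' : k ⊗[R] Y ≃ₗ[k] Y₀ := LinearEquiv.ofBijective _ hq
  have he : ∀ (s : k) (a : X), e (s ⊗ₜ[R] a) = s • p a := fun s a => by simp [e]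
  have he' : ∀ (s : k) (a : Y), e' (s ⊗ₜ[R] a) = s • q a := fun s a => by simp [e']
  have key : LinearMap.liftBaseChange k (mix R k p q).toLinearMap =
      (TensorProduct.congr e e').toLinearMap ∘ₗ
        (TensorProduct.AlgebraTensorModule.distribBaseChange R k X Y).toLinearMap := by
    apply LinearMap.ext
    intro z
    induction z using TensorProduct.induction_on with
    | zero => simp
    | add x y hx hy => rw [map_add, map_add, hx, hy]
    | tmul s x =>
      induction x using TensorProduct.induction_on with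
      | zero => simp
      | add x y hx hy => rw [TensorProduct.tmul_add, map_add, map_add, hx, hy]
      | tmul a a' =>
        simp only [LinearMap.liftBaseChange_tmul, AlgHom.toLinearMap_apply, mix_tmul,
          LinearMap.comp_apply, LinearEquiv.coe_coe,
          TensorProduct.AlgebraTensorModule.distribBaseChange_tmul, TensorProduct.congr_tmul, he, he',
          one_smul, TensorProduct.smul_tmul']
  unfold IsRed
  rw [key]
  exact (TensorProduct.congr e e').bijective.comp
    (TensorProduct.AlgebraTensorModule.distribBaseChange R k X Y).bijective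

lemma isRed_ofId : IsRed R k (Algebra.ofId R k).toLinearMap := by
  have : LinearMap.liftBaseChange k (Algebra.ofId R k).toLinearMap =
      (TensorProduct.AlgebraTensorModule.rid R k k).toLinearMap := by
    apply LinearMap.ext
    intro z
    induction z using TensorProduct.induction_on with
    | zero => simp
    | add x y hx hy => rw [map_add, map_add, hx, hy]
    | tmul s r => simp [Algebra.ofId_apply, Algebra.smul_def, mul_comm]
  unfold IsRed
  rw [this]
  exact (TensorProduct.AlgebraTensorModule.rid R k k).bijective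

end mix

end Groth.Agent.Helper2.CDBC

namespace Groth.Agent.Helper2.CDBC
open TensorProduct IsLocalRing

universe u

section hens
variable (R : Type u) [CommRing R] [HenselianLocalRing R]
variable {E : Type u} [CommRing E] [Algebra R E] [Module.Finite R E] [Algebra.Etale R E]
variable {X : Type u} [CommRing X] [Algebra R X] [Module.Finite R X] [Algebra.Etale R X]
variable {E₀ X₀ : Type u} [CommRing E₀] [CommRing X₀] [Algebra (ResidueField R) E₀]
  [Algebra (ResidueField R) X₀] [Algebra R E₀] [Algebra R X₀]
  [IsScalarTower R (ResidueField R) E₀] [IsScalarTower R (ResidueField R) X₀]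

lemma algHom_ext_of_tmul' (f f' : E →ₐ[R] X)
    (h : ∀ x, (1 : ResidueField R) ⊗ₜ[R] f x = 1 ⊗ₜ[R] f' x) : f = f' := by
  apply (Groth.Agent.S0519.result R E X).1
  apply Algebra.TensorProduct.ext
  · ext
  · ext x
    simpa using h x

/-- uniqueness of lifts through a reduction -/
lemma lift_unique {χX : X →ₗ[R] X₀} (hX : IsRed R (ResidueField R) χX) (f f' : E →ₐ[R] X)
    (h : ∀ e, χX (f e) = χX (f' e)) : f = f' := by
  apply algHom_ext_of_tmul' R
  intro e
  apply hX.1
  simp only [LinearMap.liftBaseChange_tmul, one_smul]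
  exact h e

/-- existence of lifts through reductions -/
lemma lift_exists (χE : E →ₐ[R] E₀)
    {χX : X →ₐ[R] X₀} (hX : IsRed R (ResidueField R) χX.toLinearMap)
    (h : E₀ →ₐ[ResidueField R] X₀) : ∃ f : E →ₐ[R] X, ∀ e, χX (f e) = h (χE e) := by
  let k := ResidueField R
  let rE : k ⊗[R] E →ₐ[k] E₀ :=
    Algebra.TensorProduct.lift (Algebra.ofId k E₀) χE (fun _ _ => Commute.all _ _)
  let rX : k ⊗[R] X →ₐ[k] X₀ :=
    Algebra.TensorProduct.lift (Algebra.ofId k X₀) χX (fun _ _ => Commute.all _ _)
  have hrX : Function.Bijective rX := by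
    have : ⇑rX = ⇑(LinearMap.liftBaseChange k χX.toLinearMap) := by
      funext z
      induction z using TensorProduct.induction_on with
      | zero => simp
      | add x y hx hy => simp only [map_add, hx, hy]
      | tmul s x => simp [rX, Algebra.ofId_apply, Algebra.smul_def]
    rw [this]
    exact hX
  let eX : k ⊗[R] X ≃ₐ[k] X₀ := AlgEquiv.ofBijective rX hrX
  let h' : k ⊗[R] E →ₐ[k] k ⊗[R] X := (eX.symm : X₀ →ₐ[k] k ⊗[R] X).comp (h.comp rE)
  obtain ⟨f, hf⟩ := (Groth.Agent.S0519.result R E X).2 h'
  refine ⟨f, fun e => ?_⟩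
  have h1 := congrArg (fun F => F ((1 : k) ⊗ₜ[R] e)) hf
  simp only [Algebra.TensorProduct.map_tmul, AlgHom.coe_id, id_eq] at h1
  have h2 : eX ((1 : k) ⊗ₜ[R] f e) = χX (f e) := by simp [eX, rX]
  rw [← h2, h1]
  simp [h', rE]

end hens

end Groth.Agent.Helper2.CDBC

namespace Groth.Agent.Helper2.CDBC
open TensorProduct IsLocalRing

universe u

section verify
variable (R : Type u) [CommRing R] [HenselianLocalRing R]
variable {E : Type u} [CommRing E] [Algebra R E] [Module.Finite R E] [Algebra.Etale R E]
variable {D₀ : Type u} [CommRing D₀] [HopfAlgebra (ResidueField R) D₀] [Algebra R D₀]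
  [IsScalarTower R (ResidueField R) D₀]
variable (χ : E →ₐ[R] D₀) (hχ : IsRed R (ResidueField R) χ.toLinearMap)
variable (Δ : E →ₐ[R] E ⊗[R] E) (ε : E →ₐ[R] R) (S : E →ₐ[R] E)
variable (hΔ : ∀ e, mix R (ResidueField R) χ χ (Δ e) = Coalgebra.comul (R := ResidueField R) (χ e))
variable (hε : ∀ e, algebraMap R (ResidueField R) (ε e) = Coalgebra.counit (R := ResidueField R) (χ e))
variable (hS : ∀ e, χ (S e) = HopfAlgebra.antipode (ResidueField R) (χ e))

local notation "k" => ResidueField R

include hχ hΔ in
lemma lift_coassoc :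
    (Algebra.TensorProduct.assoc R R R E E E).toAlgHom.comp
      ((Algebra.TensorProduct.map Δ (.id R E)).comp Δ) =
    (Algebra.TensorProduct.map (.id R E) Δ).comp Δ := by
  haveI : Algebra.Etale R (E ⊗[R] E) := etale_tensor R E E
  haveI : Algebra.Etale R (E ⊗[R] (E ⊗[R] E)) := etale_tensor R E (E ⊗[R] E)
  have hχ₂ := isRed_mix R k hχ hχ
  have hχ₃ := isRed_mix R k hχ hχ₂
  apply lift_unique R hχ₃
  have ha' : ∀ (z : E ⊗[R] E) (b : E),
      mix R k χ (mix R k χ χ) (Algebra.TensorProduct.assoc R R R E E E (z ⊗ₜ b)) =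
      TensorProduct.assoc k D₀ D₀ D₀ (mix R k χ χ z ⊗ₜ χ b) := by
    intro z b
    induction z using TensorProduct.induction_on with
    | zero => simp
    | add x y hx hy => simp only [add_tmul, map_add, hx, hy]
    | tmul p q => simp
  have ha : ∀ y : E ⊗[R] E,
      mix R k χ (mix R k χ χ) (Algebra.TensorProduct.assoc R R R E E E
        (Algebra.TensorProduct.map Δ (.id R E) y)) =
      TensorProduct.assoc k D₀ D₀ D₀
        ((Coalgebra.comul (R := k) (A := D₀)).rTensor D₀ (mix R k χ χ y)) := by
    intro y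
    induction y using TensorProduct.induction_on with
    | zero => simp
    | add x y hx hy => simp only [map_add, hx, hy]
    | tmul a b =>
      rw [Algebra.TensorProduct.map_tmul, AlgHom.coe_id, id_eq, ha', hΔ, mix_tmul,
        LinearMap.rTensor_tmul]
  have hb : ∀ y : E ⊗[R] E,
      mix R k χ (mix R k χ χ) (Algebra.TensorProduct.map (.id R E) Δ y) =
      (Coalgebra.comul (R := k) (A := D₀)).lTensor D₀ (mix R k χ χ y) := by
    intro y
    induction y using TensorProduct.induction_on with
    | zero => simp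
    | add x y hx hy => simp only [map_add, hx, hy]
    | tmul a b =>
      rw [Algebra.TensorProduct.map_tmul, AlgHom.coe_id, id_eq, mix_tmul, hΔ, mix_tmul,
        LinearMap.lTensor_tmul]
  intro e
  show mix R k χ (mix R k χ χ) (Algebra.TensorProduct.assoc R R R E E E
      (Algebra.TensorProduct.map Δ (.id R E) (Δ e))) =
    mix R k χ (mix R k χ χ) (Algebra.TensorProduct.map (.id R E) Δ (Δ e))
  rw [ha, hb, hΔ, Coalgebra.coassoc_apply]

include hχ hΔ hε in
lemma lift_rTensor :
    (Algebra.TensorProduct.map ε (.id R E)).comp Δ = (Algebra.TensorProduct.lid R E).symm := by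
  haveI : Algebra.Etale R (R ⊗[R] E) := etale_tensor R R E
  have hχ' := isRed_mix R k (isRed_ofId R k) hχ
  apply lift_unique R hχ'
  have hc : ∀ y : E ⊗[R] E,
      mix R k (Algebra.ofId R k) χ (Algebra.TensorProduct.map ε (.id R E) y) =
      (Coalgebra.counit (R := k) (A := D₀)).rTensor D₀ (mix R k χ χ y) := by
    intro y
    induction y using TensorProduct.induction_on with
    | zero => simp
    | add x y hx hy => simp only [map_add, hx, hy]
    | tmul a b =>
      rw [Algebra.TensorProduct.map_tmul, AlgHom.coe_id, id_eq, mix_tmul, mix_tmul,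
        LinearMap.rTensor_tmul, ← hε]
      rfl
  intro e
  show mix R k (Algebra.ofId R k) χ (Algebra.TensorProduct.map ε (.id R E) (Δ e)) =
    mix R k (Algebra.ofId R k) χ ((Algebra.TensorProduct.lid R E).symm e)
  rw [hc, hΔ, Coalgebra.rTensor_counit_comul]
  simp [Algebra.ofId_apply]

include hχ hΔ hε in
lemma lift_lTensor :
    (Algebra.TensorProduct.map (.id R E) ε).comp Δ = (Algebra.TensorProduct.rid R R E).symm := by
  haveI : Algebra.Etale R (E ⊗[R] R) := etale_tensor R E R
  have hχ' := isRed_mix R k hχ (isRed_ofId R k)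
  apply lift_unique R hχ'
  have hc : ∀ y : E ⊗[R] E,
      mix R k χ (Algebra.ofId R k) (Algebra.TensorProduct.map (.id R E) ε y) =
      (Coalgebra.counit (R := k) (A := D₀)).lTensor D₀ (mix R k χ χ y) := by
    intro y
    induction y using TensorProduct.induction_on with
    | zero => simp
    | add x y hx hy => simp only [map_add, hx, hy]
    | tmul a b =>
      rw [Algebra.TensorProduct.map_tmul, AlgHom.coe_id, id_eq, mix_tmul, mix_tmul,
        LinearMap.lTensor_tmul, ← hε]
      rfl
  intro e
  show mix R k χ (Algebra.ofId R k) (Algebra.TensorProduct.map (.id R E) ε (Δ e)) =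
    mix R k χ (Algebra.ofId R k) ((Algebra.TensorProduct.rid R R E).symm e)
  rw [hc, hΔ, Coalgebra.lTensor_counit_comul]
  simp [Algebra.ofId_apply]

include hχ hΔ hε hS in
lemma lift_antipode_r :
    (Algebra.TensorProduct.lift S (.id R E) fun _ _ ↦ Commute.all _ _).comp Δ =
      (Algebra.ofId R E).comp ε := by
  apply lift_unique R hχ
  have hd : ∀ y : E ⊗[R] E,
      χ (Algebra.TensorProduct.lift S (.id R E) (fun _ _ ↦ Commute.all _ _) y) =
      LinearMap.mul' k D₀ ((HopfAlgebra.antipode k (A := D₀)).rTensor D₀ (mix R k χ χ y)) := by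
    intro y
    induction y using TensorProduct.induction_on with
    | zero => simp
    | add x y hx hy => simp only [map_add, hx, hy]
    | tmul a b =>
      rw [Algebra.TensorProduct.lift_tmul, mix_tmul, LinearMap.rTensor_tmul, LinearMap.mul'_apply,
        map_mul, hS]
      rfl
  intro e
  show χ (Algebra.TensorProduct.lift S (.id R E) (fun _ _ ↦ Commute.all _ _) (Δ e)) =
    χ (Algebra.ofId R E (ε e))
  rw [hd, hΔ, HopfAlgebra.mul_antipode_rTensor_comul_apply, ← hε, Algebra.ofId_apply,
    AlgHom.commutes, ← IsScalarTower.algebraMap_apply]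

include hχ hΔ hε hS in
lemma lift_antipode_l :
    (Algebra.TensorProduct.lift (.id R E) S fun _ _ ↦ Commute.all _ _).comp Δ =
      (Algebra.ofId R E).comp ε := by
  apply lift_unique R hχ
  have hd : ∀ y : E ⊗[R] E,
      χ (Algebra.TensorProduct.lift (.id R E) S (fun _ _ ↦ Commute.all _ _) y) =
      LinearMap.mul' k D₀ ((HopfAlgebra.antipode k (A := D₀)).lTensor D₀ (mix R k χ χ y)) := by
    intro y
    induction y using TensorProduct.induction_on with
    | zero => simp
    | add x y hx hy => simp only [map_add, hx, hy]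
    | tmul a b =>
      rw [Algebra.TensorProduct.lift_tmul, mix_tmul, LinearMap.lTensor_tmul, LinearMap.mul'_apply,
        map_mul, hS]
      rfl
  intro e
  show χ (Algebra.TensorProduct.lift (.id R E) S (fun _ _ ↦ Commute.all _ _) (Δ e)) =
    χ (Algebra.ofId R E (ε e))
  rw [hd, hΔ, HopfAlgebra.mul_antipode_lTensor_comul_apply, ← hε, Algebra.ofId_apply,
    AlgHom.commutes, ← IsScalarTower.algebraMap_apply]

include hχ hΔ in
lemma lift_cocomm [Coalgebra.IsCocomm k D₀] :
    (Algebra.TensorProduct.comm R E E).toAlgHom.comp Δ = Δ := by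
  haveI : Algebra.Etale R (E ⊗[R] E) := etale_tensor R E E
  have hχ₂ := isRed_mix R k hχ hχ
  apply lift_unique R hχ₂
  have he : ∀ y : E ⊗[R] E,
      mix R k χ χ (Algebra.TensorProduct.comm R E E y) =
      TensorProduct.comm k D₀ D₀ (mix R k χ χ y) := by
    intro y
    induction y using TensorProduct.induction_on with
    | zero => simp
    | add x y hx hy => simp only [map_add, hx, hy]
    | tmul a b => simp
  intro e
  show mix R k χ χ (Algebra.TensorProduct.comm R E E (Δ e)) = mix R k χ χ (Δ e)
  rw [he, hΔ, Coalgebra.comm_comul]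

end verify

end Groth.Agent.Helper2.CDBC
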