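import Mathlib
import Groth.Agent.Helper2.CDBC5
import Groth.Agent.S0518

set_option autoImplicit false

namespace Groth.Agent.Helper2.CDBC
open TensorProduct IsLocalRing Groth.Agent.Helper2.MultTypeSemi

universe u

section hopflift
variable (R : Type u) [CommRing R] [HenselianLocalRing R]
variable (E : Type u) [CommRing E] [Algebra R E] [Module.Finite R E] [Algebra.Etale R E]
variable {D₀ : Type u} [CommRing D₀] [HopfAlgebra (ResidueField R) D₀] [Algebra R D₀]
  [IsScalarTower R (ResidueField R) D₀]
variable (χ : E →ₐ[R] D₀)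

local notation "k" => ResidueField R

/-- the data of a lifted Hopf structure -/
structure HopfLift where
  Δ : E →ₐ[R] E ⊗[R] E
  ε : E →ₐ[R] R
  S : E →ₐ[R] E
  hΔ : ∀ e, mix R k χ χ (Δ e) = Coalgebra.comul (R := k) (χ e)
  hε : ∀ e, algebraMap R k (ε e) = Coalgebra.counit (R := k) (χ e)
  hS : ∀ e, χ (S e) = HopfAlgebra.antipode k (χ e)
  coassoc : (Algebra.TensorProduct.assoc R R R E E E).toAlgHom.comp
      ((Algebra.TensorProduct.map Δ (.id R E)).comp Δ) =
    (Algebra.TensorProduct.map (.id R E) Δ).comp Δ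
  rTensor : (Algebra.TensorProduct.map ε (.id R E)).comp Δ = (Algebra.TensorProduct.lid R E).symm
  lTensor : (Algebra.TensorProduct.map (.id R E) ε).comp Δ = (Algebra.TensorProduct.rid R R E).symm
  antipode_r : (Algebra.TensorProduct.lift S (.id R E) fun _ _ ↦ Commute.all _ _).comp Δ =
      (Algebra.ofId R E).comp ε
  antipode_l : (Algebra.TensorProduct.lift (.id R E) S fun _ _ ↦ Commute.all _ _).comp Δ =
      (Algebra.ofId R E).comp ε

variable {R E χ}

theorem exists_hopfLift (hχ : IsRed R k χ.toLinearMap) : Nonempty (HopfLift R E χ) := by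
  haveI : Algebra.Etale R (E ⊗[R] E) := etale_tensor R E E
  have hχ₂ := isRed_mix R k hχ hχ
  obtain ⟨Δ, hΔ⟩ := lift_exists R χ hχ₂ (Bialgebra.comulAlgHom k D₀)
  obtain ⟨ε, hε⟩ := lift_exists R χ (χX := Algebra.ofId R k) (isRed_ofId R k)
    (Bialgebra.counitAlgHom k D₀)
  obtain ⟨S, hS⟩ := lift_exists R χ hχ (HopfAlgebra.antipodeAlgHom k D₀)
  have hΔ' : ∀ e, mix R k χ χ (Δ e) = Coalgebra.comul (R := k) (χ e) := hΔ
  have hε' : ∀ e, algebraMap R k (ε e) = Coalgebra.counit (R := k) (χ e) := hε
  have hS' : ∀ e, χ (S e) = HopfAlgebra.antipode k (χ e) := hS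
  exact ⟨{ Δ := Δ, ε := ε, S := S, hΔ := hΔ', hε := hε', hS := hS'
           coassoc := lift_coassoc R χ hχ Δ hΔ'
           rTensor := lift_rTensor R χ hχ Δ ε hΔ' hε'
           lTensor := lift_lTensor R χ hχ Δ ε hΔ' hε'
           antipode_r := lift_antipode_r R χ hχ Δ ε S hΔ' hε' hS'
           antipode_l := lift_antipode_l R χ hχ Δ ε S hΔ' hε' hS' }⟩

namespace HopfLift
variable (L : HopfLift R E χ)

/-- the lifted bialgebra structure -/
@[reducible] noncomputable def bialgebra : Bialgebra R E :=
  Bialgebra.ofAlgHom L.Δ L.ε L.coassoc L.rTensor L.lTensor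

/-- the lifted Hopf algebra structure -/
@[reducible] noncomputable def hopf : HopfAlgebra R E :=
  letI := L.bialgebra
  HopfAlgebra.ofAlgHom L.S L.antipode_r L.antipode_l

lemma comul_eq (e : E) : letI := L.hopf; Coalgebra.comul (R := R) e = L.Δ e := rfl

lemma counit_eq (e : E) : letI := L.hopf; Coalgebra.counit (R := R) e = L.ε e := rfl

lemma mix_eq_semiMap (y : E ⊗[R] E) : letI := L.hopf;
    mix R k χ χ y = semiMap R k χ.toLinearMap y := by
  letI := L.hopf
  induction y using TensorProduct.induction_on with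
  | zero => simp
  | add x y hx hy => simp only [map_add, hx, hy]
  | tmul a b => simp

lemma isSemiCoalg : letI := L.hopf; IsSemiCoalg R k χ := by
  letI := L.hopf
  refine ⟨fun a => (L.hε a).symm, fun a => ?_⟩
  rw [← L.mix_eq_semiMap, ← L.hΔ a]
  rfl

lemma isCocomm [Coalgebra.IsCocomm k D₀] (hχ : IsRed R k χ.toLinearMap) :
    letI := L.hopf; Coalgebra.IsCocomm R E := by
  letI := L.hopf
  refine ⟨LinearMap.ext fun e => ?_⟩
  have := congrArg (fun F => F e) (lift_cocomm R χ hχ L.Δ L.hΔ)
  exact this

end HopfLift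

end hopflift

section semiIsoEquiv
open Groth.Agent.Helper2.SemiIso
variable (R S : Type*) [CommRing R] [CommRing S] [Algebra R S]
variable {A D : Type*} [CommRing A] [Bialgebra R A] [CommRing D] [Bialgebra S D]
  [Algebra R D] [IsScalarTower R S D]

/-- a semilinear isomorphism induces a bialgebra isomorphism from the base change -/
theorem nonempty_bialgEquiv_of_isSemiIso {χ : A →ₐ[R] D} (hχ : IsSemiIso R S χ) :
    Nonempty (S ⊗[R] A ≃ₐc[S] D) := by
  have h1 : IsSemiIso S S (liftMap R S χ) := hχ.lift R S S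
  have hb : Function.Bijective (liftMap R S χ) := by
    have h2 := h1.2
    have h3 : ⇑(LinearMap.liftBaseChange S (liftMap R S χ).toLinearMap) =
        ⇑(liftMap R S χ) ∘ ⇑(TensorProduct.lid S (S ⊗[R] A)) := by
      funext x
      induction x using TensorProduct.induction_on with
      | zero => simp
      | add x y hx hy => simp only [map_add, hx, hy, Function.comp_apply]
      | tmul r y => simp
    rw [h3] at h2
    exact (Function.Bijective.of_comp_iff _ (TensorProduct.lid S (S ⊗[R] A)).bijective).mp h2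
  exact ⟨BialgEquiv.ofBijective (ADiag.bialgOfSemi (liftMap R S χ) h1.1) hb⟩

end semiIsoEquiv

end Groth.Agent.Helper2.CDBC

namespace Groth.Agent.Helper2.CDBC
open TensorProduct IsLocalRing Groth.Agent.Helper2.MultTypeSemi Groth.Agent.Helper2.SemiIso

universe u

/-- a finite étale commutative cocommutative Hopf algebra over the residue field of a henselian
local ring lifts -/
theorem exists_hopf_lift (R : Type u) [CommRing R] [HenselianLocalRing R]
    (D₀ : Type u) [CommRing D₀] [HopfAlgebra (ResidueField R) D₀]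
    [Coalgebra.IsCocomm (ResidueField R) D₀] [Module.Finite (ResidueField R) D₀]
    [Algebra.Etale (ResidueField R) D₀] :
    ∃ (E : Type u) (_ : CommRing E) (_ : HopfAlgebra R E) (_ : Coalgebra.IsCocomm R E),
      Module.Finite R E ∧ Algebra.Etale R E ∧
      Nonempty (ResidueField R ⊗[R] E ≃ₐc[ResidueField R] D₀) := by
  obtain ⟨E, _, _, hfin, het, ⟨ψ⟩⟩ := Groth.Agent.S0518.result R D₀
  letI : Algebra R D₀ := ((algebraMap (ResidueField R) D₀).comp (algebraMap R (ResidueField R))).toAlgebra
  haveI : IsScalarTower R (ResidueField R) D₀ := IsScalarTower.of_algebraMap_eq (fun _ => rfl)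
  let χ : E →ₐ[R] D₀ := ((ψ : ResidueField R ⊗[R] E →ₐ[ResidueField R] D₀).restrictScalars R).comp
    Algebra.TensorProduct.includeRight
  have hχ : IsRed R (ResidueField R) χ.toLinearMap := by
    have : ⇑(LinearMap.liftBaseChange (ResidueField R) χ.toLinearMap) = ⇑ψ := by
      funext z
      induction z using TensorProduct.induction_on with
      | zero => simp
      | add x y hx hy => simp only [map_add, hx, hy]
      | tmul s x =>
        have h1 : s ⊗ₜ[R] x = s • ((1 : ResidueField R) ⊗ₜ[R] x) := by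
          simp [TensorProduct.smul_tmul']
        rw [LinearMap.liftBaseChange_tmul, h1, map_smul]
        rfl
    unfold IsRed
    rw [this]
    exact ψ.bijective
  obtain ⟨L⟩ := exists_hopfLift hχ
  letI := L.hopf
  haveI := L.isCocomm hχ
  refine ⟨E, inferInstance, L.hopf, L.isCocomm hχ, hfin, het, ?_⟩
  exact nonempty_bialgEquiv_of_isSemiIso R (ResidueField R) ⟨L.isSemiCoalg, hχ⟩

end Groth.Agent.Helper2.CDBC
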