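import Mathlib
import Groth.Prelude.Def_SGA3b
import Groth.Agent.Helper2.CDBC6

set_option autoImplicit false

namespace Groth.Agent.Helper2.CDBC
open TensorProduct CartDual IsLocalRing Groth.Agent.Helper2.MultTypeSemi Groth.Agent.Helper2.SemiIso
  Groth.Agent.Helper2.NilSplit

universe u

section nak
variable (A : Type u) [CommRing A] [IsLocalRing A]
variable {P Q : Type*} [AddCommGroup P] [Module A P] [AddCommGroup Q] [Module A Q] [Module.Finite A Q]

lemma exists_one_tmul (z : ResidueField A ⊗[A] P) : ∃ p : P, z = 1 ⊗ₜ p := by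
  induction z using TensorProduct.induction_on with
  | zero => exact ⟨0, by simp⟩
  | add x y hx hy =>
    obtain ⟨p, rfl⟩ := hx
    obtain ⟨q, rfl⟩ := hy
    exact ⟨p + q, by rw [TensorProduct.tmul_add]⟩
  | tmul s p =>
    obtain ⟨a, rfl⟩ := IsLocalRing.residue_surjective s
    refine ⟨a • p, ?_⟩
    rw [TensorProduct.tmul_smul, TensorProduct.smul_tmul', Algebra.smul_def, mul_one]
    rfl

/-- Nakayama: a linear map which is surjective on the closed fibre is surjective -/
lemma surjective_of_tmul (φ : P →ₗ[A] Q)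
    (φ₀ : ResidueField A ⊗[A] P → ResidueField A ⊗[A] Q) (hφ₀ : Function.Surjective φ₀)
    (h : ∀ p, φ₀ (1 ⊗ₜ p) = 1 ⊗ₜ φ p) : Function.Surjective φ := by
  rw [← LinearMap.range_eq_top, ← IsLocalRing.map_tensorProduct_mk_eq_top, eq_top_iff]
  intro z _
  obtain ⟨w, rfl⟩ := hφ₀ z
  obtain ⟨p, rfl⟩ := exists_one_tmul A w
  rw [h]
  exact ⟨φ p, ⟨p, rfl⟩, rfl⟩

end nak

end Groth.Agent.Helper2.CDBC

namespace Groth.Agent.Helper2.CDBC
open TensorProduct CartDual IsLocalRing Groth.Agent.Helper2.MultTypeSemi Groth.Agent.Helper2.SemiIso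
  Groth.Agent.Helper2.NilSplit

universe u

section split
variable (A : Type u) [CommRing A] [HenselianLocalRing A]
variable (H : Type u) [CommRing H] [HopfAlgebra A H] [Coalgebra.IsCocomm A H] [Module.Finite A H]
  [Module.Projective A H] [Algebra.Etale A (D A H)]
variable (M : Type u) [CommGroup M]

/-- the Cartier dual of a finite diagonalisable group is étale -/
lemma etale_dual_monoidAlgebra [Finite M] : Algebra.Etale A (D A (MonoidAlgebra A M)) := by
  classical
  haveI : Fintype M := Fintype.ofFinite M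
  let e3 : D A (MonoidAlgebra A M) ≃ₐ[A] ConstGrp.F A M := Groth.Agent.Helper8.CartConst.alg A M
  let e4 : ConstGrp.F A M ≃ₐ[A] (M → A) := ConstGrp.equivFun A M
  exact Algebra.Etale.of_equiv (e3.trans e4).symm

/-- over a henselian local ring, a finite locally free commutative group with étale Cartier dual
whose closed fibre is diagonalisable is diagonalisable -/
theorem isDiag_of_split (θ : H →ₐ[A] MonoidAlgebra (ResidueField A) M)
    (hθ : IsSemiIso A (ResidueField A) θ) : SGA3b.IsDiag A H := by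
  let k := ResidueField A
  obtain ⟨e₀⟩ := nonempty_bialgEquiv_of_isSemiIso A k hθ
  obtain ⟨e₁⟩ := nonempty_bialgEquiv_of_isSemiIso A k (isSemiIso_rho A k M)
  haveI : Finite M := by
    haveI : Module.Finite k (MonoidAlgebra k M) := Module.Finite.equiv e₀.toLinearEquiv
    let b : Module.Basis M k (MonoidAlgebra k M) :=
      Module.Basis.ofRepr (MonoidAlgebra.coeffLinearEquiv k)
    exact Module.Finite.finite_basis b
  haveI : Module.Finite A (MonoidAlgebra A M) :=
    Module.Finite.of_basis (Module.Basis.ofRepr (MonoidAlgebra.coeffLinearEquiv A))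
  haveI : Algebra.Etale A (D A (MonoidAlgebra A M)) := etale_dual_monoidAlgebra A M
  let φ₀ : k ⊗[A] MonoidAlgebra A M ≃ₐc[k] k ⊗[A] H := e₁.trans e₀.symm
  obtain ⟨φ, hφ⟩ := exists_lift_of_etale_dual A H (MonoidAlgebra A M) (φ₀ : _ →ₐc[k] _)
  obtain ⟨ψ, hψ⟩ := exists_lift_of_etale_dual A (MonoidAlgebra A M) H (φ₀.symm : _ →ₐc[k] _)
  have hφs : Function.Surjective φ :=
    surjective_of_tmul A (φ : MonoidAlgebra A M →ₗ[A] H) φ₀ φ₀.surjective (fun p => hφ p)
  have hψs : Function.Surjective ψ :=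
    surjective_of_tmul A (ψ : H →ₗ[A] MonoidAlgebra A M) φ₀.symm φ₀.symm.surjective (fun p => hψ p)
  have hinj : Function.Injective φ := by
    have h1 : Function.Surjective ((ψ : H →ₗ[A] MonoidAlgebra A M) ∘ₗ
        (φ : MonoidAlgebra A M →ₗ[A] H)) := hψs.comp hφs
    have h2 := OrzechProperty.injective_of_surjective_endomorphism _ h1
    exact Function.Injective.of_comp h2
  exact ⟨M, inferInstance, ⟨(BialgEquiv.ofBijective φ ⟨hinj, hφs⟩).symm⟩⟩

end split

end Groth.Agent.Helper2.CDBC
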