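import Mathlib
import Groth.Prelude.Def_SGA3b
import Groth.Agent.Helper2.CDBC7
import Groth.Agent.S0505

set_option autoImplicit false

namespace Groth.Agent.Helper2.CDBC
open TensorProduct CartDual IsLocalRing Groth.Agent.Helper2.MultTypeSemi Groth.Agent.Helper2.SemiIso
  Groth.Agent.Helper2.NilSplit

universe u

section loc
variable (R : Type u) [CommRing R] [IsLocalRing R]
variable (R' : Type u) [CommRing R'] [Algebra R R'] [Module.Finite R R']
variable (K : Type u) [Field K] [Algebra (ResidueField R) K] [Algebra R K]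
  [IsScalarTower R (ResidueField R) K]
  (ψ : ResidueField R ⊗[R] R' ≃ₐ[ResidueField R] K)

/-- the reduction map `R' → K` -/
noncomputable def redK : R' →ₐ[R] K :=
  ((ψ : ResidueField R ⊗[R] R' →ₐ[ResidueField R] K).restrictScalars R).comp
    Algebra.TensorProduct.includeRight

lemma redK_surjective : Function.Surjective (redK R R' K ψ) := by
  intro y
  obtain ⟨z, rfl⟩ := ψ.surjective y
  obtain ⟨p, rfl⟩ := exists_one_tmul R z
  exact ⟨p, rfl⟩

lemma ker_redK_le (n : Ideal R') [hn : n.IsMaximal] : RingHom.ker (redK R R' K ψ) ≤ n := by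
  intro x hx
  have h1 : (1 : ResidueField R) ⊗ₜ[R] x = 0 := by
    apply ψ.injective
    rw [map_zero]
    exact hx
  have h2 := mem_smul_top_of_tmul_eq_zero R (ResidueField R) IsLocalRing.residue_surjective x h1
  have h3 : RingHom.ker (algebraMap R (ResidueField R)) = maximalIdeal R := IsLocalRing.ker_residue
  rw [h3, Ideal.smul_top_eq_map] at h2
  have h4 : (n.comap (algebraMap R R')).IsMaximal :=
    Ideal.isMaximal_comap_of_isIntegral_of_isMaximal n
  have h5 : n.comap (algebraMap R R') = maximalIdeal R := IsLocalRing.eq_maximalIdeal h4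
  have h6 : Ideal.map (algebraMap R R') (maximalIdeal R) ≤ n := by
    rw [Ideal.map_le_iff_le_comap, h5]
  exact h6 h2

include ψ in
theorem isLocalRing_of_field : IsLocalRing R' := by
  have hmax : (RingHom.ker (redK R R' K ψ)).IsMaximal :=
    RingHom.ker_isMaximal_of_surjective _ (redK_surjective R R' K ψ)
  apply IsLocalRing.of_unique_max_ideal
  refine ⟨RingHom.ker (redK R R' K ψ), hmax, fun n hn => ?_⟩
  haveI := hn
  exact (hmax.eq_of_le hn.ne_top (ker_redK_le R R' K ψ n)).symm

include ψ in
theorem isLocalHom_of_field : IsLocalHom (algebraMap R R') := by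
  haveI := isLocalRing_of_field R R' K ψ
  refine ⟨fun a ha => ?_⟩
  by_contra hna
  have h1 : a ∈ maximalIdeal R := (IsLocalRing.mem_maximalIdeal a).mpr hna
  have h4 : ((maximalIdeal R').comap (algebraMap R R')).IsMaximal :=
    Ideal.isMaximal_comap_of_isIntegral_of_isMaximal (maximalIdeal R')
  have h5 : (maximalIdeal R').comap (algebraMap R R') = maximalIdeal R :=
    IsLocalRing.eq_maximalIdeal h4
  rw [← h5, Ideal.mem_comap] at h1
  exact (IsLocalRing.mem_maximalIdeal _).mp h1 ha

end loc

end Groth.Agent.Helper2.CDBC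

namespace Groth.Agent.Helper2.CDBC
open TensorProduct CartDual IsLocalRing Groth.Agent.Helper2.MultTypeSemi Groth.Agent.Helper2.SemiIso
  Groth.Agent.Helper2.NilSplit Groth.Agent.Helper2.NilLift

universe u

section iso
variable (R : Type u) [CommRing R] [HenselianLocalRing R]
variable (C : Type u) [CommRing C] [HopfAlgebra R C] [Coalgebra.IsCocomm R C] [Module.Finite R C]
  [Module.Projective R C] [Algebra.Etale R (D R C)]
variable (K : Type u) [Field K] [Algebra (ResidueField R) K] [Module.Finite (ResidueField R) K]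
  [Algebra.IsSeparable (ResidueField R) K] [Algebra R K] [IsScalarTower R (ResidueField R) K]
variable (M : Type u) [CommGroup M] (θ : C →ₐ[R] MonoidAlgebra K M) (hθ : IsSemiIso R K θ)

include hθ in
/-- over a henselian local ring, a finite locally free commutative group with étale Cartier dual
whose closed fibre is split by a finite separable extension is isotrivial -/
theorem isIsotrivial_of_chart : SGA3b.IsIsotrivial R C := by
  let k := ResidueField R
  haveI : Algebra.Etale k K :=
    { formallyEtale := Algebra.FormallyEtale.of_isSeparable k K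
      finitePresentation := Algebra.FinitePresentation.of_finiteType.mp inferInstance }
  obtain ⟨R', _, _, hfin, het, ⟨ψ⟩⟩ := Groth.Agent.S0518.result R K
  haveI := hfin
  haveI := het
  haveI : IsLocalRing R' := isLocalRing_of_field R R' K ψ
  haveI : IsLocalHom (algebraMap R R') := isLocalHom_of_field R R' K ψ
  haveI : HenselianLocalRing R' := Groth.Agent.S0505.result R R'
  haveI : Module.Flat R R' := inferInstance
  haveI : Module.FaithfullyFlat R R' := Module.FaithfullyFlat.of_flat_of_isLocalHom
  let K' := ResidueField R'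
  let ι : K →ₐ[k] K' :=
    (Algebra.TensorProduct.lift (Algebra.ofId k K') (IsScalarTower.toAlgHom R R' K')
      (fun _ _ => Commute.all _ _)).comp (ψ.symm : K →ₐ[k] k ⊗[R] R')
  letI : Algebra K K' := ι.toRingHom.toAlgebra
  haveI : IsScalarTower k K K' := IsScalarTower.of_algebraMap_eq (fun x => (ι.commutes x).symm)
  haveI : IsScalarTower R K K' := IsScalarTower.of_algebraMap_eq (fun r => by
    rw [IsScalarTower.algebraMap_apply R k K', IsScalarTower.algebraMap_apply R k K,
      ← IsScalarTower.algebraMap_apply k K K'])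
  let θ' : C →ₐ[R] MonoidAlgebra K' M := ((rho K K' M).restrictScalars R).comp θ
  have hθ' : IsSemiIso R K' θ' := isSemiIso_rho_comp (T₂ := K') hθ
  let θH : R' ⊗[R] C →ₐ[R'] MonoidAlgebra K' M := liftMap R R' θ'
  have hθH : IsSemiIso R' K' θH := hθ'.lift R R' K'
  let Eq : R' ⊗[R] D R C ≃ₐ[R'] D R' (R' ⊗[R] C) := (bcEquiv R R' C).toAlgEquiv
  haveI : Algebra.Etale R' (D R' (R' ⊗[R] C)) :=
    Algebra.Etale.of_equiv (A := R' ⊗[R] D R C) (B := D R' (R' ⊗[R] C)) Eq
  have hd := isDiag_of_split R' (R' ⊗[R] C) M θH hθH
  exact ⟨R', inferInstance, inferInstance, het, hfin, inferInstance, hd⟩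

end iso

end Groth.Agent.Helper2.CDBC
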