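import Mathlib
import Groth.Prelude.Def_SGA3b
import Groth.Agent.Helper2.CDBC8
import Groth.Agent.Helper2.GLSep3

set_option autoImplicit false

namespace Groth.Agent.Helper2.CDBC
open TensorProduct CartDual IsLocalRing Groth.Agent.Helper2.MultTypeSemi Groth.Agent.Helper2.SemiIso
  Groth.Agent.Helper2.NilSplit SGA3b

universe u

theorem s6072 (R : Type u) [CommRing R] [HenselianLocalRing R]
    (C₀ : Type u) [CommRing C₀] [HopfAlgebra (IsLocalRing.ResidueField R) C₀]
    [Module.Finite (IsLocalRing.ResidueField R) C₀]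
    (h₀ : IsMultType (IsLocalRing.ResidueField R) C₀) :
    ∃ (C : Type u) (_ : CommRing C) (_ : HopfAlgebra R C), Module.Finite R C ∧ IsIsotrivial R C ∧
      Nonempty ((IsLocalRing.ResidueField R ⊗[R] C) ≃ₐc[IsLocalRing.ResidueField R] C₀) := by
  let k := ResidueField R
  obtain ⟨k₁, _, _, hff₁, N₁, _, ⟨e₁⟩⟩ := exists_chart_of_isLocalRing k C₀ h₀
  haveI := hff₁
  haveI : Coalgebra.IsCocomm k C₀ := isCocomm_of_chart k C₀ k₁ N₁ e₁
  haveI : Algebra.Etale k (D k C₀) := etale_dual_of_chart k C₀ k₁ N₁ e₁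
  obtain ⟨E, _, _, _, hfin, het, ⟨ψ⟩⟩ := exists_hopf_lift R (D k C₀)
  haveI := hfin
  haveI := het
  haveI : Module.Flat R E := inferInstance
  haveI : Module.Free R E := Module.free_of_flat_of_isLocalRing
  let eC : k ⊗[R] D R E ≃ₐc[k] C₀ :=
    (bcEquiv R k E).trans ((dualCongr k ψ.symm).trans (evalEquiv k C₀).symm)
  refine ⟨D R E, inferInstance, inferInstance, inferInstance, ?_, ⟨eC⟩⟩
  -- isotriviality
  let Ev : E ≃ₐ[R] D R (D R E) := (evalEquiv R E).toAlgEquiv
  haveI : Algebra.Etale R (D R (D R E)) :=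
    Algebra.Etale.of_equiv (A := E) (B := D R (D R E)) Ev
  have hft : Algebra.FiniteType k C₀ := inferInstance
  obtain ⟨K, _, _, hKfin, hKsep, M, _, -, ⟨e'⟩⟩ := Groth.Agent.Helper2.GLSep.s2969 k C₀ hft h₀
  haveI := hKfin
  haveI := hKsep
  letI : Algebra R K := ((algebraMap k K).comp (algebraMap R k)).toAlgebra
  haveI : IsScalarTower R k K := IsScalarTower.of_algebraMap_eq (fun _ => rfl)
  letI : Algebra R C₀ := ((algebraMap k C₀).comp (algebraMap R k)).toAlgebra
  haveI : IsScalarTower R k C₀ := IsScalarTower.of_algebraMap_eq (fun _ => rfl)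
  have h1 := (isSemiIso_includeRight R k (D R E)).comp R k k (isSemiIso_bialgEquiv k eC)
  have h2 := (isSemiIso_includeRight k K C₀).comp k K K (isSemiIso_bialgEquiv K e')
  have h3 := h1.comp R k K h2
  exact isIsotrivial_of_chart R (D R E) K M _ h3

end Groth.Agent.Helper2.CDBC
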