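import Mathlib

set_option autoImplicit false
set_option linter.style.haveILetI false
set_option linter.unusedSectionVars false
set_option linter.unusedVariables false

universe u

namespace Groth.Agent.Helper2.ZH

open IsLocalRing

/-- For a minimal prime `P` of a Noetherian ring there are `s ∉ P` and `N` with `P ^ N * s = 0`. -/
theorem exists_notMem_pow_mul_eq_zero {R : Type u} [CommRing R] [IsNoetherianRing R]
    (P : Ideal R) (hP : P ∈ minimalPrimes R) :
    ∃ s : R, s ∉ P ∧ ∃ N : ℕ, ∀ x ∈ P ^ N, x * s = 0 := by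
  classical
  haveI : P.IsPrime := hP.1.1
  have hfin : (minimalPrimes R).Finite := minimalPrimes.finite_of_isNoetherianRing R
  set F : Finset (Ideal R) := hfin.toFinset.erase P with hF
  set 𝔟 : Ideal R := F.inf id with h𝔟
  have h𝔟P : ¬ 𝔟 ≤ P := by
    intro hle
    rw [h𝔟, Ideal.IsPrime.inf_le' (inferInstance : P.IsPrime)] at hle
    obtain ⟨Q, hQF, hQP⟩ := hle
    rw [hF, Finset.mem_erase, Set.Finite.mem_toFinset] at hQF
    have : Q = P := le_antisymm hQP (hP.2 hQF.2.1 hQP)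
    exact hQF.1 this
  obtain ⟨s₀, hs₀𝔟, hs₀P⟩ := SetLike.not_le_iff_exists.mp h𝔟P
  obtain ⟨N, hN⟩ := IsNoetherianRing.isNilpotent_nilradical R
  refine ⟨s₀ ^ N, fun h => hs₀P (Ideal.IsPrime.mem_of_pow_mem inferInstance N h), N, ?_⟩
  intro x hx
  have h1 : P * Ideal.span {s₀} ≤ nilradical R := by
    rw [nilradical_eq_sInf]
    refine le_sInf fun J hJ => ?_
    haveI : J.IsPrime := hJ
    obtain ⟨Q, hQ, hQJ⟩ := Ideal.exists_minimalPrimes_le (bot_le : (⊥ : Ideal R) ≤ J)
    by_cases hQP : Q = P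
    · exact Ideal.mul_le_left.trans (hQP ▸ hQJ)
    · refine Ideal.mul_le_right.trans ?_
      rw [Ideal.span_singleton_le_iff_mem]
      apply hQJ
      have hQF : Q ∈ F := by
        rw [hF, Finset.mem_erase, Set.Finite.mem_toFinset]
        exact ⟨hQP, hQ⟩
      have : 𝔟 ≤ Q := Finset.inf_le (f := id) hQF
      exact this hs₀𝔟
  have h2 : x * s₀ ^ N ∈ (P * Ideal.span {s₀}) ^ N := by
    rw [mul_pow]
    exact Ideal.mul_mem_mul hx (Ideal.pow_mem_pow (Ideal.mem_span_singleton_self s₀) N)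
  have h3 : (P * Ideal.span {s₀}) ^ N ≤ ⊥ := by
    calc (P * Ideal.span {s₀}) ^ N ≤ nilradical R ^ N := Ideal.pow_right_mono h1 N
      _ = ⊥ := hN
  exact (Submodule.mem_bot R).mp (h3 h2)

/-- In a Noetherian local ring, an ideal all of whose prime overideals are the maximal ideal
contains a power of the maximal ideal. -/
theorem exists_pow_maximalIdeal_le {R : Type u} [CommRing R] [IsNoetherianRing R] [IsLocalRing R]
    (𝔞 : Ideal R) (h : ∀ Q : Ideal R, Q.IsPrime → 𝔞 ≤ Q → Q = maximalIdeal R) :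
    ∃ k : ℕ, maximalIdeal R ^ k ≤ 𝔞 := by
  apply Ideal.exists_pow_le_of_le_radical_of_fg _ (IsNoetherian.noetherian _)
  rw [Ideal.radical_eq_sInf]
  exact le_sInf fun Q hQ => (h Q hQ.2 hQ.1).ge

end Groth.Agent.Helper2.ZH
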