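import Mathlib
import Groth.Agent.Helper3.FlatColon

set_option autoImplicit false
set_option linter.style.haveILetI false
set_option linter.unusedSectionVars false
set_option linter.unusedVariables false

universe u

namespace Groth.Agent.Helper2.ZH

open TensorProduct

variable {A : Type u} [CommRing A] [IsDomain A] {Ah : Type u} [CommRing Ah] [Algebra A Ah]
  [Module.Flat A Ah] (K : Type u) [Field K] [Algebra A K] [IsFractionRing A K]

/-- elements of `(t₁ : 𝔞) Â` lie in `A + t₁ Â` when `Â = A + 𝔞 Â`. -/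
theorem mem_range_add_of_mem_map_colon (𝔞 : Ideal A) (t₁ : A)
    (hd : ∀ x : Ah, ∃ a : A, x - algebraMap A Ah a ∈ 𝔞.map (algebraMap A Ah))
    (z : Ah) (hz : z ∈ Ideal.map (algebraMap A Ah) ((Ideal.span {t₁}).colon (𝔞 : Set A))) :
    ∃ c ∈ (Ideal.span {t₁}).colon (𝔞 : Set A), ∃ w : Ah,
      z = algebraMap A Ah c + algebraMap A Ah t₁ * w := by
  set 𝔠 : Ideal A := (Ideal.span {t₁}).colon (𝔞 : Set A) with h𝔠
  have hmul : 𝔞 * 𝔠 ≤ Ideal.span {t₁} := by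
    rw [Ideal.mul_le]
    intro r hr c hc
    rw [h𝔠, Submodule.mem_colon] at hc
    have := hc r hr
    rwa [smul_eq_mul, mul_comm] at this
  induction hz using Submodule.span_induction with
  | mem z hz =>
    obtain ⟨c, hc, rfl⟩ := hz
    exact ⟨c, hc, 0, by simp⟩
  | zero => exact ⟨0, 𝔠.zero_mem, 0, by simp⟩
  | add z z' _ _ hz hz' =>
    obtain ⟨c, hc, w, rfl⟩ := hz
    obtain ⟨c', hc', w', rfl⟩ := hz'
    exact ⟨c + c', 𝔠.add_mem hc hc', w + w', by rw [map_add]; ring⟩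
  | smul β z _ hz =>
    obtain ⟨c, hc, w, rfl⟩ := hz
    obtain ⟨b, hb⟩ := hd β
    have h1 : (β - algebraMap A Ah b) * algebraMap A Ah c ∈
        Ideal.map (algebraMap A Ah) (Ideal.span {t₁}) := by
      have : (β - algebraMap A Ah b) * algebraMap A Ah c ∈
          Ideal.map (algebraMap A Ah) (𝔞 * 𝔠) := by
        rw [Ideal.map_mul]
        exact Ideal.mul_mem_mul hb (Ideal.mem_map_of_mem _ hc)
      exact Ideal.map_mono hmul this
    rw [Ideal.map_span, Set.image_singleton, Ideal.mem_span_singleton'] at h1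
    obtain ⟨w', hw'⟩ := h1
    refine ⟨b * c, Ideal.mul_mem_left _ _ hc, w' + β * w, ?_⟩
    rw [smul_eq_mul, map_mul]
    linear_combination (-1 : Ah) * hw'


/-- The key idempotent. -/
theorem exists_idem (𝔞 : Ideal A) (h𝔞fg : 𝔞.FG) (t₁ : A) (ht₁ : t₁ ∈ 𝔞) (ht₁0 : t₁ ≠ 0)
    (hd : ∀ x : Ah, ∃ a : A, x - algebraMap A Ah a ∈ 𝔞.map (algebraMap A Ah))
    (s : Ah) (hs : s ≠ 0) (J : Ideal Ah) (hJ : ∀ i ∈ J, i * s = 0)
    (h𝔞 : 𝔞.map (algebraMap A Ah) ≤ J ⊔ Ideal.span {s}) :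
    ∃ (x₀ : K) (β : Ah),
      (x₀ ⊗ₜ[A] (1 : Ah) + (1 : K) ⊗ₜ[A] β) * (x₀ ⊗ₜ[A] (1 : Ah) + (1 : K) ⊗ₜ[A] β) =
        x₀ ⊗ₜ[A] (1 : Ah) + (1 : K) ⊗ₜ[A] β ∧
      (x₀ ⊗ₜ[A] (1 : Ah) + (1 : K) ⊗ₜ[A] β) ≠ 0 ∧
      ∀ i ∈ J, ((1 : K) ⊗ₜ[A] i) * (x₀ ⊗ₜ[A] (1 : Ah) + (1 : K) ⊗ₜ[A] β) = 0 := by
  -- decomposition of elements of `𝔞`
  have hdec : ∀ t ∈ 𝔞, ∃ i ∈ J, ∃ y : Ah, algebraMap A Ah t = i + y * s := by
    intro t ht
    have := h𝔞 (Ideal.mem_map_of_mem _ ht)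
    rw [Submodule.mem_sup] at this
    obtain ⟨i, hi, z, hz, hiz⟩ := this
    rw [Ideal.mem_span_singleton'] at hz
    obtain ⟨y, rfl⟩ := hz
    exact ⟨i, hi, y, hiz.symm⟩
  obtain ⟨i₁, hi₁, y₁, h1⟩ := hdec t₁ ht₁
  obtain ⟨u₁, hu₁⟩ : ∃ u : Ah, u = y₁ * s := ⟨_, rfl⟩
  rw [← hu₁] at h1
  have hi₁s : i₁ * s = 0 := hJ i₁ hi₁
  -- the key relations
  have hrel : ∀ t ∈ 𝔞, ∃ v : Ah, u₁ * algebraMap A Ah t = algebraMap A Ah t₁ * v := by
    intro t ht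
    obtain ⟨i, hi, y, h2⟩ := hdec t ht
    have his : i * s = 0 := hJ i hi
    refine ⟨y * s, ?_⟩
    rw [h1, h2]
    linear_combination (i : Ah) * hu₁ + (y₁ : Ah) * his - (y : Ah) * hi₁s
  have hmem : u₁ ∈ Ideal.map (algebraMap A Ah) ((Ideal.span {t₁}).colon (𝔞 : Set A)) := by
    apply Groth.Agent.Helper3.FlatColon.mem_map_colon t₁ 𝔞 h𝔞fg u₁
    intro x hx
    obtain ⟨v, hv⟩ := hrel x hx
    exact ⟨v, hv⟩
  obtain ⟨c, hc, w, hcw⟩ := mem_range_add_of_mem_map_colon 𝔞 t₁ hd u₁ hmem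
  have htK : algebraMap A K t₁ ≠ 0 := by
    rwa [Ne, map_eq_zero_iff _ (IsFractionRing.injective A K)]
  -- `e = (1/t₁) ⊗ u₁`
  have he : (algebraMap A K c / algebraMap A K t₁) ⊗ₜ[A] (1 : Ah) + (1 : K) ⊗ₜ[A] w =
      (algebraMap A K t₁)⁻¹ ⊗ₜ[A] u₁ := by
    have e1 : (algebraMap A K t₁)⁻¹ ⊗ₜ[A] (algebraMap A Ah c) =
        (algebraMap A K c / algebraMap A K t₁) ⊗ₜ[A] (1 : Ah) := by
      rw [Algebra.algebraMap_eq_smul_one (A := Ah) c, ← TensorProduct.smul_tmul, Algebra.smul_def,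
        div_eq_mul_inv]
    have e2 : (algebraMap A K t₁)⁻¹ ⊗ₜ[A] (algebraMap A Ah t₁ * w) = (1 : K) ⊗ₜ[A] w := by
      rw [← Algebra.smul_def, ← TensorProduct.smul_tmul, Algebra.smul_def, mul_inv_cancel₀ htK]
    rw [hcw, TensorProduct.tmul_add, e1, e2]
  have hu₁sq : u₁ * u₁ = t₁ • u₁ := by
    rw [Algebra.smul_def, h1]
    linear_combination (-i₁ : Ah) * hu₁ - (y₁ : Ah) * hi₁s
  refine ⟨algebraMap A K c / algebraMap A K t₁, w, ?_, ?_, ?_⟩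
  · rw [he, Algebra.TensorProduct.tmul_mul_tmul, hu₁sq, ← TensorProduct.smul_tmul]
    congr 1
    rw [Algebra.smul_def]
    field_simp
  · rw [he]
    intro h0
    have h2 : (algebraMap A K t₁ ⊗ₜ[A] (1 : Ah)) * ((algebraMap A K t₁)⁻¹ ⊗ₜ[A] u₁) =
        Algebra.TensorProduct.includeRight (R := A) (A := K) u₁ := by
      rw [Algebra.TensorProduct.tmul_mul_tmul, mul_inv_cancel₀ htK, one_mul]
      rfl
    rw [h0, mul_zero] at h2
    have hinj := Algebra.TensorProduct.includeRight_injective (R := A) (A := K) (B := Ah)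
      (IsFractionRing.injective A K)
    have hu0 : u₁ = 0 := hinj (by rw [← h2, map_zero])
    have h3 : algebraMap A Ah t₁ * s = 0 := by
      rw [h1, add_mul, hi₁s, zero_add, hu0, zero_mul]
    have hreg : IsSMulRegular Ah (algebraMap A Ah t₁) :=
      IsSMulRegular.of_flat (IsLeftRegular.isSMulRegular (IsLeftCancelMulZero.mul_left_cancel_of_ne_zero ht₁0))
    exact hs (hreg (by simpa using h3))
  · intro i hi
    rw [he, Algebra.TensorProduct.tmul_mul_tmul, hu₁, ← mul_assoc, mul_comm i y₁, mul_assoc,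
      hJ i hi, mul_zero, TensorProduct.tmul_zero]

end Groth.Agent.Helper2.ZH
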