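import Mathlib

set_option autoImplicit false
set_option linter.style.haveILetI false
set_option linter.unusedSectionVars false
set_option linter.unusedVariables false

universe u

namespace Groth.Agent.Helper2.ZH

open TensorProduct IsLocalRing

variable {A : Type u} [CommRing A] [IsDomain A] {Ah : Type u} [CommRing Ah] [Algebra A Ah]
  [Module.Flat A Ah] (K : Type u) [Field K] [Algebra A K] [IsFractionRing A K]
  (x₀ : K) (β : Ah)

/-- the subalgebra `A[x₀]` of `K` -/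
abbrev Bx : Subalgebra A K := Algebra.adjoin A {x₀}

/-- `A[x₀] ⊗ Â` -/
abbrev Tx : Type u := (Bx (A := A) K x₀) ⊗[A] Ah

/-- the generator -/
def gen : Bx (A := A) K x₀ := ⟨x₀, Algebra.subset_adjoin (Set.mem_singleton _)⟩

/-- the idempotent upstairs -/
def eps : Tx (A := A) (Ah := Ah) K x₀ := gen K x₀ ⊗ₜ[A] (1 : Ah) + 1 ⊗ₜ[A] β

/-- the comparison map to `K ⊗ Â` -/
def phi : Tx (A := A) (Ah := Ah) K x₀ →ₐ[A] K ⊗[A] Ah :=
  Algebra.TensorProduct.map (Bx (A := A) K x₀).val (AlgHom.id A Ah)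

theorem phi_injective : Function.Injective (phi (A := A) (Ah := Ah) K x₀) := by
  have h := Module.Flat.rTensor_preserves_injective_linearMap (M := Ah)
    (Bx (A := A) K x₀).val.toLinearMap Subtype.val_injective
  have : ⇑(phi (A := A) (Ah := Ah) K x₀) =
      ⇑(LinearMap.rTensor Ah (Bx (A := A) K x₀).val.toLinearMap) := by
    ext z
    induction z using TensorProduct.induction_on with
    | zero => simp
    | tmul b y => simp [phi]
    | add z z' hz hz' => rw [map_add, map_add, hz, hz']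
  rw [this]
  exact h

theorem phi_eps : phi (A := A) (Ah := Ah) K x₀ (eps K x₀ β) =
    x₀ ⊗ₜ[A] (1 : Ah) + (1 : K) ⊗ₜ[A] β := by
  simp [phi, eps, gen]

theorem eps_idem (he : (x₀ ⊗ₜ[A] (1 : Ah) + (1 : K) ⊗ₜ[A] β) * (x₀ ⊗ₜ[A] (1 : Ah) + (1 : K) ⊗ₜ[A] β) =
      x₀ ⊗ₜ[A] (1 : Ah) + (1 : K) ⊗ₜ[A] β) : IsIdempotentElem (eps (A := A) K x₀ β) := by
  apply phi_injective K x₀
  rw [map_mul, phi_eps, he]

/-- the direct factor `ε T` -/
def Sx : Type u := Tx (A := A) (Ah := Ah) K x₀ ⧸ Ideal.span {1 - eps (A := A) K x₀ β}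

noncomputable instance : CommRing (Sx (A := A) K x₀ β) :=
  inferInstanceAs (CommRing (Tx (A := A) (Ah := Ah) K x₀ ⧸ Ideal.span {1 - eps (A := A) K x₀ β}))

noncomputable instance : Algebra (Tx (A := A) (Ah := Ah) K x₀) (Sx (A := A) K x₀ β) :=
  inferInstanceAs (Algebra (Tx (A := A) (Ah := Ah) K x₀)
    (Tx (A := A) (Ah := Ah) K x₀ ⧸ Ideal.span {1 - eps (A := A) K x₀ β}))

noncomputable instance : Algebra (Bx (A := A) K x₀) (Sx (A := A) K x₀ β) :=
  inferInstanceAs (Algebra (Bx (A := A) K x₀)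
    (Tx (A := A) (Ah := Ah) K x₀ ⧸ Ideal.span {1 - eps (A := A) K x₀ β}))

instance : IsScalarTower (Bx (A := A) K x₀) (Tx (A := A) (Ah := Ah) K x₀) (Sx (A := A) K x₀ β) :=
  inferInstanceAs (IsScalarTower (Bx (A := A) K x₀) (Tx (A := A) (Ah := Ah) K x₀)
    (Tx (A := A) (Ah := Ah) K x₀ ⧸ Ideal.span {1 - eps (A := A) K x₀ β}))

/-- the quotient map -/
noncomputable def mkS : Tx (A := A) (Ah := Ah) K x₀ →+* Sx (A := A) K x₀ β :=
  Ideal.Quotient.mk (Ideal.span {1 - eps (A := A) K x₀ β})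

theorem mkS_surjective : Function.Surjective (mkS (A := A) K x₀ β) :=
  Ideal.Quotient.mk_surjective

theorem mkS_eq_zero_iff (z : Tx (A := A) (Ah := Ah) K x₀) :
    mkS (A := A) K x₀ β z = 0 ↔ z ∈ Ideal.span {1 - eps (A := A) K x₀ β} :=
  Ideal.Quotient.eq_zero_iff_mem

theorem algebraMap_T_eq : (algebraMap (Tx (A := A) (Ah := Ah) K x₀) (Sx (A := A) K x₀ β)) =
    mkS (A := A) K x₀ β := rfl

theorem algebraMap_B_apply (b : Bx (A := A) K x₀) :
    algebraMap (Bx (A := A) K x₀) (Sx (A := A) K x₀ β) b = mkS (A := A) K x₀ β (b ⊗ₜ[A] (1 : Ah)) :=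
  rfl

/-- the map `Â → ε T` -/
noncomputable def psi : Ah →+* Sx (A := A) K x₀ β :=
  (mkS (A := A) K x₀ β).comp
    (Algebra.TensorProduct.includeRight : Ah →ₐ[A] Tx (A := A) (Ah := Ah) K x₀).toRingHom

theorem psi_apply (y : Ah) : psi (A := A) K x₀ β y =
    mkS (A := A) K x₀ β ((1 : Bx (A := A) K x₀) ⊗ₜ[A] y) := rfl


section facts

variable (he : (x₀ ⊗ₜ[A] (1 : Ah) + (1 : K) ⊗ₜ[A] β) * (x₀ ⊗ₜ[A] (1 : Ah) + (1 : K) ⊗ₜ[A] β) =
      x₀ ⊗ₜ[A] (1 : Ah) + (1 : K) ⊗ₜ[A] β)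

include he in
theorem flat_Sx : Module.Flat (Bx (A := A) K x₀) (Sx (A := A) K x₀ β) := by
  haveI : IsLocalization.Away (eps (A := A) K x₀ β) (Sx (A := A) K x₀ β) :=
    (IsLocalization.Away.quotient_of_isIdempotentElem (eps_idem K x₀ β he) :
      IsLocalization.Away (eps (A := A) K x₀ β)
        (Tx (A := A) (Ah := Ah) K x₀ ⧸ Ideal.span {1 - eps (A := A) K x₀ β}))
  haveI : Module.Flat (Tx (A := A) (Ah := Ah) K x₀) (Sx (A := A) K x₀ β) := by
    have h := IsLocalization.flat (Sx (A := A) K x₀ β) (Submonoid.powers (eps (A := A) K x₀ β))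
    convert h
  exact Module.Flat.trans (Bx (A := A) K x₀) (Tx (A := A) (Ah := Ah) K x₀) (Sx (A := A) K x₀ β)

include he in
theorem nontrivial_Sx (he0 : (x₀ ⊗ₜ[A] (1 : Ah) + (1 : K) ⊗ₜ[A] β) ≠ 0) :
    Nontrivial (Sx (A := A) K x₀ β) := by
  show Nontrivial (Tx (A := A) (Ah := Ah) K x₀ ⧸ Ideal.span {1 - eps (A := A) K x₀ β})
  rw [Ideal.Quotient.nontrivial_iff]
  intro htop
  have h1 : (1 : Tx (A := A) (Ah := Ah) K x₀) ∈ Ideal.span {1 - eps (A := A) K x₀ β} := by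
    rw [htop]; trivial
  rw [Ideal.mem_span_singleton'] at h1
  obtain ⟨t, ht⟩ := h1
  have hid := eps_idem K x₀ β he
  have h2 : eps (A := A) K x₀ β = 0 := by
    have : eps (A := A) K x₀ β = eps (A := A) K x₀ β * (t * (1 - eps (A := A) K x₀ β)) := by
      rw [ht, mul_one]
    rw [this]
    have h3 : eps (A := A) K x₀ β * eps (A := A) K x₀ β = eps (A := A) K x₀ β := hid
    linear_combination (-t) * h3
  apply he0
  rw [← phi_eps, h2, map_zero]

include he in
theorem le_ker_psi (J : Ideal Ah)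
    (hJ : ∀ i ∈ J, ((1 : K) ⊗ₜ[A] i) * (x₀ ⊗ₜ[A] (1 : Ah) + (1 : K) ⊗ₜ[A] β) = 0) :
    J ≤ RingHom.ker (psi (A := A) K x₀ β) := by
  intro i hi
  rw [RingHom.mem_ker, psi_apply, mkS_eq_zero_iff, Ideal.mem_span_singleton']
  refine ⟨(1 : Bx (A := A) K x₀) ⊗ₜ[A] i, ?_⟩
  have h0 : ((1 : Bx (A := A) K x₀) ⊗ₜ[A] i) * eps (A := A) K x₀ β = 0 := by
    apply phi_injective K x₀
    rw [map_mul, phi_eps, map_zero]
    have : phi (A := A) (Ah := Ah) K x₀ ((1 : Bx (A := A) K x₀) ⊗ₜ[A] i) = (1 : K) ⊗ₜ[A] i := by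
      simp [phi]
    rw [this]
    exact hJ i hi
  rw [mul_sub, mul_one, h0, sub_zero]

theorem psi_surjective : Function.Surjective (psi (A := A) K x₀ β) := by
  -- elements `b ⊗ 1` are in the range
  have key : ∀ (x : K) (hx : x ∈ Algebra.adjoin A {x₀}),
      mkS (A := A) K x₀ β
        ((⟨x, hx⟩ : Bx (A := A) K x₀) ⊗ₜ[A] (1 : Ah)) ∈ Set.range (psi (A := A) K x₀ β) := by
    intro x hx
    induction hx using Algebra.adjoin_induction with
    | mem x hx =>
      rw [Set.mem_singleton_iff] at hx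
      subst hx
      refine ⟨1 - β, ?_⟩
      rw [psi_apply, ← sub_eq_zero, ← map_sub, mkS_eq_zero_iff, Ideal.mem_span_singleton']
      refine ⟨1, ?_⟩
      rw [one_mul, eps, gen, TensorProduct.tmul_sub]
      change _ = _ - (⟨x, _⟩ : Bx (A := A) K x) ⊗ₜ[A] (1 : Ah)
      rw [Algebra.TensorProduct.one_def]
      abel
    | algebraMap r =>
      refine ⟨algebraMap A Ah r, ?_⟩
      rw [psi_apply]
      congr 1
      rw [Algebra.algebraMap_eq_smul_one, ← TensorProduct.smul_tmul]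
      congr 1
      ext
      simp [Algebra.smul_def]
    | add x y hx hy ihx ihy =>
      have : (⟨x + y, add_mem hx hy⟩ : Bx (A := A) K x₀) = ⟨x, hx⟩ + ⟨y, hy⟩ := rfl
      rw [this, TensorProduct.add_tmul, map_add]
      obtain ⟨a, ha⟩ := ihx
      obtain ⟨b, hb⟩ := ihy
      exact ⟨a + b, by rw [map_add, ha, hb]⟩
    | mul x y hx hy ihx ihy =>
      have : ((⟨x * y, mul_mem hx hy⟩ : Bx (A := A) K x₀) ⊗ₜ[A] (1 : Ah)) =
          ((⟨x, hx⟩ : Bx (A := A) K x₀) ⊗ₜ[A] (1 : Ah)) * ((⟨y, hy⟩ : Bx (A := A) K x₀) ⊗ₜ[A] (1 : Ah)) := by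
        rw [Algebra.TensorProduct.tmul_mul_tmul, mul_one]
        rfl
      rw [this, map_mul]
      obtain ⟨a, ha⟩ := ihx
      obtain ⟨b, hb⟩ := ihy
      exact ⟨a * b, by rw [map_mul, ha, hb]⟩
  intro z
  obtain ⟨z, rfl⟩ := mkS_surjective K x₀ β z
  change _ ∈ Set.range (psi (A := A) K x₀ β)
  induction z using TensorProduct.induction_on with
  | zero => exact ⟨0, by rw [map_zero, map_zero]⟩
  | tmul b y =>
    have : b ⊗ₜ[A] y = (b ⊗ₜ[A] (1 : Ah)) * ((1 : Bx (A := A) K x₀) ⊗ₜ[A] y) := by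
      rw [Algebra.TensorProduct.tmul_mul_tmul, mul_one, one_mul]
    rw [this, map_mul]
    obtain ⟨a, ha⟩ := key b.1 b.2
    exact ⟨a * y, by rw [map_mul, ha]; rfl⟩
  | add z z' hz hz' =>
    rw [map_add]
    obtain ⟨a, ha⟩ := hz
    obtain ⟨b, hb⟩ := hz'
    exact ⟨a + b, by rw [map_add, ha, hb]⟩


theorem psi_algebraMap (a : A) : psi (A := A) K x₀ β (algebraMap A Ah a) =
    algebraMap (Bx (A := A) K x₀) (Sx (A := A) K x₀ β) (algebraMap A (Bx (A := A) K x₀) a) := by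
  rw [psi_apply, algebraMap_B_apply]
  congr 1
  rw [Algebra.algebraMap_eq_smul_one, ← TensorProduct.smul_tmul, Algebra.algebraMap_eq_smul_one]

theorem finiteType_Bx : Algebra.FiniteType A (Bx (A := A) K x₀) :=
  (Subalgebra.fg_iff_finiteType _).mp ⟨{x₀}, by simp⟩

include he in
theorem exists_prime_of_idem [IsNoetherianRing A] [IsLocalRing A] [IsLocalRing Ah]
    [IsNoetherianRing Ah]
    (hmax : (maximalIdeal A).map (algebraMap A Ah) = maximalIdeal Ah)
    (hd1 : ∀ x : Ah, ∃ a : A, x - algebraMap A Ah a ∈ maximalIdeal Ah)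
    (he0 : (x₀ ⊗ₜ[A] (1 : Ah) + (1 : K) ⊗ₜ[A] β) ≠ 0) (J : Ideal Ah)
    (hJ : ∀ i ∈ J, ((1 : K) ⊗ₜ[A] i) * (x₀ ⊗ₜ[A] (1 : Ah) + (1 : K) ⊗ₜ[A] β) = 0)
    (P : Ideal Ah) (N : ℕ) (hPJ : P ^ N ≤ J)
    (hP1 : ∀ Q : Ideal Ah, Q.IsPrime → P ≤ Q → Q = P ∨ Q = maximalIdeal Ah) :
    ∃ m' : Ideal (Bx (A := A) K x₀), m'.IsPrime ∧
      m'.comap (algebraMap A (Bx (A := A) K x₀)) = maximalIdeal A ∧ m'.height ≤ 1 ∧
      ∀ b : Bx (A := A) K x₀, ∃ a : A, b - algebraMap A (Bx (A := A) K x₀) a ∈ m' := by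
  haveI := nontrivial_Sx K x₀ β he he0
  haveI hflat := flat_Sx K x₀ β he
  haveI := finiteType_Bx (A := A) K x₀
  haveI : IsNoetherianRing (Bx (A := A) K x₀) := Algebra.FiniteType.isNoetherianRing A _
  have hsurj := psi_surjective (A := A) K x₀ β
  have hker := le_ker_psi K x₀ β he J hJ
  haveI : IsNoetherianRing (Sx (A := A) K x₀ β) :=
    isNoetherianRing_of_surjective Ah _ (psi (A := A) K x₀ β) hsurj
  obtain ⟨𝔐, h𝔐⟩ := Ideal.exists_maximal (Sx (A := A) K x₀ β)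
  haveI := h𝔐
  have hc : 𝔐.comap (psi (A := A) K x₀ β) = maximalIdeal Ah := by
    haveI : (𝔐.comap (psi (A := A) K x₀ β)).IsMaximal :=
      Ideal.comap_isMaximal_of_surjective _ hsurj
    exact IsLocalRing.eq_maximalIdeal this
  have hcontP : ∀ q : Ideal (Sx (A := A) K x₀ β), q.IsPrime →
      P ≤ q.comap (psi (A := A) K x₀ β) := by
    intro q hq
    have h1 : P ^ N ≤ q.comap (psi (A := A) K x₀ β) := by
      refine hPJ.trans (hker.trans ?_)
      intro x hx
      rw [Ideal.mem_comap, RingHom.mem_ker.mp hx]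
      exact q.zero_mem
    exact Ideal.IsPrime.le_of_pow_le h1
  have hht : 𝔐.height ≤ 1 := by
    have : 𝔐.height ≤ ((1 : ℕ) : ℕ∞) := by
      rw [Ideal.height_le_iff]
      intro q hq hlt
      haveI := hq
      have hq0 : q.height = 0 := by
        rw [Ideal.height_eq_zero_iff]
        refine ⟨⟨hq, bot_le⟩, fun q' hq' hle => ?_⟩
        haveI := hq'.1
        have h1 := hP1 _ (Ideal.comap_isPrime (psi (A := A) K x₀ β) q') (hcontP q' hq'.1)
        have h2 := hP1 _ (Ideal.comap_isPrime (psi (A := A) K x₀ β) q) (hcontP q hq)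
        have h3 : q.comap (psi (A := A) K x₀ β) ≠ maximalIdeal Ah := by
          intro h
          have : q.comap (psi (A := A) K x₀ β) = 𝔐.comap (psi (A := A) K x₀ β) := h.trans hc.symm
          exact hlt.ne (Ideal.comap_injective_of_surjective _ hsurj this)
        have h4 : q.comap (psi (A := A) K x₀ β) = P := h2.resolve_right h3
        have h5 : q'.comap (psi (A := A) K x₀ β) = P := by
          rcases h1 with h | h
          · exact h
          · exfalso
            apply h3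
            have h6 : maximalIdeal Ah ≤ q.comap (psi (A := A) K x₀ β) := by
              rw [← h]; exact Ideal.comap_mono hle
            exact (IsLocalRing.eq_maximalIdeal
              ((maximalIdeal.isMaximal Ah).eq_of_le (Ideal.IsPrime.ne_top inferInstance) h6 ▸
                maximalIdeal.isMaximal Ah))
        exact (Ideal.comap_injective_of_surjective _ hsurj (h4.trans h5.symm)).le
      rw [hq0]
      exact_mod_cast zero_lt_one
    exact_mod_cast this
  set m' : Ideal (Bx (A := A) K x₀) :=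
    𝔐.comap (algebraMap (Bx (A := A) K x₀) (Sx (A := A) K x₀ β)) with hm'
  haveI : m'.IsPrime := Ideal.comap_isPrime _ _
  haveI : 𝔐.LiesOver m' := ⟨rfl⟩
  haveI : Algebra.HasGoingDown (Bx (A := A) K x₀) (Sx (A := A) K x₀ β) :=
    Algebra.HasGoingDown.of_flat
  have h1 := Ideal.height_eq_height_add_of_liesOver_of_hasGoingDown m' 𝔐
  have hcompat : ∀ a : A, algebraMap A (Bx (A := A) K x₀) a ∈ m' ↔ algebraMap A Ah a ∈ maximalIdeal Ah := by
    intro a
    rw [hm', Ideal.mem_comap, ← psi_algebraMap, ← hc, Ideal.mem_comap]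
  refine ⟨m', inferInstance, ?_, ?_, ?_⟩
  · have hle : maximalIdeal A ≤ m'.comap (algebraMap A (Bx (A := A) K x₀)) := by
      intro a ha
      rw [Ideal.mem_comap, hcompat, ← hmax]
      exact Ideal.mem_map_of_mem _ ha
    exact ((maximalIdeal.isMaximal A).eq_of_le (Ideal.IsPrime.ne_top (Ideal.comap_isPrime _ _)) hle).symm
  · rw [h1] at hht
    exact le_self_add.trans hht
  · intro b
    obtain ⟨y, hy⟩ := hsurj (algebraMap (Bx (A := A) K x₀) (Sx (A := A) K x₀ β) b)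
    obtain ⟨a, ha⟩ := hd1 y
    refine ⟨a, ?_⟩
    rw [hm', Ideal.mem_comap, map_sub, ← psi_algebraMap, ← hy, ← map_sub, ← Ideal.mem_comap, hc]
    exact ha

end facts

end Groth.Agent.Helper2.ZH
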