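import Mathlib
import Groth.Prelude
import Groth.Agent.Helper2.ZH1
import Groth.Agent.Helper2.ZH2
import Groth.Agent.Helper2.ZH3
import Groth.Agent.Helper5.DimFormula4

set_option autoImplicit false
set_option linter.style.haveILetI false
set_option linter.unusedSectionVars false
set_option linter.unusedVariables false

universe u

namespace Groth.Agent.Helper2.ZH

open TensorProduct IsLocalRing

/-- the height comparison coming from the dimension formula -/
theorem height_eq_of_dimFormula {A : Type u} [CommRing A] [IsDomain A] [IsLocalRing A]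
    (hA : CAlg.IsUniversallyCatenary A) (K : Type u) [Field K] [Algebra A K] [IsFractionRing A K]
    (B : Subalgebra A K) (hB : Algebra.FiniteType A B) (m' : Ideal B) [m'.IsPrime]
    (hm' : m'.comap (algebraMap A B) = maximalIdeal A)
    (hsurj : ∀ b : B, ∃ a : A, b - algebraMap A B a ∈ m') :
    m'.height = (maximalIdeal A).height := by
  haveI := hB
  have hinj : Function.Injective (algebraMap A B) := by
    have h1 : Function.Injective (algebraMap A K) := IsFractionRing.injective A K
    have h2 : ⇑(algebraMap A K) = (⇑B.val) ∘ ⇑(algebraMap A B) := rfl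
    rw [h2] at h1
    exact Function.Injective.of_comp h1
  haveI : FaithfulSMul A B := (faithfulSMul_iff_algebraMap_injective A B).mpr hinj
  haveI : m'.LiesOver (maximalIdeal A) := ⟨hm'.symm⟩
  have key := Groth.Agent.Helper5.DimFormula.dimension_equality A hA B (maximalIdeal A) m'
  haveI : Algebra.IsAlgebraic A K := by
    haveI : Algebra.IsAlgebraic K K := Algebra.IsAlgebraic.of_finite K K
    exact (IsFractionRing.comap_isAlgebraic_iff (A := A) (K := K) (C := K)).mpr inferInstance
  haveI : Algebra.IsAlgebraic A B :=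
    Algebra.IsAlgebraic.of_injective B.val Subtype.val_injective
  have h1 : Algebra.trdeg A B = 0 := trdeg_eq_zero
  haveI : Algebra.IsAlgebraic (A ⧸ maximalIdeal A) (B ⧸ m') := by
    refine ⟨fun z => ?_⟩
    obtain ⟨b, rfl⟩ := Ideal.Quotient.mk_surjective z
    obtain ⟨a, ha⟩ := hsurj b
    have : Ideal.Quotient.mk m' b =
        algebraMap (A ⧸ maximalIdeal A) (B ⧸ m') (Ideal.Quotient.mk _ a) := by
      rw [Ideal.Quotient.algebraMap_mk_of_liesOver, Ideal.Quotient.eq]
      exact ha
    rw [this]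
    exact isAlgebraic_algebraMap _
  have h2 : Algebra.trdeg (A ⧸ maximalIdeal A) (B ⧸ m') = 0 := trdeg_eq_zero
  rw [h1, h2, add_zero, add_zero] at key
  exact_mod_cast key


/-- **Ratliff, base case**: if the "completion" `Â` of a universally catenary Noetherian local
domain `A` has a minimal prime `P` with `dim Â/P ≤ 1`, then `dim A ≤ 1`. -/
theorem base_case {A : Type u} [CommRing A] [IsDomain A] [IsLocalRing A] [IsNoetherianRing A]
    (hA : CAlg.IsUniversallyCatenary A)
    {Ah : Type u} [CommRing Ah] [IsLocalRing Ah] [IsNoetherianRing Ah] [Algebra A Ah]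
    [Module.Flat A Ah]
    (hmax : (maximalIdeal A).map (algebraMap A Ah) = maximalIdeal Ah)
    (hd : ∀ (k : ℕ) (x : Ah), ∃ a : A,
      x - algebraMap A Ah a ∈ (maximalIdeal A ^ k).map (algebraMap A Ah))
    (P : Ideal Ah) (hP : P ∈ minimalPrimes Ah)
    (hP1 : ∀ Q : Ideal Ah, Q.IsPrime → P ≤ Q → Q = P ∨ Q = maximalIdeal Ah) :
    (maximalIdeal A).height ≤ 1 := by
  haveI : P.IsPrime := hP.1.1
  by_cases hm0 : maximalIdeal A = ⊥
  · rw [hm0, Ideal.height_bot]
    exact zero_le_one
  obtain ⟨t, htm, ht0⟩ := Submodule.exists_mem_ne_zero_of_ne_bot hm0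
  obtain ⟨s, hsP, N, hN⟩ := exists_notMem_pow_mul_eq_zero P hP
  have hs0 : s ≠ 0 := fun h => hsP (h ▸ P.zero_mem)
  set J : Ideal Ah := (Ideal.span {s}).annihilator with hJdef
  have hJ : ∀ i ∈ J, i * s = 0 := by
    intro i hi
    rw [hJdef, Submodule.mem_annihilator_span_singleton] at hi
    exact hi
  have hPJ : P ^ N ≤ J := by
    intro x hx
    rw [hJdef, Submodule.mem_annihilator_span_singleton]
    exact hN x hx
  obtain ⟨k, hk⟩ := exists_pow_maximalIdeal_le (J ⊔ Ideal.span {s}) (by
    intro Q hQ hle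
    haveI := hQ
    have h1 : P ≤ Q := Ideal.IsPrime.le_of_pow_le (hPJ.trans (le_sup_left.trans hle))
    rcases hP1 Q hQ h1 with h | h
    · exfalso
      apply hsP
      rw [← h]
      exact hle (Ideal.mem_sup_right (Ideal.mem_span_singleton_self s))
    · exact h)
  set 𝔞 : Ideal A := maximalIdeal A ^ k with h𝔞
  have h𝔞map : 𝔞.map (algebraMap A Ah) ≤ J ⊔ Ideal.span {s} := by
    rw [h𝔞, Ideal.map_pow, hmax]
    exact hk
  have ht₁ : t ^ k ∈ 𝔞 := Ideal.pow_mem_pow htm k
  have ht₁0 : t ^ k ≠ 0 := pow_ne_zero k ht0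
  obtain ⟨x₀, β, he, he0, hJe⟩ := exists_idem (A := A) (Ah := Ah) (FractionRing A) 𝔞
    (IsNoetherian.noetherian 𝔞) (t ^ k) ht₁ ht₁0 (hd k) s hs0 J hJ h𝔞map
  have hd1 : ∀ x : Ah, ∃ a : A, x - algebraMap A Ah a ∈ maximalIdeal Ah := by
    intro x
    obtain ⟨a, ha⟩ := hd 1 x
    rw [pow_one, hmax] at ha
    exact ⟨a, ha⟩
  obtain ⟨m', hm'prime, hm'over, hm'ht, hm'surj⟩ :=
    exists_prime_of_idem (A := A) (Ah := Ah) (FractionRing A) x₀ β he hmax hd1 he0 J hJe P N hPJ hP1
  haveI := hm'prime
  have := height_eq_of_dimFormula hA (FractionRing A) (Bx (A := A) (FractionRing A) x₀)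
    (finiteType_Bx (FractionRing A) x₀) m' hm'over hm'surj
  rw [← this]
  exact hm'ht

end Groth.Agent.Helper2.ZH
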