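import Mathlib
import Groth.Prelude
import Groth.Agent.Helper2.Caten
import Groth.Agent.Helper2.Caten2

set_option autoImplicit false
set_option linter.style.haveILetI false
set_option linter.unusedSectionVars false
set_option linter.unusedVariables false

universe u

namespace Groth.Agent.Helper2.ZH

open IsLocalRing

variable {A : Type u} [CommRing A] [IsDomain A] [IsLocalRing A] [IsNoetherianRing A]
  {R : Type u} [CommRing R] [IsLocalRing R] [IsNoetherianRing R] [Algebra A R] [Module.Flat A R]

/-- nonzero elements of `A` are nonzerodivisors of the flat algebra `R`, hence lie in no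
minimal prime -/
theorem algebraMap_notMem_of_mem_minimalPrimes {a : A} (ha : a ≠ 0) {Q : Ideal R}
    (hQ : Q ∈ minimalPrimes R) : algebraMap A R a ∉ Q := by
  intro hmem
  have hreg : IsSMulRegular R (algebraMap A R a) :=
    IsSMulRegular.of_flat (IsLeftRegular.isSMulRegular
      (IsLeftCancelMulZero.mul_left_cancel_of_ne_zero ha))
  have hnzd : algebraMap A R a ∈ nonZeroDivisors R := by
    rw [mem_nonZeroDivisors_iff_right]
    intro x hx
    apply hreg
    simpa [mul_comm] using hx
  exact Set.disjoint_left.mp (Ideal.disjoint_nonZeroDivisors_of_mem_minimalPrimes hQ) hmem hnzd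


/-- The inductive step of Ratliff's theorem, upstairs: a height one prime `P'` of `R` above `P`
of dimension one less, containing a nonzero element of `A`. -/
theorem exists_step (hmax : (maximalIdeal A).map (algebraMap A R) = maximalIdeal R)
    (hcat : CAlg.IsCatenary R) (P : Ideal R) (hP : P ∈ minimalPrimes R) (d : ℕ)
    (hd : ringKrullDim (R ⧸ P) = ((d + 2 : ℕ) : WithBot ℕ∞)) :
    ∃ P' : Ideal R, P'.IsPrime ∧ P'.height = 1 ∧
      ringKrullDim (R ⧸ P') = ((d + 1 : ℕ) : WithBot ℕ∞) ∧
      P'.comap (algebraMap A R) ≠ ⊥ := by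
  classical
  haveI : P.IsPrime := hP.1.1
  have hfinMin : (minimalPrimes R).Finite := minimalPrimes.finite_of_isNoetherianRing R
  set 𝒬 : Set (Ideal R) :=
    ⋃ P₂ ∈ minimalPrimes R, (P ⊔ P₂).minimalPrimes \ {maximalIdeal R} with h𝒬
  have h𝒬fin : 𝒬.Finite := hfinMin.biUnion fun P₂ _ =>
    ((P ⊔ P₂).finite_minimalPrimes_of_isNoetherianRing R).diff
  -- `m ≠ ⊥`
  have hm0 : maximalIdeal A ≠ ⊥ := by
    intro h0
    have h1 : maximalIdeal R = ⊥ := by rw [← hmax, h0, Ideal.map_bot]
    have h2 : ringKrullDim R = 0 := by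
      rw [← IsLocalRing.maximalIdeal_height_eq_ringKrullDim, h1, Ideal.height_bot]
      rfl
    have h3 : ringKrullDim (R ⧸ P) ≤ ringKrullDim R := ringKrullDim_quotient_le P
    rw [hd, h2] at h3
    have : ((d + 2 : ℕ) : WithBot ℕ∞) ≤ ((0 : ℕ) : WithBot ℕ∞) := h3
    rw [Nat.cast_le] at this
    omega
  set s : Finset (Ideal A) :=
    insert ⊥ (h𝒬fin.toFinset.image (Ideal.comap (algebraMap A R))) with hs
  have hav : ¬ ((maximalIdeal A : Set A) ⊆ ⋃ i ∈ (↑s : Set (Ideal A)), ((id i : Ideal A) : Set A)) := by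
    rw [Ideal.subset_union_prime (s := s) (f := id) ⊥ ⊥ (by
      intro i hi hi0 _
      rw [hs, Finset.mem_insert, Finset.mem_image] at hi
      rcases hi with hi | ⟨Q, hQ, rfl⟩
      · exact absurd hi hi0
      · rw [Set.Finite.mem_toFinset, h𝒬] at hQ
        simp only [Set.mem_iUnion, Set.mem_sdiff, exists_prop] at hQ
        obtain ⟨P₂, hP₂, hQ, -⟩ := hQ
        haveI := hQ.1.1
        exact Ideal.comap_isPrime _ _)]
    rintro ⟨i, hi, hle⟩
    rw [hs, Finset.mem_insert, Finset.mem_image] at hi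
    rcases hi with hi | ⟨Q, hQ, rfl⟩
    · subst hi
      exact hm0 (le_bot_iff.mp hle)
    · rw [Set.Finite.mem_toFinset, h𝒬] at hQ
      simp only [Set.mem_iUnion, Set.mem_sdiff, exists_prop, Set.mem_singleton_iff] at hQ
      obtain ⟨P₂, hP₂, hQ, hQm⟩ := hQ
      haveI := hQ.1.1
      apply hQm
      have h1 : maximalIdeal R ≤ Q := by
        rw [← hmax, Ideal.map_le_iff_le_comap]
        exact hle
      exact ((maximalIdeal.isMaximal R).eq_of_le (Ideal.IsPrime.ne_top inferInstance) h1).symm
  obtain ⟨a, ham, hau⟩ := Set.not_subset.mp hav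
  have ha0 : a ≠ 0 := by
    intro h0
    apply hau
    simp only [Set.mem_iUnion]
    exact ⟨⊥, by rw [hs]; simp, by rw [h0]; exact Ideal.zero_mem _⟩
  have haQ : ∀ Q ∈ 𝒬, algebraMap A R a ∉ Q := by
    intro Q hQ hmem
    apply hau
    simp only [Set.mem_iUnion]
    refine ⟨Q.comap (algebraMap A R), ?_, hmem⟩
    rw [hs, Finset.coe_insert, Finset.coe_image]
    exact Set.mem_insert_of_mem _ ⟨Q, by simpa using hQ, rfl⟩
  have haP : algebraMap A R a ∉ P := algebraMap_notMem_of_mem_minimalPrimes ha0 hP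
  have ham' : algebraMap A R a ∈ maximalIdeal R := by
    rw [← hmax]; exact Ideal.mem_map_of_mem _ ham
  have hle : P ⊔ Ideal.span {algebraMap A R a} ≤ maximalIdeal R :=
    sup_le (IsLocalRing.le_maximalIdeal (Ideal.IsPrime.ne_top inferInstance))
      ((Ideal.span_singleton_le_iff_mem _).mpr ham')
  obtain ⟨P', hP', hP'm⟩ := Ideal.exists_minimalPrimes_le hle
  haveI hP'prime : P'.IsPrime := hP'.1.1
  have haP' : algebraMap A R a ∈ P' :=
    hP'.1.2 (Ideal.mem_sup_right (Ideal.mem_span_singleton_self _))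
  have hcov := Groth.Agent.Helper2.Caten2.covBy_of_mem_minimalPrimes (⟨P, inferInstance⟩ :
    PrimeSpectrum R) (algebraMap A R a) haP P' hP'
  have hco := Groth.Agent.Helper2.Caten.coheight_of_covBy hcat hcov
  have hdimP' : ringKrullDim (R ⧸ P') = ((d + 1 : ℕ) : WithBot ℕ∞) := by
    have h1 := Groth.Agent.Helper2.Caten.dimQuot_eq_coheight (⟨P, inferInstance⟩ : PrimeSpectrum R)
    have h2 := Groth.Agent.Helper2.Caten.dimQuot_eq_coheight (⟨P', hP'.1.1⟩ : PrimeSpectrum R)
    rw [hco] at h1
    change ringKrullDim (R ⧸ P) = _ at h1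
    change ringKrullDim (R ⧸ P') = _ at h2
    rw [hd] at h1
    rw [h2]
    have h3 : ((d + 2 : ℕ) : ℕ∞) = Order.coheight (⟨P', hP'.1.1⟩ : PrimeSpectrum R) + 1 := by
      apply WithBot.coe_injective
      rw [← h1]
      rfl
    have h4 : ((d + 1 : ℕ) : ℕ∞) + 1 = Order.coheight (⟨P', hP'.1.1⟩ : PrimeSpectrum R) + 1 := by
      rw [← h3]; push_cast; ring
    have h5 := (ENat.add_left_injective_of_ne_top (ENat.one_ne_top)) h4
    rw [← h5]
    rfl
  have hP'ne : P' ≠ maximalIdeal R := by
    intro h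
    rw [h] at hdimP'
    have h1 : ringKrullDim (R ⧸ maximalIdeal R) = 0 := by
      haveI : IsField (R ⧸ maximalIdeal R) :=
        (Ideal.Quotient.maximal_ideal_iff_isField_quotient _).mp (maximalIdeal.isMaximal R)
      exact ringKrullDim_eq_zero_of_isField this
    rw [h1] at hdimP'
    have : ((0 : ℕ) : WithBot ℕ∞) = ((d + 1 : ℕ) : WithBot ℕ∞) := hdimP'
    rw [Nat.cast_inj] at this
    omega
  have hPltP' : P < P' := by
    have := hcov.lt
    rwa [← PrimeSpectrum.asIdeal_lt_asIdeal] at this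
  have hnobetween : ∀ q : Ideal R, q.IsPrime → P < q → q ≤ P' → q = P' := by
    intro q hq hPq hqP'
    by_contra hne
    have h1 : (⟨P, inferInstance⟩ : PrimeSpectrum R) < ⟨q, hq⟩ := by
      rw [← PrimeSpectrum.asIdeal_lt_asIdeal]; exact hPq
    have h2 : (⟨q, hq⟩ : PrimeSpectrum R) < ⟨P', hP'.1.1⟩ := by
      rw [← PrimeSpectrum.asIdeal_lt_asIdeal]; exact lt_of_le_of_ne hqP' hne
    exact hcov.2 h1 h2
  refine ⟨P', inferInstance, ?_, hdimP', ?_⟩
  · apply le_antisymm
    · have : P'.height ≤ ((1 : ℕ) : ℕ∞) := by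
        rw [Ideal.height_le_iff]
        intro q hq hqP'
        haveI := hq
        have hq0 : q.height = 0 := by
          rw [Ideal.height_eq_zero_iff]
          obtain ⟨P₂, hP₂, hP₂q⟩ := Ideal.exists_minimalPrimes_le (bot_le : (⊥ : Ideal R) ≤ q)
          by_cases hPP₂ : P₂ = P
          · subst hPP₂
            by_cases hPq : P₂ = q
            · rw [← hPq]; exact hP
            · exfalso
              have := hnobetween q hq (lt_of_le_of_ne hP₂q hPq) hqP'.le
              exact hqP'.ne this
          · exfalso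
            have hsup : P ⊔ P₂ ≤ P' := sup_le hPltP'.le (hP₂q.trans hqP'.le)
            obtain ⟨Q, hQ, hQP'⟩ := Ideal.exists_minimalPrimes_le hsup
            haveI := hQ.1.1
            have hPQ : P ≤ Q := le_sup_left.trans hQ.1.2
            have hPneQ : P ≠ Q := by
              intro h
              have h1 : P₂ ≤ P := by rw [h]; exact le_sup_right.trans hQ.1.2
              have h2 : P ≤ P₂ := hP.2 hP₂.1 h1
              exact hPP₂ (le_antisymm h1 h2)
            have hQeq : Q = P' := hnobetween Q hQ.1.1 (lt_of_le_of_ne hPQ hPneQ) hQP'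
            have hQ𝒬 : Q ∈ 𝒬 := by
              rw [h𝒬]
              simp only [Set.mem_iUnion, Set.mem_sdiff, exists_prop, Set.mem_singleton_iff]
              exact ⟨P₂, hP₂, hQ, by rw [hQeq]; exact hP'ne⟩
            exact haQ Q hQ𝒬 (hQeq ▸ haP')
        rw [hq0]
        exact_mod_cast zero_lt_one
      exact_mod_cast this
    · rw [Order.one_le_iff_pos, pos_iff_ne_zero, Ne, Ideal.height_eq_zero_iff]
      intro hmin
      exact hPltP'.not_ge (hmin.2 hP.1 hPltP'.le)
  · intro h0
    have : a ∈ P'.comap (algebraMap A R) := haP'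
    rw [h0] at this
    exact ha0 ((Submodule.mem_bot A).mp this)


/-- The contraction of a height one prime containing a nonzero element of `A`. -/
theorem contract_step (P' : Ideal R) [P'.IsPrime] (hht : P'.height = 1)
    (hne : P'.comap (algebraMap A R) ≠ ⊥) :
    (P'.comap (algebraMap A R)).height = 1 ∧
      P' ∈ ((P'.comap (algebraMap A R)).map (algebraMap A R)).minimalPrimes := by
  set q : Ideal A := P'.comap (algebraMap A R) with hq
  haveI : q.IsPrime := Ideal.comap_isPrime _ _
  haveI : P'.LiesOver q := ⟨rfl⟩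
  haveI : Algebra.HasGoingDown A R := Algebra.HasGoingDown.of_flat
  constructor
  · apply le_antisymm
    · have h1 := Ideal.height_eq_height_add_of_liesOver_of_hasGoingDown q P'
      rw [← hht, h1]
      exact le_self_add
    · rw [Order.one_le_iff_pos, pos_iff_ne_zero, Ne, Ideal.height_eq_zero_iff_eq_bot]
      exact hne
  · refine ⟨⟨inferInstance, Ideal.map_comap_le⟩, ?_⟩
    rintro Q ⟨hQ, hQle⟩ hQP'
    haveI := hQ
    by_contra hnot
    have hlt : Q < P' := lt_of_le_of_ne hQP' (fun h => hnot (h ▸ le_rfl))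
    have hQ0 : Q.height = 0 := by
      have h1 : Q.height < P'.height := Ideal.height_strict_mono_of_isPrime hlt
      rw [hht] at h1
      exact Order.lt_one_iff.mp h1
    rw [Ideal.height_eq_zero_iff] at hQ0
    obtain ⟨a, haq, ha0⟩ := Submodule.exists_mem_ne_zero_of_ne_bot hne
    exact algebraMap_notMem_of_mem_minimalPrimes ha0 hQ0 (hQle (Ideal.mem_map_of_mem _ haq))

end Groth.Agent.Helper2.ZH
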