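import Mathlib
import Groth.Prelude
import Groth.Agent.Helper2.ZH4
import Groth.Agent.Helper2.ZH5
import Groth.Agent.Helper2.ComplLocFlat
import Groth.Agent.Helper6.Ratliff1
import Groth.Agent.Helper6.FormEquidimMin

set_option autoImplicit false
set_option linter.style.haveILetI false
set_option linter.unusedSectionVars false
set_option linter.unusedVariables false

universe u

namespace Groth.Agent.Helper2.ZH

open IsLocalRing

theorem isUniversallyCatenary_of_surjective' {R R' : Type u} [CommRing R] [CommRing R']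
    (f : R →+* R') (hf : Function.Surjective f) (h : CAlg.IsUniversallyCatenary R) :
    CAlg.IsUniversallyCatenary R' := by
  haveI := h.1
  refine ⟨isNoetherianRing_of_surjective R R' f hf, fun S _ _ hS => ?_⟩
  letI : Algebra R R' := f.toAlgebra
  letI : Algebra R S := ((algebraMap R' S).comp f).toAlgebra
  haveI : IsScalarTower R R' S := IsScalarTower.of_algebraMap_eq (fun _ => rfl)
  haveI : Algebra.FiniteType R R' :=
    Algebra.FiniteType.of_surjective (Algebra.ofId R R') hf
  exact h.2 S (Algebra.FiniteType.trans ‹Algebra.FiniteType R R'› hS)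

/-- transport of a minimal prime over `q Â` to the completion of `A/q` -/
theorem exists_minimalPrime_cpl_quot (A : Type u) [CommRing A] [IsNoetherianRing A] [IsLocalRing A]
    (q : Ideal A) [Nontrivial (A ⧸ q)]
    (P' : Ideal (EGA4.Cpl A)) (hP' : P' ∈ (q.map (algebraMap A (EGA4.Cpl A))).minimalPrimes) :
    ∃ P'' ∈ minimalPrimes (EGA4.Cpl (A ⧸ q)),
      ringKrullDim (EGA4.Cpl (A ⧸ q) ⧸ P'') = ringKrullDim (EGA4.Cpl A ⧸ P') := by
  rw [Ideal.minimalPrimes_eq_comap] at hP'
  obtain ⟨Qb, hQb, rfl⟩ := hP'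
  let e := Groth.Agent.Helper6.FormEquidimMin.quotEquiv' A q
  let f : EGA4.Cpl (A ⧸ q) →+* (EGA4.Cpl A ⧸ q.map (algebraMap A (EGA4.Cpl A))) :=
    e.symm.toRingHom
  have hsurj : Function.Surjective f := e.symm.surjective
  refine ⟨Qb.comap f, ?_, ?_⟩
  · have h1 := Ideal.comap_minimalPrimes_eq_of_surjective hsurj (⊥ : Ideal _)
    have h2 : (⊥ : Ideal _).comap f = ⊥ := by
      rw [← RingHom.ker_eq_comap_bot]
      exact (RingHom.injective_iff_ker_eq_bot _).mp e.symm.injective
    rw [h2] at h1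
    show _ ∈ (⊥ : Ideal (EGA4.Cpl (A ⧸ q))).minimalPrimes
    rw [h1]
    exact ⟨Qb, hQb, rfl⟩
  · rw [← Groth.Agent.Helper6.FormEquidimMin.dim_quot_quot]
    exact ringKrullDim_eq_of_ringEquiv (Ideal.quotientEquiv _ Qb e.symm
      (Ideal.map_comap_of_surjective _ hsurj Qb).symm)


section setup

variable (A : Type u) [CommRing A] [IsLocalRing A] [IsNoetherianRing A]

theorem hmax_cpl : (maximalIdeal A).map (algebraMap A (EGA4.Cpl A)) = maximalIdeal (EGA4.Cpl A) :=
  (AdicCompletion.maximalIdeal_eq_map (R := A)).symm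

theorem hd_cpl (k : ℕ) (x : EGA4.Cpl A) : ∃ a : A,
    x - algebraMap A (EGA4.Cpl A) a ∈ (maximalIdeal A ^ k).map (algebraMap A (EGA4.Cpl A)) :=
  Groth.Agent.Helper2.ComplLocFlat.exists_sub_mem (maximalIdeal A)
    (IsNoetherian.noetherian _) k x

/-- primes above a prime of coheight `≤ 1` in a local ring -/
theorem eq_or_eq_of_dim_le_one {R : Type u} [CommRing R] [IsLocalRing R] (P : Ideal R) [P.IsPrime]
    (h : ringKrullDim (R ⧸ P) ≤ 1) (Q : Ideal R) (hQ : Q.IsPrime) (hPQ : P ≤ Q) :
    Q = P ∨ Q = maximalIdeal R := by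
  by_contra hcon
  push_neg at hcon
  have h0 := Groth.Agent.Helper2.Caten.dimQuot_eq_coheight (⟨P, inferInstance⟩ : PrimeSpectrum R)
  change ringKrullDim (R ⧸ P) = _ at h0
  rw [h0] at h
  have h1 : (⟨P, inferInstance⟩ : PrimeSpectrum R) < ⟨Q, hQ⟩ := by
    rw [← PrimeSpectrum.asIdeal_lt_asIdeal]
    exact lt_of_le_of_ne hPQ hcon.1.symm
  have h2 : (⟨Q, hQ⟩ : PrimeSpectrum R) < closedPoint R := by
    rw [← PrimeSpectrum.asIdeal_lt_asIdeal]
    exact lt_of_le_of_ne (IsLocalRing.le_maximalIdeal hQ.ne_top) hcon.2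
  have h3 := Order.coheight_add_one_le h1
  have h4 := Order.coheight_add_one_le h2
  have h5 : (2 : ℕ∞) ≤ Order.coheight (⟨P, inferInstance⟩ : PrimeSpectrum R) := by
    calc (2 : ℕ∞) = 0 + 1 + 1 := by norm_num
      _ ≤ Order.coheight (closedPoint R) + 1 + 1 := by gcongr; exact bot_le
      _ ≤ Order.coheight (⟨Q, hQ⟩ : PrimeSpectrum R) + 1 := by gcongr
      _ ≤ _ := h3
  have h6 : ((2 : ℕ∞) : WithBot ℕ∞) ≤ 1 := (WithBot.coe_le_coe.mpr h5).trans h
  have h7 : (2 : ℕ∞) ≤ 1 := by exact_mod_cast h6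
  norm_num at h7

end setup

/-- **Ratliff**: for a universally catenary Noetherian local domain, every minimal prime of the
completion has full dimension. -/
theorem ratliff_dim (d : ℕ) : ∀ (A : Type u) [CommRing A] [IsDomain A] [IsLocalRing A]
    [IsNoetherianRing A], CAlg.IsUniversallyCatenary A → ∀ P ∈ minimalPrimes (EGA4.Cpl A),
    ringKrullDim (EGA4.Cpl A ⧸ P) = ((d : ℕ) : WithBot ℕ∞) →
    ringKrullDim A = ((d : ℕ) : WithBot ℕ∞) := by
  induction d with
  | zero =>
    intro A _ _ _ _ hA P hP hd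
    haveI : P.IsPrime := hP.1.1
    rw [← Groth.Agent.Helper6.FormEquidimMin.dim_compl A]
    have h0 := Groth.Agent.Helper2.Caten.dimQuot_eq_coheight
      (⟨P, inferInstance⟩ : PrimeSpectrum (EGA4.Cpl A))
    change ringKrullDim (EGA4.Cpl A ⧸ P) = _ at h0
    rw [hd] at h0
    have h1 : Order.coheight (⟨P, inferInstance⟩ : PrimeSpectrum (EGA4.Cpl A)) = 0 := by
      have : ((0 : ℕ∞) : WithBot ℕ∞) = Order.coheight
        (⟨P, inferInstance⟩ : PrimeSpectrum (EGA4.Cpl A)) := by rw [← h0]; rfl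
      exact (WithBot.coe_injective this).symm
    rw [Order.coheight_eq_zero] at h1
    have h2 : closedPoint (EGA4.Cpl A) ≤ ⟨P, inferInstance⟩ :=
      h1 (by
        rw [← PrimeSpectrum.asIdeal_le_asIdeal]
        exact IsLocalRing.le_maximalIdeal (Ideal.IsPrime.ne_top inferInstance))
    have h3 : maximalIdeal (EGA4.Cpl A) = P :=
      le_antisymm h2 (IsLocalRing.le_maximalIdeal (Ideal.IsPrime.ne_top inferInstance))
    rw [← IsLocalRing.maximalIdeal_height_eq_ringKrullDim, h3, Ideal.height_eq_zero_iff.mpr hP]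
    rfl
  | succ d ih =>
    intro A _ _ _ _ hA P hP hd
    haveI : P.IsPrime := hP.1.1
    haveI : Module.Flat A (EGA4.Cpl A) := AdicCompletion.flat_of_isNoetherian (maximalIdeal A)
    have hge : ((d + 1 : ℕ) : WithBot ℕ∞) ≤ ringKrullDim A := by
      rw [← Groth.Agent.Helper6.FormEquidimMin.dim_compl A, ← hd]
      exact ringKrullDim_quotient_le P
    rcases Nat.eq_zero_or_pos d with hd0 | hdpos
    · -- base case
      subst hd0
      apply le_antisymm _ hge
      have hP1 := eq_or_eq_of_dim_le_one P (by rw [hd]; rfl)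
      have := base_case hA (hmax_cpl A) (hd_cpl A) P hP hP1
      rw [← IsLocalRing.maximalIdeal_height_eq_ringKrullDim]
      exact_mod_cast this
    · obtain ⟨d', rfl⟩ := Nat.exists_eq_add_of_le hdpos
      have hd' : ringKrullDim (EGA4.Cpl A ⧸ P) = ((d' + 2 : ℕ) : WithBot ℕ∞) := by
        rw [hd]; congr 1; omega
      obtain ⟨P', hP'prime, hP'ht, hP'dim, hP'ne⟩ :=
        exists_step (A := A) (R := EGA4.Cpl A) (hmax_cpl A)
          (Groth.Agent.Helper6.Ratliff.isCatenary_cpl A) P hP d' hd'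
      haveI := hP'prime
      obtain ⟨hqht, hP'min⟩ := contract_step (A := A) P' hP'ht hP'ne
      set q : Ideal A := P'.comap (algebraMap A (EGA4.Cpl A)) with hq
      haveI : q.IsPrime := Ideal.comap_isPrime _ _
      haveI : IsDomain (A ⧸ q) := Ideal.Quotient.isDomain q
      obtain ⟨P'', hP''min, hP''dim⟩ := exists_minimalPrime_cpl_quot A q P' hP'min
      have huc : CAlg.IsUniversallyCatenary (A ⧸ q) :=
        isUniversallyCatenary_of_surjective' (Ideal.Quotient.mk q) Ideal.Quotient.mk_surjective hA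
      have hdimq : ringKrullDim (A ⧸ q) = ((1 + d' : ℕ) : WithBot ℕ∞) := by
        apply ih (A ⧸ q) huc P'' hP''min
        rw [hP''dim, hP'dim]
        congr 1; omega
      -- catenary: ht q + dim A/q = dim A
      have hcat : CAlg.IsCatenary A := hA.2 A inferInstance
      have he : EGA4.IsEquidim A := by
        intro p hp
        rw [IsDomain.minimalPrimes_eq_singleton_bot, Set.mem_singleton_iff] at hp
        subst hp
        exact ringKrullDim_eq_of_ringEquiv (RingEquiv.quotientBot A)
      have h1 := Groth.Agent.Helper2.Caten2.height_add_coheight_eq hcat he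
        (⟨q, inferInstance⟩ : PrimeSpectrum A)
      have h2 := Groth.Agent.Helper2.Caten.dimQuot_eq_coheight (⟨q, inferInstance⟩ : PrimeSpectrum A)
      change ringKrullDim (A ⧸ q) = _ at h2
      rw [hdimq] at h2
      have h3 : Order.coheight (⟨q, inferInstance⟩ : PrimeSpectrum A) = ((1 + d' : ℕ) : ℕ∞) := by
        have : (((1 + d' : ℕ) : ℕ∞) : WithBot ℕ∞) = Order.coheight
          (⟨q, inferInstance⟩ : PrimeSpectrum A) := by rw [← h2]; rfl
        exact (WithBot.coe_injective this).symm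
      have h4 : Order.height (⟨q, inferInstance⟩ : PrimeSpectrum A) = 1 := by
        rw [← hqht]
        exact (PrimeSpectrum.height_eq_orderHeight (⟨q, inferInstance⟩ : PrimeSpectrum A)).symm
      rw [← h1, h3, h4]
      push_cast
      ring


/-- the completion of a universally catenary Noetherian local domain is equidimensional -/
theorem isFormallyEquidim_of_uc_domain (A : Type u) [CommRing A] [IsDomain A] [IsLocalRing A]
    [IsNoetherianRing A] (hA : CAlg.IsUniversallyCatenary A) : EGA4.IsFormallyEquidim A := by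
  intro P hP
  haveI : P.IsPrime := hP.1.1
  change ringKrullDim (EGA4.Cpl A ⧸ P) = ringKrullDim (EGA4.Cpl A)
  have h0 := Groth.Agent.Helper2.Caten.dimQuot_eq_coheight
    (⟨P, inferInstance⟩ : PrimeSpectrum (EGA4.Cpl A))
  change ringKrullDim (EGA4.Cpl A ⧸ P) = _ at h0
  obtain ⟨n, hn⟩ := ENat.ne_top_iff_exists.1 (Groth.Agent.Helper2.Caten.coheight_lt_top
    (⟨P, inferInstance⟩ : PrimeSpectrum (EGA4.Cpl A))).ne
  have h1 : ringKrullDim (EGA4.Cpl A ⧸ P) = ((n : ℕ) : WithBot ℕ∞) := by
    rw [h0, ← hn]; rfl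
  rw [Groth.Agent.Helper6.FormEquidimMin.dim_compl A, ratliff_dim n A hA P hP h1, h1]

/-- **Ratliff's theorem**: a universally catenary Noetherian local ring is formally catenary. -/
theorem isFormallyCatenary_of_uc (A : Type u) [CommRing A] [IsLocalRing A] [IsNoetherianRing A]
    (hA : CAlg.IsUniversallyCatenary A) : EGA4.IsFormallyCatenary A := by
  intro p hp
  haveI : IsDomain (A ⧸ p) := Ideal.Quotient.isDomain p
  exact isFormallyEquidim_of_uc_domain (A ⧸ p)
    (isUniversallyCatenary_of_surjective' (Ideal.Quotient.mk p) Ideal.Quotient.mk_surjective hA)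

end Groth.Agent.Helper2.ZH
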