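import Mathlib
import Groth.Prelude
import Groth.Agent.Helper2.RegCM
import Groth.Agent.Helper2.DepthCM2
import Groth.Agent.Helper2.CotTSmooth

namespace Groth.Agent.Helper2.CIConormal

open Function IsLocalRing RingTheory.Sequence Module

universe u

/-- in a regular local ring, `c` elements of the maximal ideal cutting the dimension down by `c`
form a regular sequence. -/
theorem isRegular_ofFn_of_dim {R : Type u} [CommRing R] [IsRegularLocalRing R] {c : ℕ}
    (f : Fin c → R) (hm : ∀ i, f i ∈ maximalIdeal R)
    (hdim : ringKrullDim (R ⧸ Ideal.span (Set.range f)) + c = ringKrullDim R) :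
    IsRegular R (List.ofFn f) := by
  have hCM := RegCM.cm_of_isRegularLocalRing R
  have hof : Ideal.ofList (List.ofFn f) = Ideal.span (Set.range f) := by
    rw [Ideal.ofList]
    congr 1
    ext x
    rw [Set.mem_ofPred_eq, List.mem_ofFn', Set.mem_range]
  have mem : ∀ x ∈ List.ofFn f, x ∈ maximalIdeal R := by
    intro x hx
    obtain ⟨i, rfl⟩ := (List.mem_ofFn' f x).1 hx
    exact hm i
  have hdim' : supportDim R (R ⧸ Ideal.ofList (List.ofFn f) • (⊤ : Submodule R R)) +
      (List.ofFn f).length = supportDim R R := by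
    have eq : Ideal.ofList (List.ofFn f) • (⊤ : Submodule R R) = Ideal.span (Set.range f) := by
      rw [smul_eq_mul, Ideal.mul_top, hof]
    rw [supportDim_eq_of_equiv (Submodule.quotEquivOfEq _ _ eq),
      Module.supportDim_quotient_eq_ringKrullDim, Module.supportDim_self_eq_ringKrullDim,
      List.length_ofFn]
    exact hdim
  exact IsRegular.of_isWeaklyRegular_of_mem_maximalIdeal R mem
    (DepthCM2.weaklyRegular_of_dim_drop _ R hCM mem hdim')

section S2167

variable {R : Type u} [CommRing R] [IsRegularLocalRing R] (I : Ideal R)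

omit [IsRegularLocalRing R] in
lemma span_toCotangent_eq_top {n : ℕ} (f : Fin n → R) (hspan : Ideal.span (Set.range f) = I)
    (hfI : ∀ i, f i ∈ I) :
    Submodule.span (R ⧸ I) (Set.range fun i => I.toCotangent ⟨f i, hfI i⟩) = ⊤ := by
  rw [_root_.eq_top_iff]
  intro y _
  obtain ⟨⟨x, hx⟩, rfl⟩ := I.toCotangent_surjective y
  have hx' : x ∈ Ideal.span (Set.range f) := hspan ▸ hx
  obtain ⟨a, ha⟩ := (Ideal.mem_span_range_iff_exists_fun).1 hx'
  have h1 : (⟨x, hx⟩ : I) = ∑ i, a i • (⟨f i, hfI i⟩ : I) := by
    apply Subtype.ext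
    rw [Submodule.coe_sum]
    exact ha.symm
  rw [h1, map_sum]
  refine Submodule.sum_mem _ fun i _ => ?_
  rw [map_smul, ← algebraMap_smul (R ⧸ I) (a i)]
  exact Submodule.smul_mem _ _ (Submodule.subset_span ⟨i, rfl⟩)

theorem s2167 (hI : I ≠ ⊤) :
    (∃ rs : List R, Ideal.ofList rs = I ∧ RingTheory.Sequence.IsRegular R rs) ↔
      (((⊤ : Submodule (R ⧸ I) I.Cotangent).spanFinrank : WithBot ℕ∞) + ringKrullDim (R ⧸ I)
        ≤ ringKrullDim R) := by
  classical
  have hIm : I ≤ maximalIdeal R := IsLocalRing.le_maximalIdeal hI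
  constructor
  · rintro ⟨rs, hrs, hreg⟩
    have hdim := ringKrullDim_add_length_eq_ringKrullDim_of_isRegular rs hreg
    have hq : ringKrullDim (R ⧸ I) = ringKrullDim (R ⧸ Ideal.ofList rs) :=
      ringKrullDim_eq_of_ringEquiv (Ideal.quotEquivOfEq hrs.symm)
    rw [← hdim, hq, add_comm]
    gcongr
    -- the conormal module is generated by `rs.length` elements
    have hfI : ∀ i : Fin rs.length, rs.get i ∈ I := fun i =>
      hrs ▸ Ideal.subset_span (List.get_mem rs i)
    have hspan : Ideal.span (Set.range rs.get) = I := by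
      rw [← hrs, Ideal.ofList]
      congr 1
      ext x
      rw [Set.mem_range, Set.mem_ofPred_eq, List.mem_iff_get]
    have h1 := span_toCotangent_eq_top I rs.get hspan hfI
    have h2 := Submodule.spanFinrank_span_le_ncard_of_finite (R := R ⧸ I)
      (Set.finite_range fun i => I.toCotangent ⟨rs.get i, hfI i⟩)
    rw [h1] at h2
    have h3 : (Set.range fun i => I.toCotangent ⟨rs.get i, hfI i⟩).ncard ≤ rs.length := by
      rw [← Set.image_univ]
      refine (Set.ncard_image_le Set.finite_univ).trans ?_
      rw [Set.ncard_univ, Nat.card_eq_fintype_card, Fintype.card_fin]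
    exact_mod_cast h2.trans h3
  · intro h
    haveI : IsNoetherianRing R := inferInstance
    haveI : Module.Finite R I.Cotangent := Module.Finite.of_surjective _ I.toCotangent_surjective
    haveI : Module.Finite (R ⧸ I) I.Cotangent :=
      Module.Finite.of_restrictScalars_finite R (R ⧸ I) I.Cotangent
    have hfg : (⊤ : Submodule (R ⧸ I) I.Cotangent).FG := Module.Finite.fg_top
    obtain ⟨s, hcard, hs⟩ := Submodule.FG.exists_span_finset_card_eq_spanFinrank hfg
    set c := (⊤ : Submodule (R ⧸ I) I.Cotangent).spanFinrank with hc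
    let e := s.equivFin
    let t : Fin s.card → I.Cotangent := fun i => (e.symm i : I.Cotangent)
    have ht : Submodule.span (R ⧸ I) (Set.range t) = ⊤ := by
      have : Set.range t = (s : Set I.Cotangent) := by
        ext x
        constructor
        · rintro ⟨i, rfl⟩
          exact (e.symm i).2
        · intro hx
          exact ⟨e ⟨x, hx⟩, by simp [t]⟩
      rw [this, hs]
    choose x hx using fun i => I.toCotangent_surjective (t i)
    let f : Fin s.card → R := fun i => (x i : R)
    have hfI : ∀ i, f i ∈ I := fun i => (x i).2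
    have hle : Ideal.span (Set.range f) ≤ I := Ideal.span_le.2 (by
      rintro _ ⟨i, rfl⟩
      exact hfI i)
    have hspan : Ideal.span (Set.range f) = I := by
      refine le_antisymm hle ?_
      have hjac : I ≤ Ideal.jacobson (⊥ : Ideal R) := by
        rw [IsLocalRing.jacobson_eq_maximalIdeal ⊥ bot_ne_top]
        exact hIm
      refine Submodule.le_of_le_smul_of_le_jacobson_bot (IsNoetherian.noetherian I) hjac ?_
      intro y hy
      have hy' : I.toCotangent ⟨y, hy⟩ ∈ Submodule.span (R ⧸ I) (Set.range t) := by
        rw [ht]; exact Submodule.mem_top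
      obtain ⟨b, hb⟩ := (Submodule.mem_span_range_iff_exists_fun _).1 hy'
      choose a ha using fun i => Ideal.Quotient.mk_surjective (b i)
      have hz : I.toCotangent (⟨y, hy⟩ - ∑ i, a i • x i) = 0 := by
        rw [map_sub, map_sum, ← hb, sub_eq_zero]
        refine Finset.sum_congr rfl fun i _ => ?_
        rw [map_smul, hx, ← ha, ← algebraMap_smul (R ⧸ I) (a i) (t i)]
        rfl
      rw [Ideal.toCotangent_eq_zero] at hz
      have hz' : y - ∑ i, a i * f i ∈ I ^ 2 := by
        convert hz using 1
        simp [f, Submodule.coe_sum]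
      have hy2 : y = ∑ i, a i * f i + (y - ∑ i, a i * f i) := by ring
      rw [hy2]
      refine Submodule.add_mem_sup ?_ ?_
      · exact Submodule.sum_mem _ fun i _ =>
          Ideal.mul_mem_left _ _ (Ideal.subset_span ⟨i, rfl⟩)
      · rw [smul_eq_mul, ← pow_two]
        exact hz'
    -- dimension count
    have h1 : ringKrullDim R ≤ ringKrullDim (R ⧸ I) + (s.card : WithBot ℕ∞) := by
      have h2 : ringKrullDim R ≤ ringKrullDim (R ⧸ I) + I.spanFinrank := by
        apply ringKrullDim_le_ringKrullDim_quotient_add_spanFinrank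
        rw [IsLocalRing.ringJacobson_eq_maximalIdeal]
        exact hIm
      refine h2.trans ?_
      gcongr
      have h3 := Submodule.spanFinrank_span_le_ncard_of_finite (R := R) (Set.finite_range f)
      have h4 : (Set.range f).ncard ≤ s.card := by
        rw [← Set.image_univ]
        refine (Set.ncard_image_le Set.finite_univ).trans ?_
        rw [Set.ncard_univ, Nat.card_eq_fintype_card, Fintype.card_fin]
      have h5 : (Submodule.span R (Set.range f)) = I := hspan
      rw [h5] at h3
      exact_mod_cast h3.trans h4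
    have hdim : ringKrullDim (R ⧸ Ideal.span (Set.range f)) + (s.card : WithBot ℕ∞) =
        ringKrullDim R := by
      have hq : ringKrullDim (R ⧸ Ideal.span (Set.range f)) = ringKrullDim (R ⧸ I) :=
        ringKrullDim_eq_of_ringEquiv (Ideal.quotEquivOfEq hspan)
      rw [hq]
      refine le_antisymm ?_ h1
      rw [add_comm, hcard]
      exact h
    have hreg := isRegular_ofFn_of_dim f (fun i => hIm (hfI i)) hdim
    have hof : Ideal.ofList (List.ofFn f) = Ideal.span (Set.range f) := by
      rw [Ideal.ofList]
      congr 1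
      ext z
      rw [Set.mem_ofPred_eq, List.mem_ofFn', Set.mem_range]
    exact ⟨List.ofFn f, hof.trans hspan, hreg⟩

end S2167

section S12082

theorem isRegular_of_gen_mod {P : Type u} [CommRing P] [IsRegularRing P] (I : Ideal P)
    (q : Ideal (P ⧸ I)) [q.IsPrime] (q' : Ideal P) [q'.IsPrime]
    (hq' : q' = q.comap (algebraMap P (P ⧸ I))) (c : ℕ)
    (hc : (c : ℕ∞) + q.height = q'.height)
    (f : Fin c → Localization.AtPrime q')
    (hf : ∀ i, f i ∈ I.map (algebraMap P (Localization.AtPrime q')))
    (hgen : Ideal.span (Set.range f) ⊔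
        IsLocalRing.maximalIdeal (Localization.AtPrime q') *
          I.map (algebraMap P (Localization.AtPrime q')) =
      I.map (algebraMap P (Localization.AtPrime q'))) :
    RingTheory.Sequence.IsRegular (Localization.AtPrime q') (List.ofFn f) := by
  haveI : IsRegularLocalRing (Localization.AtPrime q') := inferInstance
  have hIq' : I ≤ q' := by
    intro x hx
    rw [hq', Ideal.mem_comap, Ideal.Quotient.algebraMap_eq, Ideal.Quotient.eq_zero_iff_mem.2 hx]
    exact Ideal.zero_mem _
  have hJm : I.map (algebraMap P (Localization.AtPrime q')) ≤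
      maximalIdeal (Localization.AtPrime q') := by
    rw [Ideal.map_le_iff_le_comap]
    have := IsLocalization.AtPrime.under_maximalIdeal (Localization.AtPrime q') q'
    rw [Ideal.under] at this
    rw [this]
    exact hIq'
  have hJ : Ideal.span (Set.range f) = I.map (algebraMap P (Localization.AtPrime q')) := by
    refine le_antisymm (Ideal.span_le.2 ?_) ?_
    · rintro _ ⟨i, rfl⟩
      exact hf i
    · have hjac : maximalIdeal (Localization.AtPrime q') ≤
          Ideal.jacobson (⊥ : Ideal (Localization.AtPrime q')) := by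
        rw [IsLocalRing.jacobson_eq_maximalIdeal ⊥ bot_ne_top]
      refine Submodule.le_of_le_smul_of_le_jacobson_bot (IsNoetherian.noetherian _) hjac ?_
      rw [smul_eq_mul]
      exact hgen.ge
  have hsurj : Surjective (algebraMap P (P ⧸ I)) := Ideal.Quotient.mk_surjective
  obtain ⟨e⟩ := CotTSmooth.exists_ringEquiv' (R := P) (B := P ⧸ I) hsurj q' q hq'
  have hker : RingHom.ker (algebraMap P (P ⧸ I)) = I := by
    rw [Ideal.Quotient.algebraMap_eq, Ideal.mk_ker]
  rw [hker] at e
  have hd1 : ringKrullDim (Localization.AtPrime q') = (q'.height : WithBot ℕ∞) :=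
    IsLocalization.AtPrime.ringKrullDim_eq_height q' _
  have hd2 : ringKrullDim (Localization.AtPrime q' ⧸
      I.map (algebraMap P (Localization.AtPrime q'))) = (q.height : WithBot ℕ∞) := by
    rw [ringKrullDim_eq_of_ringEquiv e]
    exact IsLocalization.AtPrime.ringKrullDim_eq_height q (Localization.AtPrime q)
  have hd3 : ringKrullDim (Localization.AtPrime q' ⧸ Ideal.span (Set.range f)) =
      (q.height : WithBot ℕ∞) := by
    rw [← hd2]
    exact ringKrullDim_eq_of_ringEquiv (Ideal.quotEquivOfEq hJ)
  have hdim : ringKrullDim (Localization.AtPrime q' ⧸ Ideal.span (Set.range f)) + c =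
      ringKrullDim (Localization.AtPrime q') := by
    rw [hd1, hd3, ← hc, add_comm]
    rfl
  exact isRegular_ofFn_of_dim f (fun i => hJm (hf i)) hdim

theorem s12082 (k : Type u) [Field k] (n : ℕ)
    (I : Ideal (MvPolynomial (Fin n) k)) (q : Ideal (MvPolynomial (Fin n) k ⧸ I)) [q.IsPrime] (c : ℕ)
    (hc : (c : ℕ∞) + q.height = (q.comap (Ideal.Quotient.mk I)).height)
    (f : Fin c → Localization.AtPrime (q.comap (Ideal.Quotient.mk I)))
    (hf : ∀ i, f i ∈ I.map (algebraMap _ (Localization.AtPrime (q.comap (Ideal.Quotient.mk I)))))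
    (hgen : Ideal.span (Set.range f) ⊔
        IsLocalRing.maximalIdeal (Localization.AtPrime (q.comap (Ideal.Quotient.mk I))) *
          I.map (algebraMap _ (Localization.AtPrime (q.comap (Ideal.Quotient.mk I)))) =
      I.map (algebraMap _ (Localization.AtPrime (q.comap (Ideal.Quotient.mk I))))) :
    RingTheory.Sequence.IsRegular (Localization.AtPrime (q.comap (Ideal.Quotient.mk I)))
      (List.ofFn f) := by
  haveI : IsRegularRing k := inferInstance
  haveI : IsRegularRing (MvPolynomial (Fin n) k) := inferInstance
  exact isRegular_of_gen_mod I q (q.comap (Ideal.Quotient.mk I)) rfl c hc f hf hgen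

end S12082

end Groth.Agent.Helper2.CIConormal
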