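import Mathlib

set_option autoImplicit false
set_option linter.style.haveILetI false
set_option linter.unusedSectionVars false
set_option linter.unusedVariables false

open CategoryTheory CategoryTheory.Limits AlgebraicGeometry TopologicalSpace

universe u

namespace Groth.Agent.Helper2.CompBC

lemma IsPullback.exists_preimage {P X Y S : Scheme.{u}} {a : P ⟶ X} {b : P ⟶ Y} {c : X ⟶ S}
    {d : Y ⟶ S} (H : IsPullback a b c d) (x : X) (y : Y) (h : c x = d y) :
    ∃ z : P, a z = x ∧ b z = y := by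
  obtain ⟨z', h1, h2⟩ := Scheme.Pullback.exists_preimage_pullback (f := c) (g := d) x y h
  refine ⟨H.isoPullback.inv z', ?_, ?_⟩
  · rw [← Scheme.Hom.comp_apply, H.isoPullback_inv_fst, h1]
  · rw [← Scheme.Hom.comp_apply, H.isoPullback_inv_snd, h2]

/-- the image of the generic point under a dominant morphism of integral schemes -/
lemma map_genericPoint {Y Y₀ : Scheme.{u}} [IsIntegral Y₀] [IsIntegral Y]
    (g : Y ⟶ Y₀) [IsDominant g] : g (genericPoint Y) = genericPoint Y₀ := by
  have h1 : IsGenericPoint (g (genericPoint Y)) (closure (g '' Set.univ)) :=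
    (genericPoint_spec Y).image g.continuous
  rw [Set.image_univ, g.denseRange.closure_range] at h1
  exact h1.eq (genericPoint_spec Y₀)

/-- the generic fibre, if irreducible, is contained in every irreducible component meeting it -/
lemma fibre_subset_component {X₀ Y₀ : Scheme.{u}} [IsIntegral Y₀] (f₀ : X₀ ⟶ Y₀)
    (hirr : IsIrreducible (f₀ ⁻¹' {genericPoint Y₀}))
    (C : Set X₀) (hC : C ∈ irreducibleComponents (X₀ : Type u))
    (hCη : (C ∩ f₀ ⁻¹' {genericPoint Y₀}).Nonempty) :
    f₀ ⁻¹' {genericPoint Y₀} ⊆ C := by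
  obtain ⟨c, hcC, hcF⟩ := hCη
  have hCirr : IsIrreducible C := hC.1
  have hCcl : IsClosed C := isClosed_of_mem_irreducibleComponents C hC
  obtain ⟨ζ, hζ⟩ := QuasiSober.sober hCirr hCcl
  -- ζ specializes to c
  have hζc : ζ ⤳ c := hζ.specializes hcC
  have hfζ : f₀ ζ = genericPoint Y₀ := by
    have h1 : f₀ ζ ⤳ f₀ c := hζc.map f₀.continuous
    rw [show f₀ c = genericPoint Y₀ from hcF] at h1
    have h2 : genericPoint Y₀ ⤳ f₀ ζ := (genericPoint_spec Y₀).specializes (Set.mem_univ _)
    exact (h1.antisymm h2).eq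
  have hζF : ζ ∈ f₀ ⁻¹' {genericPoint Y₀} := hfζ
  have h3 : IsIrreducible (closure (f₀ ⁻¹' {genericPoint Y₀})) := hirr.closure
  have h4 : C ⊆ closure (f₀ ⁻¹' {genericPoint Y₀}) := by
    rw [← hζ.def]
    exact closure_mono (Set.singleton_subset_iff.2 hζF)
  have h5 : closure (f₀ ⁻¹' {genericPoint Y₀}) ⊆ C := hC.le_of_ge h3 h4
  exact subset_closure.trans h5

theorem main {X₀ Y₀ Y : Scheme.{u}} [IsIntegral Y₀] [IsIntegral Y]
    (g : Y ⟶ Y₀) [IsDominant g] (f₀ : X₀ ⟶ Y₀)
    (hirr : IsIrreducible (f₀ ⁻¹' {genericPoint Y₀}))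
    (C : TopologicalSpace.Closeds X₀) (hC : (C : Set X₀) ∈ irreducibleComponents (X₀ : Type u))
    (hCη : ((C : Set X₀) ∩ f₀ ⁻¹' {genericPoint Y₀}).Nonempty) [IsIntegral (pullback f₀ g)]
    (e₁ : ((Scheme.IdealSheafData.vanishingIdeal C).subschemeι ≫ f₀) ≫ 𝟙 Y₀ =
      (Scheme.IdealSheafData.vanishingIdeal C).subschemeι ≫ f₀) (e₂ : g ≫ 𝟙 Y₀ = 𝟙 Y ≫ g) :
    IsIso (pullback.map ((Scheme.IdealSheafData.vanishingIdeal C).subschemeι ≫ f₀) g f₀ g
      (Scheme.IdealSheafData.vanishingIdeal C).subschemeι (𝟙 Y) (𝟙 Y₀) e₁ e₂) := by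
  set ι := (Scheme.IdealSheafData.vanishingIdeal C).subschemeι with hι
  set m := pullback.map (ι ≫ f₀) g f₀ g ι (𝟙 Y) (𝟙 Y₀) e₁ e₂ with hm
  have hrange : Set.range ι = (C : Set X₀) := by
    rw [hι, Scheme.IdealSheafData.range_subschemeι, Scheme.IdealSheafData.coe_support_vanishingIdeal]
  have hcl : IsClosedImmersion m :=
    MorphismProperty.pullbackMap (P := @IsClosedImmersion) (f := ι ≫ f₀) (g := g) (f' := f₀)
      (g' := g) (i₁ := ι) (i₂ := 𝟙 Y) inferInstance inferInstance rfl (Category.id_comp g).symm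
  -- the pullback square
  have hpb : IsPullback m (pullback.fst (ι ≫ f₀) g) (pullback.fst f₀ g) ι := by
    have hbig : IsPullback (m ≫ pullback.snd f₀ g) (pullback.fst (ι ≫ f₀) g) g (ι ≫ f₀) := by
      have h0 := (IsPullback.of_hasPullback (ι ≫ f₀) g).flip
      have : m ≫ pullback.snd f₀ g = pullback.snd (ι ≫ f₀) g := by
        rw [hm, pullback.lift_snd, Category.comp_id]
      rw [this]
      exact h0
    exact IsPullback.of_right hbig (by rw [hm, pullback.lift_fst])
      (IsPullback.of_hasPullback f₀ g).flip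
  -- generic point of X
  let X := pullback f₀ g
  let ξ : X := genericPoint X
  obtain ⟨x₀, hx₀⟩ := hirr.nonempty
  have hgη : g (genericPoint Y) = genericPoint Y₀ := map_genericPoint g
  obtain ⟨z, hz1, hz2⟩ := Scheme.Pullback.exists_preimage_pullback (f := f₀) (g := g) x₀
    (genericPoint Y) (by rw [hgη]; exact hx₀)
  have hsnd : pullback.snd f₀ g ξ = genericPoint Y := by
    have h1 : ξ ⤳ z := (genericPoint_spec X).specializes (Set.mem_univ _)
    have h2 : pullback.snd f₀ g ξ ⤳ pullback.snd f₀ g z :=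
      h1.map (pullback.snd f₀ g).continuous
    rw [hz2] at h2
    exact (h2.antisymm ((genericPoint_spec Y).specializes (Set.mem_univ _))).eq
  have hfst : f₀ (pullback.fst f₀ g ξ) = genericPoint Y₀ := by
    rw [← Scheme.Hom.comp_apply, pullback.condition, Scheme.Hom.comp_apply, hsnd, hgη]
  have hfstC : pullback.fst f₀ g ξ ∈ (C : Set X₀) :=
    fibre_subset_component f₀ hirr C hC hCη hfst
  rw [← hrange] at hfstC
  obtain ⟨c, hc⟩ := hfstC
  obtain ⟨w, hw1, hw2⟩ := IsPullback.exists_preimage hpb ξ c hc.symm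
  have hdom : IsDominant m := by
    constructor
    rw [DenseRange, dense_iff_closure_eq, ← (genericPoint_spec X).def]
    apply le_antisymm
    · rw [(genericPoint_spec X).def]; exact Set.subset_univ _
    · apply closure_minimal _ isClosed_closure
      rw [Set.singleton_subset_iff]
      exact subset_closure ⟨w, hw1⟩
  have hsurj : Surjective m :=
    surjective_of_isDominant_of_isClosed_range m m.isClosedEmbedding.isClosed_range
  exact isIso_of_isClosedImmersion_of_surjective m

end Groth.Agent.Helper2.CompBC
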