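import Mathlib
import Groth.Agent.Lead.ThickBC
import Groth.Agent.Lead.ThickBC2
import Groth.Agent.Helper2.CompBC

set_option autoImplicit false
set_option linter.style.haveILetI false
set_option linter.unusedSectionVars false
set_option linter.unusedVariables false

open CategoryTheory CategoryTheory.Limits AlgebraicGeometry TopologicalSpace

universe u

namespace Groth.Agent.Helper2.CINbhd


/-- subsingleton fibre ⇒ quasi-finite at the point -/
lemma quasiFiniteAt_of_subsingleton_fibre {X Y : Scheme.{u}} (f : X ⟶ Y) [LocallyOfFiniteType f]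
    (x : X) (h : ∀ x' : X, f x' = f x → x' = x) : f.QuasiFiniteAt x := by
  rw [Scheme.Hom.quasiFiniteAt_iff_isOpen_singleton_asFiber]
  have : Subsingleton (f.fiber (f x)) := by
    constructor
    intro a b
    apply (f.fiberι (f x)).isEmbedding.injective
    have ha : f.fiberι (f x) a ∈ f ⁻¹' {f x} := by
      rw [← Scheme.Hom.range_fiberι]; exact ⟨a, rfl⟩
    have hb : f.fiberι (f x) b ∈ f ⁻¹' {f x} := by
      rw [← Scheme.Hom.range_fiberι]; exact ⟨b, rfl⟩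
    rw [h _ ha, h _ hb]
  exact isOpen_discrete _

lemma exists_open_quasiFinite {X Y : Scheme.{u}} (f : X ⟶ Y) [IsProper f] (T : Set Y)
    (hT : ∀ x x' : X, f x ∈ T → f x' = f x → x' = x) :
    ∃ V : Y.Opens, T ⊆ V ∧ ∀ x : X, f x ∈ V → f.QuasiFiniteAt x := by
  refine ⟨⟨(f '' (f.quasiFiniteLocus : Set X)ᶜ)ᶜ,
    (f.isClosedMap _ f.quasiFiniteLocus.isOpen.isClosed_compl).isOpen_compl⟩, ?_, ?_⟩
  · rintro y hy ⟨x, hx, hxy⟩
    apply hx
    exact quasiFiniteAt_of_subsingleton_fibre f x (fun x' h' => hT x x' (hxy ▸ hy) h')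
  · intro x hx
    by_contra hcon
    exact hx ⟨x, hcon, rfl⟩

lemma isFinite_restrict {X Y : Scheme.{u}} (f : X ⟶ Y) [IsProper f] (V₁ : Y.Opens)
    (h : ∀ x, f x ∈ V₁ → f.QuasiFiniteAt x) : IsFinite (f ∣_ V₁) := by
  haveI : IsProper (f ∣_ V₁) := IsZariskiLocalAtTarget.restrict ‹_› V₁
  haveI : LocallyQuasiFinite (f ∣_ V₁) := by
    rw [← Scheme.Hom.quasiFiniteLocus_eq_top_iff, eq_top_iff]
    intro x _
    show (f ∣_ V₁).QuasiFiniteAt x
    rw [← Scheme.Hom.quasiFiniteAt_comp_iff (g := V₁.ι), morphismRestrict_ι,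
      Scheme.Hom.quasiFiniteAt_comp_iff_of_isOpenImmersion]
    exact h _ x.2
  exact IsFinite.of_isProper_of_locallyQuasiFinite _



lemma finite_app_congr {X Y : Scheme.{u}} (f : X ⟶ Y) {U U' : Y.Opens} (e : U' = U)
    {W : X.Opens} (e' : W = f ⁻¹ᵁ U')
    (h : (f.app U' ≫ X.presheaf.map (eqToHom e').op).hom.Finite) : (f.app U).hom.Finite := by
  subst e
  subst e'
  simpa using h

lemma affine_finite_of_isFinite_restrict {X Y : Scheme.{u}} (f : X ⟶ Y) (V₁ : Y.Opens)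
    (hV₁ : IsAffineOpen V₁) [IsFinite (f ∣_ V₁)] :
    IsAffineOpen (f ⁻¹ᵁ V₁) ∧ (f.app V₁).hom.Finite := by
  haveI : IsAffine (V₁ : Scheme.{u}) := hV₁
  refine ⟨isAffine_of_isAffineHom (f ∣_ V₁), ?_⟩
  have h1 := (f ∣_ V₁).finite_appTop
  rw [morphismRestrict_appTop] at h1
  exact finite_app_congr f (Scheme.Opens.ι_image_top V₁) _ h1



/-- Nakayama: if `C` is a finite `B`-algebra with `C = φ(B) + K C` then there is `a ≡ 1 mod K` with
`φ(a) C ⊆ φ(B)` -/
lemma exists_mul_mem_range {B C : Type*} [CommRing B] [CommRing C] (φ : B →+* C) (hφ : φ.Finite)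
    (K : Ideal B) (h : ∀ c : C, ∃ b : B, c - φ b ∈ K.map φ) :
    ∃ a : B, a - 1 ∈ K ∧ ∀ c : C, ∃ b : B, φ a * c = φ b := by
  algebraize [φ]
  let N : Submodule B C := LinearMap.range (Algebra.linearMap B C)
  have hle : (⊤ : Submodule B (C ⧸ N)) ≤ K • ⊤ := by
    intro q _
    obtain ⟨c, rfl⟩ := N.mkQ_surjective q
    obtain ⟨b, hb⟩ := h c
    have h1 : c - φ b ∈ K • (⊤ : Submodule B C) := by
      rw [Ideal.smul_top_eq_map]
      exact hb
    have h2 : N.mkQ (c - φ b) ∈ (K • (⊤ : Submodule B C)).map N.mkQ := Submodule.mem_map_of_mem h1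
    rw [Submodule.map_smul''] at h2
    have h3 : N.mkQ (c - φ b) = N.mkQ c := by
      rw [map_sub]
      have : N.mkQ (φ b) = 0 := by
        rw [Submodule.mkQ_apply, Submodule.Quotient.mk_eq_zero]
        exact ⟨b, rfl⟩
      rw [this, sub_zero]
    rw [h3] at h2
    exact Submodule.smul_mono le_rfl le_top h2
  obtain ⟨r, hr1, hr2⟩ := Submodule.exists_sub_one_mem_and_smul_eq_zero_of_fg_of_le_smul K
    (⊤ : Submodule B (C ⧸ N)) Module.Finite.fg_top hle
  refine ⟨r, hr1, fun c => ?_⟩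
  have h1 := hr2 (N.mkQ c) Submodule.mem_top
  rw [← map_smul, Submodule.mkQ_apply, Submodule.Quotient.mk_eq_zero] at h1
  obtain ⟨b, hb⟩ := h1
  refine ⟨b, ?_⟩
  have h2 : r • c = φ r * c := Algebra.smul_def r c
  rw [← h2, ← hb]
  rfl

/-- surjectivity of the localized map -/
lemma away_map_surjective {B C Ba Ca : Type*} [CommRing B] [CommRing C] [CommRing Ba] [CommRing Ca]
    [Algebra B Ba] [Algebra C Ca] (φ : B →+* C) (a : B) [IsLocalization.Away a Ba]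
    [IsLocalization.Away (φ a) Ca] (h : ∀ c : C, ∃ b : B, φ a * c = φ b) :
    Function.Surjective (IsLocalization.Away.map Ba Ca φ a) := by
  intro s
  obtain ⟨⟨c, ⟨_, n, rfl⟩⟩, rfl⟩ := IsLocalization.mk'_surjective (Submonoid.powers (φ a)) s
  obtain ⟨b, hb⟩ := h c
  refine ⟨IsLocalization.mk' Ba b (⟨a ^ (n + 1), n + 1, rfl⟩ : Submonoid.powers a), ?_⟩
  rw [IsLocalization.Away.map, IsLocalization.map_mk', IsLocalization.mk'_eq_iff_eq]
  congr 1
  simp only [map_pow]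
  rw [← hb]
  ring


lemma surjective_app_congr {X Y : Scheme.{u}} (f : X ⟶ Y) {U U' : Y.Opens} (e : U' = U)
    {W : X.Opens} (e' : W = f ⁻¹ᵁ U') (h : Function.Surjective (f.app U)) :
    Function.Surjective (f.app U' ≫ X.presheaf.map (eqToHom e').op) := by
  subst e
  subst e'
  simpa using h

open Groth.Agent.Lead.ThickBC Groth.Agent.Helper2.CompBC in
theorem exists_nbhd_isClosedImmersion {X₀ X Y₀ Y : Scheme.{u}} {iX : X₀ ⟶ X} {i : Y₀ ⟶ Y}
    {f₀ : X₀ ⟶ Y₀} {f : X ⟶ Y} (hc : IsPullback iX f₀ f i) [IsClosedImmersion i] [IsProper f]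
    [IsClosedImmersion f₀] (y₀ : Y₀) :
    ∃ D : Y.Opens, i y₀ ∈ D ∧ IsClosedImmersion (f ∣_ D) := by
  have hT : ∀ x x' : X, f x ∈ Set.range i → f x' = f x → x' = x := by
    rintro x x' ⟨t, ht⟩ hxx'
    obtain ⟨z, hz1, hz2⟩ := IsPullback.exists_preimage hc x t ht.symm
    obtain ⟨z', hz1', hz2'⟩ := IsPullback.exists_preimage hc x' t (by rw [hxx', ht])
    have : z = z' := f₀.isEmbedding.injective (hz2.trans hz2'.symm)
    rw [← hz1, ← hz1', this]
  obtain ⟨V, hTV, hV⟩ := exists_open_quasiFinite f (Set.range i) hT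
  obtain ⟨_, ⟨V₁, hV₁, rfl⟩, hyV₁, hV₁V⟩ :=
    Y.isBasis_affineOpens.exists_subset_of_mem_open (hTV ⟨y₀, rfl⟩) V.isOpen
  obtain ⟨V₁', hV₁'⟩ : ∃ V₁' : Y.Opens, V₁' = V₁ := ⟨V₁, rfl⟩
  subst hV₁'
  haveI : IsFinite (f ∣_ V₁') := isFinite_restrict f V₁' (fun x hx => hV x (hV₁V hx))
  obtain ⟨hU', hfin⟩ := affine_finite_of_isFinite_restrict f V₁' hV₁
  let V' : Y.affineOpens := ⟨V₁', hV₁⟩
  let U' : X.affineOpens := ⟨f ⁻¹ᵁ V₁', hU'⟩
  obtain ⟨hcomm, hs1, hs2, hker⟩ := square_facts hc V' U' le_rfl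
  have hle : iX ⁻¹ᵁ U'.1 ≤ f₀ ⁻¹ᵁ (i ⁻¹ᵁ V₁') := preimage_le hc V₁' U'.1 le_rfl
  have hge : f₀ ⁻¹ᵁ (i ⁻¹ᵁ V₁') ≤ iX ⁻¹ᵁ U'.1 := by
    show f₀ ⁻¹ᵁ (i ⁻¹ᵁ V₁') ≤ iX ⁻¹ᵁ (f ⁻¹ᵁ V₁')
    rw [← Scheme.Hom.comp_preimage, ← Scheme.Hom.comp_preimage, hc.w]
  have hφ₀ : Function.Surjective (f₀.appLE (i ⁻¹ᵁ V₁') (iX ⁻¹ᵁ U'.1) hle).hom := by
    have h1 : Function.Surjective (f₀.app (i ⁻¹ᵁ V₁')) := f₀.app_surjective _ (hV₁.preimage i)
    have h2 : Function.Surjective (X₀.presheaf.map (homOfLE hle).op) := by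
      intro t
      refine ⟨X₀.presheaf.map (homOfLE hge).op t, ?_⟩
      rw [← CommRingCat.comp_apply, ← Functor.map_comp]
      have : (homOfLE hge).op ≫ (homOfLE hle).op = 𝟙 _ := rfl
      rw [this, X₀.presheaf.map_id]
      rfl
    unfold Scheme.Hom.appLE
    rw [CommRingCat.hom_comp]
    exact h2.comp h1
  rw [Scheme.Hom.appLE_eq_app] at hcomm hker
  have hmod : ∀ c : Γ(X, f ⁻¹ᵁ V₁'), ∃ b : Γ(Y, V₁'),
      c - (f.app V₁').hom b ∈ (RingHom.ker (i.app V₁').hom).map (f.app V₁').hom := by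
    intro c
    obtain ⟨t, ht⟩ := hφ₀ ((iX.app U'.1).hom c)
    obtain ⟨b, rfl⟩ := hs1 t
    refine ⟨b, ?_⟩
    rw [← hker, RingHom.mem_ker, map_sub, sub_eq_zero, ← ht]
    have := congrArg (fun g => g b) hcomm
    simp only [RingHom.comp_apply] at this
    exact this
  obtain ⟨a, ha1, ha2⟩ := exists_mul_mem_range (f.app V₁').hom hfin _ hmod
  have hDaff : IsAffineOpen (Y.basicOpen a) := hV₁.basicOpen a
  have hpre : f ⁻¹ᵁ (Y.basicOpen a) = X.basicOpen ((f.app V₁').hom a) := Scheme.preimage_basicOpen f a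
  have hWaff : IsAffineOpen (f ⁻¹ᵁ (Y.basicOpen a)) := hpre ▸ hU'.basicOpen _
  refine ⟨Y.basicOpen a, ?_, ?_⟩
  · show y₀ ∈ i ⁻¹ᵁ Y.basicOpen a
    have h1 : (i.app V₁').hom a = 1 := by
      have : (i.app V₁').hom (a - 1) = 0 := ha1
      rw [map_sub, map_one, sub_eq_zero] at this
      exact this
    rw [Scheme.preimage_basicOpen]
    have h2 : Y₀.basicOpen ((i.app V₁').hom a) = i ⁻¹ᵁ V₁' := by
      rw [h1]; exact Scheme.basicOpen_of_isUnit _ isUnit_one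
    rw [h2]
    exact hyV₁
  · haveI : IsAffine ((Y.basicOpen a : Y.Opens) : Scheme.{u}) := hDaff
    haveI : IsAffine ((f ⁻¹ᵁ (Y.basicOpen a) : X.Opens) : Scheme.{u}) := hWaff
    apply IsClosedImmersion.of_surjective_of_isAffine
    rw [morphismRestrict_appTop]
    refine surjective_app_congr f (Scheme.Opens.ι_image_top _) _ ?_
    have key := hV₁.app_basicOpen_eq_away_map f hU' a
    letI := hV₁.isLocalization_basicOpen a
    letI := hU'.isLocalization_basicOpen ((f.app V₁').hom a)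
    have hsurj := away_map_surjective (Ba := Γ(Y, Y.basicOpen a))
      (Ca := Γ(X, X.basicOpen ((f.app V₁').hom a))) (f.app V₁').hom a ha2
    rw [key]
    show Function.Surjective ((X.presheaf.map (eqToHom _).op).hom ∘ _)
    refine Function.Surjective.comp ?_ hsurj
    exact (ConcreteCategory.bijective_of_isIso (X.presheaf.map (eqToHom _).op)).surjective

end Groth.Agent.Helper2.CINbhd
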