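import Mathlib
import Groth.Agent.Helper8.CKae
import Groth.Agent.Helper8.ChevMod
set_option autoImplicit false
universe u
open TensorProduct IsLocalRing

namespace Groth.Agent.Helper2.CKaeExact

/-- Abstract exactness of completion in the middle when the completed middle term is finite. -/
theorem exact_middle {S : Type u} [CommRing S] [IsNoetherianRing S] [IsLocalRing S]
    {M' M M'' : Type u} [AddCommGroup M'] [Module S M'] [AddCommGroup M] [Module S M]
    [AddCommGroup M''] [Module S M'']
    (u : M' →ₗ[S] M) (v : M →ₗ[S] M'') (hex : Function.Exact u v) (hv : Function.Surjective v)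
    [Module.Finite S (AdicCompletion (maximalIdeal S) M)] :
    LinearMap.range (AdicCompletion.map (maximalIdeal S) u) =
      LinearMap.ker (AdicCompletion.map (maximalIdeal S) v) := by
  set I := maximalIdeal S with hI
  have hfg : I.FG := IsNoetherian.noetherian I
  apply le_antisymm
  · rintro _ ⟨y, rfl⟩
    rw [LinearMap.mem_ker, AdicCompletion.map_comp_apply]
    have : v.comp u = 0 := by
      ext z; exact hex.apply_apply_eq_zero z
    rw [this, AdicCompletion.map_zero]; rfl
  · intro x hx
    rw [LinearMap.mem_ker] at hx
    let N : Submodule S (AdicCompletion I M) :=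
      (LinearMap.range (AdicCompletion.map I u)).restrictScalars S
    suffices h : x ∈ N from h
    apply Groth.Agent.Helper8.ChevMod.closed_aux S (AdicCompletion I M) N x
    intro n
    obtain ⟨m, hm⟩ := Submodule.mkQ_surjective _ (AdicCompletion.eval I M n x)
    -- x - of m ∈ I^n • ⊤
    have h1 : x - AdicCompletion.of I M m ∈ (I ^ n • ⊤ : Submodule S (AdicCompletion I M)) := by
      rw [AdicCompletion.pow_smul_top_eq_ker_eval hfg, LinearMap.mem_ker, map_sub,
        AdicCompletion.eval_of, hm, sub_self]
    -- v m ∈ I^n • ⊤
    have h2 : v m ∈ (I ^ n • ⊤ : Submodule S M'') := by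
      have h3 : AdicCompletion.eval I M'' n (AdicCompletion.map I v x) = 0 := by rw [hx, map_zero]
      have h4 : AdicCompletion.eval I M'' n (AdicCompletion.map I v (AdicCompletion.of I M m)) = 0 := by
        have h5 : AdicCompletion.map I v (x - AdicCompletion.of I M m) ∈
            (I ^ n • ⊤ : Submodule S (AdicCompletion I M'')) :=
          Groth.Agent.Helper8.AdicProj.map_mem_smul_top
            ((AdicCompletion.map I v).restrictScalars S) _ h1
        rw [AdicCompletion.pow_smul_top_eq_ker_eval hfg, LinearMap.mem_ker, map_sub, map_sub, h3,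
          zero_sub, neg_eq_zero] at h5
        exact h5
      rw [AdicCompletion.map_of, AdicCompletion.eval_of] at h4
      exact (Submodule.Quotient.mk_eq_zero _).mp h4
    have hmap : (I ^ n • ⊤ : Submodule S M'') = Submodule.map v (I ^ n • ⊤ : Submodule S M) := by
      rw [Submodule.map_smul'', Submodule.map_top, LinearMap.range_eq_top.mpr hv]
    rw [hmap] at h2
    obtain ⟨z, hz, hzv⟩ := h2
    have h6 : v (m - z) = 0 := by rw [map_sub, hzv, sub_self]
    obtain ⟨w, hw⟩ := (hex (m - z)).mp h6
    have hx' : x = AdicCompletion.map I u (AdicCompletion.of I M' w) +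
        (AdicCompletion.of I M z + (x - AdicCompletion.of I M m)) := by
      rw [AdicCompletion.map_of, hw, map_sub]; abel
    rw [hx']
    apply Submodule.add_mem_sup
    · exact ⟨_, rfl⟩
    · apply add_mem _ h1
      exact Groth.Agent.Helper8.AdicProj.map_mem_smul_top (AdicCompletion.of I M) _ hz

theorem s5991 (k R S : Type u) [Field k] [CommRing R] [IsNoetherianRing R]
    [IsLocalRing R] [Algebra k R] [IsAdicComplete (IsLocalRing.maximalIdeal R) R]
    [CommRing S] [IsNoetherianRing S] [IsLocalRing S] [Algebra k S]
    [IsAdicComplete (IsLocalRing.maximalIdeal S) S] [Algebra R S] [IsScalarTower k R S]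
    [Module.Finite R S] [Module.Finite (IsLocalRing.ResidueField S) (Ω[IsLocalRing.ResidueField S⁄k])] :
    IsAdicComplete (IsLocalRing.maximalIdeal S) (Ω[S⁄R]) ∧
      Function.Surjective (AdicCompletion.map (IsLocalRing.maximalIdeal S) (KaehlerDifferential.map k R S S)) ∧
      LinearMap.range (AdicCompletion.map (IsLocalRing.maximalIdeal S) (KaehlerDifferential.mapBaseChange k R S)) =
        LinearMap.ker (AdicCompletion.map (IsLocalRing.maximalIdeal S) (KaehlerDifferential.map k R S S)) := by
  refine ⟨?_, ?_, ?_⟩
  · haveI : Module.Finite S (Ω[S⁄R]) := inferInstance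
    haveI : IsPrecomplete (maximalIdeal S) (Ω[S⁄R]) :=
      Groth.Agent.Helper8.ChevMod.isPrecomplete_of_finite (maximalIdeal S) (Ω[S⁄R])
    exact { }
  · exact AdicCompletion.map_surjective _ (KaehlerDifferential.map_surjective k R S)
  · haveI h1 : Module.Finite (ResidueField S) (Ω[ResidueField S⁄k]) := inferInstance
    haveI h2 : Module.Finite (S ⧸ maximalIdeal S) (Ω[S ⧸ maximalIdeal S⁄k]) := h1
    haveI h3 : Module.Finite (S ⧸ maximalIdeal S) (maximalIdeal S).Cotangent := by
      have : Module.Finite (ResidueField S) (CotangentSpace S) := inferInstance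
      exact this
    haveI : Module.Finite S (AdicCompletion (maximalIdeal S) (Ω[S⁄k])) :=
      Groth.Agent.Helper8.CKae.main (A := k) (maximalIdeal S)
    exact exact_middle (KaehlerDifferential.mapBaseChange k R S) (KaehlerDifferential.map k R S S)
      (KaehlerDifferential.exact_mapBaseChange_map k R S) (KaehlerDifferential.map_surjective k R S)

end Groth.Agent.Helper2.CKaeExact
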