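import Mathlib
import Groth.Prelude

set_option autoImplicit false
set_option linter.style.haveILetI false
set_option linter.unusedSectionVars false
set_option linter.unusedVariables false

namespace Groth.Agent.Helper2.CNS

universe u

open Polynomial

/-- In a normal ring, if `a` satisfies the `b`-scaled version of a monic polynomial then
`a ∈ (b)`. -/
theorem mem_span_of_scaleRoots {T : Type u} [CommRing T] (hT : EGA4.IsNormalRing T) (a b : T)
    (p : T[X]) (hp : p.Monic) (h : (p.scaleRoots b).eval a = 0) : a ∈ Ideal.span {b} := by
  refine Ideal.mem_of_localization_maximal (fun P hP => ?_)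
  haveI := hP.isPrime
  obtain ⟨hD, hIC⟩ := hT P
  set D := Localization.AtPrime P with hDdef
  let f : T →+* D := algebraMap T D
  let K := FractionRing D
  let g : D →+* K := algebraMap D K
  have hginj : Function.Injective g := IsFractionRing.injective D K
  have hmap : ((p.map f).scaleRoots (f b)).eval (f a) = 0 := by
    have h1 : (p.scaleRoots b).map f = (p.map f).scaleRoots (f b) :=
      map_scaleRoots p b f (by rw [hp.leadingCoeff, map_one]; exact one_ne_zero)
    rw [← h1, Polynomial.eval_map, Polynomial.eval₂_hom, h, map_zero]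
  rw [Ideal.map_span, Set.image_singleton, Ideal.mem_span_singleton']
  have hmonic : (p.map f).Monic := hp.map f
  by_cases hb : f b = 0
  · rw [hb, scaleRoots_zero, hmonic.leadingCoeff, one_smul, eval_pow, eval_X] at hmap
    have ha : f a = 0 := IsNilpotent.eq_zero ⟨_, hmap⟩
    exact ⟨0, by rw [zero_mul, ha]⟩
  · have hgb : g (f b) ≠ 0 := fun h0 => hb (hginj (h0.trans (map_zero g).symm))
    let x : K := g (f a) / g (f b)
    have hx : g (f b) * x = g (f a) := mul_div_cancel₀ _ hgb
    have h2 := scaleRoots_eval₂_mul (p := p.map f) g x (f b)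
    rw [hx, Polynomial.eval₂_hom, hmap, map_zero] at h2
    have h3 : eval₂ g x (p.map f) = 0 := by
      rcases mul_eq_zero.1 h2.symm with h4 | h4
      · exact absurd h4 (pow_ne_zero _ hgb)
      · exact h4
    have hint : IsIntegral D x := ⟨p.map f, hmonic, h3⟩
    obtain ⟨y, hy⟩ := IsIntegrallyClosed.algebraMap_eq_of_integral hint
    refine ⟨y, ?_⟩
    apply hginj
    rw [map_mul]
    change algebraMap D K y * g (f b) = g (f a)
    rw [hy, ← hx]
    ring

end Groth.Agent.Helper2.CNS
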