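import Mathlib
import Groth.Prelude
import Groth.Agent.S2069

set_option autoImplicit false
set_option linter.style.haveILetI false
set_option linter.unusedSectionVars false
set_option linter.unusedVariables false

namespace Groth.Agent.Helper2.CNS

universe u

open TensorProduct

/-- In a reduced Noetherian ring, associated primes of the ring are minimal primes. -/
theorem associatedPrimes_subset_minimalPrimes (B : Type u) [CommRing B] [IsNoetherianRing B]
    [IsReduced B] : associatedPrimes B B ⊆ minimalPrimes B := by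
  intro p hp
  rw [AssociatedPrimes.mem_iff, isAssociatedPrime_iff] at hp
  obtain ⟨hprime, β, hβ⟩ := hp
  have hmem : ∀ x : B, x ∈ p ↔ x * β = 0 := by
    intro x
    rw [hβ, Submodule.mem_colon_singleton, Submodule.mem_bot, smul_eq_mul]
  have hβ0 : β ≠ 0 := by
    intro h0
    apply hprime.ne_top
    rw [Ideal.eq_top_iff_one, hmem, h0, mul_zero]
  -- β is not in some minimal prime
  have h1 : ∃ p₀ ∈ minimalPrimes B, β ∉ p₀ := by
    by_contra hcon
    push_neg at hcon
    apply hβ0
    have h2 : β ∈ sInf (minimalPrimes B) := by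
      rw [Ideal.mem_sInf]
      intro q hq
      exact hcon q hq
    rw [minimalPrimes, Ideal.sInf_minimalPrimes] at h2
    rw [Ideal.radical_bot_of_isReduced] at h2
    exact h2
  obtain ⟨p₀, hp₀, hβp₀⟩ := h1
  have hle : p ≤ p₀ := by
    intro x hx
    have h2 : x * β ∈ p₀ := by rw [(hmem x).1 hx]; exact p₀.zero_mem
    exact (hp₀.1.1.mem_or_mem h2).resolve_right hβp₀
  have hge : p₀ ≤ p := hp₀.2 ⟨hprime, bot_le⟩ hle
  rw [le_antisymm hle hge]
  exact hp₀

variable {B R M : Type u} [CommRing B] [IsNoetherianRing B] [IsReduced B] [CommRing R]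
  [IsNoetherianRing R] [Algebra B R] [Module.Flat B R] [AddCommGroup M] [Module B M]

/-- An associated prime of a torsion-free module over a reduced Noetherian ring is an associated
prime of the ring. -/
theorem mem_associatedPrimes_self_of_torsionFree
    (htf : ∀ w ∈ nonZeroDivisors B, ∀ m : M, w • m = 0 → m = 0) (p : Ideal B)
    (hp : p ∈ associatedPrimes B M) : p ∈ associatedPrimes B B := by
  have hp' := hp
  rw [AssociatedPrimes.mem_iff, isAssociatedPrime_iff] at hp
  obtain ⟨hprime, m, hm⟩ := hp
  have hmem : ∀ x : B, x ∈ p ↔ x • m = 0 := by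
    intro x
    rw [hm, Submodule.mem_colon_singleton, Submodule.mem_bot]
  have hm0 : m ≠ 0 := by
    intro h0
    apply hprime.ne_top
    rw [Ideal.eq_top_iff_one, hmem, h0, smul_zero]
  have hsub : (p : Set B) ⊆ ⋃ q ∈ associatedPrimes B B, (q : Set B) := by
    rw [biUnion_associatedPrimes_eq_compl_nonZeroDivisors]
    intro x hx hx'
    exact hm0 (htf x hx' m ((hmem x).1 hx))
  obtain ⟨q, hq, hpq⟩ :=
    (p.subset_union_prime_finite (associatedPrimes.finite B B) (f := id) 0 0
      fun _ h _ _ ↦ h.1).1 hsub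
  have hqmin := associatedPrimes_subset_minimalPrimes B hq
  have hge : q ≤ p := hqmin.2 ⟨hprime, bot_le⟩ hpq
  have : p = q := le_antisymm hpq hge
  rw [this]
  exact hq

/-- A nonzerodivisor of a flat Noetherian algebra over a reduced Noetherian ring acts injectively
on the base change of a torsion-free module. -/
theorem isSMulRegular_tensor
    (htf : ∀ w ∈ nonZeroDivisors B, ∀ m : M, w • m = 0 → m = 0) (b : R)
    (hb : b ∈ nonZeroDivisors R) : IsSMulRegular (R ⊗[B] M) b := by
  by_contra hcon
  have h1 : b ∈ ⋃ p ∈ associatedPrimes R (R ⊗[B] M), (p : Set R) := by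
    rw [biUnion_associatedPrimes_eq_compl_regular R (R ⊗[B] M)]
    exact hcon
  simp only [Set.mem_iUnion, SetLike.mem_coe, exists_prop] at h1
  obtain ⟨𝔮, h𝔮, hb𝔮⟩ := h1
  rw [Groth.Agent.S2069.result (R := B) (S := R) (M := M) (N := R)] at h𝔮
  simp only [Set.mem_iUnion, exists_prop] at h𝔮
  obtain ⟨p, hp, h𝔮p⟩ := h𝔮
  have hpB := mem_associatedPrimes_self_of_torsionFree htf p hp
  have h2 : 𝔮 ∈ associatedPrimes R (R ⊗[B] B) := by
    rw [Groth.Agent.S2069.result (R := B) (S := R) (M := B) (N := R)]
    simp only [Set.mem_iUnion, exists_prop]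
    exact ⟨p, hpB, h𝔮p⟩
  have h3 : 𝔮 ∈ associatedPrimes R R := by
    rw [← LinearEquiv.AssociatedPrimes.eq (TensorProduct.AlgebraTensorModule.rid B R R)]
    exact h2
  have h4 : b ∈ ⋃ q ∈ associatedPrimes R R, (q : Set R) := by
    simp only [Set.mem_iUnion, SetLike.mem_coe, exists_prop]
    exact ⟨𝔮, h3, hb𝔮⟩
  rw [biUnion_associatedPrimes_eq_compl_nonZeroDivisors] at h4
  exact h4 hb

end Groth.Agent.Helper2.CNS
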