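import Mathlib
import Groth.Prelude
import Groth.Agent.Helper2.CNS1
import Groth.Agent.Helper2.CNS2
import Groth.Agent.Helper2.AnUnr7

set_option autoImplicit false
set_option linter.style.haveILetI false
set_option linter.unusedSectionVars false
set_option linter.unusedVariables false

namespace Groth.Agent.Helper2.CNS

universe u

open TensorProduct Polynomial

section Key

variable {B C : Type u} [CommRing B] [IsNoetherianRing B] [CommRing C] [Algebra B C]
  [Module.Finite B C]

/-- The composite `B → C → C ⧸ torsion`. -/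
noncomputable def ι' (B C : Type u) [CommRing B] [CommRing C] [Algebra B C] :
    B →ₗ[B] (C ⧸ Submodule.torsion B C) :=
  (Submodule.torsion B C).mkQ ∘ₗ Algebra.linearMap B C

theorem ι'_apply (β : B) :
    ι' B C β = (Submodule.torsion B C).mkQ (algebraMap B C β) := rfl

theorem ι'_injective (hinj : Function.Injective (algebraMap B C)) :
    Function.Injective (ι' B C) := by
  rw [injective_iff_map_eq_zero]
  intro β hβ
  rw [ι'_apply, Submodule.mkQ_apply, Submodule.Quotient.mk_eq_zero, Submodule.mem_torsion_iff] at hβ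
  obtain ⟨w, hw⟩ := hβ
  have h1 : algebraMap B C ((w : B) * β) = 0 := by
    rw [map_mul, ← Algebra.smul_def]
    exact hw
  have h2 : (w : B) * β = 0 := hinj (h1.trans (map_zero _).symm)
  exact (mul_left_mem_nonZeroDivisors_eq_zero_iff w.2).1 h2

/-- the cokernel of `B → C/torsion` is torsion-free when `B` is normal. -/
theorem torsionFree_coker (hinj : Function.Injective (algebraMap B C))
    (hB : EGA4.IsNormalRing B) (w : B) (hw : w ∈ nonZeroDivisors B)
    (n : (C ⧸ Submodule.torsion B C) ⧸ LinearMap.range (ι' B C)) (hn : w • n = 0) : n = 0 := by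
  obtain ⟨c', rfl⟩ := Submodule.mkQ_surjective _ n
  obtain ⟨c, rfl⟩ := Submodule.mkQ_surjective _ c'
  rw [← map_smul, Submodule.mkQ_apply, Submodule.Quotient.mk_eq_zero] at hn
  obtain ⟨β, hβ⟩ := hn
  rw [ι'_apply, ← map_smul, Submodule.mkQ_apply, Submodule.mkQ_apply, Submodule.Quotient.eq,
    Submodule.mem_torsion_iff] at hβ
  obtain ⟨w', hw'⟩ := hβ
  -- `(w' w) c = w' β` in `C`
  have h1 : algebraMap B C ((w' : B) * w) * c = algebraMap B C ((w' : B) * β) := by
    have : (w' : B) • (algebraMap B C β - w • c) = 0 := hw'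
    rw [smul_sub, sub_eq_zero, Algebra.smul_def, Algebra.smul_def, Algebra.smul_def] at this
    rw [map_mul, map_mul, mul_assoc]
    exact this.symm
  haveI : Algebra.IsIntegral B C := Algebra.IsIntegral.of_finite B C
  obtain ⟨p, hp, hpc⟩ := Algebra.IsIntegral.isIntegral (R := B) c
  have h2 := scaleRoots_eval₂_mul (p := p) (algebraMap B C) c ((w' : B) * w)
  rw [hpc, mul_zero, h1, Polynomial.eval₂_hom] at h2
  have h3 : (p.scaleRoots ((w' : B) * w)).eval ((w' : B) * β) = 0 :=
    hinj (h2.trans (map_zero _).symm)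
  have h4 := mem_span_of_scaleRoots hB _ _ p hp h3
  rw [Ideal.mem_span_singleton'] at h4
  obtain ⟨β', hβ'⟩ := h4
  have h5 : β = β' * w := by
    have : (w' : B) * (β' * w - β) = 0 := by
      rw [mul_sub, ← hβ']; ring
    have := (mul_left_mem_nonZeroDivisors_eq_zero_iff w'.2).1 this
    exact (sub_eq_zero.1 this).symm
  -- now `c - β'` is torsion
  have h6 : algebraMap B C β' - c ∈ Submodule.torsion B C := by
    rw [Submodule.mem_torsion_iff]
    refine ⟨⟨(w' : B) * w, mul_mem w'.2 hw⟩, ?_⟩
    change ((w' : B) * w) • (algebraMap B C β' - c) = 0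
    rw [smul_sub, sub_eq_zero, Algebra.smul_def, Algebra.smul_def, h1, ← map_mul, h5]
    congr 1
    ring
  rw [Submodule.mkQ_apply, Submodule.mkQ_apply, Submodule.Quotient.mk_eq_zero]
  refine ⟨β', ?_⟩
  rw [ι'_apply, Submodule.mkQ_apply, Submodule.Quotient.eq]
  exact h6

variable {R : Type u} [CommRing R] [IsNoetherianRing R] [Algebra B R] [Module.Flat B R]

/-- Key descent step: if `a ⊗ 1 ∈ b (R ⊗ C)` then `a ∈ b R`. -/
theorem key (hinj : Function.Injective (algebraMap B C)) (hB : EGA4.IsNormalRing B)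
    (a b : R) (hb : b ∈ nonZeroDivisors R) (s : R ⊗[B] C)
    (h : a ⊗ₜ[B] (1 : C) = b • s) : a ∈ Ideal.span {b} := by
  haveI : IsReduced B := AnUnr7.isReduced_of_isNormalRing B hB
  set T := Submodule.torsion B C with hT
  let q : C →ₗ[B] (C ⧸ T) := T.mkQ
  let Q : Submodule B (C ⧸ T) := LinearMap.range (ι' B C)
  let π : (C ⧸ T) →ₗ[B] ((C ⧸ T) ⧸ Q) := Q.mkQ
  have hq1 : q 1 = ι' B C 1 := by rw [ι'_apply, (algebraMap B C).map_one]
  have hexact : Function.Exact (ι' B C) π := LinearMap.exact_map_mkQ_range (ι' B C)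
  have hexactT : Function.Exact ((ι' B C).lTensor R) (π.lTensor R) :=
    lTensor_exact R hexact (Submodule.mkQ_surjective _)
  -- step 1: the image of `s` in `R ⊗ N'` vanishes
  have h1 : (π ∘ₗ q).baseChange R s = 0 := by
    have hreg := isSMulRegular_tensor (B := B) (R := R) (M := (C ⧸ T) ⧸ Q)
      (fun w hw n hn => torsionFree_coker hinj hB w hw n hn) b hb
    apply hreg
    change b • (π ∘ₗ q).baseChange R s = b • 0
    rw [smul_zero, ← map_smul, ← h, LinearMap.baseChange_tmul, LinearMap.comp_apply, hq1]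
    have : π (ι' B C 1) = 0 := hexact.apply_apply_eq_zero 1
    rw [this, tmul_zero]
  have h2 : π.lTensor R (q.lTensor R s) = 0 := by
    have : (π ∘ₗ q).baseChange R s = π.lTensor R (q.lTensor R s) := by
      change (π ∘ₗ q).lTensor R s = _
      rw [LinearMap.lTensor_comp]
      rfl
    rw [← this, h1]
  obtain ⟨t, ht⟩ := (hexactT (q.lTensor R s)).1 h2
  obtain ⟨r, rfl⟩ := (TensorProduct.rid B R).symm.surjective t
  rw [TensorProduct.rid_symm_apply, LinearMap.lTensor_tmul] at ht
  -- step 2: compare in `R ⊗ C/T`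
  have h3 : a ⊗ₜ[B] (ι' B C 1) = (b * r) ⊗ₜ[B] (ι' B C 1) := by
    have e1 : q.baseChange R (a ⊗ₜ[B] (1 : C)) = a ⊗ₜ[B] (ι' B C 1) := by
      rw [LinearMap.baseChange_tmul, hq1]
    have e2 : q.baseChange R (b • s) = b • (r ⊗ₜ[B] (ι' B C 1)) := by
      rw [map_smul]
      congr 1
      exact ht.symm
    rw [← e1, h, e2, TensorProduct.smul_tmul', smul_eq_mul]
  have hj : Function.Injective ((ι' B C).lTensor R) :=
    Module.Flat.lTensor_preserves_injective_linearMap (ι' B C) (ι'_injective hinj)
  have h4 : a ⊗ₜ[B] (1 : B) = (b * r) ⊗ₜ[B] (1 : B) := by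
    apply hj
    rw [LinearMap.lTensor_tmul, LinearMap.lTensor_tmul]
    exact h3
  have h5 : a = b * r := by
    have := congrArg (TensorProduct.rid B R) h4
    rwa [TensorProduct.rid_tmul, TensorProduct.rid_tmul, one_smul, one_smul] at this
  rw [Ideal.mem_span_singleton']
  exact ⟨r, by rw [h5, mul_comm]⟩

end Key

end Groth.Agent.Helper2.CNS
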