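import Mathlib
import Groth.Prelude
import Groth.Agent.Helper2.ComplCofinal
import Groth.Agent.S3866
import Groth.Agent.S0543

set_option autoImplicit false
set_option linter.style.haveILetI false

namespace Groth.Agent.Helper2.JacCompl

open AdicCompletion TensorProduct

universe u

section Semilocal

variable (A₀ : Type u) [CommRing A₀] [IsNoetherianRing A₀] [Finite (MaximalSpectrum A₀)]

/-- the quotient of a semi-local Noetherian ring by its Jacobson radical is Artinian. -/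
theorem isArtinianRing_quot_jacobson : IsArtinianRing (A₀ ⧸ Ideal.jacobson (⊥ : Ideal A₀)) := by
  classical
  rw [isArtinianRing_iff_isNoetherianRing_krullDimLE_zero]
  refine ⟨inferInstance, Ring.krullDimLE_zero_iff.mpr fun P hP => ?_⟩
  haveI := hP
  set p := P.comap (Ideal.Quotient.mk (Ideal.jacobson (⊥ : Ideal A₀))) with hp
  haveI : p.IsPrime := Ideal.comap_isPrime _ P
  have hle : Ideal.jacobson (⊥ : Ideal A₀) ≤ p := by
    intro x hx
    rw [hp, Ideal.mem_comap, Ideal.Quotient.eq_zero_iff_mem.mpr hx]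
    exact P.zero_mem
  -- the Jacobson radical is a finite intersection of maximal ideals
  have hfin : {J : Ideal A₀ | J.IsMaximal}.Finite := by
    have : {J : Ideal A₀ | J.IsMaximal} = Set.range (fun m : MaximalSpectrum A₀ => m.asIdeal) := by
      ext J
      constructor
      · intro hJ; exact ⟨⟨J, hJ⟩, rfl⟩
      · rintro ⟨m, rfl⟩; exact m.isMaximal
    rw [this]
    exact Set.finite_range _
  have hjac : Ideal.jacobson (⊥ : Ideal A₀) = hfin.toFinset.inf id := by
    rw [Finset.inf_id_eq_sInf, Ideal.jacobson]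
    congr 1
    ext J
    simp
  rw [hjac] at hle
  obtain ⟨m, hm, hmp⟩ := (Ideal.IsPrime.inf_le' ‹p.IsPrime›).mp hle
  rw [Set.Finite.mem_toFinset] at hm
  have hpm : p = m := (hm.eq_of_le (Ideal.IsPrime.ne_top ‹_›) hmp).symm
  have hpmax : p.IsMaximal := hpm ▸ hm
  have : P = p.map (Ideal.Quotient.mk (Ideal.jacobson (⊥ : Ideal A₀))) := by
    rw [hp, Ideal.map_comap_of_surjective _ Ideal.Quotient.mk_surjective]
  rw [this]
  refine Ideal.IsMaximal.map_of_surjective_of_ker_le Ideal.Quotient.mk_surjective ?_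
  rw [Ideal.mk_ker]
  rw [← hjac] at hle
  exact hle

end Semilocal

section Finite

variable (A₀ A : Type u) [CommRing A₀] [CommRing A] [Algebra A₀ A] [Module.Finite A₀ A]

/-- the Jacobson radical of `A₀` extends into the Jacobson radical of a finite algebra. -/
theorem map_jacobson_le :
    (Ideal.jacobson (⊥ : Ideal A₀)).map (algebraMap A₀ A) ≤ Ideal.jacobson (⊥ : Ideal A) := by
  rw [Ideal.map_le_iff_le_comap]
  intro x hx
  rw [Ideal.mem_comap, Ideal.jacobson, Ideal.mem_sInf]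
  rintro 𝔫 ⟨-, h𝔫⟩
  haveI := h𝔫
  haveI : Algebra.IsIntegral A₀ A := Algebra.IsIntegral.of_finite A₀ A
  have hmax : (𝔫.comap (algebraMap A₀ A)).IsMaximal :=
    Ideal.isMaximal_comap_of_isIntegral_of_isMaximal 𝔫
  have : x ∈ 𝔫.comap (algebraMap A₀ A) := by
    rw [Ideal.jacobson, Ideal.mem_sInf] at hx
    exact hx ⟨bot_le, hmax⟩
  exact this

/-- a power of the Jacobson radical of a finite algebra over a semi-local Noetherian ring lies in the
extension of the Jacobson radical of the base. -/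
theorem exists_jacobson_pow_le [IsNoetherianRing A₀] [Finite (MaximalSpectrum A₀)] :
    ∃ c : ℕ, Ideal.jacobson (⊥ : Ideal A) ^ c ≤
      (Ideal.jacobson (⊥ : Ideal A₀)).map (algebraMap A₀ A) := by
  haveI := isArtinianRing_quot_jacobson A₀
  haveI : Module.Finite A₀ (A ⧸ (Ideal.jacobson (⊥ : Ideal A₀)).map (algebraMap A₀ A)) :=
    Module.Finite.of_surjective (Ideal.Quotient.mkₐ A₀ _).toLinearMap
      (Ideal.Quotient.mkₐ_surjective A₀ _)
  haveI : Module.Finite (A₀ ⧸ Ideal.jacobson (⊥ : Ideal A₀))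
      (A ⧸ (Ideal.jacobson (⊥ : Ideal A₀)).map (algebraMap A₀ A)) :=
    Module.Finite.of_restrictScalars_finite A₀ _ _
  haveI : IsArtinianRing (A ⧸ (Ideal.jacobson (⊥ : Ideal A₀)).map (algebraMap A₀ A)) :=
    IsArtinianRing.of_finite (A₀ ⧸ Ideal.jacobson (⊥ : Ideal A₀)) _
  obtain ⟨c, hc⟩ := IsArtinianRing.isNilpotent_jacobson_bot
    (R := A ⧸ (Ideal.jacobson (⊥ : Ideal A₀)).map (algebraMap A₀ A))
  refine ⟨c, ?_⟩
  have h1 : (Ideal.jacobson (⊥ : Ideal A)).map
      (Ideal.Quotient.mk ((Ideal.jacobson (⊥ : Ideal A₀)).map (algebraMap A₀ A))) ≤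
      Ideal.jacobson ⊥ := by
    rw [Ideal.map_le_iff_le_comap, Ideal.comap_jacobson_of_surjective Ideal.Quotient.mk_surjective]
    exact Ideal.jacobson_mono bot_le
  have h2 : (Ideal.jacobson (⊥ : Ideal A) ^ c).map
      (Ideal.Quotient.mk ((Ideal.jacobson (⊥ : Ideal A₀)).map (algebraMap A₀ A))) ≤ ⊥ := by
    rw [Ideal.map_pow]
    exact (Ideal.pow_right_mono h1 c).trans (le_of_eq hc)
  rw [Ideal.map_le_iff_le_comap, ← RingHom.ker_eq_comap_bot, Ideal.mk_ker] at h2
  exact h2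

end Finite

section Gen

/-- linear maps preserve `K • ⊤`. -/
theorem map_mem_smul_top {R : Type*} [CommRing R] {M N : Type*} [AddCommGroup M] [Module R M]
    [AddCommGroup N] [Module R N] (K : Ideal R) (f : M →ₗ[R] N) {x : M}
    (hx : x ∈ (K • ⊤ : Submodule R M)) : f x ∈ (K • ⊤ : Submodule R N) := by
  have : f x ∈ (K • ⊤ : Submodule R M).map f := Submodule.mem_map_of_mem hx
  rw [Submodule.map_smul''] at this
  exact Submodule.smul_mono le_rfl le_top this

/-- membership in `K • ⊤` for an algebra is membership in the extended ideal. -/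
theorem mem_smul_top_iff {R S : Type*} [CommRing R] [CommRing S] [Algebra R S] (K : Ideal R) (x : S) :
    x ∈ (K • ⊤ : Submodule R S) ↔ x ∈ K.map (algebraMap R S) := by
  rw [Ideal.smul_top_eq_map]
  rfl

end Gen

section Main

variable (A₀ A : Type u) [CommRing A₀] [IsNoetherianRing A₀] [CommRing A] [Algebra A₀ A]
  [Module.Finite A₀ A]
  (r₀ : Ideal A₀) (r : Ideal A) (hle : r₀.map (algebraMap A₀ A) ≤ r) (c : ℕ)
  (hc : r ^ c ≤ r₀.map (algebraMap A₀ A))

/-- the map of completions as an `A₀`-algebra map. -/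
noncomputable def φa : AdicCompletion r₀ A₀ →ₐ[A₀] AdicCompletion r A :=
  { FSch.complMap r₀ r (algebraMap A₀ A) hle with
    commutes' := fun x => by
      change FSch.complMap r₀ r (algebraMap A₀ A) hle (algebraMap A₀ (AdicCompletion r₀ A₀) x) = _
      rw [ComplCofinal.complMap_algebraMap]
      rfl }

/-- the comparison map `Â₀ ⊗ A → Â`. -/
noncomputable def θ : AdicCompletion r₀ A₀ ⊗[A₀] A →ₐ[A₀] AdicCompletion r A :=
  Algebra.TensorProduct.lift (φa A₀ A r₀ r hle) (IsScalarTower.toAlgHom A₀ A (AdicCompletion r A))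
    (fun _ _ => Commute.all _ _)

theorem θ_tmul (z : AdicCompletion r₀ A₀) (a : A) :
    θ A₀ A r₀ r hle (z ⊗ₜ a) = φa A₀ A r₀ r hle z * algebraMap A (AdicCompletion r A) a := by
  rw [θ, Algebra.TensorProduct.lift_tmul]
  rfl

theorem θ_one_tmul (a : A) :
    θ A₀ A r₀ r hle (1 ⊗ₜ a) = algebraMap A (AdicCompletion r A) a := by
  rw [θ_tmul, _root_.map_one, one_mul]

include hc in
theorem θ_surjective : Function.Surjective (θ A₀ A r₀ r hle) := by
  have hfg₀ : r₀.FG := (isNoetherianRing_iff_ideal_fg A₀).mp inferInstance r₀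
  haveI : IsNoetherianRing A := IsNoetherianRing.of_finite A₀ A
  have hfg : r.FG := (isNoetherianRing_iff_ideal_fg A).mp inferInstance r
  haveI : IsNoetherianRing (AdicCompletion r₀ A₀) := Groth.Agent.S0543.result A₀ r₀
  haveI hcompl : IsAdicComplete (r₀.map (algebraMap A₀ (AdicCompletion r₀ A₀)))
      (AdicCompletion r₀ A₀) :=
    (IsAdicComplete.map_algebraMap_iff _ _).mpr (AdicCompletion.isAdicComplete hfg₀)
  haveI hT : IsAdicComplete (r₀.map (algebraMap A₀ (AdicCompletion r₀ A₀)))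
      (AdicCompletion r₀ A₀ ⊗[A₀] A) :=
    Groth.Agent.S3866.result _ _ _
  haveI hT' : IsAdicComplete r₀ (AdicCompletion r₀ A₀ ⊗[A₀] A) :=
    (IsAdicComplete.map_algebraMap_iff (S := AdicCompletion r₀ A₀) _ _).mp hT
  haveI hÂ : IsAdicComplete (r.map (algebraMap A (AdicCompletion r A))) (AdicCompletion r A) :=
    (IsAdicComplete.map_algebraMap_iff _ _).mpr (AdicCompletion.isAdicComplete hfg)
  have hle' : r₀.map (algebraMap A₀ (AdicCompletion r A)) ≤
      r.map (algebraMap A (AdicCompletion r A)) := by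
    rw [IsScalarTower.algebraMap_eq A₀ A (AdicCompletion r A), ← Ideal.map_map]
    exact Ideal.map_mono hle
  haveI : IsHausdorff (r₀.map (algebraMap A₀ (AdicCompletion r A))) (AdicCompletion r A) :=
    ComplCofinal.isHausdorff_of_le hle'
  haveI : IsHausdorff r₀ (AdicCompletion r A) := IsHausdorff.map_algebraMap_iff.mp this
  refine surjective_of_mkQ_comp_surjective (I := r₀) (f := (θ A₀ A r₀ r hle).toLinearMap) ?_
  intro y'
  obtain ⟨y, rfl⟩ := Submodule.mkQ_surjective _ y'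
  obtain ⟨a, ha⟩ := ComplLocFlat.exists_sub_mem r hfg c y
  refine ⟨1 ⊗ₜ a, ?_⟩
  change Submodule.Quotient.mk (θ A₀ A r₀ r hle (1 ⊗ₜ a)) = Submodule.Quotient.mk y
  rw [θ_one_tmul, eq_comm, Submodule.Quotient.eq, mem_smul_top_iff]
  have h1 : (r ^ c).map (algebraMap A (AdicCompletion r A)) ≤
      r₀.map (algebraMap A₀ (AdicCompletion r A)) := by
    rw [IsScalarTower.algebraMap_eq A₀ A (AdicCompletion r A), ← Ideal.map_map]
    exact Ideal.map_mono hc
  exact h1 ha

/-- an open ideal is the contraction of its extension to the completion. -/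
theorem mem_of_algebraMap_mem_map (J : Ideal A) (k : ℕ) (hk : r ^ k ≤ J) (a : A)
    (ha : algebraMap A (AdicCompletion r A) a ∈ J.map (algebraMap A (AdicCompletion r A))) :
    a ∈ J := by
  have h1 : (AdicCompletion.evalₐ r k) (algebraMap A (AdicCompletion r A) a) ∈
      (J.map (algebraMap A (AdicCompletion r A))).map (AdicCompletion.evalₐ r k).toRingHom :=
    Ideal.mem_map_of_mem _ ha
  rw [Ideal.map_map] at h1
  have h2 : (AdicCompletion.evalₐ r k).toRingHom.comp (algebraMap A (AdicCompletion r A)) =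
      Ideal.Quotient.mk (r ^ k) := by
    ext b
    exact (AdicCompletion.evalₐ r k).commutes b
  rw [h2, AlgHom.commutes] at h1
  change Ideal.Quotient.mk (r ^ k) a ∈ _ at h1
  rw [← Ideal.mem_comap, Ideal.comap_map_of_surjective _ Ideal.Quotient.mk_surjective,
    ← RingHom.ker_eq_comap_bot, Ideal.mk_ker, sup_eq_left.mpr hk] at h1
  exact h1

/-- `A` is dense in `Â₀ ⊗ A`. -/
theorem exists_sub_one_tmul_mem (n : ℕ) (t : AdicCompletion r₀ A₀ ⊗[A₀] A) :
    ∃ a : A, t - 1 ⊗ₜ a ∈ (r₀ ^ n • ⊤ : Submodule A₀ (AdicCompletion r₀ A₀ ⊗[A₀] A)) := by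
  have hfg₀ : r₀.FG := (isNoetherianRing_iff_ideal_fg A₀).mp inferInstance r₀
  induction t using TensorProduct.induction_on with
  | zero => exact ⟨0, by simp⟩
  | tmul z a' =>
    obtain ⟨b, hb⟩ := ComplLocFlat.exists_sub_mem r₀ hfg₀ n z
    refine ⟨b • a', ?_⟩
    have h1 : z ⊗ₜ[A₀] a' - (1 : AdicCompletion r₀ A₀) ⊗ₜ[A₀] (b • a') =
        (TensorProduct.mk A₀ (AdicCompletion r₀ A₀) A).flip a'
          (z - algebraMap A₀ (AdicCompletion r₀ A₀) b) := by
      rw [map_sub, LinearMap.flip_apply, LinearMap.flip_apply, TensorProduct.mk_apply,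
        TensorProduct.mk_apply, TensorProduct.tmul_smul, TensorProduct.smul_tmul',
        Algebra.algebraMap_eq_smul_one]
    rw [h1]
    refine map_mem_smul_top (r₀ ^ n) _ ?_
    rw [mem_smul_top_iff]
    exact hb
  | add x y hx hy =>
    obtain ⟨a₁, h₁⟩ := hx
    obtain ⟨a₂, h₂⟩ := hy
    refine ⟨a₁ + a₂, ?_⟩
    have : x + y - (1 : AdicCompletion r₀ A₀) ⊗ₜ[A₀] (a₁ + a₂) =
        (x - 1 ⊗ₜ a₁) + (y - 1 ⊗ₜ a₂) := by
      rw [TensorProduct.tmul_add]; abel
    rw [this]
    exact Submodule.add_mem _ h₁ h₂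

include hc in
theorem θ_injective : Function.Injective (θ A₀ A r₀ r hle) := by
  have hfg₀ : r₀.FG := (isNoetherianRing_iff_ideal_fg A₀).mp inferInstance r₀
  haveI : IsNoetherianRing (AdicCompletion r₀ A₀) := Groth.Agent.S0543.result A₀ r₀
  haveI hcompl : IsAdicComplete (r₀.map (algebraMap A₀ (AdicCompletion r₀ A₀)))
      (AdicCompletion r₀ A₀) :=
    (IsAdicComplete.map_algebraMap_iff _ _).mpr (AdicCompletion.isAdicComplete hfg₀)
  haveI hT : IsAdicComplete (r₀.map (algebraMap A₀ (AdicCompletion r₀ A₀)))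
      (AdicCompletion r₀ A₀ ⊗[A₀] A) :=
    Groth.Agent.S3866.result _ _ _
  haveI hT' : IsAdicComplete r₀ (AdicCompletion r₀ A₀ ⊗[A₀] A) :=
    (IsAdicComplete.map_algebraMap_iff (S := AdicCompletion r₀ A₀) _ _).mp hT
  rw [injective_iff_map_eq_zero]
  intro x hx
  refine IsHausdorff.haus hT'.toIsHausdorff x (fun n => ?_)
  rw [SModEq.zero]
  obtain ⟨a, ha⟩ := exists_sub_one_tmul_mem A₀ A r₀ n x
  have h1 := map_mem_smul_top (r₀ ^ n) (θ A₀ A r₀ r hle).toLinearMap ha
  have h2 : (θ A₀ A r₀ r hle).toLinearMap (x - 1 ⊗ₜ a) =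
      - algebraMap A (AdicCompletion r A) a := by
    change θ A₀ A r₀ r hle (x - 1 ⊗ₜ a) = _
    rw [map_sub, hx, θ_one_tmul, zero_sub]
  rw [h2, Submodule.neg_mem_iff, mem_smul_top_iff,
    IsScalarTower.algebraMap_eq A₀ A (AdicCompletion r A), ← Ideal.map_map] at h1
  have hk : r ^ (c * n) ≤ (r₀ ^ n).map (algebraMap A₀ A) := by
    rw [pow_mul, Ideal.map_pow]
    exact Ideal.pow_right_mono hc n
  have h3 : a ∈ (r₀ ^ n).map (algebraMap A₀ A) :=
    mem_of_algebraMap_mem_map A r _ (c * n) hk a h1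
  have h4 : (1 : AdicCompletion r₀ A₀) ⊗ₜ[A₀] a ∈
      (r₀ ^ n • ⊤ : Submodule A₀ (AdicCompletion r₀ A₀ ⊗[A₀] A)) := by
    have : a ∈ (r₀ ^ n • ⊤ : Submodule A₀ A) := (mem_smul_top_iff _ _).mpr h3
    exact map_mem_smul_top (r₀ ^ n) (TensorProduct.mk A₀ (AdicCompletion r₀ A₀) A 1) this
  have := Submodule.add_mem _ ha h4
  rwa [sub_add_cancel] at this

end Main

theorem s4581 {A₀ A : Type u} [CommRing A₀]
    [IsNoetherianRing A₀] [Finite (MaximalSpectrum A₀)] [CommRing A] [Algebra A₀ A] [Module.Finite A₀ A] :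
    EGA41.IsFormallySmoothRel A₀ A (AdicCompletion (Ideal.jacobson (⊥ : Ideal A)) A) := by
  intro C _ _ _ _ J hJ u₀ hu'
  obtain ⟨u, hu⟩ := hu'
  have hle := map_jacobson_le A₀ A
  obtain ⟨c, hc⟩ := exists_jacobson_pow_le A₀ A
  let e : (AdicCompletion (Ideal.jacobson (⊥ : Ideal A₀)) A₀ ⊗[A₀] A) ≃ₐ[A₀]
      AdicCompletion (Ideal.jacobson (⊥ : Ideal A)) A :=
    AlgEquiv.ofBijective (θ A₀ A _ _ hle)
      ⟨θ_injective A₀ A _ _ hle c hc, θ_surjective A₀ A _ _ hle c hc⟩
  have he : ∀ t, e t = θ A₀ A _ _ hle t := fun t => rfl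
  let w : (AdicCompletion (Ideal.jacobson (⊥ : Ideal A₀)) A₀ ⊗[A₀] A) →ₐ[A₀] C :=
    Algebra.TensorProduct.lift (u.comp (φa A₀ A _ _ hle)) (IsScalarTower.toAlgHom A₀ A C)
      (fun _ _ => Commute.all _ _)
  have hw : ∀ z a, w (z ⊗ₜ a) = u (φa A₀ A _ _ hle z) * algebraMap A C a := by
    intro z a
    change Algebra.TensorProduct.lift _ _ _ (z ⊗ₜ a) = _
    rw [Algebra.TensorProduct.lift_tmul]
    rfl
  let v₀ : AdicCompletion (Ideal.jacobson (⊥ : Ideal A)) A →ₐ[A₀] C := w.comp e.symm.toAlgHom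
  have hv₀ : ∀ a : A, v₀ (algebraMap A _ a) = algebraMap A C a := by
    intro a
    have h1 : e.symm (algebraMap A (AdicCompletion (Ideal.jacobson (⊥ : Ideal A)) A) a) =
        1 ⊗ₜ a := by
      rw [AlgEquiv.symm_apply_eq, he, θ_one_tmul]
    change w (e.symm _) = _
    rw [h1, hw, _root_.map_one, _root_.map_one, one_mul]
  let v : AdicCompletion (Ideal.jacobson (⊥ : Ideal A)) A →ₐ[A] C :=
    { v₀.toRingHom with commutes' := hv₀ }
  refine ⟨v, ?_⟩
  refine AlgHom.ext fun y => ?_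
  obtain ⟨t, rfl⟩ := e.surjective y
  change Ideal.Quotient.mk J (w (e.symm (e t))) = u₀ (e t)
  rw [e.symm_apply_apply]
  have hu1 : ∀ x, Ideal.Quotient.mk J (u x) = u₀ x := fun x => AlgHom.congr_fun hu x
  induction t using TensorProduct.induction_on with
  | zero => simp
  | tmul z a =>
    rw [hw, he, θ_tmul, _root_.map_mul, _root_.map_mul, hu1, AlgHom.commutes]
    rfl
  | add x y hx hy => rw [_root_.map_add, _root_.map_add, _root_.map_add, _root_.map_add, hx, hy]

end Groth.Agent.Helper2.JacCompl
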