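import Mathlib
import Groth.Prelude
import Groth.Agent.Helper2.CNS3
import Groth.Agent.Helper2.JacCompl
import Groth.Agent.S2139

set_option autoImplicit false
set_option linter.style.haveILetI false
set_option linter.unusedSectionVars false
set_option linter.unusedVariables false

namespace Groth.Agent.Helper2.CNS

universe u

open TensorProduct Polynomial

section Abstract

variable {B C R S : Type u} [CommRing B] [IsNoetherianRing B] [CommRing C] [Algebra B C]
  [Module.Finite B C] [CommRing R] [IsNoetherianRing R] [Algebra B R] [Module.Flat B R]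
  [CommRing S]

/-- transfer of a scaled integrality relation along a ring hom, giving divisibility in a normal
target. -/
theorem map_mem_span_of_scaleRoots (hS : EGA4.IsNormalRing S) (φ : R →+* S) (a b : R)
    (p : R[X]) (hp : p.Monic) (h : (p.scaleRoots b).eval a = 0) :
    φ a ∈ Ideal.span {φ b} := by
  rcases subsingleton_or_nontrivial S with hsub | hnt
  · rw [Subsingleton.elim (φ a) 0]
    exact Ideal.zero_mem _
  · have h1 : (p.scaleRoots b).map φ = (p.map φ).scaleRoots (φ b) :=
      map_scaleRoots p b φ (by rw [hp.leadingCoeff, map_one]; exact one_ne_zero)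
    have hmap : ((p.map φ).scaleRoots (φ b)).eval (φ a) = 0 := by
      rw [← h1, Polynomial.eval_map, Polynomial.eval₂_hom, h, map_zero]
    exact mem_span_of_scaleRoots hS _ _ (p.map φ) (hp.map φ) hmap

/-- abstract form: if `R` is a flat Noetherian `B`-algebra, `B ⊆ C` finite with `B` normal, and
`R ⊗_B C` is (isomorphic to) a normal ring, then `R` is normal. -/
theorem normal_of_tensor (hinj : Function.Injective (algebraMap B C)) (hB : EGA4.IsNormalRing B)
    (hS : EGA4.IsNormalRing S) (θ : (R ⊗[B] C) →+* S) (hθ : Function.Bijective θ) :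
    EGA4.IsNormalRing R := by
  let incl : R →+* R ⊗[B] C := Algebra.TensorProduct.includeLeftRingHom
  have hincl : Function.Injective incl :=
    Algebra.TensorProduct.includeLeft_injective (S := B) (R := B) (A := R) (B := C) hinj
  have hincl_apply : ∀ r : R, incl r = r ⊗ₜ[B] (1 : C) := fun r => rfl
  have hsmul : ∀ (r : R) (t : R ⊗[B] C), r • t = t * incl r := by
    intro r t
    rw [mul_comm, hincl_apply]
    induction t using TensorProduct.induction_on with
    | zero => rw [smul_zero, mul_zero]
    | tmul x y =>
      rw [TensorProduct.smul_tmul', Algebra.TensorProduct.tmul_mul_tmul, one_mul, smul_eq_mul]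
    | add x y hx hy => rw [smul_add, mul_add, hx, hy]
  let φ : R →+* S := θ.comp incl
  have hφ : Function.Injective φ := hθ.1.comp hincl
  haveI : IsReduced S := AnUnr7.isReduced_of_isNormalRing S hS
  haveI : IsReduced R := isReduced_of_injective φ hφ
  have hfin : (minimalPrimes R).Finite := minimalPrimes.finite_of_isNoetherianRing R
  refine (Groth.Agent.S2139.result hfin).2 ?_
  rw [isIntegrallyClosedIn_iff]
  refine ⟨IsFractionRing.injective R (FractionRing R), fun {x} hx => ?_⟩
  obtain ⟨⟨a, b⟩, rfl⟩ := IsLocalization.mk'_surjective (nonZeroDivisors R) x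
  obtain ⟨p, hp, hpx⟩ := hx
  let g : R →+* FractionRing R := algebraMap R (FractionRing R)
  have hg : Function.Injective g := IsFractionRing.injective R (FractionRing R)
  have hspec : g (b : R) * IsLocalization.mk' (FractionRing R) a b = g a :=
    IsLocalization.mk'_spec' (FractionRing R) a b
  have h1 : (p.scaleRoots (b : R)).eval a = 0 := by
    apply hg
    have h2 := scaleRoots_eval₂_mul (p := p) g (IsLocalization.mk' (FractionRing R) a b) (b : R)
    rw [hspec, Polynomial.eval₂_hom] at h2
    rw [h2, map_zero]
    have : eval₂ g (IsLocalization.mk' (FractionRing R) a b) p = 0 := hpx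
    rw [this, mul_zero]
  have h3 := map_mem_span_of_scaleRoots hS φ a (b : R) p hp h1
  rw [Ideal.mem_span_singleton'] at h3
  obtain ⟨ŝ, hŝ⟩ := h3
  obtain ⟨s, rfl⟩ := hθ.2 ŝ
  have h4 : a ⊗ₜ[B] (1 : C) = (b : R) • s := by
    apply hθ.1
    have e1 : θ (a ⊗ₜ[B] (1 : C)) = φ a := rfl
    have e2 : (b : R) • s = s * incl (b : R) := hsmul _ _
    rw [e1, e2, map_mul, ← hŝ]
    rfl
  have h5 := key hinj hB a (b : R) b.2 s h4
  rw [Ideal.mem_span_singleton'] at h5
  obtain ⟨r, hr⟩ := h5
  refine ⟨r, ?_⟩
  rw [eq_comm, IsLocalization.mk'_eq_iff_eq_mul, ← map_mul, hr]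

end Abstract

section Main

open IsLocalRing

theorem main (A : Type u) [CommRing A] [IsLocalRing A] [IsNoetherianRing A]
    (B C : Type u) [CommRing B] [CommRing C] [Algebra A B] [Algebra A C] [Algebra B C]
    [IsScalarTower A B C] [Module.Finite A B] [Module.Finite A C]
    (hinj : Function.Injective (algebraMap B C)) (hB : EGA4.IsNormalRing B)
    (hC : EGA4.IsNormalRing (AdicCompletion ((maximalIdeal A).map (algebraMap A C)) C)) :
    EGA4.IsNormalRing (AdicCompletion ((maximalIdeal A).map (algebraMap A B)) B) := by
  haveI : IsNoetherianRing B := IsNoetherianRing.of_finite A B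
  haveI : Module.Finite B C := Module.Finite.of_restrictScalars_finite A B C
  have hmap : ((maximalIdeal A).map (algebraMap A B)).map (algebraMap B C) =
      (maximalIdeal A).map (algebraMap A C) := by
    rw [Ideal.map_map, ← IsScalarTower.algebraMap_eq]
  have hle : ((maximalIdeal A).map (algebraMap A B)).map (algebraMap B C) ≤
      (maximalIdeal A).map (algebraMap A C) := hmap.le
  have hc : ((maximalIdeal A).map (algebraMap A C)) ^ 1 ≤
      ((maximalIdeal A).map (algebraMap A B)).map (algebraMap B C) := by
    rw [pow_one, hmap]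
  haveI : IsNoetherianRing (AdicCompletion ((maximalIdeal A).map (algebraMap A B)) B) :=
    Groth.Agent.S0543.result B _
  exact normal_of_tensor hinj hB hC
    (JacCompl.θ B C _ _ hle).toRingHom
    ⟨JacCompl.θ_injective B C _ _ hle 1 hc, JacCompl.θ_surjective B C _ _ hle 1 hc⟩

end Main

end Groth.Agent.Helper2.CNS
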