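import Mathlib
import Groth.Prelude

set_option autoImplicit false
set_option linter.style.haveILetI false

namespace Groth.Agent.Helper2.CT4

open IsLocalRing TensorProduct

universe u v

section FiniteOverField

variable (k : Type u) (A : Type u) [Field k] [CommRing A] [IsLocalRing A] [Algebra k A]
  [Module.Finite k (ResidueField A)]

/-- A finite `A`-module killed by the maximal ideal is finite over `k`. -/
theorem finite_of_torsion (M : Type v) [AddCommGroup M] [Module A M] [Module k M]
    [IsScalarTower k A M] [Module.Finite A M]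
    (h : ∀ a ∈ maximalIdeal A, ∀ x : M, a • x = 0) : Module.Finite k M := by
  have ht : Module.IsTorsionBySet A M (maximalIdeal A : Set A) := fun x a => h a.1 a.2 x
  letI : Module (A ⧸ maximalIdeal A) M := ht.module
  haveI : IsScalarTower A (A ⧸ maximalIdeal A) M := ht.isScalarTower
  haveI : Module.Finite (A ⧸ maximalIdeal A) M := Module.Finite.of_restrictScalars_finite A _ M
  haveI : IsScalarTower k (A ⧸ maximalIdeal A) M := by
    constructor
    intro c r x
    obtain ⟨r, rfl⟩ := Ideal.Quotient.mk_surjective r
    have h1 : c • (Ideal.Quotient.mk (maximalIdeal A) r) = Ideal.Quotient.mk (maximalIdeal A) (c • r) :=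
      rfl
    rw [h1]
    change (c • r) • x = c • (r • x)
    rw [smul_assoc]
  haveI : Module.Finite k (A ⧸ maximalIdeal A) :=
    (inferInstance : Module.Finite k (ResidueField A))
  exact Module.Finite.trans (A ⧸ maximalIdeal A) M

variable [IsNoetherianRing A]

theorem finite_of_pow_smul_eq_bot : ∀ (j : ℕ) (M : Type v) [AddCommGroup M] [Module A M]
    [Module k M] [IsScalarTower k A M] [Module.Finite A M],
    (maximalIdeal A ^ j • (⊤ : Submodule A M)) = ⊥ → Module.Finite k M
  | 0, M, _, _, _, _, _, h => by
    rw [pow_zero, Ideal.one_eq_top, Submodule.top_smul] at h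
    haveI : Subsingleton M := (Submodule.subsingleton_iff A).mp (subsingleton_of_bot_eq_top h.symm)
    infer_instance
  | j + 1, M, _, _, _, _, _, h => by
    set S : Submodule A M := maximalIdeal A • ⊤ with hS
    haveI : IsNoetherian A M := isNoetherian_of_isNoetherianRing_of_finite A M
    haveI : Module.Finite A S := Module.Finite.of_fg (IsNoetherian.noetherian S)
    haveI : Module.Finite k S := by
      refine finite_of_pow_smul_eq_bot j S ?_
      rw [Submodule.eq_bot_iff]
      intro x hx
      have h1 : S.subtype x ∈ (maximalIdeal A ^ j • (⊤ : Submodule A S)).map S.subtype :=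
        Submodule.mem_map_of_mem hx
      have hS' : maximalIdeal A ^ j • S = ⊥ := by
        rw [hS, ← Submodule.mul_smul, ← pow_succ, h]
      rw [Submodule.map_smul'', Submodule.map_subtype_top, hS', Submodule.mem_bot] at h1
      exact Subtype.ext h1
    haveI : Module.Finite k (M ⧸ S) := by
      refine finite_of_torsion k A (M ⧸ S) ?_
      intro a ha x
      obtain ⟨x, rfl⟩ := Submodule.Quotient.mk_surjective S x
      rw [← Submodule.Quotient.mk_smul, Submodule.Quotient.mk_eq_zero]
      exact Submodule.smul_mem_smul ha Submodule.mem_top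
    exact Module.Finite.of_exact (f := S.subtype.restrictScalars k) (g := S.mkQ.restrictScalars k)
      (LinearMap.exact_subtype_mkQ S) (S.mkQ_surjective)

theorem finite_quot_pow (j : ℕ) : Module.Finite k (A ⧸ maximalIdeal A ^ j) := by
  refine finite_of_pow_smul_eq_bot k A j (A ⧸ maximalIdeal A ^ j) ?_
  rw [Submodule.eq_bot_iff]
  intro x hx
  refine Submodule.smul_induction_on hx ?_ ?_
  · intro a ha y _
    obtain ⟨y, rfl⟩ := Ideal.Quotient.mk_surjective y
    have h1 : a • (Ideal.Quotient.mk (maximalIdeal A ^ j) y) =
        Ideal.Quotient.mk (maximalIdeal A ^ j) (a * y) := rfl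
    rw [h1, Ideal.Quotient.eq_zero_iff_mem]
    exact Ideal.mul_mem_right _ _ ha
  · intro x y hx hy
    rw [hx, hy, add_zero]

end FiniteOverField

section SupPow

variable {R : Type*} [CommRing R]

theorem sup_pow_le (I J : Ideal R) (j : ℕ) : (I ⊔ J) ^ j ≤ I ^ j ⊔ J := by
  induction j with
  | zero => rw [pow_zero, pow_zero]; exact le_sup_left
  | succ j ih =>
    rw [pow_succ, pow_succ]
    refine (Ideal.mul_mono_left ih).trans ?_
    calc (I ^ j ⊔ J) * (I ⊔ J) = I ^ j * (I ⊔ J) ⊔ J * (I ⊔ J) := Ideal.sup_mul _ _ _
      _ ≤ (I ^ j * I ⊔ J) ⊔ J :=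
        sup_le_sup (by rw [Ideal.mul_sup]; exact sup_le_sup le_rfl Ideal.mul_le_right)
          Ideal.mul_le_left
      _ = I ^ j * I ⊔ J := by rw [sup_assoc, sup_idem]

end SupPow

end Groth.Agent.Helper2.CT4
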