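import Mathlib
import Groth.Prelude
import Groth.Agent.Helper1.CompleteNoeth
import Groth.Agent.Helper5.HenselFin
import Groth.Agent.Helper7.SemiCompl

set_option autoImplicit false
set_option linter.style.haveILetI false

namespace Groth.Agent.Helper2.CTF

open AdicCompletion IsLocalRing

universe u

section Gen

variable {T : Type u} [CommRing T] (I : Ideal T)

/-- `C/IC ≃ T/I` for the completion `C` of `T` along a finitely generated ideal `I`. -/
noncomputable def quotEquiv (hfg : I.FG) :
    (AdicCompletion I T ⧸ I.map (algebraMap T (AdicCompletion I T))) ≃+* T ⧸ I :=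
  (Ideal.quotEquivOfEq (ker_evalOneₐ_eq_map I hfg).symm).trans
    (RingHom.quotientKerEquivOfSurjective (f := (evalOneₐ I).toRingHom) (evalOneₐ_surjective I))

theorem isNoetherianRing (hfg : I.FG) [IsNoetherianRing (T ⧸ I)] :
    IsNoetherianRing (AdicCompletion I T) := by
  haveI := AdicCompletion.isAdicComplete_self I hfg
  haveI : IsNoetherianRing (AdicCompletion I T ⧸ I.map (algebraMap T (AdicCompletion I T))) :=
    isNoetherianRing_of_ringEquiv _ (quotEquiv I hfg).symm
  exact Groth.Agent.Helper1.CompleteNoeth.isNoetherianRing_of_isAdicComplete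
    (I.map (algebraMap T (AdicCompletion I T))) (hfg.map _)

theorem isMaximal_of_le (hfg : I.FG) [IsArtinianRing (T ⧸ I)] (P : Ideal (AdicCompletion I T))
    [P.IsPrime] (hP : I.map (algebraMap T (AdicCompletion I T)) ≤ P) : P.IsMaximal := by
  set J := I.map (algebraMap T (AdicCompletion I T)) with hJ
  haveI : IsArtinianRing (AdicCompletion I T ⧸ J) :=
    (quotEquiv I hfg).symm.surjective.isArtinianRing
  have hker : RingHom.ker (Ideal.Quotient.mk J) ≤ P := by rwa [Ideal.mk_ker]
  haveI : (P.map (Ideal.Quotient.mk J)).IsPrime :=
    Ideal.map_isPrime_of_surjective Ideal.Quotient.mk_surjective hker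
  haveI : (P.map (Ideal.Quotient.mk J)).IsMaximal := inferInstance
  have h := Ideal.comap_isMaximal_of_surjective (Ideal.Quotient.mk J) Ideal.Quotient.mk_surjective
    (K := P.map (Ideal.Quotient.mk J))
  rwa [Ideal.comap_map_of_surjective _ Ideal.Quotient.mk_surjective, ← RingHom.ker_eq_comap_bot,
    sup_eq_left.mpr hker] at h

theorem le_of_isMaximal (hfg : I.FG) (M : Ideal (AdicCompletion I T)) [M.IsMaximal] :
    I.map (algebraMap T (AdicCompletion I T)) ≤ M := by
  haveI := AdicCompletion.isAdicComplete_self I hfg
  refine (IsAdicComplete.le_jacobson_bot _).trans ?_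
  rw [Ideal.jacobson]
  exact sInf_le ⟨bot_le, inferInstance⟩

theorem finite_maximalSpectrum (hfg : I.FG) [IsArtinianRing (T ⧸ I)] :
    Finite (MaximalSpectrum (AdicCompletion I T)) := by
  set J := I.map (algebraMap T (AdicCompletion I T)) with hJ
  haveI : IsArtinianRing (AdicCompletion I T ⧸ J) :=
    (quotEquiv I hfg).symm.surjective.isArtinianRing
  have hker : ∀ M : MaximalSpectrum (AdicCompletion I T),
      RingHom.ker (Ideal.Quotient.mk J) ≤ M.asIdeal := fun M => by
    haveI := M.isMaximal
    rw [Ideal.mk_ker]; exact le_of_isMaximal I hfg M.asIdeal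
  let f : MaximalSpectrum (AdicCompletion I T) → MaximalSpectrum (AdicCompletion I T ⧸ J) :=
    fun M => ⟨M.asIdeal.map (Ideal.Quotient.mk J),
      Ideal.IsMaximal.map_of_surjective_of_ker_le Ideal.Quotient.mk_surjective (hker M)⟩
  refine Finite.of_injective f ?_
  intro M M' h
  have h' : M.asIdeal.map (Ideal.Quotient.mk J) = M'.asIdeal.map (Ideal.Quotient.mk J) :=
    congrArg MaximalSpectrum.asIdeal h
  have h2 := congrArg (Ideal.comap (Ideal.Quotient.mk J)) h'
  rw [Ideal.comap_map_of_surjective _ Ideal.Quotient.mk_surjective,
    Ideal.comap_map_of_surjective _ Ideal.Quotient.mk_surjective, ← RingHom.ker_eq_comap_bot,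
    sup_eq_left.mpr (hker M), sup_eq_left.mpr (hker M')] at h2
  exact MaximalSpectrum.ext h2

end Gen

section Loc0

variable (R : Type u) [CommRing R] (J : Ideal R)

/-- If all primes over `J` are maximal, the only prime of `R_M` over `J R_M` is the maximal ideal. -/
theorem eq_maximalIdeal_of_le (hJ : ∀ p : Ideal R, p.IsPrime → J ≤ p → p.IsMaximal) (M : Ideal R)
    [hM : M.IsMaximal] (P : Ideal (Localization.AtPrime M)) [hP : P.IsPrime]
    (hJP : J.map (algebraMap R (Localization.AtPrime M)) ≤ P) :
    P = maximalIdeal (Localization.AtPrime M) := by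
  have hp : (P.comap (algebraMap R (Localization.AtPrime M))).IsMaximal :=
    hJ _ (Ideal.IsPrime.comap _) (Ideal.map_le_iff_le_comap.mp hJP)
  have hle : P.comap (algebraMap R (Localization.AtPrime M)) ≤ M := by
    have h6 : P ≤ maximalIdeal (Localization.AtPrime M) := le_maximalIdeal hP.ne_top
    calc P.comap (algebraMap R (Localization.AtPrime M))
        ≤ (maximalIdeal (Localization.AtPrime M)).comap
          (algebraMap R (Localization.AtPrime M)) := Ideal.comap_mono h6
      _ = M := IsLocalization.AtPrime.comap_maximalIdeal (Localization.AtPrime M) M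
  have heq : P.comap (algebraMap R (Localization.AtPrime M)) = M :=
    hp.eq_of_le hM.ne_top hle
  have h7 := IsLocalization.map_comap M.primeCompl (Localization.AtPrime M) P
  have heq' : Ideal.under R P = M := heq
  rw [heq', Localization.AtPrime.map_eq_maximalIdeal] at h7
  exact h7.symm

end Loc0

section Loc

variable (R : Type u) [CommRing R] [IsNoetherianRing R] (J : Ideal R) [IsAdicComplete J R]

/-- In a Noetherian `J`-adically complete semilocal ring in which all primes over `J` are maximal,
the localizations at maximal ideals are complete local rings. -/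
theorem isAdicComplete_localization (hR : Finite (MaximalSpectrum R))
    (hJ : ∀ p : Ideal R, p.IsPrime → J ≤ p → p.IsMaximal) (M : Ideal R) [hM : M.IsMaximal] :
    IsAdicComplete (maximalIdeal (Localization.AtPrime M)) (Localization.AtPrime M) := by
  classical
  have hJM : J ≤ M := by
    refine (IsAdicComplete.le_jacobson_bot J).trans ?_
    rw [Ideal.jacobson]
    exact sInf_le ⟨bot_le, hM⟩
  -- surjectivity of `of`
  have hsurj : Function.Surjective (AdicCompletion.of J (Localization.AtPrime M)) := by
    intro y
    let m₀ : {m : MaximalSpectrum R // J ≤ m.asIdeal} := ⟨⟨M, hM⟩, hJM⟩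
    have hmain := (Groth.Agent.Helper7.SemiCompl.main J hR hJ).2
    obtain ⟨X, hX⟩ := hmain (fun m => if h : m = m₀ then h ▸ y else 0)
    obtain ⟨x, rfl⟩ := AdicCompletion.of_surjective J R X
    refine ⟨algebraMap R (Localization.AtPrime M) x, ?_⟩
    have h1 := congrFun hX m₀
    rw [LinearMap.pi_apply, AdicCompletion.map_of] at h1
    simpa using h1
  haveI : IsPrecomplete J (Localization.AtPrime M) :=
    (AdicCompletion.of_surjective_iff (I := J) (M := Localization.AtPrime M)).mp hsurj
  have hne : J.map (algebraMap R (Localization.AtPrime M)) ≠ ⊤ := by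
    intro h
    have h2 : J.map (algebraMap R (Localization.AtPrime M)) ≤
        maximalIdeal (Localization.AtPrime M) := by
      rw [← Localization.AtPrime.map_eq_maximalIdeal]
      exact Ideal.map_mono hJM
    rw [h] at h2
    exact (maximalIdeal.isMaximal _).ne_top (top_le_iff.mp h2)
  haveI h3 : IsHausdorff (J.map (algebraMap R (Localization.AtPrime M)))
      (Localization.AtPrime M) := IsHausdorff.of_isLocalRing _ _ hne
  haveI : IsHausdorff J (Localization.AtPrime M) :=
    (IsHausdorff.map_algebraMap_iff (I := J) (M := Localization.AtPrime M)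
      (S := Localization.AtPrime M)).mp h3
  haveI h4 : IsAdicComplete J (Localization.AtPrime M) := {}
  haveI h5 : IsAdicComplete (J.map (algebraMap R (Localization.AtPrime M)))
      (Localization.AtPrime M) :=
    (IsAdicComplete.map_algebraMap_iff (I := J) (M := Localization.AtPrime M)
      (S := Localization.AtPrime M)).mpr h4
  have hle2 : J.map (algebraMap R (Localization.AtPrime M)) ≤
      maximalIdeal (Localization.AtPrime M) := by
    rw [← Localization.AtPrime.map_eq_maximalIdeal]
    exact Ideal.map_mono hJM
  have hrad : maximalIdeal (Localization.AtPrime M) ≤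
      (J.map (algebraMap R (Localization.AtPrime M))).radical := by
    rw [Ideal.radical_eq_sInf]
    refine le_sInf ?_
    rintro P ⟨hJP, hP⟩
    haveI := hP
    have hp : (P.comap (algebraMap R (Localization.AtPrime M))).IsMaximal :=
      hJ _ (Ideal.IsPrime.comap _) (Ideal.map_le_iff_le_comap.mp hJP)
    have hle : P.comap (algebraMap R (Localization.AtPrime M)) ≤ M := by
      have h6 : P ≤ maximalIdeal (Localization.AtPrime M) := le_maximalIdeal hP.ne_top
      calc P.comap (algebraMap R (Localization.AtPrime M))
          ≤ (maximalIdeal (Localization.AtPrime M)).comap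
            (algebraMap R (Localization.AtPrime M)) := Ideal.comap_mono h6
        _ = M := IsLocalization.AtPrime.comap_maximalIdeal (Localization.AtPrime M) M
    have heq : P.comap (algebraMap R (Localization.AtPrime M)) = M :=
      hp.eq_of_le hM.ne_top hle
    have h7 := IsLocalization.map_comap M.primeCompl (Localization.AtPrime M) P
    have heq' : Ideal.under R P = M := heq
    rw [heq', Localization.AtPrime.map_eq_maximalIdeal] at h7
    exact h7.le
  obtain ⟨N, hN⟩ := Ideal.exists_radical_pow_le_of_fg
    (J.map (algebraMap R (Localization.AtPrime M))) (IsNoetherian.noetherian _)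
  exact Groth.Agent.Helper5.HenselFin.isAdicComplete_of_pow_le
    (J.map (algebraMap R (Localization.AtPrime M))) (maximalIdeal (Localization.AtPrime M)) N
    ((Ideal.pow_right_mono hrad N).trans hN) hle2

end Loc

end Groth.Agent.Helper2.CTF
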