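import Mathlib
import Groth.Prelude
import Groth.Agent.Helper2.CT4A
import Groth.Agent.Helper2.CTF1

set_option autoImplicit false
set_option linter.style.haveILetI false
set_option linter.unusedSectionVars false

namespace Groth.Agent.Helper2.CT4

open IsLocalRing TensorProduct AdicCompletion

universe u

attribute [local instance] Algebra.TensorProduct.rightAlgebra

section Gen

variable (k A B : Type u) [Field k] [CommRing A] [CommRing B] [Algebra k A] [Algebra k B]

/-- If `A/𝔞` is finite over `k` then `(A ⊗ B)/𝔞(A ⊗ B)` is finite over `B`. -/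
theorem finite_quot' (𝔞 : Ideal A) [Module.Finite k (A ⧸ 𝔞)] (I' : Ideal (A ⊗[k] B))
    (hI' : I' = 𝔞.map (algebraMap A (A ⊗[k] B))) :
    ((Ideal.Quotient.mk I').comp (algebraMap B (A ⊗[k] B))).Finite := by
  let φ₁ : B →ₐ[k] (A ⊗[k] B) ⧸ I' :=
    (Ideal.Quotient.mkₐ k I').comp Algebra.TensorProduct.includeRight
  let φ₂ : A ⧸ 𝔞 →ₐ[k] (A ⊗[k] B) ⧸ I' :=
    Ideal.Quotient.liftₐ 𝔞
      ((Ideal.Quotient.mkₐ k I').comp Algebra.TensorProduct.includeLeft) (fun a ha => by
        rw [AlgHom.comp_apply, Ideal.Quotient.mkₐ_eq_mk, Ideal.Quotient.eq_zero_iff_mem, hI']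
        exact Ideal.mem_map_of_mem _ ha)
  let h : B ⊗[k] (A ⧸ 𝔞) →ₐ[k] (A ⊗[k] B) ⧸ I' := Algebra.TensorProduct.productMap φ₁ φ₂
  have hsurj : Function.Surjective h := by
    intro y
    obtain ⟨t, rfl⟩ := Ideal.Quotient.mk_surjective y
    induction t using TensorProduct.induction_on with
    | zero => exact ⟨0, map_zero _⟩
    | tmul a c =>
      refine ⟨c ⊗ₜ[k] (Ideal.Quotient.mk 𝔞 a), ?_⟩
      rw [Algebra.TensorProduct.productMap_apply_tmul]
      change Ideal.Quotient.mk I' ((1 : A) ⊗ₜ[k] c) * Ideal.Quotient.mk I' (a ⊗ₜ[k] (1 : B)) = _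
      rw [← map_mul, Algebra.TensorProduct.tmul_mul_tmul, one_mul, mul_one]
    | add x y hx hy =>
      obtain ⟨x', hx'⟩ := hx
      obtain ⟨y', hy'⟩ := hy
      exact ⟨x' + y', by rw [map_add, hx', hy', map_add]⟩
  have heq : (Ideal.Quotient.mk I').comp (algebraMap B (A ⊗[k] B)) =
      h.toRingHom.comp (algebraMap B (B ⊗[k] (A ⧸ 𝔞))) := by
    ext c
    change _ = h (algebraMap B (B ⊗[k] (A ⧸ 𝔞)) c)
    rw [Algebra.TensorProduct.algebraMap_apply, Algebra.algebraMap_self, RingHom.id_apply,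
      Algebra.TensorProduct.productMap_apply_tmul, map_one, mul_one]
    rfl
  rw [heq]
  exact RingHom.Finite.comp (RingHom.Finite.of_surjective _ hsurj)
    (RingHom.finite_algebraMap.mpr inferInstance)

end Gen

section Loc

variable (k A B : Type u) [Field k] [CommRing A] [CommRing B] [Algebra k A] [Algebra k B]
  [IsLocalRing A] [IsLocalRing B] [IsNoetherianRing A] [IsNoetherianRing B]
  [Module.Finite k (ResidueField A)]

theorem cTensorIdeal_eq : EGA4.cTensorIdeal k A B =
    (maximalIdeal A).map (algebraMap A (A ⊗[k] B)) ⊔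
      (maximalIdeal B).map (algebraMap B (A ⊗[k] B)) := rfl

theorem cTensorIdeal_fg : (EGA4.cTensorIdeal k A B).FG := by
  rw [cTensorIdeal_eq]
  exact Submodule.FG.sup (Ideal.FG.map (IsNoetherian.noetherian _) _)
    (Ideal.FG.map (IsNoetherian.noetherian _) _)

/-- `B → T/(m^j T)` is finite. -/
theorem finite_quot_pow_map (j : ℕ) :
    ((Ideal.Quotient.mk ((maximalIdeal A ^ j).map (algebraMap A (A ⊗[k] B)))).comp
      (algebraMap B (A ⊗[k] B))).Finite := by
  haveI := finite_quot_pow k A j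
  exact finite_quot' k A B (maximalIdeal A ^ j) _ rfl

theorem map_pow_le_cTensorIdeal : (maximalIdeal A ^ 1).map (algebraMap A (A ⊗[k] B)) ≤
    EGA4.cTensorIdeal k A B := by
  rw [pow_one, cTensorIdeal_eq]; exact le_sup_left

/-- `B → T/𝔠` is finite. -/
theorem finite_quot_c :
    ((Ideal.Quotient.mk (EGA4.cTensorIdeal k A B)).comp (algebraMap B (A ⊗[k] B))).Finite := by
  have h1 := finite_quot_pow_map k A B 1
  have h2 : Function.Surjective (Ideal.Quotient.factor (map_pow_le_cTensorIdeal k A B)) :=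
    Ideal.Quotient.factor_surjective _
  have heq : (Ideal.Quotient.mk (EGA4.cTensorIdeal k A B)).comp (algebraMap B (A ⊗[k] B)) =
      (Ideal.Quotient.factor (map_pow_le_cTensorIdeal k A B)).comp
        ((Ideal.Quotient.mk ((maximalIdeal A ^ 1).map (algebraMap A (A ⊗[k] B)))).comp
          (algebraMap B (A ⊗[k] B))) := by
    rw [← RingHom.comp_assoc, Ideal.Quotient.factor_comp_mk]
  rw [heq]
  exact RingHom.Finite.comp (RingHom.Finite.of_surjective _ h2) h1

theorem isArtinianRing_quot : IsArtinianRing ((A ⊗[k] B) ⧸ EGA4.cTensorIdeal k A B) := by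
  let g : B ⧸ maximalIdeal B →+* (A ⊗[k] B) ⧸ EGA4.cTensorIdeal k A B :=
    Ideal.Quotient.lift (maximalIdeal B)
      ((Ideal.Quotient.mk (EGA4.cTensorIdeal k A B)).comp (algebraMap B (A ⊗[k] B)))
      (fun b hb => by
        rw [RingHom.comp_apply, Ideal.Quotient.eq_zero_iff_mem, cTensorIdeal_eq]
        exact Ideal.mem_sup_right (Ideal.mem_map_of_mem _ hb))
  have hg : g.Finite := by
    refine RingHom.Finite.of_comp_finite (f := Ideal.Quotient.mk (maximalIdeal B)) ?_
    have : g.comp (Ideal.Quotient.mk (maximalIdeal B)) =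
        (Ideal.Quotient.mk (EGA4.cTensorIdeal k A B)).comp (algebraMap B (A ⊗[k] B)) :=
      Ideal.Quotient.lift_comp_mk _ _ _
    rw [this]
    exact finite_quot_c k A B
  letI : Field (B ⧸ maximalIdeal B) := Ideal.Quotient.field _
  letI := g.toAlgebra
  haveI : Module.Finite (B ⧸ maximalIdeal B) ((A ⊗[k] B) ⧸ EGA4.cTensorIdeal k A B) := hg
  exact IsArtinianRing.of_finite (B ⧸ maximalIdeal B) _

theorem isNoetherianRing_cTensor : IsNoetherianRing (EGA4.CTensor k A B) := by
  haveI := isArtinianRing_quot k A B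
  haveI : IsNoetherianRing ((A ⊗[k] B) ⧸ EGA4.cTensorIdeal k A B) := inferInstance
  exact CTF.isNoetherianRing _ (cTensorIdeal_fg k A B)

theorem finite_maximalSpectrum_cTensor : Finite (MaximalSpectrum (EGA4.CTensor k A B)) := by
  haveI := isArtinianRing_quot k A B
  exact CTF.finite_maximalSpectrum _ (cTensorIdeal_fg k A B)

end Loc

end Groth.Agent.Helper2.CT4
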