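import Mathlib
import Groth.Prelude
import Groth.Agent.Helper1.CompletionFlat
import Groth.Agent.Helper1.LocalFlat

set_option autoImplicit false
set_option linter.style.haveILetI false

namespace Groth.Agent.Helper2.CTF

open AdicCompletion IsLocalRing TensorProduct

universe u

section Flat

variable (A : Type u) [CommRing A] [IsNoetherianRing A] (T : Type u) [CommRing T] [Algebra A T]
  [Module.Flat A T] (𝔞 : Ideal A) (I : Ideal T) (hI : I = 𝔞.map (algebraMap A T))

instance : IsScalarTower A T (AdicCompletion I T) :=
  IsScalarTower.of_algebraMap_eq fun r => by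
    rw [AdicCompletion.algebraMap_apply, AdicCompletion.algebraMap_apply, Algebra.algebraMap_self,
      RingHom.id_apply]

include hI

theorem fg_of_eq_map : I.FG := by
  rw [hI]; exact Ideal.FG.map (IsNoetherian.noetherian _) _

theorem map_pow_eq (k : ℕ) :
    (𝔞 ^ k).map (algebraMap A (AdicCompletion I T)) =
      (I ^ k).map (algebraMap T (AdicCompletion I T)) := by
  rw [IsScalarTower.algebraMap_eq A T (AdicCompletion I T), ← Ideal.map_map,
    Ideal.map_pow, ← hI]

theorem mem_smul_top_iff (k : ℕ) (t : AdicCompletion I T) :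
    t ∈ (𝔞 ^ k • ⊤ : Submodule A (AdicCompletion I T)) ↔
      AdicCompletion.eval I T k t = 0 := by
  have hfg := fg_of_eq_map A T 𝔞 I hI
  rw [Ideal.smul_top_eq_map, Submodule.restrictScalars_mem, map_pow_eq A T 𝔞 I hI,
    ← LinearMap.mem_ker, ← AdicCompletion.pow_smul_top_eq_ker_eval hfg, Ideal.smul_top_eq_map,
    Submodule.restrictScalars_mem]

/-- The completion of a flat `A`-algebra `T` along `𝔞 T` is flat over `A` (when Noetherian). -/
theorem flat [IsNoetherianRing (AdicCompletion I T)] : Module.Flat A (AdicCompletion I T) := by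
  have hfg := fg_of_eq_map A T 𝔞 I hI
  haveI := AdicCompletion.isAdicComplete_self I hfg
  refine Groth.Agent.Helper1.LocalFlat.flat_of_flat_baseChange_pow (A := A)
    (B := AdicCompletion I T) 𝔞 ?_ fun k => ?_
  · have := map_pow_eq A T 𝔞 I hI 1
    rw [pow_one, pow_one] at this
    rw [this]
    exact IsAdicComplete.le_jacobson_bot _
  · let f : T →ₗ[A] AdicCompletion I T :=
      (Algebra.linearMap T (AdicCompletion I T)).restrictScalars A
    have hf : ∀ s, f s = AdicCompletion.of I T s := fun s => by
      change algebraMap T _ s = _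
      rw [AdicCompletion.algebraMap_apply, Algebra.algebraMap_self, RingHom.id_apply]
    refine Groth.Agent.Helper1.CompletionFlat.flat_baseChange_of_bijective (𝔞 ^ k) f
      (fun t => ?_) (fun s hs => ?_)
    · obtain ⟨s, hs⟩ := Submodule.Quotient.mk_surjective _ (AdicCompletion.eval I T k t)
      refine ⟨s, ?_⟩
      rw [mem_smul_top_iff A T 𝔞 I hI, map_sub, hf, AdicCompletion.eval_of, sub_eq_zero]
      exact hs.symm
    · rw [mem_smul_top_iff A T 𝔞 I hI, hf, AdicCompletion.eval_of, Submodule.mkQ_apply,
        Submodule.Quotient.mk_eq_zero] at hs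
      rw [Ideal.smul_top_eq_map, Submodule.restrictScalars_mem, Ideal.map_pow, ← hI]
      rwa [Ideal.smul_top_eq_map, Submodule.restrictScalars_mem, Algebra.algebraMap_self,
        Ideal.map_id] at hs

end Flat

end Groth.Agent.Helper2.CTF
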