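import Mathlib
import Groth.Prelude
import Groth.Agent.Helper2.CT4B
import Groth.Agent.Helper2.CTF2
import Groth.Agent.Helper2.ComplLift
import Groth.Agent.Helper2.ComplLocFlat

set_option autoImplicit false
set_option linter.style.haveILetI false
set_option linter.unusedSectionVars false

namespace Groth.Agent.Helper2.CT4

open IsLocalRing TensorProduct AdicCompletion

universe u

attribute [local instance] Algebra.TensorProduct.rightAlgebra

section Loc

variable (k A B : Type u) [Field k] [CommRing A] [CommRing B] [Algebra k A] [Algebra k B]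
  [IsLocalRing A] [IsLocalRing B] [IsNoetherianRing A] [IsNoetherianRing B]
  [Module.Finite k (ResidueField A)]

/-- `m^j C` as the extension of `m^j T`. -/
theorem map_pow_A (j : ℕ) :
    (maximalIdeal A ^ j).map (algebraMap A (EGA4.CTensor k A B)) =
      ((maximalIdeal A ^ j).map (algebraMap A (A ⊗[k] B))).map
        (algebraMap (A ⊗[k] B) (EGA4.CTensor k A B)) := by
  rw [Ideal.map_map, ← IsScalarTower.algebraMap_eq]

theorem map_B (J : Ideal B) :
    J.map (algebraMap B (EGA4.CTensor k A B)) =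
      (J.map (algebraMap B (A ⊗[k] B))).map
        (algebraMap (A ⊗[k] B) (EGA4.CTensor k A B)) := by
  rw [Ideal.map_map, ← IsScalarTower.algebraMap_eq]

/-- `𝔠^j C ⊆ m^j C + n C`. -/
theorem map_pow_c_le (j : ℕ) :
    (EGA4.cTensorIdeal k A B ^ j).map (algebraMap (A ⊗[k] B) (EGA4.CTensor k A B)) ≤
      (maximalIdeal A ^ j).map (algebraMap A (EGA4.CTensor k A B)) ⊔
        (maximalIdeal B).map (algebraMap B (EGA4.CTensor k A B)) := by
  rw [map_pow_A, map_B, ← Ideal.map_sup, Ideal.map_pow (algebraMap A (A ⊗[k] B))]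
  exact Ideal.map_mono (by rw [cTensorIdeal_eq]; exact sup_pow_le _ _ j)

theorem map_B_le_jacobson :
    (maximalIdeal B).map (algebraMap B (EGA4.CTensor k A B)) ≤
      (⊥ : Ideal (EGA4.CTensor k A B)).jacobson := by
  haveI := AdicCompletion.isAdicComplete_self _ (cTensorIdeal_fg k A B)
  refine le_trans ?_ (IsAdicComplete.le_jacobson_bot
    ((EGA4.cTensorIdeal k A B).map (algebraMap (A ⊗[k] B) (EGA4.CTensor k A B))))
  rw [map_B]
  exact Ideal.map_mono (by rw [cTensorIdeal_eq]; exact le_sup_right)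

theorem map_A_le_jacobson :
    (maximalIdeal A).map (algebraMap A (EGA4.CTensor k A B)) ≤
      (⊥ : Ideal (EGA4.CTensor k A B)).jacobson := by
  haveI := AdicCompletion.isAdicComplete_self _ (cTensorIdeal_fg k A B)
  refine le_trans ?_ (IsAdicComplete.le_jacobson_bot
    ((EGA4.cTensorIdeal k A B).map (algebraMap (A ⊗[k] B) (EGA4.CTensor k A B))))
  have := map_pow_A k A B 1
  rw [pow_one] at this
  rw [this]
  exact Ideal.map_mono (by rw [cTensorIdeal_eq]; exact le_sup_left)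

/-- `B → C/m^j C` is finite (uses completeness of `B`). -/
theorem finite_quot_C [IsAdicComplete (maximalIdeal B) B] (j : ℕ) :
    ((Ideal.Quotient.mk ((maximalIdeal A ^ j).map (algebraMap A (EGA4.CTensor k A B)))).comp
      (algebraMap B (EGA4.CTensor k A B))).Finite := by
  haveI hCn := isNoetherianRing_cTensor k A B
  set 𝔪ⱼ := (maximalIdeal A ^ j).map (algebraMap A (EGA4.CTensor k A B)) with h𝔪
  set φ := (Ideal.Quotient.mk 𝔪ⱼ).comp (algebraMap B (EGA4.CTensor k A B)) with hφ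
  set K := (maximalIdeal B).map φ with hK
  have hfgc := cTensorIdeal_fg k A B
  -- `K` is in the Jacobson radical
  have hKjac : K ≤ (⊥ : Ideal (EGA4.CTensor k A B ⧸ 𝔪ⱼ)).jacobson := by
    rw [Ideal.jacobson]
    refine le_sInf ?_
    rintro Q ⟨-, hQ⟩
    haveI := hQ
    haveI : (Q.comap (Ideal.Quotient.mk 𝔪ⱼ)).IsMaximal :=
      Ideal.comap_isMaximal_of_surjective _ Ideal.Quotient.mk_surjective
    have h1 : (maximalIdeal B).map (algebraMap B (EGA4.CTensor k A B)) ≤
        Q.comap (Ideal.Quotient.mk 𝔪ⱼ) := by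
      refine (map_B_le_jacobson k A B).trans ?_
      rw [Ideal.jacobson]
      exact sInf_le ⟨bot_le, inferInstance⟩
    rw [hK, hφ, ← Ideal.map_map, Ideal.map_le_iff_le_comap]
    exact h1
  haveI : IsHausdorff K (EGA4.CTensor k A B ⧸ 𝔪ⱼ) := IsHausdorff.of_le_jacobson _ _ hKjac
  refine ComplLift.finite_of_complete φ (maximalIdeal B) K rfl ?_
  -- the map `T/m^j T → D/K`
  let ψ : (A ⊗[k] B) ⧸ (maximalIdeal A ^ j).map (algebraMap A (A ⊗[k] B)) →+*
      (EGA4.CTensor k A B ⧸ 𝔪ⱼ) ⧸ K :=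
    Ideal.Quotient.lift _ ((Ideal.Quotient.mk K).comp ((Ideal.Quotient.mk 𝔪ⱼ).comp
      (algebraMap (A ⊗[k] B) (EGA4.CTensor k A B)))) (fun t ht => by
        rw [RingHom.comp_apply, RingHom.comp_apply]
        have : Ideal.Quotient.mk 𝔪ⱼ (algebraMap (A ⊗[k] B) (EGA4.CTensor k A B) t) = 0 := by
          rw [Ideal.Quotient.eq_zero_iff_mem, h𝔪, map_pow_A]
          exact Ideal.mem_map_of_mem _ ht
        rw [this, _root_.map_zero])
  have hψmk : ψ.comp (Ideal.Quotient.mk _) = (Ideal.Quotient.mk K).comp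
      ((Ideal.Quotient.mk 𝔪ⱼ).comp (algebraMap (A ⊗[k] B) (EGA4.CTensor k A B))) :=
    Ideal.Quotient.lift_comp_mk _ _ _
  have hψ : Function.Surjective ψ := by
    intro y
    obtain ⟨y, rfl⟩ := Ideal.Quotient.mk_surjective y
    obtain ⟨c, rfl⟩ := Ideal.Quotient.mk_surjective y
    obtain ⟨t, ht⟩ := ComplLocFlat.exists_sub_mem (EGA4.cTensorIdeal k A B) hfgc j c
    refine ⟨Ideal.Quotient.mk _ t, ?_⟩
    rw [Ideal.Quotient.lift_mk, RingHom.comp_apply, RingHom.comp_apply, eq_comm,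
      Ideal.Quotient.eq, ← map_sub]
    have h2 := map_pow_c_le k A B j ht
    obtain ⟨u, hu, v, hv, huv⟩ := Submodule.mem_sup.mp h2
    rw [← huv, map_add, Ideal.Quotient.eq_zero_iff_mem.mpr hu, zero_add, hK, hφ, ← Ideal.map_map]
    exact Ideal.mem_map_of_mem _ hv
  have heq : (Ideal.Quotient.mk K).comp φ =
      ψ.comp ((Ideal.Quotient.mk ((maximalIdeal A ^ j).map (algebraMap A (A ⊗[k] B)))).comp
        (algebraMap B (A ⊗[k] B))) := by
    apply RingHom.ext
    intro b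
    have h1 := congrArg (fun f => f (algebraMap B (A ⊗[k] B) b)) hψmk
    simp only [RingHom.comp_apply] at h1 ⊢
    rw [h1, hφ, RingHom.comp_apply,
      IsScalarTower.algebraMap_apply B (A ⊗[k] B) (EGA4.CTensor k A B) b]
  rw [heq]
  exact RingHom.Finite.comp (RingHom.Finite.of_surjective _ hψ) (finite_quot_pow_map k A B j)

/-- `T → C/m^j C` is surjective. -/
theorem exists_sub_mem_A [IsAdicComplete (maximalIdeal B) B] (j : ℕ) (c : EGA4.CTensor k A B) :
    ∃ t : A ⊗[k] B, c - algebraMap (A ⊗[k] B) (EGA4.CTensor k A B) t ∈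
      (maximalIdeal A ^ j).map (algebraMap A (EGA4.CTensor k A B)) := by
  set 𝔪ⱼ := (maximalIdeal A ^ j).map (algebraMap A (EGA4.CTensor k A B)) with h𝔪
  have hfgc := cTensorIdeal_fg k A B
  haveI : Module.Finite B (EGA4.CTensor k A B ⧸ 𝔪ⱼ) :=
    RingHom.finite_algebraMap.mp (finite_quot_C k A B j)
  let θ : (A ⊗[k] B) →ₗ[B] EGA4.CTensor k A B ⧸ 𝔪ⱼ :=
    ((Ideal.Quotient.mkₐ B 𝔪ⱼ).toLinearMap).comp
      ((IsScalarTower.toAlgHom B (A ⊗[k] B) (EGA4.CTensor k A B)).toLinearMap)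
  have hθ : ∀ t, θ t = Ideal.Quotient.mk 𝔪ⱼ (algebraMap (A ⊗[k] B) (EGA4.CTensor k A B) t) :=
    fun t => rfl
  have key : (⊤ : Submodule B (EGA4.CTensor k A B ⧸ 𝔪ⱼ)) ≤
      LinearMap.range θ ⊔ maximalIdeal B • ⊤ := by
    intro d _
    obtain ⟨c, rfl⟩ := Ideal.Quotient.mk_surjective d
    obtain ⟨t, ht⟩ := ComplLocFlat.exists_sub_mem (EGA4.cTensorIdeal k A B) hfgc j c
    have h2 := map_pow_c_le k A B j ht
    obtain ⟨u, hu, v, hv, huv⟩ := Submodule.mem_sup.mp h2
    have h3 : Ideal.Quotient.mk 𝔪ⱼ c = θ t + Ideal.Quotient.mk 𝔪ⱼ v := by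
      have h4 : c = algebraMap (A ⊗[k] B) (EGA4.CTensor k A B) t + (u + v) := by
        rw [huv]; ring
      rw [h4, map_add, map_add, Ideal.Quotient.eq_zero_iff_mem.mpr hu, zero_add, hθ]
    rw [h3]
    refine Submodule.add_mem_sup ⟨t, rfl⟩ ?_
    rw [Ideal.smul_top_eq_map, Submodule.restrictScalars_mem]
    have h5 : (maximalIdeal B).map (algebraMap B (EGA4.CTensor k A B ⧸ 𝔪ⱼ)) =
        ((maximalIdeal B).map (algebraMap B (EGA4.CTensor k A B))).map
          (Ideal.Quotient.mk 𝔪ⱼ) := by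
      rw [Ideal.map_map]; rfl
    rw [h5]
    exact Ideal.mem_map_of_mem _ hv
  have htop := Submodule.le_of_le_smul_of_le_jacobson_bot (Module.Finite.fg_top)
    (maximalIdeal_le_jacobson ⊥) key
  obtain ⟨t, ht⟩ := htop (Submodule.mem_top : Ideal.Quotient.mk 𝔪ⱼ c ∈ ⊤)
  refine ⟨t, ?_⟩
  rw [← Ideal.Quotient.eq, ← ht, hθ]

/-- `T/m^j T → C/m^j C` is injective. -/
theorem mem_of_map_mem (j : ℕ) (t : A ⊗[k] B)
    (ht : algebraMap (A ⊗[k] B) (EGA4.CTensor k A B) t ∈
      (maximalIdeal A ^ j).map (algebraMap A (EGA4.CTensor k A B))) :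
    t ∈ (maximalIdeal A ^ j).map (algebraMap A (A ⊗[k] B)) := by
  set Ij := (maximalIdeal A ^ j).map (algebraMap A (A ⊗[k] B)) with hIj
  haveI : Module.Finite B ((A ⊗[k] B) ⧸ Ij) :=
    RingHom.finite_algebraMap.mp (finite_quot_pow_map k A B j)
  haveI : IsHausdorff (maximalIdeal B) ((A ⊗[k] B) ⧸ Ij) := inferInstance
  rw [← Ideal.Quotient.eq_zero_iff_mem]
  apply IsHausdorff.haus' (I := maximalIdeal B)
  intro N
  rw [SModEq.zero]
  rw [map_pow_A] at ht
  have h1 : Ideal.Quotient.mk (EGA4.cTensorIdeal k A B ^ (j + N)) t ∈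
      Ij.map (Ideal.Quotient.mk (EGA4.cTensorIdeal k A B ^ (j + N))) := by
    have hle : Ij.map (algebraMap (A ⊗[k] B) (EGA4.CTensor k A B)) ≤
        (Ij.map (Ideal.Quotient.mk (EGA4.cTensorIdeal k A B ^ (j + N)))).comap
          (evalₐ (EGA4.cTensorIdeal k A B) (j + N)).toRingHom := by
      rw [Ideal.map_le_iff_le_comap]
      intro s hs
      rw [Ideal.mem_comap, Ideal.mem_comap]
      change evalₐ (EGA4.cTensorIdeal k A B) (j + N)
        (algebraMap (A ⊗[k] B) (EGA4.CTensor k A B) s) ∈ _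
      rw [AlgHom.commutes]
      exact Ideal.mem_map_of_mem _ hs
    have h6 := hle ht
    rw [Ideal.mem_comap] at h6
    change evalₐ (EGA4.cTensorIdeal k A B) (j + N)
      (algebraMap (A ⊗[k] B) (EGA4.CTensor k A B) t) ∈ _ at h6
    rwa [AlgHom.commutes] at h6
  rw [Ideal.mem_quotient_iff_mem_sup] at h1
  have h2 : Ij ⊔ EGA4.cTensorIdeal k A B ^ (j + N) ≤
      Ij ⊔ (maximalIdeal B ^ N).map (algebraMap B (A ⊗[k] B)) := by
    refine sup_le le_sup_left ?_
    rw [cTensorIdeal_eq]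
    refine Ideal.sup_pow_add_le_pow_sup_pow.trans ?_
    rw [← Ideal.map_pow, ← Ideal.map_pow]
  obtain ⟨s, hs, v, hv, hsv⟩ := Submodule.mem_sup.mp (h2 h1)
  rw [← hsv, map_add, Ideal.Quotient.eq_zero_iff_mem.mpr hs, zero_add]
  rw [Ideal.smul_top_eq_map, Submodule.restrictScalars_mem]
  have h5 : (maximalIdeal B ^ N).map (algebraMap B ((A ⊗[k] B) ⧸ Ij)) =
      ((maximalIdeal B ^ N).map (algebraMap B (A ⊗[k] B))).map (Ideal.Quotient.mk Ij) := by
    rw [Ideal.map_map]; rfl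
  rw [h5]
  exact Ideal.mem_map_of_mem _ hv

end Loc

end Groth.Agent.Helper2.CT4
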