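import Mathlib
import Groth.Prelude
import Groth.Agent.Helper2.CT4C
import Groth.Agent.Helper1.CompletionFlat
import Groth.Agent.Helper1.LocalFlat
import Groth.Agent.Helper1.FlatKrull

set_option autoImplicit false
set_option linter.style.haveILetI false
set_option linter.unusedSectionVars false

namespace Groth.Agent.Helper2.CT4

open IsLocalRing TensorProduct AdicCompletion

universe u

attribute [local instance] Algebra.TensorProduct.rightAlgebra

section Loc

variable (k A B : Type u) [Field k] [CommRing A] [CommRing B] [Algebra k A] [Algebra k B]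
  [IsLocalRing A] [IsLocalRing B] [IsNoetherianRing A] [IsNoetherianRing B]
  [Module.Finite k (ResidueField A)] [IsAdicComplete (maximalIdeal B) B]

theorem flat_A : Module.Flat A (EGA4.CTensor k A B) := by
  haveI := isNoetherianRing_cTensor k A B
  refine Groth.Agent.Helper1.LocalFlat.flat_of_flat_baseChange_pow (A := A)
    (B := EGA4.CTensor k A B) (maximalIdeal A) (map_A_le_jacobson k A B) fun j => ?_
  let f : (A ⊗[k] B) →ₗ[A] EGA4.CTensor k A B :=
    (Algebra.linearMap (A ⊗[k] B) (EGA4.CTensor k A B)).restrictScalars A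
  refine Groth.Agent.Helper1.CompletionFlat.flat_baseChange_of_bijective (maximalIdeal A ^ j) f
    (fun c => ?_) (fun s hs => ?_)
  · obtain ⟨t, ht⟩ := exists_sub_mem_A k A B j c
    refine ⟨t, ?_⟩
    rw [Ideal.smul_top_eq_map, Submodule.restrictScalars_mem]
    exact ht
  · rw [Ideal.smul_top_eq_map, Submodule.restrictScalars_mem] at hs ⊢
    exact mem_of_map_mem k A B j s hs

/-- The `B`-algebra isomorphism `T/m^j T ≃ C/m^j C`. -/
noncomputable def quotEquivPow (j : ℕ) :
    ((A ⊗[k] B) ⧸ (maximalIdeal A ^ j).map (algebraMap A (A ⊗[k] B))) ≃ₐ[B]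
      (EGA4.CTensor k A B ⧸ (maximalIdeal A ^ j).map (algebraMap A (EGA4.CTensor k A B))) :=
  AlgEquiv.ofBijective
    (Ideal.quotientMapₐ ((maximalIdeal A ^ j).map (algebraMap A (EGA4.CTensor k A B)))
      (IsScalarTower.toAlgHom B (A ⊗[k] B) (EGA4.CTensor k A B)) (by
        rw [← Ideal.map_le_iff_le_comap]
        exact (map_pow_A k A B j).ge))
    (by
      constructor
      · rw [injective_iff_map_eq_zero]
        intro x hx
        obtain ⟨t, rfl⟩ := Ideal.Quotient.mk_surjective x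
        rw [Ideal.quotient_map_mkₐ, Ideal.Quotient.mkₐ_eq_mk, Ideal.Quotient.eq_zero_iff_mem] at hx
        rw [Ideal.Quotient.eq_zero_iff_mem]
        exact mem_of_map_mem k A B j t hx
      · intro y
        obtain ⟨c, rfl⟩ := Ideal.Quotient.mk_surjective y
        obtain ⟨t, ht⟩ := exists_sub_mem_A k A B j c
        refine ⟨Ideal.Quotient.mk _ t, ?_⟩
        rw [Ideal.quotient_map_mkₐ, Ideal.Quotient.mkₐ_eq_mk, eq_comm, Ideal.Quotient.eq]
        exact ht)

omit [IsLocalRing A] [IsLocalRing B] [IsNoetherianRing A] [IsNoetherianRing B]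
  [Module.Finite k (ResidueField A)] [IsAdicComplete (maximalIdeal B) B] [Algebra k A] in
/-- `V ⊗ B` is flat over `B` (acting on the right). -/
theorem flat_tensor_right (V : Type u) [CommRing V] [Algebra k V] : Module.Flat B (V ⊗[k] B) := by
  let e : V ⊗[k] B ≃ₐ[B] B ⊗[k] V :=
    AlgEquiv.ofRingEquiv (f := (Algebra.TensorProduct.comm k V B).toRingEquiv) (fun b => by
      change Algebra.TensorProduct.comm k V B (algebraMap B (V ⊗[k] B) b) = _
      rw [Algebra.TensorProduct.right_algebraMap_apply, Algebra.TensorProduct.comm_tmul,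
        Algebra.TensorProduct.algebraMap_apply]
      rfl)
  exact Module.Flat.of_linearEquiv e.toLinearEquiv

theorem flat_quot_T (j : ℕ) :
    Module.Flat B ((A ⊗[k] B) ⧸ (maximalIdeal A ^ j).map (algebraMap A (A ⊗[k] B))) := by
  let e0 := Algebra.TensorProduct.quotientTensorEquiv (R := k) k B A (maximalIdeal A ^ j)
  let e : ((A ⧸ maximalIdeal A ^ j) ⊗[k] B) ≃ₐ[B]
      (A ⊗[k] B) ⧸ (maximalIdeal A ^ j).map (algebraMap A (A ⊗[k] B)) :=
    AlgEquiv.ofRingEquiv (f := e0.toRingEquiv) (fun b => by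
      change e0 ((1 : A ⧸ maximalIdeal A ^ j) ⊗ₜ[k] b) = _
      rw [← map_one (Ideal.Quotient.mk (maximalIdeal A ^ j)),
        Algebra.TensorProduct.quotientTensorEquiv_apply_tmul]
      rfl)
  haveI := flat_tensor_right k B (A ⧸ maximalIdeal A ^ j)
  exact Module.Flat.of_linearEquiv e.symm.toLinearEquiv

theorem flat_B : Module.Flat B (EGA4.CTensor k A B) := by
  haveI := isNoetherianRing_cTensor k A B
  set mC := (maximalIdeal A).map (algebraMap A (EGA4.CTensor k A B)) with hmC
  refine Groth.Agent.Helper1.FlatKrull.flat_of_ker_le_iInf (A := B) (B := EGA4.CTensor k A B)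
    (M := EGA4.CTensor k A B) mC (map_A_le_jacobson k A B) ?_
  intro J x hx n
  haveI : Module.Flat B (EGA4.CTensor k A B ⧸
      (mC ^ n • ⊤ : Submodule (EGA4.CTensor k A B) (EGA4.CTensor k A B))) := by
    have heq : (mC ^ n • ⊤ : Submodule (EGA4.CTensor k A B) (EGA4.CTensor k A B)) =
        (maximalIdeal A ^ n).map (algebraMap A (EGA4.CTensor k A B)) := by
      rw [smul_eq_mul, Ideal.mul_top, hmC, ← Ideal.map_pow]
    haveI := flat_quot_T k A B n
    let e1 := (quotEquivPow k A B n).toLinearEquiv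
    let e2 : (EGA4.CTensor k A B ⧸
        (mC ^ n • ⊤ : Submodule (EGA4.CTensor k A B) (EGA4.CTensor k A B))) ≃ₗ[B]
        (EGA4.CTensor k A B ⧸ (maximalIdeal A ^ n).map (algebraMap A (EGA4.CTensor k A B))) :=
      (Submodule.quotEquivOfEq _ _ heq).restrictScalars B
    exact Module.Flat.of_linearEquiv (e2.trans e1.symm)
  exact Groth.Agent.Helper1.FlatKrull.ker_le_smul_top_of_flat (mC ^ n) J x hx

theorem nonempty_equiv :
    Nonempty ((EGA4.CTensor k A B ⧸ (maximalIdeal A).map (algebraMap A (EGA4.CTensor k A B))) ≃+*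
      ((A ⧸ maximalIdeal A) ⊗[k] B)) := by
  let ea : (EGA4.CTensor k A B ⧸ (maximalIdeal A).map (algebraMap A (EGA4.CTensor k A B))) ≃+*
      (EGA4.CTensor k A B ⧸ (maximalIdeal A ^ 1).map (algebraMap A (EGA4.CTensor k A B))) :=
    Ideal.quotEquivOfEq (by rw [pow_one])
  let eb := (quotEquivPow k A B 1).symm.toRingEquiv
  let ec : ((A ⊗[k] B) ⧸ (maximalIdeal A ^ 1).map (algebraMap A (A ⊗[k] B))) ≃+*
      ((A ⊗[k] B) ⧸ (maximalIdeal A).map (algebraMap A (A ⊗[k] B))) :=
    Ideal.quotEquivOfEq (by rw [pow_one])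
  let ed := (Algebra.TensorProduct.quotientTensorEquiv (R := k) k B A
    (maximalIdeal A)).symm.toRingEquiv
  exact ⟨ea.trans (eb.trans (ec.trans ed))⟩

theorem finite_residue (M : Ideal (EGA4.CTensor k A B)) [M.IsMaximal] :
    Module.Finite B (EGA4.CTensor k A B ⧸ M) := by
  have hfgc := cTensorIdeal_fg k A B
  have hJM := CTF.le_of_isMaximal (EGA4.cTensorIdeal k A B) hfgc M
  rw [← RingHom.finite_algebraMap]
  let ψ : (A ⊗[k] B) ⧸ EGA4.cTensorIdeal k A B →+* EGA4.CTensor k A B ⧸ M :=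
    Ideal.Quotient.lift _ ((Ideal.Quotient.mk M).comp
      (algebraMap (A ⊗[k] B) (EGA4.CTensor k A B))) (fun t ht => by
        rw [RingHom.comp_apply, Ideal.Quotient.eq_zero_iff_mem]
        exact hJM (Ideal.mem_map_of_mem _ ht))
  have hψmk : ψ.comp (Ideal.Quotient.mk _) = (Ideal.Quotient.mk M).comp
      (algebraMap (A ⊗[k] B) (EGA4.CTensor k A B)) :=
    Ideal.Quotient.lift_comp_mk _ _ _
  have hψ : Function.Surjective ψ := by
    intro y
    obtain ⟨c, rfl⟩ := Ideal.Quotient.mk_surjective y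
    obtain ⟨t, ht⟩ := ComplLocFlat.exists_sub_mem (EGA4.cTensorIdeal k A B) hfgc 1 c
    rw [pow_one] at ht
    refine ⟨Ideal.Quotient.mk _ t, ?_⟩
    rw [Ideal.Quotient.lift_mk, RingHom.comp_apply, eq_comm, Ideal.Quotient.eq]
    exact hJM ht
  have heq : algebraMap B (EGA4.CTensor k A B ⧸ M) =
      ψ.comp ((Ideal.Quotient.mk (EGA4.cTensorIdeal k A B)).comp (algebraMap B (A ⊗[k] B))) := by
    apply RingHom.ext
    intro b
    have h1 := congrArg (fun f => f (algebraMap B (A ⊗[k] B) b)) hψmk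
    simp only [RingHom.comp_apply] at h1 ⊢
    rw [h1, ← IsScalarTower.algebraMap_apply B (A ⊗[k] B) (EGA4.CTensor k A B) b]
    rfl
  rw [heq]
  exact RingHom.Finite.comp (RingHom.Finite.of_surjective _ hψ) (finite_quot_c k A B)

theorem main :
    (IsNoetherianRing (EGA4.CTensor k A B) ∧
        (Set.univ : Set (MaximalSpectrum (EGA4.CTensor k A B))).Finite) ∧
      (Module.Flat A (EGA4.CTensor k A B) ∧ Module.Flat B (EGA4.CTensor k A B)) ∧
      ((IsLocalRing.maximalIdeal A).map (algebraMap A (EGA4.CTensor k A B)) ≤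
          (⊥ : Ideal (EGA4.CTensor k A B)).jacobson ∧
        Nonempty ((EGA4.CTensor k A B ⧸
            (IsLocalRing.maximalIdeal A).map (algebraMap A (EGA4.CTensor k A B))) ≃+*
          ((A ⧸ IsLocalRing.maximalIdeal A) ⊗[k] B))) ∧
      (∀ (M : Ideal (EGA4.CTensor k A B)) [M.IsMaximal],
        Module.Finite B (EGA4.CTensor k A B ⧸ M)) := by
  haveI := finite_maximalSpectrum_cTensor k A B
  exact ⟨⟨isNoetherianRing_cTensor k A B, Set.finite_univ⟩, ⟨flat_A k A B, flat_B k A B⟩,
    ⟨map_A_le_jacobson k A B, nonempty_equiv k A B⟩, fun M _ => finite_residue k A B M⟩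

end Loc

end Groth.Agent.Helper2.CT4
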