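import Mathlib
import Groth.Prelude
import Groth.Agent.Helper2.CTF1
import Groth.Agent.Helper2.CTF2
import Groth.Agent.Helper2.SmoothStalk
import Groth.Agent.Helper2.ComplLocFlat

set_option autoImplicit false
set_option linter.style.haveILetI false

namespace Groth.Agent.Helper2.CTF

open AdicCompletion IsLocalRing TensorProduct

universe u

section S1

variable (k A k' : Type u) [Field k] [CommRing A] [IsLocalRing A] [Algebra k A]
  [Module.Finite k (ResidueField A)] [Field k'] [Algebra k k'] (I : Ideal (A ⊗[k] k'))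
  (hI : I = (maximalIdeal A).map (algebraMap A (A ⊗[k] k')))

include hI

theorem finite_quot :
    ((Ideal.Quotient.mk I).comp
      (Algebra.TensorProduct.includeRight : k' →ₐ[k] A ⊗[k] k').toRingHom).Finite := by
  let φ₁ : k' →ₐ[k] (A ⊗[k] k') ⧸ I :=
    (Ideal.Quotient.mkₐ k I).comp Algebra.TensorProduct.includeRight
  let φ₂ : ResidueField A →ₐ[k] (A ⊗[k] k') ⧸ I :=
    Ideal.Quotient.liftₐ (maximalIdeal A)
      ((Ideal.Quotient.mkₐ k I).comp Algebra.TensorProduct.includeLeft) (fun a ha => by
        rw [AlgHom.comp_apply, Ideal.Quotient.mkₐ_eq_mk, Ideal.Quotient.eq_zero_iff_mem, hI]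
        exact Ideal.mem_map_of_mem _ ha)
  let h : k' ⊗[k] ResidueField A →ₐ[k] (A ⊗[k] k') ⧸ I := Algebra.TensorProduct.productMap φ₁ φ₂
  have hsurj : Function.Surjective h := by
    intro y
    obtain ⟨t, rfl⟩ := Ideal.Quotient.mk_surjective y
    induction t using TensorProduct.induction_on with
    | zero => exact ⟨0, map_zero _⟩
    | tmul a c =>
      refine ⟨c ⊗ₜ[k] (residue A a), ?_⟩
      rw [Algebra.TensorProduct.productMap_apply_tmul]
      change Ideal.Quotient.mk I ((1 : A) ⊗ₜ[k] c) * Ideal.Quotient.mk I (a ⊗ₜ[k] (1 : k')) = _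
      rw [← map_mul, Algebra.TensorProduct.tmul_mul_tmul, one_mul, mul_one]
    | add x y hx hy =>
      obtain ⟨x', hx'⟩ := hx
      obtain ⟨y', hy'⟩ := hy
      exact ⟨x' + y', by rw [map_add, hx', hy', map_add]⟩
  have heq : (Ideal.Quotient.mk I).comp
      (Algebra.TensorProduct.includeRight : k' →ₐ[k] A ⊗[k] k').toRingHom =
      h.toRingHom.comp (algebraMap k' (k' ⊗[k] ResidueField A)) := by
    ext c
    change _ = h (algebraMap k' (k' ⊗[k] ResidueField A) c)
    rw [Algebra.TensorProduct.algebraMap_apply, Algebra.algebraMap_self, RingHom.id_apply,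
      Algebra.TensorProduct.productMap_apply_tmul, map_one, mul_one]
    rfl
  rw [heq]
  exact RingHom.Finite.comp (RingHom.Finite.of_surjective _ hsurj)
    (RingHom.finite_algebraMap.mpr inferInstance)

end S1

section Main

variable (k A k' : Type u) [Field k] [CommRing A] [IsNoetherianRing A] [IsLocalRing A] [Algebra k A]
  [Module.Finite k (ResidueField A)] [Field k'] [Algebra k k'] (I : Ideal (A ⊗[k] k'))
  (hI : I = (maximalIdeal A).map (algebraMap A (A ⊗[k] k')))

include hI

theorem main :
    IsNoetherianRing (AdicCompletion I (A ⊗[k] k')) ∧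
      Finite (MaximalSpectrum (AdicCompletion I (A ⊗[k] k'))) ∧
      IsAdicComplete ((IsLocalRing.maximalIdeal A).map (algebraMap A (AdicCompletion I (A ⊗[k] k'))))
        (AdicCompletion I (A ⊗[k] k')) ∧
      ∀ M : MaximalSpectrum (AdicCompletion I (A ⊗[k] k')),
        IsAdicComplete (IsLocalRing.maximalIdeal (Localization.AtPrime M.asIdeal))
            (Localization.AtPrime M.asIdeal) ∧
          Module.FaithfullyFlat A (Localization.AtPrime M.asIdeal) ∧
          ringKrullDim (Localization.AtPrime M.asIdeal) = ringKrullDim A ∧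
          (((Ideal.Quotient.mk M.asIdeal).comp (algebraMap (A ⊗[k] k') (AdicCompletion I (A ⊗[k] k')))).comp
              Algebra.TensorProduct.includeRight.toRingHom).Finite := by
  have hfg : I.FG := fg_of_eq_map A (A ⊗[k] k') (maximalIdeal A) I hI
  have hfin := finite_quot k A k' I hI
  letI alg : Algebra k' ((A ⊗[k] k') ⧸ I) := RingHom.toAlgebra
    ((Ideal.Quotient.mk I).comp
      (Algebra.TensorProduct.includeRight : k' →ₐ[k] A ⊗[k] k').toRingHom)
  haveI : Module.Finite k' ((A ⊗[k] k') ⧸ I) := hfin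
  haveI : IsArtinianRing ((A ⊗[k] k') ⧸ I) := IsArtinianRing.of_finite k' _
  haveI : IsNoetherianRing ((A ⊗[k] k') ⧸ I) := IsNoetherianRing.of_finite k' _
  haveI hCn : IsNoetherianRing (AdicCompletion I (A ⊗[k] k')) := isNoetherianRing I hfg
  have hCf : Finite (MaximalSpectrum (AdicCompletion I (A ⊗[k] k'))) :=
    finite_maximalSpectrum I hfg
  haveI hcompl := AdicCompletion.isAdicComplete_self I hfg
  haveI : Module.Flat A (AdicCompletion I (A ⊗[k] k')) :=
    flat A (A ⊗[k] k') (maximalIdeal A) I hI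
  have hJ : (maximalIdeal A).map (algebraMap A (AdicCompletion I (A ⊗[k] k'))) =
      I.map (algebraMap (A ⊗[k] k') (AdicCompletion I (A ⊗[k] k'))) := by
    have := map_pow_eq A (A ⊗[k] k') (maximalIdeal A) I hI 1
    rwa [pow_one, pow_one] at this
  refine ⟨hCn, hCf, by rw [hJ]; exact hcompl, fun M => ?_⟩
  haveI hMm := M.isMaximal
  have hJM : I.map (algebraMap (A ⊗[k] k') (AdicCompletion I (A ⊗[k] k'))) ≤ M.asIdeal :=
    le_of_isMaximal I hfg M.asIdeal
  have hprimes : ∀ p : Ideal (AdicCompletion I (A ⊗[k] k')), p.IsPrime →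
      I.map (algebraMap (A ⊗[k] k') (AdicCompletion I (A ⊗[k] k'))) ≤ p → p.IsMaximal :=
    fun p hp hle => @isMaximal_of_le _ _ I hfg _ p hp hle
  have hle : (maximalIdeal A).map (algebraMap A (Localization.AtPrime M.asIdeal)) ≤
      maximalIdeal (Localization.AtPrime M.asIdeal) := by
    rw [IsScalarTower.algebraMap_eq A (AdicCompletion I (A ⊗[k] k'))
      (Localization.AtPrime M.asIdeal), ← Ideal.map_map, hJ,
      ← Localization.AtPrime.map_eq_maximalIdeal]
    exact Ideal.map_mono hJM
  haveI hloc : IsLocalHom (algebraMap A (Localization.AtPrime M.asIdeal)) :=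
    ((local_hom_TFAE (algebraMap A (Localization.AtPrime M.asIdeal))).out 0 2).mpr hle
  haveI : Module.Flat (AdicCompletion I (A ⊗[k] k')) (Localization.AtPrime M.asIdeal) :=
    IsLocalization.flat _ M.asIdeal.primeCompl
  haveI : Module.Flat A (Localization.AtPrime M.asIdeal) :=
    Module.Flat.trans A (AdicCompletion I (A ⊗[k] k')) _
  haveI : IsNoetherianRing (Localization.AtPrime M.asIdeal) :=
    IsLocalization.isNoetherianRing M.asIdeal.primeCompl _ inferInstance
  refine ⟨isAdicComplete_localization (AdicCompletion I (A ⊗[k] k'))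
    (I.map (algebraMap (A ⊗[k] k') (AdicCompletion I (A ⊗[k] k')))) hCf hprimes M.asIdeal,
    Module.FaithfullyFlat.of_flat_of_isLocalHom, ?_, ?_⟩
  · -- dimension
    rw [SmoothStalk.dim_eq A (Localization.AtPrime M.asIdeal)]
    set K := (maximalIdeal A).map (algebraMap A (Localization.AtPrime M.asIdeal)) with hK
    have hKeq : K = (I.map (algebraMap (A ⊗[k] k') (AdicCompletion I (A ⊗[k] k')))).map
        (algebraMap (AdicCompletion I (A ⊗[k] k')) (Localization.AtPrime M.asIdeal)) := by
      rw [hK, IsScalarTower.algebraMap_eq A (AdicCompletion I (A ⊗[k] k'))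
        (Localization.AtPrime M.asIdeal), ← Ideal.map_map, hJ]
    have hKne : K ≠ ⊤ := fun h => by
      rw [h] at hle
      exact (maximalIdeal.isMaximal _).ne_top (top_le_iff.mp hle)
    haveI : Nontrivial (Localization.AtPrime M.asIdeal ⧸ K) :=
      Ideal.Quotient.nontrivial_iff.mpr hKne
    have h0 : Ring.KrullDimLE 0 (Localization.AtPrime M.asIdeal ⧸ K) := by
      rw [Ring.krullDimLE_zero_iff]
      intro Q hQ
      haveI := hQ
      have hKQ : K ≤ Q.comap (Ideal.Quotient.mk K) := by
        intro x hx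
        rw [Ideal.mem_comap, Ideal.Quotient.eq_zero_iff_mem.mpr hx]
        exact Q.zero_mem
      have h1 : Q.comap (Ideal.Quotient.mk K) = maximalIdeal (Localization.AtPrime M.asIdeal) :=
        eq_maximalIdeal_of_le _ _ hprimes M.asIdeal _ (hKeq ▸ hKQ)
      have h2 : ((Q.comap (Ideal.Quotient.mk K)).map (Ideal.Quotient.mk K)).IsMaximal := by
        rw [h1]
        exact Ideal.IsMaximal.map_of_surjective_of_ker_le Ideal.Quotient.mk_surjective
          (by rw [Ideal.mk_ker]; exact hle)
      rwa [Ideal.map_comap_of_surjective _ Ideal.Quotient.mk_surjective] at h2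
    rw [ringKrullDimZero_iff_ringKrullDim_eq_zero.mp h0, add_zero]
  · -- residue field finite over `k'`
    let ψ : (A ⊗[k] k') ⧸ I →+* AdicCompletion I (A ⊗[k] k') ⧸ M.asIdeal :=
      Ideal.Quotient.lift I ((Ideal.Quotient.mk M.asIdeal).comp
        (algebraMap (A ⊗[k] k') (AdicCompletion I (A ⊗[k] k')))) (fun t ht => by
          rw [RingHom.comp_apply, Ideal.Quotient.eq_zero_iff_mem]
          exact hJM (Ideal.mem_map_of_mem _ ht))
    have hψ : Function.Surjective ψ := by
      intro y
      obtain ⟨c, rfl⟩ := Ideal.Quotient.mk_surjective y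
      obtain ⟨t, ht⟩ := ComplLocFlat.exists_sub_mem I hfg 1 c
      rw [pow_one] at ht
      refine ⟨Ideal.Quotient.mk I t, ?_⟩
      rw [Ideal.Quotient.lift_mk, RingHom.comp_apply, eq_comm, Ideal.Quotient.eq]
      exact hJM ht
    have heq : ((Ideal.Quotient.mk M.asIdeal).comp
        (algebraMap (A ⊗[k] k') (AdicCompletion I (A ⊗[k] k')))).comp
        (Algebra.TensorProduct.includeRight : k' →ₐ[k] A ⊗[k] k').toRingHom =
        ψ.comp ((Ideal.Quotient.mk I).comp
          (Algebra.TensorProduct.includeRight : k' →ₐ[k] A ⊗[k] k').toRingHom) := by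
      rw [← RingHom.comp_assoc, Ideal.Quotient.lift_comp_mk]
    rw [heq]
    exact RingHom.Finite.comp (RingHom.Finite.of_surjective _ hψ) hfin

end Main

end Groth.Agent.Helper2.CTF
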