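import Mathlib
import Groth.Agent.Helper2.ComplEquiv

set_option autoImplicit false
set_option linter.style.haveILetI false
set_option linter.unusedSectionVars false

noncomputable section

namespace Groth.Agent.Helper2.CdJ

open IsLocalRing

universe u

variable {k R : Type u} [Field k] [CommRing R] [Algebra k R] [IsLocalRing R]
  {r : ℕ} (x : Fin r → R)

/-- evaluation at the chosen generators. -/
def evP : MvPolynomial (Fin r) k →ₐ[k] R := MvPolynomial.aeval x

/-- the prime (in fact maximal) ideal of the polynomial ring below the maximal ideal of `R`. -/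
def nP : Ideal (MvPolynomial (Fin r) k) := (maximalIdeal R).comap (evP (k := k) x)

instance nP_isPrime : (nP (k := k) x).IsPrime := Ideal.comap_isPrime _ _

theorem mem_nP (p : MvPolynomial (Fin r) k) : p ∈ nP (k := k) x ↔ evP x p ∈ maximalIdeal R :=
  Iff.rfl

theorem X_mem_nP (hx : ∀ i, x i ∈ maximalIdeal R) (i : Fin r) :
    (MvPolynomial.X i : MvPolynomial (Fin r) k) ∈ nP (k := k) x := by
  rw [mem_nP, evP, MvPolynomial.aeval_X]
  exact hx i

theorem nP_isMaximal
    (hres : Function.Surjective (fun c : k => IsLocalRing.residue R (algebraMap k R c))) :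
    (nP (k := k) x).IsMaximal := by
  rw [Ideal.isMaximal_iff]
  refine ⟨fun h => ?_, fun J p hle hp hpJ => ?_⟩
  · rw [mem_nP, map_one] at h
    exact (Ideal.IsPrime.ne_top inferInstance) ((Ideal.eq_top_iff_one _).mpr h)
  · obtain ⟨c, hc⟩ := hres (IsLocalRing.residue R (evP x p))
    have hc' : IsLocalRing.residue R (evP x (p - MvPolynomial.C c)) = 0 := by
      rw [map_sub, map_sub, sub_eq_zero]
      have : evP x (MvPolynomial.C c) = algebraMap k R c := by
        rw [evP, MvPolynomial.aeval_C]
      rw [this]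
      exact hc.symm
    have h1 : p - MvPolynomial.C c ∈ nP (k := k) x := by
      rw [mem_nP]
      exact (IsLocalRing.residue_eq_zero_iff _).mp hc'
    have hc0 : c ≠ 0 := by
      rintro rfl
      apply hp
      simpa using h1
    have h2 : (MvPolynomial.C c : MvPolynomial (Fin r) k) ∈ J := by
      have := J.sub_mem hpJ (hle h1)
      simpa using this
    have h3 : (MvPolynomial.C c⁻¹ : MvPolynomial (Fin r) k) * MvPolynomial.C c ∈ J :=
      J.mul_mem_left _ h2
    rw [← MvPolynomial.C_mul, inv_mul_cancel₀ hc0, MvPolynomial.C_1] at h3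
    exact h3

/-- the local ring at `nP`. -/
abbrev OO : Type u := Localization.AtPrime (nP (k := k) x)

theorem isUnit_evP (s : (nP (k := k) x).primeCompl) : IsUnit (evP x (s : MvPolynomial (Fin r) k)) := by
  by_contra hnu
  exact s.2 ((mem_maximalIdeal _).mpr hnu)

/-- evaluation on the local ring. -/
def evO : OO (k := k) x →ₐ[k] R :=
  IsLocalization.liftAlgHom (M := (nP (k := k) x).primeCompl) (f := evP x) (isUnit_evP x)

theorem evO_algebraMap (p : MvPolynomial (Fin r) k) :
    evO x (algebraMap _ (OO (k := k) x) p) = evP x p := by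
  rw [evO, IsLocalization.liftAlgHom_apply, IsLocalization.lift_eq]
  rfl

theorem evO_mem (o : OO (k := k) x) (ho : o ∈ maximalIdeal (OO (k := k) x)) :
    evO x o ∈ maximalIdeal R := by
  obtain ⟨p, s, rfl⟩ := IsLocalization.exists_mk'_eq (nP (k := k) x).primeCompl o
  rw [IsLocalization.AtPrime.mk'_mem_maximal_iff (OO (k := k) x) (nP (k := k) x)] at ho
  have h1 : evO x (IsLocalization.mk' (OO (k := k) x) p s) * evP x (s : MvPolynomial (Fin r) k) =
      evP x p := by
    rw [← evO_algebraMap, ← map_mul, IsLocalization.mk'_spec, evO_algebraMap]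
  have h2 : evO x (IsLocalization.mk' (OO (k := k) x) p s) * evP x (s : MvPolynomial (Fin r) k) ∈
      maximalIdeal R := by
    rw [h1]; exact ho
  rcases Ideal.IsPrime.mem_or_mem inferInstance h2 with h3 | h3
  · exact h3
  · exact absurd (isUnit_evP x s) ((mem_maximalIdeal _).mp h3)

theorem evO_pow_le (n : ℕ) :
    maximalIdeal (OO (k := k) x) ^ n ≤ (maximalIdeal R ^ n).comap (evO x) := by
  rw [← Ideal.map_le_iff_le_comap, Ideal.map_pow]
  apply Ideal.pow_right_mono
  rw [Ideal.map_le_iff_le_comap]
  exact fun o ho => evO_mem x o ho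

variable [IsAdicComplete (maximalIdeal R) R]

/-- the map from the completion of the local ring of the polynomial ring. -/
def pi1 : AdicCompletion (maximalIdeal (OO (k := k) x)) (OO (k := k) x) →ₐ[k] R :=
  ((AdicCompletion.ofAlgEquiv (maximalIdeal R)).symm.restrictScalars k : _ →ₐ[k] R).comp
    (ComplEquiv.Φ (evO x) (maximalIdeal (OO (k := k) x)) (maximalIdeal R) (evO_pow_le x))

theorem pi1_algebraMap (o : OO (k := k) x) :
    pi1 x (algebraMap _ (AdicCompletion (maximalIdeal (OO (k := k) x)) (OO (k := k) x)) o) =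
      evO x o := by
  have h1 : ComplEquiv.Φ (evO x) (maximalIdeal (OO (k := k) x)) (maximalIdeal R) (evO_pow_le x)
      (algebraMap _ _ o) = AdicCompletion.of (maximalIdeal R) R (evO x o) := by
    apply AdicCompletion.ext_evalₐ
    intro n
    rw [ComplEquiv.evalₐ_Φ, AdicCompletion.evalₐ_of]
    have : AdicCompletion.evalₐ (maximalIdeal (OO (k := k) x)) n (algebraMap _ _ o) =
        Ideal.Quotient.mk _ o := (AdicCompletion.evalₐ _ n).commutes o
    rw [this]
    rfl
  have h2 : (AdicCompletion.ofAlgEquiv (maximalIdeal R)).symm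
      (ComplEquiv.Φ (evO x) (maximalIdeal (OO (k := k) x)) (maximalIdeal R) (evO_pow_le x)
        (algebraMap _ _ o)) = evO x o := by
    rw [h1, AlgEquiv.symm_apply_eq]
    rfl
  exact h2

end Groth.Agent.Helper2.CdJ
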