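import Mathlib
import Groth.Agent.Helper2.CdJA

set_option autoImplicit false
set_option linter.style.haveILetI false
set_option linter.unusedSectionVars false

noncomputable section

namespace Groth.Agent.Helper2.CdJ

open IsLocalRing

universe u

variable {k R : Type u} [Field k] [CommRing R] [Algebra k R] [IsLocalRing R]
  {r : ℕ} (x : Fin r → R)

instance : IsNoetherianRing (OO (k := k) x) :=
  IsLocalization.isNoetherianRing (nP (k := k) x).primeCompl _ inferInstance

theorem map_nP_eq (hx : Ideal.span (Set.range x) = maximalIdeal R) :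
    (nP (k := k) x).map (evP (k := k) x).toRingHom = maximalIdeal R := by
  apply le_antisymm
  · exact Ideal.map_comap_le
  · rw [← hx, Ideal.span_le]
    rintro _ ⟨i, rfl⟩
    have h1 : (MvPolynomial.X i : MvPolynomial (Fin r) k) ∈ nP (k := k) x := by
      apply X_mem_nP
      intro j
      rw [← hx]
      exact Ideal.subset_span ⟨j, rfl⟩
    have h2 := Ideal.mem_map_of_mem (evP (k := k) x).toRingHom h1
    have h3 : (evP (k := k) x).toRingHom (MvPolynomial.X i) = x i := by
      change evP x (MvPolynomial.X i) = x i
      rw [evP, MvPolynomial.aeval_X]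
    rwa [h3] at h2

theorem map_evO_eq (hx : Ideal.span (Set.range x) = maximalIdeal R) :
    (maximalIdeal (OO (k := k) x)).map (evO x).toRingHom = maximalIdeal R := by
  rw [← IsLocalization.AtPrime.map_eq_maximalIdeal (nP (k := k) x) (OO (k := k) x), Ideal.map_map]
  have : (evO x).toRingHom.comp (algebraMap _ (OO (k := k) x)) = (evP (k := k) x).toRingHom := by
    ext p
    · simp only [RingHom.comp_apply]
      exact evO_algebraMap x _
    · simp only [RingHom.comp_apply]
      exact evO_algebraMap x _
  rw [this]
  exact map_nP_eq x hx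

variable [IsAdicComplete (maximalIdeal R) R]

theorem map_pi1_eq (hx : Ideal.span (Set.range x) = maximalIdeal R) :
    (maximalIdeal (AdicCompletion (maximalIdeal (OO (k := k) x)) (OO (k := k) x))).map
      (pi1 x).toRingHom = maximalIdeal R := by
  rw [AdicCompletion.maximalIdeal_eq_map, Ideal.map_map]
  have : (pi1 (k := k) x).toRingHom.comp (algebraMap (OO (k := k) x)
      (AdicCompletion (maximalIdeal (OO (k := k) x)) (OO (k := k) x))) =
      (evO (k := k) x).toRingHom := by
    ext o
    exact pi1_algebraMap x o
  rw [this]
  exact map_evO_eq x hx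

theorem pi1_surjective [IsNoetherianRing R] (hx : Ideal.span (Set.range x) = maximalIdeal R)
    (hres : Function.Surjective (fun c : k => IsLocalRing.residue R (algebraMap k R c))) :
    Function.Surjective (pi1 (k := k) x) := by
  haveI : IsHausdorff ((maximalIdeal (AdicCompletion (maximalIdeal (OO (k := k) x))
      (OO (k := k) x))).map (pi1 x).toRingHom) R := by
    rw [map_pi1_eq x hx]; infer_instance
  have := surjective_of_mk_map_comp_surjective (pi1 x).toRingHom
    (I := maximalIdeal (AdicCompletion (maximalIdeal (OO (k := k) x)) (OO (k := k) x))) ?_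
  · exact this
  · intro y
    obtain ⟨ρ, rfl⟩ := Ideal.Quotient.mk_surjective y
    obtain ⟨c, hc⟩ := hres (IsLocalRing.residue R ρ)
    refine ⟨algebraMap k _ c, ?_⟩
    rw [RingHom.comp_apply]
    have h1 : (pi1 x).toRingHom (algebraMap k _ c) = algebraMap k R c := (pi1 x).commutes c
    rw [h1, Ideal.Quotient.eq, map_pi1_eq x hx]
    have h2 : IsLocalRing.residue R (algebraMap k R c - ρ) = 0 := by
      rw [map_sub, sub_eq_zero]; exact hc
    exact (IsLocalRing.residue_eq_zero_iff _).mp h2

end Groth.Agent.Helper2.CdJ
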