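import Mathlib

set_option autoImplicit false

namespace Groth.Agent.Helper2.EtApx

open IsLocalRing

universe u

set_option maxHeartbeats 1600000 in
/-- trivial residue field extension, at the level of localizations. -/
theorem alpha_residue_surjective {A₀ : Type u} [CommRing A₀] (p : Ideal A₀) [p.IsPrime]
    (O : Type u) [CommRing O] [IsLocalRing O] [Algebra A₀ O] [IsLocalization.AtPrime O p]
    (A₁ : Type u) [CommRing A₁] [Algebra A₀ A₁] (𝔫 : Ideal A₁) [𝔫.IsPrime]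
    (O₁ : Type u) [CommRing O₁] [IsLocalRing O₁] [Algebra A₁ O₁] [IsLocalization.AtPrime O₁ 𝔫]
    (α : O →+* O₁) (hα : ∀ r : A₀, α (algebraMap A₀ O r) = algebraMap A₁ O₁ (algebraMap A₀ A₁ r))
    (hcomap : 𝔫.comap (algebraMap A₀ A₁) = p)
    (hres : ∀ x : A₁, ∃ r s : A₀, s ∉ p ∧ algebraMap A₀ A₁ s * x - algebraMap A₀ A₁ r ∈ 𝔫)
    (z : O₁) : ∃ w : O, α w - z ∈ maximalIdeal O₁ := by
  classical
  obtain ⟨a₁, t, rfl⟩ := IsLocalization.exists_mk'_eq 𝔫.primeCompl z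
  obtain ⟨r, s, hs, hrs⟩ := hres a₁
  obtain ⟨r', s', hs', hrs'⟩ := hres (t : A₁)
  have hmem : ∀ c : A₀, c ∈ p ↔ algebraMap A₀ A₁ c ∈ 𝔫 := fun c => by
    rw [← hcomap]; rfl
  have hr' : r' ∉ p := by
    intro h
    have h1 : algebraMap A₀ A₁ s' * (t : A₁) ∈ 𝔫 := by
      have := 𝔫.add_mem hrs' ((hmem r').mp h)
      simpa using this
    rcases Ideal.IsPrime.mem_or_mem inferInstance h1 with h2 | h2
    · exact hs' ((hmem s').mpr h2)
    · exact t.2 h2
  have hsr' : s * r' ∈ p.primeCompl := by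
    intro h
    rcases Ideal.IsPrime.mem_or_mem inferInstance h with h2 | h2
    · exact hs h2
    · exact hr' h2
  refine ⟨IsLocalization.mk' O (r * s') (⟨s * r', hsr'⟩ : p.primeCompl), ?_⟩
  -- the unit D
  have hD1 : IsUnit (algebraMap A₁ O₁ (algebraMap A₀ A₁ (s * r'))) := by
    apply IsLocalization.map_units O₁ (⟨algebraMap A₀ A₁ (s * r'), ?_⟩ : 𝔫.primeCompl)
    intro h
    exact hsr' ((hmem _).mpr h)
  have hD2 : IsUnit (algebraMap A₁ O₁ (t : A₁)) := IsLocalization.map_units O₁ t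
  have hD := hD1.mul hD2
  -- the product computation
  have hw : α (IsLocalization.mk' O (r * s') (⟨s * r', hsr'⟩ : p.primeCompl)) *
      algebraMap A₁ O₁ (algebraMap A₀ A₁ (s * r')) = algebraMap A₁ O₁ (algebraMap A₀ A₁ (r * s')) := by
    rw [← hα, ← hα, ← map_mul]
    congr 1
    exact IsLocalization.mk'_spec O (r * s') (⟨s * r', hsr'⟩ : p.primeCompl)
  have hz : IsLocalization.mk' O₁ a₁ t * algebraMap A₁ O₁ (t : A₁) = algebraMap A₁ O₁ a₁ :=
    IsLocalization.mk'_spec O₁ a₁ t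
  have hprod : (α (IsLocalization.mk' O (r * s') (⟨s * r', hsr'⟩ : p.primeCompl)) -
      IsLocalization.mk' O₁ a₁ t) *
      (algebraMap A₁ O₁ (algebraMap A₀ A₁ (s * r')) * algebraMap A₁ O₁ (t : A₁)) =
      algebraMap A₁ O₁ (algebraMap A₀ A₁ (r * s') * (t : A₁) - a₁ * algebraMap A₀ A₁ (s * r')) := by
    have e : algebraMap A₁ O₁ (algebraMap A₀ A₁ (r * s') * (t : A₁) -
        a₁ * algebraMap A₀ A₁ (s * r')) =
        algebraMap A₁ O₁ (algebraMap A₀ A₁ (r * s')) * algebraMap A₁ O₁ (t : A₁) -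
        algebraMap A₁ O₁ a₁ * algebraMap A₁ O₁ (algebraMap A₀ A₁ (s * r')) := by
      rw [(algebraMap A₁ O₁).map_sub, (algebraMap A₁ O₁).map_mul, (algebraMap A₁ O₁).map_mul]
    rw [e, ← hw, ← hz]
    ring
  have hin : algebraMap A₀ A₁ (r * s') * (t : A₁) - a₁ * algebraMap A₀ A₁ (s * r') ∈ 𝔫 := by
    have e1 : algebraMap A₀ A₁ (r * s') * (t : A₁) - a₁ * algebraMap A₀ A₁ (s * r') =
        algebraMap A₀ A₁ r * (algebraMap A₀ A₁ s' * (t : A₁) - algebraMap A₀ A₁ r') -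
        algebraMap A₀ A₁ r' * (algebraMap A₀ A₁ s * a₁ - algebraMap A₀ A₁ r) := by
      simp only [map_mul]
      ring
    rw [e1]
    exact 𝔫.sub_mem (𝔫.mul_mem_left _ hrs') (𝔫.mul_mem_left _ hrs)
  have hin' := (IsLocalization.AtPrime.to_map_mem_maximal_iff O₁ 𝔫 _).mpr hin
  rw [← hprod] at hin'
  rcases Ideal.IsPrime.mem_or_mem (inferInstance : (maximalIdeal O₁).IsPrime) hin' with h | h
  · exact h
  · exact absurd hD ((mem_maximalIdeal _).mp h)

end Groth.Agent.Helper2.EtApx
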