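import Mathlib
import Groth.Agent.Helper2.SpreadB
import Groth.Agent.Helper2.ArtApxD

set_option autoImplicit false

namespace Groth.Agent.Helper2.EtApx

open MvPolynomial IsLocalRing

universe u

set_option maxHeartbeats 1600000 in
/-- `spread_etale` for an abstract localization `O` of `R` at `p`. -/
theorem spread_etale' {R : Type u} [CommRing R] (p : Ideal R) [p.IsPrime]
    (O : Type u) [CommRing O] [Algebra R O] [IsLocalization.AtPrime O p]
    (T : Type u) [CommRing T] [IsLocalRing T] [Algebra O T] [IsLocalHom (algebraMap O T)]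
    (hsurj : ∀ t : T, ∃ ρ : O, t - algebraMap O T ρ ∈ maximalIdeal T)
    (S : Type u) [CommRing S] [Algebra O S] [Algebra.Etale O S]
    (ψ₀ : S →ₐ[O] T) (𝔫 : Ideal S) [𝔫.IsMaximal]
    (h𝔫 : ∀ x ∈ 𝔫, ψ₀ x ∈ maximalIdeal T)
    {n m : ℕ} (F : Fin m → MvPolynomial (Fin n) R) (y : Fin n → S)
    (hy : ∀ j, aeval y (MvPolynomial.map (algebraMap R O) (F j)) = 0) :
    ∃ (R' : Type u) (_ : CommRing R') (_ : Algebra R R'), Algebra.Etale R R' ∧
      ∃ (ψ : R' →+* T) (p' : Ideal R'), p'.IsPrime ∧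
        (∀ r : R, ψ (algebraMap R R' r) = algebraMap O T (algebraMap R O r)) ∧
        p'.comap (algebraMap R R') = p ∧
        (∀ x : R', ∃ r s : R, s ∉ p ∧ algebraMap R R' s * x - algebraMap R R' r ∈ p') ∧
        (∀ x ∈ p', ψ x ∈ maximalIdeal T) ∧
        ∃ b : Fin n → R', (∀ j, aeval b (F j) = 0) ∧ ∀ i, ψ (b i) = ψ₀ (y i) := by
  classical
  let e : Localization.AtPrime p ≃ₐ[R] O :=
    IsLocalization.algEquiv p.primeCompl (Localization.AtPrime p) O
  letI algLO : Algebra (Localization.AtPrime p) O := e.toAlgHom.toRingHom.toAlgebra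
  letI algLT : Algebra (Localization.AtPrime p) T :=
    ((algebraMap O T).comp (algebraMap (Localization.AtPrime p) O)).toAlgebra
  letI algLS : Algebra (Localization.AtPrime p) S :=
    ((algebraMap O S).comp (algebraMap (Localization.AtPrime p) O)).toAlgebra
  haveI : IsScalarTower (Localization.AtPrime p) O T := IsScalarTower.of_algebraMap_eq' rfl
  haveI : IsScalarTower (Localization.AtPrime p) O S := IsScalarTower.of_algebraMap_eq' rfl
  have hee : ∀ a : Localization.AtPrime p, algebraMap (Localization.AtPrime p) O a = e a :=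
    fun _ => rfl
  -- étaleness
  haveI : Algebra.Etale (Localization.AtPrime p) O := by
    let e' : Localization.AtPrime p ≃ₐ[Localization.AtPrime p] O :=
      AlgEquiv.ofRingEquiv (f := e.toRingEquiv) (fun x => rfl)
    exact Algebra.Etale.of_equiv e'
  haveI : Algebra.Etale (Localization.AtPrime p) S := Algebra.Etale.comp _ O _
  haveI : IsLocalHom (algebraMap (Localization.AtPrime p) T) := by
    constructor
    intro a ha
    have h1 : IsUnit (algebraMap O T (e a)) := ha
    have h2 : IsUnit (e a) := IsLocalHom.map_nonunit (f := algebraMap O T) _ h1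
    have h3 : IsUnit (e.symm (e a)) := h2.map e.symm
    simpa using h3
  have hsurj' : ∀ t : T, ∃ ρ : Localization.AtPrime p,
      t - algebraMap (Localization.AtPrime p) T ρ ∈ maximalIdeal T := by
    intro t
    obtain ⟨ρ, hρ⟩ := hsurj t
    refine ⟨e.symm ρ, ?_⟩
    have : algebraMap (Localization.AtPrime p) T (e.symm ρ) = algebraMap O T ρ := by
      show algebraMap O T (e (e.symm ρ)) = _
      rw [AlgEquiv.apply_symm_apply]
    rw [this]
    exact hρ
  let ψ₀' : S →ₐ[Localization.AtPrime p] T :=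
    { ψ₀.toRingHom with
      commutes' := fun r => by
        show ψ₀ (algebraMap O S (e r)) = algebraMap O T (e r)
        exact ψ₀.commutes _ }
  have hy' : ∀ j, aeval y (MvPolynomial.map (algebraMap R (Localization.AtPrime p)) (F j)) = 0 := by
    intro j
    rw [← hy j]
    rw [MvPolynomial.aeval_def, MvPolynomial.aeval_def, MvPolynomial.eval₂_map,
      MvPolynomial.eval₂_map]
    congr 1
    ext r
    show algebraMap O S (e (algebraMap R _ r)) = algebraMap O S (algebraMap R O r)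
    rw [AlgEquiv.commutes]
  obtain ⟨R', _, _, hEt, ψ, p', hp', hψ, hcomap, hres, hp'ψ, b, hb, hbψ⟩ :=
    Groth.Agent.Helper2.Spread.spread_etale p T hsurj' S ψ₀' 𝔫 h𝔫 F y hy'
  refine ⟨R', _, _, hEt, ψ, p', hp', ?_, hcomap, hres, hp'ψ, b, hb, hbψ⟩
  intro r
  rw [hψ r]
  show algebraMap O T (e (algebraMap R _ r)) = _
  rw [AlgEquiv.commutes]

set_option maxHeartbeats 1600000 in
/-- Algebraic core: étale approximation over an abstract localization which is a G-ring. -/
theorem core {A₀ : Type u} [CommRing A₀] (p : Ideal A₀) [p.IsPrime]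
    (O : Type u) [CommRing O] [IsLocalRing O] [Algebra A₀ O] [IsLocalization.AtPrime O p]
    (hG : CAlg.IsGRing O)
    {n m : ℕ} (F : Fin m → MvPolynomial (Fin n) A₀)
    (a : Fin n → AdicCompletion (maximalIdeal O) O)
    (ha : ∀ j, aeval a (MvPolynomial.map (algebraMap A₀ O) (F j)) = 0) (N : ℕ) :
    ∃ (A₁ : Type u) (_ : CommRing A₁) (_ : Algebra A₀ A₁), Algebra.Etale A₀ A₁ ∧
      ∃ (ψ : A₁ →+* AdicCompletion (maximalIdeal O) O) (𝔫 : Ideal A₁), 𝔫.IsPrime ∧
        (∀ r : A₀, ψ (algebraMap A₀ A₁ r) =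
          algebraMap O (AdicCompletion (maximalIdeal O) O) (algebraMap A₀ O r)) ∧
        𝔫.comap (algebraMap A₀ A₁) = p ∧
        (∀ x : A₁, ∃ r s : A₀, s ∉ p ∧ algebraMap A₀ A₁ s * x - algebraMap A₀ A₁ r ∈ 𝔫) ∧
        (∀ x ∈ 𝔫, ψ x ∈ (maximalIdeal O).map
          (algebraMap O (AdicCompletion (maximalIdeal O) O))) ∧
        ∃ b : Fin n → A₁, (∀ j, aeval b (F j) = 0) ∧
          ∀ i, a i - ψ (b i) ∈ (maximalIdeal O ^ N).map
            (algebraMap O (AdicCompletion (maximalIdeal O) O)) := by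
  classical
  haveI : IsNoetherianRing O := hG.1
  obtain ⟨S, _, _, hEt, ψ₀, m', hmax, hcomap, hres, hm', b₀, hb₀, hab⟩ :=
    Groth.Agent.Helper2.ArtApx.s6825 hG (fun j => MvPolynomial.map (algebraMap A₀ O) (F j)) a ha N
  haveI := hEt
  haveI := hmax
  have hmaxeq := AdicCompletion.maximalIdeal_eq_map (R := O)
  have hsurj : ∀ t : AdicCompletion (maximalIdeal O) O, ∃ ρ : O,
      t - algebraMap O _ ρ ∈ maximalIdeal (AdicCompletion (maximalIdeal O) O) := by
    intro t
    obtain ⟨ρ, hρ⟩ := Ideal.Quotient.mk_surjective (AdicCompletion.evalOneₐ (maximalIdeal O) t)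
    refine ⟨ρ, ?_⟩
    have h1 : AdicCompletion.evalOneₐ (maximalIdeal O) (t - algebraMap O _ ρ) = 0 := by
      rw [map_sub, ← hρ]
      have : AdicCompletion.evalOneₐ (maximalIdeal O) (algebraMap O _ ρ) =
          Ideal.Quotient.mk _ ρ := by
        have := AdicCompletion.evalOneₐ_comp_algebraMap_eq_mk (maximalIdeal O)
        exact congrArg (fun f => f ρ) this
      rw [this, sub_self]
    rw [hmaxeq, ← AdicCompletion.ker_evalOneₐ_eq_map _ (maximalIdeal O).fg_of_isNoetherianRing]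
    exact h1
  have h𝔫 : ∀ x ∈ m', ψ₀ x ∈ maximalIdeal (AdicCompletion (maximalIdeal O) O) := by
    intro x hx
    rw [hmaxeq]
    exact hm' x hx
  obtain ⟨A₁, _, _, hEt₁, ψ, 𝔫, h𝔫p, hψ, hcomap₁, hres₁, h𝔫ψ, b, hb, hbψ⟩ :=
    spread_etale' p O (AdicCompletion (maximalIdeal O) O) hsurj S ψ₀ m' h𝔫 F b₀ hb₀
  refine ⟨A₁, _, _, hEt₁, ψ, 𝔫, h𝔫p, hψ, hcomap₁, hres₁, ?_, b, hb, ?_⟩
  · intro x hx
    rw [← hmaxeq]
    exact h𝔫ψ x hx
  · intro i
    rw [hbψ i]
    exact hab i

end Groth.Agent.Helper2.EtApx
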