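import Mathlib

set_option autoImplicit false

namespace Groth.Agent.Helper2.EtApx

open IsLocalRing

universe u

/-- a ring map between localizations at primes compatible with the base map is local. -/
theorem alpha_mem_maximalIdeal {A₀ : Type u} [CommRing A₀] (p : Ideal A₀) [p.IsPrime]
    (O : Type u) [CommRing O] [IsLocalRing O] [Algebra A₀ O] [IsLocalization.AtPrime O p]
    (A₁ : Type u) [CommRing A₁] [Algebra A₀ A₁]
    (𝔫 : Ideal A₁) [𝔫.IsPrime]
    (O₁ : Type u) [CommRing O₁] [IsLocalRing O₁] [Algebra A₁ O₁] [IsLocalization.AtPrime O₁ 𝔫]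
    (α : O →+* O₁) (hα : ∀ r : A₀, α (algebraMap A₀ O r) = algebraMap A₁ O₁ (algebraMap A₀ A₁ r))
    (hcomap : 𝔫.comap (algebraMap A₀ A₁) = p) (x : O) (hx : x ∈ maximalIdeal O) :
    α x ∈ maximalIdeal O₁ := by
  obtain ⟨r, s, rfl⟩ := IsLocalization.exists_mk'_eq p.primeCompl x
  have hr : r ∈ p := by
    have := (IsLocalization.AtPrime.mk'_mem_maximal_iff O p r s).mp hx
    exact this
  have hs : (s : A₀) ∉ p := s.2
  have h1 : α (IsLocalization.mk' O r s) * α (algebraMap A₀ O s) = α (algebraMap A₀ O r) := by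
    rw [← map_mul, IsLocalization.mk'_spec]
  rw [hα, hα] at h1
  have hr' : algebraMap A₁ O₁ (algebraMap A₀ A₁ r) ∈ maximalIdeal O₁ := by
    rw [IsLocalization.AtPrime.to_map_mem_maximal_iff O₁ 𝔫]
    rw [← hcomap] at hr
    exact hr
  have hs' : IsUnit (algebraMap A₁ O₁ (algebraMap A₀ A₁ s)) := by
    apply IsLocalization.map_units O₁ (⟨algebraMap A₀ A₁ s, ?_⟩ : 𝔫.primeCompl)
    intro h
    apply hs
    have h' : (s : A₀) ∈ 𝔫.comap (algebraMap A₀ A₁) := h
    rwa [hcomap] at h'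
  rw [← h1] at hr'
  rcases (Ideal.IsPrime.mem_or_mem (inferInstance : (maximalIdeal O₁).IsPrime) hr') with h | h
  · exact h
  · exact absurd hs' ((mem_maximalIdeal _).mp h)

set_option maxHeartbeats 1600000 in
/-- The comparison modulo `m^N` through formal unramifiedness. -/
theorem final_cond {A₀ : Type u} [CommRing A₀] (p : Ideal A₀) [p.IsPrime]
    (O : Type u) [CommRing O] [IsLocalRing O] [Algebra A₀ O] [IsLocalization.AtPrime O p]
    (A₁ : Type u) [CommRing A₁] [Algebra A₀ A₁] [Algebra.FormallyUnramified A₀ A₁]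
    (𝔫 : Ideal A₁) [𝔫.IsPrime]
    (O₁ : Type u) [CommRing O₁] [IsLocalRing O₁] [Algebra A₁ O₁] [IsLocalization.AtPrime O₁ 𝔫]
    (α : O →+* O₁) (hα : ∀ r : A₀, α (algebraMap A₀ O r) = algebraMap A₁ O₁ (algebraMap A₀ A₁ r))
    (ψ : A₁ →+* AdicCompletion (maximalIdeal O) O)
    (hψ : ∀ r : A₀, ψ (algebraMap A₀ A₁ r) =
      algebraMap O (AdicCompletion (maximalIdeal O) O) (algebraMap A₀ O r))
    (hcomap : 𝔫.comap (algebraMap A₀ A₁) = p)
    (hres : ∀ x : A₁, ∃ r s : A₀, s ∉ p ∧ algebraMap A₀ A₁ s * x - algebraMap A₀ A₁ r ∈ 𝔫)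
    (h𝔫ψ : ∀ x ∈ 𝔫, ψ x ∈ (maximalIdeal O).map
      (algebraMap O (AdicCompletion (maximalIdeal O) O)))
    (N : ℕ) (a₁ : A₁) (c : O)
    (h : AdicCompletion.evalₐ (maximalIdeal O) N (ψ a₁) =
      Ideal.Quotient.mk (maximalIdeal O ^ N) c) :
    Ideal.Quotient.mk (maximalIdeal O₁ ^ N) (algebraMap A₁ O₁ a₁) =
      Ideal.Quotient.mk (maximalIdeal O₁ ^ N) (α c) := by
  classical
  have hαm : ∀ x ∈ maximalIdeal O, α x ∈ maximalIdeal O₁ :=
    alpha_mem_maximalIdeal p O A₁ 𝔫 O₁ α hα hcomap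
  have hle : maximalIdeal O ^ N ≤ (maximalIdeal O₁ ^ N).comap α := by
    refine le_trans ?_ (Ideal.le_comap_pow α N)
    exact Ideal.pow_right_mono (fun x hx => hαm x hx) N
  let αbar : O ⧸ maximalIdeal O ^ N →+* O₁ ⧸ maximalIdeal O₁ ^ N :=
    Ideal.quotientMap _ α hle
  have hαbar : ∀ x : O, αbar (Ideal.Quotient.mk _ x) = Ideal.Quotient.mk _ (α x) := fun x => by
    simp [αbar]
  let mk₁ : O₁ →+* O₁ ⧸ maximalIdeal O₁ ^ N := Ideal.Quotient.mk _
  letI algQ : Algebra A₀ (O₁ ⧸ maximalIdeal O₁ ^ N) :=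
    ((mk₁.comp (algebraMap A₁ O₁)).comp (algebraMap A₀ A₁)).toAlgebra
  let κ : A₁ →ₐ[A₀] O₁ ⧸ maximalIdeal O₁ ^ N :=
    { (mk₁.comp (algebraMap A₁ O₁)) with commutes' := fun r => rfl }
  let κ' : A₁ →ₐ[A₀] O₁ ⧸ maximalIdeal O₁ ^ N :=
    { (αbar.comp ((AdicCompletion.evalₐ (maximalIdeal O) N).toRingHom.comp ψ)) with
      commutes' := fun r => by
        show αbar (AdicCompletion.evalₐ (maximalIdeal O) N (ψ (algebraMap A₀ A₁ r))) =
          mk₁ (algebraMap A₁ O₁ (algebraMap A₀ A₁ r))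
        rw [hψ, AlgHom.commutes, Ideal.Quotient.algebraMap_eq, hαbar, hα] }
  have hκ : ∀ x, κ x = mk₁ (algebraMap A₁ O₁ x) := fun _ => rfl
  have hκ' : ∀ x, κ' x = αbar (AdicCompletion.evalₐ (maximalIdeal O) N (ψ x)) := fun _ => rfl
  let J : Ideal (O₁ ⧸ maximalIdeal O₁ ^ N) := (maximalIdeal O₁).map mk₁
  have hJ : IsNilpotent J := by
    refine ⟨N, ?_⟩
    show (Ideal.map mk₁ (maximalIdeal O₁)) ^ N = 0
    rw [← Ideal.map_pow, Ideal.zero_eq_bot, Ideal.map_quotient_self]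
  -- κ maps 𝔫 into J
  have h1 : ∀ z ∈ 𝔫, κ z ∈ J := by
    intro z hz
    rw [hκ]
    apply Ideal.mem_map_of_mem
    exact (IsLocalization.AtPrime.to_map_mem_maximal_iff O₁ 𝔫 z).mpr hz
  -- κ' maps 𝔫 into J
  have h2 : ∀ z ∈ 𝔫, κ' z ∈ J := by
    intro z hz
    rw [hκ']
    have hz1 := h𝔫ψ z hz
    have hz2 : AdicCompletion.evalₐ (maximalIdeal O) N (ψ z) ∈
        (maximalIdeal O).map (Ideal.Quotient.mk (maximalIdeal O ^ N)) := by
      have := Ideal.mem_map_of_mem (AdicCompletion.evalₐ (maximalIdeal O) N).toRingHom hz1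
      rw [Ideal.map_map] at this
      have hcomp : (AdicCompletion.evalₐ (maximalIdeal O) N).toRingHom.comp
          (algebraMap O (AdicCompletion (maximalIdeal O) O)) =
          Ideal.Quotient.mk (maximalIdeal O ^ N) := by
        ext x
        exact (AdicCompletion.evalₐ (maximalIdeal O) N).commutes x
      rw [hcomp] at this
      exact this
    have hz3 := Ideal.mem_map_of_mem αbar hz2
    rw [Ideal.map_map] at hz3
    have hcomp2 : αbar.comp (Ideal.Quotient.mk (maximalIdeal O ^ N)) = mk₁.comp α := by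
      ext x
      exact hαbar x
    rw [hcomp2, ← Ideal.map_map] at hz3
    have hle2 : (maximalIdeal O).map α ≤ maximalIdeal O₁ :=
      Ideal.map_le_iff_le_comap.mpr (fun x hx => Ideal.mem_comap.mpr (hαm x hx))
    exact Ideal.map_mono hle2 hz3
  have hagree : ∀ x, Ideal.Quotient.mk J (κ x) = Ideal.Quotient.mk J (κ' x) := by
    intro x
    obtain ⟨r, s, hs, hrs⟩ := hres x
    rw [Ideal.Quotient.eq]
    have e1 := h1 _ hrs
    have e2 := h2 _ hrs
    rw [map_sub, map_mul, AlgHom.commutes, AlgHom.commutes] at e1 e2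
    have e3 : algebraMap A₀ (O₁ ⧸ maximalIdeal O₁ ^ N) s * (κ x - κ' x) ∈ J := by
      have := J.sub_mem e1 e2
      convert this using 1
      ring
    have hunit : IsUnit (algebraMap A₀ (O₁ ⧸ maximalIdeal O₁ ^ N) s) := by
      show IsUnit (mk₁ (algebraMap A₁ O₁ (algebraMap A₀ A₁ s)))
      apply IsUnit.map
      apply IsLocalization.map_units O₁ (⟨algebraMap A₀ A₁ s, ?_⟩ : 𝔫.primeCompl)
      intro h
      apply hs
      rw [← hcomap]
      exact h
    obtain ⟨v, hv⟩ := hunit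
    have := J.mul_mem_left (↑v⁻¹) e3
    rw [← hv, ← mul_assoc, Units.inv_mul, one_mul] at this
    exact this
  have hκκ' : κ = κ' := Algebra.FormallyUnramified.ext J hJ hagree
  have h3 : κ a₁ = κ' a₁ := by rw [hκκ']
  rw [hκ, hκ', h, hαbar] at h3
  exact h3

end Groth.Agent.Helper2.EtApx
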