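import Mathlib
import Groth.Prelude.Def_Found
import Groth.Agent.Helper2.EtApxA
import Groth.Agent.Helper2.EtApxB

set_option autoImplicit false
set_option linter.style.haveILetI false

namespace Groth.Agent.Helper2.EtApx

open IsLocalRing MvPolynomial

universe u

set_option maxHeartbeats 3200000 in
/-- The algebraic package: approximation of a map `B → Ô` by a map into an étale `A₀`-algebra. -/
theorem alg_package {R₀ A₀ B : Type u} [CommRing R₀] [CommRing A₀] [CommRing B]
    [IsNoetherianRing R₀] (φX : R₀ →+* A₀) (φY : R₀ →+* B) (hft : φY.FiniteType)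
    (pX : Ideal A₀) [pX.IsPrime]
    (O : Type u) [CommRing O] [IsLocalRing O] [Algebra A₀ O] [IsLocalization.AtPrime O pX]
    (hG : CAlg.IsGRing O)
    (pY : Ideal B) [pY.IsPrime]
    (OY : Type u) [CommRing OY] [IsLocalRing OY] [Algebra B OY] [IsLocalization.AtPrime OY pY]
    (φ : OY →+* AdicCompletion (maximalIdeal O) O)
    (KC : ∀ r : R₀, φ (algebraMap B OY (φY r)) =
      algebraMap O (AdicCompletion (maximalIdeal O) O) (algebraMap A₀ O (φX r)))
    (hloc : ∀ b ∈ maximalIdeal OY, φ b ∈ (maximalIdeal O).map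
      (algebraMap O (AdicCompletion (maximalIdeal O) O)))
    (N : ℕ) (hN : 1 ≤ N) :
    ∃ (A₁ : Type u) (_ : CommRing A₁) (_ : Algebra A₀ A₁), Algebra.Etale A₀ A₁ ∧
      ∃ (g : B →+* A₁) (ψ : A₁ →+* AdicCompletion (maximalIdeal O) O) (𝔫 : Ideal A₁), 𝔫.IsPrime ∧
        (∀ r : R₀, g (φY r) = algebraMap A₀ A₁ (φX r)) ∧
        (∀ r : A₀, ψ (algebraMap A₀ A₁ r) =
          algebraMap O (AdicCompletion (maximalIdeal O) O) (algebraMap A₀ O r)) ∧
        𝔫.comap (algebraMap A₀ A₁) = pX ∧
        (∀ x : A₁, ∃ r s : A₀, s ∉ pX ∧ algebraMap A₀ A₁ s * x - algebraMap A₀ A₁ r ∈ 𝔫) ∧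
        (∀ x ∈ 𝔫, ψ x ∈ (maximalIdeal O).map
          (algebraMap O (AdicCompletion (maximalIdeal O) O))) ∧
        𝔫.comap g = pY ∧
        ∀ β : B, φ (algebraMap B OY β) - ψ (g β) ∈ (maximalIdeal O ^ N).map
          (algebraMap O (AdicCompletion (maximalIdeal O) O)) := by
  classical
  haveI : IsNoetherianRing O := hG.1
  letI algRB : Algebra R₀ B := φY.toAlgebra
  haveI : Algebra.FiniteType R₀ B := hft
  obtain ⟨n, f, hf⟩ := Algebra.FiniteType.iff_quotient_mvPolynomial''.mp
    (inferInstance : Algebra.FiniteType R₀ B)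
  have hfC : ∀ r : R₀, f (C r) = φY r := fun r => by
    rw [← MvPolynomial.algebraMap_eq, AlgHom.commutes]; rfl
  -- generators of the kernel
  have hKfg : (RingHom.ker f.toRingHom).FG :=
    (isNoetherianRing_iff_ideal_fg _).mp inferInstance _
  obtain ⟨m, G, hG'⟩ := Submodule.fg_iff_exists_fin_generating_family.mp hKfg
  have hGker : ∀ j, f (G j) = 0 := by
    intro j
    have : G j ∈ RingHom.ker f.toRingHom := by
      rw [← hG']
      exact Submodule.subset_span ⟨j, rfl⟩
    exact this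
  -- the solution in the completion
  let ι : R₀ →+* AdicCompletion (maximalIdeal O) O :=
    (algebraMap O (AdicCompletion (maximalIdeal O) O)).comp ((algebraMap A₀ O).comp φX)
  let a : Fin n → AdicCompletion (maximalIdeal O) O := fun i => φ (algebraMap B OY (f (X i)))
  have hΦ : ∀ P : MvPolynomial (Fin n) R₀, eval₂ ι a P = φ (algebraMap B OY (f P)) := by
    intro P
    have : (eval₂Hom ι a) = (φ.comp (algebraMap B OY)).comp f.toRingHom := by
      apply MvPolynomial.ringHom_ext
      · intro r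
        simp only [eval₂Hom_C, RingHom.comp_apply]
        show ι r = φ (algebraMap B OY (f (C r)))
        rw [hfC, KC]
        rfl
      · intro i
        simp only [eval₂Hom_X', RingHom.comp_apply]
        rfl
    exact congrArg (fun k => k P) this
  have ha : ∀ j, aeval a (MvPolynomial.map (algebraMap A₀ O) (MvPolynomial.map φX (G j))) = 0 := by
    intro j
    rw [MvPolynomial.aeval_def, MvPolynomial.eval₂_map, MvPolynomial.eval₂_map]
    have := hΦ (G j)
    rw [hGker, map_zero, map_zero] at this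
    exact this
  obtain ⟨A₁, _, _, hEt, ψ, 𝔫, h𝔫p, hψ, hcomap, hres, h𝔫ψ, b, hb, hab⟩ :=
    core pX O hG (fun j => MvPolynomial.map φX (G j)) a ha N
  -- the map g
  let Ψ : MvPolynomial (Fin n) R₀ →+* A₁ := eval₂Hom ((algebraMap A₀ A₁).comp φX) b
  have hΨG : ∀ j, Ψ (G j) = 0 := by
    intro j
    have := hb j
    rw [MvPolynomial.aeval_def, MvPolynomial.eval₂_map] at this
    exact this
  have hΨker : RingHom.ker f.toRingHom ≤ RingHom.ker Ψ := by
    rw [← hG']
    rw [Ideal.span_le]  -- may need submodule version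
    rintro _ ⟨j, rfl⟩
    exact hΨG j
  let g : B →+* A₁ := RingHom.liftOfSurjective f.toRingHom hf ⟨Ψ, hΨker⟩
  have hgf : ∀ P, g (f P) = Ψ P := fun P =>
    RingHom.liftOfRightInverse_comp_apply _ _ _ ⟨Ψ, hΨker⟩ P
  have hgφY : ∀ r : R₀, g (φY r) = algebraMap A₀ A₁ (φX r) := by
    intro r
    rw [← hfC, hgf]
    simp [Ψ]
  have hgX : ∀ i, g (f (X i)) = b i := by
    intro i
    rw [hgf]
    simp [Ψ]
  -- notation
  have hmaxeq := AdicCompletion.maximalIdeal_eq_map (R := O)
  have hIle : (maximalIdeal O ^ N).map (algebraMap O (AdicCompletion (maximalIdeal O) O)) ≤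
      (maximalIdeal O).map (algebraMap O (AdicCompletion (maximalIdeal O) O)) :=
    Ideal.map_mono (Ideal.pow_le_self (by omega))
  -- the congruence
  have hcong : ∀ β : B, φ (algebraMap B OY β) - ψ (g β) ∈ (maximalIdeal O ^ N).map
      (algebraMap O (AdicCompletion (maximalIdeal O) O)) := by
    intro β
    obtain ⟨P, rfl⟩ := hf β
    have : (Ideal.Quotient.mk ((maximalIdeal O ^ N).map
        (algebraMap O (AdicCompletion (maximalIdeal O) O)))).comp
          ((φ.comp (algebraMap B OY)).comp f.toRingHom) =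
        (Ideal.Quotient.mk ((maximalIdeal O ^ N).map
        (algebraMap O (AdicCompletion (maximalIdeal O) O)))).comp
          ((ψ.comp g).comp f.toRingHom) := by
      apply MvPolynomial.ringHom_ext
      · intro r
        simp only [RingHom.comp_apply]
        congr 1
        show φ (algebraMap B OY (f (C r))) = ψ (g (f (C r)))
        rw [hfC, KC, hgφY, hψ]
      · intro i
        simp only [RingHom.comp_apply]
        show Ideal.Quotient.mk _ (φ (algebraMap B OY (f (X i)))) =
          Ideal.Quotient.mk _ (ψ (g (f (X i))))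
        rw [hgX, Ideal.Quotient.eq]
        exact hab i
    have h2 := congrArg (fun k => k P) this
    simp only [RingHom.comp_apply] at h2
    exact Ideal.Quotient.eq.mp h2
  -- ψ⁻¹(m̂) = 𝔫
  have hmemX : ∀ c : A₀, c ∈ pX ↔ algebraMap A₀ A₁ c ∈ 𝔫 := fun c => by
    rw [← hcomap]; rfl
  have hψ𝔫 : ∀ x : A₁, ψ x ∈ (maximalIdeal O).map
      (algebraMap O (AdicCompletion (maximalIdeal O) O)) → x ∈ 𝔫 := by
    intro x hx
    obtain ⟨r, s, hs, hrs⟩ := hres x
    have h1 := h𝔫ψ _ hrs
    rw [map_sub, map_mul] at h1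
    have h2 : ψ (algebraMap A₀ A₁ r) ∈ (maximalIdeal O).map
        (algebraMap O (AdicCompletion (maximalIdeal O) O)) := by
      have := Ideal.sub_mem _ (Ideal.mul_mem_left _ (ψ (algebraMap A₀ A₁ s)) hx) h1
      simpa using this
    rw [hψ, ← hmaxeq] at h2
    have h3 : algebraMap A₀ O r ∈ maximalIdeal O := by
      by_contra hne
      have hu : IsUnit (algebraMap A₀ O r) := by
        by_contra hnu
        exact hne ((mem_maximalIdeal _).mpr hnu)
      exact ((mem_maximalIdeal _).mp h2) (hu.map _)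
    have h4 : r ∈ pX := (IsLocalization.AtPrime.to_map_mem_maximal_iff O pX r).mp h3
    have h5 : algebraMap A₀ A₁ s * x ∈ 𝔫 := by
      have := 𝔫.add_mem hrs ((hmemX r).mp h4)
      simpa using this
    rcases Ideal.IsPrime.mem_or_mem h𝔫p h5 with h6 | h6
    · exact absurd ((hmemX s).mpr h6) hs
    · exact h6
  have hgcomap : 𝔫.comap g = pY := by
    ext β
    rw [Ideal.mem_comap]
    constructor
    · intro hβ
      have h1 := h𝔫ψ _ hβ
      have h2 : φ (algebraMap B OY β) ∈ (maximalIdeal O).map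
          (algebraMap O (AdicCompletion (maximalIdeal O) O)) := by
        have := Ideal.add_mem _ (hIle (hcong β)) h1
        simpa using this
      rw [← hmaxeq] at h2
      have h3 : algebraMap B OY β ∈ maximalIdeal OY := by
        by_contra hne
        have hu : IsUnit (algebraMap B OY β) := by
          by_contra hnu
          exact hne ((mem_maximalIdeal _).mpr hnu)
        exact ((mem_maximalIdeal _).mp h2) (hu.map _)
      exact (IsLocalization.AtPrime.to_map_mem_maximal_iff OY pY β).mp h3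
    · intro hβ
      have h3 : algebraMap B OY β ∈ maximalIdeal OY :=
        (IsLocalization.AtPrime.to_map_mem_maximal_iff OY pY β).mpr hβ
      have h2 := hloc _ h3
      apply hψ𝔫
      have := Ideal.sub_mem _ h2 (hIle (hcong β))
      simpa using this
  exact ⟨A₁, _, _, hEt, g, ψ, 𝔫, h𝔫p, hgφY, hψ, hcomap, hres, h𝔫ψ, hgcomap, hcong⟩

set_option maxHeartbeats 1600000 in
/-- the comparison modulo `m^N`, for arbitrary elements of the local ring of `y`. -/
theorem final_alg {A₀ B : Type u} [CommRing A₀] [CommRing B]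
    (pX : Ideal A₀) [pX.IsPrime]
    (O : Type u) [CommRing O] [IsLocalRing O] [Algebra A₀ O] [IsLocalization.AtPrime O pX]
    (pY : Ideal B) [pY.IsPrime]
    (OY : Type u) [CommRing OY] [IsLocalRing OY] [Algebra B OY] [IsLocalization.AtPrime OY pY]
    (φ : OY →+* AdicCompletion (maximalIdeal O) O)
    (A₁ : Type u) [CommRing A₁] [Algebra A₀ A₁] [Algebra.FormallyUnramified A₀ A₁]
    (g : B →+* A₁) (ψ : A₁ →+* AdicCompletion (maximalIdeal O) O) (𝔫 : Ideal A₁) [𝔫.IsPrime]
    (hψ : ∀ r : A₀, ψ (algebraMap A₀ A₁ r) =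
      algebraMap O (AdicCompletion (maximalIdeal O) O) (algebraMap A₀ O r))
    (hcomap : 𝔫.comap (algebraMap A₀ A₁) = pX)
    (hres : ∀ x : A₁, ∃ r s : A₀, s ∉ pX ∧ algebraMap A₀ A₁ s * x - algebraMap A₀ A₁ r ∈ 𝔫)
    (h𝔫ψ : ∀ x ∈ 𝔫, ψ x ∈ (maximalIdeal O).map
      (algebraMap O (AdicCompletion (maximalIdeal O) O)))
    (hgcomap : 𝔫.comap g = pY) (N : ℕ)
    (hcong : ∀ β : B, φ (algebraMap B OY β) - ψ (g β) ∈ (maximalIdeal O ^ N).map
      (algebraMap O (AdicCompletion (maximalIdeal O) O)))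
    (O₁ : Type u) [CommRing O₁] [IsLocalRing O₁] [Algebra A₁ O₁] [IsLocalization.AtPrime O₁ 𝔫]
    (αX : O →+* O₁)
    (hαX : ∀ r : A₀, αX (algebraMap A₀ O r) = algebraMap A₁ O₁ (algebraMap A₀ A₁ r))
    (αY : OY →+* O₁) (hαY : ∀ β : B, αY (algebraMap B OY β) = algebraMap A₁ O₁ (g β))
    (b : OY) (c : O)
    (h : AdicCompletion.evalₐ (maximalIdeal O) N (φ b) =
      Ideal.Quotient.mk (maximalIdeal O ^ N) c) :
    Ideal.Quotient.mk (maximalIdeal O₁ ^ N) (αY b) =
      Ideal.Quotient.mk (maximalIdeal O₁ ^ N) (αX c) := by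
  classical
  obtain ⟨β, t, rfl⟩ := IsLocalization.exists_mk'_eq pY.primeCompl b
  have hb : IsLocalization.mk' OY β t * algebraMap B OY (t : B) = algebraMap B OY β :=
    IsLocalization.mk'_spec OY β t
  obtain ⟨ct, hct⟩ := Ideal.Quotient.mk_surjective
    (AdicCompletion.evalₐ (maximalIdeal O) N (φ (algebraMap B OY (t : B))))
  -- evalₐ kills the N-th power ideal
  have hkill : ∀ z ∈ (maximalIdeal O ^ N).map
      (algebraMap O (AdicCompletion (maximalIdeal O) O)),
      AdicCompletion.evalₐ (maximalIdeal O) N z = 0 := by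
    intro z hz
    have h1 := Ideal.mem_map_of_mem (AdicCompletion.evalₐ (maximalIdeal O) N).toRingHom hz
    rw [Ideal.map_map] at h1
    have hcomp : (AdicCompletion.evalₐ (maximalIdeal O) N).toRingHom.comp
        (algebraMap O (AdicCompletion (maximalIdeal O) O)) =
        Ideal.Quotient.mk (maximalIdeal O ^ N) := by
      ext x
      exact (AdicCompletion.evalₐ (maximalIdeal O) N).commutes x
    rw [hcomp, Ideal.map_quotient_self] at h1
    exact h1
  have heq : ∀ β' : B, AdicCompletion.evalₐ (maximalIdeal O) N (ψ (g β')) =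
      AdicCompletion.evalₐ (maximalIdeal O) N (φ (algebraMap B OY β')) := by
    intro β'
    have := hkill _ (hcong β')
    rw [map_sub, sub_eq_zero] at this
    exact this.symm
  have E1 : AdicCompletion.evalₐ (maximalIdeal O) N (ψ (g (t : B))) =
      Ideal.Quotient.mk (maximalIdeal O ^ N) ct := by
    rw [heq, hct]
  have E2 : AdicCompletion.evalₐ (maximalIdeal O) N (ψ (g β)) =
      Ideal.Quotient.mk (maximalIdeal O ^ N) (c * ct) := by
    rw [heq, ← hb, map_mul, map_mul, h, ← hct, map_mul]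
  have F1 := final_cond pX O A₁ 𝔫 O₁ αX hαX ψ hψ hcomap hres h𝔫ψ N (g (t : B)) ct E1
  have F2 := final_cond pX O A₁ 𝔫 O₁ αX hαX ψ hψ hcomap hres h𝔫ψ N (g β) (c * ct) E2
  have hu : IsUnit (Ideal.Quotient.mk (maximalIdeal O₁ ^ N) (algebraMap A₁ O₁ (g (t : B)))) := by
    apply IsUnit.map
    apply IsLocalization.map_units O₁ (⟨g (t : B), ?_⟩ : 𝔫.primeCompl)
    intro hmem
    have : (t : B) ∈ 𝔫.comap g := hmem
    rw [hgcomap] at this
    exact t.2 this
  have h3 : Ideal.Quotient.mk (maximalIdeal O₁ ^ N) (αY (IsLocalization.mk' OY β t)) *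
      Ideal.Quotient.mk (maximalIdeal O₁ ^ N) (algebraMap A₁ O₁ (g (t : B))) =
      Ideal.Quotient.mk (maximalIdeal O₁ ^ N) (αX c) *
      Ideal.Quotient.mk (maximalIdeal O₁ ^ N) (algebraMap A₁ O₁ (g (t : B))) := by
    rw [← hαY, ← map_mul, ← map_mul, hb, hαY, F2, map_mul, map_mul, ← F1, hαY]
  exact hu.mul_left_injective h3

end Groth.Agent.Helper2.EtApx
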