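import Mathlib

set_option autoImplicit false
set_option linter.style.haveILetI false

namespace Groth.Agent.Helper2.EtApx

open IsLocalRing

universe u

/-- iterated kernels of a ring endomorphism. -/
def iterKer {Q : Type*} [CommRing Q] (ε : Q →+* Q) : ℕ → Ideal Q
  | 0 => ⊥
  | n + 1 => (iterKer ε n).comap ε

lemma mem_iterKer {Q : Type*} [CommRing Q] (ε : Q →+* Q) (n : ℕ) (x : Q) :
    x ∈ iterKer ε n ↔ ε^[n] x = 0 := by
  induction n generalizing x with
  | zero => simp [iterKer]
  | succ n ih =>
    rw [iterKer, Ideal.mem_comap, ih, Function.iterate_succ_apply]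

lemma iterKer_mono {Q : Type*} [CommRing Q] (ε : Q →+* Q) : Monotone (iterKer ε) := by
  apply monotone_nat_of_le_succ
  intro n x hx
  rw [mem_iterKer] at hx ⊢
  rw [Function.iterate_succ_apply', hx, map_zero]

/-- a surjective endomorphism of a noetherian ring is injective. -/
theorem injective_of_surjective_endo {Q : Type*} [CommRing Q] [IsNoetherianRing Q] (ε : Q →+* Q)
    (hε : Function.Surjective ε) : Function.Injective ε := by
  obtain ⟨n, hn⟩ := monotone_stabilizes_iff_noetherian.mpr (inferInstance : IsNoetherian Q Q)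
    ⟨iterKer ε, iterKer_mono ε⟩
  rw [injective_iff_map_eq_zero]
  intro x hx
  obtain ⟨y, rfl⟩ := (hε.iterate n) x
  have h1 : y ∈ iterKer ε (n + 1) := by
    rw [mem_iterKer, Function.iterate_succ_apply']
    exact hx
  have h2 : y ∈ iterKer ε n := by
    have := hn (n + 1) (Nat.le_succ n)
    simp only [OrderHom.coe_mk] at this
    rw [this]
    exact h1
  exact (mem_iterKer ε n y).mp h2

/-- two surjections onto a noetherian ring with comparable kernels have the same kernel. -/
theorem ker_eq_of_surjective_of_le {P Q : Type*} [CommRing P] [CommRing Q] [IsNoetherianRing Q]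
    (Θ' Θ : P →+* Q) (h' : Function.Surjective Θ') (h : Function.Surjective Θ)
    (hle : RingHom.ker Θ' ≤ RingHom.ker Θ) : RingHom.ker Θ = RingHom.ker Θ' := by
  let ε : Q →+* Q := RingHom.liftOfSurjective Θ' h' ⟨Θ, hle⟩
  have hε : ∀ x, ε (Θ' x) = Θ x := fun x =>
    RingHom.liftOfRightInverse_comp_apply _ _ _ ⟨Θ, hle⟩ x
  have hsurj : Function.Surjective ε := by
    intro q
    obtain ⟨x, rfl⟩ := h q
    exact ⟨Θ' x, hε x⟩
  have hinj := injective_of_surjective_endo ε hsurj
  apply le_antisymm _ hle
  intro x hx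
  rw [RingHom.mem_ker] at hx ⊢
  apply hinj
  rw [hε, hx, map_zero]

end Groth.Agent.Helper2.EtApx
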