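import Mathlib
import Groth.Agent.Helper2.EtApxD
import Groth.Agent.Helper2.EtApxB2
import Groth.Agent.Helper2.EtApxF

set_option autoImplicit false
set_option linter.style.haveILetI false

namespace Groth.Agent.Helper2.EtApx

open IsLocalRing

universe u

/-- every element of the completion is congruent to an element of `A` modulo `I^k`. -/
theorem exists_sub_mem' {A : Type u} [CommRing A] (I : Ideal A) (hfg : I.FG) (k : ℕ)
    (x : AdicCompletion I A) :
    ∃ a : A, x - algebraMap A _ a ∈ (I ^ k).map (algebraMap A (AdicCompletion I A)) := by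
  have hmem : ∀ t : AdicCompletion I A,
      t ∈ (I ^ k).map (algebraMap A (AdicCompletion I A)) ↔
        AdicCompletion.eval I A k t = 0 := by
    intro t
    rw [← LinearMap.mem_ker, ← AdicCompletion.pow_smul_top_eq_ker_eval hfg, Ideal.smul_top_eq_map,
      Submodule.restrictScalars_mem]
  obtain ⟨a, ha⟩ := Submodule.Quotient.mk_surjective _ (AdicCompletion.eval I A k x)
  refine ⟨a, ?_⟩
  rw [hmem, map_sub, AdicCompletion.algebraMap_apply, Algebra.algebraMap_self, RingHom.id_apply,
    AdicCompletion.eval_of, sub_eq_zero]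
  exact ha.symm

/-- a ring isomorphism of local rings preserves powers of the maximal ideal. -/
theorem ringEquiv_mem_pow {R S : Type*} [CommRing R] [CommRing S] [IsLocalRing R] [IsLocalRing S]
    (Ψ : R ≃+* S) (k : ℕ) (x : R) (hx : x ∈ maximalIdeal R ^ k) : Ψ x ∈ maximalIdeal S ^ k := by
  have h1 : (maximalIdeal R).map (Ψ : R →+* S) ≤ maximalIdeal S := by
    rw [Ideal.map_le_iff_le_comap]
    intro y hy
    rw [Ideal.mem_comap, mem_maximalIdeal, mem_nonunits_iff]
    intro hu
    have : IsUnit y := by
      have := hu.map (Ψ.symm : S →+* R)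
      simpa using this
    exact ((mem_maximalIdeal y).mp hy) this
  have h2 := Ideal.mem_map_of_mem (Ψ : R →+* S) hx
  rw [Ideal.map_pow] at h2
  exact Ideal.pow_right_mono h1 k h2

section

variable (O : Type u) [CommRing O] [IsLocalRing O] [IsNoetherianRing O]

/-- the `k`-th power of the maximal ideal of the completion. -/
theorem maximalIdeal_cpl_pow (k : ℕ) :
    maximalIdeal (AdicCompletion (maximalIdeal O) O) ^ k =
      (maximalIdeal O ^ k).map (algebraMap O (AdicCompletion (maximalIdeal O) O)) := by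
  rw [AdicCompletion.maximalIdeal_eq_map, Ideal.map_pow]

end

section Iso

variable (O : Type u) [CommRing O] [IsLocalRing O] [IsNoetherianRing O]
  (OY : Type u) [CommRing OY] [IsLocalRing OY] [IsNoetherianRing OY]
  (Φ : AdicCompletion (maximalIdeal OY) OY ≃+* AdicCompletion (maximalIdeal O) O)

include Φ in
theorem Φ_mem_pow (k : ℕ) (x : AdicCompletion (maximalIdeal OY) OY)
    (hx : x ∈ (maximalIdeal OY ^ k).map (algebraMap OY (AdicCompletion (maximalIdeal OY) OY))) :
    Φ x ∈ (maximalIdeal O ^ k).map (algebraMap O (AdicCompletion (maximalIdeal O) O)) := by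
  rw [← maximalIdeal_cpl_pow] at hx ⊢
  exact ringEquiv_mem_pow Φ k x hx

theorem Φ_symm_mem_pow (k : ℕ) (x : AdicCompletion (maximalIdeal O) O)
    (hx : x ∈ (maximalIdeal O ^ k).map (algebraMap O (AdicCompletion (maximalIdeal O) O))) :
    Φ.symm x ∈ (maximalIdeal OY ^ k).map
      (algebraMap OY (AdicCompletion (maximalIdeal OY) OY)) := by
  rw [← maximalIdeal_cpl_pow] at hx ⊢
  exact ringEquiv_mem_pow Φ.symm k x hx

/-- approximating elements of `O` by elements of `OY` through `Φ`. -/
theorem exists_approx (k : ℕ) (c : O) :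
    ∃ b : OY, Φ (algebraMap OY _ b) - algebraMap O _ c ∈
      (maximalIdeal O ^ k).map (algebraMap O (AdicCompletion (maximalIdeal O) O)) := by
  obtain ⟨b, hb⟩ := exists_sub_mem' (maximalIdeal OY) (maximalIdeal OY).fg_of_isNoetherianRing k
    (Φ.symm (algebraMap O _ c))
  refine ⟨b, ?_⟩
  have h1 := Φ_mem_pow O OY Φ k _ hb
  rw [map_sub, RingEquiv.apply_symm_apply] at h1
  have h2 := Ideal.neg_mem_iff _ |>.mpr h1
  rw [neg_sub] at h2
  exact h2

end Iso

section Alpha

variable {A : Type u} [CommRing A] (p : Ideal A) [p.IsPrime] (O : Type u) [CommRing O]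
  [Algebra A O] [IsLocalization.AtPrime O p]
  {A₁ : Type u} [CommRing A₁] (θ : A →+* A₁) (𝔫 : Ideal A₁) [𝔫.IsPrime] (h : 𝔫.comap θ = p)

/-- the canonical map from the localization of `A` at `p` to the localization of `A₁` at `𝔫`. -/
noncomputable def alphaOf : O →+* Localization.AtPrime 𝔫 :=
  IsLocalization.lift (M := p.primeCompl) (S := O)
    (g := (algebraMap A₁ (Localization.AtPrime 𝔫)).comp θ)
    (fun s => by
      apply IsLocalization.map_units (Localization.AtPrime 𝔫) (⟨θ s, ?_⟩ : 𝔫.primeCompl)
      intro hs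
      have : (s : A) ∈ 𝔫.comap θ := hs
      rw [h] at this
      exact s.2 this)

lemma alphaOf_algebraMap (a : A) :
    alphaOf p O θ 𝔫 h (algebraMap A O a) = algebraMap A₁ (Localization.AtPrime 𝔫) (θ a) :=
  IsLocalization.lift_eq _ _

end Alpha

end Groth.Agent.Helper2.EtApx
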