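import Mathlib
import Groth.Agent.Helper2.EtApxG

set_option autoImplicit false
set_option linter.style.haveILetI false
set_option linter.unusedSectionVars false

namespace Groth.Agent.Helper2.EtApx

open IsLocalRing

universe u

/-- the approximation package. -/
structure Pkg {A₀ B : Type u} [CommRing A₀] [CommRing B] (pX : Ideal A₀)
    (O : Type u) [CommRing O] [IsLocalRing O] [Algebra A₀ O]
    (pY : Ideal B) (OY : Type u) [CommRing OY] [IsLocalRing OY] [Algebra B OY]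
    (φ : OY →+* AdicCompletion (maximalIdeal O) O) (A₁ : Type u) [CommRing A₁] [Algebra A₀ A₁]
    (g : B →+* A₁) (ψ : A₁ →+* AdicCompletion (maximalIdeal O) O) (𝔫 : Ideal A₁) (N : ℕ) :
    Prop where
  hψ : ∀ r : A₀, ψ (algebraMap A₀ A₁ r) =
    algebraMap O (AdicCompletion (maximalIdeal O) O) (algebraMap A₀ O r)
  hcomap : 𝔫.comap (algebraMap A₀ A₁) = pX
  hres : ∀ x : A₁, ∃ r s : A₀, s ∉ pX ∧ algebraMap A₀ A₁ s * x - algebraMap A₀ A₁ r ∈ 𝔫
  h𝔫ψ : ∀ x ∈ 𝔫, ψ x ∈ (maximalIdeal O).map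
    (algebraMap O (AdicCompletion (maximalIdeal O) O))
  hgcomap : 𝔫.comap g = pY
  hcong : ∀ β : B, φ (algebraMap B OY β) - ψ (g β) ∈ (maximalIdeal O ^ N).map
    (algebraMap O (AdicCompletion (maximalIdeal O) O))

section

variable {A₀ B : Type u} [CommRing A₀] [CommRing B] {pX : Ideal A₀} [pX.IsPrime]
  {O : Type u} [CommRing O] [IsLocalRing O] [Algebra A₀ O] [IsLocalization.AtPrime O pX]
  {pY : Ideal B} [pY.IsPrime] {OY : Type u} [CommRing OY] [IsLocalRing OY] [Algebra B OY]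
  [IsLocalization.AtPrime OY pY]
  {φ : OY →+* AdicCompletion (maximalIdeal O) O} {A₁ : Type u} [CommRing A₁] [Algebra A₀ A₁]
  {g : B →+* A₁} {ψ : A₁ →+* AdicCompletion (maximalIdeal O) O} {𝔫 : Ideal A₁} [𝔫.IsPrime]
  {N : ℕ}

theorem Pkg.mono {N' : ℕ} (hN : N ≤ N') (P : Pkg pX O pY OY φ A₁ g ψ 𝔫 N') :
    Pkg pX O pY OY φ A₁ g ψ 𝔫 N :=
  { hψ := P.hψ, hcomap := P.hcomap, hres := P.hres, h𝔫ψ := P.h𝔫ψ, hgcomap := P.hgcomap
    hcong := fun β => Ideal.map_mono (Ideal.pow_le_pow_right hN) (P.hcong β) }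

/-- the two canonical maps to the local ring at `𝔫`. -/
noncomputable abbrev Pkg.αX (P : Pkg pX O pY OY φ A₁ g ψ 𝔫 N) : O →+* Localization.AtPrime 𝔫 :=
  alphaOf pX O (algebraMap A₀ A₁) 𝔫 P.hcomap

noncomputable abbrev Pkg.αY (P : Pkg pX O pY OY φ A₁ g ψ 𝔫 N) : OY →+* Localization.AtPrime 𝔫 :=
  alphaOf pY OY g 𝔫 P.hgcomap

/-- the comparison modulo `m^N` in the local ring at `𝔫`. -/
theorem Pkg.key [Algebra.FormallyUnramified A₀ A₁] (P : Pkg pX O pY OY φ A₁ g ψ 𝔫 N)
    (b : OY) (c : O)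
    (h : φ b - algebraMap O _ c ∈ (maximalIdeal O ^ N).map
      (algebraMap O (AdicCompletion (maximalIdeal O) O))) :
    P.αY b - P.αX c ∈ maximalIdeal (Localization.AtPrime 𝔫) ^ N := by
  have hkill : ∀ z ∈ (maximalIdeal O ^ N).map
      (algebraMap O (AdicCompletion (maximalIdeal O) O)),
      AdicCompletion.evalₐ (maximalIdeal O) N z = 0 := by
    intro z hz
    have h1 := Ideal.mem_map_of_mem (AdicCompletion.evalₐ (maximalIdeal O) N).toRingHom hz
    rw [Ideal.map_map] at h1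
    have hcomp : (AdicCompletion.evalₐ (maximalIdeal O) N).toRingHom.comp
        (algebraMap O (AdicCompletion (maximalIdeal O) O)) =
        Ideal.Quotient.mk (maximalIdeal O ^ N) := by
      ext x
      exact (AdicCompletion.evalₐ (maximalIdeal O) N).commutes x
    rw [hcomp, Ideal.map_quotient_self] at h1
    exact h1
  have h2 : AdicCompletion.evalₐ (maximalIdeal O) N (φ b) =
      Ideal.Quotient.mk (maximalIdeal O ^ N) c := by
    have := hkill _ h
    rw [map_sub, sub_eq_zero] at this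
    rw [this]
    exact (AdicCompletion.evalₐ (maximalIdeal O) N).commutes c
  have h3 := final_alg pX O pY OY φ A₁ g ψ 𝔫 P.hψ P.hcomap P.hres P.h𝔫ψ P.hgcomap N P.hcong
    (Localization.AtPrime 𝔫) P.αX (fun r => alphaOf_algebraMap _ _ _ _ _ r)
    P.αY (fun β => alphaOf_algebraMap _ _ _ _ _ β) b c h2
  exact Ideal.Quotient.eq.mp h3

end

section IsoCase

variable {A₀ B : Type u} [CommRing A₀] [CommRing B] {pX : Ideal A₀} [pX.IsPrime]
  {O : Type u} [CommRing O] [IsLocalRing O] [IsNoetherianRing O] [Algebra A₀ O]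
  [IsLocalization.AtPrime O pX]
  {pY : Ideal B} [pY.IsPrime] {OY : Type u} [CommRing OY] [IsLocalRing OY] [IsNoetherianRing OY]
  [Algebra B OY] [IsLocalization.AtPrime OY pY]
  (Φ : AdicCompletion (maximalIdeal OY) OY ≃+* AdicCompletion (maximalIdeal O) O)
  {A₁ : Type u} [CommRing A₁] [Algebra A₀ A₁]
  {g : B →+* A₁} {ψ : A₁ →+* AdicCompletion (maximalIdeal O) O} {𝔫 : Ideal A₁} [𝔫.IsPrime]
  {N : ℕ}

/-- the map `OY → Ô` attached to an isomorphism of completions. -/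
noncomputable abbrev phiOf : OY →+* AdicCompletion (maximalIdeal O) O :=
  (Φ : AdicCompletion (maximalIdeal OY) OY →+* AdicCompletion (maximalIdeal O) O).comp
    (algebraMap OY (AdicCompletion (maximalIdeal OY) OY))

/-- the canonical map to the local ring at `𝔫` is local (`Y`-side). -/
theorem Pkg.αY_mem (P : Pkg pX O pY OY (phiOf Φ) A₁ g ψ 𝔫 N) (b : OY)
    (hb : b ∈ maximalIdeal OY) : P.αY b ∈ maximalIdeal (Localization.AtPrime 𝔫) := by
  letI : Algebra B A₁ := g.toAlgebra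
  exact alpha_mem_maximalIdeal pY OY A₁ 𝔫 (Localization.AtPrime 𝔫) P.αY
    (fun r => alphaOf_algebraMap _ _ _ _ _ r) P.hgcomap b hb

theorem Pkg.αX_mem (P : Pkg pX O pY OY (phiOf Φ) A₁ g ψ 𝔫 N) (c : O)
    (hc : c ∈ maximalIdeal O) : P.αX c ∈ maximalIdeal (Localization.AtPrime 𝔫) :=
  alpha_mem_maximalIdeal pX O A₁ 𝔫 (Localization.AtPrime 𝔫) P.αX
    (fun r => alphaOf_algebraMap _ _ _ _ _ r) P.hcomap c hc

/-- trivial residue field extension on the `Y`-side. -/
theorem Pkg.resY [Algebra.FormallyUnramified A₀ A₁]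
    (P : Pkg pX O pY OY (phiOf Φ) A₁ g ψ 𝔫 N) (hN : 1 ≤ N) (x : A₁) :
    ∃ r s : B, s ∉ pY ∧ g s * x - g r ∈ 𝔫 := by
  classical
  have P1 := P.mono hN
  obtain ⟨r₀, s₀, hs₀, hrs₀⟩ := P.hres x
  set c : O := IsLocalization.mk' O r₀ (⟨s₀, hs₀⟩ : pX.primeCompl) with hc
  obtain ⟨b, hb⟩ := exists_approx O OY Φ 1 c
  have hkey := P1.key b c hb
  rw [pow_one] at hkey
  obtain ⟨β, t, hbt⟩ := IsLocalization.exists_mk'_eq pY.primeCompl b
  refine ⟨β, t, t.2, ?_⟩
  set ι := algebraMap A₁ (Localization.AtPrime 𝔫) with hι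
  have e1 : P1.αY b * ι (g (t : B)) = ι (g β) := by
    rw [← alphaOf_algebraMap pY OY g 𝔫 P1.hgcomap, ← alphaOf_algebraMap pY OY g 𝔫 P1.hgcomap,
      ← map_mul, ← hbt, IsLocalization.mk'_spec]
  have e2 : P1.αX c * ι (algebraMap A₀ A₁ s₀) = ι (algebraMap A₀ A₁ r₀) := by
    rw [← alphaOf_algebraMap pX O (algebraMap A₀ A₁) 𝔫 P1.hcomap,
      ← alphaOf_algebraMap pX O (algebraMap A₀ A₁) 𝔫 P1.hcomap, ← map_mul, hc]
    congr 1
    exact IsLocalization.mk'_spec O r₀ (⟨s₀, hs₀⟩ : pX.primeCompl)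
  have h1 : ι (algebraMap A₀ A₁ s₀ * x - algebraMap A₀ A₁ r₀) ∈
      maximalIdeal (Localization.AtPrime 𝔫) :=
    (IsLocalization.AtPrime.to_map_mem_maximal_iff _ 𝔫 _).mpr hrs₀
  have hu : IsUnit (ι (algebraMap A₀ A₁ s₀)) := by
    apply IsLocalization.map_units _ (⟨algebraMap A₀ A₁ s₀, ?_⟩ : 𝔫.primeCompl)
    intro hmem
    have : s₀ ∈ 𝔫.comap (algebraMap A₀ A₁) := hmem
    rw [P.hcomap] at this
    exact hs₀ this
  have h2 : ι x - P1.αX c ∈ maximalIdeal (Localization.AtPrime 𝔫) := by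
    have h3 : ι (algebraMap A₀ A₁ s₀) * (ι x - P1.αX c) ∈
        maximalIdeal (Localization.AtPrime 𝔫) := by
      have : ι (algebraMap A₀ A₁ s₀) * (ι x - P1.αX c) =
          ι (algebraMap A₀ A₁ s₀ * x - algebraMap A₀ A₁ r₀) := by
        rw [map_sub, map_mul, ← e2]
        ring
      rw [this]
      exact h1
    rcases Ideal.IsPrime.mem_or_mem inferInstance h3 with h4 | h4
    · exact absurd hu ((mem_maximalIdeal _).mp h4)
    · exact h4
  have h5 : ι x - P1.αY b ∈ maximalIdeal (Localization.AtPrime 𝔫) := by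
    have := Ideal.sub_mem _ h2 hkey
    convert this using 1
    ring
  have h6 : ι (g (t : B) * x - g β) ∈ maximalIdeal (Localization.AtPrime 𝔫) := by
    have : ι (g (t : B) * x - g β) = ι (g (t : B)) * (ι x - P1.αY b) := by
      rw [map_sub, map_mul, ← e1]
      ring
    rw [this]
    exact Ideal.mul_mem_left _ _ h5
  exact (IsLocalization.AtPrime.to_map_mem_maximal_iff _ 𝔫 _).mp h6

/-- the maximal ideal of the local ring at `𝔫` is generated by `pX`. -/
theorem Pkg.map_pX_eq [Algebra.Etale A₀ A₁] (P : Pkg pX O pY OY (phiOf Φ) A₁ g ψ 𝔫 N) :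
    pX.map (algebraMap A₀ (Localization.AtPrime 𝔫)) =
      maximalIdeal (Localization.AtPrime 𝔫) := by
  haveI : 𝔫.LiesOver pX := ⟨P.hcomap.symm⟩
  letI := Localization.AtPrime.algebraOfLiesOver pX 𝔫
  haveI : Algebra.FormallyUnramified A₁ (Localization.AtPrime 𝔫) :=
    Algebra.FormallyUnramified.of_isLocalization 𝔫.primeCompl
  haveI : Algebra.IsUnramifiedAt A₀ 𝔫 :=
    Algebra.FormallyUnramified.comp A₀ A₁ (Localization.AtPrime 𝔫)
  exact ((Algebra.isUnramifiedAt_iff_map_eq A₀ pX 𝔫).mp inferInstance).2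

set_option maxHeartbeats 1600000 in
/-- unramifiedness on the `Y`-side: `m_Y` generates the maximal ideal of the local ring at `𝔫`. -/
theorem Pkg.map_αY_eq [Algebra.Etale A₀ A₁] [IsNoetherianRing A₁]
    (P : Pkg pX O pY OY (phiOf Φ) A₁ g ψ 𝔫 N) (hN : 2 ≤ N) :
    (maximalIdeal OY).map P.αY = maximalIdeal (Localization.AtPrime 𝔫) := by
  classical
  have P2 := P.mono hN
  haveI : IsNoetherianRing (Localization.AtPrime 𝔫) :=
    IsLocalization.isNoetherianRing 𝔫.primeCompl _ inferInstance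
  apply le_antisymm
  · rw [Ideal.map_le_iff_le_comap]
    intro b hb
    exact P.αY_mem Φ b hb
  · have hfg : (maximalIdeal (Localization.AtPrime 𝔫)).FG := Ideal.fg_of_isNoetherianRing _
    refine Submodule.le_of_le_smul_of_le_jacobson_bot (I := maximalIdeal (Localization.AtPrime 𝔫))
      hfg (IsLocalRing.maximalIdeal_le_jacobson _) ?_
    rw [← P.map_pX_eq Φ]
    rw [Ideal.map_le_iff_le_comap]
    intro c₀ hc₀
    rw [Ideal.mem_comap]
    rw [P.map_pX_eq Φ]
    set c : O := algebraMap A₀ O c₀ with hc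
    have hcm : c ∈ maximalIdeal O := (IsLocalization.AtPrime.to_map_mem_maximal_iff O pX c₀).mpr hc₀
    obtain ⟨b, hb⟩ := exists_approx O OY Φ 2 c
    have hkey := P2.key b c hb
    have hαXc : P2.αX c = algebraMap A₀ (Localization.AtPrime 𝔫) c₀ := by
      rw [hc, alphaOf_algebraMap]
      exact (IsScalarTower.algebraMap_apply A₀ A₁ (Localization.AtPrime 𝔫) c₀).symm
    have hαXm : P2.αX c ∈ maximalIdeal (Localization.AtPrime 𝔫) := P.αX_mem Φ c hcm
    have hαYm : P2.αY b ∈ maximalIdeal (Localization.AtPrime 𝔫) := by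
      have h1 : P2.αY b - P2.αX c ∈ maximalIdeal (Localization.AtPrime 𝔫) :=
        Ideal.pow_le_self (by norm_num) hkey
      have := Ideal.add_mem _ h1 hαXm
      simpa using this
    have hbm : b ∈ maximalIdeal OY := by
      by_contra hne
      have hu : IsUnit b := by
        by_contra hnu
        exact hne ((mem_maximalIdeal _).mpr hnu)
      exact ((mem_maximalIdeal _).mp hαYm) (hu.map _)
    have h2 : P2.αY b ∈ (maximalIdeal OY).map P.αY := Ideal.mem_map_of_mem _ hbm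
    rw [← hαXc]
    have h3 : P2.αX c = P2.αY b - (P2.αY b - P2.αX c) := by ring
    rw [h3]
    refine Submodule.sub_mem _ (Submodule.mem_sup_left h2) (Submodule.mem_sup_right ?_)
    rw [smul_eq_mul, ← pow_two]
    exact hkey

end IsoCase

end Groth.Agent.Helper2.EtApx
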