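import Mathlib
import Groth.Agent.Helper2.EtApxH

set_option autoImplicit false
set_option linter.style.haveILetI false
set_option linter.unusedSectionVars false

namespace Groth.Agent.Helper2.CdJ

open IsLocalRing Groth.Agent.Helper2.EtApx

universe u

/-- contraction of powers of the maximal ideal of the localization at a maximal ideal. -/
theorem mem_pow_of_algebraMap_mem {A₁ : Type u} [CommRing A₁] (𝔫 : Ideal A₁) [h𝔫 : 𝔫.IsMaximal]
    (L : Type u) [CommRing L] [IsLocalRing L] [Algebra A₁ L] [IsLocalization.AtPrime L 𝔫]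
    (n : ℕ) (a : A₁) (ha : algebraMap A₁ L a ∈ maximalIdeal L ^ n) : a ∈ 𝔫 ^ n := by
  rw [← IsLocalization.AtPrime.map_eq_maximalIdeal 𝔫 L, ← Ideal.map_pow,
    IsLocalization.mem_map_algebraMap_iff 𝔫.primeCompl L] at ha
  obtain ⟨⟨i, s⟩, his⟩ := ha
  rw [← map_mul, IsLocalization.eq_iff_exists 𝔫.primeCompl L] at his
  obtain ⟨t, ht⟩ := his
  have hts : (t : A₁) * (s : A₁) ∉ 𝔫 := fun h =>
    (Ideal.IsPrime.mem_or_mem inferInstance h).elim t.2 s.2
  obtain ⟨y, u, hu, hyu⟩ := Ideal.IsMaximal.exists_inv_pow 𝔫 hts n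
  have h1 : (t : A₁) * (s : A₁) * a ∈ 𝔫 ^ n := by
    have : (t : A₁) * (s : A₁) * a = (t : A₁) * (i : A₁) := by
      rw [mul_assoc, mul_comm (s : A₁) a]
      exact ht
    rw [this]
    exact Ideal.mul_mem_left _ _ i.2
  have h2 : a = y * ((t : A₁) * (s : A₁) * a) + u * a := by
    calc a = 1 * a := (one_mul a).symm
      _ = (y * ((t : A₁) * (s : A₁)) + u) * a := by rw [hyu]
      _ = y * ((t : A₁) * (s : A₁) * a) + u * a := by ring
  rw [h2]
  exact Ideal.add_mem _ (Ideal.mul_mem_left _ _ h1) (Ideal.mul_mem_right _ _ hu)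

section

variable {A₀ : Type u} [CommRing A₀] (pX : Ideal A₀) [hpX : pX.IsMaximal]
  (O : Type u) [CommRing O] [IsLocalRing O] [IsNoetherianRing O] [Algebra A₀ O]
  [hlocO : IsLocalization.AtPrime O pX]
  (A₁ : Type u) [CommRing A₁] [Algebra A₀ A₁]
  (ψ : A₁ →+* AdicCompletion (maximalIdeal O) O) (𝔫 : Ideal A₁) [𝔫.IsPrime]
  (hψ : ∀ r : A₀, ψ (algebraMap A₀ A₁ r) =
    algebraMap O (AdicCompletion (maximalIdeal O) O) (algebraMap A₀ O r))
  (hcomap : 𝔫.comap (algebraMap A₀ A₁) = pX)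
  (hres : ∀ x : A₁, ∃ r s : A₀, s ∉ pX ∧ algebraMap A₀ A₁ s * x - algebraMap A₀ A₁ r ∈ 𝔫)
  (h𝔫ψ : ∀ x ∈ 𝔫, ψ x ∈ (maximalIdeal O).map
    (algebraMap O (AdicCompletion (maximalIdeal O) O)))

include hcomap hres in
theorem isMaximal_of_hres : 𝔫.IsMaximal := by
  have hmemX : ∀ c : A₀, c ∈ pX ↔ algebraMap A₀ A₁ c ∈ 𝔫 := fun c => by
    rw [← hcomap]; rfl
  rw [Ideal.isMaximal_iff]
  refine ⟨fun h => (Ideal.IsPrime.ne_top inferInstance) ((Ideal.eq_top_iff_one _).mpr h),
    fun J x hle hx hxJ => ?_⟩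
  obtain ⟨r, s, hs, hrs⟩ := hres x
  have hr : r ∉ pX := by
    intro hr
    have h1 : algebraMap A₀ A₁ s * x ∈ 𝔫 := by
      have := 𝔫.add_mem hrs ((hmemX r).mp hr)
      simpa using this
    rcases Ideal.IsPrime.mem_or_mem inferInstance h1 with h2 | h2
    · exact hs ((hmemX s).mpr h2)
    · exact hx h2
  obtain ⟨r', i, hi, hri⟩ := Ideal.IsMaximal.exists_inv hpX hr
  have h3 : algebraMap A₀ A₁ r ∈ J := by
    have : algebraMap A₀ A₁ r = algebraMap A₀ A₁ s * x -
        (algebraMap A₀ A₁ s * x - algebraMap A₀ A₁ r) := by ring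
    rw [this]
    exact J.sub_mem (J.mul_mem_left _ hxJ) (hle hrs)
  have h4 : (1 : A₁) = algebraMap A₀ A₁ r' * algebraMap A₀ A₁ r + algebraMap A₀ A₁ i := by
    rw [← map_mul, ← map_add, hri, map_one]
  rw [h4]
  exact J.add_mem (J.mul_mem_left _ h3) (hle ((hmemX i).mp hi))

include hpX hlocO in
/-- elements of the completion are approximated by elements of `A₀`. -/
theorem exists_approx_A₀ (n : ℕ) (z : AdicCompletion (maximalIdeal O) O) :
    ∃ a : A₀, z - algebraMap O _ (algebraMap A₀ O a) ∈ (maximalIdeal O ^ n).map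
      (algebraMap O (AdicCompletion (maximalIdeal O) O)) := by
  obtain ⟨o, ho⟩ := exists_sub_mem' (maximalIdeal O) (Ideal.fg_of_isNoetherianRing _) n z
  obtain ⟨p, s, rfl⟩ := IsLocalization.exists_mk'_eq pX.primeCompl o
  obtain ⟨y, u, hu, hyu⟩ := Ideal.IsMaximal.exists_inv_pow pX s.2 n
  refine ⟨y * p, ?_⟩
  have h1 : IsLocalization.mk' O p s - algebraMap A₀ O (y * p) ∈ maximalIdeal O ^ n := by
    have e1 : IsLocalization.mk' O p s - algebraMap A₀ O (y * p) =
        algebraMap A₀ O u * IsLocalization.mk' O p s := by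
      have hs : IsLocalization.mk' O p s * algebraMap A₀ O (s : A₀) = algebraMap A₀ O p :=
        IsLocalization.mk'_spec O p s
      have h1' : (1 : O) = algebraMap A₀ O y * algebraMap A₀ O (s : A₀) + algebraMap A₀ O u := by
        rw [← map_mul, ← map_add, hyu, map_one]
      calc IsLocalization.mk' O p s - algebraMap A₀ O (y * p)
          = IsLocalization.mk' O p s * 1 - algebraMap A₀ O y * algebraMap A₀ O p := by
            rw [mul_one, map_mul]
        _ = algebraMap A₀ O u * IsLocalization.mk' O p s := by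
            rw [h1', ← hs]; ring
    rw [e1]
    refine Ideal.mul_mem_right _ _ ?_
    rw [← IsLocalization.AtPrime.map_eq_maximalIdeal pX O, ← Ideal.map_pow]
    exact Ideal.mem_map_of_mem _ hu
  have h2 := Ideal.mem_map_of_mem (algebraMap O (AdicCompletion (maximalIdeal O) O)) h1
  rw [map_sub] at h2
  have := Ideal.add_mem _ ho h2
  convert this using 1
  ring

include h𝔫ψ in
theorem psi_mem_of_mem_pow (n : ℕ) (a : A₁) (ha : a ∈ 𝔫 ^ n) :
    ψ a ∈ (maximalIdeal O ^ n).map (algebraMap O (AdicCompletion (maximalIdeal O) O)) := by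
  rw [Ideal.map_pow]
  have h1 : 𝔫.map ψ ≤ (maximalIdeal O).map (algebraMap O (AdicCompletion (maximalIdeal O) O)) := by
    rw [Ideal.map_le_iff_le_comap]
    exact fun x hx => h𝔫ψ x hx
  have h2 := Ideal.pow_right_mono h1 n
  rw [← Ideal.map_pow] at h2
  exact h2 (Ideal.mem_map_of_mem _ ha)

include hψ hcomap hres h𝔫ψ in
theorem mem_pow_of_psi_mem [Algebra.FormallyUnramified A₀ A₁] (n : ℕ) (a : A₁)
    (ha : ψ a ∈ (maximalIdeal O ^ n).map (algebraMap O (AdicCompletion (maximalIdeal O) O))) :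
    a ∈ 𝔫 ^ n := by
  haveI : 𝔫.IsMaximal := isMaximal_of_hres pX A₁ 𝔫 hcomap hres
  have h0 : AdicCompletion.evalₐ (maximalIdeal O) n (ψ a) =
      Ideal.Quotient.mk (maximalIdeal O ^ n) 0 := by
    rw [map_zero]
    have h1 := Ideal.mem_map_of_mem (AdicCompletion.evalₐ (maximalIdeal O) n).toRingHom ha
    rw [Ideal.map_map] at h1
    have hcomp : (AdicCompletion.evalₐ (maximalIdeal O) n).toRingHom.comp
        (algebraMap O (AdicCompletion (maximalIdeal O) O)) =
        Ideal.Quotient.mk (maximalIdeal O ^ n) := by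
      ext x
      exact (AdicCompletion.evalₐ (maximalIdeal O) n).commutes x
    rw [hcomp, Ideal.map_quotient_self] at h1
    exact h1
  have h1 := final_cond pX O A₁ 𝔫 (Localization.AtPrime 𝔫)
    (alphaOf pX O (algebraMap A₀ A₁) 𝔫 hcomap) (fun r => alphaOf_algebraMap _ _ _ _ _ r)
    ψ hψ hcomap hres h𝔫ψ n a 0 h0
  rw [map_zero, map_zero, Ideal.Quotient.eq_zero_iff_mem] at h1
  exact mem_pow_of_algebraMap_mem 𝔫 (Localization.AtPrime 𝔫) n a h1

end

end Groth.Agent.Helper2.CdJ
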