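import Mathlib
import Groth.Prelude.Def_AssocGr

set_option autoImplicit false
set_option linter.style.haveILetI false
set_option linter.unusedSectionVars false

namespace Groth.Agent.Helper2.GrFun

open Polynomial AssocGr FiltBl

universe u

variable {A Q : Type u} [CommRing A] [CommRing Q] (θ : A →+* Q) (I : Ideal A) (K : Ideal Q)

theorem map_pow_le (hIK : I.map θ ≤ K) (n : ℕ) (a : A) (ha : a ∈ I ^ n) : θ a ∈ K ^ n := by
  have h1 : (I ^ n).map θ ≤ K ^ n := by
    rw [Ideal.map_pow]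
    exact Ideal.pow_right_mono hIK n
  exact h1 (Ideal.mem_map_of_mem _ ha)

/-- the map of Rees algebras induced by a ring map respecting the ideals. -/
noncomputable def reesMap (hIK : I.map θ ≤ K) :
    (IdealFiltration.adic I).rees →+* (IdealFiltration.adic K).rees :=
  RingHom.restrict (Polynomial.mapRingHom θ) (IdealFiltration.adic I).rees
    (IdealFiltration.adic K).rees (fun f hf n => by
      rw [Polynomial.coe_mapRingHom, Polynomial.coeff_map]
      exact map_pow_le θ I K hIK n _ (hf n))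

theorem coe_reesMap (hIK : I.map θ ≤ K) (f : (IdealFiltration.adic I).rees) :
    ((reesMap θ I K hIK f : (IdealFiltration.adic K).rees) : Q[X]) = Polynomial.map θ (f : A[X]) :=
  rfl

theorem coeff_reesMap (hIK : I.map θ ≤ K) (f : (IdealFiltration.adic I).rees) (n : ℕ) :
    ((reesMap θ I K hIK f : (IdealFiltration.adic K).rees) : Q[X]).coeff n =
      θ ((f : A[X]).coeff n) := by
  rw [coe_reesMap, Polynomial.coeff_map]

theorem reesMap_mem_succIdeal (hIK : I.map θ ≤ K) (f : (IdealFiltration.adic I).rees)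
    (hf : f ∈ succIdeal (IdealFiltration.adic I)) :
    reesMap θ I K hIK f ∈ succIdeal (IdealFiltration.adic K) := by
  intro n
  rw [coeff_reesMap]
  exact map_pow_le θ I K hIK (n + 1) _ (hf n)

/-- the induced map of associated graded rings. -/
noncomputable def grMap (hIK : I.map θ ≤ K) :
    GrRing (IdealFiltration.adic I) →+* GrRing (IdealFiltration.adic K) :=
  Ideal.Quotient.lift (succIdeal (IdealFiltration.adic I))
    ((mkG (IdealFiltration.adic K)).toRingHom.comp (reesMap θ I K hIK))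
    (fun f hf => by
      rw [RingHom.comp_apply]
      exact (mkG_eq_zero_iff _ _).mpr (reesMap_mem_succIdeal θ I K hIK f hf))

theorem grMap_mkG (hIK : I.map θ ≤ K) (f : (IdealFiltration.adic I).rees) :
    grMap θ I K hIK (mkG _ f) = mkG _ (reesMap θ I K hIK f) :=
  Ideal.Quotient.lift_mk _ _ _

theorem grMap_mem_gr (hIK : I.map θ ≤ K) (n : ℕ) (x : GrRing (IdealFiltration.adic I))
    (hx : x ∈ gr (IdealFiltration.adic I) n) :
    grMap θ I K hIK x ∈ gr (IdealFiltration.adic K) n := by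
  obtain ⟨f, hf, rfl⟩ := (mem_gr_iff _ n x).mp hx
  rw [grMap_mkG]
  refine mkG_mem_gr _ ?_
  rw [Rees.mem_deg_iff] at hf ⊢
  intro m hm
  rw [coeff_reesMap, hf m hm, map_zero]

theorem grMap_algebraMap (hIK : I.map θ ≤ K) (r : A) :
    grMap θ I K hIK (algebraMap A _ r) = algebraMap Q _ (θ r) := by
  rw [← (mkG (IdealFiltration.adic I)).commutes r, grMap_mkG,
    ← (mkG (IdealFiltration.adic K)).commutes (θ r)]
  congr 1
  apply Subtype.ext
  rw [coe_reesMap]
  change Polynomial.map θ (Polynomial.C r) = Polynomial.C (θ r)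
  exact Polynomial.map_C θ

theorem grMap_eq_zero_iff (hIK : I.map θ ≤ K) (f : (IdealFiltration.adic I).rees) :
    grMap θ I K hIK (mkG _ f) = 0 ↔ ∀ n, θ ((f : A[X]).coeff n) ∈ K ^ (n + 1) := by
  rw [grMap_mkG, mkG_eq_zero_iff, mem_succIdeal_iff]
  constructor
  · intro h n
    rw [← coeff_reesMap θ I K hIK]
    exact h n
  · intro h n
    rw [coeff_reesMap]
    exact h n

/-- injectivity criterion. -/
theorem grMap_injective (hIK : I.map θ ≤ K)
    (hinj : ∀ (n : ℕ) (a : A), θ a ∈ K ^ n → a ∈ I ^ n) :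
    Function.Injective (grMap θ I K hIK) := by
  rw [injective_iff_map_eq_zero]
  intro x hx
  obtain ⟨f, rfl⟩ := mkG_surjective _ x
  rw [grMap_eq_zero_iff] at hx
  rw [mkG_eq_zero_iff, mem_succIdeal_iff]
  intro n
  exact hinj (n + 1) _ (hx n)

/-- surjectivity criterion (piecewise). -/
theorem grMap_surjective_pieces (hIK : I.map θ ≤ K)
    (hsurj : ∀ (n : ℕ) (q : Q), q ∈ K ^ n → ∃ a ∈ I ^ n, θ a - q ∈ K ^ (n + 1))
    (g : (IdealFiltration.adic K).rees) :
    ∃ f : (IdealFiltration.adic I).rees,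
      (∀ m, (g : Q[X]).coeff m = 0 → (f : A[X]).coeff m = 0) ∧
      grMap θ I K hIK (mkG _ f) = mkG _ g := by
  classical
  have hc : ∀ n : ℕ, ∃ a ∈ I ^ n, θ a - (g : Q[X]).coeff n ∈ K ^ (n + 1) :=
    fun n => hsurj n _ (g.2 n)
  choose a ha hθa using hc
  let fp : A[X] := ∑ n ∈ (g : Q[X]).support, Polynomial.monomial n (a n)
  have hcoeff : ∀ m, fp.coeff m = if m ∈ (g : Q[X]).support then a m else 0 := by
    intro m
    simp only [fp, Polynomial.finset_sum_coeff, Polynomial.coeff_monomial]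
    rw [Finset.sum_ite_eq' (g : Q[X]).support m (fun n => a n)]
  have hfp : fp ∈ (IdealFiltration.adic I).rees := by
    intro m
    rw [hcoeff]
    split_ifs
    · exact ha m
    · exact Ideal.zero_mem _
  refine ⟨⟨fp, hfp⟩, ?_, ?_⟩
  · intro m hm
    change fp.coeff m = 0
    rw [hcoeff, if_neg]
    rw [Polynomial.mem_support_iff]
    exact fun h => h hm
  · rw [grMap_mkG, ← sub_eq_zero, ← map_sub, mkG_eq_zero_iff, mem_succIdeal_iff]
    intro m
    rw [Subalgebra.coe_sub, Polynomial.coeff_sub, coeff_reesMap]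
    change θ (fp.coeff m) - _ ∈ _
    rw [hcoeff]
    split_ifs with hm
    · exact hθa m
    · rw [Polynomial.notMem_support_iff.mp hm, map_zero, sub_zero]
      exact Ideal.zero_mem _

theorem grMap_surjective (hIK : I.map θ ≤ K)
    (hsurj : ∀ (n : ℕ) (q : Q), q ∈ K ^ n → ∃ a ∈ I ^ n, θ a - q ∈ K ^ (n + 1)) :
    Function.Surjective (grMap θ I K hIK) := by
  intro y
  obtain ⟨g, rfl⟩ := mkG_surjective _ y
  obtain ⟨f, -, hf⟩ := grMap_surjective_pieces θ I K hIK hsurj g
  exact ⟨_, hf⟩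

/-- every element of the degree `n` piece downstairs lifts to the degree `n` piece. -/
theorem exists_mem_gr_grMap_eq (hIK : I.map θ ≤ K)
    (hsurj : ∀ (n : ℕ) (q : Q), q ∈ K ^ n → ∃ a ∈ I ^ n, θ a - q ∈ K ^ (n + 1))
    (n : ℕ) (y : GrRing (IdealFiltration.adic K)) (hy : y ∈ gr (IdealFiltration.adic K) n) :
    ∃ x ∈ gr (IdealFiltration.adic I) n, grMap θ I K hIK x = y := by
  obtain ⟨g, hg, rfl⟩ := (mem_gr_iff _ n y).mp hy
  obtain ⟨f, hf0, hf⟩ := grMap_surjective_pieces θ I K hIK hsurj g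
  refine ⟨mkG _ f, mkG_mem_gr _ ?_, hf⟩
  rw [Rees.mem_deg_iff] at hg ⊢
  intro m hm
  exact hf0 m (hg m hm)

end Groth.Agent.Helper2.GrFun
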