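import Mathlib
import Groth.Agent.Helper2.GrFunA

set_option autoImplicit false
set_option linter.style.haveILetI false
set_option linter.unusedSectionVars false

namespace Groth.Agent.Helper2.GrFun

open Polynomial AssocGr FiltBl

universe u

/-- two surjective ring maps with the same kernel have isomorphic targets. -/
theorem exists_ringEquiv_of_ker_eq {G G₁ G₂ : Type*} [CommRing G] [CommRing G₁] [CommRing G₂]
    (f₁ : G →+* G₁) (f₂ : G →+* G₂) (h₁ : Function.Surjective f₁) (h₂ : Function.Surjective f₂)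
    (hk : RingHom.ker f₁ = RingHom.ker f₂) : ∃ e : G₁ ≃+* G₂, ∀ x, e (f₁ x) = f₂ x := by
  let e₁ := RingHom.quotientKerEquivOfSurjective h₁
  let e₂ := RingHom.quotientKerEquivOfSurjective h₂
  refine ⟨e₁.symm.trans ((Ideal.quotEquivOfEq hk).trans e₂), fun x => ?_⟩
  have h1 : e₁.symm (f₁ x) = Ideal.Quotient.mk _ x := by
    rw [RingEquiv.symm_apply_eq]
    rfl
  rw [RingEquiv.trans_apply, h1, RingEquiv.trans_apply, Ideal.quotEquivOfEq_mk]
  rfl

variable {A Q : Type u} [CommRing A] [CommRing Q] (θ : A →+* Q) (I : Ideal A)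

theorem hsurj_of_surjective (hθ : Function.Surjective θ) (n : ℕ) (q : Q)
    (hq : q ∈ (I.map θ) ^ n) : ∃ a ∈ I ^ n, θ a - q ∈ (I.map θ) ^ (n + 1) := by
  rw [← Ideal.map_pow] at hq
  obtain ⟨a, ha, rfl⟩ := (Ideal.mem_map_iff_of_surjective θ hθ).mp hq
  exact ⟨a, ha, by rw [sub_self]; exact Ideal.zero_mem _⟩

theorem map_mem_pow_iff (hθ : Function.Surjective θ) (n : ℕ) (a : A) :
    θ a ∈ (I.map θ) ^ n ↔ a ∈ I ^ n ⊔ RingHom.ker θ := by
  rw [← Ideal.map_pow, ← Ideal.mem_comap, Ideal.comap_map_of_surjective' θ hθ]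

/-- the kernel of the induced map on graded rings, for a surjection. -/
theorem grMap_eq_zero_iff_of_surjective (hθ : Function.Surjective θ)
    (f : (IdealFiltration.adic I).rees) :
    grMap θ I (I.map θ) le_rfl (mkG _ f) = 0 ↔
      ∀ n, (f : A[X]).coeff n ∈ I ^ (n + 1) ⊔ RingHom.ker θ := by
  rw [grMap_eq_zero_iff]
  exact forall_congr' fun n => map_mem_pow_iff θ I hθ (n + 1) _

variable {Q₁ Q₂ : Type u} [CommRing Q₁] [CommRing Q₂] (π₁ : A →+* Q₁) (π₂ : A →+* Q₂)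

/-- two quotients with the same initial ideals have isomorphic associated graded rings. -/
theorem exists_grEquiv (h₁ : Function.Surjective π₁) (h₂ : Function.Surjective π₂)
    (H : ∀ (n : ℕ) (a : A), a ∈ I ^ n →
      (a ∈ I ^ (n + 1) ⊔ RingHom.ker π₁ ↔ a ∈ I ^ (n + 1) ⊔ RingHom.ker π₂)) :
    ∃ e : GrRing (IdealFiltration.adic (I.map π₁)) ≃+* GrRing (IdealFiltration.adic (I.map π₂)),
      (∀ x, e (grMap π₁ I (I.map π₁) le_rfl x) = grMap π₂ I (I.map π₂) le_rfl x) ∧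
      (∀ (n : ℕ) (y : GrRing (IdealFiltration.adic (I.map π₁))),
        y ∈ gr (IdealFiltration.adic (I.map π₁)) n → e y ∈ gr (IdealFiltration.adic (I.map π₂)) n) ∧
      (∀ r : A, e (algebraMap Q₁ _ (π₁ r)) = algebraMap Q₂ _ (π₂ r)) := by
  have hs₁ := grMap_surjective π₁ I (I.map π₁) le_rfl (hsurj_of_surjective π₁ I h₁)
  have hs₂ := grMap_surjective π₂ I (I.map π₂) le_rfl (hsurj_of_surjective π₂ I h₂)
  have hk : RingHom.ker (grMap π₁ I (I.map π₁) le_rfl) = RingHom.ker (grMap π₂ I (I.map π₂) le_rfl) := by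
    ext x
    obtain ⟨f, rfl⟩ := mkG_surjective _ x
    rw [RingHom.mem_ker, RingHom.mem_ker, grMap_eq_zero_iff_of_surjective π₁ I h₁,
      grMap_eq_zero_iff_of_surjective π₂ I h₂]
    exact forall_congr' fun n => H n _ (f.2 n)
  obtain ⟨e, he⟩ := exists_ringEquiv_of_ker_eq _ _ hs₁ hs₂ hk
  refine ⟨e, he, ?_, ?_⟩
  · intro n y hy
    obtain ⟨x, hx, rfl⟩ := exists_mem_gr_grMap_eq π₁ I (I.map π₁) le_rfl
      (hsurj_of_surjective π₁ I h₁) n y hy
    rw [he]
    exact grMap_mem_gr π₂ I (I.map π₂) le_rfl n x hx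
  · intro r
    rw [← grMap_algebraMap π₁ I (I.map π₁) le_rfl, he, grMap_algebraMap]


/-- version with named target ideals. -/
theorem exists_grEquiv' (K₁ : Ideal Q₁) (K₂ : Ideal Q₂) (hK₁ : I.map π₁ = K₁) (hK₂ : I.map π₂ = K₂)
    (h₁ : Function.Surjective π₁) (h₂ : Function.Surjective π₂)
    (H : ∀ (n : ℕ) (a : A), a ∈ I ^ n →
      (a ∈ I ^ (n + 1) ⊔ RingHom.ker π₁ ↔ a ∈ I ^ (n + 1) ⊔ RingHom.ker π₂)) :
    ∃ e : GrRing (IdealFiltration.adic K₁) ≃+* GrRing (IdealFiltration.adic K₂),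
      (∀ (n : ℕ) (y : GrRing (IdealFiltration.adic K₁)),
        y ∈ gr (IdealFiltration.adic K₁) n → e y ∈ gr (IdealFiltration.adic K₂) n) ∧
      (∀ r : A, e (algebraMap Q₁ _ (π₁ r)) = algebraMap Q₂ _ (π₂ r)) := by
  subst hK₁ hK₂
  obtain ⟨e, -, h2, h3⟩ := exists_grEquiv I π₁ π₂ h₁ h₂ H
  exact ⟨e, h2, h3⟩

/-- a ring map inducing bijections level-wise induces a graded isomorphism. -/
theorem exists_grEquiv_of_levelwise (K : Ideal Q) (hIK : I.map θ ≤ K)
    (hinj : ∀ (n : ℕ) (a : A), θ a ∈ K ^ n → a ∈ I ^ n)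
    (hsurj : ∀ (n : ℕ) (q : Q), q ∈ K ^ n → ∃ a ∈ I ^ n, θ a - q ∈ K ^ (n + 1)) :
    ∃ e : GrRing (IdealFiltration.adic K) ≃+* GrRing (IdealFiltration.adic I),
      (∀ (n : ℕ) (y : GrRing (IdealFiltration.adic K)),
        y ∈ gr (IdealFiltration.adic K) n → e y ∈ gr (IdealFiltration.adic I) n) ∧
      (∀ r : A, e (algebraMap Q _ (θ r)) = algebraMap A _ r) := by
  let e' : GrRing (IdealFiltration.adic I) ≃+* GrRing (IdealFiltration.adic K) :=
    RingEquiv.ofBijective (grMap θ I K hIK)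
      ⟨grMap_injective θ I K hIK hinj, grMap_surjective θ I K hIK hsurj⟩
  have he' : ∀ x, e' x = grMap θ I K hIK x := fun x => rfl
  refine ⟨e'.symm, ?_, ?_⟩
  · intro n y hy
    obtain ⟨x, hx, rfl⟩ := exists_mem_gr_grMap_eq θ I K hIK hsurj n y hy
    rw [← he', RingEquiv.symm_apply_apply]
    exact hx
  · intro r
    rw [← grMap_algebraMap θ I K hIK, ← he', RingEquiv.symm_apply_apply]

end Groth.Agent.Helper2.GrFun
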