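import Mathlib
import Groth.Agent.Helper2.CdJC
import Groth.Agent.Helper2.GrFunB

set_option autoImplicit false
set_option linter.style.haveILetI false
set_option linter.unusedSectionVars false

noncomputable section

namespace Groth.Agent.Helper2.CdJ

open IsLocalRing Groth.Agent.Helper2.EtApx AssocGr FiltBl

universe u

section Defs

variable {O : Type u} [CommRing O] [IsLocalRing O]
  {A₁ : Type u} [CommRing A₁] (ψ : A₁ →+* AdicCompletion (maximalIdeal O) O)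
  {s : ℕ} (f₁ : Fin s → A₁)

/-- the finite type algebra. -/
abbrev AA : Type u := A₁ ⧸ Ideal.span (Set.range f₁)

/-- the approximating ideal in the completion. -/
abbrev JJ : Ideal (AdicCompletion (maximalIdeal O) O) := Ideal.span (Set.range fun j => ψ (f₁ j))

/-- the approximating quotient of the completion. -/
abbrev QQ : Type u := AdicCompletion (maximalIdeal O) O ⧸ JJ ψ f₁

/-- the comparison map. -/
def theta : AA f₁ →+* QQ ψ f₁ :=
  Ideal.Quotient.lift _ ((Ideal.Quotient.mk (JJ ψ f₁)).comp ψ) (by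
    intro a ha
    rw [← RingHom.mem_ker]
    revert a
    change Ideal.span (Set.range f₁) ≤ _
    rw [Ideal.span_le]
    rintro _ ⟨j, rfl⟩
    rw [SetLike.mem_coe, RingHom.mem_ker, RingHom.comp_apply, Ideal.Quotient.eq_zero_iff_mem]
    exact Ideal.subset_span ⟨j, rfl⟩)

theorem theta_mk (a : A₁) :
    theta ψ f₁ (Ideal.Quotient.mk _ a) = Ideal.Quotient.mk (JJ ψ f₁) (ψ a) := rfl

end Defs

section Main

variable {A₀ : Type u} [CommRing A₀] (pX : Ideal A₀) [hpX : pX.IsMaximal]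
  (O : Type u) [CommRing O] [IsLocalRing O] [IsNoetherianRing O] [Algebra A₀ O]
  [hlocO : IsLocalization.AtPrime O pX]
  (A₁ : Type u) [CommRing A₁] [Algebra A₀ A₁] [Algebra.FormallyUnramified A₀ A₁]
  (ψ : A₁ →+* AdicCompletion (maximalIdeal O) O) (𝔫 : Ideal A₁) [𝔫.IsPrime]
  (hψ : ∀ r : A₀, ψ (algebraMap A₀ A₁ r) =
    algebraMap O (AdicCompletion (maximalIdeal O) O) (algebraMap A₀ O r))
  (hcomap : 𝔫.comap (algebraMap A₀ A₁) = pX)
  (hres : ∀ x : A₁, ∃ r s : A₀, s ∉ pX ∧ algebraMap A₀ A₁ s * x - algebraMap A₀ A₁ r ∈ 𝔫)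
  (h𝔫ψ : ∀ x ∈ 𝔫, ψ x ∈ (maximalIdeal O).map
    (algebraMap O (AdicCompletion (maximalIdeal O) O)))
  {s : ℕ} (f₁ : Fin s → A₁) (hf₁ : ∀ j, f₁ j ∈ 𝔫)

theorem pow_eq_map (n : ℕ) : maximalIdeal (AdicCompletion (maximalIdeal O) O) ^ n =
    (maximalIdeal O ^ n).map (algebraMap O (AdicCompletion (maximalIdeal O) O)) := by
  rw [AdicCompletion.maximalIdeal_eq_map, Ideal.map_pow]

/-- the maximal ideal of the finite type algebra. -/
abbrev mm : Ideal (AA f₁) := 𝔫.map (Ideal.Quotient.mk (Ideal.span (Set.range f₁)))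

/-- the maximal ideal of the approximating quotient. -/
abbrev KK : Ideal (QQ ψ f₁) :=
  (maximalIdeal (AdicCompletion (maximalIdeal O) O)).map (Ideal.Quotient.mk (JJ ψ f₁))

include h𝔫ψ in
theorem theta_le : (mm A₁ 𝔫 f₁).map (theta ψ f₁) ≤ KK O A₁ ψ f₁ := by
  rw [Ideal.map_map, Ideal.map_le_iff_le_comap]
  intro a ha
  rw [Ideal.mem_comap, RingHom.comp_apply, theta_mk]
  refine Ideal.mem_map_of_mem _ ?_
  rw [AdicCompletion.maximalIdeal_eq_map]
  exact h𝔫ψ a ha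

theorem mem_mm_pow_iff (n : ℕ) (a : A₁) :
    Ideal.Quotient.mk (Ideal.span (Set.range f₁)) a ∈ mm A₁ 𝔫 f₁ ^ n ↔
      a ∈ 𝔫 ^ n ⊔ Ideal.span (Set.range f₁) := by
  have := GrFun.map_mem_pow_iff (Ideal.Quotient.mk (Ideal.span (Set.range f₁))) 𝔫
    Ideal.Quotient.mk_surjective n a
  rw [Ideal.mk_ker] at this
  exact this

theorem mem_KK_pow_iff (n : ℕ) (z : AdicCompletion (maximalIdeal O) O) :
    Ideal.Quotient.mk (JJ ψ f₁) z ∈ KK O A₁ ψ f₁ ^ n ↔
      z ∈ maximalIdeal (AdicCompletion (maximalIdeal O) O) ^ n ⊔ JJ ψ f₁ := by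
  have := GrFun.map_mem_pow_iff (Ideal.Quotient.mk (JJ ψ f₁))
    (maximalIdeal (AdicCompletion (maximalIdeal O) O)) Ideal.Quotient.mk_surjective n z
  rw [Ideal.mk_ker] at this
  exact this

include hpX hlocO hψ hcomap hres h𝔫ψ in
/-- level-wise injectivity of `theta`. -/
theorem theta_hinj (n : ℕ) (a : AA f₁) (ha : theta ψ f₁ a ∈ KK O A₁ ψ f₁ ^ n) :
    a ∈ mm A₁ 𝔫 f₁ ^ n := by
  classical
  obtain ⟨a₁, rfl⟩ := Ideal.Quotient.mk_surjective a
  rw [theta_mk, mem_KK_pow_iff] at ha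
  obtain ⟨μ, hμ, w, hw, hsum⟩ := Submodule.mem_sup.mp ha
  obtain ⟨chat, hc⟩ := Ideal.mem_span_range_iff_exists_fun.mp hw
  -- approximate the coefficients
  choose c₀ hc₀ using fun j => exists_approx_A₀ pX O n (chat j)
  set a₂ : A₁ := a₁ - ∑ j, algebraMap A₀ A₁ (c₀ j) * f₁ j with ha₂
  have h1 : ψ a₂ ∈ (maximalIdeal O ^ n).map
      (algebraMap O (AdicCompletion (maximalIdeal O) O)) := by
    have e1 : ψ a₂ = μ + ∑ j, (chat j - algebraMap O _ (algebraMap A₀ O (c₀ j))) * ψ (f₁ j) := by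
      rw [ha₂, map_sub, ← hsum, ← hc, map_sum]
      simp only [map_mul, hψ, sub_mul, Finset.sum_sub_distrib]
      ring
    rw [e1]
    refine Ideal.add_mem _ ?_ (Ideal.sum_mem _ fun j _ => Ideal.mul_mem_right _ _ (hc₀ j))
    rw [← pow_eq_map]
    exact hμ
  have h2 := mem_pow_of_psi_mem pX O A₁ ψ 𝔫 hψ hcomap hres h𝔫ψ n a₂ h1
  rw [mem_mm_pow_iff]
  have e2 : a₁ = a₂ + ∑ j, algebraMap A₀ A₁ (c₀ j) * f₁ j := by rw [ha₂]; ring
  rw [e2]
  refine Ideal.add_mem _ (Ideal.mem_sup_left h2) (Ideal.mem_sup_right ?_)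
  exact Ideal.sum_mem _ fun j _ => Ideal.mul_mem_left _ _ (Ideal.subset_span ⟨j, rfl⟩)

include hpX hlocO hψ hcomap hres h𝔫ψ in
/-- level-wise surjectivity of `theta`. -/
theorem theta_hsurj (n : ℕ) (q : QQ ψ f₁) (hq : q ∈ KK O A₁ ψ f₁ ^ n) :
    ∃ a ∈ mm A₁ 𝔫 f₁ ^ n, theta ψ f₁ a - q ∈ KK O A₁ ψ f₁ ^ (n + 1) := by
  obtain ⟨z, rfl⟩ := Ideal.Quotient.mk_surjective q
  rw [mem_KK_pow_iff] at hq
  obtain ⟨μ, hμ, w, hw, hsum⟩ := Submodule.mem_sup.mp hq
  obtain ⟨a₀, ha₀⟩ := exists_approx_A₀ pX O (n + 1) μ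
  have h1 : ψ (algebraMap A₀ A₁ a₀) ∈ (maximalIdeal O ^ n).map
      (algebraMap O (AdicCompletion (maximalIdeal O) O)) := by
    rw [hψ]
    have : algebraMap O (AdicCompletion (maximalIdeal O) O) (algebraMap A₀ O a₀) =
        μ - (μ - algebraMap O _ (algebraMap A₀ O a₀)) := by ring
    rw [this]
    refine Ideal.sub_mem _ ?_ (Ideal.map_mono (Ideal.pow_le_pow_right (Nat.le_succ n)) ha₀)
    rw [← pow_eq_map]; exact hμ
  have h2 := mem_pow_of_psi_mem pX O A₁ ψ 𝔫 hψ hcomap hres h𝔫ψ n _ h1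
  refine ⟨Ideal.Quotient.mk _ (algebraMap A₀ A₁ a₀), ?_, ?_⟩
  · rw [mem_mm_pow_iff]; exact Ideal.mem_sup_left h2
  · rw [theta_mk, ← map_sub, mem_KK_pow_iff, hψ, ← hsum]
    have : algebraMap O (AdicCompletion (maximalIdeal O) O) (algebraMap A₀ O a₀) - (μ + w) =
        -(μ - algebraMap O _ (algebraMap A₀ O a₀)) + (-w) := by ring
    rw [this]
    refine Ideal.add_mem _ (Ideal.mem_sup_left ?_) (Ideal.mem_sup_right (Ideal.neg_mem_iff _ |>.mpr hw))
    rw [pow_eq_map]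
    exact Ideal.neg_mem_iff _ |>.mpr ha₀

end Main

end Groth.Agent.Helper2.CdJ
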