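import Mathlib
import Groth.Agent.Helper2.CdJD

set_option autoImplicit false
set_option linter.style.haveILetI false
set_option linter.unusedSectionVars false

noncomputable section

namespace Groth.Agent.Helper2.CdJ

open IsLocalRing Groth.Agent.Helper2.EtApx AssocGr FiltBl

universe u

section Main

variable {k : Type u} [Field k] {R : Type u} [CommRing R] [Algebra k R] [IsLocalRing R]
  {A₀ : Type u} [CommRing A₀] [Algebra k A₀] (pX : Ideal A₀) [hpX : pX.IsMaximal]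
  (O : Type u) [CommRing O] [IsLocalRing O] [IsNoetherianRing O] [Algebra A₀ O]
  [hlocO : IsLocalization.AtPrime O pX]
  (π₁ : AdicCompletion (maximalIdeal O) O →+* R) (hπ₁ : Function.Surjective π₁)
  (hπ₁m : (maximalIdeal (AdicCompletion (maximalIdeal O) O)).map π₁ = maximalIdeal R)
  (hπ₁k : ∀ c : k, π₁ (algebraMap O _ (algebraMap A₀ O (algebraMap k A₀ c))) = algebraMap k R c)
  (A₁ : Type u) [CommRing A₁] [Algebra A₀ A₁] [Algebra.FormallyUnramified A₀ A₁]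
  [Algebra k A₁] [IsScalarTower k A₀ A₁]
  (ψ : A₁ →+* AdicCompletion (maximalIdeal O) O) (𝔫 : Ideal A₁) [𝔫.IsPrime]
  (hψ : ∀ r : A₀, ψ (algebraMap A₀ A₁ r) =
    algebraMap O (AdicCompletion (maximalIdeal O) O) (algebraMap A₀ O r))
  (hcomap : 𝔫.comap (algebraMap A₀ A₁) = pX)
  (hres : ∀ x : A₁, ∃ r s : A₀, s ∉ pX ∧ algebraMap A₀ A₁ s * x - algebraMap A₀ A₁ r ∈ 𝔫)
  (h𝔫ψ : ∀ x ∈ 𝔫, ψ x ∈ (maximalIdeal O).map
    (algebraMap O (AdicCompletion (maximalIdeal O) O)))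
  {s : ℕ} (f₁ : Fin s → A₁)
  (fhat : Fin s → AdicCompletion (maximalIdeal O) O)
  (hker : Ideal.span (Set.range fhat) = RingHom.ker π₁)
  (hinit : ∀ n, JJ ψ f₁ ⊓ maximalIdeal (AdicCompletion (maximalIdeal O) O) ^ n ⊔
      maximalIdeal (AdicCompletion (maximalIdeal O) O) ^ (n + 1) =
    Ideal.span (Set.range fhat) ⊓ maximalIdeal (AdicCompletion (maximalIdeal O) O) ^ n ⊔
      maximalIdeal (AdicCompletion (maximalIdeal O) O) ^ (n + 1))

theorem sup_iff_of_init {S : Type*} [CommRing S] (I J J' : Ideal S) (n : ℕ)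
    (h : J' ⊓ I ^ n ⊔ I ^ (n + 1) = J ⊓ I ^ n ⊔ I ^ (n + 1)) (a : S) (ha : a ∈ I ^ n) :
    a ∈ I ^ (n + 1) ⊔ J ↔ a ∈ I ^ (n + 1) ⊔ J' := by
  have key : ∀ (J₁ J₂ : Ideal S), J₁ ⊓ I ^ n ⊔ I ^ (n + 1) = J₂ ⊓ I ^ n ⊔ I ^ (n + 1) →
      a ∈ I ^ (n + 1) ⊔ J₁ → a ∈ I ^ (n + 1) ⊔ J₂ := by
    intro J₁ J₂ h12 h1
    obtain ⟨b, hb, j, hj, hsum⟩ := Submodule.mem_sup.mp h1
    have hjn : j ∈ I ^ n := by
      have : j = a - b := by rw [← hsum]; ring
      rw [this]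
      exact (I ^ n).sub_mem ha (Ideal.pow_le_pow_right (Nat.le_succ n) hb)
    have h2 : a ∈ J₁ ⊓ I ^ n ⊔ I ^ (n + 1) := by
      have e0 : a = j + b := by rw [← hsum]; ring
      rw [e0]
      exact Ideal.add_mem _ (Ideal.mem_sup_left ⟨hj, hjn⟩) (Ideal.mem_sup_right hb)
    rw [h12] at h2
    have h3 : J₂ ⊓ I ^ n ⊔ I ^ (n + 1) ≤ I ^ (n + 1) ⊔ J₂ :=
      sup_le (le_trans inf_le_left le_sup_right) le_sup_left
    exact h3 h2
  exact ⟨key J J' h.symm, key J' J h⟩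

include hpX hlocO hπ₁ hπ₁m hπ₁k hψ hcomap hres h𝔫ψ hker hinit in
/-- the isomorphism of associated graded rings. -/
theorem exists_gr_equiv :
    ∃ e : GrRing (IdealFiltration.adic (maximalIdeal R)) ≃+*
        GrRing (IdealFiltration.adic (mm A₁ 𝔫 f₁)),
      (∀ (n : ℕ) (y : GrRing (IdealFiltration.adic (maximalIdeal R))),
        y ∈ gr (IdealFiltration.adic (maximalIdeal R)) n →
          e y ∈ gr (IdealFiltration.adic (mm A₁ 𝔫 f₁)) n) ∧
      (∀ c : k, e (algebraMap R _ (algebraMap k R c)) =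
        algebraMap (AA f₁) _ (algebraMap k (AA f₁) c)) := by
  -- first step: R and the approximating quotient
  obtain ⟨e₁, he₁g, he₁a⟩ := GrFun.exists_grEquiv'
    (maximalIdeal (AdicCompletion (maximalIdeal O) O)) π₁ (Ideal.Quotient.mk (JJ ψ f₁))
    (maximalIdeal R) (KK O A₁ ψ f₁) hπ₁m rfl hπ₁ Ideal.Quotient.mk_surjective (by
      intro n a ha
      rw [Ideal.mk_ker, ← hker]
      exact sup_iff_of_init _ _ _ n (hinit n) a ha)
  -- second step: the approximating quotient and the finite type algebra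
  obtain ⟨e₂, he₂g, he₂a⟩ := GrFun.exists_grEquiv_of_levelwise (theta ψ f₁) (mm A₁ 𝔫 f₁)
    (KK O A₁ ψ f₁) (theta_le O A₁ ψ 𝔫 h𝔫ψ f₁)
    (theta_hinj pX O A₁ ψ 𝔫 hψ hcomap hres h𝔫ψ f₁)
    (theta_hsurj pX O A₁ ψ 𝔫 hψ hcomap hres h𝔫ψ f₁)
  refine ⟨e₁.trans e₂, fun n y hy => ?_, fun c => ?_⟩
  · rw [RingEquiv.trans_apply]
    exact he₂g n _ (he₁g n y hy)
  · rw [RingEquiv.trans_apply, ← hπ₁k, he₁a]
    have h1 : Ideal.Quotient.mk (JJ ψ f₁)
        (algebraMap O _ (algebraMap A₀ O (algebraMap k A₀ c))) =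
        theta ψ f₁ (algebraMap k (AA f₁) c) := by
      rw [← hψ, ← IsScalarTower.algebraMap_apply k A₀ A₁]
      rfl
    rw [h1, he₂a]

end Main

end Groth.Agent.Helper2.CdJ
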