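import Mathlib
import Groth.Agent.Helper2.CdJE

set_option autoImplicit false
set_option linter.style.haveILetI false
set_option linter.unusedSectionVars false

noncomputable section

namespace Groth.Agent.Helper2.CdJ

open IsLocalRing Groth.Agent.Helper2.EtApx AssocGr FiltBl

universe u

section Main

variable {k : Type u} [Field k] {R : Type u} [CommRing R] [Algebra k R] [IsLocalRing R]
  {A₀ : Type u} [CommRing A₀] [Algebra k A₀] (pX : Ideal A₀) [hpX : pX.IsMaximal]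
  (hk₀ : ∀ a : A₀, ∃ c : k, a - algebraMap k A₀ c ∈ pX)
  (O : Type u) [CommRing O] [IsLocalRing O] [IsNoetherianRing O] [Algebra A₀ O]
  [hlocO : IsLocalization.AtPrime O pX]
  (π₁ : AdicCompletion (maximalIdeal O) O →+* R) (hπ₁ : Function.Surjective π₁)
  (hπ₁m : (maximalIdeal (AdicCompletion (maximalIdeal O) O)).map π₁ = maximalIdeal R)
  (hπ₁k : ∀ c : k, π₁ (algebraMap O _ (algebraMap A₀ O (algebraMap k A₀ c))) = algebraMap k R c)
  (A₁ : Type u) [CommRing A₁] [Algebra A₀ A₁] [Algebra.FormallyUnramified A₀ A₁]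
  [Algebra k A₁] [IsScalarTower k A₀ A₁]
  (ψ : A₁ →+* AdicCompletion (maximalIdeal O) O) (𝔫 : Ideal A₁) [𝔫.IsPrime]
  (hψ : ∀ r : A₀, ψ (algebraMap A₀ A₁ r) =
    algebraMap O (AdicCompletion (maximalIdeal O) O) (algebraMap A₀ O r))
  (hcomap : 𝔫.comap (algebraMap A₀ A₁) = pX)
  (hres : ∀ x : A₁, ∃ r s : A₀, s ∉ pX ∧ algebraMap A₀ A₁ s * x - algebraMap A₀ A₁ r ∈ 𝔫)
  (h𝔫ψ : ∀ x ∈ 𝔫, ψ x ∈ (maximalIdeal O).map
    (algebraMap O (AdicCompletion (maximalIdeal O) O)))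
  {s : ℕ} (f₁ : Fin s → A₁)
  (fhat : Fin s → AdicCompletion (maximalIdeal O) O)
  (hker : Ideal.span (Set.range fhat) = RingHom.ker π₁)
  (N M : ℕ) (hNM : N + 1 ≤ M)
  (hclose : ∀ j, fhat j - ψ (f₁ j) ∈ maximalIdeal (AdicCompletion (maximalIdeal O) O) ^ M)

include hπ₁m in
theorem pi1_mem_pow (n : ℕ) (z : AdicCompletion (maximalIdeal O) O)
    (hz : z ∈ maximalIdeal (AdicCompletion (maximalIdeal O) O) ^ n) : π₁ z ∈ maximalIdeal R ^ n := by
  rw [← hπ₁m, ← Ideal.map_pow]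
  exact Ideal.mem_map_of_mem _ hz

include hπ₁ in
theorem ker_le_maximalIdeal :
    RingHom.ker π₁ ≤ maximalIdeal (AdicCompletion (maximalIdeal O) O) := by
  intro z hz
  rw [mem_maximalIdeal, mem_nonunits_iff]
  intro hu
  have h1 := hu.map π₁
  rw [RingHom.mem_ker.mp hz] at h1
  exact not_isUnit_zero h1

include hpX hlocO hπ₁ hψ hcomap hres h𝔫ψ hker hNM hclose in
theorem f₁_mem (j : Fin s) : f₁ j ∈ 𝔫 := by
  have h1 : fhat j ∈ maximalIdeal (AdicCompletion (maximalIdeal O) O) := by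
    apply ker_le_maximalIdeal O π₁ hπ₁
    rw [← hker]
    exact Ideal.subset_span ⟨j, rfl⟩
  have h2 : ψ (f₁ j) ∈ maximalIdeal (AdicCompletion (maximalIdeal O) O) := by
    have : ψ (f₁ j) = fhat j - (fhat j - ψ (f₁ j)) := by ring
    rw [this]
    exact Ideal.sub_mem _ h1 (Ideal.pow_le_self (by omega) (hclose j))
  have h3 := mem_pow_of_psi_mem pX O A₁ ψ 𝔫 hψ hcomap hres h𝔫ψ 1 (f₁ j)
    (by rw [← pow_eq_map, pow_one]; exact h2)
  rwa [pow_one] at h3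

include hpX hlocO hπ₁ hψ hcomap hres h𝔫ψ hker hNM hclose in
theorem mm_isMaximal : (mm A₁ 𝔫 f₁).IsMaximal := by
  haveI : 𝔫.IsMaximal := isMaximal_of_hres pX A₁ 𝔫 hcomap hres
  have hle : Ideal.span (Set.range f₁) ≤ 𝔫 := by
    rw [Ideal.span_le]
    rintro _ ⟨j, rfl⟩
    exact f₁_mem pX O π₁ hπ₁ A₁ ψ 𝔫 hψ hcomap hres h𝔫ψ f₁ fhat hker N M hNM hclose j
  rcases Ideal.map_eq_top_or_isMaximal_of_surjective
    (Ideal.Quotient.mk (Ideal.span (Set.range f₁))) Ideal.Quotient.mk_surjective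
    (inferInstance : 𝔫.IsMaximal) with h | h
  · exfalso
    have h1 : (1 : AA f₁) ∈ mm A₁ 𝔫 f₁ := by
      change (1 : AA f₁) ∈ Ideal.map _ 𝔫
      rw [h]; trivial
    rw [← map_one (Ideal.Quotient.mk (Ideal.span (Set.range f₁))),
      ← pow_one (mm A₁ 𝔫 f₁), mem_mm_pow_iff, pow_one, sup_eq_left.mpr hle] at h1
    exact (Ideal.IsPrime.ne_top inferInstance) ((Ideal.eq_top_iff_one _).mpr h1)
  · exact h

include hk₀ hcomap hres in
theorem residue_surjective (x : AA f₁) :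
    ∃ c : k, x - algebraMap k (AA f₁) c ∈ mm A₁ 𝔫 f₁ := by
  obtain ⟨a₁, rfl⟩ := Ideal.Quotient.mk_surjective x
  have hmemX : ∀ c : A₀, c ∈ pX ↔ algebraMap A₀ A₁ c ∈ 𝔫 := fun c => by
    rw [← hcomap]; rfl
  obtain ⟨r, s', hs', hrs⟩ := hres a₁
  obtain ⟨cr, hcr⟩ := hk₀ r
  obtain ⟨cs, hcs⟩ := hk₀ s'
  have hcs0 : cs ≠ 0 := by
    rintro rfl
    apply hs'
    simpa using hcs
  refine ⟨cs⁻¹ * cr, ?_⟩
  have h1 : a₁ - algebraMap k A₁ (cs⁻¹ * cr) ∈ 𝔫 := by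
    have e1 : algebraMap k A₁ cs * (a₁ - algebraMap k A₁ (cs⁻¹ * cr)) ∈ 𝔫 := by
      have e2 : algebraMap k A₁ cs * (a₁ - algebraMap k A₁ (cs⁻¹ * cr)) =
          (algebraMap A₀ A₁ s' * a₁ - algebraMap A₀ A₁ r) -
            algebraMap A₀ A₁ (s' - algebraMap k A₀ cs) * a₁ +
            algebraMap A₀ A₁ (r - algebraMap k A₀ cr) := by
        rw [map_sub, map_sub, ← IsScalarTower.algebraMap_apply k A₀ A₁,
          ← IsScalarTower.algebraMap_apply k A₀ A₁, map_mul, mul_sub, ← mul_assoc, ← map_mul,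
          mul_inv_cancel₀ hcs0, map_one, one_mul]
        ring
      rw [e2]
      exact 𝔫.add_mem (𝔫.sub_mem hrs (𝔫.mul_mem_right _ ((hmemX _).mp hcs))) ((hmemX _).mp hcr)
    rcases Ideal.IsPrime.mem_or_mem inferInstance e1 with h | h
    · exfalso
      have hu : IsUnit (algebraMap k A₁ cs) := (IsUnit.mk0 cs hcs0).map _
      exact (Ideal.IsPrime.ne_top inferInstance) (Ideal.eq_top_of_isUnit_mem _ h hu)
    · exact h
  exact Ideal.mem_map_of_mem _ h1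

end Main

end Groth.Agent.Helper2.CdJ
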