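import Mathlib
import Groth.Agent.Helper2.CdJF

set_option autoImplicit false
set_option linter.style.haveILetI false
set_option linter.unusedSectionVars false

noncomputable section

namespace Groth.Agent.Helper2.CdJ

open IsLocalRing Groth.Agent.Helper2.EtApx AssocGr FiltBl

universe u

section Main

variable {k : Type u} [Field k] {R : Type u} [CommRing R] [Algebra k R] [IsLocalRing R]
  {A₀ : Type u} [CommRing A₀] [Algebra k A₀] (pX : Ideal A₀) [hpX : pX.IsMaximal]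
  (O : Type u) [CommRing O] [IsLocalRing O] [IsNoetherianRing O] [Algebra A₀ O]
  [hlocO : IsLocalization.AtPrime O pX]
  (π₁ : AdicCompletion (maximalIdeal O) O →+* R) (hπ₁ : Function.Surjective π₁)
  (hπ₁m : (maximalIdeal (AdicCompletion (maximalIdeal O) O)).map π₁ = maximalIdeal R)
  (hπ₁k : ∀ c : k, π₁ (algebraMap O _ (algebraMap A₀ O (algebraMap k A₀ c))) = algebraMap k R c)
  (A₁ : Type u) [CommRing A₁] [Algebra A₀ A₁] [Algebra.FormallyUnramified A₀ A₁]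
  [Algebra k A₁] [IsScalarTower k A₀ A₁]
  (ψ : A₁ →+* AdicCompletion (maximalIdeal O) O) (𝔫 : Ideal A₁) [𝔫.IsPrime]
  (hψ : ∀ r : A₀, ψ (algebraMap A₀ A₁ r) =
    algebraMap O (AdicCompletion (maximalIdeal O) O) (algebraMap A₀ O r))
  (hcomap : 𝔫.comap (algebraMap A₀ A₁) = pX)
  (hres : ∀ x : A₁, ∃ r s : A₀, s ∉ pX ∧ algebraMap A₀ A₁ s * x - algebraMap A₀ A₁ r ∈ 𝔫)
  (h𝔫ψ : ∀ x ∈ 𝔫, ψ x ∈ (maximalIdeal O).map
    (algebraMap O (AdicCompletion (maximalIdeal O) O)))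
  {s : ℕ} (f₁ : Fin s → A₁)
  (fhat : Fin s → AdicCompletion (maximalIdeal O) O)
  (hker : Ideal.span (Set.range fhat) = RingHom.ker π₁)
  (N M : ℕ) (hNM : N + 1 ≤ M)
  (hclose : ∀ j, fhat j - ψ (f₁ j) ∈ maximalIdeal (AdicCompletion (maximalIdeal O) O) ^ M)

/-- the comparison map to the truncation of `R`, on `A₁`. -/
def rho0 : A₁ →ₐ[k] R ⧸ maximalIdeal R ^ (N + 1) :=
  { (Ideal.Quotient.mk (maximalIdeal R ^ (N + 1))).comp (π₁.comp ψ) with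
    commutes' := fun c => by
      change Ideal.Quotient.mk _ (π₁ (ψ (algebraMap k A₁ c))) = _
      rw [IsScalarTower.algebraMap_apply k A₀ A₁, hψ, hπ₁k]
      rfl }

theorem rho0_apply (a : A₁) :
    rho0 O π₁ hπ₁k A₁ ψ hψ N a = Ideal.Quotient.mk _ (π₁ (ψ a)) := rfl

include hπ₁m hker hNM hclose in
theorem rho0_kills (a : A₁) (ha : a ∈ Ideal.span (Set.range f₁)) :
    rho0 O π₁ hπ₁k A₁ ψ hψ N a = 0 := by
  rw [← RingHom.mem_ker]
  revert a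
  change Ideal.span (Set.range f₁) ≤ _
  rw [Ideal.span_le]
  rintro _ ⟨j, rfl⟩
  rw [SetLike.mem_coe, RingHom.mem_ker]
  change rho0 O π₁ hπ₁k A₁ ψ hψ N (f₁ j) = 0
  rw [rho0_apply, Ideal.Quotient.eq_zero_iff_mem]
  have h0 : π₁ (fhat j) = 0 := by
    rw [← RingHom.mem_ker, ← hker]
    exact Ideal.subset_span ⟨j, rfl⟩
  have : ψ (f₁ j) = fhat j - (fhat j - ψ (f₁ j)) := by ring
  rw [this, map_sub, h0, zero_sub]
  refine Ideal.neg_mem_iff _ |>.mpr ?_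
  exact pi1_mem_pow O π₁ hπ₁m (N + 1) _ (Ideal.pow_le_pow_right hNM (hclose j))

/-- the comparison map to the truncation of `R`. -/
def rho : AA f₁ →ₐ[k] R ⧸ maximalIdeal R ^ (N + 1) :=
  Ideal.Quotient.liftₐ (Ideal.span (Set.range f₁)) (rho0 O π₁ hπ₁k A₁ ψ hψ N)
    (rho0_kills O π₁ hπ₁m hπ₁k A₁ ψ hψ f₁ fhat hker N M hNM hclose)

theorem rho_mk (a : A₁) :
    rho O π₁ hπ₁m hπ₁k A₁ ψ hψ f₁ fhat hker N M hNM hclose (Ideal.Quotient.mk _ a) =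
      Ideal.Quotient.mk _ (π₁ (ψ a)) := rfl

include hpX hlocO hπ₁ in
theorem rho_surjective :
    Function.Surjective (rho O π₁ hπ₁m hπ₁k A₁ ψ hψ f₁ fhat hker N M hNM hclose) := by
  intro y
  obtain ⟨ρ, rfl⟩ := Ideal.Quotient.mk_surjective y
  obtain ⟨z, rfl⟩ := hπ₁ ρ
  obtain ⟨a₀, ha₀⟩ := exists_approx_A₀ pX O (N + 1) z
  refine ⟨Ideal.Quotient.mk _ (algebraMap A₀ A₁ a₀), ?_⟩
  rw [rho_mk, hψ, Ideal.Quotient.eq, ← map_sub]
  rw [← pow_eq_map] at ha₀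
  have := pi1_mem_pow O π₁ hπ₁m (N + 1) _ ha₀
  rw [← Ideal.neg_mem_iff, ← map_neg, neg_sub] at this
  exact this

include hclose hNM in
theorem sup_JJ_eq :
    maximalIdeal (AdicCompletion (maximalIdeal O) O) ^ (N + 1) ⊔ Ideal.span (Set.range fhat) =
      maximalIdeal (AdicCompletion (maximalIdeal O) O) ^ (N + 1) ⊔ JJ ψ f₁ := by
  apply le_antisymm
  · refine sup_le le_sup_left ?_
    rw [Ideal.span_le]
    rintro _ ⟨j, rfl⟩
    have : fhat j = (fhat j - ψ (f₁ j)) + ψ (f₁ j) := by ring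
    rw [SetLike.mem_coe, this]
    exact Ideal.add_mem _ (Ideal.mem_sup_left (Ideal.pow_le_pow_right hNM (hclose j)))
      (Ideal.mem_sup_right (Ideal.subset_span ⟨j, rfl⟩))
  · refine sup_le le_sup_left ?_
    rw [Ideal.span_le]
    rintro _ ⟨j, rfl⟩
    have : ψ (f₁ j) = -(fhat j - ψ (f₁ j)) + fhat j := by ring
    rw [SetLike.mem_coe]
    change ψ (f₁ j) ∈ _
    rw [this]
    exact Ideal.add_mem _ (Ideal.mem_sup_left (Ideal.neg_mem_iff _ |>.mpr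
      (Ideal.pow_le_pow_right hNM (hclose j)))) (Ideal.mem_sup_right (Ideal.subset_span ⟨j, rfl⟩))

include hpX hlocO hπ₁ hcomap hres h𝔫ψ in
theorem ker_rho :
    RingHom.ker (rho O π₁ hπ₁m hπ₁k A₁ ψ hψ f₁ fhat hker N M hNM hclose).toRingHom =
      mm A₁ 𝔫 f₁ ^ (N + 1) := by
  ext a
  obtain ⟨a₁, rfl⟩ := Ideal.Quotient.mk_surjective a
  rw [RingHom.mem_ker]
  change rho O π₁ hπ₁m hπ₁k A₁ ψ hψ f₁ fhat hker N M hNM hclose (Ideal.Quotient.mk _ a₁) = 0 ↔ _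
  rw [rho_mk, Ideal.Quotient.eq_zero_iff_mem]
  have h1 : π₁ (ψ a₁) ∈ maximalIdeal R ^ (N + 1) ↔
      ψ a₁ ∈ maximalIdeal (AdicCompletion (maximalIdeal O) O) ^ (N + 1) ⊔ RingHom.ker π₁ := by
    rw [← hπ₁m]
    exact GrFun.map_mem_pow_iff π₁ _ hπ₁ (N + 1) (ψ a₁)
  rw [h1, ← hker, sup_JJ_eq O A₁ ψ f₁ fhat N M hNM hclose, ← mem_KK_pow_iff, ← theta_mk]
  constructor
  · intro h
    exact theta_hinj pX O A₁ ψ 𝔫 hψ hcomap hres h𝔫ψ f₁ (N + 1) _ h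
  · intro h
    have h2 := Ideal.pow_right_mono (theta_le O A₁ ψ 𝔫 h𝔫ψ f₁) (N + 1)
    rw [← Ideal.map_pow] at h2
    exact h2 (Ideal.mem_map_of_mem _ h)

end Main

end Groth.Agent.Helper2.CdJ
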