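import Mathlib
import Groth.Agent.Helper2.EtApxA

set_option autoImplicit false
set_option linter.style.haveILetI false
set_option linter.unusedSectionVars false

namespace Groth.Agent.Helper2.CdJ

open IsLocalRing MvPolynomial Groth.Agent.Helper2.EtApx

universe u

set_option maxHeartbeats 1600000 in
/-- `EtApx.core` with arbitrary finite index types. -/
theorem core' {A₀ : Type u} [CommRing A₀] (p : Ideal A₀) [p.IsPrime]
    (O : Type u) [CommRing O] [IsLocalRing O] [Algebra A₀ O] [IsLocalization.AtPrime O p]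
    (hG : CAlg.IsGRing O)
    {σ τ : Type} [Fintype σ] [Fintype τ] (F : τ → MvPolynomial σ A₀)
    (a : σ → AdicCompletion (maximalIdeal O) O)
    (ha : ∀ j, aeval a (MvPolynomial.map (algebraMap A₀ O) (F j)) = 0) (N : ℕ) :
    ∃ (A₁ : Type u) (_ : CommRing A₁) (_ : Algebra A₀ A₁), Algebra.Etale A₀ A₁ ∧
      ∃ (ψ : A₁ →+* AdicCompletion (maximalIdeal O) O) (𝔫 : Ideal A₁), 𝔫.IsPrime ∧
        (∀ r : A₀, ψ (algebraMap A₀ A₁ r) =
          algebraMap O (AdicCompletion (maximalIdeal O) O) (algebraMap A₀ O r)) ∧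
        𝔫.comap (algebraMap A₀ A₁) = p ∧
        (∀ x : A₁, ∃ r s : A₀, s ∉ p ∧ algebraMap A₀ A₁ s * x - algebraMap A₀ A₁ r ∈ 𝔫) ∧
        (∀ x ∈ 𝔫, ψ x ∈ (maximalIdeal O).map
          (algebraMap O (AdicCompletion (maximalIdeal O) O))) ∧
        ∃ b : σ → A₁, (∀ j, aeval b (F j) = 0) ∧
          ∀ i, a i - ψ (b i) ∈ (maximalIdeal O ^ N).map
            (algebraMap O (AdicCompletion (maximalIdeal O) O)) := by
  classical
  let eσ := Fintype.equivFin σ
  let eτ := Fintype.equivFin τ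
  let F' : Fin (Fintype.card τ) → MvPolynomial (Fin (Fintype.card σ)) A₀ :=
    fun j => rename eσ (F (eτ.symm j))
  let a' : Fin (Fintype.card σ) → AdicCompletion (maximalIdeal O) O := fun i => a (eσ.symm i)
  have ha' : ∀ j, aeval a' (MvPolynomial.map (algebraMap A₀ O) (F' j)) = 0 := by
    intro j
    simp only [F', a']
    rw [MvPolynomial.map_rename, aeval_rename]
    have : (fun i => a (eσ.symm i)) ∘ eσ = a := by
      funext i; simp
    rw [this]
    exact ha _
  obtain ⟨A₁, i1, i2, hEt, ψ, 𝔫, h𝔫p, hψ, hcomap, hres, h𝔫ψ, b, hb, hab⟩ :=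
    core p O hG F' a' ha' N
  refine ⟨A₁, i1, i2, hEt, ψ, 𝔫, h𝔫p, hψ, hcomap, hres, h𝔫ψ, fun i => b (eσ i), ?_, ?_⟩
  · intro j
    have := hb (eτ j)
    simp only [F', Equiv.symm_apply_apply] at this
    rw [aeval_rename] at this
    exact this
  · intro i
    have := hab (eσ i)
    simp only [a', Equiv.symm_apply_apply] at this
    exact this

end Groth.Agent.Helper2.CdJ
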