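import Mathlib

set_option autoImplicit false
set_option linter.style.haveILetI false
set_option linter.unusedSectionVars false

noncomputable section

namespace Groth.Agent.Helper2.CdJ

open MvPolynomial

universe u

section EqSys

variable (q s t c : ℕ)

/-- the unknowns of the system. -/
abbrev Sig : Type := Fin q ⊕ (Fin s ⊕ ((Fin t × Fin s) ⊕ (Fin c × Fin s)))

/-- the equations of the system. -/
abbrev Tau : Type := Fin t ⊕ Fin c

variable {q s t c}

def vy (i : Fin q) : Sig q s t c := Sum.inl i
def vf (j : Fin s) : Sig q s t c := Sum.inr (Sum.inl j)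
def vh (l : Fin t) (j : Fin s) : Sig q s t c := Sum.inr (Sum.inr (Sum.inl (l, j)))
def vk (i : Fin c) (j : Fin s) : Sig q s t c := Sum.inr (Sum.inr (Sum.inr (i, j)))

variable {k : Type u} [Field k] (P : Type u) [CommRing P] [Algebra k P]

/-- the polynomial system. -/
def eqn (g : Fin t → MvPolynomial (Fin q) k) : Tau t c → MvPolynomial (Sig q s t c) P
  | Sum.inl l => rename (vy (s := s) (t := t) (c := c)) (MvPolynomial.map (algebraMap k P) (g l)) -
      ∑ j, X (vh l j) * X (vf j)
  | Sum.inr i => ∑ j, X (vk i j) * X (vf j)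

variable {P}

theorem aeval_eqn_inl (g : Fin t → MvPolynomial (Fin q) k) {T : Type u} [CommRing T] [Algebra P T]
    [Algebra k T] [IsScalarTower k P T] (b : Sig q s t c → T) (l : Fin t) :
    aeval b (eqn (c := c) P g (Sum.inl l)) =
      aeval (fun i => b (vy i)) (g l) - ∑ j, b (vh l j) * b (vf j) := by
  simp only [eqn, map_sub, map_sum, map_mul, aeval_X, aeval_rename, aeval_map_algebraMap]
  rfl

theorem aeval_eqn_inr (g : Fin t → MvPolynomial (Fin q) k) {T : Type u} [CommRing T] [Algebra P T]
    (b : Sig q s t c → T) (i : Fin c) :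
    aeval b (eqn (c := c) P g (Sum.inr i)) = ∑ j, b (vk i j) * b (vf j) := by
  simp only [eqn, map_sum, map_mul, aeval_X]

/-- assemble a point of the system. -/
def pt {T : Type u} (y : Fin q → T) (f : Fin s → T) (h : Fin t → Fin s → T)
    (κ : Fin c → Fin s → T) : Sig q s t c → T :=
  Sum.elim y (Sum.elim f (Sum.elim (fun p => h p.1 p.2) (fun p => κ p.1 p.2)))

@[simp] theorem pt_vy {T : Type u} (y : Fin q → T) (f : Fin s → T) (h : Fin t → Fin s → T)
    (κ : Fin c → Fin s → T) (i : Fin q) : pt y f h κ (vy i) = y i := rfl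
@[simp] theorem pt_vf {T : Type u} (y : Fin q → T) (f : Fin s → T) (h : Fin t → Fin s → T)
    (κ : Fin c → Fin s → T) (j : Fin s) : pt y f h κ (vf j) = f j := rfl
@[simp] theorem pt_vh {T : Type u} (y : Fin q → T) (f : Fin s → T) (h : Fin t → Fin s → T)
    (κ : Fin c → Fin s → T) (l : Fin t) (j : Fin s) : pt y f h κ (vh l j) = h l j := rfl
@[simp] theorem pt_vk {T : Type u} (y : Fin q → T) (f : Fin s → T) (h : Fin t → Fin s → T)
    (κ : Fin c → Fin s → T) (i : Fin c) (j : Fin s) : pt y f h κ (vk i j) = κ i j := rfl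

end EqSys

section Inst

open IsLocalRing

variable {k P O : Type u} [Field k] [CommRing P] [Algebra k P] [CommRing O] [IsLocalRing O]
  [Algebra P O] [Algebra k O] [IsScalarTower k P O]

example : IsScalarTower P O (AdicCompletion (maximalIdeal O) O) := inferInstance
example : IsScalarTower k P (AdicCompletion (maximalIdeal O) O) := inferInstance
example : IsScalarTower k O (AdicCompletion (maximalIdeal O) O) := inferInstance

end Inst

end Groth.Agent.Helper2.CdJ
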