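import Mathlib
import Groth.Prelude
import Groth.Agent.S9126
import Groth.Agent.Helper2.GLoc
set_option autoImplicit false
universe u
open IsLocalRing TensorProduct

namespace Groth.Agent.Helper2.ExcLoc

/-- regular locus of a localization is the preimage of the regular locus -/
theorem regLocus_of_isLocalization {R S : Type u} [CommRing R] [CommRing S] [Algebra R S]
    (M : Submonoid R) [IsLocalization M S] :
    EGA4.regLocus S = (PrimeSpectrum.comap (algebraMap R S)) ⁻¹' EGA4.regLocus R := by
  ext P
  simp only [EGA4.regLocus, Set.mem_ofPred_eq, Set.mem_preimage]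
  haveI : IsLocalization.AtPrime (Localization.AtPrime P.asIdeal)
      (P.asIdeal.comap (algebraMap R S)) :=
    IsLocalization.isLocalization_isLocalization_atPrime_isLocalization M _ P.asIdeal
  let e : Localization.AtPrime (P.asIdeal.comap (algebraMap R S)) ≃ₐ[R]
      Localization.AtPrime P.asIdeal :=
    IsLocalization.algEquiv (P.asIdeal.comap (algebraMap R S)).primeCompl _ _
  constructor
  · intro h
    haveI : IsRegularLocalRing (Localization.AtPrime P.asIdeal) := h
    exact IsRegularLocalRing.of_ringEquiv e.symm.toRingEquiv
  · intro h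
    haveI : IsRegularLocalRing (Localization.AtPrime (P.asIdeal.comap (algebraMap R S))) := h
    exact IsRegularLocalRing.of_ringEquiv e.toRingEquiv

theorem isJ2_of_isLocalization (A : Type u) [CommRing A] (S : Submonoid A) (A' : Type u)
    [CommRing A'] [Algebra A A'] [IsLocalization S A'] (h : EGA4.IsJ2 A) : EGA4.IsJ2 A' := by
  intro C _ _ hC
  haveI := hC
  letI : Algebra A C := ((algebraMap A' C).comp (algebraMap A A')).toAlgebra
  haveI : IsScalarTower A A' C := IsScalarTower.of_algebraMap_eq fun _ => rfl
  haveI : Algebra.EssFiniteType A A' := Algebra.EssFiniteType.of_isLocalization A' S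
  haveI : Algebra.EssFiniteType A' C := inferInstance
  haveI : Algebra.EssFiniteType A C := Algebra.EssFiniteType.comp A A' C
  obtain ⟨C₀, M, hC₀, hloc⟩ := (Algebra.essFiniteType_iff_exists_subalgebra A C).mp inferInstance
  rw [regLocus_of_isLocalization (R := C₀) M]
  exact (h C₀ hC₀).preimage (PrimeSpectrum.continuous_comap _)

theorem isGRing_of_isLocalization (A : Type u) [CommRing A] (S : Submonoid A) (A' : Type u)
    [CommRing A'] [Algebra A A'] [IsLocalization S A'] (h : CAlg.IsGRing A) :
    CAlg.IsGRing A' := by
  obtain ⟨hN, hG⟩ := h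
  haveI := hN
  haveI : IsNoetherianRing A' := IsLocalization.isNoetherianRing S A' inferInstance
  refine ⟨inferInstance, fun P _ => ?_⟩
  haveI : IsLocalization.AtPrime (Localization.AtPrime P) (P.comap (algebraMap A A')) :=
    IsLocalization.isLocalization_isLocalization_atPrime_isLocalization S _ P
  let e : Localization.AtPrime (P.comap (algebraMap A A')) ≃ₐ[A] Localization.AtPrime P :=
    IsLocalization.algEquiv (P.comap (algebraMap A A')).primeCompl _ _
  exact Groth.Agent.Helper2.GLoc.isRegularHom_cpl_of_ringEquiv e.toRingEquiv
    (hG (P.comap (algebraMap A A')))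

/-- the statement S2650 -/
theorem main (A : Type u) [CommRing A] (hA : EGA4.IsExcellent A) (S : Submonoid A) :
    EGA4.IsExcellent (Localization S) := by
  obtain ⟨hN, hUC, hG, hJ⟩ := hA
  haveI := hN
  refine ⟨IsLocalization.isNoetherianRing S _ inferInstance, ?_,
    isGRing_of_isLocalization A S _ hG, isJ2_of_isLocalization A S _ hJ⟩
  haveI : Algebra.EssFiniteType A (Localization S) := Algebra.EssFiniteType.of_isLocalization _ S
  exact Groth.Agent.S9126.result A (Localization S) hUC

end Groth.Agent.Helper2.ExcLoc
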