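import Mathlib
import Groth.Agent.Helper2.CdJB
import Groth.Agent.Helper2.CdJG
import Groth.Agent.Helper2.CdJH
import Groth.Agent.Helper2.CdJI
import Groth.Agent.Helper2.ARApxB
import Groth.Agent.Helper2.ArtApxE
import Groth.Agent.Helper7.CKv6
import Groth.Agent.S0543

set_option autoImplicit false
set_option linter.style.haveILetI false
set_option linter.unusedSectionVars false

noncomputable section

namespace Groth.Agent.Helper2.CdJ

open IsLocalRing MvPolynomial Groth.Agent.Helper2.EtApx AssocGr FiltBl Groth.Agent.Helper2.ARApx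

universe u

set_option maxHeartbeats 6400000 in
/-- algebraic form of the Conrad–de Jong approximation. -/
theorem cdj_alg (k : Type u) [Field k]
    (R : Type u) [CommRing R] [Algebra k R] [IsLocalRing R] [IsNoetherianRing R]
    [IsAdicComplete (IsLocalRing.maximalIdeal R) R]
    (hres : Function.Surjective (fun c : k => IsLocalRing.residue R (algebraMap k R c)))
    (B₀ : Type u) [CommRing B₀] [Algebra k B₀] [hfp : Algebra.FinitePresentation k B₀]
    (u : B₀ →ₐ[k] R) (N : ℕ) :
    ∃ (A : Type u) (_ : CommRing A) (_ : Algebra k A) (_ : Algebra.FiniteType k A)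
      (m : Ideal A) (_ : m.IsMaximal)
      (_ : Function.Surjective (fun c : k => Ideal.Quotient.mk m (algebraMap k A c)))
      (v : B₀ →ₐ[k] A)
      (φ : (R ⧸ IsLocalRing.maximalIdeal R ^ (N + 1)) ≃ₐ[k] (A ⧸ m ^ (N + 1))),
      (φ.toAlgHom.comp (Ideal.Quotient.mkₐ k (IsLocalRing.maximalIdeal R ^ (N + 1)))).comp u =
        (Ideal.Quotient.mkₐ k (m ^ (N + 1))).comp v ∧
      ∃ e : GrRing (IdealFiltration.adic (IsLocalRing.maximalIdeal R)) ≃+*
          GrRing (IdealFiltration.adic m),
        (∀ (n : ℕ) (x : GrRing (IdealFiltration.adic (IsLocalRing.maximalIdeal R))),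
            x ∈ gr (IdealFiltration.adic (IsLocalRing.maximalIdeal R)) n →
              e x ∈ gr (IdealFiltration.adic m) n) ∧
        (∀ c : k, e (algebraMap R _ (algebraMap k R c)) = algebraMap A _ (algebraMap k A c)) := by
  classical
  -- Step 0: the presentation
  obtain ⟨r, x, hx⟩ := Submodule.fg_iff_exists_fin_generating_family.mp
    (Ideal.fg_of_isNoetherianRing (maximalIdeal R))
  have hx' : Ideal.span (Set.range x) = maximalIdeal R := hx
  haveI hmax : (nP (k := k) x).IsMaximal := nP_isMaximal x hres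
  set π₁ : AdicCompletion (maximalIdeal (OO (k := k) x)) (OO (k := k) x) →+* R :=
    (pi1 (k := k) x).toRingHom with hπ₁def
  have hπ₁ : Function.Surjective π₁ := pi1_surjective x hx' hres
  have hπ₁m : (maximalIdeal (AdicCompletion (maximalIdeal (OO (k := k) x)) (OO (k := k) x))).map π₁ =
      maximalIdeal R := map_pi1_eq x hx'
  have hπ₁k : ∀ c : k, π₁ (algebraMap (OO (k := k) x) _ (algebraMap (MvPolynomial (Fin r) k)
      (OO (k := k) x) (algebraMap k (MvPolynomial (Fin r) k) c))) = algebraMap k R c := by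
    intro c
    have := (pi1 (k := k) x).commutes c
    rw [← IsScalarTower.algebraMap_apply k (MvPolynomial (Fin r) k) (OO (k := k) x),
      ← IsScalarTower.algebraMap_apply k (OO (k := k) x)
        (AdicCompletion (maximalIdeal (OO (k := k) x)) (OO (k := k) x))]
    exact this
  have hG : CAlg.IsGRing (OO (k := k) x) := by
    haveI : Algebra.EssFiniteType (MvPolynomial (Fin r) k) (OO (k := k) x) :=
      Algebra.EssFiniteType.of_isLocalization _ (nP (k := k) x).primeCompl
    haveI : Algebra.EssFiniteType k (OO (k := k) x) :=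
      Algebra.EssFiniteType.comp k (MvPolynomial (Fin r) k) (OO (k := k) x)
    exact Groth.Agent.Helper7.CKd.isGRing_of_essFiniteType k
      (Groth.Agent.Helper2.ArtApx.isGRing_field k) (OO (k := k) x)
  haveI : IsNoetherianRing (AdicCompletion (maximalIdeal (OO (k := k) x)) (OO (k := k) x)) :=
    Groth.Agent.S0543.result (OO (k := k) x) (maximalIdeal (OO (k := k) x))
  have hk₀ : ∀ a : MvPolynomial (Fin r) k, ∃ c : k,
      a - algebraMap k (MvPolynomial (Fin r) k) c ∈ nP (k := k) x := by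
    intro a
    obtain ⟨c, hc⟩ := hres (IsLocalRing.residue R (evP x a))
    refine ⟨c, ?_⟩
    rw [mem_nP, map_sub]
    have h1 : evP (k := k) x (algebraMap k _ c) = algebraMap k R c := (evP (k := k) x).commutes c
    rw [h1]
    apply (IsLocalRing.residue_eq_zero_iff _).mp
    rw [map_sub, sub_eq_zero]
    exact hc.symm
  -- Step 1: generators of the kernel
  obtain ⟨s, fhat, hfhat⟩ := Submodule.fg_iff_exists_fin_generating_family.mp
    (Ideal.fg_of_isNoetherianRing (RingHom.ker π₁))
  have hker : Ideal.span (Set.range fhat) = RingHom.ker π₁ := hfhat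
  -- Step 2: Artin-Rees
  obtain ⟨c, κhat, hrel, M₀, hAR⟩ := ar_main
    (maximalIdeal (AdicCompletion (maximalIdeal (OO (k := k) x)) (OO (k := k) x))) fhat
  -- Step 3: presentation of B₀
  obtain ⟨q, p, hp, hpker⟩ := hfp.out
  obtain ⟨t, g, hg⟩ := Submodule.fg_iff_exists_fin_generating_family.mp hpker
  have hg' : Ideal.span (Set.range g) = RingHom.ker p.toRingHom := hg
  choose yhat hyhat using fun i : Fin q => hπ₁ (u (p (X i)))
  have hcomp : ∀ z : MvPolynomial (Fin q) k, π₁ (aeval yhat z) = u (p z) := by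
    intro z
    have h1 : ((pi1 (k := k) x).comp (aeval yhat)) = u.comp p :=
      MvPolynomial.algHom_ext (fun i => by
        simp only [AlgHom.comp_apply, aeval_X]
        exact hyhat i)
    exact congrArg (fun φ => φ z) h1
  have hgl : ∀ l, aeval yhat (g l) ∈ Ideal.span (Set.range fhat) := by
    intro l
    rw [hker, RingHom.mem_ker, hcomp]
    have h1 : g l ∈ RingHom.ker p.toRingHom := by
      rw [← hg']; exact Ideal.subset_span ⟨l, rfl⟩
    have h2 : p (g l) = 0 := h1
    rw [h2, map_zero]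
  choose hhat hhhat using fun l => Ideal.mem_span_range_iff_exists_fun.mp (hgl l)
  -- Step 4: the system and its approximate solution
  set M : ℕ := max M₀ (N + 1) with hM
  have hNM : N + 1 ≤ M := le_max_right _ _
  have hM₀M : M₀ ≤ M := le_max_left _ _
  have hsol : ∀ τ, aeval (pt yhat fhat hhat κhat)
      (MvPolynomial.map (algebraMap (MvPolynomial (Fin r) k) (OO (k := k) x))
        (eqn (c := c) (MvPolynomial (Fin r) k) g τ)) = 0 := by
    intro τ
    rw [aeval_map_algebraMap]
    rcases τ with l | i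
    · rw [aeval_eqn_inl]
      simp only [pt_vy, pt_vf, pt_vh]
      rw [hhhat l, sub_self]
    · rw [aeval_eqn_inr]
      simp only [pt_vk, pt_vf]
      exact hrel i
  obtain ⟨A₁, instA₁, algA₁, hEt, ψ, 𝔫, h𝔫p, hψ, hcomap, hres', h𝔫ψ, b, hb, hab⟩ :=
    core' (nP (k := k) x) (OO (k := k) x) hG (eqn (c := c) (MvPolynomial (Fin r) k) g)
      (pt yhat fhat hhat κhat) hsol M
  haveI := h𝔫p
  haveI := hEt
  letI algkA₁ : Algebra k A₁ :=
    ((algebraMap (MvPolynomial (Fin r) k) A₁).comp (algebraMap k (MvPolynomial (Fin r) k))).toAlgebra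
  haveI : IsScalarTower k (MvPolynomial (Fin r) k) A₁ := IsScalarTower.of_algebraMap_eq (fun _ => rfl)
  set y : Fin q → A₁ := fun i => b (vy i) with hy
  set f₁ : Fin s → A₁ := fun j => b (vf j) with hf₁
  set h₁ : Fin t → Fin s → A₁ := fun l j => b (vh l j) with hh₁
  set κ₁ : Fin c → Fin s → A₁ := fun i j => b (vk i j) with hκ₁
  have heq1 : ∀ l, aeval y (g l) = ∑ j, h₁ l j * f₁ j := by
    intro l
    have := hb (Sum.inl l)
    rw [aeval_eqn_inl, sub_eq_zero] at this
    exact this
  have heq2 : ∀ i, ∑ j, κ₁ i j * f₁ j = 0 := by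
    intro i
    have := hb (Sum.inr i)
    rw [aeval_eqn_inr] at this
    exact this
  have hpow := pow_eq_map (OO (k := k) x)
  have hcloseY : ∀ i, yhat i - ψ (y i) ∈
      maximalIdeal (AdicCompletion (maximalIdeal (OO (k := k) x)) (OO (k := k) x)) ^ M := by
    intro i
    rw [hpow]
    exact hab (vy i)
  have hclose : ∀ j, fhat j - ψ (f₁ j) ∈
      maximalIdeal (AdicCompletion (maximalIdeal (OO (k := k) x)) (OO (k := k) x)) ^ M := by
    intro j
    rw [hpow]
    exact hab (vf j)
  have hcloseK : ∀ i j, κhat i j - ψ (κ₁ i j) ∈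
      maximalIdeal (AdicCompletion (maximalIdeal (OO (k := k) x)) (OO (k := k) x)) ^ M := by
    intro i j
    rw [hpow]
    exact hab (vk i j)
  -- Step 5: initial ideals agree
  have hinit : ∀ n, JJ ψ f₁ ⊓
      maximalIdeal (AdicCompletion (maximalIdeal (OO (k := k) x)) (OO (k := k) x)) ^ n ⊔
      maximalIdeal (AdicCompletion (maximalIdeal (OO (k := k) x)) (OO (k := k) x)) ^ (n + 1) =
    Ideal.span (Set.range fhat) ⊓
      maximalIdeal (AdicCompletion (maximalIdeal (OO (k := k) x)) (OO (k := k) x)) ^ n ⊔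
      maximalIdeal (AdicCompletion (maximalIdeal (OO (k := k) x)) (OO (k := k) x)) ^ (n + 1) := by
    intro n
    refine hAR (fun j => ψ (f₁ j)) (fun i j => ψ (κ₁ i j)) ?_ ?_ ?_ n
    · intro j
      have := Ideal.pow_le_pow_right hM₀M (hclose j)
      rw [← Ideal.neg_mem_iff, neg_sub] at this
      exact this
    · intro i j
      have := Ideal.pow_le_pow_right hM₀M (hcloseK i j)
      rw [← Ideal.neg_mem_iff, neg_sub] at this
      exact this
    · intro i
      unfold ev
      simp only [← map_mul, ← map_sum]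
      rw [heq2 i, map_zero]
  -- Step 6: the outputs
  obtain ⟨e, heg, hek⟩ := exists_gr_equiv (nP (k := k) x) (OO (k := k) x) π₁ hπ₁ hπ₁m hπ₁k A₁ ψ 𝔫
    hψ hcomap hres' h𝔫ψ f₁ fhat hker hinit
  have hmm : (mm A₁ 𝔫 f₁).IsMaximal := mm_isMaximal (nP (k := k) x) (OO (k := k) x) π₁ hπ₁ A₁ ψ 𝔫
    hψ hcomap hres' h𝔫ψ f₁ fhat hker N M hNM hclose
  have hressurj := residue_surjective (nP (k := k) x) hk₀ A₁ 𝔫 hcomap hres' f₁
  set ρ := rho (OO (k := k) x) π₁ hπ₁m hπ₁k A₁ ψ hψ f₁ fhat hker N M hNM hclose with hρ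
  have hρs : Function.Surjective ρ := rho_surjective (nP (k := k) x) (OO (k := k) x) π₁ hπ₁ hπ₁m
    hπ₁k A₁ ψ hψ f₁ fhat hker N M hNM hclose
  have hρk : RingHom.ker ρ = mm A₁ 𝔫 f₁ ^ (N + 1) := ker_rho (nP (k := k) x) (OO (k := k) x) π₁
    hπ₁ hπ₁m hπ₁k A₁ ψ 𝔫 hψ hcomap hres' h𝔫ψ f₁ fhat hker N M hNM hclose
  let φ : (R ⧸ maximalIdeal R ^ (N + 1)) ≃ₐ[k] (AA f₁ ⧸ mm A₁ 𝔫 f₁ ^ (N + 1)) :=
    ((Ideal.quotientEquivAlgOfEq k hρk.symm).trans (Ideal.quotientKerAlgEquivOfSurjective hρs)).symm
  have hφ : ∀ a : AA f₁, φ (ρ a) = Ideal.Quotient.mk _ a := by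
    intro a
    rw [AlgEquiv.symm_apply_eq, AlgEquiv.trans_apply, Ideal.quotientEquivAlgOfEq_mk,
      Ideal.quotientKerAlgEquivOfSurjective_mk]
  -- the map v
  let w : MvPolynomial (Fin q) k →ₐ[k] AA f₁ := aeval (fun i => Ideal.Quotient.mk _ (y i))
  have hw : ∀ z, w z = Ideal.Quotient.mk _ (aeval y z) := by
    intro z
    have h1 : w = (Ideal.Quotient.mkₐ k (Ideal.span (Set.range f₁))).comp (aeval y) :=
      MvPolynomial.algHom_ext (fun i => by simp [w])
    rw [h1]
    rfl
  have hwker : RingHom.ker p.toRingHom ≤ RingHom.ker w.toRingHom := by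
    rw [← hg', Ideal.span_le]
    rintro _ ⟨l, rfl⟩
    rw [SetLike.mem_coe, RingHom.mem_ker]
    change w (g l) = 0
    rw [hw, heq1, Ideal.Quotient.eq_zero_iff_mem]
    exact Ideal.sum_mem _ fun j _ => Ideal.mul_mem_left _ _ (Ideal.subset_span ⟨j, rfl⟩)
  let v : B₀ →ₐ[k] AA f₁ := AlgHom.liftOfSurjective p hp w hwker
  have hv : ∀ z, v (p z) = w z := fun z => AlgHom.liftOfSurjective_apply p hp w hwker z
  haveI : Algebra.FiniteType k A₁ := by
    haveI : Algebra.FiniteType (MvPolynomial (Fin r) k) A₁ := inferInstance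
    exact Algebra.FiniteType.trans (inferInstance : Algebra.FiniteType k (MvPolynomial (Fin r) k))
      inferInstance
  have hftA : Algebra.FiniteType k (AA f₁) :=
    Algebra.FiniteType.of_surjective (Ideal.Quotient.mkₐ k (Ideal.span (Set.range f₁)))
      (Ideal.Quotient.mkₐ_surjective k _)
  refine ⟨AA f₁, inferInstance, inferInstance, hftA, mm A₁ 𝔫 f₁, hmm, ?_, v, φ, ?_, e, heg, hek⟩
  · intro z
    obtain ⟨a, rfl⟩ := Ideal.Quotient.mk_surjective z
    obtain ⟨c₀, hc₀⟩ := hressurj a
    refine ⟨c₀, ?_⟩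
    change Ideal.Quotient.mk _ (algebraMap k (AA f₁) c₀) = Ideal.Quotient.mk _ a
    rw [eq_comm, Ideal.Quotient.eq]
    exact hc₀
  · apply AlgHom.ext
    intro b₀
    obtain ⟨z, rfl⟩ := hp b₀
    simp only [AlgHom.comp_apply]
    rw [hv]
    change φ (Ideal.Quotient.mk _ (u (p z))) = Ideal.Quotient.mk _ (w z)
    rw [← hφ]
    congr 1
    -- compare two algebra maps on the polynomial ring
    have h2 : ((Ideal.Quotient.mkₐ k (maximalIdeal R ^ (N + 1))).comp (u.comp p)) =
        ρ.comp w := by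
      apply MvPolynomial.algHom_ext
      intro i
      simp only [AlgHom.comp_apply]
      have e1 : w (X i) = Ideal.Quotient.mk _ (y i) := by simp [w]
      rw [e1]
      change Ideal.Quotient.mk _ (u (p (X i))) = ρ (Ideal.Quotient.mk _ (y i))
      rw [hρ, rho_mk, ← hyhat i, Ideal.Quotient.eq, ← map_sub]
      exact pi1_mem_pow (OO (k := k) x) π₁ hπ₁m (N + 1) _
        (Ideal.pow_le_pow_right hNM (hcloseY i))
    exact congrArg (fun φ => φ z) h2

end Groth.Agent.Helper2.CdJ
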