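import Mathlib
import Groth.Agent.Helper2.CdJJ
import Groth.Agent.Helper2.AlgCatFP

set_option autoImplicit false
set_option linter.style.haveILetI false
set_option linter.unusedSectionVars false

namespace Groth.Agent.Helper2.CdJ

open CategoryTheory CategoryTheory.Limits

universe u

theorem s17371 (k : Type u) [Field k]
    (F : CommAlgCat.{u} k ⥤ Type u)
    (hF : ∀ (J : Type u) [SmallCategory J] [IsFiltered J], PreservesColimitsOfShape J F)
    (R : Type u) [CommRing R] [Algebra k R] [IsLocalRing R] [IsNoetherianRing R]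
    [IsAdicComplete (IsLocalRing.maximalIdeal R) R]
    (hres : Function.Surjective (fun c : k => IsLocalRing.residue R (algebraMap k R c)))
    (ξ : F.obj (CommAlgCat.of k R)) (N : ℕ) :
    ∃ (A : Type u) (_ : CommRing A) (_ : Algebra k A) (_ : Algebra.FiniteType k A)
      (m : Ideal A) (_ : m.IsMaximal)
      (_ : Function.Surjective (fun c : k => Ideal.Quotient.mk m (algebraMap k A c)))
      (η : F.obj (CommAlgCat.of k A))
      (φ : (R ⧸ IsLocalRing.maximalIdeal R ^ (N + 1)) ≃ₐ[k] (A ⧸ m ^ (N + 1))),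
      F.map (CommAlgCat.ofHom (φ.toAlgHom.comp
          (Ideal.Quotient.mkₐ k (IsLocalRing.maximalIdeal R ^ (N + 1))))) ξ =
        F.map (CommAlgCat.ofHom (Ideal.Quotient.mkₐ k (m ^ (N + 1)))) η ∧
      ∃ e : AssocGr.GrRing (FiltBl.IdealFiltration.adic (IsLocalRing.maximalIdeal R)) ≃+*
          AssocGr.GrRing (FiltBl.IdealFiltration.adic m),
        (∀ (n : ℕ) (x : AssocGr.GrRing (FiltBl.IdealFiltration.adic (IsLocalRing.maximalIdeal R))),
            x ∈ AssocGr.gr (FiltBl.IdealFiltration.adic (IsLocalRing.maximalIdeal R)) n →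
              e x ∈ AssocGr.gr (FiltBl.IdealFiltration.adic m) n) ∧
        (∀ c : k, e (algebraMap R _ (algebraMap k R c)) = algebraMap A _ (algebraMap k A c)) := by
  haveI : PreservesFilteredColimitsOfSize.{u, u} F := ⟨hF⟩
  obtain ⟨B₀, _, _, hfp, u, ξ₀, hξ₀⟩ := Groth.Agent.Helper2.AlgCatFP.exists_fp_of_preserves k F R ξ
  obtain ⟨A, iA, aA, hft, m, hm, hsurj, v, φ, hcomp, e, he1, he2⟩ := cdj_alg k R hres B₀ u N
  refine ⟨A, iA, aA, hft, m, hm, hsurj, F.map (CommAlgCat.ofHom v) ξ₀, φ, ?_, e, he1, he2⟩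
  rw [← hξ₀, ← FunctorToTypes.map_comp_apply, ← FunctorToTypes.map_comp_apply,
    ← CommAlgCat.ofHom_comp, ← CommAlgCat.ofHom_comp, hcomp]

end Groth.Agent.Helper2.CdJ
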