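import Mathlib
import Groth.Prelude
import Groth.Agent.Helper2.SmGU1
import Groth.Agent.Helper6.TensorLocal
set_option autoImplicit false
universe u
open IsLocalRing TensorProduct

/-! Mirrored version of `Helper6.TensorLocal`: `A` integral local over `R`, `B` local over `R` with purely
inseparable residue field extension: `A ⊗[R] B` is local.  Also a unibranch version of
`SmGU1.geomUnibranch_of_cover`. -/

namespace Groth.Agent.Helper2.SmU1

open Groth.Agent.Helper6.TensorLocal

/-- elementwise form of "the residue field of `B` is purely inseparable over that of `R`". -/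
def PIres (R B : Type u) [CommRing R] [CommRing B] [IsLocalRing B] [Algebra R B] : Prop :=
  ∀ b : B, ∃ (n : ℕ) (r : R),
    b ^ (ringExpChar (ResidueField B)) ^ n - algebraMap R B r ∈ maximalIdeal B

section TL

variable (R A B : Type u) [CommRing R] [IsLocalRing R]
  [CommRing A] [IsLocalRing A] [Algebra R A] [IsLocalHom (algebraMap R A)] [Algebra.IsIntegral R A]
  [CommRing B] [IsLocalRing B] [Algebra R B] [IsLocalHom (algebraMap R B)]

/-- the ideal generated by the maximal ideal of `B` -/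
def J' : Ideal (A ⊗[R] B) :=
  Ideal.map (Algebra.TensorProduct.includeRight : B →ₐ[R] A ⊗[R] B) (maximalIdeal B)

theorem J'_le (M : Ideal (A ⊗[R] B)) [M.IsMaximal] : J' R A B ≤ M := by
  rw [J', Ideal.map_le_iff_le_comap, comap_includeRight]

omit [IsLocalRing R] [IsLocalRing A] [IsLocalHom (algebraMap R A)] [Algebra.IsIntegral R A]
  [IsLocalHom (algebraMap R B)] in
theorem includeRight_mem_J' (b : B) (hb : b ∈ maximalIdeal B) :
    ((1 : A) ⊗ₜ[R] b : A ⊗[R] B) ∈ J' R A B :=
  Ideal.mem_map_of_mem (Algebra.TensorProduct.includeRight : B →ₐ[R] A ⊗[R] B) hb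

abbrev π' : A ⊗[R] B →+* (A ⊗[R] B) ⧸ J' R A B := Ideal.Quotient.mk (J' R A B)

omit [IsLocalRing R] [IsLocalRing A] [IsLocalHom (algebraMap R A)] [Algebra.IsIntegral R A]
  [IsLocalHom (algebraMap R B)] in
theorem natCast_mem_J' (q : ℕ) [ExpChar (ResidueField B) q] (hq : q ≠ 1) :
    π' R A B (q : A ⊗[R] B) = 0 := by
  have hB : ExpChar (ResidueField B) q := inferInstance
  rcases hB with _ | ⟨hprime⟩
  · exact absurd rfl hq
  · have h2 : (q : B) ∈ maximalIdeal B := by
      rw [← IsLocalRing.residue_eq_zero_iff, map_natCast]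
      exact CharP.cast_eq_zero _ q
    rw [Ideal.Quotient.eq_zero_iff_mem]
    have h4 : ((1 : A) ⊗ₜ[R] (q : B) : A ⊗[R] B) = (q : A ⊗[R] B) := by
      have : (Algebra.TensorProduct.includeRight : B →ₐ[R] A ⊗[R] B) (q : B) = (q : A ⊗[R] B) :=
        map_natCast _ q
      exact this
    rw [← h4]
    exact includeRight_mem_J' R A B _ h2

omit [IsLocalRing R] [IsLocalRing A] [IsLocalHom (algebraMap R A)] [Algebra.IsIntegral R A]
  [IsLocalHom (algebraMap R B)] in
theorem key' (hpi : PIres R B) (x : A ⊗[R] B) :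
    ∃ (n : ℕ) (a : A), π' R A B (x ^ (ringExpChar (ResidueField B)) ^ n) =
      π' R A B (a ⊗ₜ[R] (1 : B)) := by
  induction x using TensorProduct.induction_on with
  | zero =>
    refine ⟨0, 0, ?_⟩
    rw [pow_zero, pow_one, TensorProduct.zero_tmul]
  | tmul a b =>
    obtain ⟨n, r, hr⟩ := hpi b
    refine ⟨n, r • a ^ (ringExpChar (ResidueField B)) ^ n, ?_⟩
    rw [← sub_eq_zero, ← map_sub, Ideal.Quotient.eq_zero_iff_mem]
    have h1 : (a ⊗ₜ[R] b) ^ (ringExpChar (ResidueField B)) ^ n -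
        (r • a ^ (ringExpChar (ResidueField B)) ^ n) ⊗ₜ[R] (1 : B) =
        ((a ^ (ringExpChar (ResidueField B)) ^ n) ⊗ₜ[R] (1 : B)) *
          ((1 : A) ⊗ₜ[R] (b ^ (ringExpChar (ResidueField B)) ^ n - algebraMap R B r)) := by
      rw [Algebra.TensorProduct.tmul_pow, Algebra.TensorProduct.tmul_mul_tmul, mul_one, one_mul,
        TensorProduct.tmul_sub, TensorProduct.smul_tmul, Algebra.smul_def, mul_one]
    rw [h1]
    exact Ideal.mul_mem_left _ _ (includeRight_mem_J' R A B _ hr)
  | add x y hx hy =>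
    obtain ⟨n₁, a₁, h₁⟩ := hx
    obtain ⟨n₂, a₂, h₂⟩ := hy
    have hx' : π' R A B (x ^ (ringExpChar (ResidueField B)) ^ (n₁ + n₂)) =
        π' R A B ((a₁ ^ (ringExpChar (ResidueField B)) ^ n₂) ⊗ₜ[R] (1 : B)) := by
      rw [pow_add, pow_mul, map_pow, h₁, ← map_pow, Algebra.TensorProduct.tmul_pow, one_pow]
    have hy' : π' R A B (y ^ (ringExpChar (ResidueField B)) ^ (n₁ + n₂)) =
        π' R A B ((a₂ ^ (ringExpChar (ResidueField B)) ^ n₁) ⊗ₜ[R] (1 : B)) := by
      rw [add_comm n₁ n₂, pow_add, pow_mul, map_pow, h₂, ← map_pow, Algebra.TensorProduct.tmul_pow,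
        one_pow]
    refine ⟨n₁ + n₂, a₁ ^ (ringExpChar (ResidueField B)) ^ n₂ +
      a₂ ^ (ringExpChar (ResidueField B)) ^ n₁, ?_⟩
    rw [TensorProduct.add_tmul, map_add, ← hx', ← hy']
    by_cases hq : ringExpChar (ResidueField B) = 1
    · rw [hq]
      simp
    · have hprime : (ringExpChar (ResidueField B)).Prime :=
        (expChar_is_prime_or_one (ResidueField B) (ringExpChar (ResidueField B))).resolve_right hq
      obtain ⟨t, ht⟩ := exists_add_pow_prime_pow_eq hprime x y (n₁ + n₂)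
      rw [ht, map_add, map_mul, map_mul, map_mul,
        natCast_mem_J' R A B (ringExpChar (ResidueField B)) hq, zero_mul, zero_mul,
        zero_mul, add_zero, map_add]

theorem isLocalRing_T' (hpi : PIres R B) : IsLocalRing (A ⊗[R] B) := by
  haveI := nontrivial_T R A B
  refine IsLocalRing.of_unique_max_ideal ?_
  obtain ⟨M, hM⟩ := Ideal.exists_maximal (A ⊗[R] B)
  refine ⟨M, hM, ?_⟩
  intro M' hM'
  have key1 : ∀ (M₁ M₂ : Ideal (A ⊗[R] B)), M₁.IsMaximal → M₂.IsMaximal → M₁ ≤ M₂ := by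
    intro M₁ M₂ h₁ h₂ x hx
    obtain ⟨n, a, hna⟩ := key' R A B hpi x
    have h1 : x ^ ringExpChar (ResidueField B) ^ n - a ⊗ₜ[R] (1 : B) ∈ J' R A B := by
      rw [← Ideal.Quotient.eq_zero_iff_mem, map_sub, sub_eq_zero]
      exact hna
    have h2 : a ⊗ₜ[R] (1 : B) ∈ M₁ := by
      have h3 := M₁.sub_mem (M₁.pow_mem_of_mem hx _
        (pow_pos (expChar_pos (ResidueField B) (ringExpChar (ResidueField B))) n))
        (J'_le R A B M₁ h1)
      rwa [sub_sub_cancel] at h3
    have h4 : a ∈ maximalIdeal A := by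
      rw [← comap_includeLeft R A B M₁]
      exact h2
    have h5 : a ⊗ₜ[R] (1 : B) ∈ M₂ := by
      rw [← comap_includeLeft R A B M₂] at h4
      exact h4
    have h6 : x ^ ringExpChar (ResidueField B) ^ n ∈ M₂ := by
      have := M₂.add_mem (J'_le R A B M₂ h1) h5
      rwa [sub_add_cancel] at this
    exact h₂.isPrime.mem_of_pow_mem _ h6
  exact le_antisymm (key1 M' M hM' hM) (key1 M M' hM hM')

theorem main' (hpi : PIres R B) :
    ∃ _ : IsLocalRing (A ⊗[R] B),
      IsLocalHom (Algebra.TensorProduct.includeRight : B →ₐ[R] A ⊗[R] B).toRingHom := by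
  haveI hloc := isLocalRing_T' R A B hpi
  refine ⟨hloc, ?_⟩
  refine ⟨fun b hb => ?_⟩
  by_contra hnu
  have h1 : b ∈ maximalIdeal B := hnu
  rw [← comap_includeRight R A B (maximalIdeal (A ⊗[R] B))] at h1
  exact h1 hb

end TL

section Cover

theorem unibranch_of_cover (B E : Type u) [CommRing B] [IsLocalRing B] [CommRing E] [IsDomain E]
    [IsIntegrallyClosed E] [IsLocalRing E] [Algebra B E] [Algebra.IsIntegral B E]
    (hker : ∀ b : B, algebraMap B E b = 0 → IsNilpotent b)
    (hfrac : ∀ e : E, ∃ b c : B, algebraMap B E c ≠ 0 ∧ algebraMap B E c * e = algebraMap B E b) :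
    CAlg2.IsUnibranch B := by
  letI algCE : Algebra (CAlg2.red B) E :=
    (Ideal.Quotient.lift (nilradical B) (algebraMap B E)
      (fun b hb => IsNilpotent.eq_zero ((mem_nilradical.1 hb).map _))).toAlgebra
  haveI : IsScalarTower B (CAlg2.red B) E := IsScalarTower.of_algebraMap_eq (fun b => rfl)
  have hinj : Function.Injective (algebraMap (CAlg2.red B) E) := by
    rw [injective_iff_map_eq_zero]
    intro c hc
    obtain ⟨b, rfl⟩ := Ideal.Quotient.mk_surjective c
    have : algebraMap B E b = 0 := hc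
    exact Ideal.Quotient.eq_zero_iff_mem.2 (mem_nilradical.2 (hker b this))
  haveI : IsDomain (CAlg2.red B) := Function.Injective.isDomain (algebraMap (CAlg2.red B) E) hinj
  haveI : Algebra.IsIntegral (CAlg2.red B) E := Algebra.IsIntegral.tower_top (R := B)
  have hfrac' : ∀ e : E, ∃ b c : CAlg2.red B, c ≠ 0 ∧
      algebraMap (CAlg2.red B) E c * e = algebraMap (CAlg2.red B) E b := by
    intro e
    obtain ⟨b, c, hc, h⟩ := hfrac e
    refine ⟨Ideal.Quotient.mk _ b, Ideal.Quotient.mk _ c, ?_, h⟩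
    intro h0
    apply hc
    have : algebraMap B E c = algebraMap (CAlg2.red B) E (Ideal.Quotient.mk _ c) := rfl
    rw [this, h0, map_zero]
  obtain ⟨ψ⟩ := Groth.Agent.Helper2.SmGU1.nonempty_algEquiv hinj hfrac'
  exact ⟨inferInstance, ψ.toRingEquiv.isLocalRing⟩

end Cover

end Groth.Agent.Helper2.SmU1
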