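import Mathlib
import Groth.Prelude
import Groth.Agent.Helper2.AnUnr7
import Groth.Agent.Helper2.Unibr1
import Groth.Agent.Helper2.SmU1
import Groth.Agent.Helper2.NorBC
import Groth.Agent.S4749

set_option autoImplicit false
set_option linter.style.haveILetI false

namespace Groth.Agent.Helper2.CplDom

universe u

open TensorProduct IsLocalRing

/-- a local normal ring is a domain -/
theorem isDomain_of_isNormalRing_of_isLocalRing (T : Type u) [CommRing T] [IsLocalRing T]
    (h : EGA4.IsNormalRing T) : IsDomain T := by
  haveI := (h (maximalIdeal T)).1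
  have hinj : Function.Injective (algebraMap T (Localization.AtPrime (maximalIdeal T))) := by
    apply IsLocalization.injective (M := (maximalIdeal T).primeCompl)
    intro x hx
    have hu : IsUnit x := by
      by_contra hnu
      exact hx ((mem_maximalIdeal x).mpr hnu)
    exact hu.mem_nonZeroDivisors
  exact Function.Injective.isDomain (algebraMap T _) hinj

/-- S2811 -/
theorem s2811 (A : Type u) [CommRing A] [IsNoetherianRing A]
    [HenselianLocalRing A] [IsDomain A] (h : EGA4.HasGeomNormalFormalFibres A) :
    IsDomain (EGA4.Cpl A) := by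
  have hNag : CAlg.IsNagata A := Groth.Agent.Helper2.AnUnr6.s2657 A
    (fun p hp => Groth.Agent.Helper2.AnUnr7.isGeometricallyReduced_of_isGeomNormal _ _ (h p))
  haveI hfin : Module.Finite A (integralClosure A (FractionRing A)) :=
    Groth.Agent.Helper2.AnUnr7.finite_integralClosure_fractionRing A hNag
  haveI : IsNoetherianRing (integralClosure A (FractionRing A)) := IsNoetherianRing.of_finite A _
  haveI : IsLocalRing (integralClosure A (FractionRing A)) :=
    Groth.Agent.Helper2.Unibr1.isLocalRing_of_isIntegral_of_isDomain A _
  haveI : IsIntegrallyClosed (integralClosure A (FractionRing A)) :=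
    integralClosure.isIntegrallyClosedOfFiniteExtension (FractionRing A)
  have hA'n : EGA4.IsNormalRing (integralClosure A (FractionRing A)) :=
    Groth.Agent.Helper2.HensNor.isNormalRing_of_isIntegrallyClosed _
  haveI : IsNoetherianRing (EGA4.Cpl A) := Groth.Agent.S0543.result A _
  have hnh : EGA4.IsNormalHom A (EGA4.Cpl A) := ⟨inferInstance, h⟩
  haveI : IsNoetherianRing (integralClosure A (FractionRing A) ⊗[A] EGA4.Cpl A) := by
    haveI : IsNoetherianRing (EGA4.Cpl A ⊗[A] integralClosure A (FractionRing A)) :=
      IsNoetherianRing.of_finite (EGA4.Cpl A) _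
    exact isNoetherianRing_of_ringEquiv _
      (Algebra.TensorProduct.comm A (EGA4.Cpl A) (integralClosure A (FractionRing A))).toRingEquiv
  have hnh' : EGA4.IsNormalHom (integralClosure A (FractionRing A))
      (integralClosure A (FractionRing A) ⊗[A] EGA4.Cpl A) :=
    (Groth.Agent.S4749.result A (EGA4.Cpl A) (integralClosure A (FractionRing A))
      (Or.inr inferInstance)).1 hnh
  haveI := hnh'.1
  have hTn : EGA4.IsNormalRing (integralClosure A (FractionRing A) ⊗[A] EGA4.Cpl A) := by
    refine Groth.Agent.Helper2.GeomNor2.isNormalRing_of_flat (integralClosure A (FractionRing A)) _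
      hA'n (fun p hp => ?_)
    have h1 := hnh'.2 p p.ResidueField (Module.Finite.self _)
    exact Groth.Agent.Helper2.GeomNor.isNormalRing_of_ringEquiv
      (Algebra.TensorProduct.lid p.ResidueField _).toRingEquiv h1
  -- locality
  have hpi : Groth.Agent.Helper2.SmU1.PIres A (EGA4.Cpl A) := by
    intro b
    obtain ⟨r, hr⟩ := (AdicCompletion.residueField_map_bijective (R := A)).2 (residue _ b)
    obtain ⟨r, rfl⟩ := residue_surjective r
    refine ⟨0, r, ?_⟩
    rw [pow_zero, pow_one, ← Ideal.Quotient.eq]
    exact hr.symm
  obtain ⟨hloc, -⟩ := Groth.Agent.Helper2.SmU1.main' A (integralClosure A (FractionRing A))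
    (EGA4.Cpl A) hpi
  haveI := isDomain_of_isNormalRing_of_isLocalRing _ hTn
  have hinj : Function.Injective (Algebra.TensorProduct.includeRight :
      EGA4.Cpl A →ₐ[A] integralClosure A (FractionRing A) ⊗[A] EGA4.Cpl A) :=
    Algebra.TensorProduct.includeRight_injective (FaithfulSMul.algebraMap_injective A _)
  exact Function.Injective.isDomain (Algebra.TensorProduct.includeRight :
      EGA4.Cpl A →ₐ[A] integralClosure A (FractionRing A) ⊗[A] EGA4.Cpl A).toRingHom hinj

end Groth.Agent.Helper2.CplDom
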