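import Mathlib

set_option autoImplicit false
set_option linter.style.haveILetI false

namespace Groth.Agent.Helper2.GeomConn

universe u

open TensorProduct

/-- nontrivial ring with only trivial idempotents -/
def TrivIdem (S : Type*) [CommRing S] : Prop :=
  Nontrivial S ∧ ∀ e : S, IsIdempotentElem e → e = 0 ∨ e = 1

theorem trivIdem_of_injective {S T : Type*} [CommRing S] [CommRing T] (f : S →+* T)
    (hf : Function.Injective f) (h : TrivIdem T) : TrivIdem S := by
  haveI := h.1
  refine ⟨f.domain_nontrivial, fun e he => ?_⟩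
  rcases h.2 (f e) (he.map f) with h0 | h1
  · left; exact hf (by rw [h0, map_zero])
  · right; exact hf (by rw [h1, map_one])

theorem trivIdem_of_ringEquiv {S T : Type*} [CommRing S] [CommRing T] (e : S ≃+* T)
    (h : TrivIdem S) : TrivIdem T :=
  trivIdem_of_injective e.symm.toRingHom e.symm.injective h

/-- Nullstellensatz: a reduced algebra of finite type over an algebraically closed field has
enough rational points. -/
theorem eq_zero_of_forall_algHom (k : Type u) [Field k] [IsAlgClosed k] (T : Type u) [CommRing T]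
    [Algebra k T] [Algebra.FiniteType k T] [IsReduced T] (x : T)
    (h : ∀ φ : T →ₐ[k] k, φ x = 0) : x = 0 := by
  haveI : IsJacobsonRing T := isJacobsonRing_of_finiteType (A := k)
  have hjac : (⊥ : Ideal T).jacobson = ⊥ := by
    exact (isJacobsonRing_iff.mp ‹IsJacobsonRing T›) (⊥ : Ideal T) Ideal.isRadical_bot
  have hx : x ∈ (⊥ : Ideal T).jacobson := by
    rw [Ideal.jacobson, Ideal.mem_sInf]
    rintro m ⟨-, hm⟩
    haveI := hm
    letI : Field (T ⧸ m) := Ideal.Quotient.field m
    haveI : Algebra.FiniteType k (T ⧸ m) :=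
      Algebra.FiniteType.of_surjective (Ideal.Quotient.mkₐ k m) Ideal.Quotient.mk_surjective
    haveI : Module.Finite k (T ⧸ m) := finite_of_finite_type_of_isJacobsonRing k (T ⧸ m)
    haveI : Algebra.IsIntegral k (T ⧸ m) := Algebra.IsIntegral.of_finite k _
    have hbij : Function.Bijective (algebraMap k (T ⧸ m)) :=
      IsAlgClosed.algebraMap_bijective_of_isIntegral
    let e : k ≃ₐ[k] (T ⧸ m) := AlgEquiv.ofBijective (Algebra.ofId k (T ⧸ m)) hbij
    let φ : T →ₐ[k] k := e.symm.toAlgHom.comp (Ideal.Quotient.mkₐ k m)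
    have h1 := h φ
    have h2 : Ideal.Quotient.mk m x = 0 := by
      have : e.symm (Ideal.Quotient.mk m x) = 0 := h1
      rw [← e.symm.map_zero] at this
      exact e.symm.injective this
    exact Ideal.Quotient.eq_zero_iff_mem.mp h2
  rw [hjac] at hx
  exact hx

/-- base change from an algebraically closed field preserves connectedness -/
theorem algClosed_step (k : Type u) [Field k] [IsAlgClosed k] (R : Type u) [CommRing R]
    [Algebra k R] (hR : TrivIdem R) (Ω : Type u) [Field Ω] [Algebra k Ω] :
    TrivIdem (Ω ⊗[k] R) := by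
  classical
  haveI := hR.1
  have hnt : Nontrivial (Ω ⊗[k] R) :=
    (Algebra.TensorProduct.includeLeft_injective (S := Ω) (R := k) (A := Ω) (B := R)
      (FaithfulSMul.algebraMap_injective k R)).nontrivial
  refine ⟨hnt, fun e he => ?_⟩
  let b := Module.Basis.ofVectorSpace k R
  let B := Algebra.TensorProduct.basis Ω b
  let c := B.repr e
  let a := b.repr 1
  let T : Subalgebra k Ω := Algebra.adjoin k ((c.support.image c : Finset Ω) : Set Ω)
  have hmem : ∀ i, c i ∈ T := by
    intro i
    by_cases hi : i ∈ c.support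
    · exact Algebra.subset_adjoin (Finset.mem_coe.mpr (Finset.mem_image_of_mem c hi))
    · rw [Finsupp.notMem_support_iff.mp hi]; exact T.zero_mem
  let cT : _ → T := fun i => ⟨c i, hmem i⟩
  haveI : Algebra.FiniteType k T := (Subalgebra.fg_iff_finiteType T).mp (Subalgebra.fg_adjoin_finset _)
  let eT : T ⊗[k] R := ∑ i ∈ c.support, cT i ⊗ₜ[k] b i
  let j : T ⊗[k] R →ₐ[k] Ω ⊗[k] R := Algebra.TensorProduct.map T.val (AlgHom.id k R)
  have hj : Function.Injective j := by
    have := Module.Flat.rTensor_preserves_injective_linearMap (M := R) T.val.toLinearMap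
      Subtype.val_injective
    exact this
  have hjeT : j eT = e := by
    have h1 : j eT = ∑ i ∈ c.support, c i • B i := by
      simp only [eT, map_sum, j, Algebra.TensorProduct.map_tmul]
      refine Finset.sum_congr rfl (fun i _ => ?_)
      rw [Algebra.TensorProduct.basis_apply, TensorProduct.smul_tmul', smul_eq_mul, mul_one]
      rfl
    rw [h1]
    exact B.linearCombination_repr e
  have heT : IsIdempotentElem eT := by
    apply hj
    rw [map_mul, hjeT]
    exact he
  -- the dichotomy at each rational point
  have hdich : ∀ φ : T →ₐ[k] k, (∀ i, φ (cT i) = 0) ∨ (∀ i, φ (cT i) = a i) := by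
    intro φ
    let Ψ : T ⊗[k] R →ₐ[k] R :=
      Algebra.TensorProduct.lift ((Algebra.ofId k R).comp φ) (AlgHom.id k R)
        (fun _ _ => Commute.all _ _)
    have hΨ : Ψ eT = ∑ i ∈ c.support, φ (cT i) • b i := by
      simp only [eT, map_sum, Ψ, Algebra.TensorProduct.lift_tmul]
      refine Finset.sum_congr rfl (fun i _ => ?_)
      rw [AlgHom.comp_apply, Algebra.ofId_apply, AlgHom.id_apply, Algebra.smul_def]
    have hrepr : ∀ i, b.repr (Ψ eT) i = φ (cT i) := by
      intro i
      rw [hΨ, map_sum, Finsupp.finset_sum_apply]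
      simp only [map_smul, Module.Basis.repr_self, Finsupp.smul_apply, Finsupp.single_apply,
        smul_eq_mul, mul_ite, mul_one, mul_zero, Finset.sum_ite_eq']
      split_ifs with hi
      · rfl
      · have : cT i = 0 := Subtype.ext (Finsupp.notMem_support_iff.mp hi)
        rw [this, map_zero]
    rcases hR.2 _ (heT.map Ψ) with h0 | h1
    · left
      intro i
      rw [← hrepr, h0, map_zero, Finsupp.zero_apply]
    · right
      intro i
      rw [← hrepr, h1]
  -- hence the products vanish
  have hprod : ∀ i i', c i * (c i' - algebraMap k Ω (a i')) = 0 := by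
    intro i i'
    have h1 : cT i * (cT i' - algebraMap k T (a i')) = 0 := by
      apply eq_zero_of_forall_algHom k T
      intro φ
      rw [map_mul, map_sub, AlgHom.commutes]
      rcases hdich φ with h | h
      · rw [h i, zero_mul]
      · rw [h i', Algebra.algebraMap_self, RingHom.id_apply, sub_self, mul_zero]
    have := congrArg (T.val) h1
    rw [map_mul, map_sub, map_zero] at this
    exact this
  by_cases hall : ∀ i, c i = 0
  · left
    apply B.repr.injective
    rw [map_zero]
    ext i
    exact hall i
  · right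
    push_neg at hall
    obtain ⟨i₀, hi₀⟩ := hall
    apply B.repr.injective
    ext i
    have h1 := hprod i₀ i
    rcases mul_eq_zero.mp h1 with h | h
    · exact absurd h hi₀
    · have h2 : c i = algebraMap k Ω (a i) := sub_eq_zero.mp h
      change c i = _
      rw [h2, Algebra.TensorProduct.one_def, Algebra.TensorProduct.basis_repr_tmul, one_smul,
        Finsupp.mapRange_apply]

theorem map_injective (κ : Type u) [Field κ] (R : Type u) [CommRing R] [Algebra κ R]
    {E E' : Type u} [CommRing E] [CommRing E'] [Algebra κ E] [Algebra κ E'] (f : E →ₐ[κ] E')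
    (hf : Function.Injective f) :
    Function.Injective (Algebra.TensorProduct.map f (AlgHom.id κ R)) := by
  have := Module.Flat.rTensor_preserves_injective_linearMap (M := R) f.toLinearMap hf
  exact this

theorem exists_finite_subfield (κ : Type u) [Field κ] (R : Type u) [CommRing R] [Algebra κ R]
    (z : AlgebraicClosure κ ⊗[κ] R) :
    ∃ E : IntermediateField κ (AlgebraicClosure κ), FiniteDimensional κ E ∧
      z ∈ (Algebra.TensorProduct.map E.val (AlgHom.id κ R)).range := by
  have hmono : ∀ (E₁ E₂ : IntermediateField κ (AlgebraicClosure κ)), E₁ ≤ E₂ →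
      (Algebra.TensorProduct.map E₁.val (AlgHom.id κ R)).range ≤
        (Algebra.TensorProduct.map E₂.val (AlgHom.id κ R)).range := by
    rintro E₁ E₂ hle _ ⟨w, rfl⟩
    refine ⟨Algebra.TensorProduct.map (IntermediateField.inclusion hle) (AlgHom.id κ R) w, ?_⟩
    have : (Algebra.TensorProduct.map E₂.val (AlgHom.id κ R)).comp
        (Algebra.TensorProduct.map (IntermediateField.inclusion hle) (AlgHom.id κ R)) =
        Algebra.TensorProduct.map E₁.val (AlgHom.id κ R) := by
      ext x
      · rfl
      · rfl
    exact AlgHom.congr_fun this w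
  induction z using TensorProduct.induction_on with
  | zero => exact ⟨⊥, inferInstance, Subalgebra.zero_mem _⟩
  | tmul x r =>
    refine ⟨IntermediateField.adjoin κ {x},
      IntermediateField.adjoin.finiteDimensional (Algebra.IsIntegral.isIntegral x), ?_⟩
    exact ⟨(⟨x, IntermediateField.mem_adjoin_simple_self κ x⟩ :
      IntermediateField.adjoin κ {x}) ⊗ₜ[κ] r, rfl⟩
  | add z₁ z₂ h₁ h₂ =>
    obtain ⟨E₁, hf₁, hz₁⟩ := h₁
    obtain ⟨E₂, hf₂, hz₂⟩ := h₂
    refine ⟨E₁ ⊔ E₂, IntermediateField.finiteDimensional_sup E₁ E₂, ?_⟩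
    exact Subalgebra.add_mem _ (hmono _ _ le_sup_left hz₁) (hmono _ _ le_sup_right hz₂)

theorem algClosure_step (κ : Type u) [Field κ] (R : Type u) [CommRing R] [Algebra κ R]
    (h : ∀ (κ' : Type u) [Field κ'] [Algebra κ κ'], FiniteDimensional κ κ' →
      TrivIdem (κ' ⊗[κ] R)) :
    TrivIdem (AlgebraicClosure κ ⊗[κ] R) := by
  have hκ := h κ inferInstance
  haveI := hκ.1
  have hnt : Nontrivial (AlgebraicClosure κ ⊗[κ] R) :=
    (map_injective κ R (Algebra.ofId κ (AlgebraicClosure κ))
      (algebraMap κ (AlgebraicClosure κ)).injective).nontrivial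
  refine ⟨hnt, fun e he => ?_⟩
  obtain ⟨E, hfin, e', rfl⟩ := exists_finite_subfield κ R e
  have hinj := map_injective κ R E.val Subtype.val_injective
  have he' : IsIdempotentElem e' := by
    apply hinj
    rw [map_mul]
    exact he
  rcases (h E hfin).2 e' he' with h0 | h1
  · left; rw [h0, map_zero]
  · right; rw [h1, map_one]

/-- If `κ' ⊗ R` is connected for every finite extension `κ'/κ`, then `K ⊗ R` is connected for
every field extension `K/κ`. -/
theorem main (κ : Type u) [Field κ] (R : Type u) [CommRing R] [Algebra κ R]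
    (h : ∀ (κ' : Type u) [Field κ'] [Algebra κ κ'], FiniteDimensional κ κ' →
      TrivIdem (κ' ⊗[κ] R))
    (K : Type u) [Field K] [Algebra κ K] : TrivIdem (K ⊗[κ] R) := by
  let ψ : AlgebraicClosure κ →ₐ[κ] AlgebraicClosure K := IsAlgClosed.lift
  letI : Algebra (AlgebraicClosure κ) (AlgebraicClosure K) := ψ.toRingHom.toAlgebra
  haveI : IsScalarTower κ (AlgebraicClosure κ) (AlgebraicClosure K) :=
    IsScalarTower.of_algebraMap_eq (fun x => (ψ.commutes x).symm)
  have h1 : TrivIdem (AlgebraicClosure κ ⊗[κ] R) := algClosure_step κ R h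
  have h2 : TrivIdem (AlgebraicClosure K ⊗[AlgebraicClosure κ] (AlgebraicClosure κ ⊗[κ] R)) :=
    algClosed_step (AlgebraicClosure κ) _ h1 (AlgebraicClosure K)
  have h3 : TrivIdem (AlgebraicClosure K ⊗[κ] R) :=
    trivIdem_of_ringEquiv (Algebra.TensorProduct.cancelBaseChange κ (AlgebraicClosure κ)
      (AlgebraicClosure κ) (AlgebraicClosure K) R).toRingEquiv h2
  exact trivIdem_of_injective
    (Algebra.TensorProduct.map (IsScalarTower.toAlgHom κ K (AlgebraicClosure K))
      (AlgHom.id κ R)).toRingHom
    (map_injective κ R _ (algebraMap K (AlgebraicClosure K)).injective) h3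

end Groth.Agent.Helper2.GeomConn
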