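import Mathlib
import Groth.Agent.Helper2.AnUnr6

set_option autoImplicit false
set_option linter.style.haveILetI false

namespace Groth.Agent.Helper2.ZarLem

universe u

open TensorProduct IsLocalRing

section VLevel

variable {D : Type*} [CommRing D] (π : D) (hπ : π ∈ nonZeroDivisors D)
  (hred : IsReduced (D ⧸ Ideal.span {π}))
include hπ hred

theorem mem_of_pow_mem (y : D) (N : ℕ) (h : y ^ N ∈ Ideal.span {π}) : ∃ z, y = π * z := by
  have h1 : IsNilpotent (Ideal.Quotient.mk (Ideal.span {π}) y) :=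
    ⟨N, by rw [← map_pow, Ideal.Quotient.eq_zero_iff_mem]; exact h⟩
  have h2 := h1.eq_zero
  rw [Ideal.Quotient.eq_zero_iff_mem, Ideal.mem_span_singleton'] at h2
  obtain ⟨z, hz⟩ := h2
  exact ⟨z, by rw [← hz, mul_comm]⟩

/-- nilpotents are infinitely divisible by `π` -/
theorem exists_eq_pow_mul_of_isNilpotent (m : ℕ) :
    ∀ y : D, IsNilpotent y → ∃ z, y = π ^ m * z := by
  induction m with
  | zero => intro y _; exact ⟨y, by simp⟩
  | succ m ih =>
    intro y hy
    obtain ⟨N, hN⟩ := hy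
    obtain ⟨y₁, hy₁⟩ := mem_of_pow_mem π hπ hred y N (by rw [hN]; exact Ideal.zero_mem _)
    have h1 : IsNilpotent y₁ := by
      refine ⟨N, ?_⟩
      have h2 : π ^ N * y₁ ^ N = 0 := by rw [← mul_pow, ← hy₁, hN]
      exact (mul_left_mem_nonZeroDivisors_eq_zero_iff (pow_mem hπ N)).mp h2
    obtain ⟨z, hz⟩ := ih y₁ h1
    exact ⟨z, by rw [hy₁, hz, pow_succ]; ring⟩

/-- "idempotents of `D[1/π]` lie in `D`" -/
theorem exists_eq_pow_mul_of_sq (m : ℕ) :
    ∀ y : D, y ^ 2 = π ^ m * y → ∃ z, y = π ^ m * z := by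
  induction m with
  | zero => intro y _; exact ⟨y, by simp⟩
  | succ m ih =>
    intro y hy
    obtain ⟨y₁, hy₁⟩ := mem_of_pow_mem π hπ hred y 2 (by
      rw [hy, Ideal.mem_span_singleton']
      exact ⟨π ^ m * y, by ring⟩)
    have h1 : y₁ ^ 2 = π ^ m * y₁ := by
      have h2 : π ^ 2 * (y₁ ^ 2) = π ^ 2 * (π ^ m * y₁) := by
        have : (π * y₁) ^ 2 = π ^ (m + 1) * (π * y₁) := by rw [← hy₁]; exact hy
        calc π ^ 2 * (y₁ ^ 2) = (π * y₁) ^ 2 := by ring
          _ = π ^ (m + 1) * (π * y₁) := this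
          _ = π ^ 2 * (π ^ m * y₁) := by ring
      exact (mul_cancel_left_mem_nonZeroDivisors (pow_mem hπ 2)).mp h2
    obtain ⟨z, hz⟩ := ih y₁ h1
    exact ⟨z, by rw [hy₁, hz, pow_succ]; ring⟩

end VLevel

/-- global step: membership in `tF` can be tested at the associated primes of `A/tA`. -/
theorem global_step (A : Type u) [CommRing A] [IsNoetherianRing A] (t : A)
    (F : Type u) [CommRing F] [Algebra A F] [Module.Flat A F] (y : F)
    (h : ∀ q ∈ associatedPrimes A (A ⧸ Ideal.span {t}), ∃ s ∉ q, ∃ f : F, s • y = t • f) :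
    ∃ f : F, y = t • f := by
  classical
  -- the conductor ideal
  let I : Ideal A :=
    { carrier := {a | ∃ f : F, a • y = t • f}
      add_mem' := by
        rintro a b ⟨f, hf⟩ ⟨g, hg⟩
        exact ⟨f + g, by rw [add_smul, hf, hg, smul_add]⟩
      zero_mem' := ⟨0, by simp⟩
      smul_mem' := by
        rintro c a ⟨f, hf⟩
        exact ⟨c • f, by rw [smul_eq_mul, mul_smul, hf, smul_comm]⟩ }
  have hfin : (associatedPrimes A (A ⧸ Ideal.span {t})).Finite := associatedPrimes.finite _ _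
  have hnot : ¬ ((I : Set A) ⊆ ⋃ q ∈ (↑hfin.toFinset : Set (Ideal A)), (q : Set A)) := by
    intro hsub
    have hp : ∀ i ∈ hfin.toFinset, i ≠ (⊥ : Ideal A) → i ≠ (⊥ : Ideal A) → i.IsPrime := by
      intro i hi _ _
      rw [Set.Finite.mem_toFinset] at hi
      exact hi.isPrime
    obtain ⟨q, hq, hIq⟩ := (Ideal.subset_union_prime (f := fun q : Ideal A => q) ⊥ ⊥ hp).mp hsub
    rw [Set.Finite.mem_toFinset] at hq
    obtain ⟨s, hs, f, hf⟩ := h q hq
    exact hs (hIq ⟨f, hf⟩)
  rw [Set.not_subset] at hnot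
  obtain ⟨a, haI, hau⟩ := hnot
  obtain ⟨f, hf⟩ := haI
  -- `a` is regular on `A/tA`
  have hreg : IsSMulRegular (A ⧸ Ideal.span {t}) a := by
    intro x₁ x₂ hx
    by_contra hne
    have hmem : a ∈ {r : A | ∃ x : A ⧸ Ideal.span {t}, x ≠ 0 ∧ r • x = 0} :=
      ⟨x₁ - x₂, sub_ne_zero.mpr hne, by
        rw [smul_sub]
        exact sub_eq_zero.mpr hx⟩
    rw [← biUnion_associatedPrimes_eq_zero_divisors] at hmem
    apply hau
    simp only [Set.mem_iUnion, Finset.mem_coe, Set.Finite.mem_toFinset] at hmem ⊢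
    exact hmem
  have hinj : Function.Injective (LinearMap.lsmul A (A ⧸ Ideal.span {t}) a) := hreg
  have hinj' := Module.Flat.lTensor_preserves_injective_linearMap (M := F) _ hinj
  have hw : (y ⊗ₜ[A] (1 : A ⧸ Ideal.span {t}) : F ⊗[A] (A ⧸ Ideal.span {t})) = 0 := by
    apply hinj'
    rw [LinearMap.lTensor_tmul, map_zero, LinearMap.lsmul_apply, ← TensorProduct.smul_tmul, hf,
      TensorProduct.smul_tmul]
    have : t • (1 : A ⧸ Ideal.span {t}) = 0 := by
      rw [Algebra.smul_def, mul_one]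
      exact Ideal.Quotient.eq_zero_iff_mem.mpr (Ideal.mem_span_singleton_self t)
    rw [this, TensorProduct.tmul_zero]
  have h1 : (Ideal.Quotient.mk ((Ideal.span {t}).map (algebraMap A F)) y) = 0 := by
    apply (Algebra.TensorProduct.quotIdealMapEquivTensorQuot F (Ideal.span {t})).injective
    rw [map_zero]
    exact hw
  rw [Ideal.Quotient.eq_zero_iff_mem, Ideal.map_span, Set.image_singleton,
    Ideal.mem_span_singleton'] at h1
  obtain ⟨f', hf'⟩ := h1
  exact ⟨f', by rw [Algebra.smul_def, ← hf', mul_comm]⟩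

/-- reducedness of the closed fibre of the localisation -/
theorem isReduced_fibre (A : Type u) [CommRing A] (q : Ideal A) [q.IsPrime]
    (F : Type u) [CommRing F] [Algebra A F]
    (hred : IsReduced ((A ⧸ q) ⊗[A] F)) :
    IsReduced ((Localization.AtPrime q ⊗[A] F) ⧸
      (maximalIdeal (Localization.AtPrime q)).map
        (algebraMap (Localization.AtPrime q) (Localization.AtPrime q ⊗[A] F))) := by
  have h1 : IsReduced (q.ResidueField ⊗[A] F) :=
    Groth.Agent.Helper2.AnUnr6.isReduced_tensor_fractionRing (C := A ⧸ q) (R := q.ResidueField)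
      (nonZeroDivisors (A ⧸ q)) hred
  let V := Localization.AtPrime q
  let D := V ⊗[A] F
  let e1 : (D ⧸ (maximalIdeal V).map (algebraMap V D)) ≃ₐ[D] D ⊗[V] (V ⧸ maximalIdeal V) :=
    Algebra.TensorProduct.quotIdealMapEquivTensorQuot D (maximalIdeal V)
  let e2 : D ⊗[V] (V ⧸ maximalIdeal V) ≃ₐ[V] (V ⧸ maximalIdeal V) ⊗[V] D :=
    Algebra.TensorProduct.comm V D _
  let e3 : (V ⧸ maximalIdeal V) ⊗[V] (V ⊗[A] F) ≃ₐ[V ⧸ maximalIdeal V] (V ⧸ maximalIdeal V) ⊗[A] F :=
    Algebra.TensorProduct.cancelBaseChange A V (V ⧸ maximalIdeal V) (V ⧸ maximalIdeal V) F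
  haveI : IsReduced ((V ⧸ maximalIdeal V) ⊗[A] F) := h1
  exact isReduced_of_injective ((e1.toRingEquiv.trans e2.toRingEquiv).trans e3.toRingEquiv).toRingHom
    ((e1.toRingEquiv.trans e2.toRingEquiv).trans e3.toRingEquiv).injective

/-- local step -/
theorem local_step (A : Type u) [CommRing A] (q : Ideal A) [q.IsPrime]
    [IsDomain (Localization.AtPrime q)] [IsDiscreteValuationRing (Localization.AtPrime q)]
    (F : Type u) [CommRing F] [Algebra A F] [Module.Flat A F]
    (hred : IsReduced ((A ⧸ q) ⊗[A] F)) (t : A) (ht : algebraMap A (Localization.AtPrime q) t ≠ 0)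
    (y : F) (hy : IsNilpotent y ∨ y ^ 2 = t • y) :
    ∃ s ∉ q, ∃ f : F, s • y = t • f := by
  classical
  let V := Localization.AtPrime q
  let D := V ⊗[A] F
  obtain ⟨ϖ, hϖ⟩ := IsDiscreteValuationRing.exists_irreducible V
  obtain ⟨m, u, htu⟩ := IsDiscreteValuationRing.eq_unit_mul_pow_irreducible ht hϖ
  let π : D := algebraMap V D ϖ
  have hsmul : ∀ (v : V) (z : D), v • z = algebraMap V D v * z := fun v z => Algebra.smul_def v z
  have hπ : π ∈ nonZeroDivisors D := by
    have hreg : IsSMulRegular D ϖ :=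
      Module.Flat.isSMulRegular_of_nonZeroDivisors (M := D)
        (mem_nonZeroDivisors_of_ne_zero hϖ.ne_zero)
    rw [mem_nonZeroDivisors_iff_right]
    intro z hz
    apply hreg
    change ϖ • z = ϖ • (0 : D)
    rw [smul_zero]
    rw [mul_comm] at hz
    exact (hsmul ϖ z).trans hz
  have hspan : (maximalIdeal V).map (algebraMap V D) = Ideal.span {π} := by
    rw [hϖ.maximalIdeal_eq, Ideal.map_span, Set.image_singleton]
  have hredD : IsReduced (D ⧸ Ideal.span {π}) := by
    haveI := isReduced_fibre A q F hred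
    exact isReduced_of_injective (Ideal.quotEquivOfEq hspan).symm.toRingHom
      (Ideal.quotEquivOfEq hspan).symm.injective
  let yD : D := (1 : V) ⊗ₜ[A] y
  let U : D := algebraMap V D (u : V)
  have hU : IsUnit U := u.isUnit.map (algebraMap V D)
  have htD : ∀ z : D, t • z = U * π ^ m * z := by
    intro z
    rw [← IsScalarTower.algebraMap_smul V t z, htu, hsmul, map_mul, map_pow]
  -- `yD` is divisible by `π ^ m`
  have hdiv : ∃ z₀ : D, yD = π ^ m * z₀ := by
    rcases hy with hy | hy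
    · exact exists_eq_pow_mul_of_isNilpotent π hπ hredD m yD
        (hy.map (Algebra.TensorProduct.includeRight : F →ₐ[A] V ⊗[A] F))
    · obtain ⟨U', hU'⟩ := hU.exists_left_inv
      have h1 : yD ^ 2 = U * π ^ m * yD := by
        rw [← htD]
        change ((1 : V) ⊗ₜ[A] y) ^ 2 = t • ((1 : V) ⊗ₜ[A] y)
        rw [Algebra.TensorProduct.tmul_pow, one_pow, hy, TensorProduct.tmul_smul]
      have h2 : (U' * yD) ^ 2 = π ^ m * (U' * yD) := by
        calc (U' * yD) ^ 2 = U' ^ 2 * yD ^ 2 := by ring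
          _ = U' ^ 2 * (U * π ^ m * yD) := by rw [h1]
          _ = (U' * U) * (π ^ m * (U' * yD)) := by ring
          _ = π ^ m * (U' * yD) := by rw [hU', one_mul]
      obtain ⟨z, hz⟩ := exists_eq_pow_mul_of_sq π hπ hredD m _ h2
      refine ⟨U * z, ?_⟩
      calc yD = (U' * U) * yD := by rw [hU', one_mul]
        _ = U * (U' * yD) := by ring
        _ = U * (π ^ m * z) := by rw [hz]
        _ = π ^ m * (U * z) := by ring
  obtain ⟨z₀, hz₀⟩ := hdiv
  obtain ⟨U', hU'⟩ := hU.exists_left_inv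
  have hyD : yD = t • (U' * z₀) := by
    rw [htD, hz₀]
    calc π ^ m * z₀ = (U' * U) * (π ^ m * z₀) := by rw [hU', one_mul]
      _ = U * π ^ m * (U' * z₀) := by ring
  obtain ⟨⟨f, s⟩, hfs⟩ := IsLocalizedModule.surj q.primeCompl (TensorProduct.mk A V F 1) (U' * z₀)
  have hfs' : (s : A) • (U' * z₀) = (1 : V) ⊗ₜ[A] f := hfs
  have h3 : (TensorProduct.mk A V F 1) ((s : A) • y) = (TensorProduct.mk A V F 1) (t • f) := by
    change (1 : V) ⊗ₜ[A] ((s : A) • y) = (1 : V) ⊗ₜ[A] (t • f)
    rw [TensorProduct.tmul_smul, TensorProduct.tmul_smul, ← hfs', smul_comm]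
    congr 1
  obtain ⟨c, hc⟩ := IsLocalizedModule.exists_of_eq (S := q.primeCompl) h3
  refine ⟨(c : A) * (s : A), ?_, (c : A) • f, ?_⟩
  · exact (q.primeCompl.mul_mem c.2 s.2)
  · rw [mul_smul, smul_comm t]
    exact hc

/-- Zariski's lemma, combined form: if `A_q` is a DVR and `F/qF` is reduced for all associated
primes `q` of `A/tA`, then nilpotents of `F` and elements with `y² = t y` are divisible by `t`. -/
theorem main (A : Type u) [CommRing A] [IsNoetherianRing A] (t : A) (ht : t ∈ nonZeroDivisors A)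
    (F : Type u) [CommRing F] [Algebra A F] [Module.Flat A F]
    (hq : ∀ q ∈ associatedPrimes A (A ⧸ Ideal.span {t}), ∀ [q.IsPrime],
      (∃ (_ : IsDomain (Localization.AtPrime q)), IsDiscreteValuationRing (Localization.AtPrime q)) ∧
        IsReduced ((A ⧸ q) ⊗[A] F))
    (y : F) (hy : IsNilpotent y ∨ y ^ 2 = t • y) : ∃ f : F, y = t • f := by
  apply global_step A t F y
  intro q hqa
  haveI : q.IsPrime := hqa.isPrime
  obtain ⟨⟨hdom, hdvr⟩, hred⟩ := hq q hqa
  refine local_step A q F hred t ?_ y hy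
  intro h0
  rw [IsLocalization.map_eq_zero_iff q.primeCompl] at h0
  obtain ⟨s, hs⟩ := h0
  have h1 : (s : A) = 0 := by
    exact (mul_right_mem_nonZeroDivisors_eq_zero_iff ht).mp hs
  exact s.2 (by rw [h1]; exact Ideal.zero_mem _)

end Groth.Agent.Helper2.ZarLem
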