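import Mathlib
import Groth.Prelude
import Groth.Agent.Helper2.CplDom
import Groth.Agent.Helper2.ZarLem
import Groth.Agent.Helper2.GeomConn
import Groth.Agent.Helper5.AssHt
import Groth.Agent.Helper9.RadPrime
import Groth.Agent.Helper4.SpecConn

set_option autoImplicit false
set_option linter.style.haveILetI false

namespace Groth.Agent.Helper2.FFConn

universe u

open TensorProduct IsLocalRing

/-- a domain integral over `A` has reduced "completion" `B ⊗ Â` when the formal fibres of `A` are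
geometrically reduced. -/
theorem isReduced_tensor_cpl (A : Type u) [CommRing A] [IsNoetherianRing A] [IsLocalRing A]
    (h : EGA4.HasGeomReducedFormalFibres A)
    (B : Type u) [CommRing B] [IsDomain B] [Algebra A B] [Algebra.IsIntegral A B] :
    IsReduced (B ⊗[A] EGA4.Cpl A) := by
  let L := FractionRing B
  let p : Ideal A := RingHom.ker (algebraMap A B)
  haveI : p.IsPrime := RingHom.ker_isPrime _
  let κ := p.ResidueField
  have hker : ∀ a : A, algebraMap A L a = 0 ↔ a ∈ p := by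
    intro a
    rw [IsScalarTower.algebraMap_apply A B L, RingHom.mem_ker]
    constructor
    · intro h0
      exact IsFractionRing.injective B L (by rw [h0, map_zero])
    · intro h0
      rw [h0, map_zero]
  have hu : p.primeCompl ≤ (IsUnit.submonoid L).comap (algebraMap A L) := by
    intro a ha
    change IsUnit (algebraMap A L a)
    exact IsUnit.mk0 _ (fun h0 => ha ((hker a).mp h0))
  letI : Algebra κ L :=
    (Ideal.ResidueField.lift p (algebraMap A L) (fun a ha => (hker a).mpr ha) hu).toAlgebra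
  haveI : IsScalarTower A κ L := IsScalarTower.of_algebraMap_eq (fun a => by
    change algebraMap A L a = Ideal.ResidueField.lift _ _ _ _ (algebraMap A κ a)
    rw [Ideal.ResidueField.lift_algebraMap])
  haveI : Algebra.IsAlgebraic κ L := by
    refine ⟨fun x => ?_⟩
    obtain ⟨b, s, hs, rfl⟩ := IsFractionRing.div_surjective (A := B) x
    have hb : ∀ b : B, IsIntegral κ (algebraMap B L b) := by
      intro b
      have h1 : IsIntegral A b := Algebra.IsIntegral.isIntegral b
      have h2 : IsIntegral A (algebraMap B L b) := h1.map (IsScalarTower.toAlgHom A B L)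
      exact h2.tower_top (A := κ)
    rw [div_eq_mul_inv]
    exact ((hb b).mul (hb s).inv).isAlgebraic
  haveI : Algebra.IsGeometricallyReduced κ (κ ⊗[A] EGA4.Cpl A) := h p
  haveI h0 : IsReduced (L ⊗[κ] (κ ⊗[A] EGA4.Cpl A)) := inferInstance
  let e3 : L ⊗[κ] (κ ⊗[A] EGA4.Cpl A) ≃+* L ⊗[A] EGA4.Cpl A :=
    (Algebra.TensorProduct.cancelBaseChange A κ κ L (EGA4.Cpl A)).toRingEquiv
  haveI h1 : IsReduced (L ⊗[A] EGA4.Cpl A) := isReduced_of_injective e3.symm e3.symm.injective
  have hinj : Function.Injective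
      (Algebra.TensorProduct.map (IsScalarTower.toAlgHom A B L) (AlgHom.id A (EGA4.Cpl A))) := by
    have := Module.Flat.rTensor_preserves_injective_linearMap (M := EGA4.Cpl A)
      (IsScalarTower.toAlgHom A B L).toLinearMap (IsFractionRing.injective B L)
    exact this
  exact isReduced_of_injective
    (Algebra.TensorProduct.map (IsScalarTower.toAlgHom A B L) (AlgHom.id A (EGA4.Cpl A))).toRingHom
    hinj

open Groth.Agent.Helper2.GeomConn

theorem idem_of_isLocalRing (F : Type*) [CommRing F] [IsLocalRing F] (f : F)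
    (hf : IsIdempotentElem f) : f = 0 ∨ f = 1 := by
  rcases IsLocalRing.isUnit_or_isUnit_one_sub_self f with hu | hu
  · right
    have h1 : f * f = f * 1 := by rw [mul_one]; exact hf
    exact hu.mul_left_cancel h1
  · left
    have h1 : (1 - f) * f = 0 := by
      have : f * f = f := hf
      rw [sub_mul, one_mul, this, sub_self]
    exact hu.mul_right_eq_zero.mp h1

/-- the generic "formal fibre" of a finite normal domain over a henselian ring is connected -/
theorem trivIdem_fraction (A : Type u) [CommRing A] [IsNoetherianRing A] [HenselianLocalRing A]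
    (h : EGA4.HasGeomReducedFormalFibres A)
    (A' : Type u) [CommRing A'] [IsDomain A'] [IsIntegrallyClosed A'] [Algebra A A']
    [Module.Finite A A'] [IsLocalHom (algebraMap A A')]
    (K' : Type u) [Field K'] [Algebra A' K'] [IsFractionRing A' K'] :
    TrivIdem (K' ⊗[A'] (A' ⊗[A] EGA4.Cpl A)) := by
  classical
  haveI : IsNoetherianRing A' := IsNoetherianRing.of_finite A _
  haveI : IsLocalRing A' :=
    Groth.Agent.Helper2.Unibr1.isLocalRing_of_isIntegral_of_isDomain A _
  have hpi : Groth.Agent.Helper2.SmU1.PIres A (EGA4.Cpl A) := by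
    intro b
    obtain ⟨r, hr⟩ := (AdicCompletion.residueField_map_bijective (R := A)).2 (residue _ b)
    obtain ⟨r, rfl⟩ := residue_surjective r
    refine ⟨0, r, ?_⟩
    rw [pow_zero, pow_one, ← Ideal.Quotient.eq]
    exact hr.symm
  obtain ⟨hloc, -⟩ := Groth.Agent.Helper2.SmU1.main' A A' (EGA4.Cpl A) hpi
  -- Zariski's lemma
  have hZ : ∀ (s : A'), s ≠ 0 → ∀ y : A' ⊗[A] EGA4.Cpl A, y ^ 2 = s • y →
      ∃ f : A' ⊗[A] EGA4.Cpl A, y = s • f := by
    intro s hs y hy
    refine Groth.Agent.Helper2.ZarLem.main A' s (mem_nonZeroDivisors_of_ne_zero hs) _ ?_ y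
      (Or.inr hy)
    intro q hq _
    have hht : q.height = 1 := Groth.Agent.Helper5.AssHt.main A' s hs q hq
    have hq0 : q ≠ ⊥ := by
      rintro rfl
      rw [Ideal.height_bot] at hht
      exact zero_ne_one hht
    refine ⟨⟨inferInstance, Groth.Agent.Helper9.RadPrime.dvr_of_height_le_one q hq0 hht.le⟩, ?_⟩
    haveI : Algebra.IsIntegral A (A' ⧸ q) := Algebra.IsIntegral.of_finite A _
    haveI := isReduced_tensor_cpl A h (A' ⧸ q)
    let e : (A' ⧸ q) ⊗[A'] (A' ⊗[A] EGA4.Cpl A) ≃ₐ[A'] (A' ⧸ q) ⊗[A] EGA4.Cpl A :=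
      Algebra.TensorProduct.cancelBaseChange A A' A' (A' ⧸ q) (EGA4.Cpl A)
    exact isReduced_of_injective e.toAlgHom.toRingHom e.injective
  have hreg : ∀ c : nonZeroDivisors A', ∀ z : A' ⊗[A] EGA4.Cpl A, (c : A') • z = 0 → z = 0 := by
    intro c z hz
    have hr : IsSMulRegular (A' ⊗[A] EGA4.Cpl A) (c : A') :=
      Module.Flat.isSMulRegular_of_nonZeroDivisors (M := A' ⊗[A] EGA4.Cpl A) c.2
    apply hr
    change (c : A') • z = (c : A') • (0 : A' ⊗[A] EGA4.Cpl A)
    rw [smul_zero]; exact hz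
  have hinj : ∀ z₁ z₂ : A' ⊗[A] EGA4.Cpl A, (1 : K') ⊗ₜ[A'] z₁ = (1 : K') ⊗ₜ[A'] z₂ → z₁ = z₂ := by
    intro z₁ z₂ hz
    obtain ⟨c, hc⟩ := IsLocalizedModule.exists_of_eq (S := nonZeroDivisors A')
      (f := TensorProduct.mk A' K' (A' ⊗[A] EGA4.Cpl A) 1) hz
    have := hreg c (z₁ - z₂) (by rw [smul_sub]; exact sub_eq_zero.mpr hc)
    exact sub_eq_zero.mp this
  have hone : (1 : K' ⊗[A'] (A' ⊗[A] EGA4.Cpl A)) = (1 : K') ⊗ₜ[A'] (1 : A' ⊗[A] EGA4.Cpl A) :=
    Algebra.TensorProduct.one_def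
  have hzero : (0 : K' ⊗[A'] (A' ⊗[A] EGA4.Cpl A)) = (1 : K') ⊗ₜ[A'] (0 : A' ⊗[A] EGA4.Cpl A) :=
    (TensorProduct.tmul_zero _ _).symm
  refine ⟨⟨⟨0, 1, fun h01 => ?_⟩⟩, fun e he => ?_⟩
  · rw [hone, hzero] at h01
    exact zero_ne_one (hinj _ _ h01)
  obtain ⟨⟨y, s⟩, hys⟩ := IsLocalizedModule.surj (nonZeroDivisors A')
    (TensorProduct.mk A' K' (A' ⊗[A] EGA4.Cpl A) 1) e
  have hys' : (s : A') • e = (1 : K') ⊗ₜ[A'] y := hys
  have hs0 : (s : A') ≠ 0 := nonZeroDivisors.ne_zero s.2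
  have hy2 : y ^ 2 = (s : A') • y := by
    apply hinj
    have h1 : ((1 : K') ⊗ₜ[A'] y : K' ⊗[A'] (A' ⊗[A] EGA4.Cpl A)) ^ 2 = (1 : K') ⊗ₜ[A'] (y ^ 2) := by
      rw [Algebra.TensorProduct.tmul_pow, one_pow]
    rw [← h1, ← hys', TensorProduct.tmul_smul, ← hys', smul_pow, pow_two, pow_two, he.eq, mul_smul]
  obtain ⟨f, hf⟩ := hZ s hs0 y hy2
  have hef : e = (1 : K') ⊗ₜ[A'] f := by
    have h1 : (s : A') • e = (s : A') • ((1 : K') ⊗ₜ[A'] f) := by
      rw [hys', hf, TensorProduct.tmul_smul]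
    exact (IsLocalizedModule.smul_inj (TensorProduct.mk A' K' (A' ⊗[A] EGA4.Cpl A) 1) s _ _).mp h1
  have hfi : IsIdempotentElem f := by
    apply hinj
    have h1 : ((1 : K') ⊗ₜ[A'] f : K' ⊗[A'] (A' ⊗[A] EGA4.Cpl A)) *
        ((1 : K') ⊗ₜ[A'] f) = (1 : K') ⊗ₜ[A'] (f * f) := by
      rw [Algebra.TensorProduct.tmul_mul_tmul, one_mul]
    rw [← h1, ← hef]
    exact he
  rcases idem_of_isLocalRing _ f hfi with h0 | h1
  · left; rw [hef, h0, TensorProduct.tmul_zero]
  · right; rw [hef, h1, hone]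

/-- S2816 -/
theorem s2816 (A : Type u) [CommRing A] [IsNoetherianRing A] [HenselianLocalRing A]
    (h : EGA4.HasGeomReducedFormalFibres A) (K : Type u) [Field K] [Algebra A K] :
    ConnectedSpace (PrimeSpectrum (K ⊗[A] EGA4.Cpl A)) := by
  classical
  let p : Ideal A := RingHom.ker (algebraMap A K)
  haveI : p.IsPrime := RingHom.ker_isPrime _
  let κ := p.ResidueField
  have hu : p.primeCompl ≤ (IsUnit.submonoid K).comap (algebraMap A K) := by
    intro a ha
    change IsUnit (algebraMap A K a)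
    exact IsUnit.mk0 _ (fun h0 => ha h0)
  letI : Algebra κ K :=
    (Ideal.ResidueField.lift p (algebraMap A K) le_rfl hu).toAlgebra
  haveI : IsScalarTower A κ K := IsScalarTower.of_algebraMap_eq (fun a => by
    change algebraMap A K a = Ideal.ResidueField.lift _ _ _ _ (algebraMap A κ a)
    rw [Ideal.ResidueField.lift_algebraMap])
  have hNag : CAlg.IsNagata A := Groth.Agent.Helper2.AnUnr6.s2657 A h
  have hN2 : CAlg.IsN2 (A ⧸ p) := hNag.2 p
  have hclaim : ∀ (κ' : Type u) [Field κ'] [Algebra κ κ'], FiniteDimensional κ κ' →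
      TrivIdem (κ' ⊗[κ] (κ ⊗[A] EGA4.Cpl A)) := by
    intro κ' _ _ hfin
    letI : Algebra (A ⧸ p) κ' := ((algebraMap κ κ').comp (algebraMap (A ⧸ p) κ)).toAlgebra
    haveI : IsScalarTower (A ⧸ p) κ κ' := IsScalarTower.of_algebraMap_eq (fun _ => rfl)
    letI : Algebra A κ' := ((algebraMap κ κ').comp (algebraMap A κ)).toAlgebra
    haveI : IsScalarTower A κ κ' := IsScalarTower.of_algebraMap_eq (fun _ => rfl)
    haveI : IsScalarTower A (A ⧸ p) κ' := IsScalarTower.of_algebraMap_eq (fun a => by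
      change algebraMap κ κ' (algebraMap A κ a) = algebraMap κ κ' (algebraMap (A ⧸ p) κ _)
      rw [← IsScalarTower.algebraMap_apply A (A ⧸ p) κ])
    haveI hfin' : Module.Finite (A ⧸ p) (integralClosure (A ⧸ p) κ') :=
      Groth.Agent.Helper4.Japanese.IsN2.finite hN2 κ κ'
    haveI : IsIntegrallyClosed (integralClosure (A ⧸ p) κ') :=
      integralClosure.isIntegrallyClosedOfFiniteExtension κ
    haveI : IsFractionRing (integralClosure (A ⧸ p) κ') κ' :=
      integralClosure.isFractionRing_of_finite_extension κ κ'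
    haveI : IsScalarTower A (A ⧸ p) (integralClosure (A ⧸ p) κ') :=
      IsScalarTower.of_algebraMap_eq (fun a => rfl)
    haveI : Module.Finite A (integralClosure (A ⧸ p) κ') :=
      Module.Finite.trans (A ⧸ p) _
    haveI : IsLocalHom (algebraMap A (integralClosure (A ⧸ p) κ')) := by
      rw [IsScalarTower.algebraMap_eq A (A ⧸ p) (integralClosure (A ⧸ p) κ')]
      haveI : IsLocalHom (algebraMap A (A ⧸ p)) :=
        IsLocalHom.of_surjective _ Ideal.Quotient.mk_surjective
      haveI : IsLocalRing (integralClosure (A ⧸ p) κ') :=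
        Groth.Agent.Helper2.Unibr1.isLocalRing_of_isIntegral_of_isDomain A _
      haveI : FaithfulSMul (A ⧸ p) (integralClosure (A ⧸ p) κ') := by
        rw [faithfulSMul_iff_algebraMap_injective]
        intro a b hab
        have h1 := congrArg (integralClosure (A ⧸ p) κ').val hab
        have h2 : algebraMap (A ⧸ p) κ' a = algebraMap (A ⧸ p) κ' b := h1
        rw [IsScalarTower.algebraMap_apply (A ⧸ p) κ κ',
          IsScalarTower.algebraMap_apply (A ⧸ p) κ κ'] at h2
        exact IsFractionRing.injective (A ⧸ p) κ ((algebraMap κ κ').injective h2)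
      haveI : IsLocalHom (algebraMap (A ⧸ p) (integralClosure (A ⧸ p) κ')) :=
        Algebra.IsIntegral.isLocalHom _ _
      exact RingHom.isLocalHom_comp _ _
    have h1 := trivIdem_fraction A h (integralClosure (A ⧸ p) κ') κ'
    let e₁ : κ' ⊗[integralClosure (A ⧸ p) κ'] (integralClosure (A ⧸ p) κ' ⊗[A] EGA4.Cpl A) ≃+*
        κ' ⊗[A] EGA4.Cpl A :=
      (Algebra.TensorProduct.cancelBaseChange A (integralClosure (A ⧸ p) κ')
        (integralClosure (A ⧸ p) κ') κ' (EGA4.Cpl A)).toRingEquiv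
    let e₂ : κ' ⊗[κ] (κ ⊗[A] EGA4.Cpl A) ≃+* κ' ⊗[A] EGA4.Cpl A :=
      (Algebra.TensorProduct.cancelBaseChange A κ κ κ' (EGA4.Cpl A)).toRingEquiv
    exact trivIdem_of_ringEquiv (e₁.trans e₂.symm) h1
  have h2 := Groth.Agent.Helper2.GeomConn.main κ (κ ⊗[A] EGA4.Cpl A) hclaim K
  let e₃ : K ⊗[κ] (κ ⊗[A] EGA4.Cpl A) ≃+* K ⊗[A] EGA4.Cpl A :=
    (Algebra.TensorProduct.cancelBaseChange A κ κ K (EGA4.Cpl A)).toRingEquiv
  have h3 := trivIdem_of_ringEquiv e₃ h2
  exact Groth.Agent.Helper4.SpecConn.connectedSpace_iff.mpr h3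

end Groth.Agent.Helper2.FFConn
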