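import Mathlib
import Groth.Prelude.Def_HopfRep

set_option autoImplicit false
universe u v w
open TensorProduct

namespace Groth.Agent.Helper2.ComodGen

variable {R : Type u} [CommRing R] {C : Type v} [AddCommGroup C] [Module R C] [Coalgebra R C]
variable {V : Type w} [AddCommGroup V] [Module R V] [HopfRep.Comod R C V]

local notation "ρ" => (HopfRep.Comod.coact (k := R) (A := C) (V := V))

/-- convolution of functionals -/
noncomputable def cv (θ ψ : C →ₗ[R] R) : C →ₗ[R] R :=
  LinearMap.mul' R R ∘ₗ TensorProduct.map θ ψ ∘ₗ (Coalgebra.comul (R := R) (A := C))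

/-- right hit: `u ↦ Σ u₀ θ(u₁)`. -/
noncomputable def RopV (θ : C →ₗ[R] R) : V →ₗ[R] V :=
  (TensorProduct.rid R V).toLinearMap ∘ₗ θ.lTensor V ∘ₗ ρ

lemma RopV_counit (u : V) : RopV (V := V) (Coalgebra.counit (R := R) (A := C)) u = u := by
  have := LinearMap.congr_fun (HopfRep.Comod.counit_comp (k := R) (A := C) (V := V)) u
  simp only [LinearMap.comp_apply] at this
  simp only [RopV, LinearMap.comp_apply, LinearEquiv.coe_coe]
  rw [this]
  simp

lemma RopV_RopV (θ ψ : C →ₗ[R] R) (u : V) : RopV θ (RopV ψ u) = RopV (cv θ ψ) u := by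
  let Ψ3 : (V ⊗[R] C) ⊗[R] C →ₗ[R] V :=
    (TensorProduct.rid R V).toLinearMap ∘ₗ ψ.lTensor V ∘ₗ
      ((TensorProduct.rid R V).toLinearMap ∘ₗ θ.lTensor V).rTensor C
  let Ψ4 : V ⊗[R] (C ⊗[R] C) →ₗ[R] V :=
    (TensorProduct.rid R V).toLinearMap ∘ₗ
      (LinearMap.mul' R R ∘ₗ TensorProduct.map θ ψ).lTensor V
  have h1 : RopV θ ∘ₗ (TensorProduct.rid R V).toLinearMap ∘ₗ ψ.lTensor V =
      Ψ3 ∘ₗ (ρ).rTensor C := by
    ext a1 a2
    simp [Ψ3, RopV]
  have h3 : Ψ3 = Ψ4 ∘ₗ (TensorProduct.assoc R V C C).toLinearMap := by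
    ext b c d
    simp [Ψ3, Ψ4, smul_smul, mul_comm]
  have hco := LinearMap.congr_fun (HopfRep.Comod.coassoc (k := R) (A := C) (V := V)) u
  simp only [LinearMap.comp_apply, LinearEquiv.coe_coe] at hco
  calc RopV θ (RopV ψ u)
      = (RopV θ ∘ₗ (TensorProduct.rid R V).toLinearMap ∘ₗ ψ.lTensor V) (ρ u) := rfl
    _ = Ψ3 ((ρ).rTensor C (ρ u)) := by rw [h1]; rfl
    _ = Ψ4 ((Coalgebra.comul (R := R) (A := C)).lTensor V (ρ u)) := by
        rw [h3, ← hco]; rfl
    _ = RopV (cv θ ψ) u := by
        simp only [Ψ4, RopV, cv, LinearMap.comp_apply, LinearMap.lTensor_comp]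

/-- dual-basis expansion of a tensor over a projective module -/
lemma exists_repr [Module.Projective R C] (t : V ⊗[R] C) :
    ∃ f : C →₀ V, (∀ x, ∃ θ : C →ₗ[R] R, f x = (TensorProduct.rid R V) (θ.lTensor V t)) ∧
      t = f.sum (fun x u => u ⊗ₜ[R] x) := by
  classical
  obtain ⟨s, hs⟩ := Module.projective_def'.1 (inferInstance : Module.Projective R C)
  let F : V ⊗[R] C →ₗ[R] (C →₀ V) :=
    (TensorProduct.finsuppScalarRight R R V C).toLinearMap ∘ₗ s.lTensor V
  let G : (C →₀ V) →ₗ[R] V ⊗[R] C := Finsupp.lsum R (fun x => (TensorProduct.mk R V C).flip x)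
  have hGF : G ∘ₗ F = LinearMap.id := by
    ext u c
    simp only [F, G, LinearMap.comp_apply, LinearMap.lTensor_tmul, LinearEquiv.coe_coe,
      TensorProduct.AlgebraTensorModule.curry_apply, TensorProduct.curry_apply,
      LinearMap.coe_restrictScalars, LinearMap.id_apply]
    rw [TensorProduct.finsuppScalarRight_apply_tmul, map_finsuppSum]
    simp only [Finsupp.lsum_single, LinearMap.flip_apply, TensorProduct.mk_apply]
    have hc : c = Finsupp.linearCombination R id (s c) := by
      have := LinearMap.congr_fun hs c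
      simpa using this.symm
    conv_rhs => rw [hc]
    rw [Finsupp.linearCombination_apply, Finsupp.sum, Finsupp.sum, TensorProduct.tmul_sum]
    refine Finset.sum_congr rfl fun x _ => ?_
    simp [TensorProduct.smul_tmul]
  refine ⟨F t, fun x => ⟨Finsupp.lapply x ∘ₗ s, ?_⟩, ?_⟩
  · simp only [F, LinearMap.comp_apply, LinearEquiv.coe_coe]
    rw [TensorProduct.finsuppScalarRight_apply, LinearMap.lTensor_comp]
    rfl
  · have := LinearMap.congr_fun hGF t
    simp only [LinearMap.comp_apply, LinearMap.id_apply] at this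
    conv_lhs => rw [← this]
    simp only [G, Finsupp.lsum_apply]
    rfl

/-- right-slice criterion over a projective coalgebra -/
lemma mem_range_rTensor_of_slices [Module.Projective R C] (W : Submodule R V) (t : V ⊗[R] C)
    (h : ∀ θ : C →ₗ[R] R, (TensorProduct.rid R V) (θ.lTensor V t) ∈ W) :
    t ∈ LinearMap.range (W.subtype.rTensor C) := by
  obtain ⟨f, hf, ht⟩ := exists_repr t
  have hF : ∀ x, f x ∈ W := by
    intro x
    obtain ⟨θ, hθ⟩ := hf x
    rw [hθ]; exact h θ
  rw [ht]
  simp only [Finsupp.sum]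
  refine Submodule.sum_mem _ fun x _ => ?_
  exact ⟨(⟨f x, hF x⟩ : W) ⊗ₜ x, by simp⟩

lemma RopV_mem_of_isSubcomod {W : Submodule R V} (hW : HopfRep.IsSubcomod (k := R) (A := C) W)
    (θ : C →ₗ[R] R) {w : V} (hw : w ∈ W) : RopV θ w ∈ W := by
  obtain ⟨t, ht⟩ := hW w hw
  have key : (TensorProduct.rid R V).toLinearMap ∘ₗ θ.lTensor V ∘ₗ W.subtype.rTensor C =
      W.subtype ∘ₗ (TensorProduct.rid R W).toLinearMap ∘ₗ θ.lTensor W := by
    ext a b
    simp
  have : RopV θ w = ((TensorProduct.rid R V).toLinearMap ∘ₗ θ.lTensor V ∘ₗ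
      W.subtype.rTensor C) t := by
    simp only [RopV, LinearMap.comp_apply, ht]
  rw [this, key]
  exact Submodule.coe_mem _

/-- the subcomodule generated by a submodule -/
noncomputable def gen (M : Submodule R V) : Submodule R V :=
  Submodule.span R {y | ∃ θ : C →ₗ[R] R, ∃ m ∈ M, y = RopV θ m}

lemma le_gen (M : Submodule R V) : M ≤ gen (C := C) M := by
  intro m hm
  exact Submodule.subset_span ⟨Coalgebra.counit, m, hm, (RopV_counit m).symm⟩

lemma RopV_mem_gen (M : Submodule R V) (θ : C →ₗ[R] R) {w : V} (hw : w ∈ gen (C := C) M) :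
    RopV θ w ∈ gen (C := C) M := by
  have : gen (C := C) M ≤ (gen (C := C) M).comap (RopV θ) := by
    refine Submodule.span_le.2 ?_
    rintro _ ⟨ψ, m, hm, rfl⟩
    show RopV θ (RopV ψ m) ∈ gen M
    rw [RopV_RopV]
    exact Submodule.subset_span ⟨_, m, hm, rfl⟩
  exact this hw

lemma isSubcomod_gen [Module.Projective R C] (M : Submodule R V) :
    HopfRep.IsSubcomod (k := R) (A := C) (gen (C := C) M) := by
  intro w hw
  apply mem_range_rTensor_of_slices
  intro θ
  exact RopV_mem_gen M θ hw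

lemma gen_le {M W : Submodule R V} (hW : HopfRep.IsSubcomod (k := R) (A := C) W) (hMW : M ≤ W) :
    gen (C := C) M ≤ W := by
  refine Submodule.span_le.2 ?_
  rintro _ ⟨θ, m, hm, rfl⟩
  exact RopV_mem_of_isSubcomod hW θ (hMW hm)

lemma gen_fg [Module.Projective R C] {M : Submodule R V} (hM : M.FG) :
    (gen (C := C) M).FG := by
  classical
  obtain ⟨S0, hS0⟩ := hM
  choose f hf ht using fun m : V => exists_repr (R := R) (C := C) (ρ m)
  let T : Finset V := S0.biUnion fun m => (f m).support.image (fun x => f m x)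
  have hT : Submodule.span R (T : Set V) = gen (C := C) M := by
    apply le_antisymm
    · refine Submodule.span_le.2 ?_
      intro y hy
      simp only [T, Finset.coe_biUnion, Finset.coe_image, Set.mem_iUnion, Set.mem_image,
        Finset.mem_coe] at hy
      obtain ⟨m, hm, x, _, rfl⟩ := hy
      obtain ⟨θ, hθ⟩ := hf m x
      rw [hθ]
      refine Submodule.subset_span ⟨θ, m, ?_, rfl⟩
      rw [← hS0]; exact Submodule.subset_span hm
    · refine Submodule.span_le.2 ?_
      rintro _ ⟨θ, m, hm, rfl⟩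
      have : M ≤ (Submodule.span R (T : Set V)).comap (RopV θ) := by
        rw [← hS0]
        refine Submodule.span_le.2 ?_
        intro m' hm'
        show RopV θ m' ∈ Submodule.span R (T : Set V)
        have h1 : RopV θ m' = (f m').sum (fun x u => θ x • u) := by
          simp only [RopV, LinearMap.comp_apply, LinearEquiv.coe_coe]
          conv_lhs => rw [ht m']
          simp [Finsupp.sum, map_sum]
        rw [h1]
        refine Submodule.sum_mem _ fun x hx => Submodule.smul_mem _ _ (Submodule.subset_span ?_)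
        simp only [T, Finset.coe_biUnion, Finset.coe_image, Set.mem_iUnion, Set.mem_image,
          Finset.mem_coe]
        exact ⟨m', hm', x, hx, rfl⟩
      exact this hm
  exact ⟨T, hT⟩

end Groth.Agent.Helper2.ComodGen
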