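import Mathlib
import Groth.Agent.Helper2.ComodGen

set_option autoImplicit false
universe u v
open TensorProduct Groth.Agent.Helper2.ComodGen

namespace Groth.Agent.Helper2.CocommTrig

section Cocomm
variable {k : Type u} [CommRing k] {C : Type v} [AddCommGroup C] [Module k C] [Coalgebra k C]
  [Coalgebra.IsCocomm k C]
variable {V : Type v} [AddCommGroup V] [Module k V] [HopfRep.Comod k C V]

lemma cv_comm (θ ψ : C →ₗ[k] k) : cv θ ψ = cv ψ θ := by
  have h := Coalgebra.comm_comp_comul k C
  have key : LinearMap.mul' k k ∘ₗ TensorProduct.map θ ψ =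
      LinearMap.mul' k k ∘ₗ TensorProduct.map ψ θ ∘ₗ (TensorProduct.comm k C C).toLinearMap := by
    ext a b
    simp [mul_comm]
  unfold cv
  rw [← LinearMap.comp_assoc, key, LinearMap.comp_assoc, LinearMap.comp_assoc]
  congr 2

lemma RopV_comm (θ ψ : C →ₗ[k] k) (v : V) : RopV θ (RopV ψ v) = RopV ψ (RopV θ v) := by
  rw [RopV_RopV, RopV_RopV, cv_comm]

end Cocomm

section Sub
variable {k : Type u} [CommRing k] {C : Type v} [AddCommGroup C] [Module k C] [Coalgebra k C]
  [Module.Projective k C]
variable {V : Type v} [AddCommGroup V] [Module k V] [HopfRep.Comod k C V]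

lemma isSubcomod_of_RopV_stable (W : Submodule k V) (h : ∀ (θ : C →ₗ[k] k), ∀ w ∈ W, RopV θ w ∈ W) :
    HopfRep.IsSubcomod (k := k) (A := C) W := by
  intro w hw
  apply mem_range_rTensor_of_slices (C := C)
  intro θ
  exact h θ w hw

end Sub

end Groth.Agent.Helper2.CocommTrig
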