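import Mathlib
import Groth.Prelude.Def_ComodSub
import Groth.Prelude.Def_ComodSub

set_option autoImplicit false
universe u v
open TensorProduct

namespace Groth.Agent.Helper2.UnipPoints

variable {k : Type u} {A : Type v} [Field k] [CommRing A] [HopfAlgebra k A]

lemma isSubcomod_fixedPts (V : Type v) [AddCommGroup V] [Module k V] [HopfRep.Comod k A V] :
    HopfRep.IsSubcomod (k := k) (A := A) (HopfRep.fixedPts k A V) := by
  intro w hw
  have h1 : HopfRep.Comod.coact (k := k) (A := A) w = w ⊗ₜ[k] (1 : A) := hw
  rw [h1]
  exact ⟨(⟨w, hw⟩ : HopfRep.fixedPts k A V) ⊗ₜ (1 : A), by simp⟩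

lemma act_fixed (V : Type v) [AddCommGroup V] [Module k V] [HopfRep.Comod k A V]
    (g : A →ₐ[k] k) {w : V} (hw : w ∈ HopfRep.fixedPts k A V) :
    HopfRep.Comod.act k A V g w = w := by
  have h1 : HopfRep.Comod.coact (k := k) (A := A) w = w ⊗ₜ[k] (1 : A) := hw
  simp [HopfRep.Comod.act, h1]

lemma nilp_aux (hU : HopfRep.IsUnipotent k A) (g : A →ₐ[k] k) (n : ℕ) :
    ∀ (V : Type v) [AddCommGroup V] [Module k V] [Module.Finite k V] [HopfRep.Comod k A V],
      Module.finrank k V = n → IsNilpotent (HopfRep.Comod.act k A V g - 1) := by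
  induction n using Nat.strong_induction_on with
  | _ n ih =>
    intro V _ _ _ c hn
    by_cases hV : Subsingleton V
    · refine ⟨1, ?_⟩
      ext v
      exact Subsingleton.elim _ _
    · rw [not_subsingleton_iff_nontrivial] at hV
      have hW := hU V inferInstance hV
      set W := HopfRep.fixedPts k A V with hWdef
      have hsub : HopfRep.IsSubcomod (k := k) (A := A) W := isSubcomod_fixedPts V
      letI cq : HopfRep.Comod k A (V ⧸ W) := ComodSub.Comod.quot c W hsub
      have hlt : Module.finrank k (V ⧸ W) < n := by
        have h1 := Submodule.finrank_quotient_add_finrank W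
        have h2 : 0 < Module.finrank k W := by
          rw [Module.finrank_pos_iff]
          exact (Submodule.nontrivial_iff_ne_bot).2 hW
        omega
      obtain ⟨m, hm⟩ := ih _ hlt (V ⧸ W) rfl
      -- compatibility
      have hcompat : ∀ v : V, HopfRep.Comod.act k A (V ⧸ W) g (W.mkQ v) =
          W.mkQ (HopfRep.Comod.act k A V g v) := by
        intro v
        have key : (TensorProduct.rid k (V ⧸ W)).toLinearMap ∘ₗ
            LinearMap.lTensor (V ⧸ W) g.toLinearMap ∘ₗ W.mkQ.rTensor A =
            W.mkQ ∘ₗ (TensorProduct.rid k V).toLinearMap ∘ₗ LinearMap.lTensor V g.toLinearMap := by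
          ext a b
          simp
        have := LinearMap.congr_fun key (HopfRep.Comod.coact (k := k) (A := A) v)
        simp only [LinearMap.comp_apply, LinearEquiv.coe_coe] at this
        simp only [HopfRep.Comod.act, LinearMap.comp_apply, LinearEquiv.coe_coe]
        rw [← this]
        rfl
      set N : Module.End k V := HopfRep.Comod.act k A V g - 1 with hN
      set Nq : Module.End k (V ⧸ W) := HopfRep.Comod.act k A (V ⧸ W) g - 1 with hNq
      have hNcompat : ∀ v : V, Nq (W.mkQ v) = W.mkQ (N v) := by
        intro v
        simp only [hN, hNq, LinearMap.sub_apply, Module.End.one_apply, hcompat, map_sub]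
      have hpow : ∀ (j : ℕ) (v : V), (Nq ^ j) (W.mkQ v) = W.mkQ ((N ^ j) v) := by
        intro j
        induction j with
        | zero => intro v; simp
        | succ j ihj =>
          intro v
          rw [pow_succ', pow_succ', Module.End.mul_apply, Module.End.mul_apply, ihj, hNcompat]
      refine ⟨m + 1, ?_⟩
      ext v
      rw [pow_succ', Module.End.mul_apply, LinearMap.zero_apply]
      have h1 : (N ^ m) v ∈ W := by
        have := hpow m v
        rw [hm, LinearMap.zero_apply] at this
        rw [← Submodule.Quotient.mk_eq_zero, ← Submodule.mkQ_apply]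
        exact this.symm
      simp only [hN, LinearMap.sub_apply, Module.End.one_apply]
      rw [act_fixed V g h1, sub_self]

end Groth.Agent.Helper2.UnipPoints
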