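import Mathlib
import Groth.Prelude.Def_ComodSub
import Groth.Agent.Helper2.UnipPoints
import Groth.Prelude.Def_ComodSub
import Groth.Agent.Helper2.ComodGen
import Groth.Agent.Helper2.UnipPoints

set_option autoImplicit false
universe u v
open TensorProduct Groth.Agent.Helper2.ComodGen Groth.Agent.Helper2.UnipPoints

namespace Groth.Agent.Helper2.UnipFlag

section Lin
variable {k : Type u} [CommRing k] {A : Type v} [AddCommGroup A] [Module k A]
variable {V Q : Type v} [AddCommGroup V] [Module k V] [AddCommGroup Q] [Module k Q]

/-- slices of an element of `U ⊗ A` lie in `U` -/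
lemma slice_mem_of_mem_range (U : Submodule k Q) (θ : A →ₗ[k] k) {t : Q ⊗[k] A}
    (ht : t ∈ LinearMap.range (U.subtype.rTensor A)) :
    (TensorProduct.rid k Q) (θ.lTensor Q t) ∈ U := by
  obtain ⟨s, rfl⟩ := ht
  have key : (TensorProduct.rid k Q).toLinearMap ∘ₗ θ.lTensor Q ∘ₗ U.subtype.rTensor A =
      U.subtype ∘ₗ (TensorProduct.rid k U).toLinearMap ∘ₗ θ.lTensor U := by
    ext a b
    simp
  have := LinearMap.congr_fun key s
  simp only [LinearMap.comp_apply, LinearEquiv.coe_coe] at this
  rw [this]
  exact Submodule.coe_mem _

end Lin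

section Pre
variable {k : Type u} [CommRing k] {A : Type v} [AddCommGroup A] [Module k A] [Coalgebra k A]
variable {V Q : Type v} [AddCommGroup V] [Module k V] [HopfRep.Comod k A V]
  [AddCommGroup Q] [Module k Q]

/-- preimage lemma -/
lemma mem_range_comap [Module.Projective k A] (π : V →ₗ[k] Q) (U : Submodule k Q) (t : V ⊗[k] A)
    (ht : π.rTensor A t ∈ LinearMap.range (U.subtype.rTensor A)) :
    t ∈ LinearMap.range ((U.comap π).subtype.rTensor A) := by
  apply mem_range_rTensor_of_slices (C := A)
  intro θ
  show π ((TensorProduct.rid k V) (θ.lTensor V t)) ∈ U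
  have key : π ∘ₗ (TensorProduct.rid k V).toLinearMap ∘ₗ θ.lTensor V =
      (TensorProduct.rid k Q).toLinearMap ∘ₗ θ.lTensor Q ∘ₗ π.rTensor A := by
    ext a b
    simp
  have := LinearMap.congr_fun key t
  simp only [LinearMap.comp_apply, LinearEquiv.coe_coe] at this
  rw [this]
  exact slice_mem_of_mem_range U θ ht

end Pre

variable {k : Type u} {A : Type v} [Field k] [CommRing A] [HopfAlgebra k A]

/-- the flag property -/
def HasFlag (V : Type v) [AddCommGroup V] [Module k V] [HopfRep.Comod k A V] : Prop :=
  ∃ (m : ℕ) (F : ℕ → Submodule k V), Monotone F ∧ F 0 = ⊥ ∧ F m = ⊤ ∧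
    (∀ i, HopfRep.IsSubcomod (k := k) (A := A) (F i)) ∧
    ∀ i, ∀ v ∈ F (i + 1),
      HopfRep.Comod.coact (k := k) (A := A) v - v ⊗ₜ[k] (1 : A) ∈
        LinearMap.range ((F i).subtype.rTensor A)

lemma flag_aux (hU : HopfRep.IsUnipotent k A) (n : ℕ) :
    ∀ (V : Type v) [AddCommGroup V] [Module k V] [Module.Finite k V] [HopfRep.Comod k A V],
      Module.finrank k V = n → HasFlag (k := k) (A := A) V := by
  induction n using Nat.strong_induction_on with
  | _ n ih =>
    intro V _ _ _ c hn
    by_cases hV : Subsingleton V
    · refine ⟨0, fun _ => ⊤, monotone_const, Subsingleton.elim _ _, rfl, ?_, ?_⟩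
      · intro i v _
        exact ⟨0, by rw [map_zero]; exact Subsingleton.elim _ _⟩
      · intro i v _
        have hv : v = 0 := Subsingleton.elim _ _
        rw [hv, map_zero, TensorProduct.zero_tmul, sub_zero]
        exact Submodule.zero_mem _
    · rw [not_subsingleton_iff_nontrivial] at hV
      have hW := hU V inferInstance hV
      set W := HopfRep.fixedPts k A V with hWdef
      have hsub : HopfRep.IsSubcomod (k := k) (A := A) W := isSubcomod_fixedPts V
      letI cq : HopfRep.Comod k A (V ⧸ W) := ComodSub.Comod.quot c W hsub
      have hlt : Module.finrank k (V ⧸ W) < n := by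
        have h1 := Submodule.finrank_quotient_add_finrank W
        have h2 : 0 < Module.finrank k W := by
          rw [Module.finrank_pos_iff]
          exact (Submodule.nontrivial_iff_ne_bot).2 hW
        omega
      obtain ⟨m, F', hmono, hF0, hFm, hFsub, hFgr⟩ := ih _ hlt (V ⧸ W) rfl
      have hq : ∀ v : V, HopfRep.Comod.coact (k := k) (A := A) (W.mkQ v) =
          W.mkQ.rTensor A (HopfRep.Comod.coact (k := k) (A := A) v) := fun v => rfl
      let F : ℕ → Submodule k V := fun i => Nat.casesOn i ⊥ (fun j => (F' j).comap W.mkQ)
      have hF1 : F 1 = W := by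
        show (F' 0).comap W.mkQ = W
        rw [hF0]
        exact Submodule.ker_mkQ W
      refine ⟨m + 1, F, ?_, rfl, ?_, ?_, ?_⟩
      · apply monotone_nat_of_le_succ
        intro i
        cases i with
        | zero => exact bot_le
        | succ j => exact Submodule.comap_mono (hmono (Nat.le_succ j))
      · show (F' m).comap W.mkQ = ⊤
        rw [hFm]; rfl
      · intro i
        cases i with
        | zero =>
          intro v hv
          have : v = 0 := hv
          rw [this, map_zero]; exact Submodule.zero_mem _
        | succ j =>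
          intro v hv
          apply mem_range_comap
          rw [← hq]
          exact hFsub j _ hv
      · intro i v hv
        cases i with
        | zero =>
          have hv' : v ∈ W := by rw [← hF1]; exact hv
          have h1 : HopfRep.Comod.coact (k := k) (A := A) v = v ⊗ₜ[k] (1 : A) := hv'
          rw [h1, sub_self]; exact Submodule.zero_mem _
        | succ j =>
          apply mem_range_comap
          have := hFgr j (W.mkQ v) hv
          rw [hq] at this
          rw [map_sub, LinearMap.rTensor_tmul]
          exact this

end Groth.Agent.Helper2.UnipFlag
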