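import Mathlib
import Groth.Prelude.Def_HopfRep
import Groth.Prelude.Def_ComodSub
import Groth.Agent.Helper2.ComodGen
import Groth.Agent.Helper2.UnipFlag
import Groth.Agent.Helper3.Comod

set_option autoImplicit false
universe u v w
open TensorProduct

namespace Groth.Agent.Helper2.SocleFilt

open Groth.Agent.Helper2.ComodGen Groth.Agent.Helper2.UnipFlag

section defs

variable (R : Type u) [CommRing R] (A : Type v) [Ring A] [Bialgebra R A]
variable (V : Type w) [AddCommGroup V] [Module R V] [HopfRep.Comod R A V]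

/-- the reduced coaction `v ↦ ρ(v) - v ⊗ 1` -/
noncomputable def redCoact : V →ₗ[R] V ⊗[R] A :=
  HopfRep.Comod.coact (k := R) (A := A) - (TensorProduct.mk R V A).flip 1

lemma redCoact_apply (v : V) :
    redCoact R A V v = HopfRep.Comod.coact (k := R) (A := A) v - v ⊗ₜ[R] (1 : A) := rfl

/-- the socle (Loewy) filtration of a comodule over a bialgebra, relative to the trivial comodule -/
noncomputable def Z : ℕ → Submodule R V
  | 0 => ⊥
  | (r + 1) => Submodule.comap (redCoact R A V) (LinearMap.range ((Z r).subtype.rTensor A))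

lemma Z_zero : Z R A V 0 = ⊥ := rfl

lemma mem_Z_succ (r : ℕ) (v : V) :
    v ∈ Z R A V (r + 1) ↔ redCoact R A V v ∈ LinearMap.range ((Z R A V r).subtype.rTensor A) :=
  Iff.rfl

variable {R A V}

lemma range_rTensor_mono {U U' : Submodule R V} (h : U ≤ U') :
    LinearMap.range (U.subtype.rTensor A) ≤ LinearMap.range (U'.subtype.rTensor A) := by
  rintro _ ⟨t, rfl⟩
  refine ⟨(Submodule.inclusion h).rTensor A t, ?_⟩
  rw [← LinearMap.comp_apply, ← LinearMap.rTensor_comp]
  rfl

variable (R A V)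

lemma Z_le_succ (r : ℕ) : Z R A V r ≤ Z R A V (r + 1) := by
  induction r with
  | zero => rw [Z_zero]; exact bot_le
  | succ r ih =>
    intro v hv
    rw [mem_Z_succ] at hv ⊢
    exact range_rTensor_mono ih hv

lemma Z_mono : Monotone (Z R A V) := monotone_nat_of_le_succ (Z_le_succ R A V)

lemma mem_Z_one (v : V) : v ∈ Z R A V 1 ↔ v ∈ HopfRep.fixedPts R A V := by
  rw [mem_Z_succ, Z_zero]
  have h0 : LinearMap.range ((⊥ : Submodule R V).subtype.rTensor A) = ⊥ := by
    rw [eq_bot_iff]
    rintro _ ⟨t, rfl⟩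
    have : t = 0 := Subsingleton.elim _ _
    rw [this, map_zero]
    exact zero_mem _
  rw [h0, Submodule.mem_bot, redCoact_apply, sub_eq_zero]
  rfl

/-- if some `Z r` is nonzero then there is a nonzero fixed vector -/
lemma fixedPts_ne_bot_of_Z_ne_bot (r : ℕ) (h : Z R A V r ≠ ⊥) : HopfRep.fixedPts R A V ≠ ⊥ := by
  induction r with
  | zero => exact absurd (Z_zero R A V) h
  | succ r ih =>
    by_cases hr : Z R A V r = ⊥
    · intro hfix
      apply h
      rw [eq_bot_iff]
      intro v hv
      have h1 : v ∈ Z R A V 1 := by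
        rw [mem_Z_succ] at hv ⊢
        rw [hr] at hv
        rw [Z_zero]
        exact hv
      rw [mem_Z_one, hfix] at h1
      exact h1
    · exact ih hr

end defs


section field

variable {k : Type u} [Field k] {A : Type v} [CommRing A] [Bialgebra k A]
variable {V : Type v} [AddCommGroup V] [Module k V] [HopfRep.Comod k A V]

local notation "ρ" => (HopfRep.Comod.coact (k := k) (A := A) (V := V))

lemma slice_redCoact (ψ : A →ₗ[k] k) (v : V) :
    (TensorProduct.rid k V) (ψ.lTensor V (redCoact k A V v)) = RopV ψ v - ψ 1 • v := by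
  rw [redCoact_apply, map_sub, map_sub]
  simp [RopV]

/-- slice description of the socle filtration -/
lemma mem_Z_succ_iff (r : ℕ) (v : V) :
    v ∈ Z k A V (r + 1) ↔ ∀ ψ : A →ₗ[k] k, RopV ψ v - ψ 1 • v ∈ Z k A V r := by
  rw [mem_Z_succ]
  constructor
  · intro h ψ
    rw [← slice_redCoact]
    exact slice_mem_of_mem_range _ ψ h
  · intro h
    apply mem_range_rTensor_of_slices
    intro ψ
    rw [slice_redCoact]
    exact h ψ

/-- matrix coefficient map -/
noncomputable def cf (φ : V →ₗ[k] k) : V →ₗ[k] A :=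
  (TensorProduct.lid k A).toLinearMap ∘ₗ φ.rTensor A ∘ₗ ρ

lemma counit_cf (φ : V →ₗ[k] k) (v : V) :
    Coalgebra.counit (R := k) (cf (A := A) φ v) = φ v := by
  have key : (Coalgebra.counit (R := k) (A := A)) ∘ₗ (TensorProduct.lid k A).toLinearMap ∘ₗ
      φ.rTensor A = φ ∘ₗ (TensorProduct.rid k V).toLinearMap ∘ₗ
        (Coalgebra.counit (R := k) (A := A)).lTensor V := by
    ext x a
    simp [mul_comm]
  have h := LinearMap.congr_fun key (ρ v)
  have hc := LinearMap.congr_fun (HopfRep.Comod.counit_comp (k := k) (A := A) (V := V)) v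
  simp only [LinearMap.comp_apply, LinearEquiv.coe_coe] at h hc
  show Coalgebra.counit (R := k) ((TensorProduct.lid k A) (φ.rTensor A (ρ v))) = φ v
  rw [h, hc]
  simp

lemma RopV_cf (φ : V →ₗ[k] k) (ψ : A →ₗ[k] k) (v : V) :
    RopV (V := A) ψ (cf (A := A) φ v) = cf (A := A) φ (RopV ψ v) := by
  let F : V ⊗[k] (A ⊗[k] A) →ₗ[k] A :=
    (TensorProduct.lid k A).toLinearMap ∘ₗ
      TensorProduct.map φ ((TensorProduct.rid k A).toLinearMap ∘ₗ ψ.lTensor A)
  let G : (V ⊗[k] A) ⊗[k] A →ₗ[k] A :=
    (TensorProduct.rid k A).toLinearMap ∘ₗ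
      TensorProduct.map ((TensorProduct.lid k A).toLinearMap ∘ₗ φ.rTensor A) ψ
  have h1 : RopV (V := A) ψ ∘ₗ (TensorProduct.lid k A).toLinearMap ∘ₗ φ.rTensor A =
      F ∘ₗ (Coalgebra.comul (R := k) (A := A)).lTensor V := by
    ext x a
    simp only [LinearMap.coe_comp, LinearEquiv.coe_coe, Function.comp_apply,
      TensorProduct.AlgebraTensorModule.curry_apply, TensorProduct.curry_apply,
      LinearMap.coe_restrictScalars, LinearMap.rTensor_tmul, TensorProduct.lid_tmul,
      LinearMap.lTensor_tmul, F, TensorProduct.map_tmul, RopV]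
    rw [map_smul, map_smul, map_smul]
    rfl
  have h2 : cf (A := A) φ ∘ₗ (TensorProduct.rid k V).toLinearMap ∘ₗ ψ.lTensor V =
      G ∘ₗ (ρ).rTensor A := by
    ext x a
    simp [G, cf]
  have h3 : G = F ∘ₗ (TensorProduct.assoc k V A A).toLinearMap := by
    ext x a b
    simp [F, G, smul_smul, mul_comm]
  have hco := LinearMap.congr_fun (HopfRep.Comod.coassoc (k := k) (A := A) (V := V)) v
  simp only [LinearMap.comp_apply, LinearEquiv.coe_coe] at hco
  calc RopV (V := A) ψ (cf (A := A) φ v)
      = (RopV (V := A) ψ ∘ₗ (TensorProduct.lid k A).toLinearMap ∘ₗ φ.rTensor A) (ρ v) := rfl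
    _ = F ((Coalgebra.comul (R := k) (A := A)).lTensor V (ρ v)) := by rw [h1]; rfl
    _ = G ((ρ).rTensor A (ρ v)) := by rw [h3, ← hco]; rfl
    _ = cf (A := A) φ (RopV ψ v) := by rw [← LinearMap.comp_apply, ← h2]; rfl

lemma eq_zero_of_cf (v : V) (h : ∀ φ : V →ₗ[k] k, cf (A := A) φ v = 0) : v = 0 := by
  by_contra hv
  obtain ⟨φ, hφ⟩ : ∃ φ : V →ₗ[k] k, φ v ≠ 0 := by
    by_contra hcon
    push Not at hcon
    exact hv ((Module.forall_dual_apply_eq_zero_iff k v).mp hcon)
  apply hφ
  rw [← counit_cf (A := A), h φ, map_zero]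

/-- membership in the socle filtration can be tested on matrix coefficients -/
lemma mem_Z_of_cf (r : ℕ) :
    ∀ v : V, (∀ φ : V →ₗ[k] k, cf (A := A) φ v ∈ Z k A A r) → v ∈ Z k A V r := by
  induction r with
  | zero =>
    intro v h
    rw [Z_zero k A V, Submodule.mem_bot]
    refine eq_zero_of_cf (k := k) (A := A) v (fun φ => ?_)
    have := h φ
    rwa [Z_zero k A A, Submodule.mem_bot] at this
  | succ r ih =>
    intro v h
    rw [mem_Z_succ_iff]
    intro ψ
    apply ih
    intro φ
    rw [map_sub, map_smul, ← RopV_cf]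
    exact (mem_Z_succ_iff r _).mp (h φ) ψ

end field


section unip

variable {k : Type u} [Field k] {A : Type v} [CommRing A]

/-- conilpotent bialgebras are unipotent -/
theorem isUnipotent_of_forall_mem_Z [Bialgebra k A] (h : ∀ a : A, ∃ r, a ∈ Z k A A r) :
    HopfRep.IsUnipotent k A := by
  classical
  intro V _ _ _ hfin hnt
  obtain ⟨v, hv⟩ := exists_ne (0 : V)
  obtain ⟨f, -, hf⟩ := exists_repr (R := k) (C := A)
    (HopfRep.Comod.coact (k := k) (A := A) (V := V) v)
  choose rr hrr using h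
  let r := f.support.sup rr
  have hmem : ∀ φ : V →ₗ[k] k, cf (A := A) φ v ∈ Z k A A r := by
    intro φ
    have h1 : cf (A := A) φ v = f.sum (fun x u => φ u • x) := by
      show (TensorProduct.lid k A) (φ.rTensor A (HopfRep.Comod.coact (k := k) (A := A) v)) = _
      rw [hf, Finsupp.sum, Finsupp.sum, map_sum, map_sum]
      refine Finset.sum_congr rfl (fun x _ => ?_)
      simp
    rw [h1]
    refine Submodule.sum_mem _ (fun x hx => ?_)
    refine Submodule.smul_mem _ _ ?_
    exact Z_mono k A A (Finset.le_sup (f := rr) hx) (hrr x)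
  have hvZ := mem_Z_of_cf r v hmem
  apply fixedPts_ne_bot_of_Z_ne_bot k A V r
  intro hbot
  rw [hbot, Submodule.mem_bot] at hvZ
  exact hv hvZ

/-- unipotent Hopf algebras are conilpotent -/
theorem exists_mem_Z_of_isUnipotent [HopfAlgebra k A] (hU : HopfRep.IsUnipotent k A) (a : A) :
    ∃ r, a ∈ Z k A A r := by
  obtain ⟨W, hfin, haW, hW⟩ := Groth.Agent.Helper3.exists_finite_subcomod (k := k) (C := A) (V := A) a
  letI cW : HopfRep.Comod k A W := ComodSub.Comod.restr (HopfRep.Comod.regular k A) W hW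
  obtain ⟨m, F, -, h0, hm, -, hstep⟩ := flag_aux hU _ W rfl
  have key : ∀ i, ∀ w : W, w ∈ F i → (w : A) ∈ Z k A A i := by
    intro i
    induction i with
    | zero =>
      intro w hw
      rw [h0, Submodule.mem_bot] at hw
      rw [hw]
      exact zero_mem _
    | succ i ih =>
      intro w hw
      obtain ⟨t, ht⟩ := hstep i w hw
      rw [mem_Z_succ]
      let g : F i →ₗ[k] Z k A A i :=
        LinearMap.codRestrict (Z k A A i) (W.subtype ∘ₗ (F i).subtype) (fun x => ih x.1 x.2)
      refine ⟨g.rTensor A t, ?_⟩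
      rw [← LinearMap.comp_apply, ← LinearMap.rTensor_comp]
      have hg : (Z k A A i).subtype ∘ₗ g = W.subtype ∘ₗ (F i).subtype := rfl
      rw [hg, LinearMap.rTensor_comp, LinearMap.comp_apply, ht, map_sub, redCoact_apply]
      congr 1
      exact ComodSub.restr_coact_coe (HopfRep.Comod.regular k A) W hW w
  refine ⟨m, ?_⟩
  have := key m ⟨a, haW⟩ (by rw [hm]; trivial)
  exact this

end unip

end Groth.Agent.Helper2.SocleFilt
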