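import Mathlib
import Groth.Agent.Helper2.SocleFilt
import Groth.Agent.Helper2.MultTypeSemi

set_option autoImplicit false
universe u v w
open TensorProduct

namespace Groth.Agent.Helper2.SocleFilt

open Groth.Agent.Helper2.MultTypeSemi

section push

variable {R S : Type u} [CommRing R] [CommRing S] [Algebra R S]
variable {A B : Type u} [CommRing A] [Bialgebra R A] [CommRing B] [Bialgebra S B] [Algebra R B]
  [IsScalarTower R S B]

lemma semiMap_redCoact {θ : A →ₐ[R] B} (hθ : IsSemiCoalg R S θ) (a : A) :
    semiMap R S θ.toLinearMap (redCoact R A A a) = redCoact S B B (θ a) := by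
  rw [redCoact_apply, redCoact_apply, map_sub]
  congr 1
  · exact (hθ.comul a).symm
  · simp

lemma map_mem_Z {θ : A →ₐ[R] B} (hθ : IsSemiCoalg R S θ) (r : ℕ) :
    ∀ a ∈ Z R A A r, θ a ∈ Z S B B r := by
  induction r with
  | zero =>
    intro a ha
    rw [Z_zero, Submodule.mem_bot] at ha
    rw [ha, map_zero]
    exact zero_mem _
  | succ r ih =>
    intro a ha
    rw [mem_Z_succ] at ha ⊢
    obtain ⟨t, ht⟩ := ha
    rw [← semiMap_redCoact hθ, ← ht]
    clear ht
    induction t using TensorProduct.induction_on with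
    | zero => simp
    | add x y hx hy =>
      rw [map_add, map_add]
      exact add_mem hx hy
    | tmul z b =>
      exact ⟨(⟨θ z.1, ih z.1 z.2⟩ : Z S B B r) ⊗ₜ[S] θ b, rfl⟩

end push


section descent

variable (R : Type u) [CommRing R] [IsDomain R]
variable (K : Type u) [Field K] [Algebra R K] [IsFractionRing R K]
variable (H : Type u) [CommRing H] [Bialgebra R H]

/-- the canonical map `H → K ⊗ H` -/
noncomputable def iotaK : H →ₐ[R] K ⊗[R] H := Algebra.TensorProduct.includeRight

lemma iotaK_apply (h : H) : iotaK R K H h = (1 : K) ⊗ₜ[R] h := rfl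

lemma isSemiCoalg_iotaK : IsSemiCoalg R K (iotaK R K H) := isSemiCoalg_includeRight R K H

/-- clearing denominators -/
lemma exists_smul_eq_iotaK (y : K ⊗[R] H) : ∃ s : R, s ≠ 0 ∧ ∃ h : H, s • y = iotaK R K H h := by
  haveI : IsLocalizedModule (nonZeroDivisors R) (TensorProduct.mk R K H 1) :=
    (isLocalizedModule_iff_isBaseChange (nonZeroDivisors R) K (TensorProduct.mk R K H 1)).mpr
      (TensorProduct.isBaseChange R H K)
  obtain ⟨⟨h, s⟩, hs⟩ := IsLocalizedModule.surj (nonZeroDivisors R) (TensorProduct.mk R K H 1) y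
  exact ⟨s.1, nonZeroDivisors.ne_zero s.2, h, hs⟩

variable [Module.Flat R H]

lemma mk_injective (M : Type u) [AddCommGroup M] [Module R M] [Module.Flat R M] :
    Function.Injective (TensorProduct.mk R K M 1) := by
  have h1 : Function.Injective ((Algebra.linearMap R K).rTensor M) :=
    Module.Flat.rTensor_preserves_injective_linearMap _ (IsFractionRing.injective R K)
  have h2 : (TensorProduct.mk R K M 1 : M →ₗ[R] K ⊗[R] M) =
      (Algebra.linearMap R K).rTensor M ∘ₗ (TensorProduct.lid R M).symm.toLinearMap := by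
    ext m
    simp
  rw [h2]
  exact h1.comp (TensorProduct.lid R M).symm.injective

lemma iotaK_injective : Function.Injective (iotaK R K H) := mk_injective R K H

lemma semiMap_iotaK_injective :
    Function.Injective (semiMap R K (iotaK R K H).toLinearMap) := by
  have h1 : semiMap R K (iotaK R K H).toLinearMap =
      ((TensorProduct.AlgebraTensorModule.distribBaseChange R K H H).restrictScalars R).toLinearMap ∘ₗ
        TensorProduct.mk R K (H ⊗[R] H) 1 := by
    ext x y
    simp [iotaK]
  rw [h1]
  exact ((TensorProduct.AlgebraTensorModule.distribBaseChange R K H H).restrictScalars R).injective.comp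
    (mk_injective R K (H ⊗[R] H))

end descent


section descent2

variable (R : Type u) [CommRing R] [IsDedekindDomain R]
variable (K : Type u) [Field K] [Algebra R K] [IsFractionRing R K]
variable (H : Type u) [CommRing H] [Bialgebra R H] [Module.Flat R H]

lemma smul_mem_iff_of_ne_zero {M : Type u} [AddCommGroup M] [Module K M] [Module R M]
    [IsScalarTower R K M] (N : Submodule K M) {s : R} (hs : s ≠ 0) (x : M) :
    s • x ∈ N ↔ x ∈ N := by
  have hs' : algebraMap R K s ≠ 0 := by
    intro h0
    exact hs ((IsFractionRing.injective R K) (by rw [h0, map_zero]))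
  rw [← algebraMap_smul K s x]
  exact N.smul_mem_iff hs'

theorem mem_Z_of_iotaK_mem (r : ℕ) :
    ∀ h : H, iotaK R K H h ∈ Z K (K ⊗[R] H) (K ⊗[R] H) r → h ∈ Z R H H r := by
  induction r with
  | zero =>
    intro h hh
    rw [Z_zero, Submodule.mem_bot] at hh ⊢
    exact iotaK_injective R K H (by rw [hh, map_zero])
  | succ r ih =>
    intro h hh
    rw [mem_Z_succ] at hh ⊢
    have hpush := map_mem_Z (isSemiCoalg_iotaK R K H) r
    -- torsion-freeness of the quotient
    haveI htf : Module.IsTorsionFree R (H ⧸ Z R H H r) := by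
      constructor
      intro c hc x y hxy
      have hc0 : c ≠ 0 := hc.ne_zero
      induction x using Submodule.Quotient.induction_on with
      | H a =>
      induction y using Submodule.Quotient.induction_on with
      | H b =>
      simp only at hxy
      rw [← Submodule.Quotient.mk_smul, ← Submodule.Quotient.mk_smul, Submodule.Quotient.eq,
        ← smul_sub] at hxy
      rw [Submodule.Quotient.eq]
      apply ih
      have h1 := hpush _ hxy
      rw [map_smul] at h1
      exact (smul_mem_iff_of_ne_zero R K _ hc0 _).mp h1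
    haveI : Module.Flat R (H ⧸ Z R H H r) := inferInstance
    -- clearing denominators
    have hclear : ∀ t : (Z K (K ⊗[R] H) (K ⊗[R] H) r) ⊗[K] (K ⊗[R] H), ∃ s : R, s ≠ 0 ∧
        ∃ t' : (Z R H H r) ⊗[R] H,
          s • ((Z K (K ⊗[R] H) (K ⊗[R] H) r).subtype.rTensor (K ⊗[R] H) t) =
            semiMap R K (iotaK R K H).toLinearMap ((Z R H H r).subtype.rTensor H t') := by
      intro t
      induction t using TensorProduct.induction_on with
      | zero => exact ⟨1, one_ne_zero, 0, by simp⟩
      | tmul z y =>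
        obtain ⟨s₁, hs₁, z', hz'⟩ := exists_smul_eq_iotaK R K H z.1
        obtain ⟨s₂, hs₂, y', hy'⟩ := exists_smul_eq_iotaK R K H y
        have hz'mem : z' ∈ Z R H H r := by
          apply ih
          rw [← hz']
          exact (smul_mem_iff_of_ne_zero R K _ hs₁ _).mpr z.2
        refine ⟨s₁ * s₂, mul_ne_zero hs₁ hs₂, (⟨z', hz'mem⟩ : Z R H H r) ⊗ₜ[R] y', ?_⟩
        simp only [LinearMap.rTensor_tmul, Submodule.subtype_apply, semiMap_tmul,
          AlgHom.toLinearMap_apply]
        rw [← hz', ← hy', mul_smul, ← algebraMap_smul K s₁, ← algebraMap_smul K s₂,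
          ← algebraMap_smul K s₁, ← algebraMap_smul K s₂, TensorProduct.smul_tmul_smul,
          mul_smul]
      | add t₁ t₂ h₁ h₂ =>
        obtain ⟨s₁, hs₁, t'₁, ht₁⟩ := h₁
        obtain ⟨s₂, hs₂, t'₂, ht₂⟩ := h₂
        refine ⟨s₁ * s₂, mul_ne_zero hs₁ hs₂, s₂ • t'₁ + s₁ • t'₂, ?_⟩
        rw [map_add, map_add, map_add, map_smul, map_smul, map_smul, map_smul, ← ht₁, ← ht₂]
        module
    obtain ⟨t, ht⟩ := hh
    obtain ⟨s, hs, t', ht'⟩ := hclear t
    have h1 : s • redCoact R H H h = (Z R H H r).subtype.rTensor H t' := by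
      apply semiMap_iotaK_injective R K H
      rw [map_smul, semiMap_redCoact (isSemiCoalg_iotaK R K H), ← ht, ← ht']
    have hex : Function.Exact ((Z R H H r).subtype.rTensor H) ((Z R H H r).mkQ.rTensor H) :=
      rTensor_exact _ (LinearMap.exact_subtype_mkQ _) (Submodule.mkQ_surjective _)
    apply (hex _).1
    have h2 : s • ((Z R H H r).mkQ.rTensor H (redCoact R H H h)) = 0 := by
      rw [← map_smul, h1]
      exact (hex _).2 ⟨t', rfl⟩
    exact (smul_eq_zero.mp h2).resolve_left hs

end descent2


section main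

theorem s18061 (A : Type u) [CommRing A] [IsDomain A] [IsDiscreteValuationRing A]
    (K : Type u) [Field K] [Algebra A K] [IsFractionRing A K]
    (H : Type u) [CommRing H] [HopfAlgebra A H] [Module.Flat A H]
    (hK : HopfRep.IsUnipotent K (K ⊗[A] H)) :
    HopfRep.IsUnipotent (IsLocalRing.ResidueField A) (IsLocalRing.ResidueField A ⊗[A] H) := by
  apply isUnipotent_of_forall_mem_Z
  intro y
  obtain ⟨h, rfl⟩ : ∃ h : H, y = (1 : IsLocalRing.ResidueField A) ⊗ₜ[A] h := by
    induction y using TensorProduct.induction_on with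
    | zero => exact ⟨0, by simp⟩
    | add x y hx hy =>
      obtain ⟨a, rfl⟩ := hx
      obtain ⟨b, rfl⟩ := hy
      exact ⟨a + b, by rw [TensorProduct.tmul_add]⟩
    | tmul c h =>
      obtain ⟨c', rfl⟩ := IsLocalRing.residue_surjective c
      refine ⟨c' • h, ?_⟩
      rw [TensorProduct.tmul_smul, TensorProduct.smul_tmul', Algebra.smul_def, mul_one]
      rfl
  obtain ⟨r, hr⟩ := exists_mem_Z_of_isUnipotent hK (iotaK A K H h)
  have h1 := mem_Z_of_iotaK_mem A K H r h hr
  exact ⟨r, map_mem_Z (isSemiCoalg_includeRight A (IsLocalRing.ResidueField A) H) r h h1⟩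

end main

end Groth.Agent.Helper2.SocleFilt
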