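import Mathlib
import Groth.Agent.Helper7.TakF

set_option autoImplicit false
universe u v w
open TensorProduct

namespace Groth.Agent.Helper2.TakEq

section amitsur

variable {B : Type u} [CommRing B] {A : Type v} [CommRing A] [Algebra B A]
  [Module.FaithfullyFlat B A]

/-- the first step of the Amitsur complex of a faithfully flat ring map is exact -/
theorem mem_range_of_tmul_eq (a : A) (h : a ⊗ₜ[B] (1 : A) = (1 : A) ⊗ₜ[B] a) :
    a ∈ Set.range (algebraMap B A) := by
  let N₁ : Submodule B A := LinearMap.range (Algebra.linearMap B A)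
  have h0 : N₁.mkQ (1 : A) = 0 := by
    rw [Submodule.mkQ_apply, Submodule.Quotient.mk_eq_zero]
    exact ⟨1, by simp⟩
  have h1 : (1 : A) ⊗ₜ[B] (N₁.mkQ a) = 0 := by
    have e1 : (1 : A) ⊗ₜ[B] (N₁.mkQ a) = LinearMap.lTensor A N₁.mkQ ((1 : A) ⊗ₜ[B] a) := rfl
    rw [e1, ← h, LinearMap.lTensor_tmul, h0, TensorProduct.tmul_zero]
  have h2 := (Module.FaithfullyFlat.one_tmul_eq_zero_iff B (A ⧸ N₁) (A := A) (N₁.mkQ a)).mp h1
  rw [Submodule.mkQ_apply, Submodule.Quotient.mk_eq_zero] at h2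
  obtain ⟨b, hb⟩ := h2
  exact ⟨b, hb⟩

end amitsur


section hopf

variable {k : Type u} [Field k] {C : Type v} [CommRing C] [HopfAlgebra k C]
  {A : Type w} [CommRing A] [HopfAlgebra k A]

/-- `y ↦ Σ S(y₁) ⊗ y₂` -/
noncomputable def tw : A →ₐ[k] A ⊗[k] A :=
  (Algebra.TensorProduct.map (HopfAlgebra.antipodeAlgHom k A) (AlgHom.id k A)).comp
    (Bialgebra.comulAlgHom k A)

/-- `x ⊗ y ↦ Σ x S(y₁) ⊗ y₂` -/
noncomputable def Phi0 : A ⊗[k] A →ₐ[k] A ⊗[k] A :=
  Algebra.TensorProduct.lift (Algebra.TensorProduct.includeLeft) (tw (k := k) (A := A))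
    (fun _ _ => Commute.all _ _)

lemma Phi0_tmul (x y : A) : Phi0 (k := k) (x ⊗ₜ[k] y) = (x ⊗ₜ[k] (1 : A)) * tw (k := k) y := by
  simp [Phi0]

lemma Phi0_tmul_one (x : A) : Phi0 (k := k) (x ⊗ₜ[k] (1 : A)) = x ⊗ₜ[k] (1 : A) := by
  rw [Phi0_tmul, map_one, mul_one]

lemma Phi0_comul (a : A) : Phi0 (k := k) (Coalgebra.comul (R := k) a) = (1 : A) ⊗ₜ[k] a := by
  have key : (Phi0 (k := k) (A := A)).toLinearMap =
      (LinearMap.mul' k A).rTensor A ∘ₗ (TensorProduct.assoc k A A A).symm.toLinearMap ∘ₗ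
        LinearMap.lTensor A ((HopfAlgebra.antipode k (A := A)).rTensor A ∘ₗ
          Coalgebra.comul (R := k) (A := A)) := by
    apply TensorProduct.ext'
    intro x y
    simp only [AlgHom.toLinearMap_apply, Phi0_tmul, LinearMap.comp_apply, LinearMap.lTensor_tmul,
      LinearEquiv.coe_coe, tw, AlgHom.comp_apply, Bialgebra.comulAlgHom_apply]
    generalize Coalgebra.comul (R := k) y = t
    induction t using TensorProduct.induction_on with
    | zero => simp
    | add p q hp hq => simp only [map_add, mul_add, tmul_add, hp, hq]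
    | tmul p q => simp
  have h1 : Phi0 (k := k) (Coalgebra.comul (R := k) a) =
      (Phi0 (k := k) (A := A)).toLinearMap (Coalgebra.comul (R := k) a) := rfl
  rw [h1, key]
  have e1 : (TensorProduct.assoc k A A A).symm.toLinearMap ∘ₗ
      LinearMap.lTensor A ((HopfAlgebra.antipode k (A := A)).rTensor A) ∘ₗ
        (TensorProduct.assoc k A A A).toLinearMap =
      ((HopfAlgebra.antipode k (A := A)).lTensor A).rTensor A := by
    apply TensorProduct.ext_threefold
    intro x y z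
    simp
  have e2 := LinearMap.congr_fun e1 ((Coalgebra.comul (R := k) (A := A)).rTensor A
    (Coalgebra.comul (R := k) a))
  simp only [LinearMap.comp_apply, LinearEquiv.coe_coe] at e2
  rw [Coalgebra.coassoc_apply] at e2
  simp only [LinearMap.comp_apply, LinearEquiv.coe_coe, LinearMap.lTensor_comp]
  rw [e2, ← LinearMap.comp_apply, ← LinearMap.rTensor_comp, ← LinearMap.comp_apply,
    ← LinearMap.rTensor_comp, LinearMap.comp_assoc, HopfAlgebra.mul_antipode_lTensor_comul,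
    LinearMap.rTensor_comp, LinearMap.comp_apply, Coalgebra.rTensor_counit_comul]
  simp


section takeuchi

variable (ψ : C →ₐc[k] A)

/-- the canonical map `A ⊗[k] A → A ⊗[ψ(C)] A` -/
noncomputable def qB : A ⊗[k] A →ₐ[k] A ⊗[(ψ : C →ₐ[k] A).range] A :=
  Algebra.TensorProduct.mapOfCompatibleSMul (ψ : C →ₐ[k] A).range k k A A

lemma qB_tmul (x y : A) : qB ψ (x ⊗ₜ[k] y) = x ⊗ₜ[(ψ : C →ₐ[k] A).range] y := rfl

/-- `x ⊗ y ↦ Σ x S(y₁) ⊗_B y₂` -/
noncomputable def Phi : A ⊗[k] A →ₐ[k] A ⊗[(ψ : C →ₐ[k] A).range] A := (qB ψ).comp Phi0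

lemma Phi_one_tmul (c : C) :
    Phi ψ ((1 : A) ⊗ₜ[k] ψ c) = algebraMap k _ (Coalgebra.counit (R := k) c) := by
  have h1 : Phi ψ ((1 : A) ⊗ₜ[k] ψ c) = qB ψ (tw (k := k) (ψ c)) := by
    show (qB ψ) (Phi0 _) = _
    rw [Phi0_tmul, ← Algebra.TensorProduct.one_def, one_mul]
  have h2 : tw (k := k) (ψ c) =
      TensorProduct.map ((ψ : C →ₗ[k] A) ∘ₗ HopfAlgebra.antipode k (A := C)) (ψ : C →ₗ[k] A)
        (Coalgebra.comul (R := k) c) := by
    have h3 := CoalgHomClass.map_comp_comul_apply ψ c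
    simp only [tw, AlgHom.comp_apply, Bialgebra.comulAlgHom_apply]
    rw [← h3]
    generalize Coalgebra.comul (R := k) c = t
    induction t using TensorProduct.induction_on with
    | zero => simp
    | add p q hp hq => simp only [map_add, hp, hq]
    | tmul p q =>
      simp [Groth.Agent.Helper7.Takeuchi.map_antipode ψ p]
  have key : (qB ψ).toLinearMap ∘ₗ
      TensorProduct.map ((ψ : C →ₗ[k] A) ∘ₗ HopfAlgebra.antipode k (A := C)) (ψ : C →ₗ[k] A) =
      ((TensorProduct.mk (ψ : C →ₐ[k] A).range A A).flip (1 : A)).restrictScalars k ∘ₗ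
        (ψ : C →ₗ[k] A) ∘ₗ LinearMap.mul' k C ∘ₗ (HopfAlgebra.antipode k (A := C)).rTensor C := by
    apply TensorProduct.ext'
    intro x y
    simp only [LinearMap.comp_apply, TensorProduct.map_tmul, AlgHom.toLinearMap_apply, qB_tmul,
      LinearMap.rTensor_tmul, LinearMap.mul'_apply, LinearMap.coe_restrictScalars,
      LinearMap.flip_apply, TensorProduct.mk_apply]
    have e2 : ∀ (a : A) (y : C), a ⊗ₜ[(ψ : C →ₐ[k] A).range] (ψ y : A) =
        (ψ y * a) ⊗ₜ[(ψ : C →ₐ[k] A).range] (1 : A) := by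
      intro a y
      have h5 := TensorProduct.smul_tmul (R := (ψ : C →ₐ[k] A).range)
        (R' := (ψ : C →ₐ[k] A).range) (⟨ψ y, y, rfl⟩ : (ψ : C →ₐ[k] A).range) a (1 : A)
      simp only [Algebra.smul_def, mul_one] at h5
      exact h5.symm
    refine (e2 _ _).trans ?_
    rw [mul_comm]
    congr 1
    exact (map_mul ψ _ _).symm
  rw [h1, h2]
  have h4 := LinearMap.congr_fun key (Coalgebra.comul (R := k) c)
  simp only [LinearMap.comp_apply, AlgHom.toLinearMap_apply] at h4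
  rw [h4, HopfAlgebra.mul_antipode_rTensor_comul_apply]
  simp only [LinearMap.coe_restrictScalars, LinearMap.flip_apply, TensorProduct.mk_apply]
  show (ψ (algebraMap k C (Coalgebra.counit (R := k) c))) ⊗ₜ[(ψ : C →ₐ[k] A).range] (1 : A) = _
  rw [show ψ (algebraMap k C (Coalgebra.counit (R := k) c)) =
    algebraMap k A (Coalgebra.counit (R := k) c) from AlgHomClass.commutes ψ _]
  rfl


/-- **Takeuchi**: for an injective... (injectivity is not needed) map `ψ : C → A` of commutative Hopf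
algebras over a field, the coinvariants of `A → A/ψ(C⁺)A` are exactly `ψ(C)`. -/
theorem mem_range_of_coinv (J : Ideal A)
    (hJ : J = Ideal.map (ψ : C →+* A) (RingHom.ker (Bialgebra.counitAlgHom k C)))
    (a : A)
    (ha : LinearMap.lTensor A (Ideal.Quotient.mkₐ k J).toLinearMap (Coalgebra.comul (R := k) a) =
      a ⊗ₜ[k] (1 : A ⧸ J)) :
    a ∈ Set.range ψ := by
  haveI : Module.FaithfullyFlat (ψ : C →ₐ[k] A).range A :=
    Groth.Agent.Helper7.Takeuchi.faithfullyFlat_range ψ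
  have ht : Coalgebra.comul (R := k) a - a ⊗ₜ[k] (1 : A) ∈
      RingHom.ker (Algebra.TensorProduct.map (AlgHom.id k A) (Ideal.Quotient.mkₐ k J)) := by
    rw [RingHom.mem_ker, map_sub, sub_eq_zero]
    have e1 : Algebra.TensorProduct.map (AlgHom.id k A) (Ideal.Quotient.mkₐ k J)
        (Coalgebra.comul (R := k) a) =
        LinearMap.lTensor A (Ideal.Quotient.mkₐ k J).toLinearMap (Coalgebra.comul (R := k) a) := rfl
    rw [e1, ha]
    simp
  rw [Algebra.TensorProduct.lTensor_ker _ (Ideal.Quotient.mkₐ_surjective k J)] at ht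
  have hker : RingHom.ker (Ideal.Quotient.mkₐ k J) = J := Ideal.Quotient.mkₐ_ker k J
  rw [hker] at ht
  have hle : Ideal.map (Algebra.TensorProduct.includeRight : A →ₐ[k] A ⊗[k] A) J ≤
      RingHom.ker (Phi ψ) := by
    rw [hJ, Ideal.map_le_iff_le_comap, Ideal.map_le_iff_le_comap]
    intro c hc
    rw [Ideal.mem_comap, Ideal.mem_comap, RingHom.mem_ker]
    show Phi ψ ((1 : A) ⊗ₜ[k] ψ c) = 0
    have hc0 : Coalgebra.counit (R := k) c = 0 := hc
    rw [Phi_one_tmul, hc0, map_zero]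
  have h0 := hle ht
  rw [RingHom.mem_ker, map_sub, sub_eq_zero] at h0
  have h1 : Phi ψ (Coalgebra.comul (R := k) a) = (1 : A) ⊗ₜ[(ψ : C →ₐ[k] A).range] a := by
    show qB ψ (Phi0 _) = _
    rw [Phi0_comul]
    rfl
  have h2 : Phi ψ (a ⊗ₜ[k] (1 : A)) = a ⊗ₜ[(ψ : C →ₐ[k] A).range] (1 : A) := by
    show qB ψ (Phi0 _) = _
    rw [Phi0_tmul_one]
    rfl
  rw [h1, h2] at h0
  obtain ⟨b, hb⟩ := mem_range_of_tmul_eq a h0.symm
  obtain ⟨c, hc⟩ := b.2
  refine ⟨c, ?_⟩
  rw [← hb]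
  show ψ c = (b : A)
  rw [← hc]
  rfl

end takeuchi

end hopf

end Groth.Agent.Helper2.TakEq
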