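import Mathlib
import Groth.Prelude.Def_GLin2
import Groth.Agent.Helper2.TakEq
import Groth.Agent.Helper2.SocleDVR

set_option autoImplicit false
universe u v w
open TensorProduct

namespace Groth.Agent.Helper2.TakExt

open Groth.Agent.Helper2.ComodGen Groth.Agent.Helper2.SocleFilt Groth.Agent.Helper2.MultTypeSemi

section slices

variable {k : Type u} [Field k] {Y : Type v} {Q : Type w} [AddCommGroup Y] [Module k Y]
  [AddCommGroup Q] [Module k Q]

lemma eq_of_slices (t₁ t₂ : Y ⊗[k] Q)
    (h : ∀ θ : Q →ₗ[k] k, (TensorProduct.rid k Y) (θ.lTensor Y t₁) =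
      (TensorProduct.rid k Y) (θ.lTensor Y t₂)) : t₁ = t₂ := by
  classical
  let b := Module.Basis.ofVectorSpace k Q
  let e := TensorProduct.equivFinsuppOfBasisRight (R := k) (M := Y) b
  have key : ∀ (y : Y ⊗[k] Q) i, e y i = (TensorProduct.rid k Y) (LinearMap.lTensor Y (b.coord i) y) := by
    intro y i
    induction y using TensorProduct.induction_on with
    | zero => simp
    | add p q hp hq => simp only [map_add, Finsupp.add_apply, hp, hq]
    | tmul p q =>
      simp [e, TensorProduct.equivFinsuppOfBasisRight_apply_tmul_apply]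
  apply e.injective
  ext i
  rw [key, key, h]

end slices


section coinv

variable {k : Type u} [Field k] {A : Type v} [CommRing A] [Bialgebra k A]
variable {V : Type v} [AddCommGroup V] [Module k V] [HopfRep.Comod k A V]

lemma slice_lTensor {Q : Type w} [AddCommGroup Q] [Module k Q] (π : A →ₗ[k] Q) (θ : Q →ₗ[k] k)
    {W : Type v} [AddCommGroup W] [Module k W] [HopfRep.Comod k A W] (w : W) :
    (TensorProduct.rid k W) (θ.lTensor W (π.lTensor W
      (HopfRep.Comod.coact (k := k) (A := A) w))) = RopV (θ ∘ₗ π) w := by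
  rw [RopV, LinearMap.lTensor_comp]
  rfl

/-- matrix coefficients of an `N`-fixed vector are right `N`-coinvariant -/
lemma cf_coinv {Q : Type w} [AddCommGroup Q] [Module k Q] (π : A →ₗ[k] Q) (q : Q) (v : V)
    (hv : π.lTensor V (HopfRep.Comod.coact (k := k) (A := A) v) = v ⊗ₜ[k] q)
    (φ : V →ₗ[k] k) :
    π.lTensor A (Coalgebra.comul (R := k) (cf (A := A) φ v)) = cf (A := A) φ v ⊗ₜ[k] q := by
  apply eq_of_slices
  intro θ
  have h1 := slice_lTensor π θ (W := A) (cf (A := A) φ v)
  have h2 := slice_lTensor π θ (W := V) v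
  rw [hv] at h2
  have h3 : (TensorProduct.rid k V) (θ.lTensor V (v ⊗ₜ[k] q)) = θ q • v := by simp
  rw [h3] at h2
  have h1' : (TensorProduct.rid k A) (θ.lTensor A (π.lTensor A
      (Coalgebra.comul (R := k) (cf (A := A) φ v)))) = RopV (V := A) (θ ∘ₗ π) (cf (A := A) φ v) := h1
  rw [h1', RopV_cf, ← h2, map_smul]
  simp

end coinv


section fixed

variable {k : Type u} [Field k] {A : Type v} [CommRing A] [Bialgebra k A]
variable {V : Type v} [AddCommGroup V] [Module k V] [HopfRep.Comod k A V]

lemma cf_add (φ ψ : V →ₗ[k] k) (v : V) :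
    cf (A := A) (φ + ψ) v = cf (A := A) φ v + cf (A := A) ψ v := by
  simp [SocleFilt.cf, LinearMap.rTensor_add]

lemma cf_smul (c : k) (φ : V →ₗ[k] k) (v : V) :
    cf (A := A) (c • φ) v = c • cf (A := A) φ v := by
  simp [SocleFilt.cf, LinearMap.rTensor_smul]

lemma cf_zero (v : V) : cf (A := A) (0 : V →ₗ[k] k) v = 0 := by
  simp [SocleFilt.cf]

/-- a nonzero vector of a finite-dimensional comodule all of whose matrix coefficients are
conilpotent produces a nonzero fixed vector -/
theorem fixedPts_ne_bot_of_cf_mem [Module.Finite k V] (v : V) (hv : v ≠ 0)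
    (h : ∀ φ : V →ₗ[k] k, ∃ r, cf (A := A) φ v ∈ Z k A A r) :
    HopfRep.fixedPts k A V ≠ ⊥ := by
  classical
  let b := Module.finBasis k V
  choose rr hrr using h
  let r := Finset.univ.sup (fun i => rr (b.coord i))
  have hmem : ∀ φ : V →ₗ[k] k, cf (A := A) φ v ∈ Z k A A r := by
    intro φ
    have h1 : φ = ∑ i, φ (b i) • b.coord i := (b.sum_dual_apply_smul_coord φ).symm
    have h2 : ∀ (s : Finset (Fin (Module.finrank k V))),
        cf (A := A) (∑ i ∈ s, φ (b i) • b.coord i) v ∈ Z k A A r := by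
      intro s
      induction s using Finset.induction_on with
      | empty => rw [Finset.sum_empty, cf_zero]; exact zero_mem _
      | insert a s ha ih =>
        rw [Finset.sum_insert ha, cf_add, cf_smul]
        refine add_mem (Submodule.smul_mem _ _ ?_) ih
        exact Z_mono k A A (Finset.le_sup (f := fun i => rr (b.coord i)) (Finset.mem_univ a))
          (hrr (b.coord a))
    rw [h1]
    exact h2 Finset.univ
  have hvZ := mem_Z_of_cf r v hmem
  apply fixedPts_ne_bot_of_Z_ne_bot k A V r
  intro hbot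
  rw [hbot, Submodule.mem_bot] at hvZ
  exact hv hvZ

end fixed


section s5422

variable {k : Type u} [Field k] {A : Type u} [CommRing A] [HopfAlgebra k A]

/-- quotient Hopf algebras (closed subgroups) of unipotent ones are unipotent -/
theorem isUnipotent_of_surjective {B : Type u} [CommRing B] [HopfAlgebra k B] (φ : A →ₐc[k] B)
    (hφ : Function.Surjective φ) (hA : HopfRep.IsUnipotent k A) : HopfRep.IsUnipotent k B := by
  apply isUnipotent_of_forall_mem_Z
  intro b
  obtain ⟨a, rfl⟩ := hφ b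
  obtain ⟨r, hr⟩ := exists_mem_Z_of_isUnipotent hA a
  exact ⟨r, map_mem_Z (isSemiCoalg_bialgHom k φ) r a hr⟩

/-- Hopf subalgebras (quotient groups) of unipotent ones are unipotent -/
theorem isUnipotent_of_injective {C : Type u} [CommRing C] [HopfAlgebra k C] (ψ : C →ₐc[k] A)
    (hψ : Function.Injective ψ) (hA : HopfRep.IsUnipotent k A) : HopfRep.IsUnipotent k C := by
  intro V _ _ c hfin hnt
  have h1 := @hA V _ _ (GLin.comodAlong ψ c) hfin hnt
  intro hbot
  apply h1
  rw [eq_bot_iff]
  intro v hv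
  have hv' : TensorProduct.map LinearMap.id (ψ : C →ₗ[k] A)
      (HopfRep.Comod.coact (k := k) (A := C) v) = v ⊗ₜ[k] (1 : A) := hv
  have hinj : Function.Injective (LinearMap.lTensor V (ψ : C →ₗ[k] A)) :=
    Module.Flat.lTensor_preserves_injective_linearMap _ hψ
  have h2 : HopfRep.Comod.coact (k := k) (A := C) v = v ⊗ₜ[k] (1 : C) := by
    apply hinj
    rw [LinearMap.lTensor_tmul]
    have : (ψ : C →ₗ[k] A) (1 : C) = 1 := map_one ψ
    rw [this]
    exact hv'
  have h3 : v ∈ HopfRep.fixedPts k C V := h2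
  rw [hbot] at h3
  exact h3

/-- extensions of unipotent by unipotent are unipotent -/
theorem isUnipotent_of_extension {C : Type u} [CommRing C] [HopfAlgebra k C] (ψ : C →ₐc[k] A)
    (J : Ideal A) [J.IsHopfIdeal k]
    (hJ : J = Ideal.map (ψ : C →+* A) (RingHom.ker (Bialgebra.counitAlgHom k C)))
    (hC : HopfRep.IsUnipotent k C) (hN : HopfRep.IsUnipotent k (A ⧸ J)) :
    HopfRep.IsUnipotent k A := by
  intro V _ _ c hfin hnt
  haveI := hfin
  have h1 := @hN V _ _ (GLin.comodAlong (Bialgebra.Quotient.mkBialgHom J) c) hfin hnt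
  obtain ⟨v, hvmem, hv0⟩ := Submodule.exists_mem_ne_zero_of_ne_bot h1
  have hv' : LinearMap.lTensor V (Ideal.Quotient.mkₐ k J).toLinearMap
      (HopfRep.Comod.coact (k := k) (A := A) v) = v ⊗ₜ[k] (1 : A ⧸ J) := hvmem
  apply fixedPts_ne_bot_of_cf_mem v hv0
  intro φ
  have h2 := cf_coinv (Ideal.Quotient.mkₐ k J).toLinearMap (1 : A ⧸ J) v hv' φ
  obtain ⟨cc, hcc⟩ := Groth.Agent.Helper2.TakEq.mem_range_of_coinv ψ J hJ _ h2
  obtain ⟨r, hr⟩ := exists_mem_Z_of_isUnipotent hC cc
  refine ⟨r, ?_⟩
  rw [← hcc]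
  exact map_mem_Z (isSemiCoalg_bialgHom k ψ) r cc hr

end s5422

end Groth.Agent.Helper2.TakExt
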