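import Mathlib
import Groth.Agent.Helper2.ComodGen

set_option autoImplicit false
universe u w
open TensorProduct Groth.Agent.Helper2.ComodGen

namespace Groth.Agent.Helper2.ComodDiag

section Basis
variable {R : Type u} [CommRing R] {C : Type*} [AddCommGroup C] [Module R C]
variable {V : Type*} [AddCommGroup V] [Module R V] {ι : Type*}

lemma exists_repr_basis (b : Module.Basis ι R C) (t : V ⊗[R] C) :
    ∃ c : ι →₀ V, (∀ i, c i = (TensorProduct.rid R V) ((b.coord i).lTensor V t)) ∧
      t = c.sum (fun i u => u ⊗ₜ[R] b i) := by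
  classical
  obtain ⟨c, hc⟩ := TensorProduct.eq_repr_basis_right b t
  refine ⟨c, fun i => ?_, hc.symm⟩
  rw [← hc]
  simp only [Finsupp.sum, map_sum, LinearMap.lTensor_tmul, TensorProduct.rid_tmul,
    Module.Basis.coord_apply, Module.Basis.repr_self, Finsupp.single_apply, ite_smul, one_smul,
    zero_smul, Finset.sum_ite_eq', Finsupp.mem_support_iff]
  by_cases hi : c i = 0
  · simp [hi]
  · simp [hi]

end Basis

section Main
variable {k : Type u} [CommRing k] {M : Type u} [CommGroup M]
variable {V : Type w} [AddCommGroup V] [Module k V] [HopfRep.Comod k (MonoidAlgebra k M) V]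

local notation "ρ" => (HopfRep.Comod.coact (k := k) (A := MonoidAlgebra k M) (V := V))

/-- coefficient functional -/
noncomputable def χ (m : M) : MonoidAlgebra k M →ₗ[k] k := (MonoidAlgebra.basis M k).coord m

lemma χ_single (m x : M) [Decidable (x = m)] :
    χ (k := k) m (MonoidAlgebra.single x 1) = if x = m then 1 else 0 := by
  classical
  rw [χ, ← MonoidAlgebra.basis_apply, Module.Basis.coord_apply, Module.Basis.repr_self,
    Finsupp.single_apply]

lemma cv_χ (m n : M) [Decidable (m = n)] :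
    cv (χ (k := k) m) (χ n) = if m = n then χ m else 0 := by
  classical
  apply MonoidAlgebra.lhom_ext'
  intro x
  ext
  simp only [cv, LinearMap.comp_apply, MonoidAlgebra.lsingle_apply, MonoidAlgebra.comul_single]
  simp only [CommSemiring.comul_apply, TensorProduct.map_tmul, MonoidAlgebra.lsingle_apply,
    LinearMap.mul'_apply, χ_single]
  split_ifs with h1 h2 h3 h4 <;> simp_all [χ_single]

/-- isotypic projector -/
noncomputable def π (m : M) : V →ₗ[k] V := RopV (χ m)

lemma π_π (m n : M) (v : V) [Decidable (m = n)] :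
    π (k := k) m (π (k := k) n v) = if m = n then π (k := k) m v else 0 := by
  rw [π, π, RopV_RopV, cv_χ]
  split_ifs
  · rfl
  · simp [RopV]

lemma exists_expansion (v : V) :
    ∃ c : M →₀ V, (∀ m, c m = π (k := k) m v) ∧
      ρ v = c.sum (fun m u => u ⊗ₜ[k] (MonoidAlgebra.single m (1 : k))) := by
  obtain ⟨c, hc1, hc2⟩ := Groth.Agent.Helper2.ComodDiag.exists_repr_basis (MonoidAlgebra.basis M k) (ρ v)
  refine ⟨c, fun m => ?_, ?_⟩
  · rw [hc1 m]; rfl
  · rw [hc2]; rfl

lemma sum_eq_self (v : V) (c : M →₀ V)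
    (hc : ρ v = c.sum (fun m u => u ⊗ₜ[k] (MonoidAlgebra.single m (1 : k)))) :
    v = c.sum (fun _ u => u) := by
  have hcu := LinearMap.congr_fun
    (HopfRep.Comod.counit_comp (k := k) (A := MonoidAlgebra k M) (V := V)) v
  simp only [LinearMap.comp_apply, LinearMap.flip_apply, TensorProduct.mk_apply] at hcu
  have h2 : v = (TensorProduct.rid k V)
      ((Coalgebra.counit (R := k) (A := MonoidAlgebra k M)).lTensor V (ρ v)) := by
    rw [hcu]; simp
  conv_lhs => rw [h2, hc]
  simp [Finsupp.sum, map_sum]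

lemma coact_π (n : M) (v : V) :
    ρ (π (k := k) n v) = π (k := k) n v ⊗ₜ[k] MonoidAlgebra.single n (1 : k) := by
  classical
  obtain ⟨c, hc1, hc2⟩ := exists_expansion (k := k) (M := M) (π (k := k) n v)
  rw [hc2, Finsupp.sum, Finset.sum_eq_single n]
  · rw [hc1 n, π_π, if_pos rfl]
  · intro m _ hmn
    rw [hc1 m, π_π, if_neg hmn, TensorProduct.zero_tmul]
  · intro hn
    rw [Finsupp.notMem_support_iff.1 hn, TensorProduct.zero_tmul]

lemma main (W : Submodule k V) (hW : HopfRep.IsSubcomod (k := k) (A := MonoidAlgebra k M) W)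
    (hsplit : ∃ W' : Submodule k V, IsCompl W W') :
    ∃ W'' : Submodule k V, HopfRep.IsSubcomod (k := k) (A := MonoidAlgebra k M) W'' ∧
      IsCompl W W'' := by
  classical
  obtain ⟨W', hW'⟩ := hsplit
  let p0 : V →ₗ[k] V := W.subtype ∘ₗ Submodule.projectionOnto W W' hW'
  have hp0W : ∀ u, p0 u ∈ W := fun u => Submodule.coe_mem _
  have hp0id : ∀ w ∈ W, p0 w = w := by
    intro w hw
    simp only [p0, LinearMap.comp_apply, Submodule.subtype_apply]
    rw [Submodule.projectionOnto_apply_of_mem_left hW' hw]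
  have hπW : ∀ (m : M) (w : V), w ∈ W → π (k := k) m w ∈ W :=
    fun m w hw => RopV_mem_of_isSubcomod hW _ hw
  let Φ : MonoidAlgebra k M →ₗ[k] (V →ₗ[k] V) :=
    (MonoidAlgebra.basis M k).constr k (fun m => π (k := k) m ∘ₗ p0)
  have hΦ : ∀ m, Φ (MonoidAlgebra.single m 1) = π (k := k) m ∘ₗ p0 := by
    intro m
    rw [← MonoidAlgebra.basis_apply (R := M) (k := k)]
    exact Module.Basis.constr_basis _ _ _ _
  let Ξ : V ⊗[k] MonoidAlgebra k M →ₗ[k] V := TensorProduct.lift Φ.flip
  let q : V →ₗ[k] V := Ξ ∘ₗ ρ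
  have hq_exp : ∀ (v : V) (c : M →₀ V), (∀ m, c m = π (k := k) m v) →
      ρ v = c.sum (fun m u => u ⊗ₜ[k] (MonoidAlgebra.single m (1 : k))) →
      q v = c.sum (fun m u => π (k := k) m (p0 u)) := by
    intro v c _ hc2
    simp only [q, LinearMap.comp_apply, hc2, Finsupp.sum, map_sum, Ξ, TensorProduct.lift.tmul,
      LinearMap.flip_apply, hΦ]
  have hqW : ∀ v, q v ∈ W := by
    intro v
    obtain ⟨c, hc1, hc2⟩ := exists_expansion (k := k) (M := M) v
    rw [hq_exp v c hc1 hc2]
    exact Submodule.sum_mem _ fun m _ => hπW m _ (hp0W _)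
  have hqid : ∀ w ∈ W, q w = w := by
    intro w hw
    obtain ⟨c, hc1, hc2⟩ := exists_expansion (k := k) (M := M) w
    rw [hq_exp w c hc1 hc2]
    conv_rhs => rw [sum_eq_self w c hc2]
    refine Finset.sum_congr rfl fun m _ => ?_
    show π (k := k) m (p0 (c m)) = c m
    rw [hc1 m, hp0id _ (hπW m w hw), π_π, if_pos rfl]
  have hqπ : ∀ (n : M) (v : V), q (π (k := k) n v) = π (k := k) n (p0 (π (k := k) n v)) := by
    intro n v
    simp only [q, LinearMap.comp_apply, coact_π, Ξ, TensorProduct.lift.tmul,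
      LinearMap.flip_apply, hΦ]
  have hπq : ∀ (n : M) (v : V), π (k := k) n (q v) = π (k := k) n (p0 (π (k := k) n v)) := by
    intro n v
    obtain ⟨c, hc1, hc2⟩ := exists_expansion (k := k) (M := M) v
    rw [hq_exp v c hc1 hc2, Finsupp.sum, map_sum, Finset.sum_eq_single n]
    · rw [π_π, if_pos rfl, hc1 n]
    · intro m _ hmn
      rw [π_π, if_neg (Ne.symm hmn)]
    · intro hn
      rw [Finsupp.notMem_support_iff.1 hn, map_zero, map_zero, map_zero]
  let qW : V →ₗ[k] W := LinearMap.codRestrict W q hqW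
  have hqW' : ∀ x : W, qW x = x := fun x => Subtype.ext (hqid x.1 x.2)
  refine ⟨LinearMap.ker qW, ?_, LinearMap.isCompl_of_proj hqW'⟩
  intro v hv
  have hv0 : q v = 0 := by
    have : qW v = 0 := hv
    exact congrArg Subtype.val this
  obtain ⟨c, hc1, hc2⟩ := exists_expansion (k := k) (M := M) v
  have hcker : ∀ m, c m ∈ LinearMap.ker qW := by
    intro m
    rw [LinearMap.mem_ker]
    apply Subtype.ext
    show q (c m) = 0
    rw [hc1 m, hqπ, ← hπq, hv0, map_zero]
  rw [hc2, Finsupp.sum]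
  refine Submodule.sum_mem _ fun m _ => ?_
  exact ⟨(⟨c m, hcker m⟩ : LinearMap.ker qW) ⊗ₜ MonoidAlgebra.single m 1, by simp⟩

end Main
end Groth.Agent.Helper2.ComodDiag
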