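import Mathlib
import Groth.Prelude.Def_ComodSub
import Groth.Agent.Helper2.ComodGen
import Groth.Agent.Helper2.UnipPoints
import Groth.Prelude.Def_ComodSub
import Groth.Agent.Helper2.ComodGen
import Groth.Agent.Helper2.UnipPoints
import Groth.Agent.Helper2.UnipFlag

set_option autoImplicit false
universe u v
open TensorProduct Groth.Agent.Helper2.ComodGen Groth.Agent.Helper2.UnipPoints Groth.Agent.Helper2.UnipFlag

namespace Groth.Agent.Helper2.UnipFlag1

section Lin
variable {k : Type u} [Field k] {V : Type v} [AddCommGroup V] [Module k V] [Module.Finite k V]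

lemma finrank_comap_mkQ (W : Submodule k V) (U : Submodule k (V ⧸ W)) :
    Module.finrank k (U.comap W.mkQ) = Module.finrank k U + Module.finrank k W := by
  set S := U.comap W.mkQ with hS
  have hWS : W ≤ S := by
    intro w hw
    show W.mkQ w ∈ U
    rw [Submodule.mkQ_apply, (Submodule.Quotient.mk_eq_zero W).2 hw]
    exact U.zero_mem
  let f : S →ₗ[k] (V ⧸ W) := W.mkQ ∘ₗ S.subtype
  have h1 := LinearMap.finrank_range_add_finrank_ker f
  have hr : LinearMap.range f = U := by
    rw [LinearMap.range_comp, Submodule.range_subtype, hS,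
      Submodule.map_comap_eq_of_surjective W.mkQ_surjective]
  have hk : LinearMap.ker f = W.comap S.subtype := by
    rw [LinearMap.ker_comp, Submodule.ker_mkQ]
  rw [hr, hk, (Submodule.comapSubtypeEquivOfLe hWS).finrank_eq] at h1
  exact h1.symm

end Lin

variable {k : Type u} {A : Type v} [Field k] [CommRing A] [HopfAlgebra k A]

lemma flag1_aux (hU : HopfRep.IsUnipotent k A) (n : ℕ) :
    ∀ (V : Type v) [AddCommGroup V] [Module k V] [Module.Finite k V] [HopfRep.Comod k A V],
      Module.finrank k V = n →
      ∃ F : ℕ → Submodule k V, F 0 = ⊥ ∧ F n = ⊤ ∧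
        (∀ i, HopfRep.IsSubcomod (k := k) (A := A) (F i)) ∧
        ∀ i, i < n → F i ≤ F (i + 1) ∧
          Module.finrank k (F (i + 1)) = Module.finrank k (F i) + 1 ∧
          ∀ v ∈ F (i + 1), HopfRep.Comod.coact (k := k) (A := A) v - v ⊗ₜ[k] (1 : A) ∈
            LinearMap.range ((F i).subtype.rTensor A) := by
  induction n with
  | zero =>
    intro V _ _ _ c hn
    haveI : Subsingleton V := Module.finrank_zero_iff.1 hn
    refine ⟨fun _ => ⊥, rfl, Subsingleton.elim _ _, ?_, ?_⟩
    · intro i v hv
      have : v = 0 := hv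
      rw [this, map_zero]; exact Submodule.zero_mem _
    · intro i hi
      omega
  | succ n ih =>
    intro V _ _ _ c hn
    haveI hV : Nontrivial V := Module.nontrivial_of_finrank_pos (R := k) (by omega)
    have hW0 := hU V inferInstance hV
    obtain ⟨v0, hv0mem, hv0⟩ := (Submodule.ne_bot_iff _).1 hW0
    have hv0fix : HopfRep.Comod.coact (k := k) (A := A) v0 = v0 ⊗ₜ[k] (1 : A) := hv0mem
    set W : Submodule k V := Submodule.span k {v0} with hWdef
    have hWfix : ∀ w ∈ W, HopfRep.Comod.coact (k := k) (A := A) w = w ⊗ₜ[k] (1 : A) := by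
      intro w hw
      obtain ⟨a, rfl⟩ := Submodule.mem_span_singleton.1 hw
      rw [map_smul, hv0fix, TensorProduct.smul_tmul']
    have hsub : HopfRep.IsSubcomod (k := k) (A := A) W := by
      intro w hw
      rw [hWfix w hw]
      exact ⟨(⟨w, hw⟩ : W) ⊗ₜ (1 : A), by simp⟩
    have hWrank : Module.finrank k W = 1 := finrank_span_singleton hv0
    letI cq : HopfRep.Comod k A (V ⧸ W) := ComodSub.Comod.quot c W hsub
    have hqrank : Module.finrank k (V ⧸ W) = n := by
      have h1 := Submodule.finrank_quotient_add_finrank W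
      omega
    obtain ⟨F', hF0, hFn, hFsub, hFstep⟩ := ih (V ⧸ W) hqrank
    have hq : ∀ v : V, HopfRep.Comod.coact (k := k) (A := A) (W.mkQ v) =
        W.mkQ.rTensor A (HopfRep.Comod.coact (k := k) (A := A) v) := fun v => rfl
    let F : ℕ → Submodule k V := fun i => Nat.casesOn i ⊥ (fun j => (F' j).comap W.mkQ)
    have hFs : ∀ j, F (j + 1) = (F' j).comap W.mkQ := fun j => rfl
    have hF1 : F 1 = W := by
      show (F' 0).comap W.mkQ = W
      rw [hF0]
      exact Submodule.ker_mkQ W
    refine ⟨F, rfl, ?_, ?_, ?_⟩
    · rw [hFs, hFn]; rfl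
    · intro i
      cases i with
      | zero =>
        intro v hv
        have : v = 0 := hv
        rw [this, map_zero]; exact Submodule.zero_mem _
      | succ j =>
        intro v hv
        apply mem_range_comap
        rw [← hq]
        exact hFsub j _ hv
    · intro i hi
      cases i with
      | zero =>
        refine ⟨bot_le, ?_, ?_⟩
        · have e1 : F (0 + 1) = W := hF1
          have e0 : F 0 = ⊥ := rfl
          rw [e1, e0, hWrank, finrank_bot]
        · intro v hv
          have hv' : v ∈ W := by rw [← hF1]; exact hv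
          rw [hWfix v hv', sub_self]; exact Submodule.zero_mem _
      | succ j =>
        obtain ⟨hle, hrk, hgr⟩ := hFstep j (by omega)
        refine ⟨Submodule.comap_mono hle, ?_, ?_⟩
        · rw [hFs, hFs, finrank_comap_mkQ, finrank_comap_mkQ, hrk]
          omega
        · intro v hv
          apply mem_range_comap
          have := hgr (W.mkQ v) hv
          rw [hq] at this
          rw [map_sub, LinearMap.rTensor_tmul]
          exact this

end Groth.Agent.Helper2.UnipFlag1
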