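import Mathlib
import Groth.Prelude.Def_ComodSub
import Groth.Agent.Helper2.ComodGen
import Groth.Agent.Helper2.UnipFlag
import Groth.Prelude.Def_ComodSub
import Groth.Agent.Helper2.ComodGen
import Groth.Agent.Helper2.UnipFlag
import Groth.Agent.Helper2.UnipFlag1

set_option autoImplicit false
universe u v
open TensorProduct Groth.Agent.Helper2.ComodGen Groth.Agent.Helper2.UnipFlag Groth.Agent.Helper2.UnipFlag1

namespace Groth.Agent.Helper2.TrigFlag

variable {k : Type u} [Field k] {A : Type v} [CommRing A] [Bialgebra k A]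

lemma isSubcomod_top (V : Type v) [AddCommGroup V] [Module k V] [HopfRep.Comod k A V] :
    HopfRep.IsSubcomod (k := k) (A := A) (⊤ : Submodule k V) := by
  intro v _
  have : Function.Surjective ((⊤ : Submodule k V).subtype.rTensor A) := by
    apply LinearMap.rTensor_surjective
    intro x
    exact ⟨⟨x, trivial⟩, rfl⟩
  exact LinearMap.mem_range.2 (this _)

lemma isSubcomod_bot (V : Type v) [AddCommGroup V] [Module k V] [HopfRep.Comod k A V] :
    HopfRep.IsSubcomod (k := k) (A := A) (⊥ : Submodule k V) := by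
  intro v hv
  have : v = 0 := hv
  rw [this, map_zero]; exact Submodule.zero_mem _

/-- a subcomodule of a subcomodule (with restricted structure) is a subcomodule -/
lemma isSubcomod_map_of_restr (V : Type v) [AddCommGroup V] [Module k V] [c : HopfRep.Comod k A V]
    (W : Submodule k V) (hW : HopfRep.IsSubcomod (k := k) (A := A) W)
    (W' : Submodule k W)
    (hW' : @HopfRep.IsSubcomod k A _ _ _ _ W _ _ (ComodSub.Comod.restr c W hW) W') :
    HopfRep.IsSubcomod (k := k) (A := A) (W'.map W.subtype) := by
  rintro _ ⟨w', hw', rfl⟩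
  obtain ⟨s, hs⟩ := hW' w' hw'
  have h1 := ComodSub.restr_coact_coe c W hW w'
  have h2 : HopfRep.Comod.coact (k := k) (A := A) (W.subtype w') =
      (W.subtype.rTensor A) ((W'.subtype.rTensor A) s) := by
    rw [hs]; exact h1.symm
  rw [h2, ← LinearMap.comp_apply, ← LinearMap.rTensor_comp]
  let e : W' →ₗ[k] (W'.map W.subtype) :=
    (W.subtype ∘ₗ W'.subtype).codRestrict _ (fun x => ⟨x.1, x.2, rfl⟩)
  have he : W.subtype ∘ₗ W'.subtype = (W'.map W.subtype).subtype ∘ₗ e := by
    ext x; rfl
  rw [he, LinearMap.rTensor_comp, LinearMap.comp_apply]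
  exact ⟨_, rfl⟩

lemma exists_line (hT : HopfRep.IsTrigonalizable k A) (V : Type v) [AddCommGroup V] [Module k V]
    [Module.Finite k V] [c : HopfRep.Comod k A V] [Nontrivial V] :
    ∃ W : Submodule k V, HopfRep.IsSubcomod (k := k) (A := A) W ∧ Module.finrank k W = 1 := by
  classical
  -- minimal nonzero subcomodule
  have hex : ∃ d : ℕ, ∃ W : Submodule k V, HopfRep.IsSubcomod (k := k) (A := A) W ∧ W ≠ ⊥ ∧
      Module.finrank k W = d := ⟨_, ⊤, isSubcomod_top V, top_ne_bot, rfl⟩
  obtain ⟨W, hW, hWne, hWd⟩ := Nat.find_spec hex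
  have hmin : ∀ U : Submodule k V, HopfRep.IsSubcomod (k := k) (A := A) U → U ≠ ⊥ → U ≤ W →
      U = W := by
    intro U hU hUne hUW
    have h1 : Nat.find hex ≤ Module.finrank k U := Nat.find_min' hex ⟨U, hU, hUne, rfl⟩
    exact Submodule.eq_of_le_of_finrank_le hUW (by rw [hWd]; exact h1)
  refine ⟨W, hW, ?_⟩
  haveI : Nontrivial W := (Submodule.nontrivial_iff_ne_bot).2 hWne
  letI cW : HopfRep.Comod k A W := ComodSub.Comod.restr c W hW
  apply hT W inferInstance
  refine ⟨inferInstance, ?_⟩
  intro W' hW'
  by_cases hW'0 : W' = ⊥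
  · exact Or.inl hW'0
  · right
    have hU := isSubcomod_map_of_restr V W hW W' hW'
    have hUne : W'.map W.subtype ≠ ⊥ := by
      intro h
      apply hW'0
      rw [eq_bot_iff]
      intro w hw
      have h1 : W.subtype w ∈ W'.map W.subtype := ⟨w, hw, rfl⟩
      rw [h] at h1
      have h2 : (w : V) = 0 := h1
      exact Subtype.ext h2
    have hUW : W'.map W.subtype ≤ W := by
      rintro _ ⟨w', _, rfl⟩
      exact w'.2
    have := hmin _ hU hUne hUW
    rw [eq_top_iff]
    intro w _
    have hw : (w : V) ∈ W'.map W.subtype := by rw [this]; exact w.2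
    obtain ⟨w'', hw'', heq⟩ := hw
    have : w'' = w := Subtype.ext heq
    rw [← this]; exact hw''

lemma flagT_aux (hT : HopfRep.IsTrigonalizable k A) (n : ℕ) :
    ∀ (V : Type v) [AddCommGroup V] [Module k V] [Module.Finite k V] [HopfRep.Comod k A V],
      Module.finrank k V = n →
      ∃ F : ℕ → Submodule k V, Monotone F ∧ (∀ i, HopfRep.IsSubcomod (k := k) (A := A) (F i)) ∧
        ∀ i, i ≤ n → Module.finrank k (F i) = i := by
  induction n with
  | zero =>
    intro V _ _ _ c hn
    refine ⟨fun _ => ⊥, monotone_const, fun _ => isSubcomod_bot V, ?_⟩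
    intro i hi
    have : i = 0 := by omega
    rw [this, finrank_bot]
  | succ n ih =>
    intro V _ _ _ c hn
    haveI hV : Nontrivial V := Module.nontrivial_of_finrank_pos (R := k) (by omega)
    obtain ⟨W, hsub, hWrank⟩ := exists_line hT V
    letI cq : HopfRep.Comod k A (V ⧸ W) := ComodSub.Comod.quot c W hsub
    have hqrank : Module.finrank k (V ⧸ W) = n := by
      have h1 := Submodule.finrank_quotient_add_finrank W
      omega
    obtain ⟨F', hmono, hFsub, hFrk⟩ := ih (V ⧸ W) hqrank
    have hq : ∀ v : V, HopfRep.Comod.coact (k := k) (A := A) (W.mkQ v) =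
        W.mkQ.rTensor A (HopfRep.Comod.coact (k := k) (A := A) v) := fun v => rfl
    let F : ℕ → Submodule k V := fun i => Nat.casesOn i ⊥ (fun j => (F' j).comap W.mkQ)
    have hFs : ∀ j, F (j + 1) = (F' j).comap W.mkQ := fun j => rfl
    refine ⟨F, ?_, ?_, ?_⟩
    · apply monotone_nat_of_le_succ
      intro i
      cases i with
      | zero => exact bot_le
      | succ j => exact Submodule.comap_mono (hmono (Nat.le_succ j))
    · intro i
      cases i with
      | zero => exact isSubcomod_bot V
      | succ j =>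
        intro v hv
        apply mem_range_comap
        rw [← hq]
        exact hFsub j _ hv
    · intro i hi
      cases i with
      | zero =>
        have e0 : F 0 = ⊥ := rfl
        rw [e0, finrank_bot]
      | succ j =>
        rw [hFs, finrank_comap_mkQ, hFrk j (by omega), hWrank]

end Groth.Agent.Helper2.TrigFlag
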