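import Mathlib
import Groth.Prelude.Def_SGA3b
import Groth.Agent.Helper2.CocommStr6
import Groth.Agent.Helper2.TrigChar
import Groth.Agent.Helper2.TorsDense
import Groth.Agent.Helper2.SocleDVR

set_option autoImplicit false
universe u u' v w
open TensorProduct

namespace Groth.Agent.Helper2.CocommStr

open Groth.Agent.Helper2.ComodGen Groth.Agent.Helper2.SocleFilt Groth.Agent.Helper2.CocommTrig
  Groth.Agent.Helper2.UnipPrim Groth.Agent.Helper2.TakExt

section JZ

variable (k : Type u) [Field k] (A : Type v) [CommRing A] [HopfAlgebra k A]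
  [Coalgebra.IsCocomm k A]

/-- the ideal of the largest subgroup of multiplicative type -/
noncomputable def JZ : Ideal A :=
  letI := hopfZU k A
  Ideal.map (inclZU k A : ZU k A →+* A) (RingHom.ker (Bialgebra.counitAlgHom k (ZU k A)))

instance : (JZ k A).IsHopfIdeal k := by
  letI := hopfZU k A
  exact Groth.Agent.Helper2.TrigChar.isHopfIdeal_map_aug (inclZU k A)

variable {k A}

lemma sub_counit_mem_JZ {b : A} (hb : b ∈ ZU k A) :
    b - algebraMap k A (Coalgebra.counit (R := k) b) ∈ JZ k A := by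
  letI := hopfZU k A
  have h1 : (⟨b, hb⟩ : ZU k A) - algebraMap k (ZU k A) (Coalgebra.counit (R := k) b) ∈
      RingHom.ker (Bialgebra.counitAlgHom k (ZU k A)) := by
    rw [RingHom.mem_ker, map_sub, AlgHom.commutes, Bialgebra.counitAlgHom_apply]
    have : Coalgebra.counit (R := k) (⟨b, hb⟩ : ZU k A) = Coalgebra.counit (R := k) b := rfl
    rw [this]
    simp
  have h2 := Ideal.mem_map_of_mem (inclZU k A : ZU k A →+* A) h1
  have h3 : (inclZU k A : ZU k A →+* A)
      ((⟨b, hb⟩ : ZU k A) - algebraMap k (ZU k A) (Coalgebra.counit (R := k) b)) =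
      b - algebraMap k A (Coalgebra.counit (R := k) b) := by
    rw [map_sub]
    rfl
  rw [h3] at h2
  exact h2

lemma JZ_le {I : Ideal A}
    (h : ∀ b ∈ ZU k A, b - algebraMap k A (Coalgebra.counit (R := k) b) ∈ I) : JZ k A ≤ I := by
  letI := hopfZU k A
  unfold JZ
  rw [Ideal.map_le_iff_le_comap]
  intro x hx
  rw [Ideal.mem_comap]
  have hx0 : Coalgebra.counit (R := k) (x : A) = 0 := hx
  have := h x x.2
  rw [hx0, map_zero, sub_zero] at this
  exact this

end JZ


section diagJ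

variable {k : Type u} [Field k] (K : Type u') [Field K] [Algebra k K]
  {A : Type v} [CommRing A] [HopfAlgebra k A] [Coalgebra.IsCocomm k A]

/-- the image of a conilpotent element of `K ⊗ A` in `K ⊗ A/J` is a constant -/
lemma lTensor_mk_of_mem_ZU {u : K ⊗[k] A} (hu : u ∈ ZU K (K ⊗[k] A)) :
    (Ideal.Quotient.mkₐ k (JZ k A)).toLinearMap.lTensor K u =
      Coalgebra.counit (R := K) u • (1 : K ⊗[k] (A ⧸ JZ k A)) := by
  rw [← sub_eq_zero]
  apply eq_zero_of_lamM
  intro l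
  rw [map_sub, lamM_lTensor, Algebra.TensorProduct.one_def, TensorProduct.smul_tmul',
    smul_eq_mul, mul_one, lamM_tmul, ← counit_lamM]
  set v := lamM (M := A) l u with hv
  have hvZ : v ∈ ZU k A := lamM_mem_ZU K hu l
  have h1 := sub_counit_mem_JZ hvZ
  have h2 : (Ideal.Quotient.mkₐ k (JZ k A)) (v - algebraMap k A (Coalgebra.counit (R := k) v)) = 0 :=
    Ideal.Quotient.eq_zero_iff_mem.mpr h1
  rw [map_sub, AlgHom.commutes, Algebra.algebraMap_eq_smul_one] at h2
  exact h2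

variable [IsAlgClosed K]

/-- `A/J` becomes diagonalizable over an algebraically closed extension -/
theorem isDiagonalizable_quot_JZ :
    HopfRep.IsDiagonalizable K (K ⊗[k] (A ⧸ JZ k A)) := by
  let π : K ⊗[k] A →ₐc[K] K ⊗[k] (A ⧸ JZ k A) :=
    Bialgebra.TensorProduct.map (BialgHom.id K K) (Bialgebra.Quotient.mkBialgHom (JZ k A))
  have hπ : ∀ y, π y = (Ideal.Quotient.mkₐ k (JZ k A)).toLinearMap.lTensor K y := by
    intro y
    induction y using TensorProduct.induction_on with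
    | zero => simp
    | add x y hx hy => rw [map_add, map_add, hx, hy]
    | tmul c a => rfl
  have hsurj : Function.Surjective π := by
    intro z
    obtain ⟨y, hy⟩ := LinearMap.lTensor_surjective K
      (g := (Ideal.Quotient.mkₐ k (JZ k A)).toLinearMap) (Ideal.Quotient.mkₐ_surjective k _) z
    exact ⟨y, by rw [hπ, hy]⟩
  rw [HopfRep.IsDiagonalizable, eq_top_iff]
  intro z _
  obtain ⟨y, rfl⟩ := hsurj z
  have hy := mem_T (K := K) y
  unfold T at hy
  refine Submodule.span_induction (p := fun y _ => π y ∈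
    Submodule.span K {a : K ⊗[k] (A ⧸ JZ k A) | IsGroupLikeElem K a}) ?_ ?_ ?_ ?_ hy
  · rintro _ ⟨g, u, hg, hu, rfl⟩
    rw [map_mul, hπ u, lTensor_mk_of_mem_ZU K hu, mul_smul_comm, mul_one]
    exact Submodule.smul_mem _ _ (Submodule.subset_span (hg.map π))
  · rw [map_zero]; exact zero_mem _
  · intro x y _ _ hx hy
    rw [map_add]; exact add_mem hx hy
  · intro c x _ hx
    rw [map_smul]; exact Submodule.smul_mem _ _ hx

end diagJ


section minimal

open Groth.Agent.Helper2.MultTypeSemi Groth.Agent.Helper2.DiagSpan Groth.Agent.Helper2.TorsDense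

variable {k : Type u} [Field k] {A : Type u} [CommRing A] [HopfAlgebra k A]
  [Coalgebra.IsCocomm k A]

/-- `J` lies in every Hopf ideal whose quotient is of multiplicative type -/
theorem JZ_le_of_isMultTypeConst (I : Ideal A) [I.IsHopfIdeal k]
    (hI : SGA3b.IsMultTypeConst k (A ⧸ I)) : JZ k A ≤ I := by
  obtain ⟨R₀, _, _, hff, M₀, _, ⟨e⟩⟩ := hI
  haveI := hff
  haveI : Nontrivial R₀ := (TensorProduct.rid k R₀).symm.toEquiv.nontrivial
  obtain ⟨𝔪, h𝔪⟩ := Ideal.exists_maximal R₀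
  letI : Field (R₀ ⧸ 𝔪) := Ideal.Quotient.field 𝔪
  have hspan : Submodule.span (R₀ ⧸ 𝔪)
      {a : (R₀ ⧸ 𝔪) ⊗[k] (A ⧸ I) | IsGroupLikeElem (R₀ ⧸ 𝔪) a} = ⊤ :=
    span_groupLike_bc (L := k) (R₀ := R₀) (K := R₀ ⧸ 𝔪)
      Ideal.Quotient.mk_surjective (BialgHom.id _ _) Function.surjective_id e
  have hd : HopfRep.IsDiagonalizable (R₀ ⧸ 𝔪) ((R₀ ⧸ 𝔪) ⊗[k] (A ⧸ I)) := hspan
  apply JZ_le
  intro b hb
  obtain ⟨r, hr⟩ := hb
  let θ₂ : A ⧸ I →ₐ[k] (R₀ ⧸ 𝔪) ⊗[k] (A ⧸ I) := Algebra.TensorProduct.includeRight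
  have hθ₂ : IsSemiCoalg k (R₀ ⧸ 𝔪) θ₂ := isSemiCoalg_includeRight k (R₀ ⧸ 𝔪) (A ⧸ I)
  have h0 : Ideal.Quotient.mk I b ∈ Z k (A ⧸ I) (A ⧸ I) r :=
    Groth.Agent.Helper2.UnipPrim.map_mem_Z (Bialgebra.Quotient.mkBialgHom I) r b hr
  have h1 : θ₂ (Ideal.Quotient.mk I b) ∈
      Z (R₀ ⧸ 𝔪) ((R₀ ⧸ 𝔪) ⊗[k] (A ⧸ I)) ((R₀ ⧸ 𝔪) ⊗[k] (A ⧸ I)) r :=
    Groth.Agent.Helper2.SocleFilt.map_mem_Z hθ₂ r _ h0
  have h2 := mem_ZU_noPrim (noPrim_of_diag hd) (a := θ₂ (Ideal.Quotient.mk I b)) ⟨r, h1⟩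
  rw [hθ₂.counit, Bialgebra.Quotient.counit_mk] at h2
  have h3 : θ₂ (Ideal.Quotient.mk I (b - algebraMap k A (Coalgebra.counit (R := k) b))) = 0 := by
    rw [map_sub, map_sub, h2]
    have e1 : Ideal.Quotient.mk I (algebraMap k A (Coalgebra.counit (R := k) b)) =
        algebraMap k (A ⧸ I) (Coalgebra.counit (R := k) b) := rfl
    rw [e1, AlgHom.commutes, algebraMap_smul, ← Algebra.algebraMap_eq_smul_one, sub_self]
  have hinj : Function.Injective θ₂ :=
    Algebra.TensorProduct.includeRight_injective (algebraMap k (R₀ ⧸ 𝔪)).injective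
  have h4 : Ideal.Quotient.mk I (b - algebraMap k A (Coalgebra.counit (R := k) b)) = 0 := by
    apply hinj
    rw [map_zero]
    exact h3
  exact Ideal.Quotient.eq_zero_iff_mem.mp h4

end minimal


section main

open Groth.Agent.Helper2.DiagSpan

theorem s4130 (k : Type u) [Field k]
    (A : Type u) [CommRing A] [HopfAlgebra k A] [Algebra.FiniteType k A] [Coalgebra.IsCocomm k A] :
    ∃ (J : Ideal A) (_ : J.IsHopfIdeal k), SGA3b.IsMultTypeConst k (A ⧸ J) ∧
      (∀ (I : Ideal A) [I.IsHopfIdeal k], SGA3b.IsMultTypeConst k (A ⧸ I) → J ≤ I) ∧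
      ∃ (B : Type u) (_ : CommRing B) (_ : HopfAlgebra k B) (φ : B →ₐc[k] A), Function.Injective φ ∧
        J = Ideal.map (φ : B →+* A) (RingHom.ker (Bialgebra.counitAlgHom k B)) ∧
          HopfRep.IsUnipotent k B := by
  refine ⟨JZ k A, inferInstance, ?_, ?_, ?_⟩
  · refine ⟨AlgebraicClosure k, inferInstance, inferInstance, inferInstance, ?_⟩
    exact isDiag_of_span_groupLike (AlgebraicClosure k) _
      (isDiagonalizable_quot_JZ (AlgebraicClosure k))
  · intro I _ hI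
    exact JZ_le_of_isMultTypeConst I hI
  · exact ⟨ZU k A, inferInstance, hopfZU k A, inclZU k A, inclZU_injective k A, rfl,
      isUnipotent_ZU k A⟩

end main

end Groth.Agent.Helper2.CocommStr
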