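import Mathlib
import Groth.Agent.Helper2.CocommStr7
import Groth.Agent.Helper2.TrigChar

set_option autoImplicit false
universe u u' v w
open TensorProduct

namespace Groth.Agent.Helper2.CocommStr

open Groth.Agent.Helper2.ComodGen Groth.Agent.Helper2.SocleFilt Groth.Agent.Helper2.CocommTrig
  Groth.Agent.Helper2.UnipPrim Groth.Agent.Helper2.TakExt

section DG

variable (K : Type u) [Field K] (A : Type v) [CommRing A] [HopfAlgebra K A]

/-- the span of the group-like elements -/
def DG : Submodule K A := Submodule.span K (Set.range (GroupLike.val (R := K) (A := A)))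

variable {K A} in
lemma groupLike_mem_DG {g : A} (hg : IsGroupLikeElem K g) : g ∈ DG K A :=
  Submodule.subset_span ⟨⟨g, hg⟩, rfl⟩

variable {K A}

lemma one_mem_DG : (1 : A) ∈ DG K A := groupLike_mem_DG (IsGroupLikeElem.one)

lemma mul_mem_DG {x y : A} (hx : x ∈ DG K A) (hy : y ∈ DG K A) : x * y ∈ DG K A := by
  unfold DG at hx hy
  refine Submodule.span_induction (p := fun x _ => x * y ∈ DG K A) ?_ ?_ ?_ ?_ hx
  · rintro _ ⟨γ, rfl⟩
    refine Submodule.span_induction (p := fun y _ => γ.val * y ∈ DG K A) ?_ ?_ ?_ ?_ hy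
    · rintro _ ⟨γ', rfl⟩
      exact groupLike_mem_DG (IsGroupLikeElem.mul γ.2 γ'.2)
    · rw [mul_zero]; exact zero_mem _
    · intro a b _ _ ha hb
      rw [mul_add]; exact add_mem ha hb
    · intro c a _ ha
      rw [mul_smul_comm]; exact Submodule.smul_mem _ _ ha
  · rw [zero_mul]; exact zero_mem _
  · intro a b _ _ ha hb
    rw [add_mul]; exact add_mem ha hb
  · intro c a _ ha
    rw [smul_mul_assoc]; exact Submodule.smul_mem _ _ ha

lemma RopV_groupLike' (θ : A →ₗ[K] K) {g : A} (hg : IsGroupLikeElem K g) :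
    RopV (V := A) θ g = θ g • g := by
  show (TensorProduct.rid K A) (θ.lTensor A (Coalgebra.comul (R := K) g)) = _
  rw [hg.comul_eq_tmul_self]
  simp

lemma RopV_mem_DG (θ : A →ₗ[K] K) {x : A} (hx : x ∈ DG K A) : RopV (V := A) θ x ∈ DG K A := by
  unfold DG at hx
  refine Submodule.span_induction (p := fun x _ => RopV (V := A) θ x ∈ DG K A) ?_ ?_ ?_ ?_ hx
  · rintro _ ⟨γ, rfl⟩
    rw [RopV_groupLike' θ γ.2]
    exact Submodule.smul_mem _ _ (groupLike_mem_DG γ.2)
  · rw [map_zero]; exact zero_mem _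
  · intro a b _ _ ha hb
    rw [map_add]; exact add_mem ha hb
  · intro c a _ ha
    rw [map_smul]; exact Submodule.smul_mem _ _ ha

lemma antipode_mem_DG {x : A} (hx : x ∈ DG K A) : HopfAlgebra.antipode K x ∈ DG K A := by
  unfold DG at hx
  refine Submodule.span_induction (p := fun x _ => HopfAlgebra.antipode K x ∈ DG K A) ?_ ?_ ?_ ?_ hx
  · rintro _ ⟨γ, rfl⟩
    exact groupLike_mem_DG γ.2.antipode
  · rw [map_zero]; exact zero_mem _
  · intro a b _ _ ha hb
    rw [map_add]; exact add_mem ha hb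
  · intro c a _ ha
    rw [map_smul]; exact Submodule.smul_mem _ _ ha

end DG

section IND

variable {K : Type u} [Field K] {A : Type v} [CommRing A] [HopfAlgebra K A]

lemma Nop_pow_eq_zero (ψ : A →ₗ[K] K) : ∀ (r : ℕ) (a : A), a ∈ Z K A A r → (Nop ψ ^ r) a = 0 := by
  intro r
  induction r with
  | zero =>
    intro a ha
    rw [Z_zero, Submodule.mem_bot] at ha
    rw [ha, map_zero]
  | succ r ih =>
    intro a ha
    rw [pow_succ, Module.End.mul_apply]
    exact ih _ ((mem_Z_succ_iff_Nop r a).mp ha ψ)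

lemma shift_mul_groupLike {g : A} (hg : IsGroupLikeElem K g) (θ : A →ₗ[K] K) (a : A) :
    (RopV (V := A) θ - θ g • (1 : Module.End K A)) (g * a) =
      g * Nop (θ ∘ₗ LinearMap.mulLeft K g) a := by
  rw [LinearMap.sub_apply, LinearMap.smul_apply, Module.End.one_apply, RopV_mul_groupLike hg,
    Nop_apply, mul_sub, mul_smul_comm]
  congr 2
  simp

lemma shift_pow_mul_groupLike {g : A} (hg : IsGroupLikeElem K g) (θ : A →ₗ[K] K) (n : ℕ) (a : A) :
    ((RopV (V := A) θ - θ g • (1 : Module.End K A)) ^ n) (g * a) =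
      g * (Nop (θ ∘ₗ LinearMap.mulLeft K g) ^ n) a := by
  induction n generalizing a with
  | zero => simp
  | succ n ih =>
    rw [pow_succ, Module.End.mul_apply, shift_mul_groupLike hg, ih, pow_succ,
      Module.End.mul_apply]

variable [Coalgebra.IsCocomm K A]

/-- the simultaneous generalized eigenspaces of the operators `RopV θ` are independent -/
lemma indep_RopV :
    iSupIndep fun χ : (A →ₗ[K] K) → K =>
      ⨅ θ, Module.End.maxGenEigenspace (RopV (V := A) θ : Module.End K A) (χ θ) := by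
  apply Module.End.independent_iInf_maxGenEigenspace_of_forall_mapsTo
  intro θ θ' φ
  apply Module.End.mapsTo_maxGenEigenspace_of_comm
  apply LinearMap.ext
  intro a
  exact RopV_comm (k := K) (C := A) (V := A) θ' θ a

lemma mul_mem_genEigen {g : A} (hg : IsGroupLikeElem K g) {a : A} (ha : a ∈ ZU K A) :
    g * a ∈ ⨅ θ : A →ₗ[K] K, Module.End.maxGenEigenspace (RopV (V := A) θ : Module.End K A) (θ g) := by
  rw [Module.End.mem_iInf_maxGenEigenspace_iff (f := fun θ : A →ₗ[K] K =>
    (RopV (V := A) θ : Module.End K A)) (χ := fun θ => θ g)]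
  intro θ
  obtain ⟨r, hr⟩ := ha
  refine ⟨r, ?_⟩
  rw [shift_pow_mul_groupLike hg, Nop_pow_eq_zero _ r a hr, mul_zero]

/-- **Independence**: a sum `Σ g * u g` over distinct group-like elements with conilpotent `u g`
vanishes only if all `u g` vanish. -/
theorem IND (s : Finset (GroupLike K A)) (u : GroupLike K A → A)
    (hu : ∀ γ ∈ s, u γ ∈ ZU K A) (h0 : ∑ γ ∈ s, γ.val * u γ = 0) : ∀ γ ∈ s, u γ = 0 := by
  classical
  intro g₀ hg₀
  set W : ((A →ₗ[K] K) → K) → Submodule K A := fun χ =>
    ⨅ θ, Module.End.maxGenEigenspace (RopV (V := A) θ : Module.End K A) (χ θ) with hW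
  have hind : iSupIndep W := indep_RopV
  have hmem : ∀ γ ∈ s, γ.val * u γ ∈ W (fun θ => θ γ.val) :=
    fun γ hγ => mul_mem_genEigen γ.2 (hu γ hγ)
  have hinj : ∀ γ ∈ s, γ ≠ g₀ → (fun θ : A →ₗ[K] K => θ γ.val) ≠ (fun θ => θ g₀.val) := by
    intro γ _ hne h
    apply hne
    apply GroupLike.val_injective
    rw [← sub_eq_zero, ← Module.forall_dual_apply_eq_zero_iff K]
    intro θ
    rw [map_sub, sub_eq_zero]
    exact congrFun h θ
  have h1 : g₀.val * u g₀ = - ∑ γ ∈ s.erase g₀, γ.val * u γ := by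
    rw [← Finset.add_sum_erase s _ hg₀] at h0
    exact eq_neg_of_add_eq_zero_left h0
  have h2 : g₀.val * u g₀ ∈ ⨆ (χ) (_ : χ ≠ (fun θ : A →ₗ[K] K => θ g₀.val)), W χ := by
    rw [h1]
    apply neg_mem
    apply Submodule.sum_mem
    intro γ hγ
    rw [Finset.mem_erase] at hγ
    exact Submodule.mem_iSup_of_mem _ (Submodule.mem_iSup_of_mem (hinj γ hγ.2 hγ.1) (hmem γ hγ.2))
  have h3 := Submodule.disjoint_def.mp (hind (fun θ => θ g₀.val)) _ (hmem g₀ hg₀) h2
  exact (g₀.2.isUnit.mul_right_eq_zero).mp h3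

/-- the multiplication map from `DG ⊗ ZU` -/
noncomputable def Psi : (DG K A) ⊗[K] (Subalgebra.toSubmodule (ZU K A)) →ₗ[K] A :=
  LinearMap.mul' K A ∘ₗ TensorProduct.map (DG K A).subtype (Subalgebra.toSubmodule (ZU K A)).subtype

@[simp] lemma Psi_tmul (d : DG K A) (z : Subalgebra.toSubmodule (ZU K A)) :
    Psi (d ⊗ₜ[K] z) = (d : A) * (z : A) := by
  simp [Psi]

theorem Psi_injective : Function.Injective (Psi (K := K) (A := A)) := by
  classical
  rw [injective_iff_map_eq_zero]
  intro t ht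
  set e : Module.Basis (GroupLike K A) K (DG K A) :=
    Module.Basis.span (linearIndep_groupLikeVal (R := K) (A := A)) with he
  set φ := TensorProduct.equivFinsuppOfBasisLeft (N := Subalgebra.toSubmodule (ZU K A)) e with hφ
  have h1 : t = (φ t).sum fun γ z => e γ ⊗ₜ[K] z := by
    rw [← TensorProduct.equivFinsuppOfBasisLeft_symm_apply, ← hφ, LinearEquiv.symm_apply_apply]
  have h2 : Psi t = ∑ γ ∈ (φ t).support, γ.val * ((φ t γ : Subalgebra.toSubmodule (ZU K A)) : A) := by
    conv_lhs => rw [h1, Finsupp.sum, map_sum]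
    apply Finset.sum_congr rfl
    intro γ _
    have hγ : ((e γ : DG K A) : A) = γ.val :=
      congrArg Subtype.val (Module.Basis.span_apply (linearIndep_groupLikeVal (R := K) (A := A)) γ)
    rw [Psi_tmul, hγ]
  rw [ht] at h2
  have h3 := IND (φ t).support (fun γ => ((φ t γ : Subalgebra.toSubmodule (ZU K A)) : A))
    (fun γ _ => (φ t γ).2) h2.symm
  have h4 : φ t = 0 := by
    rw [← Finsupp.support_eq_empty, Finset.eq_empty_iff_forall_notMem]
    intro γ hγ
    have := h3 γ hγ
    rw [Finsupp.mem_support_iff] at hγ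
    apply hγ
    exact Subtype.ext this
  exact (LinearEquiv.map_eq_zero_iff φ).mp h4

theorem Psi_surjective [IsAlgClosed K] : Function.Surjective (Psi (K := K) (A := A)) := by
  intro a
  have ha := mem_T (K := K) a
  unfold T at ha
  have hle : Submodule.span K {x | ∃ g u : A, IsGroupLikeElem K g ∧ u ∈ ZU K A ∧ x = g * u} ≤
      LinearMap.range (Psi (K := K) (A := A)) := by
    rw [Submodule.span_le]
    rintro _ ⟨g, u, hg, hu, rfl⟩
    exact ⟨(⟨g, groupLike_mem_DG hg⟩ : DG K A) ⊗ₜ[K] (⟨u, hu⟩ : Subalgebra.toSubmodule (ZU K A)),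
      by rw [Psi_tmul]⟩
  exact hle ha

end IND

section linalg

variable {K : Type u} [Field K] {M : Type v} [AddCommGroup M] [Module K M]
  {N : Type w} [AddCommGroup N] [Module K N]

/-- a sum `Σ x i ⊗ y i` with linearly independent `x i` vanishes only if all `y i` vanish -/
lemma tmul_indep {ι : Type*} (x : ι → M) (hx : LinearIndependent K x) (y : ι →₀ N)
    (h : ∑ i ∈ y.support, x i ⊗ₜ[K] y i = 0) : y = 0 := by
  classical
  obtain ⟨g, hg⟩ := LinearMap.exists_extend (p := Submodule.span K (Set.range x)) hx.repr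
  have hgx : ∀ i, g (x i) = Finsupp.single i 1 := by
    intro i
    have h1 : g (x i) = hx.repr ⟨x i, Submodule.subset_span (Set.mem_range_self i)⟩ := by
      rw [← hg]; rfl
    rw [h1]
    exact hx.repr_eq_single i _ rfl
  ext j
  have h2 := congrArg ((TensorProduct.lid K N).toLinearMap ∘ₗ (Finsupp.lapply j ∘ₗ g).rTensor N) h
  rw [map_sum, map_zero] at h2
  simp only [LinearMap.coe_comp, LinearEquiv.coe_coe, Function.comp_apply, LinearMap.rTensor_tmul,
    Finsupp.lapply_apply, TensorProduct.lid_tmul, hgx] at h2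
  rw [Finsupp.zero_apply]
  by_cases hj : j ∈ y.support
  · rw [Finset.sum_eq_single j] at h2
    · simpa using h2
    · intro i _ hij
      rw [Finsupp.single_apply, if_neg hij, zero_smul]
    · intro h; exact absurd hj h
  · exact Finsupp.notMem_support_iff.mp hj

/-- finset version -/
lemma tmul_indep' {ι : Type*} (x : ι → M) (hx : LinearIndependent K x) (s : Finset ι) (y : ι → N)
    (h : ∑ i ∈ s, x i ⊗ₜ[K] y i = 0) : ∀ j ∈ s, y j = 0 := by
  classical
  obtain ⟨g, hg⟩ := LinearMap.exists_extend (p := Submodule.span K (Set.range x)) hx.repr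
  have hgx : ∀ i, g (x i) = Finsupp.single i 1 := by
    intro i
    have h1 : g (x i) = hx.repr ⟨x i, Submodule.subset_span (Set.mem_range_self i)⟩ := by
      rw [← hg]; rfl
    rw [h1]
    exact hx.repr_eq_single i _ rfl
  intro j hj
  have h2 := congrArg ((TensorProduct.lid K N).toLinearMap ∘ₗ (Finsupp.lapply j ∘ₗ g).rTensor N) h
  rw [map_sum, map_zero] at h2
  simp only [LinearMap.coe_comp, LinearEquiv.coe_coe, Function.comp_apply, LinearMap.rTensor_tmul,
    Finsupp.lapply_apply, TensorProduct.lid_tmul, hgx] at h2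
  rw [Finset.sum_eq_single j] at h2
  · simpa using h2
  · intro i _ hij
    rw [Finsupp.single_apply, if_neg hij, zero_smul]
  · intro h; exact absurd hj h

end linalg

end Groth.Agent.Helper2.CocommStr
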