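import Mathlib

set_option autoImplicit false
universe u u' v
open TensorProduct

namespace Groth.Agent.Helper2.GalDesc

variable {k : Type u} [Field k] {K : Type u'} [Field K] [Algebra k K]
  {V : Type v} [AddCommGroup V] [Module k V]

/-- the semilinear action of an automorphism of `K` on `K ⊗ V` -/
noncomputable def sig (σ : K ≃ₐ[k] K) : K ⊗[k] V →ₗ[k] K ⊗[k] V := σ.toLinearMap.rTensor V

@[simp] lemma sig_tmul (σ : K ≃ₐ[k] K) (c : K) (v : V) :
    sig σ (c ⊗ₜ[k] v) = σ c ⊗ₜ[k] v := rfl

lemma sig_smul (σ : K ≃ₐ[k] K) (c : K) (y : K ⊗[k] V) : sig σ (c • y) = σ c • sig σ y := by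
  induction y using TensorProduct.induction_on with
  | zero => simp
  | add x y hx hy => simp only [smul_add, map_add, hx, hy]
  | tmul c' v => simp [TensorProduct.smul_tmul']

lemma repr_sig {ι : Type*} (b : Module.Basis ι k V) (σ : K ≃ₐ[k] K) (y : K ⊗[k] V) (i : ι) :
    (b.baseChange K).repr (sig σ y) i = σ ((b.baseChange K).repr y i) := by
  induction y using TensorProduct.induction_on with
  | zero => simp
  | add x y hx hy => simp only [map_add, Finsupp.add_apply, hx, hy]
  | tmul c v =>
    rw [sig_tmul, Module.Basis.baseChange_repr_tmul, Module.Basis.baseChange_repr_tmul, map_smul]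


/-- **Galois descent for subspaces**: a `K`-subspace of `K ⊗ V` stable under the Galois group is
spanned by its rational points. -/
theorem galois_descent [IsGalois k K] (W : Submodule K (K ⊗[k] V))
    (hW : ∀ (σ : K ≃ₐ[k] K), ∀ w ∈ W, sig σ w ∈ W) :
    W ≤ Submodule.span K ((fun v : V => (1 : K) ⊗ₜ[k] v) '' {v | (1 : K) ⊗ₜ[k] v ∈ W}) := by
  classical
  set b := Module.Basis.ofVectorSpace k V with hb
  set bK := b.baseChange K with hbK
  set S := Submodule.span K ((fun v : V => (1 : K) ⊗ₜ[k] v) '' {v | (1 : K) ⊗ₜ[k] v ∈ W}) with hS
  have key : ∀ n : ℕ, ∀ w ∈ W, (bK.repr w).support.card ≤ n → w ∈ S := by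
    intro n
    induction n with
    | zero =>
      intro w _ hc
      have h0 : bK.repr w = 0 := by
        rw [← Finsupp.support_eq_empty, ← Finset.card_eq_zero]
        omega
      have : w = 0 := (LinearEquiv.map_eq_zero_iff _).mp h0
      rw [this]
      exact zero_mem _
    | succ n ih =>
      intro w hw hc
      by_cases hw0 : w = 0
      · rw [hw0]; exact zero_mem _
      set s := (bK.repr w).support with hs
      have hex : ∃ m : ℕ, ∃ w' ∈ W, w' ≠ 0 ∧ (bK.repr w').support ⊆ s ∧
          (bK.repr w').support.card = m := ⟨_, w, hw, hw0, subset_rfl, rfl⟩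
      obtain ⟨w', hw'W, hw'0, hw's, hw'm⟩ := Nat.find_spec hex
      have hmin : ∀ w'' ∈ W, w'' ≠ 0 → (bK.repr w'').support ⊆ s →
          Nat.find hex ≤ (bK.repr w'').support.card :=
        fun w'' h1 h2 h3 => Nat.find_min' hex ⟨w'', h1, h2, h3, rfl⟩
      have hne : (bK.repr w').support.Nonempty := by
        rw [Finset.nonempty_iff_ne_empty, Ne, Finsupp.support_eq_empty]
        intro h0
        exact hw'0 ((LinearEquiv.map_eq_zero_iff _).mp h0)
      obtain ⟨i0, hi0⟩ := hne
      have hc0 : bK.repr w' i0 ≠ 0 := Finsupp.mem_support_iff.mp hi0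
      set w1 := (bK.repr w' i0)⁻¹ • w' with hw1
      have hw1W : w1 ∈ W := Submodule.smul_mem _ _ hw'W
      have hrepr1 : ∀ i, bK.repr w1 i = (bK.repr w' i0)⁻¹ * bK.repr w' i := by
        intro i
        rw [hw1, map_smul, Finsupp.smul_apply, smul_eq_mul]
      have hsupp1 : (bK.repr w1).support = (bK.repr w').support := by
        ext i
        rw [Finsupp.mem_support_iff, Finsupp.mem_support_iff, hrepr1]
        constructor
        · intro h h0
          exact h (by rw [h0, mul_zero])
        · intro h
          exact mul_ne_zero (inv_ne_zero hc0) h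
      have hone : bK.repr w1 i0 = 1 := by rw [hrepr1, inv_mul_cancel₀ hc0]
      have hfix : ∀ σ : K ≃ₐ[k] K, sig σ w1 = w1 := by
        intro σ
        by_contra hne
        have hd0 : sig σ w1 - w1 ≠ 0 := sub_ne_zero.mpr hne
        have hdW : sig σ w1 - w1 ∈ W := sub_mem (hW σ w1 hw1W) hw1W
        have hdr : ∀ i, bK.repr (sig σ w1 - w1) i = σ (bK.repr w1 i) - bK.repr w1 i := by
          intro i
          rw [map_sub, Finsupp.sub_apply, repr_sig]
        have hds : (bK.repr (sig σ w1 - w1)).support ⊆ (bK.repr w').support.erase i0 := by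
          intro i hi
          rw [Finsupp.mem_support_iff, hdr] at hi
          rw [Finset.mem_erase]
          refine ⟨?_, ?_⟩
          · rintro rfl
            apply hi
            rw [hone, map_one, sub_self]
          · rw [← hsupp1, Finsupp.mem_support_iff]
            intro h0
            apply hi
            rw [h0, map_zero, sub_self]
        have h1 := hmin _ hdW hd0 (hds.trans ((Finset.erase_subset _ _).trans hw's))
        have h2 := Finset.card_le_card hds
        rw [Finset.card_erase_of_mem hi0] at h2
        have h3 : 0 < (bK.repr w').support.card := Finset.card_pos.mpr ⟨i0, hi0⟩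
        omega
      have hk : ∀ i, ∃ d : k, algebraMap k K d = bK.repr w1 i := by
        intro i
        have : bK.repr w1 i ∈ Set.range (algebraMap k K) := by
          rw [InfiniteGalois.mem_range_algebraMap_iff_fixed]
          intro σ
          have := repr_sig b σ w1 i
          rw [hfix σ] at this
          exact this.symm
        exact this
      choose d hd using hk
      set v1 : V := ∑ i ∈ (bK.repr w1).support, d i • b i with hv1
      have h1v1 : (1 : K) ⊗ₜ[k] v1 = w1 := by
        conv_rhs => rw [← bK.linearCombination_repr w1, Finsupp.linearCombination_apply,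
          Finsupp.sum]
        rw [hv1, TensorProduct.tmul_sum]
        apply Finset.sum_congr rfl
        intro i _
        rw [← hd i, hbK, Module.Basis.baseChange_apply, TensorProduct.tmul_smul,
          algebraMap_smul]
      have hw1S : w1 ∈ S := by
        apply Submodule.subset_span
        refine ⟨v1, ?_, h1v1⟩
        show (1 : K) ⊗ₜ[k] v1 ∈ W
        rw [h1v1]
        exact hw1W
      set w2 := w - (bK.repr w i0) • w1 with hw2
      have hw2W : w2 ∈ W := sub_mem hw (Submodule.smul_mem _ _ hw1W)
      have hi0s : i0 ∈ s := hw's hi0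
      have hs2 : (bK.repr w2).support ⊆ s.erase i0 := by
        intro i hi
        rw [Finsupp.mem_support_iff, hw2, map_sub, map_smul, Finsupp.sub_apply,
          Finsupp.smul_apply, smul_eq_mul] at hi
        rw [Finset.mem_erase]
        refine ⟨?_, ?_⟩
        · rintro rfl
          apply hi
          rw [hone, mul_one, sub_self]
        · rw [hs, Finsupp.mem_support_iff]
          intro h0
          apply hi
          have : bK.repr w1 i = 0 := by
            by_contra h1
            have : i ∈ (bK.repr w1).support := Finsupp.mem_support_iff.mpr h1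
            rw [hsupp1] at this
            exact (Finsupp.mem_support_iff.mp (hw's this)) h0
          rw [h0, this, mul_zero, sub_zero]
      have hc2 : (bK.repr w2).support.card ≤ n := by
        have h2 := Finset.card_le_card hs2
        rw [Finset.card_erase_of_mem hi0s] at h2
        omega
      have h2S := ih w2 hw2W hc2
      have : w = w2 + (bK.repr w i0) • w1 := by rw [hw2]; abel
      rw [this]
      exact add_mem h2S (Submodule.smul_mem _ _ hw1S)
  intro w hw
  exact key _ w hw le_rfl

end Groth.Agent.Helper2.GalDesc
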