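import Mathlib
import Groth.Agent.Helper2.CocommStr8
import Groth.Agent.Helper2.GalDesc
import Groth.Agent.Helper2.MM1
import Groth.Agent.Helper7.UE1

set_option autoImplicit false
universe u u' v w
open TensorProduct

namespace Groth.Agent.Helper2.CocommStr

open Groth.Agent.Helper2.ComodGen Groth.Agent.Helper2.SocleFilt Groth.Agent.Helper2.CocommTrig
  Groth.Agent.Helper2.UnipPrim Groth.Agent.Helper2.TakExt Groth.Agent.Helper2.GalDesc

section sigma

variable {k : Type u} [Field k] {K : Type u} [Field K] [Algebra k K]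
  {A : Type v} [CommRing A] [Bialgebra k A]

/-- the semilinear action on `(K ⊗ A) ⊗_K (K ⊗ A)` -/
noncomputable def Sig2 (σ : K ≃ₐ[k] K) :
    (K ⊗[k] A) ⊗[K] (K ⊗[k] A) →ₗ[k] (K ⊗[k] A) ⊗[K] (K ⊗[k] A) :=
  ((TensorProduct.AlgebraTensorModule.distribBaseChange k K A A).restrictScalars k).toLinearMap ∘ₗ
    sig (V := A ⊗[k] A) σ ∘ₗ
    ((TensorProduct.AlgebraTensorModule.distribBaseChange k K A A).symm.restrictScalars k).toLinearMap

lemma Sig2_apply (σ : K ≃ₐ[k] K) (t : (K ⊗[k] A) ⊗[K] (K ⊗[k] A)) :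
    Sig2 σ t = TensorProduct.AlgebraTensorModule.distribBaseChange k K A A
      (sig σ ((TensorProduct.AlgebraTensorModule.distribBaseChange k K A A).symm t)) := rfl

lemma Sig2_tmul (σ : K ≃ₐ[k] K) (x y : K ⊗[k] A) :
    Sig2 σ (x ⊗ₜ[K] y) = sig σ x ⊗ₜ[K] sig σ y := by
  induction x using TensorProduct.induction_on with
  | zero => simp
  | add x x' hx hx' => rw [add_tmul, map_add, hx, hx', map_add, add_tmul]
  | tmul c a =>
    induction y using TensorProduct.induction_on with
    | zero => simp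
    | add y y' hy hy' => rw [tmul_add, map_add, hy, hy', map_add, tmul_add]
    | tmul c' a' =>
      rw [Sig2_apply, TensorProduct.AlgebraTensorModule.distribBaseChange_symm_tmul, sig_tmul,
        TensorProduct.AlgebraTensorModule.distribBaseChange_tmul, sig_tmul, sig_tmul, map_mul]
      have h1 : (σ c * σ c') ⊗ₜ[k] a = σ c' • (σ c ⊗ₜ[k] a) := by
        rw [TensorProduct.smul_tmul', smul_eq_mul, mul_comm]
      have h2 : σ c' ⊗ₜ[k] a' = σ c' • ((1 : K) ⊗ₜ[k] a') := by
        rw [TensorProduct.smul_tmul', smul_eq_mul, mul_one]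
      rw [h1, h2, TensorProduct.smul_tmul]

lemma sig_comul (σ : K ≃ₐ[k] K) (y : K ⊗[k] A) :
    Coalgebra.comul (R := K) (sig σ y) = Sig2 σ (Coalgebra.comul (R := K) y) := by
  rw [← bcD_comul]
  induction y using TensorProduct.induction_on with
  | zero => simp
  | add x y hx hy => simp only [map_add, hx, hy]
  | tmul c a =>
    rw [sig_tmul, bcD_tmul, bcD_tmul, Sig2_apply, LinearEquiv.symm_apply_apply, sig_tmul]

lemma sig_counit (σ : K ≃ₐ[k] K) (y : K ⊗[k] A) :
    Coalgebra.counit (R := K) (sig σ y) = σ (Coalgebra.counit (R := K) y) := by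
  induction y using TensorProduct.induction_on with
  | zero => simp
  | add x y hx hy => simp only [map_add, hx, hy]
  | tmul c a =>
    rw [sig_tmul, TensorProduct.counit_tmul, TensorProduct.counit_tmul]
    simp

lemma sig_groupLike (σ : K ≃ₐ[k] K) {g : K ⊗[k] A} (hg : IsGroupLikeElem K g) :
    IsGroupLikeElem K (sig σ g) := by
  refine ⟨?_, ?_⟩
  · rw [sig_counit, hg.counit_eq_one, map_one]
  · rw [sig_comul, hg.comul_eq_tmul_self, Sig2_tmul]

end sigma


section descent

variable {k : Type u} [Field k] (K : Type u) [Field K] [Algebra k K]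
  {A : Type v} [CommRing A] [HopfAlgebra k A]

lemma sig_mem_DG (σ : K ≃ₐ[k] K) {y : K ⊗[k] A} (hy : y ∈ DG K (K ⊗[k] A)) :
    sig σ y ∈ DG K (K ⊗[k] A) := by
  unfold DG at hy
  refine Submodule.span_induction (p := fun y _ => sig σ y ∈ DG K (K ⊗[k] A)) ?_ ?_ ?_ ?_ hy
  · rintro _ ⟨γ, rfl⟩
    exact groupLike_mem_DG (sig_groupLike σ γ.2)
  · rw [map_zero]; exact zero_mem _
  · intro a b _ _ ha hb
    rw [map_add]; exact add_mem ha hb
  · intro c a _ ha
    rw [sig_smul]; exact Submodule.smul_mem _ _ ha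

variable (k A) in
/-- the rational points of the span of the group-like elements of `K ⊗ A` -/
def B0 : Subalgebra k A where
  carrier := {a | (1 : K) ⊗ₜ[k] a ∈ DG K (K ⊗[k] A)}
  mul_mem' := by
    intro a b ha hb
    have h := mul_mem_DG ha hb
    rw [Algebra.TensorProduct.tmul_mul_tmul, mul_one] at h
    exact h
  add_mem' := by
    intro a b ha hb
    show (1 : K) ⊗ₜ[k] (a + b) ∈ DG K (K ⊗[k] A)
    rw [tmul_add]
    exact add_mem ha hb
  algebraMap_mem' := by
    intro c
    show (1 : K) ⊗ₜ[k] (algebraMap k A c) ∈ DG K (K ⊗[k] A)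
    rw [Algebra.algebraMap_eq_smul_one, TensorProduct.tmul_smul, ← algebraMap_smul K c,
      ← Algebra.TensorProduct.one_def]
    exact Submodule.smul_mem _ _ one_mem_DG

lemma mem_B0 {a : A} : a ∈ B0 k K A ↔ (1 : K) ⊗ₜ[k] a ∈ DG K (K ⊗[k] A) := Iff.rfl

/-- Galois descent: the span of the group-likes is spanned by its rational points -/
theorem DG_le_span [IsGalois k K] :
    DG K (K ⊗[k] A) ≤
      Submodule.span K ((fun a : A => (1 : K) ⊗ₜ[k] a) '' (B0 k K A : Set A)) :=
  galois_descent (DG K (K ⊗[k] A)) (fun σ _ hw => sig_mem_DG K σ hw)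

/-- the conilpotent part of `K ⊗ A` is spanned by its rational points -/
theorem ZU_le_span :
    Subalgebra.toSubmodule (ZU K (K ⊗[k] A)) ≤
      Submodule.span K ((fun a : A => (1 : K) ⊗ₜ[k] a) '' (ZU k A : Set A)) := by
  classical
  intro y hy
  set β := Module.Basis.ofVectorSpace k K with hβ
  set φ := TensorProduct.equivFinsuppOfBasisLeft (N := A) β with hφ
  have h1 : y = (φ y).sum fun j a => β j ⊗ₜ[k] a := by
    rw [← TensorProduct.equivFinsuppOfBasisLeft_symm_apply, ← hφ, LinearEquiv.symm_apply_apply]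
  rw [h1, Finsupp.sum]
  apply Submodule.sum_mem
  intro j _
  have h2 : φ y j = lamM (β.coord j) y := by
    rw [hφ, TensorProduct.equivFinsuppOfBasisLeft_apply]
    rfl
  have h3 : φ y j ∈ ZU k A := by
    rw [h2]
    exact lamM_mem_ZU K hy _
  have h4 : β j ⊗ₜ[k] φ y j = β j • ((1 : K) ⊗ₜ[k] φ y j) := by
    rw [TensorProduct.smul_tmul', smul_eq_mul, mul_one]
  rw [h4]
  exact Submodule.smul_mem _ _ (Submodule.subset_span ⟨_, h3, rfl⟩)

lemma one_tmul_mem_ZU {a : A} (ha : a ∈ ZU k A) : (1 : K) ⊗ₜ[k] a ∈ ZU K (K ⊗[k] A) := by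
  obtain ⟨r, hr⟩ := ha
  exact ⟨r, Groth.Agent.Helper7.UnipEtale.map_mem_Z'
    (Groth.Agent.Helper2.MultTypeSemi.isSemiCoalg_includeRight k K A) r a hr⟩

/-- faithful flatness for subspaces -/
lemma mem_of_one_tmul_mem_span (W : Submodule k A) (a : A)
    (h : (1 : K) ⊗ₜ[k] a ∈ Submodule.span K ((fun a : A => (1 : K) ⊗ₜ[k] a) '' (W : Set A))) :
    a ∈ W := by
  by_contra ha
  obtain ⟨f, hf, hW⟩ := Submodule.exists_le_ker_of_notMem ha
  have h1 : Submodule.span K ((fun a : A => (1 : K) ⊗ₜ[k] a) '' (W : Set A)) ≤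
      LinearMap.ker (psiK K f) := by
    rw [Submodule.span_le]
    rintro _ ⟨w, hw, rfl⟩
    rw [SetLike.mem_coe, LinearMap.mem_ker, psiK_tmul]
    have : f w = 0 := hW hw
    rw [this, zero_smul]
  have h2 := h1 h
  rw [LinearMap.mem_ker, psiK_tmul] at h2
  apply hf
  rw [Algebra.smul_def, mul_one] at h2
  exact (map_eq_zero_iff _ (algebraMap k K).injective).mp h2

end descent


section subHopf

variable (k : Type u) [Field k] (K : Type u) [Field K] [Algebra k K]
  (A : Type v) [CommRing A] [HopfAlgebra k A] [Coalgebra.IsCocomm k A]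

open Groth.Agent.Helper7.FGK Groth.Agent.Helper2.MM

lemma RopV_mem_B0 (θ : A →ₗ[k] k) {b : A} (hb : b ∈ B0 k K A) : RopV (V := A) θ b ∈ B0 k K A := by
  rw [mem_B0] at hb ⊢
  have h1 := RopV_mem_DG (psiK K θ) hb
  rw [RopV_psiK, LinearMap.lTensor_tmul] at h1
  exact h1

lemma comul_mem_B0 {b : A} (hb : b ∈ B0 k K A) :
    Coalgebra.comul (R := k) b ∈ LinearMap.range
      (TensorProduct.map (B0 k K A).val.toLinearMap (B0 k K A).val.toLinearMap) := by
  have h1 := comul_mem_of_RopV_stable (k := k) (H := A) (Subalgebra.toSubmodule (B0 k K A))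
    (fun θ w hw => RopV_mem_B0 k K A θ hw) b hb
  obtain ⟨t, ht⟩ := h1
  rw [← ht]
  clear ht
  induction t using TensorProduct.induction_on with
  | zero => simp
  | add x y hx hy => rw [map_add]; exact add_mem hx hy
  | tmul x y =>
    exact ⟨(⟨x.1, x.2⟩ : B0 k K A) ⊗ₜ[k] (⟨y.1, y.2⟩ : B0 k K A), rfl⟩

lemma antipode_mem_B0 {b : A} (hb : b ∈ B0 k K A) : HopfAlgebra.antipode k b ∈ B0 k K A := by
  rw [mem_B0] at hb ⊢
  have h1 := antipode_mem_DG hb
  rw [TensorProduct.antipode_def, TensorProduct.AlgebraTensorModule.map_tmul] at h1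
  have h2 : HopfAlgebra.antipode K (1 : K) = 1 := by simp
  rw [h2] at h1
  exact h1

theorem isSubHopf_B0 : IsSubHopf (B0 k K A).val where
  inj := Subtype.val_injective
  comul_mem := fun c => comul_mem_B0 k K A c.2
  antipode_mem := fun c => ⟨⟨_, antipode_mem_B0 k K A c.2⟩, rfl⟩

/-- the Hopf algebra structure on `B0` -/
@[reducible] noncomputable def hopfB0 : HopfAlgebra k (B0 k K A) := subHopf (isSubHopf_B0 k K A)

/-- the inclusion of `B0` as a bialgebra map -/
noncomputable def inclB0 : letI := hopfB0 k K A; (B0 k K A) →ₐc[k] A :=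
  letI := hopfB0 k K A
  BialgHom.ofAlgHom (B0 k K A).val
    (by
      apply AlgHom.ext
      intro c
      rfl)
    (by
      apply AlgHom.ext
      intro c
      exact subHopf_comul (isSubHopf_B0 k K A) c)

lemma inclB0_apply (c : B0 k K A) : letI := hopfB0 k K A; inclB0 k K A c = (c : A) := rfl

lemma inclB0_injective : letI := hopfB0 k K A; Function.Injective (inclB0 k K A) :=
  Subtype.val_injective

end subHopf


section mulBU

variable (k : Type u) [Field k] (K : Type u) [Field K] [Algebra k K]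
  (A : Type v) [CommRing A] [HopfAlgebra k A] [Coalgebra.IsCocomm k A]

/-- the multiplication map `B0 ⊗ ZU → A` -/
noncomputable def mulBU : (B0 k K A) ⊗[k] (ZU k A) →ₐ[k] A :=
  Algebra.TensorProduct.productMap (B0 k K A).val (ZU k A).val

@[simp] lemma mulBU_tmul (b : B0 k K A) (z : ZU k A) :
    mulBU k K A (b ⊗ₜ[k] z) = (b : A) * (z : A) := by
  simp [mulBU]

variable {k K A} in
lemma mul_mem_span_range {d u : K ⊗[k] A}
    (hd : d ∈ Submodule.span K ((fun a : A => (1 : K) ⊗ₜ[k] a) '' (B0 k K A : Set A)))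
    (hu : u ∈ Submodule.span K ((fun a : A => (1 : K) ⊗ₜ[k] a) '' (ZU k A : Set A))) :
    d * u ∈ Submodule.span K ((fun a : A => (1 : K) ⊗ₜ[k] a) ''
      (LinearMap.range (mulBU k K A).toLinearMap : Set A)) := by
  refine Submodule.span_induction (p := fun d _ => d * u ∈ Submodule.span K
    ((fun a : A => (1 : K) ⊗ₜ[k] a) '' (LinearMap.range (mulBU k K A).toLinearMap : Set A)))
    ?_ ?_ ?_ ?_ hd
  · rintro _ ⟨b, hb, rfl⟩
    refine Submodule.span_induction (p := fun u _ => (1 : K) ⊗ₜ[k] b * u ∈ Submodule.span K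
      ((fun a : A => (1 : K) ⊗ₜ[k] a) '' (LinearMap.range (mulBU k K A).toLinearMap : Set A)))
      ?_ ?_ ?_ ?_ hu
    · rintro _ ⟨z, hz, rfl⟩
      apply Submodule.subset_span
      refine ⟨b * z, ⟨(⟨b, hb⟩ : B0 k K A) ⊗ₜ[k] (⟨z, hz⟩ : ZU k A), ?_⟩, ?_⟩
      · simp
      · simp [Algebra.TensorProduct.tmul_mul_tmul]
    · rw [mul_zero]; exact zero_mem _
    · intro x y _ _ hx hy
      rw [mul_add]; exact add_mem hx hy
    · intro c x _ hx
      rw [mul_smul_comm]; exact Submodule.smul_mem _ _ hx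
  · rw [zero_mul]; exact zero_mem _
  · intro x y _ _ hx hy
    rw [add_mul]; exact add_mem hx hy
  · intro c x _ hx
    rw [smul_mul_assoc]; exact Submodule.smul_mem _ _ hx

theorem mulBU_surjective [IsAlgClosed K] [IsGalois k K] : Function.Surjective (mulBU k K A) := by
  intro a
  have key : a ∈ LinearMap.range (mulBU k K A).toLinearMap := by
    apply mem_of_one_tmul_mem_span K
    obtain ⟨t, ht⟩ := Psi_surjective (K := K) (A := K ⊗[k] A) ((1 : K) ⊗ₜ[k] a)
    rw [← ht]
    clear ht
    induction t using TensorProduct.induction_on with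
    | zero => rw [map_zero]; exact zero_mem _
    | add x y hx hy => rw [map_add]; exact add_mem hx hy
    | tmul d u =>
      rw [Psi_tmul]
      exact mul_mem_span_range (DG_le_span K d.2) (ZU_le_span K u.2)
  obtain ⟨t, ht⟩ := key
  exact ⟨t, ht⟩

theorem mulBU_injective : Function.Injective (mulBU k K A) := by
  classical
  rw [injective_iff_map_eq_zero]
  intro t ht
  set β := Module.Basis.ofVectorSpace k (B0 k K A) with hβ
  set φ := TensorProduct.equivFinsuppOfBasisLeft (N := ZU k A) β with hφ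
  have h1 : t = (φ t).sum fun j z => β j ⊗ₜ[k] z := by
    rw [← TensorProduct.equivFinsuppOfBasisLeft_symm_apply, ← hφ, LinearEquiv.symm_apply_apply]
  have h2 : mulBU k K A t = ∑ j ∈ (φ t).support, ((β j : B0 k K A) : A) * ((φ t j : ZU k A) : A) := by
    conv_lhs => rw [h1, Finsupp.sum, map_sum]
    apply Finset.sum_congr rfl
    intro j _
    rw [mulBU_tmul]
  rw [ht] at h2
  -- pass to `K ⊗ A`
  set x : ↥(Module.Basis.ofVectorSpaceIndex k (B0 k K A)) → DG K (K ⊗[k] A) :=
    fun j => ⟨(1 : K) ⊗ₜ[k] ((β j : B0 k K A) : A), (β j).2⟩ with hx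
  set y : ↥(Module.Basis.ofVectorSpaceIndex k (B0 k K A)) → Subalgebra.toSubmodule (ZU K (K ⊗[k] A)) :=
    fun j => ⟨(1 : K) ⊗ₜ[k] ((φ t j : ZU k A) : A), one_tmul_mem_ZU K (φ t j).2⟩ with hy
  have hxli : LinearIndependent K x := by
    have h3 : LinearIndependent k (fun j => ((β j : B0 k K A) : A)) :=
      β.linearIndependent.map' (B0 k K A).val.toLinearMap
        (LinearMap.ker_eq_bot.mpr Subtype.val_injective)
    have h4 := Module.Flat.linearIndependent_one_tmul (S := K) h3
    exact LinearIndependent.of_comp (DG K (K ⊗[k] A)).subtype h4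
  have h5 : ∑ j ∈ (φ t).support, x j ⊗ₜ[K] y j = 0 := by
    apply Psi_injective (K := K) (A := K ⊗[k] A)
    rw [map_sum, map_zero]
    have h6 : ∀ j ∈ (φ t).support, Psi (x j ⊗ₜ[K] y j) =
        (1 : K) ⊗ₜ[k] (((β j : B0 k K A) : A) * ((φ t j : ZU k A) : A)) := by
      intro j _
      rw [Psi_tmul]
      simp [hx, hy, Algebra.TensorProduct.tmul_mul_tmul]
    rw [Finset.sum_congr rfl h6, ← TensorProduct.tmul_sum, ← h2, TensorProduct.tmul_zero]
  have h7 := tmul_indep' x hxli (φ t).support y h5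
  have h8 : φ t = 0 := by
    rw [← Finsupp.support_eq_empty, Finset.eq_empty_iff_forall_notMem]
    intro j hj
    have h9 := congrArg Subtype.val (h7 j hj)
    simp only [hy, ZeroMemClass.coe_zero] at h9
    have h10 : ((φ t j : ZU k A) : A) = 0 := by
      apply Algebra.TensorProduct.includeRight_injective (R := k) (A := K) (B := A)
        (algebraMap k K).injective
      rw [map_zero]
      exact h9
    rw [Finsupp.mem_support_iff] at hj
    exact hj (Subtype.ext h10)
  exact (LinearEquiv.map_eq_zero_iff φ).mp h8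

end mulBU

end Groth.Agent.Helper2.CocommStr
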