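import Mathlib
import Groth.Prelude.Def_ComodSub
import Groth.Prelude.Def_ComodTens
import Groth.Agent.Helper2.ComodGen
import Groth.Agent.Helper2.CocommTrig

set_option autoImplicit false
universe u v
open TensorProduct Groth.Agent.Helper2.ComodGen Groth.Agent.Helper2.CocommTrig

namespace Groth.Agent.Helper2.SemisimpleEnd

/-- semisimple rings are von Neumann regular -/
lemma exists_mul_mul_eq {E : Type*} [Ring E] [IsSemisimpleRing E] (e : E) : ∃ a : E, e * a * e = e := by
  let I : Submodule E E := Submodule.span E {e}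
  obtain ⟨N, hN⟩ := exists_isCompl I
  have h1 : (1 : E) ∈ I ⊔ N := by rw [hN.sup_eq_top]; trivial
  obtain ⟨x, hx, n, hn, hxn⟩ := Submodule.mem_sup.1 h1
  obtain ⟨a, rfl⟩ := Submodule.mem_span_singleton.1 hx
  refine ⟨a, ?_⟩
  have h2 : e = e * (a • e) + e * n := by rw [← mul_add, hxn, mul_one]
  have h3 : e * n ∈ I ⊓ N := by
    refine ⟨?_, ?_⟩
    · have : e * n = e - e * (a • e) := by rw [eq_sub_iff_add_eq']; exact h2.symm
      rw [this]
      refine I.sub_mem (Submodule.mem_span_singleton_self e) ?_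
      have : e * (a • e) = (e * a) • e := by simp [mul_assoc]
      rw [this]
      exact I.smul_mem _ (Submodule.mem_span_singleton_self e)
    · have : e * n = e • n := rfl
      rw [this]; exact N.smul_mem _ hn
  rw [hN.inf_eq_bot] at h3
  have h4 : e * n = 0 := h3
  rw [h4, add_zero] at h2
  rw [mul_assoc]
  exact h2.symm

section Hom
variable {k : Type u} [CommRing k] {A : Type v} [AddCommGroup A] [Module k A] [Coalgebra k A]
variable {X Y Z : Type v} [AddCommGroup X] [Module k X] [HopfRep.Comod k A X]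
  [AddCommGroup Y] [Module k Y] [HopfRep.Comod k A Y]
  [AddCommGroup Z] [Module k Z] [HopfRep.Comod k A Z]

lemma isComodHom_id : Hoch.IsComodHom A (LinearMap.id : X →ₗ[k] X) := by
  unfold Hoch.IsComodHom
  rw [LinearMap.rTensor_id, LinearMap.comp_id, LinearMap.id_comp]

lemma isComodHom_comp {f : X →ₗ[k] Y} {g : Y →ₗ[k] Z} (hf : Hoch.IsComodHom A f)
    (hg : Hoch.IsComodHom A g) : Hoch.IsComodHom A (g ∘ₗ f) := by
  unfold Hoch.IsComodHom at *
  rw [← LinearMap.comp_assoc, hg, LinearMap.comp_assoc, hf, ← LinearMap.comp_assoc,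
    LinearMap.rTensor_comp]

lemma isComodHom_add {f g : X →ₗ[k] Y} (hf : Hoch.IsComodHom A f)
    (hg : Hoch.IsComodHom A g) : Hoch.IsComodHom A (f + g) := by
  unfold Hoch.IsComodHom at *
  rw [LinearMap.comp_add, hf, hg, LinearMap.rTensor_add, LinearMap.add_comp]

lemma isComodHom_smul (r : k) {f : X →ₗ[k] Y} (hf : Hoch.IsComodHom A f) :
    Hoch.IsComodHom A (r • f) := by
  unfold Hoch.IsComodHom at *
  rw [LinearMap.comp_smul, hf, LinearMap.rTensor_smul, LinearMap.smul_comp]

lemma isComodHom_zero : Hoch.IsComodHom A (0 : X →ₗ[k] Y) := by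
  unfold Hoch.IsComodHom
  simp

lemma RopV_hom {f : X →ₗ[k] Y} (hf : Hoch.IsComodHom A f) (θ : A →ₗ[k] k) (x : X) :
    f (RopV θ x) = RopV θ (f x) := by
  have key : f ∘ₗ (TensorProduct.rid k X).toLinearMap ∘ₗ θ.lTensor X =
      (TensorProduct.rid k Y).toLinearMap ∘ₗ θ.lTensor Y ∘ₗ f.rTensor A := by
    ext a b
    simp
  have h1 := LinearMap.congr_fun key (HopfRep.Comod.coact (k := k) (A := A) x)
  have h2 := LinearMap.congr_fun hf x
  simp only [LinearMap.comp_apply, LinearEquiv.coe_coe] at h1 h2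
  simp only [RopV, LinearMap.comp_apply, LinearEquiv.coe_coe]
  rw [h1, ← h2]

/-- comodule endomorphisms as a subalgebra -/
def endSub : Subalgebra k (Module.End k X) where
  carrier := {α | Hoch.IsComodHom A α}
  mul_mem' := fun {a b} ha hb => isComodHom_comp hb ha
  one_mem' := isComodHom_id
  add_mem' := fun {a b} ha hb => isComodHom_add ha hb
  zero_mem' := isComodHom_zero
  algebraMap_mem' := fun r => by
    show Hoch.IsComodHom A (algebraMap k (Module.End k X) r)
    rw [Algebra.algebraMap_eq_smul_one]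
    exact isComodHom_smul r isComodHom_id

end Hom


section Prod
variable {k : Type u} [CommRing k] {A : Type v} [AddCommGroup A] [Module k A] [Coalgebra k A]
variable {X Y : Type v} [AddCommGroup X] [Module k X] [AddCommGroup Y] [Module k Y]

lemma isComodHom_inl (c : HopfRep.Comod k A X) (d : HopfRep.Comod k A Y) :
    @Hoch.IsComodHom k _ A _ _ _ X _ _ c (X × Y) _ _ (ComodTens.Comod.prod c d) (LinearMap.inl k X Y) :=
  LinearMap.coprod_inl _ _

lemma isComodHom_inr (c : HopfRep.Comod k A X) (d : HopfRep.Comod k A Y) :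
    @Hoch.IsComodHom k _ A _ _ _ Y _ _ d (X × Y) _ _ (ComodTens.Comod.prod c d) (LinearMap.inr k X Y) :=
  LinearMap.coprod_inr _ _

lemma isComodHom_fst (c : HopfRep.Comod k A X) (d : HopfRep.Comod k A Y) :
    @Hoch.IsComodHom k _ A _ _ _ (X × Y) _ _ (ComodTens.Comod.prod c d) X _ _ c (LinearMap.fst k X Y) := by
  unfold Hoch.IsComodHom
  apply LinearMap.ext
  rintro ⟨x, y⟩
  have h1 : (LinearMap.fst k X Y).rTensor A ((LinearMap.inl k X Y).rTensor A (c.coact x)) = c.coact x := by
    rw [← LinearMap.comp_apply, ← LinearMap.rTensor_comp, LinearMap.fst_comp_inl, LinearMap.rTensor_id,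
      LinearMap.id_apply]
  have h2 : (LinearMap.fst k X Y).rTensor A ((LinearMap.inr k X Y).rTensor A (d.coact y)) = 0 := by
    rw [← LinearMap.comp_apply, ← LinearMap.rTensor_comp, LinearMap.fst_comp_inr, LinearMap.rTensor_zero,
      LinearMap.zero_apply]
  show c.coact x = (LinearMap.fst k X Y).rTensor A ((ComodTens.Comod.prod c d).coact (x, y))
  rw [ComodTens.prod_coact, map_add, h1, h2, add_zero]

end Prod

end Groth.Agent.Helper2.SemisimpleEnd
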