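import Mathlib
import Groth.Prelude.Def_ComodSub
import Groth.Agent.Helper2.ComodGen
import Groth.Agent.Helper2.CocommTrig
import Groth.Agent.Helper2.SemisimpleEnd

set_option autoImplicit false
universe u v w
open TensorProduct Groth.Agent.Helper2.ComodGen Groth.Agent.Helper2.CocommTrig
  Groth.Agent.Helper2.SemisimpleEnd

namespace Groth.Agent.Helper2.FixedRopV

section Fixed
variable {k : Type u} [Field k] {A : Type v} [Ring A] [Bialgebra k A]
variable {V : Type w} [AddCommGroup V] [Module k V] [HopfRep.Comod k A V]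

lemma RopV_of_mem_fixedPts {v : V} (hv : v ∈ HopfRep.fixedPts k A V) (θ : A →ₗ[k] k) :
    RopV θ v = θ 1 • v := by
  have h : HopfRep.Comod.coact (k := k) (A := A) v = v ⊗ₜ[k] (1 : A) := hv
  simp only [RopV, LinearMap.comp_apply, LinearEquiv.coe_coe]
  rw [h]
  simp

lemma mem_fixedPts_of_RopV {v : V} (h : ∀ θ : A →ₗ[k] k, RopV θ v = θ 1 • v) :
    v ∈ HopfRep.fixedPts k A V := by
  show HopfRep.Comod.coact (k := k) (A := A) v = v ⊗ₜ[k] (1 : A)
  rw [← sub_eq_zero]
  obtain ⟨f, hf, hsum⟩ := exists_repr (R := k) (C := A)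
    (HopfRep.Comod.coact (k := k) (A := A) v - v ⊗ₜ[k] (1 : A))
  have hf0 : f = 0 := by
    ext x
    obtain ⟨θ, hθ⟩ := hf x
    rw [hθ, map_sub, map_sub]
    have := h θ
    simp only [RopV, LinearMap.comp_apply, LinearEquiv.coe_coe] at this
    rw [this]
    simp
  rw [hsum, hf0]
  simp

end Fixed

end Groth.Agent.Helper2.FixedRopV
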