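import Mathlib
import Groth.Prelude.Def_Hoch

set_option autoImplicit false
universe u v
open TensorProduct

namespace Groth.Agent.Helper2.HochInd

variable {k : Type u} {A : Type v} [Field k] [CommRing A] [Bialgebra k A]

section Tail
variable {M N : Type v} [AddCommGroup M] [Module k M] [AddCommGroup N] [Module k N]

lemma nat_aux (f : M →ₗ[k] N) (m : M) (t : A ⊗[k] A) :
    (f.rTensor A).rTensor A ((TensorProduct.assoc k M A A).symm (m ⊗ₜ[k] t)) =
      (TensorProduct.assoc k N A A).symm (f m ⊗ₜ[k] t) := by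
  induction t using TensorProduct.induction_on with
  | zero => simp
  | tmul a b => simp
  | add x y hx hy => rw [TensorProduct.tmul_add, map_add, map_add, hx, hy, TensorProduct.tmul_add, map_add]

lemma tail_nat (f : M →ₗ[k] N) :
    (f.rTensor A).rTensor A ∘ₗ Hoch.tail k A M = Hoch.tail k A N ∘ₗ f.rTensor A := by
  ext m a
  simp only [LinearMap.comp_apply, TensorProduct.AlgebraTensorModule.curry_apply,
    TensorProduct.curry_apply, LinearMap.coe_restrictScalars, Hoch.tail_tmul,
    LinearMap.rTensor_tmul]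
  exact nat_aux f m _

end Tail

variable (P : Type v) [AddCommGroup P] [Module k P]

/-- `(p ⊗ a) ⊗ b ↦ ε(a) p ⊗ b` -/
noncomputable def s0 : (P ⊗[k] A) ⊗[k] A →ₗ[k] P ⊗[k] A :=
  ((TensorProduct.rid k P).toLinearMap ∘ₗ
    (Coalgebra.counit (R := k) (A := A)).lTensor P).rTensor A

lemma s0_tmul (p : P) (a b : A) :
    s0 (k := k) (A := A) P ((p ⊗ₜ[k] a) ⊗ₜ[k] b) = (Coalgebra.counit (R := k) a • p) ⊗ₜ[k] b := by
  simp [s0]

lemma s0_assoc_symm (p : P) (t : A ⊗[k] A) :
    s0 (k := k) (A := A) P ((TensorProduct.assoc k P A A).symm (p ⊗ₜ[k] t)) =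
      p ⊗ₜ[k] (TensorProduct.lid k A ((Coalgebra.counit (R := k) (A := A)).rTensor A t)) := by
  induction t using TensorProduct.induction_on with
  | zero => simp
  | tmul a b => simp [s0_tmul, TensorProduct.smul_tmul]
  | add x y hx hy =>
    rw [TensorProduct.tmul_add, map_add, map_add, hx, hy, map_add, map_add, TensorProduct.tmul_add]

lemma s0r_assoc (p : P) (a : A) (t : A ⊗[k] A) :
    (s0 (k := k) (A := A) P).rTensor A
      ((TensorProduct.assoc k (P ⊗[k] A) A A).symm ((p ⊗ₜ[k] a) ⊗ₜ[k] t)) =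
      (TensorProduct.assoc k P A A).symm ((Coalgebra.counit (R := k) a • p) ⊗ₜ[k] t) := by
  induction t using TensorProduct.induction_on with
  | zero => simp
  | tmul b c => simp [s0_tmul]
  | add x y hx hy =>
    rw [TensorProduct.tmul_add, map_add, map_add, hx, hy, TensorProduct.tmul_add, map_add]

lemma base :
    (Hoch.Ind.coactAux k A P - (TensorProduct.mk k (P ⊗[k] A) A).flip 1) ∘ₗ s0 (k := k) (A := A) P +
      (s0 (k := k) (A := A) P).rTensor A ∘ₗ
        (Hoch.Ind.coactAux k A P - (TensorProduct.mk k (P ⊗[k] A) A).flip 1).rTensor A =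
      LinearMap.id + (s0 (k := k) (A := A) P).rTensor A ∘ₗ Hoch.tail k A (P ⊗[k] A) := by
  ext p a b
  simp only [LinearMap.comp_apply, TensorProduct.AlgebraTensorModule.curry_apply,
    TensorProduct.curry_apply, LinearMap.coe_restrictScalars, LinearMap.add_apply,
    LinearMap.sub_apply, LinearMap.id_apply, LinearMap.rTensor_tmul,
    LinearMap.flip_apply, TensorProduct.mk_apply, Hoch.tail_tmul, Hoch.Ind.coactAux_tmul,
    s0_tmul, map_add, map_sub, TensorProduct.sub_tmul, TensorProduct.tmul_sub,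
    s0r_assoc, s0_assoc_symm, Coalgebra.rTensor_counit_comul]
  simp only [TensorProduct.lid_tmul, one_smul, TensorProduct.assoc_symm_tmul]
  abel

/-- contracting homotopy -/
noncomputable def sh : (n : ℕ) → ((Hoch.cochain k A (Hoch.Ind k A P) (n + 1) : Type v) →ₗ[k]
    (Hoch.cochain k A (Hoch.Ind k A P) n : Type v))
  | 0 => (s0 (k := k) (A := A) P : (P ⊗[k] A) ⊗[k] A →ₗ[k] P ⊗[k] A)
  | n + 1 => (sh n).rTensor A

lemma htpy (n : ℕ) :
    Hoch.d k A (Hoch.Ind k A P) n ∘ₗ sh (k := k) (A := A) P n +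
      sh (k := k) (A := A) P (n + 1) ∘ₗ Hoch.d k A (Hoch.Ind k A P) (n + 1) = LinearMap.id := by
  induction n with
  | zero =>
    have hb := base (k := k) (A := A) P
    show (Hoch.Ind.coactAux k A P - (TensorProduct.mk k (P ⊗[k] A) A).flip 1) ∘ₗ
        s0 (k := k) (A := A) P +
      (s0 (k := k) (A := A) P).rTensor A ∘ₗ
        ((Hoch.Ind.coactAux k A P - (TensorProduct.mk k (P ⊗[k] A) A).flip 1).rTensor A +
          ((-1 : k) ^ (0 + 1)) • Hoch.tail k A (P ⊗[k] A)) = LinearMap.id
    rw [LinearMap.comp_add, ← add_assoc, hb, LinearMap.comp_smul]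
    apply LinearMap.ext
    intro x
    simp
  | succ n ih =>
    rw [Hoch.d_succ k A _ (n + 1), Hoch.d_succ k A _ n]
    show ((Hoch.d k A (Hoch.Ind k A P) n).rTensor A +
          ((-1 : k) ^ (n + 1)) • Hoch.tail k A (Hoch.cochain k A (Hoch.Ind k A P) n)) ∘ₗ
        (sh (k := k) (A := A) P n).rTensor A +
      ((sh (k := k) (A := A) P n).rTensor A).rTensor A ∘ₗ
        (((Hoch.d k A (Hoch.Ind k A P) n).rTensor A +
          ((-1 : k) ^ (n + 1)) • Hoch.tail k A (Hoch.cochain k A (Hoch.Ind k A P) n)).rTensor A +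
          ((-1 : k) ^ (n + 1 + 1)) • Hoch.tail k A (Hoch.cochain k A (Hoch.Ind k A P) (n + 1))) =
      LinearMap.id
    have hnat := tail_nat (k := k) (A := A) (sh (k := k) (A := A) P n)
    rw [Hoch.d_succ k A _ n] at ih
    rw [LinearMap.add_comp, LinearMap.comp_add, LinearMap.comp_smul, LinearMap.smul_comp, hnat,
      ← LinearMap.rTensor_comp, ← LinearMap.rTensor_comp]
    have hsum : (Hoch.d k A (Hoch.Ind k A P) n ∘ₗ sh (k := k) (A := A) P n).rTensor A +
        ((sh (k := k) (A := A) P n).rTensor A ∘ₗ ((Hoch.d k A (Hoch.Ind k A P) n).rTensor A +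
          ((-1 : k) ^ (n + 1)) • Hoch.tail k A (Hoch.cochain k A (Hoch.Ind k A P) n))).rTensor A =
        LinearMap.id := by
      rw [← LinearMap.rTensor_add]
      have ih' : Hoch.d k A (Hoch.Ind k A P) n ∘ₗ sh (k := k) (A := A) P n +
          (sh (k := k) (A := A) P n).rTensor A ∘ₗ ((Hoch.d k A (Hoch.Ind k A P) n).rTensor A +
          ((-1 : k) ^ (n + 1)) • Hoch.tail k A (Hoch.cochain k A (Hoch.Ind k A P) n)) =
          LinearMap.id := ih
      rw [ih', LinearMap.rTensor_id]
    apply LinearMap.ext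
    intro x
    have h1 := LinearMap.congr_fun hsum x
    simp only [LinearMap.add_apply, LinearMap.smul_apply, LinearMap.comp_apply,
      LinearMap.id_apply] at h1 ⊢
    refine Eq.trans ?_ h1
    rw [pow_succ (-1 : k) (n + 1)]
    simp only [mul_neg, mul_one, neg_smul, LinearMap.rTensor_comp, LinearMap.comp_apply,
      LinearMap.rTensor_add, LinearMap.add_apply, map_add]
    abel

end Groth.Agent.Helper2.HochInd
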