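import Mathlib
import Groth.Agent.Helper2.ComodGen

set_option autoImplicit false
universe u v w x
open TensorProduct Groth.Agent.Helper2.ComodGen

namespace Groth.Agent.Helper2.SimpleSum

/-- a relative version of `exists_sSupIndep_isCompl_sSup_atoms` for a sup/inf closed predicate -/
lemma lattice_aux {α : Type*} [CompleteLattice α] [IsModularLattice α] [IsCompactlyGenerated α]
    (P : α → Prop) (hPsup : ∀ s : Set α, (∀ a ∈ s, P a) → P (sSup s))
    (hPinf : ∀ a b, P a → P b → P (a ⊓ b))
    (T : Set α) (hT : ∀ a ∈ T, P a ∧ a ≠ ⊥ ∧ ∀ w, P w → w ≤ a → w = ⊥ ∨ w = a)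
    (hsum : sSup T = ⊤) (b : α) (hb : P b) :
    ∃ s ⊆ T, sSupIndep s ∧ IsCompl b (sSup s) := by
  have zorn := zorn_subset
    (S := {s : Set α | sSupIndep s ∧ Disjoint b (sSup s) ∧ s ⊆ T})
    fun c hc1 hc2 =>
      ⟨⋃₀ c,
        ⟨iSupIndep_sUnion_of_directed hc2.directedOn fun s hs => (hc1 hs).1, ?_,
          fun a ⟨s, sc, as⟩ => (hc1 sc).2.2 as⟩,
        fun _ => Set.subset_sUnion_of_mem⟩
  swap
  · rw [sSup_sUnion, ← sSup_image, DirectedOn.disjoint_sSup_right]
    · rintro _ ⟨s, hs, rfl⟩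
      exact (hc1 hs).2.1
    · rw [directedOn_image]
      exact hc2.directedOn.mono @fun s t => sSup_le_sSup
  simp_rw [maximal_subset_iff] at zorn
  obtain ⟨s, ⟨s_ind, b_inf_Sup_s, s_sub⟩, s_max⟩ := zorn
  refine ⟨s, s_sub, s_ind, b_inf_Sup_s, ?_⟩
  rw [codisjoint_iff_le_sup, ← hsum, sSup_le_iff]
  intro a ha
  have hPs : P (sSup s) := hPsup s (fun x hx => (hT x (s_sub hx)).1)
  have hPbs : P (b ⊔ sSup s) := by
    have : b ⊔ sSup s = sSup {b, sSup s} := by rw [sSup_pair]
    rw [this]
    apply hPsup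
    intro x hx
    rcases hx with rfl | rfl
    · exact hb
    · exact hPs
  obtain ⟨hPa, ha0, hasimple⟩ := hT a ha
  rw [← inf_eq_left]
  refine (hasimple _ (hPinf _ _ hPa hPbs) inf_le_left).resolve_left fun con => ha0 ?_
  rw [← con, eq_comm, inf_eq_left]
  refine (le_sSup ?_).trans le_sup_right
  rw [← disjoint_iff] at con
  have a_dis_Sup_s : Disjoint a (sSup s) := con.mono_right le_sup_right
  rw [s_max ⟨fun x hx => ?_, ?_, fun x hx => ?_⟩ Set.subset_union_left]
  · exact Set.mem_union_right _ (Set.mem_singleton _)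
  · rw [sSup_union, sSup_singleton]
    exact b_inf_Sup_s.disjoint_sup_right_of_disjoint_sup_left con.symm
  · rw [Set.mem_union, Set.mem_singleton_iff] at hx
    obtain rfl | xa := eq_or_ne x a
    · simp only [Set.mem_singleton, Set.insert_sdiff_of_mem, Set.union_singleton]
      exact con.mono_right ((sSup_le_sSup Set.sdiff_subset).trans le_sup_right)
    · have h : (s ∪ {a}) \ {x} = s \ {x} ∪ {a} := by
        simp only [Set.union_singleton]
        rw [Set.insert_sdiff_of_notMem]
        rw [Set.mem_singleton_iff]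
        exact Ne.symm xa
      rw [h, sSup_union, sSup_singleton]
      apply
        (s_ind (hx.resolve_right xa)).disjoint_sup_right_of_disjoint_sup_left
          (a_dis_Sup_s.mono_right _).symm
      rw [← sSup_insert, Set.insert_sdiff_singleton, Set.insert_eq_of_mem (hx.resolve_right xa)]
  · rw [Set.mem_union, Set.mem_singleton_iff] at hx
    obtain hx | rfl := hx
    · exact s_sub hx
    · exact ha


lemma family_aux {α : Type*} [CompleteLattice α] [IsModularLattice α] [IsCompactlyGenerated α]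
    (P : α → Prop) (hPsup : ∀ s : Set α, (∀ a ∈ s, P a) → P (sSup s))
    (hPinf : ∀ a b, P a → P b → P (a ⊓ b))
    {ι : Type*} (S : ι → α) (hS : ∀ i, P (S i))
    (hsimple : ∀ i, S i ≠ ⊥ ∧ ∀ w, P w → w ≤ S i → w = ⊥ ∨ w = S i)
    (hsum : ⨆ i, S i = ⊤) (b : α) (hb : P b) :
    ∃ J : Set ι, iSupIndep (fun j : J => S j) ∧ IsCompl b (⨆ j : J, S j) := by
  obtain ⟨s, hsT, hind, hcompl⟩ := lattice_aux P hPsup hPinf (Set.range S)
    (by rintro _ ⟨i, rfl⟩; exact ⟨hS i, hsimple i⟩) (by rw [sSup_range]; exact hsum) b hb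
  have hch : ∀ a : s, ∃ i, S i = a := fun a => hsT a.2
  choose g hg using hch
  refine ⟨Set.range g, ?_, ?_⟩
  · have h1 : iSupIndep ((↑) : s → α) := (sSupIndep_iff s).1 hind
    let f : Set.range g → s := fun j => ⟨S j, by
      obtain ⟨a, ha⟩ := j.2
      rw [← ha, hg]; exact a.2⟩
    have hf : Function.Injective f := by
      rintro ⟨_, a, rfl⟩ ⟨_, a', rfl⟩ h
      have h2 : S (g a) = S (g a') := congrArg Subtype.val h
      rw [hg, hg] at h2
      have : a = a' := Subtype.ext h2
      subst this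
      rfl
    exact h1.comp hf
  · have : ⨆ j : Set.range g, S j = sSup s := by
      apply le_antisymm
      · apply iSup_le
        rintro ⟨_, a, rfl⟩
        show S (g a) ≤ sSup s
        rw [hg]; exact le_sSup a.2
      · apply sSup_le
        intro a ha
        have h3 := hg ⟨a, ha⟩
        have h4 : S (g ⟨a, ha⟩) ≤ ⨆ j : Set.range g, S j :=
          le_iSup (fun j : Set.range g => S j) ⟨g ⟨a, ha⟩, ⟨_, rfl⟩⟩
        rw [h3] at h4
        exact h4
    rw [this]; exact hcompl

section Comod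
variable {k : Type u} [Field k] {C : Type v} [AddCommGroup C] [Module k C] [Coalgebra k C]
variable {V : Type w} [AddCommGroup V] [Module k V] [HopfRep.Comod k C V]

lemma isSubcomod_iff (W : Submodule k V) :
    HopfRep.IsSubcomod (k := k) (A := C) W ↔ ∀ (θ : C →ₗ[k] k), W ≤ W.comap (RopV θ) := by
  constructor
  · intro hW θ w hw
    exact RopV_mem_of_isSubcomod hW θ hw
  · intro h w hw
    apply mem_range_rTensor_of_slices (C := C)
    intro θ
    exact h θ hw

lemma isSubcomod_sSup (s : Set (Submodule k V))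
    (hs : ∀ a ∈ s, HopfRep.IsSubcomod (k := k) (A := C) a) :
    HopfRep.IsSubcomod (k := k) (A := C) (sSup s) := by
  rw [isSubcomod_iff]
  intro θ
  apply sSup_le
  intro a ha
  exact ((isSubcomod_iff a).1 (hs a ha) θ).trans (Submodule.comap_mono (le_sSup ha))

lemma isSubcomod_inf (a b : Submodule k V)
    (ha : HopfRep.IsSubcomod (k := k) (A := C) a) (hb : HopfRep.IsSubcomod (k := k) (A := C) b) :
    HopfRep.IsSubcomod (k := k) (A := C) (a ⊓ b) := by
  rw [isSubcomod_iff]
  intro θ w hw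
  exact ⟨(isSubcomod_iff a).1 ha θ hw.1, (isSubcomod_iff b).1 hb θ hw.2⟩

end Comod

end Groth.Agent.Helper2.SimpleSum
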