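import Mathlib
import Groth.Prelude.Def_Hoch
import Groth.Prelude.Def_ComodSub
import Groth.Agent.Helper2.ComodGen
import Groth.Agent.Helper2.SimpleSum
import Groth.Agent.Helper2.SemisimpleEnd
import Groth.Agent.Helper2.TrigFlag
import Groth.Agent.Helper2.HochInd
import Groth.Agent.S7972
import Groth.Agent.S7947

set_option autoImplicit false
universe u v
open TensorProduct Groth.Agent.Helper2.ComodGen Groth.Agent.Helper2.SimpleSum
  Groth.Agent.Helper2.SemisimpleEnd Groth.Agent.Helper2.TrigFlag Groth.Agent.Helper2.HochInd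

namespace Groth.Agent.Helper2.LinRedSplit

variable {k : Type u} {A : Type v} [Field k] [CommRing A] [HopfAlgebra k A]

section A
variable {X Y : Type v} [AddCommGroup X] [Module k X] [HopfRep.Comod k A X]
  [AddCommGroup Y] [Module k Y] [HopfRep.Comod k A Y]

lemma eq_zero_of_slices (t : Y ⊗[k] A)
    (h : ∀ θ : A →ₗ[k] k, (TensorProduct.rid k Y) (θ.lTensor Y t) = 0) : t = 0 := by
  have h1 := mem_range_rTensor_of_slices (C := A) (⊥ : Submodule k Y) t (fun θ => by
    rw [h θ]; exact Submodule.zero_mem _)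
  obtain ⟨s, hs⟩ := h1
  have h0 : (⊥ : Submodule k Y).subtype = 0 := by
    ext x
    have := (Submodule.mem_bot k).1 x.2
    simpa using this
  rw [h0, LinearMap.rTensor_zero, LinearMap.zero_apply] at hs
  exact hs.symm

lemma isComodHom_of_RopV {f : X →ₗ[k] Y}
    (h : ∀ (θ : A →ₗ[k] k) (x : X), f (RopV θ x) = RopV θ (f x)) : Hoch.IsComodHom A f := by
  apply LinearMap.ext
  intro x
  rw [← sub_eq_zero]
  apply eq_zero_of_slices
  intro θ
  have key : f ∘ₗ (TensorProduct.rid k X).toLinearMap ∘ₗ θ.lTensor X =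
      (TensorProduct.rid k Y).toLinearMap ∘ₗ θ.lTensor Y ∘ₗ f.rTensor A := by
    ext a b
    simp
  have h1 := LinearMap.congr_fun key (HopfRep.Comod.coact (k := k) (A := A) x)
  simp only [LinearMap.comp_apply, LinearEquiv.coe_coe] at h1
  rw [map_sub, map_sub, LinearMap.comp_apply, LinearMap.comp_apply, ← h1]
  have h2 := h θ x
  simp only [RopV, LinearMap.comp_apply, LinearEquiv.coe_coe] at h2
  rw [h2, sub_self]

end A

section B
variable {V : Type v} [AddCommGroup V] [Module k V] [c : HopfRep.Comod k A V]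

lemma RopV_restr (W : Submodule k V) (hW : HopfRep.IsSubcomod (k := k) (A := A) W)
    (θ : A →ₗ[k] k) (w : W) :
    ((@RopV k _ A _ _ _ W _ _ (ComodSub.Comod.restr c W hW) θ w : W) : V) = RopV θ (w : V) := by
  have key : W.subtype ∘ₗ (TensorProduct.rid k W).toLinearMap ∘ₗ LinearMap.lTensor W θ =
      (TensorProduct.rid k V).toLinearMap ∘ₗ LinearMap.lTensor V θ ∘ₗ
        W.subtype.rTensor A := by
    ext x y
    simp
  have h1 := LinearMap.congr_fun key ((ComodSub.Comod.restr c W hW).coact w)
  simp only [LinearMap.comp_apply, LinearEquiv.coe_coe] at h1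
  rw [ComodSub.restr_coact_coe] at h1
  exact h1

lemma isSubcomod_comap_restr (W : Submodule k V) (hW : HopfRep.IsSubcomod (k := k) (A := A) W)
    (S : Submodule k V) (hS : HopfRep.IsSubcomod (k := k) (A := A) S) :
    @HopfRep.IsSubcomod k A _ _ _ _ W _ _ (ComodSub.Comod.restr c W hW) (S.comap W.subtype) := by
  letI cW : HopfRep.Comod k A W := ComodSub.Comod.restr c W hW
  rw [isSubcomod_iff]
  intro θ w hw
  show ((RopV θ w : W) : V) ∈ S
  rw [RopV_restr W hW θ w]
  exact RopV_mem_of_isSubcomod hS θ hw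

/-- simple subcomodules -/
def IsSimpleSub (S : Submodule k V) : Prop :=
  HopfRep.IsSubcomod (k := k) (A := A) S ∧ S ≠ ⊥ ∧
    ∀ W' : Submodule k V, HopfRep.IsSubcomod (k := k) (A := A) W' → W' ≤ S → W' = ⊥ ∨ W' = S

lemma le_iSup_simple_aux (hLR : HopfRep.IsLinearlyReductive k A) (n : ℕ) :
    ∀ W : Submodule k V, HopfRep.IsSubcomod (k := k) (A := A) W → Module.Finite k W →
      Module.finrank k W = n →
      W ≤ ⨆ S : {S : Submodule k V // IsSimpleSub (k := k) (A := A) S}, (S : Submodule k V) := by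
  classical
  induction n using Nat.strong_induction_on with
  | _ n ih =>
    intro W hW hfin hn
    by_cases hW0 : W = ⊥
    · rw [hW0]; exact bot_le
    -- minimal nonzero subcomodule inside W
    have hex : ∃ d : ℕ, ∃ S : Submodule k V, HopfRep.IsSubcomod (k := k) (A := A) S ∧ S ≠ ⊥ ∧
        S ≤ W ∧ Module.finrank k S = d := ⟨_, W, hW, hW0, le_rfl, rfl⟩
    obtain ⟨S, hS, hSne, hSW, hSd⟩ := Nat.find_spec hex
    haveI : Module.Finite k S := Submodule.finiteDimensional_of_le hSW
    have hsimple : IsSimpleSub (k := k) (A := A) S := by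
      refine ⟨hS, hSne, ?_⟩
      intro W' hW' hW'S
      by_cases h0 : W' = ⊥
      · exact Or.inl h0
      · right
        have h1 : Nat.find hex ≤ Module.finrank k W' :=
          Nat.find_min' hex ⟨W', hW', h0, hW'S.trans hSW, rfl⟩
        exact Submodule.eq_of_le_of_finrank_le hW'S (by rw [hSd]; exact h1)
    -- complement of S in W
    letI cW : HopfRep.Comod k A W := ComodSub.Comod.restr c W hW
    obtain ⟨T', hT', hcompl⟩ := hLR W hfin (S.comap W.subtype) (isSubcomod_comap_restr W hW S hS)
    set T : Submodule k V := T'.map W.subtype with hT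
    have hTsub : HopfRep.IsSubcomod (k := k) (A := A) T := isSubcomod_map_of_restr V W hW T' hT'
    have hTW : T ≤ W := by
      rintro _ ⟨w, _, rfl⟩
      exact w.2
    have hST : W ≤ S ⊔ T := by
      intro w hw
      have h1 : (⟨w, hw⟩ : W) ∈ (S.comap W.subtype) ⊔ T' := by
        rw [hcompl.sup_eq_top]; trivial
      obtain ⟨a, ha, b, hb, hab⟩ := Submodule.mem_sup.1 h1
      have : w = (a : V) + (b : V) := by
        have := congrArg Subtype.val hab
        simpa using this.symm
      rw [this]
      exact Submodule.add_mem _ (Submodule.mem_sup_left ha) (Submodule.mem_sup_right ⟨b, hb, rfl⟩)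
    have hdisj : S ⊓ T = ⊥ := by
      rw [eq_bot_iff]
      rintro x ⟨hxS, w, hw, rfl⟩
      have : w ∈ (S.comap W.subtype) ⊓ T' := ⟨hxS, hw⟩
      rw [hcompl.inf_eq_bot] at this
      have hw0 : w = 0 := this
      rw [hw0]; simp
    haveI : Module.Finite k T := Submodule.finiteDimensional_of_le hTW
    have hlt : Module.finrank k T < n := by
      have h1 : Module.finrank k (S ⊔ T : Submodule k V) + Module.finrank k (S ⊓ T : Submodule k V) =
          Module.finrank k S + Module.finrank k T := Submodule.finrank_sup_add_finrank_inf_eq S T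
      rw [hdisj, finrank_bot, add_zero] at h1
      have h2 : Module.finrank k (S ⊔ T : Submodule k V) ≤ Module.finrank k W := by
        apply Submodule.finrank_mono
        exact sup_le hSW hTW
      have h3 : 0 < Module.finrank k S := by
        rw [Module.finrank_pos_iff]
        exact (Submodule.nontrivial_iff_ne_bot).2 hSne
      omega
    have hTle := ih _ hlt T hTsub inferInstance rfl
    have hSle : S ≤ ⨆ S : {S : Submodule k V // IsSimpleSub (k := k) (A := A) S},
        (S : Submodule k V) :=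
      le_iSup (fun S : {S : Submodule k V // IsSimpleSub (k := k) (A := A) S} =>
        (S : Submodule k V)) ⟨S, hsimple⟩
    exact hST.trans (sup_le hSle hTle)

lemma iSup_simple_eq_top (hLR : HopfRep.IsLinearlyReductive k A) :
    ⨆ S : {S : Submodule k V // IsSimpleSub (k := k) (A := A) S}, (S : Submodule k V) = ⊤ := by
  rw [eq_top_iff]
  intro v _
  set W : Submodule k V := gen (C := A) (Submodule.span k {v}) with hWdef
  have hW : HopfRep.IsSubcomod (k := k) (A := A) W := isSubcomod_gen _
  have hfg : W.FG := gen_fg (Submodule.fg_span (Set.finite_singleton v))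
  have hfin : Module.Finite k W := Module.Finite.iff_fg.2 hfg
  have hvW : v ∈ W := le_gen _ (Submodule.mem_span_singleton_self v)
  exact le_iSup_simple_aux hLR _ W hW hfin rfl hvW

/-- every subcomodule of a comodule over a linearly reductive group has a complementary subcomodule -/
lemma exists_compl (hLR : HopfRep.IsLinearlyReductive k A) (W : Submodule k V)
    (hW : HopfRep.IsSubcomod (k := k) (A := A) W) :
    ∃ C : Submodule k V, HopfRep.IsSubcomod (k := k) (A := A) C ∧ IsCompl W C := by
  obtain ⟨J, -, hJ⟩ := Groth.Agent.S7972.result k A V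
    (fun S : {S : Submodule k V // IsSimpleSub (k := k) (A := A) S} => (S : Submodule k V))
    (fun S => S.2.1) (fun S => ⟨S.2.2.1, S.2.2.2⟩) (iSup_simple_eq_top hLR) W hW
  refine ⟨_, ?_, hJ⟩
  rw [iSup]
  apply isSubcomod_sSup
  rintro _ ⟨j, rfl⟩
  exact j.1.2.1

end B

section C
variable (V : Type v) [AddCommGroup V] [Module k V] [HopfRep.Comod k A V]

lemma isComodHom_toInd : Hoch.IsComodHom A (Hoch.toInd k A V) := by
  apply LinearMap.ext
  intro v
  have hco := LinearMap.congr_fun (HopfRep.Comod.coassoc (k := k) (A := A) (V := V)) v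
  simp only [LinearMap.comp_apply, LinearEquiv.coe_coe] at hco
  show (TensorProduct.assoc k V A A).symm ((Coalgebra.comul (R := k) (A := A)).lTensor V
      (HopfRep.Comod.coact (k := k) (A := A) v)) =
    (HopfRep.Comod.coact (k := k) (A := A) (V := V)).rTensor A
      (HopfRep.Comod.coact (k := k) (A := A) v)
  rw [← hco, LinearEquiv.symm_apply_apply]

lemma counit_toInd (v : V) : Hoch.Ind.counit k A V (Hoch.toInd k A V v) = v := by
  have hcu := LinearMap.congr_fun (HopfRep.Comod.counit_comp (k := k) (A := A) (V := V)) v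
  simp only [LinearMap.comp_apply, LinearMap.flip_apply, TensorProduct.mk_apply] at hcu
  show (TensorProduct.rid k V) ((Coalgebra.counit (R := k) (A := A)).lTensor V
    (HopfRep.Comod.coact (k := k) (A := A) v)) = v
  rw [hcu]
  simp

/-- a comodule retraction of `V → Ind V` over a linearly reductive group -/
lemma exists_retraction (hLR : HopfRep.IsLinearlyReductive k A) :
    ∃ r : Hoch.Ind k A V →ₗ[k] V, Hoch.IsComodHom A r ∧ ∀ v, r (Hoch.toInd k A V v) = v := by
  set R : Submodule k (Hoch.Ind k A V) := LinearMap.range (Hoch.toInd k A V) with hR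
  have hRsub : HopfRep.IsSubcomod (k := k) (A := A) R := by
    rw [isSubcomod_iff]
    rintro θ _ ⟨v, rfl⟩
    show RopV θ (Hoch.toInd k A V v) ∈ R
    rw [← RopV_hom (isComodHom_toInd V) θ v]
    exact ⟨_, rfl⟩
  obtain ⟨C, hC, hcompl⟩ := exists_compl hLR R hRsub
  set r : Hoch.Ind k A V →ₗ[k] V :=
    Hoch.Ind.counit k A V ∘ₗ R.projection C hcompl with hr
  have hr_apply : ∀ (v : V) (c : Hoch.Ind k A V), c ∈ C → r (Hoch.toInd k A V v + c) = v := by
    intro v c hc
    have h1 : R.projection C hcompl (Hoch.toInd k A V v + c) = Hoch.toInd k A V v := by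
      rw [map_add, Submodule.projection_apply_of_mem_right hcompl hc, add_zero]
      exact Submodule.projection_apply_of_mem_left hcompl ⟨v, rfl⟩
    simp only [hr, LinearMap.comp_apply, h1]
    exact counit_toInd V v
  refine ⟨r, ?_, ?_⟩
  · apply isComodHom_of_RopV
    intro θ x
    have hx : x ∈ R ⊔ C := by rw [hcompl.sup_eq_top]; trivial
    obtain ⟨a, ⟨v, rfl⟩, c, hc, rfl⟩ := Submodule.mem_sup.1 hx
    rw [map_add, ← RopV_hom (isComodHom_toInd V) θ v, hr_apply v c hc,
      hr_apply _ _ (RopV_mem_of_isSubcomod hC θ hc)]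
  · intro v
    have := hr_apply v 0 (Submodule.zero_mem _)
    rwa [add_zero] at this

end C

section D
variable {X Y Z : Type v} [AddCommGroup X] [Module k X] [HopfRep.Comod k A X]
  [AddCommGroup Y] [Module k Y] [HopfRep.Comod k A Y]
  [AddCommGroup Z] [Module k Z] [HopfRep.Comod k A Z]

/-- the induced map on cochains -/
noncomputable def fmap (f : X →ₗ[k] Y) : (n : ℕ) → ((Hoch.cochain k A X n : Type v) →ₗ[k]
    (Hoch.cochain k A Y n : Type v))
  | 0 => f
  | n + 1 => (fmap f n).rTensor A

lemma d_fmap {f : X →ₗ[k] Y} (hf : Hoch.IsComodHom A f) (n : ℕ) :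
    Hoch.d k A Y n ∘ₗ fmap (A := A) f n = fmap (A := A) f (n + 1) ∘ₗ Hoch.d k A X n := by
  induction n with
  | zero =>
    show ((HopfRep.Comod.coact (k := k) (A := A) : Y →ₗ[k] Y ⊗[k] A) -
        (TensorProduct.mk k Y A).flip 1) ∘ₗ f =
      f.rTensor A ∘ₗ ((HopfRep.Comod.coact (k := k) (A := A) : X →ₗ[k] X ⊗[k] A) -
        (TensorProduct.mk k X A).flip 1)
    rw [LinearMap.sub_comp, LinearMap.comp_sub]
    have h1 : HopfRep.Comod.coact (k := k) (A := A) ∘ₗ f =
        f.rTensor A ∘ₗ HopfRep.Comod.coact (k := k) (A := A) := hf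
    rw [h1]
    congr 1
  | succ n ih =>
    rw [Hoch.d_succ, Hoch.d_succ]
    show ((Hoch.d k A Y n).rTensor A +
          ((-1 : k) ^ (n + 1)) • Hoch.tail k A (Hoch.cochain k A Y n)) ∘ₗ
        (fmap (A := A) f n).rTensor A =
      ((fmap (A := A) f n).rTensor A).rTensor A ∘ₗ ((Hoch.d k A X n).rTensor A +
          ((-1 : k) ^ (n + 1)) • Hoch.tail k A (Hoch.cochain k A X n))
    have hnat := tail_nat (k := k) (A := A) (fmap (A := A) f n)
    have ih' : Hoch.d k A Y n ∘ₗ fmap (A := A) f n =
        (fmap (A := A) f n).rTensor A ∘ₗ Hoch.d k A X n := ih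
    rw [LinearMap.add_comp, LinearMap.comp_add, LinearMap.comp_smul, LinearMap.smul_comp, hnat,
      ← LinearMap.rTensor_comp, ← LinearMap.rTensor_comp, ih']

lemma fmap_comp (f : X →ₗ[k] Y) (g : Y →ₗ[k] Z) (n : ℕ) :
    fmap (A := A) (g ∘ₗ f) n = fmap (A := A) g n ∘ₗ fmap (A := A) f n := by
  induction n with
  | zero => rfl
  | succ n ih =>
    show (fmap (A := A) (g ∘ₗ f) n).rTensor A =
      (fmap (A := A) g n).rTensor A ∘ₗ (fmap (A := A) f n).rTensor A
    rw [ih, LinearMap.rTensor_comp]

lemma fmap_id (n : ℕ) : fmap (A := A) (LinearMap.id : X →ₗ[k] X) n = LinearMap.id := by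
  induction n with
  | zero => rfl
  | succ n ih =>
    show (fmap (A := A) (LinearMap.id : X →ₗ[k] X) n).rTensor A = LinearMap.id
    rw [ih, LinearMap.rTensor_id]

end D

end Groth.Agent.Helper2.LinRedSplit
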