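import Mathlib
import Groth.Agent.Helper2.ComodGen
import Groth.Agent.Helper2.ComodDiag

set_option autoImplicit false
universe u v w
open TensorProduct Groth.Agent.Helper2.ComodGen

namespace Groth.Agent.Helper2.ComodDiagG

variable {k : Type u} [CommRing k] {C : Type v} [AddCommGroup C] [Module k C] [Coalgebra k C]
variable {ι : Type*} (b : Module.Basis ι k C) (hb : ∀ i, IsGroupLikeElem k (b i))
variable {V : Type w} [AddCommGroup V] [Module k V] [HopfRep.Comod k C V]

local notation "ρ" => (HopfRep.Comod.coact (k := k) (A := C) (V := V))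

include hb in
lemma cv_coord (m n : ι) [Decidable (m = n)] :
    cv (b.coord m) (b.coord n) = if m = n then b.coord m else 0 := by
  classical
  apply b.ext
  intro x
  simp only [cv, LinearMap.comp_apply, (hb x).comul_eq_tmul_self, TensorProduct.map_tmul,
    LinearMap.mul'_apply, Module.Basis.coord_apply, Module.Basis.repr_self, Finsupp.single_apply]
  split_ifs with h1 h2 h3 h4 <;> simp_all

/-- isotypic projector -/
noncomputable def π (m : ι) : V →ₗ[k] V := RopV (b.coord m)

include hb in
lemma π_π (m n : ι) (v : V) [Decidable (m = n)] :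
    π b m (π b n v) = if m = n then π b m v else 0 := by
  rw [π, π, RopV_RopV, cv_coord b hb]
  split_ifs
  · rfl
  · simp [RopV]

lemma exists_expansion (v : V) :
    ∃ c : ι →₀ V, (∀ m, c m = π b m v) ∧
      ρ v = c.sum (fun m u => u ⊗ₜ[k] b m) := by
  obtain ⟨c, hc1, hc2⟩ := Groth.Agent.Helper2.ComodDiag.exists_repr_basis b (ρ v)
  exact ⟨c, fun m => by rw [hc1 m]; rfl, hc2⟩

include hb in
lemma sum_eq_self (v : V) (c : ι →₀ V)
    (hc : ρ v = c.sum (fun m u => u ⊗ₜ[k] b m)) :
    v = c.sum (fun _ u => u) := by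
  have hcu := LinearMap.congr_fun
    (HopfRep.Comod.counit_comp (k := k) (A := C) (V := V)) v
  simp only [LinearMap.comp_apply, LinearMap.flip_apply, TensorProduct.mk_apply] at hcu
  have h2 : v = (TensorProduct.rid k V)
      ((Coalgebra.counit (R := k) (A := C)).lTensor V (ρ v)) := by
    rw [hcu]; simp
  conv_lhs => rw [h2, hc]
  simp [Finsupp.sum, map_sum, (hb _).counit_eq_one]

include hb in
lemma coact_π (n : ι) (v : V) :
    ρ (π b n v) = π b n v ⊗ₜ[k] b n := by
  classical
  obtain ⟨c, hc1, hc2⟩ := exists_expansion b (π b n v)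
  rw [hc2, Finsupp.sum, Finset.sum_eq_single n]
  · rw [hc1 n, π_π b hb, if_pos rfl]
  · intro m _ hmn
    rw [hc1 m, π_π b hb, if_neg hmn, TensorProduct.zero_tmul]
  · intro hn
    rw [Finsupp.notMem_support_iff.1 hn, TensorProduct.zero_tmul]

include hb in
/-- every vector is a finite sum of eigenvectors -/
lemma mem_span_eigen (v : V) :
    v ∈ Submodule.span k {x : V | ∃ a : C, ρ x = x ⊗ₜ[k] a} := by
  obtain ⟨c, hc1, hc2⟩ := exists_expansion b v
  rw [sum_eq_self b hb v c hc2]
  refine Submodule.sum_mem _ fun m _ => Submodule.subset_span ?_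
  show ∃ a : C, ρ (c m) = c m ⊗ₜ[k] a
  exact ⟨b m, by rw [hc1 m, coact_π b hb]⟩

end Groth.Agent.Helper2.ComodDiagG
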