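import Mathlib
import Groth.Prelude.Def_ComodSub
import Groth.Agent.Helper2.ComodGen
import Groth.Prelude.Def_ComodSub
import Groth.Agent.Helper2.ComodGen
import Groth.Agent.Helper2.ComodDiagG

set_option autoImplicit false
universe u v
open TensorProduct Groth.Agent.Helper2.ComodGen Groth.Agent.Helper2.ComodDiagG

namespace Groth.Agent.Helper2.DiagEigen

variable {k : Type u} [Field k] {A : Type v} [CommRing A] [HopfAlgebra k A]

/-- a basis of group-like elements when they span -/
lemma exists_groupLike_basis (h : Submodule.span k {a : A | IsGroupLikeElem k a} = ⊤) :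
    ∃ (ι : Type v) (b : Module.Basis ι k A), ∀ i, IsGroupLikeElem k (b i) := by
  have hli : LinearIndependent k (fun x : {a : A | IsGroupLikeElem k a} => (x : A)) :=
    linearIndepOn_isGroupLikeElem (R := k) (A := A)
  have hsp : ⊤ ≤ Submodule.span k (Set.range (fun x : {a : A | IsGroupLikeElem k a} => (x : A))) := by
    rw [Subtype.range_coe_subtype]
    exact h.ge
  refine ⟨{a : A | IsGroupLikeElem k a}, Module.Basis.mk hli hsp, fun i => ?_⟩
  rw [Module.Basis.mk_apply]
  exact i.2

/-- an eigenvector of the regular comodule is a multiple of a group-like element -/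
lemma eigen_mem_span (w a' : A) (hw : Coalgebra.comul (R := k) w = w ⊗ₜ[k] a') :
    w ∈ Submodule.span k {a : A | IsGroupLikeElem k a} := by
  by_cases hw0 : w = 0
  · rw [hw0]; exact Submodule.zero_mem _
  have h1 : Coalgebra.counit (R := k) w • a' = w := by
    have := Coalgebra.rTensor_counit_comul (R := k) w
    rw [hw, LinearMap.rTensor_tmul] at this
    have h2 := congrArg (TensorProduct.lid k A) this
    simpa using h2
  have hε : Coalgebra.counit (R := k) w ≠ 0 := by
    intro h0
    rw [h0, zero_smul] at h1
    exact hw0 h1.symm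
  have ha' : a' = (Coalgebra.counit (R := k) w)⁻¹ • w := by
    have := congrArg (fun x => (Coalgebra.counit (R := k) w)⁻¹ • x) h1
    simp only [smul_smul, inv_mul_cancel₀ hε, one_smul] at this
    exact this
  have hgl : IsGroupLikeElem k a' := by
    refine ⟨?_, ?_⟩
    · rw [ha', map_smul, smul_eq_mul, inv_mul_cancel₀ hε]
    · calc Coalgebra.comul (R := k) a'
          = Coalgebra.comul (R := k) ((Coalgebra.counit (R := k) w)⁻¹ • w) := by rw [← ha']
        _ = (Coalgebra.counit (R := k) w)⁻¹ • (w ⊗ₜ[k] a') := by rw [map_smul, hw]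
        _ = ((Coalgebra.counit (R := k) w)⁻¹ • w) ⊗ₜ[k] a' := (TensorProduct.smul_tmul' _ _ _)
        _ = a' ⊗ₜ[k] a' := by rw [← ha']
  rw [← h1]
  exact Submodule.smul_mem _ _ (Submodule.subset_span hgl)

end Groth.Agent.Helper2.DiagEigen
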