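import Mathlib

set_option autoImplicit false
universe u v w

namespace Groth.Agent.Helper2.FlagGroup

variable {k : Type u} {V : Type v} {G : Type w} [Field k] [AddCommGroup V] [Module k V] [Group G]

section Nilp
variable (ρ : G →* Module.End k V) (F : ℕ → Submodule k V)

/-- elements moving `F (i+j)` into `F i` -/
def H (hmono : Monotone F) (hunip : ∀ g i, ∀ v ∈ F (i + 1), ρ g v - v ∈ F i) (j : ℕ) : Subgroup G where
  carrier := {g | ∀ i, ∀ v ∈ F (i + (j + 1)), ρ g v - v ∈ F i}
  one_mem' := by
    intro i v _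
    simp
  mul_mem' := by
    intro a b ha hb i v hv
    have hstab : ∀ g i, ∀ v ∈ F i, ρ g v ∈ F i := by
      intro g i v hv
      have := hunip g i v (hmono (Nat.le_succ i) hv)
      have h2 := (F i).add_mem this hv
      simpa using h2
    have e : ρ (a * b) v - v = ρ a (ρ b v - v) + (ρ a v - v) := by
      rw [map_mul, Module.End.mul_apply, map_sub]
      abel
    rw [e]
    exact (F i).add_mem (hstab a i _ (hb i v hv)) (ha i v hv)
  inv_mem' := by
    intro a ha i v hv
    have hstab : ∀ g i, ∀ v ∈ F i, ρ g v ∈ F i := by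
      intro g i v hv
      have := hunip g i v (hmono (Nat.le_succ i) hv)
      have h2 := (F i).add_mem this hv
      simpa using h2
    have e : ρ a⁻¹ v - v = - ρ a⁻¹ (ρ a v - v) := by
      rw [map_sub, ← Module.End.mul_apply, ← map_mul, inv_mul_cancel, map_one, Module.End.one_apply]
      abel
    rw [e]
    exact (F i).neg_mem (hstab _ i _ (ha i v hv))

theorem isNilpotent_of_flag (hρ : Function.Injective ρ) (hmono : Monotone F) (h0 : F 0 = ⊥)
    (m : ℕ) (hm : F m = ⊤) (hunip : ∀ g i, ∀ v ∈ F (i + 1), ρ g v - v ∈ F i) :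
    Group.IsNilpotent G := by
  have hstab : ∀ g i, ∀ v ∈ F i, ρ g v ∈ F i := by
    intro g i v hv
    have := hunip g i v (hmono (Nat.le_succ i) hv)
    have h2 := (F i).add_mem this hv
    simpa using h2
  rw [Subgroup.nilpotent_iff_finite_descending_central_series]
  refine ⟨m, H ρ F hmono hunip, ⟨?_, ?_⟩, ?_⟩
  · rw [eq_top_iff]
    intro g _ i v hv
    exact hunip g i v hv
  · intro x j hx g i v hv
    set w := ρ (g * x)⁻¹ v with hw
    have hwv : ρ (g * x) w = v := by
      rw [hw, ← Module.End.mul_apply, ← map_mul, mul_inv_cancel, map_one, Module.End.one_apply]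
    have hwmem : w ∈ F (i + (j + 1 + 1)) := hstab _ _ _ hv
    have e1 : ρ (x * g * x⁻¹ * g⁻¹) v = ρ (x * g) w := by
      rw [hw, ← Module.End.mul_apply, ← map_mul]
      congr 2
      group
    have e2 : ρ (x * g * x⁻¹ * g⁻¹) v - v =
        (ρ x (ρ g w - w) - (ρ g w - w)) - (ρ g (ρ x w - w) - (ρ x w - w)) := by
      rw [e1]
      conv_lhs => rw [← hwv]
      rw [map_mul, map_mul, Module.End.mul_apply, Module.End.mul_apply, map_sub, map_sub]
      abel
    rw [commutatorElement_def, e2]
    apply (F i).sub_mem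
    · apply hx i
      have : i + (j + 1 + 1) = (i + (j + 1)) + 1 := by omega
      rw [this] at hwmem
      exact hunip g _ w hwmem
    · apply hunip g i
      apply hx (i + 1)
      have : i + (j + 1 + 1) = i + 1 + (j + 1) := by omega
      rw [this] at hwmem
      exact hwmem
  · rw [eq_bot_iff]
    intro g hg
    have hg' : ∀ v, ρ g v - v = 0 := by
      intro v
      have h1 : v ∈ F (0 + (m + 1)) := by
        have : F m ≤ F (0 + (m + 1)) := hmono (by omega)
        apply this
        rw [hm]
        trivial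
      have := hg 0 v h1
      rw [h0] at this
      exact this
    have : ρ g = ρ 1 := by
      ext v
      rw [map_one, Module.End.one_apply]
      exact sub_eq_zero.1 (hg' v)
    exact hρ this

end Nilp


section Solv
variable [Module.Finite k V]

lemma comm_mem (S T : Module.End k V) (W W' : Submodule k V) (hWW' : W ≤ W')
    (hS : ∀ v ∈ W, S v ∈ W) (hS' : ∀ v ∈ W', S v ∈ W')
    (hT : ∀ v ∈ W, T v ∈ W) (hT' : ∀ v ∈ W', T v ∈ W')
    (hdim : Module.finrank k W' ≤ Module.finrank k W + 1) :
    ∀ v ∈ W', S (T v) - T (S v) ∈ W := by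
  by_cases h : W = W'
  · subst h
    intro v hv
    exact W.sub_mem (hS _ (hT _ hv)) (hT _ (hS _ hv))
  · have hlt : W < W' := lt_of_le_of_ne hWW' h
    obtain ⟨e, he', he⟩ := SetLike.exists_of_lt hlt
    have hle : W ⊔ Submodule.span k {e} ≤ W' := by
      apply sup_le hWW'
      rw [Submodule.span_le]
      intro x hx
      rw [Set.mem_singleton_iff] at hx
      rw [hx]; exact he'
    have hlt2 : W < W ⊔ Submodule.span k {e} := by
      apply lt_of_le_of_ne le_sup_left
      intro heq
      apply he
      rw [heq]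
      exact Submodule.mem_sup_right (Submodule.mem_span_singleton_self e)
    have hrk := Submodule.finrank_lt_finrank_of_lt hlt2
    have heq : W ⊔ Submodule.span k {e} = W' :=
      Submodule.eq_of_le_of_finrank_le hle (by omega)
    have hdecomp : ∀ v ∈ W', ∃ w ∈ W, ∃ c : k, v = w + c • e := by
      intro v hv
      rw [← heq, Submodule.mem_sup] at hv
      obtain ⟨w, hw, y, hy, rfl⟩ := hv
      obtain ⟨c, rfl⟩ := Submodule.mem_span_singleton.1 hy
      exact ⟨w, hw, c, rfl⟩
    obtain ⟨wS, hwS, a, hSe⟩ := hdecomp _ (hS' e he')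
    obtain ⟨wT, hwT, b, hTe⟩ := hdecomp _ (hT' e he')
    have hee : S (T e) - T (S e) ∈ W := by
      rw [hSe, hTe, map_add, map_add, map_smul, map_smul, hSe, hTe]
      have : S wT + b • (wS + a • e) - (T wS + a • (wT + b • e)) =
          S wT + b • wS - T wS - a • wT := by
        rw [smul_add, smul_add, smul_smul, smul_smul, mul_comm b a]
        abel
      rw [this]
      exact W.sub_mem (W.sub_mem (W.add_mem (hS _ hwT) (W.smul_mem _ hwS)) (hT _ hwS))
        (W.smul_mem _ hwT)
    intro v hv
    obtain ⟨w, hw, c, rfl⟩ := hdecomp v hv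
    have : S (T (w + c • e)) - T (S (w + c • e)) =
        (S (T w) - T (S w)) + c • (S (T e) - T (S e)) := by
      simp only [map_add, map_smul, smul_sub]
      abel
    rw [this]
    exact W.add_mem (W.sub_mem (hS _ (hT _ hw)) (hT _ (hS _ hw))) (W.smul_mem _ hee)

variable (ρ : G →* Module.End k V) (F : ℕ → Submodule k V)

/-- elements acting trivially on the graded pieces -/
def N (hstab : ∀ g i, ∀ v ∈ F i, ρ g v ∈ F i) : Subgroup G where
  carrier := {g | ∀ i, ∀ v ∈ F (i + 1), ρ g v - v ∈ F i}
  one_mem' := by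
    intro i v _
    simp
  mul_mem' := by
    intro a b ha hb i v hv
    have e : ρ (a * b) v - v = ρ a (ρ b v - v) + (ρ a v - v) := by
      rw [map_mul, Module.End.mul_apply, map_sub]
      abel
    rw [e]
    exact (F i).add_mem (hstab a i _ (hb i v hv)) (ha i v hv)
  inv_mem' := by
    intro a ha i v hv
    have e : ρ a⁻¹ v - v = - ρ a⁻¹ (ρ a v - v) := by
      rw [map_sub, ← Module.End.mul_apply, ← map_mul, inv_mul_cancel, map_one, Module.End.one_apply]
      abel
    rw [e]
    exact (F i).neg_mem (hstab _ i _ (ha i v hv))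

theorem isSolvable_of_flag (hρ : Function.Injective ρ) (hmono : Monotone F) (h0 : F 0 = ⊥)
    (m : ℕ) (hm : F m = ⊤) (hstab : ∀ g i, ∀ v ∈ F i, ρ g v ∈ F i)
    (hdim : ∀ i, Module.finrank k (F (i + 1)) ≤ Module.finrank k (F i) + 1) :
    Group.IsSolvable G := by
  haveI hnil : Group.IsNilpotent (N ρ F hstab) := by
    apply isNilpotent_of_flag (ρ.comp (N ρ F hstab).subtype) F ?_ hmono h0 m hm
    · intro g i v hv
      exact g.2 i v hv
    · intro a b hab
      exact Subtype.ext (hρ hab)
  have hcomm : commutator G ≤ N ρ F hstab := by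
    rw [commutator_def, Subgroup.commutator_le]
    intro x _ g _ i v hv
    set w := ρ (g * x)⁻¹ v with hw
    have hwv : ρ (g * x) w = v := by
      rw [hw, ← Module.End.mul_apply, ← map_mul, mul_inv_cancel, map_one, Module.End.one_apply]
    have hwmem : w ∈ F (i + 1) := hstab _ _ _ hv
    have e1 : ρ (x * g * x⁻¹ * g⁻¹) v = ρ (x * g) w := by
      rw [hw, ← Module.End.mul_apply, ← map_mul]
      congr 2
      group
    have e2 : ρ (x * g * x⁻¹ * g⁻¹) v - v = ρ x (ρ g w) - ρ g (ρ x w) := by
      rw [e1]
      conv_lhs => rw [← hwv]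
      rw [map_mul, map_mul, Module.End.mul_apply, Module.End.mul_apply]
    rw [commutatorElement_def, e2]
    exact comm_mem (ρ x) (ρ g) (F i) (F (i + 1)) (hmono (Nat.le_succ i)) (hstab x i)
      (hstab x (i + 1)) (hstab g i) (hstab g (i + 1)) (hdim i) w hwmem
  apply Group.isSolvable_of_ker_le_range (N ρ F hstab).subtype (Abelianization.of (G := G))
  rw [Abelianization.ker_of, Subgroup.range_subtype]
  exact hcomm

end Solv

end Groth.Agent.Helper2.FlagGroup
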