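import Mathlib

set_option autoImplicit false
universe u v w
open Module

namespace Groth.Agent.Helper2.Kolchin

section Burnside
variable {k : Type u} [Field k] {V : Type w} [AddCommGroup V] [Module k V]

/-- transitivity: the orbit of a nonzero vector under a transitive algebra is everything -/
lemma exists_apply_eq (A : Subalgebra k (Module.End k V))
    (htrans : ∀ W : Submodule k V, (∀ a ∈ A, ∀ w ∈ W, a w ∈ W) → W = ⊥ ∨ W = ⊤)
    {x : V} (hx : x ≠ 0) (y : V) : ∃ a ∈ A, a x = y := by
  let W : Submodule k V := (Subalgebra.toSubmodule A).map (LinearMap.applyₗ x)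
  have hW : ∀ a ∈ A, ∀ w ∈ W, a w ∈ W := by
    rintro a ha _ ⟨b, hb, rfl⟩
    exact ⟨a * b, A.mul_mem ha hb, rfl⟩
  have hxW : x ∈ W := ⟨1, A.one_mem, rfl⟩
  rcases htrans W hW with h | h
  · rw [h, Submodule.mem_bot] at hxW
    exact absurd hxW hx
  · have : y ∈ W := by rw [h]; trivial
    obtain ⟨a, ha, rfl⟩ := this
    exact ⟨a, ha, rfl⟩

variable [IsAlgClosed k] [FiniteDimensional k V]

/-- the rank-lowering step -/
lemma exists_smaller_rank (A : Subalgebra k (Module.End k V))
    (htrans : ∀ W : Submodule k V, (∀ a ∈ A, ∀ w ∈ W, a w ∈ W) → W = ⊥ ∨ W = ⊤)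
    (T : Module.End k V) (hT : T ∈ A) (x₁ x₂ : V) (hli : LinearIndependent k ![T x₁, T x₂]) :
    ∃ T' ∈ A, T' ≠ 0 ∧ finrank k (LinearMap.range T') < finrank k (LinearMap.range T) := by
  have hTx1 : T x₁ ≠ 0 := by
    have := hli.ne_zero 0
    simpa using this
  obtain ⟨S, hS, hSx⟩ := exists_apply_eq A htrans hTx1 x₂
  let R : Submodule k V := LinearMap.range T
  have hR : ∀ r ∈ R, (T * S) r ∈ R := fun r _ => ⟨S r, rfl⟩
  let f : Module.End k R := (T * S).restrict hR
  haveI : Nontrivial R := ⟨⟨⟨T x₁, ⟨x₁, rfl⟩⟩, 0, fun h => hTx1 (congrArg Subtype.val h)⟩⟩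
  obtain ⟨c, hc⟩ := Module.End.exists_eigenvalue f
  obtain ⟨w, hw⟩ := hc.exists_hasEigenvector
  have hw0 : w ≠ 0 := hw.2
  have hfw : f w = c • w := hw.apply_eq_smul
  let U : Module.End k V := T * S - c • 1
  have hU : U ∈ A := A.sub_mem (A.mul_mem hT hS) (A.smul_mem A.one_mem c)
  refine ⟨U * T, A.mul_mem hU hT, ?_, ?_⟩
  · intro h0
    have h1 : (U * T) x₁ = T x₂ - c • T x₁ := by
      simp [U, Module.End.mul_apply, hSx]
    rw [h0, LinearMap.zero_apply] at h1
    have h2 := LinearIndependent.pair_iff.1 hli (-c) 1 (by rw [one_smul, neg_smul, ← sub_eq_neg_add]; exact h1.symm)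
    exact one_ne_zero h2.2
  · have hle : LinearMap.range (U * T) ≤ LinearMap.range T := by
      rintro _ ⟨v, rfl⟩
      refine ⟨S (T v) - c • v, ?_⟩
      simp [U, Module.End.mul_apply]
    apply Submodule.finrank_lt_finrank_of_lt
    refine lt_of_le_of_ne hle ?_
    intro heq
    have hUR : ∀ r ∈ R, U r ∈ R := by
      rintro _ ⟨v, rfl⟩
      exact hle ⟨v, rfl⟩
    let g : Module.End k R := U.restrict hUR
    have hgs : Function.Surjective g := by
      rintro ⟨r, hr⟩
      have hr' : r ∈ LinearMap.range (U * T) := by rw [heq]; exact hr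
      obtain ⟨v, rfl⟩ := hr'
      exact ⟨⟨T v, ⟨v, rfl⟩⟩, Subtype.ext rfl⟩
    have hgi : Function.Injective g := LinearMap.injective_iff_surjective.2 hgs
    have hgw : g w = 0 := by
      apply Subtype.ext
      have h3 : ((f w : R) : V) = c • (w : V) := by rw [hfw]; rfl
      have h4 : ((f w : R) : V) = (T * S) (w : V) := rfl
      show U (w : V) = 0
      simp only [U, LinearMap.sub_apply, LinearMap.smul_apply, Module.End.one_apply]
      rw [← h4, h3, sub_self]
    exact hw0 (hgi (by rw [hgw, map_zero]))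

/-- a transitive algebra contains an operator of rank one -/
lemma exists_rank_one [Nontrivial V] (A : Subalgebra k (Module.End k V))
    (htrans : ∀ W : Submodule k V, (∀ a ∈ A, ∀ w ∈ W, a w ∈ W) → W = ⊥ ∨ W = ⊤) :
    ∃ T ∈ A, T ≠ 0 ∧ finrank k (LinearMap.range T) = 1 := by
  classical
  have hex : ∃ n, ∃ T ∈ A, T ≠ 0 ∧ finrank k (LinearMap.range T) = n :=
    ⟨_, 1, A.one_mem, one_ne_zero, rfl⟩
  obtain ⟨T, hT, hT0, hTr⟩ := Nat.find_spec hex
  have hmin := fun m (hm : m < Nat.find hex) => Nat.find_min hex hm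
  refine ⟨T, hT, hT0, ?_⟩
  have hpos : 0 < finrank k (LinearMap.range T) := by
    rw [Module.finrank_pos_iff_exists_ne_zero]
    obtain ⟨x, hx⟩ : ∃ x, T x ≠ 0 := by
      by_contra hcon
      push Not at hcon
      exact hT0 (LinearMap.ext hcon)
    exact ⟨⟨T x, ⟨x, rfl⟩⟩, fun h => hx (congrArg Subtype.val h)⟩
  by_contra hne
  have h2 : 1 < finrank k (LinearMap.range T) := by omega
  obtain ⟨x, hx⟩ : ∃ x, T x ≠ 0 := by
    by_contra hcon
    push Not at hcon
    exact hT0 (LinearMap.ext hcon)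
  have hx' : (⟨T x, ⟨x, rfl⟩⟩ : LinearMap.range T) ≠ 0 := fun h => hx (congrArg Subtype.val h)
  obtain ⟨⟨_, ⟨y, rfl⟩⟩, hy⟩ := exists_linearIndependent_pair_of_one_lt_finrank h2 hx'
  have hli : LinearIndependent k ![T x, T y] := by
    have := hy.map' (LinearMap.range T).subtype (Submodule.ker_subtype _)
    have heq : (⇑(LinearMap.range T).subtype ∘
        ![(⟨T x, ⟨x, rfl⟩⟩ : LinearMap.range T), ⟨T y, ⟨y, rfl⟩⟩]) = ![T x, T y] := by
      ext i
      fin_cases i <;> rfl
    rw [heq] at this
    exact this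
  obtain ⟨T', hT', hT'0, hlt⟩ := exists_smaller_rank A htrans T hT x y hli
  exact hmin _ (hTr ▸ hlt) ⟨T', hT', hT'0, rfl⟩

/-- **Burnside's theorem** on matrix algebras -/
theorem burnside [Nontrivial V] (A : Subalgebra k (Module.End k V))
    (htrans : ∀ W : Submodule k V, (∀ a ∈ A, ∀ w ∈ W, a w ∈ W) → W = ⊥ ∨ W = ⊤) :
    A = ⊤ := by
  obtain ⟨T, hT, hT0, hTr⟩ := exists_rank_one A htrans
  obtain ⟨⟨y0, hy0R⟩, hy0, hspan⟩ := finrank_eq_one_iff'.1 hTr
  have hy0' : y0 ≠ 0 := fun h => hy0 (Subtype.ext h)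
  obtain ⟨ψ, hψ⟩ : ∃ ψ : Module.Dual k V, ψ y0 ≠ 0 := by
    by_contra hcon
    push Not at hcon
    exact hy0' ((Module.forall_dual_apply_eq_zero_iff k y0).1 hcon)
  let φ0 : Module.Dual k V := ψ ∘ₗ T
  -- `T x = (φ0 x / ψ y0) • y0`
  have hTx : ∀ x, T x = ((ψ y0)⁻¹ * φ0 x) • y0 := by
    intro x
    obtain ⟨c, hc⟩ := hspan ⟨T x, ⟨x, rfl⟩⟩
    have hc' : c • y0 = T x := congrArg Subtype.val hc
    have : φ0 x = c * ψ y0 := by
      show ψ (T x) = _
      rw [← hc', map_smul, smul_eq_mul]
    rw [this, ← hc']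
    congr 1
    field_simp
  have hE : φ0.smulRight y0 ∈ A := by
    have : φ0.smulRight y0 = ψ y0 • T := by
      ext x
      rw [LinearMap.smulRight_apply, LinearMap.smul_apply, hTx, smul_smul, ← mul_assoc,
        mul_inv_cancel₀ hψ, one_mul]
    rw [this]
    exact A.smul_mem hT _
  have hφ0 : ∃ x', φ0 x' ≠ 0 := by
    by_contra hcon
    push Not at hcon
    apply hT0
    ext x
    rw [hTx, hcon]
    simp
  obtain ⟨x', hx'⟩ := hφ0
  -- all `φ0.smulRight y`
  have h1 : ∀ y, φ0.smulRight y ∈ A := by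
    intro y
    obtain ⟨S, hS, hSy⟩ := exists_apply_eq A htrans hy0' y
    have : φ0.smulRight y = S * φ0.smulRight y0 := by
      ext x
      simp [Module.End.mul_apply, hSy]
    rw [this]
    exact A.mul_mem hS hE
  -- functionals of the form `φ0 ∘ S`
  let Φ : Submodule k (Module.Dual k V) := (Subalgebra.toSubmodule A).map (LinearMap.compRight k φ0)
  have hΦ : Φ = ⊤ := by
    have hco : Φ.dualCoannihilator = ⊥ := by
      rw [eq_bot_iff]
      intro x hx
      rw [Submodule.mem_dualCoannihilator] at hx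
      rw [Submodule.mem_bot]
      by_contra hx0
      obtain ⟨S, hS, hSx⟩ := exists_apply_eq A htrans hx0 x'
      have := hx (φ0 ∘ₗ S) ⟨S, hS, rfl⟩
      rw [LinearMap.comp_apply, hSx] at this
      exact hx' this
    have := Subspace.dualCoannihilator_dualAnnihilator_eq (W := Φ)
    rw [hco, Submodule.dualAnnihilator_bot] at this
    exact this.symm
  have h2 : ∀ (φ : Module.Dual k V) (y : V), φ.smulRight y ∈ A := by
    intro φ y
    have : φ ∈ Φ := by rw [hΦ]; trivial
    obtain ⟨S, hS, rfl⟩ := this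
    have : (LinearMap.compRight k φ0 S).smulRight y = φ0.smulRight y * S := by
      ext x
      simp [Module.End.mul_apply]
    rw [this]
    exact A.mul_mem (h1 y) hS
  rw [eq_top_iff]
  intro f _
  let b := Module.finBasis k V
  have : f = ∑ i, (b.coord i).smulRight (f (b i)) := by
    ext x
    rw [LinearMap.sum_apply]
    simp only [LinearMap.smulRight_apply, Basis.coord_apply]
    conv_lhs => rw [← b.sum_repr x]
    rw [map_sum]
    simp
  rw [this]
  exact A.sum_mem (fun i _ => h2 _ _)

end Burnside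

section Kolchin
variable {k : Type u} [Field k]

lemma trace_smulRight {V : Type w} [AddCommGroup V] [Module k V] [FiniteDimensional k V]
    (φ : Module.Dual k V) (z : V) : LinearMap.trace k V (φ.smulRight z) = φ z := by
  have h := LinearMap.trace_eq_contract_apply (R := k) (M := V) (φ ⊗ₜ[k] z)
  rw [contractLeft_apply] at h
  rw [← h]
  congr 1

lemma eq_zero_of_trace_mul {V : Type w} [AddCommGroup V] [Module k V] [FiniteDimensional k V]
    (f : Module.End k V) (h : ∀ a : Module.End k V, LinearMap.trace k V (f * a) = 0) : f = 0 := by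
  ext y
  rw [LinearMap.zero_apply, ← Module.forall_dual_apply_eq_zero_iff k]
  intro φ
  have h1 := h (φ.smulRight y)
  have h2 : f * φ.smulRight y = φ.smulRight (f y) := by
    ext x
    simp [Module.End.mul_apply]
  rw [h2, trace_smulRight] at h1
  exact h1

lemma trace_sub_one_eq_zero {V : Type w} [AddCommGroup V] [Module k V] [FiniteDimensional k V]
    (f : Module.End k V) (hf : IsNilpotent (f - 1)) : LinearMap.trace k V (f - 1) = 0 :=
  (LinearMap.isNilpotent_trace_of_isNilpotent hf).eq_zero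

variable [IsAlgClosed k] {Γ : Type v} [Group Γ]

/-- Kolchin's theorem over an algebraically closed field -/
theorem kolchin_algClosed : ∀ (n : ℕ) (V : Type w) [AddCommGroup V] [Module k V]
    [FiniteDimensional k V] [Nontrivial V] (ρ : Γ →* Module.End k V)
    (_ : ∀ g : Γ, IsNilpotent (ρ g - 1)), finrank k V = n →
    ∃ v : V, v ≠ 0 ∧ ∀ g : Γ, ρ g v = v := by
  intro n
  induction n using Nat.strong_induction_on with
  | _ n ih =>
  intro V _ _ _ _ ρ hρ hn
  by_cases hW : ∃ W : Submodule k V, (∀ g : Γ, ∀ w ∈ W, ρ g w ∈ W) ∧ W ≠ ⊥ ∧ W ≠ ⊤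
  · obtain ⟨W, hWinv, hW0, hW1⟩ := hW
    let ρW : Γ →* Module.End k W :=
      { toFun := fun g => (ρ g).restrict (hWinv g)
        map_one' := by
          ext w
          simp [LinearMap.restrict_apply]
        map_mul' := by
          intro g h
          ext w
          simp [LinearMap.restrict_apply, Module.End.mul_apply] }
    have hpow : ∀ (g : Γ) (m : ℕ) (w : W), (((ρW g - 1) ^ m) w : V) = ((ρ g - 1) ^ m) (w : V) := by
      intro g m
      induction m with
      | zero => intro w; simp
      | succ m ihm =>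
        intro w
        rw [pow_succ, pow_succ, Module.End.mul_apply, Module.End.mul_apply, ihm]
        rfl
    have hρW : ∀ g : Γ, IsNilpotent (ρW g - 1) := by
      intro g
      obtain ⟨m, hm⟩ := hρ g
      refine ⟨m, ?_⟩
      ext w
      rw [hpow, hm]
      rfl
    haveI : Nontrivial W := Submodule.nontrivial_iff_ne_bot.2 hW0
    have hlt : finrank k W < n := by
      rw [← hn]
      exact Submodule.finrank_lt hW1
    obtain ⟨w, hw0, hw⟩ := ih _ hlt W ρW hρW rfl
    refine ⟨(w : V), fun h => hw0 (Subtype.ext h), fun g => ?_⟩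
    exact congrArg Subtype.val (hw g)
  · push Not at hW
    let A : Subalgebra k (Module.End k V) := Algebra.adjoin k (Set.range ρ)
    have hAspan : Subalgebra.toSubmodule A = Submodule.span k (Set.range ρ) := by
      have h1 : (Submonoid.closure (Set.range ρ) : Set (Module.End k V)) = Set.range ρ := by
        have : Set.range ρ = ((MonoidHom.mrange ρ : Submonoid (Module.End k V)) : Set _) := by
          ext; simp
        rw [this, Submonoid.closure_eq]
      rw [Algebra.adjoin_eq_span, h1]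
    have htrans : ∀ W : Submodule k V, (∀ a ∈ A, ∀ w ∈ W, a w ∈ W) → W = ⊥ ∨ W = ⊤ := by
      intro W hWA
      by_contra hcon
      push Not at hcon
      exact hcon.2 (hW W (fun g w hw => hWA (ρ g) (Algebra.subset_adjoin ⟨g, rfl⟩) w hw) hcon.1)
    have hAtop : A = ⊤ := burnside A htrans
    have hone : ∀ g : Γ, ρ g = 1 := by
      intro g
      rw [← sub_eq_zero]
      apply eq_zero_of_trace_mul
      intro a
      have ha : a ∈ Subalgebra.toSubmodule A := by
        rw [Subalgebra.mem_toSubmodule, hAtop]; trivial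
      rw [hAspan] at ha
      induction ha using Submodule.span_induction with
      | mem x hx =>
        obtain ⟨h, rfl⟩ := hx
        have : (ρ g - 1) * ρ h = (ρ (g * h) - 1) - (ρ h - 1) := by
          rw [map_mul]; noncomm_ring
        rw [this, map_sub, trace_sub_one_eq_zero _ (hρ _), trace_sub_one_eq_zero _ (hρ _), sub_zero]
      | zero => simp
      | add x y _ _ hx hy => rw [mul_add, map_add, hx, hy, add_zero]
      | smul c x _ hx => rw [mul_smul_comm, map_smul, hx, smul_zero]
    obtain ⟨v, hv⟩ := exists_ne (0 : V)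
    exact ⟨v, hv, fun g => by rw [hone g]; rfl⟩

end Kolchin

end Groth.Agent.Helper2.Kolchin
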