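import Mathlib
import Groth.Agent.Helper2.ComodGen

set_option autoImplicit false
universe u
open TensorProduct Groth.Agent.Helper2.ComodGen

namespace Groth.Agent.Helper2.OrbitSpan

/-- weak Nullstellensatz for points of a reduced finite type algebra over an algebraically closed field -/
lemma eq_zero_of_forall_algHom {k A : Type u} [Field k] [IsAlgClosed k] [CommRing A] [Algebra k A]
    [Algebra.FiniteType k A] [IsReduced A] (a : A) (h : ∀ g : A →ₐ[k] k, g a = 0) : a = 0 := by
  by_contra ha
  haveI : IsJacobsonRing A := isJacobsonRing_of_finiteType (A := k) (B := A)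
  have hjac : (⊥ : Ideal A).jacobson = ⊥ := by
    have hrad : (⊥ : Ideal A).IsRadical := by
      intro x hx
      obtain ⟨n, hn⟩ := hx
      have : IsNilpotent x := ⟨n, hn⟩
      exact (Ideal.mem_bot.2 this.eq_zero)
    exact IsJacobsonRing.out' _ hrad
  have hnot : a ∉ (⊥ : Ideal A).jacobson := by rw [hjac]; simpa using ha
  rw [Ideal.jacobson, Submodule.mem_sInf] at hnot
  push Not at hnot
  obtain ⟨m, ⟨_, hm⟩, ham⟩ := hnot
  haveI := hm
  letI : Field (A ⧸ m) := Ideal.Quotient.field m
  haveI : Algebra.FiniteType k (A ⧸ m) :=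
    Algebra.FiniteType.of_surjective (Ideal.Quotient.mkₐ k m) (Ideal.Quotient.mkₐ_surjective k m)
  haveI : Module.Finite k (A ⧸ m) := finite_of_finite_type_of_isJacobsonRing k (A ⧸ m)
  have hbij : Function.Bijective (algebraMap k (A ⧸ m)) :=
    IsAlgClosed.algebraMap_bijective_of_isIntegral
  let e : k ≃ₐ[k] (A ⧸ m) := AlgEquiv.ofBijective (Algebra.ofId k (A ⧸ m)) hbij
  let g : A →ₐ[k] k := e.symm.toAlgHom.comp (Ideal.Quotient.mkₐ k m)
  have := h g
  apply ham
  have h2 : e.symm (Ideal.Quotient.mk m a) = 0 := this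
  rw [map_eq_zero_iff _ e.symm.injective] at h2
  exact Ideal.Quotient.eq_zero_iff_mem.1 h2

end Groth.Agent.Helper2.OrbitSpan
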