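import Mathlib
import Groth.Agent.Helper2.ComodGen
import Groth.Agent.Helper2.UnipPoints
import Groth.Agent.Helper2.OrbitSpan
import Groth.Agent.Helper2.Kolchin
import Groth.Agent.Helper2.FixedRopV

set_option autoImplicit false
universe u v w
open TensorProduct Groth.Agent.Helper2.ComodGen Groth.Agent.Helper2.UnipPoints
  Groth.Agent.Helper2.OrbitSpan Groth.Agent.Helper2.Kolchin Groth.Agent.Helper2.FixedRopV

namespace Groth.Agent.Helper2.PtsRep

section Pts
variable {k : Type u} [Field k] {A : Type v} [CommRing A] [HopfAlgebra k A]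
variable {V : Type w} [AddCommGroup V] [Module k V] [HopfRep.Comod k A V]

lemma act_eq_RopV (g : A →ₐ[k] k) : HopfRep.Comod.act k A V g = RopV g.toLinearMap := rfl

/-- the action of the group of points -/
noncomputable def ptsRep : WithConv (A →ₐ[k] k) →* Module.End k V where
  toFun g := RopV (C := A) g.ofConv.toLinearMap
  map_one' := by
    ext v
    exact RopV_counit (C := A) v
  map_mul' g h := by
    ext v
    rw [Module.End.mul_apply, RopV_RopV]
    rfl

lemma ptsRep_apply (g : WithConv (A →ₐ[k] k)) :
    ptsRep (V := V) g = HopfRep.Comod.act k A V g.ofConv := rfl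

end Pts

lemma eq_zero_of_points {k A : Type u} [Field k] [IsAlgClosed k] [CommRing A] [Algebra k A]
    [Algebra.FiniteType k A] [IsReduced A] {V : Type w} [AddCommGroup V] [Module k V]
    (t : V ⊗[k] A)
    (h : ∀ g : A →ₐ[k] k, (TensorProduct.rid k V) (g.toLinearMap.lTensor V t) = 0) : t = 0 := by
  have key : ∀ (lam : V →ₗ[k] k) (ψ : A →ₗ[k] k) (t : V ⊗[k] A),
      ψ ((TensorProduct.lid k A) (lam.rTensor A t)) = lam ((TensorProduct.rid k V) (ψ.lTensor V t)) := by
    intro lam ψ t
    have : ψ ∘ₗ (TensorProduct.lid k A).toLinearMap ∘ₗ lam.rTensor A =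
        lam ∘ₗ (TensorProduct.rid k V).toLinearMap ∘ₗ ψ.lTensor V := by
      ext u b
      simp [mul_comm]
    exact LinearMap.congr_fun this t
  let b := Module.Free.chooseBasis k V
  apply (TensorProduct.equivFinsuppOfBasisLeft (N := A) b).injective
  rw [map_zero]
  ext i
  rw [TensorProduct.equivFinsuppOfBasisLeft_apply, Finsupp.zero_apply]
  apply eq_zero_of_forall_algHom (k := k)
  intro g
  have := key (b.coord i) g.toLinearMap t
  rw [h g, map_zero] at this
  exact this

end Groth.Agent.Helper2.PtsRep
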