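import Mathlib
import Groth.Prelude.Def_ComodSub
import Groth.Agent.Helper2.ComodGen
import Groth.Agent.Helper2.UnipFlag
import Groth.Agent.Helper2.UnipFlag1
import Groth.Agent.Helper2.TrigFlag
import Groth.Agent.Helper2.PtsRep
import Groth.Agent.Helper2.FlagGroup

set_option autoImplicit false
universe u v
open TensorProduct Groth.Agent.Helper2.ComodGen Groth.Agent.Helper2.UnipFlag
  Groth.Agent.Helper2.UnipFlag1 Groth.Agent.Helper2.TrigFlag Groth.Agent.Helper2.PtsRep
  Groth.Agent.Helper2.FlagGroup

namespace Groth.Agent.Helper2.FaithfulPts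

variable {k : Type u} [Field k] {A : Type v} [CommRing A] [HopfAlgebra k A]

/-- `ε (g · a) = g a` on the regular comodule -/
lemma counit_act (g : A →ₐ[k] k) (a : A) :
    Coalgebra.counit (R := k) (HopfRep.Comod.act k A A g a) = g a := by
  have key : (Coalgebra.counit (R := k) (A := A)) ∘ₗ (TensorProduct.rid k A).toLinearMap ∘ₗ
      LinearMap.lTensor A g.toLinearMap =
      g.toLinearMap ∘ₗ (TensorProduct.lid k A).toLinearMap ∘ₗ
        (Coalgebra.counit (R := k) (A := A)).rTensor A := by
    ext x y
    simp [mul_comm]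
  have h1 := LinearMap.congr_fun key (Coalgebra.comul (R := k) a)
  simp only [LinearMap.comp_apply, LinearEquiv.coe_coe] at h1
  have h2 := LinearMap.congr_fun (Coalgebra.rTensor_counit_comp_comul (R := k) (A := A)) a
  simp only [LinearMap.comp_apply] at h2
  show Coalgebra.counit (R := k) ((TensorProduct.rid k A) (LinearMap.lTensor A g.toLinearMap
    (Coalgebra.comul (R := k) a))) = g a
  rw [h1, h2]
  simp

/-- the action on a subcomodule is the restriction of the action -/
lemma act_restr {V : Type v} [AddCommGroup V] [Module k V] (c : HopfRep.Comod k A V)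
    (W : Submodule k V) (hW : HopfRep.IsSubcomod (k := k) (A := A) W) (g : A →ₐ[k] k) (w : W) :
    ((@HopfRep.Comod.act k A _ _ _ W _ _ (ComodSub.Comod.restr c W hW) g w : W) : V) =
      HopfRep.Comod.act k A V g (w : V) := by
  have key : W.subtype ∘ₗ (TensorProduct.rid k W).toLinearMap ∘ₗ LinearMap.lTensor W g.toLinearMap =
      (TensorProduct.rid k V).toLinearMap ∘ₗ LinearMap.lTensor V g.toLinearMap ∘ₗ
        W.subtype.rTensor A := by
    ext x y
    simp
  have h1 := LinearMap.congr_fun key ((ComodSub.Comod.restr c W hW).coact w)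
  simp only [LinearMap.comp_apply, LinearEquiv.coe_coe] at h1
  rw [ComodSub.restr_coact_coe] at h1
  exact h1

theorem exists_faithful [Algebra.FiniteType k A] :
    ∃ W : Submodule k A, HopfRep.IsSubcomod (k := k) (A := A) W ∧ W.FG ∧
      ∀ g h : A →ₐ[k] k,
        (∀ w ∈ W, HopfRep.Comod.act k A A g w = HopfRep.Comod.act k A A h w) → g = h := by
  obtain ⟨s, hs⟩ := (Algebra.FiniteType.out : (⊤ : Subalgebra k A).FG)
  refine ⟨gen (C := A) (Submodule.span k (s : Set A)), isSubcomod_gen _,
    gen_fg (Submodule.fg_span s.finite_toSet), ?_⟩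
  intro g h hgh
  apply AlgHom.ext_of_adjoin_eq_top hs
  intro x hx
  have hx' : x ∈ gen (C := A) (Submodule.span k (s : Set A)) :=
    le_gen _ (Submodule.subset_span hx)
  rw [← counit_act g x, ← counit_act h x, hgh x hx']

/-- the group of points acts faithfully on a suitable finite-dimensional comodule -/
theorem exists_faithful' [Algebra.FiniteType k A] :
    ∃ W : Submodule k A, ∃ hW : HopfRep.IsSubcomod (k := k) (A := A) W, Module.Finite k W ∧
      Function.Injective (@ptsRep k _ A _ _ W _ _
        (ComodSub.Comod.restr (HopfRep.Comod.regular k A) W hW)) := by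
  obtain ⟨W, hW, hfg, hinj⟩ := exists_faithful (k := k) (A := A)
  refine ⟨W, hW, Module.Finite.iff_fg.2 hfg, ?_⟩
  intro g h hgh
  have : g.ofConv = h.ofConv := by
    apply hinj
    intro w hw
    have h1 := LinearMap.congr_fun hgh ⟨w, hw⟩
    have h2 := act_restr (HopfRep.Comod.regular k A) W hW g.ofConv ⟨w, hw⟩
    have h3 := act_restr (HopfRep.Comod.regular k A) W hW h.ofConv ⟨w, hw⟩
    rw [← h2, ← h3]
    exact congrArg Subtype.val h1
  exact WithConv.ofConv_injective this

/-- points act unipotently along a unipotent flag -/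
lemma act_sub_mem {V : Type v} [AddCommGroup V] [Module k V] [HopfRep.Comod k A V]
    (U : Submodule k V) (g : A →ₐ[k] k) (v : V)
    (hv : HopfRep.Comod.coact (k := k) (A := A) v - v ⊗ₜ[k] (1 : A) ∈
      LinearMap.range (U.subtype.rTensor A)) :
    HopfRep.Comod.act k A V g v - v ∈ U := by
  have := slice_mem_of_mem_range U g.toLinearMap hv
  rw [map_sub, map_sub] at this
  simpa [HopfRep.Comod.act] using this

end Groth.Agent.Helper2.FaithfulPts
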