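import Mathlib
import Groth.Prelude.Def_ComodSub
import Groth.Agent.Helper2.ComodGen
import Groth.Agent.Helper2.ComodDiagG
import Groth.Agent.Helper2.DiagEigen
import Groth.Agent.Helper2.CocommTrig
import Groth.Agent.Helper2.FaithfulPts

set_option autoImplicit false
universe u v w
open TensorProduct Groth.Agent.Helper2.ComodGen Groth.Agent.Helper2.ComodDiagG
  Groth.Agent.Helper2.DiagEigen Groth.Agent.Helper2.CocommTrig Groth.Agent.Helper2.FaithfulPts

namespace Groth.Agent.Helper2.PtsDense

/-- weak Nullstellensatz for points of a reduced finite type algebra over an algebraically closed field -/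
lemma eq_zero_of_forall_algHom' {k : Type u} {A : Type v} [Field k] [IsAlgClosed k] [CommRing A]
    [Algebra k A] [Algebra.FiniteType k A] [IsReduced A] (a : A) (h : ∀ g : A →ₐ[k] k, g a = 0) :
    a = 0 := by
  by_contra ha
  haveI : IsJacobsonRing A := isJacobsonRing_of_finiteType (A := k) (B := A)
  have hjac : (⊥ : Ideal A).jacobson = ⊥ := by
    have hrad : (⊥ : Ideal A).IsRadical := by
      intro x hx
      obtain ⟨n, hn⟩ := hx
      have : IsNilpotent x := ⟨n, hn⟩
      exact (Ideal.mem_bot.2 this.eq_zero)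
    exact IsJacobsonRing.out' _ hrad
  have hnot : a ∉ (⊥ : Ideal A).jacobson := by rw [hjac]; simpa using ha
  rw [Ideal.jacobson, Submodule.mem_sInf] at hnot
  push Not at hnot
  obtain ⟨m, ⟨_, hm⟩, ham⟩ := hnot
  haveI := hm
  letI : Field (A ⧸ m) := Ideal.Quotient.field m
  haveI : Algebra.FiniteType k (A ⧸ m) :=
    Algebra.FiniteType.of_surjective (Ideal.Quotient.mkₐ k m) (Ideal.Quotient.mkₐ_surjective k m)
  haveI : Module.Finite k (A ⧸ m) := finite_of_finite_type_of_isJacobsonRing k (A ⧸ m)
  have hbij : Function.Bijective (algebraMap k (A ⧸ m)) :=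
    IsAlgClosed.algebraMap_bijective_of_isIntegral
  let e : k ≃ₐ[k] (A ⧸ m) := AlgEquiv.ofBijective (Algebra.ofId k (A ⧸ m)) hbij
  let g : A →ₐ[k] k := e.symm.toAlgHom.comp (Ideal.Quotient.mkₐ k m)
  have := h g
  apply ham
  have h2 : e.symm (Ideal.Quotient.mk m a) = 0 := this
  rw [map_eq_zero_iff _ e.symm.injective] at h2
  exact Ideal.Quotient.eq_zero_iff_mem.1 h2

lemma slice_swap {k : Type u} {A : Type v} [Field k] [CommRing A] [Algebra k A]
    {V : Type w} [AddCommGroup V] [Module k V] (lam : V →ₗ[k] k) (ψ : A →ₗ[k] k) (t : V ⊗[k] A) :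
    ψ ((TensorProduct.lid k A) (lam.rTensor A t)) =
      lam ((TensorProduct.rid k V) (ψ.lTensor V t)) := by
  have : ψ ∘ₗ (TensorProduct.lid k A).toLinearMap ∘ₗ lam.rTensor A =
      lam ∘ₗ (TensorProduct.rid k V).toLinearMap ∘ₗ ψ.lTensor V := by
    ext u b
    simp [mul_comm]
  exact LinearMap.congr_fun this t

lemma eq_zero_of_points' {k : Type u} {A : Type v} [Field k] [IsAlgClosed k] [CommRing A]
    [Algebra k A] [Algebra.FiniteType k A] [IsReduced A] {V : Type w} [AddCommGroup V] [Module k V]
    (t : V ⊗[k] A)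
    (h : ∀ g : A →ₐ[k] k, (TensorProduct.rid k V) (g.toLinearMap.lTensor V t) = 0) : t = 0 := by
  let b := Module.Free.chooseBasis k V
  apply (TensorProduct.equivFinsuppOfBasisLeft (N := A) b).injective
  rw [map_zero]
  ext i
  rw [TensorProduct.equivFinsuppOfBasisLeft_apply, Finsupp.zero_apply]
  apply eq_zero_of_forall_algHom' (k := k)
  intro g
  have := slice_swap (b.coord i) g.toLinearMap t
  rw [h g, map_zero] at this
  exact this

/-- an endomorphism of a finite-dimensional space spanned by eigenvectors is semisimple -/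
lemma isSemisimple_of_span_eigen {K : Type u} {V : Type w} [Field K] [AddCommGroup V] [Module K V]
    [FiniteDimensional K V] (f : Module.End K V)
    (h : ∀ v, v ∈ Submodule.span K {x : V | ∃ μ : K, f x = μ • x}) : f.IsSemisimple := by
  classical
  set S : Finset K := (Module.End.finite_hasEigenvalue f).toFinset with hS
  set p : Polynomial K := ∏ μ ∈ S, (Polynomial.X - Polynomial.C μ) with hp
  have hsq : Squarefree p := by
    apply Polynomial.Separable.squarefree
    rw [hp, Polynomial.separable_prod_X_sub_C_iff']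
    intro x _ y _ hxy
    exact hxy
  apply Module.End.isSemisimple_of_squarefree_aeval_eq_zero hsq
  ext v
  rw [LinearMap.zero_apply]
  have hle : Submodule.span K {x : V | ∃ μ : K, f x = μ • x} ≤
      LinearMap.ker (Polynomial.aeval f p) := by
    rw [Submodule.span_le]
    rintro x ⟨μ, hx⟩
    by_cases hx0 : x = 0
    · rw [hx0]; exact Submodule.zero_mem _
    have hev : f.HasEigenvector μ x := ⟨Module.End.mem_eigenspace_iff.2 hx, hx0⟩
    have hμ : μ ∈ S := by
      rw [hS, Set.Finite.mem_toFinset]
      exact Module.End.hasEigenvalue_of_hasEigenvector hev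
    show Polynomial.aeval f p x = 0
    rw [Module.End.aeval_apply_of_hasEigenvector hev, hp, Polynomial.eval_prod,
      Finset.prod_eq_zero hμ (by simp), zero_smul]
  exact hle (h v)

section Joint
variable {k : Type u} {A : Type v} [Field k] [IsAlgClosed k] [CommRing A] [HopfAlgebra k A]
  [Algebra.FiniteType k A] [IsReduced A]

/-- a joint eigenvector for all points is an eigenvector of the comodule -/
lemma coact_eq_of_joint_eigen {V : Type w} [AddCommGroup V] [Module k V] [HopfRep.Comod k A V]
    (w : V) (χ : (A →ₐ[k] k) → k) (hw : ∀ g, HopfRep.Comod.act k A V g w = χ g • w) :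
    ∃ a : A, HopfRep.Comod.coact (k := k) (A := A) w = w ⊗ₜ[k] a := by
  by_cases hw0 : w = 0
  · exact ⟨0, by rw [hw0, map_zero, TensorProduct.zero_tmul]⟩
  obtain ⟨φ, hφ⟩ : ∃ φ : Module.Dual k V, φ w ≠ 0 := by
    by_contra hcon
    push Not at hcon
    exact hw0 ((Module.forall_dual_apply_eq_zero_iff k w).1 hcon)
  set lam : V →ₗ[k] k := (φ w)⁻¹ • φ with hlam
  have hlamw : lam w = 1 := by
    rw [hlam, LinearMap.smul_apply, smul_eq_mul, inv_mul_cancel₀ hφ]
  set a : A := (TensorProduct.lid k A) (lam.rTensor A (HopfRep.Comod.coact (k := k) (A := A) w))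
    with ha
  refine ⟨a, ?_⟩
  rw [← sub_eq_zero]
  apply eq_zero_of_points'
  intro g
  have hga : g a = χ g := by
    have h1 := slice_swap lam g.toLinearMap (HopfRep.Comod.coact (k := k) (A := A) w)
    have h2 : (TensorProduct.rid k V) (g.toLinearMap.lTensor V
        (HopfRep.Comod.coact (k := k) (A := A) w)) = χ g • w := hw g
    rw [h2, map_smul, hlamw, smul_eq_mul, mul_one] at h1
    exact h1
  have h2 : (TensorProduct.rid k V) (g.toLinearMap.lTensor V
      (HopfRep.Comod.coact (k := k) (A := A) w)) = χ g • w := hw g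
  rw [map_sub, map_sub, h2]
  simp [hga]

end Joint

end Groth.Agent.Helper2.PtsDense
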