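import Mathlib
import Groth.Prelude.Def_Hoch
import Groth.Prelude.Def_ComodSub
import Groth.Prelude.Def_SGA3t2b
import Groth.Agent.Helper2.ComodGen
import Groth.Agent.Helper2.ComodDiag
import Groth.Agent.Helper2.ComodDiagG
import Groth.Agent.Helper2.UnipFlag
import Groth.Agent.Helper2.FixedRopV
import Groth.Agent.Helper2.ComodBC
import Groth.Agent.S7951

set_option autoImplicit false
universe u
open TensorProduct Groth.Agent.Helper2.ComodGen Groth.Agent.Helper2.ComodDiagG
  Groth.Agent.Helper2.UnipFlag Groth.Agent.Helper2.FixedRopV Groth.Agent.Helper2.ComodBC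

namespace Groth.Agent.Helper2.UnipDiagHom

section Char
variable {K : Type u} [Field K] {B : Type u} [CommRing B] [Bialgebra K B]

/-- the one-dimensional comodule attached to a group-like element -/
@[reducible] noncomputable def charComod (g : B) (hg : IsGroupLikeElem K g) : HopfRep.Comod K B K where
  coact := (TensorProduct.mk K K B).flip g
  coassoc := by
    ext
    simp [hg.comul_eq_tmul_self]
  counit_comp := by
    ext
    simp [hg.counit_eq_one]

lemma groupLike_eq_one (hU : HopfRep.IsUnipotent K B) (g : B) (hg : IsGroupLikeElem K g) :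
    g = 1 := by
  letI c : HopfRep.Comod K B K := charComod g hg
  have h1 := hU K inferInstance inferInstance
  obtain ⟨x, hx, hx0⟩ := (Submodule.ne_bot_iff _).1 h1
  have h2 : (x ⊗ₜ[K] g : K ⊗[K] B) = x ⊗ₜ[K] (1 : B) := hx
  have h3 := congrArg (TensorProduct.lid K B) h2
  simp only [TensorProduct.lid_tmul] at h3
  have h4 : x • (g - 1) = 0 := by rw [smul_sub, h3, sub_self]
  rcases smul_eq_zero.1 h4 with h | h
  · exact absurd h hx0
  · exact sub_eq_zero.1 h

end Char

section Diag
variable {K : Type u} [Field K] {BU BM : Type u} [CommRing BU] [HopfAlgebra K BU]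
  [CommRing BM] [Bialgebra K BM]
variable {ι : Type u} (b : Module.Basis ι K BM) (hb : ∀ i, IsGroupLikeElem K (b i))
  (i₁ : ι) (hi₁ : b i₁ = 1)

include hb in
lemma cv_pull (f : BU →ₐc[K] BM) (i j : ι) [Decidable (i = j)] :
    cv ((b.coord i) ∘ₗ (f : BU →ₐ[K] BM).toLinearMap) ((b.coord j) ∘ₗ (f : BU →ₐ[K] BM).toLinearMap)
      = if i = j then (b.coord i) ∘ₗ (f : BU →ₐ[K] BM).toLinearMap else 0 := by
  have h1 : TensorProduct.map (f : BU →ₐ[K] BM).toLinearMap (f : BU →ₐ[K] BM).toLinearMap ∘ₗ
      (Coalgebra.comul (R := K) (A := BU)) =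
      (Coalgebra.comul (R := K) (A := BM)) ∘ₗ (f : BU →ₐ[K] BM).toLinearMap := by
    ext x
    simp only [LinearMap.comp_apply, AlgHom.toLinearMap_apply]
    exact (CoalgHomClass.map_comp_comul_apply f x)
  have h2 := cv_coord b hb i j
  unfold cv at h2 ⊢
  calc LinearMap.mul' K K ∘ₗ TensorProduct.map ((b.coord i) ∘ₗ (f : BU →ₐ[K] BM).toLinearMap)
          ((b.coord j) ∘ₗ (f : BU →ₐ[K] BM).toLinearMap) ∘ₗ (Coalgebra.comul (R := K) (A := BU))
      = (LinearMap.mul' K K ∘ₗ TensorProduct.map (b.coord i) (b.coord j)) ∘ₗ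
          (TensorProduct.map (f : BU →ₐ[K] BM).toLinearMap (f : BU →ₐ[K] BM).toLinearMap ∘ₗ
          (Coalgebra.comul (R := K) (A := BU))) := by
        rw [TensorProduct.map_comp]
        simp only [LinearMap.comp_assoc]
    _ = (LinearMap.mul' K K ∘ₗ TensorProduct.map (b.coord i) (b.coord j) ∘ₗ
          (Coalgebra.comul (R := K) (A := BM))) ∘ₗ (f : BU →ₐ[K] BM).toLinearMap := by
        rw [h1]
        simp only [LinearMap.comp_assoc]
    _ = _ := by
        rw [h2]
        split_ifs
        · rfl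
        · simp

include hb hi₁ in
theorem trivial_of_unip_to_diag (hU : HopfRep.IsUnipotent K BU) (f : BU →ₐc[K] BM) (x : BU) :
    f x = Coalgebra.counit (R := K) x • (1 : BM) := by
  classical
  set fl : BU →ₗ[K] BM := (f : BU →ₐ[K] BM).toLinearMap with hfl
  set W : Submodule K BU := gen (C := BU) (Submodule.span K {x}) with hWdef
  have hW : HopfRep.IsSubcomod (k := K) (A := BU) W := isSubcomod_gen _
  have hfg : W.FG := gen_fg (Submodule.fg_span (Set.finite_singleton x))
  haveI hfin : Module.Finite K W := Module.Finite.iff_fg.2 hfg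
  have hxW : x ∈ W := le_gen _ (Submodule.mem_span_singleton_self x)
  letI cW : HopfRep.Comod K BU W := ComodSub.Comod.restr (HopfRep.Comod.regular K BU) W hW
  obtain ⟨m, F, hmono, h0, hm, hsub, hunip⟩ := flag_aux hU _ W rfl
  -- the operators
  have hstep : ∀ (ψ : BU →ₗ[K] K) (l : ℕ), ∀ v ∈ F (l + 1), RopV ψ v - ψ 1 • v ∈ F l := by
    intro ψ l v hv
    have := slice_mem_of_mem_range (F l) ψ (hunip l v hv)
    rw [map_sub, map_sub] at this
    simpa [RopV] using this
  have hθ1 : ∀ i, i ≠ i₁ → ((b.coord i) ∘ₗ fl) 1 = 0 := by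
    intro i hi
    have : fl 1 = b i₁ := by rw [hi₁]; exact map_one f
    rw [LinearMap.comp_apply, this, Module.Basis.coord_apply, Module.Basis.repr_self,
      Finsupp.single_apply, if_neg (Ne.symm hi)]
  have hidem : ∀ i (w : W), RopV ((b.coord i) ∘ₗ fl) (RopV ((b.coord i) ∘ₗ fl) w) =
      RopV ((b.coord i) ∘ₗ fl) w := by
    intro i w
    rw [RopV_RopV, cv_pull b hb f i i, if_pos rfl]
  have hzero : ∀ i, i ≠ i₁ → ∀ w : W, RopV ((b.coord i) ∘ₗ fl) w = 0 := by
    intro i hi
    have hind : ∀ l, ∀ v ∈ F l, RopV ((b.coord i) ∘ₗ fl) v = 0 := by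
      intro l
      induction l with
      | zero =>
        intro v hv
        rw [h0] at hv
        rw [(Submodule.mem_bot K).1 hv, map_zero]
      | succ l ih =>
        intro v hv
        have h1 := hstep ((b.coord i) ∘ₗ fl) l v hv
        rw [hθ1 i hi, zero_smul, sub_zero] at h1
        rw [← hidem i v]
        exact ih _ h1
    intro w
    exact hind m w (by rw [hm]; trivial)
  -- expansion of the pushed-forward coaction
  have hexp : ∀ w : W, fl.lTensor W (HopfRep.Comod.coact (k := K) (A := BU) w) =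
      w ⊗ₜ[K] (1 : BM) := by
    intro w
    obtain ⟨c, hc1, hc2⟩ := Groth.Agent.Helper2.ComodDiag.exists_repr_basis b
      (fl.lTensor W (HopfRep.Comod.coact (k := K) (A := BU) w))
    have hc : ∀ i, c i = RopV ((b.coord i) ∘ₗ fl) w := by
      intro i
      rw [hc1 i, ← LinearMap.comp_apply, ← LinearMap.lTensor_comp]
      rfl
    have hsupp : ∀ i, i ≠ i₁ → c i = 0 := fun i hi => by rw [hc i, hzero i hi]
    have hsum : fl.lTensor W (HopfRep.Comod.coact (k := K) (A := BU) w) =
        c i₁ ⊗ₜ[K] (1 : BM) := by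
      rw [hc2, Finsupp.sum, ← hi₁]
      by_cases hmem : i₁ ∈ c.support
      · rw [Finset.sum_eq_single_of_mem i₁ hmem]
        intro i _ hi
        rw [hsupp i hi, TensorProduct.zero_tmul]
      · rw [Finsupp.notMem_support_iff.1 hmem, TensorProduct.zero_tmul]
        apply Finset.sum_eq_zero
        intro i hi
        by_cases hii : i = i₁
        · exact absurd (hii ▸ hi) hmem
        · rw [hsupp i hii, TensorProduct.zero_tmul]
    -- apply the counit of `BM`
    have hcu : c i₁ = w := by
      have h1 := congrArg (fun t => (TensorProduct.rid K W)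
        ((Coalgebra.counit (R := K) (A := BM)).lTensor W t)) hsum
      simp only [LinearMap.lTensor_tmul, TensorProduct.rid_tmul, Bialgebra.counit_one,
        one_smul] at h1
      rw [← h1, ← LinearMap.comp_apply, ← LinearMap.lTensor_comp]
      have h2 : (Coalgebra.counit (R := K) (A := BM)) ∘ₗ fl = Coalgebra.counit (R := K) (A := BU) := by
        ext y
        exact CoalgHomClass.counit_comp_apply f y
      rw [h2]
      exact RopV_counit (C := BU) w
    rw [hsum, hcu]
  -- conclude
  have h1 := hexp ⟨x, hxW⟩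
  have h2 := ComodSub.restr_coact_coe (HopfRep.Comod.regular K BU) W hW ⟨x, hxW⟩
  have h3 : (TensorProduct.map W.subtype fl)
      ((ComodSub.Comod.restr (HopfRep.Comod.regular K BU) W hW).coact ⟨x, hxW⟩) =
      x ⊗ₜ[K] (1 : BM) := by
    have : TensorProduct.map W.subtype fl = W.subtype.rTensor BM ∘ₗ fl.lTensor W := by
      rw [LinearMap.rTensor_comp_lTensor]
    rw [this, LinearMap.comp_apply]
    have h1' : fl.lTensor W ((ComodSub.Comod.restr (HopfRep.Comod.regular K BU) W hW).coact
      ⟨x, hxW⟩) = (⟨x, hxW⟩ : W) ⊗ₜ[K] (1 : BM) := h1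
    rw [h1', LinearMap.rTensor_tmul]
    rfl
  have h4 : TensorProduct.map W.subtype fl = fl.lTensor BU ∘ₗ W.subtype.rTensor BU := by
    rw [LinearMap.lTensor_comp_rTensor]
  rw [h4, LinearMap.comp_apply, h2] at h3
  have h5 : fl.lTensor BU (Coalgebra.comul (R := K) x) = x ⊗ₜ[K] (1 : BM) := h3
  have h6 := congrArg (fun t => (TensorProduct.lid K BM)
    ((Coalgebra.counit (R := K) (A := BU)).rTensor BM t)) h5
  simp only [LinearMap.rTensor_tmul, TensorProduct.lid_tmul] at h6
  rw [← h6]
  have key : (TensorProduct.lid K BM).toLinearMap ∘ₗ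
      (Coalgebra.counit (R := K) (A := BU)).rTensor BM ∘ₗ fl.lTensor BU =
      fl ∘ₗ (TensorProduct.lid K BU).toLinearMap ∘ₗ
        (Coalgebra.counit (R := K) (A := BU)).rTensor BU := by
    ext y z
    simp
  have h7 := LinearMap.congr_fun key (Coalgebra.comul (R := K) x)
  simp only [LinearMap.comp_apply, LinearEquiv.coe_coe] at h7
  rw [h7, Coalgebra.rTensor_counit_comul]
  simp [hfl]

end Diag

section Main
variable {k : Type u} [Field k] {A B : Type u} [CommRing A] [CommRing B] [HopfAlgebra k A]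
  [HopfAlgebra k B]

/-- a basis of all group-like elements when they span -/
lemma exists_groupLike_basis' {K : Type u} [Field K] {C : Type u} [CommRing C] [Bialgebra K C]
    (h : Submodule.span K {a : C | IsGroupLikeElem K a} = ⊤) :
    ∃ (ι : Type u) (b : Module.Basis ι K C), (∀ i, IsGroupLikeElem K (b i)) ∧ ∃ i₁, b i₁ = 1 := by
  have hli : LinearIndependent K (fun x : {a : C | IsGroupLikeElem K a} => (x : C)) :=
    linearIndepOn_isGroupLikeElem (R := K) (A := C)
  have hsp : ⊤ ≤ Submodule.span K (Set.range (fun x : {a : C | IsGroupLikeElem K a} => (x : C))) := by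
    rw [Subtype.range_coe_subtype]
    exact h.ge
  refine ⟨{a : C | IsGroupLikeElem K a}, Module.Basis.mk hli hsp, fun i => ?_,
    ⟨⟨1, IsGroupLikeElem.one⟩, ?_⟩⟩
  · rw [Module.Basis.mk_apply]
    exact i.2
  · rw [Module.Basis.mk_apply]

/-- descent of triviality along a field extension -/
lemma trivial_of_baseChange (K : Type u) [Field K] [Algebra k K] (f : A →ₐc[k] B)
    (h : ∀ x : K ⊗[k] A, Bialgebra.TensorProduct.map (BialgHom.id K K) f x =
      Coalgebra.counit (R := K) x • (1 : K ⊗[k] B)) : SGA3t2b.IsTrivialBialgHom f := by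
  intro a
  have h1 := h ((1 : K) ⊗ₜ[k] a)
  rw [Bialgebra.TensorProduct.map_tmul, TensorProduct.counit_tmul] at h1
  apply Algebra.TensorProduct.includeRight_injective (R := k) (A := K) (B := B)
    (algebraMap k K).injective
  show (1 : K) ⊗ₜ[k] f a = (1 : K) ⊗ₜ[k] algebraMap k B (Coalgebra.counit (R := k) a)
  have h2 : (BialgHom.id K K) (1 : K) = 1 := rfl
  rw [h2] at h1
  rw [h1, Algebra.TensorProduct.one_def, TensorProduct.smul_tmul', Algebra.algebraMap_eq_smul_one,
    TensorProduct.tmul_smul]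
  congr 1
  simp

end Main

end Groth.Agent.Helper2.UnipDiagHom
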