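import Mathlib
import Groth.Agent.Helper2.CocommStr9
import Groth.Agent.Helper2.UnipDiagHom

set_option autoImplicit false
universe u u' v w
open TensorProduct

namespace Groth.Agent.Helper2.CocommStr

open Groth.Agent.Helper2.ComodGen Groth.Agent.Helper2.SocleFilt Groth.Agent.Helper2.CocommTrig
  Groth.Agent.Helper2.UnipPrim Groth.Agent.Helper2.TakExt Groth.Agent.Helper2.GalDesc

section IU

variable (k : Type u) [Field k] (K : Type u) [Field K] [Algebra k K]
  (A : Type v) [CommRing A] [HopfAlgebra k A] [Coalgebra.IsCocomm k A]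

/-- the ideal of the unipotent part -/
noncomputable def IU : Ideal A :=
  letI := hopfB0 k K A
  Ideal.map (inclB0 k K A : B0 k K A →+* A) (RingHom.ker (Bialgebra.counitAlgHom k (B0 k K A)))

instance : (IU k K A).IsHopfIdeal k := by
  letI := hopfB0 k K A
  exact Groth.Agent.Helper2.TrigChar.isHopfIdeal_map_aug (inclB0 k K A)

variable {k K A}

lemma sub_counit_mem_IU {b : A} (hb : b ∈ B0 k K A) :
    b - algebraMap k A (Coalgebra.counit (R := k) b) ∈ IU k K A := by
  letI := hopfB0 k K A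
  have h1 : (⟨b, hb⟩ : B0 k K A) - algebraMap k (B0 k K A) (Coalgebra.counit (R := k) b) ∈
      RingHom.ker (Bialgebra.counitAlgHom k (B0 k K A)) := by
    rw [RingHom.mem_ker, map_sub, AlgHom.commutes, Bialgebra.counitAlgHom_apply]
    have : Coalgebra.counit (R := k) (⟨b, hb⟩ : B0 k K A) = Coalgebra.counit (R := k) b := rfl
    rw [this]
    simp
  have h2 := Ideal.mem_map_of_mem (inclB0 k K A : B0 k K A →+* A) h1
  have h3 : (inclB0 k K A : B0 k K A →+* A)
      ((⟨b, hb⟩ : B0 k K A) - algebraMap k (B0 k K A) (Coalgebra.counit (R := k) b)) =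
      b - algebraMap k A (Coalgebra.counit (R := k) b) := by
    rw [map_sub]
    rfl
  rw [h3] at h2
  exact h2

lemma IU_le {I : Ideal A}
    (h : ∀ b ∈ B0 k K A, b - algebraMap k A (Coalgebra.counit (R := k) b) ∈ I) : IU k K A ≤ I := by
  letI := hopfB0 k K A
  unfold IU
  rw [Ideal.map_le_iff_le_comap]
  intro x hx
  rw [Ideal.mem_comap]
  have hx0 : Coalgebra.counit (R := k) (x : A) = 0 := hx
  have := h x x.2
  rw [hx0, map_zero, sub_zero] at this
  exact this

variable (k K A)

/-- the comorphism of the multiplication `M × U → G` -/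
noncomputable def PhiMU : A →ₐ[k] (A ⧸ JZ k A) ⊗[k] (A ⧸ IU k K A) :=
  (Algebra.TensorProduct.map (Ideal.Quotient.mkₐ k (JZ k A)) (Ideal.Quotient.mkₐ k (IU k K A))).comp
    (Bialgebra.comulAlgHom k A)

variable {k K A}

lemma mk_IU_eq {y : A} (hy : y ∈ B0 k K A) :
    Ideal.Quotient.mkₐ k (IU k K A) y =
      algebraMap k (A ⧸ IU k K A) (Coalgebra.counit (R := k) y) := by
  have h := Ideal.Quotient.eq_zero_iff_mem.mpr (sub_counit_mem_IU hy)
  have h2 : Ideal.Quotient.mkₐ k (IU k K A) (y - algebraMap k A (Coalgebra.counit (R := k) y)) = 0 := h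
  rw [map_sub, AlgHom.commutes, sub_eq_zero] at h2
  exact h2

lemma mk_JZ_eq {y : A} (hy : y ∈ ZU k A) :
    Ideal.Quotient.mkₐ k (JZ k A) y =
      algebraMap k (A ⧸ JZ k A) (Coalgebra.counit (R := k) y) := by
  have h := Ideal.Quotient.eq_zero_iff_mem.mpr (sub_counit_mem_JZ hy)
  have h2 : Ideal.Quotient.mkₐ k (JZ k A) (y - algebraMap k A (Coalgebra.counit (R := k) y)) = 0 := h
  rw [map_sub, AlgHom.commutes, sub_eq_zero] at h2
  exact h2

lemma PhiMU_of_mem_B0 {b : A} (hb : b ∈ B0 k K A) :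
    PhiMU k K A b = Ideal.Quotient.mkₐ k (JZ k A) b ⊗ₜ[k] 1 := by
  have key : ∀ t : (B0 k K A) ⊗[k] (B0 k K A),
      Algebra.TensorProduct.map (Ideal.Quotient.mkₐ k (JZ k A)) (Ideal.Quotient.mkₐ k (IU k K A))
        (TensorProduct.map (B0 k K A).val.toLinearMap (B0 k K A).val.toLinearMap t) =
      Algebra.TensorProduct.map (Ideal.Quotient.mkₐ k (JZ k A)) (Ideal.Quotient.mkₐ k (IU k K A))
        ((Algebra.linearMap k A ∘ₗ Coalgebra.counit).lTensor A
          (TensorProduct.map (B0 k K A).val.toLinearMap (B0 k K A).val.toLinearMap t)) := by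
    intro t
    induction t using TensorProduct.induction_on with
    | zero => simp
    | add x y hx hy => simp only [map_add, hx, hy]
    | tmul x y =>
      simp only [TensorProduct.map_tmul, Algebra.TensorProduct.map_tmul, LinearMap.lTensor_tmul,
        LinearMap.coe_comp, Function.comp_apply, Algebra.linearMap_apply, AlgHom.toLinearMap_apply,
        Subalgebra.coe_val]
      rw [mk_IU_eq y.2, AlgHom.commutes]
  obtain ⟨t, ht⟩ := comul_mem_B0 k K A hb
  show Algebra.TensorProduct.map (Ideal.Quotient.mkₐ k (JZ k A)) (Ideal.Quotient.mkₐ k (IU k K A))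
    (Coalgebra.comul (R := k) b) = _
  rw [← ht, key, ht, LinearMap.lTensor_comp, LinearMap.comp_apply, Coalgebra.lTensor_counit_comul]
  simp

lemma PhiMU_of_mem_ZU {z : A} (hz : z ∈ ZU k A) :
    PhiMU k K A z = 1 ⊗ₜ[k] Ideal.Quotient.mkₐ k (IU k K A) z := by
  have key : ∀ t : (ZU k A) ⊗[k] (ZU k A),
      Algebra.TensorProduct.map (Ideal.Quotient.mkₐ k (JZ k A)) (Ideal.Quotient.mkₐ k (IU k K A))
        (TensorProduct.map (ZU k A).val.toLinearMap (ZU k A).val.toLinearMap t) =
      Algebra.TensorProduct.map (Ideal.Quotient.mkₐ k (JZ k A)) (Ideal.Quotient.mkₐ k (IU k K A))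
        ((Algebra.linearMap k A ∘ₗ Coalgebra.counit).rTensor A
          (TensorProduct.map (ZU k A).val.toLinearMap (ZU k A).val.toLinearMap t)) := by
    intro t
    induction t using TensorProduct.induction_on with
    | zero => simp
    | add x y hx hy => simp only [map_add, hx, hy]
    | tmul x y =>
      simp only [TensorProduct.map_tmul, Algebra.TensorProduct.map_tmul, LinearMap.rTensor_tmul,
        LinearMap.coe_comp, Function.comp_apply, Algebra.linearMap_apply, AlgHom.toLinearMap_apply,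
        Subalgebra.coe_val]
      rw [mk_JZ_eq x.2, AlgHom.commutes]
  obtain ⟨t, ht⟩ := comul_mem_ZU hz
  show Algebra.TensorProduct.map (Ideal.Quotient.mkₐ k (JZ k A)) (Ideal.Quotient.mkₐ k (IU k K A))
    (Coalgebra.comul (R := k) z) = _
  rw [← ht, key, ht, LinearMap.rTensor_comp, LinearMap.comp_apply, Coalgebra.rTensor_counit_comul]
  simp


variable (k K A)

/-- `B0 → A/J` -/
noncomputable def alphaB : (B0 k K A) →ₐ[k] (A ⧸ JZ k A) :=
  (Ideal.Quotient.mkₐ k (JZ k A)).comp (B0 k K A).val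

/-- `ZU → A/I` -/
noncomputable def betaU : (ZU k A) →ₐ[k] (A ⧸ IU k K A) :=
  (Ideal.Quotient.mkₐ k (IU k K A)).comp (ZU k A).val

lemma PhiMU_comp_mulBU :
    (PhiMU k K A).comp (mulBU k K A) = Algebra.TensorProduct.map (alphaB k K A) (betaU k K A) := by
  apply Algebra.TensorProduct.ext'
  intro b z
  rw [AlgHom.comp_apply, mulBU_tmul, map_mul, PhiMU_of_mem_B0 b.2, PhiMU_of_mem_ZU z.2,
    Algebra.TensorProduct.tmul_mul_tmul, mul_one, one_mul, Algebra.TensorProduct.map_tmul]
  rfl

variable [IsAlgClosed K] [IsGalois k K]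

/-- the multiplication isomorphism -/
noncomputable def eBU : ((B0 k K A) ⊗[k] (ZU k A)) ≃ₐ[k] A :=
  AlgEquiv.ofBijective (mulBU k K A) ⟨mulBU_injective k K A, mulBU_surjective k K A⟩

lemma eBU_tmul (b : B0 k K A) (z : ZU k A) : eBU k K A (b ⊗ₜ[k] z) = (b : A) * (z : A) :=
  mulBU_tmul k K A b z

lemma eBU_symm_mul (b : B0 k K A) (z : ZU k A) :
    (eBU k K A).symm ((b : A) * (z : A)) = b ⊗ₜ[k] z := by
  rw [← eBU_tmul, AlgEquiv.symm_apply_apply]

/-- the retraction `A → ZU` -/
noncomputable def rhoU : A →ₐ[k] (ZU k A) :=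
  letI := hopfB0 k K A
  ((Algebra.TensorProduct.lid k (ZU k A)).toAlgHom.comp
    (Algebra.TensorProduct.map (Bialgebra.counitAlgHom k (B0 k K A)) (AlgHom.id k (ZU k A)))).comp
    (eBU k K A).symm.toAlgHom

lemma rhoU_mul (b : B0 k K A) (z : ZU k A) :
    rhoU k K A ((b : A) * (z : A)) = Coalgebra.counit (R := k) (b : A) • z := by
  letI := hopfB0 k K A
  show (Algebra.TensorProduct.lid k (ZU k A))
    ((Algebra.TensorProduct.map (Bialgebra.counitAlgHom k (B0 k K A)) (AlgHom.id k (ZU k A)))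
      ((eBU k K A).symm ((b : A) * (z : A)))) = _
  rw [eBU_symm_mul, Algebra.TensorProduct.map_tmul, Algebra.TensorProduct.lid_tmul]
  rfl

/-- the retraction `A → B0` -/
noncomputable def rhoB : A →ₐ[k] (B0 k K A) :=
  letI := hopfZU k A
  ((Algebra.TensorProduct.rid k k (B0 k K A)).toAlgHom.comp
    (Algebra.TensorProduct.map (AlgHom.id k (B0 k K A)) (Bialgebra.counitAlgHom k (ZU k A)))).comp
    (eBU k K A).symm.toAlgHom

lemma rhoB_mul (b : B0 k K A) (z : ZU k A) :
    rhoB k K A ((b : A) * (z : A)) = Coalgebra.counit (R := k) (z : A) • b := by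
  letI := hopfZU k A
  show (Algebra.TensorProduct.rid k k (B0 k K A))
    ((Algebra.TensorProduct.map (AlgHom.id k (B0 k K A)) (Bialgebra.counitAlgHom k (ZU k A)))
      ((eBU k K A).symm ((b : A) * (z : A)))) = _
  rw [eBU_symm_mul, Algebra.TensorProduct.map_tmul, Algebra.TensorProduct.rid_tmul]
  rfl


lemma rhoU_of_mem_IU {x : A} (hx : x ∈ IU k K A) : rhoU k K A x = 0 := by
  have hle : IU k K A ≤ RingHom.ker (rhoU k K A) := by
    apply IU_le
    intro b hb
    rw [RingHom.mem_ker, map_sub, AlgHom.commutes]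
    have h1 := rhoU_mul k K A ⟨b, hb⟩ 1
    simp only [OneMemClass.coe_one, mul_one] at h1
    rw [h1, Algebra.algebraMap_eq_smul_one, sub_self]
  exact hle hx

lemma rhoU_of_mem_ZU (z : ZU k A) : rhoU k K A (z : A) = z := by
  have h1 := rhoU_mul k K A 1 z
  simp only [OneMemClass.coe_one, one_mul, Bialgebra.counit_one, one_smul] at h1
  exact h1

lemma rhoB_of_mem_JZ {x : A} (hx : x ∈ JZ k A) : rhoB k K A x = 0 := by
  have hle : JZ k A ≤ RingHom.ker (rhoB k K A) := by
    apply JZ_le
    intro b hb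
    rw [RingHom.mem_ker, map_sub, AlgHom.commutes]
    have h1 := rhoB_mul k K A 1 ⟨b, hb⟩
    simp only [OneMemClass.coe_one, one_mul] at h1
    rw [h1, Algebra.algebraMap_eq_smul_one, sub_self]
  exact hle hx

lemma rhoB_of_mem_B0 (b : B0 k K A) : rhoB k K A (b : A) = b := by
  have h1 := rhoB_mul k K A b 1
  simp only [OneMemClass.coe_one, mul_one, Bialgebra.counit_one, one_smul] at h1
  exact h1

lemma mk_IU_eq_betaU_rhoU (a : A) :
    Ideal.Quotient.mkₐ k (IU k K A) a = betaU k K A (rhoU k K A a) := by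
  obtain ⟨t, rfl⟩ := (eBU k K A).surjective a
  induction t using TensorProduct.induction_on with
  | zero => simp
  | add x y hx hy => simp only [map_add, hx, hy]
  | tmul b z =>
    rw [eBU_tmul, rhoU_mul, map_mul, mk_IU_eq b.2, map_smul, Algebra.smul_def]
    rfl

lemma mk_JZ_eq_alphaB_rhoB (a : A) :
    Ideal.Quotient.mkₐ k (JZ k A) a = alphaB k K A (rhoB k K A a) := by
  obtain ⟨t, rfl⟩ := (eBU k K A).surjective a
  induction t using TensorProduct.induction_on with
  | zero => simp
  | add x y hx hy => simp only [map_add, hx, hy]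
  | tmul b z =>
    rw [eBU_tmul, rhoB_mul, map_mul, mk_JZ_eq z.2, map_smul, Algebra.smul_def, mul_comm]
    rfl

theorem betaU_bijective : Function.Bijective (betaU k K A) := by
  constructor
  · rw [injective_iff_map_eq_zero]
    intro z hz
    have h1 : (z : A) ∈ IU k K A := Ideal.Quotient.eq_zero_iff_mem.mp hz
    have h2 := rhoU_of_mem_IU k K A h1
    rw [rhoU_of_mem_ZU] at h2
    exact h2
  · intro y
    obtain ⟨a, rfl⟩ := Ideal.Quotient.mkₐ_surjective k (IU k K A) y
    exact ⟨rhoU k K A a, (mk_IU_eq_betaU_rhoU k K A a).symm⟩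

theorem alphaB_bijective : Function.Bijective (alphaB k K A) := by
  constructor
  · rw [injective_iff_map_eq_zero]
    intro b hb
    have h1 : (b : A) ∈ JZ k A := Ideal.Quotient.eq_zero_iff_mem.mp hb
    have h2 := rhoB_of_mem_JZ k K A h1
    rw [rhoB_of_mem_B0] at h2
    exact h2
  · intro y
    obtain ⟨a, rfl⟩ := Ideal.Quotient.mkₐ_surjective k (JZ k A) y
    exact ⟨rhoB k K A a, (mk_JZ_eq_alphaB_rhoB k K A a).symm⟩

theorem PhiMU_bijective : Function.Bijective (PhiMU k K A) := by
  have h1 : Function.Bijective (Algebra.TensorProduct.map (alphaB k K A) (betaU k K A)) := by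
    have := TensorProduct.map_bijective (f := (alphaB k K A).toLinearMap)
      (g := (betaU k K A).toLinearMap) (alphaB_bijective k K A) (betaU_bijective k K A)
    exact this
  rw [← PhiMU_comp_mulBU] at h1
  have h2 : (PhiMU k K A : A → _) = ((PhiMU k K A).comp (mulBU k K A)) ∘ (eBU k K A).symm := by
    funext a
    simp only [Function.comp_apply, AlgHom.comp_apply]
    congr 1
    exact ((eBU k K A).apply_symm_apply a).symm
  rw [h2]
  exact h1.comp (eBU k K A).symm.bijective

theorem isUnipotent_quot_IU : HopfRep.IsUnipotent k (A ⧸ IU k K A) := by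
  letI := hopfZU k A
  apply isUnipotent_of_surjective' ((Bialgebra.Quotient.mkBialgHom (IU k K A)).comp (inclZU k A))
    ?_ (isUnipotent_ZU k A)
  intro y
  obtain ⟨z, hz⟩ := (betaU_bijective k K A).2 y
  exact ⟨z, hz⟩

end IU


section unique

variable (k : Type u) [Field k] (K : Type u) [Field K] [Algebra k K]
  (A : Type u) [CommRing A] [HopfAlgebra k A] [Coalgebra.IsCocomm k A]

variable {k K A} in
/-- a bialgebra map from `A` to a unipotent Hopf algebra is trivial on `B0` -/
lemma map_eq_counit_of_mem_B0 {C : Type u} [CommRing C] [HopfAlgebra k C]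
    (hC : HopfRep.IsUnipotent k C) (q : A →ₐc[k] C) {b : A} (hb : b ∈ B0 k K A) :
    q b = algebraMap k C (Coalgebra.counit (R := k) b) := by
  have hUK : HopfRep.IsUnipotent K (K ⊗[k] C) :=
    isUnipotent_of_forall_mem_Z (Groth.Agent.Helper7.UnipEtale.forall_mem_Z_baseChange K hC)
  set qK : K ⊗[k] A →ₐc[K] K ⊗[k] C := Bialgebra.TensorProduct.map (BialgHom.id K K) q with hqK
  have key : ∀ y ∈ DG K (K ⊗[k] A), qK y = Coalgebra.counit (R := K) y • (1 : K ⊗[k] C) := by
    intro y hy
    unfold DG at hy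
    refine Submodule.span_induction (p := fun y _ => qK y =
      Coalgebra.counit (R := K) y • (1 : K ⊗[k] C)) ?_ ?_ ?_ ?_ hy
    · rintro _ ⟨γ, rfl⟩
      rw [γ.2.counit_eq_one, one_smul]
      exact Groth.Agent.Helper2.UnipDiagHom.groupLike_eq_one hUK _ (γ.2.map qK)
    · simp
    · intro x y _ _ hx hy
      rw [map_add, map_add, add_smul, hx, hy]
    · intro c x _ hx
      rw [map_smul, map_smul, hx, smul_assoc]
  have h1 := key _ hb
  rw [hqK, Bialgebra.TensorProduct.map_tmul, TensorProduct.counit_tmul] at h1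
  apply Algebra.TensorProduct.includeRight_injective (R := k) (A := K) (B := C)
    (algebraMap k K).injective
  show (1 : K) ⊗ₜ[k] q b = (1 : K) ⊗ₜ[k] algebraMap k C (Coalgebra.counit (R := k) b)
  have h2 : (BialgHom.id K K) (1 : K) = 1 := rfl
  rw [h2] at h1
  rw [h1, Algebra.TensorProduct.one_def, TensorProduct.smul_tmul', Algebra.algebraMap_eq_smul_one,
    TensorProduct.tmul_smul]
  congr 1
  simp

variable [IsAlgClosed K] [IsGalois k K]

theorem IU_unique (I' : Ideal A) [I'.IsHopfIdeal k] (hU : HopfRep.IsUnipotent k (A ⧸ I'))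
    (hbij : Function.Bijective ((Algebra.TensorProduct.map (Ideal.Quotient.mkₐ k (JZ k A))
      (Ideal.Quotient.mkₐ k I')).comp (Bialgebra.comulAlgHom k A))) :
    I' = IU k K A := by
  have hle : IU k K A ≤ I' := by
    apply IU_le
    intro b hb
    have h1 := map_eq_counit_of_mem_B0 (K := K) hU (Bialgebra.Quotient.mkBialgHom I') hb
    rw [← Ideal.Quotient.eq_zero_iff_mem, map_sub, sub_eq_zero]
    exact h1
  apply le_antisymm _ hle
  intro x hx
  set π : (A ⧸ IU k K A) →ₐ[k] (A ⧸ I') := Ideal.Quotient.factorₐ k hle with hπ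
  have hcomp : π.comp (Ideal.Quotient.mkₐ k (IU k K A)) = Ideal.Quotient.mkₐ k I' := by
    apply AlgHom.ext
    intro a
    rfl
  have hΦ : ∀ a, (Algebra.TensorProduct.map (Ideal.Quotient.mkₐ k (JZ k A))
      (Ideal.Quotient.mkₐ k I')).comp (Bialgebra.comulAlgHom k A) a =
      Algebra.TensorProduct.map (AlgHom.id k (A ⧸ JZ k A)) π (PhiMU k K A a) := by
    intro a
    unfold PhiMU
    rw [AlgHom.comp_apply, AlgHom.comp_apply, ← AlgHom.comp_apply
      (Algebra.TensorProduct.map (AlgHom.id k (A ⧸ JZ k A)) π), ← Algebra.TensorProduct.map_comp,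
      AlgHom.id_comp, hcomp]
  set y := Ideal.Quotient.mkₐ k (IU k K A) x with hy
  have hy0 : π y = 0 := by
    have : π y = Ideal.Quotient.mkₐ k I' x := by rw [hy, ← AlgHom.comp_apply, hcomp]
    rw [this]
    exact Ideal.Quotient.eq_zero_iff_mem.mpr hx
  obtain ⟨a, ha⟩ := (PhiMU_bijective k K A).2 ((1 : A ⧸ JZ k A) ⊗ₜ[k] y)
  have h1 : (Algebra.TensorProduct.map (Ideal.Quotient.mkₐ k (JZ k A))
      (Ideal.Quotient.mkₐ k I')).comp (Bialgebra.comulAlgHom k A) a = 0 := by
    rw [hΦ, ha, Algebra.TensorProduct.map_tmul, hy0, TensorProduct.tmul_zero]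
  have h2 : a = 0 := by
    apply hbij.1
    rw [h1, map_zero]
  rw [h2, map_zero] at ha
  have h3 := congrArg ((TensorProduct.lid k (A ⧸ IU k K A)).toLinearMap ∘ₗ
    (Coalgebra.counit (R := k) (A := A ⧸ JZ k A)).rTensor (A ⧸ IU k K A)) ha
  simp only [map_zero, LinearMap.coe_comp, LinearEquiv.coe_coe, Function.comp_apply,
    LinearMap.rTensor_tmul, Bialgebra.counit_one, TensorProduct.lid_tmul, one_smul] at h3
  exact Ideal.Quotient.eq_zero_iff_mem.mp h3.symm

include K in
theorem existsUnique_IU :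
    ∃! I : Ideal A, ∃ (_ : I.IsHopfIdeal k), HopfRep.IsUnipotent k (A ⧸ I) ∧
      Function.Bijective ((Algebra.TensorProduct.map (Ideal.Quotient.mkₐ k (JZ k A))
        (Ideal.Quotient.mkₐ k I)).comp (Bialgebra.comulAlgHom k A)) := by
  refine ⟨IU k K A, ⟨inferInstance, isUnipotent_quot_IU k K A, PhiMU_bijective k K A⟩, ?_⟩
  rintro I' ⟨hI', hU, hbij⟩
  exact IU_unique k K A I' hU hbij

end unique

end Groth.Agent.Helper2.CocommStr
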