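import Mathlib
import Groth.Prelude.Def_Wider
import Groth.Agent.S5155
import Groth.Agent.Helper2.Coext
open IsLocalRing Groth.Agent.Helper2.Socle Groth.Agent.Helper2.Coext

set_option autoImplicit false
universe u

namespace Groth.Agent.Helper2.Coext2


open CategoryTheory

section S1
variable {A B : Type u} [CommRing A] [CommRing B] [Algebra A B]
variable {E : Type u} [AddCommGroup E] [Module A E]

lemma injective_coext' (hinj : Module.Injective A E) :
    Module.Injective B ((ModuleCat.coextendScalars (algebraMap A B)).obj (ModuleCat.of A E)) := by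
  have h1 : CategoryTheory.Injective (ModuleCat.of A E) :=
    Module.injective_object_of_injective_module A E
  have h2 : CategoryTheory.Injective
      ((ModuleCat.coextendScalars (algebraMap A B)).obj (ModuleCat.of A E)) :=
    CategoryTheory.Injective.injective_of_adjoint
      (ModuleCat.restrictCoextendScalarsAdj (algebraMap A B)) _
  exact Module.injective_module_of_injective_object B _

variable [IsLocalRing B]

lemma range_Phi' [IsLocalRing A] (hsimple : IsSimpleModule A (ResidueField A →ₗ[A] E))
    (hinj : Module.Injective A E)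
    (hfin : Module.length A (ResidueField B) ≠ ⊤)
    (θ0 : ResidueField B →ₗ[A] E) (h0 : θ0 ≠ 0) :
    LinearMap.range (Phi θ0) = ⊤ := by
  have hfl : IsFiniteLength A (ResidueField B) := Module.length_ne_top_iff.1 hfin
  have hT : Module.length A (ResidueField B →ₗ[A] E) = Module.length A (ResidueField B) :=
    Groth.Agent.Helper2.MatlisLen.key hsimple hinj (ResidueField B) hfl
  have hTfl : IsFiniteLength A (ResidueField B →ₗ[A] E) := by
    rw [← Module.length_ne_top_iff, hT]
    exact hfin
  obtain ⟨hN, hAr⟩ := isFiniteLength_iff_isNoetherian_isArtinian.1 hTfl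
  by_contra hne
  have hlt := Submodule.length_lt hne
  have e1 : (B ⧸ LinearMap.ker (Phi θ0)) ≃ₗ[A] LinearMap.range (Phi θ0) :=
    LinearMap.quotKerEquivRange (Phi θ0)
  have e2 : (B ⧸ (maximalIdeal B).restrictScalars A) ≃ₗ[A] (B ⧸ maximalIdeal B) :=
    Submodule.Quotient.restrictScalarsEquiv A (maximalIdeal B)
  have e3 : (B ⧸ LinearMap.ker (Phi θ0)) ≃ₗ[A] (B ⧸ (maximalIdeal B).restrictScalars A) :=
    Submodule.quotEquivOfEq _ _ (ker_Phi θ0 h0)
  have e4 : (B ⧸ maximalIdeal B) ≃ₗ[A] ResidueField B := LinearEquiv.refl A _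
  have hlen : Module.length A (LinearMap.range (Phi θ0)) = Module.length A (ResidueField B) := by
    rw [← e1.length_eq, e3.length_eq, e2.length_eq, e4.length_eq]
  rw [hlen, hT] at hlt
  exact lt_irrefl _ hlt

/-- Simplicity of `Hom_B(k_B, Hom_A(B,E))` from finite length of `k_B` over `A`. -/
lemma isSimpleModule_hom_coext [IsLocalRing A]
    (hsimple : IsSimpleModule A (ResidueField A →ₗ[A] E))
    (hinj : Module.Injective A E)
    (hfin : Module.length A (ResidueField B) ≠ ⊤) :
    IsSimpleModule B (ResidueField B →ₗ[B]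
      (ModuleCat.coextendScalars (algebraMap A B)).obj (ModuleCat.of A E)) := by
  rw [isSimpleModule_iff_toSpanSingleton_surjective]
  have hfl : IsFiniteLength A (ResidueField B) := Module.length_ne_top_iff.1 hfin
  have hT : Module.length A (ResidueField B →ₗ[A] E) = Module.length A (ResidueField B) :=
    Groth.Agent.Helper2.MatlisLen.key hsimple hinj (ResidueField B) hfl
  have hnt : Nontrivial (ResidueField B →ₗ[A] E) := by
    rw [← Module.length_pos_iff (R := A), hT]
    exact Module.length_pos
  constructor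
  · obtain ⟨θ0, hθ0⟩ := exists_ne (0 : ResidueField B →ₗ[A] E)
    refine ⟨⟨lift θ0, 0, ?_⟩⟩
    intro h
    apply hθ0
    rw [← unlift_lift θ0, h, unlift_eq_zero_iff]
  · intro φ hφ ψ
    have hφ' : unlift φ ≠ 0 := by
      rw [Ne, unlift_eq_zero_iff]
      exact hφ
    have hr := range_Phi' hsimple hinj hfin (unlift φ) hφ'
    have : unlift ψ ∈ LinearMap.range (Phi (unlift φ)) := by rw [hr]; trivial
    obtain ⟨b0, hb0⟩ := this
    refine ⟨b0, ?_⟩
    rw [LinearMap.toSpanSingleton_apply]
    refine LinearMap.ext fun c => ?_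
    apply toLin_injective
    ext b
    rw [LinearMap.smul_apply, toLin_smul, toLin_apply_eq, toLin_apply_eq, ← hb0, Phi_apply,
      smul_smul, mul_comm]

end S1

section S2

variable {B : Type u} [CommRing B] [IsLocalRing B] {H : Type u} [AddCommGroup H] [Module B H]

lemma isPowerTorsion_iSup :
    LocCoh.IsPowerTorsion (maximalIdeal B)
      ↥(⨆ n : ℕ, Submodule.torsionBySet B H ((maximalIdeal B ^ n : Ideal B) : Set B)) := by
  intro x
  let tors : ℕ →o Submodule B H :=
    ⟨fun n => Submodule.torsionBySet B H ((maximalIdeal B ^ n : Ideal B) : Set B), by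
      intro m n hmn x hx
      rw [Submodule.mem_torsionBySet_iff] at hx ⊢
      intro ⟨a, ha⟩
      exact hx ⟨a, Ideal.pow_le_pow_right hmn ha⟩⟩
  obtain ⟨n, hn⟩ := (Submodule.mem_iSup_of_chain tors x.1).1 x.2
  refine ⟨n, fun a ha => ?_⟩
  apply Subtype.ext
  rw [Submodule.coe_smul, Submodule.coe_zero]
  exact (Submodule.mem_torsionBySet_iff _ _).1 hn ⟨a, ha⟩

lemma isSimpleModule_hom_iSup (h : IsSimpleModule B (ResidueField B →ₗ[B] H)) :
    IsSimpleModule B (ResidueField B →ₗ[B]
      ↥(⨆ n : ℕ, Submodule.torsionBySet B H ((maximalIdeal B ^ n : Ideal B) : Set B))) := by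
  let E' : Submodule B H :=
    ⨆ n : ℕ, Submodule.torsionBySet B H ((maximalIdeal B ^ n : Ideal B) : Set B)
  have hmem : ∀ (ψ : ResidueField B →ₗ[B] H) (c : ResidueField B), ψ c ∈ E' := by
    intro ψ c
    apply le_iSup (fun n : ℕ =>
      Submodule.torsionBySet B H ((maximalIdeal B ^ n : Ideal B) : Set B)) 1
    rw [Submodule.mem_torsionBySet_iff]
    intro ⟨a, ha⟩
    rw [pow_one] at ha
    show a • ψ c = 0
    rw [← map_smul, mem_smul_residueField_eq_zero a ha, map_zero]
  let F : (ResidueField B →ₗ[B] E') →ₗ[B] (ResidueField B →ₗ[B] H) :=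
    LinearMap.compRight B E'.subtype
  have hF : Function.Bijective F := by
    constructor
    · intro φ ψ hφψ
      ext c
      exact LinearMap.congr_fun hφψ c
    · intro ψ
      refine ⟨LinearMap.codRestrict E' ψ (hmem ψ), ?_⟩
      ext c
      rfl
  exact IsSimpleModule.congr (LinearEquiv.ofBijective F hF)

end S2

section S3

variable (k₀ : Type u) [Field k₀]

lemma isSimpleModule_field : IsSimpleModule k₀ (ResidueField k₀ →ₗ[k₀] k₀) := by
  have hb : Function.Bijective (Algebra.linearMap k₀ (ResidueField k₀)) := by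
    constructor
    · exact (algebraMap k₀ (ResidueField k₀)).injective
    · intro x
      obtain ⟨y, rfl⟩ := residue_surjective x
      exact ⟨y, rfl⟩
  let e : ResidueField k₀ ≃ₗ[k₀] k₀ := (LinearEquiv.ofBijective _ hb).symm
  have hull : InjHull.IsInjectiveHull (e : ResidueField k₀ →ₗ[k₀] k₀) :=
    { injective := e.injective
      essential := by
        intro N hN
        have : LinearMap.range (e : ResidueField k₀ →ₗ[k₀] k₀) = ⊤ := LinearEquiv.range e
        rw [this, inf_top_eq]
        exact hN
      isInjective := Module.injective_of_isSemisimpleRing k₀ k₀ }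
  exact ((Groth.Agent.S5155.result k₀ k₀).1 ⟨_, hull⟩).2.2

end S3


end Groth.Agent.Helper2.Coext2
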