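import Groth.Agent.Helper2.PC21
import Mathlib

set_option autoImplicit false

namespace Groth.Agent.Helper2.PC22

open CategoryTheory CategoryTheory.Limits CategoryTheory.Pretriangulated

universe w w' v u

section Lift

variable {A : Type u} [Category.{v} A] [Abelian A]
variable (P : ObjectProperty A)

/-- lift a complex with terms in `P` to the full subcategory -/
def liftCx (E : CochainComplex A ℤ) (h : ∀ i, P (E.X i)) : CochainComplex P.FullSubcategory ℤ where
  X i := ⟨E.X i, h i⟩
  d i j := ObjectProperty.homMk (E.d i j)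
  shape i j hij := by
    apply ObjectProperty.hom_ext
    exact E.shape i j hij
  d_comp_d' i j k _ _ := by
    apply ObjectProperty.hom_ext
    exact E.d_comp_d i j k

variable [P.IsSerreClass] [P.IsClosedUnderKernels] [P.IsClosedUnderCokernels]
  [P.IsClosedUnderFiniteProducts]

noncomputable def liftIso (E : CochainComplex A ℤ) (h : ∀ i, P (E.X i)) :
    (P.ι.mapHomologicalComplex (ComplexShape.up ℤ)).obj (liftCx P E h) ≅ E :=
  HomologicalComplex.Hom.isoOfComponents (fun i => Iso.refl _) (by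
    intro i j _
    show 𝟙 (E.X i) ≫ E.d i j = E.d i j ≫ 𝟙 (E.X j)
    rw [Category.id_comp, Category.comp_id])

end Lift


section Main

variable {A : Type u} [Category.{v} A] [Abelian A] [HasDerivedCategory.{w} A]
variable (P : ObjectProperty A) [P.IsSerreClass] [P.IsClosedUnderKernels] [P.IsClosedUnderCokernels]
  [P.IsClosedUnderFiniteProducts] [HasDerivedCategory.{w'} P.FullSubcategory]
  [PreservesFiniteLimits P.ι] [PreservesFiniteColimits P.ι]

theorem hsum : ∀ X Y : A, P X → P Y → P (X ⨯ Y) := fun X Y hX hY =>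
  P.prop_of_iso (biprod.isoProd X Y) (P.prop_biprod hX hY)

theorem hql (hlift : ∀ (X Y : A) (π : X ⟶ Y), Epi π → P Y →
    ∃ (X' : A) (i : X' ⟶ X), Mono i ∧ P X' ∧ Epi (i ≫ π)) : PCoh.IsQuasiLiftable P := by
  intro E X u hu hX
  obtain ⟨X', i, -, hX', hi⟩ := hlift E X u hu hX
  exact ⟨X', i, hX', hi⟩

theorem hqs : PCoh.IsQuasiStableUnderKernels P := by
  intro K hex _ hK
  haveI : Mono (K.d 0 1) := by
    have h := hex 0
    rw [HomologicalComplex.exactAt_iff' _ 0 0 1 (by simp) (by simp)] at h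
    exact (ShortComplex.exact_iff_mono _ (K.shape _ _ (by simp))).1 h
  exact ⟨K.X 0, 𝟙 _, P.prop_of_mono (K.d 0 1) (hK 1 le_rfl), inferInstance⟩

theorem strictPCAll_of_isStrictlyLE (E' : CochainComplex P.FullSubcategory ℤ) (b : ℤ)
    [E'.IsStrictlyLE b] :
    PCoh.IsStrictPCAll P ((P.ι.mapHomologicalComplex (ComplexShape.up ℤ)).obj E') :=
  ⟨⟨b, fun i hi => P.ι.map_isZero (E'.isZero_of_isStrictlyLE b i hi)⟩, fun i => (E'.X i).property⟩

theorem isZero_of_isZero_obj (X : P.FullSubcategory) (h : IsZero X.obj) : IsZero X := by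
  rw [IsZero.iff_id_eq_zero]
  apply P.ι.map_injective
  rw [Functor.map_zero]
  exact h.eq_of_src _ _

/-- lifting homotopies along the fully faithful inclusion -/
noncomputable def liftHomotopy {K L : CochainComplex P.FullSubcategory ℤ} (f g : K ⟶ L)
    (H : Homotopy ((P.ι.mapHomologicalComplex (ComplexShape.up ℤ)).map f)
      ((P.ι.mapHomologicalComplex (ComplexShape.up ℤ)).map g)) : Homotopy f g where
  hom i j := P.ι.preimage (H.hom i j)
  zero i j hij := by
    apply P.ι.map_injective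
    rw [Functor.map_preimage, Functor.map_zero]
    exact H.zero i j hij
  comm i := by
    apply P.ι.map_injective
    have h := H.comm i
    rw [dNext_eq _ (show (ComplexShape.up ℤ).Rel i (i + 1) from rfl),
      prevD_eq _ (show (ComplexShape.up ℤ).Rel (i - 1) i by simp)] at h ⊢
    rw [Functor.map_add, Functor.map_add, Functor.map_comp, Functor.map_comp,
      Functor.map_preimage, Functor.map_preimage]
    exact h

variable (hlift : ∀ (X Y : A) (π : X ⟶ Y), Epi π → P Y →
    ∃ (X' : A) (i : X' ⟶ X), Mono i ∧ P X' ∧ Epi (i ≫ π))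

include hlift in
theorem essSurj (K : DerivedCategory A) (b : ℤ) (hKb : K.IsLE b)
    (hK : ∀ n : ℤ, P ((DerivedCategory.homologyFunctor A n).obj K)) :
    ∃ M : DerivedCategory P.FullSubcategory, M.IsLE b ∧
      Nonempty (P.ι.mapDerivedCategory.obj M ≅ K) := by
  have hpc : PCoh.IsPC P K := fun n =>
    PC16.s5604 P (hsum P) (hqs P) (hql P hlift) n K b
      (fun i hi => DerivedCategory.isZero_of_isLE K b i hi)
      (fun i _ => PC18.isNPC_single_of_P P _ (hK i) (n - i))
  obtain ⟨E, hP, hz, ⟨e⟩⟩ := PC21.s5618 P (hsum P) (hqs P) (hql P hlift) (b + 1) K hpc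
    (fun i hi => DerivedCategory.isZero_of_isLE K b i (by omega))
  haveI : (liftCx P E hP).IsStrictlyLE b := by
    rw [CochainComplex.isStrictlyLE_iff]
    intro i hi
    exact isZero_of_isZero_obj P _ (hz i (by omega))
  refine ⟨DerivedCategory.Q.obj (liftCx P E hP), inferInstance, ⟨?_⟩⟩
  exact P.ι.mapDerivedCategoryFactors.app (liftCx P E hP) ≪≫
    DerivedCategory.Q.mapIso (liftIso P E hP) ≪≫ e


include hlift in
theorem surj_Q (E₁' E₂' : CochainComplex P.FullSubcategory ℤ) (b : ℤ) [E₁'.IsStrictlyLE b]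
    (ψ : P.ι.mapDerivedCategory.obj (DerivedCategory.Q.obj E₁') ⟶
      P.ι.mapDerivedCategory.obj (DerivedCategory.Q.obj E₂')) :
    ∃ φ : DerivedCategory.Q.obj E₁' ⟶ DerivedCategory.Q.obj E₂',
      P.ι.mapDerivedCategory.map φ = ψ := by
  let e := P.ι.mapDerivedCategoryFactors
  let α : DerivedCategory.Q.obj ((P.ι.mapHomologicalComplex (ComplexShape.up ℤ)).obj E₁') ⟶
      DerivedCategory.Q.obj ((P.ι.mapHomologicalComplex (ComplexShape.up ℤ)).obj E₂') :=
    e.inv.app E₁' ≫ ψ ≫ e.hom.app E₂'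
  have hα : e.hom.app E₁' ≫ α = ψ ≫ e.hom.app E₂' := by
    simp only [α, Iso.hom_inv_id_app_assoc]
  obtain ⟨E'', s, f, hE'', hs, hsf⟩ := PC21.s4296 P (hsum P) (hqs P) (hql P hlift) _ _
    (strictPCAll_of_isStrictlyLE P E₁' b) α
  let θ := liftIso P E'' hE''.2
  let s' := (P.ι.mapHomologicalComplex (ComplexShape.up ℤ)).preimage (θ.hom ≫ s)
  have hs' : (P.ι.mapHomologicalComplex (ComplexShape.up ℤ)).map s' = θ.hom ≫ s :=
    Functor.map_preimage _ _
  let f' := (P.ι.mapHomologicalComplex (ComplexShape.up ℤ)).preimage (θ.hom ≫ f)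
  have hf' : (P.ι.mapHomologicalComplex (ComplexShape.up ℤ)).map f' = θ.hom ≫ f :=
    Functor.map_preimage _ _
  haveI : QuasiIso s' := by
    rw [← HomologicalComplex.quasiIso_map_iff_of_preservesHomology s' P.ι, hs']
    infer_instance
  haveI : IsIso (DerivedCategory.Q.map s') := by
    rw [DerivedCategory.isIso_Q_map_iff_quasiIso]; infer_instance
  refine ⟨inv (DerivedCategory.Q.map s') ≫ DerivedCategory.Q.map f', ?_⟩
  rw [Functor.map_comp, Functor.map_inv, IsIso.inv_comp_eq, ← cancel_mono (e.hom.app E₂'),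
    Category.assoc, ← hα]
  have n1 := P.ι.mapDerivedCategoryFactors_hom_naturality s'
  have n2 := P.ι.mapDerivedCategoryFactors_hom_naturality f'
  rw [n2, reassoc_of% n1, hs', hf', Functor.map_comp, Functor.map_comp, Category.assoc, hsf]

include hlift in
theorem inj_Q (E₁' E₂' : CochainComplex P.FullSubcategory ℤ) (b : ℤ) [E₁'.IsStrictlyLE b]
    (φ : DerivedCategory.Q.obj E₁' ⟶ DerivedCategory.Q.obj E₂')
    (h : P.ι.mapDerivedCategory.map φ = 0) : φ = 0 := by
  let e := P.ι.mapDerivedCategoryFactors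
  obtain ⟨X', hX', s, hs, g, hfac⟩ := DerivedCategory.right_fac_of_isStrictlyLE φ b
  have hg0 : DerivedCategory.Q.map g = DerivedCategory.Q.map s ≫ φ := by
    rw [hfac, IsIso.hom_inv_id_assoc]
  have hg : P.ι.mapDerivedCategory.map (DerivedCategory.Q.map g) = 0 := by
    rw [hg0, Functor.map_comp, h, comp_zero]
  have hg' : DerivedCategory.Q.map ((P.ι.mapHomologicalComplex (ComplexShape.up ℤ)).map g) =
      DerivedCategory.Q.map (0 : (P.ι.mapHomologicalComplex (ComplexShape.up ℤ)).obj X' ⟶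
        (P.ι.mapHomologicalComplex (ComplexShape.up ℤ)).obj E₂') := by
    have n1 := P.ι.mapDerivedCategoryFactors_hom_naturality g
    rw [hg, zero_comp] at n1
    rw [Functor.map_zero, ← cancel_epi (e.hom.app X')]
    rw [comp_zero]
    exact n1.symm
  obtain ⟨E'', t, hE'', ht, ⟨H⟩⟩ := PC21.s4297 P (hsum P) (hqs P) (hql P hlift) _ _
    (strictPCAll_of_isStrictlyLE P X' b) _ _ hg'
  let θ := liftIso P E'' hE''.2
  let t' := (P.ι.mapHomologicalComplex (ComplexShape.up ℤ)).preimage (θ.hom ≫ t)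
  have ht' : (P.ι.mapHomologicalComplex (ComplexShape.up ℤ)).map t' = θ.hom ≫ t :=
    Functor.map_preimage _ _
  haveI : QuasiIso t' := by
    rw [← HomologicalComplex.quasiIso_map_iff_of_preservesHomology t' P.ι, ht']
    infer_instance
  haveI : IsIso (DerivedCategory.Q.map t') := by
    rw [DerivedCategory.isIso_Q_map_iff_quasiIso]; infer_instance
  have H1 : Homotopy ((P.ι.mapHomologicalComplex (ComplexShape.up ℤ)).map (t' ≫ g))
      ((P.ι.mapHomologicalComplex (ComplexShape.up ℤ)).map (0 : liftCx P E'' hE''.2 ⟶ E₂')) :=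
    (Homotopy.ofEq (by rw [Functor.map_comp, ht', Category.assoc])).trans
      ((H.compLeft θ.hom).trans (Homotopy.ofEq (by rw [Functor.map_zero, comp_zero, comp_zero])))
  have H2 := liftHomotopy P _ _ H1
  have h3 : DerivedCategory.Q.map t' ≫ DerivedCategory.Q.map g = 0 := by
    rw [← Functor.map_comp, DerivedCategory.Q_map_eq_of_homotopy _ H2, Functor.map_zero]
  have h4 : DerivedCategory.Q.map g = 0 := by
    rw [← cancel_epi (DerivedCategory.Q.map t'), h3, comp_zero]
  rw [hfac, h4, comp_zero]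

include hlift in
/-- **S1050** -/
theorem s1050 :
    (∀ (M N : DerivedCategory P.FullSubcategory) (b : ℤ), M.IsLE b → N.IsLE b →
      Function.Bijective (fun φ : M ⟶ N => P.ι.mapDerivedCategory.map φ)) ∧
    ∀ (K : DerivedCategory A) (b : ℤ), K.IsLE b →
      (∀ n : ℤ, P ((DerivedCategory.homologyFunctor A n).obj K)) →
      ∃ M : DerivedCategory P.FullSubcategory, M.IsLE b ∧
        Nonempty (P.ι.mapDerivedCategory.obj M ≅ K) := by
  refine ⟨fun M N b hM hN => ?_, fun K b hKb hK => essSurj P hlift K b hKb hK⟩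
  obtain ⟨E₁', hE₁', ⟨e₁⟩⟩ := M.exists_iso_Q_obj_of_isLE b
  obtain ⟨E₂', hE₂', ⟨e₂⟩⟩ := N.exists_iso_Q_obj_of_isLE b
  constructor
  · intro φ₁ φ₂ h
    have h' : P.ι.mapDerivedCategory.map φ₁ = P.ι.mapDerivedCategory.map φ₂ := h
    have h0 : e₁.inv ≫ (φ₁ - φ₂) ≫ e₂.hom = 0 := by
      apply inj_Q P hlift E₁' E₂' b
      rw [Functor.map_comp, Functor.map_comp, Functor.map_sub, h', sub_self, zero_comp, comp_zero]
    rw [← cancel_epi e₁.inv, ← cancel_mono e₂.hom, ← sub_eq_zero]
    rw [← h0]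
    simp only [Preadditive.sub_comp, Preadditive.comp_sub, Category.assoc]
  · intro ψ
    obtain ⟨φ', hφ'⟩ := surj_Q P hlift E₁' E₂' b
      (P.ι.mapDerivedCategory.map e₁.inv ≫ ψ ≫ P.ι.mapDerivedCategory.map e₂.hom)
    refine ⟨e₁.hom ≫ φ' ≫ e₂.inv, ?_⟩
    show P.ι.mapDerivedCategory.map (e₁.hom ≫ φ' ≫ e₂.inv) = ψ
    rw [Functor.map_comp, Functor.map_comp, hφ']
    simp only [Category.assoc, ← Functor.map_comp, Iso.hom_inv_id, Iso.hom_inv_id_assoc,
      CategoryTheory.Functor.map_id, Category.comp_id]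
    rw [← Functor.map_comp_assoc, Iso.hom_inv_id, CategoryTheory.Functor.map_id, Category.id_comp]

end Main

end Groth.Agent.Helper2.PC22
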