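import Groth.Agent.Helper2.DEq1
import Groth.Agent.Helper2.PC22

set_option autoImplicit false

namespace Groth.Agent.Helper2.DEq2

open CategoryTheory Limits

universe w w' w'' v v' u u'

variable {A : Type u} [Category.{v} A] [Abelian A] [HasDerivedCategory.{w} A]
  (P : ObjectProperty A) [P.IsSerreClass] [P.IsClosedUnderKernels] [P.IsClosedUnderCokernels]
  [P.IsClosedUnderFiniteProducts] [HasDerivedCategory.{w'} P.FullSubcategory]
  [PreservesFiniteLimits P.ι] [PreservesFiniteColimits P.ι]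
  {B : Type u'} [Category.{v'} B] [Abelian B] [HasDerivedCategory.{w''} B]
  (E : B ≌ P.FullSubcategory) [E.functor.Additive] [PreservesFiniteLimits E.functor]
  [PreservesFiniteColimits E.functor] [E.inverse.Additive] [PreservesFiniteLimits E.inverse]
  [PreservesFiniteColimits E.inverse]
  (J : B ⥤ A) [J.Additive] [PreservesFiniteLimits J] [PreservesFiniteColimits J]
  (eJ : E.functor ⋙ P.ι ≅ J)
  (hlift : ∀ (X Y : A) (π : X ⟶ Y), Epi π → P Y → ∃ (X' : A) (i : X' ⟶ X), Mono i ∧ P X' ∧ Epi (i ≫ π))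

include eJ hlift in
/-- S1050 transported along an equivalence `B ≌ P.FullSubcategory` -/
theorem transport :
    (∀ (M N : DerivedCategory B) (b : ℤ), M.IsLE b → N.IsLE b →
      Function.Bijective (fun φ : M ⟶ N => J.mapDerivedCategory.map φ)) ∧
    ∀ (K : DerivedCategory A) (b : ℤ), K.IsLE b →
      (∀ n : ℤ, P ((DerivedCategory.homologyFunctor A n).obj K)) →
      ∃ M : DerivedCategory B, M.IsLE b ∧ Nonempty (J.mapDerivedCategory.obj M ≅ K) := by
  obtain ⟨h1, h2⟩ := PC22.s1050 P hlift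
  let α : E.functor.mapDerivedCategory ⋙ P.ι.mapDerivedCategory ≅ J.mapDerivedCategory :=
    DEq1.mapDCompIso _ _ _ eJ
  haveI : E.functor.mapDerivedCategory.IsEquivalence := DEq1.isEquivalence_mapD E
  refine ⟨fun M N b hM hN => ?_, fun K b hK hKP => ?_⟩
  · haveI := hM
    haveI := hN
    have hb := h1 (E.functor.mapDerivedCategory.obj M) (E.functor.mapDerivedCategory.obj N) b
      (DEq1.isLE_mapD _ M b) (DEq1.isLE_mapD _ N b)
    have hnat : ∀ φ : M ⟶ N, J.mapDerivedCategory.map φ =
        α.inv.app M ≫ P.ι.mapDerivedCategory.map (E.functor.mapDerivedCategory.map φ) ≫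
          α.hom.app N := by
      intro φ
      have := α.hom.naturality φ
      dsimp at this
      rw [this, Iso.inv_hom_id_app_assoc]
    constructor
    · intro φ₁ φ₂ h
      have h' : J.mapDerivedCategory.map φ₁ = J.mapDerivedCategory.map φ₂ := h
      rw [hnat, hnat, cancel_epi, cancel_mono] at h'
      exact E.functor.mapDerivedCategory.map_injective (hb.1 h')
    · intro ψ
      obtain ⟨χ, hχ⟩ := hb.2 (α.hom.app M ≫ ψ ≫ α.inv.app N)
      obtain ⟨φ, rfl⟩ := E.functor.mapDerivedCategory.map_surjective χ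
      refine ⟨φ, ?_⟩
      show J.mapDerivedCategory.map φ = ψ
      have hχ' : P.ι.mapDerivedCategory.map (E.functor.mapDerivedCategory.map φ) =
        α.hom.app M ≫ ψ ≫ α.inv.app N := hχ
      rw [hnat, hχ']
      simp
  · obtain ⟨M₀, hM₀, ⟨i⟩⟩ := h2 K b hK hKP
    haveI := hM₀
    refine ⟨E.inverse.mapDerivedCategory.obj M₀, DEq1.isLE_mapD _ M₀ b, ⟨?_⟩⟩
    exact (α.symm.app _) ≪≫
      P.ι.mapDerivedCategory.mapIso ((DEq1.mapDEquiv E).counitIso.app M₀) ≪≫ i

end Groth.Agent.Helper2.DEq2
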