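import Groth.Agent.Helper2.CohQ1
import Groth.Agent.Helper2.DEq2

set_option autoImplicit false

namespace Groth.Agent.Helper2.CohQ2

open CategoryTheory CategoryTheory.Limits AlgebraicGeometry Opposite TopologicalSpace
open Groth.Agent.Helper2.CohQ1

universe u

variable (X : Scheme.{u}) [IsNoetherian X]
variable [ObjectProperty.ContainsZero (QC X)] [ObjectProperty.IsClosedUnderKernels (QC X)]
  [ObjectProperty.IsClosedUnderCokernels (QC X)] [ObjectProperty.IsClosedUnderFiniteProducts (QC X)]
  [ObjectProperty.ContainsZero (Co X)] [ObjectProperty.IsClosedUnderKernels (Co X)]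
  [ObjectProperty.IsClosedUnderCokernels (Co X)] [ObjectProperty.IsClosedUnderFiniteProducts (Co X)]

/-- the inclusion `Coh ⥤ QCoh` -/
abbrev liftF : (Co X).FullSubcategory ⥤ (QC X).FullSubcategory :=
  ObjectProperty.lift (QC X) (ObjectProperty.ι (Co X)) (fun M => M.property.1)

theorem hliftA (M N : (QC X).FullSubcategory) (π : M ⟶ N) (hπ : Epi π) (hN : PCo X N) :
    ∃ (M' : (QC X).FullSubcategory) (i : M' ⟶ M), Mono i ∧ PCo X M' ∧ Epi (i ≫ π) := by
  haveI := epi_ι π
  haveI : M.obj.IsQuasicoherent := M.property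
  haveI : N.obj.IsQuasicoherent := N.property
  obtain ⟨K', i', hi', hq', hft', hepi⟩ := exists_ft_sub π.hom hN.2
  refine ⟨⟨K', hq'⟩, ObjectProperty.homMk i', ?_, ⟨hq', hft'⟩, ?_⟩
  · haveI : Mono ((QC X).ι.map (ObjectProperty.homMk i' : (⟨K', hq'⟩ : (QC X).FullSubcategory) ⟶ M)) := hi'
    exact (QC X).ι.mono_of_mono_map this
  · haveI : Epi ((QC X).ι.map ((ObjectProperty.homMk i' : (⟨K', hq'⟩ : (QC X).FullSubcategory) ⟶ M) ≫ π)) := hepi
    exact (QC X).ι.epi_of_epi_map this

instance : (PCo X).IsClosedUnderFiniteProducts := by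
  haveI := preservesFiniteLimits_ι X
  refine ⟨fun J _ => ⟨?_⟩⟩
  rintro M ⟨p⟩
  exact (Co X).prop_of_isLimit (isLimitOfPreserves (QC X).ι p.isLimit) (fun j => p.prop_diag_obj j)

/-- `Coh ⥤ P.FullSubcategory` -/
abbrev Efun : (Co X).FullSubcategory ⥤ (PCo X).FullSubcategory :=
  ObjectProperty.lift (PCo X) (liftF X) (fun M => M.property)

instance : (Efun X).EssSurj := ⟨fun Y => ⟨⟨Y.obj.obj, Y.property⟩, ⟨Iso.refl _⟩⟩⟩

instance : (Efun X).IsEquivalence := {}

/-- the equivalence -/
noncomputable def E : (Co X).FullSubcategory ≌ (PCo X).FullSubcategory := (Efun X).asEquivalence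

instance : (E X).functor.Additive := by
  show (Efun X).Additive
  infer_instance


instance : (E X).inverse.Additive := inferInstance
instance : PreservesFiniteLimits (E X).functor := inferInstance
instance : PreservesFiniteColimits (E X).functor := inferInstance
instance : PreservesFiniteLimits (E X).inverse := inferInstance
instance : PreservesFiniteColimits (E X).inverse := inferInstance

section

variable [PreservesFiniteLimits (liftF X)] [PreservesFiniteColimits (liftF X)]

/-- `P.ι ≅ E.inverse ⋙ liftF` -/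
noncomputable def ιIso : (PCo X).ι ≅ (E X).inverse ⋙ liftF X :=
  (Functor.leftUnitor _).symm ≪≫ Functor.isoWhiskerRight (E X).counitIso.symm (PCo X).ι ≪≫
    Functor.associator _ _ _

instance : PreservesFiniteLimits (PCo X).ι := preservesFiniteLimits_of_natIso (ιIso X).symm
instance : PreservesFiniteColimits (PCo X).ι := preservesFiniteColimits_of_natIso (ιIso X).symm

universe w w'

variable [HasDerivedCategory.{w} (QC X).FullSubcategory]
  [HasDerivedCategory.{w'} (Co X).FullSubcategory]

/-- **S7262** -/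
theorem main :
    (∀ (M N : DerivedCategory (Co X).FullSubcategory) (b : ℤ), M.IsLE b → N.IsLE b →
      Function.Bijective (fun φ : M ⟶ N => (liftF X).mapDerivedCategory.map φ)) ∧
    ∀ (K : DerivedCategory (QC X).FullSubcategory) (b : ℤ), K.IsLE b →
      (∀ i : ℤ, Coh.IsCoh ((DerivedCategory.homologyFunctor (QC X).FullSubcategory i).obj K).obj) →
      ∃ M : DerivedCategory (Co X).FullSubcategory, M.IsLE b ∧
        Nonempty ((liftF X).mapDerivedCategory.obj M ≅ K) := by
  letI : HasDerivedCategory.{u + 1} (PCo X).FullSubcategory := HasDerivedCategory.standard _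
  exact DEq2.transport (PCo X) (E X) (liftF X) (Iso.refl _) (hliftA X)

end

end Groth.Agent.Helper2.CohQ2
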