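import Mathlib
import Groth.Agent.Helper5.PrimeBetween
import Groth.Agent.Helper2.Caten
open IsLocalRing Groth.Agent.Helper2.Caten

set_option autoImplicit false
universe u

namespace Groth.Agent.Helper2.CohtOne


variable {A : Type u} [CommRing A] [IsLocalRing A] [IsNoetherianRing A]

lemma aux (I : Ideal A) (hI : I ≤ maximalIdeal A) :
    ∀ (n : ℕ) (q : PrimeSpectrum A), Order.coheight q = n → 1 ≤ n → ¬ I ≤ q.asIdeal →
      ∃ p : PrimeSpectrum A, ¬ I ≤ p.asIdeal ∧ Order.coheight p = 1 := by
  intro n
  induction n using Nat.strong_induction_on with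
  | _ n ih =>
    intro q hq hn hIq
    rcases Nat.lt_or_ge 1 n with hn2 | hn1
    · -- n ≥ 2
      obtain ⟨a, haI, haq⟩ := SetLike.not_le_iff_exists.1 hIq
      let D := A ⧸ q.asIdeal
      have hDloc : IsLocalRing D :=
        IsLocalRing.of_surjective' (Ideal.Quotient.mk q.asIdeal) Ideal.Quotient.mk_surjective
      have hdimD : ringKrullDim D = ((n : ℕ∞) : WithBot ℕ∞) := by
        rw [dimQuot_eq_coheight, hq]
      have hloc : IsLocalHom (Ideal.Quotient.mk q.asIdeal) :=
        IsLocalHom.of_surjective _ Ideal.Quotient.mk_surjective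
      have hht : 1 < (maximalIdeal D).height := by
        have h1 := IsLocalRing.maximalIdeal_height_eq_ringKrullDim (R := D)
        rw [hdimD] at h1
        have h2 : (maximalIdeal D).height = n := by exact_mod_cast h1
        rw [h2]
        exact_mod_cast hn2
      have haQ : Ideal.Quotient.mk q.asIdeal a ∈ maximalIdeal D := by
        rw [mem_maximalIdeal, mem_nonunits_iff]
        intro hu
        have := hloc.map_nonunit a hu
        exact (mem_maximalIdeal a).1 (hI haI) this
      have ha0 : Ideal.Quotient.mk q.asIdeal a ≠ 0 := by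
        rw [Ne, Ideal.Quotient.eq_zero_iff_mem]
        exact haq
      obtain ⟨T, hTp, hT0, hTQ, haT⟩ :=
        Groth.Agent.Helper5.PrimeBetween.dom_aux D (maximalIdeal D) hht _ haQ ha0
      let q' : PrimeSpectrum A := ⟨T.comap (Ideal.Quotient.mk q.asIdeal), inferInstance⟩
      have hqq' : q < q' := by
        have hle : q ≤ q' := by
          intro x hx
          show Ideal.Quotient.mk q.asIdeal x ∈ T
          rw [Ideal.Quotient.eq_zero_iff_mem.2 hx]
          exact T.zero_mem
        refine lt_of_le_of_ne hle ?_
        intro heq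
        apply hT0
        rw [eq_bot_iff]
        intro t ht
        obtain ⟨b, rfl⟩ := Ideal.Quotient.mk_surjective t
        have hb : b ∈ q'.asIdeal := ht
        rw [← heq] at hb
        rw [Ideal.mem_bot, Ideal.Quotient.eq_zero_iff_mem]
        exact hb
      have hq'I : ¬ I ≤ q'.asIdeal := fun h => haT (h haI)
      have hq'm : ¬ IsMax q' := by
        intro hmax
        obtain ⟨d, hdQ, hdT⟩ := SetLike.exists_of_lt hTQ
        obtain ⟨b, rfl⟩ := Ideal.Quotient.mk_surjective d
        have hle : q' ≤ closedPoint A := le_top
        have := hmax hle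
        apply hdT
        have hb : b ∈ maximalIdeal A := by
          rw [mem_maximalIdeal, mem_nonunits_iff]
          intro hu
          rw [mem_maximalIdeal, mem_nonunits_iff] at hdQ
          exact hdQ (hu.map _)
        exact this hb
      have hlt : Order.coheight q' + 1 ≤ Order.coheight q := Order.coheight_add_one_le hqq'
      rw [hq] at hlt
      obtain ⟨k, hk⟩ := ENat.ne_top_iff_exists.1 (coheight_lt_top q').ne
      rw [← hk] at hlt
      have hkn : k + 1 ≤ n := by exact_mod_cast hlt
      have hk1 : 1 ≤ k := by
        rw [Nat.one_le_iff_ne_zero]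
        intro h0
        apply hq'm
        rw [← Order.coheight_eq_zero, ← hk, h0]
        rfl
      exact ih k (by omega) q' hk.symm hk1 hq'I
    · have : n = 1 := le_antisymm hn1 hn
      subst this
      exact ⟨q, hIq, hq⟩


end Groth.Agent.Helper2.CohtOne
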