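import Mathlib

set_option autoImplicit false
open CategoryTheory CategoryTheory.Limits
universe u


namespace Groth.Agent.Helper2.ColimHom

variable {A : Type u} [CommRing A] {J : Type u} [Preorder J] [IsDirected J (· ≤ ·)] [Nonempty J]
  (N : J ⥤ ModuleCat.{u} A)

/-- description of `colimit.post` on representatives -/
theorem post_ι (M : ModuleCat.{u} A) (j : J) (f : M ⟶ N.obj j) :
    colimit.post N (coyoneda.obj (Opposite.op M))
      (colimit.ι (N ⋙ coyoneda.obj (Opposite.op M)) j f) = f ≫ colimit.ι N j := by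
  have := ConcreteCategory.congr_hom (colimit.ι_post N (coyoneda.obj (Opposite.op M)) j) f
  rw [ConcreteCategory.comp_apply] at this
  exact this

/-- two maps into stages which agree on a finite set after passing to the colimit agree
at a later stage on that set -/
theorem exists_stage_eqOn (M : ModuleCat.{u} A) {i j : J} (f : M ⟶ N.obj i) (g : M ⟶ N.obj j)
    (h : f ≫ colimit.ι N i = g ≫ colimit.ι N j) (s : Finset M) :
    ∃ (k : J) (u : i ⟶ k) (v : j ⟶ k), ∀ m ∈ s, (N.map u).hom (f.hom m) = (N.map v).hom (g.hom m) := by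
  classical
  induction s using Finset.induction_on with
  | empty =>
    obtain ⟨k, hik, hjk⟩ := exists_ge_ge i j
    exact ⟨k, homOfLE hik, homOfLE hjk, fun m hm => absurd hm (Finset.notMem_empty m)⟩
  | insert m₀ s _ ih =>
    obtain ⟨k₀, u₀, v₀, h₀⟩ := ih
    have hm₀ : (colimit.ι N i).hom (f.hom m₀) = (colimit.ι N j).hom (g.hom m₀) := by
      have := congrArg (fun φ : M ⟶ colimit N => φ.hom m₀) h
      simpa using this
    obtain ⟨k₁, u₁, v₁, h₁⟩ := Concrete.colimit_exists_of_rep_eq N (f.hom m₀) (g.hom m₀) hm₀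
    obtain ⟨k, hk₀, hk₁⟩ := exists_ge_ge k₀ k₁
    refine ⟨k, u₀ ≫ homOfLE hk₀, v₀ ≫ homOfLE hk₀, ?_⟩
    intro m hm
    rcases Finset.mem_insert.mp hm with rfl | hm
    · have e1 : u₀ ≫ homOfLE hk₀ = u₁ ≫ homOfLE hk₁ := Subsingleton.elim _ _
      have e2 : v₀ ≫ homOfLE hk₀ = v₁ ≫ homOfLE hk₁ := Subsingleton.elim _ _
      rw [e1, e2, N.map_comp, N.map_comp]
      simp only [ModuleCat.hom_comp, LinearMap.coe_comp, Function.comp_apply]
      exact congrArg _ h₁
    · rw [N.map_comp, N.map_comp]
      simp only [ModuleCat.hom_comp, LinearMap.coe_comp, Function.comp_apply]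
      exact congrArg _ (h₀ m hm)

theorem injective_post (M : ModuleCat.{u} A) [Module.Finite A M] :
    Function.Injective (colimit.post N (coyoneda.obj (Opposite.op M))) := by
  intro x y hxy
  obtain ⟨i, f, rfl⟩ := Types.jointly_surjective' x
  obtain ⟨j, g, rfl⟩ := Types.jointly_surjective' y
  rw [post_ι, post_ι] at hxy
  obtain ⟨s, hs⟩ := (Module.Finite.fg_top : (⊤ : Submodule A M).FG)
  obtain ⟨k, u, v, huv⟩ := exists_stage_eqOn N M f g hxy s
  rw [Types.FilteredColimit.colimit_eq_iff]
  refine ⟨k, u, v, ?_⟩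
  change f ≫ N.map u = g ≫ N.map v
  ext m
  have hm : m ∈ Submodule.span A (s : Set M) := by rw [hs]; trivial
  simp only [ModuleCat.hom_comp, LinearMap.coe_comp, Function.comp_apply]
  induction hm using Submodule.span_induction with
  | mem m hm => exact huv m hm
  | zero => simp
  | add a b _ _ ha hb => simp only [map_add, ha, hb]
  | smul c a _ ha => simp only [map_smul, ha]

end Groth.Agent.Helper2.ColimHom
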