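import Mathlib
import Groth.Agent.Helper2.ColimHom

set_option autoImplicit false
open CategoryTheory CategoryTheory.Limits
universe u
open Groth.Agent.Helper2.ColimHom

namespace Groth.Agent.Helper2.ColimHomFP

variable {A : Type u} [CommRing A] {J : Type u} [Preorder J] [IsDirected J (· ≤ ·)] [Nonempty J]
  (N : J ⥤ ModuleCat.{u} A)

/-- a finite family of elements of the colimit comes from a common stage -/
theorem exists_common_stage {n : ℕ} (z : Fin n → (colimit N : ModuleCat.{u} A)) :
    ∃ (j : J) (y : Fin n → N.obj j), ∀ l, (colimit.ι N j).hom (y l) = z l := by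
  classical
  have h : ∀ l, ∃ (j : J) (y : N.obj j), (colimit.ι N j).hom y = z l := fun l =>
    Concrete.colimit_exists_rep N (z l)
  choose jl yl hyl using h
  obtain ⟨j, hj⟩ := (Finset.univ.image jl).exists_le
  have hle : ∀ l, jl l ≤ j := fun l => hj _ (Finset.mem_image_of_mem _ (Finset.mem_univ l))
  refine ⟨j, fun l => (N.map (homOfLE (hle l))).hom (yl l), fun l => ?_⟩
  rw [← hyl l, ← LinearMap.comp_apply, ← ModuleCat.hom_comp, colimit.w]

/-- an element of a stage dying in the colimit dies at a later stage -/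
theorem exists_stage_eq_zero {j : J} (y : N.obj j) (hy : (colimit.ι N j).hom y = 0) :
    ∃ (k : J) (u : j ⟶ k), (N.map u).hom y = 0 := by
  have h0 : (colimit.ι N j).hom y = (colimit.ι N j).hom (0 : N.obj j) := by rw [hy, map_zero]
  obtain ⟨k, u, v, huv⟩ := Concrete.colimit_exists_of_rep_eq N y (0 : N.obj j) h0
  refine ⟨k, u, ?_⟩
  have : (N.map u).hom y = (N.map v).hom 0 := huv
  rw [this, map_zero]

theorem surjective_post (M : ModuleCat.{u} A) [Module.FinitePresentation A M] :
    Function.Surjective (colimit.post N (coyoneda.obj (Opposite.op M))) := by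
  classical
  intro φ
  change M ⟶ colimit N at φ
  obtain ⟨n, m, f, g, hf, hfg⟩ := Module.FinitePresentation.exists_fin' A M
  -- lift the generators
  obtain ⟨j, y, hy⟩ := exists_common_stage N (fun l : Fin n => φ.hom (f (Pi.single l 1)))
  let ψ₀ : (Fin n → A) →ₗ[A] N.obj j := Fintype.linearCombination A y
  have hψ₀ : ∀ v, (colimit.ι N j).hom (ψ₀ v) = φ.hom (f v) := by
    intro v
    have hv : v = ∑ l, v l • (Pi.single l 1 : Fin n → A) := by
      ext i
      simp [Finset.sum_apply, Pi.single_apply]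
    conv_rhs => rw [hv]
    simp only [ψ₀, Fintype.linearCombination_apply, map_sum, map_smul, hy]
  -- kill the relations
  have hrel : ∀ t : Fin m, ∃ (k : J) (u : j ⟶ k),
      (N.map u).hom (ψ₀ (g (Pi.single t 1))) = 0 := by
    intro t
    apply exists_stage_eq_zero
    rw [hψ₀, hfg.apply_apply_eq_zero, map_zero]
  choose kt ut hut using hrel
  obtain ⟨k, hk⟩ := (insert j (Finset.univ.image kt)).exists_le
  have hjk : j ≤ k := hk j (Finset.mem_insert_self _ _)
  have hkt : ∀ t, kt t ≤ k := fun t =>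
    hk _ (Finset.mem_insert_of_mem (Finset.mem_image_of_mem _ (Finset.mem_univ t)))
  let ψ₁ : (Fin n → A) →ₗ[A] N.obj k := (N.map (homOfLE hjk)).hom ∘ₗ ψ₀
  have hψ₁g : ψ₁ ∘ₗ g = 0 := by
    apply LinearMap.pi_ext'
    intro t
    ext
    simp only [LinearMap.coe_comp, LinearMap.coe_single, Function.comp_apply, LinearMap.zero_apply,
      ψ₁]
    have e : homOfLE hjk = ut t ≫ homOfLE (hkt t) := Subsingleton.elim _ _
    rw [e, N.map_comp, ModuleCat.hom_comp, LinearMap.comp_apply, hut, map_zero]
  have hker : LinearMap.ker f ≤ LinearMap.ker ψ₁ := by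
    intro v hv
    obtain ⟨w, rfl⟩ := (hfg v).mp hv
    exact LinearMap.congr_fun hψ₁g w
  -- descend
  let ψ : M →ₗ[A] N.obj k :=
    ((LinearMap.ker f).liftQ ψ₁ hker) ∘ₗ (f.quotKerEquivOfSurjective hf).symm.toLinearMap
  have hψf : ∀ v, ψ (f v) = ψ₁ v := by
    intro v
    simp only [ψ, LinearMap.coe_comp, LinearEquiv.coe_coe, Function.comp_apply]
    have : (f.quotKerEquivOfSurjective hf).symm (f v) = Submodule.Quotient.mk v := by
      rw [LinearEquiv.symm_apply_eq]
      rfl
    rw [this, Submodule.liftQ_apply]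
  refine ⟨colimit.ι (N ⋙ coyoneda.obj (Opposite.op M)) k (ModuleCat.ofHom ψ), ?_⟩
  rw [post_ι]
  change (ModuleCat.ofHom ψ ≫ colimit.ι N k : M ⟶ colimit N) = φ
  ext x
  obtain ⟨v, rfl⟩ := hf x
  simp only [ModuleCat.hom_comp, ModuleCat.hom_ofHom, LinearMap.coe_comp, Function.comp_apply]
  rw [hψf, ← hψ₀]
  simp only [ψ₁, LinearMap.coe_comp, Function.comp_apply]
  rw [← LinearMap.comp_apply, ← ModuleCat.hom_comp, colimit.w]

end Groth.Agent.Helper2.ColimHomFP
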