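import Mathlib
import Groth.Prelude.Def_HopfRep

set_option autoImplicit false
universe u
open TensorProduct

namespace Groth.Agent.Helper2.ComodSerre

variable {R : Type u} [CommRing R] {C : Type u} [AddCommGroup C] [Module R C] [Coalgebra R C]
variable {V : Type u} [AddCommGroup V] [Module R V] [HopfRep.Comod R C V]

local notation "ρ" => (HopfRep.Comod.coact (k := R) (A := C) (V := V))

/-- a finitely generated bound for the left factors of a tensor -/
lemma exists_fg_range (t : V ⊗[R] C) :
    ∃ N : Submodule R V, N.FG ∧ t ∈ LinearMap.range (N.subtype.rTensor C) := by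
  induction t using TensorProduct.induction_on with
  | zero => exact ⟨⊥, Submodule.fg_bot, Submodule.zero_mem _⟩
  | tmul v c =>
    refine ⟨Submodule.span R {v}, Submodule.fg_span_singleton v, ?_⟩
    exact ⟨(⟨v, Submodule.mem_span_singleton_self v⟩ : Submodule.span R {v}) ⊗ₜ c, by simp⟩
  | add t1 t2 h1 h2 =>
    obtain ⟨N1, hN1, a1, ha1⟩ := h1
    obtain ⟨N2, hN2, a2, ha2⟩ := h2
    refine ⟨N1 ⊔ N2, hN1.sup hN2, ?_⟩
    refine ⟨(Submodule.inclusion (le_sup_left : N1 ≤ N1 ⊔ N2)).rTensor C a1 +
      (Submodule.inclusion (le_sup_right : N2 ≤ N1 ⊔ N2)).rTensor C a2, ?_⟩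
    rw [map_add, ← ha1, ← ha2, ← LinearMap.comp_apply, ← LinearMap.comp_apply,
      ← LinearMap.rTensor_comp, ← LinearMap.rTensor_comp]
    rfl

lemma range_rTensor_mono {N N' : Submodule R V} (h : N ≤ N') :
    LinearMap.range (N.subtype.rTensor C) ≤ LinearMap.range (N'.subtype.rTensor C) := by
  rintro _ ⟨a, rfl⟩
  refine ⟨(Submodule.inclusion h).rTensor C a, ?_⟩
  rw [← LinearMap.comp_apply, ← LinearMap.rTensor_comp]
  rfl

lemma main [IsNoetherianRing R] [Module.Flat R C] (M : Submodule R V) (hM : M.FG) :
    ∃ W : Submodule R V, HopfRep.IsSubcomod (k := R) (A := C) W ∧ M ≤ W ∧ W.FG := by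
  classical
  obtain ⟨S0, hS0⟩ := hM
  -- a f.g. N with ρ(M) ⊆ N ⊗ C
  choose Nf hNfg hNmem using fun m : V => exists_fg_range (R := R) (C := C) (ρ m)
  let N : Submodule R V := S0.sup Nf
  have hNFG : N.FG := by
    have : ∀ (T : Finset V), (T.sup Nf).FG := by
      intro T
      induction T using Finset.induction_on with
      | empty => simpa using Submodule.fg_bot
      | insert a T _ ih => rw [Finset.sup_insert]; exact (hNfg a).sup ih
    exact this S0
  let ιN := N.subtype.rTensor C
  let q := (LinearMap.range ιN).mkQ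
  let g : V →ₗ[R] (V ⊗[R] C) ⧸ LinearMap.range ιN := q ∘ₗ ρ
  let W : Submodule R V := LinearMap.ker g
  have hMW : M ≤ W := by
    rw [← hS0]
    refine Submodule.span_le.2 fun m hm => ?_
    show q (ρ m) = 0
    rw [Submodule.mkQ_apply, Submodule.Quotient.mk_eq_zero]
    exact range_rTensor_mono (Finset.le_sup hm) (hNmem m)
  have hWN : W ≤ N := by
    intro w hw
    have h1 : q (ρ w) = 0 := hw
    rw [Submodule.mkQ_apply, Submodule.Quotient.mk_eq_zero] at h1
    obtain ⟨t, ht⟩ := h1
    have hcu := LinearMap.congr_fun (HopfRep.Comod.counit_comp (k := R) (A := C) (V := V)) w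
    simp only [LinearMap.comp_apply, LinearMap.flip_apply, TensorProduct.mk_apply] at hcu
    have h2 : w = (TensorProduct.rid R V) ((Coalgebra.counit (R := R) (A := C)).lTensor V (ρ w)) := by
      rw [hcu]; simp
    have key : (TensorProduct.rid R V).toLinearMap ∘ₗ (Coalgebra.counit (R := R) (A := C)).lTensor V ∘ₗ
        N.subtype.rTensor C = N.subtype ∘ₗ (TensorProduct.rid R N).toLinearMap ∘ₗ
          (Coalgebra.counit (R := R) (A := C)).lTensor N := by
      ext a b
      simp
    rw [h2, ← ht]
    have := LinearMap.congr_fun key t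
    simp only [LinearMap.comp_apply, LinearEquiv.coe_coe] at this
    rw [this]
    exact Submodule.coe_mem _
  refine ⟨W, ?_, hMW, ?_⟩
  · intro w hw
    have hex : Function.Exact (W.subtype.rTensor C) (g.rTensor C) :=
      Module.Flat.rTensor_exact C (LinearMap.exact_subtype_ker_map g)
    apply (hex (ρ w)).1
    -- compute
    have h1 : q (ρ w) = 0 := hw
    rw [Submodule.mkQ_apply, Submodule.Quotient.mk_eq_zero] at h1
    obtain ⟨t, ht⟩ := h1
    have hco := LinearMap.congr_fun (HopfRep.Comod.coassoc (k := R) (A := C) (V := V)) w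
    simp only [LinearMap.comp_apply, LinearEquiv.coe_coe] at hco
    have h3 : (ρ).rTensor C (ρ w) = (TensorProduct.assoc R V C C).symm
        ((Coalgebra.comul (R := R) (A := C)).lTensor V (ρ w)) := by
      rw [← hco, LinearEquiv.symm_apply_apply]
    show (q ∘ₗ ρ).rTensor C (ρ w) = 0
    rw [LinearMap.rTensor_comp, LinearMap.comp_apply, h3, ← ht]
    have key : (q.rTensor C) ∘ₗ (TensorProduct.assoc R V C C).symm.toLinearMap ∘ₗ
        (Coalgebra.comul (R := R) (A := C)).lTensor V ∘ₗ ιN =
        ((q ∘ₗ ιN).rTensor C) ∘ₗ (TensorProduct.assoc R N C C).symm.toLinearMap ∘ₗ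
          (Coalgebra.comul (R := R) (A := C)).lTensor N := by
      apply TensorProduct.ext'
      intro n c
      simp only [LinearMap.comp_apply, LinearEquiv.coe_coe, ιN, LinearMap.rTensor_tmul,
        LinearMap.lTensor_tmul, Submodule.subtype_apply]
      induction (Coalgebra.comul (R := R) (A := C) c) using TensorProduct.induction_on with
      | zero => simp
      | tmul c1 c2 => simp
      | add x y hx hy => simp only [TensorProduct.tmul_add, map_add, hx, hy]
    have hq0 : q ∘ₗ ιN = 0 := by
      refine LinearMap.ext fun x => ?_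
      rw [LinearMap.comp_apply, LinearMap.zero_apply, Submodule.mkQ_apply,
        Submodule.Quotient.mk_eq_zero]
      exact ⟨x, rfl⟩
    have := LinearMap.congr_fun key t
    simp only [LinearMap.comp_apply, LinearEquiv.coe_coe] at this
    rw [this, hq0]
    simp
  · haveI : Module.Finite R N := Module.Finite.iff_fg.2 hNFG
    haveI : IsNoetherian R N := inferInstance
    have h1 : (Submodule.comap N.subtype W).FG := IsNoetherian.noetherian _
    have h3 := h1.map N.subtype
    rwa [Submodule.map_comap_subtype, inf_eq_right.2 hWN] at h3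

end Groth.Agent.Helper2.ComodSerre
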