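import Mathlib
import Groth.Prelude
import Groth.Agent.Helper2.HensNoeth2
import Groth.Agent.Helper2.ComplEquiv
import Groth.Agent.Helper2.PairHensNbhd3
import Groth.Agent.Helper2.PairHensQuot
set_option autoImplicit false

universe u

noncomputable section

namespace Groth.Agent.Helper2.PairHens

theorem s8801 (A : Type u) [CommRing A] [IsNoetherianRing A] (I : Ideal A) (C : Type u) [CommRing C]
    [Algebra A C] [Algebra.FiniteType A C] (Ch : Type u) [CommRing Ch] [Algebra C Ch] [Algebra A Ch]
    [IsScalarTower A C Ch] (hCh : Hens2.IsPairHenselization C (I.map (algebraMap A C)) Ch)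
    (J : Ideal Ch) :
    ∃ (B : Type u) (_ : CommRing B) (_ : Algebra A B), Algebra.FiniteType A B ∧
      Nonempty (AdicCompletion (I.map (algebraMap A B)) B ≃ₐ[A]
        AdicCompletion (I.map (algebraMap A (Ch ⧸ J))) (Ch ⧸ J)) := by
  classical
  haveI : IsNoetherianRing C := Algebra.FiniteType.isNoetherianRing A C
  haveI : IsNoetherianRing Ch := (s1994 C (I.map (algebraMap A C)) Ch hCh).1
  obtain ⟨G, hG⟩ : J.FG := IsNoetherian.noetherian J
  obtain ⟨N, hN⟩ := Nbhd.exists_lift hCh G
  letI : Algebra A N.A := ((algebraMap C N.A).comp (algebraMap A C)).toAlgebra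
  haveI : IsScalarTower A C N.A := IsScalarTower.of_algebraMap_eq (fun _ => rfl)
  haveI : IsScalarTower A N.A Ch := IsScalarTower.of_algebraMap_eq (fun a => by
    show algebraMap A Ch a = algebraMap N.A Ch (algebraMap C N.A (algebraMap A C a))
    rw [← IsScalarTower.algebraMap_apply C N.A Ch, ← IsScalarTower.algebraMap_apply A C Ch])
  haveI : Algebra.FiniteType A N.A := Algebra.FiniteType.trans (S := C) inferInstance inferInstance
  let J' : Ideal N.A := J.comap (algebraMap N.A Ch)
  have hJ : J'.map (algebraMap N.A Ch) = J := by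
    apply le_antisymm Ideal.map_comap_le
    have h1 : Ideal.span (G : Set Ch) ≤ J'.map (algebraMap N.A Ch) := by
      rw [Ideal.span_le]
      intro g hg
      obtain ⟨c, hc⟩ := hN g hg
      have hcJ : c ∈ J' := by
        show algebraMap N.A Ch c ∈ J
        rw [hc, ← hG]
        exact Ideal.subset_span hg
      rw [← hc]
      exact Ideal.mem_map_of_mem _ hcJ
    rwa [hG] at h1
  have hD := isPairHenselization_quotient N.hens J'
  set B := N.A ⧸ J' with hBdef
  -- the algebra structure of `Ch ⧸ J` over `B`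
  let fB : B →ₐ[A] Ch ⧸ J :=
    Ideal.quotientMapₐ J (IsScalarTower.toAlgHom A N.A Ch) (le_refl _)
  letI : Algebra B (Ch ⧸ J) := fB.toRingHom.toAlgebra
  let e : (Ch ⧸ J'.map (algebraMap N.A Ch)) ≃ₐ[B] (Ch ⧸ J) :=
    { Ideal.quotEquivOfEq hJ with
      commutes' := by
        intro x
        obtain ⟨c, rfl⟩ := Ideal.Quotient.mk_surjective x
        rfl }
  have hD' := isPairHenselization_of_algEquiv e hD
  set KB : Ideal B := I.map (algebraMap A B) with hKB
  set KD : Ideal (Ch ⧸ J) := I.map (algebraMap A (Ch ⧸ J)) with hKD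
  have hK1 : ((I.map (algebraMap A C)).map (algebraMap C N.A)).map (Ideal.Quotient.mk J') = KB := by
    rw [Ideal.map_map, Ideal.map_map]
    rfl
  rw [hK1] at hD'
  have hK2 : ∀ n, (KB ^ n).map (algebraMap B (Ch ⧸ J)) = KD ^ n := by
    intro n
    rw [Ideal.map_pow, hKB, Ideal.map_map]
    have : (algebraMap B (Ch ⧸ J)).comp (algebraMap A B) = algebraMap A (Ch ⧸ J) := by
      refine RingHom.ext fun a => ?_
      exact fB.commutes a
    rw [this]
  refine ⟨B, inferInstance, inferInstance, inferInstance, ⟨?_⟩⟩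
  refine ComplEquiv.equiv fB KB KD ?_ ?_ ?_
  · intro n
    rw [← Ideal.map_le_iff_le_comap]
    exact le_of_eq (hK2 n)
  · intro n b hb
    refine mem_pow_of_algebraMap_mem hD' n b ?_
    rw [hK2 n]
    exact hb
  · intro n d
    obtain ⟨b, hb⟩ := exists_sub_mem_pow hD' n d
    refine ⟨b, ?_⟩
    rw [hK2 n] at hb
    exact hb

end Groth.Agent.Helper2.PairHens
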