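import Mathlib

set_option autoImplicit false
set_option linter.style.haveILetI false
set_option linter.unusedSectionVars false
set_option linter.unusedVariables false

open CategoryTheory CategoryTheory.Limits AlgebraicGeometry TopologicalSpace

universe u

namespace Groth.Agent.Helper2.LocTgt

variable (P : MorphismProperty Scheme.{u}) [IsZariskiLocalAtTarget P]

lemma restrict_congr {X Y : Scheme.{u}} (f : X ⟶ Y) {A B : Y.Opens} (h : A = B)
    (hP : P (f ∣_ A)) : P (f ∣_ B) := by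
  subst h; exact hP

/-- a property local on the target restricts to smaller opens -/
lemma restrict_mono {X Y : Scheme.{u}} (f : X ⟶ Y) {A B : Y.Opens} (hAB : A ≤ B)
    (h : P (f ∣_ B)) : P (f ∣_ A) := by
  have h1 : P (f ∣_ B ∣_ (B.ι ⁻¹ᵁ A)) := IsZariskiLocalAtTarget.restrict h _
  have h2 : P (f ∣_ B.ι ''ᵁ (B.ι ⁻¹ᵁ A)) :=
    (P.arrow_mk_iso_iff (morphismRestrictRestrict f B (B.ι ⁻¹ᵁ A))).1 h1
  refine restrict_congr P f ?_ h2
  rw [Scheme.Hom.image_preimage_eq_opensRange_inf, Scheme.Opens.opensRange_ι]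
  exact inf_eq_right.2 hAB

/-- a property local on the target holding near every point of an open holds over the open -/
lemma restrict_of_cover {X Y : Scheme.{u}} (f : X ⟶ Y) (W : Y.Opens)
    (H : ∀ y ∈ W, ∃ A : Y.Opens, y ∈ A ∧ P (f ∣_ A)) : P (f ∣_ W) := by
  apply IsZariskiLocalAtTarget.of_forall_exists_morphismRestrict (P := P)
  rintro ⟨y, hy⟩
  obtain ⟨A, hyA, hA⟩ := H y hy
  refine ⟨W.ι ⁻¹ᵁ A, hyA, ?_⟩
  rw [P.arrow_mk_iso_iff (morphismRestrictRestrict f W (W.ι ⁻¹ᵁ A))]
  have h1 : P (f ∣_ (W ⊓ A)) := restrict_mono P f inf_le_right hA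
  refine restrict_congr P f ?_ h1
  rw [Scheme.Hom.image_preimage_eq_opensRange_inf, Scheme.Opens.opensRange_ι]

end Groth.Agent.Helper2.LocTgt
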