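import Mathlib
import Groth.Prelude.Def_FSch3
import Groth.Agent.S3862
import Groth.Agent.Helper2.LocTgt
import Groth.Agent.Helper2.CINbhd

set_option autoImplicit false
set_option linter.style.haveILetI false
set_option linter.unusedSectionVars false
set_option linter.unusedVariables false

open CategoryTheory CategoryTheory.Limits AlgebraicGeometry TopologicalSpace

universe u

namespace Groth.Agent.Helper2.ComplNear

open Groth.Agent.Helper2.LocTgt Groth.Agent.Helper2.CINbhd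

variable {X Y Z : Scheme.{u}}

lemma range_completionToX (𝓚 : Y.IdealSheafData) (n : ℕ) :
    Set.range (FSch.completionToX Y 𝓚 n) = (𝓚.support : Set Y) := by
  show Set.range ((𝓚 ^ (n + 1)).subschemeι) = _
  rw [Scheme.IdealSheafData.range_subschemeι, Scheme.IdealSheafData.support_pow_succ]

/-- levels of the completed morphism are base changes of the restriction over any open
containing the support -/
theorem level_of_restrict (P : MorphismProperty Scheme.{u}) [P.IsStableUnderBaseChange]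
    (f : X ⟶ Y) (𝓚 : Y.IdealSheafData) (hc : FSch.PowCompat f (𝓚.comap f) 𝓚)
    (W : Y.Opens) (hW : (𝓚.support : Set Y) ⊆ W) (hP : P (f ∣_ W)) (n : ℕ) :
    P ((FSch.completionMap f (𝓚.comap f) 𝓚 hc : FSch.Hom _ _).app n) := by
  have sq := (Groth.Agent.S3862.result f 𝓚 hc).1 n
  set a := FSch.completionToX X (𝓚.comap f) n with ha
  set b := FSch.completionToX Y 𝓚 n with hb
  set fn := (FSch.completionMap f (𝓚.comap f) 𝓚 hc : FSch.Hom _ _).app n with hfn
  have hbr : Set.range b ⊆ Set.range W.ι := by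
    rw [Scheme.Opens.range_ι, hb, range_completionToX]; exact hW
  have har : Set.range a ⊆ Set.range (f ⁻¹ᵁ W).ι := by
    rw [Scheme.Opens.range_ι]
    rintro _ ⟨x, rfl⟩
    show f (a x) ∈ W
    have : f (a x) = b (fn x) := by
      rw [← Scheme.Hom.comp_apply, ← Scheme.Hom.comp_apply, sq.w]
    rw [this]
    have h2 : b (fn x) ∈ Set.range W.ι := hbr ⟨_, rfl⟩
    rw [Scheme.Opens.range_ι] at h2
    exact h2
  let b' := IsOpenImmersion.lift W.ι b hbr
  let a' := IsOpenImmersion.lift (f ⁻¹ᵁ W).ι a har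
  have hb' : b' ≫ W.ι = b := IsOpenImmersion.lift_fac _ _ _
  have ha' : a' ≫ (f ⁻¹ᵁ W).ι = a := IsOpenImmersion.lift_fac _ _ _
  have hp : a' ≫ (f ∣_ W) = fn ≫ b' := by
    rw [← cancel_mono W.ι, Category.assoc, Category.assoc, morphismRestrict_ι, ← Category.assoc,
      ha', hb', sq.w]
  have hbig : IsPullback (a' ≫ (f ⁻¹ᵁ W).ι) fn f (b' ≫ W.ι) := by
    rw [ha', hb']; exact sq
  have hsq : IsPullback a' fn (f ∣_ W) b' :=
    IsPullback.of_right hbig hp (isPullback_morphismRestrict f W).flip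
  exact MorphismProperty.of_isPullback hsq hP

lemma support_comap_subset (h : Y ⟶ Z) (𝓙 : Z.IdealSheafData) (U : Z.Opens)
    (hU : (𝓙.support : Set Z) ⊆ U) : ((𝓙.comap h).support : Set Y) ⊆ (h ⁻¹ᵁ U : Y.Opens) := by
  rw [Scheme.IdealSheafData.support_comap]
  intro y hy
  exact hU hy

theorem exists_open_of_level_zero (h : Y ⟶ Z) [IsProper h] (f : X ⟶ Y) [IsProper f]
    (𝓙 : Z.IdealSheafData)
    (hc : FSch.PowCompat f ((𝓙.comap h).comap f) (𝓙.comap h))
    (h0 : IsClosedImmersion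
      ((FSch.completionMap f ((𝓙.comap h).comap f) (𝓙.comap h) hc : FSch.Hom _ _).app 0)) :
    ∃ U : Z.Opens, (𝓙.support : Set Z) ⊆ U ∧ IsClosedImmersion (f ∣_ h ⁻¹ᵁ U) := by
  have sq0 := (Groth.Agent.S3862.result f (𝓙.comap h) hc).1 0
  haveI : IsClosedImmersion (FSch.completionToX Y (𝓙.comap h) 0) :=
    inferInstanceAs (IsClosedImmersion ((𝓙.comap h) ^ (0 + 1)).subschemeι)
  have hnear : ∀ y : Y, h y ∈ (𝓙.support : Set Z) →
      ∃ D : Y.Opens, y ∈ D ∧ IsClosedImmersion (f ∣_ D) := by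
    intro y hy
    have hy' : y ∈ ((𝓙.comap h).support : Set Y) := by
      rw [Scheme.IdealSheafData.support_comap]; exact hy
    rw [← range_completionToX (𝓙.comap h) 0] at hy'
    obtain ⟨y₀, rfl⟩ := hy'
    exact exists_nbhd_isClosedImmersion sq0 y₀
  let V' : Y.Opens := sSup {D : Y.Opens | IsClosedImmersion (f ∣_ D)}
  have hV' : ∀ y : Y, h y ∈ (𝓙.support : Set Z) → y ∈ V' := by
    intro y hy
    obtain ⟨D, hyD, hD⟩ := hnear y hy
    exact Opens.mem_sSup.2 ⟨D, hD, hyD⟩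
  refine ⟨⟨(h '' (V' : Set Y)ᶜ)ᶜ, (h.isClosedMap _ V'.isOpen.isClosed_compl).isOpen_compl⟩, ?_, ?_⟩
  · rintro z hz ⟨y, hyV, rfl⟩
    exact hyV (hV' y hz)
  · apply restrict_of_cover @IsClosedImmersion
    intro y hy
    have hyV : y ∈ V' := by
      by_contra hcon
      exact hy ⟨y, hcon, rfl⟩
    obtain ⟨D, hD, hyD⟩ := Opens.mem_sSup.1 hyV
    exact ⟨D, hyD, hD⟩

theorem s5740 (g : X ⟶ Z) (h : Y ⟶ Z) [IsProper g] [IsProper h] (f : X ⟶ Y) (w : f ≫ h = g)
    (𝓙 : Z.IdealSheafData) (hc : FSch.PowCompat f (𝓙.comap g) (𝓙.comap h)) :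
    (∀ n : ℕ, IsClosedImmersion
        ((FSch.completionMap f (𝓙.comap g) (𝓙.comap h) hc : FSch.Hom _ _).app n)) ↔
      ∃ U : Z.Opens, (𝓙.support : Set Z) ⊆ U ∧ IsClosedImmersion (f ∣_ h ⁻¹ᵁ U) := by
  subst w
  haveI : IsProper f := IsProper.of_comp f h
  have key : ∀ (𝓘 : X.IdealSheafData) (h𝓘 : 𝓘 = (𝓙.comap h).comap f)
      (hc : FSch.PowCompat f 𝓘 (𝓙.comap h)),
      (∀ n : ℕ, IsClosedImmersion
        ((FSch.completionMap f 𝓘 (𝓙.comap h) hc : FSch.Hom _ _).app n)) ↔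
      ∃ U : Z.Opens, (𝓙.support : Set Z) ⊆ U ∧ IsClosedImmersion (f ∣_ h ⁻¹ᵁ U) := by
    intro 𝓘 h𝓘 hc
    subst h𝓘
    constructor
    · intro hn
      exact exists_open_of_level_zero h f 𝓙 hc (hn 0)
    · rintro ⟨U, hU, hcl⟩ n
      exact level_of_restrict @IsClosedImmersion f (𝓙.comap h) hc (h ⁻¹ᵁ U)
        (support_comap_subset h 𝓙 U hU) hcl n
  exact key _ (Scheme.IdealSheafData.comap_comp 𝓙 f h) hc

end Groth.Agent.Helper2.ComplNear
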