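import Mathlib

set_option autoImplicit false
set_option linter.style.haveILetI false
set_option linter.unusedSectionVars false
set_option linter.unusedVariables false

open CategoryTheory CategoryTheory.Limits AlgebraicGeometry TopologicalSpace

universe u

namespace Groth.Agent.Helper2.IsoNbhd

/-- Krull: an ideal contained in all powers of `K` is killed by some `a ≡ 1 mod K`. -/
lemma exists_mul_eq_zero_of_le_pow {R : Type*} [CommRing R] [IsNoetherianRing R] (K N : Ideal R)
    (h : ∀ n : ℕ, N ≤ K ^ (n + 1)) : ∃ a : R, a - 1 ∈ K ∧ ∀ x ∈ N, a * x = 0 := by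
  classical
  have hmem : ∀ x ∈ N, ∃ r : R, r ∈ K ∧ r * x = x := by
    intro x hx
    have : x ∈ (⨅ i : ℕ, K ^ i • ⊤ : Submodule R R) := by
      rw [Submodule.mem_iInf]
      intro i
      cases i with
      | zero => simp
      | succ n =>
        have := h n hx
        rw [smul_eq_mul, Ideal.mul_top]
        exact this
    obtain ⟨r, hr⟩ := (K.mem_iInf_smul_pow_eq_bot_iff x).1 this
    exact ⟨r.1, r.2, hr⟩
  obtain ⟨T, hT⟩ := (isNoetherianRing_iff_ideal_fg R).1 inferInstance N
  have key : ∀ S : Finset R, (∀ t ∈ S, t ∈ N) → ∃ a : R, a - 1 ∈ K ∧ ∀ t ∈ S, a * t = 0 := by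
    intro S
    induction S using Finset.induction_on with
    | empty => intro _; exact ⟨1, by simp, by simp⟩
    | insert t₀ S hnot ih =>
      intro hS
      obtain ⟨a', ha'1, ha'2⟩ := ih (fun t ht => hS t (Finset.mem_insert_of_mem ht))
      obtain ⟨r, hr1, hr2⟩ := hmem t₀ (hS t₀ (Finset.mem_insert_self _ _))
      refine ⟨a' * (1 - r), ?_, ?_⟩
      · have : a' * (1 - r) - 1 = (a' - 1) * (1 - r) - r := by ring
        rw [this]
        exact K.sub_mem (K.mul_mem_right _ ha'1) hr1
      · intro t ht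
        rcases Finset.mem_insert.1 ht with rfl | ht
        · have : a' * (1 - r) * t = a' * (t - r * t) := by ring
          rw [this, hr2, sub_self, mul_zero]
        · have : a' * (1 - r) * t = (1 - r) * (a' * t) := by ring
          rw [this, ha'2 t ht, mul_zero]
  obtain ⟨a, ha1, ha2⟩ := key T (fun t ht => hT ▸ Ideal.subset_span ht)
  refine ⟨a, ha1, fun x hx => ?_⟩
  rw [← hT] at hx
  induction hx using Submodule.span_induction with
  | mem t ht => exact ha2 t ht
  | zero => simp
  | add x y _ _ hx hy => rw [mul_add, hx, hy, add_zero]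
  | smul c x _ hx => rw [smul_eq_mul, mul_left_comm, hx, mul_zero]

/-- injectivity of the localized map -/
lemma away_map_injective {B C Ba Ca : Type*} [CommRing B] [CommRing C] [CommRing Ba] [CommRing Ca]
    [Algebra B Ba] [Algebra C Ca] (φ : B →+* C) (a : B) [IsLocalization.Away a Ba]
    [IsLocalization.Away (φ a) Ca] (h : ∀ x ∈ RingHom.ker φ, a * x = 0) :
    Function.Injective (IsLocalization.Away.map Ba Ca φ a) := by
  rw [injective_iff_map_eq_zero]
  intro s hs
  obtain ⟨⟨b, ⟨_, n, rfl⟩⟩, rfl⟩ := IsLocalization.mk'_surjective (Submonoid.powers a) s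
  rw [IsLocalization.Away.map, IsLocalization.map_mk', IsLocalization.mk'_eq_zero_iff] at hs
  obtain ⟨⟨_, m, rfl⟩, hm⟩ := hs
  rw [IsLocalization.mk'_eq_zero_iff]
  have h1 : a ^ m * b ∈ RingHom.ker φ := by
    rw [RingHom.mem_ker, map_mul, map_pow]
    exact hm
  refine ⟨⟨a ^ (m + 1), m + 1, rfl⟩, ?_⟩
  have := h _ h1
  show a ^ (m + 1) * b = 0
  rw [pow_succ', mul_assoc]
  exact this

end Groth.Agent.Helper2.IsoNbhd
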