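import Mathlib
import Groth.Agent.Helper2.LocTgt
import Groth.Agent.Helper2.IsoNbhdA

set_option autoImplicit false
set_option linter.style.haveILetI false
set_option linter.unusedSectionVars false
set_option linter.unusedVariables false

open CategoryTheory CategoryTheory.Limits AlgebraicGeometry TopologicalSpace

universe u

namespace Groth.Agent.Helper2.IsoNbhd

open Groth.Agent.Helper2.LocTgt

lemma injective_app_congr {X Y : Scheme.{u}} (f : X ⟶ Y) {U U' : Y.Opens} (e : U' = U)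
    {W : X.Opens} (e' : W = f ⁻¹ᵁ U') (h : Function.Injective (f.app U)) :
    Function.Injective (f.app U' ≫ X.presheaf.map (eqToHom e').op) := by
  subst e
  subst e'
  simpa using h

theorem exists_nbhd_isIso {X Y : Scheme.{u}} [IsLocallyNoetherian Y] (f : X ⟶ Y)
    (𝓚 : Y.IdealSheafData) (W : Y.Opens) (hW : IsClosedImmersion (f ∣_ W))
    (H : ∀ (V₁ : Y.affineOpens) (n : ℕ),
      RingHom.ker (f.app V₁.1).hom ≤ (𝓚.ideal V₁) ^ (n + 1))
    (y : Y) (hyW : y ∈ W) (hy : y ∈ (𝓚.support : Set Y)) :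
    ∃ D : Y.Opens, y ∈ D ∧ IsIso (f ∣_ D) := by
  obtain ⟨_, ⟨V₁, hV₁, rfl⟩, hyV₁, hV₁W⟩ :=
    Y.isBasis_affineOpens.exists_subset_of_mem_open hyW W.isOpen
  obtain ⟨V₁', hV₁'⟩ : ∃ V₁' : Y.Opens, V₁' = V₁ := ⟨V₁, rfl⟩
  subst hV₁'
  haveI hcl₁ : IsClosedImmersion (f ∣_ V₁') := restrict_mono @IsClosedImmersion f hV₁W hW
  haveI : IsAffine (V₁' : Scheme.{u}) := hV₁
  have hU' : IsAffineOpen (f ⁻¹ᵁ V₁') := isAffine_of_isAffineHom (f ∣_ V₁')
  haveI : IsNoetherianRing Γ(Y, V₁') := IsLocallyNoetherian.component_noetherian ⟨V₁', hV₁⟩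
  obtain ⟨a, ha1, ha2⟩ := exists_mul_eq_zero_of_le_pow (𝓚.ideal ⟨V₁', hV₁⟩)
    (RingHom.ker (f.app V₁').hom) (H ⟨V₁', hV₁⟩)
  refine ⟨Y.basicOpen a, ?_, ?_⟩
  · have hz : y ∈ Y.zeroLocus (U := V₁') (𝓚.ideal ⟨V₁', hV₁⟩) := by
      have h1 := 𝓚.coe_support_inter ⟨V₁', hV₁⟩
      have h2 : y ∈ (𝓚.support : Set Y) ∩ (V₁' : Set Y) := ⟨hy, hyV₁⟩
      rw [h1] at h2
      exact h2.1
    by_contra hyD
    have h1 : y ∉ Y.basicOpen (a - 1) := (Y.mem_zeroLocus_iff _ y).1 hz _ ha1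
    rw [Y.mem_basicOpen _ y hyV₁] at hyD h1
    have h2 : (Y.presheaf.germ V₁' y hyV₁).hom a ∈ IsLocalRing.maximalIdeal (Y.presheaf.stalk y) :=
      (IsLocalRing.mem_maximalIdeal _).2 hyD
    have h3 : (Y.presheaf.germ V₁' y hyV₁).hom (a - 1) ∈
        IsLocalRing.maximalIdeal (Y.presheaf.stalk y) := (IsLocalRing.mem_maximalIdeal _).2 h1
    have h4 := Ideal.sub_mem _ h2 h3
    rw [← map_sub, sub_sub_cancel, map_one] at h4
    exact (Ideal.ne_top_iff_one _).1 (IsLocalRing.maximalIdeal.isMaximal _).ne_top h4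
  · haveI : IsClosedImmersion (f ∣_ Y.basicOpen a) :=
      restrict_mono @IsClosedImmersion f (Y.basicOpen_le a) hcl₁
    haveI : IsAffine ((Y.basicOpen a : Y.Opens) : Scheme.{u}) := hV₁.basicOpen a
    apply IsClosedImmersion.isIso_of_injective_of_isAffine
    rw [morphismRestrict_appTop]
    refine injective_app_congr f (Scheme.Opens.ι_image_top _) _ ?_
    have key := hV₁.app_basicOpen_eq_away_map f hU' a
    letI := hV₁.isLocalization_basicOpen a
    letI := hU'.isLocalization_basicOpen ((f.app V₁').hom a)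
    have hinj := away_map_injective (Ba := Γ(Y, Y.basicOpen a))
      (Ca := Γ(X, X.basicOpen ((f.app V₁').hom a))) (f.app V₁').hom a ha2
    rw [key]
    show Function.Injective ((X.presheaf.map (eqToHom _).op).hom ∘ _)
    refine Function.Injective.comp ?_ hinj
    exact (ConcreteCategory.bijective_of_isIso (X.presheaf.map (eqToHom _).op)).injective

end Groth.Agent.Helper2.IsoNbhd
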