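import Mathlib
import Groth.Prelude.Def_FSch3
import Groth.Agent.S3862
import Groth.Agent.Helper2.LocTgt
import Groth.Agent.Helper2.CINbhd
import Groth.Agent.Helper2.ComplNear
import Groth.Agent.Helper2.IsoNbhdB

set_option autoImplicit false
set_option linter.style.haveILetI false
set_option linter.unusedSectionVars false
set_option linter.unusedVariables false

open CategoryTheory CategoryTheory.Limits AlgebraicGeometry TopologicalSpace

universe u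

namespace Groth.Agent.Helper2.ComplNear

open Groth.Agent.Helper2.LocTgt Groth.Agent.Helper2.CINbhd Groth.Agent.Helper2.IsoNbhd

variable {X Y Z : Scheme.{u}}

theorem exists_open_of_near (P : MorphismProperty Scheme.{u}) [IsZariskiLocalAtTarget P]
    (h : Y ⟶ Z) (hcl : IsClosedMap h) (f : X ⟶ Y) (S : Set Z)
    (hnear : ∀ y : Y, h y ∈ S → ∃ D : Y.Opens, y ∈ D ∧ P (f ∣_ D)) :
    ∃ U : Z.Opens, S ⊆ U ∧ P (f ∣_ h ⁻¹ᵁ U) := by
  let V' : Y.Opens := sSup {D : Y.Opens | P (f ∣_ D)}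
  have hV' : ∀ y : Y, h y ∈ S → y ∈ V' := by
    intro y hy
    obtain ⟨D, hyD, hD⟩ := hnear y hy
    exact Opens.mem_sSup.2 ⟨D, hD, hyD⟩
  refine ⟨⟨(h '' (V' : Set Y)ᶜ)ᶜ, (hcl _ V'.isOpen.isClosed_compl).isOpen_compl⟩, ?_, ?_⟩
  · rintro z hz ⟨y, hyV, rfl⟩
    exact hyV (hV' y hz)
  · apply restrict_of_cover P
    intro y hy
    have hyV : y ∈ V' := by
      by_contra hcon
      exact hy ⟨y, hcon, rfl⟩
    obtain ⟨D, hD, hyD⟩ := Opens.mem_sSup.1 hyV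
    exact ⟨D, hyD, hD⟩

lemma ker_app_le_pow (f : X ⟶ Y) (𝓚 : Y.IdealSheafData)
    (hc : FSch.PowCompat f (𝓚.comap f) 𝓚) (n : ℕ)
    [IsIso ((FSch.completionMap f (𝓚.comap f) 𝓚 hc : FSch.Hom _ _).app n)] (V₁ : Y.affineOpens) :
    RingHom.ker (f.app V₁.1).hom ≤ (𝓚.ideal V₁) ^ (n + 1) := by
  have sq := (Groth.Agent.S3862.result f 𝓚 hc).1 n
  set a := FSch.completionToX X (𝓚.comap f) n with ha
  set fn := (FSch.completionMap f (𝓚.comap f) 𝓚 hc : FSch.Hom _ _).app n with hfn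
  let b : (𝓚 ^ (n + 1)).subscheme ⟶ Y := (𝓚 ^ (n + 1)).subschemeι
  have sq' : IsPullback a fn f b := sq
  let c := inv fn ≫ a
  have hb : b = c ≫ f := by
    show b = (inv fn ≫ a) ≫ f
    rw [Category.assoc, sq'.w, IsIso.inv_hom_id_assoc]
  intro s hs
  have hs' : (f.app V₁.1).hom s = 0 := hs
  have h1 : s ∈ RingHom.ker (b.app V₁.1).hom := by
    rw [RingHom.mem_ker, Scheme.Hom.congr_app hb V₁.1, Scheme.Hom.comp_app]
    have h2 : (CommRingCat.Hom.hom (Scheme.Hom.app f V₁.1 ≫ Scheme.Hom.app c (f ⁻¹ᵁ V₁.1))) s = 0 := by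
      rw [CommRingCat.hom_comp, RingHom.comp_apply, hs', map_zero]
    generalize ((𝓚 ^ (n + 1)).subscheme.presheaf.map (eqToHom _).op) = ρ
    show ρ.hom ((CommRingCat.Hom.hom (Scheme.Hom.app f V₁.1 ≫ Scheme.Hom.app c (f ⁻¹ᵁ V₁.1))) s) = 0
    rw [h2]
    exact map_zero ρ.hom
  rw [Scheme.IdealSheafData.ker_subschemeι_app] at h1
  exact h1

theorem exists_open_iso (h : Y ⟶ Z) [IsProper h] [IsLocallyNoetherian Z] (f : X ⟶ Y) [IsProper f]
    (𝓙 : Z.IdealSheafData)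
    (hc : FSch.PowCompat f ((𝓙.comap h).comap f) (𝓙.comap h))
    (hn : ∀ n : ℕ, IsIso
      ((FSch.completionMap f ((𝓙.comap h).comap f) (𝓙.comap h) hc : FSch.Hom _ _).app n)) :
    ∃ U : Z.Opens, (𝓙.support : Set Z) ⊆ U ∧ IsIso (f ∣_ h ⁻¹ᵁ U) := by
  haveI : IsLocallyNoetherian Y := LocallyOfFiniteType.isLocallyNoetherian h
  haveI := hn 0
  obtain ⟨U₁, hU₁, hcl⟩ := exists_open_of_level_zero h f 𝓙 hc inferInstance
  have H : ∀ (V₁ : Y.affineOpens) (n : ℕ),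
      RingHom.ker (f.app V₁.1).hom ≤ ((𝓙.comap h).ideal V₁) ^ (n + 1) := by
    intro V₁ n
    haveI := hn n
    exact ker_app_le_pow f (𝓙.comap h) hc n V₁
  have hnear : ∀ y : Y, h y ∈ (𝓙.support : Set Z) →
      ∃ D : Y.Opens, y ∈ D ∧ (MorphismProperty.isomorphisms Scheme.{u}) (f ∣_ D) := by
    intro y hy
    have hyW : y ∈ h ⁻¹ᵁ U₁ := hU₁ hy
    have hy' : y ∈ ((𝓙.comap h).support : Set Y) := by
      rw [Scheme.IdealSheafData.support_comap]; exact hy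
    exact exists_nbhd_isIso f (𝓙.comap h) (h ⁻¹ᵁ U₁) hcl H y hyW hy'
  exact exists_open_of_near (MorphismProperty.isomorphisms Scheme.{u}) h h.isClosedMap f _ hnear

theorem s5739 [IsLocallyNoetherian Z] (g : X ⟶ Z) (h : Y ⟶ Z) [IsProper g] [IsProper h]
    (f : X ⟶ Y) (w : f ≫ h = g)
    (𝓙 : Z.IdealSheafData) (hc : FSch.PowCompat f (𝓙.comap g) (𝓙.comap h)) :
    (∀ n : ℕ, IsIso ((FSch.completionMap f (𝓙.comap g) (𝓙.comap h) hc : FSch.Hom _ _).app n)) ↔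
      ∃ U : Z.Opens, (𝓙.support : Set Z) ⊆ U ∧ IsIso (f ∣_ h ⁻¹ᵁ U) := by
  subst w
  haveI : IsProper f := IsProper.of_comp f h
  have key : ∀ (𝓘 : X.IdealSheafData) (h𝓘 : 𝓘 = (𝓙.comap h).comap f)
      (hc : FSch.PowCompat f 𝓘 (𝓙.comap h)),
      (∀ n : ℕ, IsIso ((FSch.completionMap f 𝓘 (𝓙.comap h) hc : FSch.Hom _ _).app n)) ↔
      ∃ U : Z.Opens, (𝓙.support : Set Z) ⊆ U ∧ IsIso (f ∣_ h ⁻¹ᵁ U) := by
    intro 𝓘 h𝓘 hc
    subst h𝓘
    constructor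
    · intro hn
      exact exists_open_iso h f 𝓙 hc hn
    · rintro ⟨U, hU, hiso⟩ n
      exact level_of_restrict (MorphismProperty.isomorphisms Scheme.{u}) f (𝓙.comap h) hc
        (h ⁻¹ᵁ U) (support_comap_subset h 𝓙 U hU) hiso n
  exact key _ (Scheme.IdealSheafData.comap_comp 𝓙 f h) hc

end Groth.Agent.Helper2.ComplNear
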