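import Mathlib

set_option autoImplicit false
universe u

namespace Groth.Agent.Helper2.ConductorChain

/-- a finite module over `S` killed by `c` with `S/c` Noetherian is a Noetherian `S`-module;
here in the special form `B/cB`. -/
theorem isNoetherian_quotient_smul {S : Type u} [CommRing S] (c : Ideal S)
    [IsNoetherianRing (S ⧸ c)] (B : Type u) [AddCommGroup B] [Module S B] [Module.Finite S B] :
    IsNoetherian S (B ⧸ (c • ⊤ : Submodule S B)) := by
  haveI : Module.Finite (S ⧸ c) (B ⧸ (c • ⊤ : Submodule S B)) :=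
    Module.Finite.of_restrictScalars_finite S (S ⧸ c) _
  haveI : IsNoetherian (S ⧸ c) (B ⧸ (c • ⊤ : Submodule S B)) :=
    isNoetherian_of_isNoetherianRing_of_finite _ _
  rw [← monotone_stabilizes_iff_noetherian]
  intro f
  let e := Submodule.orderIsoOfAlgebraMapSurjective (R := S) (S := S ⧸ c)
    (M := B ⧸ (c • ⊤ : Submodule S B)) Ideal.Quotient.mk_surjective
  obtain ⟨n, hn⟩ := monotone_stabilizes_iff_noetherian.mpr
    (inferInstance : IsNoetherian (S ⧸ c) (B ⧸ (c • ⊤ : Submodule S B)))
    ⟨fun k => e.symm (f k), fun i j hij => e.symm.monotone (f.monotone hij)⟩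
  refine ⟨n, fun m hm => ?_⟩
  have := hn m hm
  exact e.symm.injective this

theorem main (S R : Type u) [CommRing S] [CommRing R] [Algebra S R]
    [FaithfulSMul S R] [IsNoetherianRing R] [Module.Finite S R] (c : Ideal S)
    (hc : ∀ s : S, s ∈ c ↔ ∀ r : R, ∃ s' : S, algebraMap S R s' = algebraMap S R s * r)
    [IsNoetherianRing (S ⧸ c)] (a : ℕ →o Ideal S) (ha : ∀ n, a n ≤ c) :
    ∃ N : ℕ, ∀ n, N ≤ n → a n = a N := by
  have hinj : Function.Injective (algebraMap S R) := FaithfulSMul.algebraMap_injective S R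
  -- `c` is closed under multiplication by `R`
  have hcR : ∀ x ∈ c, ∀ r : R, ∃ x' ∈ c, algebraMap S R x' = algebraMap S R x * r := by
    intro x hx r
    obtain ⟨x', hx'⟩ := (hc x).mp hx r
    refine ⟨x', (hc x').mpr fun r' => ?_, hx'⟩
    obtain ⟨s'', hs''⟩ := (hc x).mp hx (r * r')
    exact ⟨s'', by rw [hs'', hx', mul_assoc]⟩
  -- the extended chain stabilizes
  obtain ⟨N, hN⟩ := monotone_stabilizes_iff_noetherian.mpr
    (inferInstance : IsNoetherian R R)
    ⟨fun n => (a n).map (algebraMap S R), fun i j hij => Ideal.map_mono (a.monotone hij)⟩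
  simp only [OrderHom.coe_mk] at hN
  set bN : Ideal R := (a N).map (algebraMap S R) with hbN
  set B : Ideal S := bN.comap (algebraMap S R) with hB
  have haB : ∀ n, N ≤ n → a n ≤ B := by
    intro n hn
    rw [hB, hN n hn]
    exact Ideal.le_comap_map
  -- elements of `bN` multiplied by `c` land in `a N`
  have hmul : ∀ z ∈ bN, ∀ x ∈ c, ∃ w ∈ a N, algebraMap S R w = algebraMap S R x * z := by
    intro z hz
    rw [hbN, Ideal.map] at hz
    induction hz using Submodule.span_induction with
    | mem z hz =>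
      obtain ⟨α, hα, rfl⟩ := hz
      intro x _
      exact ⟨x * α, Ideal.mul_mem_left _ _ hα, map_mul _ _ _⟩
    | zero =>
      intro x _
      exact ⟨0, Ideal.zero_mem _, by simp⟩
    | add z₁ z₂ _ _ h₁ h₂ =>
      intro x hx
      obtain ⟨w₁, hw₁, e₁⟩ := h₁ x hx
      obtain ⟨w₂, hw₂, e₂⟩ := h₂ x hx
      exact ⟨w₁ + w₂, Ideal.add_mem _ hw₁ hw₂, by rw [map_add, e₁, e₂, mul_add]⟩
    | smul r z _ h =>
      intro x hx
      obtain ⟨x', hx', ex'⟩ := hcR x hx r
      obtain ⟨w, hw, ew⟩ := h x' hx'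
      exact ⟨w, hw, by rw [ew, ex', smul_eq_mul, mul_assoc]⟩
  have hcB : c * B ≤ a N := by
    rw [Ideal.mul_le]
    intro x hx y hy
    obtain ⟨w, hw, ew⟩ := hmul (algebraMap S R y) hy x hx
    rw [← map_mul] at ew
    rw [← hinj ew]
    exact hw
  -- `bN ⊆ range`
  have hrange : ∀ z ∈ bN, ∃ w ∈ c, algebraMap S R w = z := by
    intro z hz
    rw [hbN, Ideal.map] at hz
    induction hz using Submodule.span_induction with
    | mem z hz =>
      obtain ⟨α, hα, rfl⟩ := hz
      exact ⟨α, ha N hα, rfl⟩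
    | zero => exact ⟨0, Ideal.zero_mem _, by simp⟩
    | add z₁ z₂ _ _ h₁ h₂ =>
      obtain ⟨w₁, hw₁, rfl⟩ := h₁
      obtain ⟨w₂, hw₂, rfl⟩ := h₂
      exact ⟨w₁ + w₂, Ideal.add_mem _ hw₁ hw₂, map_add _ _ _⟩
    | smul r z _ h =>
      obtain ⟨w, hw, rfl⟩ := h
      obtain ⟨w', hw', e'⟩ := hcR w hw r
      exact ⟨w', hw', by rw [e', smul_eq_mul, mul_comm]⟩
  -- `B` is a finitely generated ideal of `S`
  have hBfg : B.FG := by
    apply Submodule.fg_of_fg_map_injective (Algebra.linearMap S R) hinj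
    have hmap : Submodule.map (Algebra.linearMap S R) B = bN.restrictScalars S := by
      ext z
      simp only [Submodule.mem_map, Algebra.linearMap_apply, Submodule.restrictScalars_mem]
      constructor
      · rintro ⟨y, hy, rfl⟩
        exact hy
      · intro hz
        obtain ⟨w, _, rfl⟩ := hrange z hz
        exact ⟨w, hz, rfl⟩
    rw [hmap]
    haveI : Module.Finite R bN := Module.Finite.iff_fg.mpr (IsNoetherian.noetherian bN)
    haveI : Module.Finite S bN := Module.Finite.trans R bN
    have : Module.Finite S (bN.restrictScalars S) := ‹Module.Finite S bN›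
    exact Module.Finite.iff_fg.mp this
  haveI : Module.Finite S B := Module.Finite.iff_fg.mpr hBfg
  haveI := isNoetherian_quotient_smul c B
  -- the chain in `B/cB`
  let A' : ℕ → Submodule S B := fun k => Submodule.comap B.subtype (a (N + k))
  have hA'mono : Monotone A' := fun i j hij =>
    Submodule.comap_mono (a.monotone (Nat.add_le_add_left hij N))
  have hker : ∀ k, (c • ⊤ : Submodule S B) ≤ A' k := by
    intro k
    rw [Submodule.smul_le]
    intro x hx y _
    change ((x • y : B) : S) ∈ a (N + k)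
    have : ((x • y : B) : S) = x * (y : S) := rfl
    rw [this]
    exact a.monotone (Nat.le_add_right N k) (hcB (Ideal.mul_mem_mul hx y.2))
  obtain ⟨K, hK⟩ := monotone_stabilizes_iff_noetherian.mpr
    (inferInstance : IsNoetherian S (B ⧸ (c • ⊤ : Submodule S B)))
    ⟨fun k => (A' k).map (Submodule.mkQ _), fun i j hij => Submodule.map_mono (hA'mono hij)⟩
  simp only [OrderHom.coe_mk] at hK
  have hA'eq : ∀ k, K ≤ k → A' K = A' k := by
    intro k hk
    have := congrArg (Submodule.comap (Submodule.mkQ (c • ⊤ : Submodule S B))) (hK k hk)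
    rwa [Submodule.comap_map_mkQ, Submodule.comap_map_mkQ, sup_eq_right.mpr (hker K),
      sup_eq_right.mpr (hker k)] at this
  refine ⟨N + K, fun n hn => ?_⟩
  obtain ⟨k, rfl⟩ : ∃ k, n = N + k := ⟨n - N, by omega⟩
  have hk : K ≤ k := by omega
  have h1 := hA'eq k hk
  apply le_antisymm
  · intro x hx
    have hxB : x ∈ B := haB _ (Nat.le_add_right N k) hx
    have : (⟨x, hxB⟩ : B) ∈ A' k := hx
    rw [← h1] at this
    exact this
  · exact a.monotone hn

end Groth.Agent.Helper2.ConductorChain
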