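import Mathlib
import Groth.Prelude

set_option autoImplicit false
universe u

namespace Groth.Agent.Helper2.ConnIdem

open CategoryTheory AlgebraicGeometry Opposite TopologicalSpace TopCat

variable (Z : LocallyRingedSpace.{u})

/-- sections over an empty open are all equal -/
theorem eq_of_empty (W : Opens Z) (hW : W = ⊥) (a b : Z.presheaf.obj (op W)) : a = b := by
  refine Z.toSheafedSpace.sheaf.eq_of_locally_eq' (fun i : PEmpty.{1} => i.elim) W
    (fun i => i.elim) ?_ a b (fun i => i.elim)
  rw [hW]; exact bot_le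

theorem idem_unit {R : Type*} [CommRing R] {e : R} (he : IsIdempotentElem e) (hu : IsUnit e) :
    e = 1 := by
  obtain ⟨u, rfl⟩ := hu
  have : (u : R) * u = u := he
  calc (u : R) = (↑u⁻¹ * u) * u := by simp
    _ = ↑u⁻¹ * (u * u) := by ring
    _ = 1 := by rw [this]; simp

theorem forward (h : PreconnectedSpace Z) (e : Z.presheaf.obj (op ⊤)) (he : IsIdempotentElem e) :
    e = 0 ∨ e = 1 := by
  set U : Opens Z.toTopCat := Z.toRingedSpace.basicOpen e with hU
  set V : Opens Z.toTopCat := Z.toRingedSpace.basicOpen (1 - e) with hV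
  have hdisj : U ⊓ V = ⊥ := by
    rw [hU, hV, ← RingedSpace.basicOpen_mul]
    have : e * (1 - e) = 0 := by
      have : e * e = e := he
      rw [mul_sub, mul_one, this, sub_self]
    rw [this]
    exact Z.basicOpen_zero ⊤
  have hcov : ∀ x : Z, x ∈ U ∨ x ∈ V := by
    intro x
    rw [hU, hV, RingedSpace.mem_top_basicOpen, RingedSpace.mem_top_basicOpen, map_sub, map_one]
    exact IsLocalRing.isUnit_or_isUnit_one_sub_self _
  have hclopen : IsClopen (U : Set Z) := by
    refine ⟨?_, U.2⟩
    have : (U : Set Z)ᶜ = V := by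
      ext x
      constructor
      · intro hx
        rcases hcov x with h1 | h1
        · exact absurd h1 hx
        · exact h1
      · intro hx hx'
        have : x ∈ U ⊓ V := ⟨hx', hx⟩
        rw [hdisj] at this
        exact this
    rw [← isOpen_compl_iff, this]
    exact V.2
  rcases isClopen_iff.mp hclopen with h1 | h1
  · left
    have hVtop : V = ⊤ := by
      ext x
      simp only [Opens.coe_top, Set.mem_univ, iff_true]
      rcases hcov x with h2 | h2
      · have : x ∈ (U : Set Z) := h2
        rw [h1] at this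
        exact absurd this (Set.notMem_empty x)
      · exact h2
    have hunit : IsUnit (1 - e) := by
      apply Z.toRingedSpace.isUnit_of_isUnit_germ
      intro x hx
      have : x ∈ V := by rw [hVtop]; trivial
      exact (Z.toRingedSpace.mem_basicOpen _ x hx).mp this
    have := idem_unit he.one_sub hunit
    have h3 : e = 1 - (1 - e) := by ring
    rw [h3, this, sub_self]
  · right
    have hunit : IsUnit e := by
      apply Z.toRingedSpace.isUnit_of_isUnit_germ
      intro x hx
      have : x ∈ U := by
        change x ∈ (U : Set Z)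
        rw [h1]; trivial
      exact (Z.toRingedSpace.mem_basicOpen _ x hx).mp this
    exact idem_unit he hunit

theorem backward (h : ∀ e : Z.presheaf.obj (op ⊤), IsIdempotentElem e → e = 0 ∨ e = 1) :
    PreconnectedSpace Z := by
  rw [preconnectedSpace_iff_clopen]
  intro s hs
  let U₁ : Opens Z.toTopCat := ⟨s, hs.2⟩
  let U₂ : Opens Z.toTopCat := ⟨sᶜ, hs.1.isOpen_compl⟩
  let U : Bool → Opens Z.toTopCat := fun b => if b then U₁ else U₂
  let sf : ∀ b : Bool, Z.presheaf.obj (op (U b)) := fun b => if b then 1 else 0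
  have hdisj : ∀ i j : Bool, i ≠ j → U i ⊓ U j = ⊥ := by
    intro i j hij
    ext x
    simp only [Opens.coe_inf, Set.mem_inter_iff, SetLike.mem_coe, Opens.coe_bot,
      Set.mem_empty_iff_false, iff_false, not_and]
    cases i <;> cases j <;> simp_all [U, U₁, U₂]
  have hcompat : TopCat.Presheaf.IsCompatible Z.presheaf U sf := by
    intro i j
    by_cases hij : i = j
    · subst hij
      rfl
    · exact eq_of_empty Z _ (hdisj i j hij) _ _
  have hcover : (⊤ : Opens Z.toTopCat) ≤ iSup U := by
    intro x _
    rw [Opens.mem_iSup]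
    by_cases hx : x ∈ s
    · exact ⟨true, hx⟩
    · exact ⟨false, hx⟩
  obtain ⟨e', he', -⟩ := Z.toSheafedSpace.sheaf.existsUnique_gluing' U ⊤ (fun i => homOfLE le_top)
    hcover sf hcompat
  obtain ⟨e, he⟩ : ∃ e : Z.presheaf.obj (op ⊤), ∀ i : Bool,
      (Z.presheaf.map (homOfLE (le_top : U i ≤ ⊤)).op).hom e = sf i := ⟨e', he'⟩
  have hidem : IsIdempotentElem e := by
    refine Z.toSheafedSpace.sheaf.eq_of_locally_eq' U ⊤ (fun i => homOfLE le_top) hcover _ _ ?_
    intro i
    change (Z.presheaf.map (homOfLE (le_top : U i ≤ ⊤)).op).hom (e * e) =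
      (Z.presheaf.map (homOfLE (le_top : U i ≤ ⊤)).op).hom e
    rw [map_mul, he i]
    cases i <;> simp [sf]
  rcases h e hidem with h0 | h1
  · left
    by_contra hne
    obtain ⟨x, hx⟩ := Set.nonempty_iff_ne_empty.mpr hne
    have hne1 : Nonempty U₁ := ⟨⟨x, hx⟩⟩
    have hnt : Nontrivial (Z.presheaf.obj (op U₁)) := @LocallyRingedSpace.component_nontrivial Z U₁ hne1
    have := he true
    rw [h0, map_zero] at this
    exact zero_ne_one (α := Z.presheaf.obj (op U₁)) this
  · right
    by_contra hne
    have : (sᶜ).Nonempty := by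
      rw [Set.nonempty_compl]; exact hne
    obtain ⟨x, hx⟩ := this
    have hne1 : Nonempty U₂ := ⟨⟨x, hx⟩⟩
    have hnt : Nontrivial (Z.presheaf.obj (op U₂)) := @LocallyRingedSpace.component_nontrivial Z U₂ hne1
    have := he false
    rw [h1, map_one] at this
    exact zero_ne_one (α := Z.presheaf.obj (op U₂)) this.symm

theorem s4495 : PreconnectedSpace Z ↔
      ∀ e : Z.presheaf.obj (op ⊤), IsIdempotentElem e → e = 0 ∨ e = 1 :=
  ⟨fun h => forward Z h, backward Z⟩

end Groth.Agent.Helper2.ConnIdem
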