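import Mathlib
import Groth.Agent.Helper3.ConnProd

set_option autoImplicit false
set_option linter.style.haveILetI false
universe u
open CategoryTheory AlgebraicGeometry Limits
open scoped TensorProduct

namespace Groth.Agent.Helper2.UnipMor

theorem preconnected_of_noIdem {R : Type u} [CommRing R]
    (h : ∀ e : R, IsIdempotentElem e → e = 0 ∨ e = 1) : PreconnectedSpace (PrimeSpectrum R) := by
  rw [preconnectedSpace_iff_clopen]
  intro s hs
  obtain ⟨e, he, rfl⟩ := PrimeSpectrum.isClopen_iff.mp hs
  rcases h e he with rfl | rfl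
  · left; simp
  · right; simp

theorem idem_eq_zero_of_basicOpen {R : Type u} [CommRing R] (e : R) (he : IsIdempotentElem e)
    (h : PrimeSpectrum.basicOpen e = ⊥) : e = 0 := by
  rw [PrimeSpectrum.basicOpen_eq_bot_iff] at h
  obtain ⟨n, hn⟩ := h
  rcases n with _ | n
  · have h1 : (1 : R) = 0 := by simpa using hn
    calc e = e * 1 := by ring
      _ = 0 := by rw [h1, mul_zero]
  · rw [he.pow_succ_eq] at hn
    exact hn

theorem noIdem_of_preconnected {R : Type u} [CommRing R] [PreconnectedSpace (PrimeSpectrum R)]
    (e : R) (he : IsIdempotentElem e) : e = 0 ∨ e = 1 := by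
  have hs : IsClopen ((PrimeSpectrum.basicOpen e : TopologicalSpace.Opens _) : Set (PrimeSpectrum R)) :=
    PrimeSpectrum.isClopen_iff.mpr ⟨e, he, rfl⟩
  rcases isClopen_iff.mp hs with h | h
  · left
    exact idem_eq_zero_of_basicOpen e he (TopologicalSpace.Opens.ext h)
  · right
    have h' : PrimeSpectrum.basicOpen e = ⊤ := TopologicalSpace.Opens.ext h
    have h2 : PrimeSpectrum.basicOpen (1 - e) = ⊥ := by
      have h3 : PrimeSpectrum.basicOpen (e * (1 - e)) = ⊥ := by
        have : e * (1 - e) = 0 := by rw [mul_sub, mul_one, he.eq, sub_self]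
        rw [this]; simp
      rw [PrimeSpectrum.basicOpen_mul, h', top_inf_eq] at h3
      exact h3
    have := idem_eq_zero_of_basicOpen (1 - e) he.one_sub h2
    exact (sub_eq_zero.mp this).symm

/-- a connected algebra over a field with an augmentation is geometrically connected. -/
theorem noIdem_baseChange (k : Type u) [Field k] (C : Type u) [CommRing C] [Algebra k C]
    (ε : C →ₐ[k] k) (hconn : ∀ e : C, IsIdempotentElem e → e = 0 ∨ e = 1)
    (K : Type u) [Field K] [Algebra k K] (e : C ⊗[k] K) (he : IsIdempotentElem e) :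
    e = 0 ∨ e = 1 := by
  let f : Spec (CommRingCat.of C) ⟶ Spec (CommRingCat.of k) :=
    Spec.map (CommRingCat.ofHom (algebraMap k C))
  let x : Spec (CommRingCat.of k) ⟶ Spec (CommRingCat.of C) :=
    Spec.map (CommRingCat.ofHom ε.toRingHom)
  have hx : x ≫ f = 𝟙 _ := by
    rw [← Spec.map_comp, ← CommRingCat.ofHom_comp]
    have : ε.toRingHom.comp (algebraMap k C) = RingHom.id k := by
      ext a; simp
    rw [this]
    exact Spec.map_id _
  haveI : Nontrivial C := by
    refine ⟨⟨0, 1, fun h => ?_⟩⟩
    have := congrArg ε h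
    simp at this
  haveI : ConnectedSpace ↥(Spec (CommRingCat.of C)) := by
    haveI : PreconnectedSpace (PrimeSpectrum C) := preconnected_of_noIdem hconn
    haveI : Nonempty (PrimeSpectrum C) := inferInstance
    exact (ConnectedSpace.mk ‹_› : ConnectedSpace (PrimeSpectrum C))
  haveI := Groth.Agent.Helper3.ConnProd.geometricallyConnected_of_section k _ f x hx
  let g : Spec (CommRingCat.of K) ⟶ Spec (CommRingCat.of k) :=
    Spec.map (CommRingCat.ofHom (algebraMap k K))
  haveI : ConnectedSpace ↥(Spec (CommRingCat.of K)) := by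
    haveI : IrreducibleSpace (PrimeSpectrum K) := inferInstance
    exact inferInstanceAs (ConnectedSpace (PrimeSpectrum K))
  haveI : UniversallyOpen f := inferInstance
  haveI : ConnectedSpace ↥(pullback f g) := inferInstance
  haveI : ConnectedSpace ↥(Spec (CommRingCat.of (C ⊗[k] K))) :=
    (pullbackSpecIso k C K).hom.homeomorph.connectedSpace_iff.mp inferInstance
  haveI : PreconnectedSpace (PrimeSpectrum (C ⊗[k] K)) :=
    (inferInstance : ConnectedSpace ↥(Spec (CommRingCat.of (C ⊗[k] K)))).toPreconnectedSpace
  exact noIdem_of_preconnected e he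

end Groth.Agent.Helper2.UnipMor
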