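import Mathlib
import Groth.Prelude.Def_SGA3b
import Groth.Agent.Helper2.UnipMor1

/-!
# Idempotents of base changes of Hopf algebras with connected fibres
-/

set_option autoImplicit false

namespace Groth.Agent.Helper2.ConnIdem2
open TensorProduct Groth.Agent.Helper2.UnipMor

universe u

section field
variable (S : Type u) [CommRing S] (C : Type u) [CommRing C] [HopfAlgebra S C]

/-- if all fibres of `C` are connected, then for every field `L` over `S` the ring `L ⊗ C` has only
trivial idempotents -/
theorem noIdem_field
    (hconn : ∀ (p : Ideal S) [p.IsPrime], ConnectedSpace (PrimeSpectrum (p.ResidueField ⊗[S] C)))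
    (L : Type u) [Field L] [Algebra S L] (e : L ⊗[S] C) (he : IsIdempotentElem e) :
    e = 0 ∨ e = 1 := by
  set p : Ideal S := RingHom.ker (algebraMap S L) with hp
  haveI : p.IsPrime := RingHom.ker_isPrime _
  have h₂ : p.primeCompl ≤ (IsUnit.submonoid L).comap (algebraMap S L) := by
    intro x hx
    rw [Submonoid.mem_comap]
    show IsUnit (algebraMap S L x)
    rw [isUnit_iff_ne_zero]
    exact hx
  let ι : p.ResidueField →+* L := Ideal.ResidueField.lift p (algebraMap S L) le_rfl h₂
  letI : Algebra p.ResidueField L := ι.toAlgebra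
  haveI : IsScalarTower S p.ResidueField L := IsScalarTower.of_algebraMap_eq (fun r => by
    show algebraMap S L r = ι (algebraMap S p.ResidueField r)
    rw [Ideal.ResidueField.lift_algebraMap])
  haveI := hconn p
  have hk : ∀ e : p.ResidueField ⊗[S] C, IsIdempotentElem e → e = 0 ∨ e = 1 :=
    fun e he => noIdem_of_preconnected e he
  let E₁ : L ⊗[p.ResidueField] (p.ResidueField ⊗[S] C) ≃ₐ[L] L ⊗[S] C :=
    Algebra.TensorProduct.cancelBaseChange S p.ResidueField L L C
  let E₂ : L ⊗[p.ResidueField] (p.ResidueField ⊗[S] C) ≃ₐ[p.ResidueField]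
      (p.ResidueField ⊗[S] C) ⊗[p.ResidueField] L :=
    Algebra.TensorProduct.comm p.ResidueField L (p.ResidueField ⊗[S] C)
  have h1 : IsIdempotentElem (E₂ (E₁.symm e)) := (he.map E₁.symm).map E₂
  rcases noIdem_baseChange p.ResidueField (p.ResidueField ⊗[S] C)
    (Bialgebra.counitAlgHom p.ResidueField (p.ResidueField ⊗[S] C)) hk L _ h1 with h | h
  · left
    have h2 : E₁.symm e = 0 := by
      apply E₂.injective
      rw [h, map_zero]
    have : e = E₁ (E₁.symm e) := (E₁.apply_symm_apply e).symm
    rw [this, h2, map_zero]
  · right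
    have h2 : E₁.symm e = 1 := by
      apply E₂.injective
      rw [h, map_one]
    have : e = E₁ (E₁.symm e) := (E₁.apply_symm_apply e).symm
    rw [this, h2, map_one]

end field

section main
variable (S : Type u) [CommRing S] (T : Type u) [CommRing T] [Algebra S T]
  (C : Type u) [CommRing C] [HopfAlgebra S C]

/-- an idempotent of `T ⊗ C` killed by the counit is zero, if the fibres of `C` are connected
(for an arbitrary base change `T`) -/
theorem idem_eq_zero_of_conn
    (hconn : ∀ (p : Ideal S) [p.IsPrime], ConnectedSpace (PrimeSpectrum (p.ResidueField ⊗[S] C)))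
    (e' : T ⊗[S] C) (hidem : IsIdempotentElem e') (he' : Coalgebra.counit (R := T) e' = 0) :
    e' = 0 := by
  have hmem : ∀ Q : Ideal (T ⊗[S] C), Q.IsPrime → e' ∈ Q := by
    intro Q hQ
    let L := Q.ResidueField
    let ψ : T ⊗[S] C →ₐ[S] L ⊗[S] C :=
      Algebra.TensorProduct.map ((Algebra.ofId T L).restrictScalars S) (AlgHom.id S C)
    let m : L ⊗[S] C →ₐ[L] L :=
      Algebra.TensorProduct.lift (Algebra.ofId L L)
        ((IsScalarTower.toAlgHom S (T ⊗[S] C) L).comp
          (Algebra.TensorProduct.includeRight : C →ₐ[S] T ⊗[S] C))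
        (fun _ _ => Commute.all _ _)
    have hm : ∀ x : T ⊗[S] C, m (ψ x) = algebraMap (T ⊗[S] C) L x := by
      intro x
      induction x using TensorProduct.induction_on with
      | zero => simp
      | add x y hx hy => simp only [map_add, hx, hy]
      | tmul t c =>
        have h3 : (t ⊗ₜ[S] c : T ⊗[S] C) = (t ⊗ₜ 1) * (1 ⊗ₜ c) := by simp
        simp only [ψ, m, Algebra.TensorProduct.map_tmul, AlgHom.restrictScalars_apply,
          Algebra.ofId_apply, AlgHom.id_apply, Algebra.TensorProduct.lift_tmul,
          AlgHom.comp_apply, IsScalarTower.coe_toAlgHom',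
          Algebra.TensorProduct.includeRight_apply, Algebra.algebraMap_self, RingHom.id_apply]
        rw [h3, map_mul, IsScalarTower.algebraMap_apply T (T ⊗[S] C) L,
          Algebra.TensorProduct.algebraMap_apply]
        simp
    have hc : ∀ x : T ⊗[S] C, Coalgebra.counit (R := L) (ψ x) =
        algebraMap T L (Coalgebra.counit (R := T) x) := by
      intro x
      induction x using TensorProduct.induction_on with
      | zero => simp
      | add x y hx hy => simp only [map_add, hx, hy]
      | tmul t c =>
        simp [ψ, Algebra.ofId_apply, Algebra.smul_def, ← IsScalarTower.algebraMap_apply]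
    have h1 : IsIdempotentElem (ψ e') := hidem.map ψ
    rcases noIdem_field S C hconn L (ψ e') h1 with h | h
    · have : algebraMap (T ⊗[S] C) L e' = 0 := by rw [← hm, h, map_zero]
      exact Ideal.algebraMap_residueField_eq_zero.mp this
    · exfalso
      have h2 := hc e'
      rw [h, he', map_zero] at h2
      simp at h2
  have hnil : IsNilpotent e' := by
    rw [← mem_nilradical, nilradical_eq_sInf, Ideal.mem_sInf]
    intro Q hQ
    exact hmem Q hQ
  obtain ⟨n, hn⟩ := hnil
  rcases n with _ | n
  · have h1 : (1 : T ⊗[S] C) = 0 := by simpa using hn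
    calc e' = e' * 1 := by ring
      _ = 0 := by rw [h1, mul_zero]
  · rwa [hidem.pow_succ_eq] at hn

end main

end Groth.Agent.Helper2.ConnIdem2
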