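import Mathlib
import Groth.Prelude
import Groth.Agent.Helper2.FibFD4
import Groth.Agent.Helper2.FibLF7
import Groth.Agent.Helper2.ConsMM4
import Groth.Agent.Helper2.LfpComp

set_option autoImplicit false
set_option linter.unusedVariables false
open CategoryTheory CategoryTheory.Limits AlgebraicGeometry TopologicalSpace Topology TensorProduct
universe u

namespace Groth.Agent.Helper2.FibFD

open Groth.Agent.Helper5.ConsPr Groth.Agent.Helper2.FibLF Groth.Agent.Helper2.ConsMM

set_option backward.isDefEq.respectTransparency false in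
/-- the square of fibre maps attached to a base change of `X ⟶ Y ⟶ S` -/
theorem isPullback_fiberMap_of_isPullback
    {X' X Y' Y S' S : Scheme.{u}} {eX : X' ⟶ X} {f' : X' ⟶ Y'} {f : X ⟶ Y}
    {eY : Y' ⟶ Y} {g' : Y' ⟶ S'} {g : Y ⟶ S} {h : S' ⟶ S}
    (sqY : IsPullback eY g' g h) (sqX : IsPullback eX f' f eY)
    (sqXS : IsPullback eX (f' ≫ g') (f ≫ g) h) (s' : S') :
    IsPullback
      (pullback.map _ _ _ _ eX (Spec.map (h.residueFieldMap s')) h sqXS.w.symm (by simp))
      (MoreMor.fiberMap f' g' s') (MoreMor.fiberMap f g (h s'))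
      (pullback.map _ _ _ _ eY (Spec.map (h.residueFieldMap s')) h sqY.w.symm (by simp)) := by
  have hY := isPullback_fiberToSpecResidueField_of_isPullback sqY s'
  have hXS := isPullback_fiberToSpecResidueField_of_isPullback sqXS s'
  have h2 : MoreMor.fiberMap f g (h s') ≫ g.fiberToSpecResidueField (h s') =
      (f ≫ g).fiberToSpecResidueField (h s') := pullback.lift_snd _ _ _
  have h2' : MoreMor.fiberMap f' g' s' ≫ g'.fiberToSpecResidueField s' =
      (f' ≫ g').fiberToSpecResidueField s' := pullback.lift_snd _ _ _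
  refine IsPullback.of_bot (v₂₁ := g'.fiberToSpecResidueField s')
    (v₂₂ := g.fiberToSpecResidueField (h s')) (h₃₁ := Spec.map (h.residueFieldMap s')) ?_ ?_ hY
  · rw [h2, h2']
    exact hXS
  · have key : pullback.map (f' ≫ g') (S'.fromSpecResidueField s') (f ≫ g)
          (S.fromSpecResidueField (h s')) eX (Spec.map (h.residueFieldMap s')) h sqXS.w.symm
          (by simp) ≫
        pullback.lift (pullback.fst (f ≫ g) (S.fromSpecResidueField (h s')) ≫ f)
          (pullback.snd (f ≫ g) (S.fromSpecResidueField (h s')))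
          (by rw [Category.assoc]; exact pullback.condition) =
        pullback.lift (pullback.fst (f' ≫ g') (S'.fromSpecResidueField s') ≫ f')
          (pullback.snd (f' ≫ g') (S'.fromSpecResidueField s'))
          (by rw [Category.assoc]; exact pullback.condition) ≫
        pullback.map g' (S'.fromSpecResidueField s') g (S.fromSpecResidueField (h s')) eY
          (Spec.map (h.residueFieldMap s')) h sqY.w.symm (by simp) := by
      apply pullback.hom_ext
      · simp [sqX.w]
      · simp
    exact key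

set_option backward.isDefEq.respectTransparency false in
theorem s1441 {X Y S : Scheme.{u}} (f : X ⟶ Y) (g : Y ⟶ S) [LocallyOfFinitePresentation (f ≫ g)] [LocallyOfFiniteType g]
    (F : X.Modules) (hq : Coh.IsQCoh F) (hfp : CohB1.IsFP F) (hfl : FlatMod.IsFlatOver (f ≫ g) F) :
    IsOpen {x : ↑X | FlatMod.IsFlatOverAt f F x} ∧
      ∀ {X' Y' S' : Scheme.{u}} (h : S' ⟶ S) (gY : Y' ⟶ Y) (g' : Y' ⟶ S') (hY : IsPullback gY g' g h)
        (gX : X' ⟶ X) (f' : X' ⟶ Y') (hX : IsPullback gX (f' ≫ g') (f ≫ g) h) (w : gX ≫ f = f' ≫ gY),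
        {x' : ↑X' | FlatMod.IsFlatOverAt f' ((Scheme.Modules.pullback gX).obj F) x'} = gX ⁻¹' {x : ↑X | FlatMod.IsFlatOverAt f F x} := by
  haveI : F.IsQuasicoherent := hq
  haveI : LocallyOfFinitePresentation f :=
    Groth.Agent.Helper2.LfpComp.locallyOfFinitePresentation_of_comp f g inferInstance inferInstance
  refine ⟨Groth.Agent.Helper2.FlatLocusMod.isOpen_isFlatOverAt f F hfp, ?_⟩
  intro X' Y' S' h gY g' hY gX f' hX w
  have sqX : IsPullback gX f' f gY := IsPullback.of_bot hX w hY
  haveI : ((Scheme.Modules.pullback gX).obj F).IsQuasicoherent :=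
    Groth.Agent.Lead.StalkPull.isQuasicoherent_pullbackObj _ F
  ext x'
  simp only [Set.mem_setOf_eq, Set.mem_preimage]
  constructor
  · intro hx'
    obtain ⟨s', hs'⟩ : ∃ s', (f' ≫ g') x' = s' := ⟨_, rfl⟩
    have hxr : x' ∈ Set.range ((f' ≫ g').fiberι s') := by
      rw [Scheme.Hom.range_fiberι]; exact hs'
    obtain ⟨z, rfl⟩ := hxr
    haveI : ((Scheme.Modules.pullback ((f ≫ g).fiberι (h s'))).obj F).IsQuasicoherent :=
      Groth.Agent.Lead.StalkPull.isQuasicoherent_pullbackObj _ F
    let φX : (f' ≫ g').fiber s' ⟶ (f ≫ g).fiber (h s') :=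
      pullback.map _ _ _ _ gX (Spec.map (h.residueFieldMap s')) h hX.w.symm (by simp)
    let φY : g'.fiber s' ⟶ g.fiber (h s') :=
      pullback.map _ _ _ _ gY (Spec.map (h.residueFieldMap s')) h hY.w.symm (by simp)
    have hφ : φX ≫ (f ≫ g).fiberι (h s') = (f' ≫ g').fiberι s' ≫ gX := pullback.lift_fst _ _ _
    have ha := isFlatOverAt_fibre_of_isFlatOverAt f' g' ((Scheme.Modules.pullback gX).obj F) s' z hx'
    have hb := isFlatOverAt_of_iso (MoreMor.fiberMap f' g' s')
      (Groth.Agent.Helper2.ConsMod.fibreModIso hX F s') z ha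
    have hsq := isPullback_fiberMap_of_isPullback hY sqX hX s'
    have hφYfl : Flat φY := flat_fibreMap_of_isPullback hY s'
    have hc := Groth.Agent.Lead.StalkPull.main_descent (MoreMor.fiberMap f g (h s'))
      (MoreMor.fiberMap f' g' s') φX φY hsq ((Scheme.Modules.pullback ((f ≫ g).fiberι (h s'))).obj F)
      inferInstance z ((Flat.iff_flat_stalkMap φY).mp hφYfl _) hb
    have hd := isFlatOverAt_of_fibre f g F hfp (h s') (φX z) (hfl _) hc
    have : (f ≫ g).fiberι (h s') (φX z) = gX ((f' ≫ g').fiberι s' z) := by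
      rw [← Scheme.Hom.comp_apply, hφ, Scheme.Hom.comp_apply]
    rw [← this]
    exact hd
  · intro hx
    exact Groth.Agent.Lead.FlatBC.main_baseChange f f' gX gY sqX F hq x' hx

end Groth.Agent.Helper2.FibFD
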