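import Mathlib
import Groth.Prelude
import Groth.Agent.Helper2.FibFD6

/-!
# The fibrewise flat locus in the source (pointwise version of `ConsMM`)
-/

set_option autoImplicit false
set_option linter.unusedVariables false
open CategoryTheory CategoryTheory.Limits AlgebraicGeometry TopologicalSpace Topology TensorProduct
open IsLocalRing
universe u

namespace Groth.Agent.Helper2.ConsMX

open Groth.Agent.Helper5.ConsPr Groth.Agent.Helper2.FibLF Groth.Agent.Helper2.ConsMM
  Groth.Agent.Helper2.FibFD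

/-- the set of points `x` of `X` at which `F_s` is flat over `Y_s` (`s` the image of `x`),
in quotient form. -/
def EX {X Y S : Scheme.{u}} (f : X ⟶ Y) (g : Y ⟶ S) (F : X.Modules) : Set X :=
  {x | letI := FlatMod.moduleStalkOver f F x
       Module.Flat
        (Y.presheaf.stalk (f x) ⧸
          Ideal.map (g.stalkMap (f x)).hom (maximalIdeal (S.presheaf.stalk (g (f x)))))
        (F.presheaf.stalk x ⧸
          Ideal.map (g.stalkMap (f x)).hom (maximalIdeal (S.presheaf.stalk (g (f x)))) •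
          (⊤ : Submodule (Y.presheaf.stalk (f x)) (F.presheaf.stalk x)))}

theorem mem_EX_fiberι_iff {X Y S : Scheme.{u}} (f : X ⟶ Y) (g : Y ⟶ S) (F : X.Modules)
    [F.IsQuasicoherent] (s : S) (z : ↥((f ≫ g).fiber s)) :
    (f ≫ g).fiberι s z ∈ EX f g F ↔
      FlatMod.IsFlatOverAt (MoreMor.fiberMap f g s)
        ((Scheme.Modules.pullback ((f ≫ g).fiberι s)).obj F) z :=
  (isFlatOverAt_fibre_iff f g F s z).symm

set_option backward.isDefEq.respectTransparency false in
/-- pointwise compatibility with base change -/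
theorem mem_EX_of_isPullback {X' X Y' Y S' S : Scheme.{u}} {eX : X' ⟶ X} {f' : X' ⟶ Y'} {f : X ⟶ Y}
    {eY : Y' ⟶ Y} {g' : Y' ⟶ S'} {g : Y ⟶ S} {h : S' ⟶ S}
    (sqY : IsPullback eY g' g h) (sqX : IsPullback eX f' f eY) (F : X.Modules) [F.IsQuasicoherent]
    (s' : S') (z : ↥((f' ≫ g').fiber s')) :
    (f' ≫ g').fiberι s' z ∈ EX f' g' ((Scheme.Modules.pullback eX).obj F) ↔
      eX ((f' ≫ g').fiberι s' z) ∈ EX f g F := by
  have hX : IsPullback eX (f' ≫ g') (f ≫ g) h := sqX.paste_vert sqY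
  haveI : ((Scheme.Modules.pullback eX).obj F).IsQuasicoherent :=
    Groth.Agent.Lead.StalkPull.isQuasicoherent_pullbackObj _ F
  haveI : ((Scheme.Modules.pullback ((f ≫ g).fiberι (h s'))).obj F).IsQuasicoherent :=
    Groth.Agent.Lead.StalkPull.isQuasicoherent_pullbackObj _ F
  let φX : (f' ≫ g').fiber s' ⟶ (f ≫ g).fiber (h s') :=
    pullback.map _ _ _ _ eX (Spec.map (h.residueFieldMap s')) h hX.w.symm (by simp)
  let φY : g'.fiber s' ⟶ g.fiber (h s') :=
    pullback.map _ _ _ _ eY (Spec.map (h.residueFieldMap s')) h sqY.w.symm (by simp)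
  have hφ : φX ≫ (f ≫ g).fiberι (h s') = (f' ≫ g').fiberι s' ≫ eX := pullback.lift_fst _ _ _
  have hpt : (f ≫ g).fiberι (h s') (φX z) = eX ((f' ≫ g').fiberι s' z) := by
    rw [← Scheme.Hom.comp_apply, hφ, Scheme.Hom.comp_apply]
  have hsq := isPullback_fiberMap_of_isPullback sqY sqX hX s'
  have hφYfl : Flat φY := flat_fibreMap_of_isPullback sqY s'
  rw [← hpt, mem_EX_fiberι_iff, mem_EX_fiberι_iff]
  constructor
  · intro ha
    have hb := isFlatOverAt_of_iso (MoreMor.fiberMap f' g' s')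
      (Groth.Agent.Helper2.ConsMod.fibreModIso hX F s') z ha
    exact Groth.Agent.Lead.StalkPull.main_descent (MoreMor.fiberMap f g (h s'))
      (MoreMor.fiberMap f' g' s') φX φY hsq ((Scheme.Modules.pullback ((f ≫ g).fiberι (h s'))).obj F)
      inferInstance z ((Flat.iff_flat_stalkMap φY).mp hφYfl _) hb
  · intro hc
    have hb := Groth.Agent.Lead.FlatBC.main_baseChange (MoreMor.fiberMap f g (h s'))
      (MoreMor.fiberMap f' g' s') φX φY hsq ((Scheme.Modules.pullback ((f ≫ g).fiberι (h s'))).obj F)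
      inferInstance z hc
    exact isFlatOverAt_of_iso (MoreMor.fiberMap f' g' s')
      (Groth.Agent.Helper2.ConsMod.fibreModIso hX F s').symm z hb

/-- compatibility of the fibrewise flat locus with base change -/
theorem EX_of_isPullback {X' X Y' Y S' S : Scheme.{u}} {eX : X' ⟶ X} {f' : X' ⟶ Y'} {f : X ⟶ Y}
    {eY : Y' ⟶ Y} {g' : Y' ⟶ S'} {g : Y ⟶ S} {h : S' ⟶ S}
    (sqY : IsPullback eY g' g h) (sqX : IsPullback eX f' f eY) (F : X.Modules) [F.IsQuasicoherent] :
    EX f' g' ((Scheme.Modules.pullback eX).obj F) = eX ⁻¹' EX f g F := by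
  ext x'
  obtain ⟨s', hs'⟩ : ∃ s', (f' ≫ g') x' = s' := ⟨_, rfl⟩
  have hxr : x' ∈ Set.range ((f' ≫ g').fiberι s') := by
    rw [Scheme.Hom.range_fiberι]; exact hs'
  obtain ⟨z, rfl⟩ := hxr
  exact mem_EX_of_isPullback sqY sqX F s' z

end Groth.Agent.Helper2.ConsMX
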