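import Mathlib
import Groth.Prelude
import Groth.Agent.Helper2.ConsMX1

/-!
# Noetherian case: the fibrewise flat locus is constructible
-/

set_option autoImplicit false
set_option linter.unusedVariables false
open CategoryTheory CategoryTheory.Limits AlgebraicGeometry TopologicalSpace Topology TensorProduct
open IsLocalRing
universe u

namespace Groth.Agent.Helper2.ConsMX

open Groth.Agent.Helper5.ConsPr Groth.Agent.Helper5.ConsLc Groth.Agent.Helper2.FibLF
  Groth.Agent.Helper2.ConsMM Groth.Agent.Helper2.FibFD Groth.Agent.Helper4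

/-- over the locus where `F` is flat over `S`, the fibrewise flat locus is the flat locus over `Y` -/
theorem mem_EX_iff_of_flat {X Y S : Scheme.{u}} (f : X ⟶ Y) (g : Y ⟶ S)
    [LocallyOfFinitePresentation f]
    (F : X.Modules) [F.IsQuasicoherent] (hfp : CohB1.IsFP F) (x : X)
    (hx : FlatMod.IsFlatOverAt (f ≫ g) F x) :
    x ∈ EX f g F ↔ FlatMod.IsFlatOverAt f F x := by
  obtain ⟨s, hs⟩ : ∃ s, (f ≫ g) x = s := ⟨_, rfl⟩
  have hxr : x ∈ Set.range ((f ≫ g).fiberι s) := by
    rw [Scheme.Hom.range_fiberι]; exact hs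
  obtain ⟨z, rfl⟩ := hxr
  rw [mem_EX_fiberι_iff]
  exact ⟨fun h => isFlatOverAt_of_fibre f g F hfp s z hx h,
    fun h => isFlatOverAt_fibre_of_isFlatOverAt f g F s z h⟩

section Noeth

variable {X Y S : Scheme.{u}} (f : X ⟶ Y) (g : Y ⟶ S) [IsNoetherian S]
  [LocallyOfFiniteType g] [QuasiCompact g] [LocallyOfFiniteType (f ≫ g)] [QuasiCompact (f ≫ g)]
  (F : X.Modules) (hF : Coh.IsCoh F)

include hF in
set_option backward.isDefEq.respectTransparency false in
theorem mx_decided (Z : Set X) (hZ : IsClosed Z) (hirr : IsIrreducible Z) :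
    ∃ O : Set X, IsOpen O ∧ (Z ∩ O).Nonempty ∧ (Z ∩ O ⊆ EX f g F ∨ Z ∩ O ⊆ (EX f g F)ᶜ) := by
  haveI : F.IsQuasicoherent := hF.1
  -- the generic point of `Z` and the closure of its image
  obtain ⟨ξ, hξ⟩ := QuasiSober.sober hirr hZ
  have hξZ : ξ ∈ Z := by rw [← hξ.def]; exact subset_closure rfl
  have hξsp : ∀ x ∈ Z, ξ ⤳ x := fun x hx => by
    rw [specializes_iff_mem_closure, hξ.def]; exact hx
  let ZS : Set S := closure {(f ≫ g) ξ}
  have hZSirr : IsIrreducible ZS := isIrreducible_singleton.closure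
  obtain ⟨T, i, hi, hT, hrange⟩ := exists_integral_subscheme ZS isClosed_closure hZSirr
  have hT1 : IsLocallyNoetherian T := LocallyOfFiniteType.isLocallyNoetherian i
  have hT2 : CompactSpace T := QuasiCompact.compactSpace_of_compactSpace i
  have hTN : IsNoetherian T := {}
  -- the base change
  let eY : pullback g i ⟶ Y := pullback.fst g i
  let gT : pullback g i ⟶ T := pullback.snd g i
  let eX : pullback f eY ⟶ X := pullback.fst f eY
  let fT : pullback f eY ⟶ pullback g i := pullback.snd f eY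
  have sqY : IsPullback eY gT g i := IsPullback.of_hasPullback g i
  have sqX : IsPullback eX fT f eY := IsPullback.of_hasPullback f eY
  have sqXS : IsPullback eX (fT ≫ gT) (f ≫ g) i := sqX.paste_vert sqY
  obtain ⟨hI1, hI2⟩ := mor_baseChange_instances f g i
  haveI : LocallyOfFiniteType (fT ≫ gT) := hI1
  haveI : QuasiCompact (fT ≫ gT) := hI2
  haveI : LocallyOfFiniteType gT := MorphismProperty.pullback_snd _ _ inferInstance
  let FT : (pullback f eY).Modules := (Scheme.Modules.pullback eX).obj F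
  have hFT : Coh.IsCoh FT := Groth.Agent.Lead.FlatUnivJ.isCoh_pullback eX F hF
  haveI : FT.IsQuasicoherent := hFT.1
  have hET : EX fT gT FT = eX ⁻¹' EX f g F := EX_of_isPullback sqY sqX F
  have hYT1 : IsLocallyNoetherian (pullback g i) := LocallyOfFiniteType.isLocallyNoetherian gT
  have hXT1 : IsLocallyNoetherian (pullback f eY) :=
    LocallyOfFiniteType.isLocallyNoetherian (fT ≫ gT)
  have hfTlft : LocallyOfFiniteType fT := locallyOfFiniteType_of_comp fT gT
  haveI hfTfp : LocallyOfFinitePresentation fT :=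
    LocallyOfFinitePresentation.iff_locallyOfFiniteType.mpr hfTlft
  have hfpT : CohB1.IsFP FT := CohFP.isFP_of_isCoh FT hFT.1 hFT.2
  -- generic flatness
  obtain ⟨U₀, hU₀, hflat⟩ := Groth.Agent.Helper5.GenFlat.main (fT ≫ gT) FT hFT.1 hFT.2
  let WT : Set ↥(pullback f eY) := {x | FlatMod.IsFlatOverAt fT FT x}
  have hWT : IsOpen WT := Groth.Agent.Helper2.FlatLocusMod.isOpen_isFlatOverAt fT FT hfpT
  have hkey : ∀ x : ↥(pullback f eY), (fT ≫ gT) x ∈ U₀ → (x ∈ EX fT gT FT ↔ x ∈ WT) :=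
    fun x hx => mem_EX_iff_of_flat fT gT FT hfpT x (hflat x hx)
  -- topology of the closed immersions
  haveI : IsClosedImmersion i := hi
  have hiemb : Topology.IsClosedEmbedding i := i.isClosedEmbedding
  haveI : IsClosedImmersion eX := MorphismProperty.of_isPullback sqXS.flip hi
  have hXemb : Topology.IsClosedEmbedding eX := eX.isClosedEmbedding
  have hrangeX : Set.range eX = (f ≫ g) ⁻¹' ZS := by
    rw [← hrange]
    change Set.range (pullback.fst f eY) = _
    rw [Scheme.Pullback.range_fst]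
    change f ⁻¹' Set.range (pullback.fst g i) = _
    rw [Scheme.Pullback.range_fst]
    rfl
  have hZsub : Z ⊆ Set.range eX := by
    intro x hx
    rw [hrangeX]
    exact (hξsp x hx).map (f ≫ g).continuous |>.mem_closed isClosed_closure (subset_closure rfl)
  have hcomm : ∀ xT : ↥(pullback f eY), i ((fT ≫ gT) xT) = (f ≫ g) (eX xT) := by
    intro xT
    rw [← Scheme.Hom.comp_apply, ← Scheme.Hom.comp_apply, sqXS.w]
  obtain ⟨V₀, hV₀, hV₀U⟩ := hiemb.isInducing.isOpen_iff.mp U₀.isOpen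
  have hover : ∀ xT : ↥(pullback f eY), (fT ≫ gT) xT ∈ U₀ ↔ (f ≫ g) (eX xT) ∈ V₀ := by
    intro xT
    rw [← hcomm]
    change (fT ≫ gT) xT ∈ (U₀ : Set T) ↔ _
    rw [← hV₀U]
    rfl
  obtain ⟨O₁, hO₁, hO₁W⟩ := hXemb.isInducing.isOpen_iff.mp hWT
  obtain ⟨ξT, hξT⟩ := hZsub hξZ
  -- the generic point lies over `U₀`
  have hξU : (fT ≫ gT) ξT ∈ U₀ := by
    obtain ⟨u, hu⟩ := hU₀
    have h1 : i u ∈ closure {(f ≫ g) ξ} := by
      have h0 : i u ∈ ZS := by rw [← hrange]; exact ⟨u, rfl⟩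
      exact h0
    have h2 : i ((fT ≫ gT) ξT) ⤳ i u := by
      rw [hcomm, hξT, specializes_iff_mem_closure]; exact h1
    exact (hiemb.isInducing.specializes_iff.mp h2).mem_open U₀.isOpen hu
  have hξV : (f ≫ g) ξ ∈ V₀ := by rw [← hξT]; exact (hover ξT).mp hξU
  by_cases hξE : ξ ∈ EX f g F
  · have hξW : ξT ∈ WT := by
      refine (hkey ξT hξU).mp ?_
      rw [hET, Set.mem_preimage, hξT]; exact hξE
    refine ⟨O₁ ∩ (f ≫ g) ⁻¹' V₀, hO₁.inter (hV₀.preimage (f ≫ g).continuous),
      ⟨ξ, hξZ, ?_, hξV⟩, Or.inl ?_⟩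
    · have : ξT ∈ eX ⁻¹' O₁ := by rw [hO₁W]; exact hξW
      rw [← hξT]; exact this
    · rintro x ⟨hxZ, hxO₁, hxV⟩
      obtain ⟨xT, rfl⟩ := hZsub hxZ
      have h1 : xT ∈ WT := by rw [← hO₁W]; exact hxO₁
      have h2 : xT ∈ EX fT gT FT := (hkey xT ((hover xT).mpr hxV)).mpr h1
      rw [hET] at h2
      exact h2
  · refine ⟨(f ≫ g) ⁻¹' V₀, hV₀.preimage (f ≫ g).continuous, ⟨ξ, hξZ, hξV⟩, Or.inr ?_⟩
    rintro x ⟨hxZ, hxV⟩ hxE
    obtain ⟨xT, rfl⟩ := hZsub hxZ
    have h1 : xT ∈ EX fT gT FT := by rw [hET]; exact hxE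
    have h2 : xT ∈ WT := (hkey xT ((hover xT).mpr hxV)).mp h1
    have h3 : ξT ⤳ xT := by
      rw [← hXemb.isInducing.specializes_iff, hξT]
      exact hξsp _ hxZ
    have h4 : ξT ∈ WT := h3.mem_open hWT h2
    have h5 : ξT ∈ EX fT gT FT := (hkey ξT hξU).mpr h4
    rw [hET] at h5
    apply hξE
    rw [← hξT]
    exact h5

include hF in
/-- Noetherian case -/
theorem isConstructible_EX_of_noeth : IsConstructible (EX f g F) := by
  have hXN1 : IsLocallyNoetherian X := LocallyOfFiniteType.isLocallyNoetherian (f ≫ g)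
  have hXN2 : CompactSpace X := QuasiCompact.compactSpace_of_compactSpace (f ≫ g)
  have hXN : IsNoetherian X := {}
  exact isConstructible_of_noeth _ (mx_decided f g F hF)

end Noeth

end Groth.Agent.Helper2.ConsMX
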