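import Mathlib
import Groth.Prelude
import Groth.Agent.Helper2.ConsMX2
import Groth.Agent.Helper2.ConsMM3

/-!
# Affine finitely presented case: the fibrewise flat locus is constructible
-/

set_option autoImplicit false
set_option linter.unusedVariables false
open CategoryTheory CategoryTheory.Limits AlgebraicGeometry TopologicalSpace Topology TensorProduct
open IsLocalRing
universe u

namespace Groth.Agent.Helper2.ConsMX

open Groth.Agent.Helper5.ConsPr Groth.Agent.Helper5.ConsLc Groth.Agent.Helper2.FibLF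
  Groth.Agent.Helper2.ConsMM Groth.Agent.Helper2.FibFD Groth.Agent.Helper4

/-- the fibrewise flat locus only depends on the isomorphism class of the module -/
theorem EX_congr {X Y S : Scheme.{u}} (f : X ⟶ Y) (g : Y ⟶ S) {F F' : X.Modules}
    [F.IsQuasicoherent] [F'.IsQuasicoherent] (e : F' ≅ F) : EX f g F' = EX f g F := by
  ext x
  obtain ⟨s, hs⟩ : ∃ s, (f ≫ g) x = s := ⟨_, rfl⟩
  have hxr : x ∈ Set.range ((f ≫ g).fiberι s) := by
    rw [Scheme.Hom.range_fiberι]; exact hs
  obtain ⟨z, rfl⟩ := hxr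
  rw [mem_EX_fiberι_iff, mem_EX_fiberι_iff]
  exact ⟨fun h => isFlatOverAt_of_iso _ ((Scheme.Modules.pullback ((f ≫ g).fiberι s)).mapIso e) z h,
    fun h => isFlatOverAt_of_iso _ ((Scheme.Modules.pullback ((f ≫ g).fiberι s)).mapIso e.symm) z h⟩

theorem EX_affine_cons {X Y S : Scheme.{u}} [IsAffine S] (f : X ⟶ Y) (g : Y ⟶ S)
    [LocallyOfFinitePresentation g] [QuasiCompact g] [QuasiSeparated g]
    [LocallyOfFinitePresentation (f ≫ g)] [QuasiCompact (f ≫ g)] [QuasiSeparated (f ≫ g)]
    (F : X.Modules) (hF : SheafOfModules.IsFinitePresentation (R := X.ringCatSheaf) F) :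
    IsConstructible (EX f g F) := by
  haveI := hF
  haveI : F.IsQuasicoherent := inferInstance
  obtain ⟨S₀, X₀, Y₀, f₀, g₀, π, qX, qY, F₀, hN, h1, h2, h3, h4, HY, HX, hcoh, ⟨e⟩⟩ :=
    exists_noeth_model_mm f g F hF
  haveI : F₀.IsQuasicoherent := hcoh.1
  haveI : ((Scheme.Modules.pullback qX).obj F₀).IsQuasicoherent :=
    Groth.Agent.Lead.StalkPull.isQuasicoherent_pullbackObj _ F₀
  rw [EX_congr f g e, EX_of_isPullback HY HX F₀]
  exact qX.isConstructible_preimage (isConstructible_EX_of_noeth f₀ g₀ F₀ hcoh)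

end Groth.Agent.Helper2.ConsMX
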