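import Mathlib
import Groth.Prelude
import Groth.Agent.Helper2.ConsMX1
import Groth.Agent.Helper2.GenStalk1

/-!
# The fibrewise flat locus and restriction to open subschemes
-/

set_option autoImplicit false
set_option linter.unusedVariables false
open CategoryTheory CategoryTheory.Limits AlgebraicGeometry TopologicalSpace Topology TensorProduct
open IsLocalRing
universe u

namespace Groth.Agent.Helper2.ConsMX

/-- flatness of the quotient only depends on the module up to linear equivalence -/
theorem flat_quot_congr {B M M' : Type u} [CommRing B] [AddCommGroup M] [Module B M]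
    [AddCommGroup M'] [Module B M'] (I : Ideal B) (e : M' ≃ₗ[B] M) :
    Module.Flat (B ⧸ I) (M' ⧸ I • (⊤ : Submodule B M')) ↔
      Module.Flat (B ⧸ I) (M ⧸ I • (⊤ : Submodule B M)) := by
  have hmap : (I • (⊤ : Submodule B M')).map (e : M' →ₗ[B] M) = I • (⊤ : Submodule B M) := by
    rw [Submodule.map_smul'', Submodule.map_top, LinearMap.range_eq_top.mpr e.surjective]
  let ē : (M' ⧸ I • (⊤ : Submodule B M')) ≃ₗ[B] (M ⧸ I • (⊤ : Submodule B M)) :=
    Submodule.Quotient.equiv _ _ e hmap
  let ē' : (M' ⧸ I • (⊤ : Submodule B M')) ≃ₗ[B ⧸ I] (M ⧸ I • (⊤ : Submodule B M)) :=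
    ē.extendScalarsOfSurjective Ideal.Quotient.mk_surjective
  exact ⟨fun h => Module.Flat.of_linearEquiv ē'.symm, fun h => Module.Flat.of_linearEquiv ē'⟩

/-- algebra: `M' = C' ⊗_C M` with `C → C'` bijective is `B`-linearly equivalent to `M`. -/
theorem nonempty_equiv_of_bijective {B C C' M M' : Type u} [CommRing B] [CommRing C] [CommRing C']
    [AddCommGroup M] [Module C M] [AddCommGroup M'] [Module C' M']
    (φ : B →+* C) (σ : C →+* C') (χ : B →+* C') (hχ : χ = σ.comp φ) (hσ : Function.Bijective σ)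
    (E : letI := σ.toAlgebra; M' ≃ₗ[C'] C' ⊗[C] M) :
    letI := Module.compHom M' χ
    letI := Module.compHom M φ
    Nonempty (M' ≃ₗ[B] M) := by
  subst hχ
  letI algCC' : Algebra C C' := σ.toAlgebra
  letI algBC : Algebra B C := φ.toAlgebra
  letI mCM' : Module C M' := Module.compHom M' σ
  letI mBM' : Module B M' := Module.compHom M' (σ.comp φ)
  letI mBM : Module B M := Module.compHom M φ
  haveI : IsScalarTower C C' M' := IsScalarTower.of_algebraMap_smul (fun _ _ => rfl)
  haveI : IsScalarTower B C M' := IsScalarTower.of_algebraMap_smul (fun _ _ => rfl)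
  haveI : IsScalarTower B C M := IsScalarTower.of_algebraMap_smul (fun _ _ => rfl)
  let e0 : C ≃ₗ[C] C' := LinearEquiv.ofBijective (Algebra.linearMap C C') hσ
  let e1 : C' ⊗[C] M ≃ₗ[C] M := TensorProduct.congr e0.symm (LinearEquiv.refl C M) ≪≫ₗ
    TensorProduct.lid C M
  let e2 : M' ≃ₗ[C] M := (E.restrictScalars C) ≪≫ₗ e1
  exact ⟨e2.restrictScalars B⟩

set_option backward.isDefEq.respectTransparency false in
/-- restriction of the source along a morphism which is an isomorphism on the stalk -/
theorem mem_EX_source_iff {W X Y S : Scheme.{u}} (j : W ⟶ X) (f : X ⟶ Y) (g : Y ⟶ S)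
    (F : X.Modules) (x : W) (hj : Function.Bijective (j.stalkMap x).hom) :
    x ∈ EX (j ≫ f) g ((Scheme.Modules.pullback j).obj F) ↔ j x ∈ EX f g F := by
  obtain ⟨E⟩ := Groth.Agent.Helper2.GenStalk.nonempty_stalk_pullback_equiv j F x
  have hχ : ((j ≫ f).stalkMap x).hom = (j.stalkMap x).hom.comp (f.stalkMap (j x)).hom := by
    rw [Scheme.Hom.stalkMap_comp]
    rfl
  obtain ⟨e⟩ := nonempty_equiv_of_bijective (B := Y.presheaf.stalk (f (j x)))
    (C := X.presheaf.stalk (j x)) (C' := W.presheaf.stalk x) (M := F.presheaf.stalk (j x))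
    (M' := ((Scheme.Modules.pullback j).obj F).presheaf.stalk x)
    (f.stalkMap (j x)).hom (j.stalkMap x).hom ((j ≫ f).stalkMap x).hom hχ hj E
  letI mM' : Module (Y.presheaf.stalk (f (j x)))
      (((Scheme.Modules.pullback j).obj F).presheaf.stalk x) :=
    Module.compHom _ ((j ≫ f).stalkMap x).hom
  letI mM : Module (Y.presheaf.stalk (f (j x))) (F.presheaf.stalk (j x)) :=
    Module.compHom _ (f.stalkMap (j x)).hom
  exact flat_quot_congr
    (Ideal.map (g.stalkMap (f (j x))).hom (maximalIdeal (S.presheaf.stalk (g (f (j x)))))) e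

end Groth.Agent.Helper2.ConsMX
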