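import Mathlib
import Groth.Prelude
import Groth.Agent.Helper2.ConsMX4
import Groth.Agent.Helper2.FibFD1
import Groth.Agent.Helper5.AffFlat3

/-!
# The fibrewise flat locus and restriction of the target to an open subscheme
-/

set_option autoImplicit false
set_option linter.unusedVariables false
open CategoryTheory CategoryTheory.Limits AlgebraicGeometry TopologicalSpace Topology TensorProduct
open IsLocalRing
universe u

namespace Groth.Agent.Helper2.ConsMX

open Groth.Agent.Helper2.FibFD

/-- algebra: replacing the ring `B` by an isomorphic ring `B'`. -/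
theorem flat_quot_iff_of_bijective {A B B' C M : Type u} [CommRing A] [CommRing B] [CommRing B']
    [CommRing C] [AddCommGroup M] [Module C M]
    (φ : A →+* B) (β : B →+* B') (ψ' : B' →+* C) (hβ : Function.Bijective β)
    (χ : B →+* C) (hχ : χ = ψ'.comp β) (φ' : A →+* B') (hφ' : φ' = β.comp φ) (J : Ideal A) :
    (letI := Module.compHom M χ
     Module.Flat (B ⧸ Ideal.map φ J) (M ⧸ Ideal.map φ J • (⊤ : Submodule B M))) ↔
    (letI := Module.compHom M ψ'
     Module.Flat (B' ⧸ Ideal.map φ' J) (M ⧸ Ideal.map φ' J • (⊤ : Submodule B' M))) := by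
  subst hχ hφ'
  have hII : Ideal.map (β.comp φ) J = Ideal.map β (Ideal.map φ J) := (Ideal.map_map φ β).symm
  rw [hII]
  letI algBB' : Algebra B B' := β.toAlgebra
  letI mB'M : Module B' M := Module.compHom M ψ'
  letI mBM : Module B M := Module.compHom M (ψ'.comp β)
  haveI : IsScalarTower B B' M := IsScalarTower.of_algebraMap_smul (fun _ _ => rfl)
  let I : Ideal B := Ideal.map φ J
  let I' : Ideal B' := Ideal.map β I
  let βe : B ≃+* B' := RingEquiv.ofBijective β hβ
  have hI'e : I' = I.map (βe : B →+* B') := rfl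
  let σ : (B ⧸ I) ≃+* (B' ⧸ I') := Ideal.quotientEquiv I I' βe hI'e
  -- the linear equivalence of the quotient modules over `B`
  let q0 : (M ⧸ (I' • (⊤ : Submodule B' M))) ≃ₗ[B] (M ⧸ I • (⊤ : Submodule B M)) :=
    quotMapSMulEquiv I
  -- the `B/I`-module structure on the `B'/I'`-module
  letI mN : Module (B ⧸ I) (M ⧸ (I' • (⊤ : Submodule B' M))) :=
    Module.compHom _ σ.toRingHom
  haveI : IsScalarTower B (B ⧸ I) (M ⧸ (I' • (⊤ : Submodule B' M))) :=
    IsScalarTower.of_algebraMap_smul (fun b n => by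
      induction n using Submodule.Quotient.induction_on with
      | H m => rfl)
  let q1 : (M ⧸ (I' • (⊤ : Submodule B' M))) ≃ₗ[B ⧸ I] (M ⧸ I • (⊤ : Submodule B M)) :=
    q0.extendScalarsOfSurjective Ideal.Quotient.mk_surjective
  have key := Groth.Agent.Helper5.AffFlat.flat_iff_of_ringEquiv σ
    (N := M ⧸ (I' • (⊤ : Submodule B' M)))
  constructor
  · intro h
    exact key.mp (Module.Flat.of_linearEquiv q1)
  · intro h
    haveI := key.mpr h
    exact Module.Flat.of_linearEquiv q1.symm

set_option backward.isDefEq.respectTransparency false in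
/-- restriction of the target along a morphism which is an isomorphism on the stalk -/
theorem mem_EX_target_iff {X U Y S : Scheme.{u}} (f' : X ⟶ U) (jY : U ⟶ Y) (g : Y ⟶ S)
    (G : X.Modules) (x : X) (hj : Function.Bijective (jY.stalkMap (f' x)).hom) :
    x ∈ EX (f' ≫ jY) g G ↔ x ∈ EX f' (jY ≫ g) G := by
  have hχ : ((f' ≫ jY).stalkMap x).hom =
      (f'.stalkMap x).hom.comp (jY.stalkMap (f' x)).hom := by
    rw [Scheme.Hom.stalkMap_comp]
    rfl
  have hφ' : ((jY ≫ g).stalkMap (f' x)).hom =
      (jY.stalkMap (f' x)).hom.comp (g.stalkMap (jY (f' x))).hom := by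
    rw [Scheme.Hom.stalkMap_comp]
    rfl
  exact flat_quot_iff_of_bijective (A := S.presheaf.stalk (g (jY (f' x))))
    (B := Y.presheaf.stalk (jY (f' x))) (B' := U.presheaf.stalk (f' x))
    (C := X.presheaf.stalk x) (M := G.presheaf.stalk x)
    (g.stalkMap (jY (f' x))).hom (jY.stalkMap (f' x)).hom (f'.stalkMap x).hom hj
    ((f' ≫ jY).stalkMap x).hom hχ ((jY ≫ g).stalkMap (f' x)).hom hφ'
    (maximalIdeal (S.presheaf.stalk (g (jY (f' x)))))

end Groth.Agent.Helper2.ConsMX
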