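import Mathlib
import Groth.Prelude
import Groth.Agent.Helper2.ConsMX5

/-!
# The fibrewise flat locus and restriction of the base to an open subscheme; localization
-/

set_option autoImplicit false
set_option linter.unusedVariables false
open CategoryTheory CategoryTheory.Limits AlgebraicGeometry TopologicalSpace Topology TensorProduct
open IsLocalRing
universe u

namespace Groth.Agent.Helper2.ConsMX

/-- a bijective ring homomorphism of local rings maps the maximal ideal onto the maximal ideal -/
theorem map_maximalIdeal_of_bijective {A A' : Type u} [CommRing A] [CommRing A'] [IsLocalRing A]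
    [IsLocalRing A'] (α : A →+* A') (hα : Function.Bijective α) :
    Ideal.map α (maximalIdeal A) = maximalIdeal A' := by
  let e : A ≃+* A' := RingEquiv.ofBijective α hα
  apply le_antisymm
  · rw [Ideal.map_le_iff_le_comap]
    intro a ha
    rw [Ideal.mem_comap, mem_maximalIdeal, mem_nonunits_iff]
    intro hu
    have : IsUnit a := by
      have h2 : IsUnit (e.symm (α a)) := hu.map e.symm
      have h3 : e.symm (α a) = a := e.symm_apply_apply a
      rwa [h3] at h2
    exact ha this
  · intro y hy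
    obtain ⟨a, rfl⟩ := hα.2 y
    refine Ideal.mem_map_of_mem α ?_
    rw [mem_maximalIdeal, mem_nonunits_iff]
    intro hu
    exact hy (hu.map α)

theorem flat_quot_of_ideal_eq {B M : Type u} [CommRing B] [AddCommGroup M] [Module B M]
    {I₁ I₂ : Ideal B} (h : I₁ = I₂) :
    Module.Flat (B ⧸ I₁) (M ⧸ I₁ • (⊤ : Submodule B M)) ↔
      Module.Flat (B ⧸ I₂) (M ⧸ I₂ • (⊤ : Submodule B M)) := by
  subst h; rfl

set_option backward.isDefEq.respectTransparency false in
/-- restriction of the base along a morphism which is an isomorphism on the stalk -/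
theorem mem_EX_base_iff {X Y V S : Scheme.{u}} (f : X ⟶ Y) (g' : Y ⟶ V) (jS : V ⟶ S)
    (G : X.Modules) (x : X) (hj : Function.Bijective (jS.stalkMap (g' (f x))).hom) :
    x ∈ EX f (g' ≫ jS) G ↔ x ∈ EX f g' G := by
  have hφ : ((g' ≫ jS).stalkMap (f x)).hom =
      (g'.stalkMap (f x)).hom.comp (jS.stalkMap (g' (f x))).hom := by
    rw [Scheme.Hom.stalkMap_comp]
    rfl
  have hI : Ideal.map ((g' ≫ jS).stalkMap (f x)).hom
      (maximalIdeal (S.presheaf.stalk (jS (g' (f x))))) =
      Ideal.map (g'.stalkMap (f x)).hom (maximalIdeal (V.presheaf.stalk (g' (f x)))) := by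
    rw [hφ, ← Ideal.map_map, map_maximalIdeal_of_bijective _ hj]
  letI := FlatMod.moduleStalkOver f G x
  exact flat_quot_of_ideal_eq hI

theorem bijective_stalkMap_of_isOpenImmersion {U X : Scheme.{u}} (j : U ⟶ X) [IsOpenImmersion j]
    (x : U) : Function.Bijective (j.stalkMap x).hom :=
  ConcreteCategory.bijective_of_isIso (j.stalkMap x)

theorem EX_congr_left {X Y S : Scheme.{u}} {f₁ f₂ : X ⟶ Y} (h : f₁ = f₂) (g : Y ⟶ S)
    (F : X.Modules) : EX f₁ g F = EX f₂ g F := by subst h; rfl

theorem EX_congr_right {X Y S : Scheme.{u}} (f : X ⟶ Y) {g₁ g₂ : Y ⟶ S} (h : g₁ = g₂)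
    (F : X.Modules) : EX f g₁ F = EX f g₂ F := by subst h; rfl

set_option backward.isDefEq.respectTransparency false in
/-- the fibrewise flat locus of the restriction to opens -/
theorem EX_resLE {X Y S : Scheme.{u}} (f : X ⟶ Y) (g : Y ⟶ S) (F : X.Modules)
    (V : S.Opens) (U : Y.Opens) (W : X.Opens) (eU : U ≤ g ⁻¹ᵁ V) (eW : W ≤ f ⁻¹ᵁ U) :
    EX (f.resLE U W eW) (g.resLE V U eU) ((Scheme.Modules.pullback W.ι).obj F) =
      W.ι ⁻¹' EX f g F := by
  ext x
  rw [Set.mem_preimage]
  rw [← mem_EX_base_iff (f.resLE U W eW) (g.resLE V U eU) V.ι _ x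
    (bijective_stalkMap_of_isOpenImmersion V.ι _)]
  rw [EX_congr_right (f.resLE U W eW) (Scheme.Hom.resLE_comp_ι g eU)]
  rw [← mem_EX_target_iff (f.resLE U W eW) U.ι g _ x
    (bijective_stalkMap_of_isOpenImmersion U.ι _)]
  rw [EX_congr_left (Scheme.Hom.resLE_comp_ι f eW) g]
  exact mem_EX_source_iff W.ι f g F x (bijective_stalkMap_of_isOpenImmersion W.ι x)

end Groth.Agent.Helper2.ConsMX
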