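import Mathlib
import Groth.Prelude
import Groth.Agent.Helper2.ConsMX6
import Groth.Agent.Helper2.ConsMX3

/-!
# The fibrewise flat locus is locally constructible
-/

set_option autoImplicit false
set_option linter.unusedVariables false
open CategoryTheory CategoryTheory.Limits AlgebraicGeometry TopologicalSpace Topology TensorProduct
open IsLocalRing
universe u

namespace Groth.Agent.Helper2.ConsMX

set_option backward.isDefEq.respectTransparency false in
theorem isLocallyConstructible_EX {X Y S : Scheme.{u}} (f : X ⟶ Y) (g : Y ⟶ S)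
    [LocallyOfFinitePresentation g] [LocallyOfFinitePresentation (f ≫ g)]
    (F : X.Modules) (hF : SheafOfModules.IsFinitePresentation (R := X.ringCatSheaf) F) :
    IsLocallyConstructible (EX f g F) := by
  intro x
  obtain ⟨_, ⟨V, hV : IsAffineOpen V, rfl⟩, hxV, -⟩ :=
    S.isBasis_affineOpens.exists_subset_of_mem_open (Set.mem_univ (g (f x))) isOpen_univ
  obtain ⟨_, ⟨U, hU : IsAffineOpen U, rfl⟩, hxU, hUV⟩ :=
    Y.isBasis_affineOpens.exists_subset_of_mem_open
      (show f x ∈ ((g ⁻¹ᵁ V : Y.Opens) : Set Y) from hxV) (g ⁻¹ᵁ V).isOpen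
  obtain ⟨_, ⟨W, hW : IsAffineOpen W, rfl⟩, hxW, hWU⟩ :=
    X.isBasis_affineOpens.exists_subset_of_mem_open
      (show x ∈ ((f ⁻¹ᵁ U : X.Opens) : Set X) from hxU) (f ⁻¹ᵁ U).isOpen
  have eU : U ≤ g ⁻¹ᵁ V := hUV
  have eW : W ≤ f ⁻¹ᵁ U := hWU
  refine ⟨W, W.isOpen.mem_nhds hxW, W.isOpen, ?_⟩
  haveI : IsAffine (V : Scheme.{u}) := hV
  haveI : IsAffine (U : Scheme.{u}) := hU
  haveI : IsAffine (W : Scheme.{u}) := hW
  haveI : LocallyOfFinitePresentation (g.resLE V U eU) :=
    IsZariskiLocalAtSource.resLE eU inferInstance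
  haveI : LocallyOfFinitePresentation (f.resLE U W eW ≫ g.resLE V U eU) := by
    rw [Scheme.Hom.resLE_comp_resLE]
    exact IsZariskiLocalAtSource.resLE _ inferInstance
  have h := EX_affine_cons (f.resLE U W eW) (g.resLE V U eU)
    ((Scheme.Modules.pullback (Scheme.Opens.ι W)).obj F)
    (Groth.Agent.Lead.LimPres.isFP_pullback (Scheme.Opens.ι W) F hF)
  rw [EX_resLE] at h
  exact h

end Groth.Agent.Helper2.ConsMX
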