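import Mathlib
import Groth.Prelude
import Groth.Agent.Helper2.ConsMX7
import Groth.Agent.Helper5.ConsPr1

/-!
# S5948: the fibrewise flat locus is locally constructible
-/

set_option autoImplicit false
set_option linter.unusedVariables false
open CategoryTheory CategoryTheory.Limits AlgebraicGeometry TopologicalSpace Topology TensorProduct
open IsLocalRing
universe u

namespace Groth.Agent.Helper2.ConsMX

open Groth.Agent.Helper5.ConsPr Groth.Agent.Helper2.ConsMM

set_option backward.isDefEq.respectTransparency false in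
theorem s5948 {X Y S : Scheme.{u}} (g : X ⟶ S) (h : Y ⟶ S)
    [LocallyOfFinitePresentation g] [LocallyOfFinitePresentation h] (f : X ⟶ Y) (w : f ≫ h = g)
    (F : X.Modules) [Coh.IsQCoh F] (hF : CohB1.IsFP F) :
    IsLocallyConstructible {x : ↥X | ∀ (Xs Ys : Scheme.{u}) (ιX : Xs ⟶ X) (ιY : Ys ⟶ Y) (fs : Xs ⟶ Ys)
      (pY : Ys ⟶ Spec (S.residueField (g.base x))),
      IsPullback ιY pY h (S.fromSpecResidueField (g.base x)) → IsPullback ιX fs f ιY →
        ∀ x' : ↥Xs, ιX.base x' = x → FlatMod.IsFlatOverAt fs ((Scheme.Modules.pullback ιX).obj F) x'} := by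
  subst w
  haveI : F.IsQuasicoherent := ‹Coh.IsQCoh F›
  have key := isLocallyConstructible_EX f h F hF
  convert key using 1
  ext x
  simp only [Set.mem_setOf_eq]
  constructor
  · intro hx
    have h1 := hx ((f ≫ h).fiber ((f ≫ h) x)) (h.fiber ((f ≫ h) x)) ((f ≫ h).fiberι _)
      (h.fiberι _) (MoreMor.fiberMap f h _) (h.fiberToSpecResidueField _)
      (IsPullback.of_hasPullback h (S.fromSpecResidueField ((f ≫ h) x)))
      (isPullback_fiberMap f h _) ((f ≫ h).asFiber x) ((f ≫ h).fiberι_asFiber x)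
    have h2 := (mem_EX_fiberι_iff f h F _ _).mpr h1
    rw [Scheme.Hom.fiberι_asFiber] at h2
    exact h2
  · intro hx Xs Ys ιX ιY fs pY hY hXsq x' hx'
    subst hx'
    haveI : ((Scheme.Modules.pullback ((f ≫ h).fiberι ((f ≫ h) (ιX x')))).obj F).IsQuasicoherent :=
      Groth.Agent.Lead.StalkPull.isQuasicoherent_pullbackObj _ F
    let s : S := (f ≫ h) (ιX x')
    have hYstd : IsPullback (h.fiberι s) (h.fiberToSpecResidueField s) h
        (S.fromSpecResidueField s) := IsPullback.of_hasPullback h (S.fromSpecResidueField s)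
    let b : Ys ⟶ h.fiber s := hYstd.lift ιY pY hY.w
    have hb1 : b ≫ h.fiberι s = ιY := hYstd.lift_fst _ _ _
    have hXstd := isPullback_fiberMap f h s
    let a : Xs ⟶ (f ≫ h).fiber s := hXstd.lift ιX (fs ≫ b) (by rw [Category.assoc, hb1]; exact hXsq.w)
    have ha1 : a ≫ (f ≫ h).fiberι s = ιX := hXstd.lift_fst _ _ _
    have ha2 : a ≫ MoreMor.fiberMap f h s = fs ≫ b := hXstd.lift_snd _ _ _
    have hbig : IsPullback (a ≫ (f ≫ h).fiberι s) fs f (b ≫ h.fiberι s) := by
      rw [ha1, hb1]; exact hXsq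
    have sq : IsPullback a fs (MoreMor.fiberMap f h s) b := IsPullback.of_right hbig ha2 hXstd
    have hpt : (f ≫ h).fiberι s (a x') = ιX x' := by
      rw [← Scheme.Hom.comp_apply, ha1]
    have hfl : FlatMod.IsFlatOverAt (MoreMor.fiberMap f h s)
        ((Scheme.Modules.pullback ((f ≫ h).fiberι s)).obj F) (a x') := by
      rw [← mem_EX_fiberι_iff, hpt]
      exact hx
    have h3 := Groth.Agent.Lead.FlatBC.main_baseChange (MoreMor.fiberMap f h s) fs a b sq
      ((Scheme.Modules.pullback ((f ≫ h).fiberι s)).obj F) inferInstance x' hfl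
    exact isFlatOverAt_of_iso fs
      ((Scheme.Modules.pullbackComp a ((f ≫ h).fiberι s)).app F ≪≫
        (Scheme.Modules.pullbackCongr ha1).app F) x' h3

end Groth.Agent.Helper2.ConsMX
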