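import Mathlib
import Groth.Agent.Helper2.ConsMod3
import Groth.Agent.Lead.ProConsLib2

/-!
# Generic behaviour of the locus of a constructible relation with a module (S5882, S5883) and
passage to the limit (S5892)
-/

set_option autoImplicit false
universe u
open CategoryTheory CategoryTheory.Limits AlgebraicGeometry TopologicalSpace Topology

noncomputable section

namespace Groth.Agent.Helper2.ConsMod

open Groth.Agent.Helper5.ConsLc Groth.Agent.Lead

/-- an ind-constructible subset of an irreducible scheme containing the generic point is a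
neighbourhood of the generic point -/
theorem genericPoint_mem_interior_of_ind {S : Scheme.{u}} [IrreducibleSpace S] {E : Set S}
    (hE : ProCons.IsIndConstructible E) (hη : genericPoint S ∈ E) :
    genericPoint S ∈ interior E := by
  obtain ⟨V₁, V₂, h1, h2, h3, h4, h5, h6, h7⟩ := ProConsLib.ind_pieces hE _ hη
  have hV₂ : V₂ = ∅ := by
    by_contra hne
    obtain ⟨y, hy⟩ := Set.nonempty_iff_ne_empty.mpr hne
    apply h6
    exact ((genericPoint_spec S).mem_open_set_iff h2).mpr ⟨y, trivial, hy⟩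
  rw [hV₂, Set.diff_empty] at h7
  exact mem_interior.mpr ⟨V₁, h7, V₁.isOpen, h5⟩

variable {P : ∀ ⦃Y T : Scheme.{u}⦄, (Y ⟶ T) → Y.Modules → Prop}

theorem s5883 (hP : ConsProp.IsIndConsMod P) {X S : Scheme.{u}} [IrreducibleSpace S] (u : X ⟶ S)
    [LocallyOfFinitePresentation u] [QuasiCompact u] [QuasiSeparated u] (F : X.Modules)
    (hF : SheafOfModules.IsFinitePresentation (R := X.ringCatSheaf) F)
    (hη : genericPoint S ∈ ConsProp.locusMod P u F) :
    genericPoint S ∈ interior (ConsProp.locusMod P u F) :=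
  genericPoint_mem_interior_of_ind (s5879 u F hF hP) hη

theorem s5882 (hP : ConsProp.IsConsMod P) {X S : Scheme.{u}} [IrreducibleSpace S] (u : X ⟶ S)
    [LocallyOfFinitePresentation u] [QuasiCompact u] [QuasiSeparated u] (F : X.Modules)
    (hF : SheafOfModules.IsFinitePresentation (R := X.ringCatSheaf) F) :
    genericPoint S ∈ interior (ConsProp.locusMod P u F) ∨
      genericPoint S ∈ interior (ConsProp.locusMod P u F)ᶜ := by
  have hlc := s5878 u F hF hP
  by_cases hη : genericPoint S ∈ ConsProp.locusMod P u F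
  · exact Or.inl (genericPoint_mem_interior_of_ind
      (ProConsLib.ind_of_isLocallyConstructible hlc) hη)
  · exact Or.inr (genericPoint_mem_interior_of_ind
      (ProConsLib.ind_of_isLocallyConstructible (ProConsLib.isLocallyConstructible_compl hlc)) hη)

theorem s5892 (hP : ConsProp.IsIndConsMod P)
    {I : Type u} [SmallCategory I] [IsCofiltered I]
    (D : I ⥤ Scheme.{u}) (c : Limits.Cone D) (hc : Limits.IsLimit c)
    [∀ (i j : I) (a : i ⟶ j), IsAffineHom (D.map a)] (i₀ : I) [CompactSpace ↥(D.obj i₀)]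
    {X₀ : Scheme.{u}} (u₀ : X₀ ⟶ D.obj i₀)
    [LocallyOfFinitePresentation u₀] [QuasiCompact u₀] [QuasiSeparated u₀]
    (F₀ : X₀.Modules) (hF₀ : SheafOfModules.IsFinitePresentation (R := X₀.ringCatSheaf) F₀)
    {X : Scheme.{u}} (u : X ⟶ c.pt) (q : X ⟶ X₀) (hX : IsPullback q u u₀ (c.π.app i₀)) :
    (∀ s : ↥c.pt, s ∈ ConsProp.locusMod P u ((Scheme.Modules.pullback q).obj F₀)) ↔
      ∃ (j : I) (φ : j ⟶ i₀) (Xj : Scheme.{u}) (uj : Xj ⟶ D.obj j) (p : Xj ⟶ X₀),
        IsPullback p uj u₀ (D.map φ) ∧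
          ∀ t : ↥(D.obj j), t ∈ ConsProp.locusMod P uj ((Scheme.Modules.pullback p).obj F₀) := by
  have hA : ∀ {i j : I} (f : i ⟶ j), IsAffineHom (D.map f) := fun f => inferInstance
  have hcoh : Coh.IsCoh F₀ := isCoh_of_isFP F₀ hF₀
  have hE₀ : ProCons.IsIndConstructible (ConsProp.locusMod P u₀ F₀) := s5879 u₀ F₀ hF₀ hP
  have hloc : ConsProp.locusMod P u ((Scheme.Modules.pullback q).obj F₀) =
      c.π.app i₀ ⁻¹' ConsProp.locusMod P u₀ F₀ :=
    locusMod_of_isPullback hP.1 hX F₀ hcoh
  constructor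
  · intro h
    have h' : ∀ s : c.pt, c.π.app i₀ s ∈ ConsProp.locusMod P u₀ F₀ := by
      intro s
      have := h s
      rw [hloc] at this
      exact this
    obtain ⟨j, φ, hj⟩ := exists_stage_forall_mem hc i₀ _ hE₀ h'
    refine ⟨j, φ, _, pullback.snd u₀ (D.map φ), pullback.fst u₀ (D.map φ),
      IsPullback.of_hasPullback _ _, fun t => ?_⟩
    rw [locusMod_of_isPullback hP.1 (IsPullback.of_hasPullback u₀ (D.map φ)) F₀ hcoh]
    exact hj t
  · rintro ⟨j, φ, Xj, uj, p, hXj, ht⟩ s
    rw [hloc]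
    have h1 := ht (c.π.app j s)
    rw [locusMod_of_isPullback hP.1 hXj F₀ hcoh] at h1
    have e : c.π.app i₀ s = D.map φ (c.π.app j s) := by
      rw [← Scheme.Hom.comp_apply, c.w φ]
    change c.π.app i₀ s ∈ ConsProp.locusMod P u₀ F₀
    rw [e]
    exact h1

end Groth.Agent.Helper2.ConsMod

end
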