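import Mathlib
import Groth.Prelude

set_option autoImplicit false
universe u

namespace Groth.Agent.Helper2.CotInj

open TensorProduct Algebra.Extension

section loc

variable {A B : Type u} [CommRing A] [CommRing B] [Algebra A B] (P : Algebra.Extension.{u} A B)
  (q : Ideal B) [q.IsPrime]

/-- the localized extension. -/
noncomputable def P' : Algebra.Extension.{u} A (Localization.AtPrime q) :=
  P.localization q.primeCompl

/-- The multiplicative set in the extension ring. -/
abbrev SE : Submonoid P.Ring := q.primeCompl.comap (algebraMap P.Ring B)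

noncomputable instance : Algebra P.Ring (P' P q).Ring :=
  inferInstanceAs (Algebra P.Ring (Localization (SE P q)))

instance : IsLocalization (SE P q) (P' P q).Ring :=
  inferInstanceAs (IsLocalization (SE P q) (Localization (SE P q)))

instance : IsScalarTower A P.Ring (P' P q).Ring :=
  inferInstanceAs (IsScalarTower A P.Ring (Localization (SE P q)))

theorem algebraMap_algebraMap (e : P.Ring) :
    algebraMap (P' P q).Ring (Localization.AtPrime q) (algebraMap P.Ring (P' P q).Ring e) =
      algebraMap B (Localization.AtPrime q) (algebraMap P.Ring B e) := by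
  have := IsLocalization.lift_eq (M := SE P q) (S := Localization (SE P q))
    (g := (algebraMap B (Localization.AtPrime q)).comp (algebraMap P.Ring B))
    (by
      rintro ⟨y, hy⟩
      exact IsLocalization.map_units (M := q.primeCompl) (Localization.AtPrime q) ⟨_, hy⟩) e
  exact this

theorem ker_le_map : (P' P q).ker ≤ P.ker.map (algebraMap P.Ring (P' P q).Ring) := by
  intro y hy
  obtain ⟨e, t, rfl⟩ := IsLocalization.exists_mk'_eq (SE P q) y
  rw [IsLocalization.mk'_mem_map_algebraMap_iff (M := SE P q)]
  have h1 : algebraMap (P' P q).Ring (Localization.AtPrime q)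
      (algebraMap P.Ring (P' P q).Ring e) = 0 := by
    rw [← IsLocalization.mk'_spec (P' P q).Ring e t, map_mul, RingHom.mem_ker.mp hy, zero_mul]
  rw [algebraMap_algebraMap, IsLocalization.map_eq_zero_iff q.primeCompl] at h1
  obtain ⟨s, hs⟩ := h1
  obtain ⟨t', ht'⟩ := P.algebraMap_surjective s.1
  refine ⟨t', ?_, ?_⟩
  · show algebraMap P.Ring B t' ∈ q.primeCompl
    rw [ht']; exact s.2
  · rw [RingHom.mem_ker, map_mul, ht']; exact hs

theorem ker_sq (hsq : P.ker ^ 2 = ⊥) : (P' P q).ker ^ 2 = ⊥ := by
  rw [eq_bot_iff]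
  calc (P' P q).ker ^ 2 ≤ (P.ker.map (algebraMap P.Ring (P' P q).Ring)) ^ 2 :=
        Ideal.pow_right_mono (ker_le_map P q) 2
    _ = (P.ker ^ 2).map (algebraMap P.Ring (P' P q).Ring) := (Ideal.map_pow _ _ _).symm
    _ = ⊥ := by rw [hsq, Ideal.map_bot]

/-- the map of extensions. -/
noncomputable def toP' : P.Hom (P' P q) where
  toRingHom := algebraMap P.Ring (P' P q).Ring
  toRingHom_algebraMap x := by
    rw [← IsScalarTower.algebraMap_apply]; rfl
  algebraMap_toRingHom x := algebraMap_algebraMap P q x

theorem kerToTensor_injective [Algebra.FormallySmooth A (Localization.AtPrime q)]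
    (hsq : P.ker ^ 2 = ⊥) :
    Function.Injective
      (KaehlerDifferential.kerToTensor A (P' P q).Ring (Localization.AtPrime q)) := by
  have hsurj : Function.Surjective
      (IsScalarTower.toAlgHom A (P' P q).Ring (Localization.AtPrime q)) :=
    (P' P q).algebraMap_surjective
  have hnil : IsNilpotent (RingHom.ker
      ((IsScalarTower.toAlgHom A (P' P q).Ring (Localization.AtPrime q) :
        (P' P q).Ring →+* Localization.AtPrime q))) := ⟨2, ker_sq P q hsq⟩
  let g := Algebra.FormallySmooth.liftOfSurjective (AlgHom.id A (Localization.AtPrime q))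
    (IsScalarTower.toAlgHom A (P' P q).Ring (Localization.AtPrime q)) hsurj hnil
  have hg : (IsScalarTower.toAlgHom A (P' P q).Ring (Localization.AtPrime q)).comp g =
      AlgHom.id A (Localization.AtPrime q) :=
    Algebra.FormallySmooth.comp_liftOfSurjective _ _ hsurj hnil
  have := retractionOfSectionOfKerSqZero_comp_kerToTensor g (ker_sq P q hsq) hg
  exact Function.LeftInverse.injective (g := retractionOfSectionOfKerSqZero g (ker_sq P q hsq) hg)
    (fun x => LinearMap.congr_fun this x)

theorem exists_mul_eq_zero [Algebra.FormallySmooth A (Localization.AtPrime q)]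
    (hsq : P.ker ^ 2 = ⊥) (x : P.ker)
    (hx : P.cotangentComplex (Cotangent.mk x) = 0) :
    ∃ t : P.Ring, algebraMap P.Ring B t ∉ q ∧ t * x.1 = 0 := by
  have h1 := CotangentSpace.map_cotangentComplex (toP' P q) (Cotangent.mk x)
  rw [hx, map_zero, Cotangent.map_mk, cotangentComplex_mk] at h1
  have hmem : algebraMap P.Ring (P' P q).Ring x.1 ∈ (P' P q).ker := by
    rw [RingHom.mem_ker, algebraMap_algebraMap, RingHom.mem_ker.mp x.2, map_zero]
  have h2 : KaehlerDifferential.kerToTensor A (P' P q).Ring (Localization.AtPrime q)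
      ⟨algebraMap P.Ring (P' P q).Ring x.1, hmem⟩ = 0 := h1.symm
  have h3 := kerToTensor_injective P q hsq (h2.trans (map_zero _).symm)
  have h4 : algebraMap P.Ring (P' P q).Ring x.1 = 0 := congrArg Subtype.val h3
  obtain ⟨c, hc⟩ := (IsLocalization.map_eq_zero_iff (SE P q) _ _).mp h4
  exact ⟨c.1, c.2, hc⟩

end loc

section glob

variable {A B : Type u} [CommRing A] [CommRing B] [Algebra A B] (P : Algebra.Extension.{u} A B)

theorem exists_functional {M : Type*} [AddCommGroup M] [Module B M] [Module.Projective B M]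
    (c : M) (hc : c ≠ 0) : ∃ φ : M →ₗ[B] B, φ c ≠ 0 := by
  obtain ⟨s, hs⟩ := Module.Projective.out (R := B) (P := M)
  have hsc : s c ≠ 0 := by
    intro h
    apply hc
    rw [← hs c, h, map_zero]
  obtain ⟨i, hi⟩ := DFunLike.ne_iff.mp hsc
  exact ⟨(Finsupp.lapply i).comp s, hi⟩

theorem injective_cotangentComplex [IsReduced B]
    (hsm : ∀ p : PrimeSpectrum B, p.asIdeal ∈ minimalPrimes B → Algebra.IsSmoothAt A p.asIdeal)
    (hsq : P.ker ^ 2 = ⊥) [Module.Projective B P.Cotangent] :
    Function.Injective P.cotangentComplex := by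
  rw [injective_iff_map_eq_zero]
  intro c hc
  by_contra hc0
  obtain ⟨φ, hφ⟩ := exists_functional (B := B) c hc0
  obtain ⟨q, hq, hφq⟩ : ∃ q ∈ minimalPrimes B, φ c ∉ q := by
    by_contra h
    push Not at h
    have h1 : φ c ∈ sInf (minimalPrimes B) := by
      rw [Ideal.mem_sInf]
      exact fun {I} hI => h I hI
    rw [minimalPrimes, Ideal.sInf_minimalPrimes] at h1
    have h2 : φ c ∈ nilradical B := h1
    rw [nilradical_eq_zero, Ideal.zero_eq_bot, Ideal.mem_bot] at h2
    exact hφ h2
  haveI : q.IsPrime := hq.1.1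
  haveI : Algebra.FormallySmooth A (Localization.AtPrime q) := hsm ⟨q, inferInstance⟩ hq
  obtain ⟨x, rfl⟩ := Cotangent.mk_surjective c
  obtain ⟨t, ht, htx⟩ := exists_mul_eq_zero P q hsq x hc
  have h0 : algebraMap P.Ring B t • Cotangent.mk x = 0 := by
    rw [algebraMap_smul, ← map_smul]
    have : t • x = 0 := Subtype.ext htx
    rw [this, map_zero]
  have h1 := congrArg φ h0
  rw [map_smul, map_zero, smul_eq_mul] at h1
  rcases hq.1.1.mem_or_mem (h1 ▸ q.zero_mem) with h | h
  · exact ht h
  · exact hφq h

end glob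

end Groth.Agent.Helper2.CotInj
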