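import Mathlib

set_option autoImplicit false
open IsLocalRing Pointwise
universe u

namespace Groth.Agent.Helper2.CotSplit
variable {A : Type u} [CommRing A] [IsLocalRing A]

/-- complement submodule -/
lemma exists_compl (a : A) (ha : a ∈ maximalIdeal A) (ha2 : a ∉ maximalIdeal A ^ 2) :
    ∃ b : Submodule A ↥(maximalIdeal A),
      b ⊔ Submodule.span A {(⟨a, ha⟩ : ↥(maximalIdeal A))} = ⊤ ∧
      b ⊓ Submodule.span A {(⟨a, ha⟩ : ↥(maximalIdeal A))} ≤
        a • (⊤ : Submodule A ↥(maximalIdeal A)) := by
  set a' : ↥(maximalIdeal A) := ⟨a, ha⟩ with ha'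
  set abar : CotangentSpace A := (maximalIdeal A).toCotangent a' with habar
  have hne : abar ≠ 0 := by
    rw [habar, Ne, Ideal.toCotangent_eq_zero]
    exact ha2
  obtain ⟨W, hW⟩ := Submodule.exists_isCompl (Submodule.span (ResidueField A) {abar})
  refine ⟨(W.restrictScalars A).comap (maximalIdeal A).toCotangent, ?_, ?_⟩
  · rw [eq_top_iff]
    intro x _
    have hx : (maximalIdeal A).toCotangent x ∈
        Submodule.span (ResidueField A) {abar} ⊔ W := by
      rw [hW.sup_eq_top]; trivial
    obtain ⟨u, hu, w, hw, huw⟩ := Submodule.mem_sup.1 hx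
    obtain ⟨c, rfl⟩ := Submodule.mem_span_singleton.1 hu
    obtain ⟨c, rfl⟩ := residue_surjective c
    rw [Submodule.mem_sup]
    refine ⟨x - c • a', ?_, c • a', Submodule.smul_mem _ _ (Submodule.mem_span_singleton_self _),
      by abel⟩
    rw [Submodule.mem_comap, Submodule.restrictScalars_mem, map_sub, map_smul, ← huw]
    have : residue A c • abar = c • abar := by
      rw [← algebraMap_smul (ResidueField A) c abar]
      rfl
    rw [this, ← habar, add_sub_cancel_left]
    exact hw
  · rintro y ⟨hyb, hyN⟩
    obtain ⟨c, rfl⟩ := Submodule.mem_span_singleton.1 hyN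
    by_cases hc : c ∈ maximalIdeal A
    · rw [Submodule.mem_smul_pointwise_iff_exists]
      refine ⟨⟨c, hc⟩, trivial, ?_⟩
      ext
      simp [ha', mul_comm]
    · exfalso
      have hu : IsUnit c := by
        by_contra h
        exact hc ((mem_maximalIdeal c).2 h)
      obtain ⟨u, rfl⟩ := hu
      have hab : a' ∈ (W.restrictScalars A).comap (maximalIdeal A).toCotangent := by
        have := Submodule.smul_mem _ (↑u⁻¹ : A) hyb
        rwa [smul_smul, Units.inv_mul, one_smul] at this
      rw [Submodule.mem_comap, Submodule.restrictScalars_mem, ← habar] at hab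
      have : abar ∈ Submodule.span (ResidueField A) {abar} ⊓ W :=
        ⟨Submodule.mem_span_singleton_self _, hab⟩
      rw [hW.inf_eq_bot] at this
      exact hne this

end Groth.Agent.Helper2.CotSplit
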