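import Mathlib
import Groth.Prelude

namespace Groth.Agent.Helper2.CotTLES

open CotT Function

universe u v w t m

variable {A : Type u} {B : Type v} {ι : Type w} {σ : Type t}
variable [CommRing A] [CommRing B] [Algebra A B]
variable (P : Algebra.Presentation A B ι σ)
variable {M' M M'' : Type m} [AddCommGroup M'] [Module B M'] [AddCommGroup M] [Module B M]
  [AddCommGroup M''] [Module B M''] (f : M' →ₗ[B] M) (g : M →ₗ[B] M'')

section General

variable {L : Type*} [AddCommGroup L] [Module B L]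

variable {f g} in
lemma exists_factor (hf : Injective f) (hfg : Exact f g) (φ : L →ₗ[B] M) (h : g ∘ₗ φ = 0) :
    ∃ φ' : L →ₗ[B] M', f ∘ₗ φ' = φ := by
  have hr : ∀ x, φ x ∈ LinearMap.range f := fun x => by
    rw [← hfg.linearMap_ker_eq]
    exact congrFun (congrArg DFunLike.coe h) x
  refine ⟨(LinearEquiv.ofInjective f hf).symm.toLinearMap ∘ₗ LinearMap.codRestrict _ φ hr, ?_⟩
  ext x
  have := LinearEquiv.apply_symm_apply (LinearEquiv.ofInjective f hf) ⟨φ x, hr x⟩
  exact congrArg Subtype.val this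

variable {f} in
lemma comp_cancel (hf : Injective f) {φ ψ : L →ₗ[B] M'} (h : f ∘ₗ φ = f ∘ₗ ψ) : φ = ψ := by
  ext x
  exact hf (congrFun (congrArg DFunLike.coe h) x)

variable {f g} in
lemma comp_comp_zero (hfg : Exact f g) (φ : L →ₗ[B] M') : g ∘ₗ (f ∘ₗ φ) = 0 := by
  ext x
  exact hfg.apply_apply_eq_zero (φ x)

end General

instance : Module.Free B (L0 P) := Module.Free.of_basis P.cotangentSpaceBasis
instance : Module.Free B (L1 P) := Module.Free.of_basis (L1basis P)

variable {g} in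
lemma exists_lift0 (hg : Surjective g) (ψ : L0 P →ₗ[B] M'') : ∃ ψ' : L0 P →ₗ[B] M, g ∘ₗ ψ' = ψ :=
  Module.projective_lifting_property g ψ hg

variable {g} in
lemma exists_lift1 (hg : Surjective g) (ψ : L1 P →ₗ[B] M'') : ∃ ψ' : L1 P →ₗ[B] M, g ∘ₗ ψ' = ψ :=
  Module.projective_lifting_property g ψ hg

section Direct

@[simp] lemma T0map_coe (x : T0 P M') : (T0map P f x : L0 P →ₗ[B] M) = f ∘ₗ (x : L0 P →ₗ[B] M') := rfl

@[simp] lemma cocycles1Map_coe (x : cocycles1 P M') :
    (cocycles1Map P f x : L1 P →ₗ[B] M) = f ∘ₗ (x : L1 P →ₗ[B] M') := rfl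

lemma T1map_mk (x : cocycles1 P M') :
    T1map P f (Submodule.Quotient.mk x) = Submodule.Quotient.mk (cocycles1Map P f x) := rfl

lemma T2map_mk (x : L2 P →ₗ[B] M') :
    T2map P f (Submodule.Quotient.mk x) = Submodule.Quotient.mk (f ∘ₗ x) := rfl

variable {f g}

lemma T0map_injective (hf : Injective f) : Injective (T0map P f) := by
  intro x y h
  apply Subtype.ext
  apply comp_cancel hf
  exact congrArg Subtype.val h

lemma T0_exact (hf : Injective f) (hfg : Exact f g) : Exact (T0map P f) (T0map P g) := by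
  intro x
  constructor
  · intro h
    have h0 : g ∘ₗ (x : L0 P →ₗ[B] M) = 0 := congrArg Subtype.val h
    obtain ⟨φ', hφ'⟩ := exists_factor hf hfg _ h0
    have hmem : φ' ∈ LinearMap.ker (d1Star P M') := by
      rw [LinearMap.mem_ker, d1Star_apply]
      apply comp_cancel hf
      rw [← LinearMap.comp_assoc, hφ', LinearMap.comp_zero]
      have := x.2
      rw [LinearMap.mem_ker, d1Star_apply] at this
      exact this
    exact ⟨⟨φ', hmem⟩, Subtype.ext hφ'⟩
  · rintro ⟨y, rfl⟩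
    apply Subtype.ext
    exact comp_comp_zero hfg _

lemma T1_exact (hf : Injective f) (hg : Surjective g) (hfg : Exact f g) :
    Exact (T1map P f) (T1map P g) := by
  intro x
  obtain ⟨φ, rfl⟩ := Submodule.Quotient.mk_surjective _ x
  constructor
  · intro h
    rw [T1map_mk, Submodule.Quotient.mk_eq_zero] at h
    obtain ⟨ψ'', hψ''⟩ := h
    replace hψ'' : ψ'' ∘ₗ d1 P = g ∘ₗ (φ : L1 P →ₗ[B] M) := hψ''
    obtain ⟨ψ, hψ⟩ := exists_lift0 P hg ψ''
    have h0 : g ∘ₗ ((φ : L1 P →ₗ[B] M) - ψ ∘ₗ d1 P) = 0 := by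
      rw [LinearMap.comp_sub, ← LinearMap.comp_assoc, hψ, hψ'', sub_self]
    obtain ⟨φ', hφ'⟩ := exists_factor hf hfg _ h0
    have hmem : φ' ∈ cocycles1 P M' := by
      rw [LinearMap.mem_ker, d2Star_apply]
      apply comp_cancel hf
      rw [← LinearMap.comp_assoc, hφ', LinearMap.comp_zero, LinearMap.sub_comp,
        LinearMap.comp_assoc, d1_comp_d2, LinearMap.comp_zero, sub_zero]
      have := φ.2
      rw [LinearMap.mem_ker, d2Star_apply] at this
      exact this
    refine ⟨Submodule.Quotient.mk ⟨φ', hmem⟩, ?_⟩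
    rw [T1map_mk, Submodule.Quotient.eq]
    refine ⟨-ψ, ?_⟩
    change (-ψ) ∘ₗ d1 P = f ∘ₗ φ' - (φ : L1 P →ₗ[B] M)
    rw [hφ', LinearMap.neg_comp]
    abel
  · rintro ⟨y, hy⟩
    obtain ⟨φ', rfl⟩ := Submodule.Quotient.mk_surjective _ y
    rw [T1map_mk] at hy
    rw [← hy, T1map_mk]
    have : cocycles1Map P g (cocycles1Map P f φ') = 0 := by
      apply Subtype.ext
      exact comp_comp_zero hfg _
    rw [this, Submodule.Quotient.mk_zero]

lemma T2_exact (hf : Injective f) (hg : Surjective g) (hfg : Exact f g) :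
    Exact (T2map P f) (T2map P g) := by
  intro x
  obtain ⟨lam, rfl⟩ := Submodule.Quotient.mk_surjective _ x
  constructor
  · intro h
    rw [T2map_mk, Submodule.Quotient.mk_eq_zero] at h
    obtain ⟨φ'', hφ''⟩ := h
    replace hφ'' : φ'' ∘ₗ d2 P = g ∘ₗ lam := hφ''
    obtain ⟨φ, hφ⟩ := exists_lift1 P hg φ''
    have h0 : g ∘ₗ (lam - φ ∘ₗ d2 P) = 0 := by
      rw [LinearMap.comp_sub, ← LinearMap.comp_assoc, hφ, hφ'', sub_self]
    obtain ⟨lam', hlam'⟩ := exists_factor hf hfg _ h0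
    refine ⟨Submodule.Quotient.mk lam', ?_⟩
    rw [T2map_mk, Submodule.Quotient.eq]
    refine ⟨-φ, ?_⟩
    change (-φ) ∘ₗ d2 P = f ∘ₗ lam' - lam
    rw [hlam', LinearMap.neg_comp]
    abel
  · rintro ⟨y, hy⟩
    obtain ⟨lam', rfl⟩ := Submodule.Quotient.mk_surjective _ y
    rw [T2map_mk] at hy
    rw [← hy, T2map_mk, comp_comp_zero hfg, Submodule.Quotient.mk_zero]

end Direct

section Snake0

/-- `d₁^*` with values in the cocycles. -/
noncomputable def i0 (N : Type m) [AddCommGroup N] [Module B N] : (L0 P →ₗ[B] N) →ₗ[B] cocycles1 P N :=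
  LinearMap.codRestrict (cocycles1 P N) (d1Star P N) (fun ψ => by
    rw [LinearMap.mem_ker, ← LinearMap.comp_apply, d2Star_comp_d1Star]; rfl)

@[simp] lemma i0_coe (N : Type m) [AddCommGroup N] [Module B N] (ψ : L0 P →ₗ[B] N) :
    (i0 P N ψ : L1 P →ₗ[B] N) = ψ ∘ₗ d1 P := rfl

/-- post-composition on `Hom(L₀, -)`. -/
noncomputable def post0 : (L0 P →ₗ[B] M') →ₗ[B] (L0 P →ₗ[B] M) := LinearMap.llcomp B (L0 P) M' M f

@[simp] lemma post0_apply (ψ : L0 P →ₗ[B] M') : post0 P f ψ = f ∘ₗ ψ := rfl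

variable {f g}

lemma post0_exact (hf : Injective f) (hfg : Exact f g) : Exact (post0 P f) (post0 P g) := by
  intro x
  constructor
  · intro h
    obtain ⟨φ', hφ'⟩ := exists_factor hf hfg x h
    exact ⟨φ', hφ'⟩
  · rintro ⟨y, rfl⟩
    exact comp_comp_zero hfg _

lemma cocycles1Map_exact (hf : Injective f) (hfg : Exact f g) :
    Exact (cocycles1Map P f) (cocycles1Map P g) := by
  intro x
  constructor
  · intro h
    have h0 : g ∘ₗ (x : L1 P →ₗ[B] M) = 0 := congrArg Subtype.val h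
    obtain ⟨φ', hφ'⟩ := exists_factor hf hfg _ h0
    have hmem : φ' ∈ cocycles1 P M' := by
      rw [LinearMap.mem_ker, d2Star_apply]
      apply comp_cancel hf
      rw [← LinearMap.comp_assoc, hφ', LinearMap.comp_zero]
      have := x.2
      rw [LinearMap.mem_ker, d2Star_apply] at this
      exact this
    exact ⟨⟨φ', hmem⟩, Subtype.ext hφ'⟩
  · rintro ⟨y, rfl⟩
    apply Subtype.ext
    exact comp_comp_zero hfg _

lemma cocycles1Map_injective (hf : Injective f) : Injective (cocycles1Map P f) := by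
  intro x y h
  apply Subtype.ext
  apply comp_cancel hf
  exact congrArg Subtype.val h

lemma post0_surjective (hg : Surjective g) : Surjective (post0 P g) := fun ψ =>
  exists_lift0 P hg ψ

lemma exact_subtype_i0 (N : Type m) [AddCommGroup N] [Module B N] :
    Exact (LinearMap.ker (d1Star P N)).subtype (i0 P N) := by
  intro x
  constructor
  · intro h
    have hx : x ∈ LinearMap.ker (d1Star P N) := by
      rw [LinearMap.mem_ker]
      exact congrArg Subtype.val h
    exact ⟨⟨x, hx⟩, rfl⟩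
  · rintro ⟨y, rfl⟩
    apply Subtype.ext
    exact y.2

lemma exact_i0_mkQ (N : Type m) [AddCommGroup N] [Module B N] :
    Exact (i0 P N) (coboundaries1 P N).mkQ := by
  intro z
  rw [Submodule.mkQ_apply, Submodule.Quotient.mk_eq_zero]
  constructor
  · rintro ⟨ψ, hψ⟩
    exact ⟨ψ, Subtype.ext hψ⟩
  · rintro ⟨ψ, rfl⟩
    exact ⟨ψ, rfl⟩

theorem exists_δ₀ (hf : Injective f) (hg : Surjective g) (hfg : Exact f g) :
    ∃ δ₀ : T0 P M'' →ₗ[B] T1 P M', Exact (T0map P g) δ₀ ∧ Exact δ₀ (T1map P f) := by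
  have h₁ : (cocycles1Map P f).comp (i0 P M') = (i0 P M).comp (post0 P f) := by
    ext ψ : 1
    apply Subtype.ext
    exact LinearMap.comp_assoc _ _ _
  have h₂ : (cocycles1Map P g).comp (i0 P M) = (i0 P M'').comp (post0 P g) := by
    ext ψ : 1
    apply Subtype.ext
    exact LinearMap.comp_assoc _ _ _
  refine ⟨SnakeLemma.δ' (i0 P M') (i0 P M) (i0 P M'') (post0 P f) (post0 P g) (post0_exact P hf hfg)
    (cocycles1Map P f) (cocycles1Map P g) (cocycles1Map_exact P hf hfg) h₁ h₂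
    (LinearMap.ker (d1Star P M'')).subtype (exact_subtype_i0 P M'')
    (coboundaries1 P M').mkQ (exact_i0_mkQ P M') (post0_surjective P hg)
    (cocycles1Map_injective P hf), ?_, ?_⟩
  · exact SnakeLemma.exact_δ'_right (i0 P M') (i0 P M) (i0 P M'') (post0 P f) (post0 P g)
      (post0_exact P hf hfg)
      (cocycles1Map P f) (cocycles1Map P g) (cocycles1Map_exact P hf hfg) h₁ h₂
      (LinearMap.ker (d1Star P M)).subtype (exact_subtype_i0 P M)
      (LinearMap.ker (d1Star P M'')).subtype (exact_subtype_i0 P M'')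
      (coboundaries1 P M').mkQ (exact_i0_mkQ P M') (post0_surjective P hg)
      (cocycles1Map_injective P hf) (T0map P g) rfl (Submodule.injective_subtype _)
  · exact SnakeLemma.exact_δ'_left (i0 P M') (i0 P M) (i0 P M'') (post0 P f) (post0 P g)
      (post0_exact P hf hfg)
      (cocycles1Map P f) (cocycles1Map P g) (cocycles1Map_exact P hf hfg) h₁ h₂
      (LinearMap.ker (d1Star P M'')).subtype (exact_subtype_i0 P M'')
      (coboundaries1 P M').mkQ (exact_i0_mkQ P M')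
      (coboundaries1 P M).mkQ (exact_i0_mkQ P M) (post0_surjective P hg)
      (cocycles1Map_injective P hf) (T1map P f) rfl (Submodule.mkQ_surjective _)

end Snake0

section Snake1

/-- `Hom(L₁, N)` modulo coboundaries. -/
abbrev Q1 (N : Type m) [AddCommGroup N] [Module B N] : Type _ :=
  (L1 P →ₗ[B] N) ⧸ LinearMap.range (d1Star P N)

/-- post-composition on `Q1`. -/
noncomputable def postQ : Q1 P M' →ₗ[B] Q1 P M :=
  Submodule.mapQ _ _ (LinearMap.llcomp B (L1 P) M' M f) (by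
    rintro _ ⟨ψ, rfl⟩
    exact ⟨f ∘ₗ ψ, LinearMap.comp_assoc _ _ _⟩)

lemma postQ_mk (φ : L1 P →ₗ[B] M') :
    postQ P f (Submodule.Quotient.mk φ) = Submodule.Quotient.mk (f ∘ₗ φ) := rfl

/-- `d₂^*` on `Q1`. -/
noncomputable def i1 (N : Type m) [AddCommGroup N] [Module B N] : Q1 P N →ₗ[B] (L2 P →ₗ[B] N) :=
  Submodule.liftQ _ (d2Star P N) (by
    rintro _ ⟨ψ, rfl⟩
    rw [LinearMap.mem_ker, ← LinearMap.comp_apply, d2Star_comp_d1Star]; rfl)

lemma i1_mk (N : Type m) [AddCommGroup N] [Module B N] (φ : L1 P →ₗ[B] N) :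
    i1 P N (Submodule.Quotient.mk φ) = φ ∘ₗ d2 P := rfl

/-- post-composition on `Hom(L₂, -)`. -/
noncomputable def post2 : (L2 P →ₗ[B] M') →ₗ[B] (L2 P →ₗ[B] M) := LinearMap.llcomp B (L2 P) M' M f

@[simp] lemma post2_apply (ψ : L2 P →ₗ[B] M') : post2 P f ψ = f ∘ₗ ψ := rfl

/-- inclusion of `T¹` in `Q1`. -/
noncomputable def ι1 (N : Type m) [AddCommGroup N] [Module B N] : T1 P N →ₗ[B] Q1 P N :=
  Submodule.mapQ (coboundaries1 P N) (LinearMap.range (d1Star P N)) (cocycles1 P N).subtype le_rfl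

lemma ι1_mk (N : Type m) [AddCommGroup N] [Module B N] (φ : cocycles1 P N) :
    ι1 P N (Submodule.Quotient.mk φ) = Submodule.Quotient.mk (φ : L1 P →ₗ[B] N) := rfl

lemma ι1_injective (N : Type m) [AddCommGroup N] [Module B N] : Injective (ι1 P N) := by
  rw [injective_iff_map_eq_zero]
  intro x hx
  obtain ⟨φ, rfl⟩ := Submodule.Quotient.mk_surjective _ x
  rw [ι1_mk, Submodule.Quotient.mk_eq_zero] at hx
  rw [Submodule.Quotient.mk_eq_zero]
  exact hx

variable {f g}

lemma postQ_exact (hf : Injective f) (hg : Surjective g) (hfg : Exact f g) :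
    Exact (postQ P f) (postQ P g) := by
  intro x
  obtain ⟨φ, rfl⟩ := Submodule.Quotient.mk_surjective _ x
  constructor
  · intro h
    rw [postQ_mk, Submodule.Quotient.mk_eq_zero] at h
    obtain ⟨ψ'', hψ''⟩ := h
    replace hψ'' : ψ'' ∘ₗ d1 P = g ∘ₗ φ := hψ''
    obtain ⟨ψ, hψ⟩ := exists_lift0 P hg ψ''
    have h0 : g ∘ₗ (φ - ψ ∘ₗ d1 P) = 0 := by
      rw [LinearMap.comp_sub, ← LinearMap.comp_assoc, hψ, hψ'', sub_self]
    obtain ⟨φ', hφ'⟩ := exists_factor hf hfg _ h0
    refine ⟨Submodule.Quotient.mk φ', ?_⟩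
    rw [postQ_mk, Submodule.Quotient.eq]
    refine ⟨-ψ, ?_⟩
    change (-ψ) ∘ₗ d1 P = f ∘ₗ φ' - φ
    rw [hφ', LinearMap.neg_comp]
    abel
  · rintro ⟨y, hy⟩
    obtain ⟨φ', rfl⟩ := Submodule.Quotient.mk_surjective _ y
    rw [postQ_mk] at hy
    rw [← hy, postQ_mk, comp_comp_zero hfg, Submodule.Quotient.mk_zero]

lemma postQ_surjective (hg : Surjective g) : Surjective (postQ P g) := by
  intro x
  obtain ⟨φ'', rfl⟩ := Submodule.Quotient.mk_surjective _ x
  obtain ⟨φ, hφ⟩ := exists_lift1 P hg φ''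
  exact ⟨Submodule.Quotient.mk φ, by rw [postQ_mk, hφ]⟩

lemma post2_exact (hf : Injective f) (hfg : Exact f g) : Exact (post2 P f) (post2 P g) := by
  intro x
  constructor
  · intro h
    obtain ⟨φ', hφ'⟩ := exists_factor hf hfg x h
    exact ⟨φ', hφ'⟩
  · rintro ⟨y, rfl⟩
    exact comp_comp_zero hfg _

lemma post2_injective (hf : Injective f) : Injective (post2 P f) := fun _ _ h => comp_cancel hf h

lemma exact_ι1_i1 (N : Type m) [AddCommGroup N] [Module B N] : Exact (ι1 P N) (i1 P N) := by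
  intro x
  obtain ⟨φ, rfl⟩ := Submodule.Quotient.mk_surjective _ x
  rw [i1_mk]
  constructor
  · intro h
    have hφ : φ ∈ cocycles1 P N := by
      rw [LinearMap.mem_ker, d2Star_apply]; exact h
    exact ⟨Submodule.Quotient.mk ⟨φ, hφ⟩, rfl⟩
  · rintro ⟨y, hy⟩
    obtain ⟨φ', rfl⟩ := Submodule.Quotient.mk_surjective _ y
    rw [ι1_mk, Submodule.Quotient.eq] at hy
    obtain ⟨ψ, hψ⟩ := hy
    replace hψ : ψ ∘ₗ d1 P = (φ' : L1 P →ₗ[B] N) - φ := hψ
    have h1 : (φ' : L1 P →ₗ[B] N) ∘ₗ d2 P = 0 := by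
      have := φ'.2
      rw [LinearMap.mem_ker, d2Star_apply] at this
      exact this
    have h2 : φ = (φ' : L1 P →ₗ[B] N) - ψ ∘ₗ d1 P := by rw [hψ]; abel
    rw [h2, LinearMap.sub_comp, h1, LinearMap.comp_assoc, d1_comp_d2, LinearMap.comp_zero, sub_zero]

lemma exact_i1_mkQ (N : Type m) [AddCommGroup N] [Module B N] :
    Exact (i1 P N) (LinearMap.range (d2Star P N)).mkQ := by
  intro z
  rw [Submodule.mkQ_apply, Submodule.Quotient.mk_eq_zero]
  constructor
  · rintro ⟨φ, hφ⟩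
    exact ⟨Submodule.Quotient.mk φ, hφ⟩
  · rintro ⟨x, rfl⟩
    obtain ⟨φ, rfl⟩ := Submodule.Quotient.mk_surjective _ x
    exact ⟨φ, rfl⟩

theorem exists_δ₁ (hf : Injective f) (hg : Surjective g) (hfg : Exact f g) :
    ∃ δ₁ : T1 P M'' →ₗ[B] T2 P M', Exact (T1map P g) δ₁ ∧ Exact δ₁ (T2map P f) := by
  have h₁ : (post2 P f).comp (i1 P M') = (i1 P M).comp (postQ P f) := by
    refine Submodule.linearMap_qext _ ?_
    ext φ : 1
    exact (LinearMap.comp_assoc _ _ _).symm
  have h₂ : (post2 P g).comp (i1 P M) = (i1 P M'').comp (postQ P g) := by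
    refine Submodule.linearMap_qext _ ?_
    ext φ : 1
    exact (LinearMap.comp_assoc _ _ _).symm
  have hF : (postQ P g).comp (ι1 P M) = (ι1 P M'').comp (T1map P g) := by
    refine Submodule.linearMap_qext _ ?_
    ext φ : 1
    rfl
  refine ⟨SnakeLemma.δ' (i1 P M') (i1 P M) (i1 P M'') (postQ P f) (postQ P g)
    (postQ_exact P hf hg hfg)
    (post2 P f) (post2 P g) (post2_exact P hf hfg) h₁ h₂
    (ι1 P M'') (exact_ι1_i1 P M'')
    (LinearMap.range (d2Star P M')).mkQ (exact_i1_mkQ P M') (postQ_surjective P hg)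
    (post2_injective P hf), ?_, ?_⟩
  · exact SnakeLemma.exact_δ'_right (i1 P M') (i1 P M) (i1 P M'') (postQ P f) (postQ P g)
      (postQ_exact P hf hg hfg)
      (post2 P f) (post2 P g) (post2_exact P hf hfg) h₁ h₂
      (ι1 P M) (exact_ι1_i1 P M)
      (ι1 P M'') (exact_ι1_i1 P M'')
      (LinearMap.range (d2Star P M')).mkQ (exact_i1_mkQ P M') (postQ_surjective P hg)
      (post2_injective P hf) (T1map P g) hF (ι1_injective P M'')
  · exact SnakeLemma.exact_δ'_left (i1 P M') (i1 P M) (i1 P M'') (postQ P f) (postQ P g)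
      (postQ_exact P hf hg hfg)
      (post2 P f) (post2 P g) (post2_exact P hf hfg) h₁ h₂
      (ι1 P M'') (exact_ι1_i1 P M'')
      (LinearMap.range (d2Star P M')).mkQ (exact_i1_mkQ P M')
      (LinearMap.range (d2Star P M)).mkQ (exact_i1_mkQ P M) (postQ_surjective P hg)
      (post2_injective P hf) (T2map P f) rfl (Submodule.mkQ_surjective _)

end Snake1

theorem main (hf : Injective f) (hg : Surjective g) (hfg : Exact f g) :
    Injective (T0map P f) ∧ Exact (T0map P f) (T0map P g) ∧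
      Exact (T1map P f) (T1map P g) ∧ Exact (T2map P f) (T2map P g) ∧
      ∃ (δ₀ : T0 P M'' →ₗ[B] T1 P M') (δ₁ : T1 P M'' →ₗ[B] T2 P M'),
        Exact (T0map P g) δ₀ ∧ Exact δ₀ (T1map P f) ∧
        Exact (T1map P g) δ₁ ∧ Exact δ₁ (T2map P f) := by
  obtain ⟨δ₀, h0a, h0b⟩ := exists_δ₀ P hf hg hfg
  obtain ⟨δ₁, h1a, h1b⟩ := exists_δ₁ P hf hg hfg
  exact ⟨T0map_injective P hf, T0_exact P hf hfg, T1_exact P hf hg hfg, T2_exact P hf hg hfg,
    δ₀, δ₁, h0a, h0b, h1a, h1b⟩

end Groth.Agent.Helper2.CotTLES
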