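import Mathlib
import Groth.Prelude
import Groth.Agent.Helper2.CotTGen
import Groth.Agent.Helper2.CotTIndep
import Groth.Agent.Helper2.CotTIndep01

namespace Groth.Agent.Helper2.CotTVan

open CotT Function TensorProduct MvPolynomial Groth.Agent.Helper2.CotTGen
  Groth.Agent.Helper2.CotTIndep Groth.Agent.Helper2.CotTIndep01

noncomputable section

universe u v w t m

variable {A : Type u} {B : Type v} [CommRing A] [CommRing B] [Algebra A B]

section NoRel

variable {ι : Type w} {σ : Type t} (P : Algebra.Presentation A B ι σ) [IsEmpty σ]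
variable (M : Type m) [AddCommGroup M] [Module B M]

lemma relMod_eq_zero (f : relMod P) : f = 0 := Subsingleton.elim _ _

lemma L1_eq_zero (x : L1 P) : x = 0 := by
  obtain ⟨f, rfl⟩ := exists_one_tmul P x
  rw [relMod_eq_zero P f, TensorProduct.tmul_zero]

lemma L2_eq_zero (x : L2 P) : x = 0 := by
  obtain ⟨y, rfl⟩ := Submodule.Quotient.mk_surjective _ x
  induction y using TensorProduct.induction_on with
  | zero => rfl
  | add y z hy hz => rw [Submodule.Quotient.mk_add, hy, hz, add_zero]
  | tmul b q =>
    have : q = 0 := Subtype.ext (relMod_eq_zero P _)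
    rw [this, TensorProduct.tmul_zero]; rfl

theorem subsingleton_T1_of_isEmpty : Subsingleton (T1 P M) := by
  refine ⟨fun x y => ?_⟩
  obtain ⟨c, rfl⟩ := Submodule.Quotient.mk_surjective _ x
  obtain ⟨c', rfl⟩ := Submodule.Quotient.mk_surjective _ y
  congr 1
  apply Subtype.ext
  refine LinearMap.ext fun z => ?_
  rw [L1_eq_zero P z, map_zero, map_zero]

theorem subsingleton_T2_of_isEmpty : Subsingleton (T2 P M) := by
  refine ⟨fun x y => ?_⟩
  obtain ⟨c, rfl⟩ := Submodule.Quotient.mk_surjective _ x
  obtain ⟨c', rfl⟩ := Submodule.Quotient.mk_surjective _ y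
  congr 1
  refine LinearMap.ext fun z => ?_
  rw [L2_eq_zero P z, map_zero, map_zero]

end NoRel

section Poly

variable {κ : Type*} (e : MvPolynomial κ A ≃ₐ[A] B)

lemma aeval_e (p : MvPolynomial κ A) : aeval (fun k => e (X k)) p = e p := by
  have : (aeval fun k => e (X k) : MvPolynomial κ A →ₐ[A] B) = (e : MvPolynomial κ A →ₐ[A] B) := by
    apply MvPolynomial.algHom_ext; intro k; rw [aeval_X]; rfl
  exact congrFun (congrArg DFunLike.coe this) p

/-- the presentation of a polynomial algebra with no relations. -/
def polyPres : Algebra.Presentation A B κ PEmpty.{1} where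
  toGenerators := Algebra.Generators.ofSurjective (fun k => e (X k)) (fun b =>
    ⟨e.symm b, by rw [aeval_e, e.apply_symm_apply]⟩)
  relation := PEmpty.elim
  span_range_relation_eq_ker := by
    rw [Algebra.Generators.ker_eq_ker_aeval_val]
    have h1 : Set.range (PEmpty.elim : PEmpty.{1} → MvPolynomial κ A) = ∅ := Set.range_eq_empty _
    rw [h1, Ideal.span_empty]
    symm
    rw [eq_bot_iff]
    intro x hx
    rw [RingHom.mem_ker] at hx
    change aeval (fun k => e (X k)) x = 0 at hx
    rw [aeval_e] at hx
    exact (Submodule.mem_bot _).mpr (e.injective (by rw [map_zero]; exact hx))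

include e in
theorem s12287 (M : Type m) [AddCommGroup M] [Module B M] :
    Subsingleton (CotT.T1 (CotT.canon A B) M) ∧ Subsingleton (CotT.T2 (CotT.canon A B) M) := by
  obtain ⟨e1⟩ := nonempty_T1_equiv (CotT.canon A B) M (polyPres e)
  obtain ⟨e2⟩ := nonempty_T2_equiv_of_presentations (CotT.canon A B) (polyPres e) M
  haveI := subsingleton_T1_of_isEmpty (polyPres e) M
  haveI := subsingleton_T2_of_isEmpty (polyPres e) M
  exact ⟨e1.toEquiv.subsingleton, e2.toEquiv.subsingleton⟩

end Poly

end

end Groth.Agent.Helper2.CotTVan
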