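import Mathlib
import Groth.Prelude.Def_Found
import Groth.Prelude.Def_EGA4b
import Groth.Agent.Helper2.AdicHom
set_option autoImplicit false
universe u
open IsLocalRing TensorProduct

namespace Groth.Agent.Helper2.CplBC

section
variable (A B : Type u) [CommRing A] [CommRing B] [IsNoetherianRing A]
    [IsNoetherianRing B] [IsLocalRing A] [IsLocalRing B] [Algebra A B] [IsLocalHom (algebraMap A B)]

omit [IsNoetherianRing B] in
/-- `B → (B ⊗_A Â) / m_B (B ⊗_A Â)` is surjective. -/
theorem exists_sub_mem (x : B ⊗[A] EGA4.Cpl A) :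
    ∃ b : B, x - algebraMap B (B ⊗[A] EGA4.Cpl A) b ∈
      (maximalIdeal B).map (algebraMap B (B ⊗[A] EGA4.Cpl A)) := by
  have hle : ((maximalIdeal A).map (algebraMap A (EGA4.Cpl A))).map
      (Algebra.TensorProduct.includeRight : EGA4.Cpl A →ₐ[A] B ⊗[A] EGA4.Cpl A).toRingHom ≤
      (maximalIdeal B).map (algebraMap B (B ⊗[A] EGA4.Cpl A)) := by
    rw [Ideal.map_map, Ideal.map_le_iff_le_comap]
    intro a ha
    rw [Ideal.mem_comap]
    have h1 : ((Algebra.TensorProduct.includeRight : EGA4.Cpl A →ₐ[A] B ⊗[A] EGA4.Cpl A).toRingHom.comp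
        (algebraMap A (EGA4.Cpl A))) a =
        algebraMap B (B ⊗[A] EGA4.Cpl A) (algebraMap A B a) := by
      rw [RingHom.comp_apply]
      change (Algebra.TensorProduct.includeRight : EGA4.Cpl A →ₐ[A] B ⊗[A] EGA4.Cpl A)
        (algebraMap A (EGA4.Cpl A) a) = _
      rw [AlgHom.commutes, ← IsScalarTower.algebraMap_apply]
    rw [h1]
    apply Ideal.mem_map_of_mem
    exact _root_.map_nonunit (algebraMap A B) a ha
  induction x using TensorProduct.induction_on with
  | zero => exact ⟨0, by simp⟩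
  | tmul b z =>
    obtain ⟨a, ha⟩ := Groth.Agent.Helper2.AdicHom.exists_sub_mem A (maximalIdeal A)
      (maximalIdeal (EGA4.Cpl A)) z
    rw [AdicCompletion.maximalIdeal_eq_map] at ha
    refine ⟨a • b, ?_⟩
    have h2 : b ⊗ₜ[A] z - algebraMap B (B ⊗[A] EGA4.Cpl A) (a • b) =
        algebraMap B (B ⊗[A] EGA4.Cpl A) b *
          (Algebra.TensorProduct.includeRight : EGA4.Cpl A →ₐ[A] B ⊗[A] EGA4.Cpl A)
            (z - algebraMap A (EGA4.Cpl A) a) := by
      rw [Algebra.TensorProduct.algebraMap_apply, Algebra.TensorProduct.algebraMap_apply,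
        Algebra.TensorProduct.includeRight_apply, Algebra.TensorProduct.tmul_mul_tmul,
        Algebra.algebraMap_self, RingHom.id_apply, RingHom.id_apply, mul_one, one_mul,
        TensorProduct.tmul_sub, Algebra.algebraMap_eq_smul_one, TensorProduct.tmul_smul,
        TensorProduct.smul_tmul']
    rw [h2]
    exact Ideal.mul_mem_left _ _ (hle (Ideal.mem_map_of_mem
      (Algebra.TensorProduct.includeRight : EGA4.Cpl A →ₐ[A] B ⊗[A] EGA4.Cpl A).toRingHom ha))
  | add x y hx hy =>
    obtain ⟨b₁, h₁⟩ := hx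
    obtain ⟨b₂, h₂⟩ := hy
    refine ⟨b₁ + b₂, ?_⟩
    have : x + y - algebraMap B (B ⊗[A] EGA4.Cpl A) (b₁ + b₂) =
        (x - algebraMap B _ b₁) + (y - algebraMap B _ b₂) := by
      rw [map_add]; ring
    rw [this]
    exact Ideal.add_mem _ h₁ h₂

/-- the statement S4739 (the hypothesis `h2` there is not needed) -/
theorem main [IsNoetherianRing (B ⊗[A] EGA4.Cpl A)] (n' : Ideal (B ⊗[A] EGA4.Cpl A)) [n'.IsPrime]
    (h1 : n'.comap (algebraMap B (B ⊗[A] EGA4.Cpl A)) = maximalIdeal B) :
    Nonempty (EGA4.Cpl B ≃+* EGA4.Cpl (Localization.AtPrime n')) := by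
  have hge : (maximalIdeal B).map (algebraMap B (B ⊗[A] EGA4.Cpl A)) ≤ n' := by
    rw [Ideal.map_le_iff_le_comap, h1]
  have hn' : n' = (maximalIdeal B).map (algebraMap B (B ⊗[A] EGA4.Cpl A)) := by
    apply le_antisymm
    · intro x hx
      obtain ⟨b, hb⟩ := exists_sub_mem A B x
      have hb' : algebraMap B (B ⊗[A] EGA4.Cpl A) b ∈ n' := by
        have := n'.sub_mem hx (hge hb)
        rwa [sub_sub_cancel] at this
      have hbm : b ∈ maximalIdeal B := by
        rw [← h1]
        exact Ideal.mem_comap.mpr hb'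
      have := Ideal.add_mem _ hb (Ideal.mem_map_of_mem (algebraMap B (B ⊗[A] EGA4.Cpl A)) hbm)
      rwa [sub_add_cancel] at this
    · exact hge
  haveI hmax : n'.IsMaximal := by
    rw [Ideal.isMaximal_iff]
    refine ⟨fun h => (Ideal.IsPrime.ne_top inferInstance) ((Ideal.eq_top_iff_one _).mpr h), ?_⟩
    intro J x hJ hx hxJ
    obtain ⟨b, hb⟩ := exists_sub_mem A B x
    rw [← hn'] at hb
    have hbu : IsUnit b := by
      by_contra hnu
      have hbm : b ∈ maximalIdeal B := hnu
      have hb' : algebraMap B (B ⊗[A] EGA4.Cpl A) b ∈ n' := by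
        rw [← h1] at hbm
        exact hbm
      exact hx (by have := n'.add_mem hb hb'; rwa [sub_add_cancel] at this)
    have h3 : algebraMap B (B ⊗[A] EGA4.Cpl A) b ∈ J := by
      have := J.sub_mem hxJ (hJ hb)
      rwa [sub_sub_cancel] at this
    have h4 := J.mul_mem_left (algebraMap B (B ⊗[A] EGA4.Cpl A) ((hbu.unit⁻¹ : Bˣ) : B)) h3
    rwa [← map_mul, IsUnit.val_inv_mul, map_one] at h4
  have hc : (maximalIdeal (Localization.AtPrime n')).comap
      (algebraMap (B ⊗[A] EGA4.Cpl A) (Localization.AtPrime n')) = n' :=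
    Localization.AtPrime.under_maximalIdeal (I := n')
  haveI hloc : IsLocalHom (algebraMap B (Localization.AtPrime n')) := by
    apply ((IsLocalRing.local_hom_TFAE (algebraMap B (Localization.AtPrime n'))).out 0 4).mpr
    rw [IsScalarTower.algebraMap_eq B (B ⊗[A] EGA4.Cpl A) (Localization.AtPrime n'),
      ← Ideal.comap_comap, hc, h1]
  haveI : Module.Flat B (Localization.AtPrime n') :=
    Module.Flat.trans B (B ⊗[A] EGA4.Cpl A) (Localization.AtPrime n')
  have hm : (maximalIdeal B).map (algebraMap B (Localization.AtPrime n')) =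
      maximalIdeal (Localization.AtPrime n') := by
    rw [← Localization.AtPrime.map_eq_maximalIdeal,
      IsScalarTower.algebraMap_eq B (B ⊗[A] EGA4.Cpl A) (Localization.AtPrime n'),
      ← Ideal.map_map, ← hn']
  have hk : Function.Surjective (ResidueField.map (R := B) (S := Localization.AtPrime n')
      (algebraMap B (Localization.AtPrime n'))) := by
    intro y
    obtain ⟨xbar, rfl⟩ := (Ideal.bijective_algebraMap_quotient_residueField n').2 y
    obtain ⟨x, rfl⟩ := Ideal.Quotient.mk_surjective xbar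
    obtain ⟨b, hb⟩ := exists_sub_mem A B x
    rw [← hn'] at hb
    refine ⟨residue B b, ?_⟩
    rw [ResidueField.map_residue,
      IsScalarTower.algebraMap_apply B (B ⊗[A] EGA4.Cpl A) (Localization.AtPrime n')]
    have h5 : Ideal.Quotient.mk n' x = Ideal.Quotient.mk n' (algebraMap B (B ⊗[A] EGA4.Cpl A) b) :=
      (Ideal.Quotient.mk_eq_mk_iff_sub_mem _ _).mpr hb
    rw [h5]
    rfl
  obtain ⟨e⟩ := Groth.Agent.Helper2.AdicHom.nonempty_cpl_algEquiv B (Localization.AtPrime n') hm hk
  exact ⟨e.toRingEquiv⟩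

end
end Groth.Agent.Helper2.CplBC
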