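import Mathlib

set_option autoImplicit false

namespace Groth.Agent.Helper2.DEq1

open CategoryTheory Limits

universe w₁ w₂ w₃ v₁ v₂ v₃ u₁ u₂ u₃

variable {C₁ : Type u₁} [Category.{v₁} C₁] [Abelian C₁] [HasDerivedCategory.{w₁} C₁]
  {C₂ : Type u₂} [Category.{v₂} C₂] [Abelian C₂] [HasDerivedCategory.{w₂} C₂]
  {C₃ : Type u₃} [Category.{v₃} C₃] [Abelian C₃] [HasDerivedCategory.{w₃} C₃]

/-- two functors out of the derived category agreeing after `Q` are isomorphic -/
noncomputable def natIsoOfQ {E : Type*} [Category E] (F₁ F₂ : DerivedCategory C₁ ⥤ E)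
    (e : DerivedCategory.Q ⋙ F₁ ≅ DerivedCategory.Q ⋙ F₂) : F₁ ≅ F₂ :=
  Localization.liftNatIso DerivedCategory.Q (HomologicalComplex.quasiIso C₁ (ComplexShape.up ℤ))
    (DerivedCategory.Q ⋙ F₁) (DerivedCategory.Q ⋙ F₂) F₁ F₂ e

section

variable (F : C₁ ⥤ C₂) [F.Additive] [PreservesFiniteLimits F] [PreservesFiniteColimits F]
  (G : C₂ ⥤ C₃) [G.Additive] [PreservesFiniteLimits G] [PreservesFiniteColimits G]
  (H : C₁ ⥤ C₃) [H.Additive] [PreservesFiniteLimits H] [PreservesFiniteColimits H]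

/-- `F ⋙ G ≅ H` induces `F.mapD ⋙ G.mapD ≅ H.mapD` -/
noncomputable def mapDCompIso (e : F ⋙ G ≅ H) :
    F.mapDerivedCategory ⋙ G.mapDerivedCategory ≅ H.mapDerivedCategory :=
  natIsoOfQ _ _ ((Functor.associator _ _ _).symm ≪≫
    Functor.isoWhiskerRight F.mapDerivedCategoryFactors G.mapDerivedCategory ≪≫
    Functor.associator _ _ _ ≪≫
    Functor.isoWhiskerLeft _ G.mapDerivedCategoryFactors ≪≫
    (Functor.associator _ _ _).symm ≪≫
    Functor.isoWhiskerRight (Functor.mapHomologicalComplexCompIso e (ComplexShape.up ℤ))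
      DerivedCategory.Q ≪≫
    H.mapDerivedCategoryFactors.symm)

end

variable (C₁) in
/-- the identity functor induces the identity on derived categories -/
noncomputable def mapDIdIso : (𝟭 C₁).mapDerivedCategory ≅ 𝟭 (DerivedCategory C₁) :=
  natIsoOfQ _ _ ((𝟭 C₁).mapDerivedCategoryFactors ≪≫
    Functor.isoWhiskerRight (Functor.mapHomologicalComplexIdIso C₁ (ComplexShape.up ℤ))
      DerivedCategory.Q ≪≫ Functor.leftUnitor _ ≪≫ (Functor.rightUnitor _).symm)

section Equiv

variable (e : C₁ ≌ C₂) [e.functor.Additive] [PreservesFiniteLimits e.functor]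
  [PreservesFiniteColimits e.functor] [e.inverse.Additive] [PreservesFiniteLimits e.inverse]
  [PreservesFiniteColimits e.inverse]

/-- an equivalence of abelian categories induces an equivalence of derived categories -/
noncomputable def mapDEquiv : DerivedCategory C₁ ≌ DerivedCategory C₂ :=
  CategoryTheory.Equivalence.mk e.functor.mapDerivedCategory e.inverse.mapDerivedCategory
    ((mapDIdIso C₁).symm ≪≫ (mapDCompIso e.functor e.inverse (𝟭 C₁) e.unitIso.symm).symm)
    (mapDCompIso e.inverse e.functor (𝟭 C₂) e.counitIso ≪≫ mapDIdIso C₂)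

theorem isEquivalence_mapD : e.functor.mapDerivedCategory.IsEquivalence :=
  (mapDEquiv e).isEquivalence_functor

end Equiv

section

variable (F : C₁ ⥤ C₂) [F.Additive] [PreservesFiniteLimits F] [PreservesFiniteColimits F]

theorem isLE_mapD (X : DerivedCategory C₁) (b : ℤ) [X.IsLE b] :
    (F.mapDerivedCategory.obj X).IsLE b := by
  obtain ⟨K, hK, ⟨e⟩⟩ := X.exists_iso_Q_obj_of_isLE b
  have e' : F.mapDerivedCategory.obj X ≅
      DerivedCategory.Q.obj ((F.mapHomologicalComplex (ComplexShape.up ℤ)).obj K) :=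
    F.mapDerivedCategory.mapIso e ≪≫ F.mapDerivedCategoryFactors.app K
  haveI : (DerivedCategory.Q.obj ((F.mapHomologicalComplex (ComplexShape.up ℤ)).obj K)).IsLE b :=
    inferInstance
  exact DerivedCategory.TStructure.t.isLE_of_iso e'.symm b

end

end Groth.Agent.Helper2.DEq1
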