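import Mathlib
import Groth.Prelude

set_option autoImplicit false

namespace Groth.Agent.Helper2.IndSmoothIC

open TensorProduct MvPolynomial

universe u

/-- an ind-smooth algebra (in the factorization form) is flat. -/
theorem flat_of_indSmooth {R S : Type u} [CommRing R] [CommRing S] [Algebra R S]
    (hS : Smoothing.IndSmooth R S) : Module.Flat R S := by
  classical
  rw [Module.Flat.iff_forall_isTrivialRelation]
  intro l f x hfx
  obtain ⟨rel, hrel2⟩ : ∃ rel : MvPolynomial (Fin l) R, ∀ (T : Type u) [CommRing T] [Algebra R T]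
      (F : MvPolynomial (Fin l) R →ₐ[R] T), F rel = ∑ i, f i • F (MvPolynomial.X i) := by
    refine ⟨∑ i, MvPolynomial.C (f i) * MvPolynomial.X i, ?_⟩
    intro T _ _ F
    rw [map_sum]
    refine Finset.sum_congr rfl (fun i _ => ?_)
    rw [map_mul, ← MvPolynomial.algebraMap_eq, AlgHom.commutes, Algebra.smul_def]
  haveI : Algebra.FinitePresentation R (MvPolynomial (Fin l) R ⧸ Ideal.span {rel}) :=
    Algebra.FinitePresentation.quotient ⟨{rel}, by simp⟩
  have hrel : MvPolynomial.aeval x rel = 0 := by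
    rw [hrel2, ← hfx]
    exact Finset.sum_congr rfl (fun i _ => by rw [MvPolynomial.aeval_X])
  let φ : (MvPolynomial (Fin l) R ⧸ Ideal.span {rel}) →ₐ[R] S :=
    Ideal.Quotient.liftₐ _ (MvPolynomial.aeval x) (by
      intro a ha
      obtain ⟨c, rfl⟩ := Ideal.mem_span_singleton'.mp ha
      rw [map_mul, hrel, mul_zero])
  obtain ⟨B', _, _, hB', g, h, hgh⟩ := hS _ inferInstance φ
  haveI := hB'
  haveI : Module.Flat R B' := Algebra.Smooth.flat R B'
  let G : MvPolynomial (Fin l) R →ₐ[R] B' := g.comp (Ideal.Quotient.mkₐ R (Ideal.span {rel}))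
  let b : Fin l → B' := fun i => G (MvPolynomial.X i)
  have hb : ∑ i, f i • b i = 0 := by
    rw [← hrel2 B' G]
    change g (Ideal.Quotient.mk _ rel) = 0
    rw [Ideal.Quotient.eq_zero_iff_mem.mpr (Ideal.mem_span_singleton_self rel), map_zero]
  obtain ⟨k, a, y, hxy, hfa⟩ := Module.Flat.isTrivialRelation_of_sum_smul_eq_zero
    (R := R) (M := B') (f := f) (x := b) hb
  refine ⟨k, a, fun j => h (y j), ?_, hfa⟩
  intro i
  have h1 : x i = h (b i) := by
    have h2 : (h.comp g) (Ideal.Quotient.mk _ (X i)) = φ (Ideal.Quotient.mk _ (X i)) := by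
      rw [hgh]
    have h3 : φ (Ideal.Quotient.mk _ (X i)) = x i := by
      change MvPolynomial.aeval x (X i) = x i
      exact MvPolynomial.aeval_X x i
    rw [← h3, ← h2]
    rfl
  rw [h1, hxy i, map_sum]
  exact Finset.sum_congr rfl (fun j _ => map_smul _ _ _)

/-- an element of `A₀ ⊗ B` dying in `S ⊗ B` (`S` flat) already dies in `A₁ ⊗ B` for a finitely
presented `A₁` through which `A₀ → S` factors. -/
theorem exists_fp_kill {R S A₀ B : Type u} [CommRing R] [CommRing S] [Algebra R S]
    [Module.Flat R S] [CommRing A₀] [Algebra R A₀] [Algebra.FinitePresentation R A₀]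
    [CommRing B] [Algebra R B] (φ₀ : A₀ →ₐ[R] S) (w : A₀ ⊗[R] B)
    (hw : Algebra.TensorProduct.map φ₀ (AlgHom.id R B) w = 0) :
    ∃ (A₁ : Type u) (_ : CommRing A₁) (_ : Algebra R A₁), Algebra.FinitePresentation R A₁ ∧
      ∃ (q : A₀ →ₐ[R] A₁) (φ₁ : A₁ →ₐ[R] S), φ₁.comp q = φ₀ ∧
        Algebra.TensorProduct.map q (AlgHom.id R B) w = 0 := by
  classical
  obtain ⟨F, hF⟩ := TensorProduct.exists_finset w
  let m : F → B := fun i => i.1.2
  let n : F → S := fun i => φ₀ i.1.1
  have hwF : w = ∑ i : F, i.1.1 ⊗ₜ[R] i.1.2 := by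
    rw [hF]
    exact (Finset.sum_coe_sort F (fun i => i.1 ⊗ₜ[R] i.2)).symm
  have h0 : ∑ i : F, m i ⊗ₜ[R] n i = (0 : B ⊗[R] S) := by
    have h1 := congrArg (TensorProduct.comm R S B) hw
    rw [map_zero, hwF, map_sum, map_sum] at h1
    rw [← h1]
    refine Finset.sum_congr rfl (fun i _ => ?_)
    simp [m, n]
  have hinj : Function.Injective
      (LinearMap.rTensor S (Submodule.span R (Set.range m)).subtype) :=
    Module.Flat.rTensor_preserves_injective_linearMap _ (Submodule.injective_subtype _)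
  obtain ⟨k, r, y, hn, hm⟩ :=
    TensorProduct.vanishesTrivially_of_sum_tmul_eq_zero_of_rTensor_injective R hinj h0
  -- the finitely presented algebra
  let rel : F → MvPolynomial (Fin k) A₀ := fun i =>
    MvPolynomial.C i.1.1 - ∑ j, r i j • MvPolynomial.X j
  let K : Ideal (MvPolynomial (Fin k) A₀) := Ideal.span (Set.range rel)
  haveI : Algebra.FinitePresentation R (MvPolynomial (Fin k) A₀) :=
    Algebra.FinitePresentation.mvPolynomial_of_finitePresentation (Fin k)
  have hKfg : K.FG := Submodule.fg_span (Set.finite_range rel)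
  haveI : Algebra.FinitePresentation R (MvPolynomial (Fin k) A₀ ⧸ K) :=
    Algebra.FinitePresentation.quotient hKfg
  let ev : MvPolynomial (Fin k) A₀ →ₐ[R] S := MvPolynomial.aevalTower φ₀ y
  have hev : ∀ a ∈ K, ev a = 0 := by
    intro a ha
    have hle : K ≤ RingHom.ker (ev : MvPolynomial (Fin k) A₀ →+* S) := by
      rw [Ideal.span_le]
      rintro _ ⟨i, rfl⟩
      rw [SetLike.mem_coe, RingHom.mem_ker]
      change ev (rel i) = 0
      simp only [rel, ev, map_sub, map_sum, map_smul, MvPolynomial.aevalTower_C,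
        MvPolynomial.aevalTower_X]
      rw [sub_eq_zero]
      exact hn i
    exact hle ha
  let q : A₀ →ₐ[R] MvPolynomial (Fin k) A₀ ⧸ K :=
    (Ideal.Quotient.mkₐ R K).comp (IsScalarTower.toAlgHom R A₀ (MvPolynomial (Fin k) A₀))
  let φ₁ : (MvPolynomial (Fin k) A₀ ⧸ K) →ₐ[R] S := Ideal.Quotient.liftₐ K ev hev
  refine ⟨MvPolynomial (Fin k) A₀ ⧸ K, inferInstance, inferInstance, inferInstance, q, φ₁, ?_, ?_⟩
  · apply AlgHom.ext
    intro a
    change ev (MvPolynomial.C a) = φ₀ a
    simp [ev]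
  · have hq : ∀ i : F, q i.1.1 = ∑ j, r i j • Ideal.Quotient.mk K (MvPolynomial.X j) := by
      intro i
      change Ideal.Quotient.mk K (MvPolynomial.C i.1.1) = _
      have h1 : Ideal.Quotient.mk K (rel i) = 0 :=
        Ideal.Quotient.eq_zero_iff_mem.mpr (Ideal.subset_span ⟨i, rfl⟩)
      simp only [rel, map_sub, map_sum, sub_eq_zero] at h1
      rw [h1]
      refine Finset.sum_congr rfl (fun j _ => ?_)
      rw [← Ideal.Quotient.mkₐ_eq_mk R, map_smul]
    rw [hwF, map_sum]
    have h2 : ∀ i : F, Algebra.TensorProduct.map q (AlgHom.id R B) (i.1.1 ⊗ₜ[R] i.1.2) =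
        ∑ j, Ideal.Quotient.mk K (MvPolynomial.X j) ⊗ₜ[R] (r i j • m i) := by
      intro i
      rw [Algebra.TensorProduct.map_tmul, hq i, TensorProduct.sum_tmul]
      refine Finset.sum_congr rfl (fun j _ => ?_)
      rw [TensorProduct.smul_tmul]
      rfl
    rw [Finset.sum_congr rfl (fun i _ => h2 i), Finset.sum_comm]
    refine Finset.sum_eq_zero (fun j _ => ?_)
    rw [← TensorProduct.tmul_sum, hm j, TensorProduct.tmul_zero]

theorem toIntegralClosure_val {R S B : Type u} [CommRing R] [CommRing S] [Algebra R S]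
    [CommRing B] [Algebra R B] (t : S ⊗[R] integralClosure R B) :
    ((TensorProduct.toIntegralClosure R S B t : integralClosure S (S ⊗[R] B)) : S ⊗[R] B) =
      Algebra.TensorProduct.map (AlgHom.id R S) (integralClosure R B).val t := by
  induction t with
  | zero => simp
  | add x y hx hy => rw [map_add, map_add, ← hx, ← hy]; rfl
  | tmul x y => rfl

theorem s9446 (R : Type u) [CommRing R] (S : Type u)
    [CommRing S] [Algebra R S] (hS : Smoothing.IndSmooth R S) (B : Type u) [CommRing B]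
    [Algebra R B] : Function.Bijective (TensorProduct.toIntegralClosure R S B) := by
  classical
  haveI := flat_of_indSmooth hS
  refine ⟨TensorProduct.toIntegralClosure_injective_of_flat, ?_⟩
  rintro ⟨y, hy⟩
  rcases subsingleton_or_nontrivial S with hsub | hnt
  · haveI : Subsingleton (S ⊗[R] integralClosure R B) :=
      (Algebra.TensorProduct.includeLeftRingHom (R := R) (A := S)
        (B := integralClosure R B)).codomain_trivial
    haveI : Subsingleton (S ⊗[R] B) :=
      (Algebra.TensorProduct.includeLeftRingHom (R := R) (A := S) (B := B)).codomain_trivial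
    exact ⟨0, Subtype.ext (Subsingleton.elim _ _)⟩
  obtain ⟨P, hPm, hPy⟩ := hy
  obtain ⟨F, hF⟩ := TensorProduct.exists_finset y
  let T : Finset S := F.image Prod.fst ∪ P.coeffs
  let φ₀ : MvPolynomial T R →ₐ[R] S := MvPolynomial.aeval (fun t : T => (t : S))
  have hT : ∀ s ∈ T, ∃ a, φ₀ a = s := fun s hs => ⟨MvPolynomial.X ⟨s, hs⟩, by simp [φ₀]⟩
  have hPl : P ∈ Polynomial.lifts (φ₀ : MvPolynomial T R →+* S) := by
    rw [Polynomial.lifts_iff_coeff_lifts]
    intro n
    by_cases h0 : P.coeff n = 0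
    · exact ⟨0, by simp [h0]⟩
    · exact hT _ (Finset.mem_union_right _ (Polynomial.coeff_mem_coeffs h0))
  obtain ⟨P₀, hP₀map, -, hP₀m⟩ := Polynomial.lifts_and_degree_eq_and_monic hPl hPm
  choose! x hx using hT
  let y₀ : MvPolynomial T R ⊗[R] B := ∑ i ∈ F, x i.1 ⊗ₜ[R] i.2
  let ψ₀ : MvPolynomial T R ⊗[R] B →ₐ[R] S ⊗[R] B :=
    Algebra.TensorProduct.map φ₀ (AlgHom.id R B)
  have hy₀ : ψ₀ y₀ = y := by
    rw [hF]
    simp only [y₀, ψ₀, map_sum, Algebra.TensorProduct.map_tmul, AlgHom.id_apply]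
    refine Finset.sum_congr rfl (fun i hi => ?_)
    rw [hx i.1 (Finset.mem_union_left _ (Finset.mem_image_of_mem _ hi))]
  let w : MvPolynomial T R ⊗[R] B := Polynomial.aeval y₀ P₀
  -- general compatibility
  have hcompat : ∀ (S₁ : Type u) [CommRing S₁] [Algebra R S₁] (θ : MvPolynomial T R →ₐ[R] S₁),
      Algebra.TensorProduct.map θ (AlgHom.id R B) w =
        Polynomial.eval₂ (algebraMap S₁ (S₁ ⊗[R] B))
          (Algebra.TensorProduct.map θ (AlgHom.id R B) y₀) (P₀.map (θ : MvPolynomial T R →+* S₁)) := by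
    intro S₁ _ _ θ
    simp only [w, Polynomial.aeval_def]
    rw [← AlgHom.coe_toRingHom, Polynomial.hom_eval₂, Polynomial.eval₂_map]
    congr 1
  have hw : ψ₀ w = 0 := by
    rw [hcompat S φ₀, hP₀map]
    change Polynomial.eval₂ _ (ψ₀ y₀) P = 0
    rw [hy₀]
    exact hPy
  obtain ⟨A₁, _, _, hA₁, q, φ₁, hφ₁q, hqw⟩ := exists_fp_kill φ₀ w hw
  obtain ⟨S', _, _, hS', g, h, hgh⟩ := hS A₁ hA₁ φ₁
  haveI := hS'
  let θ : MvPolynomial T R →ₐ[R] S' := g.comp q
  let ψ' : MvPolynomial T R ⊗[R] B →ₐ[R] S' ⊗[R] B :=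
    Algebra.TensorProduct.map θ (AlgHom.id R B)
  have hψ'w : ψ' w = 0 := by
    have h1 : ψ' = (Algebra.TensorProduct.map g (AlgHom.id R B)).comp
        (Algebra.TensorProduct.map q (AlgHom.id R B)) := by
      apply Algebra.TensorProduct.ext'
      intro a b
      simp [ψ', θ]
    rw [h1, AlgHom.comp_apply, hqw, map_zero]
  have hy'int : IsIntegral S' (ψ' y₀) := by
    refine ⟨P₀.map (θ : MvPolynomial T R →+* S'), hP₀m.map _, ?_⟩
    rw [← hcompat S' θ]
    exact hψ'w
  obtain ⟨t, ht⟩ := (TensorProduct.toIntegralClosure_bijective_of_smooth (R := R) (S := S')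
    (B := B)).2 ⟨ψ' y₀, hy'int⟩
  have ht' : Algebra.TensorProduct.map (AlgHom.id R S') (integralClosure R B).val t = ψ' y₀ := by
    rw [← toIntegralClosure_val, ht]
  refine ⟨Algebra.TensorProduct.map h (AlgHom.id R (integralClosure R B)) t, ?_⟩
  apply Subtype.ext
  rw [toIntegralClosure_val]
  change _ = y
  have h2 : ∀ t : S' ⊗[R] integralClosure R B,
      Algebra.TensorProduct.map (AlgHom.id R S) (integralClosure R B).val
        (Algebra.TensorProduct.map h (AlgHom.id R (integralClosure R B)) t) =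
      Algebra.TensorProduct.map h (AlgHom.id R B)
        (Algebra.TensorProduct.map (AlgHom.id R S') (integralClosure R B).val t) := by
    intro t
    induction t with
    | zero => simp
    | add a b ha hb => simp only [map_add, ha, hb]
    | tmul a b => simp
  rw [h2, ht']
  have h3 : ∀ z : MvPolynomial T R ⊗[R] B,
      Algebra.TensorProduct.map h (AlgHom.id R B) (ψ' z) = ψ₀ z := by
    intro z
    induction z with
    | zero => simp
    | add a b ha hb => simp only [map_add, ha, hb]
    | tmul a b =>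
      simp only [ψ', ψ₀, θ, Algebra.TensorProduct.map_tmul, AlgHom.id_apply, AlgHom.comp_apply]
      congr 1
      rw [← hφ₁q, ← hgh]
      rfl
  rw [h3, hy₀]

end Groth.Agent.Helper2.IndSmoothIC
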