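import Mathlib
import Groth.Prelude
import Groth.Agent.Helper2.IndSmoothIC

set_option autoImplicit false

/-!
# Direct limits of smooth algebras are ind-smooth; base change of ind-smooth algebras
-/

universe u

namespace Groth.Agent.Helper2.DLSm

open TensorProduct

section DirLim

variable {R : Type u} [CommRing R] {ι : Type u} [Preorder ι] [IsDirectedOrder ι] [Nonempty ι]
  (G : ι → Type u) [∀ i, CommRing (G i)] [∀ i, Algebra R (G i)]
  (f : ∀ i j : ι, i ≤ j → (G i →ₐ[R] G j)) [DirectedSystem G (fun i j h => f i j h)]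

theorem exists_of_eq {a : ι} (x y : G a)
    (h : DirectLimit.Algebra.of G f a x = DirectLimit.Algebra.of G f a y) :
    ∃ (b : ι) (hab : a ≤ b), f a b hab x = f a b hab y := by
  obtain ⟨b, h1, h2, hb⟩ := Quotient.exact h
  exact ⟨b, h1, hb⟩

theorem exists_common_eq {a : ι} {l : Type*} [Finite l] (x y : l → G a)
    (h : ∀ k, DirectLimit.Algebra.of G f a (x k) = DirectLimit.Algebra.of G f a (y k)) :
    ∃ (b : ι) (hab : a ≤ b), ∀ k, f a b hab (x k) = f a b hab (y k) := by
  choose b₀ hab₀ hb₀ using fun k => exists_of_eq G f (x k) (y k) (h k)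
  obtain ⟨b, hb⟩ := Finite.exists_le b₀
  obtain ⟨b', h1, h2⟩ := exists_ge_ge a b
  refine ⟨b', h1, fun k => ?_⟩
  have e1 : ∀ z : G a, f a b' h1 z = f (b₀ k) b' ((hb k).trans h2) (f a (b₀ k) (hab₀ k) z) :=
    fun z => (DirectedSystem.map_map' (f := fun a b h => f a b h) (hab₀ k) ((hb k).trans h2) z).symm
  rw [e1, e1, hb₀]

theorem exists_of_family {l : Type*} [Finite l] (z : l → DirectLimit G f) :
    ∃ (a : ι) (y : l → G a), ∀ k, DirectLimit.Algebra.of G f a (y k) = z k := by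
  choose a₀ y₀ hy₀ using fun k => DirectLimit.exists_eq_mk (f := fun a b h => f a b h) (z k)
  obtain ⟨a, ha⟩ := Finite.exists_le a₀
  refine ⟨a, fun k => f (a₀ k) a (ha k) (y₀ k), fun k => ?_⟩
  rw [DirectLimit.Algebra.of_f, hy₀ k]
  rfl

theorem exists_factor (A : Type u) [CommRing A] [Algebra R A] [Algebra.FinitePresentation R A]
    (χ₀ : A →ₐ[R] DirectLimit G f) :
    ∃ (a : ι) (ρ : A →ₐ[R] G a), (DirectLimit.Algebra.of G f a).comp ρ = χ₀ := by
  classical
  obtain ⟨n, g, hgsurj, hgker⟩ := Algebra.FinitePresentation.out (R := R) (A := A)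
  obtain ⟨a₀, y, hy⟩ := exists_of_family G f (fun k : Fin n => χ₀ (g (MvPolynomial.X k)))
  let ρ₀ : MvPolynomial (Fin n) R →ₐ[R] G a₀ := MvPolynomial.aeval y
  have key : (DirectLimit.Algebra.of G f a₀).comp ρ₀ = χ₀.comp g := by
    apply MvPolynomial.algHom_ext
    intro k
    show DirectLimit.Algebra.of G f a₀ (ρ₀ (MvPolynomial.X k)) = χ₀ (g (MvPolynomial.X k))
    rw [MvPolynomial.aeval_X, hy]
  have key' : ∀ q, DirectLimit.Algebra.of G f a₀ (ρ₀ q) = χ₀ (g q) := fun q => congr($key q)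
  obtain ⟨S, hS⟩ := hgker
  have hS0 : ∀ p : (S : Set (MvPolynomial (Fin n) R)), DirectLimit.Algebra.of G f a₀ (ρ₀ p) =
      DirectLimit.Algebra.of G f a₀ 0 := by
    intro p
    rw [key', map_zero]
    have : (p : MvPolynomial (Fin n) R) ∈ RingHom.ker g.toRingHom := by
      rw [← hS]
      exact Ideal.subset_span p.2
    rw [show g p = g.toRingHom p from rfl, (RingHom.mem_ker).mp this, map_zero]
  obtain ⟨b, hab, hb⟩ := exists_common_eq G f (fun p : (S : Set (MvPolynomial (Fin n) R)) => ρ₀ p)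
    (fun _ => 0) hS0
  let ρb : MvPolynomial (Fin n) R →ₐ[R] G b := (f a₀ b hab).comp ρ₀
  have hker : RingHom.ker g.toRingHom ≤ RingHom.ker ρb.toRingHom := by
    rw [← hS, Ideal.span_le]
    intro p hp
    have := hb ⟨p, hp⟩
    rw [map_zero] at this
    exact this
  refine ⟨b, AlgHom.liftOfSurjective g hgsurj ρb hker, ?_⟩
  apply AlgHom.ext
  intro x
  obtain ⟨q, rfl⟩ := hgsurj x
  rw [AlgHom.comp_apply, AlgHom.liftOfSurjective_apply]
  show DirectLimit.Algebra.of G f b (f a₀ b hab (ρ₀ q)) = _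
  rw [DirectLimit.Algebra.of_f, key']

theorem indSmooth_directLimit (hs : ∀ i, Algebra.Smooth R (G i)) :
    Smoothing.IndSmooth R (DirectLimit G f) := by
  intro A _ _ hA φ
  obtain ⟨a, ρ, hρ⟩ := exists_factor G f A φ
  exact ⟨G a, inferInstance, inferInstance, hs a, ρ, DirectLimit.Algebra.of G f a, hρ⟩

end DirLim

section BaseChange

open Groth.Agent.Helper2.IndSmoothIC

/-- finitely many elements of `A₀ ⊗ B` dying in `S ⊗ B` can be killed simultaneously. -/
theorem exists_fp_kill_finset {R S B : Type u} [CommRing R] [CommRing S] [Algebra R S]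
    [Module.Flat R S] [CommRing B] [Algebra R B] :
    ∀ (n : ℕ) (A₀ : Type u) [CommRing A₀] [Algebra R A₀] [Algebra.FinitePresentation R A₀]
      (φ₀ : A₀ →ₐ[R] S) (w : Fin n → A₀ ⊗[R] B)
      (_ : ∀ i, Algebra.TensorProduct.map φ₀ (AlgHom.id R B) (w i) = 0),
      ∃ (A₁ : Type u) (_ : CommRing A₁) (_ : Algebra R A₁), Algebra.FinitePresentation R A₁ ∧
        ∃ (q : A₀ →ₐ[R] A₁) (φ₁ : A₁ →ₐ[R] S), φ₁.comp q = φ₀ ∧
          ∀ i, Algebra.TensorProduct.map q (AlgHom.id R B) (w i) = 0 := by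
  intro n
  induction n with
  | zero =>
    intro A₀ _ _ _ φ₀ w _
    exact ⟨A₀, inferInstance, inferInstance, inferInstance, AlgHom.id R A₀, φ₀, rfl,
      fun i => i.elim0⟩
  | succ n ih =>
    intro A₀ _ _ _ φ₀ w hw
    obtain ⟨A₁, _, _, hA₁, q, φ₁, hq, hk⟩ := ih A₀ φ₀ (fun i => w i.castSucc)
      (fun i => hw i.castSucc)
    haveI := hA₁
    have hmap : ∀ z : A₀ ⊗[R] B, Algebra.TensorProduct.map φ₁ (AlgHom.id R B)
        (Algebra.TensorProduct.map q (AlgHom.id R B) z) =
        Algebra.TensorProduct.map φ₀ (AlgHom.id R B) z := by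
      intro z
      rw [← hq, ← AlgHom.comp_apply, ← Algebra.TensorProduct.map_comp]
      rfl
    obtain ⟨A₂, _, _, hA₂, q', φ₂, hq', hk'⟩ := exists_fp_kill φ₁
      (Algebra.TensorProduct.map q (AlgHom.id R B) (w (Fin.last n)))
      (by rw [hmap]; exact hw _)
    have hmap' : ∀ z : A₀ ⊗[R] B, Algebra.TensorProduct.map (q'.comp q) (AlgHom.id R B) z =
        Algebra.TensorProduct.map q' (AlgHom.id R B)
          (Algebra.TensorProduct.map q (AlgHom.id R B) z) := by
      intro z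
      rw [← AlgHom.comp_apply, ← Algebra.TensorProduct.map_comp]
      rfl
    refine ⟨A₂, inferInstance, inferInstance, hA₂, q'.comp q, φ₂, ?_, ?_⟩
    · rw [← AlgHom.comp_assoc, hq', hq]
    · intro i
      rw [hmap']
      refine Fin.lastCases ?_ (fun j => ?_) i
      · exact hk'
      · rw [hk j, map_zero]

end BaseChange

end Groth.Agent.Helper2.DLSm
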