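import Mathlib
import Groth.Prelude
import Groth.Agent.Helper2.IndSmoothIC
import Groth.Agent.Helper2.DLSmA

set_option autoImplicit false

/-!
# Base change of ind-smooth algebras
-/

universe u

namespace Groth.Agent.Helper2.DLSm

open TensorProduct

section BaseChange

variable {R Λ R' : Type u} [CommRing R] [CommRing Λ] [Algebra R Λ] [CommRing R'] [Algebra R R']

theorem comm_map {A₀ A₁ : Type u} [CommRing A₀] [Algebra R A₀] [CommRing A₁] [Algebra R A₁]
    (q : A₀ →ₐ[R] A₁) (w : R' ⊗[R] A₀) :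
    Algebra.TensorProduct.map q (AlgHom.id R R') (Algebra.TensorProduct.comm R R' A₀ w) =
      Algebra.TensorProduct.comm R R' A₁
        (Algebra.TensorProduct.map (AlgHom.id R' R') q w) := by
  induction w using TensorProduct.induction_on with
  | zero => simp
  | tmul x y => simp
  | add x y hx hy => simp only [map_add, hx, hy]

theorem indSmooth_baseChange (hΛ : Smoothing.IndSmooth R Λ) :
    Smoothing.IndSmooth R' (R' ⊗[R] Λ) := by
  classical
  haveI : Module.Flat R Λ := Groth.Agent.Helper2.IndSmoothIC.flat_of_indSmooth hΛ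
  intro A' _ _ hA' φ
  obtain ⟨n, g, hgsurj, hgker⟩ := Algebra.FinitePresentation.out (R := R') (A := A')
  obtain ⟨S, hS⟩ := hgker
  -- write the images of the variables as finite sums of pure tensors
  choose F hF using fun i : Fin n => TensorProduct.exists_finset (φ (g (MvPolynomial.X i)))
  let σ : Type u := Σ i : Fin n, (F i : Set (R' × Λ))
  let A₀ : Type u := MvPolynomial σ R
  let φ₀ : A₀ →ₐ[R] Λ := MvPolynomial.aeval (fun s : σ => s.2.1.2)
  let z₀ : Fin n → R' ⊗[R] A₀ := fun i => ∑ p : (F i : Set (R' × Λ)),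
    p.1.1 ⊗ₜ[R] (MvPolynomial.X (⟨i, p⟩ : σ) : A₀)
  have hz₀ : ∀ i, Algebra.TensorProduct.map (AlgHom.id R' R') φ₀ (z₀ i) =
      φ (g (MvPolynomial.X i)) := by
    intro i
    rw [hF i]
    simp only [z₀, map_sum, Algebra.TensorProduct.map_tmul, AlgHom.coe_id, id_eq]
    rw [← Finset.sum_coe_sort (F i) (fun p => p.1 ⊗ₜ[R] p.2)]
    refine Finset.sum_congr rfl (fun p _ => ?_)
    simp only [φ₀]
    rw [MvPolynomial.aeval_X]
  let ψ₀ : MvPolynomial (Fin n) R' →ₐ[R'] R' ⊗[R] A₀ := MvPolynomial.aeval z₀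
  have hψ₀ : (Algebra.TensorProduct.map (AlgHom.id R' R') φ₀).comp ψ₀ = φ.comp g := by
    apply MvPolynomial.algHom_ext
    intro i
    simp only [AlgHom.comp_apply, ψ₀, MvPolynomial.aeval_X]
    exact hz₀ i
  -- the relations die in `R' ⊗ Λ`
  let e := Fintype.equivFin (S : Set (MvPolynomial (Fin n) R'))
  let w : Fin (Fintype.card (S : Set (MvPolynomial (Fin n) R'))) → A₀ ⊗[R] R' := fun j =>
    Algebra.TensorProduct.comm R R' A₀ (ψ₀ (e.symm j))
  have hw : ∀ j, Algebra.TensorProduct.map φ₀ (AlgHom.id R R') (w j) = 0 := by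
    intro j
    simp only [w]
    rw [comm_map]
    have h1 : Algebra.TensorProduct.map (AlgHom.id R' R') φ₀ (ψ₀ (e.symm j)) = 0 := by
      have := congr($hψ₀ (e.symm j : MvPolynomial (Fin n) R'))
      rw [AlgHom.comp_apply] at this
      rw [this, AlgHom.comp_apply]
      have hmem : ((e.symm j : MvPolynomial (Fin n) R')) ∈ RingHom.ker g.toRingHom := by
        rw [← hS]
        exact Ideal.subset_span (e.symm j).2
      rw [show g (e.symm j : MvPolynomial (Fin n) R') = g.toRingHom _ from rfl,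
        (RingHom.mem_ker).mp hmem, map_zero]
    rw [h1, map_zero]
  haveI : Finite σ := inferInstance
  haveI : Algebra.FinitePresentation R A₀ :=
    inferInstanceAs (Algebra.FinitePresentation R (MvPolynomial σ R))
  obtain ⟨A₁, _, _, hA₁, q, φ₁, hq, hk⟩ := exists_fp_kill_finset _ A₀ φ₀ w hw
  obtain ⟨B, _, _, hB, g₁, h, hgh⟩ := hΛ A₁ hA₁ φ₁
  haveI := hB
  have hk' : ∀ s ∈ S, Algebra.TensorProduct.map (AlgHom.id R' R') q (ψ₀ s) = 0 := by
    intro s hs
    have := hk (e ⟨s, hs⟩)
    simp only [w, Equiv.symm_apply_apply] at this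
    rw [comm_map] at this
    exact (Algebra.TensorProduct.comm R R' A₁).injective (this.trans (map_zero _).symm)
  let Ψ : MvPolynomial (Fin n) R' →ₐ[R'] R' ⊗[R] B :=
    ((Algebra.TensorProduct.map (AlgHom.id R' R') g₁).comp
      (Algebra.TensorProduct.map (AlgHom.id R' R') q)).comp ψ₀
  have hker : RingHom.ker g.toRingHom ≤ RingHom.ker Ψ.toRingHom := by
    rw [← hS, Ideal.span_le]
    intro s hs
    rw [SetLike.mem_coe, RingHom.mem_ker]
    change (Algebra.TensorProduct.map (AlgHom.id R' R') g₁)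
      ((Algebra.TensorProduct.map (AlgHom.id R' R') q) (ψ₀ s)) = 0
    rw [hk' s hs, map_zero]
  refine ⟨R' ⊗[R] B, inferInstance, inferInstance, inferInstance,
    AlgHom.liftOfSurjective g hgsurj Ψ hker, Algebra.TensorProduct.map (AlgHom.id R' R') h, ?_⟩
  apply AlgHom.ext
  intro x
  obtain ⟨p, rfl⟩ := hgsurj x
  rw [AlgHom.comp_apply, AlgHom.liftOfSurjective_apply]
  have h2 : ∀ y : R' ⊗[R] A₀, Algebra.TensorProduct.map (AlgHom.id R' R') h
      ((Algebra.TensorProduct.map (AlgHom.id R' R') g₁)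
        ((Algebra.TensorProduct.map (AlgHom.id R' R') q) y)) =
      Algebra.TensorProduct.map (AlgHom.id R' R') φ₀ y := by
    intro y
    rw [← hq, ← hgh]
    induction y using TensorProduct.induction_on with
    | zero => simp
    | tmul a b => simp
    | add a b ha hb => simp only [map_add, ha, hb]
  change Algebra.TensorProduct.map (AlgHom.id R' R') h
      ((Algebra.TensorProduct.map (AlgHom.id R' R') g₁)
        ((Algebra.TensorProduct.map (AlgHom.id R' R') q) (ψ₀ p))) = φ (g p)
  rw [h2]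
  exact congr($hψ₀ p)

end BaseChange

end Groth.Agent.Helper2.DLSm
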