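import Mathlib
import Groth.Prelude
import Groth.Agent.Lead.RegLocal
import Groth.Agent.Helper2.RegSeq
import Groth.Agent.Helper2.RegSmooth
import Groth.Agent.Helper2.SepTensorReg

set_option autoImplicit false

/-!
# A noetherian ind-smooth algebra over a field is a regular ring
-/

universe u

namespace Groth.Agent.Helper2.DLSm

open IsLocalRing

/-- lifting one linear relation to a smooth algebra -/
theorem lift_relation {k T : Type u} [Field k] [CommRing T] [Algebra k T]
    (hT : Smoothing.IndSmooth k T) (n m : ℕ) (ι : Fin m → Fin n) (i0 : Fin n)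
    (x : Fin n → T) (a : Fin m → T) (c : T) (hrel : c * x i0 = ∑ j, a j * x (ι j)) :
    ∃ (B : Type u) (_ : CommRing B) (_ : Algebra k B), Algebra.Smooth k B ∧
      ∃ (h : B →ₐ[k] T) (x' : Fin n → B) (a' : Fin m → B) (c' : B),
        (∀ j, h (x' j) = x j) ∧ h c' = c ∧ c' * x' i0 = ∑ j, a' j * x' (ι j) := by
  classical
  let σ : Type := Fin n ⊕ (Fin m ⊕ Unit)
  let P : Type u := MvPolynomial σ k
  let rel : P := MvPolynomial.X (Sum.inr (Sum.inr ())) * MvPolynomial.X (Sum.inl i0) -
    ∑ j, MvPolynomial.X (Sum.inr (Sum.inl j)) * MvPolynomial.X (Sum.inl (ι j))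
  let v : σ → T := Sum.elim x (Sum.elim a (fun _ => c))
  have hv : MvPolynomial.aeval v rel = 0 := by
    simp only [rel, map_sub, map_mul, map_sum, MvPolynomial.aeval_X, v, Sum.elim_inl, Sum.elim_inr]
    rw [hrel, sub_self]
  let I : Ideal P := Ideal.span {rel}
  haveI : Algebra.FinitePresentation k (P ⧸ I) :=
    Algebra.FinitePresentation.quotient ⟨{rel}, by simp [I]⟩
  let φ : (P ⧸ I) →ₐ[k] T := Ideal.Quotient.liftₐ I (MvPolynomial.aeval v) (by
    intro p hp
    obtain ⟨q, rfl⟩ := Ideal.mem_span_singleton'.mp hp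
    rw [map_mul, hv, mul_zero])
  obtain ⟨B, _, _, hB, g, h, hgh⟩ := hT (P ⧸ I) inferInstance φ
  have hφ : ∀ s : σ, h (g (Ideal.Quotient.mk I (MvPolynomial.X s))) = v s := by
    intro s
    have := congr($hgh (Ideal.Quotient.mk I (MvPolynomial.X s)))
    rw [AlgHom.comp_apply] at this
    rw [this]
    change MvPolynomial.aeval v (MvPolynomial.X s) = v s
    rw [MvPolynomial.aeval_X]
  refine ⟨B, inferInstance, inferInstance, hB, h,
    fun j => g (Ideal.Quotient.mk I (MvPolynomial.X (Sum.inl j))),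
    fun j => g (Ideal.Quotient.mk I (MvPolynomial.X (Sum.inr (Sum.inl j)))),
    g (Ideal.Quotient.mk I (MvPolynomial.X (Sum.inr (Sum.inr ())))), ?_, ?_, ?_⟩
  · intro j
    rw [hφ]
    rfl
  · rw [hφ]
    rfl
  · have h0 : g (Ideal.Quotient.mk I rel) = 0 := by
      rw [Ideal.Quotient.eq_zero_iff_mem.mpr (Ideal.mem_span_singleton_self rel), map_zero]
    simp only [rel, map_sub, map_mul, map_sum] at h0
    exact sub_eq_zero.mp h0

/-- one step of the regular sequence, in a regular local ring -/
theorem step_D {D : Type u} [CommRing D] [IsRegularLocalRing D] (n : ℕ)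
    (x : Fin n → maximalIdeal D)
    (hli : LinearIndependent (ResidueField D) (fun j => (maximalIdeal D).toCotangent (x j)))
    (i : ℕ) (hi : i < n) (c : D)
    (hc : c * (x ⟨i, hi⟩ : D) ∈
      Ideal.span (Set.range fun j : Fin i => (x (Fin.castLE hi.le j) : D))) :
    c ∈ Ideal.span (Set.range fun j : Fin i => (x (Fin.castLE hi.le j) : D)) := by
  classical
  let y : Fin i → maximalIdeal D := fun j => x (Fin.castLE hi.le j)
  have hy : LinearIndependent (ResidueField D) (fun j => (maximalIdeal D).toCotangent (y j)) :=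
    hli.comp (Fin.castLE hi.le) (Fin.castLE_injective hi.le)
  obtain ⟨-, hreg⟩ := Groth.Agent.Helper2.RegSeq.quotient_regular_of_indep i y hy
  set J : Ideal D := Ideal.span (Set.range fun j : Fin i => (y j : D)) with hJ
  haveI := hreg
  have hdom : IsDomain (D ⧸ J) := Groth.Agent.Lead.RegLocal.isDomain_of_isRegularLocalRing _
  have hprime : J.IsPrime := (Ideal.Quotient.isDomain_iff_prime J).mp hdom
  have hxi : (x ⟨i, hi⟩ : D) ∉ J := by
    intro hmem
    obtain ⟨b, hb⟩ := Ideal.mem_span_range_iff_exists_fun.mp hmem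
    have h1 : x ⟨i, hi⟩ = ∑ j, b j • y j := by
      apply Subtype.ext
      rw [← hb, Submodule.coe_sum]
      rfl
    have h2 : (maximalIdeal D).toCotangent (x ⟨i, hi⟩) ∈
        Submodule.span (ResidueField D)
          ((fun j => (maximalIdeal D).toCotangent (x j)) '' {l : Fin n | l.val < i}) := by
      rw [h1, map_sum]
      refine Submodule.sum_mem _ (fun j _ => ?_)
      rw [map_smul, ← algebraMap_smul (ResidueField D) (b j)]
      refine Submodule.smul_mem _ _ (Submodule.subset_span ⟨Fin.castLE hi.le j, ?_, rfl⟩)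
      simp
    exact hli.notMem_span_image (s := {l : Fin n | l.val < i}) (x := ⟨i, hi⟩) (by simp) h2
  exact (hprime.mem_or_mem hc).resolve_right hxi

section Loc

variable {k T : Type u} [Field k] [CommRing T] [Algebra k T] (Q : Ideal T) [Q.IsPrime]

local notation "C" => Localization.AtPrime Q

/-- one step of the regular sequence, in the local ring of an ind-smooth algebra -/
theorem step_C (hT : Smoothing.IndSmooth k T) (n : ℕ) (x : Fin n → T) (hxQ : ∀ j, x j ∈ Q)
    (hli : ∀ c : Fin n → C, (∑ j, c j * algebraMap T C (x j)) ∈ maximalIdeal C ^ 2 →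
      ∀ j, c j ∈ maximalIdeal C)
    (i : ℕ) (hi : i < n) (c : C)
    (hc : c * algebraMap T C (x ⟨i, hi⟩) ∈
      Ideal.span (Set.range fun j : Fin i => algebraMap T C (x (Fin.castLE hi.le j)))) :
    c ∈ Ideal.span (Set.range fun j : Fin i => algebraMap T C (x (Fin.castLE hi.le j))) := by
  classical
  set J₀ : Ideal T := Ideal.span (Set.range fun j : Fin i => x (Fin.castLE hi.le j)) with hJ₀
  have hJ : Ideal.span (Set.range fun j : Fin i => algebraMap T C (x (Fin.castLE hi.le j))) =
      J₀.map (algebraMap T C) := by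
    rw [hJ₀, Ideal.map_span, ← Set.range_comp]
    rfl
  rw [hJ] at hc ⊢
  obtain ⟨⟨t, s⟩, hts⟩ := IsLocalization.surj Q.primeCompl c
  simp only at hts
  have h1 : algebraMap T C (t * x ⟨i, hi⟩) ∈ J₀.map (algebraMap T C) := by
    rw [map_mul, ← hts]
    have : c * algebraMap T C s * algebraMap T C (x ⟨i, hi⟩) =
        (c * algebraMap T C (x ⟨i, hi⟩)) * algebraMap T C s := by ring
    rw [this]
    exact Ideal.mul_mem_right _ _ hc
  obtain ⟨⟨⟨a, ha⟩, s'⟩, h2⟩ := (IsLocalization.mem_map_algebraMap_iff Q.primeCompl C).mp h1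
  simp only at h2
  rw [← map_mul, IsLocalization.eq_iff_exists Q.primeCompl] at h2
  obtain ⟨s'', h3⟩ := h2
  set t' : T := s'' * s' * t with ht'
  have h4 : t' * x ⟨i, hi⟩ ∈ J₀ := by
    have : t' * x ⟨i, hi⟩ = s'' * a := by rw [← h3, ht']; ring
    rw [this]
    exact J₀.mul_mem_left _ ha
  obtain ⟨A, hA⟩ := Ideal.mem_span_range_iff_exists_fun.mp h4
  obtain ⟨B, _, _, hB, h, x', a', c', hx', hc', hrel⟩ :=
    lift_relation hT n i (Fin.castLE hi.le) ⟨i, hi⟩ x A t' hA.symm
  haveI := hB
  haveI : IsRegularRing B := Groth.Agent.Helper2.SepTensorReg.isRegularRing_of_formallySmooth k B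
  let QB : Ideal B := Q.comap (h : B →+* T)
  haveI : QB.IsPrime := Ideal.comap_isPrime _ _
  let D := Localization.AtPrime QB
  let ψ : D →+* C := Localization.localRingHom QB Q (h : B →+* T) rfl
  haveI : IsLocalHom ψ := Localization.isLocalHom_localRingHom _ _ _ _
  have hψ : ∀ b : B, ψ (algebraMap B D b) = algebraMap T C (h b) := fun b =>
    Localization.localRingHom_to_map _ _ _ _ b
  have hmD : ∀ j, algebraMap B D (x' j) ∈ maximalIdeal D := by
    intro j
    rw [IsLocalization.AtPrime.to_map_mem_maximal_iff D QB]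
    change h (x' j) ∈ Q
    rw [hx']
    exact hxQ j
  let xD : Fin n → maximalIdeal D := fun j => ⟨algebraMap B D (x' j), hmD j⟩
  have hmap : (maximalIdeal D).map ψ ≤ maximalIdeal C := by
    have h02 := (IsLocalRing.local_hom_TFAE ψ).out 0 2
    exact h02.mp (inferInstance : IsLocalHom ψ)
  have hliD : LinearIndependent (ResidueField D)
      (fun j => (maximalIdeal D).toCotangent (xD j)) := by
    rw [Groth.Agent.Helper2.RegSmooth.cot_li_iff]
    intro l hl j
    have h5 : ψ (∑ j, l j * (xD j : D)) ∈ maximalIdeal C ^ 2 := by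
      have := Ideal.mem_map_of_mem ψ hl
      rw [Ideal.map_pow] at this
      exact Ideal.pow_right_mono hmap 2 this
    have h6 : ψ (∑ j, l j * (xD j : D)) = ∑ j, ψ (l j) * algebraMap T C (x j) := by
      rw [map_sum]
      refine Finset.sum_congr rfl (fun j _ => ?_)
      rw [map_mul]
      change ψ (l j) * ψ (algebraMap B D (x' j)) = _
      rw [hψ, hx']
    rw [h6] at h5
    have h7 := hli (fun j => ψ (l j)) h5 j
    by_contra hcon
    have hu : IsUnit (l j) := (IsLocalRing.notMem_maximalIdeal).mp hcon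
    have hu' : IsUnit (ψ (l j)) := hu.map ψ
    exact (IsLocalRing.notMem_maximalIdeal).mpr hu' h7
  have hcD : algebraMap B D c' * (xD ⟨i, hi⟩ : D) ∈
      Ideal.span (Set.range fun j : Fin i => (xD (Fin.castLE hi.le j) : D)) := by
    change algebraMap B D c' * algebraMap B D (x' ⟨i, hi⟩) ∈ _
    rw [← map_mul, hrel, map_sum]
    refine Ideal.sum_mem _ (fun j _ => ?_)
    rw [map_mul]
    exact Ideal.mul_mem_left _ _ (Ideal.subset_span ⟨j, rfl⟩)
  have h8 := step_D n xD hliD i hi (algebraMap B D c') hcD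
  have h9 : algebraMap T C t' ∈ J₀.map (algebraMap T C) := by
    have := Ideal.mem_map_of_mem ψ h8
    rw [hψ, hc', Ideal.map_span, ← Set.range_comp] at this
    rw [← hJ]
    convert this using 3
    ext j
    change algebraMap T C (x (Fin.castLE hi.le j)) = ψ (algebraMap B D (x' (Fin.castLE hi.le j)))
    rw [hψ, hx']
  have hu : IsUnit (algebraMap T C ((s'' * s' * s : Q.primeCompl) : T)) :=
    IsLocalization.map_units C (s'' * s' * s)
  have h10 : algebraMap T C t' = c * algebraMap T C ((s'' * s' * s : Q.primeCompl) : T) := by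
    rw [ht', Submonoid.coe_mul, Submonoid.coe_mul, map_mul, map_mul, map_mul, map_mul, ← hts]
    ring
  rw [h10] at h9
  exact (Ideal.mul_unit_mem_iff_mem _ hu).mp h9

end Loc

end Groth.Agent.Helper2.DLSm
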