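import Mathlib
import Groth.Prelude
import Groth.Agent.Helper2.DLSmC

set_option autoImplicit false

universe u

namespace Groth.Agent.Helper2.DLSm

open IsLocalRing RingTheory.Sequence

/-- a criterion for weak regularity of `List.ofFn z` in terms of ideal membership -/
theorem isWeaklyRegular_ofFn {C : Type u} [CommRing C] (n : ℕ) (z : Fin n → C)
    (h : ∀ (i : ℕ) (hi : i < n) (c : C),
      c * z ⟨i, hi⟩ ∈ Ideal.span (Set.range fun j : Fin i => z (Fin.castLE hi.le j)) →
      c ∈ Ideal.span (Set.range fun j : Fin i => z (Fin.castLE hi.le j))) :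
    IsWeaklyRegular C (List.ofFn z) := by
  constructor
  intro i hi'
  have hi : i < n := by simpa using hi'
  have hI : Ideal.ofList ((List.ofFn z).take i) =
      Ideal.span (Set.range fun j : Fin i => z (Fin.castLE hi.le j)) := by
    unfold Ideal.ofList
    congr 1
    ext a
    simp only [Set.mem_setOf_eq, Set.mem_range, List.mem_take_iff_getElem, List.getElem_ofFn,
      List.length_ofFn]
    constructor
    · rintro ⟨l, hl, rfl⟩
      have hl' : l < i := lt_of_lt_of_le hl (min_le_left _ _)
      exact ⟨⟨l, hl'⟩, rfl⟩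
    · rintro ⟨j, rfl⟩
      exact ⟨j.val, lt_min j.isLt (lt_trans j.isLt hi), rfl⟩
  rw [isSMulRegular_quotient_iff_mem_of_smul_mem]
  intro c hc
  rw [smul_eq_mul, Ideal.mul_top, hI] at hc ⊢
  rw [List.getElem_ofFn, smul_eq_mul, mul_comm] at hc
  exact h i hi c hc

section Loc

variable {k T : Type u} [Field k] [CommRing T] [Algebra k T] (Q : Ideal T) [Q.IsPrime]

local notation "C" => Localization.AtPrime Q

theorem exists_lift_basis [IsNoetherianRing T] :
    ∃ (n : ℕ) (x : Fin n → T), n = Module.finrank (ResidueField C) (CotangentSpace C) ∧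
      (∀ j, x j ∈ Q) ∧
      ∀ c : Fin n → C,
        (∑ j, c j * algebraMap T C (x j)) ∈ maximalIdeal C ^ 2 → ∀ j, c j ∈ maximalIdeal C := by
  classical
  let b := Module.finBasis (ResidueField C) (CotangentSpace C)
  choose y hy using fun j => (maximalIdeal C).toCotangent_surjective (b j)
  choose ts hts using fun j => IsLocalization.surj Q.primeCompl ((y j : C))
  have hyli : LinearIndependent (ResidueField C) (fun j => (maximalIdeal C).toCotangent (y j)) := by
    have : (fun j => (maximalIdeal C).toCotangent (y j)) = b := funext hy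
    rw [this]
    exact b.linearIndependent
  rw [Groth.Agent.Helper2.RegSmooth.cot_li_iff] at hyli
  refine ⟨_, fun j => (ts j).1, rfl, fun j => ?_, fun c hc j => ?_⟩
  · rw [← IsLocalization.AtPrime.to_map_mem_maximal_iff C Q, ← hts j]
    exact Ideal.mul_mem_right _ _ (y j).2
  · have h1 : ∑ j, c j * algebraMap T C (ts j).1 =
        ∑ j, (c j * algebraMap T C ((ts j).2 : T)) * (y j : C) := by
      refine Finset.sum_congr rfl (fun j _ => ?_)
      rw [← hts j]
      ring
    rw [h1] at hc
    have h2 := hyli _ hc j
    exact (Ideal.mul_unit_mem_iff_mem _ (IsLocalization.map_units C (ts j).2)).mp h2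

theorem isRegularLocalRing_localization [IsNoetherianRing T] (hT : Smoothing.IndSmooth k T) :
    IsRegularLocalRing C := by
  classical
  obtain ⟨n, x, hn, hxQ, hli⟩ := exists_lift_basis Q
  let z : Fin n → C := fun j => algebraMap T C (x j)
  have hw : IsWeaklyRegular C (List.ofFn z) :=
    isWeaklyRegular_ofFn n z (fun i hi c hc => step_C Q hT n x hxQ hli i hi c hc)
  have hmem : ∀ a ∈ List.ofFn z, a ∈ maximalIdeal C := by
    intro a ha
    rw [List.mem_ofFn] at ha
    obtain ⟨j, rfl⟩ := ha
    exact (IsLocalization.AtPrime.to_map_mem_maximal_iff C Q _).mpr (hxQ j)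
  have hreg : IsRegular C (List.ofFn z) :=
    IsRegular.of_isWeaklyRegular_of_mem_maximalIdeal C hmem hw
  have hdim := ringKrullDim_add_length_eq_ringKrullDim_of_isRegular (List.ofFn z) hreg
  rw [List.length_ofFn] at hdim
  apply IsRegularLocalRing.of_spanFinrank_maximalIdeal_le
  rw [IsLocalRing.spanFinrank_maximalIdeal_eq_finrank_cotangentSpace, ← hn, ← hdim]
  have hnt : Nontrivial (C ⧸ Ideal.ofList (List.ofFn z)) := by
    apply Ideal.Quotient.nontrivial_iff.mpr
    intro htop
    have hle : Ideal.ofList (List.ofFn z) ≤ maximalIdeal C := by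
      unfold Ideal.ofList
      rw [Ideal.span_le]
      exact fun a ha => hmem a ha
    exact (maximalIdeal.isMaximal C).ne_top (top_le_iff.mp (htop ▸ hle))
  have h0 : (0 : WithBot ℕ∞) ≤ ringKrullDim (C ⧸ Ideal.ofList (List.ofFn z)) :=
    ringKrullDim_nonneg_of_nontrivial
  exact le_add_of_nonneg_left h0

end Loc

/-- a noetherian ind-smooth algebra over a field is a regular ring -/
theorem isRegularRing_of_indSmooth {k T : Type u} [Field k] [CommRing T] [Algebra k T]
    [IsNoetherianRing T] (hT : Smoothing.IndSmooth k T) : IsRegularRing T := by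
  rw [isRegularRing_iff]
  intro Q hQ
  exact isRegularLocalRing_localization Q hT

end Groth.Agent.Helper2.DLSm
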