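import Mathlib
import Groth.Prelude
import Groth.Agent.Helper2.DLSmA
import Groth.Agent.Helper2.DLSmB
import Groth.Agent.Helper2.DLSmD

set_option autoImplicit false

universe u

namespace Groth.Agent.Helper2.DLSm

open TensorProduct

/-- an ind-smooth algebra with noetherian fibres is a regular homomorphism -/
theorem isRegularHom_of_indSmooth {R Λ : Type u} [CommRing R] [CommRing Λ] [Algebra R Λ]
    (hΛ : Smoothing.IndSmooth R Λ)
    (hN : ∀ (p : Ideal R) [p.IsPrime], IsNoetherianRing (p.Fiber Λ)) :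
    CAlg.IsRegularHom R Λ := by
  refine ⟨Groth.Agent.Helper2.IndSmoothIC.flat_of_indSmooth hΛ, fun p hp => ⟨hN p, ?_⟩⟩
  intro k' _ _ hfin
  have h1 : Smoothing.IndSmooth p.ResidueField (p.Fiber Λ) := indSmooth_baseChange hΛ
  have h2 : Smoothing.IndSmooth k' (k' ⊗[p.ResidueField] p.Fiber Λ) := indSmooth_baseChange h1
  haveI : IsNoetherianRing (p.Fiber Λ) := hN p
  haveI : IsNoetherianRing (p.Fiber Λ ⊗[p.ResidueField] k') := IsNoetherianRing.of_finite (p.Fiber Λ) _
  haveI : IsNoetherianRing (k' ⊗[p.ResidueField] p.Fiber Λ) :=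
    isNoetherianRing_of_ringEquiv _ (Algebra.TensorProduct.comm p.ResidueField (p.Fiber Λ) k').toRingEquiv
  exact isRegularRing_of_indSmooth h2

theorem s9308 (R : Type u) [CommRing R] {ι : Type u} [Preorder ι]
    [IsDirectedOrder ι] [Nonempty ι] (G : ι → Type u) [∀ i, CommRing (G i)] [∀ i, Algebra R (G i)]
    (f : ∀ i j : ι, i ≤ j → (G i →ₐ[R] G j)) [DirectedSystem G (fun i j h => f i j h)]
    (hs : ∀ i, Algebra.Smooth R (G i))
    (hN : ∀ (p : Ideal R) [p.IsPrime], IsNoetherianRing (p.Fiber (DirectLimit G f))) :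
    CAlg.IsRegularHom R (DirectLimit G f) :=
  isRegularHom_of_indSmooth (indSmooth_directLimit G f hs) hN

end Groth.Agent.Helper2.DLSm
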