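import Mathlib
import Groth.Prelude
import Groth.Agent.Helper2.CplQuot
import Groth.Agent.Helper2.ZarLem
import Groth.Agent.Helper2.TateN2e
import Groth.Agent.Helper2.AnUnr6
import Groth.Agent.Helper4.Japanese
import Groth.Agent.Helper5.AssHt
import Groth.Agent.Helper9.RadPrime
import Groth.Agent.S0543

set_option autoImplicit false
set_option linter.style.haveILetI false

namespace Groth.Agent.Helper2.NagAU

universe u

open TensorProduct IsLocalRing

theorem isReduced_of_quotient (A : Type u) [CommRing A] [IsNoetherianRing A] [IsLocalRing A]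
    (I : Ideal A) [Nontrivial (A ⧸ I)]
    (B : Type u) [CommRing B] [Algebra A B] [Algebra (A ⧸ I) B] [IsScalarTower A (A ⧸ I) B]
    (h : IsReduced (B ⊗[A ⧸ I] EGA4.Cpl (A ⧸ I))) : IsReduced (B ⊗[A] EGA4.Cpl A) := by
  obtain ⟨e⟩ := Groth.Agent.Helper2.CplQuot.nonempty_algEquiv A I
  let e1 : B ⊗[A ⧸ I] ((A ⧸ I) ⊗[A] EGA4.Cpl A) ≃ₐ[A ⧸ I] B ⊗[A ⧸ I] EGA4.Cpl (A ⧸ I) :=
    Algebra.TensorProduct.congr AlgEquiv.refl e
  let e2 : B ⊗[A ⧸ I] ((A ⧸ I) ⊗[A] EGA4.Cpl A) ≃ₐ[A ⧸ I] B ⊗[A] EGA4.Cpl A :=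
    Algebra.TensorProduct.cancelBaseChange A (A ⧸ I) (A ⧸ I) B (EGA4.Cpl A)
  exact isReduced_of_injective (e2.symm.toRingEquiv.trans e1.toRingEquiv).toRingHom
    (e2.symm.toRingEquiv.trans e1.toRingEquiv).injective

/-- the case of a field -/
theorem field_case (A : Type u) [CommRing A] [IsLocalRing A] (hbot : maximalIdeal A = ⊥)
    (B : Type u) [CommRing B] [IsDomain B] [Algebra A B] : IsReduced (B ⊗[A] EGA4.Cpl A) := by
  haveI : IsAdicComplete (maximalIdeal A) A := by rw [hbot]; infer_instance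
  let e : A ≃ₐ[A] EGA4.Cpl A := AdicCompletion.ofAlgEquiv (maximalIdeal A)
  let e1 : B ⊗[A] A ≃ₐ[A] B ⊗[A] EGA4.Cpl A := Algebra.TensorProduct.congr AlgEquiv.refl e
  let e2 : B ⊗[A] A ≃ₐ[A] B := Algebra.TensorProduct.rid A A B
  exact isReduced_of_injective (e1.symm.trans e2).toAlgHom.toRingHom (e1.symm.trans e2).injective

/-- dimension drops modulo a nonzero element -/
theorem dim_quot_le (A : Type u) [CommRing A] [IsDomain A] (n : ℕ) (hdim : ringKrullDim A ≤ n + 1)
    (t : A) (ht : t ≠ 0) (I : Ideal A) (htI : t ∈ I) : ringKrullDim (A ⧸ I) ≤ n := by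
  have h1 : ringKrullDim (A ⧸ Ideal.span {t}) + 1 ≤ ringKrullDim A :=
    ringKrullDim_quotient_succ_le_of_nonZeroDivisor (mem_nonZeroDivisors_of_ne_zero ht)
  have hle : Ideal.span {t} ≤ I := (Ideal.span_singleton_le_iff_mem I).mpr htI
  have h2 : ringKrullDim (A ⧸ I) ≤ ringKrullDim (A ⧸ Ideal.span {t}) :=
    ringKrullDim_le_of_surjective (Ideal.Quotient.factor hle) (Ideal.Quotient.factor_surjective hle)
  have h3 : ringKrullDim (A ⧸ I) + 1 ≤ (n : WithBot ℕ∞) + 1 :=
    (add_le_add_left h2 1).trans (h1.trans hdim)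
  exact ENat.WithBot.add_le_add_one_right_iff.mp h3

/-- the normal case of the induction step -/
theorem normal_case (n : ℕ)
    (IH : ∀ (A : Type u) [CommRing A] [IsDomain A] [IsLocalRing A] (_ : CAlg.IsNagata A),
      ringKrullDim A ≤ n → ∀ (B : Type u) [CommRing B] [IsDomain B] [Algebra A B]
      [Module.Finite A B] [FaithfulSMul A B], IsReduced (B ⊗[A] EGA4.Cpl A))
    (A : Type u) [CommRing A] [IsDomain A] [IsLocalRing A] (hA : CAlg.IsNagata A)
    (hdim : ringKrullDim A ≤ n + 1) (t : A) (htm : t ∈ maximalIdeal A) (ht0 : t ≠ 0)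
    (B' : Type u) [CommRing B'] [IsDomain B'] [IsIntegrallyClosed B'] [Algebra A B']
    [Module.Finite A B'] [FaithfulSMul A B'] : IsReduced (B' ⊗[A] EGA4.Cpl A) := by
  classical
  haveI := hA.1
  haveI : IsNoetherianRing (EGA4.Cpl A) := Groth.Agent.S0543.result A _
  haveI : IsNoetherianRing B' := IsNoetherianRing.of_finite A _
  have ht'0 : algebraMap A B' t ≠ 0 := fun h0 =>
    ht0 (FaithfulSMul.algebraMap_injective A B' (by rw [h0, map_zero]))
  -- Zariski's lemma
  have hZ : ∀ y : B' ⊗[A] EGA4.Cpl A, IsNilpotent y →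
      ∃ f : B' ⊗[A] EGA4.Cpl A, y = (algebraMap A B' t) • f := by
    intro y hy
    refine Groth.Agent.Helper2.ZarLem.main B' (algebraMap A B' t)
      (mem_nonZeroDivisors_of_ne_zero ht'0) _ ?_ y (Or.inl hy)
    intro q hq _
    have hht : q.height = 1 := Groth.Agent.Helper5.AssHt.main B' _ ht'0 q hq
    have hq0 : q ≠ ⊥ := by
      rintro rfl
      rw [Ideal.height_bot] at hht
      exact zero_ne_one hht
    refine ⟨⟨inferInstance, Groth.Agent.Helper9.RadPrime.dvr_of_height_le_one q hq0 hht.le⟩, ?_⟩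
    -- `t' ∈ q`
    have htq : algebraMap A B' t ∈ q := by
      apply IsAssociatedPrime.annihilator_le hq
      rw [Submodule.mem_annihilator]
      intro m _
      obtain ⟨b, rfl⟩ := Ideal.Quotient.mk_surjective m
      rw [← Ideal.Quotient.mk_eq_mk, ← Submodule.Quotient.mk_smul, Ideal.Quotient.mk_eq_mk,
        Ideal.Quotient.eq_zero_iff_mem, smul_eq_mul]
      exact Ideal.mul_mem_right _ _ (Ideal.mem_span_singleton_self _)
    -- the quotient `A₁`
    let I : Ideal A := RingHom.ker (algebraMap A (B' ⧸ q))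
    haveI : I.IsPrime := RingHom.ker_isPrime _
    have htI : t ∈ I := by
      rw [RingHom.mem_ker, IsScalarTower.algebraMap_apply A B' (B' ⧸ q),
        Ideal.Quotient.algebraMap_eq, Ideal.Quotient.eq_zero_iff_mem]
      exact htq
    letI : Algebra (A ⧸ I) (B' ⧸ q) := (RingHom.kerLift (algebraMap A (B' ⧸ q))).toAlgebra
    haveI : IsScalarTower A (A ⧸ I) (B' ⧸ q) := IsScalarTower.of_algebraMap_eq (fun a => rfl)
    haveI : FaithfulSMul (A ⧸ I) (B' ⧸ q) :=
      (faithfulSMul_iff_algebraMap_injective _ _).mpr (RingHom.kerLift_injective _)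
    haveI : Module.Finite (A ⧸ I) (B' ⧸ q) := Module.Finite.of_restrictScalars_finite A _ _
    have hNag₁ : CAlg.IsNagata (A ⧸ I) :=
      Groth.Agent.Helper2.AnUnr6.isNagata_of_surjective (Ideal.Quotient.mk I)
        Ideal.Quotient.mk_surjective hA
    have hdim₁ : ringKrullDim (A ⧸ I) ≤ n := dim_quot_le A n hdim t ht0 I htI
    have h1 : IsReduced ((B' ⧸ q) ⊗[A ⧸ I] EGA4.Cpl (A ⧸ I)) := IH (A ⧸ I) hNag₁ hdim₁ (B' ⧸ q)
    haveI h2 : IsReduced ((B' ⧸ q) ⊗[A] EGA4.Cpl A) := isReduced_of_quotient A I (B' ⧸ q) h1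
    let e : (B' ⧸ q) ⊗[B'] (B' ⊗[A] EGA4.Cpl A) ≃ₐ[B'] (B' ⧸ q) ⊗[A] EGA4.Cpl A :=
      Algebra.TensorProduct.cancelBaseChange A B' B' (B' ⧸ q) (EGA4.Cpl A)
    exact isReduced_of_injective e.toAlgHom.toRingHom e.injective
  have htreg : IsSMulRegular (B' ⊗[A] EGA4.Cpl A) (algebraMap A B' t) :=
    Module.Flat.isSMulRegular_of_nonZeroDivisors (M := B' ⊗[A] EGA4.Cpl A)
      (mem_nonZeroDivisors_of_ne_zero ht'0)
  have hpow : ∀ k : ℕ, ∀ y : B' ⊗[A] EGA4.Cpl A, IsNilpotent y →
      ∃ f : B' ⊗[A] EGA4.Cpl A, y = (algebraMap A B' t) ^ k • f := by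
    intro k
    induction k with
    | zero => intro y _; exact ⟨y, by simp⟩
    | succ k ih =>
      intro y hy
      obtain ⟨f, hf⟩ := hZ y hy
      have hfn : IsNilpotent f := by
        obtain ⟨N, hN⟩ := hy
        refine ⟨N, ?_⟩
        have h1 : (algebraMap A B' t) ^ N • f ^ N = 0 := by rw [← smul_pow, ← hf, hN]
        exact (htreg.pow N) (by
          change (algebraMap A B' t) ^ N • f ^ N =
            (algebraMap A B' t) ^ N • (0 : B' ⊗[A] EGA4.Cpl A)
          rw [smul_zero]; exact h1)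
      obtain ⟨g, hg⟩ := ih f hfn
      exact ⟨g, by rw [hf, hg, pow_succ, mul_smul, smul_comm]⟩
  refine ⟨fun y hy => ?_⟩
  -- Krull's intersection theorem on `Â ⊗ B'`
  let c : B' ⊗[A] EGA4.Cpl A ≃ₐ[A] EGA4.Cpl A ⊗[A] B' := Algebra.TensorProduct.comm A B' _
  have htm' : algebraMap A (EGA4.Cpl A) t ∈ maximalIdeal (EGA4.Cpl A) := by
    rw [mem_maximalIdeal, mem_nonunits_iff] at htm ⊢
    intro hu
    exact htm (isUnit_of_map_unit (algebraMap A (EGA4.Cpl A)) t hu)
  have hmem : c y ∈ (⨅ i : ℕ, (maximalIdeal (EGA4.Cpl A)) ^ i • ⊤ :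
      Submodule (EGA4.Cpl A) (EGA4.Cpl A ⊗[A] B')) := by
    rw [Submodule.mem_iInf]
    intro k
    obtain ⟨f, hf⟩ := hpow k y hy
    have h1 : c y = (algebraMap A (EGA4.Cpl A) t) ^ k • c f := by
      rw [hf, ← map_pow, algebraMap_smul, ← map_pow, algebraMap_smul, map_smul]
    rw [h1]
    exact Submodule.smul_mem_smul (Ideal.pow_mem_pow htm' k) Submodule.mem_top
  rw [Ideal.iInf_pow_smul_eq_bot_of_isLocalRing _ (Ideal.IsPrime.ne_top inferInstance)] at hmem
  have h0 : c y = 0 := hmem
  exact c.injective (by rw [h0, map_zero])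

/-- the induction step -/
theorem step (n : ℕ)
    (IH : ∀ (A : Type u) [CommRing A] [IsDomain A] [IsLocalRing A] (_ : CAlg.IsNagata A),
      ringKrullDim A ≤ n → ∀ (B : Type u) [CommRing B] [IsDomain B] [Algebra A B]
      [Module.Finite A B] [FaithfulSMul A B], IsReduced (B ⊗[A] EGA4.Cpl A))
    (A : Type u) [CommRing A] [IsDomain A] [IsLocalRing A] (hA : CAlg.IsNagata A)
    (hdim : ringKrullDim A ≤ n + 1) (B : Type u) [CommRing B] [IsDomain B] [Algebra A B]
    [Module.Finite A B] [FaithfulSMul A B] : IsReduced (B ⊗[A] EGA4.Cpl A) := by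
  classical
  haveI := hA.1
  haveI : IsNoetherianRing (EGA4.Cpl A) := Groth.Agent.S0543.result A _
  by_cases hbot : maximalIdeal A = ⊥
  · exact field_case A hbot B
  obtain ⟨t, htm, ht0⟩ := Submodule.exists_mem_ne_zero_of_ne_bot hbot
  -- fraction fields
  have hinjAL : Function.Injective (algebraMap A (FractionRing B)) := by
    rw [IsScalarTower.algebraMap_eq A B (FractionRing B)]
    exact (IsFractionRing.injective B (FractionRing B)).comp (FaithfulSMul.algebraMap_injective A B)
  haveI : FaithfulSMul A (FractionRing B) := (faithfulSMul_iff_algebraMap_injective A _).mpr hinjAL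
  letI : Algebra (FractionRing A) (FractionRing B) := FractionRing.liftAlgebra A (FractionRing B)
  haveI : IsScalarTower A (FractionRing A) (FractionRing B) :=
    FractionRing.isScalarTower_liftAlgebra A (FractionRing B)
  haveI : Algebra.IsAlgebraic A B := Algebra.IsAlgebraic.of_finite A B
  haveI : FiniteDimensional (FractionRing A) (FractionRing B) :=
    Module.Finite.of_isLocalization A B (nonZeroDivisors A)
  have hN2 : CAlg.IsN2 A :=
    Groth.Agent.Helper2.TateN2e.isN2_of_ringEquiv (RingEquiv.quotientBot A) (hA.2 ⊥)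
  haveI hfin' : Module.Finite A (integralClosure A (FractionRing B)) :=
    Groth.Agent.Helper4.Japanese.IsN2.finite hN2 (FractionRing A) (FractionRing B)
  haveI : IsIntegrallyClosed (integralClosure A (FractionRing B)) :=
    integralClosure.isIntegrallyClosedOfFiniteExtension (FractionRing A)
  haveI : IsNoetherianRing (integralClosure A (FractionRing B)) := IsNoetherianRing.of_finite A _
  -- the embedding of `B`
  let ι : B →ₐ[A] integralClosure A (FractionRing B) :=
    (IsScalarTower.toAlgHom A B (FractionRing B)).codRestrict (integralClosure A (FractionRing B))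
      (fun b => (Algebra.IsIntegral.isIntegral (R := A) b).map
        (IsScalarTower.toAlgHom A B (FractionRing B)))
  have hι : Function.Injective ι := by
    intro b₁ b₂ hb
    have := congrArg (integralClosure A (FractionRing B)).val hb
    exact IsFractionRing.injective B (FractionRing B) this
  suffices hsuff : IsReduced (integralClosure A (FractionRing B) ⊗[A] EGA4.Cpl A) by
    have hinj : Function.Injective
        (Algebra.TensorProduct.map ι (AlgHom.id A (EGA4.Cpl A))) := by
      have := Module.Flat.rTensor_preserves_injective_linearMap (M := EGA4.Cpl A)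
        ι.toLinearMap hι
      exact this
    exact isReduced_of_injective
      (Algebra.TensorProduct.map ι (AlgHom.id A (EGA4.Cpl A))).toRingHom hinj
  haveI : FaithfulSMul A (integralClosure A (FractionRing B)) := by
    rw [faithfulSMul_iff_algebraMap_injective]
    intro a b hab
    exact hinjAL (congrArg (integralClosure A (FractionRing B)).val hab)
  exact normal_case n IH A hA hdim t htm ht0 (integralClosure A (FractionRing B))

/-- injective case by induction on the dimension -/
theorem isReduced_aux : ∀ (n : ℕ) (A : Type u) [CommRing A] [IsDomain A] [IsLocalRing A]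
    (_ : CAlg.IsNagata A), ringKrullDim A ≤ n → ∀ (B : Type u) [CommRing B] [IsDomain B]
    [Algebra A B] [Module.Finite A B] [FaithfulSMul A B], IsReduced (B ⊗[A] EGA4.Cpl A)
  | 0 => by
    intro A _ _ _ hA hdim B _ _ _ _ _
    haveI : Ring.KrullDimLE 0 A := (Ring.krullDimLE_iff).mpr (by simpa using hdim)
    have hf : IsField A := Ring.KrullDimLE.isField_of_isDomain
    exact field_case A (IsLocalRing.isField_iff_maximalIdeal_eq.mp hf) B
  | n + 1 => by
    intro A _ _ _ hA hdim B _ _ _ _ _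
    exact step n (isReduced_aux n) A hA (by simpa using hdim) B

/-- A Nagata local ring is "analytically unramified" in the strong form: for every finite
`A`-algebra `B` which is a domain, `B ⊗ Â` is reduced. -/
theorem isReduced_tensor_cpl (A : Type u) [CommRing A] [IsLocalRing A] (hA : CAlg.IsNagata A)
    (B : Type u) [CommRing B] [IsDomain B] [Algebra A B] [Module.Finite A B] :
    IsReduced (B ⊗[A] EGA4.Cpl A) := by
  haveI := hA.1
  let I : Ideal A := RingHom.ker (algebraMap A B)
  haveI : I.IsPrime := RingHom.ker_isPrime _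
  letI : Algebra (A ⧸ I) B := (RingHom.kerLift (algebraMap A B)).toAlgebra
  haveI : IsScalarTower A (A ⧸ I) B := IsScalarTower.of_algebraMap_eq (fun a => rfl)
  haveI : FaithfulSMul (A ⧸ I) B :=
    (faithfulSMul_iff_algebraMap_injective _ _).mpr (RingHom.kerLift_injective _)
  haveI : Module.Finite (A ⧸ I) B := Module.Finite.of_restrictScalars_finite A _ _
  have hNag₁ : CAlg.IsNagata (A ⧸ I) :=
    Groth.Agent.Helper2.AnUnr6.isNagata_of_surjective (Ideal.Quotient.mk I)
      Ideal.Quotient.mk_surjective hA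
  haveI := hNag₁.1
  obtain ⟨n, hn⟩ : ∃ n : ℕ, ringKrullDim (A ⧸ I) ≤ n := by
    have hlt : ringKrullDim (A ⧸ I) < ⊤ := ringKrullDim_lt_top
    cases h : ringKrullDim (A ⧸ I) with
    | bot => exact ⟨0, bot_le⟩
    | coe m =>
      rw [h] at hlt
      have hm : m ≠ ⊤ := by
        rintro rfl
        exact lt_irrefl _ hlt
      obtain ⟨k, rfl⟩ := ENat.ne_top_iff_exists.mp hm
      exact ⟨k, le_rfl⟩
  exact isReduced_of_quotient A I B (isReduced_aux n (A ⧸ I) hNag₁ hn B)

/-- S0576 -/
theorem s0576 (R : Type u) [CommRing R] [IsDomain R] [IsLocalRing R] (hR : CAlg.IsNagata R) :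
    IsReduced (AdicCompletion (IsLocalRing.maximalIdeal R) R) := by
  haveI := isReduced_tensor_cpl R hR R
  let e : R ⊗[R] EGA4.Cpl R ≃ₐ[R] EGA4.Cpl R := Algebra.TensorProduct.lid R _
  exact isReduced_of_injective e.symm.toAlgHom.toRingHom e.symm.injective

end Groth.Agent.Helper2.NagAU
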