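import Mathlib
import Groth.Prelude
import Groth.Agent.Helper5.HenselFin

set_option autoImplicit false
set_option linter.style.haveILetI false

namespace Groth.Agent.Helper2.SemiCpl

universe u

open TensorProduct IsLocalRing

section Transport

variable {R : Type*} [CommRing R] (I : Ideal R) {M N : Type*} [AddCommGroup M] [Module R M]
  [AddCommGroup N] [Module R N]

theorem mem_smul_top_of_linearMap (f : M →ₗ[R] N) (n : ℕ) {x : M}
    (hx : x ∈ (I ^ n • ⊤ : Submodule R M)) : f x ∈ (I ^ n • ⊤ : Submodule R N) := by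
  have h1 : f x ∈ (I ^ n • ⊤ : Submodule R M).map f := Submodule.mem_map_of_mem hx
  rw [Submodule.map_smul''] at h1
  exact Submodule.smul_mono le_rfl le_top h1

/-- adic completeness transports along linear equivalences -/
theorem isAdicComplete_of_linearEquiv (e : M ≃ₗ[R] N) [h : IsAdicComplete I M] :
    IsAdicComplete I N := by
  haveI hH : IsHausdorff I N := by
    refine ⟨fun x hx => ?_⟩
    have h1 : e.symm x = 0 := by
      apply h.toIsHausdorff.haus'
      intro n
      rw [SModEq.zero]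
      have := (hx n)
      rw [SModEq.zero] at this
      exact mem_smul_top_of_linearMap I e.symm.toLinearMap n this
    rw [← e.apply_symm_apply x, h1, map_zero]
  haveI hP : IsPrecomplete I N := by
    refine ⟨fun f hf => ?_⟩
    obtain ⟨L, hL⟩ := h.toIsPrecomplete.prec' (fun n => e.symm (f n)) (by
      intro m n hmn
      rw [SModEq.sub_mem, ← map_sub]
      exact mem_smul_top_of_linearMap I e.symm.toLinearMap m (SModEq.sub_mem.mp (hf hmn)))
    refine ⟨e L, fun n => ?_⟩
    rw [SModEq.sub_mem]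
    have := mem_smul_top_of_linearMap I e.toLinearMap n (SModEq.sub_mem.mp (hL n))
    rw [map_sub] at this
    simpa using this
  exact {}

end Transport

section Main

variable (A : Type u) [CommRing A] [IsNoetherianRing A] [IsLocalRing A]
  (C : Type u) [CommRing C] [Algebra A C] [Module.Finite A C]

/-- `𝔪 C` is contained in the Jacobson radical -/
theorem map_le_jacobson :
    (maximalIdeal A).map (algebraMap A C) ≤ (⊥ : Ideal C).jacobson := by
  haveI : Algebra.IsIntegral A C := Algebra.IsIntegral.of_finite A C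
  rw [Ideal.jacobson]
  refine le_sInf ?_
  rintro M ⟨-, hM⟩
  haveI := hM
  haveI : (M.comap (algebraMap A C)).IsMaximal :=
    Ideal.isMaximal_comap_of_isIntegral_of_isMaximal M
  rw [Ideal.map_le_iff_le_comap, ← IsLocalRing.eq_maximalIdeal this]

/-- a power of the Jacobson radical is contained in `𝔪 C` -/
theorem exists_pow_jacobson_le :
    ∃ N : ℕ, (⊥ : Ideal C).jacobson ^ N ≤ (maximalIdeal A).map (algebraMap A C) := by
  haveI : Algebra.IsIntegral A C := Algebra.IsIntegral.of_finite A C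
  haveI : IsNoetherianRing C := IsNoetherianRing.of_finite A C
  have hrad : (⊥ : Ideal C).jacobson ≤ ((maximalIdeal A).map (algebraMap A C)).radical := by
    rw [Ideal.radical_eq_sInf]
    refine le_sInf ?_
    rintro P ⟨hIP, hP⟩
    haveI := hP
    have hcomap : P.comap (algebraMap A C) = maximalIdeal A := by
      apply le_antisymm (IsLocalRing.le_maximalIdeal (Ideal.comap_ne_top _ hP.ne_top))
      rw [← Ideal.map_le_iff_le_comap]
      exact hIP
    haveI : P.IsMaximal :=
      Ideal.isMaximal_of_isIntegral_of_isMaximal_comap P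
        (by rw [hcomap]; exact maximalIdeal.isMaximal A)
    rw [Ideal.jacobson]
    exact sInf_le ⟨bot_le, inferInstance⟩
  obtain ⟨N, hN⟩ := Ideal.exists_radical_pow_le_of_fg ((maximalIdeal A).map (algebraMap A C))
    (IsNoetherian.noetherian _)
  exact ⟨N, (Ideal.pow_right_mono hrad N).trans hN⟩

/-- `C ⊗ Â` is `𝔪`-adically complete as an `A`-module -/
theorem isAdicComplete_tensor :
    IsAdicComplete (maximalIdeal A) (C ⊗[A] EGA4.Cpl A) := by
  have fg : (maximalIdeal A).FG := (maximalIdeal A).fg_of_isNoetherianRing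
  haveI := AdicCompletion.isAdicComplete (I := maximalIdeal A) (M := C) fg
  let e1 : EGA4.Cpl A ⊗[A] C ≃ₗ[A] AdicCompletion (maximalIdeal A) C :=
    (AdicCompletion.ofTensorProductEquivOfFiniteNoetherian (maximalIdeal A) C).restrictScalars A
  let e2 : C ⊗[A] EGA4.Cpl A ≃ₗ[A] EGA4.Cpl A ⊗[A] C := TensorProduct.comm A _ _
  exact isAdicComplete_of_linearEquiv (maximalIdeal A) (e2.trans e1).symm

/-- `C ⊗ Â` is complete for the topology of the Jacobson radical of `C` -/
theorem isAdicComplete_jacobson :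
    IsAdicComplete ((⊥ : Ideal C).jacobson.map (algebraMap C (C ⊗[A] EGA4.Cpl A)))
      (C ⊗[A] EGA4.Cpl A) := by
  haveI h1 : IsAdicComplete ((maximalIdeal A).map (algebraMap A (C ⊗[A] EGA4.Cpl A)))
      (C ⊗[A] EGA4.Cpl A) :=
    (IsAdicComplete.map_algebraMap_iff (I := maximalIdeal A) (M := C ⊗[A] EGA4.Cpl A)
      (S := C ⊗[A] EGA4.Cpl A)).mpr (isAdicComplete_tensor A C)
  have h2 : (maximalIdeal A).map (algebraMap A (C ⊗[A] EGA4.Cpl A)) =
      ((maximalIdeal A).map (algebraMap A C)).map (algebraMap C (C ⊗[A] EGA4.Cpl A)) := by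
    rw [Ideal.map_map, ← IsScalarTower.algebraMap_eq]
  obtain ⟨N, hN⟩ := exists_pow_jacobson_le A C
  refine Groth.Agent.Helper5.HenselFin.isAdicComplete_of_pow_le
    ((maximalIdeal A).map (algebraMap A (C ⊗[A] EGA4.Cpl A))) _ N ?_ ?_
  · rw [h2, ← Ideal.map_pow]
    exact Ideal.map_mono hN
  · rw [h2]
    exact Ideal.map_mono (map_le_jacobson A C)

end Main

section Map

variable (A : Type u) [CommRing A] [IsNoetherianRing A] [IsLocalRing A]
  (C : Type u) [CommRing C] [Algebra A C] [Module.Finite A C]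

theorem evalₐ_compat {R : Type*} [CommRing R] (I : Ideal R) {m n : ℕ} (hle : m ≤ n)
    (x : AdicCompletion I R) :
    Ideal.Quotient.factor (Ideal.pow_le_pow_right hle) (AdicCompletion.evalₐ I n x) =
      AdicCompletion.evalₐ I m x := by
  obtain ⟨s, rfl⟩ := AdicCompletion.mk_surjective I R x
  rw [AdicCompletion.evalₐ_mk, AdicCompletion.evalₐ_mk, Ideal.Quotient.factor_mk]
  exact AdicCompletion.Ideal.mk_eq_mk I hle s

theorem algebraMap_mem_pow (n : ℕ) (a : A) (ha : a ∈ maximalIdeal A ^ n) :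
    algebraMap A C a ∈ (⊥ : Ideal C).jacobson ^ n := by
  have h1 : algebraMap A C a ∈ ((maximalIdeal A) ^ n).map (algebraMap A C) :=
    Ideal.mem_map_of_mem _ ha
  rw [Ideal.map_pow] at h1
  exact Ideal.pow_right_mono (map_le_jacobson A C) n h1

/-- `A/𝔪ⁿ → C/Jⁿ` -/
noncomputable def h (n : ℕ) : A ⧸ maximalIdeal A ^ n →ₐ[A] C ⧸ (⊥ : Ideal C).jacobson ^ n :=
  Ideal.Quotient.liftₐ (maximalIdeal A ^ n) (Algebra.ofId A (C ⧸ (⊥ : Ideal C).jacobson ^ n))
    (fun a ha => by
      rw [Algebra.ofId_apply, IsScalarTower.algebraMap_apply A C (C ⧸ (⊥ : Ideal C).jacobson ^ n),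
        Ideal.Quotient.algebraMap_eq, Ideal.Quotient.eq_zero_iff_mem]
      exact algebraMap_mem_pow A C n a ha)

/-- `Â → C/Jⁿ` -/
noncomputable def g (n : ℕ) : EGA4.Cpl A →ₐ[A] C ⧸ (⊥ : Ideal C).jacobson ^ n :=
  (h A C n).comp (AdicCompletion.evalₐ (maximalIdeal A) n)

/-- `C ⊗ Â → C/Jⁿ` -/
noncomputable def f (n : ℕ) : C ⊗[A] EGA4.Cpl A →ₐ[C] C ⧸ (⊥ : Ideal C).jacobson ^ n :=
  Algebra.TensorProduct.lift (Algebra.ofId C (C ⧸ (⊥ : Ideal C).jacobson ^ n)) (g A C n)
    (fun _ _ => Commute.all _ _)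

theorem f_tmul (n : ℕ) (c : C) (x : EGA4.Cpl A) :
    f A C n (c ⊗ₜ[A] x) = Ideal.Quotient.mk _ c * g A C n x := by
  rw [f, Algebra.TensorProduct.lift_tmul]
  rfl

theorem g_compat {m n : ℕ} (hle : m ≤ n) (x : EGA4.Cpl A) :
    Ideal.Quotient.factor (Ideal.pow_le_pow_right hle) (g A C n x) = g A C m x := by
  rw [g, g, AlgHom.comp_apply, AlgHom.comp_apply, ← evalₐ_compat (maximalIdeal A) hle x]
  obtain ⟨a, ha⟩ := Ideal.Quotient.mk_surjective (AdicCompletion.evalₐ (maximalIdeal A) n x)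
  rw [← ha, Ideal.Quotient.factor_mk]
  change Ideal.Quotient.factor _ (Ideal.Quotient.liftₐ _ _ _ (Ideal.Quotient.mk _ a)) =
    Ideal.Quotient.liftₐ _ _ _ (Ideal.Quotient.mk _ a)
  rw [Ideal.Quotient.liftₐ_apply, Ideal.Quotient.lift_mk, Ideal.Quotient.liftₐ_apply,
    Ideal.Quotient.lift_mk]
  change Ideal.Quotient.factor _ (algebraMap A (C ⧸ _) a) = algebraMap A (C ⧸ _) a
  rw [IsScalarTower.algebraMap_apply A C (C ⧸ (⊥ : Ideal C).jacobson ^ n),
    IsScalarTower.algebraMap_apply A C (C ⧸ (⊥ : Ideal C).jacobson ^ m),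
    Ideal.Quotient.algebraMap_eq, Ideal.Quotient.algebraMap_eq, Ideal.Quotient.factor_mk]

theorem f_compat {m n : ℕ} (hle : m ≤ n) :
    (Ideal.Quotient.factorₐ C (Ideal.pow_le_pow_right hle)).comp (f A C n) = f A C m := by
  apply Algebra.TensorProduct.ext'
  intro c x
  rw [AlgHom.comp_apply, f_tmul, f_tmul, map_mul]
  congr 1
  exact g_compat A C hle x

/-- the comparison map `C ⊗ Â → Ĉ` -/
noncomputable def Φ : C ⊗[A] EGA4.Cpl A →ₐ[C] AdicCompletion (⊥ : Ideal C).jacobson C :=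
  AdicCompletion.liftAlgHom (⊥ : Ideal C).jacobson (f A C) (fun hle => f_compat A C hle)

theorem evalₐ_Φ (n : ℕ) (t : C ⊗[A] EGA4.Cpl A) :
    AdicCompletion.evalₐ (⊥ : Ideal C).jacobson n (Φ A C t) = f A C n t := by
  rw [Φ, AdicCompletion.evalₐ_liftAlgHom]

end Map

section Bij

variable (A : Type u) [CommRing A] [IsNoetherianRing A] [IsLocalRing A]
  (C : Type u) [CommRing C] [Algebra A C] [Module.Finite A C]

theorem f_eq_zero_of_mem (n : ℕ) (t : C ⊗[A] EGA4.Cpl A)
    (ht : t ∈ ((⊥ : Ideal C).jacobson ^ n).map (algebraMap C (C ⊗[A] EGA4.Cpl A))) :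
    f A C n t = 0 := by
  have hle : ((⊥ : Ideal C).jacobson ^ n).map (algebraMap C (C ⊗[A] EGA4.Cpl A)) ≤
      RingHom.ker (f A C n).toRingHom := by
    rw [Ideal.map_le_iff_le_comap]
    intro j hj
    rw [Ideal.mem_comap, RingHom.mem_ker]
    change f A C n (algebraMap C _ j) = 0
    rw [AlgHom.commutes, Ideal.Quotient.algebraMap_eq, Ideal.Quotient.eq_zero_iff_mem]
    exact hj
  exact hle ht

theorem smul_top_le (n : ℕ) :
    (maximalIdeal A ^ n • ⊤ : Submodule A (C ⊗[A] EGA4.Cpl A)) ≤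
      (((⊥ : Ideal C).jacobson ^ n).map
        (algebraMap C (C ⊗[A] EGA4.Cpl A))).restrictScalars A := by
  rw [Submodule.smul_le]
  intro a ha t _
  have hs : ∀ (c : C) (t : C ⊗[A] EGA4.Cpl A), c • t = algebraMap C (C ⊗[A] EGA4.Cpl A) c * t :=
    fun c t => Algebra.smul_def c t
  rw [Submodule.restrictScalars_mem, ← IsScalarTower.algebraMap_smul C a t, hs]
  exact Ideal.mul_mem_right _ _ (Ideal.mem_map_of_mem _ (algebraMap_mem_pow A C n a ha))

theorem exists_sub_mem (n : ℕ) (t : C ⊗[A] EGA4.Cpl A) :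
    ∃ c : C, t - algebraMap C (C ⊗[A] EGA4.Cpl A) c ∈
      (maximalIdeal A ^ n • ⊤ : Submodule A (C ⊗[A] EGA4.Cpl A)) := by
  have fg : (maximalIdeal A).FG := (maximalIdeal A).fg_of_isNoetherianRing
  induction t using TensorProduct.induction_on with
  | zero => exact ⟨0, by simp⟩
  | tmul c' x =>
    obtain ⟨a, ha⟩ := Ideal.Quotient.mk_surjective (AdicCompletion.evalₐ (maximalIdeal A) n x)
    have hμ : x - algebraMap A (EGA4.Cpl A) a ∈
        (maximalIdeal A ^ n • ⊤ : Submodule A (EGA4.Cpl A)) := by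
      rw [AdicCompletion.pow_smul_top_eq_ker_eval fg, LinearMap.mem_ker]
      have h1 : AdicCompletion.evalₐ (maximalIdeal A) n (x - algebraMap A (EGA4.Cpl A) a) = 0 := by
        rw [map_sub, AdicCompletion.algebraMap_apply, AdicCompletion.evalₐ_of,
          Algebra.algebraMap_self, RingHom.id_apply, ha, sub_self]
      have hle : maximalIdeal A ^ n ≤ maximalIdeal A ^ n • ⊤ := by
        rw [smul_eq_mul, Ideal.mul_top]
      have h2 := AdicCompletion.factor_evalₐ_eq_eval (maximalIdeal A) (n := n)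
        (x - algebraMap A (EGA4.Cpl A) a) hle
      rw [← h2, h1, map_zero]
    refine ⟨a • c', ?_⟩
    have h3 : c' ⊗ₜ[A] x - algebraMap C (C ⊗[A] EGA4.Cpl A) (a • c') =
        TensorProduct.mk A C (EGA4.Cpl A) c' (x - algebraMap A (EGA4.Cpl A) a) := by
      rw [map_sub, TensorProduct.mk_apply, TensorProduct.mk_apply,
        Algebra.TensorProduct.algebraMap_apply, Algebra.algebraMap_self, RingHom.id_apply,
        Algebra.algebraMap_eq_smul_one a, TensorProduct.tmul_smul, TensorProduct.smul_tmul']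
    rw [h3]
    exact mem_smul_top_of_linearMap (maximalIdeal A) _ n hμ
  | add t₁ t₂ h₁ h₂ =>
    obtain ⟨c₁, hc₁⟩ := h₁
    obtain ⟨c₂, hc₂⟩ := h₂
    refine ⟨c₁ + c₂, ?_⟩
    have : t₁ + t₂ - algebraMap C (C ⊗[A] EGA4.Cpl A) (c₁ + c₂) =
        (t₁ - algebraMap C _ c₁) + (t₂ - algebraMap C _ c₂) := by
      rw [map_add]; ring
    rw [this]
    exact Submodule.add_mem _ hc₁ hc₂

theorem mem_of_f_eq_zero (n : ℕ) (t : C ⊗[A] EGA4.Cpl A) (ht : f A C n t = 0) :
    t ∈ ((⊥ : Ideal C).jacobson ^ n).map (algebraMap C (C ⊗[A] EGA4.Cpl A)) := by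
  obtain ⟨c, hc⟩ := exists_sub_mem A C n t
  have hr := smul_top_le A C n hc
  rw [Submodule.restrictScalars_mem] at hr
  have h1 : f A C n (algebraMap C _ c) = 0 := by
    have h2 := f_eq_zero_of_mem A C n _ hr
    rw [map_sub, ht, zero_sub, neg_eq_zero] at h2
    exact h2
  rw [AlgHom.commutes, Ideal.Quotient.algebraMap_eq, Ideal.Quotient.eq_zero_iff_mem] at h1
  have h3 : t = algebraMap C _ c + (t - algebraMap C _ c) := by ring
  rw [h3]
  exact Ideal.add_mem _ (Ideal.mem_map_of_mem _ h1) hr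

theorem Φ_injective : Function.Injective (Φ A C) := by
  haveI := isAdicComplete_jacobson A C
  rw [injective_iff_map_eq_zero]
  intro t ht
  apply IsHausdorff.haus' (I := (⊥ : Ideal C).jacobson.map (algebraMap C (C ⊗[A] EGA4.Cpl A))) t
  intro n
  rw [SModEq.zero, smul_eq_mul, Ideal.mul_top, ← Ideal.map_pow]
  apply mem_of_f_eq_zero
  rw [← evalₐ_Φ, ht, map_zero]

theorem Φ_surjective : Function.Surjective (Φ A C) := by
  haveI := isAdicComplete_jacobson A C
  intro x
  choose c hc using fun n : ℕ =>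
    Ideal.Quotient.mk_surjective (AdicCompletion.evalₐ (⊥ : Ideal C).jacobson n x)
  have hcauchy : ∀ {m n : ℕ}, m ≤ n → c n - c m ∈ (⊥ : Ideal C).jacobson ^ m := by
    intro m n hle
    rw [← Ideal.Quotient.eq, ← Ideal.Quotient.factor_mk (Ideal.pow_le_pow_right hle), hc, hc]
    exact evalₐ_compat _ hle x
  obtain ⟨t, ht⟩ := IsPrecomplete.prec'
    (I := (⊥ : Ideal C).jacobson.map (algebraMap C (C ⊗[A] EGA4.Cpl A)))
    (fun n => algebraMap C (C ⊗[A] EGA4.Cpl A) (c n)) (by
      intro m n hle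
      rw [SModEq.sub_mem, smul_eq_mul, Ideal.mul_top, ← Ideal.map_pow, ← map_sub]
      apply Ideal.mem_map_of_mem
      have := hcauchy hle
      rw [← neg_sub]
      exact Ideal.neg_mem_iff _ |>.mpr this)
  refine ⟨t, AdicCompletion.ext_evalₐ fun n => ?_⟩
  rw [evalₐ_Φ, ← hc n]
  have h1 := ht n
  rw [SModEq.sub_mem, smul_eq_mul, Ideal.mul_top, ← Ideal.map_pow] at h1
  have h2 := f_eq_zero_of_mem A C n _ h1
  rw [map_sub, AlgHom.commutes, Ideal.Quotient.algebraMap_eq, sub_eq_zero] at h2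
  exact h2.symm

/-- the comparison isomorphism `C ⊗ Â ≃ Ĉ` (completion for the Jacobson radical) -/
noncomputable def equiv : C ⊗[A] EGA4.Cpl A ≃ₐ[C] AdicCompletion (⊥ : Ideal C).jacobson C :=
  AlgEquiv.ofBijective (Φ A C) ⟨Φ_injective A C, Φ_surjective A C⟩

end Bij

end Groth.Agent.Helper2.SemiCpl
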