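import Mathlib
import Groth.Prelude
import Groth.Agent.Helper2.SemiCpl
import Groth.Agent.Helper2.NagAU
import Groth.Agent.Helper2.FFConn
import Groth.Agent.Helper2.AnUnr6

set_option autoImplicit false
set_option linter.style.haveILetI false

namespace Groth.Agent.Helper2.SemiRed

universe u

open TensorProduct IsLocalRing


theorem isReduced_pi {ι : Type*} (R : ι → Type*) [∀ i, CommRing (R i)] [h : ∀ i, IsReduced (R i)] :
    IsReduced (∀ i, R i) :=
  ⟨fun _ hx => funext fun i => (hx.map (Pi.evalRingHom R i)).eq_zero⟩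

/-- reducedness of `C ⊗ F` for flat `F` can be tested on the minimal primes of `C` -/
theorem isReduced_tensor_of_minimalPrimes (A : Type u) [CommRing A] (C : Type u) [CommRing C]
    [Algebra A C] [IsNoetherianRing C] [IsReduced C] (F : Type u) [CommRing F] [Algebra A F]
    [Module.Flat A F]
    (h : ∀ q ∈ minimalPrimes C, IsReduced ((C ⧸ q) ⊗[A] F)) : IsReduced (C ⊗[A] F) := by
  classical
  have hfin : (minimalPrimes C).Finite := minimalPrimes.finite_of_isNoetherianRing C
  haveI : Fintype (minimalPrimes C) := hfin.fintype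
  let φ : C →ₐ[A] (∀ q : minimalPrimes C, C ⧸ q.1) :=
    Pi.algHom A _ (fun q => Ideal.Quotient.mkₐ A q.1)
  have hφ : Function.Injective φ := by
    rw [injective_iff_map_eq_zero]
    intro c hc
    have h1 : c ∈ sInf (minimalPrimes C) := by
      rw [Ideal.mem_sInf]
      intro q hq
      have := congrFun hc ⟨q, hq⟩
      change Ideal.Quotient.mk q c = 0 at this
      exact Ideal.Quotient.eq_zero_iff_mem.mp this
    rw [minimalPrimes, Ideal.sInf_minimalPrimes] at h1
    have h2 : (⊥ : Ideal C).radical = ⊥ := by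
      change nilradical C = ⊥
      exact nilradical_eq_bot_iff.mpr inferInstance
    rw [h2] at h1
    exact h1
  let ψ : C ⊗[A] F →ₐ[A] (∀ q : minimalPrimes C, C ⧸ q.1) ⊗[A] F :=
    Algebra.TensorProduct.map φ (AlgHom.id A F)
  have hψ : Function.Injective ψ :=
    Module.Flat.rTensor_preserves_injective_linearMap (M := F) φ.toLinearMap hφ
  haveI : ∀ q : minimalPrimes C, IsReduced (F ⊗[A] (C ⧸ q.1)) := fun q => by
    haveI := h q.1 q.2
    exact isReduced_of_injective (Algebra.TensorProduct.comm A F (C ⧸ q.1)).toAlgHom.toRingHom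
      (Algebra.TensorProduct.comm A F (C ⧸ q.1)).injective
  haveI : IsReduced (∀ q : minimalPrimes C, F ⊗[A] (C ⧸ q.1)) := isReduced_pi _
  let e1 : (∀ q : minimalPrimes C, C ⧸ q.1) ⊗[A] F ≃ₐ[A] F ⊗[A] (∀ q : minimalPrimes C, C ⧸ q.1) :=
    Algebra.TensorProduct.comm A _ _
  let e2 : F ⊗[A] (∀ q : minimalPrimes C, C ⧸ q.1) ≃ₐ[A]
      ∀ q : minimalPrimes C, F ⊗[A] (C ⧸ q.1) :=
    Algebra.TensorProduct.piRight A A F _
  haveI : IsReduced ((∀ q : minimalPrimes C, C ⧸ q.1) ⊗[A] F) :=
    isReduced_of_injective (e1.trans e2).toAlgHom.toRingHom (e1.trans e2).injective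
  exact isReduced_of_injective ψ.toRingHom hψ



theorem exists_smul_mem {A₀ K K' : Type*} [CommRing A₀] [IsDomain A₀] [Field K] [Algebra A₀ K]
    [IsFractionRing A₀ K] [Field K'] [Algebra A₀ K'] [Algebra K K'] [IsScalarTower A₀ K K']
    {ι : Type*} (b : Module.Basis ι K K') (C : Subalgebra A₀ K') (hC : ∀ i, b i ∈ C) (z : K') :
    ∃ d : A₀, d ≠ 0 ∧ d • z ∈ C := by
  have hz : z ∈ Submodule.span K (Set.range b) := b.mem_span z
  induction hz using Submodule.span_induction with
  | mem x hx =>
    obtain ⟨i, rfl⟩ := hx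
    exact ⟨1, one_ne_zero, by rw [one_smul]; exact hC i⟩
  | zero => exact ⟨1, one_ne_zero, by rw [smul_zero]; exact C.zero_mem⟩
  | add x y _ _ hx hy =>
    obtain ⟨d₁, hd₁, h₁⟩ := hx
    obtain ⟨d₂, hd₂, h₂⟩ := hy
    refine ⟨d₁ * d₂, mul_ne_zero hd₁ hd₂, ?_⟩
    have : (d₁ * d₂) • (x + y) = d₂ • (d₁ • x) + d₁ • (d₂ • y) := by
      rw [smul_add, mul_smul, mul_smul, smul_comm d₁ d₂ x]
    rw [this]
    exact C.add_mem (C.smul_mem h₁ d₂) (C.smul_mem h₂ d₁)
  | smul k x _ hx =>
    obtain ⟨d, hd, h₁⟩ := hx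
    obtain ⟨⟨a, d'⟩, had⟩ := IsLocalization.surj (nonZeroDivisors A₀) k
    refine ⟨d' * d, mul_ne_zero (nonZeroDivisors.ne_zero d'.2) hd, ?_⟩
    have : ((d' : A₀) * d) • (k • x) = a • (d • x) := by
      rw [mul_smul, smul_comm d k x, ← algebraMap_smul K (d' : A₀) (k • (d • x)), ← mul_smul,
        mul_comm, had, algebraMap_smul]
    rw [this]
    exact C.smul_mem h₁ a

theorem isFractionRing_of_basis_mem {A₀ K K' : Type*} [CommRing A₀] [IsDomain A₀] [Field K]
    [Algebra A₀ K]
    [IsFractionRing A₀ K] [Field K'] [Algebra A₀ K'] [Algebra K K'] [IsScalarTower A₀ K K']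
    {ι : Type*} (b : Module.Basis ι K K') (C : Subalgebra A₀ K') (hC : ∀ i, b i ∈ C) :
    IsFractionRing C K' := by
  have hinj : Function.Injective (algebraMap A₀ K') := by
    rw [IsScalarTower.algebraMap_eq A₀ K K']
    exact (algebraMap K K').injective.comp (IsFractionRing.injective A₀ K)
  rw [IsFractionRing, isLocalization_iff]
  refine ⟨?_, ?_, ?_⟩
  · intro y
    apply IsUnit.mk0
    intro h0
    have : (y : C) = 0 := Subtype.ext h0
    exact nonZeroDivisors.ne_zero y.2 this
  · intro z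
    obtain ⟨d, hd, hmem⟩ := exists_smul_mem b C hC z
    have hd' : algebraMap A₀ C d ≠ 0 := by
      intro h0
      apply hd
      apply hinj
      rw [map_zero, IsScalarTower.algebraMap_apply A₀ C K', h0, map_zero]
    refine ⟨⟨⟨d • z, hmem⟩, ⟨algebraMap A₀ C d, mem_nonZeroDivisors_of_ne_zero hd'⟩⟩, ?_⟩
    change z * algebraMap C K' (algebraMap A₀ C d) = d • z
    rw [← IsScalarTower.algebraMap_apply, Algebra.smul_def, mul_comm]
  · intro x y hxy
    exact ⟨1, by rw [Subtype.ext hxy]⟩


section Main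

variable (A : Type u) [CommRing A] [IsNoetherianRing A] [IsLocalRing A]

/-- transfer along `SemiCpl.equiv` -/
theorem isReduced_completion_iff (C : Type u) [CommRing C] [Algebra A C] [Module.Finite A C] :
    IsReduced (AdicCompletion ((⊥ : Ideal C).jacobson) C) ↔ IsReduced (C ⊗[A] EGA4.Cpl A) := by
  let e := Groth.Agent.Helper2.SemiCpl.equiv A C
  constructor
  · intro h
    exact isReduced_of_injective e.toAlgHom.toRingHom e.injective
  · intro h
    exact isReduced_of_injective e.symm.toAlgHom.toRingHom e.symm.injective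

/-- S2647 -/
theorem s2647 (hN : ∀ (p : Ideal A) [p.IsPrime], CAlg.IsN2 (A ⧸ p))
    (C : Type u) [CommRing C] [Algebra A C] [Module.Finite A C] [IsReduced C] :
    IsReduced (AdicCompletion ((⊥ : Ideal C).jacobson) C) := by
  have hA : CAlg.IsNagata A := ⟨inferInstance, fun p _ => hN p⟩
  haveI : IsNoetherianRing C := IsNoetherianRing.of_finite A C
  rw [isReduced_completion_iff A C]
  apply isReduced_tensor_of_minimalPrimes
  intro q hq
  haveI : q.IsPrime := hq.1.1
  exact Groth.Agent.Helper2.NagAU.isReduced_tensor_cpl A hA (C ⧸ q)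

/-- finite extensions of residue fields tensored with the completion are reduced -/
theorem isReduced_finite_ext
    (H : ∀ (C : Type u) [CommRing C] [Algebra A C], Module.Finite A C → IsReduced C →
        IsReduced (AdicCompletion ((⊥ : Ideal C).jacobson) C))
    (p : Ideal A) [p.IsPrime] (κ' : Type u) [Field κ'] [Algebra p.ResidueField κ']
    [FiniteDimensional p.ResidueField κ'] [Algebra A κ'] [IsScalarTower A p.ResidueField κ'] :
    IsReduced (κ' ⊗[A] EGA4.Cpl A) := by
  classical
  let κ := p.ResidueField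
  letI : Algebra (A ⧸ p) κ' := ((algebraMap κ κ').comp (algebraMap (A ⧸ p) κ)).toAlgebra
  haveI : IsScalarTower (A ⧸ p) κ κ' := IsScalarTower.of_algebraMap_eq (fun _ => rfl)
  haveI : IsScalarTower A (A ⧸ p) κ' := IsScalarTower.of_algebraMap_eq (fun a => by
    change algebraMap A κ' a = algebraMap κ κ' (algebraMap (A ⧸ p) κ _)
    rw [IsScalarTower.algebraMap_apply A κ κ', IsScalarTower.algebraMap_apply A (A ⧸ p) κ])
  obtain ⟨s, b, hb⟩ := FiniteDimensional.exists_is_basis_integral (A ⧸ p) κ κ'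
  let C : Subalgebra (A ⧸ p) κ' := Algebra.adjoin (A ⧸ p) (Set.range b)
  have hC : ∀ i, b i ∈ C := fun i => Algebra.subset_adjoin ⟨i, rfl⟩
  haveI : IsFractionRing C κ' := isFractionRing_of_basis_mem b C hC
  haveI hfin' : Module.Finite (A ⧸ p) C := by
    have h1 : (Algebra.adjoin (A ⧸ p) (Set.range b)).toSubmodule.FG :=
      fg_adjoin_of_finite (Set.finite_range b) (by rintro x ⟨i, rfl⟩; exact hb i)
    exact Module.Finite.iff_fg.mpr h1
  haveI : IsScalarTower A (A ⧸ p) C :=
    IsScalarTower.of_algebraMap_eq (fun a =>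
      Subtype.ext (IsScalarTower.algebraMap_apply A (A ⧸ p) κ' a))
  haveI : Module.Finite A C := Module.Finite.trans (A ⧸ p) _
  have h1 : IsReduced (C ⊗[A] EGA4.Cpl A) :=
    (isReduced_completion_iff A C).mp (H C inferInstance inferInstance)
  exact Groth.Agent.Helper2.AnUnr6.isReduced_tensor_fractionRing
    (C := C) (R := κ') (nonZeroDivisors C) h1

/-- S2648 -/
theorem s2648 :
    (∀ (C : Type u) [CommRing C] [Algebra A C], Module.Finite A C → IsReduced C →
        IsReduced (AdicCompletion ((⊥ : Ideal C).jacobson) C)) ↔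
      EGA4.HasGeomReducedFormalFibres A := by
  constructor
  · intro H p hp
    rw [Algebra.isGeometricallyReduced_field_iff]
    let κ := p.ResidueField
    haveI : IsReduced ((κ ⊗[A] EGA4.Cpl A) ⊗[κ] AlgebraicClosure κ) := by
      apply IsReduced.tensorProduct_of_flat_of_forall_fg
      intro B hB
      haveI : Algebra.IsIntegral κ B := ⟨fun x =>
        (isIntegral_algHom_iff B.val Subtype.val_injective).mp
          (Algebra.IsIntegral.isIntegral (x : AlgebraicClosure κ))⟩
      haveI : Algebra.FiniteType κ B := (Subalgebra.fg_iff_finiteType B).mp hB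
      haveI hfin : Module.Finite κ B := Algebra.IsIntegral.finite
      have hfield : IsField B := Subalgebra.isField_of_algebraic B
      letI : Field B := hfield.toField
      letI : Algebra A B := ((algebraMap κ B).comp (algebraMap A κ)).toAlgebra
      haveI : IsScalarTower A κ B := IsScalarTower.of_algebraMap_eq (fun _ => rfl)
      haveI h1 : IsReduced (B ⊗[A] EGA4.Cpl A) := isReduced_finite_ext A H p B
      let e1 : B ⊗[κ] (κ ⊗[A] EGA4.Cpl A) ≃ₐ[κ] B ⊗[A] EGA4.Cpl A :=
        Algebra.TensorProduct.cancelBaseChange A κ κ B (EGA4.Cpl A)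
      let e2 : (κ ⊗[A] EGA4.Cpl A) ⊗[κ] B ≃ₐ[κ] B ⊗[κ] (κ ⊗[A] EGA4.Cpl A) :=
        Algebra.TensorProduct.comm κ _ B
      exact isReduced_of_injective (e2.trans e1).toAlgHom.toRingHom (e2.trans e1).injective
    exact isReduced_of_injective
      (Algebra.TensorProduct.comm κ (AlgebraicClosure κ) (κ ⊗[A] EGA4.Cpl A)).toAlgHom.toRingHom
      (Algebra.TensorProduct.comm κ (AlgebraicClosure κ) (κ ⊗[A] EGA4.Cpl A)).injective
  · intro h C _ _ hfin hred
    haveI := hfin
    haveI := hred
    haveI : IsNoetherianRing C := IsNoetherianRing.of_finite A C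
    rw [isReduced_completion_iff A C]
    apply isReduced_tensor_of_minimalPrimes
    intro q hq
    haveI : q.IsPrime := hq.1.1
    haveI : Algebra.IsIntegral A (C ⧸ q) := Algebra.IsIntegral.of_finite A (C ⧸ q)
    exact Groth.Agent.Helper2.FFConn.isReduced_tensor_cpl A h (C ⧸ q)

end Main

end Groth.Agent.Helper2.SemiRed
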