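import Mathlib
import Groth.Prelude
import Groth.Agent.Helper2.SemiRed
import Groth.Agent.Helper2.AnUnr2
import Groth.Agent.Helper2.AnUnr6
import Groth.Agent.Helper2.NagataCompl

set_option autoImplicit false
set_option linter.style.haveILetI false

namespace Groth.Agent.Helper2.LocDom

universe u

open TensorProduct IsLocalRing Polynomial

/-- a subalgebra of a field generated over a local ring by elements satisfying monic equations
whose lower coefficients lie in the maximal ideal is local -/
theorem isLocalRing_adjoin {A₀ : Type*} [CommRing A₀] [IsLocalRing A₀] {L : Type*} [Field L]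
    [Algebra A₀ L] (X : Set L)
    (hX : ∀ x ∈ X, ∃ Q : A₀[X], Q.Monic ∧ aeval x Q = 0 ∧
      ∀ j < Q.natDegree, Q.coeff j ∈ maximalIdeal A₀) :
    IsLocalRing (Algebra.adjoin A₀ X) := by
  set S := Algebra.adjoin A₀ X with hS
  haveI : Algebra.IsIntegral A₀ S := Algebra.IsIntegral.adjoin (fun x hx => by
    obtain ⟨Q, hQ, h0, -⟩ := hX x hx
    exact ⟨Q, hQ, by rw [← aeval_def]; exact h0⟩)
  let J : Ideal S := Ideal.span ((algebraMap A₀ S '' (maximalIdeal A₀ : Set A₀)) ∪
    (Subtype.val ⁻¹' X))
  have hJ1 : ∀ a ∈ maximalIdeal A₀, algebraMap A₀ S a ∈ J := fun a ha =>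
    Ideal.subset_span (Or.inl ⟨a, ha, rfl⟩)
  have hJ2 : ∀ y : S, (y : L) ∈ X → y ∈ J := fun y hy => Ideal.subset_span (Or.inr hy)
  have hres : ∀ s : S, ∃ a : A₀, s - algebraMap A₀ S a ∈ J := by
    let π : S →ₐ[A₀] S ⧸ J := Ideal.Quotient.mkₐ A₀ J
    have htop : Algebra.adjoin A₀ (Subtype.val ⁻¹' X : Set S) = ⊤ :=
      Algebra.adjoin_adjoin_coe_preimage
    have hle : (⊤ : Subalgebra A₀ S).map π ≤ ⊥ := by
      rw [← htop, AlgHom.map_adjoin, Algebra.adjoin_le_iff]
      rintro _ ⟨y, hy, rfl⟩
      have : π y = 0 := Ideal.Quotient.eq_zero_iff_mem.mpr (hJ2 y hy)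
      rw [this]
      exact Subalgebra.zero_mem _
    intro s
    have h1 : π s ∈ (⊥ : Subalgebra A₀ (S ⧸ J)) := hle ⟨s, Algebra.mem_top, rfl⟩
    obtain ⟨a, ha⟩ := Algebra.mem_bot.mp h1
    refine ⟨a, ?_⟩
    rw [← Ideal.Quotient.eq_zero_iff_mem, map_sub, sub_eq_zero]
    change π s = π (algebraMap A₀ S a)
    rw [AlgHom.commutes, ha]
  have key : ∀ M : Ideal S, M.IsMaximal → M = J := by
    intro M hM
    haveI := hM
    have hcomap : M.comap (algebraMap A₀ S) = maximalIdeal A₀ := by
      haveI : (M.comap (algebraMap A₀ S)).IsMaximal :=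
        Ideal.isMaximal_comap_of_isIntegral_of_isMaximal M
      exact IsLocalRing.eq_maximalIdeal this
    have hm : ∀ a ∈ maximalIdeal A₀, algebraMap A₀ S a ∈ M := fun a ha => by
      rw [← hcomap] at ha
      exact ha
    have hJM : J ≤ M := by
      rw [Ideal.span_le]
      rintro y (⟨a, ha, rfl⟩ | hy)
      · exact hm a ha
      · obtain ⟨Q, hQ, h0, hc⟩ := hX (y : L) hy
        have h1 : aeval y Q = 0 := by
          apply Subtype.val_injective
          rw [← Subalgebra.aeval_coe, h0]
          rfl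
        rw [aeval_eq_sum_range, Finset.sum_range_succ, hQ.coeff_natDegree, one_smul] at h1
        have h2 : y ^ Q.natDegree = - ∑ i ∈ Finset.range Q.natDegree, Q.coeff i • y ^ i :=
          eq_neg_of_add_eq_zero_right h1
        have h3 : y ^ Q.natDegree ∈ M := by
          rw [h2]
          refine M.neg_mem (M.sum_mem fun i hi => ?_)
          rw [Algebra.smul_def]
          exact M.mul_mem_right _ (hm _ (hc i (Finset.mem_range.mp hi)))
        exact hM.isPrime.mem_of_pow_mem _ h3
    refine le_antisymm ?_ hJM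
    intro s hs
    obtain ⟨a, ha⟩ := hres s
    have h1 : algebraMap A₀ S a ∈ M := by
      have : algebraMap A₀ S a = s - (s - algebraMap A₀ S a) := by ring
      rw [this]
      exact M.sub_mem hs (hJM ha)
    have h2 : a ∈ maximalIdeal A₀ := by rw [← hcomap]; exact h1
    have : s = (s - algebraMap A₀ S a) + algebraMap A₀ S a := by ring
    rw [this]
    exact J.add_mem ha (hJ1 a h2)
  obtain ⟨M, hM⟩ := Ideal.exists_maximal S
  exact IsLocalRing.of_unique_max_ideal ⟨M, hM, fun M' hM' => by rw [key M' hM', key M hM]⟩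

theorem exists_smul_mem {A₀ K K' : Type*} [CommRing A₀] [IsDomain A₀] [Field K] [Algebra A₀ K]
    [IsFractionRing A₀ K] [Field K'] [Algebra A₀ K'] [Algebra K K'] [IsScalarTower A₀ K K']
    {ι : Type*} (b : Module.Basis ι K K') (C : Subalgebra A₀ K')
    (hC : ∀ i, ∃ d : A₀, d ≠ 0 ∧ d • b i ∈ C) (z : K') :
    ∃ d : A₀, d ≠ 0 ∧ d • z ∈ C := by
  have hz : z ∈ Submodule.span K (Set.range b) := b.mem_span z
  induction hz using Submodule.span_induction with
  | mem x hx =>
    obtain ⟨i, rfl⟩ := hx
    exact hC i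
  | zero => exact ⟨1, one_ne_zero, by rw [smul_zero]; exact C.zero_mem⟩
  | add x y _ _ hx hy =>
    obtain ⟨d₁, hd₁, h₁⟩ := hx
    obtain ⟨d₂, hd₂, h₂⟩ := hy
    refine ⟨d₁ * d₂, mul_ne_zero hd₁ hd₂, ?_⟩
    have : (d₁ * d₂) • (x + y) = d₂ • (d₁ • x) + d₁ • (d₂ • y) := by
      rw [smul_add, mul_smul, mul_smul, smul_comm d₁ d₂ x]
    rw [this]
    exact C.add_mem (C.smul_mem h₁ d₂) (C.smul_mem h₂ d₁)
  | smul k x _ hx =>
    obtain ⟨d, hd, h₁⟩ := hx
    obtain ⟨⟨a, d'⟩, had⟩ := IsLocalization.surj (nonZeroDivisors A₀) k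
    refine ⟨d' * d, mul_ne_zero (nonZeroDivisors.ne_zero d'.2) hd, ?_⟩
    have : ((d' : A₀) * d) • (k • x) = a • (d • x) := by
      rw [mul_smul, smul_comm d k x, ← algebraMap_smul K (d' : A₀) (k • (d • x)), ← mul_smul,
        mul_comm, had, algebraMap_smul]
    rw [this]
    exact C.smul_mem h₁ a

/-- over a local domain which is not a field, every finite extension of the fraction field is
the fraction field of a finite *local* subalgebra -/
theorem exists_finite_local {A₀ K L : Type*} [CommRing A₀] [IsDomain A₀] [IsLocalRing A₀]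
    (hnf : ¬ IsField A₀) [Field K] [Algebra A₀ K] [IsFractionRing A₀ K] [Field L] [Algebra A₀ L]
    [Algebra K L] [IsScalarTower A₀ K L] [FiniteDimensional K L] :
    ∃ S : Subalgebra A₀ L, Module.Finite A₀ S ∧ IsFractionRing S L ∧ IsLocalRing S := by
  classical
  obtain ⟨s, b, hb⟩ := FiniteDimensional.exists_is_basis_integral A₀ K L
  have hm : maximalIdeal A₀ ≠ ⊥ := fun h => hnf (IsLocalRing.isField_iff_maximalIdeal_eq.mpr h)
  obtain ⟨t, htm, ht0⟩ := Submodule.exists_mem_ne_zero_of_ne_bot hm
  have hinj : Function.Injective (algebraMap A₀ L) := by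
    rw [IsScalarTower.algebraMap_eq A₀ K L]
    exact (algebraMap K L).injective.comp (IsFractionRing.injective A₀ K)
  let X : Set L := Set.range fun i => algebraMap A₀ L t * b i
  have hX : ∀ x ∈ X, ∃ Q : A₀[X], Q.Monic ∧ aeval x Q = 0 ∧
      ∀ j < Q.natDegree, Q.coeff j ∈ maximalIdeal A₀ := by
    rintro _ ⟨i, rfl⟩
    obtain ⟨P, hP, h0⟩ := hb i
    rw [← aeval_def] at h0
    refine ⟨P.scaleRoots t, (monic_scaleRoots_iff t).mpr hP, scaleRoots_aeval_eq_zero h0, ?_⟩
    intro j hj
    rw [natDegree_scaleRoots] at hj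
    rw [coeff_scaleRoots]
    apply Ideal.mul_mem_left
    have : P.natDegree - j ≠ 0 := by omega
    exact Ideal.pow_mem_of_mem _ htm _ (Nat.pos_of_ne_zero this)
  refine ⟨Algebra.adjoin A₀ X, ?_, ?_, isLocalRing_adjoin X hX⟩
  · have h1 : (Algebra.adjoin A₀ X).toSubmodule.FG :=
      fg_adjoin_of_finite (Set.finite_range _) (fun x hx => by
        obtain ⟨Q, hQ, h0, -⟩ := hX x hx
        exact ⟨Q, hQ, by rw [← aeval_def]; exact h0⟩)
    exact Module.Finite.iff_fg.mpr h1
  · have claim := exists_smul_mem b (Algebra.adjoin A₀ X) (fun i => ⟨t, ht0, by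
      rw [Algebra.smul_def]
      exact Algebra.subset_adjoin ⟨i, rfl⟩⟩)
    haveI : FaithfulSMul (Algebra.adjoin A₀ X) L :=
      (faithfulSMul_iff_algebraMap_injective _ _).mpr Subtype.val_injective
    apply IsFractionRing.of_field
    intro z
    obtain ⟨d, hd, hmem⟩ := claim z
    refine ⟨⟨d • z, hmem⟩, ⟨algebraMap A₀ L d, Subalgebra.algebraMap_mem _ d⟩, ?_⟩
    have hd0 : algebraMap A₀ L d ≠ 0 := fun h => hd (hinj (by rw [h, map_zero]))
    change z = (d • z) / (algebraMap A₀ L d)
    rw [Algebra.smul_def, mul_div_cancel_left₀ _ hd0]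

attribute [local instance] FractionRing.liftAlgebra in
/-- an analytically unramified local domain is N-1 -/
theorem finite_integralClosure_of_isReduced_completion (S : Type u) [CommRing S] [IsDomain S]
    [IsLocalRing S] [IsNoetherianRing S]
    (hred : IsReduced (AdicCompletion (maximalIdeal S) S)) (L : Type u) [Field L] [Algebra S L]
    [IsFractionRing S L] : Module.Finite S (integralClosure S L) := by
  let Rt := FractionRing (AdicCompletion (maximalIdeal S) S)
  haveI : FiniteDimensional (FractionRing S) L := by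
    apply Module.Finite.of_surjective (Algebra.linearMap (FractionRing S) L)
    intro z
    obtain ⟨x, y, hy, rfl⟩ := IsFractionRing.div_surjective (A := S) z
    refine ⟨algebraMap S (FractionRing S) x / algebraMap S (FractionRing S) y, ?_⟩
    rw [Algebra.linearMap_apply, map_div₀, ← IsScalarTower.algebraMap_apply,
      ← IsScalarTower.algebraMap_apply]
  haveI : IsReduced Rt :=
    isReduced_localizationPreserves (nonZeroDivisors (AdicCompletion (maximalIdeal S) S)) Rt hred
  have h0 : IsReduced (S ⊗[S] Rt) :=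
    isReduced_of_injective (Algebra.TensorProduct.lid S Rt).toAlgHom.toRingHom
      (Algebra.TensorProduct.lid S Rt).injective
  have h1 : IsReduced (L ⊗[S] Rt) :=
    Groth.Agent.Helper2.AnUnr6.isReduced_tensor_fractionRing (A := S) (C := S) (R := L)
      (nonZeroDivisors S) h0
  have h2 : IsReduced (Rt ⊗[S] L) :=
    isReduced_of_injective (Algebra.TensorProduct.comm S Rt L).toAlgHom.toRingHom
      (Algebra.TensorProduct.comm S Rt L).injective
  exact Groth.Agent.Helper2.AnUnr2.main (A := S) (K' := L) (R := Rt) h2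

/-- transport of finiteness of the integral closure along an integral subalgebra -/
theorem finite_integralClosure_of_subalgebra {A₀ L : Type*} [CommRing A₀] [Field L] [Algebra A₀ L]
    (S : Subalgebra A₀ L) [Module.Finite A₀ S] (h : Module.Finite S (integralClosure S L)) :
    Module.Finite A₀ (integralClosure A₀ L) := by
  haveI := h
  haveI : Algebra.IsIntegral A₀ S := Algebra.IsIntegral.of_finite A₀ S
  haveI : Module.Finite A₀ (integralClosure S L) := Module.Finite.trans S _
  let f : integralClosure S L →ₗ[A₀] integralClosure A₀ L :=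
    { toFun := fun x => ⟨x.1, isIntegral_trans x.1 x.2⟩
      map_add' := fun _ _ => rfl
      map_smul' := fun _ _ => rfl }
  apply Module.Finite.of_surjective f
  rintro ⟨x, hx⟩
  exact ⟨⟨x, hx.tower_top⟩, rfl⟩

section Main

variable (R : Type u) [CommRing R] [IsLocalRing R] [IsNoetherianRing R]

theorem isN2_quotient
    (H : ∀ (S : Type u) [CommRing S] [IsDomain S] [IsLocalRing S] [Algebra R S]
      [IsLocalHom (algebraMap R S)] [Module.Finite R S],
      IsReduced (AdicCompletion (IsLocalRing.maximalIdeal S) S))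
    (p : Ideal R) [hp : p.IsPrime] : CAlg.IsN2 (R ⧸ p) := by
  by_cases hpm : p.IsMaximal
  · letI := Ideal.Quotient.field p
    exact Groth.Agent.Helper2.NagataCompl.isN2_field (R ⧸ p)
  · intro L _ _ _ _ hfd
    haveI : IsLocalRing (R ⧸ p) := inferInstance
    have hnf : ¬ IsField (R ⧸ p) := fun h => hpm (Ideal.Quotient.maximal_of_isField p h)
    obtain ⟨S, hfin, hfrac, hloc⟩ :=
      exists_finite_local (A₀ := R ⧸ p) (K := FractionRing (R ⧸ p)) (L := L) hnf
    letI : Algebra R L := ((algebraMap (R ⧸ p) L).comp (algebraMap R (R ⧸ p))).toAlgebra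
    haveI : IsScalarTower R (R ⧸ p) L := IsScalarTower.of_algebraMap_eq (fun _ => rfl)
    haveI : IsScalarTower R (R ⧸ p) S :=
      IsScalarTower.of_algebraMap_eq (fun a =>
        Subtype.ext (IsScalarTower.algebraMap_apply R (R ⧸ p) L a))
    haveI : Module.Finite R S := Module.Finite.trans (R ⧸ p) _
    haveI : IsNoetherianRing S := IsNoetherianRing.of_finite R S
    haveI : IsLocalHom (algebraMap R S) := by
      refine ⟨fun a ha => ?_⟩
      by_contra hna
      have ham : a ∈ maximalIdeal R := hna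
      have h1 : algebraMap R S a ∈ (⊥ : Ideal S).jacobson :=
        Groth.Agent.Helper2.SemiCpl.map_le_jacobson R S (Ideal.mem_map_of_mem _ ham)
      rw [IsLocalRing.jacobson_eq_maximalIdeal ⊥ bot_ne_top] at h1
      exact h1 ha
    have hred := H S
    have h1 : Module.Finite S (integralClosure S L) :=
      finite_integralClosure_of_isReduced_completion S hred L
    exact finite_integralClosure_of_subalgebra S h1

theorem s9440 :
    CAlg.IsNagata R ↔ ∀ (S : Type u) [CommRing S] [IsDomain S] [IsLocalRing S] [Algebra R S]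
      [IsLocalHom (algebraMap R S)] [Module.Finite R S],
      IsReduced (AdicCompletion (IsLocalRing.maximalIdeal S) S) := by
  constructor
  · intro hR S _ _ _ _ _ _
    have h1 : IsReduced (S ⊗[R] EGA4.Cpl R) :=
      Groth.Agent.Helper2.NagAU.isReduced_tensor_cpl R hR S
    have h2 := (Groth.Agent.Helper2.SemiRed.isReduced_completion_iff R S).mpr h1
    rw [IsLocalRing.jacobson_eq_maximalIdeal ⊥ bot_ne_top] at h2
    exact h2
  · intro H
    exact ⟨inferInstance, fun p _ => isN2_quotient R H p⟩

end Main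

end Groth.Agent.Helper2.LocDom
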