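import Mathlib
import Groth.Prelude

set_option autoImplicit false
set_option linter.style.haveILetI false

namespace Groth.Agent.Helper2.NagFT

universe u

open TensorProduct IsLocalRing Polynomial

/-- descent of finiteness of the integral closure from `R'[x]` to `R[x]`, where `R'` is the
(finite) integral closure of `R`. -/
theorem finite_integralClosure_of_adjoin (R S M : Type*) [CommRing R] [CommRing S] [CommRing M]
    [Algebra R S] [Algebra S M] [Algebra R M] [IsScalarTower R S M] (xs : S)
    (hgen : Algebra.adjoin R {xs} = ⊤) [Module.Finite R (integralClosure R M)]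
    (h3 : Module.Finite (Algebra.adjoin (integralClosure R M) {algebraMap S M xs})
      (integralClosure (Algebra.adjoin (integralClosure R M) {algebraMap S M xs}) M)) :
    Module.Finite S (integralClosure S M) := by
  have hmem : ∀ s : S, algebraMap S M s ∈
      Algebra.adjoin (integralClosure R M) {algebraMap S M xs} := by
    intro s
    have hs : s ∈ Algebra.adjoin R {xs} := hgen ▸ Algebra.mem_top
    induction hs using Algebra.adjoin_induction with
    | mem z hz =>
      obtain rfl := hz
      exact Algebra.subset_adjoin rfl
    | algebraMap r =>
      rw [← IsScalarTower.algebraMap_apply R S M]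
      exact Subalgebra.algebraMap_mem _ (algebraMap R (integralClosure R M) r)
    | add s₁ s₂ _ _ h₁ h₂ => rw [map_add]; exact add_mem h₁ h₂
    | mul s₁ s₂ _ _ h₁ h₂ => rw [map_mul]; exact mul_mem h₁ h₂
  letI : Algebra S (Algebra.adjoin (integralClosure R M) {algebraMap S M xs}) :=
    ((algebraMap S M).codRestrict
      (Algebra.adjoin (integralClosure R M) {algebraMap S M xs}) hmem).toAlgebra
  haveI : IsScalarTower S (Algebra.adjoin (integralClosure R M) {algebraMap S M xs}) M :=
    IsScalarTower.of_algebraMap_eq (fun _ => rfl)
  haveI : IsScalarTower R S (Algebra.adjoin (integralClosure R M) {algebraMap S M xs}) :=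
    IsScalarTower.of_algebraMap_eq (fun r => Subtype.ext (by
      change algebraMap R M r = algebraMap S M (algebraMap R S r)
      rw [← IsScalarTower.algebraMap_apply]))
  -- finite type
  haveI : Algebra.FiniteType (integralClosure R M)
      (Algebra.adjoin (integralClosure R M) {algebraMap S M xs}) :=
    (Subalgebra.fg_iff_finiteType _).mp ⟨{algebraMap S M xs}, by simp⟩
  haveI : Algebra.FiniteType R (Algebra.adjoin (integralClosure R M) {algebraMap S M xs}) :=
    Algebra.FiniteType.trans (S := integralClosure R M) inferInstance inferInstance
  haveI : Algebra.FiniteType S (Algebra.adjoin (integralClosure R M) {algebraMap S M xs}) :=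
    Algebra.FiniteType.of_restrictScalars_finiteType R S _
  -- integrality
  haveI : Algebra.IsIntegral S (Algebra.adjoin (integralClosure R M) {algebraMap S M xs}) := by
    refine ⟨fun z => ?_⟩
    have hz : IsIntegral S (z : M) := by
      obtain ⟨z, hz⟩ := z
      induction hz using Algebra.adjoin_induction with
      | mem w hw =>
        obtain rfl := hw
        exact isIntegral_algebraMap
      | algebraMap r => exact (r.2 : IsIntegral R (r : M)).tower_top
      | add s₁ s₂ _ _ h₁ h₂ => exact h₁.add h₂
      | mul s₁ s₂ _ _ h₁ h₂ => exact h₁.mul h₂
    exact (isIntegral_algebraMap_iff (B := M) Subtype.val_injective).mp hz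
  haveI : Module.Finite S (Algebra.adjoin (integralClosure R M) {algebraMap S M xs}) :=
    Algebra.IsIntegral.finite
  haveI := h3
  haveI : IsScalarTower S (Algebra.adjoin (integralClosure R M) {algebraMap S M xs})
      (integralClosure (Algebra.adjoin (integralClosure R M) {algebraMap S M xs}) M) :=
    IsScalarTower.of_algebraMap_eq (fun s => Subtype.ext rfl)
  haveI : Module.Finite S
      (integralClosure (Algebra.adjoin (integralClosure R M) {algebraMap S M xs}) M) :=
    Module.Finite.trans (Algebra.adjoin (integralClosure R M) {algebraMap S M xs}) _
  let f : integralClosure (Algebra.adjoin (integralClosure R M) {algebraMap S M xs}) M →ₗ[S]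
      integralClosure S M :=
    { toFun := fun x => ⟨x.1, isIntegral_trans x.1 x.2⟩
      map_add' := fun _ _ => rfl
      map_smul' := fun _ _ => rfl }
  apply Module.Finite.of_surjective f
  rintro ⟨x, hx⟩
  exact ⟨⟨x, hx.tower_top⟩, rfl⟩

end Groth.Agent.Helper2.NagFT
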