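import Mathlib
import Groth.Prelude
import Groth.Agent.Helper4.Japanese
import Groth.Agent.Helper2.AnUnr6

set_option autoImplicit false
set_option linter.style.haveILetI false

namespace Groth.Agent.Helper2.NagFT

universe u

open TensorProduct IsLocalRing

attribute [local instance] FractionRing.liftAlgebra in
/-- a domain finite over a ring all of whose prime quotients are N-2 is N-2. -/
theorem isN2_of_finite (R : Type u) [CommRing R]
    (hR : ∀ (P : Ideal R) [P.IsPrime], CAlg.IsN2 (R ⧸ P))
    (C : Type u) [CommRing C] [IsDomain C] [Algebra R C] [Module.Finite R C] : CAlg.IsN2 C := by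
  haveI hp : (RingHom.ker (algebraMap R C)).IsPrime := RingHom.ker_isPrime _
  have hN2 := hR (RingHom.ker (algebraMap R C))
  set R₀ := R ⧸ RingHom.ker (algebraMap R C) with hR₀
  letI : Algebra R₀ C := (RingHom.kerLift (algebraMap R C)).toAlgebra
  haveI : IsScalarTower R R₀ C := IsScalarTower.of_algebraMap_eq (fun x => rfl)
  have hinj : Function.Injective (algebraMap R₀ C) := RingHom.kerLift_injective _
  haveI : Module.Finite R₀ C := Module.Finite.of_restrictScalars_finite R R₀ C
  haveI : FaithfulSMul R₀ C := (faithfulSMul_iff_algebraMap_injective R₀ C).mpr hinj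
  haveI : Algebra.IsIntegral R₀ C := Algebra.IsIntegral.of_finite R₀ C
  let F := FractionRing C
  let K₀ := FractionRing R₀
  haveI : FaithfulSMul R₀ F := by
    rw [faithfulSMul_iff_algebraMap_injective, IsScalarTower.algebraMap_eq R₀ C F]
    exact (IsFractionRing.injective C F).comp hinj
  haveI : FiniteDimensional K₀ F :=
    Module.Finite.of_isLocalizedModule (nonZeroDivisors R₀) (Rₚ := K₀)
      (f := (IsScalarTower.toAlgHom R₀ C F).toLinearMap)
  intro L _ _ _ _ hfd
  haveI := hfd
  letI : Algebra R₀ L := ((algebraMap C L).comp (algebraMap R₀ C)).toAlgebra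
  haveI : IsScalarTower R₀ C L := IsScalarTower.of_algebraMap_eq (fun _ => rfl)
  haveI : FaithfulSMul R₀ L := by
    rw [faithfulSMul_iff_algebraMap_injective, IsScalarTower.algebraMap_eq R₀ C L,
      IsScalarTower.algebraMap_eq C F L]
    exact ((algebraMap F L).injective.comp (IsFractionRing.injective C F)).comp hinj
  haveI : IsScalarTower R₀ F L := IsScalarTower.of_algebraMap_eq (fun x => by
    rw [IsScalarTower.algebraMap_apply R₀ C L, IsScalarTower.algebraMap_apply C F L,
      ← IsScalarTower.algebraMap_apply R₀ C F])
  haveI : IsScalarTower K₀ F L := by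
    refine IsScalarTower.of_algebraMap_eq' ?_
    apply IsLocalization.ringHom_ext (nonZeroDivisors R₀)
    refine RingHom.ext fun x => ?_
    rw [RingHom.comp_apply, RingHom.comp_apply, RingHom.comp_apply,
      ← IsScalarTower.algebraMap_apply R₀ K₀ L, ← IsScalarTower.algebraMap_apply R₀ K₀ F,
      ← IsScalarTower.algebraMap_apply R₀ F L]
  haveI : FiniteDimensional K₀ L := Module.Finite.trans F L
  have h1 : Module.Finite R₀ (integralClosure R₀ L) :=
    Groth.Agent.Helper4.Japanese.IsN2.finite hN2 K₀ L
  haveI := h1
  let f : integralClosure R₀ L →ₗ[R₀] integralClosure C L :=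
    { toFun := fun x => ⟨x.1, x.2.tower_top⟩
      map_add' := fun _ _ => rfl
      map_smul' := fun _ _ => rfl }
  haveI : Module.Finite R₀ (integralClosure C L) := by
    apply Module.Finite.of_surjective f
    rintro ⟨x, hx⟩
    exact ⟨⟨x, isIntegral_trans x hx⟩, rfl⟩
  exact Module.Finite.of_restrictScalars_finite R₀ C _

/-- a finite algebra over a Nagata ring is Nagata -/
theorem isNagata_of_finite (R : Type u) [CommRing R] (hR : CAlg.IsNagata R)
    (S : Type u) [CommRing S] [Algebra R S] [Module.Finite R S] : CAlg.IsNagata S := by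
  haveI := hR.1
  refine ⟨IsNoetherianRing.of_finite R S, fun q hq => ?_⟩
  exact isN2_of_finite R (fun P _ => hR.2 P) (S ⧸ q)

/-- N-1 ascends along a finite extension with the same fraction field -/
theorem isN1_of_finite_of_isFractionRing (A C : Type u) [CommRing A] [IsDomain A] [CommRing C]
    [IsDomain C] [Algebra A C] [Module.Finite A C]
    (K : Type u) [Field K] [Algebra A K] [Algebra C K] [IsScalarTower A C K]
    [IsFractionRing A K] [IsFractionRing C K] (hA : CAlg.IsN1 A) : CAlg.IsN1 C := by
  rw [Groth.Agent.Helper4.Japanese.isN1_iff K] at hA ⊢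
  haveI := hA
  haveI : Algebra.IsIntegral A C := Algebra.IsIntegral.of_finite A C
  let f : integralClosure A K →ₗ[A] integralClosure C K :=
    { toFun := fun x => ⟨x.1, x.2.tower_top⟩
      map_add' := fun _ _ => rfl
      map_smul' := fun _ _ => rfl }
  haveI : Module.Finite A (integralClosure C K) := by
    apply Module.Finite.of_surjective f
    rintro ⟨x, hx⟩
    exact ⟨⟨x, isIntegral_trans x hx⟩, rfl⟩
  exact Module.Finite.of_restrictScalars_finite A C _

end Groth.Agent.Helper2.NagFT
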