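import Mathlib
import Groth.Prelude

set_option autoImplicit false
set_option linter.style.haveILetI false

namespace Groth.Agent.Helper2.NagFT

universe u

open TensorProduct IsLocalRing Polynomial

/-- a localization of a birational extension at a prime lying over `p` is a valuation ring as soon
as `R_p` is. -/
theorem valuationRing_atPrime (R S K : Type*) [CommRing R] [IsDomain R] [CommRing S] [IsDomain S]
    [Field K] [Algebra R S] [Algebra R K] [Algebra S K] [IsScalarTower R S K] [IsFractionRing R K]
    [IsFractionRing S K] (q : Ideal S) [q.IsPrime] (p : Ideal R) [p.IsPrime]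
    (hp : q.comap (algebraMap R S) ≤ p) [ValuationRing (Localization.AtPrime p)] :
    ValuationRing (Localization.AtPrime q) := by
  have hqu : ∀ s : q.primeCompl, IsUnit (algebraMap S K (s : S)) := fun s =>
    IsLocalization.map_units K (⟨(s : S), q.primeCompl_le_nonZeroDivisors s.2⟩ : nonZeroDivisors S)
  letI : Algebra (Localization.AtPrime q) K :=
    (IsLocalization.lift (M := q.primeCompl) (S := Localization.AtPrime q) (g := algebraMap S K)
      hqu).toAlgebra
  haveI : IsScalarTower S (Localization.AtPrime q) K :=
    IsScalarTower.of_algebraMap_eq (fun x => (IsLocalization.lift_eq hqu x).symm)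
  haveI : IsFractionRing (Localization.AtPrime q) K :=
    IsFractionRing.isFractionRing_of_isDomain_of_isLocalization q.primeCompl
      (Localization.AtPrime q) K
  have hpu : ∀ s : p.primeCompl, IsUnit (algebraMap R K (s : R)) := fun s =>
    IsLocalization.map_units K (⟨(s : R), p.primeCompl_le_nonZeroDivisors s.2⟩ : nonZeroDivisors R)
  letI : Algebra (Localization.AtPrime p) K :=
    (IsLocalization.lift (M := p.primeCompl) (S := Localization.AtPrime p) (g := algebraMap R K)
      hpu).toAlgebra
  haveI : IsScalarTower R (Localization.AtPrime p) K :=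
    IsScalarTower.of_algebraMap_eq (fun x => (IsLocalization.lift_eq hpu x).symm)
  haveI : IsFractionRing (Localization.AtPrime p) K :=
    IsFractionRing.isFractionRing_of_isDomain_of_isLocalization p.primeCompl
      (Localization.AtPrime p) K
  -- integers of `R_p` are integers of `S_q`
  have hint : ∀ x : K, IsLocalization.IsInteger (Localization.AtPrime p) x →
      IsLocalization.IsInteger (Localization.AtPrime q) x := by
    rintro x ⟨z, rfl⟩
    obtain ⟨r, s, rfl⟩ := IsLocalization.exists_mk'_eq p.primeCompl z
    have hs : algebraMap R S (s : R) ∈ q.primeCompl := by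
      intro h
      exact s.2 (hp h)
    refine ⟨IsLocalization.mk' (Localization.AtPrime q) (algebraMap R S r)
      (⟨algebraMap R S (s : R), hs⟩ : q.primeCompl), ?_⟩
    have hsK : algebraMap R K (s : R) ≠ 0 := (hpu s).ne_zero
    have h1 : algebraMap (Localization.AtPrime p) K (IsLocalization.mk' _ r s) *
        algebraMap R K (s : R) = algebraMap R K r := by
      rw [IsScalarTower.algebraMap_apply R (Localization.AtPrime p) K (s : R), ← map_mul,
        IsLocalization.mk'_spec, ← IsScalarTower.algebraMap_apply]
    have h2 : algebraMap (Localization.AtPrime q) K (IsLocalization.mk' _ (algebraMap R S r)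
        (⟨algebraMap R S (s : R), hs⟩ : q.primeCompl)) * algebraMap R K (s : R)
        = algebraMap R K r := by
      rw [IsScalarTower.algebraMap_apply R S K (s : R),
        IsScalarTower.algebraMap_apply S (Localization.AtPrime q) K, ← map_mul]
      have := IsLocalization.mk'_spec (Localization.AtPrime q) (algebraMap R S r)
        (⟨algebraMap R S (s : R), hs⟩ : q.primeCompl)
      rw [this, ← IsScalarTower.algebraMap_apply, ← IsScalarTower.algebraMap_apply]
    exact mul_right_cancel₀ hsK (h2.trans h1.symm)
  rw [ValuationRing.iff_isInteger_or_isInteger (Localization.AtPrime q) K]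
  intro x
  rcases ValuationRing.isInteger_or_isInteger (Localization.AtPrime p) x with h | h
  · exact Or.inl (hint x h)
  · exact Or.inr (hint _ h)

/-- transport of reducedness of `(A/q) ⊗ F` along `A → B → F`. -/
theorem isReduced_quot_tensor (A B F : Type*) [CommRing A] [CommRing B] [CommRing F] [Algebra A B]
    [Algebra B F] [Algebra A F] [IsScalarTower A B F] (q : Ideal A)
    (h : IsReduced ((B ⧸ q.map (algebraMap A B)) ⊗[B] F)) : IsReduced ((A ⧸ q) ⊗[A] F) := by
  let e1 := Algebra.TensorProduct.quotIdealMapEquivQuotTensor F q
  let e2 := Algebra.TensorProduct.quotIdealMapEquivQuotTensor F (q.map (algebraMap A B))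
  have heq : (q.map (algebraMap A B)).map (algebraMap B F) = q.map (algebraMap A F) := by
    rw [Ideal.map_map, ← IsScalarTower.algebraMap_eq]
  let e3 : (F ⧸ (q.map (algebraMap A B)).map (algebraMap B F)) ≃+* (F ⧸ q.map (algebraMap A F)) :=
    Ideal.quotEquivOfEq heq
  let e : ((A ⧸ q) ⊗[A] F) ≃+* ((B ⧸ q.map (algebraMap A B)) ⊗[B] F) :=
    (e1.symm.toRingEquiv.trans e3.symm).trans e2.toRingEquiv
  exact isReduced_of_injective e.toRingHom e.injective

end Groth.Agent.Helper2.NagFT
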