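import Mathlib
import Groth.Prelude

set_option autoImplicit false
set_option linter.style.haveILetI false

namespace Groth.Agent.Helper2.NagFT

universe u

open TensorProduct IsLocalRing Polynomial

section Normal

variable {R K : Type*} [CommRing R] [IsDomain R] [IsIntegrallyClosed R] [Field K] [Algebra R K]
  [IsFractionRing R K]

/-- if `c ∈ y R[y]` with `R` integrally closed then `c ∈ y R`. -/
theorem exists_eq_mul_of_aeval (y : K) (c : R) (h : R[X])
    (hc : algebraMap R K c = y * aeval y h) : ∃ z : R, algebraMap R K c = y * algebraMap R K z := by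
  by_cases hy : y = 0
  · exact ⟨0, by rw [hc, hy, zero_mul, zero_mul]⟩
  by_cases hc0 : c = 0
  · exact ⟨0, by rw [hc0]; simp⟩
  let g : R[X] := X * h - C c
  have hg : aeval y g = 0 := by
    rw [map_sub, map_mul, aeval_X, aeval_C, ← hc, sub_self]
  have hg0 : g.coeff 0 = -c := by
    rw [coeff_sub, coeff_C_zero, mul_coeff_zero, coeff_X_zero, zero_mul, zero_sub]
  have hgne : g.coeff 0 ≠ 0 := by rw [hg0]; exact neg_ne_zero.mpr hc0
  have htr : g.trailingCoeff = -c := by
    rw [trailingCoeff, natTrailingDegree_eq_zero.mpr (Or.inr hgne), hg0]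
  letI : Invertible y := invertibleOfNonzero hy
  have hrev : aeval (⅟y) g.reverse = 0 := by
    rw [aeval_def, eval₂_reverse_eq_zero_iff, ← aeval_def]
    exact hg
  have hint : IsIntegral R (g.reverse.leadingCoeff • ⅟y) := isIntegral_leadingCoeff_smul _ _ hrev
  rw [reverse_leadingCoeff, htr] at hint
  obtain ⟨w, hw⟩ := IsIntegrallyClosed.algebraMap_eq_of_integral hint
  refine ⟨-w, ?_⟩
  rw [map_neg, hw, Algebra.smul_def, map_neg, invOf_eq_inv]
  field_simp

end Normal

end Groth.Agent.Helper2.NagFT
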