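import Mathlib
import Groth.Prelude
import Groth.Agent.Helper5.AssHt
import Groth.Agent.Helper2.NagFT2

set_option autoImplicit false
set_option linter.style.haveILetI false

namespace Groth.Agent.Helper2.NagFT

universe u

open TensorProduct IsLocalRing Polynomial

section

variable {R K : Type*} [CommRing R] [Field K] [Algebra R K]

/-- the generator of `R[y]` -/
def gen (y : K) : Algebra.adjoin R {y} := ⟨y, Algebra.subset_adjoin (Set.mem_singleton y)⟩

theorem isNoetherianRing_adjoin [IsNoetherianRing R] (y : K) :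
    IsNoetherianRing (Algebra.adjoin R {y}) := by
  have h1 : (Algebra.adjoin R ({y} : Set K)).FG := ⟨{y}, by simp⟩
  haveI : Algebra.FiniteType R (Algebra.adjoin R ({y} : Set K)) :=
    (Subalgebra.fg_iff_finiteType _).mp h1
  exact Algebra.FiniteType.isNoetherianRing R _

/-- modulo an ideal containing the generator, every element of `R[y]` comes from `R`. -/
theorem exists_sub_mem (y : K) (I : Ideal (Algebra.adjoin R {y})) (hy : gen (R := R) y ∈ I)
    (s : Algebra.adjoin R {y}) : ∃ r : R, s - algebraMap R _ r ∈ I := by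
  let S := Algebra.adjoin R {y}
  let π : S →ₐ[R] S ⧸ I := Ideal.Quotient.mkₐ R I
  have htop : Algebra.adjoin R (Subtype.val ⁻¹' ({y} : Set K) : Set S) = ⊤ :=
    Algebra.adjoin_adjoin_coe_preimage
  have hle : (⊤ : Subalgebra R S).map π ≤ ⊥ := by
    rw [← htop, AlgHom.map_adjoin, Algebra.adjoin_le_iff]
    rintro _ ⟨z, hz, rfl⟩
    have hz' : z = gen y := Subtype.ext hz
    have : π z = 0 := Ideal.Quotient.eq_zero_iff_mem.mpr (hz' ▸ hy)
    rw [this]
    exact Subalgebra.zero_mem _
  have h1 : π s ∈ (⊥ : Subalgebra R (S ⧸ I)) := hle ⟨s, Algebra.mem_top, rfl⟩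
  obtain ⟨a, ha⟩ := Algebra.mem_bot.mp h1
  refine ⟨a, ?_⟩
  rw [← Ideal.Quotient.eq_zero_iff_mem, map_sub, sub_eq_zero]
  change π s = π (algebraMap R S a)
  rw [AlgHom.commutes, ha]

end

section Normal

variable {R K : Type u} [CommRing R] [IsDomain R] [IsIntegrallyClosed R] [IsNoetherianRing R]
  [Field K] [Algebra R K] [IsFractionRing R K]

/-- the contraction to `R` of an associated prime of `R[y]/(y)` has height one. -/
theorem height_comap_eq_one (y : K) (hy0 : y ≠ 0) (q : Ideal (Algebra.adjoin R {y}))
    (hq : q ∈ associatedPrimes (Algebra.adjoin R {y})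
      (Algebra.adjoin R {y} ⧸ Ideal.span {gen (R := R) y})) :
    (q.comap (algebraMap R (Algebra.adjoin R {y}))).height = 1 := by
  haveI := isNoetherianRing_adjoin (R := R) y
  obtain ⟨b, a, ha, hab⟩ := IsFractionRing.div_surjective (A := R) y
  have ha0 : a ≠ 0 := nonZeroDivisors.ne_zero ha
  have haK : algebraMap R K a ≠ 0 := by
    rw [Ne, map_eq_zero_iff _ (IsFractionRing.injective R K)]
    exact ha0
  have hb0 : b ≠ 0 := by
    rintro rfl
    rw [map_zero, zero_div] at hab
    exact hy0 hab.symm
  rw [AssociatedPrimes.mem_iff, isAssociatedPrime_iff] at hq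
  obtain ⟨hqp, x, hx⟩ := hq
  haveI := hqp
  obtain ⟨c, rfl⟩ := Ideal.Quotient.mk_surjective x
  obtain ⟨r, hr⟩ := exists_sub_mem y (Ideal.span {gen (R := R) y})
    (Ideal.mem_span_singleton_self _) c
  have hmemq : ∀ s : Algebra.adjoin R {y},
      s ∈ q ↔ s * algebraMap R (Algebra.adjoin R {y}) r ∈ Ideal.span {gen (R := R) y} := by
    intro s
    rw [hx, Submodule.mem_colon_singleton, Submodule.mem_bot]
    change Ideal.Quotient.mk _ (s * c) = 0 ↔ _
    rw [Ideal.Quotient.eq_zero_iff_mem]
    have h1 : s * c - s * algebraMap R (Algebra.adjoin R {y}) r ∈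
        Ideal.span {gen (R := R) y} := by
      rw [← mul_sub]
      exact Ideal.mul_mem_left _ _ hr
    constructor
    · intro h
      have := Ideal.sub_mem _ h h1
      rwa [sub_sub_cancel] at this
    · intro h
      have := Ideal.add_mem _ h1 h
      rwa [sub_add_cancel] at this
  have hmemp : ∀ x' : R, x' ∈ q.comap (algebraMap R (Algebra.adjoin R {y})) ↔
      ∃ z : R, z * b = x' * (a * r) := by
    intro x'
    rw [Ideal.mem_comap, hmemq, Ideal.mem_span_singleton']
    constructor
    · rintro ⟨s', hs'⟩
      have hs'' : (s' : K) ∈ (Polynomial.aeval y : R[X] →ₐ[R] K).range := by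
        rw [← Algebra.adjoin_singleton_eq_range_aeval]
        exact s'.2
      obtain ⟨h, hh⟩ := hs''
      have h1 : algebraMap R K (x' * r) = y * aeval y h := by
        have := congrArg (Subtype.val) hs'
        change (aeval y) h = (s' : K) at hh
        change (s' : K) * y = algebraMap R K x' * algebraMap R K r at this
        rw [hh, map_mul, ← this, mul_comm]
      obtain ⟨z, hz⟩ := exists_eq_mul_of_aeval y (x' * r) h h1
      refine ⟨z, ?_⟩
      apply IsFractionRing.injective R K
      rw [map_mul, map_mul, map_mul]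
      rw [map_mul, ← hab, div_mul_eq_mul_div, eq_div_iff haK] at hz
      linear_combination (-1 : K) * hz
    · rintro ⟨z, hz⟩
      refine ⟨algebraMap R _ z, ?_⟩
      apply Subtype.val_injective
      have hz' := congrArg (algebraMap R K) hz
      rw [map_mul, map_mul, map_mul] at hz'
      change algebraMap R K z * y = algebraMap R K x' * algebraMap R K r
      rw [← hab]
      field_simp
      linear_combination hz'
  have hass : q.comap (algebraMap R (Algebra.adjoin R {y})) ∈
      associatedPrimes R (R ⧸ Ideal.span {b}) := by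
    rw [AssociatedPrimes.mem_iff, isAssociatedPrime_iff]
    refine ⟨Ideal.comap_isPrime _ q, Ideal.Quotient.mk _ (a * r), ?_⟩
    ext x'
    rw [hmemp, Submodule.mem_colon_singleton, Submodule.mem_bot]
    change _ ↔ Ideal.Quotient.mk _ (x' * (a * r)) = 0
    rw [Ideal.Quotient.eq_zero_iff_mem, Ideal.mem_span_singleton']
  exact Groth.Agent.Helper5.AssHt.main R b hb0 _ hass

end Normal

end Groth.Agent.Helper2.NagFT
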