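import Mathlib
import Groth.Prelude
import Groth.Agent.S0543
import Groth.Agent.Helper4.Japanese
import Groth.Agent.Helper9.RadPrime
import Groth.Agent.Helper2.ZarLem
import Groth.Agent.Helper2.NagAU
import Groth.Agent.Helper2.AnUnr6
import Groth.Agent.Helper2.LocDom
import Groth.Agent.Helper2.NagFT3
import Groth.Agent.Helper2.NagFT4

set_option autoImplicit false
set_option linter.style.haveILetI false

namespace Groth.Agent.Helper2.NagFT

universe u

open TensorProduct IsLocalRing Polynomial

/-- a subalgebra of the fraction field has the same fraction field -/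
theorem isFractionRing_subalgebra (R K : Type*) [CommRing R] [Field K] [Algebra R K]
    [IsFractionRing R K] (S : Subalgebra R K) : IsFractionRing S K := by
  haveI : FaithfulSMul S K :=
    (faithfulSMul_iff_algebraMap_injective S K).mpr Subtype.val_injective
  refine IsFractionRing.of_field (R := S) (K := K) (fun z => ?_)
  obtain ⟨a, b, -, rfl⟩ := IsFractionRing.div_surjective (A := R) z
  exact ⟨algebraMap R S a, algebraMap R S b, rfl⟩

/-- Zariski's lemma, iterated: reducedness of a flat Noetherian algebra. -/
theorem isReduced_of_zariski (A : Type u) [CommRing A] [IsNoetherianRing A] (t : A)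
    (ht : t ∈ nonZeroDivisors A)
    (F : Type u) [CommRing F] [IsNoetherianRing F] [Algebra A F] [Module.Flat A F]
    (hjac : algebraMap A F t ∈ (⊥ : Ideal F).jacobson)
    (hq : ∀ q ∈ associatedPrimes A (A ⧸ Ideal.span {t}), ∀ [q.IsPrime],
      (∃ (_ : IsDomain (Localization.AtPrime q)), IsDiscreteValuationRing (Localization.AtPrime q)) ∧
        IsReduced ((A ⧸ q) ⊗[A] F)) : IsReduced F := by
  have hreg : IsSMulRegular F t := Module.Flat.isSMulRegular_of_nonZeroDivisors ht
  have hZ : ∀ y : F, IsNilpotent y → ∃ f : F, y = t • f := fun y hy =>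
    Groth.Agent.Helper2.ZarLem.main A t ht F hq y (Or.inl hy)
  have hpow : ∀ (n : ℕ) (y : F), IsNilpotent y → ∃ f : F, y = t ^ n • f := by
    intro n
    induction n with
    | zero => intro y _; exact ⟨y, by rw [pow_zero, one_smul]⟩
    | succ n ih =>
      intro y hy
      obtain ⟨f, rfl⟩ := hZ y hy
      have hf : IsNilpotent f := by
        obtain ⟨k, hk⟩ := hy
        refine ⟨k, ?_⟩
        rw [_root_.smul_pow] at hk
        apply hreg.pow k
        change t ^ k • f ^ k = t ^ k • 0
        rw [hk, smul_zero]
      obtain ⟨g, rfl⟩ := ih f hf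
      exact ⟨g, by rw [pow_succ, mul_smul, smul_comm]⟩
  refine ⟨fun y hy => ?_⟩
  let I : Ideal F := Ideal.span {algebraMap A F t}
  have hI : I ≤ (⊥ : Ideal F).jacobson := by
    rw [Ideal.span_le, Set.singleton_subset_iff]
    exact hjac
  have hbot := Ideal.iInf_pow_smul_eq_bot_of_le_jacobson (M := F) I hI
  have hmem : y ∈ (⨅ i : ℕ, I ^ i • ⊤ : Submodule F F) := by
    rw [Submodule.mem_iInf]
    intro n
    obtain ⟨f, rfl⟩ := hpow n y hy
    rw [smul_eq_mul, Ideal.mul_top, Ideal.span_singleton_pow, Ideal.mem_span_singleton']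
    refine ⟨f, ?_⟩
    rw [mul_comm, ← map_pow, ← Algebra.smul_def]
  rw [hbot] at hmem
  exact (Submodule.mem_bot _).mp hmem

end Groth.Agent.Helper2.NagFT
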