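import Mathlib
import Groth.Prelude
import Groth.Agent.Helper2.NagFT5

set_option autoImplicit false
set_option linter.style.haveILetI false

namespace Groth.Agent.Helper2.NagFT

universe u

open TensorProduct IsLocalRing Polynomial

/-- `(A₀/I) ⊗ Â₀` is reduced when `A₀/I` is a Nagata local domain. -/
theorem isReduced_quot_tensor_cpl_aux (A₀ : Type u) [CommRing A₀] [IsNoetherianRing A₀]
    [IsLocalRing A₀] (I : Ideal A₀) [hIp : I.IsPrime] (hNC : CAlg.IsNagata (A₀ ⧸ I)) :
    IsReduced ((A₀ ⧸ I) ⊗[A₀] EGA4.Cpl A₀) := by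
  haveI : Nontrivial (A₀ ⧸ I) := Ideal.Quotient.nontrivial_iff.mpr hIp.ne_top
  haveI : IsLocalRing (A₀ ⧸ I) := inferInstance
  have h1 : IsReduced (EGA4.Cpl (A₀ ⧸ I)) := Groth.Agent.Helper2.NagAU.s0576 (A₀ ⧸ I) hNC
  have h2 : IsReduced ((A₀ ⧸ I) ⊗[A₀ ⧸ I] EGA4.Cpl (A₀ ⧸ I)) := by
    let e : (A₀ ⧸ I) ⊗[A₀ ⧸ I] EGA4.Cpl (A₀ ⧸ I) ≃ₐ[A₀ ⧸ I] EGA4.Cpl (A₀ ⧸ I) :=
      Algebra.TensorProduct.lid _ _
    exact isReduced_of_injective e.toAlgHom.toRingHom e.injective
  exact Groth.Agent.Helper2.NagAU.isReduced_of_quotient A₀ I (A₀ ⧸ I) h2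

/-- the reducedness of `(S₀/q) ⊗ Ŝ₀_{m₀}` from the Nagata property of `S₀/q`. -/
theorem isReduced_quot_tensor_cpl (S₀ : Type u) [CommRing S₀] [IsNoetherianRing S₀]
    (m₀ : Ideal S₀) [m₀.IsPrime] (q : Ideal S₀) [q.IsPrime] (hN : CAlg.IsNagata (S₀ ⧸ q)) :
    IsReduced ((S₀ ⧸ q) ⊗[S₀]
      AdicCompletion (maximalIdeal (Localization.AtPrime m₀)) (Localization.AtPrime m₀)) := by
  haveI : IsScalarTower S₀ (Localization.AtPrime m₀)
      (AdicCompletion (maximalIdeal (Localization.AtPrime m₀)) (Localization.AtPrime m₀)) :=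
    inferInstance
  apply isReduced_quot_tensor S₀ (Localization.AtPrime m₀)
    (AdicCompletion (maximalIdeal (Localization.AtPrime m₀)) (Localization.AtPrime m₀)) q
  by_cases hqm : q ≤ m₀
  · haveI hIp : (q.map (algebraMap S₀ (Localization.AtPrime m₀))).IsPrime :=
      IsLocalization.isPrime_of_isPrime_disjoint m₀.primeCompl (Localization.AtPrime m₀) q
        inferInstance (Set.disjoint_left.mpr fun x hx hxq => hx (hqm hxq))
    have hNC : CAlg.IsNagata
        (Localization.AtPrime m₀ ⧸ q.map (algebraMap S₀ (Localization.AtPrime m₀))) :=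
      Groth.Agent.Helper4.Japanese.isNagata_of_isLocalization (S₀ ⧸ q)
        (Algebra.algebraMapSubmonoid (S₀ ⧸ q) m₀.primeCompl) _ hN
    exact isReduced_quot_tensor_cpl_aux (Localization.AtPrime m₀) _ hNC
  · obtain ⟨t, htq, htm⟩ := SetLike.not_le_iff_exists.mp hqm
    have hItop : q.map (algebraMap S₀ (Localization.AtPrime m₀)) = ⊤ :=
      Ideal.eq_top_of_isUnit_mem _ (Ideal.mem_map_of_mem _ htq)
        (IsLocalization.map_units (Localization.AtPrime m₀) (⟨t, htm⟩ : m₀.primeCompl))
    haveI : Subsingleton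
        (Localization.AtPrime m₀ ⧸ q.map (algebraMap S₀ (Localization.AtPrime m₀))) :=
      Ideal.Quotient.subsingleton_iff.mpr hItop
    haveI : Subsingleton
        ((Localization.AtPrime m₀ ⧸ q.map (algebraMap S₀ (Localization.AtPrime m₀)))
          ⊗[Localization.AtPrime m₀]
          AdicCompletion (maximalIdeal (Localization.AtPrime m₀)) (Localization.AtPrime m₀)) := by
      refine subsingleton_of_zero_eq_one ?_
      rw [Algebra.TensorProduct.one_def, Subsingleton.elim
        (1 : Localization.AtPrime m₀ ⧸ q.map (algebraMap S₀ (Localization.AtPrime m₀))) 0,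
        zero_tmul]
    exact ⟨fun x _ => Subsingleton.elim x 0⟩

/-- **Core**: for a normal Nagata domain `R` and `y` in its fraction field, the local ring of
`R[y]` at a prime containing `y` is analytically unramified. -/
theorem isReduced_cpl_adjoin (R : Type u) [CommRing R] [IsDomain R] [IsIntegrallyClosed R]
    (hR : CAlg.IsNagata R) (K : Type u) [Field K] [Algebra R K] [IsFractionRing R K] (y : K)
    (m₀ : Ideal (Algebra.adjoin R {y})) [m₀.IsPrime] (hy : gen (R := R) y ∈ m₀) :
    IsReduced (AdicCompletion (maximalIdeal (Localization.AtPrime m₀))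
      (Localization.AtPrime m₀)) := by
  haveI := hR.1
  haveI := isNoetherianRing_adjoin (R := R) y
  by_cases hy0 : y = 0
  · have hsurj : Function.Surjective (algebraMap R (Algebra.adjoin R {y})) := by
      intro s
      obtain ⟨r, hr⟩ := exists_sub_mem y ⊥ (by rw [Ideal.mem_bot]; exact Subtype.ext hy0) s
      exact ⟨r, (sub_eq_zero.mp ((Ideal.mem_bot).mp hr)).symm⟩
    have hN : CAlg.IsNagata (Algebra.adjoin R {y}) :=
      Groth.Agent.Helper2.AnUnr6.isNagata_of_surjective _ hsurj hR
    have hN' : CAlg.IsNagata (Localization.AtPrime m₀) :=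
      Groth.Agent.Helper4.Japanese.isNagata_of_isLocalization _ m₀.primeCompl _ hN
    exact Groth.Agent.Helper2.NagAU.s0576 _ hN'
  haveI := isFractionRing_subalgebra R K (Algebra.adjoin R {y})
  let A₀ := Localization.AtPrime m₀
  haveI : IsNoetherianRing (AdicCompletion (maximalIdeal A₀) A₀) :=
    Groth.Agent.S0543.result A₀ (maximalIdeal A₀)
  haveI : IsScalarTower (Algebra.adjoin R {y}) A₀ (AdicCompletion (maximalIdeal A₀) A₀) :=
    inferInstance
  haveI : Module.Flat (Algebra.adjoin R {y}) (AdicCompletion (maximalIdeal A₀) A₀) :=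
    Module.Flat.trans (Algebra.adjoin R {y}) A₀ (AdicCompletion (maximalIdeal A₀) A₀)
  have hgen0 : gen (R := R) y ≠ 0 := fun h => hy0 (congrArg Subtype.val h)
  refine isReduced_of_zariski (Algebra.adjoin R {y}) (gen y)
    (mem_nonZeroDivisors_of_ne_zero hgen0) (AdicCompletion (maximalIdeal A₀) A₀) ?_ ?_
  · -- jacobson
    have fg : (maximalIdeal A₀).FG := (maximalIdeal A₀).fg_of_isNoetherianRing
    haveI := AdicCompletion.isAdicComplete_self (maximalIdeal A₀) fg
    apply IsAdicComplete.le_jacobson_bot ((maximalIdeal A₀).map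
      (algebraMap A₀ (AdicCompletion (maximalIdeal A₀) A₀)))
    rw [IsScalarTower.algebraMap_apply (Algebra.adjoin R {y}) A₀]
    apply Ideal.mem_map_of_mem
    exact (IsLocalization.AtPrime.to_map_mem_maximal_iff A₀ m₀ (gen y)).mpr hy
  · intro q hq _
    have hgq : gen (R := R) y ∈ q := by
      have hq' := hq
      rw [AssociatedPrimes.mem_iff, isAssociatedPrime_iff] at hq'
      obtain ⟨-, x, hx⟩ := hq'
      rw [hx, Submodule.mem_colon_singleton, Submodule.mem_bot]
      obtain ⟨a, rfl⟩ := Ideal.Quotient.mk_surjective x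
      change Ideal.Quotient.mk _ (gen y * a) = 0
      exact Ideal.Quotient.eq_zero_iff_mem.mpr
        (Ideal.mul_mem_right _ _ (Ideal.mem_span_singleton_self _))
    refine ⟨⟨inferInstance, ?_⟩, ?_⟩
    · -- DVR
      have hht := height_comap_eq_one y hy0 q hq
      set p := q.comap (algebraMap R (Algebra.adjoin R {y})) with hp
      have hp0 : p ≠ ⊥ := by
        intro h
        rw [h, Ideal.height_bot] at hht
        exact zero_ne_one hht
      haveI : IsDiscreteValuationRing (Localization.AtPrime p) :=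
        Groth.Agent.Helper9.RadPrime.dvr_of_height_le_one p hp0 hht.le
      haveI : ValuationRing (Localization.AtPrime q) :=
        valuationRing_atPrime R (Algebra.adjoin R {y}) K q p le_rfl
      have hq0 : q ≠ ⊥ := by
        intro h
        rw [h, Ideal.mem_bot] at hgq
        exact hgen0 hgq
      have hnf : ¬ IsField (Localization.AtPrime q) :=
        IsLocalization.AtPrime.not_isField (Algebra.adjoin R {y}) hq0 (Localization.AtPrime q)
      exact ((IsDiscreteValuationRing.TFAE (Localization.AtPrime q) hnf).out 0 1).mpr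
        (inferInstance : ValuationRing (Localization.AtPrime q))
    · -- reducedness
      have hsurj : Function.Surjective
          ((Ideal.Quotient.mk q).comp (algebraMap R (Algebra.adjoin R {y}))) := by
        intro z
        obtain ⟨s, rfl⟩ := Ideal.Quotient.mk_surjective z
        obtain ⟨r, hr⟩ := exists_sub_mem y q hgq s
        refine ⟨r, ?_⟩
        rw [RingHom.comp_apply]
        exact (Ideal.Quotient.eq.mpr hr).symm
      have hN : CAlg.IsNagata (Algebra.adjoin R {y} ⧸ q) :=
        Groth.Agent.Helper2.AnUnr6.isNagata_of_surjective _ hsurj hR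
      exact isReduced_quot_tensor_cpl (Algebra.adjoin R {y}) m₀ q hN

/-- an analytically unramified local domain is N-1 -/
theorem isN1_of_isReduced_completion (S : Type u) [CommRing S] [IsDomain S]
    [IsLocalRing S] [IsNoetherianRing S]
    (hred : IsReduced (AdicCompletion (maximalIdeal S) S)) : CAlg.IsN1 S :=
  Groth.Agent.Helper2.LocDom.finite_integralClosure_of_isReduced_completion S hred (FractionRing S)

/-- the local rings of `R[y]` at primes containing `y` are N-1 -/
theorem isN1_atPrime_adjoin (R : Type u) [CommRing R] [IsDomain R] [IsIntegrallyClosed R]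
    (hR : CAlg.IsNagata R) (K : Type u) [Field K] [Algebra R K] [IsFractionRing R K] (y : K)
    (m₀ : Ideal (Algebra.adjoin R {y})) [m₀.IsPrime] (hy : gen (R := R) y ∈ m₀) :
    CAlg.IsN1 (Localization.AtPrime m₀) := by
  haveI := hR.1
  haveI := isNoetherianRing_adjoin (R := R) y
  have hred := isReduced_cpl_adjoin R hR K y m₀ hy
  exact isN1_of_isReduced_completion _ hred

end Groth.Agent.Helper2.NagFT
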