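import Mathlib
import Groth.Prelude
import Groth.Agent.Helper2.NagFT1
import Groth.Agent.Helper2.NagFT6

set_option autoImplicit false
set_option linter.style.haveILetI false

namespace Groth.Agent.Helper2.NagFT

universe u

open TensorProduct IsLocalRing Polynomial

/-- a localization of a domain inside a given fraction field: algebra structure -/
theorem exists_algebra_localization (S K : Type*) [CommRing S] [IsDomain S] [Field K] [Algebra S K]
    [IsFractionRing S K] (M : Submonoid S) (hM : M ≤ nonZeroDivisors S) (C : Type*) [CommRing C]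
    [Algebra S C] [IsLocalization M C] :
    ∃ (_ : Algebra C K), IsScalarTower S C K ∧ IsFractionRing C K := by
  have hu : ∀ s : M, IsUnit (algebraMap S K (s : S)) := fun s =>
    IsLocalization.map_units K (⟨(s : S), hM s.2⟩ : nonZeroDivisors S)
  letI : Algebra C K :=
    (IsLocalization.lift (M := M) (S := C) (g := algebraMap S K) hu).toAlgebra
  haveI : IsScalarTower S C K :=
    IsScalarTower.of_algebraMap_eq (fun x => (IsLocalization.lift_eq hu x).symm)
  exact ⟨inferInstance, inferInstance,
    IsFractionRing.isFractionRing_of_isDomain_of_isLocalization M C K⟩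

/-- finiteness of a monogenic integral algebra -/
theorem finite_of_adjoin_singleton (A C : Type*) [CommRing A] [CommRing C] [Algebra A C] (z : C)
    (hint : IsIntegral A z) (hgen : Algebra.adjoin A {z} = ⊤) : Module.Finite A C := by
  rw [Module.finite_def, ← Algebra.top_toSubmodule, ← hgen]
  exact hint.fg_adjoin_singleton

/-- integrality from a monic equation with constant term in `A` -/
theorem isIntegral_of_aeval_eq (R A C : Type*) [CommRing R] [CommRing A] [Nontrivial A]
    [CommRing C] [Algebra R A] [Algebra A C] [Algebra R C] [IsScalarTower R A C]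
    (g : R[X]) (hg : g.Monic) (hdeg : g.natDegree ≠ 0) (z : C) (a : A)
    (h : aeval z g = algebraMap A C a) : IsIntegral A z := by
  let P : A[X] := g.map (algebraMap R A) - Polynomial.C a
  have hPm : P.Monic := by
    apply Polynomial.Monic.sub_of_left (hg.map _)
    rw [Polynomial.degree_eq_natDegree (Polynomial.Monic.ne_zero (hg.map (algebraMap R A))),
      hg.natDegree_map]
    refine lt_of_le_of_lt Polynomial.degree_C_le ?_
    exact_mod_cast Nat.pos_of_ne_zero hdeg
  have hP0 : aeval z P = 0 := by
    change aeval z (g.map (algebraMap R A) - Polynomial.C a) = 0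
    rw [map_sub, aeval_C, Polynomial.aeval_map_algebraMap, h, sub_self]
  exact ⟨P, hPm, by rw [← aeval_def]; exact hP0⟩

/-- integrality from a monic equation for `c z`, `c` a unit -/
theorem isIntegral_of_aeval_mul_eq (R A C : Type*) [CommRing R] [CommRing A] [Nontrivial A]
    [CommRing C] [Algebra R A] [Algebra A C] [Algebra R C] [IsScalarTower R A C]
    (g : R[X]) (hg : g.Monic) (hdeg : g.natDegree ≠ 0) (c : R) (hcu : IsUnit (algebraMap R A c))
    (w : C) (a : A) (h : aeval (algebraMap R C c * w) g = algebraMap A C a) : IsIntegral A w := by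
  have hcx := isIntegral_of_aeval_eq R A C g hg hdeg _ a h
  obtain ⟨u, hu⟩ := hcu
  have hxt : w = algebraMap A C (↑u⁻¹ : A) * (algebraMap R C c * w) := by
    rw [IsScalarTower.algebraMap_apply R A C c, ← hu, ← mul_assoc, ← map_mul, Units.inv_mul,
      map_one, one_mul]
  rw [hxt]
  exact isIntegral_algebraMap.mul hcx

/-- **Local step**: if `g(c x) ∈ m` for a monic `g` and `c ∉ m`, the local ring of `R[x]` at `m`
is N-1. -/
theorem isN1_atPrime_of_monic (R : Type u) [CommRing R] [IsDomain R] [IsIntegrallyClosed R]
    (hR : CAlg.IsNagata R) (K : Type u) [Field K] [Algebra R K] [IsFractionRing R K] (x : K)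
    (m : Ideal (Algebra.adjoin R {x})) [m.IsPrime] (c : R)
    (hc : algebraMap R (Algebra.adjoin R {x}) c ∉ m) (g : R[X]) (hg : g.Monic)
    (ys : Algebra.adjoin R {x}) (hys : (ys : K) = aeval (algebraMap R K c * x) g)
    (hym : ys ∈ m) : CAlg.IsN1 (Localization.AtPrime m) := by
  haveI := hR.1
  haveI := isNoetherianRing_adjoin (R := R) x
  set y : K := aeval (algebraMap R K c * x) g with hy
  haveI := isNoetherianRing_adjoin (R := R) y
  have hle : Algebra.adjoin R {y} ≤ Algebra.adjoin R {x} :=
    Algebra.adjoin_le (Set.singleton_subset_iff.mpr (hys ▸ ys.2))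
  letI : Algebra (Algebra.adjoin R {y}) (Algebra.adjoin R {x}) :=
    (Subalgebra.inclusion hle).toRingHom.toAlgebra
  haveI : IsScalarTower R (Algebra.adjoin R {y}) (Algebra.adjoin R {x}) :=
    IsScalarTower.of_algebraMap_eq (fun r => ((Subalgebra.inclusion hle).commutes r).symm)
  have hgeny : algebraMap (Algebra.adjoin R {y}) (Algebra.adjoin R {x}) (gen y) = ys :=
    Subtype.ext hys.symm
  -- the contracted prime
  let m₀ : Ideal (Algebra.adjoin R {y}) :=
    m.comap (algebraMap (Algebra.adjoin R {y}) (Algebra.adjoin R {x}))
  haveI : m₀.IsPrime := Ideal.comap_isPrime _ m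
  have hym₀ : gen (R := R) y ∈ m₀ := by
    change algebraMap _ _ (gen y) ∈ m
    rw [hgeny]
    exact hym
  have hN1 : CAlg.IsN1 (Localization.AtPrime m₀) := isN1_atPrime_adjoin R hR K y m₀ hym₀
  let M := Algebra.algebraMapSubmonoid (Algebra.adjoin R {x}) m₀.primeCompl
  have hleM : M ≤ m.primeCompl := by
    rintro _ ⟨a, ha, rfl⟩
    exact ha
  have hM : M ≤ nonZeroDivisors (Algebra.adjoin R {x}) :=
    hleM.trans m.primeCompl_le_nonZeroDivisors
  let C := Localization M
  haveI : IsDomain C := IsLocalization.isDomain_localization hM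
  haveI : IsScalarTower R (Localization.AtPrime m₀) C := IsScalarTower.of_algebraMap_eq (fun r => by
    rw [IsScalarTower.algebraMap_apply R (Algebra.adjoin R {y}) (Localization.AtPrime m₀),
      ← IsScalarTower.algebraMap_apply (Algebra.adjoin R {y}) (Localization.AtPrime m₀) C,
      IsScalarTower.algebraMap_apply (Algebra.adjoin R {y}) (Algebra.adjoin R {x}) C,
      ← IsScalarTower.algebraMap_apply R (Algebra.adjoin R {y}) (Algebra.adjoin R {x}),
      ← IsScalarTower.algebraMap_apply R (Algebra.adjoin R {x}) C])
  -- the generator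
  let xt : C := algebraMap (Algebra.adjoin R {x}) C (gen x)
  -- `c` is a unit of the local ring
  have hc₀ : algebraMap R (Algebra.adjoin R {y}) c ∈ m₀.primeCompl := by
    intro h
    apply hc
    change algebraMap _ _ (algebraMap R (Algebra.adjoin R {y}) c) ∈ m at h
    rwa [← IsScalarTower.algebraMap_apply] at h
  have hcu : IsUnit (algebraMap R (Localization.AtPrime m₀) c) := by
    rw [IsScalarTower.algebraMap_apply R (Algebra.adjoin R {y}) (Localization.AtPrime m₀)]
    exact IsLocalization.map_units (Localization.AtPrime m₀) (⟨_, hc₀⟩ : m₀.primeCompl)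
  have hint : IsIntegral (Localization.AtPrime m₀) xt := by
    -- the element `c x`
    have hys' : ys = aeval (algebraMap R (Algebra.adjoin R {x}) c * gen x) g := by
      apply Subtype.ext
      rw [← Subalgebra.aeval_coe, hys]
      rfl
    have h1 : aeval (algebraMap R C c * xt) g
        = algebraMap (Localization.AtPrime m₀) C
          (algebraMap (Algebra.adjoin R {y}) (Localization.AtPrime m₀) (gen y)) := by
      rw [← IsScalarTower.algebraMap_apply (Algebra.adjoin R {y}) (Localization.AtPrime m₀) C,
        IsScalarTower.algebraMap_apply (Algebra.adjoin R {y}) (Algebra.adjoin R {x}) C, hgeny,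
        hys', ← Polynomial.aeval_algebraMap_apply, map_mul,
        ← IsScalarTower.algebraMap_apply R (Algebra.adjoin R {x}) C]
    have hdeg : g.natDegree ≠ 0 := by
      intro h0
      have hg1 : g = 1 := by
        have := hg.natDegree_eq_zero.mp h0
        exact this
      apply (inferInstance : m.IsPrime).ne_top
      rw [Ideal.eq_top_iff_one]
      have : ys = 1 := by rw [hys', hg1, map_one]
      rw [← this]
      exact hym
    exact isIntegral_of_aeval_mul_eq R (Localization.AtPrime m₀) C g hg hdeg c hcu xt _ h1
  have hgen : Algebra.adjoin (Localization.AtPrime m₀) {xt} = ⊤ := by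
    rw [eq_top_iff]
    rintro z -
    have hS : ∀ s : Algebra.adjoin R {x},
        algebraMap _ C s ∈ Algebra.adjoin (Localization.AtPrime m₀) {xt} := by
      let T : Subalgebra R (Algebra.adjoin R {x}) :=
        ((Algebra.adjoin (Localization.AtPrime m₀) {xt}).restrictScalars R).comap
          (IsScalarTower.toAlgHom R (Algebra.adjoin R {x}) C)
      have htop : Algebra.adjoin R
          (Subtype.val ⁻¹' ({x} : Set K) : Set (Algebra.adjoin R {x})) = ⊤ :=
        Algebra.adjoin_adjoin_coe_preimage
      have hT : T = ⊤ := by
        rw [eq_top_iff, ← htop, Algebra.adjoin_le_iff]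
        intro s hs
        have hs' : s = gen x := Subtype.ext hs
        rw [hs']
        change algebraMap (Algebra.adjoin R {x}) C (gen x) ∈
          Algebra.adjoin (Localization.AtPrime m₀) {xt}
        exact Algebra.subset_adjoin rfl
      intro s
      have hsT : s ∈ T := hT ▸ Algebra.mem_top
      exact hsT
    obtain ⟨s, t, rfl⟩ := IsLocalization.exists_mk'_eq M z
    obtain ⟨t₀, ht₀, ht⟩ := t.2
    obtain ⟨u, hu⟩ := IsLocalization.map_units (Localization.AtPrime m₀) (⟨t₀, ht₀⟩ : m₀.primeCompl)
    have hz : IsLocalization.mk' C s t = algebraMap _ C s *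
        algebraMap (Localization.AtPrime m₀) C (↑u⁻¹ : Localization.AtPrime m₀) := by
      rw [IsLocalization.mk'_eq_iff_eq_mul, ← ht,
        ← IsScalarTower.algebraMap_apply (Algebra.adjoin R {y}) (Algebra.adjoin R {x}) C,
        IsScalarTower.algebraMap_apply (Algebra.adjoin R {y}) (Localization.AtPrime m₀) C]
      change _ = _ * algebraMap (Localization.AtPrime m₀) C
        (algebraMap (Algebra.adjoin R {y}) (Localization.AtPrime m₀) t₀)
      rw [← hu, mul_assoc, ← map_mul, Units.inv_mul, map_one, mul_one]
    rw [hz]
    exact Subalgebra.mul_mem _ (hS s) (Subalgebra.algebraMap_mem _ _)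
  haveI : Module.Finite (Localization.AtPrime m₀) C :=
    finite_of_adjoin_singleton (Localization.AtPrime m₀) C xt hint hgen
  -- fraction fields
  haveI := isFractionRing_subalgebra R K (Algebra.adjoin R {x})
  haveI := isFractionRing_subalgebra R K (Algebra.adjoin R {y})
  haveI : IsScalarTower (Algebra.adjoin R {y}) (Algebra.adjoin R {x}) K :=
    IsScalarTower.of_algebraMap_eq (fun _ => rfl)
  obtain ⟨alg₁, htow₁, hfr₁⟩ := exists_algebra_localization (Algebra.adjoin R {y}) K m₀.primeCompl
    m₀.primeCompl_le_nonZeroDivisors (Localization.AtPrime m₀)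
  obtain ⟨alg₂, htow₂, hfr₂⟩ := exists_algebra_localization (Algebra.adjoin R {x}) K M hM C
  haveI : IsScalarTower (Localization.AtPrime m₀) C K := by
    refine IsScalarTower.of_algebraMap_eq' ?_
    apply IsLocalization.ringHom_ext m₀.primeCompl
    refine RingHom.ext fun s => ?_
    rw [RingHom.comp_apply, RingHom.comp_apply, RingHom.comp_apply,
      ← IsScalarTower.algebraMap_apply (Algebra.adjoin R {y}) (Localization.AtPrime m₀) K,
      ← IsScalarTower.algebraMap_apply (Algebra.adjoin R {y}) (Localization.AtPrime m₀) C,
      IsScalarTower.algebraMap_apply (Algebra.adjoin R {y}) (Algebra.adjoin R {x}) C,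
      ← IsScalarTower.algebraMap_apply (Algebra.adjoin R {x}) C K,
      ← IsScalarTower.algebraMap_apply (Algebra.adjoin R {y}) (Algebra.adjoin R {x}) K]
  have hC : CAlg.IsN1 C := isN1_of_finite_of_isFractionRing (Localization.AtPrime m₀) C K hN1
  letI : Algebra C (Localization.AtPrime m) :=
    IsLocalization.localizationAlgebraOfSubmonoidLe C (Localization.AtPrime m) M m.primeCompl hleM
  haveI : IsScalarTower (Algebra.adjoin R {x}) C (Localization.AtPrime m) :=
    IsLocalization.localization_isScalarTower_of_submonoid_le C (Localization.AtPrime m) M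
      m.primeCompl hleM
  haveI : IsLocalization (m.primeCompl.map (algebraMap (Algebra.adjoin R {x}) C))
      (Localization.AtPrime m) :=
    IsLocalization.isLocalization_of_submonoid_le C _ M m.primeCompl hleM
  exact Groth.Agent.Helper4.Japanese.isN1_of_isLocalization C
    (m.primeCompl.map (algebraMap (Algebra.adjoin R {x}) C)) (Localization.AtPrime m) hC

end Groth.Agent.Helper2.NagFT
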