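import Mathlib
import Groth.Prelude

set_option autoImplicit false
set_option linter.style.haveILetI false

namespace Groth.Agent.Helper2.NagFT

universe u

open TensorProduct IsLocalRing Polynomial

/-- in a monogenic algebra, a maximal ideal contains `g(c x)` for some monic `g` and some `c`
outside the ideal. -/
theorem exists_monic_aeval_mem (R S : Type*) [CommRing R] [CommRing S] [Algebra R S] (xs : S)
    (hgen : Algebra.adjoin R {xs} = ⊤) (m : Ideal S) [hm : m.IsMaximal] :
    ∃ (c : R) (g : R[X]), algebraMap R S c ∉ m ∧ g.Monic ∧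
      aeval (algebraMap R S c * xs) g ∈ m := by
  let n : Ideal R := m.under R
  haveI : n.IsPrime := Ideal.IsPrime.under R m
  letI : Field (S ⧸ m) := Ideal.Quotient.field m
  let R₀ := R ⧸ n
  let k := S ⧸ m
  haveI : Algebra.FiniteType R S := ⟨by rw [← hgen]; exact ⟨{xs}, by simp⟩⟩
  haveI : Algebra.FiniteType R k := Algebra.FiniteType.trans (S := S) inferInstance inferInstance
  haveI : Algebra.FiniteType R₀ k := Algebra.FiniteType.of_restrictScalars_finiteType R R₀ k
  let F₀ := FractionRing R₀
  letI : Algebra F₀ k := FractionRing.liftAlgebra R₀ k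
  haveI : IsScalarTower R₀ F₀ k := FractionRing.isScalarTower_liftAlgebra R₀ k
  haveI : Algebra.FiniteType F₀ k := Algebra.FiniteType.of_restrictScalars_finiteType R₀ F₀ k
  haveI : Module.Finite F₀ k := finite_of_finite_type_of_isJacobsonRing F₀ k
  haveI : Algebra.IsAlgebraic F₀ k := Algebra.IsAlgebraic.of_finite F₀ k
  haveI : Algebra.IsAlgebraic R₀ k := IsFractionRing.comap_isAlgebraic_iff.mpr
    (inferInstance : Algebra.IsAlgebraic F₀ k)
  obtain ⟨c₀, hc₀, hint⟩ := (Algebra.IsAlgebraic.isAlgebraic (R := R₀)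
    (Ideal.Quotient.mk m xs)).exists_integral_multiple
  obtain ⟨c, rfl⟩ := Ideal.Quotient.mk_surjective c₀
  obtain ⟨g₀, hg₀, h0⟩ := hint
  obtain ⟨g, hgmap, -, hgm⟩ := Polynomial.lifts_and_natDegree_eq_and_monic
    ((Polynomial.mem_lifts _).mpr (Polynomial.map_surjective _ Ideal.Quotient.mk_surjective g₀))
    hg₀
  refine ⟨c, g, ?_, hgm, ?_⟩
  · intro h
    apply hc₀
    rw [Ideal.Quotient.eq_zero_iff_mem]
    exact h
  · rw [← Ideal.Quotient.eq_zero_iff_mem]
    have h1 : Ideal.Quotient.mk m (aeval (algebraMap R S c * xs) g) =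
        aeval (Ideal.Quotient.mk m (algebraMap R S c * xs)) g :=
      (Polynomial.aeval_algHom_apply (Ideal.Quotient.mkₐ R m) _ g).symm
    have h2 : Ideal.Quotient.mk m (algebraMap R S c * xs) =
        (Ideal.Quotient.mk n c : R₀) • (Ideal.Quotient.mk m xs : k) := by
      rw [map_mul, Algebra.smul_def]
      rfl
    rw [h1, ← Polynomial.aeval_map_algebraMap R₀, h2, aeval_def]
    rw [← hgmap] at h0
    exact h0

end Groth.Agent.Helper2.NagFT
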