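import Mathlib
import Groth.Prelude
import Groth.Agent.Helper7.N1Loc2
import Groth.Agent.Helper2.NagFT7
import Groth.Agent.Helper2.NagFT8

set_option autoImplicit false
set_option linter.style.haveILetI false

namespace Groth.Agent.Helper2.NagFT

universe u

open TensorProduct IsLocalRing Polynomial

/-- clearing denominators in `R[b/a]` -/
theorem exists_pow_mul_eq (R K : Type*) [CommRing R] [Field K] [Algebra R K] (x : K) (a b : R)
    (hab : algebraMap R K a * x = algebraMap R K b) (s : K) (hs : s ∈ Algebra.adjoin R {x}) :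
    ∃ (k : ℕ) (r : R), algebraMap R K (a ^ k) * s = algebraMap R K r := by
  induction hs using Algebra.adjoin_induction with
  | mem z hz =>
    obtain rfl := hz
    exact ⟨1, b, by rw [pow_one]; exact hab⟩
  | algebraMap r => exact ⟨0, r, by rw [pow_zero, map_one, one_mul]⟩
  | add s₁ s₂ _ _ h₁ h₂ =>
    obtain ⟨k₁, r₁, h₁⟩ := h₁
    obtain ⟨k₂, r₂, h₂⟩ := h₂
    refine ⟨k₁ + k₂, a ^ k₂ * r₁ + a ^ k₁ * r₂, ?_⟩
    rw [pow_add, map_mul, map_add, map_mul, map_mul, ← h₁, ← h₂]
    ring
  | mul s₁ s₂ _ _ h₁ h₂ =>
    obtain ⟨k₁, r₁, h₁⟩ := h₁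
    obtain ⟨k₂, r₂, h₂⟩ := h₂
    refine ⟨k₁ + k₂, r₁ * r₂, ?_⟩
    rw [pow_add, map_mul, map_mul, ← h₁, ← h₂]
    ring

/-- `R[b/a]` becomes integrally closed after inverting `a`. -/
theorem isIntegrallyClosed_away (R K : Type*) [CommRing R] [IsDomain R] [IsIntegrallyClosed R]
    [Field K] [Algebra R K] [IsFractionRing R K] (x : K) (a b : R) (ha : a ≠ 0)
    (hab : algebraMap R K a * x = algebraMap R K b) :
    IsIntegrallyClosed (Localization.Away (algebraMap R (Algebra.adjoin R {x}) a)) := by
  set f : Algebra.adjoin R {x} := algebraMap R (Algebra.adjoin R {x}) a with hf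
  have hf0 : f ≠ 0 := by
    intro h
    apply ha
    apply IsFractionRing.injective R K
    rw [map_zero]
    exact congrArg Subtype.val h
  have hinjS : Function.Injective (algebraMap (Algebra.adjoin R {x}) (Localization.Away f)) :=
    IsLocalization.injective _ (powers_le_nonZeroDivisors_of_noZeroDivisors hf0)
  have hinjR : Function.Injective (algebraMap R (Algebra.adjoin R {x})) := by
    intro r₁ r₂ h
    exact IsFractionRing.injective R K (congrArg Subtype.val h)
  haveI : IsLocalization (Submonoid.powers a) (Localization.Away f) := by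
    rw [isLocalization_iff]
    refine ⟨?_, ?_, ?_⟩
    · rintro ⟨_, n, rfl⟩
      rw [IsScalarTower.algebraMap_apply R (Algebra.adjoin R {x}) (Localization.Away f), map_pow,
        map_pow]
      exact (IsLocalization.Away.algebraMap_isUnit (S := Localization.Away f) f).pow n
    · intro z
      obtain ⟨s, ⟨_, n, rfl⟩, rfl⟩ := IsLocalization.exists_mk'_eq (Submonoid.powers f) z
      obtain ⟨k, r, hkr⟩ := exists_pow_mul_eq R K x a b hab s s.2
      have hkr' : f ^ k * s = algebraMap R (Algebra.adjoin R {x}) r := by
        apply Subtype.val_injective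
        rw [hf, ← map_pow]
        exact hkr
      refine ⟨(r, ⟨a ^ (n + k), n + k, rfl⟩), ?_⟩
      change _ * algebraMap R (Localization.Away f) (a ^ (n + k)) = algebraMap R _ r
      rw [IsScalarTower.algebraMap_apply R (Algebra.adjoin R {x}) (Localization.Away f),
        IsScalarTower.algebraMap_apply R (Algebra.adjoin R {x}) (Localization.Away f) r,
        ← hkr', map_pow, ← hf, pow_add, map_mul, ← mul_assoc, map_mul]
      have := IsLocalization.mk'_spec (Localization.Away f) s
        (⟨f ^ n, n, rfl⟩ : Submonoid.powers f)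
      rw [this, mul_comm]
    · intro r₁ r₂ h
      refine ⟨1, ?_⟩
      rw [IsScalarTower.algebraMap_apply R (Algebra.adjoin R {x}) (Localization.Away f),
        IsScalarTower.algebraMap_apply R (Algebra.adjoin R {x}) (Localization.Away f) r₂] at h
      rw [hinjR (hinjS h)]
  exact isIntegrallyClosed_of_isLocalization _ (Submonoid.powers a)
    (powers_le_nonZeroDivisors_of_noZeroDivisors ha)

/-- (***) a birational monogenic extension of a normal Nagata domain is N-1 -/
theorem isN1_adjoin (R : Type u) [CommRing R] [IsDomain R] [IsIntegrallyClosed R]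
    (hR : CAlg.IsNagata R) (K : Type u) [Field K] [Algebra R K] [IsFractionRing R K] (x : K) :
    CAlg.IsN1 (Algebra.adjoin R {x}) := by
  haveI := hR.1
  haveI := isNoetherianRing_adjoin (R := R) x
  rw [Groth.Agent.Helper7.N1Loc.main]
  constructor
  · obtain ⟨b, a, ha, hab⟩ := IsFractionRing.div_surjective (A := R) x
    have ha0 : a ≠ 0 := nonZeroDivisors.ne_zero ha
    have haK : algebraMap R K a ≠ 0 := by
      rw [Ne, map_eq_zero_iff _ (IsFractionRing.injective R K)]
      exact ha0
    refine ⟨algebraMap R _ a, ?_, isIntegrallyClosed_away R K x a b ha0 ?_⟩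
    · intro h
      exact haK (congrArg Subtype.val h)
    · rw [← hab, mul_div_cancel₀ _ haK]
  · intro m hm
    obtain ⟨c, g, hc, hg, hmem⟩ := exists_monic_aeval_mem R (Algebra.adjoin R {x}) (gen x)
      (by
        have : Algebra.adjoin R (Subtype.val ⁻¹' ({x} : Set K) : Set (Algebra.adjoin R {x})) = ⊤ :=
          Algebra.adjoin_adjoin_coe_preimage
        rw [← this]
        congr 1
        ext z
        simp only [Set.mem_singleton_iff, Set.mem_preimage]
        exact ⟨fun h => by rw [h]; rfl, fun h => Subtype.ext h⟩) m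
    refine isN1_atPrime_of_monic R hR K x m c hc g hg _ ?_ hmem
    rw [← Subalgebra.aeval_coe]
    rfl

end Groth.Agent.Helper2.NagFT
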