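import Mathlib
import Groth.Prelude
import Groth.Agent.Helper5.N2Poly7
import Groth.Agent.Helper2.TateN2e
import Groth.Agent.Helper2.NagFT9
import Groth.Agent.Helper2.NagFT11

set_option autoImplicit false
set_option linter.style.haveILetI false

namespace Groth.Agent.Helper2.NagFT

universe u

open TensorProduct IsLocalRing Polynomial

attribute [local instance] FractionRing.liftAlgebra in
/-- the fraction field of an algebraic monogenic extension is finite -/
theorem finiteDimensional_fractionRing (R S : Type*) [CommRing R] [IsDomain R] [CommRing S]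
    [IsDomain S] [Algebra R S] [FaithfulSMul R S] (xs : S) (hgen : Algebra.adjoin R {xs} = ⊤)
    (halg : IsAlgebraic R xs) : FiniteDimensional (FractionRing R) (FractionRing S) := by
  let K₀ := FractionRing R
  let L := FractionRing S
  haveI : FaithfulSMul R L := by
    rw [faithfulSMul_iff_algebraMap_injective, IsScalarTower.algebraMap_eq R S L]
    exact (IsFractionRing.injective S L).comp (FaithfulSMul.algebraMap_injective R S)
  let xL : L := algebraMap S L xs
  have h1 : IsAlgebraic R xL := halg.algebraMap
  have h2 : IsAlgebraic K₀ xL := h1.extendScalars (FaithfulSMul.algebraMap_injective R K₀)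
  have hint : IsIntegral K₀ xL := h2.isIntegral
  haveI : FiniteDimensional K₀ (IntermediateField.adjoin K₀ {xL}) :=
    IntermediateField.adjoin.finiteDimensional hint
  have hS : ∀ s : S, algebraMap S L s ∈ IntermediateField.adjoin K₀ {xL} := by
    intro s
    have hs : s ∈ Algebra.adjoin R {xs} := hgen ▸ Algebra.mem_top
    induction hs using Algebra.adjoin_induction with
    | mem z hz =>
      obtain rfl := hz
      exact IntermediateField.mem_adjoin_simple_self K₀ xL
    | algebraMap r =>
      rw [← IsScalarTower.algebraMap_apply R S L, IsScalarTower.algebraMap_apply R K₀ L]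
      exact IntermediateField.algebraMap_mem _ _
    | add s₁ s₂ _ _ h₁ h₂ => rw [map_add]; exact add_mem h₁ h₂
    | mul s₁ s₂ _ _ h₁ h₂ => rw [map_mul]; exact mul_mem h₁ h₂
  have htop : IntermediateField.adjoin K₀ {xL} = ⊤ := by
    rw [eq_top_iff]
    rintro z -
    obtain ⟨a, b, -, rfl⟩ := IsFractionRing.div_surjective (A := S) z
    exact div_mem (hS a) (hS b)
  rw [htop] at this
  exact Module.Finite.equiv (IntermediateField.topEquiv (F := K₀) (E := L)).toLinearEquiv

/-- a Nagata domain is N-2 -/
theorem isN2_of_isNagata_of_isDomain (R : Type u) [CommRing R] [IsDomain R]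
    (hR : CAlg.IsNagata R) : CAlg.IsN2 R := by
  haveI : (⊥ : Ideal R).IsPrime := Ideal.bot_prime
  exact Groth.Agent.Helper2.TateN2e.isN2_of_ringEquiv (RingEquiv.quotientBot R) (hR.2 ⊥)

attribute [local instance] FractionRing.liftAlgebra in
/-- (**) algebraic case: an algebraic monogenic extension of a Nagata domain is N-2 -/
theorem isN2_of_monogenic_algebraic (R : Type u) [CommRing R] [IsDomain R] (hR : CAlg.IsNagata R)
    (S : Type u) [CommRing S] [IsDomain S] [Algebra R S] [FaithfulSMul R S] (xs : S)
    (hgen : Algebra.adjoin R {xs} = ⊤) (halg : IsAlgebraic R xs) : CAlg.IsN2 S := by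
  haveI := hR.1
  have hN2R : CAlg.IsN2 R := isN2_of_isNagata_of_isDomain R hR
  have hinj : Function.Injective (algebraMap R S) := FaithfulSMul.algebraMap_injective R S
  let K₀ := FractionRing R
  let F := FractionRing S
  haveI : FiniteDimensional K₀ F := finiteDimensional_fractionRing R S xs hgen halg
  haveI : FaithfulSMul R F := by
    rw [faithfulSMul_iff_algebraMap_injective, IsScalarTower.algebraMap_eq R S F]
    exact (IsFractionRing.injective S F).comp hinj
  intro M _ _ _ _ hfd
  haveI := hfd
  letI : Algebra R M := ((algebraMap S M).comp (algebraMap R S)).toAlgebra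
  haveI : IsScalarTower R S M := IsScalarTower.of_algebraMap_eq (fun _ => rfl)
  haveI : FaithfulSMul R M := by
    rw [faithfulSMul_iff_algebraMap_injective, IsScalarTower.algebraMap_eq R S M,
      IsScalarTower.algebraMap_eq S F M]
    exact ((algebraMap F M).injective.comp (IsFractionRing.injective S F)).comp hinj
  haveI : IsScalarTower R F M := IsScalarTower.of_algebraMap_eq (fun x => by
    rw [IsScalarTower.algebraMap_apply R S M, IsScalarTower.algebraMap_apply S F M,
      ← IsScalarTower.algebraMap_apply R S F])
  haveI : IsScalarTower K₀ F M := by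
    refine IsScalarTower.of_algebraMap_eq' ?_
    apply IsLocalization.ringHom_ext (nonZeroDivisors R)
    refine RingHom.ext fun x => ?_
    rw [RingHom.comp_apply, RingHom.comp_apply, RingHom.comp_apply,
      ← IsScalarTower.algebraMap_apply R K₀ M, ← IsScalarTower.algebraMap_apply R K₀ F,
      ← IsScalarTower.algebraMap_apply R F M]
  haveI : FiniteDimensional K₀ M := Module.Finite.trans F M
  -- the normalization of `R` in `M`
  haveI hfin' : Module.Finite R (integralClosure R M) :=
    Groth.Agent.Helper4.Japanese.IsN2.finite hN2R K₀ M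
  haveI : IsFractionRing (integralClosure R M) M :=
    integralClosure.isFractionRing_of_finite_extension K₀ M
  haveI : IsIntegrallyClosed (integralClosure R M) :=
    integralClosure.isIntegrallyClosedOfFiniteExtension K₀
  have hN' : CAlg.IsNagata (integralClosure R M) := isNagata_of_finite R hR _
  have hN1 : CAlg.IsN1 (Algebra.adjoin (integralClosure R M) {algebraMap S M xs}) :=
    isN1_adjoin (integralClosure R M) hN' M (algebraMap S M xs)
  haveI := isFractionRing_subalgebra (integralClosure R M) M
    (Algebra.adjoin (integralClosure R M) {algebraMap S M xs})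
  have h3 : Module.Finite (Algebra.adjoin (integralClosure R M) {algebraMap S M xs})
      (integralClosure (Algebra.adjoin (integralClosure R M) {algebraMap S M xs}) M) :=
    (Groth.Agent.Helper4.Japanese.isN1_iff M).mp hN1
  exact finite_integralClosure_of_adjoin R S M xs hgen h3

/-- (**) transcendental case -/
theorem isN2_of_monogenic_transcendental (R : Type u) [CommRing R] [IsDomain R]
    (hR : CAlg.IsNagata R) (S : Type u) [CommRing S] [IsDomain S] [Algebra R S] (xs : S)
    (hgen : Algebra.adjoin R {xs} = ⊤) (htr : Transcendental R xs) : CAlg.IsN2 S := by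
  haveI := hR.1
  have hN2R : CAlg.IsN2 R := isN2_of_isNagata_of_isDomain R hR
  have hinj : Function.Injective (aeval (R := R) xs) := transcendental_iff_injective.mp htr
  have hsurj : Function.Surjective (aeval (R := R) xs) := by
    intro s
    have hs : s ∈ Algebra.adjoin R {xs} := hgen ▸ Algebra.mem_top
    rw [Algebra.adjoin_singleton_eq_range_aeval] at hs
    exact hs
  let e : R[X] ≃ₐ[R] S := AlgEquiv.ofBijective (aeval xs) ⟨hinj, hsurj⟩
  exact Groth.Agent.Helper2.TateN2e.isN2_of_ringEquiv e.toRingEquiv
    (Groth.Agent.Helper5.N2Poly.isN2_polynomial R hN2R)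

/-- (**) a monogenic domain over a Nagata domain is N-2 -/
theorem isN2_of_monogenic (R : Type u) [CommRing R] [IsDomain R] (hR : CAlg.IsNagata R)
    (S : Type u) [CommRing S] [IsDomain S] [Algebra R S] [FaithfulSMul R S] (xs : S)
    (hgen : Algebra.adjoin R {xs} = ⊤) : CAlg.IsN2 S := by
  by_cases halg : IsAlgebraic R xs
  · exact isN2_of_monogenic_algebraic R hR S xs hgen halg
  · exact isN2_of_monogenic_transcendental R hR S xs hgen halg

end Groth.Agent.Helper2.NagFT
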