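import Mathlib
import Groth.Prelude
import Groth.Agent.Helper2.NagFT10

set_option autoImplicit false
set_option linter.style.haveILetI false

namespace Groth.Agent.Helper2.NagFT

universe u

open TensorProduct IsLocalRing Polynomial

/-- the polynomial ring over a Nagata ring is Nagata -/
theorem isNagata_polynomial (R : Type u) [CommRing R] (hR : CAlg.IsNagata R) :
    CAlg.IsNagata R[X] := by
  haveI := hR.1
  refine ⟨inferInstance, fun Q hQ => ?_⟩
  haveI : (Q.under R).IsPrime := Ideal.IsPrime.under R Q
  have hR₀ : CAlg.IsNagata (R ⧸ Q.under R) :=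
    Groth.Agent.Helper2.AnUnr6.isNagata_of_surjective (Ideal.Quotient.mk _)
      Ideal.Quotient.mk_surjective hR
  refine isN2_of_monogenic (R ⧸ Q.under R) hR₀ (R[X] ⧸ Q) (Ideal.Quotient.mk Q X) ?_
  rw [eq_top_iff]
  rintro d -
  obtain ⟨f, rfl⟩ := Ideal.Quotient.mk_surjective d
  induction f using Polynomial.induction_on with
  | C r =>
    have : Ideal.Quotient.mk Q (C r) =
        algebraMap (R ⧸ Q.under R) (R[X] ⧸ Q) (Ideal.Quotient.mk _ r) := rfl
    rw [this]
    exact Subalgebra.algebraMap_mem _ _
  | add f g hf hg => rw [map_add]; exact add_mem hf hg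
  | monomial n r h =>
    rw [pow_succ, ← mul_assoc, map_mul]
    exact mul_mem h (Algebra.subset_adjoin rfl)

/-- Nagata is invariant under ring isomorphisms -/
theorem isNagata_of_ringEquiv {R S : Type u} [CommRing R] [CommRing S] (e : R ≃+* S)
    (hR : CAlg.IsNagata R) : CAlg.IsNagata S :=
  Groth.Agent.Helper2.AnUnr6.isNagata_of_surjective e.toRingHom e.surjective hR

/-- polynomial rings in finitely many variables over a Nagata ring are Nagata -/
theorem isNagata_mvPolynomial (R : Type u) [CommRing R] (hR : CAlg.IsNagata R) (n : ℕ) :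
    CAlg.IsNagata (MvPolynomial (Fin n) R) := by
  induction n with
  | zero => exact isNagata_of_ringEquiv (MvPolynomial.isEmptyAlgEquiv R (Fin 0)).symm.toRingEquiv hR
  | succ n ih =>
    exact isNagata_of_ringEquiv (MvPolynomial.finSuccEquiv R n).symm.toRingEquiv
      (isNagata_polynomial _ ih)

/-- **S0566**: finite type algebras over Nagata rings are Nagata -/
theorem isNagata_of_finiteType (R : Type u) [CommRing R] (hR : CAlg.IsNagata R) (S : Type u)
    [CommRing S] [Algebra R S] [Algebra.FiniteType R S] : CAlg.IsNagata S := by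
  obtain ⟨n, f, hf⟩ := Algebra.FiniteType.iff_quotient_mvPolynomial''.mp
    (inferInstance : Algebra.FiniteType R S)
  exact Groth.Agent.Helper2.AnUnr6.isNagata_of_surjective f.toRingHom hf
    (isNagata_mvPolynomial R hR n)

end Groth.Agent.Helper2.NagFT
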