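import Mathlib
import Groth.Prelude
import Groth.Agent.Helper4.Japanese
import Groth.Agent.Helper2.LocDom
import Groth.Agent.Helper7.N1Loc2
import Groth.Agent.Helper7.N2c

set_option autoImplicit false
set_option linter.style.haveILetI false

namespace Groth.Agent.Helper2.NagLG

universe u

open TensorProduct IsLocalRing

attribute [local instance] FractionRing.liftAlgebra in
/-- Lemma F: a domain finite over a ring all of whose prime quotients are N-2 is N-1. -/
theorem isN1_of_finite (R : Type u) [CommRing R]
    (hR : ∀ (P : Ideal R) [P.IsPrime], CAlg.IsN2 (R ⧸ P))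
    (C : Type u) [CommRing C] [IsDomain C] [Algebra R C] [Module.Finite R C] : CAlg.IsN1 C := by
  haveI hp : (RingHom.ker (algebraMap R C)).IsPrime := RingHom.ker_isPrime _
  have hN2 := hR (RingHom.ker (algebraMap R C))
  set R₀ := R ⧸ RingHom.ker (algebraMap R C) with hR₀
  letI : Algebra R₀ C := (RingHom.kerLift (algebraMap R C)).toAlgebra
  haveI : IsScalarTower R R₀ C := IsScalarTower.of_algebraMap_eq (fun x => rfl)
  have hinj : Function.Injective (algebraMap R₀ C) := RingHom.kerLift_injective _
  haveI : Module.Finite R₀ C := Module.Finite.of_restrictScalars_finite R R₀ C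
  haveI : FaithfulSMul R₀ C := (faithfulSMul_iff_algebraMap_injective R₀ C).mpr hinj
  haveI : Algebra.IsIntegral R₀ C := Algebra.IsIntegral.of_finite R₀ C
  let L := FractionRing C
  let K₀ := FractionRing R₀
  haveI : FaithfulSMul R₀ L := by
    rw [faithfulSMul_iff_algebraMap_injective, IsScalarTower.algebraMap_eq R₀ C L]
    exact (IsFractionRing.injective C L).comp hinj
  haveI : FiniteDimensional K₀ L :=
    Module.Finite.of_isLocalizedModule (nonZeroDivisors R₀) (Rₚ := K₀)
      (f := (IsScalarTower.toAlgHom R₀ C L).toLinearMap)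
  have h1 : Module.Finite R₀ (integralClosure R₀ L) :=
    Groth.Agent.Helper4.Japanese.IsN2.finite hN2 K₀ L
  unfold CAlg.IsN1
  haveI := h1
  let f : integralClosure R₀ L →ₗ[R₀] integralClosure C L :=
    { toFun := fun x => ⟨x.1, x.2.tower_top⟩
      map_add' := fun _ _ => rfl
      map_smul' := fun _ _ => rfl }
  haveI : Module.Finite R₀ (integralClosure C L) := by
    apply Module.Finite.of_surjective f
    rintro ⟨x, hx⟩
    exact ⟨⟨x, isIntegral_trans x hx⟩, rfl⟩
  exact Module.Finite.of_restrictScalars_finite R₀ C _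

/-- Lemma G: local N-1 for a finite domain over `A`, from the local Nagata property of `A`. -/
theorem isN1_localization_atPrime (A : Type u) [CommRing A] (B' : Type u) [CommRing B']
    [IsDomain B'] [Algebra A B'] [Module.Finite A B'] (m : Ideal B') [m.IsMaximal]
    (h : ∀ (P : Ideal (Localization.AtPrime (m.comap (algebraMap A B')))) [P.IsPrime],
      CAlg.IsN2 (Localization.AtPrime (m.comap (algebraMap A B')) ⧸ P)) :
    CAlg.IsN1 (Localization.AtPrime m) := by
  set n := m.comap (algebraMap A B') with hn
  let M := Algebra.algebraMapSubmonoid B' n.primeCompl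
  have hle : M ≤ m.primeCompl := by
    rintro _ ⟨a, ha, rfl⟩
    exact ha
  have hM : M ≤ nonZeroDivisors B' := hle.trans m.primeCompl_le_nonZeroDivisors
  let C := Localization M
  haveI : IsDomain C := IsLocalization.isDomain_localization hM
  haveI : Module.Finite (Localization.AtPrime n) C :=
    Module.Finite.of_isLocalization A B' n.primeCompl
  have hC : CAlg.IsN1 C := isN1_of_finite (Localization.AtPrime n) h C
  letI : Algebra C (Localization.AtPrime m) :=
    IsLocalization.localizationAlgebraOfSubmonoidLe C (Localization.AtPrime m) M m.primeCompl hle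
  haveI : IsScalarTower B' C (Localization.AtPrime m) :=
    IsLocalization.localization_isScalarTower_of_submonoid_le C (Localization.AtPrime m) M
      m.primeCompl hle
  haveI : IsLocalization (m.primeCompl.map (algebraMap B' C)) (Localization.AtPrime m) :=
    IsLocalization.isLocalization_of_submonoid_le C _ M m.primeCompl hle
  exact Groth.Agent.Helper4.Japanese.isN1_of_isLocalization C (m.primeCompl.map (algebraMap B' C))
    (Localization.AtPrime m) hC

/-- the local-to-global direction of S12125, at a prime `p` -/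
theorem isN2_quotient_of_local (A : Type u) [CommRing A] [IsNoetherianRing A]
    (h1 : ∀ (m : Ideal A) [m.IsMaximal] (P : Ideal (Localization.AtPrime m)) [P.IsPrime],
      CAlg.IsN2 (Localization.AtPrime m ⧸ P))
    (p : Ideal A) [p.IsPrime]
    (h2 : ∀ (K' : Type u) [Field K'] [Algebra (A ⧸ p) K']
      [Algebra (FractionRing (A ⧸ p)) K'] [IsScalarTower (A ⧸ p) (FractionRing (A ⧸ p)) K']
      [FiniteDimensional (FractionRing (A ⧸ p)) K'] [IsPurelyInseparable (FractionRing (A ⧸ p)) K']
      (B' : Subalgebra (A ⧸ p) K'), Module.Finite (A ⧸ p) B' → IsFractionRing B' K' →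
        ∃ f : B', f ≠ 0 ∧ IsIntegrallyClosed (Localization.Away f)) :
    CAlg.IsN2 (A ⧸ p) := by
  classical
  apply Groth.Agent.Helper7.N2.result4562 (A ⧸ p)
  intro K' _ _ _ _ hfd hpi
  haveI := hfd
  haveI := hpi
  obtain ⟨s, b, hb⟩ := FiniteDimensional.exists_is_basis_integral (A ⧸ p)
    (FractionRing (A ⧸ p)) K'
  let B' : Subalgebra (A ⧸ p) K' := Algebra.adjoin (A ⧸ p) (Set.range b)
  have hC : ∀ i, b i ∈ B' := fun i => Algebra.subset_adjoin ⟨i, rfl⟩
  haveI hfrac : IsFractionRing B' K' :=
    Groth.Agent.Helper2.SemiRed.isFractionRing_of_basis_mem b B' hC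
  haveI hfin : Module.Finite (A ⧸ p) B' := by
    have h1 : (Algebra.adjoin (A ⧸ p) (Set.range b)).toSubmodule.FG :=
      fg_adjoin_of_finite (Set.finite_range b) (by rintro x ⟨i, rfl⟩; exact hb i)
    exact Module.Finite.iff_fg.mpr h1
  obtain ⟨f, hf0, hfic⟩ := h2 K' B' hfin hfrac
  letI : Algebra A K' := ((algebraMap (A ⧸ p) K').comp (algebraMap A (A ⧸ p))).toAlgebra
  haveI : IsScalarTower A (A ⧸ p) K' := IsScalarTower.of_algebraMap_eq (fun _ => rfl)
  haveI : IsScalarTower A (A ⧸ p) B' :=
    IsScalarTower.of_algebraMap_eq (fun a =>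
      Subtype.ext (IsScalarTower.algebraMap_apply A (A ⧸ p) K' a))
  haveI : Module.Finite A B' := Module.Finite.trans (A ⧸ p) _
  haveI : IsNoetherianRing B' := IsNoetherianRing.of_finite A B'
  haveI : Algebra.IsIntegral A B' := Algebra.IsIntegral.of_finite A B'
  have hN1 : CAlg.IsN1 B' := by
    refine (Groth.Agent.Helper7.N1Loc.main B').mpr ⟨⟨f, hf0, hfic⟩, fun m hm => ?_⟩
    haveI := hm
    haveI : (m.comap (algebraMap A B')).IsMaximal :=
      Ideal.isMaximal_comap_of_isIntegral_of_isMaximal m
    exact isN1_localization_atPrime A B' m (fun P _ => h1 (m.comap (algebraMap A B')) P)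
  have h3 : Module.Finite B' (integralClosure B' K') :=
    (Groth.Agent.Helper4.Japanese.isN1_iff K').mp hN1
  exact Groth.Agent.Helper2.LocDom.finite_integralClosure_of_subalgebra B' h3

/-- S12125 -/
theorem s12125 (A : Type u) [CommRing A] [IsNoetherianRing A] :
    CAlg.IsNagata A ↔
      ((∀ (m : Ideal A) [m.IsMaximal] (P : Ideal (Localization.AtPrime m)) [P.IsPrime],
          CAlg.IsN2 (Localization.AtPrime m ⧸ P)) ∧
        ∀ (p : Ideal A) [p.IsPrime] (K' : Type u) [Field K'] [Algebra (A ⧸ p) K']
          [Algebra (FractionRing (A ⧸ p)) K'] [IsScalarTower (A ⧸ p) (FractionRing (A ⧸ p)) K']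
          [FiniteDimensional (FractionRing (A ⧸ p)) K'] [IsPurelyInseparable (FractionRing (A ⧸ p)) K']
          (B' : Subalgebra (A ⧸ p) K'), Module.Finite (A ⧸ p) B' → IsFractionRing B' K' →
            ∃ f : B', f ≠ 0 ∧ IsIntegrallyClosed (Localization.Away f)) := by
  constructor
  · intro hA
    refine ⟨fun m _ P _ => ?_, ?_⟩
    · exact (Groth.Agent.Helper4.Japanese.isNagata_of_isLocalization A m.primeCompl
        (Localization.AtPrime m) hA).2 P
    · intro p _ K' _ _ _ _ _ _ B' hfin hfrac
      haveI := hfin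
      haveI := hfrac
      have h0 : Module.Finite (A ⧸ p) (integralClosure (A ⧸ p) K') := hA.2 p K' inferInstance
      haveI : IsNoetherianRing B' := IsNoetherianRing.of_finite (A ⧸ p) B'
      haveI : Algebra.IsIntegral (A ⧸ p) B' := Algebra.IsIntegral.of_finite (A ⧸ p) B'
      let g : integralClosure (A ⧸ p) K' →ₗ[A ⧸ p] integralClosure B' K' :=
        { toFun := fun x => ⟨x.1, x.2.tower_top⟩
          map_add' := fun _ _ => rfl
          map_smul' := fun _ _ => rfl }
      haveI : Module.Finite (A ⧸ p) (integralClosure B' K') := by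
        apply Module.Finite.of_surjective g
        rintro ⟨x, hx⟩
        exact ⟨⟨x, isIntegral_trans x hx⟩, rfl⟩
      have h3 : Module.Finite B' (integralClosure B' K') :=
        Module.Finite.of_restrictScalars_finite (A ⧸ p) B' _
      have hN1 : CAlg.IsN1 B' := (Groth.Agent.Helper4.Japanese.isN1_iff K').mpr h3
      exact ((Groth.Agent.Helper7.N1Loc.main B').mp hN1).1
  · rintro ⟨h1, h2⟩
    exact ⟨inferInstance, fun p _ => isN2_quotient_of_local A h1 p (h2 p)⟩

end Groth.Agent.Helper2.NagLG
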