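import Mathlib
import Groth.Prelude
import Groth.Agent.Helper2.NagLG
import Groth.Agent.Helper2.AnUnr6
import Groth.Agent.Helper2.RedComp
import Groth.Agent.Helper2.CplDesc
import Groth.Agent.Helper2.SmoothDense
import Groth.Agent.Helper4.RegNormal

set_option autoImplicit false
set_option linter.style.haveILetI false

namespace Groth.Agent.Helper2.QENag

universe u

open TensorProduct IsLocalRing

/-- a G-ring has geometrically reduced formal fibres at each prime -/
theorem hasGeomReducedFormalFibres_of_isGRing (A : Type u) [CommRing A] (hG : CAlg.IsGRing A)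
    (m : Ideal A) [m.IsPrime] : EGA4.HasGeomReducedFormalFibres (Localization.AtPrime m) := by
  intro Q hQ
  have hreg := (hG.2 m).2 Q
  exact Groth.Agent.Helper2.RedComp.isGeometricallyReduced_of_finite _ _ (fun k' _ _ hfin => by
    haveI := hreg.2 k' hfin
    exact Groth.Agent.Helper2.CplDesc.isReduced_of_isRegularRing _)

/-- a Noetherian domain whose regular locus is open is generically integrally closed -/
theorem exists_isIntegrallyClosed_away (B : Type u) [CommRing B] [IsDomain B]
    (hopen : IsOpen (EGA4.regLocus B)) :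
    ∃ f : B, f ≠ 0 ∧ IsIntegrallyClosed (Localization.Away f) := by
  let η : PrimeSpectrum B := ⟨⊥, Ideal.isPrime_bot⟩
  have hη : η ∈ EGA4.regLocus B := by
    change IsRegularLocalRing (Localization.AtPrime (⊥ : Ideal B))
    apply Groth.Agent.Helper2.SmoothDense.isRegularLocalRing_of_isField
    rw [IsLocalRing.isField_iff_maximalIdeal_eq, ← Localization.AtPrime.map_eq_maximalIdeal,
      Ideal.map_bot]
  obtain ⟨v, ⟨f, rfl⟩, hfη, hsub⟩ :=
    PrimeSpectrum.isTopologicalBasis_basic_opens.exists_subset_of_mem_open hη hopen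
  have hf0 : f ≠ 0 := by
    rintro rfl
    exact hfη (Ideal.zero_mem _)
  refine ⟨f, hf0, ?_⟩
  haveI : IsDomain (Localization.Away f) :=
    IsLocalization.isDomain_localization (powers_le_nonZeroDivisors_of_noZeroDivisors hf0)
  apply IsIntegrallyClosed.of_localization_maximal
  intro q' _ _
  let q : Ideal B := q'.comap (algebraMap B (Localization.Away f))
  haveI : q.IsPrime := Ideal.comap_isPrime _ q'
  haveI hloc : IsLocalization.AtPrime (Localization.AtPrime q') q :=
    IsLocalization.isLocalization_isLocalization_atPrime_isLocalization (Submonoid.powers f)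
      (Localization.AtPrime q') q'
  have hfq : f ∉ q := by
    intro hfq
    have h1 : algebraMap B (Localization.Away f) f ∈ q' := hfq
    have h2 : IsUnit (algebraMap B (Localization.Away f) f) :=
      IsLocalization.map_units _ (⟨f, Submonoid.mem_powers f⟩ : Submonoid.powers f)
    exact (Ideal.IsPrime.ne_top inferInstance) (Ideal.eq_top_of_isUnit_mem _ h1 h2)
  have hreg : IsRegularLocalRing (Localization.AtPrime q) := hsub (show (⟨q, inferInstance⟩ :
    PrimeSpectrum B) ∈ (PrimeSpectrum.basicOpen f : Set (PrimeSpectrum B)) from hfq)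
  haveI : IsIntegrallyClosed (Localization.AtPrime q) :=
    Groth.Agent.Helper4.RegNormal.isIntegrallyClosed_of_isRegularLocalRing _
  let e : Localization.AtPrime q ≃ₐ[B] Localization.AtPrime q' :=
    IsLocalization.algEquiv q.primeCompl _ _
  exact IsIntegrallyClosed.of_equiv e.toRingEquiv

/-- S2654 -/
theorem s2654 (A : Type u) [CommRing A] (hA : EGA4.IsQuasiExcellent A) : CAlg.IsNagata A := by
  obtain ⟨hN, hG, hJ⟩ := hA
  haveI := hN
  refine (Groth.Agent.Helper2.NagLG.s12125 A).mpr ⟨fun m _ P _ => ?_, ?_⟩
  · have hgr := hasGeomReducedFormalFibres_of_isGRing A hG m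
    exact (Groth.Agent.Helper2.AnUnr6.s2657 (Localization.AtPrime m) hgr).2 P
  · intro p _ K' _ _ _ _ _ _ B' hfin hfrac
    haveI := hfin
    letI : Algebra A K' := ((algebraMap (A ⧸ p) K').comp (algebraMap A (A ⧸ p))).toAlgebra
    haveI : IsScalarTower A (A ⧸ p) K' := IsScalarTower.of_algebraMap_eq (fun _ => rfl)
    haveI : IsScalarTower A (A ⧸ p) B' :=
      IsScalarTower.of_algebraMap_eq (fun a =>
        Subtype.ext (IsScalarTower.algebraMap_apply A (A ⧸ p) K' a))
    haveI : Module.Finite A B' := Module.Finite.trans (A ⧸ p) _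
    haveI : Algebra.FiniteType A B' := inferInstance
    exact exists_isIntegrallyClosed_away B' (hJ B' inferInstance)

end Groth.Agent.Helper2.QENag
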