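import Mathlib
import Groth.Prelude
import Groth.Agent.Helper1.EtRed
import Groth.Agent.Helper2.RkDescent
import Groth.Agent.Helper2.AnUnr7
import Groth.Agent.Helper2.LocDom
import Groth.Agent.Helper2.SemiRed
import Groth.Agent.Helper2.NagFT13

set_option autoImplicit false
set_option linter.style.haveILetI false

namespace Groth.Agent.Helper2.NagDesc

universe u

open TensorProduct IsLocalRing

/-- Lemma X: N-1 descends along a faithfully flat map to a reduced Noetherian ring with finite
normalization. -/
theorem isN1_of_faithfullyFlat (A B : Type u) [CommRing A] [IsDomain A] [CommRing B] [Algebra A B]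
    [Module.FaithfullyFlat A B] [IsNoetherianRing B]
    (hB : Module.Finite B (integralClosure B (FractionRing B))) : CAlg.IsN1 A := by
  let K := FractionRing A
  let A' := integralClosure A K
  -- `A ∖ 0` maps to nonzerodivisors of `B`
  have hMB : Algebra.algebraMapSubmonoid B (nonZeroDivisors A) ≤ nonZeroDivisors B := by
    rintro _ ⟨a, ha, rfl⟩
    have hreg : IsSMulRegular B a := Module.Flat.isSMulRegular_of_nonZeroDivisors ha
    rw [mem_nonZeroDivisors_iff_right]   
    intro z hz
    apply hreg
    change a • z = a • 0
    rw [smul_zero, Algebra.smul_def, mul_comm]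
    exact hz
  -- the algebra structure of `Frac B` over `T`
  have hu : ∀ s : Algebra.algebraMapSubmonoid B (nonZeroDivisors A),
      IsUnit (algebraMap B (FractionRing B) (s : B)) := fun s =>
    IsLocalization.map_units (FractionRing B) (⟨(s : B), hMB s.2⟩ : nonZeroDivisors B)
  letI : Algebra (B ⊗[A] FractionRing A) (FractionRing B) :=
    (IsLocalization.lift (M := Algebra.algebraMapSubmonoid B (nonZeroDivisors A)) (S := B ⊗[A] FractionRing A)
      (g := algebraMap B (FractionRing B)) hu).toAlgebra
  haveI : IsScalarTower B (B ⊗[A] FractionRing A) (FractionRing B) :=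
    IsScalarTower.of_algebraMap_eq (R := B) (S := B ⊗[A] FractionRing A) (A := FractionRing B)
      (fun x => (IsLocalization.lift_eq hu x).symm)
  haveI : IsFractionRing (B ⊗[A] FractionRing A) (FractionRing B) :=
    IsFractionRing.isFractionRing_of_isLocalization
      (Algebra.algebraMapSubmonoid B (nonZeroDivisors A)) (B ⊗[A] FractionRing A) (FractionRing B) hMB
  have hinjT : Function.Injective (algebraMap (B ⊗[A] FractionRing A) (FractionRing B)) :=
    IsLocalization.injective _ le_rfl
  -- the linear map `B ⊗ A' → Frac B`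
  let ι : A' →ₗ[A] K := A'.val.toLinearMap
  have hι : Function.Injective ι := Subtype.val_injective
  let f1 : B ⊗[A] A' →ₗ[B] B ⊗[A] K := TensorProduct.AlgebraTensorModule.lTensor B B ι
  have hf1 : Function.Injective f1 :=
    Module.Flat.lTensor_preserves_injective_linearMap (M := B) ι hι
  let f2 : B ⊗[A] K →ₗ[B] FractionRing B :=
    (IsScalarTower.toAlgHom B (B ⊗[A] K) (FractionRing B)).toLinearMap
  have hf2 : Function.Injective f2 := hinjT
  have hrange : ∀ z, (f2 ∘ₗ f1) z ∈ Subalgebra.toSubmodule (integralClosure B (FractionRing B)) := by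
    intro z
    induction z using TensorProduct.induction_on with
    | zero => rw [map_zero]; exact Submodule.zero_mem _
    | add x y hx hy => rw [map_add]; exact Submodule.add_mem _ hx hy
    | tmul b a' =>
      have h1 : (f2 ∘ₗ f1) (b ⊗ₜ[A] a') =
          algebraMap B (FractionRing B) b *
            algebraMap (B ⊗[A] K) (FractionRing B) ((1 : B) ⊗ₜ[A] (a' : K)) := by
        change algebraMap (B ⊗[A] K) (FractionRing B) (b ⊗ₜ[A] (a' : K)) = _
        rw [IsScalarTower.algebraMap_apply B (B ⊗[A] K) (FractionRing B), ← map_mul,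
          Algebra.TensorProduct.algebraMap_apply, Algebra.TensorProduct.tmul_mul_tmul]
        simp
      rw [h1]
      refine IsIntegral.mul isIntegral_algebraMap ?_
      have h2 : IsIntegral A ((1 : B) ⊗ₜ[A] (a' : K)) :=
        (a'.2 : IsIntegral A (a' : K)).map (Algebra.TensorProduct.includeRight : K →ₐ[A] B ⊗[A] K)
      have h3 : IsIntegral B ((1 : B) ⊗ₜ[A] (a' : K)) := h2.tower_top
      exact h3.map (IsScalarTower.toAlgHom B (B ⊗[A] K) (FractionRing B))
  let f' : B ⊗[A] A' →ₗ[B] integralClosure B (FractionRing B) :=
    (f2 ∘ₗ f1).codRestrict (Subalgebra.toSubmodule (integralClosure B (FractionRing B))) hrange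
  have hf' : Function.Injective f' := by
    intro x y hxy
    have := congrArg Subtype.val hxy
    exact hf1 (hf2 this)
  haveI := hB
  haveI : IsNoetherian B (integralClosure B (FractionRing B)) :=
    isNoetherian_of_isNoetherianRing_of_finite B _
  haveI : Module.Finite B (B ⊗[A] A') := Module.Finite.of_injective f' hf'
  exact Module.Finite.of_finite_tensorProduct_of_faithfullyFlat B

/-- **S9401**: the Nagata property descends along smooth maps surjective on spectra. -/
theorem s9401 (R : Type u) [CommRing R] (S : Type u) [CommRing S] [Algebra R S]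
    [Algebra.Smooth R S] (hs : Function.Surjective (PrimeSpectrum.comap (algebraMap R S)))
    (hS : CAlg.IsNagata S) : CAlg.IsNagata R := by
  haveI := hS.1
  haveI : Module.FaithfullyFlat R S := Module.FaithfullyFlat.of_comap_surjective hs
  haveI : IsNoetherianRing R :=
    Groth.Agent.Helper2.RkDescent.isNoetherianRing_of_faithfullyFlat R S
  have hN1 : ∀ (A : Type u) [CommRing A] [IsDomain A] [Algebra R A],
      Algebra.FiniteType R A → CAlg.IsN1 A := by
    intro A _ _ _ hft
    haveI := hft
    have hB2 : CAlg.IsNagata (S ⊗[R] A) :=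
      Groth.Agent.Helper2.NagFT.isNagata_of_finiteType S hS _
    have hB : CAlg.IsNagata (A ⊗[R] S) :=
      Groth.Agent.Helper2.NagFT.isNagata_of_ringEquiv
        (Algebra.TensorProduct.comm R S A).toRingEquiv hB2
    haveI := hB.1
    haveI : IsReduced (A ⊗[R] S) := Groth.Agent.Helper1.EtRed.isReduced_of_smooth A (A ⊗[R] S)
    have hfin := Groth.Agent.Helper2.AnUnr7.finite_integralClosure_fractionRing (A ⊗[R] S) hB
    exact isN1_of_faithfullyFlat A (A ⊗[R] S) hfin
  rw [Groth.Agent.Helper2.NagFT.s0567]
  refine ⟨inferInstance, ?_⟩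
  intro A _ _ _ hft
  haveI := hft
  apply Groth.Agent.Helper4.Japanese.isN2_of (FractionRing A)
  intro L _ _ _ _ hfd
  haveI := hfd
  obtain ⟨s, b, hb⟩ := FiniteDimensional.exists_is_basis_integral A (FractionRing A) L
  let C : Subalgebra A L := Algebra.adjoin A (Set.range b)
  have hC : ∀ i, b i ∈ C := fun i => Algebra.subset_adjoin ⟨i, rfl⟩
  haveI hfrac : IsFractionRing C L :=
    Groth.Agent.Helper2.SemiRed.isFractionRing_of_basis_mem b C hC
  haveI hfin : Module.Finite A C := by
    have h1 : (Algebra.adjoin A (Set.range b)).toSubmodule.FG :=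
      fg_adjoin_of_finite (Set.finite_range b) (by rintro x ⟨i, rfl⟩; exact hb i)
    exact Module.Finite.iff_fg.mpr h1
  letI : Algebra R L := ((algebraMap A L).comp (algebraMap R A)).toAlgebra
  haveI : IsScalarTower R A L := IsScalarTower.of_algebraMap_eq (fun _ => rfl)
  haveI : IsScalarTower R A C :=
    IsScalarTower.of_algebraMap_eq (fun a =>
      Subtype.ext (IsScalarTower.algebraMap_apply R A L a))
  haveI : Algebra.FiniteType R C := Algebra.FiniteType.trans (S := A) inferInstance inferInstance
  have hCN1 : CAlg.IsN1 C := hN1 C inferInstance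
  have h3 : Module.Finite C (integralClosure C L) :=
    (Groth.Agent.Helper4.Japanese.isN1_iff L).mp hCN1
  exact Groth.Agent.Helper2.LocDom.finite_integralClosure_of_subalgebra C h3

end Groth.Agent.Helper2.NagDesc
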