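import Mathlib
import Groth.Prelude
import Groth.Agent.Helper2.NagDesc
import Groth.Agent.Helper2.DimOne
import Groth.Agent.Helper4.GeomRed
import Groth.Agent.Helper5.NagataRed
import Groth.Agent.Helper4.Japanese

set_option autoImplicit false
set_option linter.style.haveILetI false

namespace Groth.Agent.Helper2.DVRSep

universe u

open TensorProduct

/-- the integral closure of a Nagata domain `B` in a reduced finite algebra over its fraction
field is finite over `B`. -/
theorem finite_integralClosure_of_finite_reduced (B L R' : Type u) [CommRing B] [IsDomain B]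
    [Field L] [Algebra B L] [IsFractionRing B L] [CommRing R'] [Algebra L R'] [Algebra B R']
    [IsScalarTower B L R'] [Module.Finite L R'] [IsReduced R'] (hB : CAlg.IsNagata B) :
    Module.Finite B (integralClosure B R') := by
  haveI := hB.1
  haveI : IsNoetherianRing R' := IsNoetherianRing.of_finite L R'
  haveI : IsArtinianRing R' := IsArtinianRing.of_finite L R'
  have hN2 : CAlg.IsN2 B := Groth.Agent.Helper2.NagFT.isN2_of_isNagata_of_isDomain B hB
  apply Groth.Agent.Helper5.NagataRed.finite_of_minimalPrimes B R'
  intro q hq
  haveI : q.IsPrime := hq.1.1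
  haveI : q.IsMaximal := IsArtinianRing.isMaximal_of_isPrime q
  letI : Field (R' ⧸ q) := Ideal.Quotient.field q
  haveI : Module.Finite L (R' ⧸ q) :=
    Module.Finite.of_surjective (Ideal.Quotient.mkₐ L q).toLinearMap Ideal.Quotient.mk_surjective
  exact Groth.Agent.Helper4.Japanese.IsN2.finite hN2 L (R' ⧸ q)

theorem key (A B K L K' : Type u) [CommRing A] [IsDomain A] [CommRing B] [IsDomain B]
    [Algebra A B] [Module.FaithfullyFlat A B]
    [Field K] [Field L] [Algebra A K] [IsFractionRing A K] [Algebra B L] [IsFractionRing B L]
    [Algebra K L] [Algebra A L] [IsScalarTower A K L] [IsScalarTower A B L]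
    [Algebra.IsSeparable K L]
    [Field K'] [Algebra A K'] [Algebra K K'] [IsScalarTower A K K'] [FiniteDimensional K K']
    (hB : CAlg.IsNagata B) : Module.Finite A (integralClosure A K') := by
  haveI := hB.1
  haveI : IsReduced (L ⊗[K] K') := by
    apply Groth.Agent.Helper4.GeomRed.isReduced_tensor_of_tower (k := K) (F := K) (K := L) K'
    exact isReduced_of_injective (Algebra.TensorProduct.lid K K').toRingHom
      (Algebra.TensorProduct.lid K K').injective
  have hfin : Module.Finite B (integralClosure B (L ⊗[K] K')) :=
    finite_integralClosure_of_finite_reduced B L _ hB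
  -- flatness of `K'` over `A`
  haveI : Module.Flat A K := IsLocalization.flat K (nonZeroDivisors A)
  haveI : Module.Flat A K' := Module.Flat.trans A K K'
  -- the maps
  let f1 : B ⊗[A] (integralClosure A K') →ₐ[A] B ⊗[A] K' :=
    Algebra.TensorProduct.map (AlgHom.id A B) (integralClosure A K').val
  have hf1 : Function.Injective f1 :=
    Module.Flat.lTensor_preserves_injective_linearMap (M := B)
      (integralClosure A K').val.toLinearMap Subtype.val_injective
  let f2 : B ⊗[A] K' →ₐ[A] L ⊗[A] K' :=
    Algebra.TensorProduct.map (IsScalarTower.toAlgHom A B L) (AlgHom.id A K')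
  have hf2 : Function.Injective f2 :=
    Module.Flat.rTensor_preserves_injective_linearMap (M := K')
      (IsScalarTower.toAlgHom A B L).toLinearMap (IsFractionRing.injective B L)
  let e : L ⊗[K] K' ≃ₐ[K] L ⊗[A] K' :=
    IsLocalization.algebraTensorEquiv (nonZeroDivisors A) K L K'
  let f : B ⊗[A] (integralClosure A K') →+* L ⊗[K] K' :=
    (e.symm : L ⊗[A] K' →+* L ⊗[K] K').comp (f2.toRingHom.comp f1.toRingHom)
  have hf : Function.Injective f := e.symm.injective.comp (hf2.comp hf1)
  let F : B ⊗[A] (integralClosure A K') →ₐ[B] L ⊗[K] K' :=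
    { f with
      commutes' := fun b => by
        change e.symm (f2 (f1 (algebraMap B (B ⊗[A] (integralClosure A K')) b))) = _
        rw [Algebra.TensorProduct.algebraMap_apply]
        have h1 : f1 ((algebraMap B B b) ⊗ₜ[A] (1 : integralClosure A K')) = b ⊗ₜ[A] (1 : K') := by
          simp [f1]
        have h2 : f2 (b ⊗ₜ[A] (1 : K')) = (algebraMap B L b) ⊗ₜ[A] (1 : K') := by
          simp [f2]
        rw [h1, h2]
        rfl }
  have hF : Function.Injective F := hf
  let F' : B ⊗[A] (integralClosure A K') →ₐ[B] integralClosure B (L ⊗[K] K') :=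
    F.codRestrict _ (fun t => (Algebra.IsIntegral.isIntegral t).map F)
  have hF' : Function.Injective F' := by
    intro x y hxy
    exact hF (congrArg Subtype.val hxy)
  haveI := hfin
  haveI : IsNoetherian B (integralClosure B (L ⊗[K] K')) :=
    isNoetherian_of_isNoetherianRing_of_finite B _
  haveI : Module.Finite B (B ⊗[A] (integralClosure A K')) :=
    Module.Finite.of_injective F'.toLinearMap hF'
  exact Module.Finite.of_finite_tensorProduct_of_faithfullyFlat B

/-- **S1985**: the Nagata property descends along a separable extension of discrete valuation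
rings. -/
theorem s1985 (A B K L : Type u) [CommRing A] [IsDomain A] [IsDiscreteValuationRing A]
    [CommRing B] [IsDomain B] [IsDiscreteValuationRing B] [Algebra A B]
    [IsLocalHom (algebraMap A B)]
    (hinj : Function.Injective (algebraMap A B))
    [Field K] [Field L] [Algebra A K] [IsFractionRing A K] [Algebra B L] [IsFractionRing B L]
    [Algebra K L] [Algebra A L] [IsScalarTower A K L] [IsScalarTower A B L]
    [Algebra.IsSeparable K L] (hB : CAlg.IsNagata B) :
    CAlg.IsNagata A := by
  haveI : Module.IsTorsionFree A B := Module.isTorsionFree_iff_algebraMap_injective.mpr hinj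
  haveI : Module.Flat A B := inferInstance
  haveI : Module.FaithfullyFlat A B := Module.FaithfullyFlat.of_flat_of_isLocalHom
  have hdim : ringKrullDim A = 1 := IsDiscreteValuationRing.ringKrullDim_eq_one A
  apply Groth.Agent.Helper2.DimOne.isNagata_of_dim_one A hdim
  apply Groth.Agent.Helper4.Japanese.isN2_of K
  intro K' _ _ _ _ hfd
  haveI := hfd
  exact key A B K L K' hB

end Groth.Agent.Helper2.DVRSep
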