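import Mathlib
import Groth.Prelude

set_option autoImplicit false
set_option linter.unusedSectionVars false
set_option linter.style.haveILetI false
universe u

open Polynomial

namespace Groth.Agent.Helper2.DecHens

section LinFactor

variable (A K : Type*) [CommRing A] [IsDomain A] [IsIntegrallyClosed A] [Field K] [Algebra A K]
  [IsFractionRing A K]

include K

/-- over a normal domain, a multiplicative "goodness" property forcing a nonzero derivative, and
forcing irreducible separable good polynomials to be linear, always produces a linear factor -/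
theorem exists_linear_factor (Good : A[X] → Prop)
    (ha : ∀ f : A[X], f.Monic → Good f → derivative f ≠ 0)
    (hb : ∀ g h : A[X], g.Monic → h.Monic → g.natDegree ≠ 0 → h.natDegree ≠ 0 → Good (g * h) →
      Good g ∨ Good h)
    (hc : ∀ f : A[X], f.Monic → Good f → Irreducible (f.map (algebraMap A K)) →
      (f.map (algebraMap A K)).Separable → f.natDegree = 1) :
    ∀ (n : ℕ) (f : A[X]), f.natDegree = n → f.Monic → Good f →
      ∃ a : A, Good (X - C a) ∧ (X - C a) ∣ f := by
  intro n
  induction n using Nat.strong_induction_on with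
  | _ n ih =>
    intro f hn hf hG
    by_cases hirr : Irreducible f
    · have h1 : Irreducible (f.map (algebraMap A K)) :=
        (Polynomial.Monic.irreducible_iff_irreducible_map_fraction_map (K := K) hf).1 hirr
      have h2 : derivative (f.map (algebraMap A K)) ≠ 0 := by
        rw [Polynomial.derivative_map]
        intro h0
        apply ha f hf hG
        exact Polynomial.map_injective _ (IsFractionRing.injective A K) (by rw [h0, Polynomial.map_zero])
      have h3 : (f.map (algebraMap A K)).Separable :=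
        (Polynomial.separable_iff_derivative_ne_zero h1).2 h2
      have h5 : f.natDegree = 1 := hc f hf hG h1 h3
      have h7 : f = X + C (f.coeff 0) := hf.eq_X_add_C h5
      refine ⟨-f.coeff 0, ?_, ?_⟩
      · rw [C_neg, sub_neg_eq_add, ← h7]; exact hG
      · rw [C_neg, sub_neg_eq_add, ← h7]
    · have h1 : f ≠ 1 := by
        rintro rfl
        exact ha 1 hf hG (by simp)
      rw [hf.irreducible_iff_natDegree] at hirr
      push Not at hirr
      obtain ⟨g, h, hg, hh, hgh, hg0, hh0⟩ := hirr h1
      have hdeg : g.natDegree + h.natDegree = n := by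
        rw [← hn, ← hgh, hg.natDegree_mul hh]
      rw [← hgh] at hG
      rcases hb g h hg hh hg0 hh0 hG with hGg | hGh
      · obtain ⟨a, ha1, ha2⟩ := ih g.natDegree (by omega) g rfl hg hGg
        exact ⟨a, ha1, hgh ▸ ha2.mul_right h⟩
      · obtain ⟨a, ha1, ha2⟩ := ih h.natDegree (by omega) h rfl hh hGh
        exact ⟨a, ha1, hgh ▸ ha2.mul_left g⟩

end LinFactor

section Crit

variable (B L Ks : Type*) [CommRing B] [IsDomain B] [IsLocalRing B] [IsIntegrallyClosed B]
  [Field L] [Algebra B L] [IsFractionRing B L] [Field Ks] [Algebra L Ks] [Algebra B Ks]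
  [IsScalarTower B L Ks] [Normal L Ks] [IsSepClosed Ks]

local notation "Cl" => integralClosure B Ks

/-- key step: a good irreducible separable polynomial is linear, given a Galois-stable prime of the
integral closure lying over the maximal ideal -/
theorem natDegree_eq_one_of_good
    (n : Ideal (integralClosure B Ks)) [n.IsPrime]
    (hm : ∀ b ∈ IsLocalRing.maximalIdeal B, algebraMap B (integralClosure B Ks) b ∈ n)
    (hσ : ∀ (σ : Ks ≃ₐ[L] Ks) (c : integralClosure B Ks), c ∈ n →
      ∀ h : IsIntegral B (σ c), (⟨σ c, h⟩ : integralClosure B Ks) ∈ n)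
    (a₀ : B) (f : B[X]) (hf : f.Monic) (h1 : f.eval a₀ ∈ IsLocalRing.maximalIdeal B)
    (h2 : (derivative f).eval a₀ ∉ IsLocalRing.maximalIdeal B)
    (hirr : Irreducible (f.map (algebraMap B L)))
    (hsep : (f.map (algebraMap B L)).Separable) : f.natDegree = 1 := by
  classical
  have hinjBKs : Function.Injective (algebraMap B Ks) := by
    rw [IsScalarTower.algebraMap_eq B L Ks]
    exact (algebraMap L Ks).injective.comp (IsFractionRing.injective B L)
  have hinjC : Function.Injective (algebraMap Cl Ks) := Subtype.val_injective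
  -- `f` splits over `Ks`
  have hsplitKs : ((f.map (algebraMap B L)).map (algebraMap L Ks)).Splits :=
    IsSepClosed.splits_codomain _ hsep
  have hmapeq : (f.map (algebraMap B L)).map (algebraMap L Ks) =
      (f.map (algebraMap B Cl)).map (algebraMap Cl Ks) := by
    rw [Polynomial.map_map, Polynomial.map_map, ← IsScalarTower.algebraMap_eq,
      ← IsScalarTower.algebraMap_eq]
  set fC := f.map (algebraMap B Cl) with hfC
  have hfCm : fC.Monic := hf.map _
  have hsplitC : fC.Splits := by
    refine Splits.of_splits_map_of_injective (i := algebraMap Cl Ks) hinjC (hmapeq ▸ hsplitKs) ?_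
    intro a ha
    have hroot : (fC.map (algebraMap Cl Ks)).IsRoot a := (Polynomial.mem_roots'.1 ha).2
    have hint : IsIntegral B a := by
      refine ⟨f, hf, ?_⟩
      rw [← Polynomial.eval_map, IsScalarTower.algebraMap_eq B Cl Ks, ← Polynomial.map_map]
      exact hroot
    exact ⟨⟨a, hint⟩, rfl⟩
  -- the maximal ideal of `B` is the contraction of `n`
  have hcontr : ∀ b : B, algebraMap B Cl b ∈ n → b ∈ IsLocalRing.maximalIdeal B := by
    intro b hb
    by_contra hbm
    have hu : IsUnit b := by
      by_contra hnu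
      exact hbm ((IsLocalRing.mem_maximalIdeal b).2 hnu)
    have : IsUnit (algebraMap B Cl b) := hu.map _
    exact (Ideal.IsPrime.ne_top ‹n.IsPrime›) (Ideal.eq_top_of_isUnit_mem _ hb this)
  -- a root congruent to `a₀`
  have hev : fC.eval (algebraMap B Cl a₀) ∈ n := by
    rw [hfC, Polynomial.eval_map_algebraMap, Polynomial.aeval_algebraMap_apply]
    exact hm _ (by simpa using h1)
  rw [hsplitC.eval_eq_prod_roots_of_monic hfCm] at hev
  obtain ⟨d, hd, hdn⟩ := (Ideal.IsPrime.multiset_prod_mem_iff_exists_mem ‹n.IsPrime› _).1 hev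
  obtain ⟨α₁, hα₁, rfl⟩ := Multiset.mem_map.1 hd
  by_contra hdeg
  -- degree is at least two
  have hdeg0 : f.natDegree ≠ 0 := by
    intro h0
    have : f = 1 := by
      rw [Polynomial.eq_C_of_natDegree_eq_zero h0]
      have h2 : f.coeff 0 = 1 := by
        have := hf.coeff_natDegree
        rwa [h0] at this
      rw [h2]; simp
    rw [this] at h1
    simp at h1
  have hcard : 2 ≤ Multiset.card fC.roots := by
    rw [← hsplitC.natDegree_eq_card_roots, hfC, hf.natDegree_map]
    omega
  -- another root
  have hex : ∃ α₂ ∈ fC.roots, α₂ ≠ α₁ := by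
    by_contra hall
    push Not at hall
    have hrep : fC.roots = Multiset.replicate (Multiset.card fC.roots) α₁ :=
      Multiset.eq_replicate.2 ⟨rfl, hall⟩
    have heq : fC = (X - C α₁) ^ (Multiset.card fC.roots) := by
      conv_lhs => rw [hsplitC.eq_prod_roots_of_monic hfCm, hrep]
      simp
    have hsq : ¬ Squarefree (fC.map (algebraMap Cl Ks)) := by
      rw [heq, Polynomial.map_pow]
      intro hsq
      have := hsq (Polynomial.map (algebraMap Cl Ks) (X - C α₁))
        (by rw [← sq]; exact pow_dvd_pow _ hcard)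
      rw [Polynomial.map_sub, Polynomial.map_X, Polynomial.map_C] at this
      exact Polynomial.not_isUnit_X_sub_C _ this
    apply hsq
    rw [← hmapeq]
    exact (hsep.map).squarefree
  obtain ⟨α₂, hα₂, hne⟩ := hex
  -- conjugacy
  have hroot : ∀ α ∈ fC.roots, Polynomial.aeval (α : Ks) (f.map (algebraMap B L)) = 0 := by
    intro α hα
    have h3 : fC.IsRoot α := (Polynomial.mem_roots'.1 hα).2
    have h4 : (fC.map (algebraMap Cl Ks)).eval (algebraMap Cl Ks α) = 0 := by
      rw [Polynomial.eval_map_apply, h3]; simp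
    rw [← hmapeq, Polynomial.eval_map_algebraMap] at h4
    exact h4
  have hmin : ∀ α ∈ fC.roots, minpoly L (α : Ks) = f.map (algebraMap B L) := by
    intro α hα
    exact (minpoly.eq_of_irreducible_of_monic hirr (hroot α hα) (hf.map _)).symm
  have hconj : IsConjRoot L (α₂ : Ks) (α₁ : Ks) := by
    rw [isConjRoot_def, hmin α₁ hα₁, hmin α₂ hα₂]
  obtain ⟨σ, hσ12⟩ := isConjRoot_iff_exists_algEquiv.1 hconj
  -- α₂ - a₀ ∈ n
  have h5 : algebraMap B Cl a₀ - α₁ ∈ n := hdn
  have h6 : algebraMap B Cl a₀ - α₂ ∈ n := by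
    have hint : IsIntegral B (σ ((algebraMap B Cl a₀ - α₁ : Cl) : Ks)) :=
      ((algebraMap B Cl a₀ - α₁ : Cl).2.map (σ.toAlgHom.restrictScalars B))
    have h7 := hσ σ _ h5 hint
    convert h7 using 1
    apply Subtype.ext
    simp only [AddSubgroupClass.coe_sub, map_sub]
    rw [← hσ12]
    congr 1
    change algebraMap B Ks a₀ = σ (algebraMap B Ks a₀)
    rw [IsScalarTower.algebraMap_apply B L Ks, σ.commutes]
  have h8 : α₁ - α₂ ∈ n := by
    have : α₁ - α₂ = (algebraMap B Cl a₀ - α₂) - (algebraMap B Cl a₀ - α₁) := by ring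
    rw [this]
    exact n.sub_mem h6 h5
  -- derivative at α₁ lies in n
  have h9 : fC.derivative.eval α₁ ∈ n := by
    rw [hsplitC.eval_root_derivative hfCm hα₁]
    refine (Ideal.IsPrime.multiset_prod_mem_iff_exists_mem ‹n.IsPrime› _).2 ⟨α₁ - α₂, ?_, h8⟩
    exact Multiset.mem_map.2 ⟨α₂, (Multiset.mem_erase_of_ne hne).2 hα₂, rfl⟩
  have h10 : fC.derivative.eval (algebraMap B Cl a₀) ∈ n := by
    have hdvd : algebraMap B Cl a₀ - α₁ ∣ fC.derivative.eval (algebraMap B Cl a₀) - fC.derivative.eval α₁ :=
      Polynomial.sub_dvd_eval_sub _ _ _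
    have h11 : fC.derivative.eval (algebraMap B Cl a₀) - fC.derivative.eval α₁ ∈ n :=
      Ideal.mem_of_dvd _ hdvd h5
    have := n.add_mem h11 h9
    simpa using this
  apply h2
  apply hcontr
  rw [hfC, Polynomial.derivative_map, Polynomial.eval_map_algebraMap,
    Polynomial.aeval_algebraMap_apply] at h10
  exact h10

/-- A normal local domain `B` with fraction field `L` is henselian as soon as, for a normal
separably closed extension `Ks` of `L`, the integral closure of `B` in `Ks` has a prime ideal over
the maximal ideal of `B` that is stable under `Gal(Ks/L)`. -/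
theorem henselian_of_stable_prime
    (n : Ideal (integralClosure B Ks)) [n.IsPrime]
    (hm : ∀ b ∈ IsLocalRing.maximalIdeal B, algebraMap B (integralClosure B Ks) b ∈ n)
    (hσ : ∀ (σ : Ks ≃ₐ[L] Ks) (c : integralClosure B Ks), c ∈ n →
      ∀ h : IsIntegral B (σ c), (⟨σ c, h⟩ : integralClosure B Ks) ∈ n) :
    HenselianLocalRing B := by
  refine ⟨fun f hf a₀ h1 h2 => ?_⟩
  let m := IsLocalRing.maximalIdeal B
  have hmp : m.IsPrime := inferInstance
  let Good : B[X] → Prop := fun f => f.eval a₀ ∈ m ∧ (derivative f).eval a₀ ∉ m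
  have h2' : (derivative f).eval a₀ ∉ m := by
    intro h
    exact (IsLocalRing.mem_maximalIdeal _).1 h h2
  have hA : ∀ f : B[X], f.Monic → Good f → derivative f ≠ 0 := by
    rintro g - ⟨-, hg⟩ h0
    apply hg
    rw [h0]
    simp
  have hB : ∀ g h : B[X], g.Monic → h.Monic → g.natDegree ≠ 0 → h.natDegree ≠ 0 → Good (g * h) →
      Good g ∨ Good h := by
    rintro g h - - - - ⟨h3, h4⟩
    rw [eval_mul] at h3
    rw [derivative_mul, eval_add, eval_mul, eval_mul] at h4
    rcases hmp.mem_or_mem h3 with h5 | h5
    · left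
      refine ⟨h5, fun h6 => h4 ?_⟩
      exact m.add_mem (m.mul_mem_right _ h6) (m.mul_mem_right _ h5)
    · right
      refine ⟨h5, fun h6 => h4 ?_⟩
      exact m.add_mem (m.mul_mem_left _ h5) (m.mul_mem_left _ h6)
  have hCc : ∀ f : B[X], f.Monic → Good f → Irreducible (f.map (algebraMap B L)) →
      (f.map (algebraMap B L)).Separable → f.natDegree = 1 := by
    rintro g hg ⟨hg1, hg2⟩ hirr hsep
    exact natDegree_eq_one_of_good B L Ks n hm hσ a₀ g hg hg1 hg2 hirr hsep
  obtain ⟨a, ⟨hG1, -⟩, hdvd⟩ :=
    exists_linear_factor B L Good hA hB hCc f.natDegree f rfl hf ⟨h1, h2'⟩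
  refine ⟨a, ?_, ?_⟩
  · exact Polynomial.dvd_iff_isRoot.1 hdvd
  · have h3 : a₀ - a ∈ m := by simpa using hG1
    have h4 : a - a₀ = -(a₀ - a) := by ring
    rw [h4]
    exact m.neg_mem h3

end Crit

end Groth.Agent.Helper2.DecHens
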