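import Mathlib
import Groth.Prelude
import Groth.Agent.Helper2.DecHens1

set_option autoImplicit false
set_option linter.unusedSectionVars false
set_option linter.style.haveILetI false
universe u

open Polynomial

namespace Groth.Agent.Helper2.DecHens

section Gal

variable (R K Ks : Type u) [CommRing R] [IsDomain R] [Field K] [Algebra R K] [IsFractionRing R K]
  [Field Ks] [Algebra K Ks] [IsSepClosure K Ks] [Algebra R Ks] [IsScalarTower R K Ks]
  (Ps : Ideal (integralClosure R Ks)) [Ps.IsMaximal]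

/-- the elements of `Ks` lying in `Ps` -/
def PsSet : Set Ks := {x | ∃ h : x ∈ integralClosure R Ks, (⟨x, h⟩ : integralClosure R Ks) ∈ Ps}

/-- `σ` maps `Ps` into itself -/
def MapsInto (σ : Ks ≃ₐ[K] Ks) : Prop := ∀ x ∈ PsSet R Ks Ps, σ x ∈ PsSet R Ks Ps

variable {R K Ks Ps}

theorem mem_of_apply_mem {σ : Ks ≃ₐ[K] Ks} (hσ : MapsInto R K Ks Ps σ)
    (x : integralClosure R Ks) (hx : σ (x : Ks) ∈ PsSet R Ks Ps) : x ∈ Ps := by
  let τ : integralClosure R Ks ≃ₐ[R] integralClosure R Ks :=
    (σ.restrictScalars R).mapIntegralClosure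
  have hle : Ps ≤ Ps.comap (τ : integralClosure R Ks →+* integralClosure R Ks) := by
    intro y hy
    obtain ⟨h, hh⟩ := hσ (y : Ks) ⟨y.2, hy⟩
    exact hh
  have hne : Ps.comap (τ : integralClosure R Ks →+* integralClosure R Ks) ≠ ⊤ := by
    intro h
    have h1 : (1 : integralClosure R Ks) ∈
        Ps.comap (τ : integralClosure R Ks →+* integralClosure R Ks) := h ▸ Submodule.mem_top
    rw [Ideal.mem_comap, map_one] at h1
    exact (Ideal.IsPrime.ne_top (Ideal.IsMaximal.isPrime ‹_›)) ((Ideal.eq_top_iff_one _).2 h1)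
  have heq := Ideal.IsMaximal.eq_of_le ‹Ps.IsMaximal› hne hle
  obtain ⟨h, hh⟩ := hx
  rw [heq]
  exact hh

theorem mapsInto_one : MapsInto R K Ks Ps 1 := fun x hx => hx

theorem mapsInto_mul {σ τ : Ks ≃ₐ[K] Ks} (hσ : MapsInto R K Ks Ps σ) (hτ : MapsInto R K Ks Ps τ) :
    MapsInto R K Ks Ps (σ * τ) := fun x hx => hσ _ (hτ x hx)

theorem mapsInto_inv {σ : Ks ≃ₐ[K] Ks} (hσ : MapsInto R K Ks Ps σ) :
    MapsInto R K Ks Ps σ⁻¹ := by
  rintro x ⟨hx, hxP⟩
  have hint : σ⁻¹ x ∈ integralClosure R Ks :=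
    (show IsIntegral R x from hx).map ((σ⁻¹ : Ks ≃ₐ[K] Ks).toAlgHom.restrictScalars R)
  refine ⟨hint, mem_of_apply_mem hσ ⟨σ⁻¹ x, hint⟩ ?_⟩
  have : σ (σ⁻¹ x) = x := by
    change (σ * σ⁻¹) x = x
    rw [mul_inv_cancel]; rfl
  change σ (σ⁻¹ x) ∈ _
  rw [this]
  exact ⟨hx, hxP⟩

variable (R K Ks Ps)

/-- the decomposition group of `Ps` -/
def decomp : Subgroup (Ks ≃ₐ[K] Ks) where
  carrier := {σ | MapsInto R K Ks Ps σ}
  one_mem' := mapsInto_one
  mul_mem' := mapsInto_mul
  inv_mem' := mapsInto_inv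

theorem isOpen_setOf_apply_eq (x y : Ks) : IsOpen {τ : Ks ≃ₐ[K] Ks | τ x = y} := by
  have : Algebra.IsIntegral K Ks := Algebra.IsAlgebraic.isIntegral
  rw [isOpen_iff_forall_mem_open]
  intro τ₀ hτ₀
  refine ⟨(fun τ : Ks ≃ₐ[K] Ks => τ₀⁻¹ * τ) ⁻¹' (MulAction.stabilizer (Ks ≃ₐ[K] Ks) x : Set _),
    ?_, ?_, ?_⟩
  · intro τ hτ
    have h1 : (τ₀⁻¹ * τ) x = x := hτ
    have h2 : τ x = τ₀ ((τ₀⁻¹ * τ) x) := by
      change τ x = (τ₀ * (τ₀⁻¹ * τ)) x
      rw [mul_inv_cancel_left]
    change τ x = y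
    rw [h2, h1]
    exact hτ₀
  · exact (stabilizer_isOpen_of_isIntegral x).preimage (continuous_mul_left τ₀⁻¹)
  · change τ₀⁻¹ * τ₀ ∈ MulAction.stabilizer (Ks ≃ₐ[K] Ks) x
    rw [inv_mul_cancel]
    exact Subgroup.one_mem _

theorem isClosed_setOf_apply_mem (x : Ks) (T : Set Ks) :
    IsClosed {τ : Ks ≃ₐ[K] Ks | τ x ∈ T} := by
  rw [← isOpen_compl_iff]
  have : {τ : Ks ≃ₐ[K] Ks | τ x ∈ T}ᶜ = ⋃ y ∈ Tᶜ, {τ : Ks ≃ₐ[K] Ks | τ x = y} := by
    ext τ
    simp
  rw [this]
  exact isOpen_biUnion fun y _ => isOpen_setOf_apply_eq K Ks x y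

theorem isClosed_decomp : IsClosed (decomp R K Ks Ps : Set (Ks ≃ₐ[K] Ks)) := by
  have : (decomp R K Ks Ps : Set (Ks ≃ₐ[K] Ks)) =
      ⋂ x ∈ PsSet R Ks Ps, {τ : Ks ≃ₐ[K] Ks | τ x ∈ PsSet R Ks Ps} := by
    ext τ
    simp only [Set.mem_iInter, Set.mem_setOf_eq]
    rfl
  rw [this]
  exact isClosed_biInter fun x _ => isClosed_setOf_apply_mem K Ks x _

/-- automorphisms fixing the fixed field of a set of elements of the decomposition group lie in the
decomposition group -/
theorem fixingSubgroup_le_decomp (S : Set (Ks ≃ₐ[K] Ks))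
    (hS : ∀ σ ∈ S, MapsInto R K Ks Ps σ) :
    (IntermediateField.fixedField (Subgroup.closure S)).fixingSubgroup ≤ decomp R K Ks Ps := by
  have hgal : IsGalois K Ks := IsSepClosure.isGalois
  have h1 : Subgroup.closure S ≤ decomp R K Ks Ps := (Subgroup.closure_le _).2 hS
  let Dc : ClosedSubgroup (Ks ≃ₐ[K] Ks) :=
    { toSubgroup := decomp R K Ks Ps, isClosed' := isClosed_decomp R K Ks Ps }
  have h2 := InfiniteGalois.fixingSubgroup_fixedField Dc
  calc (IntermediateField.fixedField (Subgroup.closure S)).fixingSubgroup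
      ≤ (IntermediateField.fixedField (decomp R K Ks Ps)).fixingSubgroup :=
        IntermediateField.fixingSubgroup_antitone (IntermediateField.fixedField_antitone h1)
    _ = decomp R K Ks Ps := h2

end Gal

end Groth.Agent.Helper2.DecHens

namespace Groth.Agent.Helper2.DecHens

section Main

variable (R K Ks : Type u) [CommRing R] [IsDomain R] [Field K] [Algebra R K] [IsFractionRing R K]
  [Field Ks] [Algebra K Ks] [IsSepClosure K Ks] [Algebra R Ks] [IsScalarTower R K Ks]
  (Ps : Ideal (integralClosure R Ks)) [Ps.IsMaximal]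
  (L : IntermediateField K Ks)
  (hstab : ∀ σ ∈ L.fixingSubgroup, MapsInto R K Ks Ps σ)
  (Q : Ideal (integralClosure R L)) [Q.IsPrime]
  (hQ : ∀ y : integralClosure R L, y ∈ Q ↔
      ∃ x : integralClosure R Ks, x ∈ Ps ∧ (x : Ks) = ((y : L) : Ks))

include hstab hQ in
theorem main : HenselianLocalRing (Localization.AtPrime Q) := by
  classical
  have hgal : IsGalois K Ks := IsSepClosure.isGalois
  have hsc : IsSepClosed Ks := IsSepClosure.sep_closed K
  have halgK : Algebra.IsAlgebraic K L := inferInstance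
  have hst : IsScalarTower R L Ks := IsScalarTower.of_algebraMap_eq (fun x => rfl)
  have halgR : Algebra.IsAlgebraic R L := IsFractionRing.comap_isAlgebraic_iff.mpr halgK
  have hinjRL : ∀ x : R, algebraMap R L x = 0 → x = 0 := by
    intro x hx
    have h1 : algebraMap R Ks x = 0 := by
      rw [IsScalarTower.algebraMap_apply R L Ks, hx, map_zero]
    rw [IsScalarTower.algebraMap_apply R K Ks] at h1
    have h2 : algebraMap R K x = 0 := (map_eq_zero (algebraMap K Ks)).1 h1
    exact (IsFractionRing.to_map_eq_zero_iff (K := K)).1 h2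
  have hfrRL : IsFractionRing (integralClosure R L) L :=
    integralClosure.isFractionRing_of_algebraic (A := R) (L := L) hinjRL
  have hicRL : IsIntegrallyClosed (integralClosure R L) :=
    (IsIntegrallyClosed.integralClosure_eq_bot_iff L).mp integralClosure_idem
  -- the local ring `B`
  have hBic : IsIntegrallyClosed (Localization.AtPrime Q) :=
    isIntegrallyClosed_of_isLocalization (Localization.AtPrime Q) Q.primeCompl
      Q.primeCompl_le_nonZeroDivisors
  have hunits : ∀ y : Q.primeCompl, IsUnit (algebraMap (integralClosure R L) L y) := by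
    intro y
    refine IsUnit.mk0 _ ?_
    intro h0
    have : (y : integralClosure R L) = 0 :=
      (injective_iff_map_eq_zero (algebraMap (integralClosure R L) L)).1
        (IsFractionRing.injective _ _) _ h0
    exact y.2 (this ▸ Q.zero_mem)
  letI algBL : Algebra (Localization.AtPrime Q) L :=
    (IsLocalization.lift (M := Q.primeCompl) (g := algebraMap (integralClosure R L) L)
      hunits).toAlgebra
  have hstBL : IsScalarTower (integralClosure R L) (Localization.AtPrime Q) L :=
    IsScalarTower.of_algebraMap_eq' (IsLocalization.lift_comp _).symm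
  have hfrB : IsFractionRing (Localization.AtPrime Q) L :=
    IsFractionRing.isFractionRing_of_isDomain_of_isLocalization Q.primeCompl
      (Localization.AtPrime Q) L
  letI algBKs : Algebra (Localization.AtPrime Q) Ks :=
    ((algebraMap L Ks).comp (algebraMap (Localization.AtPrime Q) L)).toAlgebra
  have hstBLKs : IsScalarTower (Localization.AtPrime Q) L Ks :=
    IsScalarTower.of_algebraMap_eq' rfl
  have hstRLBKs : IsScalarTower (integralClosure R L) (Localization.AtPrime Q) Ks := by
    refine IsScalarTower.of_algebraMap_eq (fun y => ?_)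
    change algebraMap L Ks (algebraMap (integralClosure R L) L y) =
      algebraMap L Ks (algebraMap (Localization.AtPrime Q) L
        (algebraMap (integralClosure R L) (Localization.AtPrime Q) y))
    rw [← IsScalarTower.algebraMap_apply (integralClosure R L) (Localization.AtPrime Q) L]
  have hnorm : Normal L Ks := inferInstance
  have hstRRLKs : IsScalarTower R (integralClosure R L) Ks :=
    IsScalarTower.of_algebraMap_eq (fun x => rfl)
  -- elements of `Q.primeCompl` give elements of `R^s` outside `Ps`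
  have hcompl : ∀ t : integralClosure R L, t ∉ Q → ∃ s : integralClosure R Ks, s ∉ Ps ∧
      (s : Ks) = algebraMap L Ks (t : L) := by
    intro t ht
    have hint : IsIntegral R (algebraMap L Ks (t : L)) :=
      (show IsIntegral R (t : L) from t.2).map (IsScalarTower.toAlgHom R L Ks)
    refine ⟨⟨_, hint⟩, ?_, rfl⟩
    intro hs
    exact ht ((hQ t).2 ⟨⟨_, hint⟩, hs, rfl⟩)
  -- denominators
  have hden : ∀ c : integralClosure (Localization.AtPrime Q) Ks,
      ∃ s : integralClosure R Ks, s ∉ Ps ∧ (s : Ks) * (c : Ks) ∈ integralClosure R Ks := by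
    intro c
    obtain ⟨t, ht⟩ := IsIntegral.exists_multiple_integral_of_isLocalization Q.primeCompl (c : Ks) c.2
    obtain ⟨s, hs1, hs2⟩ := hcompl t t.2
    refine ⟨s, hs1, ?_⟩
    have h1 : IsIntegral R (t • (c : Ks)) := isIntegral_trans _ ht
    have h2 : t • (c : Ks) = (s : Ks) * (c : Ks) := by
      rw [hs2, Submonoid.smul_def, Algebra.smul_def]
      rfl
    rw [← h2]
    exact h1
  -- the prime `n`
  have hPsSet_add : ∀ x y : Ks, x ∈ PsSet R Ks Ps → y ∈ PsSet R Ks Ps → x + y ∈ PsSet R Ks Ps := by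
    rintro x y ⟨hx, hx'⟩ ⟨hy, hy'⟩
    exact ⟨Subalgebra.add_mem _ hx hy, Ps.add_mem hx' hy'⟩
  have hPsSet_mul : ∀ x y : Ks, x ∈ integralClosure R Ks → y ∈ PsSet R Ks Ps →
      x * y ∈ PsSet R Ks Ps := by
    rintro x y hx ⟨hy, hy'⟩
    exact ⟨Subalgebra.mul_mem _ hx hy, Ps.mul_mem_left ⟨x, hx⟩ hy'⟩
  let n : Ideal (integralClosure (Localization.AtPrime Q) Ks) :=
    { carrier := {c | ∃ s : integralClosure R Ks, s ∉ Ps ∧ (s : Ks) * (c : Ks) ∈ PsSet R Ks Ps}
      zero_mem' := ⟨1, (Ideal.ne_top_iff_one Ps).1 (Ideal.IsPrime.ne_top (Ideal.IsMaximal.isPrime ‹_›)),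
        by
          have : ((1 : integralClosure R Ks) : Ks) * ((0 : integralClosure (Localization.AtPrime Q) Ks) : Ks)
              = 0 := by simp
          rw [this]
          exact ⟨Subalgebra.zero_mem _, Ps.zero_mem⟩⟩
      add_mem' := by
        rintro c₁ c₂ ⟨s₁, hs₁, h₁⟩ ⟨s₂, hs₂, h₂⟩
        refine ⟨s₁ * s₂, ?_, ?_⟩
        · intro h
          rcases (Ideal.IsMaximal.isPrime ‹Ps.IsMaximal›).mem_or_mem h with h | h
          · exact hs₁ h
          · exact hs₂ h
        · have : ((s₁ * s₂ : integralClosure R Ks) : Ks) * ((c₁ + c₂ : integralClosure (Localization.AtPrime Q) Ks) : Ks)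
              = (s₂ : Ks) * ((s₁ : Ks) * (c₁ : Ks)) + (s₁ : Ks) * ((s₂ : Ks) * (c₂ : Ks)) := by
            push_cast
            ring
          rw [this]
          exact hPsSet_add _ _ (hPsSet_mul _ _ s₂.2 h₁) (hPsSet_mul _ _ s₁.2 h₂)
      smul_mem' := by
        rintro c' c ⟨s, hs, h⟩
        obtain ⟨s', hs', h'⟩ := hden c'
        refine ⟨s' * s, ?_, ?_⟩
        · intro h
          rcases (Ideal.IsMaximal.isPrime ‹Ps.IsMaximal›).mem_or_mem h with h | h
          · exact hs' h
          · exact hs h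
        · have : ((s' * s : integralClosure R Ks) : Ks) * ((c' • c : integralClosure (Localization.AtPrime Q) Ks) : Ks)
              = ((s' : Ks) * (c' : Ks)) * ((s : Ks) * (c : Ks)) := by
            rw [smul_eq_mul]
            push_cast
            ring
          rw [this]
          exact hPsSet_mul _ _ h' h }
  have hmem_n : ∀ c : integralClosure (Localization.AtPrime Q) Ks, c ∈ n ↔
      ∃ s : integralClosure R Ks, s ∉ Ps ∧ (s : Ks) * (c : Ks) ∈ PsSet R Ks Ps := fun c => Iff.rfl
  have hPsprime : Ps.IsPrime := Ideal.IsMaximal.isPrime ‹_›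
  have hnprime : n.IsPrime := by
    refine ⟨?_, ?_⟩
    · intro htop
      have h1 : (1 : integralClosure (Localization.AtPrime Q) Ks) ∈ n := htop ▸ Submodule.mem_top
      obtain ⟨s, hs, hs1, hs2⟩ := (hmem_n 1).1 h1
      apply hs
      have : (⟨(s : Ks) * ((1 : integralClosure (Localization.AtPrime Q) Ks) : Ks), hs1⟩ :
          integralClosure R Ks) = s := by
        apply Subtype.ext
        simp
      rw [← this]
      exact hs2
    · intro c₁ c₂ h12
      obtain ⟨s, hs, hs1, hs2⟩ := (hmem_n _).1 h12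
      obtain ⟨s₁, hs₁, h₁⟩ := hden c₁
      obtain ⟨s₂, hs₂, h₂⟩ := hden c₂
      have hprod : (⟨(s₁ : Ks) * (c₁ : Ks), h₁⟩ : integralClosure R Ks) *
          (⟨(s₂ : Ks) * (c₂ : Ks), h₂⟩ * s) ∈ Ps := by
        have : (⟨(s₁ : Ks) * (c₁ : Ks), h₁⟩ : integralClosure R Ks) *
            (⟨(s₂ : Ks) * (c₂ : Ks), h₂⟩ * s) =
            (s₁ * s₂) * ⟨(s : Ks) * ((c₁ * c₂ : integralClosure (Localization.AtPrime Q) Ks) : Ks), hs1⟩ := by
          apply Subtype.ext
          push_cast
          ring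
        rw [this]
        exact Ps.mul_mem_left _ hs2
      rcases hPsprime.mem_or_mem hprod with h | h
      · left
        exact (hmem_n _).2 ⟨s₁, hs₁, h₁, h⟩
      · rcases hPsprime.mem_or_mem h with h | h
        · right
          exact (hmem_n _).2 ⟨s₂, hs₂, h₂, h⟩
        · exact absurd h hs
  have hm : ∀ b ∈ IsLocalRing.maximalIdeal (Localization.AtPrime Q),
      algebraMap (Localization.AtPrime Q) (integralClosure (Localization.AtPrime Q) Ks) b ∈ n := by
    intro b hb
    obtain ⟨y, t, rfl⟩ := IsLocalization.exists_mk'_eq Q.primeCompl b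
    have hy : y ∈ Q := (IsLocalization.AtPrime.mk'_mem_maximal_iff (Localization.AtPrime Q) Q y t).1 hb
    obtain ⟨s, hs1, hs2⟩ := hcompl t t.2
    refine (hmem_n _).2 ⟨s, hs1, ?_⟩
    obtain ⟨x, hx1, hx2⟩ := (hQ y).1 hy
    have : (s : Ks) * ((algebraMap (Localization.AtPrime Q)
        (integralClosure (Localization.AtPrime Q) Ks) (IsLocalization.mk' _ y t) :
        integralClosure (Localization.AtPrime Q) Ks) : Ks) = (x : Ks) := by
      rw [hs2, hx2]
      change algebraMap L Ks (t : L) * algebraMap (Localization.AtPrime Q) Ks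
        (IsLocalization.mk' (Localization.AtPrime Q) y t) = _
      rw [IsScalarTower.algebraMap_apply (Localization.AtPrime Q) L Ks, ← map_mul]
      congr 1
      have h3 : ((t : integralClosure R L) : L) =
          algebraMap (Localization.AtPrime Q) L
            (algebraMap (integralClosure R L) (Localization.AtPrime Q) t) := by
        rw [← IsScalarTower.algebraMap_apply (integralClosure R L) (Localization.AtPrime Q) L]
        rfl
      rw [h3, ← map_mul, mul_comm, IsLocalization.mk'_spec,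
        ← IsScalarTower.algebraMap_apply (integralClosure R L) (Localization.AtPrime Q) L]
      rfl
    rw [this]
    exact ⟨x.2, hx1⟩
  have hσ : ∀ (σ : Ks ≃ₐ[L] Ks) (c : integralClosure (Localization.AtPrime Q) Ks), c ∈ n →
      ∀ h : IsIntegral (Localization.AtPrime Q) (σ c),
        (⟨σ c, h⟩ : integralClosure (Localization.AtPrime Q) Ks) ∈ n := by
    intro σ c hc h
    obtain ⟨s, hs, hsc⟩ := (hmem_n c).1 hc
    have hσfix : σ.restrictScalars K ∈ L.fixingSubgroup := by
      rw [IntermediateField.mem_fixingSubgroup_iff]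
      intro x hx
      exact σ.commutes ⟨x, hx⟩
    have hmaps := hstab _ hσfix
    have hmaps' := mapsInto_inv hmaps
    have hint : IsIntegral R (σ (s : Ks)) :=
      (show IsIntegral R (s : Ks) from s.2).map ((σ.restrictScalars K).toAlgHom.restrictScalars R)
    refine (hmem_n _).2 ⟨⟨σ (s : Ks), hint⟩, ?_, ?_⟩
    · intro hmem
      apply hs
      have h1 := hmaps' (σ (s : Ks)) ⟨hint, hmem⟩
      have h2 : (σ.restrictScalars K)⁻¹ (σ (s : Ks)) = (s : Ks) := by
        change ((σ.restrictScalars K)⁻¹ * (σ.restrictScalars K)) (s : Ks) = _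
        rw [inv_mul_cancel]; rfl
      rw [h2] at h1
      obtain ⟨h3, h4⟩ := h1
      exact h4
    · have h1 := hmaps _ hsc
      have h2 : (σ.restrictScalars K) ((s : Ks) * (c : Ks)) = σ (s : Ks) * σ (c : Ks) := by
        change σ ((s : Ks) * (c : Ks)) = _
        rw [map_mul]
      rw [h2] at h1
      exact h1
  exact henselian_of_stable_prime (Localization.AtPrime Q) L Ks n hm hσ

theorem s11105
    (L : IntermediateField K Ks)
    (hL : L = IntermediateField.fixedField
      (Subgroup.closure {σ : Ks ≃ₐ[K] Ks | ∀ x : integralClosure R Ks, x ∈ Ps →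
        ∃ h : σ (x : Ks) ∈ integralClosure R Ks, (⟨σ (x : Ks), h⟩ : integralClosure R Ks) ∈ Ps}))
    (Q : Ideal (integralClosure R L)) [Q.IsPrime]
    (hQ : ∀ y : integralClosure R L, y ∈ Q ↔
      ∃ x : integralClosure R Ks, x ∈ Ps ∧ (x : Ks) = ((y : L) : Ks)) :
    HenselianLocalRing (Localization.AtPrime Q) := by
  subst hL
  refine main R K Ks Ps _ ?_ Q hQ
  refine fixingSubgroup_le_decomp R K Ks Ps _ ?_
  rintro σ hσ x ⟨hx, hxP⟩
  exact hσ ⟨x, hx⟩ hxP

theorem s11106
    (L : IntermediateField K Ks)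
    (hL : L = IntermediateField.fixedField
      (Subgroup.closure {σ : Ks ≃ₐ[K] Ks | ∀ x : integralClosure R Ks,
        ∃ h : σ (x : Ks) ∈ integralClosure R Ks, (⟨σ (x : Ks), h⟩ : integralClosure R Ks) - x ∈ Ps}))
    (Q : Ideal (integralClosure R L)) [Q.IsPrime]
    (hQ : ∀ y : integralClosure R L, y ∈ Q ↔
      ∃ x : integralClosure R Ks, x ∈ Ps ∧ (x : Ks) = ((y : L) : Ks)) :
    HenselianLocalRing (Localization.AtPrime Q) := by
  subst hL
  refine main R K Ks Ps _ ?_ Q hQ
  refine fixingSubgroup_le_decomp R K Ks Ps _ ?_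
  rintro σ hσ x ⟨hx, hxP⟩
  obtain ⟨h, hh⟩ := hσ ⟨x, hx⟩
  refine ⟨h, ?_⟩
  have := Ps.add_mem hh hxP
  simpa using this

end Main

end Groth.Agent.Helper2.DecHens

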