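import Mathlib
import Groth.Prelude
import Groth.Agent.Helper2.DelocA
import Groth.Agent.Helper2.DelocC
import Groth.Agent.Helper2.DelocJ

set_option autoImplicit false

namespace Groth.Agent.Helper2.Deloc

open Function MvPolynomial Algebra TensorProduct

universe u

set_option maxHeartbeats 3200000 in
theorem coreH
    {R : Type u} [CommRing R] {A Λ : Type u} [CommRing A] [Algebra R A] [CommRing Λ] [Algebra R Λ]
    (φ : A →ₐ[R] Λ) (𝔮 : Ideal Λ) [𝔮.IsPrime]
    {K : Type u} [CommRing K] [Algebra R K]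
    [IsLocalization.AtPrime K (𝔮.comap (algebraMap R Λ))]
    {Λq : Type u} [CommRing Λq] [Algebra Λ Λq] [IsLocalization.AtPrime Λq 𝔮] [Algebra R Λq]
    [IsScalarTower R Λ Λq] [Algebra K Λq] [IsScalarTower R K Λq]
    {B'' : Type u} [CommRing B''] [Algebra K B'']
    {ι σ : Type} [Fintype ι] [Fintype σ] [DecidableEq ι] [DecidableEq σ] {nA mA : ℕ}
    (z : ι → B'') (f' : σ → MvPolynomial ι K) (cols0 : σ ↪ ι)
    (hker : RingHom.ker (aeval z : MvPolynomial ι K →ₐ[K] B'').toRingHom =
      Ideal.span (Set.range f'))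
    (hsurj : Surjective (aeval z : MvPolynomial ι K →ₐ[K] B''))
    (hjac : IsUnit (aeval z (Matrix.det (Matrix.of fun j k : σ => pderiv (cols0 k) (f' j)))))
    (πA : MvPolynomial (Fin nA) R →ₐ[R] A) (hπA : Surjective πA)
    (G : Fin mA → MvPolynomial (Fin nA) R)
    (hG : RingHom.ker πA.toRingHom = Ideal.span (Set.range G))
    (g'' : K ⊗[R] A →ₐ[K] B'') (h'' : B'' →ₐ[K] Λq)
    (hgh : ∀ a : A, h'' (g'' ((1 : K) ⊗ₜ[R] a)) = algebraMap Λ Λq (φ a))
    (ν : Λ) (hν : ν ∉ 𝔮) (lam : ι → Λ)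
    (hlam : ∀ i, h'' (z i) * algebraMap Λ Λq ν = algebraMap Λ Λq (lam i)) :
    ∃ (B : Type u) (_ : CommRing B) (_ : Algebra R B), Algebra.FinitePresentation R B ∧
      ∃ (α : A →ₐ[R] B) (β : B →ₐ[R] Λ), β.comp α = φ ∧
        ∃ c : B, Smoothing.IsElementaryStandard R B c ∧ β c ∉ 𝔮 := by
  classical
  set S : Submonoid R := (𝔮.comap (algebraMap R Λ)).primeCompl with hS
  choose F v hv hF using fun j => exists_clear S (K := K) (f' j)
  choose p hp using fun k : Fin nA => hsurj (g'' ((1 : K) ⊗ₜ[R] πA (X k)))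
  choose Pk t ht hPk using fun k => exists_clear S (K := K) (p k)
  set d : ℕ := 1 + ((∑ j, (F j).totalDegree) + ∑ k, (Pk k).totalDegree) with hd
  have hdF : ∀ j, ∀ m ∈ (F j).support, m.degree ≤ d := by
    intro j m hm
    have h1 : m.degree ≤ (F j).totalDegree := le_totalDegree hm
    have h2 : (F j).totalDegree ≤ ∑ j, (F j).totalDegree :=
      Finset.single_le_sum (f := fun j => (F j).totalDegree) (fun _ _ => Nat.zero_le _)
        (Finset.mem_univ j)
    omega
  have hdP : ∀ k, ∀ m ∈ (Pk k).support, m.degree ≤ d := by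
    intro k m hm
    have h1 : m.degree ≤ (Pk k).totalDegree := le_totalDegree hm
    have h2 : (Pk k).totalDegree ≤ ∑ k, (Pk k).totalDegree :=
      Finset.single_le_sum (f := fun k => (Pk k).totalDegree) (fun _ _ => Nat.zero_le _)
        (Finset.mem_univ k)
    omega
  obtain ⟨d', hd'⟩ : ∃ d', d = d' + 1 := ⟨_, by rw [hd, add_comm]⟩
  have hpow : ∀ y : Λ, y ^ d = y ^ d' * y := fun y => by rw [hd', pow_succ]
  -- computations in Λq
  set w : Λq := algebraMap Λ Λq ν with hw
  let x : ι → Λq := fun i => h'' (z i)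
  have E1 : ∀ Q : MvPolynomial ι R, aeval x Q =
      h'' (aeval z (MvPolynomial.map (algebraMap R K) Q)) := by
    intro Q
    have : (aeval x : MvPolynomial ι R →ₐ[R] Λq).toRingHom =
        h''.toRingHom.comp ((aeval z : MvPolynomial ι K →ₐ[K] B'').toRingHom.comp
          (MvPolynomial.map (algebraMap R K))) := by
      apply MvPolynomial.ringHom_ext
      · intro r
        show aeval x (C r) = h'' (aeval z (MvPolynomial.map (algebraMap R K) (C r)))
        rw [map_C, aeval_C, aeval_C, AlgHom.commutes, ← IsScalarTower.algebraMap_apply]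
      · intro i
        show aeval x (X i) = h'' (aeval z (MvPolynomial.map (algebraMap R K) (X i)))
        rw [map_X, aeval_X, aeval_X]
    exact congrArg (fun k : MvPolynomial ι R →+* Λq => k Q) this
  let g0 : Option ι → Λ := fun o => Option.elim o ν lam
  have hg0 : (fun o => algebraMap Λ Λq (g0 o)) =
      fun o : Option ι => Option.elim o w (fun i => x i * w) := by
    funext o
    rcases o with _ | i
    · rfl
    · exact (hlam i).symm
  have EΛ : ∀ Q : MvPolynomial ι R, (∀ m ∈ Q.support, m.degree ≤ d) →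
      algebraMap Λ Λq (aeval g0 (homog d Q)) =
        w ^ d * h'' (aeval z (MvPolynomial.map (algebraMap R K) Q)) := by
    intro Q hQ
    have h1 : algebraMap Λ Λq (aeval g0 (homog d Q)) =
        aeval (fun o => algebraMap Λ Λq (g0 o)) (homog d Q) := by
      have := MvPolynomial.comp_aeval (R := R) g0 (IsScalarTower.toAlgHom R Λ Λq)
      exact congrArg (fun k : MvPolynomial (Option ι) R →ₐ[R] Λq => k (homog d Q)) this
    rw [h1, hg0, aeval_homog x w d Q hQ, E1]
  have hzf : ∀ j, aeval z (f' j) = 0 := by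
    intro j
    have : f' j ∈ RingHom.ker (aeval z : MvPolynomial ι K →ₐ[K] B'').toRingHom := by
      rw [hker]
      exact Ideal.subset_span (Set.mem_range_self j)
    exact this
  let μ : Fin nA → Λ := fun k => φ (πA (X k))
  have h5 : ∀ j, ∃ c ∈ 𝔮.primeCompl, c * aeval g0 (homog d (F j)) = 0 := by
    intro j
    have h1 : algebraMap Λ Λq (aeval g0 (homog d (F j))) = 0 := by
      rw [EΛ _ (hdF j), hF, map_mul, hzf, mul_zero, map_zero, mul_zero]
    rw [IsLocalization.map_eq_zero_iff 𝔮.primeCompl] at h1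
    obtain ⟨c, hc⟩ := h1
    exact ⟨c, c.2, hc⟩
  choose c1 hc1 hc1' using h5
  have h6 : ∀ k, ∃ c ∈ 𝔮.primeCompl,
      c * (algebraMap R Λ (t k) * ν ^ d * μ k - aeval g0 (homog d (Pk k))) = 0 := by
    intro k
    have h1 : algebraMap Λ Λq
        (algebraMap R Λ (t k) * ν ^ d * μ k - aeval g0 (homog d (Pk k))) = 0 := by
      have hh : h'' (aeval z (MvPolynomial.map (algebraMap R K) (Pk k))) =
          algebraMap R Λq (t k) * algebraMap Λ Λq (μ k) := by
        rw [hPk, map_mul, aeval_C, hp, map_mul, AlgHom.commutes, hgh,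
          ← IsScalarTower.algebraMap_apply]
      rw [map_sub, EΛ _ (hdP k), hh, map_mul, map_mul, map_pow,
        ← IsScalarTower.algebraMap_apply]
      ring
    rw [IsLocalization.map_eq_zero_iff 𝔮.primeCompl] at h1
    obtain ⟨c, hc⟩ := h1
    exact ⟨c, c.2, hc⟩
  choose c2 hc2 hc2' using h6
  set lam0 : Λ := (∏ j, c1 j) * ∏ k, c2 k with hlam0
  have hlam0q : lam0 ∈ 𝔮.primeCompl :=
    Submonoid.mul_mem _ (Submonoid.prod_mem _ fun j _ => hc1 j)
      (Submonoid.prod_mem _ fun k _ => hc2 k)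
  have hk1 : ∀ j, lam0 * aeval g0 (homog d (F j)) = 0 := by
    intro j
    obtain ⟨e, he⟩ : c1 j ∣ lam0 :=
      Dvd.dvd.mul_right (Finset.dvd_prod_of_mem _ (Finset.mem_univ j)) _
    rw [he, mul_comm (c1 j), mul_assoc, hc1', mul_zero]
  have hk2 : ∀ k, lam0 * (algebraMap R Λ (t k) * ν ^ d * μ k - aeval g0 (homog d (Pk k))) = 0 := by
    intro k
    obtain ⟨e, he⟩ : c2 k ∣ lam0 :=
      Dvd.dvd.mul_left (Finset.dvd_prod_of_mem _ (Finset.mem_univ k)) _
    rw [he, mul_comm (c2 k), mul_assoc, hc2', mul_zero]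
  -- the evaluation
  let g1 : Option ι → Λ := fun o => lam0 * g0 o
  let ev : MvPolynomial (Fin nA ⊕ Option ι) R →ₐ[R] Λ := aeval (Sum.elim μ g1)
  have hevμ : ∀ q : MvPolynomial (Fin nA) R, ev (rename Sum.inl q) = φ (πA q) := by
    intro q
    have : (ev.comp (rename Sum.inl : MvPolynomial (Fin nA) R →ₐ[R] _)) = φ.comp πA := by
      apply MvPolynomial.algHom_ext
      intro k
      simp [ev, μ]
    exact congrArg (fun f : MvPolynomial (Fin nA) R →ₐ[R] Λ => f q) this
  have hevh : ∀ Q : MvPolynomial ι R, (∀ m ∈ Q.support, m.degree ≤ d) →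
      ev (rename Sum.inr (homog d Q)) = lam0 ^ d * aeval g0 (homog d Q) := by
    intro Q hQ
    show aeval (Sum.elim μ g1) (rename Sum.inr (homog d Q)) = _
    rw [aeval_rename, Sum.elim_comp_inr]
    exact aeval_homog_scale g0 lam0 d Q hQ
  let M : Submonoid (MvPolynomial (Fin nA ⊕ Option ι) R) := 𝔮.primeCompl.comap ev
  have hM : ∀ m, m ∈ M ↔ ev m ∉ 𝔮 := fun m => Iff.rfl
  have hMC : ∀ s ∈ S, C s ∈ M := by
    intro s hs
    rw [hM, ← MvPolynomial.algebraMap_eq, AlgHom.commutes]
    exact hs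
  have hMW : X (Sum.inr none) ∈ M := by
    rw [hM]
    show aeval (Sum.elim μ g1) (X (Sum.inr none)) ∉ 𝔮
    rw [aeval_X]
    show lam0 * ν ∉ 𝔮
    exact (𝔮.primeCompl.mul_mem hlam0q hν)
  obtain ⟨⟨b, m₀, hm₀, hb⟩, htail⟩ := loc_coreH S z f' cols0 hker hsurj hjac πA g'' F v hv hF p hp
    Pk t ht hPk d hdF hdP M hMC hMW
  have hπG : ∀ t' : Fin mA, πA (G t') = 0 := by
    intro t'
    have : G t' ∈ RingHom.ker πA.toRingHom := by
      rw [hG]
      exact Ideal.subset_span (Set.mem_range_self t')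
    exact this
  choose st hst hst' using fun t' : Fin mA => htail (G t') (hπG t')
  -- the algebra
  set ld := leadH d F Pk t with hld
  let tail : Fin mA → MvPolynomial (Fin nA ⊕ Option ι) R := fun t' => rename Sum.inl (G t')
  let rel : (σ ⊕ Fin nA) ⊕ Fin mA → MvPolynomial (Fin nA ⊕ Option ι) R := Sum.elim ld tail
  set I₀ : Ideal (MvPolynomial (Fin nA ⊕ Option ι) R) := Ideal.span (Set.range ld) with hI₀
  let I : Ideal (MvPolynomial (Fin nA ⊕ Option ι) R) := Ideal.span (Set.range rel)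
  have hI₀I : I₀ ≤ I := by
    apply Ideal.span_mono
    rintro _ ⟨a, rfl⟩
    exact ⟨Sum.inl a, rfl⟩
  have hrelI : ∀ ℓ, rel ℓ ∈ I := fun ℓ => Ideal.subset_span (Set.mem_range_self ℓ)
  have hevI : ∀ x ∈ I, ev x = 0 := by
    intro x hx
    have hle : I ≤ RingHom.ker ev.toRingHom := by
      rw [Ideal.span_le]
      rintro _ ⟨ℓ, rfl⟩
      show ev (rel ℓ) = 0
      rcases ℓ with (j | k) | t'
      · show ev (rename Sum.inr (homog d (F j))) = 0
        rw [hevh _ (hdF j), hpow, mul_assoc, hk1, mul_zero]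
      · show ev (C (t k) * X (Sum.inr none) ^ d * X (Sum.inl k) -
            rename Sum.inr (homog d (Pk k))) = 0
        rw [map_sub, hevh _ (hdP k), map_mul, map_mul, map_pow, ← MvPolynomial.algebraMap_eq,
          AlgHom.commutes]
        have e1 : ev (X (Sum.inl k)) = μ k := by simp [ev]
        have e2 : ev (X (Sum.inr none)) = lam0 * ν := by simp [ev, g1, g0]
        rw [e1, e2, mul_pow]
        have : algebraMap R Λ (t k) * (lam0 ^ d * ν ^ d) * μ k -
            lam0 ^ d * aeval g0 (homog d (Pk k)) =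
            lam0 ^ d' * (lam0 * (algebraMap R Λ (t k) * ν ^ d * μ k -
              aeval g0 (homog d (Pk k)))) := by
          rw [hpow lam0]
          ring
        rw [this, hk2, mul_zero]
      · show ev (rename Sum.inl (G t')) = 0
        rw [hevμ, hπG, map_zero]
    exact hle hx
  let β : (MvPolynomial (Fin nA ⊕ Option ι) R ⧸ I) →ₐ[R] Λ := Ideal.Quotient.liftₐ I ev hevI
  -- α
  let α₀ : MvPolynomial (Fin nA) R →ₐ[R] (MvPolynomial (Fin nA ⊕ Option ι) R ⧸ I) :=
    (Ideal.Quotient.mkₐ R I).comp (rename Sum.inl)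
  have hα₀ : RingHom.ker πA.toRingHom ≤ RingHom.ker α₀.toRingHom := by
    rw [hG, Ideal.span_le]
    rintro _ ⟨t', rfl⟩
    show Ideal.Quotient.mk I (rename Sum.inl (G t')) = 0
    rw [Ideal.Quotient.eq_zero_iff_mem]
    exact hrelI (Sum.inr t')
  let α : A →ₐ[R] (MvPolynomial (Fin nA ⊕ Option ι) R ⧸ I) := AlgHom.liftOfSurjective πA hπA α₀ hα₀
  have hfp : Algebra.FinitePresentation R (MvPolynomial (Fin nA ⊕ Option ι) R ⧸ I) := by
    apply Algebra.FinitePresentation.quotient
    exact Submodule.fg_span (Set.finite_range rel)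
  refine ⟨MvPolynomial (Fin nA ⊕ Option ι) R ⧸ I, inferInstance, inferInstance, hfp, α, β, ?_, ?_⟩
  · apply AlgHom.ext
    intro a
    obtain ⟨q, rfl⟩ := hπA a
    show β (α (πA q)) = φ (πA q)
    rw [AlgHom.liftOfSurjective_apply]
    show ev (rename Sum.inl q) = _
    exact hevμ q
  · set P : MvPolynomial (Fin nA ⊕ Option ι) R := ∏ t' : Fin mA, st t' with hP
    have hPM : P ∈ M := Submonoid.prod_mem M (fun t' _ => hst t')
    refine ⟨Ideal.Quotient.mk I (m₀ * P), ?_, ?_⟩
    swap
    · show ev (m₀ * P) ∉ 𝔮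
      exact (hM _).mp (M.mul_mem hm₀ hPM)
    let D : MvPolynomial (Fin nA ⊕ Option ι) R := Matrix.det (Matrix.of fun a b : σ ⊕ Fin nA =>
        pderiv (colsV (nA := nA) (cols0.trans ⟨some, Option.some_injective ι⟩) b) (ld a))
    have hbD : Ideal.Quotient.mk I (b * D) = Ideal.Quotient.mk I m₀ := by
      rw [← sub_eq_zero, ← map_sub, Ideal.Quotient.eq_zero_iff_mem]
      exact hI₀I hb
    refine exists_elementaryStandard_of_data_gen (V := Fin nA ⊕ Option ι)
      (κ := (σ ⊕ Fin nA) ⊕ Fin mA)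
      (γ := σ ⊕ Fin nA) rel (Ideal.Quotient.mkₐ R I) (Ideal.Quotient.mkₐ_surjective R I) ?_
      ⟨Sum.inl, Sum.inl_injective⟩
      (colsV (nA := nA) (cols0.trans ⟨some, Option.some_injective ι⟩)) _
      (Ideal.Quotient.mk I (b * P)) ?_ ?_
    · ext x
      rw [RingHom.mem_ker]
      show Ideal.Quotient.mk I x = 0 ↔ _
      rw [Ideal.Quotient.eq_zero_iff_mem]
    · show Ideal.Quotient.mk I (m₀ * P) = Ideal.Quotient.mk I (b * P) * Ideal.Quotient.mk I D
      rw [← map_mul, show b * P * D = P * (b * D) by ring, map_mul (Ideal.Quotient.mk I) P,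
        hbD, ← map_mul, mul_comm]
    · intro a₁ ha₁ ℓ
      have ha₁' : a₁ - m₀ * P ∈ I := by
        rw [← Ideal.Quotient.eq_zero_iff_mem, map_sub, sub_eq_zero]
        exact ha₁
      have hrange : Set.range (rel ∘ (⟨Sum.inl, Sum.inl_injective⟩ :
          σ ⊕ Fin nA ↪ (σ ⊕ Fin nA) ⊕ Fin mA)) = Set.range ld := by
        ext x
        constructor
        · rintro ⟨a, rfl⟩
          exact ⟨a, rfl⟩
        · rintro ⟨a, rfl⟩
          exact ⟨a, rfl⟩
      rw [hrange]
      rcases ℓ with a | t'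
      · apply Ideal.mem_sup_left
        apply Ideal.mul_mem_left
        exact Ideal.subset_span (Set.mem_range_self a)
      · have hrt : rel (Sum.inr t') = tail t' := rfl
        have hsplit : a₁ * rel (Sum.inr t') =
            (m₀ * P) * tail t' + (a₁ - m₀ * P) * tail t' := by
          rw [hrt, ← add_mul, add_sub_cancel]
        rw [hsplit]
        apply Ideal.add_mem
        · apply Ideal.mem_sup_left
          obtain ⟨c, hc⟩ : st t' ∣ P := Finset.dvd_prod_of_mem _ (Finset.mem_univ t')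
          have : (m₀ * P) * tail t' = (m₀ * c) * (st t' * rename Sum.inl (G t')) := by
            show (m₀ * P) * rename Sum.inl (G t') = _
            rw [hc]
            ring
          rw [this]
          exact Ideal.mul_mem_left _ _ (hst' t')
        · apply Ideal.mem_sup_right
          rw [pow_two]
          exact Ideal.mul_mem_mul ha₁' (hrelI (Sum.inr t'))

end Groth.Agent.Helper2.Deloc
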