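import Mathlib
import Groth.Prelude
import Groth.Agent.Helper2.SmLiftI
import Groth.Agent.Helper2.DelocB
import Groth.Agent.Helper2.DelocK
import Groth.Agent.Helper2.SingIdeal

set_option autoImplicit false

namespace Groth.Agent.Helper2.Deloc

open Function MvPolynomial Algebra TensorProduct

universe u

set_option maxHeartbeats 1600000 in
/-- the smooth case -/
theorem mainH_smooth {R A Λ Rₚ Λq B' : Type u} [CommRing R] [CommRing A]
    [Algebra R A] [Algebra.FinitePresentation R A] [CommRing Λ] [Algebra R Λ] (φ : A →ₐ[R] Λ)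
    (𝔮 : Ideal Λ) [𝔮.IsPrime]
    [CommRing Rₚ] [Algebra R Rₚ] [IsLocalization.AtPrime Rₚ (𝔮.comap (algebraMap R Λ))]
    [CommRing Λq] [Algebra Λ Λq] [IsLocalization.AtPrime Λq 𝔮] [Algebra R Λq] [IsScalarTower R Λ Λq]
    [Algebra Rₚ Λq] [IsScalarTower R Rₚ Λq]
    [CommRing B'] [Algebra Rₚ B'] [Algebra.Smooth Rₚ B']
    (g : Rₚ ⊗[R] A →ₐ[Rₚ] B') (h : B' →ₐ[Rₚ] Λq)
    (hgh : ∀ a : A, h (g ((1 : Rₚ) ⊗ₜ[R] a)) = algebraMap Λ Λq (φ a)) :
    ∃ (B : Type u) (_ : CommRing B) (_ : Algebra R B), Algebra.FinitePresentation R B ∧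
      ∃ (α : A →ₐ[R] B) (β : B →ₐ[R] Λ), β.comp α = φ ∧
        ∃ c : B, Smoothing.IsElementaryStandard R B c ∧ β c ∉ 𝔮 := by
  classical
  obtain ⟨B'', _, _, _, _, -, ⟨r⟩, hstd⟩ :=
    SmLift.exists_smooth_retract_isStandardSmooth Rₚ B'
  let g'' : Rₚ ⊗[R] A →ₐ[Rₚ] B'' := (IsScalarTower.toAlgHom Rₚ B' B'').comp g
  let h'' : B'' →ₐ[Rₚ] Λq := h.comp (r.restrictScalars Rₚ)
  have hgh'' : ∀ a : A, h'' (g'' ((1 : Rₚ) ⊗ₜ[R] a)) = algebraMap Λ Λq (φ a) := by
    intro a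
    rw [← hgh]
    show h (r (algebraMap B' B'' (g _))) = h (g _)
    rw [AlgHom.commutes]
    rfl
  obtain ⟨ι, σ, _, _, ⟨P⟩⟩ := hstd.out
  haveI : Fintype ι := Fintype.ofFinite ι
  haveI : Fintype σ := Fintype.ofFinite σ
  obtain ⟨f', hker, hsurj, hjac⟩ := scaled_data P (1 : Rₚ) isUnit_one
  set z : ι → B'' := fun i => algebraMap Rₚ B'' 1 * P.val i with hz
  clear_value z
  -- denominators
  have hsurjq : ∀ i, ∃ (l : Λ) (s : Λ), s ∈ 𝔮.primeCompl ∧
      h'' (z i) * algebraMap Λ Λq s = algebraMap Λ Λq l := by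
    intro i
    obtain ⟨⟨l, s⟩, hls⟩ := IsLocalization.surj 𝔮.primeCompl (h'' (z i))
    exact ⟨l, s, s.2, hls⟩
  choose l s hs hls using hsurjq
  let ν : Λ := ∏ i, s i
  have hν : ν ∈ 𝔮.primeCompl := Submonoid.prod_mem _ (fun i _ => hs i)
  let lam : ι → Λ := fun i => (∏ i' ∈ Finset.univ.erase i, s i') * l i
  have hlam : ∀ i, h'' (z i) * algebraMap Λ Λq ν = algebraMap Λ Λq (lam i) := by
    intro i
    have hu : ν = (∏ i' ∈ Finset.univ.erase i, s i') * s i :=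
      (Finset.prod_erase_mul _ _ (Finset.mem_univ i)).symm
    show h'' (z i) * algebraMap Λ Λq ν =
      algebraMap Λ Λq ((∏ i' ∈ Finset.univ.erase i, s i') * l i)
    rw [hu, map_mul (algebraMap Λ Λq), map_mul (algebraMap Λ Λq), ← hls]
    ring
  obtain ⟨nA, πA, hπA, hfg⟩ := Algebra.FinitePresentation.out (R := R) (A := A)
  obtain ⟨mA, G, hG⟩ := Submodule.fg_iff_exists_fin_generating_family.mp hfg
  exact coreH φ 𝔮 z f' ⟨P.map, P.map_inj⟩ hker hsurj hjac πA hπA G hG.symm g'' h'' hgh''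
    ν hν lam hlam

set_option maxHeartbeats 1600000 in
theorem mainH {R A Λ Rₚ Λq : Type u} [CommRing R] [CommRing A]
    [Algebra R A] [Algebra.FinitePresentation R A] [CommRing Λ] [Algebra R Λ] (φ : A →ₐ[R] Λ)
    (𝔮 : Ideal Λ) [𝔮.IsPrime]
    [CommRing Rₚ] [Algebra R Rₚ] [IsLocalization.AtPrime Rₚ (𝔮.comap (algebraMap R Λ))]
    [CommRing Λq] [Algebra Λ Λq] [IsLocalization.AtPrime Λq 𝔮] [Algebra R Λq] [IsScalarTower R Λ Λq]
    [Algebra Rₚ Λq] [IsScalarTower R Rₚ Λq]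
    (hres : Smoothing.Resolvable Rₚ
      (Algebra.TensorProduct.lift (Algebra.ofId Rₚ Λq) ((IsScalarTower.toAlgHom R Λ Λq).comp φ)
        (fun _ _ => Commute.all _ _) : Rₚ ⊗[R] A →ₐ[Rₚ] Λq) (𝔮.map (algebraMap Λ Λq))) :
    ∃ (C : Type u) (_ : CommRing C) (_ : Algebra R C), Algebra.FinitePresentation R C ∧
      ∃ (g : A →ₐ[R] C) (h : C →ₐ[R] Λ), h.comp g = φ ∧
        ¬ (Smoothing.singularIdeal R C).map h ≤ 𝔮 := by
  classical
  obtain ⟨B', _, _, hfp, g, h, hgh, -, hnot⟩ := hres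
  haveI : IsLocalRing Λq := IsLocalization.AtPrime.isLocalRing Λq 𝔮
  have hmax : 𝔮.map (algebraMap Λ Λq) = IsLocalRing.maximalIdeal Λq :=
    IsLocalization.AtPrime.map_eq_maximalIdeal 𝔮 Λq
  rw [hmax] at hnot
  -- an element of the singular ideal mapping to a unit
  obtain ⟨b', hb', hb'u⟩ : ∃ b' ∈ Smoothing.singularIdeal Rₚ B', IsUnit (h b') := by
    by_contra hcon
    push_neg at hcon
    apply hnot
    unfold Smoothing.singRad
    rw [Ideal.IsPrime.radical_le_iff (IsLocalRing.maximalIdeal.isMaximal Λq).isPrime,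
      Ideal.map_le_iff_le_comap]
    intro b hb
    rw [Ideal.mem_comap]
    exact (IsLocalRing.mem_maximalIdeal _).mpr (hcon b hb)
  haveI : Algebra.Smooth Rₚ (Localization.Away b') := by
    rw [← Algebra.basicOpen_subset_smoothLocus_iff_smooth]
    intro x hx
    by_contra hxs
    have h1 : b' ∈ x.asIdeal := by
      unfold Smoothing.singularIdeal at hb'
      rw [PrimeSpectrum.mem_vanishingIdeal] at hb'
      exact hb' x hxs
    exact hx h1
  let h₁ : Localization.Away b' →ₐ[Rₚ] Λq :=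
    IsLocalization.liftAlgHom (M := Submonoid.powers b') (f := h) (by
      rintro ⟨y, n, rfl⟩
      show IsUnit (h (b' ^ n))
      rw [map_pow]
      exact hb'u.pow n)
  let g₁ : Rₚ ⊗[R] A →ₐ[Rₚ] Localization.Away b' :=
    (IsScalarTower.toAlgHom Rₚ B' (Localization.Away b')).comp g
  have hgh₁ : ∀ a : A, h₁ (g₁ ((1 : Rₚ) ⊗ₜ[R] a)) = algebraMap Λ Λq (φ a) := by
    intro a
    show IsLocalization.lift _ (algebraMap B' (Localization.Away b') (g _)) = _
    rw [IsLocalization.lift_eq]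
    show h (g _) = _
    have := congrArg (fun k : Rₚ ⊗[R] A →ₐ[Rₚ] Λq => k ((1 : Rₚ) ⊗ₜ[R] a)) hgh
    simp only [AlgHom.comp_apply] at this
    rw [this, Algebra.TensorProduct.lift_tmul, map_one, one_mul]
    rfl
  obtain ⟨B, _, _, hBfp, α, β, hαβ, c, hc, hcq⟩ := mainH_smooth φ 𝔮 g₁ h₁ hgh₁
  refine ⟨B, inferInstance, inferInstance, hBfp, α, β, hαβ, ?_⟩
  intro hle
  apply hcq
  apply hle
  apply Ideal.mem_map_of_mem
  rw [(SingIdeal.s2026 (R := R) (A := B)).2]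
  exact Ideal.le_radical (Ideal.subset_span hc)

end Groth.Agent.Helper2.Deloc
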