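import Mathlib
import Groth.Prelude

namespace Groth.Agent.Helper2.DenseFT

universe u

theorem s8834 (A : Type u) [CommRing A] (B : Type u) [CommRing B] [Algebra A B]
    [IsNoetherianRing B] (J : Ideal B)
    (hft : Algebra.FiniteType A (B ⧸ J.radical)) :
    ∃ s : ℕ, ∃ b : Fin s → B, ∀ (y : B) (n : ℕ), ∃ p : MvPolynomial (Fin s) A,
      y - MvPolynomial.aeval b p ∈ J ^ n := by
  classical
  obtain ⟨n₁, f, hf⟩ := Algebra.FiniteType.iff_quotient_mvPolynomial''.mp hft
  choose b hb using fun i => Ideal.Quotient.mk_surjective (f (MvPolynomial.X i))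
  have hfg : J.radical.FG := (isNoetherianRing_iff_ideal_fg B).mp inferInstance J.radical
  obtain ⟨n₂, c, hc⟩ := Submodule.fg_iff_exists_fin_generating_family.mp hfg
  let g : Fin (n₁ + n₂) → B := Sum.elim b c ∘ finSumFinEquiv.symm
  let S : Subalgebra A B := Algebra.adjoin A (Set.range g)
  have hbS : ∀ i, b i ∈ S := fun i =>
    Algebra.subset_adjoin ⟨finSumFinEquiv (Sum.inl i), by simp [g]⟩
  have hcS : ∀ j, c j ∈ S := fun j =>
    Algebra.subset_adjoin ⟨finSumFinEquiv (Sum.inr j), by simp [g]⟩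
  have hbS' : ∀ p : MvPolynomial (Fin n₁) A, MvPolynomial.aeval b p ∈ S := by
    intro p
    have : MvPolynomial.aeval b p ∈ Algebra.adjoin A (Set.range b) := by
      rw [Algebra.adjoin_range_eq_range_aeval]
      exact ⟨p, rfl⟩
    exact Algebra.adjoin_le (by rintro _ ⟨i, rfl⟩; exact hbS i) this
  -- first approximation modulo the radical
  have h0 : ∀ y : B, ∃ p : MvPolynomial (Fin n₁) A, y - MvPolynomial.aeval b p ∈ J.radical := by
    intro y
    obtain ⟨p, hp⟩ := hf (Ideal.Quotient.mk _ y)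
    refine ⟨p, ?_⟩
    rw [← Ideal.Quotient.eq, ← hp]
    have h1 : (Ideal.Quotient.mkₐ A J.radical).comp (MvPolynomial.aeval b) = f := by
      refine MvPolynomial.algHom_ext fun i => ?_
      simp [hb i]
    rw [← h1]
    rfl
  have key : ∀ n (y : B), ∃ z ∈ S, y - z ∈ J.radical ^ n := by
    intro n
    induction n with
    | zero => intro y; exact ⟨0, S.zero_mem, by simp⟩
    | succ n ih =>
      intro y
      obtain ⟨p, hp⟩ := h0 y
      rw [← hc] at hp
      obtain ⟨t, ht⟩ := (Submodule.mem_span_range_iff_exists_fun B).mp hp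
      choose z hzS hz using fun j => ih (t j)
      refine ⟨MvPolynomial.aeval b p + ∑ j, z j * c j, ?_, ?_⟩
      · exact S.add_mem (hbS' p) (S.sum_mem fun j _ => S.mul_mem (hzS j) (hcS j))
      · have : y - (MvPolynomial.aeval b p + ∑ j, z j * c j) = ∑ j, (t j - z j) * c j := by
          rw [← sub_sub, ← ht]
          simp only [smul_eq_mul, sub_mul, Finset.sum_sub_distrib]
        rw [this, pow_succ]
        refine Ideal.sum_mem _ fun j _ => Ideal.mul_mem_mul (hz j) ?_
        rw [← hc]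
        exact Submodule.subset_span ⟨j, rfl⟩
  obtain ⟨N, hN⟩ := Ideal.exists_radical_pow_le_of_fg J hfg
  refine ⟨n₁ + n₂, g, fun y n => ?_⟩
  obtain ⟨z, hzS, hz⟩ := key (N * n) y
  have hzS' : z ∈ (MvPolynomial.aeval g : MvPolynomial (Fin (n₁ + n₂)) A →ₐ[A] B).range := by
    rw [← Algebra.adjoin_range_eq_range_aeval]
    exact hzS
  obtain ⟨p, rfl⟩ := hzS'
  refine ⟨p, ?_⟩
  rw [pow_mul] at hz
  exact Ideal.pow_right_mono hN n hz

end Groth.Agent.Helper2.DenseFT
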