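import Mathlib
import Groth.Prelude.Def_Grpd

set_option autoImplicit false
universe u
open CategoryTheory CategoryTheory.Limits AlgebraicGeometry MonoidalCategory CartesianMonoidalCategory
  MonObj GrpObj
open Grpd

namespace Groth.Agent.Helper2.GrpBridge

variable {S : Scheme.{u}} (G : Over S) [GrpObj G]

lemma key {T' : Over S} (a b : T' ⟶ G) (h : a.left ≫ G.hom = b.left ≫ G.hom) :
    pullback.lift a.left b.left h ≫ (μ[G] : G ⊗ G ⟶ G).left = (a * b).left := by
  rw [Hom.mul_def, Over.comp_left, Over.lift_left]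

lemma one_left (T' : Over S) : (1 : T' ⟶ G).left = T'.hom ≫ (η[G] : 𝟙_ (Over S) ⟶ G).left := by
  rw [Hom.one_def, Over.comp_left, Over.toUnit_left]

lemma inv_left {T' : Over S} (a : T' ⟶ G) : (a⁻¹).left = a.left ≫ (ι[G] : G ⟶ G).left := by
  rw [Hom.inv_def, Over.comp_left]

/-- point as morphism in `Over S` -/
abbrev pt {T : Scheme.{u}} (α β : T ⟶ G.left) (h : α ≫ G.hom = β ≫ G.hom) :
    Over.mk (α ≫ G.hom) ⟶ G := Over.homMk β h.symm

omit [GrpObj G] in
lemma lift_congr {T : Scheme.{u}} {α α' β β' : T ⟶ G.left} (h : α ≫ G.hom = β ≫ G.hom)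
    (h' : α' ≫ G.hom = β' ≫ G.hom) (hα : α = α') (hβ : β = β') :
    pullback.lift α β h = pullback.lift α' β' h' := by
  subst hα hβ; rfl

/-- the groupoid scheme `(S, G, G.hom, G.hom, μ)` attached to a group scheme over `S` -/
noncomputable def toGrpd : Grpd.GroupoidScheme S where
  U := S
  R := G.left
  pU := 𝟙 S
  pR := G.hom
  s := G.hom
  t := G.hom
  e := (η[G] : 𝟙_ (Over S) ⟶ G).left
  i := (ι[G] : G ⟶ G).left
  c := (μ[G] : G ⊗ G ⟶ G).left
  s_over := Category.comp_id _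
  t_over := Category.comp_id _
  comp_s := by
    intro T α β h
    have := key G (pt G α α rfl) (pt G α β h) h
    change pullback.lift α β h ≫ _ = _ at this
    rw [this, Over.w]
    exact h
  comp_t := by
    intro T α β h
    have := key G (pt G α α rfl) (pt G α β h) h
    change pullback.lift α β h ≫ _ = _ at this
    rw [this, Over.w]
    rfl
  assoc := by
    intro T α β δ h₁ h₂
    have hδ : α ≫ G.hom = δ ≫ G.hom := h₁.trans h₂
    have k1 : pullback.lift α β h₁ ≫ (μ[G] : G ⊗ G ⟶ G).left =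
        (pt G α α rfl * pt G α β h₁).left := key G (pt G α α rfl) (pt G α β h₁) h₁
    have k2 : pullback.lift β δ h₂ ≫ (μ[G] : G ⊗ G ⟶ G).left =
        (pt G α β h₁ * pt G α δ hδ).left := key G (pt G α β h₁) (pt G α δ hδ) h₂
    have k3 := key G (pt G α α rfl * pt G α β h₁) (pt G α δ hδ) (by rw [Over.w, Over.w])
    have k4 := key G (pt G α α rfl) (pt G α β h₁ * pt G α δ hδ) (by rw [Over.w, Over.w])
    rw [_root_.mul_assoc] at k3
    rw [lift_congr G _ (by rw [Over.w]; exact hδ) k1 (rfl : δ = (pt G α δ hδ).left)]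
    rw [lift_congr G _ (by rw [Over.w]; rfl) (rfl : α = (pt G α α rfl).left) k2]
    exact k3.trans k4.symm
  e_s := by
    have := Over.w (η[G] : 𝟙_ (Over S) ⟶ G)
    simp
  e_t := by
    have := Over.w (η[G] : 𝟙_ (Over S) ⟶ G)
    simp
  comp_e := by
    intro T α
    have k := key G (pt G α α rfl) (1 : Over.mk (α ≫ G.hom) ⟶ G) (by rw [Over.w, Over.w])
    rw [_root_.mul_one] at k
    refine Eq.trans ?_ k
    congr 1
  e_comp := by
    intro T α
    have k := key G (1 : Over.mk (α ≫ G.hom) ⟶ G) (pt G α α rfl) (by rw [Over.w, Over.w])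
    rw [_root_.one_mul] at k
    refine Eq.trans ?_ k
    congr 1
  i_s := Over.w (ι[G] : G ⟶ G)
  i_t := Over.w (ι[G] : G ⟶ G)
  comp_i := by
    intro T α
    have k := key G (pt G α α rfl) (pt G α α rfl)⁻¹ (by rw [Over.w, Over.w])
    rw [mul_inv_cancel, one_left] at k
    refine Eq.trans ?_ (k.trans ?_)
    · congr 1
    · simp
  i_comp := by
    intro T α
    have k := key G (pt G α α rfl)⁻¹ (pt G α α rfl) (by rw [Over.w, Over.w])
    rw [inv_mul_cancel, one_left] at k
    refine Eq.trans ?_ (k.trans ?_)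
    · congr 1
    · simp


/-- a homomorphism of group schemes gives a morphism of the attached groupoid schemes -/
noncomputable def toHom {H G : Over S} [GrpObj H] [GrpObj G] (ψ : H ⟶ G) [IsMonHom ψ] :
    Grpd.GroupoidScheme.Hom (toGrpd H) (toGrpd G) where
  fU := 𝟙 S
  fR := ψ.left
  fU_over := Category.comp_id _
  comm_s := by
    change ψ.left ≫ G.hom = H.hom ≫ 𝟙 S
    rw [Over.w, Category.comp_id]
  comm_t := by
    change ψ.left ≫ G.hom = H.hom ≫ 𝟙 S
    rw [Over.w, Category.comp_id]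
  comm_c := by
    intro T α β h
    change (pullback.lift α β h ≫ (μ[H] : H ⊗ H ⟶ H).left) ≫ ψ.left =
      pullback.lift (α ≫ ψ.left) (β ≫ ψ.left) _ ≫ (μ[G] : G ⊗ G ⟶ G).left
    have k1 := key H (pt H α α rfl) (pt H α β h) h
    have k2 := key G (pt H α α rfl ≫ ψ) (pt H α β h ≫ ψ) (by rw [Over.w, Over.w])
    have k3 : (pt H α α rfl * pt H α β h) ≫ ψ = (pt H α α rfl ≫ ψ) * (pt H α β h ≫ ψ) :=
      map_mul (IsMonHom.monoidHom ψ _) _ _
    calc (pullback.lift α β h ≫ (μ[H] : H ⊗ H ⟶ H).left) ≫ ψ.left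
        = (pt H α α rfl * pt H α β h).left ≫ ψ.left := congrArg (· ≫ ψ.left) k1
      _ = ((pt H α α rfl ≫ ψ) * (pt H α β h ≫ ψ)).left := by rw [← k3, Over.comp_left]
      _ = _ := k2.symm

instance {H G : Over S} [GrpObj H] [GrpObj G] (ψ : H ⟶ G) [IsMonHom ψ] : IsIso (toHom ψ).fU :=
  inferInstanceAs (IsIso (𝟙 S))

end Groth.Agent.Helper2.GrpBridge
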