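import Mathlib

set_option autoImplicit false
universe u
open CategoryTheory CategoryTheory.Limits AlgebraicGeometry

namespace Groth.Agent.Helper2.Grpd20

/-- a point with no proper generization -/
def IsMaxPt {X : Type*} [TopologicalSpace X] (y : X) : Prop := ∀ z, z ⤳ y → z = y

/-- a point has at most one maximal generization -/
def OneGen {X : Type*} [TopologicalSpace X] (x : X) : Prop :=
  ∀ y₁ y₂ : X, IsMaxPt y₁ → IsMaxPt y₂ → y₁ ⤳ x → y₂ ⤳ x → y₁ = y₂

lemma oneGen_homeomorph {X Y : Type*} [TopologicalSpace X] [TopologicalSpace Y] (τ : X ≃ₜ Y)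
    (x : X) (h : OneGen x) : OneGen (τ x) := by
  have hmax : ∀ y : Y, IsMaxPt y → IsMaxPt (τ.symm y) := by
    intro y hy z hz
    have := hy (τ z) (by simpa using hz.map τ.continuous)
    rw [← this]; simp
  intro y₁ y₂ h₁ h₂ s₁ s₂
  have := h (τ.symm y₁) (τ.symm y₂) (hmax _ h₁) (hmax _ h₂)
    (by simpa using s₁.map τ.symm.continuous) (by simpa using s₂.map τ.symm.continuous)
  exact τ.symm.injective this

variable {X Y : Scheme.{u}} (f : X ⟶ Y)

lemma isMaxPt_map (hg : GeneralizingMap f) {y' : X} (hy' : IsMaxPt y') : IsMaxPt (f y') := by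
  intro z hz
  obtain ⟨z', hz', rfl⟩ := hg hz
  rw [hy' z' hz']

lemma exists_lift [GeometricallyIrreducible f] (hf : IsOpenMap f) {y : Y} (hy : IsMaxPt y)
    {w : X} (hyw : y ⤳ f w) :
    ∃ y' : X, IsMaxPt y' ∧ f y' = y ∧ y' ⤳ w ∧ ∀ y'' : X, f y'' = y → y' ⤳ y'' := by
  have hirr : IsIrreducible (f ⁻¹' (closure {y})) :=
    f.isIrreducible_preimage hf isIrreducible_singleton.closure
  have hcl : IsClosed (f ⁻¹' (closure {y})) := isClosed_closure.preimage f.continuous
  set y' := hirr.genericPoint with hy'def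
  have hgen : IsGenericPoint y' (f ⁻¹' (closure {y})) := by
    have := hirr.isGenericPoint_genericPoint_closure
    rwa [hcl.closure_eq] at this
  have hmem : y' ∈ f ⁻¹' (closure {y}) := hgen.mem
  have hy1 : y ⤳ f y' := specializes_iff_mem_closure.mpr hmem
  -- `y` is in the image of the preimage
  obtain ⟨x0, hx0⟩ := f.surjective y
  have hx0mem : x0 ∈ f ⁻¹' (closure {y}) := by
    change f x0 ∈ closure {y}; rw [hx0]; exact subset_closure rfl
  have hy2 : f y' ⤳ y := by
    have : y' ⤳ x0 := hgen.specializes hx0mem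
    have := this.map f.continuous
    rwa [hx0] at this
  have hfy' : f y' = y := (hy2.antisymm hy1).eq
  refine ⟨y', ?_, hfy', ?_, ?_⟩
  · intro z hz
    have h1 : f z ⤳ y := by rw [← hfy']; exact hz.map f.continuous
    have h2 : f z = y := hy _ h1
    have h3 : z ∈ f ⁻¹' (closure {y}) := by
      change f z ∈ closure {y}; rw [h2]; exact subset_closure rfl
    exact ((hgen.specializes h3).antisymm hz).eq.symm
  · exact hgen.specializes (specializes_iff_mem_closure.mp hyw)
  · intro y'' hy''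
    apply hgen.specializes
    change f y'' ∈ closure {y}; rw [hy'']; exact subset_closure rfl

theorem oneGen_iff [GeometricallyIrreducible f] (hf : IsOpenMap f) (hg : GeneralizingMap f) (w : X) :
    OneGen w ↔ OneGen (f w) := by
  constructor
  · intro h y₁ y₂ h₁ h₂ s₁ s₂
    obtain ⟨y₁', m₁, e₁, t₁, -⟩ := exists_lift f hf h₁ s₁
    obtain ⟨y₂', m₂, e₂, t₂, -⟩ := exists_lift f hf h₂ s₂
    rw [← e₁, ← e₂, h y₁' y₂' m₁ m₂ t₁ t₂]
  · intro h y₁' y₂' m₁ m₂ t₁ t₂
    have e := h (f y₁') (f y₂') (isMaxPt_map f hg m₁) (isMaxPt_map f hg m₂)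
      (t₁.map f.continuous) (t₂.map f.continuous)
    obtain ⟨y', m, e', -, huniv⟩ := exists_lift f hf (isMaxPt_map f hg m₁)
      (show f y₁' ⤳ f y₁' from specializes_rfl)
    have a1 : y' = y₁' := (m₁ y' (huniv y₁' rfl))
    have a2 : y' = y₂' := (m₂ y' (huniv y₂' e.symm))
    rw [← a1, ← a2]

end Groth.Agent.Helper2.Grpd20
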