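import Mathlib
import Groth.Prelude.Def_Grpd
import Groth.Agent.Helper2.Grpd2
import Groth.Agent.Helper2.Grpd3

set_option autoImplicit false
universe u
open CategoryTheory CategoryTheory.Limits AlgebraicGeometry
open Grpd Groth.Agent.Helper2.Grpd2 Groth.Agent.Helper2.Grpd3

namespace Groth.Agent.Helper2.Grpd5

variable {S : Scheme.{u}} (G : Grpd.GroupoidScheme S) {Z : Scheme.{u}} (a : Z ⟶ G.R)

lemma hΦ : (pullback.fst (a ≫ G.s) G.t ≫ a) ≫ G.s = pullback.snd (a ≫ G.s) G.t ≫ G.t := by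
  rw [Category.assoc]; exact pullback.condition

/-- left translation `(z, r) ↦ (z, a(z) r)` -/
noncomputable def Φ : pullback (a ≫ G.s) G.t ⟶ pullback (a ≫ G.t) G.t :=
  pullback.lift (pullback.fst (a ≫ G.s) G.t)
    (mul G (pullback.fst (a ≫ G.s) G.t ≫ a) (pullback.snd (a ≫ G.s) G.t) (hΦ G a))
    (by rw [mul_t, Category.assoc])

lemma hΨ : ((pullback.fst (a ≫ G.t) G.t ≫ a) ≫ G.i) ≫ G.s = pullback.snd (a ≫ G.t) G.t ≫ G.t := by
  rw [i_s', Category.assoc]; exact pullback.condition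

/-- inverse translation `(z, r) ↦ (z, a(z)⁻¹ r)` -/
noncomputable def Ψ : pullback (a ≫ G.t) G.t ⟶ pullback (a ≫ G.s) G.t :=
  pullback.lift (pullback.fst (a ≫ G.t) G.t)
    (mul G ((pullback.fst (a ≫ G.t) G.t ≫ a) ≫ G.i) (pullback.snd (a ≫ G.t) G.t) (hΨ G a))
    (by rw [mul_t, i_t', Category.assoc])

lemma Φ_fst : Φ G a ≫ pullback.fst (a ≫ G.t) G.t = pullback.fst (a ≫ G.s) G.t :=
  pullback.lift_fst _ _ _

lemma Φ_snd : Φ G a ≫ pullback.snd (a ≫ G.t) G.t =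
    mul G (pullback.fst (a ≫ G.s) G.t ≫ a) (pullback.snd (a ≫ G.s) G.t) (hΦ G a) :=
  pullback.lift_snd _ _ _

lemma Ψ_fst : Ψ G a ≫ pullback.fst (a ≫ G.s) G.t = pullback.fst (a ≫ G.t) G.t :=
  pullback.lift_fst _ _ _

lemma Ψ_snd : Ψ G a ≫ pullback.snd (a ≫ G.s) G.t =
    mul G ((pullback.fst (a ≫ G.t) G.t ≫ a) ≫ G.i) (pullback.snd (a ≫ G.t) G.t) (hΨ G a) :=
  pullback.lift_snd _ _ _

lemma Φ_Ψ : Φ G a ≫ Ψ G a = 𝟙 _ := by
  apply pullback.hom_ext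
  · rw [Category.assoc, Ψ_fst, Φ_fst, Category.id_comp]
  · rw [Category.assoc, Ψ_snd, Category.id_comp]
    have h1 : (Φ G a ≫ (pullback.fst (a ≫ G.t) G.t ≫ a) ≫ G.i) ≫ G.s =
        (Φ G a ≫ pullback.snd (a ≫ G.t) G.t) ≫ G.t := by
      rw [Category.assoc, hΨ, Category.assoc]
    rw [comp_mul G _ _ _ (hΨ G a) h1]
    have h2 : ((pullback.fst (a ≫ G.s) G.t ≫ a) ≫ G.i) ≫ G.s =
        mul G (pullback.fst (a ≫ G.s) G.t ≫ a) (pullback.snd (a ≫ G.s) G.t) (hΦ G a) ≫ G.t := by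
      rw [mul_t, i_s']
    rw [mul_congr G h1 h2 (by rw [← Category.assoc, ← Category.assoc, Φ_fst]) (Φ_snd G a)]
    exact i_mul_mul G _ _ (hΦ G a) h2

lemma Ψ_Φ : Ψ G a ≫ Φ G a = 𝟙 _ := by
  apply pullback.hom_ext
  · rw [Category.assoc, Φ_fst, Ψ_fst, Category.id_comp]
  · rw [Category.assoc, Φ_snd, Category.id_comp]
    have h1 : (Ψ G a ≫ pullback.fst (a ≫ G.s) G.t ≫ a) ≫ G.s =
        (Ψ G a ≫ pullback.snd (a ≫ G.s) G.t) ≫ G.t := by
      rw [Category.assoc, hΦ, Category.assoc]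
    rw [comp_mul G _ _ _ (hΦ G a) h1]
    have h2 : (pullback.fst (a ≫ G.t) G.t ≫ a) ≫ G.s =
        mul G ((pullback.fst (a ≫ G.t) G.t ≫ a) ≫ G.i) (pullback.snd (a ≫ G.t) G.t) (hΨ G a) ≫ G.t := by
      rw [mul_t, i_t']
    rw [mul_congr G h1 h2 (by rw [← Category.assoc, Ψ_fst]) (Ψ_snd G a)]
    exact mul_i_mul G _ _ (hΨ G a) h2

instance : IsIso (Φ G a) := ⟨Ψ G a, Φ_Ψ G a, Ψ_Φ G a⟩

theorem isOpen_range_translate (hU : IsIntegral G.U) (hU' : Subsingleton G.U) (W : G.R.Opens) :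
    IsOpen (Set.range ⇑(pullback.lift (pullback.fst (a ≫ G.s) (W.ι ≫ G.t) ≫ a) (pullback.snd (a ≫ G.s) (W.ι ≫ G.t) ≫ W.ι) ((Category.assoc _ _ _).trans (pullback.condition.trans (Category.assoc _ _ _).symm)) ≫ G.c)) := by
  let ι' : pullback (a ≫ G.s) (W.ι ≫ G.t) ⟶ pullback (a ≫ G.s) G.t :=
    pullback.map (a ≫ G.s) (W.ι ≫ G.t) (a ≫ G.s) G.t (𝟙 Z) W.ι (𝟙 G.U)
      (by rw [Category.comp_id, Category.id_comp]) (by rw [Category.comp_id])
  have hι' : IsOpenImmersion ι' := inferInstance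
  have hfac : pullback.lift (pullback.fst (a ≫ G.s) (W.ι ≫ G.t) ≫ a) (pullback.snd (a ≫ G.s) (W.ι ≫ G.t) ≫ W.ι) ((Category.assoc _ _ _).trans (pullback.condition.trans (Category.assoc _ _ _).symm)) ≫ G.c
      = ι' ≫ Φ G a ≫ pullback.snd (a ≫ G.t) G.t := by
    rw [Φ_snd]
    have h1 : (ι' ≫ pullback.fst (a ≫ G.s) G.t ≫ a) ≫ G.s = (ι' ≫ pullback.snd (a ≫ G.s) G.t) ≫ G.t := by
      rw [Category.assoc, hΦ, Category.assoc]
    rw [comp_mul G _ _ _ (hΦ G a) h1]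
    unfold mul
    congr 1
    apply pullback.hom_ext
    · rw [pullback.lift_fst, pullback.lift_fst, ← Category.assoc, pullback.lift_fst, Category.comp_id]
    · rw [pullback.lift_snd, pullback.lift_snd, pullback.lift_snd]
  rw [hfac]
  have ho : UniversallyOpen (a ≫ G.t) := inferInstance
  have ho' : UniversallyOpen (pullback.snd (a ≫ G.t) G.t) := inferInstance
  have h3 : IsOpenMap ⇑(ι' ≫ Φ G a ≫ pullback.snd (a ≫ G.t) G.t) := by
    have : UniversallyOpen (ι' ≫ Φ G a ≫ pullback.snd (a ≫ G.t) G.t) := inferInstance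
    exact Scheme.Hom.isOpenMap _
  exact h3.isOpen_range

end Groth.Agent.Helper2.Grpd5
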