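import Mathlib
import Groth.Prelude.Def_Grpd
import Groth.Agent.Helper2.Grpd2
import Groth.Agent.Helper2.Grpd3
import Groth.Agent.Helper2.Grpd5
import Groth.Agent.Helper2.Grpd20
import Groth.Agent.Lead.AlgClosedGeom

set_option autoImplicit false
universe u
open CategoryTheory CategoryTheory.Limits AlgebraicGeometry
open Grpd Groth.Agent.Helper2.Grpd2 Groth.Agent.Helper2.Grpd5 Groth.Agent.Helper2.Grpd20

namespace Groth.Agent.Helper2.Grpd21

/-- every point of a scheme has a maximal generization -/
lemma exists_isMaxPt {X : Scheme.{u}} (x : X) : ∃ y : X, IsMaxPt y ∧ y ⤳ x := by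
  have hirr : IsIrreducible (irreducibleComponent x) := isIrreducible_irreducibleComponent
  have hcl : IsClosed (irreducibleComponent x) := isClosed_irreducibleComponent
  have hgen : IsGenericPoint hirr.genericPoint (irreducibleComponent x) := by
    have := hirr.isGenericPoint_genericPoint_closure
    rwa [hcl.closure_eq] at this
  refine ⟨hirr.genericPoint, ?_, hgen.specializes mem_irreducibleComponent⟩
  intro z hz
  have h1 : irreducibleComponent x ⊆ closure {z} := by
    rw [← hgen.def]
    exact closure_minimal (Set.singleton_subset_iff.mpr (specializes_iff_mem_closure.mp hz))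
      isClosed_closure
  have h2 : IsIrreducible (closure ({z} : Set X)) := isIrreducible_singleton.closure
  have h3 : closure ({z} : Set X) = irreducibleComponent x := by
    have hmax := irreducibleComponent_mem_irreducibleComponents x
    exact (hmax.2 h2 h1).antisymm h1
  have h4 : IsGenericPoint z (irreducibleComponent x) := h3
  exact h4.eq hgen

lemma oneGen_of_isMaxPt {X : Type*} [TopologicalSpace X] {y : X} (hy : IsMaxPt y) : OneGen y := by
  intro y₁ y₂ _ _ s₁ s₂
  rw [hy _ s₁, hy _ s₂]

/-- a morphism from the spectrum of a field to a scheme isomorphic to the spectrum of an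
algebraically closed field is geometrically irreducible -/
lemma geometricallyIrreducible_of_field {U : Scheme.{u}} (k : Type u) [Field k] [IsAlgClosed k]
    (eU : U ≅ Spec (CommRingCat.of k)) (F : Type u) [Field F]
    (b : Spec (CommRingCat.of F) ⟶ U) : GeometricallyIrreducible b := by
  obtain ⟨φ, hφ⟩ := Spec.map_surjective (b ≫ eU.hom)
  letI : Algebra k F := φ.hom.toAlgebra
  have h1 : GeometricallyIrreducible (Spec.map (CommRingCat.ofHom (algebraMap k F))) :=
    Groth.Agent.Lead.AlgClosedGeom.geometricallyIrreducible_SpecMap k F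
  have h2 : b = Spec.map (CommRingCat.ofHom (algebraMap k F)) ≫ eU.inv := by
    rw [← cancel_mono eU.hom, Category.assoc, Iso.inv_hom_id, Category.comp_id, ← hφ]
    rfl
  rw [h2]
  exact (MorphismProperty.cancel_right_of_respectsIso @GeometricallyIrreducible _ eU.inv).mpr h1

variable {S : Scheme.{u}} (G : Grpd.GroupoidScheme S)

/-- transport of `OneGen` from the unit point to an arbitrary point -/
theorem oneGen_iff_unit (k : Type u) [Field k] [IsAlgClosed k]
    (eU : G.U ≅ Spec (CommRingCat.of k)) (r : G.R) :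
    OneGen r ↔ OneGen (G.e (G.s r)) := by
  obtain ⟨hU, hU'⟩ := Grpd3.isIntegral_subsingleton_of_iso k eU
  let F : Type u := G.R.residueField r
  let a : Spec (CommRingCat.of F) ⟶ G.R := G.R.fromSpecResidueField r
  let pt : ↥(Spec (CommRingCat.of F)) := IsLocalRing.closedPoint F
  have hapt : a pt = r := G.R.fromSpecResidueField_apply r pt
  haveI h1 : GeometricallyIrreducible (a ≫ G.s) := geometricallyIrreducible_of_field k eU F _
  haveI h2 : GeometricallyIrreducible (a ≫ G.t) := geometricallyIrreducible_of_field k eU F _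
  -- the two points
  let σe : Spec (CommRingCat.of F) ⟶ pullback (a ≫ G.s) G.t :=
    pullback.lift (𝟙 _) (a ≫ G.s ≫ G.e) (by
      rw [Category.id_comp, Category.assoc, Category.assoc, G.e_t, Category.comp_id])
  let σa : Spec (CommRingCat.of F) ⟶ pullback (a ≫ G.t) G.t :=
    pullback.lift (𝟙 _) a (by rw [Category.id_comp])
  have hσ : σe ≫ Φ G a = σa := by
    apply pullback.hom_ext
    · rw [Category.assoc, Φ_fst, pullback.lift_fst, pullback.lift_fst]
    · rw [Category.assoc, Φ_snd, pullback.lift_snd]
      have h0 : (σe ≫ pullback.fst (a ≫ G.s) G.t ≫ a) ≫ G.s =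
          (σe ≫ pullback.snd (a ≫ G.s) G.t) ≫ G.t := by
        rw [Category.assoc, hΦ, Category.assoc]
      rw [comp_mul G _ _ _ (hΦ G a) h0]
      have h3 : a ≫ G.s = (a ≫ G.s ≫ G.e) ≫ G.t := by
        rw [Category.assoc, Category.assoc, G.e_t, Category.comp_id]
      rw [mul_congr G h0 h3 (by rw [← Category.assoc, pullback.lift_fst, Category.id_comp])
        (pullback.lift_snd _ _ _)]
      exact mul_e G a h3
  have e1 : pullback.snd (a ≫ G.t) G.t (σa pt) = r := by
    rw [← Scheme.Hom.comp_apply, pullback.lift_snd, hapt]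
  have e2 : pullback.snd (a ≫ G.s) G.t (σe pt) = G.e (G.s r) := by
    rw [← Scheme.Hom.comp_apply, pullback.lift_snd, Scheme.Hom.comp_apply, Scheme.Hom.comp_apply,
      hapt]
  have e3 : (Φ G a) (σe pt) = σa pt := by
    rw [← Scheme.Hom.comp_apply, hσ]
  have s1 := oneGen_iff (pullback.snd (a ≫ G.t) G.t) (pullback.snd (a ≫ G.t) G.t).isOpenMap
    (Flat.generalizingMap _) (σa pt)
  have s2 := oneGen_iff (pullback.snd (a ≫ G.s) G.t) (pullback.snd (a ≫ G.s) G.t).isOpenMap
    (Flat.generalizingMap _) (σe pt)
  rw [e1] at s1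
  rw [e2] at s2
  rw [← s1, ← s2, ← e3]
  let τ : ↥(pullback (a ≫ G.s) G.t) ≃ₜ ↥(pullback (a ≫ G.t) G.t) := (Φ G a).homeomorph
  constructor
  · intro h
    have := oneGen_homeomorph τ.symm _ h
    have e4 : τ.symm ((Φ G a) (σe pt)) = σe pt := τ.symm_apply_apply (σe pt)
    rwa [e4] at this
  · intro h
    exact oneGen_homeomorph τ _ h

theorem oneGen (k : Type u) [Field k] [IsAlgClosed k]
    (eU : G.U ≅ Spec (CommRingCat.of k)) (r : G.R) : OneGen r := by
  obtain ⟨hU, hU'⟩ := Grpd3.isIntegral_subsingleton_of_iso k eU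
  obtain ⟨y, hy, -⟩ := exists_isMaxPt r
  have h1 := (oneGen_iff_unit G k eU y).mp (oneGen_of_isMaxPt hy)
  rw [oneGen_iff_unit G k eU r]
  rwa [Subsingleton.elim (G.s r) (G.s y)]

end Groth.Agent.Helper2.Grpd21
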