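import Mathlib
import Groth.Agent.Helper2.Grpd20
import Groth.Agent.Helper2.Grpd21

set_option autoImplicit false
universe u
open CategoryTheory CategoryTheory.Limits AlgebraicGeometry
open Groth.Agent.Helper2.Grpd20 Groth.Agent.Helper2.Grpd21

namespace Groth.Agent.Helper2.Grpd22

variable {X : Scheme.{u}}

/-- the generic point of an irreducible component is a maximal point -/
lemma isMaxPt_genericPoint {Z : Set X} (hZ : Z ∈ irreducibleComponents X) {η : X}
    (hη : IsGenericPoint η Z) : IsMaxPt η := by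
  intro z hz
  have h1 : Z ⊆ closure {z} := by
    rw [← hη.def]
    exact closure_minimal (Set.singleton_subset_iff.mpr (specializes_iff_mem_closure.mp hz))
      isClosed_closure
  have h2 : IsIrreducible (closure ({z} : Set X)) := isIrreducible_singleton.closure
  have h3 : closure ({z} : Set X) = Z := (hZ.2 h2 h1).antisymm h1
  have h4 : IsGenericPoint z Z := h3
  exact h4.eq hη

theorem existsUnique_irreducibleComponent (x : X) (h : OneGen x) :
    ∃! Z : Set X, Z ∈ irreducibleComponents X ∧ x ∈ Z := by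
  refine ⟨irreducibleComponent x, ⟨irreducibleComponent_mem_irreducibleComponents x,
    mem_irreducibleComponent⟩, ?_⟩
  rintro Z ⟨hZ, hxZ⟩
  have key : ∀ Z : Set X, Z ∈ irreducibleComponents X → x ∈ Z →
      ∃ η : X, IsGenericPoint η Z ∧ IsMaxPt η ∧ η ⤳ x := by
    intro Z hZ hxZ
    have hirr : IsIrreducible Z := hZ.1
    have hcl : IsClosed Z := isClosed_of_mem_irreducibleComponents Z hZ
    have hgen : IsGenericPoint hirr.genericPoint Z := by
      have := hirr.isGenericPoint_genericPoint_closure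
      rwa [hcl.closure_eq] at this
    exact ⟨_, hgen, isMaxPt_genericPoint hZ hgen, hgen.specializes hxZ⟩
  obtain ⟨η₁, g₁, m₁, s₁⟩ := key Z hZ hxZ
  obtain ⟨η₂, g₂, m₂, s₂⟩ := key (irreducibleComponent x)
    (irreducibleComponent_mem_irreducibleComponents x) mem_irreducibleComponent
  have := h η₁ η₂ m₁ m₂ s₁ s₂
  rw [← g₁.def, ← g₂.def, this]

theorem minimalPrimes_subsingleton (x : X) (h : OneGen x) :
    (minimalPrimes (X.presheaf.stalk x)).Subsingleton := by
  intro p₁ hp₁ p₂ hp₂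
  have key : ∀ p : Ideal (X.presheaf.stalk x), ∀ hp : p ∈ minimalPrimes (X.presheaf.stalk x),
      IsMaxPt (X.fromSpecStalk x ⟨p, hp.1.1⟩) ∧ X.fromSpecStalk x ⟨p, hp.1.1⟩ ⤳ x := by
    intro p hp
    have hs : X.fromSpecStalk x ⟨p, hp.1.1⟩ ⤳ x := by
      have : X.fromSpecStalk x ⟨p, hp.1.1⟩ ∈ Set.range (X.fromSpecStalk x) := ⟨_, rfl⟩
      rwa [Scheme.range_fromSpecStalk] at this
    refine ⟨?_, hs⟩
    intro z hz
    have hzx : z ⤳ x := hz.trans hs
    have : z ∈ Set.range (X.fromSpecStalk x) := by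
      rw [Scheme.range_fromSpecStalk]; exact hzx
    obtain ⟨q, rfl⟩ := this
    have hemb : Topology.IsEmbedding (X.fromSpecStalk x) := (X.fromSpecStalk x).isEmbedding
    have hq : q ⤳ ⟨p, hp.1.1⟩ := hemb.isInducing.specializes_iff.mp hz
    have hle : q.asIdeal ≤ p := (PrimeSpectrum.le_iff_specializes q ⟨p, hp.1.1⟩).mpr hq
    have : p ≤ q.asIdeal := hp.2 ⟨q.2, bot_le⟩ hle
    congr 1
    exact PrimeSpectrum.ext (le_antisymm hle this)
  obtain ⟨m₁, s₁⟩ := key p₁ hp₁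
  obtain ⟨m₂, s₂⟩ := key p₂ hp₂
  have := h _ _ m₁ m₂ s₁ s₂
  have hinj := (X.fromSpecStalk x).isEmbedding.injective this
  exact congrArg PrimeSpectrum.asIdeal hinj

/-- descent of `OneGen` along a surjective generalizing morphism -/
theorem oneGen_of_surjective {X' : Scheme.{u}} (p : X' ⟶ X) (hs : Function.Surjective p)
    (hg : GeneralizingMap p) (h : ∀ x' : X', OneGen x') (x : X) : OneGen x := by
  obtain ⟨x', rfl⟩ := hs x
  intro y₁ y₂ m₁ m₂ s₁ s₂
  have key : ∀ y : X, IsMaxPt y → y ⤳ p x' → ∃ ξ : X', IsMaxPt ξ ∧ ξ ⤳ x' ∧ p ξ = y := by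
    intro y m s
    obtain ⟨y', hy', rfl⟩ := hg s
    obtain ⟨ξ, hξ, hξy⟩ := exists_isMaxPt y'
    exact ⟨ξ, hξ, hξy.trans hy', m _ (hξy.map p.continuous)⟩
  obtain ⟨ξ₁, a₁, b₁, c₁⟩ := key y₁ m₁ s₁
  obtain ⟨ξ₂, a₂, b₂, c₂⟩ := key y₂ m₂ s₂
  rw [← c₁, ← c₂, h x' ξ₁ ξ₂ a₁ a₂ b₁ b₂]

end Groth.Agent.Helper2.Grpd22
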