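import Mathlib
import Groth.Agent.Helper2.GrpBridge
import Groth.Agent.Helper2.Grpd20
import Groth.Agent.Helper2.Grpd21
import Groth.Agent.Helper2.Grpd22

set_option autoImplicit false
universe u v
open CategoryTheory CategoryTheory.Limits MonoidalCategory CartesianMonoidalCategory MonObj GrpObj AlgebraicGeometry

namespace Groth.Agent.Helper2.GrpOneGen

open Groth.Agent.Helper2 Groth.Agent.Helper2.GrpBridge Groth.Agent.Helper2.Grpd20

/-- every point of a group scheme over a field has at most one maximal generization -/
theorem oneGen_grp (K : Type u) [Field K] (G : Over (Spec (CommRingCat.of K))) [GrpObj G]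
    (x : G.left) : OneGen x := by
  let f := Spec.map (CommRingCat.ofHom <| algebraMap K (AlgebraicClosure K))
  let G' := (Over.pullback f).obj G
  letI : GrpObj G' := Functor.grpObjObj
  have h' : ∀ x' : G'.left, OneGen x' := fun x' =>
    Grpd21.oneGen (toGrpd G') (AlgebraicClosure K) (Iso.refl _) x'
  let p : G'.left ⟶ G.left := pullback.fst G.hom f
  haveI : Surjective f := ⟨fun y => ⟨default, Subsingleton.elim _ _⟩⟩
  haveI : Surjective p := inferInstanceAs (Surjective (pullback.fst G.hom f))
  haveI : Flat p := inferInstanceAs (Flat (pullback.fst G.hom f))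
  exact Grpd22.oneGen_of_surjective p p.surjective (Flat.generalizingMap p) h' x

end Groth.Agent.Helper2.GrpOneGen
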