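import Mathlib
import Groth.Agent.Helper2.Grpd20
import Groth.Agent.Helper2.Grpd21
import Groth.Agent.Helper2.Grpd22

set_option autoImplicit false
universe u v
open CategoryTheory CategoryTheory.Limits MonoidalCategory CartesianMonoidalCategory MonObj GrpObj AlgebraicGeometry

namespace Groth.Agent.Helper2.GrpTrans

open Groth.Agent.Helper2 Groth.Agent.Helper2.Grpd20

/-- a maximal point of a scheme has closure an irreducible component -/
lemma closure_mem_irreducibleComponents {X : Scheme.{u}} {y : X} (hy : IsMaxPt y) :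
    closure {y} ∈ irreducibleComponents X := by
  have hirr : IsIrreducible (irreducibleComponent y) := isIrreducible_irreducibleComponent
  have hcl : IsClosed (irreducibleComponent y) := isClosed_irreducibleComponent
  have hgen : IsGenericPoint hirr.genericPoint (irreducibleComponent y) := by
    have := hirr.isGenericPoint_genericPoint_closure
    rwa [hcl.closure_eq] at this
  have h1 : hirr.genericPoint = y := hy _ (hgen.specializes mem_irreducibleComponent)
  rw [h1] at hgen
  rw [hgen.def]
  exact irreducibleComponent_mem_irreducibleComponents y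

variable {k : Type u} [Field k] (G : Over (Spec (CommRingCat.of k))) [GrpObj G]

/-- the residue field point of `g` as an object over `Spec k` -/
noncomputable def T (g : G.left) : Over (Spec (CommRingCat.of k)) :=
  Over.mk (G.left.fromSpecResidueField g ≫ G.hom)

noncomputable def gT (g : G.left) : T G g ⟶ G :=
  Over.homMk (G.left.fromSpecResidueField g) rfl

noncomputable def A (g : G.left) : G ⊗ T G g ⟶ G := fst _ _

noncomputable def B (g : G.left) : G ⊗ T G g ⟶ G := (fst _ _)⁻¹ * (snd _ _ ≫ gT G g)

noncomputable def ψ (g : G.left) : G ⊗ T G g ⟶ G ⊗ G := lift (A G g) (B G g)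

lemma ψ_μ (g : G.left) : ψ G g ≫ μ[G] = snd _ _ ≫ gT G g := by
  have : ψ G g ≫ μ[G] = A G g * B G g := by
    rw [Hom.mul_def]; rfl
  rw [this, A, B, ← _root_.mul_assoc, mul_inv_cancel, _root_.one_mul]

noncomputable def τ (g : G.left) : G ⊗ T G g ⟶ G ⊗ T G g := lift (B G g) (snd _ _)

noncomputable def τinv (g : G.left) : G ⊗ T G g ⟶ G ⊗ T G g :=
  lift ((snd _ _ ≫ gT G g) * (fst _ _)⁻¹) (snd _ _)

lemma τ_τinv (g : G.left) : τ G g ≫ τinv G g = 𝟙 _ := by
  apply CartesianMonoidalCategory.hom_ext
  · simp only [τ, τinv, B, Category.assoc, lift_fst, Category.id_comp]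
    rw [MonObj.comp_mul, GrpObj.comp_inv, ← Category.assoc, lift_fst, lift_snd]
    simp
  · simp [τ, τinv]

lemma τinv_τ (g : G.left) : τinv G g ≫ τ G g = 𝟙 _ := by
  apply CartesianMonoidalCategory.hom_ext
  · simp only [τ, τinv, B, Category.assoc, lift_fst, Category.id_comp]
    rw [MonObj.comp_mul, GrpObj.comp_inv, ← Category.assoc, lift_fst, lift_snd]
    simp
  · simp [τ, τinv]

lemma B_eq (g : G.left) : B G g = τ G g ≫ fst _ _ := by
  rw [τ, lift_fst]

instance isIso_τ (g : G.left) : IsIso (τ G g) := ⟨τinv G g, τ_τinv G g, τinv_τ G g⟩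

instance isIso_τ_left (g : G.left) : IsIso (τ G g).left := (Over.forget _).map_isIso (τ G g)

instance flat_A (g : G.left) : Flat (A G g).left := by
  rw [A, Over.fst_left]; infer_instance

instance univOpen_A (g : G.left) : UniversallyOpen (A G g).left := by
  rw [A, Over.fst_left]; infer_instance

instance surj_A (g : G.left) : Surjective (A G g).left := by
  rw [A, Over.fst_left]
  haveI : Nonempty ↥(T G g).left := ⟨IsLocalRing.closedPoint _⟩
  infer_instance

instance flat_B (g : G.left) : Flat (B G g).left := by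
  rw [B_eq, Over.comp_left]
  haveI : Flat (fst G (T G g)).left := flat_A G g
  infer_instance

instance univOpen_B (g : G.left) : UniversallyOpen (B G g).left := by
  rw [B_eq, Over.comp_left]
  haveI : UniversallyOpen (fst G (T G g)).left := univOpen_A G g
  infer_instance

lemma gT_apply (g : G.left) (t : (T G g).left) : (gT G g).left t = g := by
  have : (gT G g).left = G.left.fromSpecResidueField g := rfl
  rw [this]
  exact G.left.fromSpecResidueField_apply g t

lemma μ_ψ_apply (g : G.left) (z : (G ⊗ T G g).left) : μ[G].left ((ψ G g).left z) = g := by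
  rw [← Scheme.Hom.comp_apply, ← Over.comp_left, ψ_μ, Over.comp_left, Scheme.Hom.comp_apply,
    gT_apply]

lemma fst_ψ_apply (g : G.left) (z : (G ⊗ T G g).left) :
    (fst G G).left ((ψ G g).left z) = (A G g).left z := by
  rw [← Scheme.Hom.comp_apply, ← Over.comp_left, ψ, lift_fst]

lemma snd_ψ_apply (g : G.left) (z : (G ⊗ T G g).left) :
    (snd G G).left ((ψ G g).left z) = (B G g).left z := by
  rw [← Scheme.Hom.comp_apply, ← Over.comp_left, ψ, lift_snd]

instance nonempty_GT (g : G.left) : Nonempty ↥(G ⊗ T G g).left := by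
  obtain ⟨z, -⟩ := (A G g).left.surjective g
  exact ⟨z⟩

/-- `U · V = G` for dense opens -/
theorem exists_mul_mem (U V : G.left.Opens) (hU : Dense (U : Set G.left))
    (hV : Dense (V : Set G.left)) (g : G.left) :
    ∃ z : ↥(G ⊗ G).left, μ[G].left z = g ∧ (fst G G).left z ∈ U ∧ (snd G G).left z ∈ V := by
  have h1 : Dense ((A G g).left ⁻¹' (U : Set G.left)) :=
    hU.preimage (A G g).left.isOpenMap
  have h2 : Dense ((B G g).left ⁻¹' (V : Set G.left)) :=
    hV.preimage (B G g).left.isOpenMap
  have h3 : IsOpen ((A G g).left ⁻¹' (U : Set G.left)) := U.2.preimage (A G g).left.continuous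
  have h4 := h1.inter_of_isOpen_left h2 h3
  obtain ⟨z0, hz1, hz2⟩ := h4.nonempty
  exact ⟨(ψ G g).left z0, μ_ψ_apply G g z0, by rw [fst_ψ_apply]; exact hz1,
    by rw [snd_ψ_apply]; exact hz2⟩

/-- every point is a product of two maximal points -/
theorem exists_mul_isMaxPt (g : G.left) :
    ∃ z : ↥(G ⊗ G).left, μ[G].left z = g ∧ IsMaxPt ((fst G G).left z) ∧
      IsMaxPt ((snd G G).left z) := by
  obtain ⟨z0, hz0, -⟩ := Grpd21.exists_isMaxPt (Classical.arbitrary ↥(G ⊗ T G g).left)
  refine ⟨(ψ G g).left z0, μ_ψ_apply G g z0, ?_, ?_⟩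
  · rw [fst_ψ_apply]
    exact isMaxPt_map _ (Flat.generalizingMap (A G g).left) hz0
  · rw [snd_ψ_apply]
    exact isMaxPt_map _ (Flat.generalizingMap (B G g).left) hz0

end Groth.Agent.Helper2.GrpTrans
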