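import Mathlib
import Groth.Prelude.Def_AlgGrp

set_option autoImplicit false
universe u
open CategoryTheory CategoryTheory.Limits MonoidalCategory CartesianMonoidalCategory MonObj GrpObj AlgebraicGeometry

namespace Groth.Agent.Helper2.HS2

variable {S : Scheme.{u}} {G X : Over S} [GrpObj G] (a : AlgGrp.Action G X)

/-- the action on `T`-points -/
noncomputable def smul {T : Over S} (g : T ⟶ G) (z : T ⟶ X) : T ⟶ X := lift g z ≫ a.act

lemma comp_smul {T' T : Over S} (f : T' ⟶ T) (g : T ⟶ G) (z : T ⟶ X) :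
    f ≫ smul a g z = smul a (f ≫ g) (f ≫ z) := by
  simp only [smul, ← Category.assoc, comp_lift]

lemma one_smul {T : Over S} (z : T ⟶ X) : smul a 1 z = z := by
  have h1 : lift (1 : T ⟶ G) z = lift (toUnit T) z ≫ (η[G] ▷ X) := by
    rw [lift_whiskerRight, Hom.one_def]
  rw [smul, h1, Category.assoc, a.one_act, lift_leftUnitor_hom]

lemma mul_smul {T : Over S} (g h : T ⟶ G) (z : T ⟶ X) :
    smul a (g * h) z = smul a g (smul a h z) := by
  have h1 : lift (g * h) z = lift (lift g h) z ≫ (μ[G] ▷ X) := by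
    rw [lift_whiskerRight, Hom.mul_def]
  rw [smul, h1, Category.assoc, a.mul_act, lift_lift_associator_hom_assoc, lift_whiskerLeft_assoc]
  rfl

lemma act_eq : a.act = smul a (fst G X) (snd G X) := by
  rw [smul, lift_fst_snd, Category.id_comp]

lemma smul_inv_smul {T : Over S} (g : T ⟶ G) (z : T ⟶ X) : smul a g⁻¹ (smul a g z) = z := by
  rw [← mul_smul, inv_mul_cancel, one_smul]

lemma smul_smul_inv {T : Over S} (g : T ⟶ G) (z : T ⟶ X) : smul a g (smul a g⁻¹ z) = z := by
  rw [← mul_smul, mul_inv_cancel, one_smul]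

lemma smul_inv_mul_eq {T : Over S} (g g' : T ⟶ G) (z z' : T ⟶ X)
    (h : smul a g z = smul a g' z') : smul a (g'⁻¹ * g) z = z' := by
  rw [mul_smul, h, smul_inv_smul]

/-- the shear map `(t, z) ↦ (t, c(t) z)` -/
noncomputable def shear {T : Over S} (c : T ⟶ G) : T ⊗ X ⟶ T ⊗ X :=
  lift (fst T X) (smul a (fst T X ≫ c) (snd T X))

noncomputable def shearInv {T : Over S} (c : T ⟶ G) : T ⊗ X ⟶ T ⊗ X :=
  lift (fst T X) (smul a (fst T X ≫ c)⁻¹ (snd T X))

lemma shear_shearInv {T : Over S} (c : T ⟶ G) : shear a c ≫ shearInv a c = 𝟙 _ := by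
  apply CartesianMonoidalCategory.hom_ext
  · simp [shear, shearInv]
  · simp only [shear, shearInv, Category.assoc, lift_snd, Category.id_comp]
    rw [comp_smul, GrpObj.comp_inv, ← Category.assoc, lift_fst, lift_snd, smul_inv_smul]

lemma shearInv_shear {T : Over S} (c : T ⟶ G) : shearInv a c ≫ shear a c = 𝟙 _ := by
  apply CartesianMonoidalCategory.hom_ext
  · simp [shear, shearInv]
  · simp only [shear, shearInv, Category.assoc, lift_snd, Category.id_comp]
    rw [comp_smul, ← Category.assoc, lift_fst, lift_snd, smul_smul_inv]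

instance isIso_shear {T : Over S} (c : T ⟶ G) : IsIso (shear a c) :=
  ⟨shearInv a c, shear_shearInv a c, shearInv_shear a c⟩

instance isIso_shear_left {T : Over S} (c : T ⟶ G) : IsIso (shear a c).left :=
  (Over.forget S).map_isIso (shear a c)

lemma translate_eq {T : Over S} (c : T ⟶ G) : (c ▷ X) ≫ a.act = shear a c ≫ snd T X := by
  rw [shear, lift_snd, smul]
  congr 1

theorem flat_translate {T : Over S} (c : T ⟶ G) (hT : Flat T.hom) :
    Flat ((c ▷ X) ≫ a.act).left := by
  rw [translate_eq, Over.comp_left]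
  have : Flat (snd T X).left := by
    rw [Over.snd_left]
    exact MorphismProperty.pullback_snd _ _ hT
  infer_instance

theorem universallyOpen_translate {T : Over S} (c : T ⟶ G) (hT : UniversallyOpen T.hom) :
    UniversallyOpen ((c ▷ X) ≫ a.act).left := by
  rw [translate_eq, Over.comp_left]
  have : UniversallyOpen (snd T X).left := by
    rw [Over.snd_left]
    exact MorphismProperty.pullback_snd _ _ hT
  infer_instance

/-- the inversion of the action groupoid `(g, z) ↦ (g⁻¹, g z)` -/
noncomputable def σ : G ⊗ X ⟶ G ⊗ X := lift (fst G X)⁻¹ a.act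

lemma σ_fst : σ a ≫ fst G X = (fst G X)⁻¹ := by rw [σ, lift_fst]

lemma σ_snd : σ a ≫ snd G X = a.act := by rw [σ, lift_snd]

lemma σ_act : σ a ≫ a.act = snd G X := by
  conv_lhs => rw [act_eq a, comp_smul, σ_fst, σ_snd, act_eq a, smul_inv_smul]

/-- the left translation action of `G` on itself -/
noncomputable def selfAction (G : Over S) [GrpObj G] : AlgGrp.Action G G where
  act := μ[G]
  one_act := MonObj.one_mul G
  mul_act := MonObj.mul_assoc G

end Groth.Agent.Helper2.HS2
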