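import Mathlib
import Groth.Agent.Helper2.Grpd20
import Groth.Agent.Helper2.Grpd21
import Groth.Agent.Helper2.Grpd22
import Groth.Agent.Helper2.GrpOneGen

set_option autoImplicit false
universe u
open CategoryTheory CategoryTheory.Limits MonoidalCategory CartesianMonoidalCategory MonObj GrpObj AlgebraicGeometry TensorProduct

namespace Groth.Agent.Helper2.HS3

open Groth.Agent.Helper2 Groth.Agent.Helper2.Grpd20

variable {k : Type u} [Field k]

/-- descending irreducibility of preimages along a field extension -/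
lemma isIrreducible_descend {X : Scheme.{u}} (f : X ⟶ Spec (CommRingCat.of k))
    {K Ω : Type u} [Field K] [Field Ω]
    (t : Spec (CommRingCat.of K) ⟶ Spec (CommRingCat.of k))
    (s : Spec (CommRingCat.of Ω) ⟶ Spec (CommRingCat.of K)) (Z : Set X)
    (h : IsIrreducible ((pullback.fst f (s ≫ t)) ⁻¹' Z)) :
    IsIrreducible ((pullback.fst f t) ⁻¹' Z) := by
  let e := pullbackLeftPullbackSndIso f t s
  have he : e.hom ≫ pullback.fst f (s ≫ t) =
      pullback.fst (pullback.snd f t) s ≫ pullback.fst f t :=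
    pullbackLeftPullbackSndIso_hom_fst _ _ _
  let r := pullback.fst (pullback.snd f t) s
  haveI : Surjective s := inferInstance
  haveI : Surjective r := inferInstance
  let m := e.inv ≫ r
  have hm : m ≫ pullback.fst f t = pullback.fst f (s ≫ t) := by
    rw [Category.assoc, ← he, Iso.inv_hom_id_assoc]
  have hsurj : Function.Surjective m := by
    intro y
    obtain ⟨x, rfl⟩ := r.surjective y
    exact ⟨e.hom x, by rw [← Scheme.Hom.comp_apply, Iso.hom_inv_id_assoc]⟩
  have himg : (pullback.fst f t) ⁻¹' Z = m '' ((pullback.fst f (s ≫ t)) ⁻¹' Z) := by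
    ext y
    constructor
    · intro hy
      obtain ⟨x, rfl⟩ := hsurj y
      refine ⟨x, ?_, rfl⟩
      rw [Set.mem_preimage, ← hm, Scheme.Hom.comp_apply]
      exact hy
    · rintro ⟨x, hx, rfl⟩
      rw [Set.mem_preimage, ← hm, Scheme.Hom.comp_apply] at hx
      exact hx
  rw [himg]
  exact h.image _ m.continuous.continuousOn

/-- ascending irreducibility of preimages over an algebraically closed field -/
lemma isIrreducible_ascend {X : Scheme.{u}} (f : X ⟶ Spec (CommRingCat.of k))
    {K Ω : Type u} [Field K] [IsAlgClosed K] [Field Ω]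
    (t : Spec (CommRingCat.of K) ⟶ Spec (CommRingCat.of k))
    (s : Spec (CommRingCat.of Ω) ⟶ Spec (CommRingCat.of K)) (Z : Set X)
    (h : IsIrreducible ((pullback.fst f t) ⁻¹' Z)) :
    IsIrreducible ((pullback.fst f (s ≫ t)) ⁻¹' Z) := by
  let e := pullbackLeftPullbackSndIso f t s
  have he : e.hom ≫ pullback.fst f (s ≫ t) =
      pullback.fst (pullback.snd f t) s ≫ pullback.fst f t :=
    pullbackLeftPullbackSndIso_hom_fst _ _ _
  let r := pullback.fst (pullback.snd f t) s
  haveI : GeometricallyIrreducible s :=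
    Grpd21.geometricallyIrreducible_of_field K (Iso.refl _) Ω s
  haveI : GeometricallyIrreducible r := inferInstance
  have h1 : IsIrreducible (r ⁻¹' ((pullback.fst f t) ⁻¹' Z)) :=
    r.isIrreducible_preimage r.isOpenMap h
  have himg : (pullback.fst f (s ≫ t)) ⁻¹' Z = e.hom '' (r ⁻¹' ((pullback.fst f t) ⁻¹' Z)) := by
    ext y
    constructor
    · intro hy
      refine ⟨e.inv y, ?_, by rw [← Scheme.Hom.comp_apply, Iso.inv_hom_id]; rfl⟩
      have : (pullback.fst f t) (r (e.inv y)) = (pullback.fst f (s ≫ t)) y := by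
        rw [← Scheme.Hom.comp_apply, ← Scheme.Hom.comp_apply, ← he, Iso.inv_hom_id_assoc]
      rw [Set.mem_preimage, Set.mem_preimage, this]
      exact hy
    · rintro ⟨x, hx, rfl⟩
      rw [Set.mem_preimage, ← Scheme.Hom.comp_apply, he, Scheme.Hom.comp_apply]
      exact hx
  rw [himg]
  exact h1.image _ e.hom.continuous.continuousOn

/-- the fibre of a base change over a rational point is a subsingleton -/
lemma subsingleton_fibre_rational {X : Scheme.{u}} (f : X ⟶ Spec (CommRingCat.of k))
    (σ : Spec (CommRingCat.of k) ⟶ X) (hσ : σ ≫ f = 𝟙 _)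
    {K : Type u} [Field K] (t : Spec (CommRingCat.of K) ⟶ Spec (CommRingCat.of k)) :
    ((pullback.fst f t) ⁻¹' Set.range σ).Subsingleton := by
  rw [← Scheme.Pullback.range_snd]
  let e := pullbackRightPullbackFstIso f t σ
  haveI : IsIso (σ ≫ f) := by rw [hσ]; infer_instance
  have hiso : IsIso (pullback.snd (σ ≫ f) t) := inferInstance
  haveI : Subsingleton ↥(pullback (σ ≫ f) t) :=
    (asIso (pullback.snd (σ ≫ f) t)).hom.homeomorph.injective.subsingleton
  haveI : Subsingleton ↥(pullback σ (pullback.fst f t)) :=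
    e.hom.homeomorph.injective.subsingleton
  rintro _ ⟨x, rfl⟩ _ ⟨y, rfl⟩
  rw [Subsingleton.elim x y]

variable (G : Over (Spec (CommRingCat.of k))) [GrpObj G]

lemma unit_section : η[G].left ≫ G.hom = 𝟙 _ := by
  simp

instance : Subsingleton ↥(𝟙_ (Over (Spec (CommRingCat.of k)))).left :=
  inferInstanceAs (Subsingleton ↥(Spec (CommRingCat.of k)))

/-- irreducibility of the preimage of the identity component over the algebraic closure -/
lemma geomIrr_algClosure (Z : Set G.left) (hZ : Z ∈ irreducibleComponents G.left)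
    (pt : ↥(𝟙_ (Over (Spec (CommRingCat.of k)))).left) (he : η[G].left pt ∈ Z) :
    IsIrreducible ((pullback.fst G.hom
      (Spec.map (CommRingCat.ofHom (algebraMap k (AlgebraicClosure k))))) ⁻¹' Z) := by
  let kb := AlgebraicClosure k
  let tb := Spec.map (CommRingCat.ofHom (algebraMap k kb))
  let G' := (Over.pullback tb).obj G
  letI : GrpObj G' := Functor.grpObjObj
  let q : G'.left ⟶ G.left := pullback.fst G.hom tb
  have hone : ∀ x' : G'.left, OneGen x' := GrpOneGen.oneGen_grp kb G'
  haveI : IsIntegralHom tb := by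
    rw [IsIntegralHom.SpecMap_iff]
    exact algebraMap_isIntegral_iff.mpr inferInstance
  haveI : IsIntegralHom q := inferInstanceAs (IsIntegralHom (pullback.fst G.hom tb))
  haveI : Flat q := inferInstanceAs (Flat (pullback.fst G.hom tb))
  haveI : Surjective tb := ⟨fun y => ⟨default, Subsingleton.elim _ _⟩⟩
  haveI : Surjective q := inferInstanceAs (Surjective (pullback.fst G.hom tb))
  have hclosed : IsClosedMap q := q.isClosedMap
  have hgen : GeneralizingMap q := Flat.generalizingMap q
  -- generic point of Z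
  have hZirr : IsIrreducible Z := hZ.1
  have hZcl : IsClosed Z := isClosed_of_mem_irreducibleComponents Z hZ
  have hξ : IsGenericPoint hZirr.genericPoint Z := by
    have := hZirr.isGenericPoint_genericPoint_closure
    rwa [hZcl.closure_eq] at this
  set ξ := hZirr.genericPoint with hξdef
  have hξmax : IsMaxPt ξ := Grpd22.isMaxPt_genericPoint hZ hξ
  -- fibre over e
  have hfib : (q ⁻¹' {η[G].left pt}).Subsingleton := by
    have h1 := subsingleton_fibre_rational G.hom η[G].left (unit_section G) tb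
    have h2 : Set.range η[G].left = {η[G].left pt} := by
      ext y
      constructor
      · rintro ⟨x, rfl⟩
        rw [Subsingleton.elim x pt]; rfl
      · rintro rfl
        exact ⟨pt, rfl⟩
    rwa [h2] at h1
  -- maximal points in the preimage specialize to a point over e
  have key : ∀ ζ : G'.left, IsMaxPt ζ → q ζ ∈ Z → ∃ e' : G'.left, ζ ⤳ e' ∧ q e' = η[G].left pt := by
    intro ζ hζ hζZ
    have h1 : IsMaxPt (q ζ) := isMaxPt_map _ hgen hζ
    have h2 : ξ ⤳ q ζ := hξ.specializes hζZ
    have h3 : ξ = q ζ := h1 _ h2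
    have h4 : IsClosed (q '' closure {ζ}) := hclosed _ isClosed_closure
    have h5 : Z ⊆ q '' closure {ζ} := by
      rw [← hξ.def]
      apply closure_minimal _ h4
      rw [Set.singleton_subset_iff, h3]
      exact ⟨ζ, subset_closure rfl, rfl⟩
    obtain ⟨e', he', he''⟩ := h5 he
    exact ⟨e', specializes_iff_mem_closure.mpr he', he''⟩
  have uniq : ∀ ζ₁ ζ₂ : G'.left, IsMaxPt ζ₁ → IsMaxPt ζ₂ → q ζ₁ ∈ Z → q ζ₂ ∈ Z → ζ₁ = ζ₂ := by
    intro ζ₁ ζ₂ m₁ m₂ z₁ z₂
    obtain ⟨e₁, s₁, f₁⟩ := key ζ₁ m₁ z₁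
    obtain ⟨e₂, s₂, f₂⟩ := key ζ₂ m₂ z₂
    have : e₁ = e₂ := hfib f₁ f₂
    subst this
    exact hone e₁ ζ₁ ζ₂ m₁ m₂ s₁ s₂
  -- existence of a maximal point over ξ below any point of the preimage
  have ex : ∀ y : G'.left, q y ∈ Z → ∃ ζ : G'.left, IsMaxPt ζ ∧ q ζ ∈ Z ∧ ζ ⤳ y := by
    intro y hy
    have h2 : ξ ⤳ q y := hξ.specializes hy
    obtain ⟨y', hy', hy''⟩ := hgen h2
    obtain ⟨ζ, hζ, hζy⟩ := Grpd21.exists_isMaxPt y'
    refine ⟨ζ, hζ, ?_, hζy.trans hy'⟩
    have h3 : q ζ ⤳ ξ := hy'' ▸ hζy.map q.continuous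
    rw [hξmax _ h3]
    exact hξ.mem
  obtain ⟨y0, hy0⟩ := q.surjective (η[G].left pt)
  obtain ⟨ζ0, m0, z0, -⟩ := ex y0 (by rw [hy0]; exact he)
  have hC : (q ⁻¹' Z) = closure {ζ0} := by
    apply Set.Subset.antisymm
    · intro y hy
      obtain ⟨ζ, m, z, s⟩ := ex y hy
      rw [uniq ζ ζ0 m m0 z z0] at s
      exact specializes_iff_mem_closure.mp s
    · exact closure_minimal (Set.singleton_subset_iff.mpr z0) (hZcl.preimage q.continuous)
  change IsIrreducible (q ⁻¹' Z)
  rw [hC]
  exact isIrreducible_singleton.closure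

/-- the irreducible component through the unit is geometrically irreducible -/
theorem geomIrr (Z : Set G.left) (hZ : Z ∈ irreducibleComponents G.left)
    (pt : ↥(𝟙_ (Over (Spec (CommRingCat.of k)))).left) (he : η[G].left pt ∈ Z)
    {K : Type u} [Field K] (t : Spec (CommRingCat.of K) ⟶ Spec (CommRingCat.of k)) :
    IsIrreducible ((pullback.fst G.hom t) ⁻¹' Z) := by
  obtain ⟨ψ, rfl⟩ := Spec.map_surjective t
  letI : Algebra k K := ψ.hom.toAlgebra
  let kb := AlgebraicClosure k
  let R := K ⊗[k] kb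
  obtain ⟨m, hm⟩ := Ideal.exists_maximal R
  letI : Field (R ⧸ m) := Ideal.Quotient.field m
  let Ω := AlgebraicClosure (R ⧸ m)
  let φ2 : K →+* Ω := (algebraMap (R ⧸ m) Ω).comp ((Ideal.Quotient.mk m).comp
    (Algebra.TensorProduct.includeLeft : K →ₐ[k] R).toRingHom)
  let φ1 : kb →+* Ω := (algebraMap (R ⧸ m) Ω).comp ((Ideal.Quotient.mk m).comp
    (Algebra.TensorProduct.includeRight : kb →ₐ[k] R).toRingHom)
  let s2 := Spec.map (CommRingCat.ofHom φ2)
  let s1 := Spec.map (CommRingCat.ofHom φ1)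
  let tb := Spec.map (CommRingCat.ofHom (algebraMap k kb))
  have hcomm : s1 ≫ tb = s2 ≫ Spec.map ψ := by
    rw [← Spec.map_comp, ← Spec.map_comp]
    congr 1
    ext x
    change φ1 (algebraMap k kb x) = φ2 (ψ.hom x)
    have h1 : (Algebra.TensorProduct.includeRight : kb →ₐ[k] R) (algebraMap k kb x) =
        algebraMap k R x := AlgHom.commutes _ x
    have h2 : (Algebra.TensorProduct.includeLeft : K →ₐ[k] R) (algebraMap k K x) =
        algebraMap k R x := AlgHom.commutes _ x
    have h3 : ψ.hom x = algebraMap k K x := rfl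
    simp only [φ1, φ2, RingHom.comp_apply, AlgHom.toRingHom_eq_coe, RingHom.coe_coe, h1, h3, h2]
  have hb := geomIrr_algClosure G Z hZ pt he
  have h1 := isIrreducible_ascend G.hom tb s1 Z hb
  rw [hcomm] at h1
  exact isIrreducible_descend G.hom (Spec.map ψ) s2 Z h1

end Groth.Agent.Helper2.HS3
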