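import Mathlib

set_option autoImplicit false
universe u
open CategoryTheory CategoryTheory.Limits AlgebraicGeometry

namespace Groth.Agent.Helper2.HS1

/-- lifting generizations inside a fibre along the base change of a field-valued point -/
lemma exists_generization_fibre' {A B : Scheme.{u}} (f : A ⟶ B) {L : Type u} [Field L]
    (b : B) (φ : B.residueField b ⟶ CommRingCat.of L) {a0 a1 : A} (h : a1 ⤳ a0)
    (h0 : f a0 = b) (h1 : f a1 = b)
    (q0 : ↥(pullback f (Spec.map φ ≫ B.fromSpecResidueField b)))
    (hq0 : pullback.fst f (Spec.map φ ≫ B.fromSpecResidueField b) q0 = a0) :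
    ∃ q1 : ↥(pullback f (Spec.map φ ≫ B.fromSpecResidueField b)), q1 ⤳ q0 ∧
      pullback.fst f (Spec.map φ ≫ B.fromSpecResidueField b) q1 = a1 := by
  let r := f.fiberToSpecResidueField b
  let e := pullbackLeftPullbackSndIso f (B.fromSpecResidueField b) (Spec.map φ)
  have he : e.hom ≫ pullback.fst f (Spec.map φ ≫ B.fromSpecResidueField b) =
      pullback.fst (pullback.snd f (B.fromSpecResidueField b)) (Spec.map φ) ≫ f.fiberι b :=
    pullbackLeftPullbackSndIso_hom_fst _ _ _
  let π1 := pullback.fst (pullback.snd f (B.fromSpecResidueField b)) (Spec.map φ)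
  haveI : Flat (Spec.map φ) := inferInstance
  haveI : Flat π1 := inferInstance
  have hemb : Topology.IsEmbedding (f.fiberι b) := (f.fiberι b).isEmbedding
  obtain ⟨a0', ha0'⟩ : a0 ∈ Set.range (f.fiberι b) := by rw [f.range_fiberι]; exact h0
  obtain ⟨a1', ha1'⟩ : a1 ∈ Set.range (f.fiberι b) := by rw [f.range_fiberι]; exact h1
  have hs : a1' ⤳ a0' := by
    rw [← hemb.isInducing.specializes_iff, ha0', ha1']; exact h
  let q0' := e.inv q0
  have hq0' : π1 q0' = a0' := by
    apply hemb.injective
    have key : e.inv ≫ π1 ≫ f.fiberι b =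
        pullback.fst f (Spec.map φ ≫ B.fromSpecResidueField b) := by
      rw [← he, Iso.inv_hom_id_assoc]
    rw [ha0', ← hq0, ← key]
    rfl
  obtain ⟨q1', hq1', hq1''⟩ := (Flat.generalizingMap π1) (hq0' ▸ hs)
  refine ⟨e.hom q1', ?_, ?_⟩
  · have := hq1'.map e.hom.continuous
    have h2 : e.hom q0' = q0 := by
      rw [← Scheme.Hom.comp_apply, Iso.inv_hom_id]; rfl
    rwa [h2] at this
  · rw [← Scheme.Hom.comp_apply, he, Scheme.Hom.comp_apply, hq1'']
    exact ha1'

lemma exists_generization_fibre {A B : Scheme.{u}} (f : A ⟶ B) {L : Type u} [Field L]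
    (g : Spec (CommRingCat.of L) ⟶ B) {a0 a1 : A} (h : a1 ⤳ a0)
    (h0 : f a0 = g (IsLocalRing.closedPoint L)) (h1 : f a1 = g (IsLocalRing.closedPoint L))
    (q0 : ↥(pullback f g)) (hq0 : pullback.fst f g q0 = a0) :
    ∃ q1 : ↥(pullback f g), q1 ⤳ q0 ∧ pullback.fst f g q1 = a1 := by
  obtain ⟨b, φ, hb, rfl⟩ : ∃ (b : B) (φ : B.residueField b ⟶ CommRingCat.of L),
      g (IsLocalRing.closedPoint L) = b ∧ g = Spec.map φ ≫ B.fromSpecResidueField b :=
    ⟨_, _, rfl, (Scheme.descResidueField_stalkClosedPointTo_fromSpecResidueField L B g).symm⟩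
  rw [hb] at h0 h1
  exact exists_generization_fibre' f b φ h h0 h1 q0 hq0

/-- a specialization inside a fibre lifts to the fibre square, ending at the diagonal -/
theorem exists_specializes_diagonal {A B : Scheme.{u}} (f : A ⟶ B) {a0 a1 : A} (h : a1 ⤳ a0)
    (hf : f a1 = f a0) :
    ∃ u : ↥(pullback f f), pullback.fst f f u = a0 ∧ pullback.snd f f u = a1 ∧
      u ⤳ pullback.diagonal f a0 := by
  let L := A.residueField a0
  let ι0 : Spec (CommRingCat.of L) ⟶ A := A.fromSpecResidueField a0
  let g : Spec (CommRingCat.of L) ⟶ B := ι0 ≫ f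
  have hpt : ι0 (IsLocalRing.closedPoint L) = a0 := A.fromSpecResidueField_apply a0 _
  have hg : g (IsLocalRing.closedPoint L) = f a0 := by
    rw [Scheme.Hom.comp_apply, hpt]
  let s0 : Spec (CommRingCat.of L) ⟶ pullback f g := pullback.lift ι0 (𝟙 _) (by simp [g])
  let q0 := s0 (IsLocalRing.closedPoint L)
  have hq0 : pullback.fst f g q0 = a0 := by
    rw [← Scheme.Hom.comp_apply, pullback.lift_fst, hpt]
  obtain ⟨q1, hq1, hq1'⟩ := exists_generization_fibre f g h hg.symm (hf.trans hg.symm) q0 hq0
  let j : pullback f g ⟶ pullback f f :=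
    pullback.lift (pullback.snd f g ≫ ι0) (pullback.fst f g)
      (by rw [Category.assoc, pullback.condition])
  refine ⟨j q1, ?_, ?_, ?_⟩
  · rw [← Scheme.Hom.comp_apply, pullback.lift_fst, Scheme.Hom.comp_apply]
    exact A.fromSpecResidueField_apply a0 _
  · rw [← Scheme.Hom.comp_apply, pullback.lift_snd, hq1']
  · have := hq1.map j.continuous
    have h2 : j q0 = pullback.diagonal f a0 := by
      have h3 : s0 ≫ j = ι0 ≫ pullback.diagonal f := by
        apply pullback.hom_ext
        · rw [Category.assoc, pullback.lift_fst, ← Category.assoc, pullback.lift_snd,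
            Category.id_comp, Category.assoc, pullback.diagonal_fst, Category.comp_id]
        · rw [Category.assoc, pullback.lift_snd, pullback.lift_fst,
            Category.assoc, pullback.diagonal_snd, Category.comp_id]
      rw [← hpt]
      exact congrArg (fun m : Spec (CommRingCat.of L) ⟶ pullback f f =>
        m (IsLocalRing.closedPoint L)) h3
    rwa [h2] at this

end Groth.Agent.Helper2.HS1
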