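import Mathlib
import Groth.Prelude.Def_AlgGrp
import Groth.Agent.Helper2.Grpd20
import Groth.Agent.Helper2.HS1
import Groth.Agent.Helper2.HS2
import Groth.Agent.Helper2.HS3

set_option autoImplicit false
universe u
open CategoryTheory CategoryTheory.Limits MonoidalCategory CartesianMonoidalCategory MonObj GrpObj AlgebraicGeometry

namespace Groth.Agent.Helper2.HS4

open Groth.Agent.Helper2 Groth.Agent.Helper2.Grpd20 Groth.Agent.Helper2.HS2

variable {k : Type u} [Field k] {G X : Over (Spec (CommRingCat.of k))} [GrpObj G]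
  (a : AlgGrp.Action G X)

instance : Subsingleton ↥(𝟙_ (Over (Spec (CommRingCat.of k)))).left :=
  inferInstanceAs (Subsingleton ↥(Spec (CommRingCat.of k)))

/-- homogeneity gives a point of `G × X` joining two given points -/
lemma exists_joining (hΦ : Surjective (lift a.act (snd G X)).left) (x y : X.left) :
    ∃ p0 : ↥(G ⊗ X).left, (snd G X).left p0 = x ∧ a.act.left p0 = y := by
  obtain ⟨p, hp1, hp2⟩ := Scheme.Pullback.exists_preimage_pullback (f := X.hom) (g := X.hom) y x
    (Subsingleton.elim _ _)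
  obtain ⟨p0, hp0⟩ := hΦ.surj (show ↥(X ⊗ X).left from p)
  refine ⟨p0, ?_, ?_⟩
  · have : (lift a.act (snd G X) ≫ snd X X).left p0 = x := by
      rw [Over.comp_left, Scheme.Hom.comp_apply, hp0]; exact hp2
    rwa [lift_snd] at this
  · have : (lift a.act (snd G X) ≫ fst X X).left p0 = y := by
      rw [Over.comp_left, Scheme.Hom.comp_apply, hp0]; exact hp1
    rwa [lift_fst] at this

/-- key lemma: a maximal generization of `x` is reached from `x` by an element of `G`
generizing the unit -/
theorem key (hΦ : Surjective (lift a.act (snd G X)).left) (x y : X.left) (hy : IsMaxPt y)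
    (hyx : y ⤳ x) (pt : ↥(𝟙_ (Over (Spec (CommRingCat.of k)))).left) :
    ∃ w : ↥(G ⊗ X).left, (snd G X).left w = x ∧ a.act.left w = y ∧
      (fst G X).left w ⤳ η[G].left pt := by
  obtain ⟨p0, hp0x, hp0y⟩ := exists_joining a hΦ x y
  -- generize p0 over y
  haveI : Flat (snd G X).left := by rw [Over.snd_left]; infer_instance
  obtain ⟨p1, hp1, hp1y⟩ := (Flat.generalizingMap (snd G X).left) (hp0x ▸ hyx)
  have hp1a : a.act.left p1 = y := by
    apply hy
    rw [← hp0y]
    exact hp1.map a.act.left.continuous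
  obtain ⟨u, hu0, hu1, hu⟩ := HS1.exists_specializes_diagonal a.act.left hp1
    (hp1a.trans hp0y.symm)
  -- the object T and its points
  let T : Over (Spec (CommRingCat.of k)) :=
    Over.mk (pullback.fst a.act.left a.act.left ≫ (G ⊗ X).hom)
  let p_1 : T ⟶ G ⊗ X := Over.homMk (pullback.fst a.act.left a.act.left) rfl
  let p_2 : T ⟶ G ⊗ X := Over.homMk (pullback.snd a.act.left a.act.left) (by
    have h1 : (G ⊗ X).hom = a.act.left ≫ X.hom := (Over.w a.act).symm
    change pullback.snd a.act.left a.act.left ≫ (G ⊗ X).hom =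
      pullback.fst a.act.left a.act.left ≫ (G ⊗ X).hom
    rw [h1, ← Category.assoc, ← Category.assoc, pullback.condition])
  have hp12 : p_1 ≫ a.act = p_2 ≫ a.act := by
    apply Over.OverMorphism.ext
    exact pullback.condition
  let g := p_1 ≫ fst G X
  let z := p_1 ≫ snd G X
  let g' := p_2 ≫ fst G X
  let z' := p_2 ≫ snd G X
  have h : smul a g z = smul a g' z' := by
    have e1 : smul a g z = p_1 ≫ a.act := by
      conv_rhs => rw [act_eq a, comp_smul]
    have e2 : smul a g' z' = p_2 ≫ a.act := by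
      conv_rhs => rw [act_eq a, comp_smul]
    rw [e1, e2, hp12]
  let θ : T ⟶ G ⊗ X := lift (g'⁻¹ * g) z
  have hθact : θ ≫ a.act = z' := smul_inv_mul_eq a g g' z z' h
  have hθsnd : θ ≫ snd G X = z := lift_snd _ _
  have hθfst : θ ≫ fst G X = g'⁻¹ * g := lift_fst _ _
  let Δ : G ⊗ X ⟶ T := Over.homMk (pullback.diagonal a.act.left) (by
    change pullback.diagonal a.act.left ≫ pullback.fst a.act.left a.act.left ≫ (G ⊗ X).hom = _
    rw [pullback.diagonal_fst_assoc])
  have hΔ1 : Δ ≫ p_1 = 𝟙 _ := by
    apply Over.OverMorphism.ext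
    exact pullback.diagonal_fst a.act.left
  have hΔ2 : Δ ≫ p_2 = 𝟙 _ := by
    apply Over.OverMorphism.ext
    exact pullback.diagonal_snd a.act.left
  have hΔθ : Δ ≫ (g'⁻¹ * g) = toUnit _ ≫ η[G] := by
    rw [MonObj.comp_mul, GrpObj.comp_inv]
    have e1 : Δ ≫ g = fst G X := by
      change Δ ≫ p_1 ≫ fst G X = _
      rw [← Category.assoc, hΔ1, Category.id_comp]
    have e2 : Δ ≫ g' = fst G X := by
      change Δ ≫ p_2 ≫ fst G X = _
      rw [← Category.assoc, hΔ2, Category.id_comp]
    rw [e1, e2, inv_mul_cancel, Hom.one_def]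
  refine ⟨θ.left u, ?_, ?_, ?_⟩
  · have : (θ ≫ snd G X).left u = x := by
      rw [hθsnd]
      change (snd G X).left ((pullback.fst a.act.left a.act.left) u) = x
      rw [hu0, hp0x]
    rwa [Over.comp_left, Scheme.Hom.comp_apply] at this
  · have : (θ ≫ a.act).left u = y := by
      rw [hθact]
      change (snd G X).left ((pullback.snd a.act.left a.act.left) u) = y
      rw [hu1, hp1y]
    rwa [Over.comp_left, Scheme.Hom.comp_apply] at this
  · have h1 : (θ ≫ fst G X).left u ⤳ (θ ≫ fst G X).left (pullback.diagonal a.act.left p0) :=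
      hu.map (θ ≫ fst G X).left.continuous
    have h2 : (θ ≫ fst G X).left (pullback.diagonal a.act.left p0) = η[G].left pt := by
      rw [hθfst]
      have : (Δ ≫ (g'⁻¹ * g)).left p0 = η[G].left pt := by
        rw [hΔθ, Over.comp_left, Scheme.Hom.comp_apply]
        congr 1
        exact Subsingleton.elim _ _
      rwa [Over.comp_left, Scheme.Hom.comp_apply] at this
    rw [h2] at h1
    rwa [Over.comp_left, Scheme.Hom.comp_apply] at h1

end Groth.Agent.Helper2.HS4
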