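import Mathlib
import Groth.Prelude.Def_AlgGrp
import Groth.Agent.Helper2.Grpd20
import Groth.Agent.Helper2.Grpd21
import Groth.Agent.Helper2.Grpd22
import Groth.Agent.Helper2.GrpOneGen
import Groth.Agent.Helper2.GrpTrans
import Groth.Agent.Helper2.HS2
import Groth.Agent.Helper2.HS3
import Groth.Agent.Helper2.HS4

set_option autoImplicit false
universe u
open CategoryTheory CategoryTheory.Limits MonoidalCategory CartesianMonoidalCategory MonObj GrpObj AlgebraicGeometry

namespace Groth.Agent.Helper2.HS5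

open Groth.Agent.Helper2 Groth.Agent.Helper2.Grpd20 Groth.Agent.Helper2.HS2

/-- the reduced closed subscheme on a closed subset -/
noncomputable abbrev redSub (X : Scheme.{u}) (Z : Set X) (hZ : IsClosed Z) : Scheme.{u} :=
  (Scheme.IdealSheafData.vanishingIdeal ⟨Z, hZ⟩).subscheme

noncomputable abbrev redSubι (X : Scheme.{u}) (Z : Set X) (hZ : IsClosed Z) : redSub X Z hZ ⟶ X :=
  (Scheme.IdealSheafData.vanishingIdeal ⟨Z, hZ⟩).subschemeι

instance (X : Scheme.{u}) (Z : Set X) (hZ : IsClosed Z) : IsClosedImmersion (redSubι X Z hZ) :=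
  inferInstance

lemma range_redSubι (X : Scheme.{u}) (Z : Set X) (hZ : IsClosed Z) :
    Set.range (redSubι X Z hZ) = Z := by
  rw [Scheme.IdealSheafData.range_subschemeι, Scheme.IdealSheafData.coe_support_vanishingIdeal]
  rfl

lemma irreducibleSpace_of_isEmbedding {A B : Type*} [TopologicalSpace A] [TopologicalSpace B]
    (f : A → B) (hf : Topology.IsEmbedding f) (h : IsIrreducible (Set.range f)) :
    IrreducibleSpace A := by
  haveI : IrreducibleSpace (Set.range f) := Subtype.irreducibleSpace h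
  exact hf.toHomeomorph.irreducibleSpace_iff.mpr inferInstance

lemma irreducibleSpace_redSub (X : Scheme.{u}) (Z : Set X) (hZ : IsClosed Z)
    (h : IsIrreducible Z) : IrreducibleSpace ↥(redSub X Z hZ) :=
  irreducibleSpace_of_isEmbedding _ (redSubι X Z hZ).isEmbedding (by rwa [range_redSubι])

variable {k : Type u} [Field k] {G X : Over (Spec (CommRingCat.of k))} [GrpObj G]

/-- generizations of the unit lie in the identity component -/
lemma mem_of_specializes (C0 : Set G.left) (hC0 : C0 ∈ irreducibleComponents G.left)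
    (pt : ↥(𝟙_ (Over (Spec (CommRingCat.of k)))).left) (he : η[G].left pt ∈ C0)
    {z : G.left} (hz : z ⤳ η[G].left pt) : z ∈ C0 := by
  obtain ⟨Z, -, huniq⟩ := Grpd22.existsUnique_irreducibleComponent (η[G].left pt)
    (GrpOneGen.oneGen_grp k G _)
  have h1 : irreducibleComponent z = Z := huniq _
    ⟨irreducibleComponent_mem_irreducibleComponents z,
      hz.mem_closed isClosed_irreducibleComponent mem_irreducibleComponent⟩
  have h2 : C0 = Z := huniq _ ⟨hC0, he⟩
  rw [h2, ← h1]
  exact mem_irreducibleComponent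

section C0

variable (C0 : Set G.left) (hC0 : C0 ∈ irreducibleComponents G.left)
  (pt : ↥(𝟙_ (Over (Spec (CommRingCat.of k)))).left) (he : η[G].left pt ∈ C0)

/-- the identity component as a reduced scheme over `k` -/
noncomputable def C0Over (hcl : IsClosed C0) : Over (Spec (CommRingCat.of k)) :=
  Over.mk (redSubι G.left C0 hcl ≫ G.hom)

noncomputable def C0ι (hcl : IsClosed C0) : C0Over C0 hcl ⟶ G :=
  Over.homMk (redSubι G.left C0 hcl) rfl

include hC0 he in
lemma geometricallyIrreducible_C0 (hcl : IsClosed C0) :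
    GeometricallyIrreducible (C0Over C0 hcl).hom := by
  refine ⟨geometrically_iff_of_isClosedUnderIsomorphisms.mpr fun K _ y ↦ ?_⟩
  change IrreducibleSpace ↥(pullback (redSubι G.left C0 hcl ≫ G.hom) y)
  let e := pullbackRightPullbackFstIso G.hom y (redSubι G.left C0 hcl)
  rw [← e.hom.homeomorph.irreducibleSpace_iff]
  let j := pullback.snd (redSubι G.left C0 hcl) (pullback.fst G.hom y)
  haveI : IsClosedImmersion j := inferInstance
  apply irreducibleSpace_of_isEmbedding j j.isEmbedding
  rw [Scheme.Pullback.range_snd, range_redSubι]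
  exact HS3.geomIrr G C0 hC0 pt he y

include hC0 he in
/-- the product of the identity component with an irreducible closed set is irreducible -/
lemma isIrreducible_prod (Y : Set X.left) (hY : IsClosed Y) (hYi : IsIrreducible Y) :
    IsIrreducible ((fst G X).left ⁻¹' C0 ∩ (snd G X).left ⁻¹' Y) := by
  have hcl : IsClosed C0 := isClosed_of_mem_irreducibleComponents C0 hC0
  haveI := geometricallyIrreducible_C0 C0 hC0 pt he hcl
  haveI : IrreducibleSpace ↥(redSub X.left Y hY) := irreducibleSpace_redSub _ _ hY hYi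
  let f1 := redSubι G.left C0 hcl ≫ G.hom
  let f2 := redSubι X.left Y hY ≫ X.hom
  haveI : GeometricallyIrreducible f1 := geometricallyIrreducible_C0 C0 hC0 pt he hcl
  haveI : UniversallyOpen f1 := inferInstance
  haveI : IrreducibleSpace ↥(pullback f1 f2) := inferInstance
  let m := pullback.map f1 f2 G.hom X.hom (redSubι G.left C0 hcl) (redSubι X.left Y hY) (𝟙 _)
    (by simp [f1]) (by simp [f2])
  have hr : Set.range m = (fst G X).left ⁻¹' C0 ∩ (snd G X).left ⁻¹' Y := by
    have := Scheme.Pullback.range_map f1 f2 G.hom X.hom (redSubι G.left C0 hcl)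
      (redSubι X.left Y hY) (𝟙 _) (by simp [f1]) (by simp [f2])
    rw [range_redSubι, range_redSubι] at this
    exact this
  rw [← hr, ← Set.image_univ]
  exact (IrreducibleSpace.isIrreducible_univ _).image _ m.continuous.continuousOn

end C0

variable (a : AlgGrp.Action G X)

/-- the unit section `x ↦ (e, x)` -/
noncomputable def ε : X ⟶ G ⊗ X := lift (toUnit X ≫ η[G]) (𝟙 X)

lemma ε_act : ε (G := G) ≫ a.act = 𝟙 X := by
  have : ε (G := G) ≫ a.act = smul a 1 (𝟙 X) := by
    rw [smul, Hom.one_def]; rfl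
  rw [this, HS2.one_smul]

lemma ε_fst : ε (G := G) (X := X) ≫ fst G X = toUnit X ≫ η[G] := lift_fst _ _

lemma ε_snd : ε (G := G) (X := X) ≫ snd G X = 𝟙 X := lift_snd _ _

instance : Subsingleton ↥(𝟙_ (Over (Spec (CommRingCat.of k)))).left :=
  inferInstanceAs (Subsingleton ↥(Spec (CommRingCat.of k)))

section main

variable (C0 : Set G.left) (hC0 : C0 ∈ irreducibleComponents G.left)
  (pt : ↥(𝟙_ (Over (Spec (CommRingCat.of k)))).left) (he : η[G].left pt ∈ C0)

include hC0 he in
/-- irreducible components are stable under the identity component -/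
theorem stable (Y : Set X.left) (hY : Y ∈ irreducibleComponents X.left) :
    a.act.left '' ((fst G X).left ⁻¹' C0 ∩ (snd G X).left ⁻¹' Y) ⊆ Y := by
  have hYcl : IsClosed Y := isClosed_of_mem_irreducibleComponents Y hY
  have hI := isIrreducible_prod C0 hC0 pt he Y hYcl hY.1
  have hI2 : IsIrreducible (a.act.left '' ((fst G X).left ⁻¹' C0 ∩ (snd G X).left ⁻¹' Y)) :=
    hI.image _ a.act.left.continuous.continuousOn
  have hsub : Y ⊆ a.act.left '' ((fst G X).left ⁻¹' C0 ∩ (snd G X).left ⁻¹' Y) := by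
    intro y hy
    refine ⟨(ε (G := G)).left y, ⟨?_, ?_⟩, ?_⟩
    · have : (ε (G := G) ≫ fst G X).left y = η[G].left pt := by
        rw [ε_fst, Over.comp_left, Scheme.Hom.comp_apply]
        congr 1
        exact Subsingleton.elim _ _
      rw [Set.mem_preimage, ← Scheme.Hom.comp_apply, ← Over.comp_left, this]
      exact he
    · rw [Set.mem_preimage, ← Scheme.Hom.comp_apply, ← Over.comp_left, ε_snd]
      exact hy
    · rw [← Scheme.Hom.comp_apply, ← Over.comp_left, ε_act]
      rfl
  have h3 := hY.2 hI2.closure (hsub.trans subset_closure)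
  exact subset_closure.trans h3

include hC0 in
/-- `C⁰ · U` is open -/
theorem isOpen_mul (U : X.left.Opens) :
    IsOpen (a.act.left '' ((fst G X).left ⁻¹' C0 ∩ (snd G X).left ⁻¹' (U : Set X.left))) := by
  have hcl : IsClosed C0 := isClosed_of_mem_irreducibleComponents C0 hC0
  let C' := C0Over C0 hcl
  let c : C' ⟶ G := C0ι C0 hcl
  let jE : C' ⊗ X ⟶ G ⊗ X := c ▷ X
  have hopen : UniversallyOpen (jE ≫ a.act).left :=
    universallyOpen_translate a c inferInstance
  have hr : Set.range jE.left = (fst G X).left ⁻¹' C0 := by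
    have := Scheme.Pullback.range_map C'.hom X.hom G.hom X.hom c.left (𝟙 _) (𝟙 _)
      (by simp) (by simp)
    have h2 : Set.range c.left = C0 := range_redSubι _ _ hcl
    have h3 : Set.range (𝟙 X.left : X.left ⟶ X.left) = Set.univ :=
      Set.range_eq_univ.mpr fun y => ⟨y, by simp⟩
    rw [h2, h3, Set.preimage_univ, Set.inter_univ] at this
    exact this
  have hV : a.act.left '' ((fst G X).left ⁻¹' C0 ∩ (snd G X).left ⁻¹' (U : Set X.left)) =
      (jE ≫ a.act).left '' ((snd C' X).left ⁻¹' (U : Set X.left)) := by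
    have hsnd : ∀ e' : ↥(C' ⊗ X).left, (snd G X).left (jE.left e') = (snd C' X).left e' := by
      intro e'
      rw [← Scheme.Hom.comp_apply, ← Over.comp_left, whiskerRight_snd]
    ext y
    constructor
    · rintro ⟨w, ⟨hw1, hw2⟩, rfl⟩
      rw [← hr] at hw1
      obtain ⟨e', rfl⟩ := hw1
      refine ⟨e', ?_, ?_⟩
      · rw [Set.mem_preimage, ← hsnd]; exact hw2
      · rw [Over.comp_left, Scheme.Hom.comp_apply]
    · rintro ⟨e', he', rfl⟩
      refine ⟨jE.left e', ⟨?_, ?_⟩, ?_⟩
      · rw [← hr]; exact ⟨e', rfl⟩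
      · rw [Set.mem_preimage, hsnd]; exact he'
      · rw [Over.comp_left, Scheme.Hom.comp_apply]
  rw [hV]
  exact (jE ≫ a.act).left.isOpenMap _ (U.2.preimage (snd C' X).left.continuous)

include hC0 he in
/-- `C⁰ · U` is the union of the irreducible components whose generic point lies in `U` -/
theorem mul_eq_sUnion (hΦ : Surjective (lift a.act (snd G X)).left) (U : X.left.Opens) :
    a.act.left '' ((fst G X).left ⁻¹' C0 ∩ (snd G X).left ⁻¹' (U : Set X.left)) =
      ⋃₀ {Z : Set X.left | Z ∈ irreducibleComponents ↥X.left ∧ ∃ ξ ∈ U, closure {ξ} = Z} := by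
  apply Set.Subset.antisymm
  · rintro _ ⟨w, ⟨hw1, hw2⟩, rfl⟩
    set u := (snd G X).left w with hu
    have hYm := irreducibleComponent_mem_irreducibleComponents u
    have hirr : IsIrreducible (irreducibleComponent u) := isIrreducible_irreducibleComponent
    have hcl : IsClosed (irreducibleComponent u) := isClosed_irreducibleComponent
    have hgen : IsGenericPoint hirr.genericPoint (irreducibleComponent u) := by
      have := hirr.isGenericPoint_genericPoint_closure
      rwa [hcl.closure_eq] at this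
    have hξu : hirr.genericPoint ⤳ u := hgen.specializes mem_irreducibleComponent
    refine ⟨irreducibleComponent u, ⟨hYm, hirr.genericPoint, hξu.mem_open U.2 hw2, hgen.def⟩, ?_⟩
    exact stable a C0 hC0 pt he _ hYm ⟨w, ⟨hw1, mem_irreducibleComponent⟩, rfl⟩
  · rintro x ⟨Y, ⟨hY, ξ, hξU, hξY⟩, hxY⟩
    have hgen : IsGenericPoint ξ Y := hξY
    have hmax : IsMaxPt ξ := Grpd22.isMaxPt_genericPoint hY hgen
    have hs : ξ ⤳ x := hgen.specializes hxY
    obtain ⟨w, hw1, hw2, hw3⟩ := HS4.key a hΦ x ξ hmax hs pt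
    refine ⟨(σ a).left w, ⟨?_, ?_⟩, ?_⟩
    · rw [Set.mem_preimage, ← Scheme.Hom.comp_apply, ← Over.comp_left, σ_fst, Hom.inv_def,
        Over.comp_left, Scheme.Hom.comp_apply]
      apply mem_of_specializes C0 hC0 pt he
      have h1 := hw3.map ι[G].left.continuous
      have h2 : ι[G].left (η[G].left pt) = η[G].left pt := by
        rw [← Scheme.Hom.comp_apply, ← Over.comp_left, GrpObj.one_inv]
      rwa [h2] at h1
    · rw [Set.mem_preimage, ← Scheme.Hom.comp_apply, ← Over.comp_left, σ_snd, hw2]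
      exact hξU
    · rw [← Scheme.Hom.comp_apply, ← Over.comp_left, σ_act, hw1]

/-- in a scheme, a point in the closure of a basic open is a specialization of one of its
points -/
lemma exists_specializes_of_mem_closure_basicOpen {Y : Scheme.{u}} (V : Y.Opens) (f : Γ(Y, V))
    (x : Y) (hxV : x ∈ V) (hx : x ∈ closure (Y.basicOpen f : Set Y)) :
    ∃ y ∈ Y.basicOpen f, y ⤳ x := by
  by_contra hcon
  push Not at hcon
  let fx := Y.presheaf.germ V x hxV f
  have hnil : IsNilpotent fx := by
    rw [← mem_nilradical, nilradical_eq_sInf, Ideal.mem_sInf]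
    intro q hq
    by_contra hfq
    let qq : PrimeSpectrum (Y.presheaf.stalk x) := ⟨q, hq⟩
    have hspec : Y.fromSpecStalk x qq ⤳ x := by
      have : Y.fromSpecStalk x qq ∈ Set.range (Y.fromSpecStalk x) := ⟨_, rfl⟩
      rwa [Scheme.range_fromSpecStalk] at this
    apply hcon _ _ hspec
    have h1 : qq ∈ (Y.fromSpecStalk x) ⁻¹ᵁ (Y.basicOpen f) := by
      rw [Scheme.preimage_basicOpen]
      have h2 : (Y.fromSpecStalk x).app V f =
          (Spec (Y.presheaf.stalk x)).presheaf.map (homOfLE le_top).op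
            ((Scheme.ΓSpecIso (Y.presheaf.stalk x)).inv fx) := by
        rw [Y.fromSpecStalk_app hxV]
        rfl
      rw [h2, Scheme.basicOpen_res, basicOpen_eq_of_affine]
      exact ⟨hspec.mem_open V.2 hxV, hfq⟩
    exact h1
  obtain ⟨n, hn⟩ := hnil
  have hn1 : fx ^ (n + 1) = 0 := by rw [pow_succ, hn, zero_mul]
  have hg : Y.presheaf.germ V x hxV (f ^ (n + 1)) = Y.presheaf.germ V x hxV 0 := by
    rw [map_pow, map_zero]; exact hn1
  obtain ⟨W, hxW, iU, iV, hW⟩ := Y.presheaf.germ_eq x hxV hxV _ _ hg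
  have h3 : W ⊓ Y.basicOpen f = ⊥ := by
    rw [← Y.basicOpen_pow f (Nat.succ_pos n), ← Scheme.basicOpen_res Y (f ^ (n + 1)) iU.op, hW,
      map_zero, Scheme.basicOpen_zero]
  obtain ⟨y, hyW, hyf⟩ := mem_closure_iff.mp hx W W.2 hxW
  have : y ∈ (W ⊓ Y.basicOpen f : Y.Opens) := ⟨hyW, hyf⟩
  rw [h3] at this
  exact this

/-- a point in the closure of a retrocompact open is a specialization of one of its points -/
lemma exists_specializes_of_mem_closure_of_isRetrocompact {Y : Scheme.{u}} (U : Y.Opens)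
    (hU : IsRetrocompact (U : Set Y)) (x : Y) (hx : x ∈ closure (U : Set Y)) :
    ∃ y ∈ U, y ⤳ x := by
  obtain ⟨_, ⟨O, hO, rfl⟩, hxO, -⟩ := Y.isBasis_affineOpens.exists_subset_of_mem_open
    (Set.mem_univ x) isOpen_univ
  have hc : IsCompact ((U : Set Y) ∩ O) := hU hO.isCompact O.2
  have hx' : x ∈ closure ((U : Set Y) ∩ O) := by
    rw [mem_closure_iff]
    intro N hN hxN
    obtain ⟨y, ⟨hyN, hyO⟩, hyU⟩ := mem_closure_iff.mp hx (N ∩ O) (hN.inter O.2) ⟨hxN, hxO⟩
    exact ⟨y, hyN, hyU, hyO⟩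
  have hcov : ∀ p : ↥((U : Set Y) ∩ O), ∃ f : Γ(Y, O), Y.basicOpen f ≤ U ∧ p.1 ∈ Y.basicOpen f :=
    fun p => hO.exists_basicOpen_le (V := U) ⟨p.1, p.2.1⟩ p.2.2
  choose f hf1 hf2 using hcov
  obtain ⟨t, ht⟩ := hc.elim_finite_subcover (fun p => (Y.basicOpen (f p) : Set Y))
    (fun p => (Y.basicOpen (f p)).2) (fun y hy => Set.mem_iUnion.mpr ⟨⟨y, hy⟩, hf2 ⟨y, hy⟩⟩)
  have h1 : x ∈ closure (⋃ p ∈ t, (Y.basicOpen (f p) : Set Y)) := closure_mono ht hx'
  rw [Finset.closure_biUnion] at h1
  obtain ⟨p, -, hp⟩ : ∃ p ∈ t, x ∈ closure (Y.basicOpen (f p) : Set Y) := by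
    simpa using h1
  obtain ⟨y, hy1, hy2⟩ := exists_specializes_of_mem_closure_basicOpen O (f p) x hxO hp
  exact ⟨y, hf1 p hy1, hy2⟩

include hC0 he in
/-- for retrocompact `U`, `C⁰ · U` is the closure of `U` -/
theorem mul_eq_closure (hΦ : Surjective (lift a.act (snd G X)).left) (U : X.left.Opens)
    (hU : IsRetrocompact (U : Set X.left)) :
    a.act.left '' ((fst G X).left ⁻¹' C0 ∩ (snd G X).left ⁻¹' (U : Set X.left)) =
      closure (U : Set X.left) := by
  rw [mul_eq_sUnion a C0 hC0 pt he hΦ U]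
  apply Set.Subset.antisymm
  · rintro x ⟨Z, ⟨-, ξ, hξU, rfl⟩, hxZ⟩
    exact closure_mono (Set.singleton_subset_iff.mpr hξU) hxZ
  · intro x hx
    obtain ⟨y, hyU, hyx⟩ := exists_specializes_of_mem_closure_of_isRetrocompact U hU x hx
    obtain ⟨ξ, hξ, hξy⟩ := Grpd21.exists_isMaxPt y
    exact ⟨closure {ξ}, ⟨GrpTrans.closure_mem_irreducibleComponents hξ, ξ,
      hξy.mem_open U.2 hyU, rfl⟩, specializes_iff_mem_closure.mp (hξy.trans hyx)⟩

end main

end Groth.Agent.Helper2.HS5
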