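import Mathlib
import Groth.Prelude.Def_AlgGrp
import Groth.Agent.S0346
import Groth.Agent.Helper2.Grpd20
import Groth.Agent.Helper2.Grpd21
import Groth.Agent.Helper2.Grpd22
import Groth.Agent.Helper2.GrpOneGen
import Groth.Agent.Helper2.GrpTrans
import Groth.Agent.Helper2.HS2
import Groth.Agent.Helper2.HS3
import Groth.Agent.Helper2.HS4
import Groth.Agent.Helper2.HS5

set_option autoImplicit false
universe u
open CategoryTheory CategoryTheory.Limits MonoidalCategory CartesianMonoidalCategory MonObj GrpObj AlgebraicGeometry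

namespace Groth.Agent.Helper2.HS6

open Groth.Agent.Helper2 Groth.Agent.Helper2.Grpd20 Groth.Agent.Helper2.HS2
open Groth.Agent.Helper2.GrpTrans

variable {k : Type u} [Field k] (G : Over (Spec (CommRingCat.of k))) [GrpObj G]

/-- group schemes over a field are separated -/
instance isSeparated_grp : IsSeparated G.hom := by
  rw [(Groth.Agent.S0346.result _ G).1]
  exact isClosedImmersion_of_comp_eq_id G.hom η[G].left (HS3.unit_section G)

instance quasiSeparatedSpace_grp : QuasiSeparatedSpace ↥G.left :=
  quasiSeparatedSpace_of_quasiSeparated G.hom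

/-- the self action is homogeneous -/
lemma surjective_selfAction : Surjective (lift (selfAction G).act (snd G G)).left := by
  have hiso : IsIso (lift (selfAction G).act (snd G G)) := by
    refine ⟨lift (fst G G * (snd G G)⁻¹) (snd G G), ?_, ?_⟩
    · apply CartesianMonoidalCategory.hom_ext
      · have h1 : (selfAction G).act = fst G G * snd G G := by
          change μ[G] = _
          rw [Hom.mul_def, lift_fst_snd, Category.id_comp]
        simp only [Category.assoc, lift_fst, Category.id_comp]
        rw [MonObj.comp_mul, GrpObj.comp_inv, lift_fst, lift_snd, h1]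
        simp
      · simp
    · apply CartesianMonoidalCategory.hom_ext
      · have h1 : (selfAction G).act = fst G G * snd G G := by
          change μ[G] = _
          rw [Hom.mul_def, lift_fst_snd, Category.id_comp]
        simp only [Category.assoc, lift_fst, Category.id_comp]
        rw [h1, MonObj.comp_mul, lift_fst, lift_snd]
        simp
      · simp
  haveI : IsIso (lift (selfAction G).act (snd G G)).left :=
    (Over.forget _).map_isIso (lift (selfAction G).act (snd G G))
  infer_instance

section C0

variable (C0 : Set G.left) (hC0 : C0 ∈ irreducibleComponents G.left)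
  (pt : ↥(𝟙_ (Over (Spec (CommRingCat.of k)))).left) (he : η[G].left pt ∈ C0)

include hC0 he in
/-- the identity component is stable under inversion -/
lemma inv_mem {z : G.left} (hz : z ∈ C0) : ι[G].left z ∈ C0 := by
  have hcl : IsClosed C0 := isClosed_of_mem_irreducibleComponents C0 hC0
  have hgen : IsGenericPoint hC0.1.genericPoint C0 := by
    have := hC0.1.isGenericPoint_genericPoint_closure
    rwa [hcl.closure_eq] at this
  set ξ := hC0.1.genericPoint
  have h1 : ι[G].left ξ ⤳ η[G].left pt := by
    have := (hgen.specializes he).map ι[G].left.continuous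
    have h2 : ι[G].left (η[G].left pt) = η[G].left pt := by
      rw [← Scheme.Hom.comp_apply, ← Over.comp_left, GrpObj.one_inv]
    rwa [h2] at this
  have h3 : ι[G].left ξ ∈ C0 := HS5.mem_of_specializes C0 hC0 pt he h1
  exact ((hgen.specializes hz).map ι[G].left.continuous).mem_closed hcl h3

include hC0 he in
/-- the identity component is stable under multiplication -/
lemma mul_mem {w : ↥(G ⊗ G).left} (h1 : (fst G G).left w ∈ C0) (h2 : (snd G G).left w ∈ C0) :
    μ[G].left w ∈ C0 :=
  HS5.stable (selfAction G) C0 hC0 pt he C0 hC0 ⟨w, ⟨h1, h2⟩, rfl⟩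

include hC0 he in
/-- every point of the identity component is a product of two points of `U ∩ C0` -/
lemma exists_mul_mem_C0 (U : G.left.Opens) (heU : η[G].left pt ∈ U) (g : G.left) (hg : g ∈ C0) :
    ∃ z : ↥(G ⊗ G).left, μ[G].left z = g ∧ (fst G G).left z ∈ (U : Set G.left) ∩ C0 ∧
      (snd G G).left z ∈ (U : Set G.left) ∩ C0 := by
  have hZT : IsIrreducible ((A G g).left ⁻¹' C0) := by
    have := HS3.geomIrr G C0 hC0 pt he (T G g).hom
    rwa [A, Over.fst_left]
  -- two nonempty relatively open subsets
  have hne1 : ((A G g).left ⁻¹' C0 ∩ (A G g).left ⁻¹' (U : Set G.left)).Nonempty := by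
    obtain ⟨z, hz⟩ := (A G g).left.surjective (η[G].left pt)
    exact ⟨z, by rw [Set.mem_preimage, hz]; exact he, by rw [Set.mem_preimage, hz]; exact heU⟩
  -- the rational point over g
  let gpt : T G g ⟶ G ⊗ T G g := lift (gT G g) (𝟙 _)
  have hB : gpt ≫ B G g = toUnit _ ≫ η[G] := by
    rw [B, MonObj.comp_mul, GrpObj.comp_inv, ← Category.assoc, lift_fst, lift_snd,
      Category.id_comp, inv_mul_cancel, Hom.one_def]
  have hA : gpt ≫ A G g = gT G g := by rw [A, lift_fst]
  have hne2 : ((A G g).left ⁻¹' C0 ∩ (B G g).left ⁻¹' (U : Set G.left)).Nonempty := by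
    let p0 : ↥(T G g).left := IsLocalRing.closedPoint _
    refine ⟨gpt.left p0, ?_, ?_⟩
    · rw [Set.mem_preimage, ← Scheme.Hom.comp_apply, ← Over.comp_left, hA, gT_apply]
      exact hg
    · rw [Set.mem_preimage, ← Scheme.Hom.comp_apply, ← Over.comp_left, hB, Over.comp_left,
        Scheme.Hom.comp_apply]
      have : (toUnit (T G g)).left p0 = pt := Subsingleton.elim _ _
      rw [this]
      exact heU
  obtain ⟨z0, hz0, hz1, hz2⟩ := hZT.2 _ _ (U.2.preimage (A G g).left.continuous)
    (U.2.preimage (B G g).left.continuous) hne1 hne2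
  refine ⟨(ψ G g).left z0, μ_ψ_apply G g z0, ?_, ?_⟩
  · rw [fst_ψ_apply]
    exact ⟨hz1, hz0⟩
  · rw [snd_ψ_apply]
    refine ⟨hz2, ?_⟩
    -- B z0 = (A z0)⁻¹ * g
    let ψ' : G ⊗ T G g ⟶ G ⊗ G := lift ((fst _ _)⁻¹) (snd _ _ ≫ gT G g)
    have hψ' : ψ' ≫ μ[G] = B G g := by
      rw [B, Hom.mul_def]
    have : (B G g).left z0 = μ[G].left (ψ'.left z0) := by
      rw [← Scheme.Hom.comp_apply, ← Over.comp_left, hψ']
    rw [this]
    apply mul_mem G C0 hC0 pt he
    · have h5 : ψ' ≫ fst G G = A G g ≫ ι[G] := by
        rw [lift_fst, A, Hom.inv_def]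
      rw [← Scheme.Hom.comp_apply, ← Over.comp_left, h5, Over.comp_left, Scheme.Hom.comp_apply]
      exact inv_mem G C0 hC0 pt he hz0
    · rw [← Scheme.Hom.comp_apply, ← Over.comp_left, lift_snd, Over.comp_left,
        Scheme.Hom.comp_apply, gT_apply]
      exact hg

include hC0 he in
/-- the identity component is quasi-compact -/
theorem isCompact_C0 : IsCompact C0 := by
  have hcl : IsClosed C0 := isClosed_of_mem_irreducibleComponents C0 hC0
  obtain ⟨U, hU, heU⟩ : ∃ U : G.left.Opens, IsAffineOpen U ∧ η[G].left pt ∈ U := by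
    obtain ⟨_, ⟨U, hU, rfl⟩, heU, -⟩ := G.left.isBasis_affineOpens.exists_subset_of_mem_open
      (Set.mem_univ (η[G].left pt)) isOpen_univ
    exact ⟨U, hU, heU⟩
  let j := pullback.map (U.ι ≫ G.hom) (U.ι ≫ G.hom) G.hom G.hom U.ι U.ι (𝟙 _)
    (by simp) (by simp)
  haveI : IsAffine (U : Scheme) := hU
  have hr : Set.range j = (fst G G).left ⁻¹' (U : Set G.left) ∩ (snd G G).left ⁻¹' (U : Set G.left) := by
    have := Scheme.Pullback.range_map (U.ι ≫ G.hom) (U.ι ≫ G.hom) G.hom G.hom U.ι U.ι (𝟙 _)
      (by simp) (by simp)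
    rw [Scheme.Opens.range_ι] at this
    exact this
  have hc : IsCompact (Set.range j) := isCompact_range j.continuous
  have hK : IsCompact (Set.range j ∩ ((fst G G).left ⁻¹' C0 ∩ (snd G G).left ⁻¹' C0)) :=
    hc.inter_right ((hcl.preimage (fst G G).left.continuous).inter
      (hcl.preimage (snd G G).left.continuous))
  have himg : μ[G].left '' (Set.range j ∩ ((fst G G).left ⁻¹' C0 ∩ (snd G G).left ⁻¹' C0)) = C0 := by
    apply Set.Subset.antisymm
    · rintro _ ⟨w, ⟨-, hw1, hw2⟩, rfl⟩
      exact mul_mem G C0 hC0 pt he hw1 hw2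
    · intro g hg
      obtain ⟨z, hz, ⟨h1, h2⟩, ⟨h3, h4⟩⟩ := exists_mul_mem_C0 G C0 hC0 pt he U heU g hg
      exact ⟨z, ⟨by rw [hr]; exact ⟨h1, h3⟩, h2, h4⟩, hz⟩
  rw [← himg]
  exact hK.image μ[G].left.continuous

include hC0 he in
/-- the connected component of the unit is its irreducible component -/
theorem connectedComponent_eq : connectedComponent (η[G].left pt) = C0 := by
  have hcl : IsClosed C0 := isClosed_of_mem_irreducibleComponents C0 hC0
  apply Set.Subset.antisymm
  · intro g hg
    by_contra hgC
    -- the irreducible component of g is disjoint from C0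
    have hdisj : ∀ p, p ∈ irreducibleComponent g → p ∉ C0 := by
      intro p hp hpC
      obtain ⟨Z, -, huniq⟩ := Grpd22.existsUnique_irreducibleComponent p
        (GrpOneGen.oneGen_grp k G p)
      have h1 : irreducibleComponent g = Z :=
        huniq _ ⟨irreducibleComponent_mem_irreducibleComponents g, hp⟩
      have h2 : C0 = Z := huniq _ ⟨hC0, hpC⟩
      exact hgC (h2 ▸ h1 ▸ mem_irreducibleComponent)
    -- a compact open containing C0 and missing the component of g
    have hcomp := isCompact_C0 G C0 hC0 pt he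
    have hcov : ∀ p : C0, ∃ V : G.left.Opens, IsAffineOpen V ∧ p.1 ∈ V ∧
        (V : Set G.left) ⊆ (irreducibleComponent g)ᶜ := by
      intro p
      obtain ⟨_, ⟨V, hV, rfl⟩, hpV, hsub⟩ := G.left.isBasis_affineOpens.exists_subset_of_mem_open
        (show p.1 ∈ (irreducibleComponent g)ᶜ from fun h => hdisj _ h p.2)
        isClosed_irreducibleComponent.isOpen_compl
      exact ⟨V, hV, hpV, hsub⟩
    choose V hV1 hV2 hV3 using hcov
    obtain ⟨t, ht⟩ := hcomp.elim_finite_subcover (fun p => (V p : Set G.left))
      (fun p => (V p).2) (fun y hy => Set.mem_iUnion.mpr ⟨⟨y, hy⟩, hV2 ⟨y, hy⟩⟩)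
    let U : G.left.Opens := ⨆ p ∈ t, V p
    have hUc : IsCompact (U : Set G.left) := by
      have : (U : Set G.left) = ⋃ p ∈ t, (V p : Set G.left) := by
        simp [U]
      rw [this]
      exact t.isCompact_biUnion fun p _ => (hV1 p).isCompact
    have hCU : C0 ⊆ (U : Set G.left) := by
      intro y hy
      have := ht hy
      simpa [U] using this
    have hUg : (U : Set G.left) ⊆ (irreducibleComponent g)ᶜ := by
      intro y hy
      have : y ∈ ⋃ p ∈ t, (V p : Set G.left) := by simpa [U] using hy
      obtain ⟨p, hp⟩ := Set.mem_iUnion.mp this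
      obtain ⟨-, hp'⟩ := Set.mem_iUnion.mp hp
      exact hV3 p hp'
    have hretro : IsRetrocompact (U : Set G.left) := fun W hW hWo =>
      QuasiSeparatedSpace.inter_isCompact _ _ U.2 hUc hWo hW
    -- the clopen set
    set W := (selfAction G).act.left '' ((fst G G).left ⁻¹' C0 ∩ (snd G G).left ⁻¹' (U : Set G.left))
      with hWdef
    have hWo : IsOpen W := HS5.isOpen_mul (selfAction G) C0 hC0 U
    have hWc : W = closure (U : Set G.left) :=
      HS5.mul_eq_closure (selfAction G) C0 hC0 pt he (surjective_selfAction G) U hretro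
    have hWu := HS5.mul_eq_sUnion (selfAction G) C0 hC0 pt he (surjective_selfAction G) U
    have hclopen : IsClopen W := ⟨hWc ▸ isClosed_closure, hWo⟩
    have heW : η[G].left pt ∈ W := by
      rw [hWc]; exact subset_closure (hCU he)
    have hgW : g ∈ W := hclopen.connectedComponent_subset heW hg
    rw [hWdef, hWu] at hgW
    obtain ⟨Z, ⟨hZ, ξ, hξU, rfl⟩, hgZ⟩ := hgW
    obtain ⟨Z', -, huniq⟩ := Grpd22.existsUnique_irreducibleComponent g
      (GrpOneGen.oneGen_grp k G g)
    have h1 : irreducibleComponent g = Z' :=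
      huniq _ ⟨irreducibleComponent_mem_irreducibleComponents g, mem_irreducibleComponent⟩
    have h2 : closure {ξ} = Z' := huniq _ ⟨hZ, hgZ⟩
    have h3 : ξ ∈ irreducibleComponent g := by
      rw [h1, ← h2]; exact subset_closure rfl
    exact hUg hξU h3
  · exact hC0.1.isConnected.isPreconnected.subset_connectedComponent he

end C0

/-- a connected group scheme over a field is irreducible -/
theorem irreducibleSpace_of_connectedSpace [ConnectedSpace G.left]
    (pt : ↥(𝟙_ (Over (Spec (CommRingCat.of k)))).left) : IrreducibleSpace G.left := by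
  have h1 := connectedComponent_eq G (irreducibleComponent (η[G].left pt))
    (irreducibleComponent_mem_irreducibleComponents _) pt mem_irreducibleComponent
  rw [PreconnectedSpace.connectedComponent_eq_univ] at h1
  have h2 : IsIrreducible (Set.univ : Set G.left) := by
    rw [h1]; exact isIrreducible_irreducibleComponent
  exact (irreducibleSpace_def _).mpr h2

end Groth.Agent.Helper2.HS6
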