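import Mathlib
import Groth.Prelude.Def_CAlgX

set_option autoImplicit false
universe u

namespace Groth.Agent.Helper2.DerExt

open TrivSqZeroExt

section lift

variable {R S : Type u} [CommRing R] [CommRing S] [Algebra R S]

/-- Lifting along an arbitrary square-zero surjection. -/
theorem lift_surj (𝔫 : Ideal S) (h : CAlgX.IsAdicFormallySmooth R S 𝔫)
    {E F : Type u} [CommRing E] [CommRing F] [Algebra R E] [Algebra R F]
    (π : E →ₐ[R] F) (hπ : Function.Surjective π) (hsq : RingHom.ker π ^ 2 = ⊥)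
    (g : S →ₐ[R] F) (hg : ∃ k : ℕ, ∀ x ∈ 𝔫 ^ k, g x = 0) :
    ∃ v : S →ₐ[R] E, π.comp v = g := by
  let e := Ideal.quotientKerAlgEquivOfSurjective hπ
  obtain ⟨k, hk⟩ := hg
  obtain ⟨χ, hχ⟩ := h E (RingHom.ker π) hsq (e.symm.toAlgHom.comp g)
    ⟨k, fun x hx => by
      rw [AlgHom.comp_apply, hk x hx, map_zero]⟩
  refine ⟨χ, ?_⟩
  ext s
  have h1 : (Ideal.Quotient.mkₐ R (RingHom.ker π)) (χ s) = e.symm (g s) := by
    rw [← AlgHom.comp_apply, hχ]; rfl
  have h2 : e (Ideal.Quotient.mkₐ R (RingHom.ker π) (χ s)) = π (χ s) := by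
    rfl
  rw [AlgHom.comp_apply, ← h2, h1, AlgEquiv.apply_symm_apply]

end lift

variable {A : Type u} [CommRing A]

/-- Dual numbers over `B`, with the `A`-algebra structure twisted by the derivation `D`. -/
def TD (B : Type u) [CommRing B] [Algebra A B] (_D : Derivation ℤ A A) : Type u :=
  TrivSqZeroExt B B

variable (B : Type u) [CommRing B] [Algebra A B] (D : Derivation ℤ A A)

noncomputable instance : CommRing (TD B D) := inferInstanceAs (CommRing (TrivSqZeroExt B B))

/-- The element `b + y ε`. -/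
def el (b y : B) : TD B D := (inl b + inr y : TrivSqZeroExt B B)

variable {B D}

/-- first component -/
def fs (x : TD B D) : B := TrivSqZeroExt.fst (x : TrivSqZeroExt B B)
/-- second component -/
def sn (x : TD B D) : B := TrivSqZeroExt.snd (x : TrivSqZeroExt B B)

@[simp] lemma fs_el (b y : B) : fs (el B D b y) = b := by simp [fs, el]
@[simp] lemma sn_el (b y : B) : sn (el B D b y) = y := by simp [sn, el]
@[simp] lemma fs_add (x y : TD B D) : fs (x + y) = fs x + fs y := TrivSqZeroExt.fst_add _ _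
@[simp] lemma sn_add (x y : TD B D) : sn (x + y) = sn x + sn y := TrivSqZeroExt.snd_add _ _
@[simp] lemma fs_sub (x y : TD B D) : fs (x - y) = fs x - fs y := TrivSqZeroExt.fst_sub _ _
@[simp] lemma sn_sub (x y : TD B D) : sn (x - y) = sn x - sn y := TrivSqZeroExt.snd_sub _ _
@[simp] lemma fs_zero : fs (0 : TD B D) = 0 := rfl
@[simp] lemma sn_zero : sn (0 : TD B D) = 0 := rfl
@[simp] lemma fs_one : fs (1 : TD B D) = 1 := rfl
@[simp] lemma sn_one : sn (1 : TD B D) = 0 := rfl
@[simp] lemma fs_mul (x y : TD B D) : fs (x * y) = fs x * fs y := TrivSqZeroExt.fst_mul _ _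
@[simp] lemma sn_mul (x y : TD B D) : sn (x * y) = fs x * sn y + fs y * sn x := by
  have := TrivSqZeroExt.snd_mul (x : TrivSqZeroExt B B) y
  simp only [smul_eq_mul, MulOpposite.smul_eq_mul_unop, MulOpposite.unop_op] at this
  unfold sn fs
  rw [mul_comm (TrivSqZeroExt.fst (y : TrivSqZeroExt B B))]
  exact this

lemma td_ext {x y : TD B D} (h1 : fs x = fs y) (h2 : sn x = sn y) : x = y :=
  TrivSqZeroExt.ext h1 h2

variable (B D)

/-- The structure map `a ↦ a + D(a) ε`. -/
noncomputable def rho : A →+* TD B D where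
  toFun a := el B D (algebraMap A B a) (algebraMap A B (D a))
  map_one' := by
    apply td_ext <;> simp
  map_mul' a a' := by
    apply td_ext
    · simp
    · simp only [sn_el, sn_mul, fs_el, Derivation.leibniz, map_add, smul_eq_mul, map_mul]
  map_zero' := by
    apply td_ext <;> simp
  map_add' a a' := by
    apply td_ext <;> simp

noncomputable instance : Algebra A (TD B D) := (rho B D).toAlgebra

lemma algebraMap_TD (a : A) :
    algebraMap A (TD B D) a = el B D (algebraMap A B a) (algebraMap A B (D a)) := rfl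

/-- The ideal of elements with first component in `I₁` and second component in `I₂`. -/
def NI (I₁ I₂ : Ideal B) (h : I₁ ≤ I₂) : Ideal (TD B D) where
  carrier := {x | fs x ∈ I₁ ∧ sn x ∈ I₂}
  add_mem' := by
    rintro x y ⟨hx1, hx2⟩ ⟨hy1, hy2⟩
    exact ⟨by rw [fs_add]; exact I₁.add_mem hx1 hy1, by rw [sn_add]; exact I₂.add_mem hx2 hy2⟩
  zero_mem' := ⟨by rw [fs_zero]; exact I₁.zero_mem, by rw [sn_zero]; exact I₂.zero_mem⟩
  smul_mem' := by
    rintro c x ⟨hx1, hx2⟩
    refine ⟨?_, ?_⟩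
    · rw [smul_eq_mul, fs_mul]; exact I₁.mul_mem_left _ hx1
    · rw [smul_eq_mul, sn_mul]
      exact I₂.add_mem (I₂.mul_mem_left _ hx2) (I₂.mul_mem_right _ (h hx1))

variable {B D}

lemma mem_NI {I₁ I₂ : Ideal B} {h : I₁ ≤ I₂} {x : TD B D} :
    x ∈ NI B D I₁ I₂ h ↔ fs x ∈ I₁ ∧ sn x ∈ I₂ := Iff.rfl

end Groth.Agent.Helper2.DerExt
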