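import Mathlib
import Groth.Prelude.Def_CAlgX
import Groth.Agent.Helper2.DerExt1

set_option autoImplicit false
universe u

namespace Groth.Agent.Helper2.DerExt

variable {A : Type u} [CommRing A] {B : Type u} [CommRing B] [Algebra A B]
  (D : Derivation ℤ A A) (𝔫 : Ideal B)

/-- `d` is a derivation extending `D` modulo `𝔫^k`. -/
def P (k : ℕ) (d : B → B) : Prop :=
  (∀ b c, d (b + c) - (d b + d c) ∈ 𝔫 ^ k) ∧ (∀ b c, d (b * c) - (b * d c + c * d b) ∈ 𝔫 ^ k) ∧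
    ∀ a, d (algebraMap A B a) - algebraMap A B (D a) ∈ 𝔫 ^ k

/-- The ideal `N_k`. -/
abbrev Nk (k : ℕ) : Ideal (TD B D) := NI B D (𝔫 ^ (k + 1)) (𝔫 ^ k) (Ideal.pow_le_pow_right k.le_succ)

/-- The ideal `N'_k`. -/
abbrev Nk' (k : ℕ) : Ideal (TD B D) := NI B D (𝔫 ^ (k + 1)) (𝔫 ^ (k + 1)) le_rfl

lemma Nk'_le (k : ℕ) : Nk' D 𝔫 k ≤ Nk D 𝔫 k := by
  rintro x ⟨h1, h2⟩
  exact ⟨h1, Ideal.pow_le_pow_right k.le_succ h2⟩

lemma Nk_sq_le (k : ℕ) : Nk D 𝔫 k ^ 2 ≤ Nk' D 𝔫 k := by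
  rw [sq, Ideal.mul_le]
  rintro x ⟨hx1, hx2⟩ y ⟨hy1, hy2⟩
  refine ⟨?_, ?_⟩
  · rw [fs_mul]; exact Ideal.mul_mem_right _ _ hx1
  · rw [sn_mul]
    exact Ideal.add_mem _ (Ideal.mul_mem_right _ _ hx1) (Ideal.mul_mem_right _ _ hy1)

variable {D 𝔫}

lemma P.d_one {k : ℕ} {d : B → B} (hd : P D 𝔫 k d) : d 1 ∈ 𝔫 ^ k := by
  have := hd.2.1 1 1
  simp only [mul_one, one_mul] at this
  have h2 : d 1 = -(d 1 - (d 1 + d 1)) := by ring
  rw [h2]; exact neg_mem this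

lemma P.d_zero {k : ℕ} {d : B → B} (hd : P D 𝔫 k d) : d 0 ∈ 𝔫 ^ k := by
  have := hd.1 0 0
  rw [add_zero] at this
  have h2 : d 0 = -(d 0 - (d 0 + d 0)) := by ring
  rw [h2]; exact neg_mem this

/-- The algebra map attached to an approximate derivation. -/
noncomputable def uOf {k : ℕ} {d : B → B} (hd : P D 𝔫 k d) : B →ₐ[A] TD B D ⧸ Nk D 𝔫 k where
  toFun b := Ideal.Quotient.mk _ (el B D b (d b))
  map_one' := by
    rw [← map_one (Ideal.Quotient.mk (Nk D 𝔫 k)), Ideal.Quotient.eq, mem_NI]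
    refine ⟨by simp, ?_⟩
    rw [sn_sub, sn_el, sn_one, sub_zero]
    exact hd.d_one
  map_mul' b c := by
    rw [← map_mul, Ideal.Quotient.eq, mem_NI]
    refine ⟨by simp, ?_⟩
    rw [sn_sub, sn_el, sn_mul, fs_el, fs_el, sn_el, sn_el]
    exact hd.2.1 b c
  map_zero' := by
    rw [← map_zero (Ideal.Quotient.mk (Nk D 𝔫 k)), Ideal.Quotient.eq, mem_NI]
    refine ⟨by simp, ?_⟩
    rw [sn_sub, sn_el, sn_zero, sub_zero]
    exact hd.d_zero
  map_add' b c := by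
    rw [← map_add, Ideal.Quotient.eq, mem_NI]
    refine ⟨by simp, ?_⟩
    rw [sn_sub, sn_el, sn_add, sn_el, sn_el]
    exact hd.1 b c
  commutes' a := by
    rw [← Ideal.Quotient.mk_algebraMap, algebraMap_TD, Ideal.Quotient.eq, mem_NI]
    refine ⟨by simp, ?_⟩
    rw [sn_sub, sn_el, sn_el]
    exact hd.2.2 a

lemma uOf_apply {k : ℕ} {d : B → B} (hd : P D 𝔫 k d) (b : B) :
    uOf hd b = Ideal.Quotient.mk _ (el B D b (d b)) := rfl

lemma uOf_cont {k : ℕ} {d : B → B} (hd : P D 𝔫 k d) :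
    ∃ K : ℕ, ∀ x ∈ 𝔫 ^ K, uOf hd x = 0 := by
  refine ⟨(k + 1) + (k + 1), fun x hx => ?_⟩
  rw [pow_add] at hx
  refine Submodule.mul_induction_on hx ?_ ?_
  · intro y hy z hz
    rw [map_mul, uOf_apply, uOf_apply, ← map_mul, Ideal.Quotient.eq_zero_iff_mem, mem_NI]
    refine ⟨?_, ?_⟩
    · rw [fs_mul, fs_el, fs_el]; exact Ideal.mul_mem_right _ _ hy
    · rw [sn_mul, fs_el, fs_el, sn_el, sn_el]
      exact Ideal.pow_le_pow_right k.le_succ
        (Ideal.add_mem _ (Ideal.mul_mem_right _ _ hy) (Ideal.mul_mem_right _ _ hz))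
  · intro y z hy hz
    rw [map_add, hy, hz, add_zero]

theorem exists_next (h : CAlgX.IsAdicFormallySmooth A B 𝔫) {k : ℕ} {d : B → B}
    (hd : P D 𝔫 k d) : ∃ d' : B → B, P D 𝔫 (k + 1) d' ∧ ∀ b, d' b - d b ∈ 𝔫 ^ k := by
  have hπ : Function.Surjective (Ideal.Quotient.factorₐ A (Nk'_le D 𝔫 k)) :=
    Ideal.Quotient.factor_surjective (Nk'_le D 𝔫 k)
  have hsq : RingHom.ker (Ideal.Quotient.factorₐ A (Nk'_le D 𝔫 k)) ^ 2 = ⊥ := by
    have : RingHom.ker (Ideal.Quotient.factorₐ A (Nk'_le D 𝔫 k)) =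
        (Nk D 𝔫 k).map (Ideal.Quotient.mk (Nk' D 𝔫 k)) :=
      Ideal.Quotient.factor_ker (Nk'_le D 𝔫 k)
    rw [this, ← Ideal.map_pow, _root_.eq_bot_iff]
    refine (Ideal.map_mono (Nk_sq_le D 𝔫 k)).trans ?_
    rw [Ideal.map_quotient_self]
  obtain ⟨v, hv⟩ := lift_surj 𝔫 h (Ideal.Quotient.factorₐ A (Nk'_le D 𝔫 k)) hπ hsq (uOf hd)
    (uOf_cont hd)
  have key : ∀ b, ∃ y, v b = Ideal.Quotient.mk _ (el B D b y) ∧ y - d b ∈ 𝔫 ^ k := by
    intro b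
    obtain ⟨t, ht⟩ := Ideal.Quotient.mk_surjective (v b)
    have h1 : Ideal.Quotient.mk (Nk D 𝔫 k) t = Ideal.Quotient.mk _ (el B D b (d b)) := by
      have := congrArg (fun f => f b) hv
      simp only [AlgHom.comp_apply] at this
      rw [← ht] at this
      exact this
    rw [Ideal.Quotient.eq, mem_NI, fs_sub, sn_sub, fs_el, sn_el] at h1
    refine ⟨sn t, ?_, h1.2⟩
    rw [← ht, Ideal.Quotient.eq, mem_NI, fs_sub, sn_sub, fs_el, sn_el, sub_self]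
    exact ⟨h1.1, Ideal.zero_mem _⟩
  choose d' hd'1 hd'2 using key
  refine ⟨d', ⟨?_, ?_, ?_⟩, hd'2⟩
  · intro b c
    have := map_add v b c
    rw [hd'1, hd'1, hd'1, ← map_add, Ideal.Quotient.eq, mem_NI] at this
    have h2 := this.2
    rw [sn_sub, sn_el, sn_add, sn_el, sn_el] at h2
    exact h2
  · intro b c
    have := map_mul v b c
    rw [hd'1, hd'1, hd'1, ← map_mul, Ideal.Quotient.eq, mem_NI] at this
    have h2 := this.2
    rw [sn_sub, sn_el, sn_mul, fs_el, fs_el, sn_el, sn_el] at h2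
    exact h2
  · intro a
    have := v.commutes a
    rw [hd'1, ← Ideal.Quotient.mk_algebraMap, algebraMap_TD, Ideal.Quotient.eq,
      mem_NI] at this
    have h2 := this.2
    rw [sn_sub, sn_el, sn_el] at h2
    exact h2

end Groth.Agent.Helper2.DerExt
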