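import Mathlib
import Groth.Prelude.Def_CAlgX
import Groth.Agent.Helper2.DerExt2

set_option autoImplicit false
universe u

namespace Groth.Agent.Helper2.DerExt

variable {A : Type u} [CommRing A] {B : Type u} [CommRing B] [Algebra A B]
  (D : Derivation ℤ A A) (𝔫 : Ideal B)

lemma mem_smul_top_iff (k : ℕ) (x : B) : x ∈ (𝔫 ^ k • ⊤ : Submodule B B) ↔ x ∈ 𝔫 ^ k := by
  rw [smul_eq_mul, Ideal.mul_top]

lemma eq_zero_of_forall_mem [IsHausdorff 𝔫 B] (x : B) (h : ∀ k, x ∈ 𝔫 ^ k) : x = 0 := by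
  apply IsHausdorff.haus' (I := 𝔫) x
  intro n
  rw [SModEq.sub_mem, sub_zero, mem_smul_top_iff]
  exact h n

theorem exists_derivation (h : CAlgX.IsAdicFormallySmooth A B 𝔫) [IsAdicComplete 𝔫 B] :
    ∃ D' : Derivation ℤ B B, ∀ a : A, D' (algebraMap A B a) = algebraMap A B (D a) := by
  classical
  have hP0 : P D 𝔫 0 (fun _ => 0) := by
    refine ⟨fun _ _ => ?_, fun _ _ => ?_, fun _ => ?_⟩ <;> simp
  let seq : (k : ℕ) → {d : B → B // P D 𝔫 k d} := fun k =>
    Nat.rec ⟨fun _ => 0, hP0⟩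
      (fun _ x => ⟨(exists_next h x.2).choose, (exists_next h x.2).choose_spec.1⟩) k
  have hseq : ∀ k b, (seq (k + 1)).1 b - (seq k).1 b ∈ 𝔫 ^ k := fun k b =>
    (exists_next h (seq k).2).choose_spec.2 b
  have hcau0 : ∀ b (m j : ℕ), (seq m).1 b - (seq (m + j)).1 b ∈ 𝔫 ^ m := by
    intro b m j
    induction j with
    | zero => rw [add_zero, sub_self]; exact Ideal.zero_mem _
    | succ j ih =>
      have h1 := hseq (m + j) b
      have h2 : (seq (m + j + 1)).1 b - (seq (m + j)).1 b ∈ 𝔫 ^ m :=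
        Ideal.pow_le_pow_right (Nat.le_add_right m j) h1
      have : (seq m).1 b - (seq (m + (j + 1))).1 b =
          ((seq m).1 b - (seq (m + j)).1 b) - ((seq (m + j + 1)).1 b - (seq (m + j)).1 b) := by
        rw [← add_assoc]; ring
      rw [this]
      exact Ideal.sub_mem _ ih h2
  have hcau : ∀ b {m n : ℕ}, m ≤ n →
      (seq m).1 b ≡ (seq n).1 b [SMOD (𝔫 ^ m • ⊤ : Submodule B B)] := by
    intro b m n hmn
    obtain ⟨j, rfl⟩ := Nat.exists_eq_add_of_le hmn
    rw [SModEq.sub_mem, mem_smul_top_iff]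
    exact hcau0 b m j
  have hex : ∀ b, ∃ L : B, ∀ n, (seq n).1 b - L ∈ 𝔫 ^ n := by
    intro b
    obtain ⟨L, hL⟩ := IsPrecomplete.prec (I := 𝔫) inferInstance (hcau b)
    refine ⟨L, fun n => ?_⟩
    have := hL n
    rw [SModEq.sub_mem, mem_smul_top_iff] at this
    exact this
  choose L hL using hex
  have hadd : ∀ b c, L (b + c) = L b + L c := by
    intro b c
    rw [← sub_eq_zero]
    apply eq_zero_of_forall_mem 𝔫
    intro k
    have e : L (b + c) - (L b + L c) =
        -((seq k).1 (b + c) - L (b + c)) + ((seq k).1 b - L b) + ((seq k).1 c - L c) +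
          ((seq k).1 (b + c) - ((seq k).1 b + (seq k).1 c)) := by ring
    rw [e]
    exact Ideal.add_mem _ (Ideal.add_mem _ (Ideal.add_mem _ (neg_mem (hL _ k)) (hL _ k)) (hL _ k))
      ((seq k).2.1 b c)
  have hmul : ∀ b c, L (b * c) = b * L c + c * L b := by
    intro b c
    rw [← sub_eq_zero]
    apply eq_zero_of_forall_mem 𝔫
    intro k
    have e : L (b * c) - (b * L c + c * L b) =
        -((seq k).1 (b * c) - L (b * c)) + b * ((seq k).1 c - L c) + c * ((seq k).1 b - L b) +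
          ((seq k).1 (b * c) - (b * (seq k).1 c + c * (seq k).1 b)) := by ring
    rw [e]
    exact Ideal.add_mem _ (Ideal.add_mem _ (Ideal.add_mem _ (neg_mem (hL _ k))
      (Ideal.mul_mem_left _ _ (hL _ k))) (Ideal.mul_mem_left _ _ (hL _ k)))
      ((seq k).2.2.1 b c)
  have hA : ∀ a, L (algebraMap A B a) = algebraMap A B (D a) := by
    intro a
    rw [← sub_eq_zero]
    apply eq_zero_of_forall_mem 𝔫
    intro k
    have e : L (algebraMap A B a) - algebraMap A B (D a) =
        -((seq k).1 (algebraMap A B a) - L (algebraMap A B a)) +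
          ((seq k).1 (algebraMap A B a) - algebraMap A B (D a)) := by ring
    rw [e]
    exact Ideal.add_mem _ (neg_mem (hL _ k)) ((seq k).2.2.2 a)
  let Lhom : B →+ B := AddMonoidHom.mk' L hadd
  refine ⟨Derivation.mk' Lhom.toIntLinearMap (fun b c => ?_), fun a => ?_⟩
  · show L (b * c) = b • L c + c • L b
    rw [hmul, smul_eq_mul, smul_eq_mul]
  · exact hA a

end Groth.Agent.Helper2.DerExt
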