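import Mathlib
open CategoryTheory Limits
universe w v₁ u₁

namespace Groth.Agent.Helper2.Desc

variable {C : Type u₁} [Category.{v₁} C]

/-- abbreviation: universal effective epimorphisms -/
abbrev UEE (C : Type u₁) [Category.{v₁} C] : MorphismProperty C :=
  MorphismProperty.universally (fun (A B : C) (p : A ⟶ B) => EffectiveEpi p)

lemma UEE.effectiveEpi {X Y : C} {p : X ⟶ Y} (hp : UEE C p) : EffectiveEpi p :=
  hp (𝟙 X) (𝟙 Y) p IsPullback.of_id_snd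

lemma UEE.epi {X Y : C} {p : X ⟶ Y} (hp : UEE C p) : Epi p := by
  have := hp.effectiveEpi
  infer_instance

lemma UEE.of_isPullback {X Y X' Y' : C} {p : X ⟶ Y} (hp : UEE C p) {p' : X' ⟶ Y'} {i₁ : X' ⟶ X}
    {i₂ : Y' ⟶ Y} (h : IsPullback p' i₁ i₂ p) : UEE C p' := by
  intro X'' Y'' k₁ k₂ f'' hpb2
  exact hp _ _ _ (hpb2.paste_vert h)

variable [HasPullbacks C]

lemma UEE.fst {X Y Z : C} {p : X ⟶ Y} (hp : UEE C p) (a : Z ⟶ Y) : UEE C (pullback.fst a p) :=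
  hp.of_isPullback (IsPullback.of_hasPullback a p)

lemma UEE.snd {X Y Z : C} {p : X ⟶ Y} (hp : UEE C p) (a : Z ⟶ Y) : UEE C (pullback.snd p a) :=
  hp.of_isPullback (IsPullback.of_hasPullback p a).flip

/-- Descent of monomorphisms along a universal effective epimorphism. -/
lemma mono_of_isPullback {X Y X' Y' : C} {g : X ⟶ Y} {p : Y' ⟶ Y} {g' : X' ⟶ Y'} {q : X' ⟶ X}
    (hpb : IsPullback g' q p g) (hp : UEE C p) [Mono g'] : Mono g := by
  constructor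
  intro Z a b hab
  have hq := (hp.fst (a ≫ g)).epi
  -- Z' = pullback (a ≫ g) p
  set r := pullback.fst (a ≫ g) p with hr
  set t := pullback.snd (a ≫ g) p with ht
  have c : r ≫ a ≫ g = t ≫ p := pullback.condition
  have ha' : ∃ a' : pullback (a ≫ g) p ⟶ X', a' ≫ g' = t ∧ a' ≫ q = r ≫ a :=
    ⟨hpb.lift t (r ≫ a) (by rw [Category.assoc, c]), hpb.lift_fst _ _ _, hpb.lift_snd _ _ _⟩
  have hb' : ∃ b' : pullback (a ≫ g) p ⟶ X', b' ≫ g' = t ∧ b' ≫ q = r ≫ b :=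
    ⟨hpb.lift t (r ≫ b) (by rw [Category.assoc, ← hab, c]), hpb.lift_fst _ _ _, hpb.lift_snd _ _ _⟩
  obtain ⟨a', ha1, ha2⟩ := ha'
  obtain ⟨b', hb1, hb2⟩ := hb'
  have : a' = b' := by rw [← cancel_mono g', ha1, hb1]
  rw [← cancel_epi r, ← ha2, ← hb2, this]

/-- Descent of isomorphisms along a universal effective epimorphism. -/
lemma isIso_of_isPullback {X Y X' Y' : C} {g : X ⟶ Y} {p : Y' ⟶ Y} {g' : X' ⟶ Y'} {q : X' ⟶ X}
    (hpb : IsPullback g' q p g) (hp : UEE C p) [IsIso g'] : IsIso g := by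
  have hmono : Mono g := mono_of_isPullback hpb hp
  have hpe := hp.effectiveEpi
  have hpepi := hp.epi
  obtain ⟨s', hs'g⟩ : ∃ s' : Y' ⟶ X, s' ≫ g = p :=
    ⟨inv g' ≫ q, by rw [Category.assoc, ← hpb.w, IsIso.inv_hom_id_assoc]⟩
  have hco : ∀ {Z : C} (a₁ a₂ : Z ⟶ Y'), a₁ ≫ p = a₂ ≫ p → a₁ ≫ s' = a₂ ≫ s' := by
    intro Z a₁ a₂ h
    rw [← cancel_mono g, Category.assoc, Category.assoc, hs'g, h]
  set s := EffectiveEpi.desc p s' hco with hs
  have hps : p ≫ s = s' := EffectiveEpi.fac p s' hco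
  have h1 : s ≫ g = 𝟙 Y := by
    rw [← cancel_epi p, ← Category.assoc, hps, hs'g, Category.comp_id]
  have h2 : g ≫ s = 𝟙 X := by
    rw [← cancel_mono g, Category.assoc, h1, Category.comp_id, Category.id_comp]
  exact ⟨s, h2, h1⟩

omit [HasPullbacks C] in
/-- Descent of morphisms to a subobject. -/
lemma exists_desc_of_mono {X X' Y B : C} {p : X' ⟶ X} (hp : UEE C p) (y : Y ⟶ B) [Mono y]
    (x : X ⟶ B) (h : X' ⟶ Y) (hh : h ≫ y = p ≫ x) : ∃ k : X ⟶ Y, k ≫ y = x ∧ p ≫ k = h := by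
  have hpe := hp.effectiveEpi
  have hpepi := hp.epi
  have hco : ∀ {Z : C} (a₁ a₂ : Z ⟶ X'), a₁ ≫ p = a₂ ≫ p → a₁ ≫ h = a₂ ≫ h := by
    intro Z a₁ a₂ ha
    rw [← cancel_mono y, Category.assoc, Category.assoc, hh, ← Category.assoc, ha, Category.assoc]
  refine ⟨EffectiveEpi.desc p h hco, ?_, EffectiveEpi.fac p h hco⟩
  rw [← cancel_epi p, ← Category.assoc, EffectiveEpi.fac p h hco, hh]

end Groth.Agent.Helper2.Desc
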