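import Mathlib
import Groth.Agent.Helper3.HensGabber
set_option autoImplicit false

/-!
# A direct limit of henselian pairs is a henselian pair
-/

universe u

namespace Groth.Agent.Helper2.DirLimHens

open Polynomial

variable {ι : Type u} [Preorder ι] [IsDirectedOrder ι] [Nonempty ι]
  (B : ι → Type u) [∀ i, CommRing (B i)] (g : ∀ i j : ι, i ≤ j → (B i →+* B j))
  [DirectedSystem B (fun i j h => g i j h)] (K : ∀ i, Ideal (B i))
  (hK : ∀ (i j : ι) (h : i ≤ j), (K i).map (g i j h) ≤ K j)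

include hK in
theorem exists_of_mem (x : DirectLimit B g)
    (hx : x ∈ ⨆ i, (K i).map (DirectLimit.Ring.of B g i)) :
    ∃ (m : ι) (y : B m), y ∈ K m ∧ DirectLimit.Ring.of B g m y = x := by
  have hadd : ∀ x₁ x₂ : DirectLimit B g,
      (∃ (m : ι) (y : B m), y ∈ K m ∧ DirectLimit.Ring.of B g m y = x₁) →
      (∃ (m : ι) (y : B m), y ∈ K m ∧ DirectLimit.Ring.of B g m y = x₂) →
      ∃ (m : ι) (y : B m), y ∈ K m ∧ DirectLimit.Ring.of B g m y = x₁ + x₂ := by
    rintro _ _ ⟨m₁, y₁, hy₁, rfl⟩ ⟨m₂, y₂, hy₂, rfl⟩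
    obtain ⟨m, h1, h2⟩ := exists_ge_ge m₁ m₂
    refine ⟨m, g m₁ m h1 y₁ + g m₂ m h2 y₂, ?_, ?_⟩
    · exact Ideal.add_mem _ (hK m₁ m h1 (Ideal.mem_map_of_mem _ hy₁))
        (hK m₂ m h2 (Ideal.mem_map_of_mem _ hy₂))
    · rw [map_add, DirectLimit.Ring.of_f, DirectLimit.Ring.of_f]
  refine Submodule.iSup_induction (fun i => (K i).map (DirectLimit.Ring.of B g i))
    (motive := fun x => ∃ (m : ι) (y : B m), y ∈ K m ∧ DirectLimit.Ring.of B g m y = x) hx
    ?_ ?_ hadd
  · intro i x hx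
    refine Submodule.span_induction (p := fun x _ =>
      ∃ (m : ι) (y : B m), y ∈ K m ∧ DirectLimit.Ring.of B g m y = x) ?_ ?_ ?_ ?_ hx
    · rintro _ ⟨y, hy, rfl⟩
      exact ⟨i, y, hy, rfl⟩
    · exact ⟨i, 0, Ideal.zero_mem _, map_zero _⟩
    · intro x₁ x₂ _ _ h1 h2
      exact hadd x₁ x₂ h1 h2
    · rintro l x _ ⟨m, y, hy, rfl⟩
      induction l using DirectLimit.induction with | _ j b
      obtain ⟨n, h1, h2⟩ := exists_ge_ge j m
      refine ⟨n, g j n h1 b * g m n h2 y, ?_, ?_⟩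
      · exact Ideal.mul_mem_left _ _ (hK m n h2 (Ideal.mem_map_of_mem _ hy))
      · rw [map_mul, DirectLimit.Ring.of_f, DirectLimit.Ring.of_f]
        rfl
  · exact ⟨Classical.arbitrary ι, 0, Ideal.zero_mem _, map_zero _⟩

include hK in
theorem henselianRing_directLimit [∀ i, HenselianRing (B i) (K i)] :
    HenselianRing (DirectLimit B g) (⨆ i, (K i).map (DirectLimit.Ring.of B g i)) := by
  have hjac : (⨆ i, (K i).map (DirectLimit.Ring.of B g i)) ≤
      Ideal.jacobson (⊥ : Ideal (DirectLimit B g)) := by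
    intro x hx
    obtain ⟨m, y, hy, rfl⟩ := exists_of_mem B g K hK x hx
    rw [Ideal.mem_jacobson_bot]
    intro l
    induction l using DirectLimit.induction with | _ j b
    obtain ⟨n, h1, h2⟩ := exists_ge_ge j m
    have hmem : g m n h2 y ∈ Ideal.jacobson (⊥ : Ideal (B n)) :=
      (HenselianRing.jac (R := B n) (I := K n)) (hK m n h2 (Ideal.mem_map_of_mem _ hy))
    have hu := Ideal.mem_jacobson_bot.mp hmem (g j n h1 b)
    have := hu.map (DirectLimit.Ring.of B g n)
    rw [map_add, map_mul, map_one, DirectLimit.Ring.of_f, DirectLimit.Ring.of_f] at this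
    exact this
  refine Groth.Agent.Helper3.HensGabber.hens_of_gab _ hjac ?_
  intro n hn p hp hpI
  choose m₀ y₀ hy₀ hy₀' using fun k : Fin (n + 1) =>
    exists_of_mem B g K hK (p.coeff k) (hpI k)
  obtain ⟨m, hm⟩ := Finite.exists_le m₀
  let y : ℕ → B m := fun k => if hk : k < n + 1 then g (m₀ ⟨k, hk⟩) m (hm ⟨k, hk⟩) (y₀ ⟨k, hk⟩) else 0
  have hyK : ∀ k, y k ∈ K m := by
    intro k
    simp only [y]
    split_ifs with hk
    · exact hK _ m (hm ⟨k, hk⟩) (Ideal.mem_map_of_mem _ (hy₀ ⟨k, hk⟩))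
    · exact Ideal.zero_mem _
  have hyp : ∀ k, DirectLimit.Ring.of B g m (y k) = p.coeff k := by
    intro k
    simp only [y]
    split_ifs with hk
    · rw [DirectLimit.Ring.of_f]
      exact hy₀' ⟨k, hk⟩
    · rw [map_zero]
      exact (coeff_eq_zero_of_natDegree_lt (by omega)).symm
  let P : (B m)[X] := ∑ k ∈ Finset.range (n + 1), C (y k) * X ^ k
  have hPcoeff : ∀ k, P.coeff k = if k < n + 1 then y k else 0 := by
    intro k
    simp only [P, finset_sum_coeff, coeff_C_mul_X_pow]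
    rw [Finset.sum_ite_eq (Finset.range (n + 1)) k (fun j => y j)]
    simp only [Finset.mem_range]
  have hPK : ∀ k, P.coeff k ∈ K m := by
    intro k
    rw [hPcoeff]
    split_ifs
    · exact hyK k
    · exact Ideal.zero_mem _
  have hPdeg : P.natDegree ≤ n := by
    rw [natDegree_le_iff_coeff_eq_zero]
    intro k hk
    rw [hPcoeff, if_neg (by omega)]
  have hPmap : P.map (DirectLimit.Ring.of B g m) = p := by
    ext k
    rw [coeff_map, hPcoeff]
    split_ifs with hk
    · exact hyp k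
    · rw [map_zero]
      exact (coeff_eq_zero_of_natDegree_lt (by omega)).symm
  obtain ⟨α, hα1, hα⟩ := Groth.Agent.Helper3.HensGabber.gab_of_hens (K m) n hn P hPdeg hPK
  refine ⟨DirectLimit.Ring.of B g m α, ?_, ?_⟩
  · have : DirectLimit.Ring.of B g m α - 1 = DirectLimit.Ring.of B g m (α - 1) := by
      rw [map_sub, map_one]
    rw [this]
    exact (le_iSup (fun i => (K i).map (DirectLimit.Ring.of B g i)) m) (Ideal.mem_map_of_mem _ hα1)
  · have h2 : (X ^ n * (X - 1) + p : (DirectLimit B g)[X]) =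
        (X ^ n * (X - 1) + P : (B m)[X]).map (DirectLimit.Ring.of B g m) := by
      rw [← hPmap]
      simp
    rw [IsRoot.def] at hα ⊢
    rw [h2, eval_map, eval₂_hom, hα, map_zero]

end Groth.Agent.Helper2.DirLimHens
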