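import Mathlib
import Groth.Prelude
import Groth.Agent.Helper2.DirLimHens
set_option autoImplicit false

/-!
# S9330: henselization of pairs commutes with direct limits
-/

universe u

namespace Groth.Agent.Helper2.DirLimHens

open Polynomial

theorem s9330 {ι : Type u} [Preorder ι] [IsDirectedOrder ι] [Nonempty ι]
    (G : ι → Type u) [∀ i, CommRing (G i)] (f : ∀ i j : ι, i ≤ j → (G i →+* G j))
    [DirectedSystem G (fun i j h => f i j h)] (I : ∀ i, Ideal (G i))
    (hI : ∀ (i j : ι) (h : i ≤ j), (I i).map (f i j h) ≤ I j)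
    (B : ι → Type u) [∀ i, CommRing (B i)] [∀ i, Algebra (G i) (B i)]
    (hB : ∀ i, Hens2.IsPairHenselization (G i) (I i) (B i))
    (g : ∀ i j : ι, i ≤ j → (B i →+* B j)) [DirectedSystem B (fun i j h => g i j h)]
    (hg : ∀ (i j : ι) (h : i ≤ j), (g i j h).comp (algebraMap (G i) (B i)) =
      (algebraMap (G j) (B j)).comp (f i j h))
    [Algebra (DirectLimit G f) (DirectLimit B g)]
    (halg : ∀ (i : ι) (x : G i), algebraMap (DirectLimit G f) (DirectLimit B g)
      (DirectLimit.Ring.of G f i x) = DirectLimit.Ring.of B g i (algebraMap (G i) (B i) x)) :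
    Hens2.IsPairHenselization (DirectLimit G f) (⨆ i, (I i).map (DirectLimit.Ring.of G f i))
      (DirectLimit B g) := by
  have halg' : ∀ i, (algebraMap (DirectLimit G f) (DirectLimit B g)).comp (DirectLimit.Ring.of G f i) =
      (DirectLimit.Ring.of B g i).comp (algebraMap (G i) (B i)) := fun i => RingHom.ext (halg i)
  let K : ∀ i, Ideal (B i) := fun i => (I i).map (algebraMap (G i) (B i))
  have hK : ∀ (i j : ι) (h : i ≤ j), (K i).map (g i j h) ≤ K j := by
    intro i j h
    show ((I i).map (algebraMap (G i) (B i))).map (g i j h) ≤ (I j).map (algebraMap (G j) (B j))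
    rw [Ideal.map_map, hg, ← Ideal.map_map]
    exact Ideal.map_mono (hI i j h)
  haveI : ∀ i, HenselianRing (B i) (K i) := fun i => (hB i).1
  have hens := henselianRing_directLimit B g K hK
  have hideal : (⨆ i, (I i).map (DirectLimit.Ring.of G f i)).map
      (algebraMap (DirectLimit G f) (DirectLimit B g)) =
      ⨆ i, (K i).map (DirectLimit.Ring.of B g i) := by
    rw [Ideal.map_iSup]
    refine iSup_congr fun i => ?_
    rw [Ideal.map_map, halg', ← Ideal.map_map]
  refine ⟨hideal ▸ hens, ?_⟩
  intro D _ J' φ hD hφ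
  have hφi : ∀ i, (I i).map (φ.comp (DirectLimit.Ring.of G f i)) ≤ J' := by
    intro i
    rw [← Ideal.map_map]
    exact (Ideal.map_mono (le_iSup (fun i => (I i).map (DirectLimit.Ring.of G f i)) i)).trans hφ
  choose ψ hψ hψuniq using fun i => (hB i).2 D J' (φ.comp (DirectLimit.Ring.of G f i)) hD (hφi i)
  have compat : ∀ (i j : ι) (h : i ≤ j) (x : B i), ψ j (g i j h x) = ψ i x := by
    intro i j h x
    have : (ψ j).comp (g i j h) = ψ i := by
      apply hψuniq i
      show ((ψ j).comp (g i j h)).comp (algebraMap (G i) (B i)) = _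
      rw [RingHom.comp_assoc, hg, ← RingHom.comp_assoc, hψ j]
      ext y
      simp only [RingHom.comp_apply]
      rw [DirectLimit.Ring.of_f]
    exact congr($this x)
  refine ⟨DirectLimit.Ring.lift B g D ψ compat, ?_, ?_⟩
  · apply DirectLimit.Ring.hom_ext
    intro i
    ext x
    simp only [RingHom.comp_apply]
    rw [halg, DirectLimit.Ring.lift_of]
    exact congr($(hψ i) x)
  · intro Ψ' hΨ'
    have hΨ'x : ∀ z, Ψ' (algebraMap (DirectLimit G f) (DirectLimit B g) z) = φ z :=
      fun z => congr($hΨ' z)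
    apply DirectLimit.Ring.hom_ext
    intro i
    rw [DirectLimit.Ring.lift_comp_of]
    apply hψuniq i
    ext x
    show Ψ' (DirectLimit.Ring.of B g i (algebraMap (G i) (B i) x)) = _
    rw [← halg, hΨ'x]
    rfl

end Groth.Agent.Helper2.DirLimHens
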