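import Mathlib
set_option autoImplicit false

/-!
# Algebra maps from finitely presented algebras into direct limits
-/

universe u

namespace Groth.Agent.Helper2.DirLimHom

open Polynomial

variable {A : Type u} [CommRing A]
  {κ : Type u} [Preorder κ] [IsDirectedOrder κ] [Nonempty κ]
  (Ra : κ → Type u) [∀ a, CommRing (Ra a)] [∀ a, Algebra A (Ra a)]
  (t : ∀ a b : κ, a ≤ b → (Ra a →+* Ra b)) [DirectedSystem Ra (fun a b h => t a b h)]
  (ht : ∀ (a b : κ) (h : a ≤ b), (t a b h).comp (algebraMap A (Ra a)) = algebraMap A (Ra b))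
  [Algebra A (DirectLimit Ra t)]
  (halg : ∀ (a : κ) (x : A), algebraMap A (DirectLimit Ra t) x =
      DirectLimit.Ring.of Ra t a (algebraMap A (Ra a) x))

/-- transition maps as algebra homs -/
def tA (a b : κ) (h : a ≤ b) : Ra a →ₐ[A] Ra b :=
  { t a b h with commutes' := fun x => congr($(ht a b h) x) }

/-- the canonical maps as algebra homs -/
noncomputable def ofA (a : κ) : Ra a →ₐ[A] DirectLimit Ra t :=
  { DirectLimit.Ring.of Ra t a with commutes' := fun x => (halg a x).symm }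

theorem exists_of_eq {a : κ} (x y : Ra a)
    (h : DirectLimit.Ring.of Ra t a x = DirectLimit.Ring.of Ra t a y) :
    ∃ (b : κ) (hab : a ≤ b), t a b hab x = t a b hab y := by
  obtain ⟨b, h1, h2, hb⟩ := Quotient.exact h
  exact ⟨b, h1, hb⟩

theorem exists_common_eq {a : κ} {l : Type*} [Finite l] (x y : l → Ra a)
    (h : ∀ k, DirectLimit.Ring.of Ra t a (x k) = DirectLimit.Ring.of Ra t a (y k)) :
    ∃ (b : κ) (hab : a ≤ b), ∀ k, t a b hab (x k) = t a b hab (y k) := by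
  choose b₀ hab₀ hb₀ using fun k => exists_of_eq Ra t (x k) (y k) (h k)
  obtain ⟨b, hb⟩ := Finite.exists_le b₀
  obtain ⟨b', h1, h2⟩ := exists_ge_ge a b
  refine ⟨b', h1, fun k => ?_⟩
  have e1 : ∀ z : Ra a, t a b' h1 z = t (b₀ k) b' ((hb k).trans h2) (t a (b₀ k) (hab₀ k) z) :=
    fun z => (DirectedSystem.map_map' (f := fun a b h => t a b h) (hab₀ k) ((hb k).trans h2) z).symm
  rw [e1, e1, hb₀]

theorem exists_of_family {l : Type*} [Finite l] (z : l → DirectLimit Ra t) :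
    ∃ (a : κ) (y : l → Ra a), ∀ k, DirectLimit.Ring.of Ra t a (y k) = z k := by
  choose a₀ y₀ hy₀ using fun k => DirectLimit.exists_eq_mk (f := fun a b h => t a b h) (z k)
  obtain ⟨a, ha⟩ := Finite.exists_le a₀
  refine ⟨a, fun k => t (a₀ k) a (ha k) (y₀ k), fun k => ?_⟩
  rw [DirectLimit.Ring.of_f, hy₀ k]
  rfl

include ht halg in
theorem exists_factor (R₀ : Type u) [CommRing R₀] [Algebra A R₀] [Algebra.FinitePresentation A R₀]
    (χ₀ : R₀ →ₐ[A] DirectLimit Ra t) :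
    ∃ (a : κ) (ρ : R₀ →ₐ[A] Ra a), ∀ x, DirectLimit.Ring.of Ra t a (ρ x) = χ₀ x := by
  classical
  obtain ⟨n, f, hfsurj, hfker⟩ := Algebra.FinitePresentation.out (R := A) (A := R₀)
  obtain ⟨a₀, y, hy⟩ := exists_of_family Ra t (fun k : Fin n => χ₀ (f (MvPolynomial.X k)))
  let ρ₀ : MvPolynomial (Fin n) A →ₐ[A] Ra a₀ := MvPolynomial.aeval y
  have key : (ofA Ra t halg a₀).comp ρ₀ = χ₀.comp f := by
    apply MvPolynomial.algHom_ext
    intro k
    show DirectLimit.Ring.of Ra t a₀ (ρ₀ (MvPolynomial.X k)) = χ₀ (f (MvPolynomial.X k))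
    rw [MvPolynomial.aeval_X, hy]
  have key' : ∀ q, DirectLimit.Ring.of Ra t a₀ (ρ₀ q) = χ₀ (f q) := fun q => congr($key q)
  obtain ⟨S, hS⟩ := hfker
  have hS0 : ∀ p : (S : Set (MvPolynomial (Fin n) A)), DirectLimit.Ring.of Ra t a₀ (ρ₀ p) =
      DirectLimit.Ring.of Ra t a₀ 0 := by
    intro p
    rw [key', map_zero]
    have : (p : MvPolynomial (Fin n) A) ∈ RingHom.ker f.toRingHom := by
      rw [← hS]
      exact Ideal.subset_span p.2
    rw [show f p = f.toRingHom p from rfl, (RingHom.mem_ker).mp this, map_zero]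
  obtain ⟨b, hab, hb⟩ := exists_common_eq Ra t (fun p : (S : Set (MvPolynomial (Fin n) A)) => ρ₀ p)
    (fun _ => 0) hS0
  let ρb : MvPolynomial (Fin n) A →ₐ[A] Ra b := (tA Ra t ht a₀ b hab).comp ρ₀
  have hker : RingHom.ker f.toRingHom ≤ RingHom.ker ρb.toRingHom := by
    rw [← hS, Ideal.span_le]
    intro p hp
    have := hb ⟨p, hp⟩
    rw [map_zero] at this
    exact this
  refine ⟨b, AlgHom.liftOfSurjective f hfsurj ρb hker, fun x => ?_⟩
  obtain ⟨q, rfl⟩ := hfsurj x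
  rw [AlgHom.liftOfSurjective_apply]
  show DirectLimit.Ring.of Ra t b (t a₀ b hab (ρ₀ q)) = _
  rw [DirectLimit.Ring.of_f, key']

omit [Algebra A (DirectLimit Ra t)] in
include ht in
theorem exists_eq_of_finiteType (R₀ : Type u) [CommRing R₀] [Algebra A R₀] [Algebra.FiniteType A R₀]
    {a : κ} (ρ₁ ρ₂ : R₀ →ₐ[A] Ra a)
    (h : ∀ x, DirectLimit.Ring.of Ra t a (ρ₁ x) = DirectLimit.Ring.of Ra t a (ρ₂ x)) :
    ∃ (b : κ) (hab : a ≤ b), ∀ x, t a b hab (ρ₁ x) = t a b hab (ρ₂ x) := by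
  obtain ⟨S, hS⟩ := (Algebra.FiniteType.out : (⊤ : Subalgebra A R₀).FG)
  obtain ⟨b, hab, hb⟩ := exists_common_eq Ra t (fun s : (S : Set R₀) => ρ₁ s) (fun s => ρ₂ s)
    (fun s => h s)
  refine ⟨b, hab, fun x => ?_⟩
  have heq : (tA Ra t ht a b hab).comp ρ₁ = (tA Ra t ht a b hab).comp ρ₂ := by
    apply AlgHom.ext_of_adjoin_eq_top hS
    intro s hs
    exact hb ⟨s, hs⟩
  exact congr($heq x)

end Groth.Agent.Helper2.DirLimHom
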