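import Mathlib
import Groth.Prelude
import Groth.Agent.Helper2.DirLimHom
import Groth.Agent.Helper2.DirLimHens
import Groth.Agent.Helper2.PairHensEt2
set_option autoImplicit false

/-!
# S17613: maps from an hfp algebra into a direct limit of henselian pairs
-/

universe u

namespace Groth.Agent.Helper2.DirLimHom

open Polynomial Groth.Agent.Helper2.PairHens

theorem s17613 (A : Type u) [CommRing A] (I : Ideal A)
    (R₀ : Type u) [CommRing R₀] [Algebra A R₀] [Algebra.FinitePresentation A R₀]
    (B : Type u) [CommRing B] [Algebra R₀ B] [Algebra A B] [IsScalarTower A R₀ B]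
    (hB : Hens2.IsPairHenselization R₀ (I.map (algebraMap A R₀)) B)
    {κ : Type u} [Preorder κ] [IsDirectedOrder κ] [Nonempty κ]
    (Ra : κ → Type u) [∀ a, CommRing (Ra a)] [∀ a, Algebra A (Ra a)]
    [∀ a, HenselianRing (Ra a) (I.map (algebraMap A (Ra a)))]
    (t : ∀ a b : κ, a ≤ b → (Ra a →+* Ra b)) [DirectedSystem Ra (fun a b h => t a b h)]
    (ht : ∀ (a b : κ) (h : a ≤ b), (t a b h).comp (algebraMap A (Ra a)) = algebraMap A (Ra b))
    [Algebra A (DirectLimit Ra t)]
    (halg : ∀ (a : κ) (x : A), algebraMap A (DirectLimit Ra t) x =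
      DirectLimit.Ring.of Ra t a (algebraMap A (Ra a) x)) :
    (∀ χ : B →ₐ[A] DirectLimit Ra t, ∃ (a : κ) (φ : B →ₐ[A] Ra a),
        ∀ x : B, DirectLimit.Ring.of Ra t a (φ x) = χ x) ∧
    ∀ (a : κ) (φ ψ : B →ₐ[A] Ra a),
      (∀ x : B, DirectLimit.Ring.of Ra t a (φ x) = DirectLimit.Ring.of Ra t a (ψ x)) →
      ∃ (b : κ) (h : a ≤ b), ∀ x : B, t a b h (φ x) = t a b h (ψ x) := by
  let K : ∀ a, Ideal (Ra a) := fun a => I.map (algebraMap A (Ra a))
  have hK : ∀ (a b : κ) (h : a ≤ b), (K a).map (t a b h) ≤ K b := by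
    intro a b h
    show (I.map (algebraMap A (Ra a))).map (t a b h) ≤ I.map (algebraMap A (Ra b))
    rw [Ideal.map_map, ht]
  have halg' : ∀ a, algebraMap A (DirectLimit Ra t) =
      (DirectLimit.Ring.of Ra t a).comp (algebraMap A (Ra a)) := fun a => RingHom.ext (halg a)
  have hensL : HenselianRing (DirectLimit Ra t) (I.map (algebraMap A (DirectLimit Ra t))) := by
    have h1 := Groth.Agent.Helper2.DirLimHens.henselianRing_directLimit Ra t K hK
    have h2 : (⨆ a, (K a).map (DirectLimit.Ring.of Ra t a)) =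
        I.map (algebraMap A (DirectLimit Ra t)) := by
      have : ∀ a, (K a).map (DirectLimit.Ring.of Ra t a) =
          I.map (algebraMap A (DirectLimit Ra t)) := by
        intro a
        show (I.map (algebraMap A (Ra a))).map (DirectLimit.Ring.of Ra t a) = _
        rw [Ideal.map_map, ← halg' a]
      simp_rw [this]
      exact iSup_const
    rw [← h2]
    exact h1
  have hext : ∀ (T : Type u) [CommRing T] [Algebra A T] (_ : HenselianRing T (I.map (algebraMap A T)))
      (g₁ g₂ : B →+* T), (∀ a : A, g₁ (algebraMap A B a) = algebraMap A T a) →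
      (∀ r : R₀, g₁ (algebraMap R₀ B r) = g₂ (algebraMap R₀ B r)) → g₁ = g₂ := by
    intro T _ _ hT g₁ g₂ hg₁ h
    have hle : (I.map (algebraMap A R₀)).map (g₁.comp (algebraMap R₀ B)) ≤
        I.map (algebraMap A T) := by
      rw [Ideal.map_map, Ideal.map_le_iff_le_comap]
      intro a ha
      rw [Ideal.mem_comap, RingHom.comp_apply, RingHom.comp_apply,
        ← IsScalarTower.algebraMap_apply A R₀ B, hg₁]
      exact Ideal.mem_map_of_mem _ ha
    obtain ⟨w, -, hw⟩ := hB.2 T (I.map (algebraMap A T)) (g₁.comp (algebraMap R₀ B)) hT hle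
    have e1 := hw g₁ rfl
    have e2 := hw g₂ (by
      ext r
      exact (h r).symm)
    exact e1.trans e2.symm
  refine ⟨?_, ?_⟩
  · intro χ
    obtain ⟨a, ρ, hρ⟩ := exists_factor Ra t ht halg R₀ (χ.comp (IsScalarTower.toAlgHom A R₀ B))
    have hle : (I.map (algebraMap A R₀)).map (ρ : R₀ →+* Ra a) ≤ I.map (algebraMap A (Ra a)) := by
      rw [Ideal.map_le_iff_le_comap]
      intro x hx
      exact map_algHom_mem I ρ hx
    obtain ⟨g, hg, -⟩ := hB.2 (Ra a) (I.map (algebraMap A (Ra a))) (ρ : R₀ →+* Ra a)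
      inferInstance hle
    have hg' : ∀ r, g (algebraMap R₀ B r) = ρ r := fun r => congr($hg r)
    let φ : B →ₐ[A] Ra a :=
      { g with
        commutes' := fun x => by
          show g (algebraMap A B x) = _
          rw [IsScalarTower.algebraMap_apply A R₀ B, hg', AlgHom.commutes] }
    refine ⟨a, φ, fun x => ?_⟩
    have := hext (DirectLimit Ra t) hensL ((DirectLimit.Ring.of Ra t a).comp g) (χ : B →+* _)
      (fun x => by
        show DirectLimit.Ring.of Ra t a (φ (algebraMap A B x)) = _
        rw [AlgHom.commutes, halg])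
      (fun r => by
        show DirectLimit.Ring.of Ra t a (g (algebraMap R₀ B r)) = χ (algebraMap R₀ B r)
        rw [hg', hρ]
        rfl)
    exact congr($this x)
  · intro a φ ψ h
    obtain ⟨b, hab, hb⟩ := exists_eq_of_finiteType Ra t ht R₀
      (φ.comp (IsScalarTower.toAlgHom A R₀ B)) (ψ.comp (IsScalarTower.toAlgHom A R₀ B))
      (fun x => h _)
    refine ⟨b, hab, fun x => ?_⟩
    have := hext (Ra b) inferInstance ((t a b hab).comp (φ : B →+* Ra a))
      ((t a b hab).comp (ψ : B →+* Ra a))
      (fun x => by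
        show t a b hab (φ (algebraMap A B x)) = _
        rw [AlgHom.commutes]
        exact congr($(ht a b hab) x))
      (fun r => hb r)
    exact congr($this x)

end Groth.Agent.Helper2.DirLimHom
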