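import Mathlib
import Groth.Prelude.Def_Found
set_option autoImplicit false
universe u
open TensorProduct

namespace Groth.Agent.Helper2.DirSub

section A
variable (k : Type u) [Field k] {ι : Type u} (K : ι → Type u) [∀ i, Field (K i)]
  [∀ i, Algebra (K i) k]

theorem exists_index
    (hdir : ∀ i j, ∃ l, Set.range (algebraMap (K i) k) ⊆ Set.range (algebraMap (K l) k) ∧
      Set.range (algebraMap (K j) k) ⊆ Set.range (algebraMap (K l) k))
    (hcov : ∀ x : k, ∃ i, x ∈ Set.range (algebraMap (K i) k)) (s : Finset k) :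
    ∃ i, ∀ x ∈ s, x ∈ Set.range (algebraMap (K i) k) := by
  classical
  induction s using Finset.induction_on with
  | empty => obtain ⟨i, _⟩ := hcov 0; exact ⟨i, by simp⟩
  | insert a s ha ih =>
    obtain ⟨i, hi⟩ := ih
    obtain ⟨j, hj⟩ := hcov a
    obtain ⟨l, hl1, hl2⟩ := hdir i j
    refine ⟨l, fun x hx => ?_⟩
    rcases Finset.mem_insert.mp hx with rfl | hx
    · exact hl2 hj
    · exact hl1 (hi x hx)

end A

section B
variable (F k k' : Type u) [Field F] [Field k] [Field k'] [Algebra F k] [Algebra k k']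
  [Algebra F k'] [IsScalarTower F k k']

/-- the comparison map `k ⊗_F L → k'`. -/
noncomputable def φ (L : Type u) [Field L] [Algebra F L] [Algebra L k'] [IsScalarTower F L k'] :
    k ⊗[F] L →ₐ[k] k' :=
  Algebra.TensorProduct.lift (Algebra.ofId k k') (IsScalarTower.toAlgHom F L k')
    (fun _ _ => Commute.all _ _)

variable {F k k'}

theorem mem_span_of_repr {n : ℕ} (b : Module.Basis (Fin n) k k') (x : k')
    (hx : ∀ l, b.repr x l ∈ Set.range (algebraMap F k)) :
    x ∈ Submodule.span F (Set.range b) := by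
  rw [← b.sum_repr x]
  refine Submodule.sum_mem _ (fun l _ => ?_)
  obtain ⟨c, hc⟩ := hx l
  rw [← hc, algebraMap_smul]
  exact Submodule.smul_mem _ _ (Submodule.subset_span ⟨l, rfl⟩)

theorem exists_descent {n : ℕ} (b : Module.Basis (Fin n) k k')
    (h1 : ∀ l, b.repr 1 l ∈ Set.range (algebraMap F k))
    (hmul : ∀ i j l, b.repr (b i * b j) l ∈ Set.range (algebraMap F k)) :
    ∃ (L : Type u) (_ : Field L) (_ : Algebra F L) (_ : Algebra L k') (_ : IsScalarTower F L k')
      (_ : Module.Finite F L), Function.Bijective (φ F k k' L) := by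
  classical
  set S : Submodule F k' := Submodule.span F (Set.range b) with hS
  have hone : (1 : k') ∈ S := mem_span_of_repr b 1 h1
  have hmul' : ∀ x y, x ∈ S → y ∈ S → x * y ∈ S := by
    have hle : S * S ≤ S := by
      rw [hS, Submodule.span_mul_span]
      apply Submodule.span_le.mpr
      rintro _ ⟨_, ⟨i, rfl⟩, _, ⟨j, rfl⟩, rfl⟩
      exact mem_span_of_repr b _ (hmul i j)
    intro x y hx hy
    exact hle (Submodule.mul_mem_mul hx hy)
  set Ls : Subalgebra F k' := S.toSubalgebra hone hmul' with hLs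
  haveI hfin : Module.Finite F Ls := by
    have : Module.Finite F S := Module.Finite.span_of_finite F (Set.finite_range b)
    exact this
  haveI : Algebra.IsIntegral F Ls := Algebra.IsIntegral.of_finite F Ls
  have hfield : IsField Ls := isField_of_isIntegral_of_isField' (Field.toIsField F)
  set IF : IntermediateField F k' := Ls.toIntermediateField' hfield with hIF
  have hmem : ∀ l, b l ∈ IF := fun l => Submodule.subset_span ⟨l, rfl⟩
  haveI : Module.Finite F IF := hfin
  refine ⟨IF, inferInstance, inferInstance, inferInstance, inferInstance, inferInstance, ?_⟩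
  have hsurj : Function.Surjective (φ F k k' IF) := by
    rw [← AlgHom.coe_toLinearMap, ← LinearMap.range_eq_top, eq_top_iff, ← b.span_eq,
      Submodule.span_le]
    rintro _ ⟨l, rfl⟩
    refine ⟨1 ⊗ₜ ⟨b l, hmem l⟩, ?_⟩
    simp [φ]
  refine ⟨?_, hsurj⟩
  have hr1 : Module.finrank k (k ⊗[F] IF) = Module.finrank F IF := Module.finrank_baseChange
  have hr2 : Module.finrank F IF ≤ n := by
    have := finrank_range_le_card (R := F) b
    rw [Fintype.card_fin] at this
    exact this
  have hr3 : Module.finrank k k' = n := by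
    rw [Module.finrank_eq_card_basis b]; simp
  haveI : Module.Finite k k' := Module.Finite.of_basis b
  have hr4 : Module.finrank k k' ≤ Module.finrank k (k ⊗[F] IF) :=
    LinearMap.finrank_le_finrank_of_surjective (f := (φ F k k' IF).toLinearMap) hsurj
  have heq : Module.finrank k (k ⊗[F] IF) = Module.finrank k k' := by omega
  exact (LinearMap.injective_iff_surjective_of_finrank_eq_finrank
    (f := (φ F k k' IF).toLinearMap) heq).mpr hsurj

variable (F k k')

theorem nonempty_equiv (A : Type u) [CommRing A] [Algebra k A] [Algebra F A] [IsScalarTower F k A]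
    (L : Type u) [Field L] [Algebra F L] [Algebra L k'] [IsScalarTower F L k']
    (hbij : Function.Bijective (φ F k k' L)) : Nonempty (L ⊗[F] A ≃+* k' ⊗[k] A) := by
  let e0 : k ⊗[F] L ≃ₐ[k] k' := AlgEquiv.ofBijective (φ F k k' L) hbij
  let e1 : k' ⊗[k] A ≃ₐ[k] (k ⊗[F] L) ⊗[k] A := Algebra.TensorProduct.congr e0.symm AlgEquiv.refl
  let e2 : (k ⊗[F] L) ⊗[k] A ≃ₐ[k] A ⊗[k] (k ⊗[F] L) := Algebra.TensorProduct.comm k _ _
  let e3 : A ⊗[k] (k ⊗[F] L) ≃ₐ[A] A ⊗[F] L := Algebra.TensorProduct.cancelBaseChange F k A A L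
  let e4 : A ⊗[F] L ≃ₐ[F] L ⊗[F] A := Algebra.TensorProduct.comm F A L
  exact ⟨(((e1.toRingEquiv.trans e2.toRingEquiv).trans e3.toRingEquiv).trans e4.toRingEquiv).symm⟩

end B

theorem main (k : Type u) [Field k] {ι : Type u}
    (K : ι → Type u) [∀ i, Field (K i)] [∀ i, Algebra (K i) k]
    (hdir : ∀ i j, ∃ l, Set.range (algebraMap (K i) k) ⊆ Set.range (algebraMap (K l) k) ∧
      Set.range (algebraMap (K j) k) ⊆ Set.range (algebraMap (K l) k))
    (hcov : ∀ x : k, ∃ i, x ∈ Set.range (algebraMap (K i) k))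
    (A : Type u) [CommRing A] [Algebra k A] [IsNoetherianRing A] [∀ i, Algebra (K i) A]
    [∀ i, IsScalarTower (K i) k A] (h : ∀ i, CAlg.IsGeometricallyRegular (K i) A) :
    CAlg.IsGeometricallyRegular k A := by
  intro k' _ _ hfin
  classical
  let b := Module.finBasis k k'
  let s : Finset k := (Finset.univ.image (fun l => b.repr 1 l)) ∪
    (Finset.univ.image (fun (t : Fin (Module.finrank k k') × Fin (Module.finrank k k') ×
      Fin (Module.finrank k k')) => b.repr (b t.1 * b t.2.1) t.2.2))
  obtain ⟨i, hi⟩ := exists_index k K hdir hcov s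
  letI : Algebra (K i) k' := ((algebraMap k k').comp (algebraMap (K i) k)).toAlgebra
  haveI : IsScalarTower (K i) k k' := IsScalarTower.of_algebraMap_eq (fun _ => rfl)
  obtain ⟨L, _, _, _, _, _, hbij⟩ := exists_descent (F := K i) b
    (fun l => hi _ (Finset.mem_union_left _ (Finset.mem_image.mpr ⟨l, Finset.mem_univ _, rfl⟩)))
    (fun a c l => hi _ (Finset.mem_union_right _
      (Finset.mem_image.mpr ⟨(a, c, l), Finset.mem_univ _, rfl⟩)))
  obtain ⟨e⟩ := nonempty_equiv (K i) k k' A L hbij
  haveI := h i L inferInstance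
  exact IsRegularRing.of_ringEquiv e

end Groth.Agent.Helper2.DirSub
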