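import Mathlib
import Groth.Prelude.Def_CAlg
import Groth.Agent.Helper9.DepthKer
import Groth.Agent.Helper9.ReflKer

set_option linter.style.haveILetI false
set_option linter.unusedSectionVars false
set_option autoImplicit false

/-! The dual of a finite module over a Noetherian ring is a kernel of a map of finite free modules,
hence has depth ≥ 2 along any ideal along which the ring has depth ≥ 2. -/

namespace Groth.Agent.Helper2.DualDepth

open Module

universe u

variable (B : Type u) [CommRing B] [IsNoetherianRing B]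
  (D : Type u) [AddCommGroup D] [Module B D] [Module.Finite B D]

theorem exists_dual_ker :
    ∃ (n m : ℕ) (ι : Dual B D →ₗ[B] (Fin n → B)) (u : (Fin n → B) →ₗ[B] (Fin m → B)),
      Function.Injective ι ∧ Function.Exact ι u := by
  classical
  obtain ⟨n, π, hπ⟩ := Module.Finite.exists_fin' B D
  have : IsNoetherian B (Fin n → B) := inferInstance
  obtain ⟨m, ρ, hρ⟩ := Module.Finite.exists_fin' B (LinearMap.ker π)
  let ρ' : (Fin m → B) →ₗ[B] (Fin n → B) := (LinearMap.ker π).subtype ∘ₗ ρ
  have hρ'ker : ∀ d, π (ρ' d) = 0 := fun d => (ρ d).2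
  have hρ'surj : ∀ c, π c = 0 → ∃ d, ρ' d = c := by
    intro c hc
    obtain ⟨d, hd⟩ := hρ ⟨c, hc⟩
    exact ⟨d, congrArg Subtype.val hd⟩
  have hπc : ∀ c : Fin n → B, π c = ∑ i, c i • π (Pi.single i 1) := by
    intro c
    have : c = ∑ i, c i • (Pi.single i 1 : Fin n → B) := by
      ext j
      simp [Finset.sum_apply, Pi.single_apply]
    conv_lhs => rw [this]
    simp only [map_sum, map_smul]
  let ι : Dual B D →ₗ[B] (Fin n → B) :=
    LinearMap.pi fun i => (Dual.eval B D (π (Pi.single i 1)))
  have hι : ∀ ψ i, ι ψ i = ψ (π (Pi.single i 1)) := fun ψ i => rfl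
  let u : (Fin n → B) →ₗ[B] (Fin m → B) :=
    LinearMap.pi fun j => ∑ i, (ρ' (Pi.single j 1) i) • (LinearMap.proj i : (Fin n → B) →ₗ[B] B)
  have hu : ∀ v j, u v j = ∑ i, ρ' (Pi.single j 1) i * v i := by
    intro v j
    simp [u, LinearMap.pi_apply, LinearMap.sum_apply]
  have hρ'd : ∀ d : Fin m → B, ρ' d = ∑ j, d j • ρ' (Pi.single j 1) := by
    intro d
    have : d = ∑ j, d j • (Pi.single j 1 : Fin m → B) := by
      ext j
      simp [Finset.sum_apply, Pi.single_apply]
    conv_lhs => rw [this]
    simp only [map_sum, map_smul]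
  refine ⟨n, m, ι, u, ?_, ?_⟩
  · rw [injective_iff_map_eq_zero]
    intro ψ hψ
    ext d
    obtain ⟨c, rfl⟩ := hπ d
    rw [LinearMap.zero_apply, hπc, map_sum]
    refine Finset.sum_eq_zero fun i _ => ?_
    rw [map_smul]
    have : ψ (π (Pi.single i 1)) = 0 := congrFun hψ i
    rw [this, smul_zero]
  · intro v
    constructor
    · intro hv
      let ℓ : (Fin n → B) →ₗ[B] B := ∑ i, v i • (LinearMap.proj i : (Fin n → B) →ₗ[B] B)
      have hℓ : ∀ c, ℓ c = ∑ i, v i * c i := by
        intro c
        simp [ℓ, LinearMap.sum_apply]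
      have hker : LinearMap.ker π ≤ LinearMap.ker ℓ := by
        intro c hc
        obtain ⟨d, rfl⟩ := hρ'surj c hc
        rw [LinearMap.mem_ker, hρ'd, map_sum]
        refine Finset.sum_eq_zero fun j _ => ?_
        rw [map_smul, hℓ]
        have := congrFun hv j
        rw [hu] at this
        rw [smul_eq_mul]
        have h2 : ∑ i, v i * ρ' (Pi.single j 1) i = ∑ i, ρ' (Pi.single j 1) i * v i :=
          Finset.sum_congr rfl fun i _ => mul_comm _ _
        rw [h2, this]
        simp
      let ξ : Dual B D :=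
        ((LinearMap.ker π).liftQ ℓ hker) ∘ₗ (π.quotKerEquivOfSurjective hπ).symm.toLinearMap
      have hξ : ∀ c, ξ (π c) = ℓ c := by
        intro c
        simp only [ξ, LinearMap.comp_apply, LinearEquiv.coe_coe]
        have : (π.quotKerEquivOfSurjective hπ).symm (π c) = Submodule.Quotient.mk c := by
          rw [LinearEquiv.symm_apply_eq]
          rfl
        rw [this, Submodule.liftQ_apply]
      refine ⟨ξ, ?_⟩
      ext i
      rw [hι, hξ, hℓ]
      simp [Pi.single_apply]
    · rintro ⟨ψ, rfl⟩
      ext j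
      rw [hu, Pi.zero_apply]
      have h1 := hρ'ker (Pi.single j 1)
      rw [hπc] at h1
      have h2 := congrArg ψ h1
      rw [map_sum, map_zero] at h2
      rw [← h2]
      refine Finset.sum_congr rfl fun i _ => ?_
      rw [map_smul, smul_eq_mul, hι]

theorem two_le_depth_dual (J : Ideal B) (h : 2 ≤ LocCoh.idealDepth J B) :
    2 ≤ LocCoh.idealDepth J (Dual B D) := by
  obtain ⟨n, m, ι, u, hι, hex⟩ := exists_dual_ker B D
  have h0 : 2 ≤ LocCoh.idealDepth J (Fin n → B) :=
    Groth.Agent.Helper9.ReflKer.two_le_idealDepth_pi J B n h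
  have h1 : 1 ≤ LocCoh.idealDepth J (Fin m → B) :=
    Groth.Agent.Helper9.ReflKer.one_le_idealDepth_pi J B m (le_trans (by norm_num) h)
  have hk := Groth.Agent.Helper9.DepthKer.depth_ker_two (I := J) u h0 h1
  have hr : LinearMap.range ι = LinearMap.ker u := (LinearMap.exact_iff.1 hex).symm
  let e : Dual B D ≃ₗ[B] LinearMap.ker u :=
    (LinearEquiv.ofInjective ι hι).trans (LinearEquiv.ofEq _ _ hr)
  rw [Groth.Agent.Helper9.ReflKer.idealDepth_congr J e]
  exact hk

end Groth.Agent.Helper2.DualDepth
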