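import Mathlib
import Groth.Prelude
import Groth.Agent.Helper4.DimZero

set_option autoImplicit false
universe u
open Topology

namespace Groth.Agent.Helper2.EDQF

theorem isSepClosed_of_ringEquiv {k k' : Type*} [Field k] [Field k'] (e : k ≃+* k')
    [IsSepClosed k] : IsSepClosed k' := by
  refine ⟨fun p hp => ?_⟩
  have h1 : (p.map (e.symm : k' →+* k)).Separable := hp.map
  have h2 := IsSepClosed.splits_of_separable _ h1
  have h3 := h2.map (e : k →+* k')
  rw [Polynomial.map_map] at h3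
  have h4 : ((e : k →+* k').comp (e.symm : k' →+* k)) = RingHom.id k' := by
    ext x; simp
  rwa [h4, Polynomial.map_id] at h3

/-- Hausdorff spectrum implies all primes maximal -/
theorem isMaximal_of_t2 (A : Type*) [CommRing A] [T2Space (PrimeSpectrum A)] (p : Ideal A)
    (hp : p.IsPrime) : p.IsMaximal :=
  (PrimeSpectrum.isClosed_singleton_iff_isMaximal ⟨p, hp⟩).mp isClosed_singleton

/-- quasi-finite algebras over zero-dimensional rings are zero-dimensional -/
theorem isMaximal_of_quasiFinite (A B : Type*) [CommRing A] [CommRing B] [Algebra A B]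
    [Algebra.QuasiFinite A B] (hA : ∀ p : Ideal A, p.IsPrime → p.IsMaximal) (Q : Ideal B)
    (hQ : Q.IsPrime) : Q.IsMaximal := by
  obtain ⟨M, hM, hle⟩ := Ideal.exists_le_maximal Q hQ.ne_top
  haveI := hM.isPrime
  have h1 : (Q.under A).IsMaximal := hA _ (Ideal.comap_isPrime _ _)
  have h2 : Q.under A = M.under A :=
    h1.eq_of_le (Ideal.comap_ne_top _ hM.ne_top) (Ideal.comap_mono hle)
  have := Algebra.QuasiFinite.eq_of_le_of_under_eq (R := A) Q M hle h2
  rw [this]; exact hM

/-- constructible subsets of the spectrum of a zero-dimensional ring are clopen -/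
theorem isClopen_of_isConstructible {R : Type*} [CommRing R] [Ring.KrullDimLE 0 R]
    {s : Set (PrimeSpectrum R)} (hs : IsConstructible s) : IsClopen s := by
  induction hs using IsConstructible.empty_union_induction with
  | open_retrocompact U hUopen hUcomp =>
    refine ⟨?_, hUopen⟩
    apply Groth.Agent.Helper4.isClosed_of_isCompact_of_isOpen _ hUopen
    have := hUcomp isCompact_univ isOpen_univ
    rwa [Set.inter_univ] at this
  | union s hs t ht hs' ht' => exact hs'.union ht'
  | compl s hs hs' => exact hs'.compl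

/-- the Frobenius-power map into a quotient by a prime containing the characteristic -/
theorem exists_powHom (B : Type*) [CommRing B] (Q : Ideal B) [hQ : Q.IsPrime] (ℓ N : ℕ)
    (h : ℓ = 1 ∨ (ℓ.Prime ∧ (ℓ : B) ∈ Q)) :
    ∃ θ : B →+* B ⧸ Q, ∀ x, θ x = (Ideal.Quotient.mk Q x) ^ (ℓ ^ N) := by
  rcases h with rfl | ⟨hℓ, hmem⟩
  · exact ⟨Ideal.Quotient.mk Q, fun x => by rw [one_pow, pow_one]⟩
  · haveI : Nontrivial (B ⧸ Q) := Ideal.Quotient.nontrivial_iff.mpr hQ.ne_top
    haveI : CharP (B ⧸ Q) ℓ := by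
      rw [CharP.charP_iff_prime_eq_zero hℓ]
      have : ((ℓ : B ⧸ Q)) = Ideal.Quotient.mk Q (ℓ : B) := by simp
      rw [this, Ideal.Quotient.eq_zero_iff_mem]
      exact hmem
    haveI : Fact ℓ.Prime := ⟨hℓ⟩
    haveI : ExpChar (B ⧸ Q) ℓ := ExpChar.prime hℓ
    exact ⟨(iterateFrobenius (B ⧸ Q) ℓ N).comp (Ideal.Quotient.mk Q), fun x => rfl⟩

section Local

variable (A B : Type u) [CommRing A] [CommRing B] [Algebra A B] [Algebra.QuasiFinite A B]
  [Algebra.FiniteType A B]

/-- the key congruences at a point -/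
theorem exists_data (hres : ∀ p : PrimeSpectrum A, IsSepClosed p.asIdeal.ResidueField)
    (hA : ∀ p : Ideal A, p.IsPrime → p.IsMaximal) (q : PrimeSpectrum B) :
    ∃ ℓ : ℕ, (ℓ = 1 ∨ (ℓ.Prime ∧ (ℓ : B) ∈ q.asIdeal)) ∧
      ∀ b : B, ∃ (n : ℕ) (a : A), b ^ (ℓ ^ n) - algebraMap A B a ∈ q.asIdeal := by
  set p : Ideal A := q.asIdeal.comap (algebraMap A B) with hp
  haveI hpmax : p.IsMaximal := hA p (Ideal.comap_isPrime _ _)
  letI : Field (A ⧸ p) := Ideal.Quotient.field p
  haveI : IsSepClosed p.ResidueField := hres ⟨p, hpmax.isPrime⟩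
  haveI : IsSepClosed (A ⧸ p) := isSepClosed_of_ringEquiv
    (RingEquiv.ofBijective (algebraMap (A ⧸ p) p.ResidueField)
      (Ideal.bijective_algebraMap_quotient_residueField p)).symm
  haveI : Algebra.QuasiFinite (A ⧸ p) (B ⧸ q.asIdeal) := Algebra.QuasiFinite.of_restrictScalars A _ _
  haveI : Module.Finite (A ⧸ p) (B ⧸ q.asIdeal) := Module.Finite.of_quasiFinite
  haveI : Algebra.IsAlgebraic (A ⧸ p) (B ⧸ q.asIdeal) := Algebra.IsAlgebraic.of_finite _ _
  haveI : IsPurelyInseparable (A ⧸ p) (B ⧸ q.asIdeal) := inferInstance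
  obtain ⟨ℓ, hℓ⟩ := ExpChar.exists (A ⧸ p)
  refine ⟨ℓ, ?_, ?_⟩
  · cases hℓ with
    | zero => exact Or.inl rfl
    | prime hprime =>
      refine Or.inr ⟨hprime, ?_⟩
      have h0 : ((ℓ : ℕ) : A ⧸ p) = 0 := CharP.cast_eq_zero _ _
      have h1 : Ideal.Quotient.mk p ((ℓ : ℕ) : A) = 0 := by rw [map_natCast]; exact h0
      rw [Ideal.Quotient.eq_zero_iff_mem] at h1
      have h2 : algebraMap A B ((ℓ : ℕ) : A) ∈ q.asIdeal := h1
      rwa [map_natCast] at h2
  · intro b
    obtain ⟨n, y, hy⟩ := IsPurelyInseparable.pow_mem (A ⧸ p) ℓ (Ideal.Quotient.mk q.asIdeal b)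
    obtain ⟨a, rfl⟩ := Ideal.Quotient.mk_surjective y
    refine ⟨n, a, ?_⟩
    rw [← Ideal.Quotient.eq, map_pow, ← hy]
    rfl

/-- local injectivity of `Spec B → Spec A` -/
theorem exists_clopen_injOn (hres : ∀ p : PrimeSpectrum A, IsSepClosed p.asIdeal.ResidueField)
    (hA : ∀ p : Ideal A, p.IsPrime → p.IsMaximal) [Ring.KrullDimLE 0 B] (q : PrimeSpectrum B) :
    ∃ W : Set (PrimeSpectrum B), IsClopen W ∧ IsConstructible W ∧ q ∈ W ∧
      Set.InjOn (PrimeSpectrum.comap (algebraMap A B)) W := by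
  classical
  obtain ⟨ℓ, hℓ, hdata⟩ := exists_data A B hres hA q
  obtain ⟨s, hs⟩ := (inferInstance : Algebra.FiniteType A B).out
  choose n a hna using hdata
  set N : ℕ := s.sup n with hN
  -- uniform exponent
  have hunif : ∀ b ∈ s, ∃ a' : A, b ^ (ℓ ^ N) - algebraMap A B a' ∈ q.asIdeal := by
    intro b hb
    have hle : n b ≤ N := Finset.le_sup hb
    refine ⟨a b ^ (ℓ ^ (N - n b)), ?_⟩
    have h1 : Ideal.Quotient.mk q.asIdeal (b ^ (ℓ ^ n b)) =
        Ideal.Quotient.mk q.asIdeal (algebraMap A B (a b)) := Ideal.Quotient.eq.mpr (hna b)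
    rw [← Ideal.Quotient.eq]
    have h2 : ℓ ^ N = ℓ ^ n b * ℓ ^ (N - n b) := by
      rw [← pow_add, Nat.add_sub_cancel' hle]
    rw [h2, pow_mul, map_pow, h1, ← map_pow, ← map_pow]
  choose! a' ha' using hunif
  set T : Finset B := s.image (fun b => b ^ (ℓ ^ N) - algebraMap A B (a' b)) ∪
    (if ℓ = 1 then ∅ else {(ℓ : B)}) with hT
  have hTq : ∀ t ∈ T, t ∈ q.asIdeal := by
    intro t ht
    rw [hT, Finset.mem_union] at ht
    rcases ht with ht | ht
    · obtain ⟨b, hb, rfl⟩ := Finset.mem_image.mp ht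
      exact ha' b hb
    · split_ifs at ht with h1
      · simp at ht
      · rw [Finset.mem_singleton] at ht
        rcases hℓ with h | h
        · exact absurd h h1
        · rw [ht]; exact h.2
  set W : Set (PrimeSpectrum B) := ⋂ t ∈ T, (PrimeSpectrum.basicOpen t : Set (PrimeSpectrum B))ᶜ
    with hW
  have hmemW : ∀ Q : PrimeSpectrum B, Q ∈ W ↔ ∀ t ∈ T, t ∈ Q.asIdeal := by
    intro Q
    simp only [hW, Set.mem_iInter, Set.mem_compl_iff, SetLike.mem_coe,
      PrimeSpectrum.mem_basicOpen, not_not]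
  refine ⟨W, ?_, ?_, (hmemW q).mpr hTq, ?_⟩
  · exact T.finite_toSet.isClopen_biInter (fun t _ => (Groth.Agent.Helper4.isClopen_basicOpen t).compl)
  · exact IsConstructible.biInter T.finite_toSet
      (fun t _ => PrimeSpectrum.isConstructible_basicOpen.compl)
  · -- injectivity
    have key : ∀ Q₁ Q₂ : PrimeSpectrum B, Q₁ ∈ W → Q₂ ∈ W →
        PrimeSpectrum.comap (algebraMap A B) Q₁ = PrimeSpectrum.comap (algebraMap A B) Q₂ →
        Q₁.asIdeal ≤ Q₂.asIdeal := by
      intro Q₁ Q₂ h₁ h₂ hcomap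
      rw [hmemW] at h₁ h₂
      have hℓj : ∀ Q : PrimeSpectrum B, (∀ t ∈ T, t ∈ Q.asIdeal) →
          (ℓ = 1 ∨ (ℓ.Prime ∧ (ℓ : B) ∈ Q.asIdeal)) := by
        intro Q hQ
        rcases hℓ with h | h
        · exact Or.inl h
        · refine Or.inr ⟨h.1, hQ _ ?_⟩
          rw [hT, Finset.mem_union]
          right
          have hne : ℓ ≠ 1 := h.1.ne_one
          rw [if_neg hne]
          exact Finset.mem_singleton_self _
      obtain ⟨θ₁, hθ₁⟩ := exists_powHom B Q₁.asIdeal ℓ N (hℓj Q₁ h₁)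
      obtain ⟨θ₂, hθ₂⟩ := exists_powHom B Q₂.asIdeal ℓ N (hℓj Q₂ h₂)
      have hP : ∀ x : B, ∃ y : A, θ₁ x = Ideal.Quotient.mk Q₁.asIdeal (algebraMap A B y) ∧
          θ₂ x = Ideal.Quotient.mk Q₂.asIdeal (algebraMap A B y) := by
        intro x
        have hx : x ∈ Algebra.adjoin A (s : Set B) := by rw [hs]; exact Algebra.mem_top
        induction hx using Algebra.adjoin_induction with
        | mem b hb =>
          refine ⟨a' b, ?_, ?_⟩
          · rw [hθ₁, ← map_pow, Ideal.Quotient.eq]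
            exact h₁ _ (by
              rw [hT, Finset.mem_union]; left
              exact Finset.mem_image.mpr ⟨b, hb, rfl⟩)
          · rw [hθ₂, ← map_pow, Ideal.Quotient.eq]
            exact h₂ _ (by
              rw [hT, Finset.mem_union]; left
              exact Finset.mem_image.mpr ⟨b, hb, rfl⟩)
        | algebraMap α =>
          refine ⟨α ^ (ℓ ^ N), ?_, ?_⟩
          · rw [hθ₁, map_pow, map_pow]
          · rw [hθ₂, map_pow, map_pow]
        | add x y _ _ hx hy =>
          obtain ⟨u, hu1, hu2⟩ := hx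
          obtain ⟨v, hv1, hv2⟩ := hy
          exact ⟨u + v, by rw [map_add, hu1, hv1, map_add, map_add],
            by rw [map_add, hu2, hv2, map_add, map_add]⟩
        | mul x y _ _ hx hy =>
          obtain ⟨u, hu1, hu2⟩ := hx
          obtain ⟨v, hv1, hv2⟩ := hy
          exact ⟨u * v, by rw [map_mul, hu1, hv1, map_mul, map_mul],
            by rw [map_mul, hu2, hv2, map_mul, map_mul]⟩
      intro x hx
      obtain ⟨y, hy1, hy2⟩ := hP x
      have h0 : θ₁ x = 0 := by
        rw [hθ₁, Ideal.Quotient.eq_zero_iff_mem.mpr hx, zero_pow]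
        exact (pow_pos (by rcases hℓ with h | h; · omega
                           · exact h.1.pos) N).ne'
      rw [hy1, Ideal.Quotient.eq_zero_iff_mem] at h0
      have hy' : y ∈ (PrimeSpectrum.comap (algebraMap A B) Q₁).asIdeal := h0
      rw [hcomap] at hy'
      have hy'' : algebraMap A B y ∈ Q₂.asIdeal := hy'
      have h3 : θ₂ x = 0 := by rw [hy2, Ideal.Quotient.eq_zero_iff_mem]; exact hy''
      rw [hθ₂, ← map_pow, Ideal.Quotient.eq_zero_iff_mem] at h3
      exact Q₂.2.mem_of_pow_mem _ h3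
    intro Q₁ h₁ Q₂ h₂ hcomap
    exact PrimeSpectrum.ext (le_antisymm (key Q₁ Q₂ h₁ h₂ hcomap) (key Q₂ Q₁ h₂ h₁ hcomap.symm))

end Local

/-- a compact space covered by clopens each mapping injectively onto open subsets of an extremally
disconnected Hausdorff space is extremally disconnected -/
theorem extremallyDisconnected_of_cover {X Y : Type*} [TopologicalSpace X] [TopologicalSpace Y]
    [CompactSpace X] [T2Space Y] [ExtremallyDisconnected Y] (f : X → Y) (hf : Continuous f)
    (h : ∀ x : X, ∃ W : Set X, IsClopen W ∧ x ∈ W ∧ Set.InjOn f W ∧ IsOpen (f '' W)) :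
    ExtremallyDisconnected X := by
  refine ⟨fun U hU => ?_⟩
  rw [isOpen_iff_mem_nhds]
  intro x hx
  obtain ⟨W, hW, hxW, hinj, hfW⟩ := h x
  have hWcl : closure (U ∩ W) ⊆ W :=
    (closure_mono Set.inter_subset_right).trans hW.1.closure_subset
  have h1 : closure U ∩ W = closure (U ∩ W) := by
    apply Set.Subset.antisymm
    · exact hW.2.closure_inter
    · exact Set.subset_inter (closure_mono Set.inter_subset_left) hWcl
  have hV : IsOpen (f '' (U ∩ W)) := by
    have : f '' (U ∩ W) = f '' W \ f '' (W \ U) := by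
      ext y
      constructor
      · rintro ⟨z, ⟨hzU, hzW⟩, rfl⟩
        refine ⟨⟨z, hzW, rfl⟩, ?_⟩
        rintro ⟨z', ⟨hz'W, hz'U⟩, he⟩
        have := hinj hz'W hzW he
        subst this
        exact hz'U hzU
      · rintro ⟨⟨z, hzW, rfl⟩, hn⟩
        refine ⟨z, ⟨?_, hzW⟩, rfl⟩
        by_contra hzU
        exact hn ⟨z, ⟨hzW, hzU⟩, rfl⟩
    rw [this]
    exact hfW.sdiff (((hW.1.sdiff hU).isCompact.image hf).isClosed)
  have hcl : IsOpen (closure (f '' (U ∩ W))) := ExtremallyDisconnected.open_closure _ hV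
  have key : closure (U ∩ W) = W ∩ f ⁻¹' closure (f '' (U ∩ W)) := by
    apply Set.Subset.antisymm
    · intro z hz
      exact ⟨hWcl hz, map_mem_closure hf hz (fun y hy => Set.mem_image_of_mem f hy)⟩
    · rintro z ⟨hzW, hz⟩
      have h2 : closure (f '' (U ∩ W)) ⊆ f '' closure (U ∩ W) :=
        closure_minimal (Set.image_mono subset_closure)
          ((isClosed_closure.isCompact.image hf).isClosed)
      obtain ⟨z', hz', he⟩ := h2 hz
      have := hinj (hWcl hz') hzW he
      rw [← this]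
      exact hz'
  have hopen : IsOpen (closure (U ∩ W)) := by
    rw [key]
    exact hW.2.inter (hcl.preimage hf)
  have hxm : x ∈ closure (U ∩ W) := by rw [← h1]; exact ⟨hx, hxW⟩
  exact Filter.mem_of_superset (hopen.mem_nhds hxm)
    ((closure_mono Set.inter_subset_left))

/-- S0750 -/
theorem s0750 (A B : Type u) [CommRing A]
    [CommRing B] [Algebra A B] [Algebra.QuasiFinite A B] [Algebra.FinitePresentation A B]
    (hres : ∀ p : PrimeSpectrum A, IsSepClosed p.asIdeal.ResidueField)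
    [T2Space (PrimeSpectrum A)] [ExtremallyDisconnected (PrimeSpectrum A)] :
    ExtremallyDisconnected (PrimeSpectrum B) := by
  have hA : ∀ p : Ideal A, p.IsPrime → p.IsMaximal := isMaximal_of_t2 A
  haveI : Ring.KrullDimLE 0 A := Ring.KrullDimLE.mk₀ hA
  haveI : Ring.KrullDimLE 0 B := Ring.KrullDimLE.mk₀ (isMaximal_of_quasiFinite A B hA)
  apply extremallyDisconnected_of_cover (PrimeSpectrum.comap (algebraMap A B))
    (PrimeSpectrum.continuous_comap _)
  intro q
  obtain ⟨W, hW, hWc, hq, hinj⟩ := exists_clopen_injOn A B hres hA q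
  refine ⟨W, hW, hq, hinj, ?_⟩
  have hfp : (algebraMap A B).FinitePresentation :=
    RingHom.finitePresentation_algebraMap.mpr inferInstance
  exact (isClopen_of_isConstructible (PrimeSpectrum.isConstructible_comap_image hfp hWc)).2

end Groth.Agent.Helper2.EDQF
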