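import Mathlib
import Groth.Prelude
import Groth.Agent.Helper6.Dim1Rank
import Groth.Agent.Helper6.Dim1KA

set_option autoImplicit false
universe u
open Function IsLocalRing
open scoped Pointwise

namespace Groth.Agent.Helper2.EFSum

open Groth.Agent.Helper6.Dim1

section Embedding

variable {R : Type u} [CommRing R] [IsDomain R] [IsNoetherianRing R] {K : Type*} [Field K]
  [Algebra R K] [IsFractionRing R K] {V : Type*} [AddCommGroup V] [Module K V] [Module R V]
  [IsScalarTower R K V] [FiniteDimensional K V]

/-- exact version of helper6's `length_quotSMulTop_of_embedding` for modules of full rank -/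
theorem length_quotSMulTop_of_embedding_span (hdim : ringKrullDim R ≤ 1) {N : Type u}
    [AddCommGroup N] [Module R N] [Module.Finite R N] (ι : N →ₗ[R] V) (hι : Injective ι)
    (hspan : Submodule.span K (Set.range ι) = ⊤)
    {x : R} (hx : x ≠ 0) :
    Module.length R (QuotSMulTop x N) =
      (Module.finrank K V : ℕ∞) * Module.length R (R ⧸ Ideal.span {x}) := by
  classical
  obtain ⟨b, hbsub, hbspan, hbli⟩ := exists_linearIndependent K (Set.range ι)
  have hbfin : b.Finite := hbli.setFinite
  haveI : Fintype b := hbfin.fintype
  let s := Fintype.card b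
  let e : Fin s ≃ b := (Fintype.equivFin b).symm
  let w : Fin s → V := fun i => (e i : V)
  have hwli : LinearIndependent K w := hbli.comp e e.injective
  have hwrange : Set.range w = b := by
    ext v
    constructor
    · rintro ⟨i, rfl⟩
      exact (e i).2
    · intro hv
      exact ⟨e.symm ⟨v, hv⟩, by simp [w]⟩
  have hy : ∀ i, ∃ n : N, ι n = w i := fun i => hbsub (e i).2
  choose y hy using hy
  let φ : (Fin s → R) →ₗ[R] N := Fintype.linearCombination R y
  have hιφ : ∀ c, ι (φ c) = ∑ i, c i • w i := by
    intro c
    simp only [φ, Fintype.linearCombination_apply, map_sum, map_smul, hy]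
  have hφinj : Injective φ := by
    rw [← LinearMap.ker_eq_bot, LinearMap.ker_eq_bot']
    intro c hc
    have h0 : ∑ i, algebraMap R K (c i) • w i = 0 := by
      simp_rw [algebraMap_smul]
      rw [← hιφ, hc, map_zero]
    have h1 := Fintype.linearIndependent_iff.mp hwli _ h0
    ext i
    exact (IsFractionRing.injective R K) (by rw [h1 i]; simp)
  have htors : ∀ n : N, ∃ q : R, q ≠ 0 ∧ q • n ∈ LinearMap.range φ := by
    intro n
    have h1 : ι n ∈ Submodule.span K
        ((Submodule.span R (Set.range w) : Submodule R V) : Set V) := by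
      have h2 : ι n ∈ Submodule.span K (Set.range ι) := Submodule.subset_span ⟨n, rfl⟩
      rw [← hbspan, ← hwrange] at h2
      exact Submodule.span_mono Submodule.subset_span h2
    obtain ⟨q, hq, hqn⟩ := exists_smul_mem_of_mem_span (K := K) _ h1
    obtain ⟨c, hc⟩ := (Submodule.mem_span_range_iff_exists_fun R).mp hqn
    refine ⟨q, hq, ⟨c, ?_⟩⟩
    apply hι
    rw [hιφ, hc, map_smul]
  obtain ⟨q, hq, hq'⟩ := exists_smul_mem_uniform (LinearMap.range φ) htors
  have hC : Module.length R (N ⧸ LinearMap.range φ) ≠ ⊤ := by
    apply length_ne_top_of_isTorsionBy hdim (not_mem_minimalPrimes_of_ne_zero hq)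
    intro z
    obtain ⟨n, rfl⟩ := Submodule.Quotient.mk_surjective _ z
    rw [← Submodule.Quotient.mk_smul, Submodule.Quotient.mk_eq_zero]
    exact hq' n
  have hxK : algebraMap R K x ≠ 0 := by
    intro h0
    exact hx ((IsFractionRing.injective R K) (by rw [h0, map_zero]))
  have hker : LinearMap.ker (T x N) = ⊥ := by
    rw [LinearMap.ker_eq_bot']
    intro n hn
    apply hι
    rw [map_zero]
    have h2 : x • ι n = 0 := by
      rw [← map_smul]
      have : x • n = 0 := hn
      rw [this, map_zero]
    rw [← algebraMap_smul K x, smul_eq_zero] at h2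
    exact h2.resolve_left hxK
  have hmain := length_quot_eq_of_injective x φ hφinj
    (ker_T_pi_eq_bot (mem_nonZeroDivisors_of_ne_zero hx) s) hC
  have hs : Module.finrank K V = s := by
    have htop : ⊤ ≤ Submodule.span K (Set.range w) := by
      rw [hwrange, hbspan, hspan]
    have := Module.finrank_eq_card_basis (Module.Basis.mk hwli htop)
    simpa using this
  rw [hmain, hker, length_quotSMulTop_pi, hs]
  simp

end Embedding

section Span

variable (B K L : Type u) [CommRing B] [IsDomain B] [Field K] [Field L] [Algebra B L]
  [IsFractionRing B L] [Algebra K L] [FiniteDimensional K L]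

/-- the `K`-span of `B` in its fraction field `L`, finite over `K`, is everything -/
theorem span_range_eq_top : Submodule.span K (Set.range (algebraMap B L)) = ⊤ := by
  set S : Subalgebra K L := Algebra.adjoin K (Set.range (algebraMap B L)) with hS
  have hfield : IsField S := Subalgebra.isField_of_algebraic S
  have hBS : ∀ b : B, algebraMap B L b ∈ S := fun b => Algebra.subset_adjoin ⟨b, rfl⟩
  have hStop : S = ⊤ := by
    rw [eq_top_iff]
    intro l _
    obtain ⟨b, c, hc, rfl⟩ := IsFractionRing.div_surjective (A := B) l
    have hc0 : algebraMap B L c ≠ 0 := by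
      intro h0
      exact (nonZeroDivisors.ne_zero hc) ((IsFractionRing.injective B L) (by rw [h0, map_zero]))
    letI := hfield.toField
    have hinv : (algebraMap B L c)⁻¹ ∈ S := by
      have hne : (⟨algebraMap B L c, hBS c⟩ : S) ≠ 0 := by
        intro h0
        exact hc0 (congrArg Subtype.val h0)
      obtain ⟨z, hz⟩ := hfield.mul_inv_cancel hne
      have hz' : algebraMap B L c * (z : L) = 1 := congrArg Subtype.val hz
      have : (algebraMap B L c)⁻¹ = (z : L) := inv_eq_of_mul_eq_one_right hz'
      rw [this]; exact z.2
    rw [div_eq_mul_inv]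
    exact S.mul_mem (hBS b) hinv
  have h1 : (Algebra.adjoin K (Set.range (algebraMap B L))).toSubmodule =
      Submodule.span K (Submonoid.closure (Set.range (algebraMap B L)) : Set L) :=
    Algebra.adjoin_eq_span K _
  have h2 : (Submonoid.closure (Set.range (algebraMap B L)) : Set L) =
      Set.range (algebraMap B L) := by
    have : Set.range (algebraMap B L) =
        ((MonoidHom.mrange ((algebraMap B L : B →+* L) : B →* L) : Submonoid L) : Set L) := by
      ext l; simp
    rw [this, Submonoid.closure_eq]
  rw [h2] at h1
  rw [← h1, ← hS, hStop]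
  rfl

end Span

end Groth.Agent.Helper2.EFSum
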