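import Mathlib
import Groth.Prelude
import Groth.Agent.Helper2.EFSum1

set_option autoImplicit false
universe u
open Function IsLocalRing
open scoped Pointwise

namespace Groth.Agent.Helper2.EFSum

open Groth.Agent.Helper6.Dim1

section Main

variable (A B K L : Type u)
    [CommRing A] [IsDomain A] [IsNoetherianRing A]
    [CommRing B] [IsDomain B] [Algebra A B]
    [Field K] [Field L] [Algebra A K] [IsFractionRing A K] [Algebra B L] [IsFractionRing B L]
    [Algebra K L] [Algebra A L] [IsScalarTower A K L] [IsScalarTower A B L] [FiniteDimensional K L]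

/-- the embedding of a submodule of `B` into `L` -/
noncomputable def emb (N : Submodule A B) : N →ₗ[A] L :=
  (IsScalarTower.toAlgHom A B L).toLinearMap.comp N.subtype

theorem emb_apply (N : Submodule A B) (n : N) : emb A B L N n = algebraMap B L n := rfl

theorem emb_injective (N : Submodule A B) : Injective (emb A B L N) := by
  intro a b h
  rw [emb_apply, emb_apply] at h
  exact Subtype.ext (IsFractionRing.injective B L h)

theorem length_le (hdim : ringKrullDim A ≤ 1) (x : A) (hx : x ≠ 0) :
    Module.length A (QuotSMulTop x B) ≤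
      (Module.finrank K L : ℕ∞) * Module.length A (A ⧸ Ideal.span {x}) := by
  have h1 : Module.length A (A ⧸ Ideal.span ({x} : Set A)) ≠ ⊤ :=
    length_quot_ne_top hdim (not_mem_minimalPrimes_of_ne_zero hx)
  have hB : (Module.finrank K L : ℕ∞) * Module.length A (A ⧸ Ideal.span ({x} : Set A)) ≠ ⊤ :=
    WithTop.mul_ne_top (ENat.natCast_ne_top _) h1
  refine length_quotSMulTop_le_of_fg x B _ hB ?_
  intro N hN
  haveI : Module.Finite A N := Module.Finite.iff_fg.mpr hN
  obtain ⟨s, hs, hlen⟩ := length_quotSMulTop_of_embedding (K := K) hdim (emb A B L N)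
    (emb_injective A B L N) hx
  rw [hlen]
  gcongr

theorem length_eq_of_fg (hdim : ringKrullDim A ≤ 1) (x : A) (hx : x ≠ 0) (N : Submodule A B)
    (hN : N.FG) (hspan : Submodule.span K (algebraMap B L '' (N : Set B)) = ⊤) :
    Module.length A (QuotSMulTop x N) =
      (Module.finrank K L : ℕ∞) * Module.length A (A ⧸ Ideal.span {x}) := by
  haveI : Module.Finite A N := Module.Finite.iff_fg.mpr hN
  refine length_quotSMulTop_of_embedding_span (K := K) hdim (emb A B L N)
    (emb_injective A B L N) ?_ hx
  rw [← hspan]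
  congr 1
  ext l
  constructor
  · rintro ⟨n, rfl⟩
    exact ⟨n.1, n.2, rfl⟩
  · rintro ⟨b, hb, rfl⟩
    exact ⟨⟨b, hb⟩, rfl⟩

/-- `B/xB` in the two guises -/
noncomputable def quotEquiv (x : A) :
    QuotSMulTop x B ≃ₗ[A] (B ⧸ Ideal.span {algebraMap A B x}) :=
  (Submodule.quotEquivOfEq _ _ (by
    ext b
    rw [Submodule.mem_smul_pointwise_iff_exists, Submodule.restrictScalars_mem,
      Ideal.mem_span_singleton']
    constructor
    · rintro ⟨c, -, rfl⟩
      exact ⟨c, by rw [Algebra.smul_def, mul_comm]⟩
    · rintro ⟨c, rfl⟩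
      exact ⟨c, trivial, by rw [Algebra.smul_def, mul_comm]⟩)).trans
    (Submodule.Quotient.restrictScalarsEquiv A (Ideal.span {algebraMap A B x}))

end Main

end Groth.Agent.Helper2.EFSum
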