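import Mathlib
import Groth.Prelude
import Groth.Agent.Helper2.EFSum2

set_option autoImplicit false
universe u
open Function IsLocalRing
open scoped Pointwise

namespace Groth.Agent.Helper2.EFSum

open Groth.Agent.Helper6.Dim1

section Main

variable (A B K L : Type u)
    [CommRing A] [IsDomain A] [IsNoetherianRing A]
    [CommRing B] [IsDomain B] [Algebra A B]
    [Field K] [Field L] [Algebra A K] [IsFractionRing A K] [Algebra B L] [IsFractionRing B L]
    [Algebra K L] [Algebra A L] [IsScalarTower A K L] [IsScalarTower A B L] [FiniteDimensional K L]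

/-- a finitely generated `A`-submodule of `B` spanning `L` over `K` -/
theorem exists_fg_span_eq_top :
    ∃ N : Submodule A B, N.FG ∧ Submodule.span K (algebraMap B L '' (N : Set B)) = ⊤ := by
  classical
  obtain ⟨b, hbsub, hbspan, hbli⟩ := exists_linearIndependent K (Set.range (algebraMap B L))
  have hbfin : b.Finite := hbli.setFinite
  rw [span_range_eq_top B K L] at hbspan
  have hpre : ((algebraMap B L) ⁻¹' b).Finite :=
    hbfin.preimage ((IsFractionRing.injective B L).injOn)
  refine ⟨Submodule.span A ((algebraMap B L) ⁻¹' b), Submodule.fg_span hpre, ?_⟩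
  rw [eq_top_iff, ← hbspan]
  apply Submodule.span_mono
  intro v hv
  obtain ⟨c, rfl⟩ := hbsub hv
  exact ⟨c, Submodule.subset_span hv, rfl⟩

theorem finite_of_length_eq [IsLocalRing A] (hdim : ringKrullDim A ≤ 1) (x : A)
    (hxm : x ∈ maximalIdeal A) (hx : x ≠ 0)
    (heq : Module.length A (QuotSMulTop x B) =
      (Module.finrank K L : ℕ∞) * Module.length A (A ⧸ Ideal.span {x})) :
    Module.Finite A B := by
  classical
  have h1 : Module.length A (A ⧸ Ideal.span ({x} : Set A)) ≠ ⊤ :=
    length_quot_ne_top hdim (not_mem_minimalPrimes_of_ne_zero hx)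
  have hB : (Module.finrank K L : ℕ∞) * Module.length A (A ⧸ Ideal.span ({x} : Set A)) ≠ ⊤ :=
    WithTop.mul_ne_top (ENat.natCast_ne_top _) h1
  have hfinlen : Module.length A (QuotSMulTop x B) ≠ ⊤ := by rw [heq]; exact hB
  have hfl := hfinlen
  rw [Module.length_ne_top_iff, isFiniteLength_iff_isNoetherian_isArtinian] at hfl
  haveI := hfl.1
  let π : B →ₗ[A] QuotSMulTop x B := Submodule.mkQ (x • (⊤ : Submodule A B))
  have hπ : Surjective π := Submodule.mkQ_surjective _
  -- lift generators
  obtain ⟨n, s, hs⟩ := Module.Finite.exists_fin (R := A) (M := QuotSMulTop x B)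
  choose t ht using fun i => hπ (s i)
  set N1 : Submodule A B := Submodule.span A (Set.range t) with hN1
  have hN1fg : N1.FG := Submodule.fg_span (Set.finite_range t)
  have hN1top : N1.map π = ⊤ := by
    rw [hN1, Submodule.map_span, ← Set.range_comp, eq_top_iff, ← hs]
    apply Submodule.span_mono
    rintro _ ⟨i, rfl⟩
    exact ⟨i, ht i⟩
  obtain ⟨N2, hN2fg, hN2span⟩ := exists_fg_span_eq_top A B K L
  set N0 : Submodule A B := N1 ⊔ N2 with hN0
  have hN0fg : N0.FG := hN1fg.sup hN2fg
  -- the key property of submodules containing N0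
  have key : ∀ N : Submodule A B, N.FG → N0 ≤ N →
      Surjective (QuotSMulTop.map x N.subtype) ∧ Injective (QuotSMulTop.map x N.subtype) := by
    intro N hN hle
    have hsurj : Surjective (QuotSMulTop.map x N.subtype) := by
      intro q
      have hq : q ∈ N1.map π := by rw [hN1top]; trivial
      obtain ⟨m, hm, rfl⟩ := hq
      exact ⟨Submodule.Quotient.mk ⟨m, hle (le_sup_left (a := N1) hm)⟩, rfl⟩
    refine ⟨hsurj, ?_⟩
    have hspanN : Submodule.span K (algebraMap B L '' (N : Set B)) = ⊤ := by
      rw [eq_top_iff, ← hN2span]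
      apply Submodule.span_mono
      apply Set.image_mono
      exact fun v hv => hle (le_sup_right (a := N1) hv)
    have hlenN := length_eq_of_fg A B K L hdim x hx N hN hspanN
    have hadd := Module.length_eq_add_of_exact
      (LinearMap.ker (QuotSMulTop.map x N.subtype)).subtype (QuotSMulTop.map x N.subtype)
      (Submodule.subtype_injective _) hsurj (LinearMap.exact_subtype_ker_map _)
    rw [hlenN, heq] at hadd
    have hzero : Module.length A (LinearMap.ker (QuotSMulTop.map x N.subtype)) = 0 := by
      have h2 : (0 : ℕ∞) + (Module.finrank K L : ℕ∞) *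
          Module.length A (A ⧸ Ideal.span ({x} : Set A)) =
          Module.length A (LinearMap.ker (QuotSMulTop.map x N.subtype)) +
            (Module.finrank K L : ℕ∞) * Module.length A (A ⧸ Ideal.span ({x} : Set A)) := by
        rw [zero_add]; exact hadd
      exact ((ENat.add_left_injective_of_ne_top hB) h2).symm
    rw [Module.length_eq_zero_iff] at hzero
    rw [← LinearMap.ker_eq_bot]
    exact Submodule.eq_bot_of_subsingleton
  -- Nakayama
  have hle : ∀ N : Submodule A B, N.FG → N0 ≤ N → N ≤ N0 := by
    intro N hN hle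
    refine Submodule.le_of_le_smul_of_le_jacobson_bot (I := Ideal.span {x}) hN ?_ ?_
    · rw [IsLocalRing.jacobson_eq_maximalIdeal ⊥ bot_ne_top]
      rw [Ideal.span_le]
      intro y hy
      rw [Set.mem_singleton_iff.1 hy]; exact hxm
    · intro v hv
      obtain ⟨hs0, -⟩ := key N0 hN0fg le_rfl
      obtain ⟨-, hiN⟩ := key N hN hle
      obtain ⟨q0, hq0⟩ := hs0 (π v)
      obtain ⟨⟨v0, hv0⟩, rfl⟩ := Submodule.Quotient.mk_surjective _ q0
      have h3 : QuotSMulTop.map x N.subtype (Submodule.Quotient.mk ⟨v, hv⟩) =
          QuotSMulTop.map x N.subtype (Submodule.Quotient.mk ⟨v0, hle hv0⟩) := by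
        change π v = π v0
        rw [← hq0]
        rfl
      have h4 := hiN h3
      rw [Submodule.Quotient.eq, Submodule.mem_smul_pointwise_iff_exists] at h4
      obtain ⟨w, -, hw⟩ := h4
      have h5 : v = v0 + x • (w : B) := by
        have := congrArg Subtype.val hw
        simp only [Submodule.coe_smul, Submodule.coe_sub] at this
        rw [this]; ring
      rw [h5]
      exact Submodule.add_mem_sup hv0
        (Submodule.smul_mem_smul (Ideal.mem_span_singleton_self x) w.2)
  have htop : N0 = ⊤ := by
    rw [eq_top_iff]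
    intro v _
    have := hle (N0 ⊔ Submodule.span A {v}) (hN0fg.sup (Submodule.fg_span_singleton v)) le_sup_left
    exact this (Submodule.mem_sup_right (Submodule.mem_span_singleton_self v))
  rw [Module.finite_def, ← htop]
  exact hN0fg

end Main

end Groth.Agent.Helper2.EFSum
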