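import Mathlib
import Groth.Prelude
import Groth.Agent.Helper2.EFSum3
import Groth.Agent.Helper3.NormA

set_option autoImplicit false
universe u
open Function IsLocalRing
open scoped Pointwise

namespace Groth.Agent.Helper2.EFSum

open Groth.Agent.Helper6.Dim1 Groth.Agent.Helper3

section Final

variable (A B K L : Type u)
    [CommRing A] [IsDomain A] [IsNoetherianRing A] [IsLocalRing A]
    [CommRing B] [IsDomain B] [Algebra A B]
    [Field K] [Field L] [Algebra A K] [IsFractionRing A K] [Algebra B L] [IsFractionRing B L]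
    [Algebra K L] [Algebra A L] [IsScalarTower A K L] [IsScalarTower A B L] [FiniteDimensional K L]

include K L

theorem comap_eq_maximalIdeal (hdim : ringKrullDim A = 1) (hB : ¬ IsField B) (m : Ideal B)
    [hm : m.IsMaximal] : m.comap (algebraMap A B) = maximalIdeal A := by
  have hm0 : m ≠ ⊥ := Ring.ne_bot_of_isMaximal_of_not_isField hm hB
  obtain ⟨b, hbm, hb0⟩ := Submodule.exists_mem_ne_zero_of_ne_bot hm0
  have halgL : IsAlgebraic K (algebraMap B L b) := Algebra.IsAlgebraic.isAlgebraic _
  have halgA : IsAlgebraic A (algebraMap B L b) :=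
    (IsFractionRing.isAlgebraic_iff A K L).2 halgL
  have halg : IsAlgebraic A b :=
    (isAlgebraic_algebraMap_iff (IsFractionRing.injective B L)).1 halgA
  have hne : m.comap (algebraMap A B) ≠ ⊥ := Ideal.comap_ne_bot_of_algebraic_mem hb0 hbm halg
  haveI : Ring.KrullDimLE 1 A := Ring.krullDimLE_iff.2 hdim.le
  have hmax : (m.comap (algebraMap A B)).IsMaximal :=
    Ideal.IsPrime.isMaximal_of_ne_bot (Ideal.comap_isPrime _ _) hne
  exact IsLocalRing.eq_maximalIdeal hmax

theorem sum_eq_length (hdim : ringKrullDim A = 1) (hB : ¬ IsField B) (x : A) (hx : x ≠ 0) :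
    Finite (MaximalSpectrum B) ∧
    (∑ᶠ m : MaximalSpectrum B,
          Module.length A (B ⧸ m.asIdeal) *
            Module.length (Localization.AtPrime m.asIdeal)
              (Localization.AtPrime m.asIdeal ⧸
                Ideal.span ({algebraMap A (Localization.AtPrime m.asIdeal) x} : Set _))) =
      Module.length A (B ⧸ Ideal.span {algebraMap A B x}) := by
  obtain ⟨h1, h2, h3⟩ := main_S9133 (R := A) (S := B) K L hdim
  have hover : ∀ n : MaximalSpectrum B,
      n.asIdeal.comap (algebraMap A B) = IsLocalRing.maximalIdeal A := fun n => by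
    haveI := n.isMaximal
    exact comap_eq_maximalIdeal A B K L hdim hB n.asIdeal
  have hmem : ∀ n : MaximalSpectrum B, n.asIdeal ∈ (maximalIdeal A).primesOver B := fun n =>
    ⟨n.isMaximal.isPrime, ⟨(hover n).symm⟩⟩
  haveI hfinite : Finite (MaximalSpectrum B) := by
    haveI : Finite ↥((maximalIdeal A).primesOver B) := h2.to_subtype
    refine Finite.of_injective
      (fun n : MaximalSpectrum B => (⟨n.asIdeal, hmem n⟩ : ↥((maximalIdeal A).primesOver B))) ?_
    intro n n' h
    exact MaximalSpectrum.ext (congrArg Subtype.val h)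
  refine ⟨hfinite, ?_⟩
  have hfin : ∀ n : MaximalSpectrum B,
      Module.Finite (A ⧸ n.asIdeal.comap (algebraMap A B)) (B ⧸ n.asIdeal) := fun n => by
    haveI := h3 n.asIdeal (hmem n)
    exact Module.Finite.of_restrictScalars_finite A _ _
  have hlen : Module.length A (B ⧸ Ideal.span {algebraMap A B x}) ≠ ⊤ :=
    length_quot_span_ne_top K L hdim.le x hx
  have hfl : IsFiniteLength B (B ⧸ Ideal.span {algebraMap A B x}) := by
    rw [Module.length_ne_top_iff] at hlen
    rw [isFiniteLength_iff_isNoetherian_isArtinian] at hlen ⊢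
    exact ⟨isNoetherian_of_tower A hlen.1, isArtinian_of_tower A hlen.2⟩
  rw [LenSemi.main A B hover hfin (B ⧸ Ideal.span {algebraMap A B x}) hfl]
  unfold LenSemi.F
  apply finsum_congr
  intro n
  haveI := n.isMaximal
  rw [LenSemi.length_simple A B hover hfin (B ⧸ n.asIdeal) n.asIdeal n.isMaximal
    (LinearEquiv.refl _ _)]
  rw [NormA.length_loc_quot B n.asIdeal (Localization.AtPrime n.asIdeal)
    (Ideal.span {algebraMap A B x})]
  rw [Ideal.map_span, Set.image_singleton, ← IsScalarTower.algebraMap_apply]

end Final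

end Groth.Agent.Helper2.EFSum
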