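import Mathlib
import Groth.Prelude
import Groth.Agent.Helper2.EFSum4

set_option autoImplicit false
universe u
open Function IsLocalRing
open scoped Pointwise

namespace Groth.Agent.Helper2.EFSum

open Groth.Agent.Helper6.Dim1 Groth.Agent.Helper3

theorem main (A B K L : Type u)
    [CommRing A] [IsDomain A] [IsNoetherianRing A] [IsLocalRing A] (hdim : ringKrullDim A = 1)
    [CommRing B] [IsDomain B] [Algebra A B] [FaithfulSMul A B]
    [Field K] [Field L] [Algebra A K] [IsFractionRing A K] [Algebra B L] [IsFractionRing B L]
    [Algebra K L] [Algebra A L] [IsScalarTower A K L] [IsScalarTower A B L] [FiniteDimensional K L]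
    (x : A) (hx : x ∈ IsLocalRing.maximalIdeal A) (hx0 : x ≠ 0) :
    Finite (MaximalSpectrum B) ∧
      (∑ᶠ m : MaximalSpectrum B,
          Module.length A (B ⧸ m.asIdeal) *
            Module.length (Localization.AtPrime m.asIdeal)
              (Localization.AtPrime m.asIdeal ⧸
                Ideal.span ({algebraMap A (Localization.AtPrime m.asIdeal) x} : Set _)) ≤
        (Module.finrank K L : ℕ∞) * Module.length A (A ⧸ Ideal.span ({x} : Set A))) ∧
      ((∑ᶠ m : MaximalSpectrum B,
          Module.length A (B ⧸ m.asIdeal) *
            Module.length (Localization.AtPrime m.asIdeal)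
              (Localization.AtPrime m.asIdeal ⧸
                Ideal.span ({algebraMap A (Localization.AtPrime m.asIdeal) x} : Set _)) =
        (Module.finrank K L : ℕ∞) * Module.length A (A ⧸ Ideal.span ({x} : Set A))) ↔
          Module.Finite A B) := by
  by_cases hB : IsField B
  · -- `B` is a field: the sum vanishes
    have hbot : ∀ n : MaximalSpectrum B, n.asIdeal = ⊥ := fun n => by
      letI := hB.toField
      exact (Ideal.eq_bot_or_top n.asIdeal).resolve_right n.isMaximal.ne_top
    haveI : Subsingleton (MaximalSpectrum B) :=
      ⟨fun n n' => MaximalSpectrum.ext ((hbot n).trans (hbot n').symm)⟩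
    have hxB : algebraMap A B x ≠ 0 := by
      intro h0
      exact hx0 ((FaithfulSMul.algebraMap_injective A B) (by rw [h0, map_zero]))
    have hunit : IsUnit (algebraMap A B x) := by
      letI := hB.toField
      exact isUnit_iff_ne_zero.2 hxB
    have hterm : ∀ m : MaximalSpectrum B,
        Module.length A (B ⧸ m.asIdeal) *
            Module.length (Localization.AtPrime m.asIdeal)
              (Localization.AtPrime m.asIdeal ⧸
                Ideal.span ({algebraMap A (Localization.AtPrime m.asIdeal) x} : Set _)) = 0 := by
      intro m
      have hu : IsUnit (algebraMap A (Localization.AtPrime m.asIdeal) x) := by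
        rw [IsScalarTower.algebraMap_apply A B (Localization.AtPrime m.asIdeal)]
        exact hunit.map _
      have htop : Ideal.span ({algebraMap A (Localization.AtPrime m.asIdeal) x} : Set _) = ⊤ :=
        Ideal.span_singleton_eq_top.2 hu
      haveI : Subsingleton (Localization.AtPrime m.asIdeal ⧸
          Ideal.span ({algebraMap A (Localization.AtPrime m.asIdeal) x} : Set _)) :=
        Ideal.Quotient.subsingleton_iff.2 htop
      have h0 : Module.length (Localization.AtPrime m.asIdeal)
              (Localization.AtPrime m.asIdeal ⧸
                Ideal.span ({algebraMap A (Localization.AtPrime m.asIdeal) x} : Set _)) = 0 :=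
        Module.length_eq_zero_iff.2 inferInstance
      rw [h0, mul_zero]
    have hsum : (∑ᶠ m : MaximalSpectrum B,
          Module.length A (B ⧸ m.asIdeal) *
            Module.length (Localization.AtPrime m.asIdeal)
              (Localization.AtPrime m.asIdeal ⧸
                Ideal.span ({algebraMap A (Localization.AtPrime m.asIdeal) x} : Set _))) = 0 :=
      finsum_eq_zero_of_forall_eq_zero hterm
    have hr : (Module.finrank K L : ℕ∞) ≠ 0 := by
      have : 0 < Module.finrank K L := Module.finrank_pos
      exact_mod_cast this.ne'
    have hl : Module.length A (A ⧸ Ideal.span ({x} : Set A)) ≠ 0 := by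
      have hne : Ideal.span ({x} : Set A) ≠ ⊤ := by
        intro h
        rw [Ideal.span_singleton_eq_top] at h
        exact (IsLocalRing.mem_maximalIdeal x).1 hx h
      haveI : Nontrivial (A ⧸ Ideal.span ({x} : Set A)) := Ideal.Quotient.nontrivial_iff.2 hne
      exact (Module.length_pos (R := A) (M := A ⧸ Ideal.span ({x} : Set A))).ne'
    have hnotfin : ¬ Module.Finite A B := by
      intro hfin
      have hint : Algebra.IsIntegral A B := Algebra.IsIntegral.of_finite A B
      exact not_isField_of_dim_one hdim
        (isField_of_isIntegral_of_isField (FaithfulSMul.algebraMap_injective A B) hB)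
    rw [hsum]
    refine ⟨inferInstance, zero_le, ?_⟩
    constructor
    · intro h
      exact absurd h.symm (mul_ne_zero hr hl)
    · intro h
      exact absurd h hnotfin
  · obtain ⟨hfinite, hsum⟩ := sum_eq_length A B K L hdim hB x hx0
    rw [hsum, ← (quotEquiv A B x).length_eq]
    refine ⟨hfinite, length_le A B K L hdim.le x hx0, ?_⟩
    constructor
    · intro heq
      exact finite_of_length_eq A B K L hdim.le x hx hx0 heq
    · intro hfin
      refine length_quotSMulTop_of_embedding_span (K := K) hdim.le
        (IsScalarTower.toAlgHom A B L).toLinearMap (IsFractionRing.injective B L) ?_ hx0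
      exact span_range_eq_top B K L

end Groth.Agent.Helper2.EFSum
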