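import Mathlib
open CategoryTheory Limits Opposite
universe w v₁ u₁

namespace Groth.Agent.Helper2.EqRel

section General
variable {C : Type u₁} [Category.{v₁} C]

/-- For a reflexive pair, a coequalizer is a pushout square. -/
lemma isPushout_of_isColimit {R X B : C} {p₁ p₂ : R ⟶ X} (r : X ⟶ R) (h₁ : r ≫ p₁ = 𝟙 X)
    (h₂ : r ≫ p₂ = 𝟙 X) {π : X ⟶ B} (w : p₁ ≫ π = p₂ ≫ π) (hc : IsColimit (Cofork.ofπ π w)) :
    IsPushout p₁ p₂ π π := by
  have key : ∀ s : PushoutCocone p₁ p₂, s.inl = s.inr := by
    intro s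
    calc s.inl = r ≫ p₁ ≫ s.inl := by rw [← Category.assoc, h₁, Category.id_comp]
      _ = r ≫ p₂ ≫ s.inr := by rw [s.condition]
      _ = s.inr := by rw [← Category.assoc, h₂, Category.id_comp]
  have cond : ∀ s : PushoutCocone p₁ p₂, p₁ ≫ s.inl = p₂ ≫ s.inl := by
    intro s
    conv_rhs => rw [key s]
    exact s.condition
  refine ⟨⟨w⟩, ⟨PushoutCocone.IsColimit.mk _ (fun s => Cofork.IsColimit.desc hc s.inl (cond s)) ?_ ?_ ?_⟩⟩
  · intro s
    exact Cofork.IsColimit.π_desc' hc s.inl (cond s)
  · intro s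
    rw [← key s]
    exact Cofork.IsColimit.π_desc' hc s.inl (cond s)
  · intro s m hm₁ hm₂
    apply Cofork.IsColimit.hom_ext hc
    rw [Cofork.IsColimit.π_desc' hc s.inl (cond s)]
    exact hm₁

end General

section TypeLevel

/-- In `Type`, an equivalence relation is the kernel pair of its coequalizer. -/
lemma isPullback_type {R₀ X₀ B₀ : Type w} (f g : R₀ ⟶ X₀)
    (hE : _root_.Equivalence (fun x y : X₀ => ∃ ρ : R₀, f ρ = x ∧ g ρ = y))
    (hinj : ∀ a b : R₀, f a = f b → g a = g b → a = b)
    (π₀ : X₀ ⟶ B₀) (w : f ≫ π₀ = g ≫ π₀) (hc : IsColimit (Cofork.ofπ π₀ w)) :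
    IsPullback f g π₀ π₀ := by
  rw [Types.isPullback_iff]
  refine ⟨w, fun a b h => hinj a b h.1 h.2, fun x y hxy => ?_⟩
  let i := hc.coconePointUniqueUpToIso (Types.coequalizerColimit f g).isColimit
  have hi : π₀ ≫ i.hom = (Types.coequalizerColimit f g).cocone.ι.app WalkingParallelPair.one :=
    hc.comp_coconePointUniqueUpToIso_hom _ WalkingParallelPair.one
  have h1 : Function.Coequalizer.mk f g x = Function.Coequalizer.mk f g y := by
    have hx := ConcreteCategory.congr_hom hi x
    have hy := ConcreteCategory.congr_hom hi y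
    simp only [ConcreteCategory.comp_apply] at hx hy
    rw [hxy] at hx
    exact hx.symm.trans hy
  have h2 := Quot.eqvGen_exact h1
  have h3 : Relation.EqvGen (fun x y : X₀ => ∃ ρ : R₀, f ρ = x ∧ g ρ = y) x y := by
    refine Relation.EqvGen.mono ?_ _ _ h2
    rintro _ _ ⟨ρ⟩
    exact ⟨ρ, rfl, rfl⟩
  exact hE.eqvGen_iff.mp h3

end TypeLevel

section Presheaf
variable {C : Type u₁} [Category.{v₁} C] {R X : C ⥤ Type w} {p₁ p₂ : R ⟶ X}

lemma isPullback_app' {P A B D : C ⥤ Type w} {a : P ⟶ A} {b : P ⟶ B} {c : A ⟶ D} {d : B ⟶ D}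
    (h : IsPullback a b c d) (U : C) : IsPullback (a.app U) (b.app U) (c.app U) (d.app U) :=
  h.map ((evaluation C (Type w)).obj U)

lemma isPullback_of_app {P A B D : C ⥤ Type w} {a : P ⟶ A} {b : P ⟶ B} {c : A ⟶ D} {d : B ⟶ D}
    (w : a ≫ c = b ≫ d)
    (h : ∀ U, IsPullback (a.app U) (b.app U) (c.app U) (d.app U)) : IsPullback a b c d := by
  refine ⟨⟨w⟩, ⟨evaluationJointlyReflectsLimits _ fun U => ?_⟩⟩
  exact (isLimitMapConePullbackConeEquiv ((evaluation C (Type w)).obj U) w).symm (h U).isLimit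

/-- sectionwise equivalence relation -/
lemma equivalence_app (e : EquivalenceRelation p₁ p₂) (U : C) :
    _root_.Equivalence (fun x y : X.obj U => ∃ ρ : R.obj U, p₁.app U ρ = x ∧ p₂.app U ρ = y) := by
  refine ⟨fun x => ⟨e.r.app U x, ?_, ?_⟩, ?_, ?_⟩
  · have := ConcreteCategory.congr_hom (congr_app e.reflexivity₁ U) x
    simp only [NatTrans.comp_app, ConcreteCategory.comp_apply, NatTrans.id_app,
      ConcreteCategory.id_apply] at this
    exact this
  · have := ConcreteCategory.congr_hom (congr_app e.reflexivity₂ U) x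
    simp only [NatTrans.comp_app, ConcreteCategory.comp_apply, NatTrans.id_app,
      ConcreteCategory.id_apply] at this
    exact this
  · rintro x y ⟨ρ, rfl, rfl⟩
    refine ⟨e.s.app U ρ, ?_, ?_⟩
    · have := ConcreteCategory.congr_hom (congr_app e.symmetry₁ U) ρ
      simp only [NatTrans.comp_app, ConcreteCategory.comp_apply] at this
      exact this
    · have := ConcreteCategory.congr_hom (congr_app e.symmetry₂ U) ρ
      simp only [NatTrans.comp_app, ConcreteCategory.comp_apply] at this
      exact this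
  · rintro x y z ⟨ρ, rfl, rfl⟩ ⟨ρ', h1, rfl⟩
    have hc := isPullback_app' (IsPullback.of_isLimit e.isLimit) U
    obtain ⟨c, hc1, hc2⟩ := Types.exists_of_isPullback hc ρ ρ' h1.symm
    refine ⟨e.t.app U c, ?_, ?_⟩
    · have := ConcreteCategory.congr_hom (congr_app e.transitivity₁ U) c
      simp only [NatTrans.comp_app, ConcreteCategory.comp_apply] at this
      rw [this, hc1]
    · have := ConcreteCategory.congr_hom (congr_app e.transitivity₂ U) c
      simp only [NatTrans.comp_app, ConcreteCategory.comp_apply] at this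
      rw [this, hc2]


/-- Jointly monic pairs of presheaves of types are jointly injective on sections. -/
lemma app_injective_of_jointlyMono (h : JointlyMono₂ p₁ p₂) (U : C) (a b : R.obj U)
    (h1 : p₁.app U a = p₁.app U b) (h2 : p₂.app U a = p₂.app U b) : a = b := by
  let G : Subfunctor (pullback p₁ p₁) :=
    { obj := fun V => {k | p₂.app V ((pullback.fst p₁ p₁).app V k) = p₂.app V ((pullback.snd p₁ p₁).app V k)}
      map := by
        intro V W i k hk
        simp only [Set.mem_preimage, Set.mem_ofPred_eq] at hk ⊢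
        have n1 := NatTrans.naturality_apply (pullback.fst p₁ p₁ ≫ p₂) i k
        have n2 := NatTrans.naturality_apply (pullback.snd p₁ p₁ ≫ p₂) i k
        simp only [NatTrans.comp_app, ConcreteCategory.comp_apply] at n1 n2
        rw [n1, n2, hk] }
  have hfg : G.ι ≫ pullback.fst p₁ p₁ = G.ι ≫ pullback.snd p₁ p₁ := by
    apply h.right_cancellation
    · rw [Category.assoc, Category.assoc, pullback.condition]
    · ext V ⟨k, hk⟩
      exact hk
  have hK := isPullback_app' (IsPullback.of_hasPullback p₁ p₁) U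
  obtain ⟨k, hk1, hk2⟩ := Types.exists_of_isPullback hK a b h1
  have hkG : k ∈ G.obj U := by
    show p₂.app U ((pullback.fst p₁ p₁).app U k) = p₂.app U ((pullback.snd p₁ p₁).app U k)
    rw [hk1, hk2, h2]
  have := ConcreteCategory.congr_hom (congr_app hfg U) (⟨k, hkG⟩ : G.toFunctor.obj U)
  simp only [NatTrans.comp_app, ConcreteCategory.comp_apply] at this
  have e1 : (G.ι.app U) (⟨k, hkG⟩ : G.toFunctor.obj U) = k := rfl
  rw [e1, hk1, hk2] at this
  exact this


end Presheaf

end Groth.Agent.Helper2.EqRel
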