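import Mathlib
import Groth.Agent.Helper2.EqRel
open CategoryTheory Limits Opposite
universe w v₁ u₁

namespace Groth.Agent.Helper2.EqRel

section Presheaf
variable {C : Type u₁} [Category.{v₁} C] {R X : C ⥤ Type w} {p₁ p₂ : R ⟶ X}

/-- In presheaves of types an equivalence relation is the kernel pair of its coequalizer. -/
lemma isKernelPair_presheaf (e : EquivalenceRelation p₁ p₂) :
    IsKernelPair (coequalizer.π p₁ p₂) p₁ p₂ := by
  have hcoeq := coequalizerIsCoequalizer p₁ p₂
  apply isPullback_of_app (coequalizer.condition p₁ p₂)
  intro U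
  have hU := isColimitCoforkMapOfIsColimit ((evaluation C (Type w)).obj U)
    (coequalizer.condition p₁ p₂) hcoeq
  exact isPullback_type (p₁.app U) (p₂.app U) (equivalence_app e U)
    (app_injective_of_jointlyMono e.toJointlyMono₂ U) _ _ hU

end Presheaf

section Sheaf
variable {C : Type u₁} [Category.{v₁} C] (J : GrothendieckTopology C) [HasSheafify J (Type w)]
  {R X : Sheaf J (Type w)} {p₁ p₂ : R ⟶ X}

lemma jointlyMono_hom (h : JointlyMono₂ p₁ p₂) : JointlyMono₂ p₁.hom p₂.hom := by
  constructor
  intro Y f g h1 h2
  let adj := sheafificationAdjunction J (Type w)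
  apply (adj.homEquiv Y R).symm.injective
  apply h.right_cancellation
  · have e1 := adj.homEquiv_naturality_right_symm f p₁
    have e2 := adj.homEquiv_naturality_right_symm g p₁
    rw [← e1, ← e2]
    congr 1
  · have e1 := adj.homEquiv_naturality_right_symm f p₂
    have e2 := adj.homEquiv_naturality_right_symm g p₂
    rw [← e1, ← e2]
    congr 1

/-- The underlying presheaf relation of an equivalence relation of sheaves. -/
noncomputable def equivalenceRelationHom (e : EquivalenceRelation p₁ p₂) :
    EquivalenceRelation p₁.hom p₂.hom :=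
  haveI : JointlyMono₂ ((sheafToPresheaf J (Type w)).map p₁) ((sheafToPresheaf J (Type w)).map p₂) :=
    jointlyMono_hom J e.toJointlyMono₂
  { __ := e.toReflexiveRelation.map (sheafToPresheaf J (Type w))
    __ := e.toSymmetricRelation.map (sheafToPresheaf J (Type w))
    __ := e.toTransitiveRelation.map (sheafToPresheaf J (Type w)) }

end Sheaf

end Groth.Agent.Helper2.EqRel
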