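import Mathlib
import Groth.Prelude
import Groth.Agent.Helper2.HensQFin
import Groth.Agent.Helper2.HensInt
import Groth.Agent.Helper1.EssEt
import Groth.Agent.Helper1.HensNoeth

set_option autoImplicit false
set_option linter.style.haveILetI false
set_option linter.unusedSectionVars false

/-!
# S16444: essentially étale local algebras over a complete local ring come from finite étale
algebras over a henselian coefficient ring
-/

namespace Groth.Agent.Helper2.EssEtCpl

universe u

open TensorProduct IsLocalRing Polynomial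

section AR

variable {R : Type u} [CommRing R] [IsLocalRing R] (f : R[X]) (hf : f.Monic)
  (hirr : Irreducible (f.map (residue R)))

include hirr in
theorem isMaximal_map :
    ((maximalIdeal R).map (AdjoinRoot.of f)).IsMaximal := by
  let e := AdjoinRoot.quotAdjoinRootEquivQuotPolynomialQuot (maximalIdeal R) f
  haveI : (Ideal.span ({f.map (residue R)} : Set (ResidueField R)[X])).IsMaximal :=
    PrincipalIdealRing.isMaximal_of_irreducible hirr
  have hfield : IsField ((ResidueField R)[X] ⧸
      Ideal.span ({f.map (residue R)} : Set (ResidueField R)[X])) :=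
    (Ideal.Quotient.maximal_ideal_iff_isField_quotient _).mp inferInstance
  have hfield' : IsField (AdjoinRoot f ⧸ (maximalIdeal R).map (AdjoinRoot.of f)) :=
    MulEquiv.isField hfield e.toMulEquiv
  exact (Ideal.Quotient.maximal_ideal_iff_isField_quotient _).mpr hfield'

include hf hirr in
theorem isLocalRing_adjoinRoot : IsLocalRing (AdjoinRoot f) := by
  haveI := isMaximal_map f hirr
  haveI : Module.Finite R (AdjoinRoot f) := hf.finite_adjoinRoot
  haveI : Algebra.IsIntegral R (AdjoinRoot f) := Algebra.IsIntegral.of_finite R _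
  refine IsLocalRing.of_unique_max_ideal
    ⟨(maximalIdeal R).map (AdjoinRoot.of f), inferInstance, ?_⟩
  intro M hM
  haveI := hM
  have h1 : (M.comap (algebraMap R (AdjoinRoot f))).IsMaximal :=
    Ideal.isMaximal_comap_of_isIntegral_of_isMaximal M
  have h2 : M.comap (algebraMap R (AdjoinRoot f)) = maximalIdeal R := eq_maximalIdeal h1
  have h3 : (maximalIdeal R).map (AdjoinRoot.of f) ≤ M := by
    rw [Ideal.map_le_iff_le_comap, ← h2]
    exact le_refl _
  exact (Ideal.IsMaximal.eq_of_le inferInstance hM.ne_top h3).symm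

variable {L : Type u} [Field L] [Algebra R L] (θ : L) (hθ : aeval θ f = 0)
  (hker : ∀ r ∈ maximalIdeal R, algebraMap R L r = 0) (hsep : aeval θ (derivative f) ≠ 0)

/-- the residue map -/
noncomputable def phi : AdjoinRoot f →ₐ[R] L :=
  AdjoinRoot.liftAlgHom f (Algebra.ofId R L) θ (by rw [← hθ]; rfl)

theorem phi_root : phi f θ hθ (AdjoinRoot.root f) = θ := by
  simp [phi]

include hker in
theorem phi_eq_zero_of_mem (x : AdjoinRoot f)
    (hx : x ∈ (maximalIdeal R).map (AdjoinRoot.of f)) : phi f θ hθ x = 0 := by
  have hle : (maximalIdeal R).map (AdjoinRoot.of f) ≤ RingHom.ker (phi f θ hθ).toRingHom := by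
    rw [Ideal.map_le_iff_le_comap]
    intro r hr
    rw [Ideal.mem_comap, RingHom.mem_ker]
    show phi f θ hθ (algebraMap R _ r) = 0
    rw [AlgHom.commutes]
    exact hker r hr
  exact hle hx

include hf hirr hker hsep hθ in
theorem isUnit_derivative : IsUnit (AdjoinRoot.mk f (derivative f)) := by
  letI := isLocalRing_adjoinRoot f hf hirr
  by_contra hnu
  have h1 : AdjoinRoot.mk f (derivative f) ∈ maximalIdeal (AdjoinRoot f) :=
    (mem_maximalIdeal _).mpr hnu
  rw [← eq_maximalIdeal (isMaximal_map f hirr)] at h1
  have h2 := phi_eq_zero_of_mem f θ hθ hker _ h1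
  apply hsep
  rw [← h2, ← AdjoinRoot.aeval_eq, ← Polynomial.aeval_algHom_apply, phi_root]

include hf hirr hker hsep hθ in
theorem exists_cond : ∃ p₁ p₂ : R[X], derivative f * p₁ + f * p₂ = 1 := by
  obtain ⟨u, hu⟩ := (isUnit_derivative f hf hirr θ hθ hker hsep).exists_right_inv
  obtain ⟨p₁, rfl⟩ := AdjoinRoot.mk_surjective u
  have h1 : AdjoinRoot.mk f (derivative f * p₁ - 1) = 0 := by
    rw [map_sub, map_mul, hu, map_one, sub_self]
  rw [AdjoinRoot.mk_eq_zero] at h1
  obtain ⟨q, hq⟩ := h1
  refine ⟨p₁, -q, ?_⟩
  rw [mul_neg, ← hq]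
  ring

include hf in
/-- the standard étale pair `(f, 1)` -/
noncomputable def pair (h : ∃ p₁ p₂ : R[X], derivative f * p₁ + f * p₂ = 1) :
    StandardEtalePair R where
  f := f
  monic_f := hf
  g := 1
  cond := by
    obtain ⟨p₁, p₂, h⟩ := h
    exact ⟨p₁, p₂, 0, by rw [h, pow_zero]⟩

include hf in
theorem etale_adjoinRoot (h : ∃ p₁ p₂ : R[X], derivative f * p₁ + f * p₂ = 1) :
    Algebra.Etale R (AdjoinRoot f) := by
  let P := pair f hf h
  have hmap : P.HasMap (AdjoinRoot.root f) := by
    refine ⟨?_, ?_⟩
    · show aeval (AdjoinRoot.root f) f = 0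
      rw [AdjoinRoot.aeval_eq, AdjoinRoot.mk_self]
    · show IsUnit (aeval (AdjoinRoot.root f) (1 : R[X]))
      rw [map_one]
      exact isUnit_one
  let toA : P.Ring →ₐ[R] AdjoinRoot f := P.lift (AdjoinRoot.root f) hmap
  have hX : eval₂ (Algebra.ofId R P.Ring : R →+* P.Ring) P.X f = 0 := P.hasMap_X.1
  let invA : AdjoinRoot f →ₐ[R] P.Ring := AdjoinRoot.liftAlgHom f (Algebra.ofId R P.Ring) P.X hX
  have h1 : toA.comp invA = AlgHom.id R _ := by
    apply AdjoinRoot.algHom_ext
    simp [toA, invA]
  have h2 : invA.comp toA = AlgHom.id R _ := by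
    apply P.hom_ext
    simp [toA, invA]
  exact Algebra.Etale.of_equiv (AlgEquiv.ofAlgHom toA invA h1 h2)

end AR

section EssEt

variable (A E : Type u) [CommRing A] [HenselianLocalRing A]
    [CommRing E] [Algebra A E] (hE : EGA4loc.IsEssentiallyEtale A E)

include hE in
/-- an essentially étale local algebra over a henselian local ring is finite and flat -/
theorem finite_flat_of_isEssentiallyEtale : Module.Finite A E ∧ Module.Flat A E := by
  obtain ⟨C, _, _, q, _, hC, hq, ⟨e⟩⟩ := hE
  haveI := hC
  haveI : q.LiesOver (maximalIdeal A) := ⟨hq.symm⟩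
  obtain ⟨-, hfin⟩ := Groth.Agent.Helper2.HensQFin.qf_local_factor A C q
  haveI : Module.Flat A (Localization.AtPrime q) := Module.Flat.trans A C (Localization.AtPrime q)
  exact ⟨Module.Finite.equiv e.symm.toLinearEquiv, Module.Flat.of_linearEquiv e.toLinearEquiv⟩

end EssEt

section Fib

variable (A E : Type u) [CommRing A] [IsLocalRing A] [CommRing E] [IsLocalRing E] [Algebra A E]
    [IsLocalHom (algebraMap A E)]

/-- the fibre `k_A ⊗ E → k_E` -/
noncomputable def mu : ResidueField A ⊗[A] E →ₐ[ResidueField A] ResidueField E :=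
  Algebra.TensorProduct.lift (Algebra.ofId (ResidueField A) (ResidueField E))
    (IsScalarTower.toAlgHom A E (ResidueField E)) (fun _ _ => Commute.all _ _)

theorem mu_bijective (hm : (maximalIdeal A).map (algebraMap A E) = maximalIdeal E) :
    Function.Bijective (mu A E) := by
  constructor
  · rw [injective_iff_map_eq_zero]
    intro x hx
    obtain ⟨e, rfl⟩ := TensorProduct.mk_surjective A E (ResidueField A)
      Ideal.Quotient.mk_surjective x
    have h1 : residue E e = 0 := by
      have : mu A E ((1 : ResidueField A) ⊗ₜ[A] e) = residue E e := by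
        simp [mu]
      rw [← this]
      exact hx
    rw [residue_eq_zero_iff, ← hm] at h1
    have h2 : e ∈ (maximalIdeal A) • (⊤ : Submodule A E) := by
      rw [Ideal.smul_top_eq_map]
      exact h1
    rw [← LinearMap.ker_tensorProductMk] at h2
    exact h2
  · intro l
    obtain ⟨e, rfl⟩ := residue_surjective l
    refine ⟨(1 : ResidueField A) ⊗ₜ[A] e, ?_⟩
    simp [mu]

theorem finrank_eq_finrank_residueField [Module.Finite A E] [Module.Free A E]
    (hm : (maximalIdeal A).map (algebraMap A E) = maximalIdeal E) :
    Module.finrank A E = Module.finrank (ResidueField A) (ResidueField E) := by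
  rw [← Module.finrank_baseChange (R := ResidueField A) (S := A) (M' := E)]
  exact (LinearEquiv.ofBijective (mu A E).toLinearMap (mu_bijective A E hm)).finrank_eq

end Fib

section main

variable (R A E : Type u) [CommRing R] [HenselianLocalRing R]
    [CommRing A] [IsLocalRing A] [IsNoetherianRing A] [IsAdicComplete (maximalIdeal A) A]
    [Algebra R A] [IsLocalHom (algebraMap R A)]
    (hres : Function.Bijective (ResidueField.map (algebraMap R A)))
    [CommRing E] [IsLocalRing E] [Algebra A E] [IsLocalHom (algebraMap A E)]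
    (hE : EGA4loc.IsEssentiallyEtale A E)

include hres hE in
theorem s16444 : ∃ (S : Type u) (_ : CommRing S) (_ : IsLocalRing S) (_ : Algebra R S),
      Module.Finite R S ∧ Algebra.Etale R S ∧ Nonempty (E ≃ₐ[A] A ⊗[R] S) := by
  classical
  haveI : HenselianLocalRing A :=
    Groth.Agent.Helper1.Hens.henselianLocalRing_of_isAdicComplete A
  obtain ⟨hess, hfe⟩ := Groth.Agent.Helper1.EssEt.props_of_isEssentiallyEtale hE
  haveI := hess
  haveI := hfe
  obtain ⟨hfin, hflat⟩ := finite_flat_of_isEssentiallyEtale A E hE
  haveI := hfin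
  haveI := hflat
  haveI : Module.Free A E := Module.free_of_flat_of_isLocalRing
  haveI : Algebra.IsIntegral A E := Algebra.IsIntegral.of_finite A E
  haveI : HenselianLocalRing E :=
    Groth.Agent.Helper2.HensInt.henselianLocalRing_of_isIntegral A E
  have hm : (maximalIdeal A).map (algebraMap A E) = maximalIdeal E :=
    Algebra.FormallyUnramified.map_maximalIdeal
  -- the `R`-algebra structure on `E`
  letI : Algebra R E := ((algebraMap A E).comp (algebraMap R A)).toAlgebra
  haveI : IsScalarTower R A E := IsScalarTower.of_algebraMap_eq (fun _ => rfl)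
  haveI : IsLocalHom (algebraMap R E) :=
    RingHom.isLocalHom_comp (algebraMap A E) (algebraMap R A)
  -- primitive element
  obtain ⟨θ, hθtop⟩ := Field.exists_primitive_element (ResidueField A) (ResidueField E)
  have hint : IsIntegral (ResidueField A) θ := Algebra.IsIntegral.isIntegral θ
  have hρ : Function.Surjective (algebraMap R (ResidueField A)) := by
    intro x
    obtain ⟨y, rfl⟩ := hres.2 x
    obtain ⟨r, rfl⟩ := residue_surjective y
    exact ⟨r, rfl⟩
  obtain ⟨f, hfmap, hfdeg, hfmonic⟩ := Polynomial.lifts_and_degree_eq_and_monic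
    ((Polynomial.mem_lifts _).mpr
      (Polynomial.map_surjective _ hρ (minpoly (ResidueField A) θ))) (minpoly.monic hint)
  have hθ : aeval θ f = 0 := by
    rw [← Polynomial.aeval_map_algebraMap (ResidueField A) θ f, hfmap]
    exact minpoly.aeval _ _
  have hker : ∀ r ∈ maximalIdeal R, algebraMap R (ResidueField E) r = 0 := by
    intro r hr
    show residue E (algebraMap R E r) = 0
    rw [residue_eq_zero_iff, mem_maximalIdeal, mem_nonunits_iff]
    intro hu
    exact hr (isUnit_of_map_unit (algebraMap R E) r hu)
  have hsep : aeval θ (derivative f) ≠ 0 := by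
    have hs : (minpoly (ResidueField A) θ).Separable :=
      Algebra.IsSeparable.isSeparable (ResidueField A) θ
    have := hs.aeval_derivative_ne_zero (minpoly.aeval _ θ)
    rwa [← hfmap, Polynomial.derivative_map, Polynomial.aeval_map_algebraMap] at this
  have hirr : Irreducible (f.map (residue R)) := by
    have h1 : (f.map (residue R)).map (ResidueField.map (algebraMap R A)) =
        minpoly (ResidueField A) θ := by
      rw [Polynomial.map_map]
      exact hfmap
    exact Polynomial.Monic.irreducible_of_irreducible_map _ _ (hfmonic.map _)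
      (h1 ▸ minpoly.irreducible hint)
  have hloc : IsLocalRing (AdjoinRoot f) := isLocalRing_adjoinRoot f hfmonic hirr
  have hetale : Algebra.Etale R (AdjoinRoot f) :=
    etale_adjoinRoot f hfmonic (exists_cond f hfmonic hirr θ hθ hker hsep)
  -- the root in `E`
  obtain ⟨a₀, ha₀⟩ := residue_surjective θ
  have key : ∀ p : R[X], residue E (Polynomial.eval a₀ (p.map (algebraMap R E))) = aeval θ p := by
    intro p
    rw [Polynomial.eval_map, Polynomial.hom_eval₂, ha₀]
    rfl
  obtain ⟨θ', hroot, hθ'⟩ := HenselianLocalRing.is_henselian (f.map (algebraMap R E))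
    (hfmonic.map _) a₀
    (by rw [← residue_eq_zero_iff, key, hθ])
    (by
      rw [Polynomial.derivative_map]
      by_contra hnu
      have h1 : Polynomial.eval a₀ ((derivative f).map (algebraMap R E)) ∈ maximalIdeal E :=
        (mem_maximalIdeal _).mpr hnu
      rw [← residue_eq_zero_iff, key] at h1
      exact hsep h1)
  have hθ'res : residue E θ' = θ := by
    rw [← ha₀, ← sub_eq_zero, ← map_sub, residue_eq_zero_iff]
    exact hθ'
  have hev : Polynomial.eval₂ (Algebra.ofId R E : R →+* E) θ' f = 0 := by
    have := hroot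
    rwa [Polynomial.IsRoot, Polynomial.eval_map] at this
  let ψS : AdjoinRoot f →ₐ[R] E := AdjoinRoot.liftAlgHom f (Algebra.ofId R E) θ' hev
  let Ψ : A ⊗[R] AdjoinRoot f →ₐ[A] E :=
    Algebra.TensorProduct.lift (Algebra.ofId A E) ψS (fun _ _ => Commute.all _ _)
  have hΨθ : Ψ ((1 : A) ⊗ₜ[R] AdjoinRoot.root f) = θ' := by
    simp [Ψ, ψS]
  -- surjectivity by Nakayama
  have hsurj : Function.Surjective Ψ := by
    have hmem : θ' ∈ Ψ.range := ⟨_, hΨθ⟩
    have hle : (⊤ : Submodule A E) ≤ Subalgebra.toSubmodule Ψ.range := by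
      refine Submodule.le_of_le_smul_of_le_jacobson_bot (I := maximalIdeal A)
        Module.Finite.fg_top (IsLocalRing.maximalIdeal_le_jacobson _) ?_
      intro e _
      have h1 : residue E e ∈ (⊤ : IntermediateField (ResidueField A) (ResidueField E)) :=
        trivial
      rw [← hθtop, ← IntermediateField.mem_toSubalgebra,
        IntermediateField.adjoin_simple_toSubalgebra_of_isAlgebraic hint.isAlgebraic,
        Algebra.adjoin_singleton_eq_range_aeval] at h1
      obtain ⟨p, hp⟩ := h1
      obtain ⟨P, rfl⟩ := Polynomial.map_surjective (residue A) residue_surjective p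
      have h2 : residue E (aeval θ' P) = residue E e := by
        have h3 : residue E (aeval θ' P) = aeval (residue E θ') P :=
          (Polynomial.aeval_algHom_apply (IsScalarTower.toAlgHom A E (ResidueField E)) θ' P).symm
        rw [h3, hθ'res, ← hp]
        exact (Polynomial.aeval_map_algebraMap (ResidueField A) θ P).symm
      have h4 : e - aeval θ' P ∈ (maximalIdeal A) • (⊤ : Submodule A E) := by
        rw [Ideal.smul_top_eq_map, hm]
        show e - aeval θ' P ∈ maximalIdeal E
        rw [← residue_eq_zero_iff, map_sub, h2, sub_self]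
      have h5 : aeval θ' P ∈ Subalgebra.toSubmodule Ψ.range := by
        have : aeval θ' P = ((aeval (⟨θ', hmem⟩ : Ψ.range) P : Ψ.range) : E) :=
          Subalgebra.aeval_coe Ψ.range ⟨θ', hmem⟩ P
        rw [this]
        exact (aeval (⟨θ', hmem⟩ : Ψ.range) P).2
      have h6 : e = aeval θ' P + (e - aeval θ' P) := by ring
      rw [h6]
      exact Submodule.add_mem_sup h5 h4
    intro e
    exact hle (Submodule.mem_top : e ∈ ⊤)
  -- injectivity by ranks
  haveI : Module.Free R (AdjoinRoot f) := hfmonic.free_adjoinRoot
  haveI : Module.Finite R (AdjoinRoot f) := hfmonic.finite_adjoinRoot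
  have hrank : Module.finrank A (A ⊗[R] AdjoinRoot f) = Module.finrank A E := by
    rw [Module.finrank_baseChange, finrank_eq_finrank_residueField A E hm,
      (AdjoinRoot.powerBasis' hfmonic).finrank, AdjoinRoot.powerBasis'_dim,
      ← IntermediateField.finrank_top', ← hθtop, IntermediateField.adjoin.finrank hint]
    exact Polynomial.natDegree_eq_of_degree_eq hfdeg
  obtain ⟨ι⟩ := FiniteDimensional.nonempty_linearEquiv_of_finrank_eq hrank
  have hinj : Function.Injective Ψ :=
    OrzechProperty.injective_of_surjective_of_injective ι.toLinearMap Ψ.toLinearMap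
      ι.injective hsurj
  exact ⟨AdjoinRoot f, inferInstance, hloc, inferInstance, hfmonic.finite_adjoinRoot, hetale,
    ⟨(AlgEquiv.ofBijective Ψ ⟨hinj, hsurj⟩).symm⟩⟩

end main

end Groth.Agent.Helper2.EssEtCpl
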