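import Mathlib
import Groth.Prelude

set_option autoImplicit false
open Function TensorProduct
universe u

namespace Groth.Agent.Helper2.EssFPComp

/-- if `S` is a localization of a finite type `R`-algebra and `S'` is essentially of finite
presentation over `R`, then `S'` is essentially of finite presentation over `S`. -/
theorem essFP_of_comp {R S S' : Type u} [CommRing R] [CommRing S] [CommRing S'] [Algebra R S]
    [Algebra S S'] [Algebra R S'] [IsScalarTower R S S']
    (hS : CAlgX.IsEssFinitePresentation R S) (hS' : CAlgX.IsEssFinitePresentation R S') :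
    CAlgX.IsEssFinitePresentation S S' := by
  classical
  obtain ⟨S₀, _, _, _, _, Mon, hfp, hloc⟩ := hS
  obtain ⟨S₀', _, _, _, _, Mon', hfp', hloc'⟩ := hS'
  obtain ⟨G, hG⟩ := (Algebra.FiniteType.out : (⊤ : Subalgebra R S₀).FG)
  -- fractions for the generators
  have hfrac : ∀ g : S₀, ∃ ab : S₀' × Mon',
      algebraMap S S' (algebraMap S₀ S g) * algebraMap S₀' S' ab.2 = algebraMap S₀' S' ab.1 :=
    fun g => IsLocalization.surj Mon' _
  choose ab hab using hfrac
  let T := S ⊗[R] S₀'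
  let d : S₀ → T := fun g => (algebraMap S₀ S g) ⊗ₜ[R] ((ab g).2 : S₀') - 1 ⊗ₜ[R] (ab g).1
  let 𝔟 : Ideal T := Ideal.span (d '' (G : Set S₀))
  have h𝔟 : 𝔟.FG := Submodule.fg_span ((G.finite_toSet).image d)
  let μ : T →ₐ[S] S' := Algebra.TensorProduct.lift (Algebra.ofId S S')
    (IsScalarTower.toAlgHom R S₀' S') (fun _ _ => Commute.all _ _)
  have hμ : ∀ (s : S) (a : S₀'), μ (s ⊗ₜ[R] a) = algebraMap S S' s * algebraMap S₀' S' a := by
    intro s a
    change Algebra.TensorProduct.lift _ _ _ (s ⊗ₜ[R] a) = _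
    rw [Algebra.TensorProduct.lift_tmul]
    rfl
  have hμd : ∀ g, μ (d g) = 0 := by
    intro g
    change μ ((algebraMap S₀ S g) ⊗ₜ[R] ((ab g).2 : S₀') - 1 ⊗ₜ[R] (ab g).1) = 0
    rw [map_sub, hμ, hμ, map_one, one_mul, hab, sub_self]
  have hμ𝔟 : ∀ t ∈ 𝔟, μ t = 0 := by
    intro t ht
    have : 𝔟 ≤ RingHom.ker μ.toRingHom := by
      rw [Ideal.span_le]
      rintro _ ⟨g, -, rfl⟩
      exact hμd g
    exact this ht
  let μb : (T ⧸ 𝔟) →ₐ[S] S' := Ideal.Quotient.liftₐ 𝔟 μ hμ𝔟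
  have hμb : ∀ t : T, μb (Ideal.Quotient.mk 𝔟 t) = μ t := fun t => rfl
  letI algQ : Algebra (T ⧸ 𝔟) S' := μb.toRingHom.toAlgebra
  haveI : IsScalarTower S (T ⧸ 𝔟) S' := IsScalarTower.of_algebraMap_eq (fun s => (μb.commutes s).symm)
  let ι' : S₀' →+* (T ⧸ 𝔟) :=
    (Ideal.Quotient.mk 𝔟).comp (Algebra.TensorProduct.includeRight : S₀' →ₐ[R] T).toRingHom
  have hι' : ∀ a, ι' a = Ideal.Quotient.mk 𝔟 (1 ⊗ₜ[R] a) := fun a => rfl
  have hι'μ : ∀ a, algebraMap (T ⧸ 𝔟) S' (ι' a) = algebraMap S₀' S' a := by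
    intro a
    change μb (Ideal.Quotient.mk 𝔟 (1 ⊗ₜ[R] a)) = _
    rw [hμb, hμ, map_one, one_mul]
  let Mon'' : Submonoid (T ⧸ 𝔟) := Mon'.map (ι' : S₀' →* (T ⧸ 𝔟))
  have hfpQ : Algebra.FinitePresentation S (T ⧸ 𝔟) := Algebra.FinitePresentation.quotient h𝔟
  refine ⟨T ⧸ 𝔟, inferInstance, inferInstance, algQ, inferInstance, Mon'', hfpQ, ?_⟩
  -- the comparison map to the localization
  have hunits : ∀ y : Mon', IsUnit (((algebraMap (T ⧸ 𝔟) (Localization Mon'')).comp ι') y) := by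
    intro y
    exact IsLocalization.map_units (Localization Mon'') (⟨ι' y, ⟨y, y.2, rfl⟩⟩ : Mon'')
  let θ : S' →+* Localization Mon'' := IsLocalization.lift (M := Mon') (S := S')
    (P := Localization Mon'') (g := (algebraMap (T ⧸ 𝔟) (Localization Mon'')).comp ι') hunits
  have hθ : ∀ a : S₀', θ (algebraMap S₀' S' a) = algebraMap (T ⧸ 𝔟) (Localization Mon'') (ι' a) :=
    fun a => IsLocalization.lift_eq hunits a
  -- the two maps `S → L`
  have hS₀ : ∀ x : S₀, θ (algebraMap S S' (algebraMap S₀ S x)) =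
      algebraMap (T ⧸ 𝔟) (Localization Mon'') (Ideal.Quotient.mk 𝔟 ((algebraMap S₀ S x) ⊗ₜ[R] 1)) := by
    intro x
    have hx : x ∈ Algebra.adjoin R (G : Set S₀) := by rw [hG]; trivial
    induction hx using Algebra.adjoin_induction with
    | mem g hg =>
      have hu : IsUnit (algebraMap (T ⧸ 𝔟) (Localization Mon'') (ι' ((ab g).2 : S₀'))) :=
        IsLocalization.map_units (Localization Mon'') (⟨ι' (ab g).2, ⟨(ab g).2, (ab g).2.2, rfl⟩⟩ : Mon'')
      apply hu.mul_right_cancel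
      have hL : θ (algebraMap S S' (algebraMap S₀ S g)) *
          algebraMap (T ⧸ 𝔟) (Localization Mon'') (ι' ((ab g).2 : S₀')) =
          algebraMap (T ⧸ 𝔟) (Localization Mon'') (ι' (ab g).1) := by
        rw [← hθ, ← map_mul, hab, hθ]
      have hR : algebraMap (T ⧸ 𝔟) (Localization Mon'')
          (Ideal.Quotient.mk 𝔟 ((algebraMap S₀ S g) ⊗ₜ[R] 1)) *
          algebraMap (T ⧸ 𝔟) (Localization Mon'') (ι' ((ab g).2 : S₀')) =
          algebraMap (T ⧸ 𝔟) (Localization Mon'') (ι' (ab g).1) := by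
        rw [← map_mul, hι', hι', ← map_mul, Algebra.TensorProduct.tmul_mul_tmul, mul_one, one_mul]
        congr 1
        rw [Ideal.Quotient.eq]
        exact Ideal.subset_span ⟨g, hg, rfl⟩
      rw [hL, hR]
    | algebraMap r =>
      rw [← IsScalarTower.algebraMap_apply R S₀ S, ← IsScalarTower.algebraMap_apply R S S',
        IsScalarTower.algebraMap_apply R S₀' S', hθ, hι']
      congr 2
      rw [Algebra.algebraMap_eq_smul_one, Algebra.algebraMap_eq_smul_one, TensorProduct.smul_tmul]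
    | add x y _ _ hx hy => simp only [map_add, TensorProduct.add_tmul, hx, hy]
    | mul x y _ _ hx hy =>
      simp only [map_mul, hx, hy]
      rw [← map_mul, ← map_mul, Algebra.TensorProduct.tmul_mul_tmul, mul_one]
  have hSL : ∀ s : S, θ (algebraMap S S' s) =
      algebraMap (T ⧸ 𝔟) (Localization Mon'') (Ideal.Quotient.mk 𝔟 (s ⊗ₜ[R] 1)) := by
    let ρ₁ : S →+* Localization Mon'' := θ.comp (algebraMap S S')
    let ρ₂ : S →+* Localization Mon'' := (algebraMap (T ⧸ 𝔟) (Localization Mon'')).comp ((Ideal.Quotient.mk 𝔟).comp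
      (Algebra.TensorProduct.includeLeft : S →ₐ[S] T).toRingHom)
    have : ρ₁ = ρ₂ := by
      apply IsLocalization.ringHom_ext Mon
      ext x
      exact hS₀ x
    intro s
    exact congrArg (fun ρ : S →+* Localization Mon'' => ρ s) this
  have hθμ : ∀ t : T ⧸ 𝔟, θ (algebraMap (T ⧸ 𝔟) S' t) = algebraMap (T ⧸ 𝔟) (Localization Mon'') t := by
    intro t
    obtain ⟨t, rfl⟩ := Ideal.Quotient.mk_surjective t
    change θ (μb (Ideal.Quotient.mk 𝔟 t)) = _
    rw [hμb]
    induction t using TensorProduct.induction_on with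
    | zero => simp
    | add x y hx hy => simp only [map_add, hx, hy]
    | tmul s a =>
      rw [hμ, map_mul, hSL, hθ, hι', ← map_mul, ← map_mul, Algebra.TensorProduct.tmul_mul_tmul,
        mul_one, one_mul]
  refine ⟨?_, ?_, ?_⟩
  · rintro ⟨_, ⟨y, hy, rfl⟩⟩
    change IsUnit (algebraMap (T ⧸ 𝔟) S' (ι' y))
    rw [hι'μ]
    exact IsLocalization.map_units S' (⟨y, hy⟩ : Mon')
  · intro z
    obtain ⟨⟨a, b⟩, h⟩ := IsLocalization.surj Mon' z
    refine ⟨⟨ι' a, ⟨ι' b, ⟨b, b.2, rfl⟩⟩⟩, ?_⟩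
    change z * algebraMap (T ⧸ 𝔟) S' (ι' b) = algebraMap (T ⧸ 𝔟) S' (ι' a)
    rw [hι'μ, hι'μ]
    exact h
  · intro t₁ t₂ h
    have h' : algebraMap (T ⧸ 𝔟) (Localization Mon'') t₁ = algebraMap (T ⧸ 𝔟) (Localization Mon'') t₂ := by
      rw [← hθμ, ← hθμ, h]
    exact (IsLocalization.eq_iff_exists Mon'' (Localization Mon'')).1 h'

end Groth.Agent.Helper2.EssFPComp
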