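import Mathlib

set_option autoImplicit false
set_option linter.style.haveILetI false
set_option linter.unusedSectionVars false
set_option linter.unusedVariables false

/-! Generic lemmas: reduced artinian rings are von Neumann regular; finite algebras over local
rings are semilocal. -/

namespace Groth.Agent.Helper2.EssFT

open IsLocalRing

theorem vnr_of_isArtinianRing (R : Type*) [CommRing R] [IsArtinianRing R] [IsReduced R] (x : R) :
    ∃ r : R, x = x * x * r := by
  classical
  let e := IsArtinianRing.equivPi R
  let y : ∀ I : MaximalSpectrum R, R ⧸ I.asIdeal := fun I =>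
    letI := Ideal.Quotient.field I.asIdeal
    (e x I)⁻¹
  refine ⟨e.symm y, e.injective ?_⟩
  funext I
  letI := Ideal.Quotient.field I.asIdeal
  simp only [map_mul, AlgEquiv.apply_symm_apply, Pi.mul_apply]
  by_cases h : e x I = 0
  · rw [h]; simp
  · show e x I = e x I * e x I * (e x I)⁻¹
    rw [mul_assoc, mul_inv_cancel₀ h, mul_one]

theorem finite_setOf_isMaximal (E B : Type*) [CommRing E] [IsLocalRing E] [CommRing B]
    [Algebra E B] [Module.Finite E B] : {M : Ideal B | M.IsMaximal}.Finite := by
  have h := Algebra.QuasiFinite.finite_primesOver (R := E) (S := B) (maximalIdeal E)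
  refine h.subset ?_
  intro M hM
  haveI : M.IsMaximal := hM
  haveI : Algebra.IsIntegral E B := Algebra.IsIntegral.of_finite E B
  have h1 : (M.comap (algebraMap E B)).IsMaximal :=
    Ideal.isMaximal_comap_of_isIntegral_of_isMaximal M
  exact ⟨hM.isPrime, ⟨(IsLocalRing.eq_maximalIdeal h1).symm⟩⟩

end Groth.Agent.Helper2.EssFT
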