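import Mathlib
import Groth.Prelude
import Groth.Agent.Helper2.TotFrac2
import Groth.Agent.Helper2.BrnchB
import Groth.Agent.Helper1.EtRed
import Groth.Agent.Helper1.HensReg

set_option autoImplicit false
set_option linter.style.haveILetI false
set_option linter.unusedSectionVars false
set_option linter.unusedVariables false

universe u

/-!
# S16447: `L ⊓ E'` is semilocal
-/

namespace Groth.Agent.Helper2.SemiL

open IsLocalRing Groth.Agent.Helper1.Hens Groth.Agent.Helper1

section generic

variable {A K : Type u} [CommRing A] [CommRing K] [Algebra A K] {C E' : Subalgebra A K}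
  (hle : C ≤ E')

/-- contraction of a maximal ideal with residue ring integral over `A` is maximal -/
theorem comap_isMaximal (M : Ideal E') [M.IsMaximal] (H1 : Algebra.IsIntegral A (E' ⧸ M)) :
    (M.comap (Subalgebra.inclusion hle)).IsMaximal := by
  set N : Ideal C := M.comap (Subalgebra.inclusion hle) with hN
  haveI : N.IsPrime := Ideal.comap_isPrime _ _
  let φ : C ⧸ N →ₐ[A] E' ⧸ M :=
    Ideal.quotientMapₐ M (Subalgebra.inclusion hle) le_rfl
  have hφ : Function.Injective φ := by
    rw [injective_iff_map_eq_zero]
    intro x hx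
    obtain ⟨c, rfl⟩ := Ideal.Quotient.mk_surjective x
    have h1 : φ (Ideal.Quotient.mk N c) = Ideal.Quotient.mk M (Subalgebra.inclusion hle c) := rfl
    rw [h1, Ideal.Quotient.eq_zero_iff_mem] at hx
    rw [Ideal.Quotient.eq_zero_iff_mem]
    exact hx
  letI : Algebra (C ⧸ N) (E' ⧸ M) := φ.toRingHom.toAlgebra
  haveI : IsScalarTower A (C ⧸ N) (E' ⧸ M) :=
    IsScalarTower.of_algebraMap_eq (fun a => (φ.commutes a).symm)
  haveI : Algebra.IsIntegral (C ⧸ N) (E' ⧸ M) := Algebra.IsIntegral.tower_top (R := A)
  have hfield : IsField (C ⧸ N) :=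
    isField_of_isIntegral_of_isField (R := C ⧸ N) (S := E' ⧸ M) hφ
      ((Ideal.Quotient.maximal_ideal_iff_isField_quotient M).mp inferInstance)
  exact (Ideal.Quotient.maximal_ideal_iff_isField_quotient N).mpr hfield

theorem exists_of_isMaximal (hfin : {M : Ideal E' | M.IsMaximal}.Finite)
    (H3 : ∀ c : C, IsUnit (Subalgebra.inclusion hle c) → IsUnit c)
    (hcomap : ∀ M : Ideal E', M.IsMaximal → (M.comap (Subalgebra.inclusion hle)).IsMaximal)
    (N : Ideal C) [hNmax : N.IsMaximal] :
    ∃ M : Ideal E', M.IsMaximal ∧ N = M.comap (Subalgebra.inclusion hle) := by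
  classical
  by_contra hcon
  push_neg at hcon
  have hnot : ¬ ((N : Set C) ⊆ ⋃ M ∈ (hfin.toFinset : Set (Ideal E')),
      ((M.comap (Subalgebra.inclusion hle) : Ideal C) : Set C)) := by
    intro hsub
    rw [Ideal.subset_union_prime (R := C) (f := fun M : Ideal E' =>
      M.comap (Subalgebra.inclusion hle)) ⊥ ⊥] at hsub
    · obtain ⟨M, hM, hNM⟩ := hsub
      have hMmax : M.IsMaximal := by simpa using hM
      have h1 := hcomap M hMmax
      exact hcon M hMmax (hNmax.eq_of_le h1.ne_top hNM)
    · intro M hM _ _
      have hMmax : M.IsMaximal := by simpa using hM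
      haveI := hMmax.isPrime
      exact Ideal.comap_isPrime _ _
  rw [Set.not_subset] at hnot
  obtain ⟨c, hcN, hc⟩ := hnot
  have hunit : IsUnit (Subalgebra.inclusion hle c) := by
    by_contra hnu
    obtain ⟨M, hM, hcM⟩ := exists_max_ideal_of_mem_nonunits hnu
    apply hc
    simp only [Set.mem_iUnion, SetLike.mem_coe, Ideal.mem_comap]
    exact ⟨M, by simpa using hM, hcM⟩
  have := H3 c hunit
  exact hNmax.ne_top (Ideal.eq_top_of_isUnit_mem _ hcN this)

theorem finite_max (hfin : {M : Ideal E' | M.IsMaximal}.Finite)
    (H3 : ∀ c : C, IsUnit (Subalgebra.inclusion hle c) → IsUnit c)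
    (hcomap : ∀ M : Ideal E', M.IsMaximal → (M.comap (Subalgebra.inclusion hle)).IsMaximal) :
    {N : Ideal C | N.IsMaximal}.Finite := by
  refine (hfin.image (fun M : Ideal E' => M.comap (Subalgebra.inclusion hle))).subset ?_
  intro N hN
  haveI : N.IsMaximal := hN
  obtain ⟨M, hM, hNM⟩ := exists_of_isMaximal hle hfin H3 hcomap N
  exact ⟨M, hM, hNM.symm⟩

end generic

section main

variable (A E : Type u) [CommRing A] [IsLocalRing A] [IsReduced A] [IsNoetherianRing A]
    [CommRing E] [IsLocalRing E] [Algebra A E] [IsLocalHom (algebraMap A E)]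
    (hE : EGA4loc.IsEssentiallyEtale A E)

include hE in
theorem isReduced_of_essEtale : IsReduced E := by
  obtain ⟨C₀, _, _, q, _, hC, hq, ⟨e⟩⟩ := hE
  haveI : IsReduced C₀ := Groth.Agent.Helper1.EtRed.isReduced_of_etale A C₀
  haveI : IsReduced (Localization.AtPrime q) :=
    inferInstanceAs (IsReduced (Localization q.primeCompl))
  exact isReduced_of_injective e.toRingEquiv.toRingHom e.injective

include hE in
theorem isNoetherianRing_of_essEtale : IsNoetherianRing E := by
  obtain ⟨C₀, _, _, q, _, hC, hq, ⟨e⟩⟩ := hE
  haveI : IsNoetherianRing C₀ := Algebra.FiniteType.isNoetherianRing A C₀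
  haveI : IsNoetherianRing (Localization.AtPrime q) :=
    IsLocalization.isNoetherianRing q.primeCompl _ inferInstance
  exact isNoetherianRing_of_ringEquiv _ e.symm.toRingEquiv

include hE in
theorem finite_max_integralClosure :
    {M : Ideal (integralClosure E (FractionRing E)) | M.IsMaximal}.Finite := by
  haveI := isReduced_of_essEtale A E hE
  haveI := isNoetherianRing_of_essEtale A E hE
  have hfin : (minimalPrimes E).Finite := minimalPrimes.finite_of_isNoetherianRing E
  have h1 := Groth.Agent.Helper2.Brnch.encard_reduced_Hh E hfin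
  haveI : IsNoetherianRing (Hh E) := Hh.isNoetherianRing E
  have h2 : (minimalPrimes (Hh E)).Finite := minimalPrimes.finite_of_isNoetherianRing _
  rw [← Set.encard_ne_top_iff, h1, Set.encard_ne_top_iff]
  exact h2

include hE in
theorem isIntegral_quot (M : Ideal (integralClosure E (FractionRing E))) [M.IsMaximal] :
    Algebra.IsIntegral A (integralClosure E (FractionRing E) ⧸ M) := by
  obtain ⟨h1, h2⟩ := Groth.Agent.Helper1.EssEt.props_of_isEssentiallyEtale hE
  haveI := h1
  haveI := h2
  haveI : Algebra.FormallyUnramified A E := inferInstance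
  haveI : Module.Finite (ResidueField A) (ResidueField E) := inferInstance
  -- `A → κ(E)` integral
  haveI : Algebra.IsIntegral A (ResidueField A) :=
    Algebra.isIntegral_of_surjective residue_surjective
  haveI : Algebra.IsIntegral (ResidueField A) (ResidueField E) := Algebra.IsIntegral.of_finite _ _
  haveI : Algebra.IsIntegral A (ResidueField E) :=
    Algebra.IsIntegral.trans (ResidueField A)
  -- `κ(E) → E'/M`
  have hcomap : M.comap (algebraMap E (integralClosure E (FractionRing E))) = maximalIdeal E := by
    have : (M.comap (algebraMap E (integralClosure E (FractionRing E)))).IsMaximal :=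
      Ideal.isMaximal_comap_of_isIntegral_of_isMaximal M
    exact IsLocalRing.eq_maximalIdeal this
  haveI : M.LiesOver (maximalIdeal E) := ⟨hcomap.symm⟩
  haveI : Algebra.IsIntegral (E ⧸ maximalIdeal E) (integralClosure E (FractionRing E) ⧸ M) :=
    inferInstance
  haveI : IsScalarTower A (E ⧸ maximalIdeal E) (integralClosure E (FractionRing E) ⧸ M) :=
    inferInstance
  haveI : Algebra.IsIntegral A (E ⧸ maximalIdeal E) :=
    inferInstanceAs (Algebra.IsIntegral A (ResidueField E))
  exact Algebra.IsIntegral.trans (E ⧸ maximalIdeal E)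

include hE in
theorem s16447 (L : Subalgebra A (FractionRing E))
    (hL : ∀ s ∈ nonZeroDivisors A, ∃ y ∈ L, algebraMap A (FractionRing E) s * y = 1)
    (C : Subalgebra A (FractionRing E))
    (hC : C = L ⊓ (integralClosure E (FractionRing E)).restrictScalars A) :
    (∀ x ∈ L, IsIntegral C x → x ∈ C) ∧
      {N : Ideal C | N.IsMaximal}.Finite ∧
      (∀ N : Ideal C, N.IsMaximal ↔
        ∃ M : Ideal ((integralClosure E (FractionRing E)).restrictScalars A),
          M.IsMaximal ∧ N = M.comap (Subalgebra.inclusion (hC.trans_le inf_le_right))) ∧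
      ∀ l ∈ L, ∃ c ∈ C, ∃ s ∈ nonZeroDivisors A, ∃ y ∈ L,
        algebraMap A (FractionRing E) s * y = 1 ∧ l = c * y := by
  have hmin : (minimalPrimes A).Finite := minimalPrimes.finite_of_isNoetherianRing A
  haveI := Groth.Agent.Helper2.TotFrac.flat_of_isEssentiallyEtale A E hE
  obtain ⟨h1, h2⟩ := Groth.Agent.Helper1.EssEt.props_of_isEssentiallyEtale hE
  haveI := h1
  haveI := h2
  haveI : Algebra.QuasiFinite A E := inferInstance
  have hle : C ≤ (integralClosure E (FractionRing E)).restrictScalars A :=
    hC.trans_le inf_le_right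
  have hCL : C ≤ L := hC.trans_le inf_le_left
  have hfin : {M : Ideal ((integralClosure E (FractionRing E)).restrictScalars A) |
      M.IsMaximal}.Finite := finite_max_integralClosure A E hE
  have H1 : ∀ M : Ideal ((integralClosure E (FractionRing E)).restrictScalars A), M.IsMaximal →
      (M.comap (Subalgebra.inclusion hle)).IsMaximal := by
    intro M hM
    haveI := hM
    exact comap_isMaximal hle M (@isIntegral_quot A E _ _ _ _ _ _ _ _ hE M hM)
  have H3 : ∀ c : C, IsUnit (Subalgebra.inclusion hle c) → IsUnit c := by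
    intro c hc
    obtain ⟨d, hd⟩ := hc.exists_right_inv
    have hd' : (c : FractionRing E) * (d : FractionRing E) = 1 := by
      have := congrArg Subtype.val hd
      simpa using this
    have hdL : (d : FractionRing E) ∈ L :=
      Groth.Agent.Helper2.TotFrac.inv_mem_of_isUnit A E hmin L hL _ _ (hCL c.2) hd'
    have hdC : (d : FractionRing E) ∈ C := by
      rw [hC]
      exact ⟨hdL, d.2⟩
    refine isUnit_iff_exists_inv.mpr ⟨⟨d, hdC⟩, ?_⟩
    apply Subtype.ext
    simpa using hd'
  refine ⟨?_, finite_max hle hfin H3 H1, ?_, ?_⟩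
  · intro x hxL hxint
    rw [hC]
    refine ⟨hxL, ?_⟩
    -- `x` is integral over `C`, `C` is integral over `E`
    show IsIntegral E x
    have h3 : IsIntegral ((integralClosure E (FractionRing E)).restrictScalars A) x :=
      hxint.map_of_comp_eq (Subalgebra.inclusion hle).toRingHom (RingHom.id (FractionRing E))
        (by ext c; rfl)
    have h4 : IsIntegral (integralClosure E (FractionRing E)) x := h3
    exact isIntegral_trans (R := E) (A := integralClosure E (FractionRing E)) x h4
  · intro N
    constructor
    · intro hN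
      haveI := hN
      exact exists_of_isMaximal hle hfin H3 H1 N
    · rintro ⟨M, hM, rfl⟩
      exact H1 M hM
  · intro l hl
    have hloc := Groth.Agent.Helper2.TotFrac.isLocalization_fractionRing A E hmin
    obtain ⟨⟨e, ⟨_, s, hs, rfl⟩⟩, hes⟩ := IsLocalization.surj
      ((nonZeroDivisors A).map (algebraMap A E)) l
    obtain ⟨y, hyL, hy⟩ := hL s hs
    have hes' : l * algebraMap A (FractionRing E) s = algebraMap E (FractionRing E) e := by
      rw [IsScalarTower.algebraMap_apply A E (FractionRing E)]
      exact hes
    have hcL : algebraMap E (FractionRing E) e ∈ L := by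
      rw [← hes']
      exact L.mul_mem hl (L.algebraMap_mem s)
    have hcE : algebraMap E (FractionRing E) e ∈
        (integralClosure E (FractionRing E)).restrictScalars A := by
      show IsIntegral E (algebraMap E (FractionRing E) e)
      exact isIntegral_algebraMap
    refine ⟨algebraMap E (FractionRing E) e, ?_, s, hs, y, hyL, hy, ?_⟩
    · rw [hC]; exact ⟨hcL, hcE⟩
    · rw [← hes', mul_assoc, hy, mul_one]

end main

end Groth.Agent.Helper2.SemiL
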