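import Mathlib
import Groth.Prelude
import Groth.Agent.Helper2.EssFT1
import Groth.Agent.Helper2.TotFrac3
import Groth.Agent.Helper2.SemiL1
import Groth.Agent.Helper2.AnUnr7

set_option autoImplicit false
set_option linter.style.haveILetI false
set_option linter.unusedSectionVars false
set_option linter.unusedVariables false

universe u

/-! The rings `L = K_D`, `C₀ = L ∩ (integral closure of A)` inside `K = Frac E`. -/

namespace Groth.Agent.Helper2.EssFT

open IsLocalRing TensorProduct Groth.Agent.Helper2.TotFrac

section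

variable (A : Type u) [CommRing A] [IsLocalRing A] [IsReduced A]
  (E : Type u) [CommRing E] [IsLocalRing E] [Algebra A E]
  (D : Type u) [CommRing D] [Algebra A D] [Algebra D E] [IsScalarTower A D E]

/-- the total ring of fractions of `D` inside that of `E` -/
noncomputable def Lsub : Subalgebra A (FractionRing E) where
  carrier := {x | ∃ a ∈ nonZeroDivisors A, ∃ d : D,
    algebraMap A (FractionRing E) a * x = algebraMap E (FractionRing E) (algebraMap D E d)}
  mul_mem' := by
    rintro x y ⟨a, ha, d, hd⟩ ⟨a', ha', d', hd'⟩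
    refine ⟨a * a', mul_mem ha ha', d * d', ?_⟩
    rw [map_mul, map_mul, map_mul, ← hd, ← hd']
    ring
  add_mem' := by
    rintro x y ⟨a, ha, d, hd⟩ ⟨a', ha', d', hd'⟩
    refine ⟨a * a', mul_mem ha ha', algebraMap A D a' * d + algebraMap A D a * d', ?_⟩
    rw [map_add, map_add, map_mul, map_mul, map_mul, map_mul, map_mul, ← hd, ← hd',
      ← IsScalarTower.algebraMap_apply A D E, ← IsScalarTower.algebraMap_apply A D E,
      ← IsScalarTower.algebraMap_apply A E (FractionRing E),
      ← IsScalarTower.algebraMap_apply A E (FractionRing E)]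
    ring
  algebraMap_mem' := by
    intro r
    refine ⟨1, one_mem _, algebraMap A D r, ?_⟩
    rw [map_one, one_mul, ← IsScalarTower.algebraMap_apply A D E,
      ← IsScalarTower.algebraMap_apply A E (FractionRing E)]

theorem mem_Lsub (x : FractionRing E) : x ∈ Lsub A E D ↔ ∃ a ∈ nonZeroDivisors A, ∃ d : D,
    algebraMap A (FractionRing E) a * x = algebraMap E (FractionRing E) (algebraMap D E d) :=
  Iff.rfl

theorem algebraMap_mem_Lsub (d : D) :
    algebraMap E (FractionRing E) (algebraMap D E d) ∈ Lsub A E D :=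
  ⟨1, one_mem _, d, by rw [map_one, one_mul]⟩

/-- the integral closure of `A` in `L` -/
noncomputable def C0 : Subalgebra A (FractionRing E) := Lsub A E D ⊓ integralClosure A (FractionRing E)

theorem mem_C0 (x : FractionRing E) : x ∈ C0 A E D ↔ x ∈ Lsub A E D ∧ IsIntegral A x := by
  rw [C0, Algebra.mem_inf, mem_integralClosure_iff]

theorem C0_le_Lsub : C0 A E D ≤ Lsub A E D := inf_le_left

variable [Module.Flat A E] [Algebra.QuasiFinite A E]

theorem hL_Lsub : ∀ s ∈ nonZeroDivisors A, ∃ y ∈ Lsub A E D,
    algebraMap A (FractionRing E) s * y = 1 := by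
  intro s hs
  obtain ⟨u, hu⟩ := isUnit_algebraMap_fractionRing A E ⟨s, hs⟩
  refine ⟨((u⁻¹ : (FractionRing E)ˣ) : FractionRing E), ⟨s, hs, 1, ?_⟩, ?_⟩
  · have : algebraMap A (FractionRing E) s = u := hu.symm
    rw [this, Units.mul_inv, map_one, map_one]
  · have : algebraMap A (FractionRing E) s = u := hu.symm
    rw [this, Units.mul_inv]

theorem isArtinianRing_Lsub (hmin : (minimalPrimes A).Finite) : IsArtinianRing (Lsub A E D) :=
  isArtinianRing_sub A E hmin (Lsub A E D) (hL_Lsub A E D)

theorem inv_mem_Lsub (hmin : (minimalPrimes A).Finite) (x x' : FractionRing E)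
    (hx : x ∈ Lsub A E D) (hxx' : x * x' = 1) : x' ∈ Lsub A E D :=
  inv_mem_of_isUnit A E hmin (Lsub A E D) (hL_Lsub A E D) x x' hx hxx'

/-- every element of `K` becomes integral over `A` after multiplication by a non-zero-divisor
of `A` -/
theorem exists_smul_isIntegral (hmin : (minimalPrimes A).Finite) (x : FractionRing E) :
    ∃ a ∈ nonZeroDivisors A, IsIntegral A (algebraMap A (FractionRing E) a * x) := by
  letI : Algebra (FractionRing A) (FractionRing E) := (fracMap A E).toAlgebra
  haveI : IsScalarTower A (FractionRing A) (FractionRing E) :=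
    IsScalarTower.of_algebraMap_eq (fun a => (fracMap_algebraMap A E a).symm)
  haveI : Module.Finite (FractionRing A) (FractionRing E) := finite_fracMap A E hmin
  have hx : IsIntegral (FractionRing A) x := Algebra.IsIntegral.isIntegral x
  obtain ⟨m, hm⟩ := IsIntegral.exists_multiple_integral_of_isLocalization (nonZeroDivisors A)
    (Rₘ := FractionRing A) x hx
  refine ⟨m, m.2, ?_⟩
  rwa [Submonoid.smul_def, Algebra.smul_def] at hm

theorem exists_smul_mem_C0 (hmin : (minimalPrimes A).Finite) (x : FractionRing E)
    (hx : x ∈ Lsub A E D) :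
    ∃ a ∈ nonZeroDivisors A, algebraMap A (FractionRing E) a * x ∈ C0 A E D := by
  obtain ⟨a, ha, hint⟩ := exists_smul_isIntegral A E hmin x
  refine ⟨a, ha, ?_⟩
  rw [mem_C0]
  exact ⟨(Lsub A E D).mul_mem ((Lsub A E D).algebraMap_mem a) hx, hint⟩

end

end Groth.Agent.Helper2.EssFT
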