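import Mathlib
import Groth.Prelude
import Groth.Agent.Helper2.EssFT2

set_option autoImplicit false
set_option linter.style.haveILetI false
set_option linter.unusedSectionVars false
set_option linter.unusedVariables false

universe u

/-! Finiteness of the integral closure of a Nagata reduced local ring in `Frac E`. -/

namespace Groth.Agent.Helper2.EssFT

open IsLocalRing TensorProduct Groth.Agent.Helper2.TotFrac

section

variable (A : Type u) [CommRing A] [IsLocalRing A] [IsReduced A]
  (E : Type u) [CommRing E] [IsLocalRing E] [Algebra A E]
  [Module.Flat A E] [Algebra.QuasiFinite A E]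

set_option maxHeartbeats 800000 in
theorem finite_integralClosure (hNag : CAlg.IsNagata A) [IsNoetherianRing E] [IsReduced E] :
    Module.Finite A (integralClosure A (FractionRing E)) := by
  classical
  haveI := hNag.1
  have hmin : (minimalPrimes A).Finite := minimalPrimes.finite_of_isNoetherianRing A
  haveI : IsNoetherianRing (FractionRing E) :=
    IsLocalization.isNoetherianRing (nonZeroDivisors E) _ inferInstance
  haveI : IsReduced (FractionRing E) :=
    inferInstanceAs (IsReduced (Localization (nonZeroDivisors E)))
  refine Groth.Agent.Helper5.NagataRed.finite_of_minimalPrimes A (FractionRing E) ?_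
  intro q hq
  haveI : q.IsPrime := hq.1.1
  letI : Algebra (FractionRing A) (FractionRing E) := (fracMap A E).toAlgebra
  haveI : IsScalarTower A (FractionRing A) (FractionRing E) :=
    IsScalarTower.of_algebraMap_eq (fun a => (fracMap_algebraMap A E a).symm)
  haveI : Module.Finite (FractionRing A) (FractionRing E) := finite_fracMap A E hmin
  obtain ⟨n, s, hs⟩ := Module.Finite.exists_fin (R := FractionRing A) (M := FractionRing E)
  have ha : ∀ k, ∃ a ∈ nonZeroDivisors A, IsIntegral A (algebraMap A (FractionRing E) a * s k) :=
    fun k => exists_smul_isIntegral A E hmin (s k)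
  choose a ha hint using ha
  let β : Fin n → FractionRing E ⧸ q := fun k =>
    Ideal.Quotient.mk q (algebraMap A (FractionRing E) (a k) * s k)
  refine Groth.Agent.Helper2.AnUnr1.finite_integralClosure_of_span A hNag (nonZeroDivisors A)
    (FractionRing A) (FractionRing E ⧸ q) β ?_ ?_
  · intro k
    exact (hint k).map (Ideal.Quotient.mkₐ A q)
  · rw [eq_top_iff]
    rintro x -
    obtain ⟨x', rfl⟩ := Ideal.Quotient.mk_surjective x
    have hx' : x' ∈ Submodule.span (FractionRing A) (Set.range s) := hs ▸ Submodule.mem_top
    induction hx' using Submodule.span_induction with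
    | mem y hy =>
      obtain ⟨k, rfl⟩ := hy
      let u : FractionRing A := IsLocalization.mk' (FractionRing A) 1 (⟨a k, ha k⟩ : nonZeroDivisors A)
      have hu : u * algebraMap A (FractionRing A) (a k) = 1 := by
        have := IsLocalization.mk'_spec (FractionRing A) (1 : A) (⟨a k, ha k⟩ : nonZeroDivisors A)
        rw [map_one] at this
        exact this
      have h1 : Ideal.Quotient.mk q (s k) = u • β k := by
        have h0 : u • Ideal.Quotient.mk q (algebraMap A (FractionRing E) (a k) * s k) =
            Ideal.Quotient.mk q (u • (algebraMap A (FractionRing E) (a k) * s k)) := rfl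
        show _ = u • Ideal.Quotient.mk q (algebraMap A (FractionRing E) (a k) * s k)
        rw [h0, Algebra.smul_def, ← mul_assoc,
          IsScalarTower.algebraMap_apply A (FractionRing A) (FractionRing E), ← map_mul, hu,
          map_one, one_mul]
      rw [h1]
      exact Submodule.smul_mem _ _ (Submodule.subset_span ⟨k, rfl⟩)
    | zero => rw [map_zero]; exact zero_mem _
    | add y z _ _ hy hz => rw [map_add]; exact add_mem hy hz
    | smul c y _ hy =>
      have : Ideal.Quotient.mk q (c • y) = c • Ideal.Quotient.mk q y := rfl
      rw [this]
      exact Submodule.smul_mem _ _ hy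

variable (D : Type u) [CommRing D] [Algebra A D] [Algebra D E] [IsScalarTower A D E]

theorem finite_C0 (hNag : CAlg.IsNagata A) [IsNoetherianRing E] [IsReduced E] :
    Module.Finite A (C0 A E D) := by
  haveI := hNag.1
  haveI := finite_integralClosure A E hNag
  haveI : IsNoetherian A (integralClosure A (FractionRing E)) :=
    isNoetherian_of_isNoetherianRing_of_finite A _
  have hle : C0 A E D ≤ integralClosure A (FractionRing E) := inf_le_right
  exact Module.Finite.of_injective (Subalgebra.inclusion hle).toLinearMap
    (Subalgebra.inclusion_injective hle)

end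

end Groth.Agent.Helper2.EssFT
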