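import Mathlib
import Groth.Prelude
import Groth.Agent.Helper2.EssFT3

set_option autoImplicit false
set_option linter.style.haveILetI false
set_option linter.unusedSectionVars false
set_option linter.unusedVariables false

universe u

/-! The ring `B = E[C₀]` inside `K = Frac E`. -/

namespace Groth.Agent.Helper2.EssFT

open IsLocalRing TensorProduct Groth.Agent.Helper2.TotFrac

section

variable (A : Type u) [CommRing A] [IsLocalRing A] [IsReduced A]
  (E : Type u) [CommRing E] [IsLocalRing E] [Algebra A E]
  (D : Type u) [CommRing D] [Algebra A D] [Algebra D E] [IsScalarTower A D E]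

/-- the product map `E ⊗ C₀ → K` -/
noncomputable def muE : E ⊗[A] (C0 A E D) →ₐ[E] FractionRing E :=
  Algebra.TensorProduct.productLeftAlgHom (Algebra.ofId E (FractionRing E)) (C0 A E D).val

theorem muE_tmul (e : E) (c : C0 A E D) :
    muE A E D (e ⊗ₜ c) = algebraMap E (FractionRing E) e * (c : FractionRing E) := by
  simp [muE, Algebra.ofId_apply]

/-- `B = E[C₀]` as an `E`-subalgebra -/
noncomputable def BE : Subalgebra E (FractionRing E) := (muE A E D).range

/-- `B = E[C₀]` as an `A`-subalgebra -/
noncomputable def Bsub : Subalgebra A (FractionRing E) := (BE A E D).restrictScalars A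

theorem mem_Bsub (x : FractionRing E) : x ∈ Bsub A E D ↔ ∃ g, muE A E D g = x := Iff.rfl

theorem C0_le_Bsub : C0 A E D ≤ Bsub A E D := by
  intro c hc
  rw [mem_Bsub]
  exact ⟨(1 : E) ⊗ₜ ⟨c, hc⟩, by rw [muE_tmul, map_one, one_mul]⟩

theorem algebraMap_mem_Bsub (e : E) : algebraMap E (FractionRing E) e ∈ Bsub A E D :=
  (BE A E D).algebraMap_mem e

theorem finite_BE [Module.Finite A (C0 A E D)] : Module.Finite E (BE A E D) := by
  haveI : Module.Finite E (E ⊗[A] (C0 A E D)) := Module.Finite.base_change A E (C0 A E D)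
  exact Module.Finite.of_surjective (muE A E D).rangeRestrict.toLinearMap
    (AlgHom.rangeRestrict_surjective _)

theorem finite_max_Bsub [Module.Finite A (C0 A E D)] :
    {M : Ideal (Bsub A E D) | M.IsMaximal}.Finite := by
  haveI := finite_BE A E D
  exact finite_setOf_isMaximal E (BE A E D)

variable [Module.Flat A E] [Algebra.QuasiFinite A E]

/-- a common denominator for `B` -/
theorem exists_conductor (hmin : (minimalPrimes A).Finite) [Module.Finite A (C0 A E D)] :
    ∃ a ∈ nonZeroDivisors A, ∀ b ∈ Bsub A E D,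
      ∃ e : E, algebraMap A (FractionRing E) a * b = algebraMap E (FractionRing E) e := by
  classical
  haveI := isLocalization_fractionRing A E hmin
  obtain ⟨n, s, hs⟩ := Module.Finite.exists_fin (R := A) (M := C0 A E D)
  have ha : ∀ k, ∃ a ∈ nonZeroDivisors A, ∃ e : E,
      algebraMap A (FractionRing E) a * ((s k : C0 A E D) : FractionRing E) =
        algebraMap E (FractionRing E) e := by
    intro k
    obtain ⟨⟨e, m⟩, hm⟩ := IsLocalization.surj ((nonZeroDivisors A).map (algebraMap A E))
      ((s k : C0 A E D) : FractionRing E)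
    obtain ⟨a, ha, ham⟩ := m.2
    refine ⟨a, ha, e, ?_⟩
    rw [← hm, mul_comm, IsScalarTower.algebraMap_apply A E (FractionRing E), ham]
  choose a ha e he using ha
  refine ⟨∏ k, a k, prod_mem fun k _ => ha k, ?_⟩
  have hC0 : ∀ c : C0 A E D, ∃ e' : E,
      algebraMap A (FractionRing E) (∏ k, a k) * (c : FractionRing E) =
        algebraMap E (FractionRing E) e' := by
    intro c
    have hc : c ∈ Submodule.span A (Set.range s) := hs ▸ Submodule.mem_top
    induction hc using Submodule.span_induction with
    | mem y hy =>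
      obtain ⟨k, rfl⟩ := hy
      refine ⟨algebraMap A E (∏ j ∈ Finset.univ.erase k, a j) * e k, ?_⟩
      rw [← Finset.mul_prod_erase Finset.univ a (Finset.mem_univ k), map_mul, map_mul,
        ← he k, ← IsScalarTower.algebraMap_apply A E (FractionRing E)]
      ring
    | zero => exact ⟨0, by simp⟩
    | add y z _ _ hy hz =>
      obtain ⟨e₁, h₁⟩ := hy
      obtain ⟨e₂, h₂⟩ := hz
      exact ⟨e₁ + e₂, by rw [map_add, ← h₁, ← h₂]; push_cast; ring⟩
    | smul r y _ hy =>
      obtain ⟨e₁, h₁⟩ := hy
      refine ⟨algebraMap A E r * e₁, ?_⟩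
      rw [map_mul, ← h₁, ← IsScalarTower.algebraMap_apply A E (FractionRing E)]
      have : ((r • y : C0 A E D) : FractionRing E) =
          algebraMap A (FractionRing E) r * (y : FractionRing E) := by
        rw [Subalgebra.coe_smul, Algebra.smul_def]
      rw [this]
      ring
  intro b hb
  obtain ⟨g, rfl⟩ := (mem_Bsub A E D b).1 hb
  clear hb
  induction g using TensorProduct.induction_on with
  | zero => exact ⟨0, by simp⟩
  | tmul x c =>
    obtain ⟨e', he'⟩ := hC0 c
    refine ⟨x * e', ?_⟩
    rw [muE_tmul, map_mul, ← he']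
    ring
  | add g₁ g₂ h₁ h₂ =>
    obtain ⟨e₁, h₁⟩ := h₁
    obtain ⟨e₂, h₂⟩ := h₂
    exact ⟨e₁ + e₂, by rw [map_add, map_add, mul_add, h₁, h₂]⟩

end

end Groth.Agent.Helper2.EssFT
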