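import Mathlib
import Groth.Prelude
import Groth.Agent.Helper2.EssEtSub4
import Groth.Agent.Helper5.SmNorm2

set_option autoImplicit false
set_option linter.style.haveILetI false
set_option linter.unusedSectionVars false

/-! Normal local subalgebras of a strict henselization lying in a stage: the strict henselization
is faithfully flat over them. (towards S16432, S16433) -/

universe u

namespace Groth.Agent.Helper2.NormSub

open IsLocalRing TensorProduct Groth.Agent.Helper1.Hens Groth.Agent.Helper1
  Groth.Agent.Helper2.EssEtSub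

section generic

variable (D T S : Type u) [CommRing D] [IsDomain D] [IsIntegrallyClosed D] [CommRing T]
  [Algebra D T] [Algebra.Etale D T] [CommRing S] [IsDomain S] [Algebra D S]

/-- the localisation of an étale algebra over a normal domain at a prime, mapping to a domain
extending `D`, maps injectively -/
theorem lift_injective_of_etale (hinj : Function.Injective (algebraMap D S)) (μ : T →ₐ[D] S)
    (q : Ideal T) [q.IsPrime] (hq : ∀ y : q.primeCompl, IsUnit (μ (y : T))) :
    Function.Injective (IsLocalization.liftAlgHom (M := q.primeCompl)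
      (S := Localization.AtPrime q) (f := μ) hq) := by
  haveI : IsDomain (Localization.AtPrime q) :=
    (Groth.Agent.Helper5.SmNorm.normal_atPrime_of_etale D T q).1
  set Tq := Localization.AtPrime q
  set ν : Tq →ₐ[D] S := IsLocalization.liftAlgHom (M := q.primeCompl)
      (S := Localization.AtPrime q) (f := μ) hq with hν
  have hνa : ∀ t : T, ν (algebraMap T Tq t) = μ t := fun t => by simp [hν]
  let P₀ : Ideal T := RingHom.ker (algebraMap T Tq)
  let P₁ : Ideal T := RingHom.ker μ.toRingHom
  haveI : P₀.IsPrime := RingHom.ker_isPrime _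
  haveI : P₁.IsPrime := RingHom.ker_isPrime _
  have h01 : P₀ ≤ P₁ := by
    intro t ht
    have h1 : algebraMap T Tq t = 0 := ht
    show μ t = 0
    rw [← hνa, h1, map_zero]
  have hunder : P₁.under D = ⊥ := by
    rw [eq_bot_iff]
    intro d hd
    have h1 : μ (algebraMap D T d) = 0 := hd
    rw [AlgHom.commutes] at h1
    rw [Ideal.mem_bot]
    exact hinj (by rw [h1, map_zero])
  have hunder0 : P₀.under D = P₁.under D := by
    rw [hunder, eq_bot_iff, ← hunder]
    exact Ideal.comap_mono h01
  have heq : P₀ = P₁ := Algebra.QuasiFinite.eq_of_le_of_under_eq (R := D) P₀ P₁ h01 hunder0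
  rw [injective_iff_map_eq_zero]
  intro z hz
  obtain ⟨t, u, rfl⟩ := IsLocalization.exists_mk'_eq q.primeCompl z
  have h1 : ν (IsLocalization.mk' Tq t u) * μ (u : T) = μ t := by
    rw [← hνa, ← map_mul, IsLocalization.mk'_spec, hνa]
  rw [hz, zero_mul] at h1
  have h2 : t ∈ P₁ := h1.symm
  rw [← heq] at h2
  have h3 : algebraMap T Tq t = 0 := h2
  rw [IsLocalization.mk'_eq_zero_iff]
  exact (IsLocalization.map_eq_zero_iff q.primeCompl Tq t).1 h3

/-- packaged form hiding the localisation -/
theorem exists_flat_of_etale (hinj : Function.Injective (algebraMap D S)) (μ : T →ₐ[D] S)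
    (q : Ideal T) [q.IsPrime] (hq : ∀ u : T, u ∉ q → IsUnit (μ u)) :
    ∃ (Tq : Type u) (_ : CommRing Tq) (_ : Algebra D Tq) (_ : Module.Flat D Tq)
      (ν : Tq →ₐ[D] S), Function.Injective ν ∧
        ∀ x : S, x ∈ ν.range ↔ ∃ t u : T, u ∉ q ∧ x * μ u = μ t := by
  have hq' : ∀ y : q.primeCompl, IsUnit (μ (y : T)) := fun y => hq y y.2
  haveI : Module.Flat D (Localization.AtPrime q) := Module.Flat.trans D T (Localization.AtPrime q)
  refine ⟨Localization.AtPrime q, inferInstance, inferInstance, inferInstance,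
    IsLocalization.liftAlgHom (M := q.primeCompl) (S := Localization.AtPrime q) (f := μ) hq',
    lift_injective_of_etale D T S hinj μ q hq', ?_⟩
  set ν : Localization.AtPrime q →ₐ[D] S := IsLocalization.liftAlgHom (M := q.primeCompl)
      (S := Localization.AtPrime q) (f := μ) hq' with hν
  have hνa : ∀ t : T, ν (algebraMap T (Localization.AtPrime q) t) = μ t := fun t => by simp [hν]
  intro x
  constructor
  · rintro ⟨z, rfl⟩
    obtain ⟨t, u, rfl⟩ := IsLocalization.exists_mk'_eq q.primeCompl z
    refine ⟨t, u, u.2, ?_⟩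
    show ν (IsLocalization.mk' _ t u) * μ (u : T) = μ t
    rw [← hνa, ← map_mul, IsLocalization.mk'_spec, hνa]
  · rintro ⟨t, u, hu, h⟩
    refine ⟨IsLocalization.mk' _ t (⟨u, hu⟩ : q.primeCompl), ?_⟩
    have h1 : ν (IsLocalization.mk' (Localization.AtPrime q) t (⟨u, hu⟩ : q.primeCompl)) * μ u
        = μ t := by
      rw [← hνa u, ← map_mul]
      have := IsLocalization.mk'_spec (Localization.AtPrime q) t (⟨u, hu⟩ : q.primeCompl)
      rw [this, hνa]
    have hunit := hq u hu
    apply hunit.mul_left_injective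
    show ν (IsLocalization.mk' (Localization.AtPrime q) t (⟨u, hu⟩ : q.primeCompl)) * μ u = x * μ u
    rw [h1, h]

end generic

section app

variable (A S : Type u) [CommRing A] [IsLocalRing A] [CommRing S] [IsLocalRing S] [IsDomain S]
  [Algebra A S] [IsLocalHom (algebraMap A S)] [Hensel.IsStrictHenselization A S]
  (D : Subalgebra A S) [IsIntegrallyClosed D] [IsLocalRing D] [IsLocalHom (algebraMap D S)]
  (i : Idx A (ResidueField S))

/-- the inclusion of `D` in a stage containing it, as a map to the stage ring -/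
noncomputable def toL (hDE : D ≤ (stageHom A S i).range) : D →ₐ[A] i.L :=
  (AlgEquiv.ofInjective (stageHom A S i) (stageHom_injective A S i)).symm.toAlgHom.comp
    (Subalgebra.inclusion hDE)

theorem stageHom_toL (hDE : D ≤ (stageHom A S i).range) (d : D) :
    stageHom A S i (toL A S D i hDE d) = (d : S) := by
  have h1 : ((AlgEquiv.ofInjective (stageHom A S i) (stageHom_injective A S i))
      (toL A S D i hDE d) : S) = stageHom A S i (toL A S D i hDE d) := rfl
  rw [← h1]
  simp [toL]

/-- the strict henselization is faithfully flat over a normal local subalgebra contained in a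
stage -/
theorem faithfullyFlat_of_le_stage (hDE : D ≤ (stageHom A S i).range) :
    Module.FaithfullyFlat D S := by
  let φ := stageHom A S i
  have hφinj : Function.Injective φ := stageHom_injective A S i
  let μ : D ⊗[A] i.C →ₐ[D] S := Algebra.TensorProduct.lift (Algebra.ofId D S)
    (φ.comp (IsScalarTower.toAlgHom A i.C i.L)) (fun _ _ => Commute.all _ _)
  have hμ : ∀ (d : D) (c : i.C), μ (d ⊗ₜ c) = (d : S) * φ (algebraMap i.C i.L c) := by
    intro d c
    simp [μ, Algebra.ofId_apply]
  let q : Ideal (D ⊗[A] i.C) := (maximalIdeal S).comap μ.toRingHom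
  haveI : q.IsPrime := Ideal.comap_isPrime _ _
  have hq : ∀ u : D ⊗[A] i.C, u ∉ q → IsUnit (μ u) := by
    intro u hu
    by_contra h
    exact hu ((mem_maximalIdeal _).2 h)
  obtain ⟨Tq, _, _, _, ν, hνinj, hνrange⟩ :=
    exists_flat_of_etale D (D ⊗[A] i.C) S Subtype.val_injective μ q hq
  -- image of μ lies in the stage
  have hμE : ∀ t : D ⊗[A] i.C, ∃ y : i.L, φ y = μ t := by
    intro t
    induction t using TensorProduct.induction_on with
    | zero => exact ⟨0, by simp⟩
    | tmul d c =>
      refine ⟨toL A S D i hDE d * algebraMap i.C i.L c, ?_⟩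
      rw [map_mul, hμ]
      congr 1
      exact stageHom_toL A S D i hDE d
    | add t₁ t₂ h₁ h₂ =>
      obtain ⟨y₁, hy₁⟩ := h₁
      obtain ⟨y₂, hy₂⟩ := h₂
      exact ⟨y₁ + y₂, by rw [map_add, map_add, hy₁, hy₂]⟩
  have hrange : ∀ x : S, x ∈ ν.range ↔ x ∈ φ.range := by
    intro x
    rw [hνrange]
    constructor
    · rintro ⟨t, u, hu, h⟩
      obtain ⟨yt, hyt⟩ := hμE t
      obtain ⟨yu, hyu⟩ := hμE u
      have hunit : IsUnit yu := by
        apply isUnit_of_isUnit_stageHom A S i
        show IsUnit (φ yu)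
        rw [hyu]
        exact hq u hu
      obtain ⟨v, hv⟩ := hunit
      refine ⟨yt * ((v⁻¹ : i.Lˣ) : i.L), ?_⟩
      have h2 : φ yu * φ ((v⁻¹ : i.Lˣ) : i.L) = 1 := by
        rw [← map_mul, ← hv, Units.mul_inv, map_one]
      show φ (yt * ((v⁻¹ : i.Lˣ) : i.L)) = x
      rw [map_mul, hyt, ← h, hyu.symm, mul_assoc, h2, mul_one]
    · rintro ⟨y, rfl⟩
      obtain ⟨c, v, rfl⟩ := IsLocalization.exists_mk'_eq (pt i.γ).primeCompl y
      have hvunit : IsUnit (φ (algebraMap i.C i.L (v : i.C))) :=
        (IsLocalization.map_units i.L v).map φ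
      refine ⟨1 ⊗ₜ c, 1 ⊗ₜ (v : i.C), ?_, ?_⟩
      · intro hmem
        have h1 : μ (1 ⊗ₜ (v : i.C)) ∈ maximalIdeal S := hmem
        rw [hμ, OneMemClass.coe_one, one_mul] at h1
        exact ((mem_maximalIdeal _).1 h1) hvunit
      · rw [hμ, hμ, OneMemClass.coe_one, one_mul, one_mul]
        show φ (IsLocalization.mk' i.L c v) * φ (algebraMap i.C i.L (v : i.C)) = _
        rw [← map_mul, IsLocalization.mk'_spec]
  -- the map `Tq → i.L`
  have hex : ∀ z : Tq, ∃ y : i.L, φ y = ν z := fun z => (hrange _).1 ⟨z, rfl⟩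
  choose g hg using hex
  letI : Algebra D i.L := (toL A S D i hDE).toRingHom.toAlgebra
  letI : Algebra i.L S := φ.toRingHom.toAlgebra
  have halgDL : ∀ d : D, algebraMap D i.L d = toL A S D i hDE d := fun _ => rfl
  have halgLS : ∀ y : i.L, algebraMap i.L S y = φ y := fun _ => rfl
  haveI : IsScalarTower D i.L S := IsScalarTower.of_algebraMap_eq (fun d => by
    rw [halgLS, halgDL]
    exact (stageHom_toL A S D i hDE d).symm)
  let glin : Tq →ₗ[D] i.L :=
    { toFun := g
      map_add' := fun z₁ z₂ => hφinj (by rw [map_add, hg, hg, hg, map_add])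
      map_smul' := fun d z => hφinj (by
        calc φ (g (d • z)) = ν (d • z) := hg _
          _ = d • ν z := map_smul ν d z
          _ = (d : S) * ν z := Algebra.smul_def d (ν z)
          _ = φ (toL A S D i hDE d) * φ (g z) := by rw [stageHom_toL, hg]
          _ = φ (toL A S D i hDE d * g z) := (map_mul φ _ _).symm
          _ = φ ((RingHom.id D) d • g z) := rfl) }
  have hgbij : Function.Bijective glin := by
    constructor
    · intro z₁ z₂ h
      apply hνinj
      have h1 : g z₁ = g z₂ := h
      rw [← hg, ← hg, h1]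
    · intro y
      obtain ⟨z, hz⟩ := (hrange (φ y)).2 ⟨y, rfl⟩
      refine ⟨z, hφinj ?_⟩
      show φ (g z) = φ y
      rw [hg]
      exact hz
  haveI : Module.Flat D i.L :=
    Module.Flat.of_linearEquiv (LinearEquiv.ofBijective glin hgbij).symm
  haveI : Module.Flat i.L S := (flat_stageHom A S i).toFlat
  haveI : Module.Flat D S := Module.Flat.trans D i.L S
  exact Module.FaithfullyFlat.of_flat_of_isLocalHom

/-- `Frac(D) ∩ S = D` -/
theorem mem_of_mul_eq (hDE : D ≤ (stageHom A S i).range) (a b : D) (hb : b ≠ 0) (x : S)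
    (hx : x * (b : S) = (a : S)) : x ∈ D := by
  haveI := faithfullyFlat_of_le_stage A S D i hDE
  have h1 : a ∈ ((Ideal.span {b}).map (algebraMap D S)).comap (algebraMap D S) := by
    rw [Ideal.mem_comap, Ideal.map_span, Set.image_singleton, Ideal.mem_span_singleton']
    exact ⟨x, hx⟩
  rw [Ideal.comap_map_eq_self_of_faithfullyFlat, Ideal.mem_span_singleton'] at h1
  obtain ⟨d, hd⟩ := h1
  have h2 : (d : S) * (b : S) = (a : S) := by
    rw [← hd]; rfl
  have hb' : (b : S) ≠ 0 := fun h => hb (Subtype.ext h)
  have h3 : x = (d : S) := mul_right_cancel₀ hb' (hx.trans h2.symm)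
  rw [h3]
  exact d.2

theorem map_maximalIdeal_eq (hDE : D ≤ (stageHom A S i).range) :
    (maximalIdeal A).map (algebraMap A D) = maximalIdeal D := by
  haveI := faithfullyFlat_of_le_stage A S D i hDE
  have h1 : ((maximalIdeal A).map (algebraMap A D)).map (algebraMap D S) = maximalIdeal S := by
    rw [Ideal.map_map, ← IsScalarTower.algebraMap_eq]
    exact Hens.map_maximalIdeal_of_isStrictHenselization A S
  have h2 := Ideal.comap_map_eq_self_of_faithfullyFlat (B := S)
    ((maximalIdeal A).map (algebraMap A D))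
  rw [h1] at h2
  rw [← h2]
  exact ((IsLocalRing.local_hom_TFAE (algebraMap D S)).out 0 4).1 ‹_›

theorem isEssentiallyEtale_of_le_stage [Algebra.EssFiniteType A D]
    (hDE : D ≤ (stageHom A S i).range) : EGA4loc.IsEssentiallyEtale A D :=
  s16438 A S D (map_maximalIdeal_eq A S D i hDE)

end app

end Groth.Agent.Helper2.NormSub

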