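import Mathlib
import Groth.Prelude
import Groth.Agent.Helper2.NormSub1

set_option autoImplicit false
set_option linter.style.haveILetI false
set_option linter.unusedSectionVars false
set_option linter.unusedVariables false

universe u

/-! Divisibility descends from `B = C₀[E]` to the localizations of `C₀`, when those are normal
domains and `E` is a localization of an étale algebra. -/

namespace Groth.Agent.Helper2.IntFF

open IsLocalRing TensorProduct

section

variable {A K : Type u} [CommRing A] [CommRing K] [Algebra A K]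
  (C₀ B : Subalgebra A K) (hCB : C₀ ≤ B)
  (E₀ : Type u) [CommRing E₀] [Algebra A E₀] [Algebra.Etale A E₀] (ψB : E₀ →ₐ[A] B)
  (M 𝔓 : Ideal B) [M.IsPrime] [𝔓.IsPrime] (h𝔓M : 𝔓 ≤ M)

/-- the contraction of `M` to `C₀` -/
noncomputable def nn : Ideal C₀ := M.comap (Subalgebra.inclusion hCB).toRingHom

instance : (nn C₀ B hCB M).IsPrime := Ideal.comap_isPrime _ _

/-- the product map `C₀ ⊗ E₀ → B` -/
noncomputable def muB : C₀ ⊗[A] E₀ →ₐ[A] B :=
  Algebra.TensorProduct.productMap (Subalgebra.inclusion hCB) ψB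

set_option maxHeartbeats 1600000 in
theorem exists_mul_eq_of_dvd (h𝔓M : 𝔓 ≤ M)
    (hdom : IsDomain (Localization.AtPrime (nn C₀ B hCB M)))
    (hic : IsIntegrallyClosed (Localization.AtPrime (nn C₀ B hCB M)))
    (hker : ∀ c : C₀, Subalgebra.inclusion hCB c ∈ 𝔓 → ∃ s : C₀, s ∉ nn C₀ B hCB M ∧ s * c = 0)
    (hgen : ∀ b : B, ∃ (g : C₀ ⊗[A] E₀) (v : E₀), IsUnit (ψB v) ∧ b * ψB v = muB C₀ B hCB E₀ ψB g)
    (a c : C₀) (b : B) (hb : Subalgebra.inclusion hCB c = Subalgebra.inclusion hCB a * b) :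
    ∃ s : C₀, s ∉ nn C₀ B hCB M ∧ ∃ c' : C₀, s * c = a * c' := by
  classical
  set n := nn C₀ B hCB M with hn
  let incl : C₀ →ₐ[A] B := Subalgebra.inclusion hCB
  set Dn := Localization.AtPrime n with hDn
  haveI := hdom
  haveI := hic
  let Bq := B ⧸ 𝔓
  let M' : Ideal Bq := M.map (Ideal.Quotient.mk 𝔓)
  haveI hM' : M'.IsPrime :=
    Ideal.map_isPrime_of_surjective Ideal.Quotient.mk_surjective (by rw [Ideal.mk_ker]; exact h𝔓M)
  have hM'mem : ∀ x : B, Ideal.Quotient.mk 𝔓 x ∈ M' ↔ x ∈ M := by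
    intro x
    have h1 : M'.comap (Ideal.Quotient.mk 𝔓) = M := by
      rw [Ideal.comap_map_of_surjective _ Ideal.Quotient.mk_surjective, ← RingHom.ker_eq_comap_bot,
        Ideal.mk_ker, sup_eq_left.2 h𝔓M]
    rw [← Ideal.mem_comap, h1]
  let S := Localization.AtPrime M'
  let β : B →+* S := (algebraMap Bq S).comp (Ideal.Quotient.mk 𝔓)
  have hBqS : Function.Injective (algebraMap Bq S) :=
    IsLocalization.injective S M'.primeCompl_le_nonZeroDivisors
  have hβunit : ∀ x : B, x ∉ M → IsUnit (β x) := by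
    intro x hx
    exact IsLocalization.map_units S (⟨Ideal.Quotient.mk 𝔓 x, fun h => hx ((hM'mem x).1 h)⟩ :
      M'.primeCompl)
  have hβmax : ∀ x : B, x ∈ M → β x ∈ maximalIdeal S := by
    intro x hx
    rw [← Localization.AtPrime.map_eq_maximalIdeal (I := M')]
    exact Ideal.mem_map_of_mem _ ((hM'mem x).2 hx)
  have hunits : ∀ y : n.primeCompl, IsUnit ((β.comp incl.toRingHom) y) := by
    intro y
    exact hβunit _ y.2
  let fD : Dn →+* S := IsLocalization.lift hunits
  letI : Algebra Dn S := fD.toAlgebra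
  have hfD : ∀ x : C₀, algebraMap Dn S (algebraMap C₀ Dn x) = β (incl x) :=
    fun x => IsLocalization.lift_eq hunits x
  have hinjDS : Function.Injective (algebraMap Dn S) := by
    rw [injective_iff_map_eq_zero]
    intro z hz
    obtain ⟨x, s, rfl⟩ := IsLocalization.exists_mk'_eq n.primeCompl z
    have h1 : algebraMap Dn S (IsLocalization.mk' Dn x s) * algebraMap Dn S (algebraMap C₀ Dn s) =
        algebraMap Dn S (algebraMap C₀ Dn x) := by
      rw [← map_mul, IsLocalization.mk'_spec]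
    rw [hz, zero_mul, hfD] at h1
    have h2 : Ideal.Quotient.mk 𝔓 (incl x) = 0 := hBqS (by rw [map_zero]; exact h1.symm)
    rw [Ideal.Quotient.eq_zero_iff_mem] at h2
    obtain ⟨t, ht, htx⟩ := hker x h2
    rw [IsLocalization.mk'_eq_zero_iff]
    exact ⟨⟨t, ht⟩, htx⟩
  haveI : IsScalarTower A Dn S := IsScalarTower.of_algebraMap_eq (fun r => by
    rw [IsScalarTower.algebraMap_apply A C₀ Dn, hfD]
    show algebraMap A S r = algebraMap Bq S (Ideal.Quotient.mk 𝔓 (incl (algebraMap A C₀ r)))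
    rw [AlgHom.commutes, IsScalarTower.algebraMap_apply A Bq S]
    rfl)
  let ψS : E₀ →ₐ[A] S :=
    (IsScalarTower.toAlgHom A Bq S).comp ((Ideal.Quotient.mkₐ A 𝔓).comp ψB)
  have hψS : ∀ e : E₀, ψS e = β (ψB e) := fun e => rfl
  let T := Dn ⊗[A] E₀
  let μ : T →ₐ[Dn] S := Algebra.TensorProduct.lift (Algebra.ofId Dn S) ψS (fun _ _ => Commute.all _ _)
  have hμ : ∀ (d : Dn) (e : E₀), μ (d ⊗ₜ e) = algebraMap Dn S d * ψS e := by
    intro d e
    show Algebra.TensorProduct.lift (Algebra.ofId Dn S) ψS _ (d ⊗ₜ e) = _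
    rw [Algebra.TensorProduct.lift_tmul]
    rfl
  let q : Ideal T := (maximalIdeal S).comap μ.toRingHom
  haveI : q.IsPrime := Ideal.comap_isPrime _ _
  have hq : ∀ u : T, u ∉ q → IsUnit (μ u) := by
    intro u hu
    by_contra h
    exact hu ((mem_maximalIdeal _).2 h)
  obtain ⟨Tq, _, _, _, ν, hνinj, hνrange⟩ :=
    Groth.Agent.Helper2.NormSub.exists_flat_of_etale Dn T S hinjDS μ q hq
  -- faithful flatness
  have hmaxDS : ∀ d : Dn, d ∈ maximalIdeal Dn → algebraMap Dn S d ∈ maximalIdeal S := by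
    intro d hd
    obtain ⟨x, s, rfl⟩ := IsLocalization.exists_mk'_eq n.primeCompl d
    have hx : x ∈ n := by
      by_contra hx
      have h1 : IsUnit (IsLocalization.mk' Dn x s) := by
        have h2 : IsUnit (algebraMap C₀ Dn x) :=
          IsLocalization.map_units Dn (⟨x, hx⟩ : n.primeCompl)
        have h3 : IsLocalization.mk' Dn x s * algebraMap C₀ Dn s = algebraMap C₀ Dn x :=
          IsLocalization.mk'_spec Dn x s
        exact isUnit_of_mul_isUnit_left (h3 ▸ h2)
      exact ((mem_maximalIdeal _).1 hd) h1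
    have h1 : algebraMap Dn S (IsLocalization.mk' Dn x s) * algebraMap Dn S (algebraMap C₀ Dn s) =
        algebraMap Dn S (algebraMap C₀ Dn x) := by
      rw [← map_mul, IsLocalization.mk'_spec]
    rw [hfD, hfD] at h1
    have h2 : β (incl x) ∈ maximalIdeal S := hβmax _ hx
    rw [← h1] at h2
    rcases (Ideal.IsPrime.mem_or_mem inferInstance h2) with h | h
    · exact h
    · exact absurd (hβunit _ s.2) ((mem_maximalIdeal _).1 h)
  haveI : Module.FaithfullyFlat Dn Tq := by
    rw [Module.FaithfullyFlat.iff_flat_and_proper_ideal]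
    refine ⟨inferInstance, fun I hI htop => ?_⟩
    have hIle : I ≤ maximalIdeal Dn := IsLocalRing.le_maximalIdeal hI
    have h1 : ∀ t ∈ (I • ⊤ : Submodule Dn Tq), ν t ∈ maximalIdeal S := by
      intro t ht
      refine Submodule.smul_induction_on ht ?_ ?_
      · intro d hd t' _
        rw [map_smul, Algebra.smul_def]
        exact Ideal.mul_mem_right _ _ (hmaxDS d (hIle hd))
      · intro x y hx hy
        rw [map_add]
        exact add_mem hx hy
    have h2 : ν 1 ∈ maximalIdeal S := h1 1 (by rw [htop]; exact Submodule.mem_top)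
    rw [map_one] at h2
    exact (mem_maximalIdeal _).1 h2 isUnit_one
  -- the comparison `C₀ ⊗ E₀ → Dn ⊗ E₀`
  let κ : C₀ ⊗[A] E₀ →ₐ[A] T :=
    Algebra.TensorProduct.map (IsScalarTower.toAlgHom A C₀ Dn) (AlgHom.id A E₀)
  have hκ : ∀ g : C₀ ⊗[A] E₀, μ (κ g) = β (muB C₀ B hCB E₀ ψB g) := by
    intro g
    induction g using TensorProduct.induction_on with
    | zero => simp
    | tmul x e =>
      have h1 : κ (x ⊗ₜ e) = (algebraMap C₀ Dn x) ⊗ₜ e := by
        show Algebra.TensorProduct.map _ _ (x ⊗ₜ e) = _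
        rw [Algebra.TensorProduct.map_tmul]
        rfl
      rw [h1, hμ, hfD, hψS]
      simp only [muB, Algebra.TensorProduct.productMap_apply_tmul, map_mul]
      rfl
    | add g₁ g₂ h₁ h₂ => simp only [map_add, h₁, h₂]
  -- the element `b`
  obtain ⟨g, v, hv, hbv⟩ := hgen b
  have hbrange : β b ∈ ν.range := by
    rw [hνrange]
    refine ⟨κ g, (1 : Dn) ⊗ₜ v, ?_, ?_⟩
    · intro hmem
      have h1 : μ ((1 : Dn) ⊗ₜ v) ∈ maximalIdeal S := hmem
      rw [hμ, map_one, one_mul, hψS] at h1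
      exact ((mem_maximalIdeal _).1 h1) (hv.map β)
    · rw [hμ, map_one, one_mul, hψS, hκ, ← hbv, map_mul]
  obtain ⟨b', hb'⟩ := hbrange
  have hb'' : ν b' = β b := hb'
  have h1 : algebraMap Dn Tq (algebraMap C₀ Dn c) = algebraMap C₀ Dn a • b' := by
    apply hνinj
    rw [map_smul, Algebra.smul_def, AlgHom.commutes, hfD, hfD, hb'', hb, map_mul]
  have h2 : algebraMap C₀ Dn c ∈
      ((Ideal.span {algebraMap C₀ Dn a}).map (algebraMap Dn Tq)).comap (algebraMap Dn Tq) := by
    rw [Ideal.mem_comap, Ideal.map_span, Set.image_singleton, Ideal.mem_span_singleton', h1]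
    exact ⟨b', by rw [Algebra.smul_def, mul_comm]⟩
  rw [Ideal.comap_map_eq_self_of_faithfullyFlat, Ideal.mem_span_singleton'] at h2
  obtain ⟨d, hd⟩ := h2
  obtain ⟨c', s, rfl⟩ := IsLocalization.exists_mk'_eq n.primeCompl d
  have h3 : algebraMap C₀ Dn ((s : C₀) * c) = algebraMap C₀ Dn (a * c') := by
    rw [map_mul, ← hd, map_mul]
    have := IsLocalization.mk'_spec Dn c' s
    rw [← this]
    ring
  obtain ⟨s', hs'⟩ := (IsLocalization.eq_iff_exists n.primeCompl Dn).1 h3
  refine ⟨s' * s, (s' * s).2, s' * c', ?_⟩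
  show (s' : C₀) * s * c = a * (s' * c')
  rw [mul_assoc, hs']
  ring

end

end Groth.Agent.Helper2.IntFF
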