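import Mathlib

set_option autoImplicit false
set_option linter.style.haveILetI false
set_option linter.unusedSectionVars false
set_option linter.unusedVariables false

universe u

/-! Localizations of a subring `R` of a von Neumann regular ring `L`, integrally closed in `L`
and with `L = R[units⁻¹]`, at primes are normal domains. -/

namespace Groth.Agent.Helper2.NrmLoc

open Polynomial

section

variable {R L : Type u} [CommRing R] [CommRing L] [Algebra R L]

/-- support idempotents -/
theorem exists_idem (hinj : Function.Injective (algebraMap R L))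
    (hvnr : ∀ x : L, ∃ r : L, x = x * x * r)
    (hic : ∀ x : L, IsIntegral R x → ∃ y : R, algebraMap R L y = x) (x : R) :
    ∃ e : R, e * e = e ∧ x * e = x ∧ ∃ r : L, algebraMap R L e = algebraMap R L x * r := by
  obtain ⟨r, hr⟩ := hvnr (algebraMap R L x)
  set x' := algebraMap R L x with hx'
  have hee : (x' * r) * (x' * r) = x' * r := by
    calc (x' * r) * (x' * r) = (x' * x' * r) * r := by ring
      _ = x' * r := by rw [← hr]
  have hint : IsIntegral R (x' * r) := by
    refine ⟨X ^ 2 - X, ?_, ?_⟩
    · exact monic_X_pow_sub (lt_of_le_of_lt degree_X_le (by exact_mod_cast (by norm_num : (1:ℕ) < 2)))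
    · simp only [eval₂_sub, eval₂_pow, eval₂_X]
      rw [pow_two, hee, sub_self]
  obtain ⟨e, he⟩ := hic _ hint
  refine ⟨e, hinj ?_, hinj ?_, r, he⟩
  · rw [map_mul, he, hee]
  · rw [map_mul, he, ← hx']
    calc x' * (x' * r) = x' * x' * r := by ring
      _ = x' := hr.symm

variable (n : Ideal R) [n.IsPrime]

theorem isDomain_atPrime (hinj : Function.Injective (algebraMap R L))
    (hvnr : ∀ x : L, ∃ r : L, x = x * x * r)
    (hic : ∀ x : L, IsIntegral R x → ∃ y : R, algebraMap R L y = x) :
    IsDomain (Localization.AtPrime n) := by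
  haveI : NoZeroDivisors (Localization.AtPrime n) := by
    refine ⟨fun {z₁ z₂} h => ?_⟩
    obtain ⟨x₁, s₁, rfl⟩ := IsLocalization.exists_mk'_eq n.primeCompl z₁
    obtain ⟨x₂, s₂, rfl⟩ := IsLocalization.exists_mk'_eq n.primeCompl z₂
    rw [← IsLocalization.mk'_mul, IsLocalization.mk'_eq_zero_iff] at h
    obtain ⟨s, hs⟩ := h
    obtain ⟨e₁, he₁, hx₁, r₁, hr₁⟩ := exists_idem hinj hvnr hic x₁
    obtain ⟨e₂, he₂, hx₂, r₂, hr₂⟩ := exists_idem hinj hvnr hic x₂
    have h1 : (s : R) * (e₁ * e₂) = 0 := by
      apply hinj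
      rw [map_mul, map_mul, hr₁, hr₂, map_zero]
      calc algebraMap R L s * (algebraMap R L x₁ * r₁ * (algebraMap R L x₂ * r₂))
          = algebraMap R L ((s : R) * (x₁ * x₂)) * (r₁ * r₂) := by rw [map_mul, map_mul]; ring
        _ = 0 := by rw [hs, map_zero, zero_mul]
    have h2 : e₁ * e₂ ∈ n := by
      have : (s : R) * (e₁ * e₂) ∈ n := h1 ▸ n.zero_mem
      exact (‹n.IsPrime›.mem_or_mem this).resolve_left s.2
    have key : ∀ (x e : R) (t : n.primeCompl), e * e = e → x * e = x → e ∈ n →
        IsLocalization.mk' (Localization.AtPrime n) x t = 0 := by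
      intro x e t hee hxe hen
      rw [IsLocalization.mk'_eq_zero_iff]
      refine ⟨⟨1 - e, ?_⟩, ?_⟩
      · intro h
        exact ‹n.IsPrime›.ne_top ((Ideal.eq_top_iff_one n).2 (by
          have := n.add_mem h hen
          rwa [sub_add_cancel] at this))
      · show (1 - e) * x = 0
        rw [sub_mul, one_mul, mul_comm e x, hxe, sub_self]
    rcases ‹n.IsPrime›.mem_or_mem h2 with h | h
    · exact Or.inl (key x₁ e₁ s₁ he₁ hx₁ h)
    · exact Or.inr (key x₂ e₂ s₂ he₂ hx₂ h)
  exact NoZeroDivisors.to_isDomain _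

end

end Groth.Agent.Helper2.NrmLoc
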