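import Mathlib
import Groth.Agent.Helper2.NrmLoc1

set_option autoImplicit false
set_option linter.style.haveILetI false
set_option linter.unusedSectionVars false
set_option linter.unusedVariables false

universe u

/-! Localizations at primes are integrally closed. -/

namespace Groth.Agent.Helper2.NrmLoc

open Polynomial

theorem idem_eval₂ {S T : Type*} [CommRing S] [CommRing T] (f : S →+* T) (e l : T)
    (he : e * e = e) (p : S[X]) : e * p.eval₂ f (e * l) = e * p.eval₂ f l := by
  induction p using Polynomial.induction_on' with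
  | add p q hp hq => simp only [eval₂_add, mul_add, hp, hq]
  | monomial k c =>
    simp only [eval₂_monomial]
    rw [mul_pow]
    have h1 : e * e ^ k = e := by
      induction k with
      | zero => simp
      | succ k ih => rw [pow_succ, ← mul_assoc, ih, he]
    calc e * (f c * (e ^ k * l ^ k)) = (e * e ^ k) * (f c * l ^ k) := by ring
      _ = e * (f c * l ^ k) := by rw [h1]

section

variable {R L : Type u} [CommRing R] [CommRing L] [Algebra R L]
variable (n : Ideal R) [n.IsPrime]

set_option maxHeartbeats 1600000 in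
theorem isIntegrallyClosed_atPrime (hinj : Function.Injective (algebraMap R L))
    (hvnr : ∀ x : L, ∃ r : L, x = x * x * r)
    (hic : ∀ x : L, IsIntegral R x → ∃ y : R, algebraMap R L y = x)
    (hfrac : ∀ l : L, ∃ a b : R, IsUnit (algebraMap R L a) ∧
      algebraMap R L a * l = algebraMap R L b) :
    haveI := isDomain_atPrime n hinj hvnr hic
    IsIntegrallyClosed (Localization.AtPrime n) := by
  haveI := isDomain_atPrime n hinj hvnr hic
  set Rn := Localization.AtPrime n with hRn
  set F := FractionRing Rn with hF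
  rw [isIntegrallyClosed_iff F]
  intro z hz
  let φ' : Rn →+* F := algebraMap Rn F
  let φ : R →+* F := φ'.comp (algebraMap R Rn)
  have hφ'inj : Function.Injective φ' := IsFractionRing.injective Rn F
  have hφ0 : ∀ c : R, φ c = 0 → ∃ m : n.primeCompl, (m : R) * c = 0 := by
    intro c hc
    have : algebraMap R Rn c = 0 := hφ'inj (by rw [map_zero]; exact hc)
    exact (IsLocalization.map_eq_zero_iff n.primeCompl Rn c).1 this
  have hφe : ∀ e : R, e * e = e → e ∉ n → φ e = 1 := by
    intro e hee hen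
    have h1 : φ e * (φ e - 1) = 0 := by rw [mul_sub, mul_one, ← map_mul, hee, sub_self]
    rcases mul_eq_zero.1 h1 with h | h
    · obtain ⟨m, hm⟩ := hφ0 e h
      exfalso
      have : (m : R) * e ∈ n := hm ▸ n.zero_mem
      rcases ‹n.IsPrime›.mem_or_mem this with h' | h'
      · exact m.2 h'
      · exact hen h'
    · exact sub_eq_zero.1 h
  have hone_sub : ∀ e : R, e ∈ n → (1 - e) ∉ n := by
    intro e he h
    exact ‹n.IsPrime›.ne_top ((Ideal.eq_top_iff_one n).2 (by
      have := n.add_mem h he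
      rwa [sub_add_cancel] at this))
  have hφx : ∀ x e : R, e * e = e → x * e = x → e ∈ n → φ x = 0 := by
    intro x e hee hxe hen
    have h0 : (1 - e) * (1 - e) = 1 - e := by
      have : (1 - e) * (1 - e) = 1 - 2 * e + e * e := by ring
      rw [this, hee]; ring
    have h1 : φ (1 - e) = 1 := hφe (1 - e) h0 (hone_sub e hen)
    have h2 : φ e = 0 := by
      rw [map_sub, map_one] at h1
      linear_combination (-1 : F) * h1
    rw [← hxe, map_mul, h2, mul_zero]
  have hφs : ∀ s : n.primeCompl, φ s ≠ 0 := by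
    intro s hs
    obtain ⟨m, hm⟩ := hφ0 s hs
    have : (m : R) * s ∈ n := hm ▸ n.zero_mem
    rcases ‹n.IsPrime›.mem_or_mem this with h' | h'
    · exact m.2 h'
    · exact s.2 h'
  have hmk : ∀ (x : R) (s : n.primeCompl), φ' (IsLocalization.mk' Rn x s) * φ s = φ x := by
    intro x s
    show φ' _ * φ' (algebraMap R Rn s) = φ' (algebraMap R Rn x)
    rw [← map_mul, IsLocalization.mk'_spec]
  obtain ⟨x, y, hy, rfl⟩ := IsFractionRing.div_surjective (A := Rn) z
  obtain ⟨u, s, rfl⟩ := IsLocalization.exists_mk'_eq n.primeCompl x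
  obtain ⟨v, s', rfl⟩ := IsLocalization.exists_mk'_eq n.primeCompl y
  have hy0 : φ' (IsLocalization.mk' Rn v s') ≠ 0 := by
    intro h
    have h1 : IsLocalization.mk' Rn v s' = 0 := hφ'inj (by rw [map_zero]; exact h)
    exact nonZeroDivisors.ne_zero hy h1
  have hφv : φ v ≠ 0 := by
    rw [← hmk v s']
    exact mul_ne_zero hy0 (hφs s')
  obtain ⟨e, hee, hve, r, hr⟩ := exists_idem hinj hvnr hic v
  have hen : e ∉ n := fun h => hφv (hφx v e hee hve h)
  have hφe1 : φ e = 1 := hφe e hee hen
  obtain ⟨a, b, hau, hab⟩ := hfrac (algebraMap R L u * r)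
  have hbv : b * v = a * u * e := by
    apply hinj
    rw [map_mul, ← hab, map_mul, map_mul, hr]
    ring
  have hφbv : φ b * φ v = φ a * φ u := by
    rw [← map_mul, hbv, map_mul, map_mul, hφe1, mul_one]
  have hφa : φ a ≠ 0 := by
    intro h
    obtain ⟨m, hm⟩ := hφ0 a h
    have h1 : algebraMap R L m * algebraMap R L a = 0 := by rw [← map_mul, hm, map_zero]
    have h2 : algebraMap R L (m : R) = 0 := hau.mul_left_eq_zero.1 h1
    have h3 : (m : R) = 0 := hinj (by rw [h2, map_zero])
    exact m.2 (h3 ▸ n.zero_mem)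
  -- z₁ = z * φ s
  set z := φ' (IsLocalization.mk' Rn u s) / φ' (IsLocalization.mk' Rn v s') with hzdef
  have hz1 : z * φ s = φ (b * s') / φ a := by
    rw [hzdef, eq_div_iff hφa, map_mul]
    have e1 := hmk u s
    have e2 := hmk v s'
    rw [div_mul_eq_mul_div, div_mul_eq_mul_div, div_eq_iff hy0]
    rw [mul_assoc (φ b), mul_comm (φ s'), e2, hφbv, ← e1]
    ring
  have hz1int : IsIntegral Rn (z * φ s) := hz.mul (by
    show IsIntegral Rn (φ' (algebraMap R Rn s))
    exact isIntegral_algebraMap)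
  obtain ⟨σ, hσ⟩ := IsIntegral.exists_multiple_integral_of_isLocalization n.primeCompl
    (Rₘ := Rn) (z * φ s) hz1int
  obtain ⟨p, hp, hpz⟩ := hσ
  have halgF : algebraMap R F = φ := IsScalarTower.algebraMap_eq R Rn F
  have hσz : σ • (z * φ s) = φ σ * (z * φ s) := by
    rw [Submonoid.smul_def, Algebra.smul_def, halgF]
  rw [halgF, hσz] at hpz
  obtain ⟨ainv, hainv⟩ := hau.exists_right_inv
  set l₁ : L := algebraMap R L (σ * b * s') * ainv with hl₁
  have hal₁ : algebraMap R L a * l₁ = algebraMap R L (σ * b * s') := by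
    rw [hl₁, mul_comm (algebraMap R L (σ * b * s')), ← mul_assoc, hainv, one_mul]
  set c₃ : R := (p.scaleRoots a).eval ((σ : R) * b * s') with hc₃
  have hφc₃ : φ c₃ = 0 := by
    rw [hc₃, ← Polynomial.eval₂_at_apply]
    have h1 : φ ((σ : R) * b * s') = φ a * (φ σ * (z * φ s)) := by
      rw [hz1, mul_left_comm, mul_comm (φ a), div_mul_cancel₀ _ hφa, ← map_mul, mul_assoc]
    rw [h1, scaleRoots_eval₂_mul, hpz, mul_zero]
  obtain ⟨m, hm⟩ := hφ0 c₃ hφc₃
  set P : L := p.eval₂ (algebraMap R L) l₁ with hP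
  have hmP : algebraMap R L m * P = 0 := by
    have h1 : algebraMap R L c₃ = algebraMap R L a ^ p.natDegree * P := by
      rw [hc₃, ← Polynomial.eval₂_at_apply, ← hal₁, scaleRoots_eval₂_mul]
    have h2 : algebraMap R L m * (algebraMap R L a ^ p.natDegree * P) = 0 := by
      rw [← h1, ← map_mul, hm, map_zero]
    have h3 : IsUnit (algebraMap R L a ^ p.natDegree) := hau.pow _
    rw [mul_left_comm] at h2
    exact h3.mul_right_eq_zero.1 h2
  obtain ⟨e', he'e', hme', r', hr'⟩ := exists_idem hinj hvnr hic (m : R)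
  have he'n : e' ∉ n := by
    intro h
    have h1 : (m : R) * (1 - e') = 0 := by rw [mul_sub, mul_one, hme', sub_self]
    have h2 : (m : R) * (1 - e') ∈ n := h1 ▸ n.zero_mem
    rcases ‹n.IsPrime›.mem_or_mem h2 with h' | h'
    · exact m.2 h'
    · exact hone_sub e' h h'
  have he'P : algebraMap R L e' * P = 0 := by
    rw [hr', mul_right_comm, hmP, zero_mul]
  set y₀ : L := algebraMap R L e' * l₁ with hy₀
  have hy₀int : IsIntegral R y₀ := by
    refine ⟨X * p, monic_X.mul hp, ?_⟩
    rw [eval₂_mul, eval₂_X]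
    have hE : algebraMap R L e' * algebraMap R L e' = algebraMap R L e' := by
      rw [← map_mul, he'e']
    have h1 := idem_eval₂ (algebraMap R L) (algebraMap R L e') l₁ hE p
    calc y₀ * p.eval₂ (algebraMap R L) y₀
        = l₁ * (algebraMap R L e' * p.eval₂ (algebraMap R L) (algebraMap R L e' * l₁)) := by
          rw [hy₀]; ring
      _ = 0 := by rw [h1, ← hP, he'P, mul_zero]
  obtain ⟨y₁, hy₁⟩ := hic y₀ hy₀int
  have hay₁ : a * y₁ = e' * ((σ : R) * b * s') := by
    apply hinj
    rw [map_mul, hy₁, hy₀, map_mul, ← hal₁]; ring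
  have hφy₁ : φ a * φ y₁ = φ ((σ : R) * b * s') := by
    rw [← map_mul, hay₁, map_mul, hφe e' he'e' he'n, one_mul]
  refine ⟨IsLocalization.mk' Rn y₁ (σ * s), ?_⟩
  have h1 := hmk y₁ (σ * s)
  have hσs : φ ((σ * s : n.primeCompl) : R) ≠ 0 := hφs (σ * s)
  show φ' (IsLocalization.mk' Rn y₁ (σ * s)) = z
  apply mul_right_cancel₀ hσs
  rw [h1]
  have h2 : φ y₁ = φ ((σ : R) * b * s') / φ a := by
    rw [eq_div_iff hφa, mul_comm]; exact hφy₁
  rw [h2, Submonoid.coe_mul, map_mul φ (σ : R) (s : R), mul_comm (φ σ), ← mul_assoc, hz1,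
    map_mul, map_mul, map_mul]
  ring

end

end Groth.Agent.Helper2.NrmLoc
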