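import Mathlib
import Groth.Prelude
import Groth.Agent.Helper2.EssFT4
import Groth.Agent.Helper2.NrmLoc2
import Groth.Agent.Helper2.IntFF1

set_option autoImplicit false
set_option linter.style.haveILetI false
set_option linter.unusedSectionVars false
set_option linter.unusedVariables false

universe u

/-! `L ∩ B` is a localization of `C₀`. -/

namespace Groth.Agent.Helper2.EssFT

open IsLocalRing TensorProduct Groth.Agent.Helper2.TotFrac

section

variable (A : Type u) [CommRing A] [IsLocalRing A] [IsReduced A]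
  (E : Type u) [CommRing E] [IsLocalRing E] [Algebra A E]
  (D : Type u) [CommRing D] [Algebra A D] [Algebra D E] [IsScalarTower A D E]
  (E₀ : Type u) [CommRing E₀] [Algebra A E₀] (q₀ : Ideal E₀) [q₀.IsPrime]
  [Algebra E₀ E] [IsScalarTower A E₀ E] [IsLocalization.AtPrime E q₀]

/-- the map `E₀ → B` -/
noncomputable def psiB : E₀ →ₐ[A] Bsub A E D :=
  ((IsScalarTower.toAlgHom A E (FractionRing E)).comp (IsScalarTower.toAlgHom A E₀ E)).codRestrict
    (Bsub A E D) (fun x => algebraMap_mem_Bsub A E D _)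

theorem coe_psiB (x : E₀) :
    ((psiB A E D E₀ x : Bsub A E D) : FractionRing E) =
      algebraMap E (FractionRing E) (algebraMap E₀ E x) := rfl

include q₀ in
theorem isUnit_psiB (v : q₀.primeCompl) : IsUnit (psiB A E D E₀ (v : E₀)) := by
  obtain ⟨u, hu⟩ := IsLocalization.map_units E v
  refine IsUnit.of_mul_eq_one (⟨algebraMap E (FractionRing E) ((u⁻¹ : Eˣ) : E),
    algebraMap_mem_Bsub A E D _⟩ : Bsub A E D) ?_
  apply Subtype.ext
  show algebraMap E (FractionRing E) (algebraMap E₀ E v) *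
    algebraMap E (FractionRing E) ((u⁻¹ : Eˣ) : E) = 1
  rw [← map_mul, ← hu, Units.mul_inv, map_one]

theorem hgen (b : Bsub A E D) : ∃ (g : C0 A E D ⊗[A] E₀) (v : q₀.primeCompl),
    b * psiB A E D E₀ (v : E₀) =
      IntFF.muB (C0 A E D) (Bsub A E D) (C0_le_Bsub A E D) E₀ (psiB A E D E₀) g := by
  obtain ⟨b, hb⟩ := b
  obtain ⟨g', rfl⟩ := (mem_Bsub A E D b).1 hb
  have hmuB1 : ∀ v : E₀, IntFF.muB (C0 A E D) (Bsub A E D) (C0_le_Bsub A E D) E₀ (psiB A E D E₀)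
      ((1 : C0 A E D) ⊗ₜ v) = psiB A E D E₀ v := by
    intro v
    simp [IntFF.muB]
  induction g' using TensorProduct.induction_on with
  | zero =>
    refine ⟨0, 1, ?_⟩
    apply Subtype.ext
    simp
  | tmul e c =>
    obtain ⟨x, v, rfl⟩ := IsLocalization.exists_mk'_eq q₀.primeCompl e
    refine ⟨c ⊗ₜ x, v, ?_⟩
    apply Subtype.ext
    simp only [IntFF.muB, Algebra.TensorProduct.productMap_apply_tmul, MulMemClass.coe_mul,
      Subalgebra.coe_inclusion, coe_psiB]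
    rw [muE_tmul, ← IsLocalization.mk'_spec E x v, map_mul]
    ring
  | add g₁ g₂ h₁ h₂ =>
    obtain ⟨γ₁, v₁, h₁⟩ := h₁ (by rw [mem_Bsub]; exact ⟨g₁, rfl⟩)
    obtain ⟨γ₂, v₂, h₂⟩ := h₂ (by rw [mem_Bsub]; exact ⟨g₂, rfl⟩)
    refine ⟨γ₁ * ((1 : C0 A E D) ⊗ₜ (v₂ : E₀)) + γ₂ * ((1 : C0 A E D) ⊗ₜ (v₁ : E₀)), v₁ * v₂, ?_⟩
    have e₁ := congrArg Subtype.val h₁
    have e₂ := congrArg Subtype.val h₂
    have hR : IntFF.muB (C0 A E D) (Bsub A E D) (C0_le_Bsub A E D) E₀ (psiB A E D E₀)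
        (γ₁ * ((1 : C0 A E D) ⊗ₜ (v₂ : E₀)) + γ₂ * ((1 : C0 A E D) ⊗ₜ (v₁ : E₀))) =
        IntFF.muB (C0 A E D) (Bsub A E D) (C0_le_Bsub A E D) E₀ (psiB A E D E₀) γ₁ *
          psiB A E D E₀ (v₂ : E₀) +
        IntFF.muB (C0 A E D) (Bsub A E D) (C0_le_Bsub A E D) E₀ (psiB A E D E₀) γ₂ *
          psiB A E D E₀ (v₁ : E₀) := by
      rw [map_add, map_mul, map_mul, hmuB1, hmuB1]
    rw [hR]
    apply Subtype.ext
    simp only [MulMemClass.coe_mul, AddMemClass.coe_add, Submonoid.coe_mul, map_mul] at e₁ e₂ ⊢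
    rw [← e₁, ← e₂, map_add]
    ring

end

end Groth.Agent.Helper2.EssFT
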