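import Mathlib
import Groth.Prelude
import Groth.Agent.Helper2.EssFT5

set_option autoImplicit false
set_option linter.style.haveILetI false
set_option linter.unusedSectionVars false
set_option linter.unusedVariables false

universe u

/-! `L ∩ B` is a localization of `C₀` (the key step). -/

namespace Groth.Agent.Helper2.EssFT

open IsLocalRing TensorProduct Groth.Agent.Helper2.TotFrac

section

variable (A : Type u) [CommRing A] [IsLocalRing A] [IsReduced A]
  (E : Type u) [CommRing E] [IsLocalRing E] [Algebra A E]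
  (D : Type u) [CommRing D] [Algebra A D] [Algebra D E] [IsScalarTower A D E]
  (E₀ : Type u) [CommRing E₀] [Algebra A E₀] [Algebra.Etale A E₀] (q₀ : Ideal E₀) [q₀.IsPrime]
  [Algebra E₀ E] [IsScalarTower A E₀ E] [IsLocalization.AtPrime E q₀]
  [Module.Flat A E] [Algebra.QuasiFinite A E]

set_option maxHeartbeats 1600000 in
include q₀ in
theorem exists_unit_mul_mem_C0 (hmin : (minimalPrimes A).Finite) [IsReduced E]
    [Module.Finite A (C0 A E D)]
    (x : FractionRing E) (hxL : x ∈ Lsub A E D) (hxB : x ∈ Bsub A E D) :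
    ∃ t : C0 A E D, IsUnit (Subalgebra.inclusion (C0_le_Bsub A E D) t) ∧
      (t : FractionRing E) * x ∈ C0 A E D := by
  classical
  set C := C0 A E D with hC
  set L := Lsub A E D with hLdef
  set B := Bsub A E D with hB
  have hCB : C ≤ B := C0_le_Bsub A E D
  have hCL : C ≤ L := C0_le_Lsub A E D
  haveI : IsReduced (FractionRing E) :=
    inferInstanceAs (IsReduced (Localization (nonZeroDivisors E)))
  letI : Algebra C L := (Subalgebra.inclusion hCL).toRingHom.toAlgebra
  haveI : IsScalarTower A C L := IsScalarTower.of_algebraMap_eq (fun _ => rfl)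
  have halgCL : ∀ c : C, ((algebraMap C L c : L) : FractionRing E) = (c : FractionRing E) :=
    fun _ => rfl
  have hinjCL : Function.Injective (algebraMap C L) := Subalgebra.inclusion_injective hCL
  haveI : IsArtinianRing L := isArtinianRing_Lsub A E D hmin
  haveI : IsReduced L := isReduced_of_injective L.val Subtype.val_injective
  have hvnr : ∀ y : L, ∃ r : L, y = y * y * r := vnr_of_isArtinianRing L
  haveI : Algebra.IsIntegral A C := ⟨fun c => by
    have h1 : IsIntegral A (c : FractionRing E) := ((mem_C0 A E D _).1 c.2).2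
    exact (isIntegral_algHom_iff C.val Subtype.val_injective).1 h1⟩
  have hic : ∀ y : L, IsIntegral C y → ∃ c : C, algebraMap C L c = y := by
    intro y hy
    have h1 : IsIntegral A y := isIntegral_trans y hy
    have h2 : IsIntegral A (y : FractionRing E) := h1.map L.val
    exact ⟨⟨y, (mem_C0 A E D _).2 ⟨y.2, h2⟩⟩, Subtype.ext rfl⟩
  have hfrac : ∀ l : L, ∃ a b : C, IsUnit (algebraMap C L a) ∧
      algebraMap C L a * l = algebraMap C L b := by
    intro l
    obtain ⟨a₀, ha₀, hmem⟩ := exists_smul_mem_C0 A E D hmin l l.2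
    obtain ⟨y, hy, hay⟩ := hL_Lsub A E D a₀ ha₀
    refine ⟨algebraMap A C a₀, ⟨_, hmem⟩, ?_, ?_⟩
    · refine IsUnit.of_mul_eq_one (⟨y, hy⟩ : L) ?_
      apply Subtype.ext
      exact hay
    · apply Subtype.ext
      rfl
  have hfin := finite_max_Bsub A E D
  -- the conclusion for each maximal ideal
  obtain ⟨a₀, ha₀, hc⟩ := exists_smul_mem_C0 A E D hmin x hxL
  set c : C := ⟨_, hc⟩ with hcdef
  set a : C := algebraMap A C a₀ with hadef
  have hau : IsUnit (algebraMap A (FractionRing E) a₀) :=
    isUnit_algebraMap_fractionRing A E ⟨a₀, ha₀⟩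
  have hlocal : ∀ M : Ideal B, M.IsMaximal →
      ∃ s : C, s ∉ IntFF.nn C B hCB M ∧ ∃ c' : C, s * c = a * c' := by
    intro M hM
    haveI := hM
    haveI : M.IsPrime := hM.isPrime
    obtain ⟨𝔓, h𝔓min, h𝔓M⟩ := Ideal.exists_minimalPrimes_le (bot_le : (⊥ : Ideal B) ≤ M)
    haveI : 𝔓.IsPrime := h𝔓min.1.1
    have hdom := NrmLoc.isDomain_atPrime (IntFF.nn C B hCB M) hinjCL hvnr hic
    have hicn := NrmLoc.isIntegrallyClosed_atPrime (IntFF.nn C B hCB M) hinjCL hvnr hic hfrac
    refine IntFF.exists_mul_eq_of_dvd C B hCB E₀ (psiB A E D E₀) M 𝔓 h𝔓M hdom hicn ?_ ?_ a c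
      ⟨x, hxB⟩ ?_
    · -- hker
      intro c₁ hc₁
      obtain ⟨e, hee, hce, r, hr⟩ := NrmLoc.exists_idem hinjCL hvnr hic c₁
      obtain ⟨a₁, ha₁, hρ⟩ := exists_smul_mem_C0 A E D hmin r r.2
      have h1 : algebraMap A B a₁ * Subalgebra.inclusion hCB e =
          Subalgebra.inclusion hCB c₁ * Subalgebra.inclusion hCB ⟨_, hρ⟩ := by
        apply Subtype.ext
        have h2 := congrArg (fun z : L => (z : FractionRing E)) hr
        simp only [halgCL, MulMemClass.coe_mul] at h2
        show algebraMap A (FractionRing E) a₁ * (e : FractionRing E) =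
          (c₁ : FractionRing E) * (algebraMap A (FractionRing E) a₁ * (r : FractionRing E))
        rw [h2]
        ring
      have h2 : algebraMap A B a₁ * Subalgebra.inclusion hCB e ∈ 𝔓 := by
        rw [h1]
        exact Ideal.mul_mem_right _ _ hc₁
      have h3 : algebraMap A B a₁ ∉ 𝔓 := by
        have hnzd : algebraMap A B a₁ ∈ nonZeroDivisors B := by
          rw [mem_nonZeroDivisors_iff_right]
          intro z hz
          have h4 : (z : FractionRing E) * algebraMap A (FractionRing E) a₁ = 0 :=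
            congrArg Subtype.val hz
          have h5 : IsUnit (algebraMap A (FractionRing E) a₁) :=
            isUnit_algebraMap_fractionRing A E ⟨a₁, ha₁⟩
          exact Subtype.ext (h5.mul_left_eq_zero.1 h4)
        intro hmem
        exact Set.disjoint_left.1 (Ideal.disjoint_nonZeroDivisors_of_mem_minimalPrimes h𝔓min)
          hmem hnzd
      have h4 : Subalgebra.inclusion hCB e ∈ 𝔓 :=
        (Ideal.IsPrime.mem_or_mem inferInstance h2).resolve_left h3
      have h5 : e ∈ IntFF.nn C B hCB M := h𝔓M h4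
      refine ⟨1 - e, ?_, ?_⟩
      · intro h6
        have : (1 : C) ∈ IntFF.nn C B hCB M := by
          have := (IntFF.nn C B hCB M).add_mem h6 h5
          rwa [sub_add_cancel] at this
        exact (inferInstance : (IntFF.nn C B hCB M).IsPrime).ne_top
          ((Ideal.eq_top_iff_one _).2 this)
      · rw [sub_mul, one_mul, mul_comm e c₁, hce, sub_self]
    · -- hgen
      intro b
      obtain ⟨g, v, hgv⟩ := hgen A E D E₀ q₀ b
      exact ⟨g, v, isUnit_psiB A E D E₀ q₀ v, hgv⟩
    · apply Subtype.ext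
      show algebraMap A (FractionRing E) a₀ * x = algebraMap A (FractionRing E) a₀ * x
      rfl
  -- prime avoidance
  let I : Ideal C :=
    { carrier := {y | ∃ c' : C, y * c = a * c'}
      add_mem' := by
        rintro y z ⟨c₁, h₁⟩ ⟨c₂, h₂⟩
        exact ⟨c₁ + c₂, by rw [add_mul, h₁, h₂, mul_add]⟩
      zero_mem' := ⟨0, by rw [zero_mul, mul_zero]⟩
      smul_mem' := by
        rintro r y ⟨c₁, h₁⟩
        exact ⟨r * c₁, by rw [smul_eq_mul, mul_assoc, h₁]; ring⟩ }
  have hIn : ¬ ((I : Set C) ⊆ ⋃ M ∈ (hfin.toFinset : Set (Ideal B)), (IntFF.nn C B hCB M : Set C)) := by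
    intro hsub
    have hp : ∀ M ∈ hfin.toFinset, M ≠ ⊥ → M ≠ ⊥ → (IntFF.nn C B hCB M).IsPrime := by
      intro M hM _ _
      have hM' : M.IsMaximal := by simpa using hM
      haveI : M.IsPrime := hM'.isPrime
      infer_instance
    obtain ⟨M, hM, hle⟩ := (Ideal.subset_union_prime (s := hfin.toFinset)
      (f := fun M => IntFF.nn C B hCB M) ⊥ ⊥ hp).1 hsub
    have hM' : M.IsMaximal := by simpa using hM
    obtain ⟨s, hs, c', hsc⟩ := hlocal M hM'
    exact hs (hle ⟨c', hsc⟩)
  rw [Set.not_subset] at hIn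
  obtain ⟨t, ⟨c', htc⟩, ht⟩ := hIn
  refine ⟨t, ?_, ?_⟩
  · by_contra hnu
    obtain ⟨M, hM, htM⟩ := exists_max_ideal_of_mem_nonunits hnu
    apply ht
    simp only [Set.mem_iUnion, Finset.mem_coe, Set.Finite.mem_toFinset, Set.mem_setOf_eq,
      SetLike.mem_coe, exists_prop]
    exact ⟨M, hM, htM⟩
  · have h1 : (t : FractionRing E) * (algebraMap A (FractionRing E) a₀ * x) =
        algebraMap A (FractionRing E) a₀ * (c' : FractionRing E) := by
      have := congrArg (fun z : C => (z : FractionRing E)) htc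
      simpa [hcdef, hadef] using this
    have h2 : (t : FractionRing E) * x = (c' : FractionRing E) := by
      apply hau.mul_left_cancel
      rw [← h1]; ring
    rw [h2]
    exact c'.2

end

end Groth.Agent.Helper2.EssFT
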