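import Mathlib
import Groth.Prelude
import Groth.Agent.Helper2.EssFT6
import Groth.Agent.Helper2.ATate2

set_option autoImplicit false
set_option linter.style.haveILetI false
set_option linter.unusedSectionVars false
set_option linter.unusedVariables false

universe u

/-! A noetherian local ring `D` between a Nagata reduced local ring `A` and an essentially étale
local `A`-algebra `E` faithfully flat over `D` is essentially of finite type over `A`. -/

namespace Groth.Agent.Helper2.EssFT

open IsLocalRing TensorProduct Groth.Agent.Helper2.TotFrac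

section

variable (A : Type u) [CommRing A] [IsLocalRing A] [IsReduced A]
  (E : Type u) [CommRing E] [IsLocalRing E] [Algebra A E]
  (D : Type u) [CommRing D] [Algebra A D] [Algebra D E] [IsScalarTower A D E]
  (E₀ : Type u) [CommRing E₀] [Algebra A E₀] [Algebra.Etale A E₀] (q₀ : Ideal E₀) [q₀.IsPrime]
  [Algebra E₀ E] [IsScalarTower A E₀ E] [IsLocalization.AtPrime E q₀]

/-- `L ∩ E = D` when `E` is faithfully flat over `D`. -/
theorem exists_of_mem_Lsub [Module.Flat A E] [Module.FaithfullyFlat D E] (e : E)
    (he : algebraMap E (FractionRing E) e ∈ Lsub A E D) : ∃ d : D, algebraMap D E d = e := by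
  obtain ⟨a, ha, d, hd⟩ := he
  have hinjK : Function.Injective (algebraMap E (FractionRing E)) :=
    IsLocalization.injective (FractionRing E) le_rfl
  have h1 : algebraMap A E a * e = algebraMap D E d := by
    apply hinjK
    rw [map_mul, ← IsScalarTower.algebraMap_apply A E (FractionRing E), hd]
  have h2 : d ∈ ((Ideal.span {algebraMap A D a}).map (algebraMap D E)).comap (algebraMap D E) := by
    rw [Ideal.mem_comap, Ideal.map_span, Set.image_singleton, Ideal.mem_span_singleton',
      ← IsScalarTower.algebraMap_apply A D E]
    exact ⟨e, by rw [mul_comm]; exact h1⟩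
  rw [Ideal.comap_map_eq_self_of_faithfullyFlat, Ideal.mem_span_singleton'] at h2
  obtain ⟨d', hd'⟩ := h2
  refine ⟨d', ?_⟩
  have hnzd : algebraMap A E a ∈ nonZeroDivisors E := map_le_nonZeroDivisors A E ⟨a, ha, rfl⟩
  have h3 : algebraMap A E a * (algebraMap D E d' - e) = 0 := by
    rw [mul_sub, h1, ← hd', map_mul, ← IsScalarTower.algebraMap_apply A D E]
    ring
  have h4 := (mem_nonZeroDivisors_iff.1 hnzd).1 _ h3
  exact sub_eq_zero.1 h4

set_option maxHeartbeats 1600000 in
include q₀ in
theorem main (hNag : CAlg.IsNagata A) [IsLocalHom (algebraMap A E)] [IsLocalRing D]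
    [IsNoetherianRing D] [Module.FaithfullyFlat D E]
    (hq₀ : q₀.comap (algebraMap A E₀) = maximalIdeal A) : Algebra.EssFiniteType A D := by
  classical
  haveI := hNag.1
  have hmin : (minimalPrimes A).Finite := minimalPrimes.finite_of_isNoetherianRing A
  haveI : Module.Flat E₀ E := IsLocalization.flat E q₀.primeCompl
  haveI : Module.Flat A E := Module.Flat.trans A E₀ E
  haveI : Algebra.QuasiFinite A E := Algebra.QuasiFinite.of_isLocalization (R := A) (S := E₀)
    q₀.primeCompl
  have hE : EGA4loc.IsEssentiallyEtale A E := ⟨E₀, inferInstance, inferInstance, q₀, inferInstance,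
    inferInstance, hq₀,
    ⟨(IsLocalization.algEquiv q₀.primeCompl E (Localization.AtPrime q₀)).restrictScalars A⟩⟩
  haveI : IsReduced E := Groth.Agent.Helper2.SemiL.isReduced_of_essEtale A E hE
  haveI : IsNoetherianRing E := Groth.Agent.Helper2.SemiL.isNoetherianRing_of_essEtale A E hE
  haveI := finite_C0 A E D hNag
  obtain ⟨a, ha, hcond⟩ := exists_conductor A E D hmin
  have hau : IsUnit (algebraMap A (FractionRing E) a) :=
    isUnit_algebraMap_fractionRing A E ⟨a, ha⟩
  let CB : Subalgebra A (FractionRing E) := Lsub A E D ⊓ Bsub A E D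
  have hinjK : Function.Injective (algebraMap E (FractionRing E)) :=
    IsLocalization.injective (FractionRing E) le_rfl
  have hinjDE : Function.Injective (algebraMap D E) :=
    FaithfulSMul.algebraMap_injective D E
  let ιK : D →+* FractionRing E := (algebraMap E (FractionRing E)).comp (algebraMap D E)
  have hιK : Function.Injective ιK := hinjK.comp hinjDE
  have hιmem : ∀ d : D, ιK d ∈ CB := fun d =>
    ⟨algebraMap_mem_Lsub A E D d, algebraMap_mem_Bsub A E D _⟩
  let ιC : D →+* CB := ιK.codRestrict CB.toSubring hιmem
  letI : Algebra D CB := ιC.toAlgebra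
  have hιC : ∀ d : D, ((algebraMap D CB d : CB) : FractionRing E) = ιK d := fun _ => rfl
  haveI : IsScalarTower A D CB := IsScalarTower.of_algebraMap_eq (fun r => by
    apply Subtype.ext
    rw [hιC]
    show algebraMap A (FractionRing E) r = algebraMap E (FractionRing E) (algebraMap D E _)
    rw [← IsScalarTower.algebraMap_apply A D E, ← IsScalarTower.algebraMap_apply A E (FractionRing E)])
  have hinjDC : Function.Injective (algebraMap D CB) := by
    intro d d' h
    apply hιK
    rw [← hιC, ← hιC, h]
  -- `CB` is a finite `D`-module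
  haveI : Module.Finite D CB := by
    let ιL : D →ₗ[D] CB := Algebra.linearMap D CB
    let φ : CB →ₗ[D] CB :=
      { toFun := fun x => algebraMap A CB a * x
        map_add' := fun x y => mul_add _ _ _
        map_smul' := fun d x => by
          simp only [RingHom.id_apply, Algebra.smul_def]
          ring }
    have hφinj : Function.Injective φ := by
      intro x y hxy
      have h1 : algebraMap A (FractionRing E) a * (x : FractionRing E) =
          algebraMap A (FractionRing E) a * (y : FractionRing E) := congrArg Subtype.val hxy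
      exact Subtype.ext (hau.mul_left_cancel h1)
    have hφrange : ∀ x : CB, φ x ∈ LinearMap.range ιL := by
      intro x
      obtain ⟨e, he⟩ := hcond x x.2.2
      have h1 : algebraMap E (FractionRing E) e ∈ Lsub A E D := by
        rw [← he]
        exact (Lsub A E D).mul_mem ((Lsub A E D).algebraMap_mem a) x.2.1
      obtain ⟨d, rfl⟩ := exists_of_mem_Lsub A E D e h1
      refine ⟨d, ?_⟩
      apply Subtype.ext
      show ιK d = algebraMap A (FractionRing E) a * (x : FractionRing E)
      rw [he]
      rfl
    haveI : IsNoetherian D (LinearMap.range ιL) :=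
      isNoetherian_of_surjective ιL.rangeRestrict
        (LinearMap.range_eq_top.2 (LinearMap.surjective_rangeRestrict ιL))
    exact Module.Finite.of_injective (φ.codRestrict (LinearMap.range ιL) hφrange)
      (fun x y h => hφinj (congrArg Subtype.val h))
  -- `CB` is essentially of finite type over `A`
  haveI : Algebra.EssFiniteType A CB := by
    rw [Algebra.essFiniteType_iff]
    obtain ⟨n, s, hs⟩ := Module.Finite.exists_fin (R := A) (M := C0 A E D)
    have hC0CB : C0 A E D ≤ CB := le_inf (C0_le_Lsub A E D) (C0_le_Bsub A E D)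
    let ι₀ : C0 A E D →ₐ[A] CB := Subalgebra.inclusion hC0CB
    refine ⟨Finset.univ.image (fun k => ι₀ (s k)), ?_⟩
    have hι₀ : ∀ c : C0 A E D, ι₀ c ∈ Algebra.adjoin A
        ((Finset.univ.image (fun k => ι₀ (s k)) : Finset CB) : Set CB) := by
      intro c
      have hc : c ∈ Submodule.span A (Set.range s) := hs ▸ Submodule.mem_top
      induction hc using Submodule.span_induction with
      | mem y hy =>
        obtain ⟨k, rfl⟩ := hy
        exact Algebra.subset_adjoin (by simp)
      | zero => rw [map_zero]; exact zero_mem _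
      | add y z _ _ hy hz => rw [map_add]; exact add_mem hy hz
      | smul r y _ hy => rw [map_smul]; exact Subalgebra.smul_mem _ hy r
    intro x
    obtain ⟨t, htu, htx⟩ := exists_unit_mul_mem_C0 A E D E₀ q₀ hmin (x : FractionRing E) x.2.1 x.2.2
    refine ⟨ι₀ t, hι₀ t, ?_, ?_⟩
    · obtain ⟨u, hu⟩ := htu
      have h1 : (t : FractionRing E) * (((u⁻¹ : (Bsub A E D)ˣ) : Bsub A E D) : FractionRing E) = 1 := by
        have h2 : (Subalgebra.inclusion (C0_le_Bsub A E D) t) * ((u⁻¹ : (Bsub A E D)ˣ) : Bsub A E D) = 1 := by
          rw [← hu]; exact u.mul_inv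
        exact congrArg Subtype.val h2
      have h3 : (((u⁻¹ : (Bsub A E D)ˣ) : Bsub A E D) : FractionRing E) ∈ Lsub A E D :=
        inv_mem_Lsub A E D hmin _ _ (C0_le_Lsub A E D t.2) h1
      refine IsUnit.of_mul_eq_one (⟨_, h3, ((u⁻¹ : (Bsub A E D)ˣ) : Bsub A E D).2⟩ : CB) ?_
      exact Subtype.ext h1
    · have h1 : x * ι₀ t = ι₀ ⟨_, htx⟩ := by
        apply Subtype.ext
        show (x : FractionRing E) * (t : FractionRing E) = (t : FractionRing E) * x
        ring
      rw [h1]
      exact hι₀ _
  exact Groth.Agent.Helper2.ATate.main A D CB hinjDC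

end

end Groth.Agent.Helper2.EssFT
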