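import Mathlib
import Groth.Prelude
import Groth.Agent.Helper2.EssFT7
import Groth.Agent.Helper3.EN1

set_option autoImplicit false
set_option linter.style.haveILetI false
set_option linter.unusedSectionVars false
set_option linter.unusedVariables false

universe u

/-! A local ring `D` between a Nagata reduced local ring `A` and an essentially étale local
`A`-algebra `E`, such that the elements of `C₀` invertible in `E[C₀]` have inverses integral over
`D`, is essentially of finite type over `A`. -/

namespace Groth.Agent.Helper2.EssFT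

open IsLocalRing TensorProduct Polynomial Groth.Agent.Helper2.TotFrac

/-- if `t⁻¹` is integral over `D` then `t⁻¹ ∈ D[t]` -/
theorem mem_adjoin_of_isIntegral_inv {D K : Type*} [CommRing D] [CommRing K] [Algebra D K]
    (t y : K) (hty : t * y = 1) (hy : IsIntegral D y) : y ∈ Algebra.adjoin D {t} := by
  obtain ⟨p, hp, hpy⟩ := hy
  letI : Invertible y := ⟨t, hty, by rw [mul_comm]; exact hty⟩
  have h1 : eval₂ (algebraMap D K) t (reverse p) = 0 :=
    (eval₂_reverse_eq_zero_iff (algebraMap D K) y p).2 hpy
  have h2 : reverse p = divX (reverse p) * X + C 1 := by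
    conv_lhs => rw [← divX_mul_X_add (reverse p)]
    rw [coeff_zero_reverse, hp.leadingCoeff]
  rw [h2, eval₂_add, eval₂_mul, eval₂_X, eval₂_C, map_one] at h1
  have h3 : y = - eval₂ (algebraMap D K) t (divX (reverse p)) := by
    have h4 : (eval₂ (algebraMap D K) t (divX (reverse p)) * t + 1) * y = 0 := by
      rw [h1, zero_mul]
    have h5 : (eval₂ (algebraMap D K) t (divX (reverse p)) * t + 1) * y =
        eval₂ (algebraMap D K) t (divX (reverse p)) * (t * y) + y := by ring
    rw [h5, hty, mul_one] at h4
    exact eq_neg_of_add_eq_zero_right h4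
  rw [h3]
  refine Subalgebra.neg_mem _ ?_
  rw [← aeval_def]
  exact aeval_mem_adjoin_singleton D t

section

variable (A : Type u) [CommRing A] [IsLocalRing A] [IsReduced A]
  (E : Type u) [CommRing E] [IsLocalRing E] [Algebra A E]
  (D : Type u) [CommRing D] [Algebra A D] [Algebra D E] [IsScalarTower A D E]
  (E₀ : Type u) [CommRing E₀] [Algebra A E₀] [Algebra.Etale A E₀] (q₀ : Ideal E₀) [q₀.IsPrime]
  [Algebra E₀ E] [IsScalarTower A E₀ E] [IsLocalization.AtPrime E q₀]

set_option maxHeartbeats 1600000 in
include q₀ in
theorem main_of_units (hNag : CAlg.IsNagata A) [IsLocalHom (algebraMap A E)] [IsLocalRing D]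
    (hinjDE : Function.Injective (algebraMap D E))
    (hq₀ : q₀.comap (algebraMap A E₀) = maximalIdeal A)
    (hunit : ∀ t ∈ C0 A E D, ∀ y ∈ Bsub A E D, t * y = 1 →
      ((algebraMap E (FractionRing E)).comp (algebraMap D E)).IsIntegralElem y) :
    Algebra.EssFiniteType A D := by
  classical
  have hunit' : ∀ t ∈ C0 A E D, ∀ y ∈ Bsub A E D, t * y = 1 → IsIntegral D y := by
    intro t ht y hy hty
    show (algebraMap D (FractionRing E)).IsIntegralElem y
    rw [IsScalarTower.algebraMap_eq D E (FractionRing E)]
    exact hunit t ht y hy hty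
  haveI := hNag.1
  have hmin : (minimalPrimes A).Finite := minimalPrimes.finite_of_isNoetherianRing A
  haveI : Module.Flat E₀ E := IsLocalization.flat E q₀.primeCompl
  haveI : Module.Flat A E := Module.Flat.trans A E₀ E
  haveI : Algebra.QuasiFinite A E := Algebra.QuasiFinite.of_isLocalization (R := A) (S := E₀)
    q₀.primeCompl
  have hE : EGA4loc.IsEssentiallyEtale A E := ⟨E₀, inferInstance, inferInstance, q₀, inferInstance,
    inferInstance, hq₀,
    ⟨(IsLocalization.algEquiv q₀.primeCompl E (Localization.AtPrime q₀)).restrictScalars A⟩⟩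
  haveI : IsReduced E := Groth.Agent.Helper2.SemiL.isReduced_of_essEtale A E hE
  haveI : IsNoetherianRing E := Groth.Agent.Helper2.SemiL.isNoetherianRing_of_essEtale A E hE
  haveI := finite_C0 A E D hNag
  have hinjK : Function.Injective (algebraMap E (FractionRing E)) :=
    IsLocalization.injective (FractionRing E) le_rfl
  haveI : IsScalarTower A D (FractionRing E) := IsScalarTower.of_algebraMap_eq (fun a => by
    rw [IsScalarTower.algebraMap_apply D E (FractionRing E),
      ← IsScalarTower.algebraMap_apply A D E, ← IsScalarTower.algebraMap_apply A E (FractionRing E)])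
  have hinjDK : Function.Injective (algebraMap D (FractionRing E)) := by
    rw [IsScalarTower.algebraMap_eq D E (FractionRing E)]
    exact hinjK.comp hinjDE
  -- the ring `R = D[C₀]`
  let muD : D ⊗[A] (C0 A E D) →ₐ[D] FractionRing E :=
    Algebra.TensorProduct.productLeftAlgHom (Algebra.ofId D (FractionRing E)) (C0 A E D).val
  have hmuD : ∀ (d : D) (c : C0 A E D),
      muD (d ⊗ₜ c) = algebraMap D (FractionRing E) d * (c : FractionRing E) := by
    intro d c
    simp [muD, Algebra.ofId_apply]
  let R : Subalgebra D (FractionRing E) := muD.range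
  haveI : Module.Finite D R := by
    haveI : Module.Finite D (D ⊗[A] (C0 A E D)) := Module.Finite.base_change A D (C0 A E D)
    exact Module.Finite.of_surjective muD.rangeRestrict.toLinearMap
      (AlgHom.rangeRestrict_surjective _)
  have hRle : ∀ g, muD g ∈ Lsub A E D ⊓ Bsub A E D := by
    intro g
    induction g using TensorProduct.induction_on with
    | zero => rw [map_zero]; exact zero_mem _
    | tmul d c =>
      rw [hmuD, IsScalarTower.algebraMap_apply D E (FractionRing E)]
      exact mul_mem ⟨algebraMap_mem_Lsub A E D d, algebraMap_mem_Bsub A E D _⟩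
        ⟨C0_le_Lsub A E D c.2, C0_le_Bsub A E D c.2⟩
    | add x y hx hy => rw [map_add]; exact add_mem hx hy
  have hC0R : ∀ c : C0 A E D, (c : FractionRing E) ∈ R := by
    intro c
    exact ⟨(1 : D) ⊗ₜ c, by
      show muD ((1 : D) ⊗ₜ c) = (c : FractionRing E)
      rw [hmuD, map_one, one_mul]⟩
  have hinjDR : Function.Injective (algebraMap D R) := by
    intro d d' h
    apply hinjDK
    exact congrArg Subtype.val h
  -- `R` is essentially of finite type over `A`
  haveI : Algebra.EssFiniteType A R := by
    rw [Algebra.essFiniteType_iff]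
    obtain ⟨n, s, hs⟩ := Module.Finite.exists_fin (R := A) (M := C0 A E D)
    let ι₀ : C0 A E D →ₐ[A] R :=
      { toFun := fun c => ⟨(c : FractionRing E), hC0R c⟩
        map_one' := rfl
        map_mul' := fun _ _ => rfl
        map_zero' := rfl
        map_add' := fun _ _ => rfl
        commutes' := fun a => by
          apply Subtype.ext
          show algebraMap A (FractionRing E) a = ((algebraMap A R a : R) : FractionRing E)
          rw [IsScalarTower.algebraMap_apply A D R]
          show _ = algebraMap D (FractionRing E) (algebraMap A D a)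
          rw [← IsScalarTower.algebraMap_apply A D (FractionRing E)] }
    refine ⟨Finset.univ.image (fun k => ι₀ (s k)), ?_⟩
    have hι₀ : ∀ c : C0 A E D, ι₀ c ∈ Algebra.adjoin A
        ((Finset.univ.image (fun k => ι₀ (s k)) : Finset R) : Set R) := by
      intro c
      have hc : c ∈ Submodule.span A (Set.range s) := hs ▸ Submodule.mem_top
      induction hc using Submodule.span_induction with
      | mem y hy =>
        obtain ⟨k, rfl⟩ := hy
        exact Algebra.subset_adjoin (by simp)
      | zero => rw [map_zero]; exact zero_mem _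
      | add y z _ _ hy hz => rw [map_add]; exact add_mem hy hz
      | smul r y _ hy => rw [map_smul]; exact Subalgebra.smul_mem _ hy r
    intro x
    obtain ⟨g, hg⟩ := x.2
    have hxLB : (x : FractionRing E) ∈ Lsub A E D ⊓ Bsub A E D := hg ▸ hRle g
    obtain ⟨t, htu, htx⟩ := exists_unit_mul_mem_C0 A E D E₀ q₀ hmin (x : FractionRing E)
      hxLB.1 hxLB.2
    refine ⟨ι₀ t, hι₀ t, ?_, ?_⟩
    · obtain ⟨u, hu⟩ := htu
      have h1 : (t : FractionRing E) * (((u⁻¹ : (Bsub A E D)ˣ) : Bsub A E D) : FractionRing E) = 1 := by
        have h2 : (Subalgebra.inclusion (C0_le_Bsub A E D) t) * ((u⁻¹ : (Bsub A E D)ˣ) : Bsub A E D) = 1 := by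
          rw [← hu]; exact u.mul_inv
        exact congrArg Subtype.val h2
      have h3 : IsIntegral D ((((u⁻¹ : (Bsub A E D)ˣ) : Bsub A E D) : FractionRing E)) :=
        hunit' _ t.2 _ ((u⁻¹ : (Bsub A E D)ˣ) : Bsub A E D).2 h1
      have h4 : ((((u⁻¹ : (Bsub A E D)ˣ) : Bsub A E D) : FractionRing E)) ∈ R := by
        have h5 := mem_adjoin_of_isIntegral_inv (D := D) _ _ h1 h3
        have h6 : Algebra.adjoin D {(t : FractionRing E)} ≤ R :=
          Algebra.adjoin_le (Set.singleton_subset_iff.2 (hC0R t))
        exact h6 h5
      refine IsUnit.of_mul_eq_one (⟨_, h4⟩ : R) ?_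
      exact Subtype.ext h1
    · have h1 : x * ι₀ t = ι₀ ⟨_, htx⟩ := by
        apply Subtype.ext
        show (x : FractionRing E) * (t : FractionRing E) = (t : FractionRing E) * x
        ring
      rw [h1]
      exact hι₀ _
  haveI : IsNoetherianRing R := Algebra.EssFiniteType.isNoetherianRing A R
  haveI : IsNoetherianRing D :=
    Groth.Agent.Helper3.EakinNagata.isNoetherianRing_of_finite_injective D R hinjDR
  exact Groth.Agent.Helper2.ATate.main A D R hinjDR

end

end Groth.Agent.Helper2.EssFT
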