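import Mathlib
import Groth.Prelude
import Groth.Agent.Helper2.EssFT9
import Groth.Agent.Helper2.QENag

set_option autoImplicit false
set_option linter.style.haveILetI false
set_option linter.unusedSectionVars false
set_option linter.unusedVariables false

universe u

/-! S16449: a local ring `D` between an excellent reduced local ring `A` and an essentially étale
local `A`-algebra `E` whose normalization maps semilocally to that of `E` is essentially of finite
type over `A`. -/

namespace Groth.Agent.Helper2.EssFT

open IsLocalRing TensorProduct Groth.Agent.Helper2.TotFrac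

set_option maxHeartbeats 1600000 in
theorem s16449
    (A E : Type u) [CommRing A] [IsLocalRing A] [IsReduced A] (hA : EGA4.IsExcellent A)
    [CommRing E] [IsLocalRing E] [Algebra A E] [IsLocalHom (algebraMap A E)]
    (hE : EGA4loc.IsEssentiallyEtale A E)
    (D : Subalgebra A E) [IsLocalRing D] [IsLocalHom (algebraMap D E)]
    (D' : Subalgebra A (FractionRing E))
    (hD' : ∀ x : (FractionRing E), x ∈ D' ↔ (IsIntegral D x ∧
      ∃ a ∈ nonZeroDivisors A, ∃ d ∈ D,
        algebraMap A (FractionRing E) a * x = algebraMap E (FractionRing E) d))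
    (hle : D' ≤ ((integralClosure E (FractionRing E)).restrictScalars A))
    (hsurj : ∀ N : Ideal D', N.IsMaximal →
      ∃ M : Ideal ((integralClosure E (FractionRing E)).restrictScalars A),
        M.IsMaximal ∧ M.comap (Subalgebra.inclusion hle) = N) :
    Algebra.EssFiniteType A D := by
  have hNag : CAlg.IsNagata A := Groth.Agent.Helper2.QENag.s2654 A ⟨hA.1, hA.2.2.1, hA.2.2.2⟩
  haveI := hNag.1
  obtain ⟨C, _, _, q, _, hC, hq, ⟨e⟩⟩ := hE
  haveI := hC
  -- `E` as a localization of `C`
  letI : Algebra C E :=
    ((e.symm : Localization.AtPrime q →ₐ[A] E).comp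
      (IsScalarTower.toAlgHom A C (Localization.AtPrime q))).toRingHom.toAlgebra
  haveI : IsScalarTower A C E := IsScalarTower.of_algebraMap_eq (fun a => by
    show algebraMap A E a = e.symm (algebraMap C (Localization.AtPrime q) (algebraMap A C a))
    rw [← IsScalarTower.algebraMap_apply A C (Localization.AtPrime q), AlgEquiv.commutes])
  haveI : IsLocalization.AtPrime E q := by
    let e' : Localization.AtPrime q ≃ₐ[C] E :=
      AlgEquiv.ofRingEquiv (f := e.symm.toRingEquiv) (fun c => rfl)
    exact IsLocalization.isLocalization_of_algEquiv q.primeCompl e'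
  haveI : IsScalarTower D E (FractionRing E) := IsScalarTower.of_algebraMap_eq (fun _ => rfl)
  haveI : IsScalarTower A D E := IsScalarTower.of_algebraMap_eq (fun _ => rfl)
  haveI : IsScalarTower A D (FractionRing E) := IsScalarTower.of_algebraMap_eq (fun a => by
    rw [IsScalarTower.algebraMap_apply D E (FractionRing E),
      ← IsScalarTower.algebraMap_apply A D E, ← IsScalarTower.algebraMap_apply A E (FractionRing E)])
  refine main_of_units A E D C q hNag Subtype.val_injective hq ?_
  intro t ht y hy hty
  -- `t ∈ D'`
  have htD' : t ∈ D' := by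
    rw [hD']
    obtain ⟨htL, htint⟩ := (mem_C0 A E D t).1 ht
    refine ⟨htint.tower_top, ?_⟩
    obtain ⟨a, ha, d, hd⟩ := htL
    exact ⟨a, ha, (d : E), d.2, hd⟩
  -- `y` is integral over `E`
  have hBint : ∀ g, IsIntegral E (muE A E D g) := by
    intro g
    induction g using TensorProduct.induction_on with
    | zero => rw [map_zero]; exact isIntegral_zero
    | tmul e c =>
      rw [muE_tmul]
      exact (isIntegral_algebraMap).mul (((mem_C0 A E D c).1 c.2).2.tower_top)
    | add x y hx hy => rw [map_add]; exact hx.add hy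
  have hyE' : IsIntegral E y := by
    obtain ⟨g, rfl⟩ := (mem_Bsub A E D y).1 hy
    exact hBint g
  -- `t` is a unit of `D'`
  let t' : D' := ⟨t, htD'⟩
  have htu : IsUnit t' := by
    by_contra hnu
    obtain ⟨N, hN, htN⟩ := exists_max_ideal_of_mem_nonunits hnu
    obtain ⟨M, hM, hMN⟩ := hsurj N hN
    have h1 : Subalgebra.inclusion hle t' ∈ M := by
      have : t' ∈ M.comap (Subalgebra.inclusion hle) := hMN ▸ htN
      exact this
    have h2 : IsUnit (Subalgebra.inclusion hle t') := by
      refine IsUnit.of_mul_eq_one
        (⟨y, hyE'⟩ : ((integralClosure E (FractionRing E)).restrictScalars A)) ?_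
      exact Subtype.ext hty
    exact hM.ne_top (Ideal.eq_top_of_isUnit_mem _ h1 h2)
  obtain ⟨u, hu⟩ := htu
  have h3 : t * (((u⁻¹ : D'ˣ) : D') : FractionRing E) = 1 := by
    have : t' * ((u⁻¹ : D'ˣ) : D') = 1 := by rw [← hu]; exact u.mul_inv
    exact congrArg Subtype.val this
  have h4 : y = (((u⁻¹ : D'ˣ) : D') : FractionRing E) := by
    calc y = y * (t * (((u⁻¹ : D'ˣ) : D') : FractionRing E)) := by rw [h3, mul_one]
      _ = (t * y) * (((u⁻¹ : D'ˣ) : D') : FractionRing E) := by ring
      _ = _ := by rw [hty, one_mul]
  rw [h4]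
  have h5 : IsIntegral D (((u⁻¹ : D'ˣ) : D') : FractionRing E) :=
    ((hD' _).1 ((u⁻¹ : D'ˣ) : D').2).1
  exact h5

end Groth.Agent.Helper2.EssFT
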