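import Mathlib
import Groth.Prelude
import Groth.Agent.Helper2.EssFT7
import Groth.Agent.Helper2.FibCrit
import Groth.Agent.Helper2.QENag

set_option autoImplicit false
set_option linter.style.haveILetI false
set_option linter.unusedSectionVars false
set_option linter.unusedVariables false

universe u

/-! S16439: a noetherian local intermediate ring `D` of a strict henselization with finitely
generated total ring of fractions and `m_A D = m_D` is essentially étale. -/

namespace Groth.Agent.Helper2.EssFT

open IsLocalRing TensorProduct Groth.Agent.Helper2.TotFrac Groth.Agent.Helper2.EssEtSub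

section

variable (A S : Type u) [CommRing A] [IsLocalRing A] [IsReduced A]
    [CommRing S] [IsLocalRing S] [Algebra A S] [IsLocalHom (algebraMap A S)]
    [Hensel.IsStrictHenselization A S] (D : Subalgebra A S) [IsLocalRing D]
    [IsLocalHom (algebraMap D S)] [IsNoetherianRing D]

set_option maxHeartbeats 1600000 in
/-- the abstract core: `D ≤ E` with `E` an essentially étale local subalgebra -/
theorem essFiniteType_of_le (hNag : CAlg.IsNagata A) (E : Subalgebra A S) (hDE : D ≤ E)
    [IsLocalRing E] (hE : EGA4loc.IsEssentiallyEtale A E)
    (hm : Ideal.map (algebraMap A D) (maximalIdeal A) = maximalIdeal D) :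
    Algebra.EssFiniteType A D := by
  haveI := hNag.1
  obtain ⟨C, _, _, q, _, hC, hq, ⟨e⟩⟩ := hE
  haveI := hC
  haveI : IsLocalHom (algebraMap A E) := isLocalHom_algebraMap_sub A S E
  haveI : IsLocalHom (algebraMap A D) := isLocalHom_algebraMap_sub A S D
  -- `E` as a localization of `C`
  letI : Algebra C E :=
    ((e.symm : Localization.AtPrime q →ₐ[A] E).comp
      (IsScalarTower.toAlgHom A C (Localization.AtPrime q))).toRingHom.toAlgebra
  haveI : IsScalarTower A C E := IsScalarTower.of_algebraMap_eq (fun a => by
    show algebraMap A E a = e.symm (algebraMap C (Localization.AtPrime q) (algebraMap A C a))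
    rw [← IsScalarTower.algebraMap_apply A C (Localization.AtPrime q), AlgEquiv.commutes])
  haveI : IsLocalization.AtPrime E q := by
    let e' : Localization.AtPrime q ≃ₐ[C] E :=
      AlgEquiv.ofRingEquiv (f := e.symm.toRingEquiv) (fun c => rfl)
    exact IsLocalization.isLocalization_of_algEquiv q.primeCompl e'
  haveI : Module.Flat C E := IsLocalization.flat E q.primeCompl
  haveI : Module.Flat A E := Module.Flat.trans A C E
  haveI : IsNoetherianRing C := Algebra.FiniteType.isNoetherianRing A C
  haveI : IsNoetherianRing E := IsLocalization.isNoetherianRing q.primeCompl E inferInstance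
  -- `D → E`
  letI : Algebra D E := (Subalgebra.inclusion hDE).toRingHom.toAlgebra
  haveI : IsScalarTower A D E := IsScalarTower.of_algebraMap_eq (fun _ => rfl)
  haveI : IsLocalHom (algebraMap D E) := by
    refine ⟨fun d hd => ?_⟩
    have h1 : IsUnit (algebraMap E S (algebraMap D E d)) := hd.map _
    exact IsLocalHom.map_nonunit (f := algebraMap D S) d h1
  -- fibre criterion
  haveI : Module.FaithfullyFlat D E := by
    set I := (maximalIdeal A).map (algebraMap A D) with hI
    haveI : I.IsMaximal := hm ▸ maximalIdeal.isMaximal D
    have hflat : Module.Flat (D ⧸ I) (E ⧸ (I • (⊤ : Submodule D E))) := by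
      letI := Ideal.Quotient.field I
      infer_instance
    have h := (Groth.Agent.Helper2.FibCrit.fibre_criterion (A := A) (B := D) (C := E) E).1
      ⟨inferInstance, hflat⟩
    haveI := h.2
    exact Module.FaithfullyFlat.of_flat_of_isLocalHom
  exact main A E D C q hNag hq

theorem s16439 (hA : EGA4.IsExcellent A)
    (hfg : ∃ t : Finset (FractionRing D), ∀ x : FractionRing D, ∃ a ∈ nonZeroDivisors A,
      algebraMap A (FractionRing D) a * x ∈ Algebra.adjoin A (t : Set (FractionRing D)))
    (hm : Ideal.map (algebraMap A D) (maximalIdeal A) = maximalIdeal D) :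
    EGA4loc.IsEssentiallyEtale A D := by
  have hNag : CAlg.IsNagata A := Groth.Agent.Helper2.QENag.s2654 A ⟨hA.1, hA.2.2.1, hA.2.2.2⟩
  haveI := hNag.1
  have hmin : (minimalPrimes A).Finite := minimalPrimes.finite_of_isNoetherianRing A
  obtain ⟨E, hDE, hEloc, hE⟩ := s16441_mp A S hmin D hfg
  haveI := hEloc
  haveI := essFiniteType_of_le A S D hNag E hDE hE hm
  exact s16438 A S D hm

end

end Groth.Agent.Helper2.EssFT
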