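import Mathlib
import Groth.Agent.Helper2.EtApxB2

set_option autoImplicit false
set_option linter.style.haveILetI false

open AlgebraicGeometry CategoryTheory Opposite TopologicalSpace

namespace Groth.Agent.Helper2.EtApx

universe u

variable {X : Scheme.{u}} {W : X.Opens} (hW : IsAffineOpen W) {A₁ : CommRingCat.{u}}
  (θ : Γ(X, W) ⟶ A₁)

/-- the morphism `Spec A₁ ⟶ X` attached to a ring map from the sections over an affine open. -/
noncomputable def eOf : Spec A₁ ⟶ X := Spec.map θ ≫ hW.fromSpec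

lemma eOf_apply (u : Spec A₁) : eOf hW θ u = hW.fromSpec (Spec.map θ u) := by
  simp [eOf]

lemma eOf_mem (u : Spec A₁) : eOf hW θ u ∈ W := by
  rw [eOf_apply]
  have : hW.fromSpec (Spec.map θ u) ∈ Set.range hW.fromSpec := ⟨_, rfl⟩
  rw [hW.range_fromSpec] at this
  exact this

lemma eOf_preimage : (eOf hW θ) ⁻¹ᵁ W = ⊤ := by
  ext u
  simp only [Opens.coe_top, Set.mem_univ, iff_true]
  exact eOf_mem hW θ u

lemma eOf_eq (u : Spec A₁) (x : X) (hx : x ∈ W)
    (h : u.asIdeal.comap θ.hom = (hW.primeIdealOf ⟨x, hx⟩).asIdeal) : eOf hW θ u = x := by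
  rw [eOf_apply]
  have : Spec.map θ u = hW.primeIdealOf ⟨x, hx⟩ := PrimeSpectrum.ext h
  rw [this, hW.fromSpec_primeIdealOf]

lemma eOf_app : (eOf hW θ).app W = θ ≫ (Scheme.ΓSpecIso A₁).inv ≫
    (Spec A₁).presheaf.map (eqToHom (eOf_preimage hW θ)).op := by
  unfold eOf
  rw [Scheme.Hom.comp_app, hW.fromSpec_app_self]
  simp only [Category.assoc]
  rw [Scheme.Hom.naturality]
  have h := Scheme.ΓSpecIso_inv_naturality θ
  calc _ = ((Scheme.ΓSpecIso Γ(X, W)).inv ≫ (Spec.map θ).appTop) ≫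
        (Spec A₁).presheaf.map (eqToHom (eOf_preimage hW θ)).op := by
        simp only [Category.assoc]; rfl
    _ = _ := by rw [← h, Category.assoc]; rfl

lemma eOf_stalkMap_germ (u : Spec A₁) (a : Γ(X, W)) :
    ((eOf hW θ).stalkMap u).hom ((X.presheaf.germ W (eOf hW θ u) (eOf_mem hW θ u)).hom a) =
      ((Spec A₁).presheaf.germ ⊤ u trivial).hom ((Scheme.ΓSpecIso A₁).inv.hom (θ.hom a)) := by
  have h1 := Scheme.Hom.germ_stalkMap_apply (eOf hW θ) W u (eOf_mem hW θ u) a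
  refine h1.trans ?_
  rw [eOf_app]
  simp only [CommRingCat.comp_apply]
  exact TopCat.Presheaf.germ_res_apply _ _ _ _ _

lemma eOf_stalk (u : Spec A₁) (x : X) (hx : x ∈ W) (h : eOf hW θ u = x) (a : Γ(X, W)) :
    ((eOf hW θ).stalkMap u).hom
      ((X.presheaf.stalkCongr (Inseparable.of_eq h)).inv.hom ((X.presheaf.germ W x hx).hom a)) =
      ((Spec A₁).presheaf.germ ⊤ u trivial).hom ((Scheme.ΓSpecIso A₁).inv.hom (θ.hom a)) := by
  subst h
  rw [← eOf_stalkMap_germ hW θ u a]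
  congr 1
  have h2 := TopCat.Presheaf.germ_stalkSpecializes X.presheaf hx
    (Inseparable.of_eq (rfl : eOf hW θ u = eOf hW θ u)).le
  exact congrArg (fun k => k.hom a) h2

/-- the `A₁`-algebra structure on the stalk of `Spec A₁` at `u`. -/
@[reducible] noncomputable def stalkAlg (u : Spec A₁) : Algebra A₁ ((Spec A₁).presheaf.stalk u) :=
  ((Scheme.ΓSpecIso A₁).inv ≫ (Spec A₁).presheaf.germ ⊤ u trivial).hom.toAlgebra

lemma isLocalization_stalkAlg (u : Spec A₁) :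
    @IsLocalization.AtPrime A₁ _ ((Spec A₁).presheaf.stalk u) _ (stalkAlg u) u.asIdeal _ := by
  letI := stalkAlg (A₁ := A₁) u
  let e : Localization.AtPrime u.asIdeal ≃ₐ[A₁] (Spec A₁).presheaf.stalk u :=
    AlgEquiv.ofRingEquiv (f := (Spec.stalkIso A₁ u).symm.commRingCatIsoToRingEquiv) (fun a => by
      have h := Spec.algebraMap_stalkIso_inv (R := A₁) u
      exact congrArg (fun k => k.hom a) h)
  exact IsLocalization.isLocalization_of_algEquiv u.asIdeal.primeCompl e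

lemma eOf_etale (h : θ.hom.Etale) : Etale (eOf hW θ) := by
  haveI : Etale (Spec.map θ) := (HasRingHomProperty.Spec_iff (P := @Etale)).mpr h
  unfold eOf
  infer_instance

lemma eOf_comp {S : Scheme.{u}} (p : X ⟶ S) {WS : S.Opens} (hWS : IsAffineOpen WS)
    (hle : W ≤ p ⁻¹ᵁ WS) :
    eOf hW θ ≫ p = eOf hWS (p.appLE WS W hle ≫ θ) := by
  unfold eOf
  rw [Category.assoc, ← IsAffineOpen.SpecMap_appLE_fromSpec p hWS hW hle, Spec.map_comp,
    Category.assoc]

lemma primeIdealOf_fromSpec (y : Spec Γ(X, W)) (h : hW.fromSpec y ∈ W) :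
    hW.primeIdealOf ⟨hW.fromSpec y, h⟩ = y := by
  apply hW.fromSpec.isOpenEmbedding.injective
  exact hW.fromSpec_primeIdealOf ⟨hW.fromSpec y, h⟩

lemma primeIdealOf_eOf (u : Spec A₁) :
    (hW.primeIdealOf ⟨eOf hW θ u, eOf_mem hW θ u⟩).asIdeal = u.asIdeal.comap θ.hom := by
  have h1 : hW.primeIdealOf ⟨eOf hW θ u, eOf_mem hW θ u⟩ = Spec.map θ u := by
    have h2 := primeIdealOf_fromSpec hW (Spec.map θ u) (by rw [← eOf_apply]; exact eOf_mem hW θ u)
    rw [← h2]
    congr 2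
  rw [h1]
  rfl

set_option maxHeartbeats 1600000 in
lemma eOf_residue_bijective (u : Spec A₁)
    (hres : ∀ a₁ : A₁, ∃ r s : Γ(X, W), θ.hom s ∉ u.asIdeal ∧
      θ.hom s * a₁ - θ.hom r ∈ u.asIdeal) :
    Function.Bijective ((eOf hW θ).residueFieldMap u) := by
  refine ⟨((eOf hW θ).residueFieldMap u).hom.injective, ?_⟩
  letI algO : Algebra Γ(X, W) (X.presheaf.stalk (eOf hW θ u)) :=
    TopCat.Presheaf.algebra_section_stalk X.presheaf ⟨eOf hW θ u, eOf_mem hW θ u⟩
  haveI locO : IsLocalization.AtPrime (X.presheaf.stalk (eOf hW θ u))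
      (hW.primeIdealOf ⟨eOf hW θ u, eOf_mem hW θ u⟩).asIdeal :=
    hW.isLocalization_stalk ⟨eOf hW θ u, eOf_mem hW θ u⟩
  letI algA : Algebra Γ(X, W) A₁ := θ.hom.toAlgebra
  letI algO₁ : Algebra A₁ ((Spec A₁).presheaf.stalk u) := stalkAlg u
  haveI locO₁ : IsLocalization.AtPrime ((Spec A₁).presheaf.stalk u) u.asIdeal :=
    isLocalization_stalkAlg u
  have hcomap : u.asIdeal.comap (algebraMap Γ(X, W) A₁) =
      (hW.primeIdealOf ⟨eOf hW θ u, eOf_mem hW θ u⟩).asIdeal :=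
    (primeIdealOf_eOf hW θ u).symm
  have hres' : ∀ x : A₁, ∃ r s : Γ(X, W),
      s ∉ (hW.primeIdealOf ⟨eOf hW θ u, eOf_mem hW θ u⟩).asIdeal ∧
      algebraMap Γ(X, W) A₁ s * x - algebraMap Γ(X, W) A₁ r ∈ u.asIdeal := by
    intro x
    obtain ⟨r, s, hs, hrs⟩ := hres x
    refine ⟨r, s, ?_, hrs⟩
    rw [← hcomap]
    exact hs
  have key := alpha_residue_surjective
    (hW.primeIdealOf ⟨eOf hW θ u, eOf_mem hW θ u⟩).asIdeal
    (X.presheaf.stalk (eOf hW θ u)) A₁ u.asIdeal ((Spec A₁).presheaf.stalk u)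
    ((eOf hW θ).stalkMap u).hom (fun r => eOf_stalkMap_germ hW θ u r) hcomap hres'
  intro k
  obtain ⟨z, rfl⟩ := (Spec A₁).residue_surjective u k
  obtain ⟨w, hw⟩ := key z
  refine ⟨X.residue (eOf hW θ u) w, ?_⟩
  have h1 := Scheme.residue_residueFieldMap (eOf hW θ) u
  have h2 := congrArg (fun f => f.hom w) h1
  simp only [CommRingCat.hom_comp, RingHom.comp_apply] at h2
  refine h2.trans ?_
  have h3 : (Spec A₁).residue u (((eOf hW θ).stalkMap u).hom w - z) = 0 :=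
    (IsLocalRing.residue_eq_zero_iff _).mpr hw
  rw [map_sub, sub_eq_zero] at h3
  exact h3

end Groth.Agent.Helper2.EtApx
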