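import Mathlib
import Groth.Prelude.Def_Found
import Groth.Agent.Helper2.EtApxC
import Groth.Agent.Helper2.EtApxD
import Groth.Agent.Helper7.CKv6

set_option autoImplicit false
set_option linter.style.haveILetI false

open AlgebraicGeometry CategoryTheory IsLocalRing

namespace Groth.Agent.Helper2.EtApx

universe u

lemma germ_appLE {X Y : Scheme.{u}} (f : X ⟶ Y) (U : Y.Opens) (V : X.Opens) (e : V ≤ f ⁻¹ᵁ U)
    (x : X) (hx : x ∈ V) (r : Γ(Y, U)) :
    (f.stalkMap x).hom ((Y.presheaf.germ U (f x) (e hx)).hom r) =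
      (X.presheaf.germ V x hx).hom ((f.appLE U V e).hom r) := by
  have h1 := Scheme.Hom.germ_stalkMap_apply f U x (e hx) r
  refine h1.trans ?_
  simp only [Scheme.Hom.appLE, CommRingCat.hom_comp, RingHom.comp_apply]
  exact (TopCat.Presheaf.germ_res_apply _ _ _ _ _).symm

set_option maxHeartbeats 3200000 in
theorem s7202 {X Y S : Scheme.{u}} [IsLocallyNoetherian S]
    (p : X ⟶ S) (q : Y ⟶ S) [LocallyOfFiniteType p] [LocallyOfFiniteType q] (x : X) (y : Y) (hxy : p x = q y)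
    (hG : CAlg.IsGRing ↑(S.presheaf.stalk (p x)))
    (φ : ↑(Y.presheaf.stalk y) →+* (AdicCompletion (IsLocalRing.maximalIdeal ↑(X.presheaf.stalk x)) ↑(X.presheaf.stalk x)))
    (hφ : φ.comp ((q.stalkMap y).hom.comp (S.presheaf.stalkCongr (Inseparable.of_eq hxy)).hom.hom) =
      (algebraMap ↑(X.presheaf.stalk x) (AdicCompletion (IsLocalRing.maximalIdeal ↑(X.presheaf.stalk x)) ↑(X.presheaf.stalk x))).comp (p.stalkMap x).hom)
    (hloc : ∀ b ∈ IsLocalRing.maximalIdeal ↑(Y.presheaf.stalk y),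
      φ b ∈ (IsLocalRing.maximalIdeal ↑(X.presheaf.stalk x)).map (algebraMap ↑(X.presheaf.stalk x) (AdicCompletion (IsLocalRing.maximalIdeal ↑(X.presheaf.stalk x)) ↑(X.presheaf.stalk x))))
    (N : ℕ) (hN : 1 ≤ N) :
    ∃ (U : Scheme.{u}) (e : U ⟶ X) (u : U) (heu : e u = x) (f : U ⟶ Y) (hfu : f u = y),
      Etale e ∧ Function.Bijective (e.residueFieldMap u) ∧ f ≫ q = e ≫ p ∧
      ∀ (b : ↑(Y.presheaf.stalk y)) (c : ↑(X.presheaf.stalk x)),
        AdicCompletion.evalₐ (IsLocalRing.maximalIdeal ↑(X.presheaf.stalk x)) N (φ b) =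
          Ideal.Quotient.mk (IsLocalRing.maximalIdeal ↑(X.presheaf.stalk x) ^ N) c →
        Ideal.Quotient.mk (IsLocalRing.maximalIdeal ↑(U.presheaf.stalk u) ^ N)
            ((f.stalkMap u).hom ((Y.presheaf.stalkCongr (Inseparable.of_eq hfu)).inv.hom b)) =
          Ideal.Quotient.mk (IsLocalRing.maximalIdeal ↑(U.presheaf.stalk u) ^ N)
            ((e.stalkMap u).hom ((X.presheaf.stalkCongr (Inseparable.of_eq heu)).inv.hom c)) := by
  classical
  obtain ⟨WS, hWS, hsWS, -⟩ := exists_isAffineOpen_mem_and_subset (x := p x) (U := ⊤) trivial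
  have hxU : x ∈ p ⁻¹ᵁ WS := hsWS
  obtain ⟨WX, hWX, hxWX, hWXle⟩ := exists_isAffineOpen_mem_and_subset hxU
  have hyU : y ∈ q ⁻¹ᵁ WS := by
    show q y ∈ WS
    rw [← hxy]
    exact hsWS
  obtain ⟨WY, hWY, hyWY, hWYle⟩ := exists_isAffineOpen_mem_and_subset hyU
  haveI : IsNoetherianRing Γ(S, WS) := IsLocallyNoetherian.component_noetherian ⟨WS, hWS⟩
  let φX : Γ(S, WS) →+* Γ(X, WX) := (p.appLE WS WX hWXle).hom
  let φY : Γ(S, WS) →+* Γ(Y, WY) := (q.appLE WS WY hWYle).hom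
  have hft : φY.FiniteType := LocallyOfFiniteType.finiteType_appLE q hWS hWY hWYle
  letI algOX : Algebra Γ(X, WX) (X.presheaf.stalk x) :=
    TopCat.Presheaf.algebra_section_stalk X.presheaf ⟨x, hxWX⟩
  haveI locOX : IsLocalization.AtPrime (X.presheaf.stalk x)
      (hWX.primeIdealOf ⟨x, hxWX⟩).asIdeal := hWX.isLocalization_stalk ⟨x, hxWX⟩
  letI algOY : Algebra Γ(Y, WY) (Y.presheaf.stalk y) :=
    TopCat.Presheaf.algebra_section_stalk Y.presheaf ⟨y, hyWY⟩
  haveI locOY : IsLocalization.AtPrime (Y.presheaf.stalk y)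
      (hWY.primeIdealOf ⟨y, hyWY⟩).asIdeal := hWY.isLocalization_stalk ⟨y, hyWY⟩
  have hGX : CAlg.IsGRing (X.presheaf.stalk x) := by
    letI := (p.stalkMap x).hom.toAlgebra
    haveI : Algebra.EssFiniteType (S.presheaf.stalk (p x)) (X.presheaf.stalk x) :=
      LocallyOfFiniteType.stalkMap p x
    exact Groth.Agent.Helper7.CKd.isGRing_of_essFiniteType _ hG _
  have KC : ∀ r : Γ(S, WS), φ (algebraMap Γ(Y, WY) (Y.presheaf.stalk y) (φY r)) =
      algebraMap (X.presheaf.stalk x) (AdicCompletion (maximalIdeal (X.presheaf.stalk x))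
        (X.presheaf.stalk x)) (algebraMap Γ(X, WX) (X.presheaf.stalk x) (φX r)) := by
    intro r
    have h1 := congrArg (fun k => k ((S.presheaf.germ WS (p x) hsWS).hom r)) hφ
    simp only [RingHom.comp_apply] at h1
    have h2 : (S.presheaf.stalkCongr (Inseparable.of_eq hxy)).hom.hom
        ((S.presheaf.germ WS (p x) hsWS).hom r) = (S.presheaf.germ WS (q y) hyU).hom r := by
      have h3 := TopCat.Presheaf.germ_stalkSpecializes S.presheaf hsWS
        (Inseparable.of_eq hxy).ge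
      exact congrArg (fun k => k.hom r) h3
    rw [h2, germ_appLE q WS WY hWYle y hyWY r, germ_appLE p WS WX hWXle x hxWX r] at h1
    exact h1
  obtain ⟨A₁, _, _, hEt, g, ψ, 𝔫, h𝔫p, hgφY, hψ, hcomap, hres, h𝔫ψ, hgcomap, hcong⟩ :=
    alg_package φX φY hft (hWX.primeIdealOf ⟨x, hxWX⟩).asIdeal (X.presheaf.stalk x) hGX
      (hWY.primeIdealOf ⟨y, hyWY⟩).asIdeal (Y.presheaf.stalk y) φ KC hloc N hN
  haveI := h𝔫p
  haveI := hEt
  let θX : Γ(X, WX) ⟶ CommRingCat.of A₁ := CommRingCat.ofHom (algebraMap Γ(X, WX) A₁)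
  let θY : Γ(Y, WY) ⟶ CommRingCat.of A₁ := CommRingCat.ofHom g
  let u : Spec (CommRingCat.of A₁) := ⟨𝔫, h𝔫p⟩
  have heu : eOf hWX θX u = x := eOf_eq hWX θX u x hxWX hcomap
  have hfu : eOf hWY θY u = y := eOf_eq hWY θY u y hyWY hgcomap
  refine ⟨Spec (CommRingCat.of A₁), eOf hWX θX, u, heu, eOf hWY θY, hfu, ?_, ?_, ?_, ?_⟩
  · exact eOf_etale hWX θX (RingHom.etale_algebraMap.mpr hEt)
  · apply eOf_residue_bijective hWX θX u
    intro a₁
    obtain ⟨r, s, hs, hrs⟩ := hres a₁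
    refine ⟨r, s, ?_, hrs⟩
    intro h
    apply hs
    rw [← hcomap]
    exact h
  · rw [eOf_comp hWX θX p hWS hWXle, eOf_comp hWY θY q hWS hWYle]
    congr 1
    ext r
    exact hgφY r
  · intro b c hbc
    letI algO₁ : Algebra A₁ ((Spec (CommRingCat.of A₁)).presheaf.stalk u) :=
      stalkAlg (A₁ := CommRingCat.of A₁) u
    haveI locO₁ : IsLocalization.AtPrime ((Spec (CommRingCat.of A₁)).presheaf.stalk u) 𝔫 :=
      isLocalization_stalkAlg (A₁ := CommRingCat.of A₁) u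
    exact final_alg (hWX.primeIdealOf ⟨x, hxWX⟩).asIdeal (X.presheaf.stalk x)
      (hWY.primeIdealOf ⟨y, hyWY⟩).asIdeal (Y.presheaf.stalk y) φ A₁ g ψ 𝔫 hψ hcomap hres h𝔫ψ
      hgcomap N hcong ((Spec (CommRingCat.of A₁)).presheaf.stalk u)
      (((eOf hWX θX).stalkMap u).hom.comp (X.presheaf.stalkCongr (Inseparable.of_eq heu)).inv.hom)
      (fun r => eOf_stalk hWX θX u x hxWX heu r)
      (((eOf hWY θY).stalkMap u).hom.comp (Y.presheaf.stalkCongr (Inseparable.of_eq hfu)).inv.hom)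
      (fun β => eOf_stalk hWY θY u y hyWY hfu β)
      b c hbc

end Groth.Agent.Helper2.EtApx
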