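import Mathlib
import Groth.Agent.Helper1.LocalFlat

set_option autoImplicit false
set_option linter.style.haveILetI false
set_option linter.unusedSectionVars false

namespace Groth.Agent.Helper2.EtApx

open IsLocalRing TensorProduct

universe u

section Levelwise

variable {R S : Type u} [CommRing R] [CommRing S] [Algebra R S] (I : Ideal R)

/-- one step of the level-wise surjectivity. -/
theorem surj_step (h1 : ∀ z : S, ∃ w : R, z - algebraMap R S w ∈ I.map (algebraMap R S)) (k : ℕ)
    (d : S) (hd : d ∈ (I ^ k).map (algebraMap R S)) :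
    ∃ w ∈ I ^ k, d - algebraMap R S w ∈ (I ^ (k + 1)).map (algebraMap R S) := by
  unfold Ideal.map at hd
  induction hd using Submodule.span_induction with
  | mem x hx =>
    obtain ⟨a, ha, rfl⟩ := hx
    exact ⟨a, ha, by rw [sub_self]; exact Ideal.zero_mem _⟩
  | zero => exact ⟨0, Ideal.zero_mem _, by rw [map_zero, sub_self]; exact Ideal.zero_mem _⟩
  | add x y _ _ hx hy =>
    obtain ⟨w₁, hw₁, h₁⟩ := hx
    obtain ⟨w₂, hw₂, h₂⟩ := hy
    refine ⟨w₁ + w₂, Ideal.add_mem _ hw₁ hw₂, ?_⟩
    have : x + y - algebraMap R S (w₁ + w₂) =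
        (x - algebraMap R S w₁) + (y - algebraMap R S w₂) := by rw [map_add]; ring
    rw [this]
    exact Ideal.add_mem _ h₁ h₂
  | smul s x _ hx =>
    obtain ⟨w, hw, hxw⟩ := hx
    obtain ⟨ws, hws⟩ := h1 s
    refine ⟨ws * w, Ideal.mul_mem_left _ _ hw, ?_⟩
    have : s • x - algebraMap R S (ws * w) =
        s * (x - algebraMap R S w) + (s - algebraMap R S ws) * algebraMap R S w := by
      rw [smul_eq_mul, map_mul]; ring
    rw [this]
    refine Ideal.add_mem _ (Ideal.mul_mem_left _ _ hxw) ?_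
    have h2 : algebraMap R S w ∈ (I ^ k).map (algebraMap R S) := Ideal.mem_map_of_mem _ hw
    have h3 := Ideal.mul_mem_mul hws h2
    rw [← Ideal.map_mul, ← pow_succ'] at h3
    exact h3

/-- level-wise surjectivity from surjectivity at level one. -/
theorem surj_levelwise (h1 : ∀ z : S, ∃ w : R, z - algebraMap R S w ∈ I.map (algebraMap R S))
    (k : ℕ) (z : S) : ∃ w : R, z - algebraMap R S w ∈ (I ^ k).map (algebraMap R S) := by
  induction k with
  | zero =>
    refine ⟨0, ?_⟩
    rw [pow_zero, Ideal.one_eq_top, Ideal.map_top]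
    trivial
  | succ k ih =>
    obtain ⟨w₁, hw₁⟩ := ih
    obtain ⟨w₂, -, hw₂⟩ := surj_step I h1 k _ hw₁
    refine ⟨w₁ + w₂, ?_⟩
    have : z - algebraMap R S (w₁ + w₂) = z - algebraMap R S w₁ - algebraMap R S w₂ := by
      rw [map_add]; ring
    rw [this]
    exact hw₂

set_option maxHeartbeats 1600000 in
/-- flatness from level-wise bijectivity. -/
theorem flat_of_levelwise [IsNoetherianRing R] [IsNoetherianRing S]
    (hI : I.map (algebraMap R S) ≤ Ideal.jacobson ⊥)
    (hinj : ∀ (k : ℕ) (w : R), algebraMap R S w ∈ (I ^ k).map (algebraMap R S) → w ∈ I ^ k)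
    (hsurj : ∀ (k : ℕ) (z : S), ∃ w : R, z - algebraMap R S w ∈ (I ^ k).map (algebraMap R S)) :
    Module.Flat R S := by
  refine Groth.Agent.Helper1.LocalFlat.flat_of_flat_baseChange_pow (A := R) (B := S) (M := S) I hI ?_
  intro k
  let lam : (R ⧸ I ^ k) →ₗ[R ⧸ I ^ k] (R ⧸ I ^ k) ⊗[R] S :=
    LinearMap.toSpanSingleton (R ⧸ I ^ k) _ ((1 : R ⧸ I ^ k) ⊗ₜ[R] (1 : S))
  let e := TensorProduct.quotTensorEquivQuotSMul S (I ^ k)
  have hmem : ∀ s : S, s ∈ (I ^ k • ⊤ : Submodule R S) ↔ s ∈ (I ^ k).map (algebraMap R S) := by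
    intro s
    rw [Ideal.smul_top_eq_map, Submodule.restrictScalars_mem]
  have hel : ∀ r : R, e (lam (Ideal.Quotient.mk (I ^ k) r)) =
      Submodule.Quotient.mk (algebraMap R S r) := by
    intro r
    have : lam (Ideal.Quotient.mk (I ^ k) r) = (Ideal.Quotient.mk (I ^ k) r) ⊗ₜ[R] (1 : S) := by
      simp only [lam, LinearMap.toSpanSingleton_apply, TensorProduct.smul_tmul', smul_eq_mul,
        mul_one]
    rw [this, TensorProduct.quotTensorEquivQuotSMul_mk_tmul]
    congr 1
    rw [Algebra.smul_def, mul_one]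
  have hbij : Function.Bijective lam := by
    constructor
    · rw [injective_iff_map_eq_zero]
      intro x hx
      obtain ⟨r, rfl⟩ := Ideal.Quotient.mk_surjective x
      have h2 : e (lam (Ideal.Quotient.mk (I ^ k) r)) = 0 := by rw [hx, map_zero]
      rw [hel, Submodule.Quotient.mk_eq_zero, hmem] at h2
      exact Ideal.Quotient.eq_zero_iff_mem.mpr (hinj k r h2)
    · intro y
      obtain ⟨z, hz⟩ := Submodule.Quotient.mk_surjective _ (e y)
      obtain ⟨w, hw⟩ := hsurj k z
      refine ⟨Ideal.Quotient.mk (I ^ k) w, ?_⟩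
      apply e.injective
      rw [hel, ← hz, eq_comm, Submodule.Quotient.eq, hmem]
      exact hw
  exact Module.Flat.of_linearEquiv (LinearEquiv.ofBijective lam hbij).symm

end Levelwise

end Groth.Agent.Helper2.EtApx
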