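import Mathlib
import Groth.Agent.Helper2.EtApxH
import Groth.Agent.Helper2.EtApxI

set_option autoImplicit false
set_option linter.style.haveILetI false
set_option linter.unusedSectionVars false

namespace Groth.Agent.Helper2.EtApx

open IsLocalRing

universe u

section

variable {A₀ B : Type u} [CommRing A₀] [CommRing B] {pX : Ideal A₀} [pX.IsPrime]
  {O : Type u} [CommRing O] [IsLocalRing O] [IsNoetherianRing O] [Algebra A₀ O]
  [IsLocalization.AtPrime O pX]
  {pY : Ideal B} [pY.IsPrime] {OY : Type u} [CommRing OY] [IsLocalRing OY] [IsNoetherianRing OY]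
  [Algebra B OY] [IsLocalization.AtPrime OY pY]
  {φ : OY →+* AdicCompletion (maximalIdeal O) O}
  {A₁ : Type u} [CommRing A₁] [Algebra A₀ A₁]
  {g : B →+* A₁} {ψ : A₁ →+* AdicCompletion (maximalIdeal O) O} {𝔫 : Ideal A₁} [𝔫.IsPrime]
  {N : ℕ}

/-- `ψ⁻¹(m̂) ⊆ 𝔫`. -/
theorem Pkg.mem_of_ψ_mem (P : Pkg pX O pY OY φ A₁ g ψ 𝔫 N) (x : A₁)
    (hx : ψ x ∈ (maximalIdeal O).map (algebraMap O (AdicCompletion (maximalIdeal O) O))) :
    x ∈ 𝔫 := by
  have hmaxeq := AdicCompletion.maximalIdeal_eq_map (R := O)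
  have hmemX : ∀ c : A₀, c ∈ pX ↔ algebraMap A₀ A₁ c ∈ 𝔫 := fun c => by
    rw [← P.hcomap]; rfl
  obtain ⟨r, s, hs, hrs⟩ := P.hres x
  have h1 := P.h𝔫ψ _ hrs
  rw [map_sub, map_mul] at h1
  have h2 : ψ (algebraMap A₀ A₁ r) ∈ (maximalIdeal O).map
      (algebraMap O (AdicCompletion (maximalIdeal O) O)) := by
    have := Ideal.sub_mem _ (Ideal.mul_mem_left _ (ψ (algebraMap A₀ A₁ s)) hx) h1
    simpa using this
  rw [P.hψ, ← hmaxeq] at h2
  have h3 : algebraMap A₀ O r ∈ maximalIdeal O := by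
    by_contra hne
    have hu : IsUnit (algebraMap A₀ O r) := by
      by_contra hnu
      exact hne ((mem_maximalIdeal _).mpr hnu)
    exact ((mem_maximalIdeal _).mp h2) (hu.map _)
  have h4 : r ∈ pX := (IsLocalization.AtPrime.to_map_mem_maximal_iff O pX r).mp h3
  have h5 : algebraMap A₀ A₁ s * x ∈ 𝔫 := by
    have := 𝔫.add_mem hrs ((hmemX r).mp h4)
    simpa using this
  rcases Ideal.IsPrime.mem_or_mem inferInstance h5 with h6 | h6
  · exact absurd ((hmemX s).mpr h6) hs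
  · exact h6

/-- the map from the local ring at `𝔫` to `O / m^k` induced by `ψ`. -/
noncomputable def Pkg.ψL (P : Pkg pX O pY OY φ A₁ g ψ 𝔫 N) (k : ℕ) :
    Localization.AtPrime 𝔫 →+* O ⧸ maximalIdeal O ^ k :=
  IsLocalization.lift (M := 𝔫.primeCompl) (S := Localization.AtPrime 𝔫)
    (g := (AdicCompletion.evalₐ (maximalIdeal O) k).toRingHom.comp ψ)
    (fun s => by
      have hu : IsUnit (ψ (s : A₁)) := by
        by_contra hnu
        have h1 : ψ (s : A₁) ∈ maximalIdeal (AdicCompletion (maximalIdeal O) O) :=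
          (mem_maximalIdeal _).mpr hnu
        rw [AdicCompletion.maximalIdeal_eq_map] at h1
        exact s.2 (P.mem_of_ψ_mem _ h1)
      exact hu.map (AdicCompletion.evalₐ (maximalIdeal O) k).toRingHom)

theorem Pkg.ψL_algebraMap (P : Pkg pX O pY OY φ A₁ g ψ 𝔫 N) (k : ℕ) (a : A₁) :
    P.ψL k (algebraMap A₁ (Localization.AtPrime 𝔫) a) =
      AdicCompletion.evalₐ (maximalIdeal O) k (ψ a) :=
  IsLocalization.lift_eq _ _

theorem Pkg.ψL_αX (P : Pkg pX O pY OY φ A₁ g ψ 𝔫 N) (k : ℕ) (c : O) :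
    P.ψL k (P.αX c) = Ideal.Quotient.mk (maximalIdeal O ^ k) c := by
  have : (P.ψL k).comp P.αX = Ideal.Quotient.mk (maximalIdeal O ^ k) := by
    apply IsLocalization.ringHom_ext pX.primeCompl
    ext a
    simp only [RingHom.comp_apply]
    rw [alphaOf_algebraMap, P.ψL_algebraMap, P.hψ]
    exact (AdicCompletion.evalₐ (maximalIdeal O) k).commutes _
  exact congrArg (fun f => f c) this

end

section IsoCase

variable {A₀ B : Type u} [CommRing A₀] [CommRing B] {pX : Ideal A₀} [pX.IsPrime]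
  {O : Type u} [CommRing O] [IsLocalRing O] [IsNoetherianRing O] [Algebra A₀ O]
  [IsLocalization.AtPrime O pX]
  {pY : Ideal B} [pY.IsPrime] {OY : Type u} [CommRing OY] [IsLocalRing OY] [IsNoetherianRing OY]
  [Algebra B OY] [IsLocalization.AtPrime OY pY]
  (Φ : AdicCompletion (maximalIdeal OY) OY ≃+* AdicCompletion (maximalIdeal O) O)
  {A₁ : Type u} [CommRing A₁] [Algebra A₀ A₁]
  {g : B →+* A₁} {ψ : A₁ →+* AdicCompletion (maximalIdeal O) O} {𝔫 : Ideal A₁} [𝔫.IsPrime]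
  {N : ℕ}

/-- `ψL` kills the `k`-th power of the maximal ideal. -/
theorem Pkg.ψL_kill [Algebra.Etale A₀ A₁] (P : Pkg pX O pY OY (phiOf Φ) A₁ g ψ 𝔫 N) (k : ℕ)
    (z : Localization.AtPrime 𝔫) (hz : z ∈ maximalIdeal (Localization.AtPrime 𝔫) ^ k) :
    P.ψL k z = 0 := by
  have h1 : (maximalIdeal (Localization.AtPrime 𝔫)).map (P.ψL k) ≤
      (maximalIdeal O).map (Ideal.Quotient.mk (maximalIdeal O ^ k)) := by
    rw [← P.map_pX_eq Φ, Ideal.map_map, Ideal.map_le_iff_le_comap]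
    intro c₀ hc₀
    rw [Ideal.mem_comap, RingHom.comp_apply,
      IsScalarTower.algebraMap_apply A₀ A₁ (Localization.AtPrime 𝔫), P.ψL_algebraMap, P.hψ]
    have : AdicCompletion.evalₐ (maximalIdeal O) k
        (algebraMap O (AdicCompletion (maximalIdeal O) O) (algebraMap A₀ O c₀)) =
        Ideal.Quotient.mk (maximalIdeal O ^ k) (algebraMap A₀ O c₀) :=
      (AdicCompletion.evalₐ (maximalIdeal O) k).commutes _
    rw [this]
    exact Ideal.mem_map_of_mem _
      ((IsLocalization.AtPrime.to_map_mem_maximal_iff O pX c₀).mpr hc₀)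
  have h2 := Ideal.mem_map_of_mem (P.ψL k) hz
  rw [Ideal.map_pow] at h2
  have h3 := Ideal.pow_right_mono h1 k h2
  rw [← Ideal.map_pow, Ideal.map_quotient_self] at h3
  exact h3

/-- kernel of evaluation on the completion. -/
theorem mem_map_pow_iff (R : Type u) [CommRing R] [IsLocalRing R] [IsNoetherianRing R] (k : ℕ)
    (t : AdicCompletion (maximalIdeal R) R) :
    t ∈ (maximalIdeal R ^ k).map (algebraMap R (AdicCompletion (maximalIdeal R) R)) ↔
      AdicCompletion.evalₐ (maximalIdeal R) k t = 0 := by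
  have hfg : (maximalIdeal R).FG := Ideal.fg_of_isNoetherianRing _
  have h1 : t ∈ (maximalIdeal R ^ k).map (algebraMap R (AdicCompletion (maximalIdeal R) R)) ↔
      AdicCompletion.eval (maximalIdeal R) R k t = 0 := by
    rw [← LinearMap.mem_ker, ← AdicCompletion.pow_smul_top_eq_ker_eval hfg, Ideal.smul_top_eq_map,
      Submodule.restrictScalars_mem]
  rw [h1]
  have hle1 : maximalIdeal R ^ k ≤ (maximalIdeal R ^ k • ⊤ : Ideal R) := by
    rw [smul_eq_mul, Ideal.mul_top]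
  have hle2 : (maximalIdeal R ^ k • ⊤ : Ideal R) ≤ maximalIdeal R ^ k := by
    rw [smul_eq_mul, Ideal.mul_top]
  constructor
  · intro h
    rw [← AdicCompletion.factor_eval_eq_evalₐ _ t hle2, h, map_zero]
  · intro h
    rw [← AdicCompletion.factor_evalₐ_eq_eval _ t hle1, h, map_zero]

/-- `Θ'`: the surjection `OY → O/m^k` given by `Φ`. -/
noncomputable def thetaP (k : ℕ) : OY →+* O ⧸ maximalIdeal O ^ k :=
  (AdicCompletion.evalₐ (maximalIdeal O) k).toRingHom.comp (phiOf Φ)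

theorem thetaP_apply (k : ℕ) (b : OY) : thetaP Φ k b =
    AdicCompletion.evalₐ (maximalIdeal O) k
      (Φ (algebraMap OY (AdicCompletion (maximalIdeal OY) OY) b)) := rfl

theorem thetaP_surjective (k : ℕ) : Function.Surjective (thetaP Φ k) := by
  intro q
  obtain ⟨c, rfl⟩ := Ideal.Quotient.mk_surjective q
  obtain ⟨b, hb⟩ := exists_approx O OY Φ k c
  refine ⟨b, ?_⟩
  have h1 := (mem_map_pow_iff O k _).mp hb
  rw [map_sub, sub_eq_zero] at h1
  rw [thetaP_apply]
  exact h1.trans ((AdicCompletion.evalₐ (maximalIdeal O) k).commutes c)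

theorem ker_thetaP (k : ℕ) : RingHom.ker (thetaP Φ k) = maximalIdeal OY ^ k := by
  ext b
  rw [RingHom.mem_ker, thetaP_apply, ← mem_map_pow_iff O k]
  constructor
  · intro h
    have h2 := Φ_symm_mem_pow O OY Φ k _ h
    rw [RingEquiv.symm_apply_apply] at h2
    have h3 := (mem_map_pow_iff OY k _).mp h2
    rw [AlgHom.commutes] at h3
    exact Ideal.Quotient.eq_zero_iff_mem.mp h3
  · intro h
    exact Φ_mem_pow O OY Φ k _ (Ideal.mem_map_of_mem _ h)

/-- level-one surjectivity of `αY`. -/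
theorem Pkg.αY_surj1 [Algebra.Etale A₀ A₁] [IsNoetherianRing A₁]
    (P : Pkg pX O pY OY (phiOf Φ) A₁ g ψ 𝔫 N) (hN : 2 ≤ N) (z : Localization.AtPrime 𝔫) :
    ∃ w : OY, z - P.αY w ∈ (maximalIdeal OY).map P.αY := by
  letI : Algebra B A₁ := g.toAlgebra
  have hres : ∀ x : A₁, ∃ r s : B, s ∉ pY ∧ algebraMap B A₁ s * x - algebraMap B A₁ r ∈ 𝔫 :=
    fun x => P.resY Φ (by omega) x
  obtain ⟨w, hw⟩ := alpha_residue_surjective pY OY A₁ 𝔫 (Localization.AtPrime 𝔫) P.αY
    (fun r => alphaOf_algebraMap _ _ _ _ _ r) P.hgcomap hres z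
  refine ⟨w, ?_⟩
  rw [P.map_αY_eq Φ hN]
  have := Ideal.neg_mem_iff _ |>.mpr hw
  rwa [neg_sub] at this

set_option maxHeartbeats 1600000 in
/-- level-wise injectivity of `αY`. -/
theorem Pkg.αY_inj [Algebra.Etale A₀ A₁] [IsNoetherianRing A₁]
    (P : Pkg pX O pY OY (phiOf Φ) A₁ g ψ 𝔫 N) (hN : 2 ≤ N) (k : ℕ) (w : OY)
    (hw : P.αY w ∈ (maximalIdeal OY ^ k).map P.αY) : w ∈ maximalIdeal OY ^ k := by
  letI algL : Algebra OY (Localization.AtPrime 𝔫) := P.αY.toAlgebra
  have hpow : (maximalIdeal OY ^ k).map P.αY = maximalIdeal (Localization.AtPrime 𝔫) ^ k := by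
    rw [Ideal.map_pow, P.map_αY_eq Φ hN]
  let Θ : OY →+* O ⧸ maximalIdeal O ^ k := (P.ψL k).comp P.αY
  have hΘsurj : Function.Surjective Θ := by
    intro q
    obtain ⟨c, rfl⟩ := Ideal.Quotient.mk_surjective q
    obtain ⟨b, hb⟩ := surj_levelwise (R := OY) (S := Localization.AtPrime 𝔫) (maximalIdeal OY)
      (fun z => P.αY_surj1 Φ hN z) k (P.αX c)
    refine ⟨b, ?_⟩
    have hb' : P.αX c - P.αY b ∈ maximalIdeal (Localization.AtPrime 𝔫) ^ k := by
      rw [← hpow]
      exact hb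
    have h1 := P.ψL_kill Φ k _ hb'
    rw [map_sub, sub_eq_zero, P.ψL_αX] at h1
    exact h1.symm
  have hle : RingHom.ker (thetaP Φ k) ≤ RingHom.ker Θ := by
    rw [ker_thetaP]
    intro b hb
    rw [RingHom.mem_ker]
    apply P.ψL_kill Φ k
    rw [← hpow]
    exact Ideal.mem_map_of_mem _ hb
  haveI : IsNoetherianRing (O ⧸ maximalIdeal O ^ k) := inferInstance
  have hker := ker_eq_of_surjective_of_le (thetaP Φ k) Θ (thetaP_surjective Φ k) hΘsurj hle
  rw [ker_thetaP] at hker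
  rw [← hker, RingHom.mem_ker]
  apply P.ψL_kill Φ k
  rw [← hpow]
  exact hw

/-- flatness of the local ring at `𝔫` over `OY`. -/
theorem Pkg.flat_OY [Algebra.Etale A₀ A₁] [IsNoetherianRing A₁]
    (P : Pkg pX O pY OY (phiOf Φ) A₁ g ψ 𝔫 N) (hN : 2 ≤ N) :
    letI : Algebra OY (Localization.AtPrime 𝔫) := P.αY.toAlgebra
    Module.Flat OY (Localization.AtPrime 𝔫) := by
  letI algL : Algebra OY (Localization.AtPrime 𝔫) := P.αY.toAlgebra
  haveI : IsNoetherianRing (Localization.AtPrime 𝔫) :=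
    IsLocalization.isNoetherianRing 𝔫.primeCompl _ inferInstance
  refine flat_of_levelwise (R := OY) (S := Localization.AtPrime 𝔫) (maximalIdeal OY) ?_ ?_ ?_
  · have : (maximalIdeal OY).map (algebraMap OY (Localization.AtPrime 𝔫)) =
        maximalIdeal (Localization.AtPrime 𝔫) := P.map_αY_eq Φ hN
    rw [this]
    exact IsLocalRing.maximalIdeal_le_jacobson _
  · intro k w hw
    exact P.αY_inj Φ hN k w hw
  · intro k z
    exact surj_levelwise (R := OY) (S := Localization.AtPrime 𝔫) (maximalIdeal OY)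
      (fun z => P.αY_surj1 Φ hN z) k z

end IsoCase

end Groth.Agent.Helper2.EtApx
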