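import Mathlib
import Groth.Agent.Helper2.EtApxJ
import Groth.Agent.Helper2.FlatLocusSch

set_option autoImplicit false
set_option linter.style.haveILetI false
set_option linter.unusedSectionVars false

namespace Groth.Agent.Helper2.EtApx

open IsLocalRing

universe u

/-- flat and unramified at a prime implies étale on a basic open neighbourhood. -/
theorem exists_etale_away {B A₁ : Type u} [CommRing B] [CommRing A₁] [Algebra B A₁]
    [Algebra.FinitePresentation B A₁] (𝔫 : Ideal A₁) [𝔫.IsPrime]
    (hflat : Module.Flat B (Localization.AtPrime 𝔫))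
    (hunr : Algebra.FormallyUnramified B (Localization.AtPrime 𝔫)) :
    ∃ h : A₁, h ∉ 𝔫 ∧ Algebra.Etale B (Localization.Away h) := by
  classical
  have hopen1 := Groth.Agent.Helper2.FlatDescApp.isOpen_flatLocus_fp (R := B) (S := A₁) (M := A₁)
  have hopen2 : IsOpen (Algebra.unramifiedLocus B A₁) := Algebra.isOpen_unramifiedLocus
  have hmem : (⟨𝔫, inferInstance⟩ : PrimeSpectrum A₁) ∈
      {q : PrimeSpectrum A₁ | Module.Flat B (LocalizedModule q.asIdeal.primeCompl A₁)} ∩
        Algebra.unramifiedLocus B A₁ := by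
    refine ⟨?_, hunr⟩
    exact (FlatLocusSch.flat_localization_iff B A₁ 𝔫).mp hflat
  obtain ⟨_, ⟨_, ⟨h, rfl⟩, rfl⟩, hh𝔫, hsub⟩ :=
    PrimeSpectrum.isBasis_basic_opens.exists_subset_of_mem_open hmem (hopen1.inter hopen2)
  refine ⟨h, hh𝔫, ?_⟩
  haveI : Algebra.FormallyUnramified B (Localization.Away h) :=
    Algebra.basicOpen_subset_unramifiedLocus_iff.mp (fun q hq => (hsub hq).2)
  haveI : Module.Flat B (Localization.Away h) := by
    refine Module.flat_of_isLocalized_maximal (Localization.Away h) (Localization.Away h)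
      (fun P _ => Localization.AtPrime P) (fun P _ => Algebra.linearMap _ _) ?_
    intro P hP
    set q : Ideal A₁ := P.comap (algebraMap A₁ (Localization.Away h)) with hq
    haveI : q.IsPrime := Ideal.comap_isPrime _ _
    haveI hloc : IsLocalization.AtPrime (Localization.AtPrime P) q :=
      IsLocalization.isLocalization_isLocalization_atPrime_isLocalization (Submonoid.powers h) _ P
    have hqh : (⟨q, inferInstance⟩ : PrimeSpectrum A₁) ∈
        (PrimeSpectrum.basicOpen h : Set (PrimeSpectrum A₁)) := by
      intro hmem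
      have h1 : algebraMap A₁ (Localization.Away h) h ∈ P := hmem
      have hu : IsUnit (algebraMap A₁ (Localization.Away h) h) :=
        IsLocalization.Away.algebraMap_isUnit h
      exact (Ideal.IsPrime.ne_top inferInstance) (Ideal.eq_top_of_isUnit_mem _ h1 hu)
    have hfl : Module.Flat B (LocalizedModule q.primeCompl A₁) := (hsub hqh).1
    let e : LocalizedModule q.primeCompl A₁ ≃ₗ[A₁] Localization.AtPrime P :=
      IsLocalizedModule.iso q.primeCompl (Algebra.linearMap A₁ (Localization.AtPrime P))
    exact Module.Flat.of_linearEquiv (e.symm.restrictScalars B)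
  haveI : Algebra.FinitePresentation A₁ (Localization.Away h) :=
    IsLocalization.Away.finitePresentation h
  haveI : Algebra.FinitePresentation B (Localization.Away h) :=
    Algebra.FinitePresentation.trans B A₁ (Localization.Away h)
  exact Algebra.Etale.of_formallyUnramified_of_flat


section IsoCase

variable {A₀ B : Type u} [CommRing A₀] [CommRing B] {pX : Ideal A₀} [pX.IsPrime]
  {O : Type u} [CommRing O] [IsLocalRing O] [IsNoetherianRing O] [Algebra A₀ O]
  [IsLocalization.AtPrime O pX]
  {pY : Ideal B} [pY.IsPrime] {OY : Type u} [CommRing OY] [IsLocalRing OY] [IsNoetherianRing OY]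
  [Algebra B OY] [IsLocalization.AtPrime OY pY]
  (Φ : AdicCompletion (maximalIdeal OY) OY ≃+* AdicCompletion (maximalIdeal O) O)
  {A₁ : Type u} [CommRing A₁] [Algebra A₀ A₁]
  {g : B →+* A₁} {ψ : A₁ →+* AdicCompletion (maximalIdeal O) O} {𝔫 : Ideal A₁} [𝔫.IsPrime]
  {N : ℕ}

set_option maxHeartbeats 1600000 in
/-- the `Y`-side map is étale near `𝔫`. -/
theorem Pkg.exists_etale_away [Algebra.Etale A₀ A₁] [IsNoetherianRing A₁] [IsNoetherianRing B]
    (P : Pkg pX O pY OY (phiOf Φ) A₁ g ψ 𝔫 N) (hN : 2 ≤ N) (hg : g.FiniteType) :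
    letI : Algebra B A₁ := g.toAlgebra
    ∃ h : A₁, h ∉ 𝔫 ∧ Algebra.Etale B (Localization.Away h) := by
  letI algBA : Algebra B A₁ := g.toAlgebra
  letI algL : Algebra OY (Localization.AtPrime 𝔫) := P.αY.toAlgebra
  haveI : Algebra.FiniteType B A₁ := hg
  haveI : Algebra.FinitePresentation B A₁ := Algebra.FinitePresentation.of_finiteType.mp inferInstance
  haveI hST : IsScalarTower B OY (Localization.AtPrime 𝔫) := by
    refine IsScalarTower.of_algebraMap_eq' ?_
    ext β
    rw [RingHom.comp_apply]
    change _ = P.αY (algebraMap B OY β)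
    rw [alphaOf_algebraMap]
    exact IsScalarTower.algebraMap_apply B A₁ (Localization.AtPrime 𝔫) β
  haveI hflatOY : Module.Flat OY (Localization.AtPrime 𝔫) := P.flat_OY Φ hN
  haveI : Module.Flat B OY := IsLocalization.flat OY pY.primeCompl
  have hflat : Module.Flat B (Localization.AtPrime 𝔫) :=
    Module.Flat.trans B OY (Localization.AtPrime 𝔫)
  have hmapeq : (maximalIdeal OY).map (algebraMap OY (Localization.AtPrime 𝔫)) =
      maximalIdeal (Localization.AtPrime 𝔫) := P.map_αY_eq Φ hN
  haveI hlh : IsLocalHom (algebraMap OY (Localization.AtPrime 𝔫)) := by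
    refine ((IsLocalRing.local_hom_TFAE (algebraMap OY (Localization.AtPrime 𝔫))).out 0 2
      rfl rfl).mpr ?_
    rw [hmapeq]
  haveI : Algebra.EssFiniteType B (Localization.AtPrime 𝔫) :=
    haveI : Algebra.EssFiniteType A₁ (Localization.AtPrime 𝔫) :=
      Algebra.EssFiniteType.of_isLocalization _ 𝔫.primeCompl
    Algebra.EssFiniteType.comp B A₁ (Localization.AtPrime 𝔫)
  haveI : Algebra.EssFiniteType OY (Localization.AtPrime 𝔫) :=
    Algebra.EssFiniteType.of_comp B OY (Localization.AtPrime 𝔫)
  haveI : Algebra.IsSeparable (ResidueField OY) (ResidueField (Localization.AtPrime 𝔫)) := by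
    refine ⟨fun z => ?_⟩
    obtain ⟨z', rfl⟩ := IsLocalRing.residue_surjective z
    obtain ⟨w, hw⟩ := P.αY_surj1 Φ hN z'
    rw [P.map_αY_eq Φ hN] at hw
    have h1 : IsLocalRing.residue _ z' = IsLocalRing.residue _ (P.αY w) := by
      rw [← sub_eq_zero, ← map_sub]
      exact (IsLocalRing.residue_eq_zero_iff _).mpr hw
    have h2 : IsLocalRing.residue (Localization.AtPrime 𝔫) (P.αY w) =
        algebraMap (ResidueField OY) (ResidueField (Localization.AtPrime 𝔫))
          (IsLocalRing.residue OY w) := rfl
    rw [h1, h2]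
    exact isSeparable_algebraMap _
  haveI : Algebra.FormallyUnramified OY (Localization.AtPrime 𝔫) :=
    Algebra.FormallyUnramified.of_map_maximalIdeal hmapeq
  haveI : Algebra.FormallyUnramified B OY :=
    Algebra.FormallyUnramified.of_isLocalization pY.primeCompl
  have hunr : Algebra.FormallyUnramified B (Localization.AtPrime 𝔫) :=
    Algebra.FormallyUnramified.comp B OY (Localization.AtPrime 𝔫)
  exact EtApx.exists_etale_away 𝔫 hflat hunr

end IsoCase

end Groth.Agent.Helper2.EtApx
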