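import Mathlib
import Groth.Agent.Helper2.EtApxK

set_option autoImplicit false
set_option linter.style.haveILetI false
set_option linter.unusedSectionVars false

namespace Groth.Agent.Helper2.EtApx

open IsLocalRing

universe u

section

variable {A₀ B : Type u} [CommRing A₀] [CommRing B] {pX : Ideal A₀} [pX.IsPrime]
  {O : Type u} [CommRing O] [IsLocalRing O] [IsNoetherianRing O] [Algebra A₀ O]
  [IsLocalization.AtPrime O pX]
  {pY : Ideal B} [pY.IsPrime] {OY : Type u} [CommRing OY] [IsLocalRing OY] [IsNoetherianRing OY]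
  [Algebra B OY] [IsLocalization.AtPrime OY pY]
  {φ : OY →+* AdicCompletion (maximalIdeal O) O}
  {A₁ : Type u} [CommRing A₁] [Algebra A₀ A₁]
  {g : B →+* A₁} {ψ : A₁ →+* AdicCompletion (maximalIdeal O) O} {𝔫 : Ideal A₁} [𝔫.IsPrime]
  {N : ℕ}

theorem Pkg.isUnit_ψ (P : Pkg pX O pY OY φ A₁ g ψ 𝔫 N) (h : A₁) (hh : h ∉ 𝔫) : IsUnit (ψ h) := by
  by_contra hnu
  have h1 : ψ h ∈ maximalIdeal (AdicCompletion (maximalIdeal O) O) :=
    (mem_maximalIdeal _).mpr hnu
  rw [AdicCompletion.maximalIdeal_eq_map] at h1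
  exact hh (P.mem_of_ψ_mem _ h1)

theorem disjoint_powers (h : A₁) (hh : h ∉ 𝔫) :
    Disjoint (Submonoid.powers h : Set A₁) (𝔫 : Set A₁) := by
  rw [Set.disjoint_left]
  rintro _ ⟨n, rfl⟩ hmem
  exact hh (Ideal.IsPrime.mem_of_pow_mem inferInstance n hmem)

theorem isPrime_map_away (h : A₁) (hh : h ∉ 𝔫) :
    (𝔫.map (algebraMap A₁ (Localization.Away h))).IsPrime :=
  IsLocalization.isPrime_of_isPrime_disjoint (Submonoid.powers h) _ 𝔫 inferInstance
    (disjoint_powers h hh)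

theorem comap_map_away (h : A₁) (hh : h ∉ 𝔫) :
    (𝔫.map (algebraMap A₁ (Localization.Away h))).comap (algebraMap A₁ (Localization.Away h)) = 𝔫 :=
  IsLocalization.comap_map_of_isPrime_disjoint (Submonoid.powers h) _ inferInstance
    (disjoint_powers h hh)

/-- the package passes to a basic open neighbourhood of `𝔫`. -/
theorem Pkg.away (P : Pkg pX O pY OY φ A₁ g ψ 𝔫 N) (h : A₁) (hh : h ∉ 𝔫) :
    ∃ ψ' : Localization.Away h →+* AdicCompletion (maximalIdeal O) O,
      Pkg pX O pY OY φ (Localization.Away h) ((algebraMap A₁ (Localization.Away h)).comp g) ψ'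
        (𝔫.map (algebraMap A₁ (Localization.Away h))) N := by
  classical
  set S := Localization.Away h with hS
  set ι := algebraMap A₁ S with hι
  haveI hpr : (𝔫.map ι).IsPrime := isPrime_map_away h hh
  have hcm : (𝔫.map ι).comap ι = 𝔫 := comap_map_away h hh
  have hu := P.isUnit_ψ h hh
  let ψ' : S →+* AdicCompletion (maximalIdeal O) O := IsLocalization.Away.lift h hu
  have hψ' : ∀ a : A₁, ψ' (ι a) = ψ a := fun a => IsLocalization.Away.lift_eq h hu a
  have hmemι : ∀ a : A₁, ι a ∈ 𝔫.map ι ↔ a ∈ 𝔫 := fun a => by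
    conv_rhs => rw [← hcm]
    rfl
  refine ⟨ψ', ?_⟩
  refine
    { hψ := ?_, hcomap := ?_, hres := ?_, h𝔫ψ := ?_, hgcomap := ?_, hcong := ?_ }
  · intro r
    rw [IsScalarTower.algebraMap_apply A₀ A₁ S, hψ', P.hψ]
  · rw [IsScalarTower.algebraMap_eq A₀ A₁ S, ← Ideal.comap_comap, hcm, P.hcomap]
  · intro x
    obtain ⟨a, ⟨_, ⟨n, rfl⟩⟩, rfl⟩ := IsLocalization.exists_mk'_eq (Submonoid.powers h) x
    obtain ⟨r₁, s₁, hs₁, h1⟩ := P.hres a
    obtain ⟨r₂, s₂, hs₂, h2⟩ := P.hres (h ^ n)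
    have hmemX : ∀ c : A₀, c ∈ pX ↔ algebraMap A₀ A₁ c ∈ 𝔫 := fun c => by
      rw [← P.hcomap]; rfl
    have hhn : h ^ n ∉ 𝔫 := fun hm => hh (Ideal.IsPrime.mem_of_pow_mem inferInstance n hm)
    have hr₂ : r₂ ∉ pX := by
      intro hr
      have h3 : algebraMap A₀ A₁ s₂ * h ^ n ∈ 𝔫 := by
        have := 𝔫.add_mem h2 ((hmemX r₂).mp hr)
        simpa using this
      rcases Ideal.IsPrime.mem_or_mem inferInstance h3 with h4 | h4
      · exact hs₂ ((hmemX s₂).mpr h4)
      · exact hhn h4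
    refine ⟨r₁ * s₂, s₁ * r₂, fun hm => ?_, ?_⟩
    · rcases Ideal.IsPrime.mem_or_mem inferInstance hm with h4 | h4
      · exact hs₁ h4
      · exact hr₂ h4
    · set y : S := IsLocalization.mk' S a (⟨h ^ n, ⟨n, rfl⟩⟩ : Submonoid.powers h) with hy
      have hspec : y * ι (h ^ n) = ι a :=
        IsLocalization.mk'_spec S a (⟨h ^ n, ⟨n, rfl⟩⟩ : Submonoid.powers h)
      have hnum : algebraMap A₀ A₁ (s₁ * r₂) * a - algebraMap A₀ A₁ (r₁ * s₂) * h ^ n ∈ 𝔫 := by
        have e : algebraMap A₀ A₁ (s₁ * r₂) * a - algebraMap A₀ A₁ (r₁ * s₂) * h ^ n =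
            algebraMap A₀ A₁ r₂ * (algebraMap A₀ A₁ s₁ * a - algebraMap A₀ A₁ r₁) -
              algebraMap A₀ A₁ r₁ * (algebraMap A₀ A₁ s₂ * h ^ n - algebraMap A₀ A₁ r₂) := by
          rw [map_mul, map_mul]; ring
        rw [e]
        exact 𝔫.sub_mem (𝔫.mul_mem_left _ h1) (𝔫.mul_mem_left _ h2)
      have hprod : (algebraMap A₀ S (s₁ * r₂) * y - algebraMap A₀ S (r₁ * s₂)) * ι (h ^ n) ∈
          𝔫.map ι := by
        have e : (algebraMap A₀ S (s₁ * r₂) * y - algebraMap A₀ S (r₁ * s₂)) * ι (h ^ n) =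
            ι (algebraMap A₀ A₁ (s₁ * r₂) * a - algebraMap A₀ A₁ (r₁ * s₂) * h ^ n) := by
          rw [IsScalarTower.algebraMap_apply A₀ A₁ S, IsScalarTower.algebraMap_apply A₀ A₁ S,
            map_sub, ι.map_mul, ι.map_mul, ← hspec]
          ring
        rw [e]
        exact Ideal.mem_map_of_mem _ hnum
      rcases Ideal.IsPrime.mem_or_mem hpr hprod with h4 | h4
      · exact h4
      · exact absurd ((hmemι _).mp h4) hhn
  · intro x hx
    have hle : 𝔫.map ι ≤ ((maximalIdeal O).map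
        (algebraMap O (AdicCompletion (maximalIdeal O) O))).comap ψ' := by
      rw [Ideal.map_le_iff_le_comap]
      intro a ha
      rw [Ideal.mem_comap, Ideal.mem_comap, hψ']
      exact P.h𝔫ψ a ha
    exact hle hx
  · rw [← Ideal.comap_comap, hcm, P.hgcomap]
  · intro β
    rw [RingHom.comp_apply, hψ']
    exact P.hcong β

end

end Groth.Agent.Helper2.EtApx
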