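import Mathlib
import Groth.Agent.Helper2.EtApxD
import Groth.Agent.Helper2.EtApxL

set_option autoImplicit false
set_option linter.style.haveILetI false
set_option linter.unusedSectionVars false

namespace Groth.Agent.Helper2.EtApx

open IsLocalRing

universe u

set_option maxHeartbeats 1600000 in
/-- the algebraic package in the isomorphism case: both maps are étale with trivial residue
field extensions. -/
theorem alg_package_iso {R₀ A₀ B : Type u} [CommRing R₀] [CommRing A₀] [CommRing B]
    [IsNoetherianRing R₀] (φX : R₀ →+* A₀) (hftX : φX.FiniteType)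
    (φY : R₀ →+* B) (hft : φY.FiniteType)
    (pX : Ideal A₀) [pX.IsPrime]
    (O : Type u) [CommRing O] [IsLocalRing O] [Algebra A₀ O] [IsLocalization.AtPrime O pX]
    (hG : CAlg.IsGRing O)
    (pY : Ideal B) [pY.IsPrime]
    (OY : Type u) [CommRing OY] [IsLocalRing OY] [Algebra B OY] [IsLocalization.AtPrime OY pY]
    (Φ : AdicCompletion (maximalIdeal OY) OY ≃+* AdicCompletion (maximalIdeal O) O)
    (KC : ∀ r : R₀, phiOf Φ (algebraMap B OY (φY r)) =
      algebraMap O (AdicCompletion (maximalIdeal O) O) (algebraMap A₀ O (φX r)))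
    (N : ℕ) :
    ∃ (A₁ : Type u) (_ : CommRing A₁) (_ : Algebra A₀ A₁), Algebra.Etale A₀ A₁ ∧
      ∃ (g : B →+* A₁) (ψ : A₁ →+* AdicCompletion (maximalIdeal O) O) (𝔫 : Ideal A₁), 𝔫.IsPrime ∧
        g.Etale ∧ (∀ r : R₀, g (φY r) = algebraMap A₀ A₁ (φX r)) ∧
        (∀ x : A₁, ∃ r s : B, s ∉ pY ∧ g s * x - g r ∈ 𝔫) ∧
        Pkg pX O pY OY (phiOf Φ) A₁ g ψ 𝔫 N := by
  classical
  haveI : IsNoetherianRing O := hG.1
  haveI : IsNoetherianRing B := by
    letI := φY.toAlgebra
    haveI : Algebra.FiniteType R₀ B := hft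
    exact Algebra.FiniteType.isNoetherianRing R₀ B
  haveI : IsNoetherianRing A₀ := by
    letI := φX.toAlgebra
    haveI : Algebra.FiniteType R₀ A₀ := hftX
    exact Algebra.FiniteType.isNoetherianRing R₀ A₀
  haveI : IsNoetherianRing OY := IsLocalization.isNoetherianRing pY.primeCompl OY inferInstance
  set N' := max N 2 with hN'
  have hloc : ∀ b ∈ maximalIdeal OY, phiOf Φ b ∈ (maximalIdeal O).map
      (algebraMap O (AdicCompletion (maximalIdeal O) O)) := by
    intro b hb
    have := Φ_mem_pow O OY Φ 1 (algebraMap OY _ b)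
      (by rw [pow_one]; exact Ideal.mem_map_of_mem _ hb)
    rwa [pow_one] at this
  obtain ⟨A₁, _, _, hEt, g, ψ, 𝔫, h𝔫p, hgφY, hψ, hcomap, hres, h𝔫ψ, hgcomap, hcong⟩ :=
    alg_package φX φY hft pX O hG pY OY (phiOf Φ) KC hloc N' (by omega)
  haveI := h𝔫p
  haveI := hEt
  have P : Pkg pX O pY OY (phiOf Φ) A₁ g ψ 𝔫 N' := ⟨hψ, hcomap, hres, h𝔫ψ, hgcomap, hcong⟩
  haveI : IsNoetherianRing A₁ := Algebra.FiniteType.isNoetherianRing A₀ A₁
  have hg : g.FiniteType := by
    have h1 : ((algebraMap A₀ A₁).comp φX).FiniteType :=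
      RingHom.FiniteType.comp (RingHom.finiteType_algebraMap.mpr inferInstance) hftX
    have h2 : g.comp φY = (algebraMap A₀ A₁).comp φX := RingHom.ext hgφY
    rw [← h2] at h1
    exact RingHom.FiniteType.of_comp_finiteType h1
  obtain ⟨h, hh, hEtB⟩ := P.exists_etale_away Φ (le_max_right _ _) hg
  obtain ⟨ψ', P'⟩ := P.away h hh
  haveI hpr' : (𝔫.map (algebraMap A₁ (Localization.Away h))).IsPrime := isPrime_map_away h hh
  haveI : Algebra.Etale A₁ (Localization.Away h) := Algebra.Etale.of_isLocalizationAway h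
  haveI hEt' : Algebra.Etale A₀ (Localization.Away h) :=
    Algebra.Etale.comp A₀ A₁ (Localization.Away h)
  refine ⟨Localization.Away h, inferInstance, inferInstance, hEt',
    (algebraMap A₁ (Localization.Away h)).comp g, ψ', 𝔫.map (algebraMap A₁ (Localization.Away h)),
    hpr', ?_, ?_, ?_, P'.mono (le_max_left _ _)⟩
  · letI : Algebra B A₁ := g.toAlgebra
    have h1 : (algebraMap B (Localization.Away h)).Etale := RingHom.etale_algebraMap.mpr hEtB
    exact h1
  · intro r
    rw [RingHom.comp_apply, hgφY, ← IsScalarTower.algebraMap_apply]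
  · intro x
    exact P'.resY Φ (le_trans (by norm_num) (le_max_right N 2)) x

end Groth.Agent.Helper2.EtApx
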