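import Mathlib
import Groth.Agent.Helper5.UnrGu4
import Groth.Agent.Helper4.SchemeSD2

/-! S1452: étaleness of both factors from étaleness of the composite over a geometrically
unibranch point. -/

namespace Groth.Agent.Helper2.EtComp1

open AlgebraicGeometry CategoryTheory

universe u

/-- restriction of an "étale near x" datum to a smaller open. -/
theorem etale_restrict {X Y : Scheme.{u}} (f : X ⟶ Y) {U U' : X.Opens} (h : U' ≤ U)
    (hU : Etale (U.ι ≫ f)) : Etale (U'.ι ≫ f) := by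
  rw [← X.homOfLE_ι h, Category.assoc]
  exact MorphismProperty.comp_mem _ _ _ (inferInstance : Etale (X.homOfLE h)) hU

theorem part1 {X Y Z : Scheme.{u}} (f : X ⟶ Y) (g : Y ⟶ Z) [IsIntegral Y] (x : X)
    (hY : CAlg2.IsGeomUnibranch (Y.presheaf.stalk (f x)))
    (het : ∃ U : X.Opens, x ∈ U ∧ Etale (U.ι ≫ f ≫ g))
    (hsp : ∃ x' : X, x' ⤳ x ∧ f x' = genericPoint ↑Y) :
    ∃ U : X.Opens, x ∈ U ∧ Etale (U.ι ≫ f) ∧ Etale (U.ι ≫ f ≫ g) := by
  obtain ⟨U, hxU, hU⟩ := het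
  obtain ⟨x', hx'x, hx'⟩ := hsp
  have hx'U : x' ∈ U := hx'x.mem_open U.isOpen hxU
  have h1 : LocallyOfFiniteType ((U.ι ≫ f) ≫ g) := by
    rw [Category.assoc]; infer_instance
  haveI : LocallyOfFiniteType (U.ι ≫ f) := locallyOfFiniteType_of_comp (U.ι ≫ f) g
  have h2 : FormallyUnramified ((U.ι ≫ f) ≫ g) := by
    rw [Category.assoc]; infer_instance
  have h3 : FormallyUnramified (U.ι ≫ f) := FormallyUnramified.of_comp (U.ι ≫ f) g
  let xU : (U : Scheme.{u}) := ⟨x, hxU⟩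
  let xU' : (U : Scheme.{u}) := ⟨x', hx'U⟩
  have hxU_eq : (U.ι ≫ f) xU = f x := rfl
  obtain ⟨W, hxW, hW⟩ := Groth.Agent.Helper5.UnrGu.s1451 (U.ι ≫ f) xU hY
    ⟨xU', by
      refine (U.ι.isOpenEmbedding.isInducing.specializes_iff).1 ?_
      exact hx'x, hx'⟩
    ⟨⊤, trivial, by
      have : FormallyUnramified ((⊤ : (U : Scheme.{u}).Opens).ι) := inferInstance
      exact MorphismProperty.comp_mem _ _ _ this h3⟩
  refine ⟨U.ι ''ᵁ W, ⟨xU, hxW, rfl⟩, ?_, ?_⟩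
  · have e : (U.ι ''ᵁ W).ι ≫ f = (U.ι.isoImage W).inv ≫ (W.ι ≫ U.ι ≫ f) := by
      rw [← Scheme.Hom.isoImage_inv_ι U.ι W]
      simp only [Category.assoc]
    rw [e]
    exact MorphismProperty.comp_mem _ _ _ (inferInstance : Etale (U.ι.isoImage W).inv) hW
  · exact etale_restrict (f ≫ g) (U.ι_image_le W) hU

end Groth.Agent.Helper2.EtComp1

namespace Groth.Agent.Helper2.EtComp1

open AlgebraicGeometry CategoryTheory

universe u

theorem part2 {X Y Z : Scheme.{u}} (f : X ⟶ Y) (g : Y ⟶ Z) (x : X) (U : X.Opens) (hxU : x ∈ U)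
    (h1 : Etale (U.ι ≫ f)) (h2 : Etale (U.ι ≫ f ≫ g)) :
    ∃ V : Y.Opens, f x ∈ V ∧ Etale (V.ι ≫ g) := by
  have hopen : IsOpen (Set.range (U.ι ≫ f).base) := (U.ι ≫ f).isOpenMap.isOpen_range
  let V : Y.Opens := ⟨Set.range (U.ι ≫ f).base, hopen⟩
  have hsub : Set.range (U.ι ≫ f).base ⊆ Set.range V.ι.base := by
    rw [Scheme.Opens.range_ι]
    exact subset_rfl
  let e : (U : Scheme.{u}) ⟶ (V : Scheme.{u}) := IsOpenImmersion.lift V.ι (U.ι ≫ f) hsub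
  have hfac : e ≫ V.ι = U.ι ≫ f := IsOpenImmersion.lift_fac _ _ _
  haveI he : Etale e := by
    have h1' : Etale (e ≫ V.ι) := by rw [hfac]; exact h1
    exact MorphismProperty.of_postcomp (W := @Etale) (W' := @Etale) e V.ι inferInstance h1'
  haveI hs : Surjective e := by
    constructor
    intro v
    have hv : V.ι.base v ∈ Set.range (U.ι ≫ f).base := v.2
    obtain ⟨u, hu⟩ := hv
    refine ⟨u, ?_⟩
    apply V.ι.isOpenEmbedding.injective
    rw [← hu, ← hfac]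
    rfl
  haveI : Etale (e ≫ V.ι ≫ g) := by
    rw [← Category.assoc, hfac, Category.assoc]; exact h2
  exact ⟨V, ⟨⟨x, hxU⟩, rfl⟩, Groth.Agent.Helper4.SchemeSD.etale_of_comp_etale_surjective e (V.ι ≫ g)⟩

theorem s1452 {X Y Z : Scheme.{u}} (f : X ⟶ Y) (g : Y ⟶ Z) [IsIntegral Y] (x : X)
    (hY : CAlg2.IsGeomUnibranch (Y.presheaf.stalk (f x)))
    (het : ∃ U : X.Opens, x ∈ U ∧ Etale (U.ι ≫ f ≫ g))
    (hsp : ∃ x' : X, x' ⤳ x ∧ f x' = genericPoint ↑Y) :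
    (∃ U : X.Opens, x ∈ U ∧ Etale (U.ι ≫ f)) ∧ ∃ V : Y.Opens, f x ∈ V ∧ Etale (V.ι ≫ g) := by
  obtain ⟨U, hxU, h1, h2⟩ := part1 f g x hY het hsp
  exact ⟨⟨U, hxU, h1⟩, part2 f g x U hxU h1 h2⟩

end Groth.Agent.Helper2.EtComp1
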