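import Mathlib
import Groth.Prelude
import Groth.Agent.Helper2.ComplCofinal
import Groth.Agent.Helper1.EtRed

set_option autoImplicit false

namespace Groth.Agent.Helper2.EtCplRed

open IsLocalRing AdicCompletion

universe u

section Unram

variable (R S R' S' : Type u) [CommRing R] [CommRing S] [CommRing R'] [CommRing S']
  [Algebra R S] [Algebra R R'] [Algebra R' S'] [Algebra S S'] [Algebra R S']
  [IsScalarTower R R' S'] [IsScalarTower R S S']

/-- If `S/R` is unramified, `S → S'` is surjective modulo an ideal `J S'` contained in the Jacobson
radical and `Ω[S'/R']` is finite, then `S'/R'` is unramified. -/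
theorem formallyUnramified_of_dense [Algebra.FormallyUnramified R S]
    (J : Ideal S) (hJ : J.map (algebraMap S S') ≤ (⊥ : Ideal S').jacobson)
    (hsurj : ∀ x : S', ∃ s : S, x - algebraMap S S' s ∈ J.map (algebraMap S S'))
    [Module.Finite S' (Ω[S'⁄R'])] : Algebra.FormallyUnramified R' S' := by
  constructor
  have hD0 : ∀ s : S, KaehlerDifferential.D R' S' (algebraMap S S' s) = 0 := fun s => by
    rw [← KaehlerDifferential.map_D R R' S S', Subsingleton.elim (KaehlerDifferential.D R S s) 0,
      _root_.map_zero]
  set I := J.map (algebraMap S S') with hI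
  have hI' : ∀ y ∈ I, KaehlerDifferential.D R' S' y ∈ (I • ⊤ : Submodule S' (Ω[S'⁄R'])) := by
    intro y hy
    rw [hI, Ideal.map] at hy
    induction hy using Submodule.span_induction with
    | zero => simp
    | mem x h =>
      obtain ⟨j, _, rfl⟩ := h
      rw [hD0]; exact Submodule.zero_mem _
    | add x y _ _ hx hy => rw [map_add]; exact Submodule.add_mem _ hx hy
    | smul a x hx h =>
      rw [smul_eq_mul, Derivation.leibniz]
      refine Submodule.add_mem _ (Submodule.smul_mem _ _ h) ?_
      exact Submodule.smul_mem_smul hx Submodule.mem_top
  have htop : (⊤ : Submodule S' (Ω[S'⁄R'])) ≤ I • ⊤ := by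
    have hsp := KaehlerDifferential.span_range_derivation R' S'
    intro ω _
    have hω : ω ∈ Submodule.span S' (Set.range (KaehlerDifferential.D R' S')) := by
      rw [hsp]; exact Submodule.mem_top
    refine Submodule.span_le.mpr ?_ hω
    rintro _ ⟨x, rfl⟩
    obtain ⟨s, hs⟩ := hsurj x
    have : KaehlerDifferential.D R' S' x =
        KaehlerDifferential.D R' S' (x - algebraMap S S' s) := by
      rw [map_sub, hD0, sub_zero]
    rw [SetLike.mem_coe, this]
    exact hI' _ hs
  have hbot := Submodule.eq_bot_of_le_smul_of_le_jacobson_bot I ⊤ Module.Finite.fg_top htop hJ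
  exact (Submodule.subsingleton_iff S').mp (subsingleton_of_bot_eq_top hbot.symm)

end Unram

section Main

variable (A C : Type u) [CommRing A] [IsLocalRing A] [IsNoetherianRing A] [CommRing C] [Algebra A C]
  [Algebra.FiniteType A C] (q : Ideal C) [q.IsPrime]

theorem isLocalHom_of_comap (hq : Ideal.comap (algebraMap A C) q = maximalIdeal A) :
    IsLocalHom (algebraMap A (Localization.AtPrime q)) := by
  constructor
  intro a ha
  rw [IsScalarTower.algebraMap_apply A C (Localization.AtPrime q),
    IsLocalization.AtPrime.isUnit_to_map_iff (Localization.AtPrime q) q] at ha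
  by_contra hu
  have : a ∈ maximalIdeal A := (mem_maximalIdeal a).mpr hu
  rw [← hq] at this
  exact ha this

theorem flat_of_isEtaleAt (hC : Algebra.IsEtaleAt A q) :
    Module.Flat A (Localization.AtPrime q) := by
  haveI : Algebra.FinitePresentation A C :=
    Algebra.FinitePresentation.of_finiteType.mp inferInstance
  haveI : Algebra.IsEtaleAt A q := hC
  obtain ⟨f, hf, het⟩ := Algebra.exists_etale_of_isEtaleAt (R := A) q
  have hle : Submonoid.powers f ≤ q.primeCompl := by
    rw [Submonoid.powers_le]; exact hf
  letI : Algebra (Localization.Away f) (Localization.AtPrime q) :=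
    IsLocalization.localizationAlgebraOfSubmonoidLe _ _ (Submonoid.powers f) q.primeCompl hle
  haveI : IsScalarTower C (Localization.Away f) (Localization.AtPrime q) :=
    IsLocalization.localization_isScalarTower_of_submonoid_le _ _ (Submonoid.powers f)
      q.primeCompl hle
  haveI : IsLocalization (q.primeCompl.map (algebraMap C (Localization.Away f)))
      (Localization.AtPrime q) :=
    IsLocalization.isLocalization_of_submonoid_le _ _ (Submonoid.powers f) q.primeCompl hle
  haveI : Module.Flat (Localization.Away f) (Localization.AtPrime q) :=
    IsLocalization.flat _ (q.primeCompl.map (algebraMap C (Localization.Away f)))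
  haveI : IsScalarTower A (Localization.Away f) (Localization.AtPrime q) :=
    IsScalarTower.of_algebraMap_eq fun a => by
      rw [IsScalarTower.algebraMap_apply A C (Localization.AtPrime q),
        IsScalarTower.algebraMap_apply C (Localization.Away f) (Localization.AtPrime q),
        ← IsScalarTower.algebraMap_apply A C (Localization.Away f)]
  exact Module.Flat.trans A (Localization.Away f) (Localization.AtPrime q)

theorem main (hq : Ideal.comap (algebraMap A C) q = maximalIdeal A) (hC : Algebra.IsEtaleAt A q)
    (hA : IsReduced (AdicCompletion (maximalIdeal A) A)) :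
    IsReduced (AdicCompletion (maximalIdeal (Localization.AtPrime q)) (Localization.AtPrime q)) ∧
      IsReduced (Localization.AtPrime q) := by
  haveI : IsNoetherianRing C := Algebra.FiniteType.isNoetherianRing A C
  haveI : IsNoetherianRing (Localization.AtPrime q) :=
    IsLocalization.isNoetherianRing q.primeCompl _ inferInstance
  haveI : Algebra.FormallyEtale A (Localization.AtPrime q) := hC
  haveI : Algebra.EssFiniteType C (Localization.AtPrime q) :=
    Algebra.EssFiniteType.of_isLocalization _ q.primeCompl
  haveI : Algebra.EssFiniteType A (Localization.AtPrime q) :=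
    Algebra.EssFiniteType.comp A C _
  haveI hloc : IsLocalHom (algebraMap A (Localization.AtPrime q)) := isLocalHom_of_comap A C q hq
  have hle : (maximalIdeal A).map (algebraMap A (Localization.AtPrime q)) ≤
      maximalIdeal (Localization.AtPrime q) :=
    ((local_hom_TFAE (algebraMap A (Localization.AtPrime q))).out 0 2 rfl rfl).mp hloc
  haveI : Module.Flat A (Localization.AtPrime q) := flat_of_isEtaleAt A C q hC
  have hfib : Module.Finite (maximalIdeal A).ResidueField
      ((maximalIdeal A).Fiber (Localization.AtPrime q)) :=
    Algebra.FormallyUnramified.finite_of_free _ _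
  have hle' : ((maximalIdeal A).map (algebraMap A (Localization.AtPrime q))).map
      (RingHom.id (Localization.AtPrime q)) ≤ maximalIdeal (Localization.AtPrime q) := by
    rwa [Ideal.map_id]
  have fgA : (maximalIdeal A).FG := (maximalIdeal A).fg_of_isNoetherianRing
  have fgB : (maximalIdeal (Localization.AtPrime q)).FG :=
    (maximalIdeal (Localization.AtPrime q)).fg_of_isNoetherianRing
  obtain ⟨-, hfin⟩ := ComplCofinal.s9138 A (Localization.AtPrime q) fgA fgB hfib hle hle'
  set φ := FSch.complMap (maximalIdeal A) (maximalIdeal (Localization.AtPrime q))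
    (algebraMap A (Localization.AtPrime q)) hle with hφ
  have hφι : φ.comp (algebraMap A (AdicCompletion (maximalIdeal A) A)) =
      (algebraMap (Localization.AtPrime q)
        (AdicCompletion (maximalIdeal (Localization.AtPrime q)) (Localization.AtPrime q))).comp
        (algebraMap A (Localization.AtPrime q)) :=
    RingHom.ext fun r => ComplCofinal.complMap_algebraMap _ _ _ hle r
  have hflat : φ.Flat :=
    ComplLocFlat.flat_completion_map A (Localization.AtPrime q) (maximalIdeal A)
      (maximalIdeal (Localization.AtPrime q)) φ hφι hle
  letI : Algebra (AdicCompletion (maximalIdeal A) A)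
      (AdicCompletion (maximalIdeal (Localization.AtPrime q)) (Localization.AtPrime q)) :=
    φ.toAlgebra
  haveI : Module.Finite (AdicCompletion (maximalIdeal A) A)
      (AdicCompletion (maximalIdeal (Localization.AtPrime q)) (Localization.AtPrime q)) := hfin
  haveI : Module.Flat (AdicCompletion (maximalIdeal A) A)
      (AdicCompletion (maximalIdeal (Localization.AtPrime q)) (Localization.AtPrime q)) := hflat
  haveI : IsScalarTower A (AdicCompletion (maximalIdeal A) A)
      (AdicCompletion (maximalIdeal (Localization.AtPrime q)) (Localization.AtPrime q)) :=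
    IsScalarTower.of_algebraMap_eq' (by
      rw [RingHom.algebraMap_toAlgebra, hφι]; rfl)
  haveI : IsScalarTower A (Localization.AtPrime q)
      (AdicCompletion (maximalIdeal (Localization.AtPrime q)) (Localization.AtPrime q)) :=
    IsScalarTower.of_algebraMap_eq' rfl
  haveI := AdicCompletion.isAdicComplete_self (maximalIdeal (Localization.AtPrime q)) fgB
  haveI : IsNoetherianRing (AdicCompletion (maximalIdeal A) A) :=
    Groth.Agent.S0543.result A (maximalIdeal A)
  haveI : Algebra.FormallyUnramified (AdicCompletion (maximalIdeal A) A)
      (AdicCompletion (maximalIdeal (Localization.AtPrime q)) (Localization.AtPrime q)) :=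
    formallyUnramified_of_dense A (Localization.AtPrime q) (AdicCompletion (maximalIdeal A) A)
      (AdicCompletion (maximalIdeal (Localization.AtPrime q)) (Localization.AtPrime q))
      (maximalIdeal (Localization.AtPrime q))
      (IsAdicComplete.le_jacobson_bot _)
      (fun x => by
        obtain ⟨a, ha⟩ := ComplLocFlat.exists_sub_mem (maximalIdeal (Localization.AtPrime q)) fgB 1 x
        rw [pow_one] at ha
        exact ⟨a, ha⟩)
  haveI : Algebra.FinitePresentation (AdicCompletion (maximalIdeal A) A)
      (AdicCompletion (maximalIdeal (Localization.AtPrime q)) (Localization.AtPrime q)) :=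
    Algebra.FinitePresentation.of_finiteType.mp inferInstance
  haveI : Algebra.Etale (AdicCompletion (maximalIdeal A) A)
      (AdicCompletion (maximalIdeal (Localization.AtPrime q)) (Localization.AtPrime q)) :=
    Algebra.Etale.of_formallyUnramified_of_flat
  haveI := hA
  have hred : IsReduced
      (AdicCompletion (maximalIdeal (Localization.AtPrime q)) (Localization.AtPrime q)) :=
    Groth.Agent.Helper1.EtRed.isReduced_of_etale (AdicCompletion (maximalIdeal A) A) _
  refine ⟨hred, ?_⟩
  have hinj : Function.Injective (algebraMap (Localization.AtPrime q)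
      (AdicCompletion (maximalIdeal (Localization.AtPrime q)) (Localization.AtPrime q))) :=
    AdicCompletion.of_injective (maximalIdeal (Localization.AtPrime q)) (Localization.AtPrime q)
  exact isReduced_of_injective _ hinj

end Main

end Groth.Agent.Helper2.EtCplRed
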