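import Mathlib
import Groth.Prelude
import Groth.Agent.Helper5.SmNorm2

set_option autoImplicit false
set_option linter.style.haveILetI false
set_option linter.unusedSectionVars false

/-! Maps from an étale algebra over a normal domain to a field -/

universe u

namespace Groth.Agent.Helper2.EtFld

open TensorProduct Polynomial

section

variable (P T Ω : Type u) [CommRing P] [IsDomain P] [IsIntegrallyClosed P] [CommRing T]
  [Algebra P T] [Algebra.Etale P T] [Field Ω] [Algebra P Ω]

attribute [local instance] FractionRing.liftAlgebra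

theorem exists_idem_of_etale_to_field (hinj : Function.Injective (algebraMap P Ω))
    (ν : T →ₐ[P] Ω) :
    ∃ ε : T, IsIdempotentElem ε ∧ ν ε = 1 ∧ (∀ x, ν x = 0 ↔ ε * x = 0) ∧
      ∀ z : Ω, IsIntegral P z → z ∈ Subfield.closure (Set.range ν) → ∃ t, ν t = z := by
  classical
  haveI : FaithfulSMul P Ω := (faithfulSMul_iff_algebraMap_injective P Ω).2 hinj
  let F := FractionRing P
  obtain ⟨I, hI, L, hL, hLalg, Φ, -⟩ :=
    (Algebra.FormallyEtale.iff_exists_algEquiv_prod F (F ⊗[P] T)).1 inferInstance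
  haveI : Fintype I := Fintype.ofFinite I
  let ι₀ : T →ₐ[P] F ⊗[P] T := Algebra.TensorProduct.includeRight
  let ι : T →+* (∀ i, L i) := (Φ : F ⊗[P] T →+* (∀ i, L i)).comp ι₀.toRingHom
  have hι₀ : Function.Injective ι₀ :=
    Algebra.TensorProduct.includeRight_injective (IsFractionRing.injective P F)
  have hι : Function.Injective ι := Φ.injective.comp hι₀
  -- integrally closed
  have hic : ∀ z : (∀ i, L i), ι.IsIntegralElem z → ∃ t, ι t = z := by
    intro z hz
    have hz' : ι₀.toRingHom.IsIntegralElem (Φ.symm z) := by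
      obtain ⟨g, hg, hgz⟩ := hz
      refine ⟨g, hg, ?_⟩
      apply Φ.injective
      rw [map_zero]
      have := Polynomial.hom_eval₂ g ι₀.toRingHom (Φ : F ⊗[P] T →+* (∀ i, L i)) (Φ.symm z)
      simp only [RingHom.coe_coe, AlgEquiv.apply_symm_apply] at this
      rw [this]
      exact hgz
    obtain ⟨t, ht⟩ := Groth.Agent.Helper5.SmNorm.exists_of_isIntegral P T F (Φ.symm z) hz'
    refine ⟨t, ?_⟩
    show Φ (ι₀ t) = z
    rw [ht, AlgEquiv.apply_symm_apply]
  -- the map to Ω
  let νF : F ⊗[P] T →ₐ[F] Ω :=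
    Algebra.TensorProduct.lift (Algebra.ofId F Ω) ν (fun _ _ => Commute.all _ _)
  have hνF : ∀ t : T, νF (ι₀ t) = ν t := by
    intro t
    simp [νF, ι₀]
  let ψ : (∀ i, L i) →+* Ω := (νF : F ⊗[P] T →+* Ω).comp (Φ.symm : (∀ i, L i) →+* F ⊗[P] T)
  have hψι : ∀ t : T, ψ (ι t) = ν t := by
    intro t
    show νF (Φ.symm (Φ (ι₀ t))) = ν t
    rw [AlgEquiv.symm_apply_apply, hνF]
  -- the distinguished index
  have hsum : ∑ i, ψ (Pi.single i 1) = 1 := by
    have h1 := Finset.univ_sum_single (1 : ∀ i, L i)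
    simp only [Pi.one_apply] at h1
    rw [← map_sum, h1, map_one]
  have hidem : ∀ i, ψ (Pi.single i 1) = 0 ∨ ψ (Pi.single i 1) = 1 := by
    intro i
    have h1 : ψ (Pi.single i 1) * ψ (Pi.single i 1) = ψ (Pi.single i 1) := by
      rw [← map_mul, ← Pi.single_mul, one_mul]
    rcases eq_or_ne (ψ (Pi.single i 1)) 0 with h | h
    · exact Or.inl h
    · right
      exact mul_left_cancel₀ h (h1.trans (mul_one _).symm)
  obtain ⟨j, hj⟩ : ∃ j, ψ (Pi.single j 1) = 1 := by
    by_contra hcon
    push_neg at hcon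
    have h0 : ∀ i, ψ (Pi.single i 1) = 0 := fun i => (hidem i).resolve_right (hcon i)
    rw [Finset.sum_eq_zero (fun i _ => h0 i)] at hsum
    exact zero_ne_one hsum
  have hψj : ∀ z : (∀ i, L i), ψ z = ψ (Pi.single j (z j)) := by
    intro z
    have h1 : z * Pi.single j 1 = Pi.single j (z j) := by
      funext k
      by_cases hk : k = j
      · subst hk; simp
      · simp [Pi.single_eq_of_ne hk]
    rw [← h1, map_mul, hj, mul_one]
  let ψj : L j →+* Ω :=
    { toFun := fun y => ψ (Pi.single j y)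
      map_one' := hj
      map_mul' := fun x y => by rw [← map_mul, ← Pi.single_mul]
      map_zero' := by rw [Pi.single_zero, map_zero]
      map_add' := fun x y => by rw [← map_add, ← Pi.single_add] }
  have hψj' : ∀ z : (∀ i, L i), ψ z = ψj (z j) := hψj
  have hψjinj : Function.Injective ψj := ψj.injective
  -- the idempotent
  have hεint : ι.IsIntegralElem (Pi.single j (1 : L j)) := by
    refine ⟨X * (X - C 1), monic_X.mul (monic_X_sub_C 1), ?_⟩
    rw [eval₂_mul, eval₂_sub, eval₂_X, eval₂_C, map_one, mul_sub, mul_one, ← Pi.single_mul,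
      one_mul, sub_self]
  obtain ⟨ε, hε⟩ := hic _ hεint
  have hεidem : IsIdempotentElem ε := by
    apply hι
    rw [map_mul, hε, ← Pi.single_mul, one_mul]
  have hνε : ν ε = 1 := by
    rw [← hψι, hε, hj]
  have hker : ∀ x, ν x = 0 ↔ ε * x = 0 := by
    intro x
    constructor
    · intro hx
      apply hι
      rw [map_mul, map_zero, hε]
      have h1 : ψj ((ι x) j) = 0 := by rw [← hψj', hψι, hx]
      have h2 : (ι x) j = 0 := hψjinj (h1.trans (map_zero ψj).symm)
      funext k
      by_cases hk : k = j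
      · subst hk; simp [h2]
      · simp [Pi.single_eq_of_ne hk]
    · intro hx
      have h1 := congrArg ν hx
      rw [map_mul, hνε, one_mul, map_zero] at h1
      exact h1
  refine ⟨ε, hεidem, hνε, hker, ?_⟩
  -- integral elements
  intro z hz hzcl
  have hrange : Subfield.closure (Set.range ν) ≤ ψj.fieldRange := by
    rw [Subfield.closure_le]
    rintro _ ⟨t, rfl⟩
    exact ⟨(ι t) j, by rw [← hψj', hψι]⟩
  obtain ⟨y, hy⟩ := hrange hzcl
  have hyint : ((Pi.evalRingHom L j).comp ι).IsIntegralElem y := by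
    obtain ⟨g, hg, hgz⟩ := hz
    refine ⟨g.map (algebraMap P T), hg.map _, ?_⟩
    apply hψjinj
    rw [map_zero, Polynomial.hom_eval₂, eval₂_map, hy]
    have h1 : (ψj.comp ((Pi.evalRingHom L j).comp ι)).comp (algebraMap P T) = algebraMap P Ω := by
      ext p
      simp only [RingHom.comp_apply, Pi.evalRingHom_apply]
      rw [← hψj', hψι, AlgHom.commutes]
    rw [h1]
    exact hgz
  obtain ⟨t, ht⟩ := hic _ (Groth.Agent.Helper5.SmNorm.isIntegralElem_single L ι j y hyint)
  refine ⟨t, ?_⟩
  rw [← hψι, ht, ← hy]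
  rfl

end

end Groth.Agent.Helper2.EtFld
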