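import Mathlib
import Groth.Prelude
import Groth.Agent.Helper2.EtFld1

set_option autoImplicit false
set_option linter.style.haveILetI false
set_option linter.unusedSectionVars false

/-! S5065 -/

universe u

namespace Groth.Agent.Helper2.EtFld

open TensorProduct Polynomial

theorem s5065 (A A' L L₁ : Type u) [CommRing A] [IsDomain A]
    [IsIntegrallyClosed A] [CommRing A'] [IsDomain A'] [IsIntegrallyClosed A'] [Algebra A A']
    [Field L] [Algebra A L] [Algebra.IsAlgebraic A L] (hinj : Function.Injective (algebraMap A L))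
    [Algebra.Etale A ↥(integralClosure A L)]
    [Field L₁] [Algebra A' L₁] [Algebra L L₁] [Algebra A L₁] [IsScalarTower A A' L₁]
    [IsScalarTower A L L₁]
    (hinj' : Function.Injective (algebraMap A' L₁))
    (hgen : Subfield.closure (Set.range (algebraMap A' L₁) ∪ Set.range (algebraMap L L₁)) = ⊤) :
    Algebra.Etale A' ↥(integralClosure A' L₁) ∧
      integralClosure A' L₁ =
        Algebra.adjoin A' ((algebraMap L L₁) '' {x : L | IsIntegral A x}) := by
  classical
  let C := integralClosure A L
  let g : C →ₐ[A] L₁ := (IsScalarTower.toAlgHom A L L₁).comp C.val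
  let μ : A' ⊗[A] C →ₐ[A'] L₁ :=
    Algebra.TensorProduct.lift (Algebra.ofId A' L₁) g (fun _ _ => Commute.all _ _)
  have hμ : ∀ (a' : A') (c : C), μ (a' ⊗ₜ c) = algebraMap A' L₁ a' * algebraMap L L₁ (c : L) := by
    intro a' c
    simp [μ, g, Algebra.ofId_apply]
  set G : Subalgebra A' L₁ := Algebra.adjoin A' ((algebraMap L L₁) '' {x : L | IsIntegral A x})
    with hG
  have hgenmem : ∀ c : C, algebraMap L L₁ (c : L) ∈ G :=
    fun c => Algebra.subset_adjoin ⟨(c : L), c.2, rfl⟩
  have hμG : ∀ t, μ t ∈ G := by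
    intro t
    induction t using TensorProduct.induction_on with
    | zero => rw [map_zero]; exact Subalgebra.zero_mem _
    | tmul a' c =>
      rw [hμ]
      exact Subalgebra.mul_mem _ (Subalgebra.algebraMap_mem _ a') (hgenmem c)
    | add t₁ t₂ h₁ h₂ => rw [map_add]; exact Subalgebra.add_mem _ h₁ h₂
  have hGint : G ≤ integralClosure A' L₁ := by
    apply Algebra.adjoin_le
    rintro _ ⟨x, hx, rfl⟩
    have h1 : IsIntegral A (algebraMap L L₁ x) :=
      (hx : IsIntegral A x).map (IsScalarTower.toAlgHom A L L₁)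
    exact h1.tower_top
  obtain ⟨ε, hεidem, hμε, hker, hint⟩ := exists_idem_of_etale_to_field A' (A' ⊗[A] C) L₁ hinj' μ
  -- the closure of the range is everything
  have hLL₁ : Function.Injective (algebraMap L L₁) := (algebraMap L L₁).injective
  have hcl : Subfield.closure (Set.range μ) = ⊤ := by
    rw [eq_top_iff, ← hgen, Subfield.closure_le]
    rintro z (⟨a', rfl⟩ | ⟨x, rfl⟩)
    · apply Subfield.subset_closure
      exact ⟨algebraMap A' _ a', μ.commutes a'⟩
    · obtain ⟨a, ha0, ha⟩ := (Algebra.IsAlgebraic.isAlgebraic (R := A) x).exists_integral_multiple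
      have h1 : algebraMap A L₁ a ≠ 0 := by
        rw [IsScalarTower.algebraMap_apply A L L₁]
        intro h
        have h2 := hLL₁ (h.trans (map_zero _).symm)
        exact ha0 (hinj (h2.trans (map_zero _).symm))
      have h2 : algebraMap L L₁ x =
          μ (1 ⊗ₜ (⟨a • x, ha⟩ : C)) * (μ (algebraMap A' _ (algebraMap A A' a)))⁻¹ := by
        rw [hμ, μ.commutes, map_one, one_mul, ← IsScalarTower.algebraMap_apply A A' L₁]
        show _ = algebraMap L L₁ (a • x) * _
        rw [Algebra.smul_def, map_mul, ← IsScalarTower.algebraMap_apply A L L₁, mul_comm,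
          ← mul_assoc, inv_mul_cancel₀ h1, one_mul]
      show algebraMap L L₁ x ∈ _
      rw [h2]
      exact mul_mem (Subfield.subset_closure ⟨_, rfl⟩)
        (inv_mem (Subfield.subset_closure ⟨_, rfl⟩))
  have heq : integralClosure A' L₁ = G := by
    apply le_antisymm _ hGint
    intro z hz
    obtain ⟨t, rfl⟩ := hint z hz (by rw [hcl]; trivial)
    exact hμG t
  refine ⟨?_, heq⟩
  -- étale
  let μ' : A' ⊗[A] C →ₐ[A'] integralClosure A' L₁ :=
    μ.codRestrict (integralClosure A' L₁) (fun t => hGint (hμG t))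
  have hμ' : ∀ t, ((μ' t : integralClosure A' L₁) : L₁) = μ t := fun t => rfl
  have hsurj : Function.Surjective μ' := by
    intro z
    obtain ⟨t, ht⟩ := hint (z : L₁) z.2 (by rw [hcl]; trivial)
    exact ⟨t, Subtype.ext ht⟩
  letI : Algebra (A' ⊗[A] C) (integralClosure A' L₁) := μ'.toRingHom.toAlgebra
  haveI : IsScalarTower A' (A' ⊗[A] C) (integralClosure A' L₁) := IsScalarTower.of_algHom μ'
  haveI : IsLocalization.Away ε (integralClosure A' L₁) := by
    refine IsLocalization.away_of_isIdempotentElem_of_mul hεidem ?_ hsurj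
    intro x y
    show μ' x = μ' y ↔ _
    constructor
    · intro h
      have h1 : μ (x - y) = 0 := by
        rw [map_sub, sub_eq_zero, ← hμ', ← hμ', h]
      have h2 := (hker (x - y)).1 h1
      rw [mul_sub, sub_eq_zero] at h2
      exact h2
    · intro h
      have h1 : μ (x - y) = 0 := (hker (x - y)).2 (by rw [mul_sub, h, sub_self])
      rw [map_sub, sub_eq_zero] at h1
      exact Subtype.ext h1
  haveI : Algebra.Etale (A' ⊗[A] C) (integralClosure A' L₁) :=
    Algebra.Etale.of_isLocalizationAway ε
  exact Algebra.Etale.comp A' (A' ⊗[A] C) (integralClosure A' L₁)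

end Groth.Agent.Helper2.EtFld

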