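import Mathlib
import Groth.Prelude.Def_Pi1X
import Groth.Agent.Helper3.StalkNbhd2
import Groth.Agent.Helper3.StalkTower

set_option autoImplicit false
open CategoryTheory AlgebraicGeometry
universe u

namespace Groth.Agent.Helper2.EtLocus

theorem mem_etaleLocus_iff {X Y : Scheme.{u}} (f : X ⟶ Y) (x : X) :
    x ∈ Pi1X.etaleLocus f ↔ ∃ U : X.Opens, x ∈ U ∧ Etale (U.ι ≫ f) := by
  unfold Pi1X.etaleLocus
  rw [TopologicalSpace.Opens.mem_sSup]
  constructor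
  · rintro ⟨U, hU, hx⟩; exact ⟨U, hx, hU⟩
  · rintro ⟨U, hx, hU⟩; exact ⟨U, hU, hx⟩

theorem stalk_of_etale_nbhd {X Y : Scheme.{u}} (f : X ⟶ Y) (x : X)
    (h : ∃ U : X.Opens, x ∈ U ∧ Etale (U.ι ≫ f)) :
    (f.stalkMap x).hom.Flat ∧ (f.stalkMap x).hom.FormallyUnramified := by
  obtain ⟨U, hx, hU⟩ := h
  constructor
  · rw [← Groth.Agent.Helper3.StalkNbhd.stalkMap_ι_comp_iff RingHom.Flat.respectsIso f U x hx]
    have : Flat (U.ι ≫ f) := inferInstance
    exact (Flat.iff_flat_stalkMap (U.ι ≫ f)).mp this ⟨x, hx⟩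
  · rw [← Groth.Agent.Helper3.StalkNbhd.stalkMap_ι_comp_iff
      RingHom.FormallyUnramified.respectsIso f U x hx]
    have : FormallyUnramified (U.ι ≫ f) := inferInstance
    exact FormallyUnramified.stalkMap (U.ι ≫ f) ⟨x, hx⟩

end Groth.Agent.Helper2.EtLocus
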