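import Mathlib

set_option autoImplicit false
universe u v w

namespace Groth.Agent.Helper2.EtSlice

open KaehlerDifferential Algebra

variable {C : Type v} {B : Type w} [CommRing C] [CommRing B] [Algebra C B]

/-- If `C → B/J` is surjective then the differentials of elements of `J` span `Ω[Bₚ⁄C]`. -/
theorem span_D_eq_top (J : Ideal B)
    (hsurj : Function.Surjective ((Ideal.Quotient.mk J).comp (algebraMap C B)))
    (𝔭 : Ideal B) [𝔭.IsPrime] :
    Submodule.span (Localization.AtPrime 𝔭) (Set.range fun j : J =>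
      D C (Localization.AtPrime 𝔭) (algebraMap B (Localization.AtPrime 𝔭) (j : B))) = ⊤ := by
  rw [_root_.eq_top_iff, ← span_range_map_derivation_of_isLocalization C B
    (Localization.AtPrime 𝔭) 𝔭.primeCompl]
  apply Submodule.span_le.2
  rintro _ ⟨b, rfl⟩
  obtain ⟨c, hc⟩ := hsurj (Ideal.Quotient.mk J b)
  have hmem : b - algebraMap C B c ∈ J := by
    rw [← Ideal.Quotient.eq]
    exact hc.symm
  have : (D C (Localization.AtPrime 𝔭)) (algebraMap B (Localization.AtPrime 𝔭) b) =
      D C (Localization.AtPrime 𝔭) (algebraMap B (Localization.AtPrime 𝔭)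
        ((⟨b - algebraMap C B c, hmem⟩ : J) : B)) := by
    simp only [map_sub]
    rw [← IsScalarTower.algebraMap_apply, Derivation.map_algebraMap, sub_zero]
  rw [SetLike.mem_coe, Function.comp_apply, KaehlerDifferential.map_D, this]
  exact Submodule.subset_span ⟨⟨b - algebraMap C B c, hmem⟩, rfl⟩

set_option backward.isDefEq.respectTransparency.types false in
/-- A basis of `Ω[B_f⁄C]` consisting of differentials of elements of `J`, near a prime. -/
theorem exists_basis_away [Algebra.Smooth C B] (J : Ideal B)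
    (hsurj : Function.Surjective ((Ideal.Quotient.mk J).comp (algebraMap C B)))
    (𝔭 : Ideal B) [𝔭.IsPrime] :
    ∃ (f : B), f ∉ 𝔭 ∧ ∃ (κ : Type w) (_ : Finite κ) (a : κ → J)
      (b : Module.Basis κ (Localization.Away f) Ω[Localization.Away f⁄C]),
      ∀ i, b i = D C (Localization.Away f) (algebraMap B (Localization.Away f) (a i : B)) := by
  obtain ⟨κ, a, b, hb⟩ := Module.exists_basis_of_span_of_flat _ (span_D_eq_top J hsurj 𝔭)
  let e : (κ →₀ B) →ₗ[B] Ω[B⁄C] :=
    Finsupp.linearCombination B fun i : κ ↦ D C B (a i : B)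
  let l₁ : (κ →₀ B) →ₗ[B] (κ →₀ Localization.AtPrime 𝔭) :=
    Finsupp.mapRange.linearMap (Algebra.linearMap B (Localization.AtPrime 𝔭))
  let l₂ : Ω[B⁄C] →ₗ[B] Ω[Localization.AtPrime 𝔭⁄C] := map C C B (Localization.AtPrime 𝔭)
  let eₚ : (κ →₀ Localization.AtPrime 𝔭) →ₗ[Localization.AtPrime 𝔭] Ω[Localization.AtPrime 𝔭⁄C] :=
    IsLocalizedModule.mapExtendScalars 𝔭.primeCompl l₁ l₂ (Localization.AtPrime 𝔭) e
  have : eₚ = b.repr.symm := by
    ext i
    trans IsLocalizedModule.map 𝔭.primeCompl l₁ l₂ e <| l₁ <| Finsupp.single i 1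
    · simp [eₚ, -IsLocalizedModule.map_apply, l₁]
    · simp [l₂, e, hb]
  have heₚ : Function.Bijective eₚ := this ▸ b.repr.symm.bijective
  have : Finite κ := Module.Finite.finite_basis b
  obtain ⟨g, hg, h⟩ := Module.FinitePresentation.exists_notMem_bijective e 𝔭 l₁ l₂ heₚ
  let l₁ₜ : (κ →₀ B) →ₗ[B] (κ →₀ Localization.Away g) :=
    Finsupp.mapRange.linearMap (Algebra.linearMap B _)
  let l₂ₜ : Ω[B⁄C] →ₗ[B] Ω[Localization.Away g⁄C] :=
    map C C B (Localization.Away g)
  rw [← IsLocalizedModule.map_bijective_iff_localizedModuleMap_bijective l₁ₜ l₂ₜ] at h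
  let eₜ' : (κ →₀ Localization.Away g) →ₗ[Localization.Away g] Ω[Localization.Away g⁄C] :=
    IsLocalizedModule.mapExtendScalars (Submonoid.powers g) l₁ₜ l₂ₜ (Localization.Away g) e
  refine ⟨g, hg, κ, this, a, .ofRepr (LinearEquiv.ofBijective eₜ' h).symm, ?_⟩
  intro i
  simp +zetaDelta [IsLocalizedModule.map_linearCombination]

end Groth.Agent.Helper2.EtSlice
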