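import Mathlib

set_option autoImplicit false
universe u v w

namespace Groth.Agent.Helper2.EtSlice

open KaehlerDifferential Algebra TensorProduct

section ext

variable {C : Type v} {A' : Type u} [CommRing C] [CommRing A'] [Algebra C A']
  (E : Algebra.Extension.{w} C A') [Algebra.FormallySmooth C E.Ring]
  {κ : Type*} [Finite κ] (t : κ → E.Ring) (b : Module.Basis κ E.Ring Ω[E.Ring⁄C])

include b in
theorem ext_formallyEtale (hb : ∀ i, b i = D C E.Ring (t i))
    (hker : Ideal.span (Set.range t) = E.ker) :
    Algebra.FormallyEtale C A' := by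
  classical
  have htk : ∀ i, t i ∈ E.ker := fun i => hker ▸ Ideal.subset_span ⟨i, rfl⟩
  let bCS : Module.Basis κ A' E.CotangentSpace := b.baseChange A'
  let l : E.CotangentSpace →ₗ[A'] E.Cotangent :=
    bCS.constr A' fun i => Algebra.Extension.Cotangent.mk ⟨t i, htk i⟩
  have hcc : ∀ i, E.cotangentComplex (Algebra.Extension.Cotangent.mk ⟨t i, htk i⟩) = bCS i := by
    intro i
    rw [Algebra.Extension.cotangentComplex_mk]
    show (1 : A') ⊗ₜ[E.Ring] D C E.Ring (t i) = (b.baseChange A') i
    rw [Module.Basis.baseChange_apply, hb]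
  have hspan : Submodule.span A' (Set.range fun i =>
      Algebra.Extension.Cotangent.mk (P := E) ⟨t i, htk i⟩) = ⊤ :=
    Algebra.Extension.Cotangent.span_eq_top_of_span_eq_ker t hker
  have hl : l ∘ₗ E.cotangentComplex = LinearMap.id := by
    apply LinearMap.ext_on hspan
    rintro _ ⟨i, rfl⟩
    rw [LinearMap.comp_apply, hcc, Module.Basis.constr_basis, LinearMap.id_apply]
  have hfs : Algebra.FormallySmooth C A' := E.formallySmooth_iff_split_injection.2 ⟨l, hl⟩
  have hsub : Subsingleton Ω[A'⁄C] := by
    refine ⟨fun x y => ?_⟩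
    have h0 : ∀ z : Ω[A'⁄C], z = 0 := by
      intro z
      obtain ⟨w', rfl⟩ := E.toKaehler_surjective z
      rw [E.exact_cotangentComplex_toKaehler w']
      have hw : w' ∈ Submodule.span A' (Set.range bCS) := by
        rw [bCS.span_eq]; exact Submodule.mem_top
      have hle : Submodule.span A' (Set.range bCS) ≤ LinearMap.range E.cotangentComplex := by
        apply Submodule.span_le.2
        rintro _ ⟨i, rfl⟩
        exact ⟨_, hcc i⟩
      exact hle hw
    rw [h0 x, h0 y]
  haveI : Algebra.FormallyUnramified C A' := ⟨hsub⟩
  exact Algebra.FormallyEtale.of_formallyUnramified_and_formallySmooth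

end ext

/-- Quotient of a smooth algebra by elements whose differentials form a basis of `Ω` is étale. -/
theorem etale_quotient {C : Type v} {P : Type w} [CommRing C] [CommRing P] [Algebra C P]
    [Algebra.Smooth C P] {κ : Type*} [Finite κ] (t : κ → P) (b : Module.Basis κ P Ω[P⁄C])
    (hb : ∀ i, b i = D C P (t i))
    (A' : Type w) [CommRing A'] [Algebra P A'] [Algebra C A'] [IsScalarTower C P A']
    (hsurj : Function.Surjective (algebraMap P A'))
    (hker : RingHom.ker (algebraMap P A') = Ideal.span (Set.range t)) :
    Algebra.Etale C A' := by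
  haveI : Algebra.FormallyEtale C A' :=
    ext_formallyEtale (C := C) (A' := A')
      { Ring := P, σ := Function.surjInv hsurj, algebraMap_σ := Function.surjInv_eq hsurj }
      t b hb hker.symm
  haveI : Algebra.FinitePresentation C A' :=
    Algebra.FinitePresentation.of_surjective (f := IsScalarTower.toAlgHom C P A') hsurj (by
      show (RingHom.ker (algebraMap P A')).FG
      rw [hker]
      exact Submodule.fg_span (Set.finite_range _))
  exact ⟨inferInstance, inferInstance⟩

end Groth.Agent.Helper2.EtSlice
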