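import Mathlib
import Groth.Agent.Helper2.EtSlice1
import Groth.Agent.Helper2.EtSlice2

set_option autoImplicit false
universe u v w

namespace Groth.Agent.Helper2.EtSlice

open KaehlerDifferential Algebra TensorProduct

theorem main (C : Type v) (B : Type w) [CommRing C] [CommRing B] [Algebra C B]
    [Algebra.Smooth C B] (J : Ideal B)
    (hsurj : Function.Surjective ((Ideal.Quotient.mk J).comp (algebraMap C B)))
    (x : PrimeSpectrum (B ⧸ J)) :
    ∃ f : B, Ideal.Quotient.mk J f ∉ x.asIdeal ∧
      ∃ J₀ : Ideal (Localization.Away f), J₀ ≤ J.map (algebraMap B (Localization.Away f)) ∧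
        ((Ideal.Quotient.mk J₀).comp
          ((algebraMap B (Localization.Away f)).comp (algebraMap C B))).Etale := by
  let 𝔭 : Ideal B := x.asIdeal.comap (Ideal.Quotient.mk J)
  haveI : 𝔭.IsPrime := Ideal.comap_isPrime _ _
  obtain ⟨f, hf, κ, hκ, a, b, hb⟩ := exists_basis_away J hsurj 𝔭
  refine ⟨f, hf, Ideal.span (Set.range fun i => algebraMap B (Localization.Away f) (a i : B)),
    ?_, ?_⟩
  · apply Ideal.span_le.2
    rintro _ ⟨i, rfl⟩
    exact Ideal.mem_map_of_mem _ (a i).2
  · set J₀ := Ideal.span (Set.range fun i => algebraMap B (Localization.Away f) (a i : B))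
      with hJ₀
    haveI : Algebra.Smooth B (Localization.Away f) := Algebra.Smooth.of_isLocalization_Away f
    haveI : Algebra.Smooth C (Localization.Away f) := Algebra.Smooth.comp C B _
    have halg : ((Ideal.Quotient.mk J₀).comp
        ((algebraMap B (Localization.Away f)).comp (algebraMap C B))).toAlgebra =
        (inferInstance : Algebra C (Localization.Away f ⧸ J₀)) := by
      apply Algebra.algebra_ext
      intro c
      show Ideal.Quotient.mk J₀ (algebraMap B (Localization.Away f) (algebraMap C B c)) =
        Ideal.Quotient.mk J₀ (algebraMap C (Localization.Away f) c)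
      rw [← IsScalarTower.algebraMap_apply]
    rw [RingHom.Etale, halg]
    exact etale_quotient (fun i => algebraMap B _ (a i : B)) b hb (Localization.Away f ⧸ J₀)
      Ideal.Quotient.mk_surjective Ideal.mk_ker

end Groth.Agent.Helper2.EtSlice
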