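import Mathlib
import Groth.Agent.Helper2.SmoothTower

namespace Groth.Agent.Helper2.EtaleBasis
open TensorProduct KaehlerDifferential Algebra Groth.Agent.Helper2.SmoothTower

universe u

theorem bijective_iff_basis_image {R M N ι : Type*} [CommRing R] [AddCommGroup M] [Module R M]
    [AddCommGroup N] [Module R N] (b : Module.Basis ι R M) (φ : M →ₗ[R] N) :
    Function.Bijective φ ↔ LinearIndependent R (fun i => φ (b i)) ∧
      Submodule.span R (Set.range fun i => φ (b i)) = ⊤ := by
  constructor
  · rintro ⟨hinj, hsurj⟩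
    refine ⟨b.linearIndependent.map' φ (LinearMap.ker_eq_bot.mpr hinj), ?_⟩
    have : (Set.range fun i => φ (b i)) = φ '' (Set.range b) := by
      rw [← Set.range_comp]; rfl
    rw [this, ← Submodule.map_span, b.span_eq, Submodule.map_top, LinearMap.range_eq_top.mpr hsurj]
  · rintro ⟨hli, hsp⟩
    let b' : Module.Basis ι R N := Module.Basis.mk hli hsp.ge
    have hφ : φ = (b.equiv b' (Equiv.refl ι)).toLinearMap := by
      apply b.ext
      intro i
      simp [b']
    rw [hφ]
    exact (b.equiv b' (Equiv.refl ι)).bijective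

/-- Étaleness of a formally smooth `A`-algebra `S` over a polynomial ring is detected on the
differentials of the images of the variables. -/
theorem formallyEtale_mvPolynomial_iff (A S : Type u) [CommRing A] [CommRing S] [Algebra A S]
    [Algebra.FormallySmooth A S] (r : ℕ) [Algebra (MvPolynomial (Fin r) A) S]
    [IsScalarTower A (MvPolynomial (Fin r) A) S] :
    Algebra.FormallyEtale (MvPolynomial (Fin r) A) S ↔
      LinearIndependent S (fun i : Fin r =>
        KaehlerDifferential.D A S (algebraMap (MvPolynomial (Fin r) A) S (MvPolynomial.X i))) ∧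
      Submodule.span S (Set.range fun i : Fin r =>
        KaehlerDifferential.D A S (algebraMap (MvPolynomial (Fin r) A) S (MvPolynomial.X i))) = ⊤ := by
  let b : Module.Basis (Fin r) S (S ⊗[MvPolynomial (Fin r) A] Ω[MvPolynomial (Fin r) A⁄A]) :=
    (KaehlerDifferential.mvPolynomialBasis A (Fin r)).baseChange S
  have hb : ∀ i, mapBaseChange A (MvPolynomial (Fin r) A) S (b i) =
      KaehlerDifferential.D A S (algebraMap (MvPolynomial (Fin r) A) S (MvPolynomial.X i)) := by
    intro i
    simp [b, Module.Basis.baseChange_apply]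
  have hbij := bijective_iff_basis_image b (mapBaseChange A (MvPolynomial (Fin r) A) S)
  simp only [hb] at hbij
  rw [← hbij, Algebra.FormallyEtale.iff_formallyUnramified_and_formallySmooth,
    formallySmooth_tower_iff A (MvPolynomial (Fin r) A) S, Algebra.formallyUnramified_iff]
  have hex := KaehlerDifferential.exact_mapBaseChange_map A (MvPolynomial (Fin r) A) S
  have hsurj := KaehlerDifferential.map_surjective A (MvPolynomial (Fin r) A) S
  constructor
  · rintro ⟨hss, l', hl'⟩
    refine ⟨Function.HasLeftInverse.injective ⟨l', LinearMap.congr_fun hl'⟩, fun y => ?_⟩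
    exact (hex y).mp (Subsingleton.elim _ _)
  · rintro ⟨hinj, hsj⟩
    refine ⟨⟨fun x y => ?_⟩, ?_⟩
    · obtain ⟨x', rfl⟩ := hsurj x
      obtain ⟨y', rfl⟩ := hsurj y
      obtain ⟨a, rfl⟩ := hsj x'
      obtain ⟨b', rfl⟩ := hsj y'
      rw [(hex _).mpr ⟨a, rfl⟩, (hex _).mpr ⟨b', rfl⟩]
    · let e := LinearEquiv.ofBijective (mapBaseChange A (MvPolynomial (Fin r) A) S) ⟨hinj, hsj⟩
      refine ⟨e.symm.toLinearMap, LinearMap.ext fun x => ?_⟩
      exact e.symm_apply_apply x

end Groth.Agent.Helper2.EtaleBasis
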