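import Mathlib
import Groth.Prelude.Def_Exal
import Groth.Prelude.Def_Exal2

/-! Fibre-product extension attached to a square-zero ideal `I ⊆ C` and an algebra map `B → C ⧸ I`. -/

set_option autoImplicit false
universe u v

namespace Groth.Agent.Helper2.ExalFib

/-- the kernel of the projection of an extension is nilpotent (square zero). -/
lemma isNilpotent_ker {A : Type u} {B L : Type v} [CommRing A] [CommRing B] [Algebra A B]
    [AddCommGroup L] [Module B L] (X : Exal.Ext A B L) :
    IsNilpotent (RingHom.ker (X.proj : X.E →+* B)) := by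
  refine ⟨2, ?_⟩
  rw [Ideal.zero_eq_bot, eq_bot_iff, pow_two, Ideal.mul_le]
  intro x hx y hy
  rw [RingHom.mem_ker] at hx hy
  obtain ⟨z, rfl⟩ := (X.isExtension.exact y).1 hy
  rw [X.isExtension.mul_incl]
  have : X.proj x = 0 := hx
  rw [this, zero_smul, map_zero]
  exact Ideal.zero_mem _

lemma sq_eq_bot_ker {A : Type u} {B L : Type v} [CommRing A] [CommRing B] [Algebra A B]
    [AddCommGroup L] [Module B L] (X : Exal.Ext A B L) :
    (RingHom.ker (X.proj : X.E →+* B)) ^ 2 = ⊥ := by
  rw [eq_bot_iff, pow_two, Ideal.mul_le]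
  intro x hx y hy
  rw [RingHom.mem_ker] at hx hy
  obtain ⟨z, rfl⟩ := (X.isExtension.exact y).1 hy
  rw [X.isExtension.mul_incl]
  have : X.proj x = 0 := hx
  rw [this, zero_smul, map_zero]
  exact Ideal.zero_mem _

variable {A : Type u} {B C : Type v} [CommRing A] [CommRing B] [Algebra A B] [CommRing C] [Algebra A C]
variable (I : Ideal C) (hI : I ^ 2 = ⊥) (g : B →ₐ[A] C ⧸ I)

include hI in
lemma mul_eq_zero_of_mem (a b : C) (ha : a ∈ I) (hb : b ∈ I) : a * b = 0 := by
  have : a * b ∈ I ^ 2 := by rw [pow_two]; exact Ideal.mul_mem_mul ha hb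
  rw [hI] at this
  exact this

include hI in
lemma isTorsionBySet : Module.IsTorsionBySet C I I := by
  intro x a
  apply Subtype.ext
  exact mul_eq_zero_of_mem I hI _ _ a.2 x.2

/-- `I` as a `B`-module through `g : B → C ⧸ I`. -/
@[reducible] noncomputable def modI : Module B I :=
  letI : Module (C ⧸ I) I := (isTorsionBySet I hI).module
  Module.compHom I (g : B →+* C ⧸ I)

lemma coe_smul (b : B) (c : C) (z : I) (h : g b = Ideal.Quotient.mk I c) :
    ((letI := modI I hI g; b • z : I) : C) = c * z := by
  let _ : Module (C ⧸ I) I := (isTorsionBySet I hI).module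
  change (((g b) • z : I) : C) = c * z
  rw [h]
  rfl

/-- The fibre product `C ×_{C/I} B`. -/
def fib : Subalgebra A (C × B) :=
  AlgHom.equalizer ((Ideal.Quotient.mkₐ A I).comp (AlgHom.fst A C B)) (g.comp (AlgHom.snd A C B))

lemma fib_spec (x : fib I g) : Ideal.Quotient.mk I x.1.1 = g x.1.2 := x.2

/-- The extension `0 → I → C ×_{C/I} B → B → 0`. -/
noncomputable def fibExt : @Exal.Ext A B I _ _ _ _ (modI I hI g) :=
  letI := modI I hI g
  { E := fib I g
    proj := (AlgHom.snd A C B).comp (fib I g).val
    incl :=
      { toFun := fun z => ⟨((z : C), 0), by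
          change Ideal.Quotient.mk I (z : C) = g 0
          rw [map_zero, Ideal.Quotient.eq_zero_iff_mem]; exact z.2⟩
        map_zero' := rfl
        map_add' := fun z z' => by
          apply Subtype.ext
          apply Prod.ext <;> simp }
    isExtension :=
      { proj_surjective := fun b => by
          obtain ⟨c, hc⟩ := Ideal.Quotient.mk_surjective (g b)
          exact ⟨⟨(c, b), hc⟩, rfl⟩
        incl_injective := fun z z' h => by
          have := congrArg (fun e : fib I g => e.1.1) h
          exact Subtype.ext this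
        exact := fun x => by
          constructor
          · intro hx
            have hx' : x.1.2 = 0 := hx
            have h1 := fib_spec I g x
            rw [hx', map_zero, Ideal.Quotient.eq_zero_iff_mem] at h1
            refine ⟨⟨x.1.1, h1⟩, ?_⟩
            apply Subtype.ext
            apply Prod.ext
            · rfl
            · exact hx'.symm
          · rintro ⟨z, rfl⟩
            rfl
        mul_incl := fun x z => by
          apply Subtype.ext
          apply Prod.ext
          · change x.1.1 * (z : C) = (((x.1.2) • z : I) : C)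
            rw [coe_smul I hI g _ _ _ (fib_spec I g x).symm]
          · change x.1.2 * 0 = 0
            exact mul_zero _ } }

/-- first projection from the fibre-product extension. -/
noncomputable def fibFst : (@Exal.Ext.E A B I _ _ _ _ (modI I hI g) (fibExt I hI g)) →ₐ[A] C :=
  (AlgHom.fst A C B).comp (fib I g).val

lemma mk_fibFst (x : (@Exal.Ext.E A B I _ _ _ _ (modI I hI g) (fibExt I hI g))) :
    Ideal.Quotient.mk I (fibFst I hI g x) =
      g ((@Exal.Ext.proj A B I _ _ _ _ (modI I hI g) (fibExt I hI g)) x) :=
  fib_spec I g x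

/-- An element of the middle ring from a compatible pair. -/
def fibMk (c : C) (b : B) (h : Ideal.Quotient.mk I c = g b) :
    (@Exal.Ext.E A B I _ _ _ _ (modI I hI g) (fibExt I hI g)) :=
  (⟨(c, b), h⟩ : fib I g)

/-- trivial extensions give lifts. -/
lemma exists_lift_of_isTrivial
    (h : @Exal.Ext.IsTrivial A B I _ _ _ _ (modI I hI g) (fibExt I hI g)) :
    ∃ v : B →ₐ[A] C, (Ideal.Quotient.mkₐ A I).comp v = g := by
  obtain ⟨s, hs⟩ := h
  refine ⟨(fibFst I hI g).comp s, ?_⟩
  ext b
  have := mk_fibFst I hI g (s b)
  rw [hs b] at this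
  exact this

end Groth.Agent.Helper2.ExalFib
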