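import Mathlib
import Groth.Prelude.Def_Exal3
import Groth.Agent.Helper2.ExalFib

set_option autoImplicit false
set_option linter.unusedSectionVars false
universe u v

namespace Groth.Agent.Helper2.ExalChar

open TensorProduct KaehlerDifferential

variable (A : Type u) {B C L : Type v} [CommRing A] [CommRing B] [CommRing C] [Algebra A B] [Algebra B C]
  [Algebra A C] [IsScalarTower A B C] [AddCommGroup L] [Module C L] (X : Exal.Ext B C L)

lemma algebraMap_charCarrier_C (e : X.CharCarrier A) : algebraMap (X.CharCarrier A) C e = X.proj e := rfl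

lemma surj : Function.Surjective (algebraMap (X.CharCarrier A) C) := X.isExtension.proj_surjective

lemma inclC_mem_ker (l : L) : X.inclC A l ∈ RingHom.ker (algebraMap (X.CharCarrier A) C) := by
  rw [RingHom.mem_ker]
  exact (X.isExtension.exact _).2 ⟨l, rfl⟩

lemma ker_sq : (RingHom.ker (algebraMap (X.CharCarrier A) C)) ^ 2 = ⊥ :=
  ExalFib.sq_eq_bot_ker X

lemma deltaL_eq_kerToTensor (l : L) :
    X.deltaL A l = kerToTensor A (X.CharCarrier A) C ⟨X.inclC A l, inclC_mem_ker A X l⟩ := rfl

lemma exists_of_mem_ker (x : X.CharCarrier A) (hx : x ∈ RingHom.ker (algebraMap (X.CharCarrier A) C)) :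
    ∃ l : L, X.inclC A l = x := by
  rw [RingHom.mem_ker] at hx
  exact (X.isExtension.exact x).1 hx

/-- (H2) -/
lemma exists_deltaL_eq (t : C ⊗[X.CharCarrier A] Ω[X.CharCarrier A⁄A])
    (ht : mapBaseChange A (X.CharCarrier A) C t = 0) : ∃ l : L, X.deltaL A l = t := by
  obtain ⟨y, hy⟩ := (exact_kerCotangentToTensor_mapBaseChange A (X.CharCarrier A) C (surj A X) t).1 ht
  obtain ⟨x, rfl⟩ := Ideal.toCotangent_surjective _ y
  obtain ⟨l, hl⟩ := exists_of_mem_ker A X x.1 x.2
  refine ⟨l, ?_⟩
  rw [← hy, kerCotangentToTensor_toCotangent, ← hl]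
  rfl

/-- the algebra section as a map into the CharCarrier -/
def sectionOf (s : C →ₐ[A] (X.restrictBase A).E) : C →ₐ[A] X.CharCarrier A :=
  { toFun := fun c => s c
    map_one' := map_one s
    map_mul' := map_mul s
    map_zero' := map_zero s
    map_add' := map_add s
    commutes' := fun a => s.commutes a }

/-- (H1) -/
lemma deltaL_injective (hX : X.IsTrivialOver A) : Function.Injective (X.deltaL A) := by
  obtain ⟨s, hs⟩ := hX
  let g := sectionOf A X s
  have hg : (IsScalarTower.toAlgHom A (X.CharCarrier A) C).comp g = AlgHom.id A C := by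
    ext c
    exact hs c
  have hret := retractionOfSectionOfKerSqZero_comp_kerToTensor g (ker_sq A X) hg
  intro l l' h
  rw [deltaL_eq_kerToTensor, deltaL_eq_kerToTensor] at h
  have h2 := congrArg (retractionOfSectionOfKerSqZero g (ker_sq A X) hg) h
  have h3 : ∀ y, (retractionOfSectionOfKerSqZero g (ker_sq A X) hg) (kerToTensor A (X.CharCarrier A) C y) = y :=
    fun y => LinearMap.congr_fun hret y
  rw [h3, h3] at h2
  have h4 : X.inclC A l = X.inclC A l' := congrArg Subtype.val h2
  exact X.isExtension.incl_injective h4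

/-- (H3) -/
lemma mapBaseChange_baseChangeToMiddle (t : C ⊗[B] Ω[B⁄A]) :
    mapBaseChange A (X.CharCarrier A) C (X.baseChangeToMiddle A t) = mapBaseChange A B C t := by
  induction t using TensorProduct.induction_on with
  | zero => simp
  | add x y hx hy => rw [map_add, map_add, map_add, hx, hy]
  | tmul c ω =>
    change mapBaseChange A (X.CharCarrier A) C (c ⊗ₜ[X.CharCarrier A] KaehlerDifferential.map A A B (X.CharCarrier A) ω) = _
    rw [mapBaseChange_tmul, mapBaseChange_tmul]
    congr 1
    have hω : ω ∈ Submodule.span B (Set.range (D A B)) := by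
      rw [span_range_derivation]; trivial
    induction hω using Submodule.span_induction with
    | mem x hx =>
      obtain ⟨b, rfl⟩ := hx
      rw [map_D, map_D, map_D, ← IsScalarTower.algebraMap_apply]
    | zero => simp
    | add x y _ _ hx hy => rw [map_add, map_add, map_add, hx, hy]
    | smul b x _ hx =>
      rw [map_smul, ← algebraMap_smul (X.CharCarrier A) b, map_smul, hx, map_smul, algebraMap_smul]

/-- (H4) -/
lemma deltaL_smul (c : C) (l : L) : X.deltaL A (c • l) = c • X.deltaL A l := by
  obtain ⟨e₀, rfl⟩ := X.isExtension.proj_surjective c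
  let e : X.CharCarrier A := e₀
  have h1 : X.inclC A (X.proj e • l) = e * X.inclC A l := (X.isExtension.mul_incl e₀ l).symm
  change (1 : C) ⊗ₜ[X.CharCarrier A] D A (X.CharCarrier A) (X.inclC A (X.proj e • l)) =
    X.proj e • ((1 : C) ⊗ₜ[X.CharCarrier A] D A (X.CharCarrier A) (X.inclC A l))
  rw [h1, Derivation.leibniz, tmul_add, tmul_smul, tmul_smul]
  have h2 : (X.inclC A l : X.CharCarrier A) • ((1 : C) ⊗ₜ[X.CharCarrier A] D A (X.CharCarrier A) e) = 0 := by
    rw [smul_tmul', Algebra.smul_def, mul_one]
    have : algebraMap (X.CharCarrier A) C (X.inclC A l) = 0 := inclC_mem_ker A X l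
    rw [this, zero_tmul]
  rw [h2, add_zero]
  rw [← algebraMap_charCarrier_C, algebraMap_smul]

/-- (H5) -/
lemma baseChangeToMiddle_smul (c : C) (t : C ⊗[B] Ω[B⁄A]) :
    X.baseChangeToMiddle A (c • t) = c • X.baseChangeToMiddle A t := by
  induction t using TensorProduct.induction_on with
  | zero => simp
  | add x y hx hy => rw [smul_add, map_add, map_add, hx, hy, smul_add]
  | tmul c' ω => rfl

end Groth.Agent.Helper2.ExalChar
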