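import Mathlib
import Groth.Prelude.Def_Exal3
import Groth.Prelude.Def_Exal2
import Groth.Agent.Helper2.ExalChar

set_option autoImplicit false
set_option linter.unusedSectionVars false
universe u v

namespace Groth.Agent.Helper2.ExalChar

open TensorProduct KaehlerDifferential

attribute [local instance] Exal.opModule Exal.isCentralScalar_opModule

variable (A : Type u) {B C L : Type v} [CommRing A] [CommRing B] [CommRing C] [Algebra A B] [Algebra B C]
  [Algebra A C] [IsScalarTower A B C] [AddCommGroup L] [Module C L]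
  [Module B L] [IsScalarTower B C L] [Module A L] [IsScalarTower A B L] [IsScalarTower A C L]
  (X : Exal.Ext B C L)

/-- The `C`-linear map `C ⊗_B Ω_{B/A} → L` attached to a derivation. -/
noncomputable def Dtilde (D : Derivation A B L) : C ⊗[B] Ω[B⁄A] →ₗ[C] L :=
  D.liftKaehlerDifferential.liftBaseChange C

lemma Dtilde_tmul_D (D : Derivation A B L) (c : C) (b : B) :
    Dtilde A D (c ⊗ₜ[B] KaehlerDifferential.D A B b) = c • D b := by
  rw [Dtilde, LinearMap.liftBaseChange_tmul, Derivation.liftKaehlerDifferential_comp_D]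

/-- (K6) the derivation attached to a section. -/
lemma exists_derivation_of_section (s' : C →+* X.E) (hs' : ∀ c, X.proj (s' c) = c)
    (hsA : ∀ a : A, s' (algebraMap A C a) = algebraMap B X.E (algebraMap A B a)) :
    ∃ D : Derivation A B L, ∀ b, X.incl (D b) = algebraMap B X.E b - s' (algebraMap B C b) := by
  have hpi : ∀ z, X.proj (X.incl z) = 0 := fun z => (X.isExtension.exact _).2 ⟨z, rfl⟩
  have hii : ∀ z z', X.incl z * X.incl z' = 0 := fun z z' => by
    rw [X.isExtension.mul_incl, hpi, zero_smul, map_zero]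
  have hmi : ∀ (x : X.E) z, x * X.incl z = X.incl (X.proj x • z) := X.isExtension.mul_incl
  have hinj := X.isExtension.incl_injective
  let β : B →+* X.E := algebraMap B X.E
  let τ : B →+* X.E := s'.comp (algebraMap B C)
  have hpβ : ∀ b, X.proj (β b) = algebraMap B C b := fun b => X.proj.commutes b
  have hpτ : ∀ b, X.proj (τ b) = algebraMap B C b := fun b => hs' _
  have hker : ∀ b, X.proj (β b - τ b) = 0 := fun b => by rw [map_sub, hpβ, hpτ, sub_self]
  let d : B → L := fun b => X.kerLift (β b - τ b) (hker b)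
  have hd : ∀ b, X.incl (d b) = β b - τ b := fun b => Exal.Ext.incl_kerLift _ _ _
  have hbs : ∀ (b : B) (z : L), X.incl (b • z) = β b * X.incl z := fun b z => by
    rw [hmi, hpβ, algebraMap_smul]
  let D₀ : B →ₗ[A] L :=
    { toFun := d
      map_add' := fun b b' => by
        apply hinj
        rw [map_add, hd, hd, hd, map_add, map_add]
        abel
      map_smul' := fun a b => by
        apply hinj
        rw [RingHom.id_apply, ← algebraMap_smul B a (d b), hbs, hd, hd, Algebra.smul_def, map_mul,
          map_mul]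
        have : τ (algebraMap A B a) = β (algebraMap A B a) := by
          change s' (algebraMap B C (algebraMap A B a)) = _
          rw [← IsScalarTower.algebraMap_apply, hsA]
        rw [this]
        ring }
  refine ⟨Derivation.mk' D₀ (by
    intro b b'
    apply hinj
    change X.incl (d (b * b')) = X.incl (b • d b' + b' • d b)
    rw [map_add, hbs, hbs, hd, hd, hd, map_mul, map_mul]
    have := hii (d b) (d b')
    rw [hd, hd] at this
    linear_combination -this), hd⟩

/-- (K7) an extension with a section is equivalent to the extension of the attached derivation. -/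
lemma nonempty_equiv_ofDerivation (s' : C →+* X.E) (hs' : ∀ c, X.proj (s' c) = c)
    (D : Derivation A B L) (hD : ∀ b, X.incl (D b) = algebraMap B X.E b - s' (algebraMap B C b)) :
    Nonempty (X.Equiv (Exal.Ext.ofDerivation (C := C) D)) := by
  have hpi : ∀ z, X.proj (X.incl z) = 0 := fun z => (X.isExtension.exact _).2 ⟨z, rfl⟩
  have hii : ∀ z z', X.incl z * X.incl z' = 0 := fun z z' => by
    rw [X.isExtension.mul_incl, hpi, zero_smul, map_zero]
  have hmi : ∀ (x : X.E) z, x * X.incl z = X.incl (X.proj x • z) := X.isExtension.mul_incl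
  have hinj := X.isExtension.incl_injective
  let β : B →+* X.E := algebraMap B X.E
  let τ : B →+* X.E := s'.comp (algebraMap B C)
  refine ⟨Exal.Ext.Equiv.symm ?_⟩
  let ψ₀ : TrivSqZeroExt C L → X.E := fun y => s' (TrivSqZeroExt.fst y) + X.incl (TrivSqZeroExt.snd y)
  have ψmul : ∀ y y' : TrivSqZeroExt C L, ψ₀ (y * y') = ψ₀ y * ψ₀ y' := fun y y' => by
    change s' (TrivSqZeroExt.fst (y * y')) + X.incl (TrivSqZeroExt.snd (y * y')) =
      (s' (TrivSqZeroExt.fst y) + X.incl (TrivSqZeroExt.snd y)) *
        (s' (TrivSqZeroExt.fst y') + X.incl (TrivSqZeroExt.snd y'))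
    rw [TrivSqZeroExt.fst_mul, TrivSqZeroExt.snd_mul, op_smul_eq_smul, map_mul, map_add]
    have h1 : X.incl (y.fst • y'.snd) = s' y.fst * X.incl y'.snd := by rw [hmi, hs']
    have h2 : X.incl (y'.fst • y.snd) = s' y'.fst * X.incl y.snd := by rw [hmi, hs']
    rw [h1, h2]
    have := hii y.snd y'.snd
    linear_combination -this
  have ψadd : ∀ y y' : TrivSqZeroExt C L, ψ₀ (y + y') = ψ₀ y + ψ₀ y' := fun y y' => by
    change s' (TrivSqZeroExt.fst (y + y')) + X.incl (TrivSqZeroExt.snd (y + y')) =
      (s' (TrivSqZeroExt.fst y) + X.incl (TrivSqZeroExt.snd y)) +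
        (s' (TrivSqZeroExt.fst y') + X.incl (TrivSqZeroExt.snd y'))
    rw [TrivSqZeroExt.fst_add, TrivSqZeroExt.snd_add, map_add, map_add]
    abel
  have ψone : ψ₀ 1 = 1 := by
    change s' (TrivSqZeroExt.fst (1 : TrivSqZeroExt C L)) + X.incl (TrivSqZeroExt.snd (1 : TrivSqZeroExt C L)) = 1
    rw [TrivSqZeroExt.fst_one, TrivSqZeroExt.snd_one, map_one, map_zero, add_zero]
  have ψzero : ψ₀ 0 = 0 := by
    change s' (TrivSqZeroExt.fst (0 : TrivSqZeroExt C L)) + X.incl (TrivSqZeroExt.snd (0 : TrivSqZeroExt C L)) = 0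
    rw [TrivSqZeroExt.fst_zero, TrivSqZeroExt.snd_zero, map_zero, map_zero, add_zero]
  have ψalg : ∀ b : B, ψ₀ (TrivSqZeroExt.inl (algebraMap B C b) + TrivSqZeroExt.inr (D b)) = β b := fun b => by
    change s' (TrivSqZeroExt.fst (TrivSqZeroExt.inl (algebraMap B C b) + TrivSqZeroExt.inr (D b) : TrivSqZeroExt C L)) +
      X.incl (TrivSqZeroExt.snd (TrivSqZeroExt.inl (algebraMap B C b) + TrivSqZeroExt.inr (D b) : TrivSqZeroExt C L)) = β b
    simp only [TrivSqZeroExt.fst_add, TrivSqZeroExt.fst_inl, TrivSqZeroExt.fst_inr, add_zero,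
      TrivSqZeroExt.snd_add, TrivSqZeroExt.snd_inl, TrivSqZeroExt.snd_inr, zero_add]
    rw [hD]
    change τ b + (β b - τ b) = β b
    abel
  let ψ : (Exal.Ext.ofDerivation (C := C) D).E →ₐ[B] X.E :=
    { toFun := ψ₀
      map_one' := ψone
      map_mul' := ψmul
      map_zero' := ψzero
      map_add' := ψadd
      commutes' := ψalg }
  have ψproj : ∀ y : TrivSqZeroExt C L, X.proj (ψ₀ y) = TrivSqZeroExt.fst y := fun y => by
    change X.proj (s' (TrivSqZeroExt.fst y) + X.incl (TrivSqZeroExt.snd y)) = _
    rw [map_add, hs', hpi, add_zero]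
  have ψbij : Function.Bijective ψ := by
    constructor
    · rw [injective_iff_map_eq_zero]
      intro y hy
      have hy' : ψ₀ y = 0 := hy
      have h1 : TrivSqZeroExt.fst (y : TrivSqZeroExt C L) = 0 := by
        rw [← ψproj, hy', map_zero]
      have h2 : X.incl (TrivSqZeroExt.snd (y : TrivSqZeroExt C L)) = 0 := by
        have : s' (TrivSqZeroExt.fst (y : TrivSqZeroExt C L)) + X.incl (TrivSqZeroExt.snd (y : TrivSqZeroExt C L)) = 0 := hy'
        rw [h1, map_zero, zero_add] at this
        exact this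
      have h3 : TrivSqZeroExt.snd (y : TrivSqZeroExt C L) = 0 := hinj (h2.trans (map_zero _).symm)
      exact TrivSqZeroExt.ext h1 h3
    · intro x
      have h0 : X.proj (x - s' (X.proj x)) = 0 := by rw [map_sub, hs', sub_self]
      obtain ⟨w, hw⟩ := (X.isExtension.exact _).1 h0
      refine ⟨(TrivSqZeroExt.inl (X.proj x) + TrivSqZeroExt.inr w : TrivSqZeroExt C L), ?_⟩
      change s' (TrivSqZeroExt.fst (TrivSqZeroExt.inl (X.proj x) + TrivSqZeroExt.inr w : TrivSqZeroExt C L)) +
        X.incl (TrivSqZeroExt.snd (TrivSqZeroExt.inl (X.proj x) + TrivSqZeroExt.inr w : TrivSqZeroExt C L)) = x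
      simp only [TrivSqZeroExt.fst_add, TrivSqZeroExt.fst_inl, TrivSqZeroExt.fst_inr, add_zero,
        TrivSqZeroExt.snd_add, TrivSqZeroExt.snd_inl, TrivSqZeroExt.snd_inr, zero_add]
      rw [hw]
      abel
  refine ⟨AlgEquiv.ofBijective ψ ψbij, ?_, ?_⟩
  · intro y
    exact ψproj y
  · intro z
    change s' (TrivSqZeroExt.fst (TrivSqZeroExt.inr z : TrivSqZeroExt C L)) +
      X.incl (TrivSqZeroExt.snd (TrivSqZeroExt.inr z : TrivSqZeroExt C L)) = X.incl z
    rw [TrivSqZeroExt.fst_inr, TrivSqZeroExt.snd_inr, map_zero, zero_add]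

/-- (K2') the retraction attached to a section computes `Dtilde`. -/
lemma ret_baseChangeToMiddle (g : C →ₐ[A] X.CharCarrier A)
    (hg : (IsScalarTower.toAlgHom A (X.CharCarrier A) C).comp g = AlgHom.id A C)
    (D : Derivation A B L)
    (hD : ∀ b, X.inclC A (D b) = algebraMap B (X.CharCarrier A) b - g (algebraMap B C b))
    (t : C ⊗[B] Ω[B⁄A]) :
    ((retractionOfSectionOfKerSqZero g (ker_sq A X) hg (X.baseChangeToMiddle A t) :
      RingHom.ker (algebraMap (X.CharCarrier A) C)) : X.CharCarrier A) = X.inclC A (Dtilde A D t) := by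
  have hgp : ∀ c, X.proj (g c) = c := fun c => AlgHom.congr_fun hg c
  induction t using TensorProduct.induction_on with
  | zero => simp
  | add x y hx hy =>
    rw [map_add, map_add, map_add, map_add, Submodule.coe_add, hx, hy]
  | tmul c ω =>
    have hω : ω ∈ Submodule.span B (Set.range (KaehlerDifferential.D A B)) := by
      rw [span_range_derivation]; trivial
    revert c
    induction hω using Submodule.span_induction with
    | mem x hx =>
      obtain ⟨b, rfl⟩ := hx
      intro c
      rw [Dtilde_tmul_D]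
      change ((retractionOfSectionOfKerSqZero g (ker_sq A X) hg
        (c ⊗ₜ[X.CharCarrier A] KaehlerDifferential.map A A B (X.CharCarrier A) (KaehlerDifferential.D A B b)) :
        RingHom.ker (algebraMap (X.CharCarrier A) C)) : X.CharCarrier A) = _
      rw [map_D, retractionOfSectionOfKerSqZero_tmul_D, ← mul_sub]
      have h1 : algebraMap (X.CharCarrier A) C (algebraMap B (X.CharCarrier A) b) = algebraMap B C b :=
        (IsScalarTower.algebraMap_apply B (X.CharCarrier A) C b).symm
      rw [h1, ← hD]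
      have h2 := X.isExtension.mul_incl (g c) (D b)
      rw [hgp] at h2
      exact h2
    | zero =>
      intro c
      simp
    | add x y _ _ hx hy =>
      intro c
      rw [tmul_add, map_add, map_add, map_add, map_add, Submodule.coe_add, hx, hy]
    | smul b x _ hx =>
      intro c
      have : c ⊗ₜ[B] (b • x) = (b • c) ⊗ₜ[B] x := (smul_tmul b c x).symm
      rw [this]
      exact hx (b • c)

lemma isCharHom_Dtilde (g : C →ₐ[A] X.CharCarrier A)
    (hg : (IsScalarTower.toAlgHom A (X.CharCarrier A) C).comp g = AlgHom.id A C)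
    (D : Derivation A B L)
    (hD : ∀ b, X.inclC A (D b) = algebraMap B (X.CharCarrier A) b - g (algebraMap B C b))
    (z : EGA41.imperfection A B C) :
    X.deltaL A (Dtilde A D (z : C ⊗[B] Ω[B⁄A])) = X.baseChangeToMiddle A (z : C ⊗[B] Ω[B⁄A]) := by
  obtain ⟨l, hl⟩ := exists_deltaL_eq A X (X.baseChangeToMiddle A (z : C ⊗[B] Ω[B⁄A])) (by
    rw [mapBaseChange_baseChangeToMiddle]; exact z.2)
  have h1 := ret_baseChangeToMiddle A X g hg D hD (z : C ⊗[B] Ω[B⁄A])
  rw [← hl, deltaL_eq_kerToTensor] at h1
  have hret := retractionOfSectionOfKerSqZero_comp_kerToTensor g (ker_sq A X) hg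
  have h3 : ∀ y, (retractionOfSectionOfKerSqZero g (ker_sq A X) hg)
      (kerToTensor A (X.CharCarrier A) C y) = y := fun y => LinearMap.congr_fun hret y
  rw [h3] at h1
  have h4 : l = Dtilde A D (z : C ⊗[B] Ω[B⁄A]) := X.isExtension.incl_injective h1
  rw [← h4, hl]

end Groth.Agent.Helper2.ExalChar
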