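import Mathlib
import Groth.Prelude.Def_Exal3
import Groth.Prelude.Def_Exal2
import Groth.Agent.Helper2.ExalChar2

set_option autoImplicit false
set_option linter.unusedSectionVars false
universe u v

namespace Groth.Agent.Helper2.ExalChar

open TensorProduct KaehlerDifferential

attribute [local instance] Exal.opModule Exal.isCentralScalar_opModule

variable (A : Type u) {B C L : Type v} [CommRing A] [CommRing B] [CommRing C] [Algebra A B] [Algebra B C]
  [Algebra A C] [IsScalarTower A B C] [AddCommGroup L] [Module C L]
  [Module B L] [IsScalarTower B C L] [Module A L] [IsScalarTower A B L] [IsScalarTower A C L]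

/-- the canonical `A`-algebra section of the extension attached to a derivation. -/
noncomputable def sectionOfDerivation (D : Derivation A B L) :
    C →ₐ[A] (Exal.Ext.ofDerivation (C := C) D).CharCarrier A :=
  { toFun := fun c => (TrivSqZeroExt.inl c : TrivSqZeroExt C L)
    map_one' := TrivSqZeroExt.inl_one _
    map_mul' := fun c c' => TrivSqZeroExt.inl_mul _ c c'
    map_zero' := TrivSqZeroExt.inl_zero _
    map_add' := fun c c' => TrivSqZeroExt.inl_add _ c c'
    commutes' := fun a => by
      change (TrivSqZeroExt.inl (algebraMap A C a) : TrivSqZeroExt C L) =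
        (TrivSqZeroExt.inl (algebraMap B C (algebraMap A B a)) +
          TrivSqZeroExt.inr (D (algebraMap A B a)) : TrivSqZeroExt C L)
      rw [Derivation.map_algebraMap, TrivSqZeroExt.inr_zero, add_zero,
        ← IsScalarTower.algebraMap_apply] }

lemma isTrivialOver_ofDerivation (D : Derivation A B L) :
    (Exal.Ext.ofDerivation (C := C) D).IsTrivialOver A := by
  refine ⟨?_, ?_⟩
  · exact
    { toFun := fun c => sectionOfDerivation A D c
      map_one' := map_one (sectionOfDerivation A D)
      map_mul' := map_mul (sectionOfDerivation A D)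
      map_zero' := map_zero (sectionOfDerivation A D)
      map_add' := map_add (sectionOfDerivation A D)
      commutes' := fun a => (sectionOfDerivation A D).commutes a }
  · intro c
    rfl

lemma isCharHom_ofDerivation (D : Derivation A B L) (z : EGA41.imperfection A B C) :
    (Exal.Ext.ofDerivation (C := C) D).deltaL A (Dtilde A D (z : C ⊗[B] Ω[B⁄A])) =
      (Exal.Ext.ofDerivation (C := C) D).baseChangeToMiddle A (z : C ⊗[B] Ω[B⁄A]) := by
  apply isCharHom_Dtilde A (Exal.Ext.ofDerivation (C := C) D) (sectionOfDerivation A D)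
  · ext c
    rfl
  · intro b
    change (TrivSqZeroExt.inr (D b) : TrivSqZeroExt C L) =
      (TrivSqZeroExt.inl (algebraMap B C b) + TrivSqZeroExt.inr (D b) : TrivSqZeroExt C L) -
        TrivSqZeroExt.inl (algebraMap B C b)
    abel

/-- the derivation attached to a `C`-linear map `C ⊗_B Ω_{B/A} → L`. -/
noncomputable def derivOf (φ : C ⊗[B] Ω[B⁄A] →ₗ[C] L) : Derivation A B L :=
  ((φ.restrictScalars B).comp (TensorProduct.mk B C Ω[B⁄A] 1)).compDer (KaehlerDifferential.D A B)

lemma derivOf_apply (φ : C ⊗[B] Ω[B⁄A] →ₗ[C] L) (b : B) :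
    derivOf A φ b = φ ((1 : C) ⊗ₜ[B] KaehlerDifferential.D A B b) := rfl

lemma Dtilde_derivOf (φ : C ⊗[B] Ω[B⁄A] →ₗ[C] L) : Dtilde A (derivOf A φ) = φ := by
  apply TensorProduct.AlgebraTensorModule.ext
  intro c ω
  have hω : ω ∈ Submodule.span B (Set.range (KaehlerDifferential.D A B)) := by
    rw [span_range_derivation]; trivial
  revert c
  induction hω using Submodule.span_induction with
  | mem x hx =>
    obtain ⟨b, rfl⟩ := hx
    intro c
    rw [Dtilde_tmul_D, derivOf_apply, ← map_smul, smul_tmul', smul_eq_mul, mul_one]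
  | zero => intro c; simp
  | add x y _ _ hx hy => intro c; rw [tmul_add, map_add, map_add, hx, hy]
  | smul b x _ hx =>
    intro c
    have : c ⊗ₜ[B] (b • x) = (b • c) ⊗ₜ[B] x := (smul_tmul b c x).symm
    rw [this]
    exact hx (b • c)

end Groth.Agent.Helper2.ExalChar
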