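import Mathlib
import Groth.Prelude.Def_Exal3
import Groth.Prelude.Def_Exal2
import Groth.Agent.Helper2.ExalChar3

set_option autoImplicit false
set_option linter.unusedSectionVars false
universe u v

namespace Groth.Agent.Helper2.ExalChar

open TensorProduct KaehlerDifferential

attribute [local instance] Exal.opModule Exal.isCentralScalar_opModule

variable (A : Type u) {B C L : Type v} [CommRing A] [CommRing B] [CommRing C] [Algebra A B] [Algebra B C]
  [Algebra A C] [IsScalarTower A B C] [AddCommGroup L] [Module C L]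

lemma exists_extension
    (h : Module.Injective C L ∨
      (∃ s : Ω[C⁄B] →ₗ[C] Ω[C⁄A], ∀ ω : Ω[C⁄B], KaehlerDifferential.map A B C C (s ω) = ω))
    (φ : C ⊗[B] Ω[B⁄A] →ₗ[C] L) (hφ : ∀ z : EGA41.imperfection A B C, φ (z : C ⊗[B] Ω[B⁄A]) = 0) :
    ∃ ε : Ω[C⁄A] →ₗ[C] L, ∀ t, ε (mapBaseChange A B C t) = φ t := by
  set m := mapBaseChange A B C with hm
  have hker : LinearMap.ker m ≤ LinearMap.ker φ := fun t ht => hφ ⟨t, ht⟩
  let φbar : LinearMap.range m →ₗ[C] L :=
    ((LinearMap.ker m).liftQ φ hker).comp (LinearMap.quotKerEquivRange m).symm.toLinearMap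
  have hφbar : ∀ t, φbar ⟨m t, LinearMap.mem_range_self m t⟩ = φ t := fun t => by
    change ((LinearMap.ker m).liftQ φ hker) ((LinearMap.quotKerEquivRange m).symm ⟨m t, _⟩) = φ t
    rw [LinearMap.quotKerEquivRange_symm_apply_image]
    rfl
  rcases h with hinj | ⟨s, hs⟩
  · obtain ⟨ε, hε⟩ := @Module.Injective.out C _ L _ _ hinj (LinearMap.range m) (Ω[C⁄A]) _ _ _ _
      (LinearMap.range m).subtype Subtype.val_injective φbar
    exact ⟨ε, fun t => by rw [← hφbar t, ← hε]; rfl⟩
  · have hex := KaehlerDifferential.exact_mapBaseChange_map A B C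
    let π : Ω[C⁄A] →ₗ[C] Ω[C⁄A] := LinearMap.id - s.comp (KaehlerDifferential.map A B C C)
    have hπ : ∀ ω, π ω ∈ LinearMap.range m := fun ω => by
      rw [LinearMap.mem_range]
      apply (hex _).1
      change KaehlerDifferential.map A B C C (ω - s (KaehlerDifferential.map A B C C ω)) = 0
      rw [map_sub, hs, sub_self]
    let ρ : Ω[C⁄A] →ₗ[C] LinearMap.range m := π.codRestrict _ hπ
    refine ⟨φbar.comp ρ, fun t => ?_⟩
    rw [← hφbar t]
    change φbar (ρ (m t)) = _
    congr 1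
    apply Subtype.ext
    change m t - s (KaehlerDifferential.map A B C C (m t)) = m t
    have : KaehlerDifferential.map A B C C (m t) = 0 := (hex _).2 ⟨t, rfl⟩
    rw [this, map_zero, sub_zero]

variable [Module B L] [IsScalarTower B C L] [Module A L] [IsScalarTower A B L] [IsScalarTower A C L]

lemma nonempty_equiv_of_isCharHom_eq
    (hext : ∀ φ : C ⊗[B] Ω[B⁄A] →ₗ[C] L, (∀ z : EGA41.imperfection A B C, φ (z : C ⊗[B] Ω[B⁄A]) = 0) →
      ∃ ε : Ω[C⁄A] →ₗ[C] L, ∀ t, ε (mapBaseChange A B C t) = φ t)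
    (X Y : Exal.Ext B C L) (hX : X.IsTrivialOver A) (hY : Y.IsTrivialOver A)
    (χ : ↥(EGA41.imperfection A B C) →ₗ[C] L) (hXχ : X.IsCharHom A χ) (hYχ : Y.IsCharHom A χ) :
    Nonempty (X.Equiv Y) := by
  have hinjX := deltaL_injective A X hX
  have hinjY := deltaL_injective A Y hY
  obtain ⟨sX, hsX⟩ := hX
  obtain ⟨sY, hsY⟩ := hY
  let gX := sectionOf A X sX
  let gY := sectionOf A Y sY
  have hgX : (IsScalarTower.toAlgHom A (X.CharCarrier A) C).comp gX = AlgHom.id A C := by
    ext c; exact hsX c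
  have hgY : (IsScalarTower.toAlgHom A (Y.CharCarrier A) C).comp gY = AlgHom.id A C := by
    ext c; exact hsY c
  let s'X : C →+* X.E := (gX : C →+* X.CharCarrier A)
  let s'Y : C →+* Y.E := (gY : C →+* Y.CharCarrier A)
  have hs'X : ∀ c, X.proj (s'X c) = c := hsX
  have hs'Y : ∀ c, Y.proj (s'Y c) = c := hsY
  obtain ⟨DX, hDX⟩ := exists_derivation_of_section A X s'X hs'X (fun a => sX.commutes a)
  obtain ⟨DY, hDY⟩ := exists_derivation_of_section A Y s'Y hs'Y (fun a => sY.commutes a)
  have hχX : ∀ z : EGA41.imperfection A B C, χ z = Dtilde A DX (z : C ⊗[B] Ω[B⁄A]) := fun z => by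
    apply hinjX
    rw [hXχ z]
    exact (isCharHom_Dtilde A X gX hgX DX hDX z).symm
  have hχY : ∀ z : EGA41.imperfection A B C, χ z = Dtilde A DY (z : C ⊗[B] Ω[B⁄A]) := fun z => by
    apply hinjY
    rw [hYχ z]
    exact (isCharHom_Dtilde A Y gY hgY DY hDY z).symm
  obtain ⟨ε, hε⟩ := hext (Dtilde A DX - Dtilde A DY) (fun z => by
    rw [LinearMap.sub_apply, ← hχX, ← hχY, sub_self])
  let D' : Derivation A C L := ε.compDer (KaehlerDifferential.D A C)
  have hD' : ∀ b : B, D' (algebraMap B C b) = DX b - DY b := fun b => by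
    change ε (KaehlerDifferential.D A C (algebraMap B C b)) = _
    have := hε ((1 : C) ⊗ₜ[B] KaehlerDifferential.D A B b)
    rw [mapBaseChange_tmul, one_smul, map_D] at this
    rw [this, LinearMap.sub_apply, Dtilde_tmul_D, Dtilde_tmul_D, one_smul, one_smul]
  have hpiY : ∀ z, Y.proj (Y.incl z) = 0 := fun z => (Y.isExtension.exact _).2 ⟨z, rfl⟩
  have hiiY : ∀ z z', Y.incl z * Y.incl z' = 0 := fun z z' => by
    rw [Y.isExtension.mul_incl, hpiY, zero_smul, map_zero]
  have hmiY : ∀ (x : Y.E) z, x * Y.incl z = Y.incl (Y.proj x • z) := Y.isExtension.mul_incl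
  let s'Y₂ : C →+* Y.E :=
    { toFun := fun c => s'Y c - Y.incl (D' c)
      map_one' := by rw [map_one, Derivation.map_one_eq_zero, map_zero, sub_zero]
      map_mul' := fun c c' => by
        rw [map_mul, Derivation.leibniz, map_add]
        have h1 : Y.incl (c • D' c') = s'Y c * Y.incl (D' c') := by rw [hmiY, hs'Y]
        have h2 : Y.incl (c' • D' c) = s'Y c' * Y.incl (D' c) := by rw [hmiY, hs'Y]
        rw [h1, h2]
        have := hiiY (D' c) (D' c')
        linear_combination -this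
      map_zero' := by rw [map_zero, map_zero, map_zero, sub_zero]
      map_add' := fun c c' => by
        rw [map_add, map_add, map_add]
        abel }
  have hs'Y₂ : ∀ c, Y.proj (s'Y₂ c) = c := fun c => by
    change Y.proj (s'Y c - Y.incl (D' c)) = c
    rw [map_sub, hs'Y, hpiY, sub_zero]
  have hDY₂ : ∀ b, Y.incl (DX b) = algebraMap B Y.E b - s'Y₂ (algebraMap B C b) := fun b => by
    change _ = _ - (s'Y (algebraMap B C b) - Y.incl (D' (algebraMap B C b)))
    rw [hD', map_sub, hDY]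
    abel
  obtain ⟨e1⟩ := nonempty_equiv_ofDerivation A X s'X hs'X DX hDX
  obtain ⟨e2⟩ := nonempty_equiv_ofDerivation A Y s'Y₂ hs'Y₂ DX hDY₂
  exact ⟨e1.trans e2.symm⟩

end Groth.Agent.Helper2.ExalChar
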