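import Mathlib
import Groth.Prelude.Def_Exal
import Groth.Agent.Helper2.ExalFib

set_option autoImplicit false
set_option linter.unusedSectionVars false
universe u v

namespace Groth.Agent.Helper2.ExalHoch

variable {A : Type u} {B : Type v} [CommRing A] [CommRing B] [Algebra A B]
  {L : Type v} [AddCommGroup L] [Module B L] [Module A L] [IsScalarTower A B L]

/-- carrier of the extension attached to a symmetric Hochschild cocycle. -/
@[nolint unusedArguments]
def HE (f : B →ₗ[A] B →ₗ[A] L) (_hsymm : ∀ x y : B, f x y = f y x)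
    (_hcoc : ∀ x y z : B, f (x * y) z + z • f x y = x • f y z + f x (y * z)) : Type v := B × L

variable (f : B →ₗ[A] B →ₗ[A] L) (hsymm : ∀ x y : B, f x y = f y x)
  (hcoc : ∀ x y z : B, f (x * y) z + z • f x y = x • f y z + f x (y * z))

instance : Add (HE f hsymm hcoc) := inferInstanceAs (Add (B × L))
instance : Zero (HE f hsymm hcoc) := inferInstanceAs (Zero (B × L))
instance : Neg (HE f hsymm hcoc) := inferInstanceAs (Neg (B × L))
instance : Mul (HE f hsymm hcoc) := ⟨fun x y => (x.1 * y.1, x.1 • y.2 + y.1 • x.2 + f x.1 y.1)⟩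
instance : One (HE f hsymm hcoc) := ⟨((1 : B), -f 1 1)⟩

@[ext] lemma HE.ext {x y : HE f hsymm hcoc} (h1 : x.1 = y.1) (h2 : x.2 = y.2) : x = y := Prod.ext h1 h2

@[simp] lemma fst_add (x y : HE f hsymm hcoc) : (x + y).1 = x.1 + y.1 := rfl
@[simp] lemma snd_add (x y : HE f hsymm hcoc) : (x + y).2 = x.2 + y.2 := rfl
@[simp] lemma fst_zero : (0 : HE f hsymm hcoc).1 = 0 := rfl
@[simp] lemma snd_zero : (0 : HE f hsymm hcoc).2 = 0 := rfl
@[simp] lemma fst_neg (x : HE f hsymm hcoc) : (-x).1 = -x.1 := rfl
@[simp] lemma snd_neg (x : HE f hsymm hcoc) : (-x).2 = -x.2 := rfl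
@[simp] lemma fst_mul (x y : HE f hsymm hcoc) : (x * y).1 = x.1 * y.1 := rfl
@[simp] lemma snd_mul (x y : HE f hsymm hcoc) : (x * y).2 = x.1 • y.2 + y.1 • x.2 + f x.1 y.1 := rfl
@[simp] lemma fst_one : (1 : HE f hsymm hcoc).1 = 1 := rfl
@[simp] lemma snd_one : (1 : HE f hsymm hcoc).2 = -f 1 1 := rfl

include hcoc in
lemma f_one (y : B) : f 1 y = y • f 1 1 := by
  have := hcoc 1 1 y
  rw [one_mul, one_mul, one_smul] at this
  exact (add_left_cancel this).symm

noncomputable instance : CommRing (HE f hsymm hcoc) :=
  CommRing.ofMinimalAxioms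
    (fun a b c => by ext <;> simp [add_assoc])
    (fun a => by ext <;> simp)
    (fun a => by ext <;> simp)
    (fun a b c => by
      ext
      · simp [mul_assoc]
      · simp only [fst_mul, snd_mul, smul_add, mul_smul]
        have := hcoc a.1 b.1 c.1
        rw [smul_comm c.1 a.1 b.2, smul_comm c.1 b.1 a.2, smul_comm a.1 b.1 c.2]
        have h2 : (a.1 * b.1) • c.2 = a.1 • b.1 • c.2 := mul_smul _ _ _
        have h3 : (b.1 * c.1) • a.2 = b.1 • c.1 • a.2 := mul_smul _ _ _
        rw [smul_comm b.1 a.1 c.2]
        calc a.1 • b.1 • c.2 + (a.1 • c.1 • b.2 + b.1 • c.1 • a.2 + c.1 • (f a.1) b.1) + (f (a.1 * b.1)) c.1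
            = a.1 • b.1 • c.2 + a.1 • c.1 • b.2 + b.1 • c.1 • a.2 + ((f (a.1 * b.1)) c.1 + c.1 • (f a.1) b.1) := by abel
          _ = a.1 • b.1 • c.2 + a.1 • c.1 • b.2 + b.1 • c.1 • a.2 + (a.1 • f b.1 c.1 + f a.1 (b.1 * c.1)) := by rw [this]
          _ = _ := by abel)
    (fun a b => by
      ext
      · simp [mul_comm]
      · simp only [snd_mul]
        rw [hsymm a.1 b.1]
        abel)
    (fun a => by
      ext
      · simp
      · simp only [snd_mul, fst_one, snd_one, one_smul, smul_neg]
        rw [f_one f hcoc a.1]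
        abel)
    (fun a b c => by
      ext
      · simp [mul_add]
      · simp only [snd_mul, fst_add, snd_add, smul_add, add_smul, map_add]
        abel)

include hcoc in
lemma f_algebraMap (a : A) (y : B) : f (algebraMap A B a) y = a • y • f 1 1 := by
  rw [Algebra.algebraMap_eq_smul_one, map_smul, LinearMap.smul_apply, f_one f hcoc]

/-- structure map -/
noncomputable def rho : A →+* HE f hsymm hcoc where
  toFun a := ((algebraMap A B a : B), -(a • f 1 1))
  map_one' := by
    ext
    · exact map_one _
    · change -((1 : A) • f 1 1) = -f 1 1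
      rw [one_smul]
  map_mul' a b := by
    ext
    · exact map_mul _ a b
    · change -((a * b) • f 1 1) = algebraMap A B a • (-(b • f 1 1)) + algebraMap A B b • (-(a • f 1 1)) +
        f (algebraMap A B a) (algebraMap A B b)
      rw [f_algebraMap f hcoc, algebraMap_smul, algebraMap_smul, algebraMap_smul, mul_smul,
        smul_neg, smul_neg, smul_comm b a]
      abel
  map_zero' := by
    ext
    · exact map_zero _
    · change -((0 : A) • f 1 1) = 0
      rw [zero_smul, neg_zero]
  map_add' a b := by
    ext
    · exact map_add _ a b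
    · change -((a + b) • f 1 1) = -(a • f 1 1) + -(b • f 1 1)
      rw [add_smul, neg_add]

noncomputable instance : Algebra A (HE f hsymm hcoc) := (rho f hsymm hcoc).toAlgebra

lemma algebraMap_fst (a : A) : (algebraMap A (HE f hsymm hcoc) a).1 = algebraMap A B a := rfl
lemma algebraMap_snd (a : A) : (algebraMap A (HE f hsymm hcoc) a).2 = -(a • f 1 1) := rfl

/-- the extension attached to the cocycle. -/
noncomputable def ext : Exal.Ext A B L where
  E := HE f hsymm hcoc
  proj :=
    { toFun := fun x => x.1
      map_one' := rfl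
      map_mul' := fun _ _ => rfl
      map_zero' := rfl
      map_add' := fun _ _ => rfl
      commutes' := fun _ => rfl }
  incl :=
    { toFun := fun z => (((0 : B), z) : B × L)
      map_zero' := rfl
      map_add' := fun z z' => by
        apply Prod.ext
        · exact (add_zero (0 : B)).symm
        · rfl }
  isExtension :=
    { proj_surjective := fun b => ⟨((b, 0) : B × L), rfl⟩
      incl_injective := fun z z' h => congrArg Prod.snd h
      exact := fun x => by
        constructor
        · intro hx
          exact ⟨x.2, Prod.ext (Eq.symm hx) rfl⟩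
        · rintro ⟨z, rfl⟩
          rfl
      mul_incl := fun x z => by
        apply Prod.ext
        · exact mul_zero _
        · change x.1 • z + (0 : B) • x.2 + f x.1 0 = x.1 • z
          rw [zero_smul, map_zero, add_zero, add_zero] }

include hsymm hcoc in
theorem cobound [Algebra.FormallySmooth A B] :
    ∃ g : B →ₗ[A] L, ∀ x y : B, f x y = x • g y - g (x * y) + y • g x := by
  let X := ext f hsymm hcoc
  let s : B →ₐ[A] HE f hsymm hcoc := Algebra.FormallySmooth.liftOfSurjective (AlgHom.id A B) X.proj
    X.isExtension.proj_surjective (ExalFib.isNilpotent_ker X)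
  have hs1 : ∀ b, (s b).1 = b := fun b =>
    Algebra.FormallySmooth.liftOfSurjective_apply (AlgHom.id A B) X.proj
      X.isExtension.proj_surjective (ExalFib.isNilpotent_ker X) b
  let h : B →ₗ[A] L :=
    { toFun := fun b => (s b).2
      map_add' := fun b b' => by rw [map_add]; rfl
      map_smul' := fun a b => by
        rw [map_smul, Algebra.smul_def, snd_mul, algebraMap_fst, algebraMap_snd, hs1,
          f_algebraMap f hcoc, algebraMap_smul, smul_neg, RingHom.id_apply, smul_comm b a]
        abel }
  refine ⟨-h, fun x y => ?_⟩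
  have h1 : (s (x * y)).2 = (s x * s y).2 := by rw [map_mul]
  rw [snd_mul, hs1, hs1] at h1
  change f x y = x • (-(s y).2) - (-(s (x * y)).2) + y • (-(s x).2)
  rw [h1, smul_neg, smul_neg]
  abel

end Groth.Agent.Helper2.ExalHoch
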