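import Mathlib
import Groth.Prelude.Def_Exal
import Groth.Prelude.Def_Exal2

set_option autoImplicit false
universe u v

namespace Groth.Agent.Helper2.ExalHom

section
variable {B : Type u} [CommRing B] (J : Ideal B)
    {M : Type u} [AddCommGroup M] [Module (B ⧸ J) M] [Module B M] [IsScalarTower B (B ⧸ J) M]

lemma exal_exists_hom (X Y : Exal.Ext B (B ⧸ J) M)
    (h : ∀ j : J, X.idealToKer J j = Y.idealToKer J j) :
    ∃ φ : X.E →ₐ[B] Y.E, ∀ (b : B) (z : M),
      φ (algebraMap B X.E b + X.incl z) = algebraMap B Y.E b + Y.incl z := by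
  have hpiX : ∀ z, X.proj (X.incl z) = 0 := fun z => (X.isExtension.exact _).2 ⟨z, rfl⟩
  have hiiX : ∀ z z', X.incl z * X.incl z' = 0 := fun z z' => by
    rw [X.isExtension.mul_incl, hpiX, zero_smul, map_zero]
  have hpiY : ∀ z, Y.proj (Y.incl z) = 0 := fun z => (Y.isExtension.exact _).2 ⟨z, rfl⟩
  have hiiY : ∀ z z', Y.incl z * Y.incl z' = 0 := fun z z' => by
    rw [Y.isExtension.mul_incl, hpiY, zero_smul, map_zero]
  have hpβX : ∀ b, X.proj (algebraMap B X.E b) = Ideal.Quotient.mk J b := fun b => X.proj.commutes b
  have hpβY : ∀ b, Y.proj (algebraMap B Y.E b) = Ideal.Quotient.mk J b := fun b => Y.proj.commutes b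
  have hbiX : ∀ (b : B) z, algebraMap B X.E b * X.incl z = X.incl (b • z) := fun b z => by
    rw [X.isExtension.mul_incl, hpβX, ← Ideal.Quotient.algebraMap_eq, algebraMap_smul]
  have hbiY : ∀ (b : B) z, algebraMap B Y.E b * Y.incl z = Y.incl (b • z) := fun b z => by
    rw [Y.isExtension.mul_incl, hpβY, ← Ideal.Quotient.algebraMap_eq, algebraMap_smul]
  have hJX : ∀ j : J, algebraMap B X.E j = X.incl (X.idealToKer J j) := fun j =>
    (Exal.Ext.incl_kerLift X (algebraMap B X.E j) (Exal.Ext.proj_algebraMap_eq_zero J X j)).symm
  have hJY : ∀ j : J, algebraMap B Y.E j = Y.incl (Y.idealToKer J j) := fun j =>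
    (Exal.Ext.incl_kerLift Y (algebraMap B Y.E j) (Exal.Ext.proj_algebraMap_eq_zero J Y j)).symm
  -- decomposition
  have hdec : ∀ x : X.E, ∃ (b : B) (z : M), x = algebraMap B X.E b + X.incl z := fun x => by
    obtain ⟨b, hb⟩ := Ideal.Quotient.mk_surjective (X.proj x)
    have h0 : X.proj (x - algebraMap B X.E b) = 0 := by rw [map_sub, hpβX, hb, sub_self]
    obtain ⟨z, hz⟩ := (X.isExtension.exact _).1 h0
    exact ⟨b, z, by rw [hz]; abel⟩
  choose σ k hσk using hdec
  let φ₀ : X.E → Y.E := fun x => algebraMap B Y.E (σ x) + Y.incl (k x)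
  have key : ∀ (b : B) (z : M), φ₀ (algebraMap B X.E b + X.incl z) = algebraMap B Y.E b + Y.incl z := by
    intro b z
    set x := algebraMap B X.E b + X.incl z with hx
    have h1 : x = algebraMap B X.E (σ x) + X.incl (k x) := hσk x
    have hj : σ x - b ∈ J := by
      rw [← Ideal.Quotient.eq]
      have := congrArg X.proj h1
      rw [map_add, hpβX, hpiX, add_zero, hx, map_add, hpβX, hpiX, add_zero] at this
      exact this.symm
    have h2 : X.incl (k x) = X.incl (z - X.idealToKer J ⟨_, hj⟩) := by
      rw [map_sub, ← hJX]
      change _ = _ - algebraMap B X.E (σ x - b)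
      rw [map_sub]
      have h4 : X.incl (k x) = x - algebraMap B X.E (σ x) := by
        rw [eq_sub_iff_add_eq, add_comm]; exact h1.symm
      rw [h4, hx]
      abel
    have h3 := X.isExtension.incl_injective h2
    change algebraMap B Y.E (σ x) + Y.incl (k x) = _
    rw [h3, h, map_sub, ← hJY]
    change _ + (_ - algebraMap B Y.E (σ x - b)) = _
    rw [map_sub]
    abel
  have hdec' : ∀ x : X.E, x = algebraMap B X.E (σ x) + X.incl (k x) := hσk
  refine ⟨
    { toFun := φ₀
      map_one' := by
        have := key 1 0
        rw [map_zero, map_zero, add_zero, add_zero, map_one, map_one] at this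
        exact this
      map_mul' := fun x y => by
        rw [hdec' x, hdec' y]
        have e1 : (algebraMap B X.E (σ x) + X.incl (k x)) * (algebraMap B X.E (σ y) + X.incl (k y)) =
            algebraMap B X.E (σ x * σ y) + X.incl (σ x • k y + σ y • k x) := by
          rw [map_add, ← hbiX, ← hbiX, map_mul]
          have := hiiX (k x) (k y)
          linear_combination this
        rw [e1, key, key, key, map_add, ← hbiY, ← hbiY, map_mul]
        have := hiiY (k x) (k y)
        linear_combination -this
      map_zero' := by
        have := key 0 0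
        rw [map_zero, map_zero, add_zero, map_zero, map_zero, add_zero] at this
        exact this
      map_add' := fun x y => by
        rw [hdec' x, hdec' y]
        have e1 : (algebraMap B X.E (σ x) + X.incl (k x)) + (algebraMap B X.E (σ y) + X.incl (k y)) =
            algebraMap B X.E (σ x + σ y) + X.incl (k x + k y) := by
          rw [map_add, map_add]; abel
        rw [e1, key, key, key, map_add, map_add]
        abel
      commutes' := fun b => by
        have := key b 0
        rw [map_zero, map_zero, add_zero, add_zero] at this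
        exact this }, key⟩

end

end Groth.Agent.Helper2.ExalHom
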