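import Mathlib

set_option autoImplicit false
set_option linter.unusedSectionVars false
universe u v w

namespace Groth.Agent.Helper2.ExalQuot

open TensorProduct KaehlerDifferential

variable (Λ : Type u) (B : Type v) (P : Type v) (C : Type v) [CommRing Λ] [CommRing B] [CommRing P] [CommRing C]
  [Algebra Λ B] [Algebra Λ P] [Algebra B P] [Algebra P C] [Algebra B C] [Algebra Λ C]
  [IsScalarTower Λ B P] [IsScalarTower B P C] [IsScalarTower Λ P C] [IsScalarTower Λ B C]

/-- `C ⊗_B Ω_{B/Λ} → C ⊗_P Ω_{P/Λ}`. -/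
noncomputable def Phi : C ⊗[B] Ω[B⁄Λ] →ₗ[B] C ⊗[P] Ω[P⁄Λ] :=
  TensorProduct.lift
    (LinearMap.mk₂ B (fun (c : C) (ω : Ω[B⁄Λ]) => c ⊗ₜ[P] KaehlerDifferential.map Λ Λ B P ω)
      (fun c c' ω => by rw [TensorProduct.add_tmul])
      (fun b c ω => by rw [TensorProduct.smul_tmul'])
      (fun c ω ω' => by rw [map_add, TensorProduct.tmul_add])
      (fun b c ω => by
        rw [map_smul, ← IsScalarTower.algebraMap_smul P b, ← TensorProduct.smul_tmul,
          IsScalarTower.algebraMap_smul, TensorProduct.smul_tmul']))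

lemma Phi_tmul (c : C) (ω : Ω[B⁄Λ]) :
    Phi Λ B P C (c ⊗ₜ[B] ω) = c ⊗ₜ[P] KaehlerDifferential.map Λ Λ B P ω := rfl

lemma Phi_tmul_D (c : C) (b : B) :
    Phi Λ B P C (c ⊗ₜ[B] D Λ B b) = c ⊗ₜ[P] D Λ P (algebraMap B P b) := by
  rw [Phi_tmul, map_D]

variable (hsurj : Function.Surjective (algebraMap B P))
  (hK : RingHom.ker (algebraMap B P) ≤ (RingHom.ker (algebraMap B C)) ^ 2)

lemma one_tmul_D_eq_zero (x : B) (hx : x ∈ (RingHom.ker (algebraMap B C)) ^ 2) :
    (1 : C) ⊗ₜ[B] D Λ B x = 0 := by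
  rw [pow_two] at hx
  refine Submodule.mul_induction_on hx ?_ ?_
  · intro a ha b hb
    rw [Derivation.leibniz, tmul_add, ← smul_tmul, ← smul_tmul, Algebra.smul_def, Algebra.smul_def,
      mul_one, mul_one, RingHom.mem_ker.mp ha, RingHom.mem_ker.mp hb, zero_tmul, zero_tmul, add_zero]
  · intro a b ha hb
    rw [map_add, tmul_add, ha, hb, add_zero]

include hK in
lemma one_tmul_D_congr (b b' : B) (h : algebraMap B P b = algebraMap B P b') :
    (1 : C) ⊗ₜ[B] D Λ B b = (1 : C) ⊗ₜ[B] D Λ B b' := by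
  have h1 : b - b' ∈ RingHom.ker (algebraMap B P) := by
    rw [RingHom.mem_ker, map_sub, h, sub_self]
  have h2 := one_tmul_D_eq_zero Λ B C (b - b') (hK h1)
  rw [map_sub, tmul_sub, sub_eq_zero] at h2
  exact h2

include hsurj hK in
/-- the inverse map on pure tensors. -/
lemma exists_Psi : ∃ Ψ : C ⊗[P] Ω[P⁄Λ] →ₗ[C] C ⊗[B] Ω[B⁄Λ],
    ∀ (c : C) (b : B), Ψ (c ⊗ₜ[P] D Λ P (algebraMap B P b)) = c ⊗ₜ[B] D Λ B b := by
  let σ : P → B := Function.surjInv hsurj
  have hσ : ∀ p, algebraMap B P (σ p) = p := Function.surjInv_eq hsurj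
  have hW := one_tmul_D_congr Λ B P C hK
  have hsmul : ∀ (p : P) (t : C ⊗[B] Ω[B⁄Λ]), p • t = algebraMap P C p • t := fun p t => by
    rw [algebraMap_smul]
  let d₀ : P →ₗ[Λ] C ⊗[B] Ω[B⁄Λ] :=
    { toFun := fun p => (1 : C) ⊗ₜ[B] D Λ B (σ p)
      map_add' := fun p p' => by
        rw [← tmul_add, ← map_add]
        apply hW
        rw [hσ, map_add, hσ, hσ]
      map_smul' := fun l p => by
        rw [RingHom.id_apply, ← tmul_smul, ← Derivation.map_smul]
        apply hW
        rw [hσ, Algebra.smul_def, Algebra.smul_def, map_mul, hσ, ← IsScalarTower.algebraMap_apply] }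
  let d' : Derivation Λ P (C ⊗[B] Ω[B⁄Λ]) := Derivation.mk' d₀ (by
    intro p p'
    change (1 : C) ⊗ₜ[B] D Λ B (σ (p * p')) =
      p • ((1 : C) ⊗ₜ[B] D Λ B (σ p')) + p' • ((1 : C) ⊗ₜ[B] D Λ B (σ p))
    have h1 : (1 : C) ⊗ₜ[B] D Λ B (σ (p * p')) = (1 : C) ⊗ₜ[B] D Λ B (σ p * σ p') := by
      apply hW
      rw [hσ, map_mul, hσ, hσ]
    rw [h1, Derivation.leibniz, tmul_add, tmul_smul, tmul_smul]
    congr 1
    · conv_rhs => rw [← hσ p]
      rw [algebraMap_smul]
    · conv_rhs => rw [← hσ p']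
      rw [algebraMap_smul])
  have hd' : ∀ b : B, d' (algebraMap B P b) = (1 : C) ⊗ₜ[B] D Λ B b := fun b => by
    change (1 : C) ⊗ₜ[B] D Λ B (σ (algebraMap B P b)) = _
    apply hW
    rw [hσ]
  refine ⟨d'.liftKaehlerDifferential.liftBaseChange C, fun c b => ?_⟩
  rw [LinearMap.liftBaseChange_tmul, Derivation.liftKaehlerDifferential_comp_D, hd', smul_tmul',
    smul_eq_mul, mul_one]

include hsurj hK in
lemma Phi_injective : Function.Injective (Phi Λ B P C) := by
  obtain ⟨Ψ, hΨ⟩ := exists_Psi Λ B P C hsurj hK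
  have h : ∀ t, Ψ (Phi Λ B P C t) = t := fun t => by
    induction t using TensorProduct.induction_on with
    | zero => simp
    | add x y hx hy => rw [map_add, map_add, hx, hy]
    | tmul c ω =>
      have hω : ω ∈ Submodule.span B (Set.range (D Λ B)) := by
        rw [span_range_derivation]; trivial
      revert c
      induction hω using Submodule.span_induction with
      | mem x hx =>
        obtain ⟨b, rfl⟩ := hx
        intro c
        rw [Phi_tmul_D, hΨ]
      | zero => intro c; simp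
      | add x y _ _ hx hy => intro c; rw [tmul_add, map_add, map_add, hx, hy]
      | smul b x _ hx =>
        intro c
        have : c ⊗ₜ[B] (b • x) = (b • c) ⊗ₜ[B] x := (smul_tmul b c x).symm
        rw [this]
        exact hx (b • c)
  exact Function.LeftInverse.injective h

section Ext
variable {R : Type u} {S : Type v} {T : Type w} [CommRing R] [CommRing S] [CommRing T] [Algebra R S] [Algebra S T]

/-- additive maps out of `T ⊗_S Ω_{S/R}` agreeing on `t ⊗ d s` are equal. -/
lemma tensor_kaehler_ext {M : Type*} [AddCommMonoid M] (f g : T ⊗[S] Ω[S⁄R] →+ M)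
    (h : ∀ (t : T) (s : S), f (t ⊗ₜ[S] D R S s) = g (t ⊗ₜ[S] D R S s)) (x : T ⊗[S] Ω[S⁄R]) :
    f x = g x := by
  induction x using TensorProduct.induction_on with
  | zero => rw [map_zero, map_zero]
  | add x y hx hy => rw [map_add, map_add, hx, hy]
  | tmul c ω =>
    have hω : ω ∈ Submodule.span S (Set.range (D R S)) := by
      rw [span_range_derivation]; trivial
    revert c
    induction hω using Submodule.span_induction with
    | mem x hx =>
      obtain ⟨b, rfl⟩ := hx
      intro c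
      exact h c b
    | zero => intro c; rw [tmul_zero, map_zero, map_zero]
    | add x y _ _ hx hy => intro c; rw [tmul_add, map_add, map_add, hx, hy]
    | smul b x _ hx =>
      intro c
      have : c ⊗ₜ[S] (b • x) = (b • c) ⊗ₜ[S] x := (smul_tmul b c x).symm
      rw [this]
      exact hx (b • c)

end Ext

end Groth.Agent.Helper2.ExalQuot
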