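import Mathlib
import Groth.Prelude.Def_Exal3
import Groth.Prelude.Def_Exal2
import Groth.Agent.Helper2.ExalChar
import Groth.Agent.Helper2.ExalQuot

set_option autoImplicit false
set_option linter.unusedSectionVars false
universe u v

namespace Groth.Agent.Helper2.ExalInf

open TensorProduct KaehlerDifferential

variable (Λ : Type u) (A : Type v) {B : Type v} [CommRing Λ] [CommRing A] [CommRing B]
  [Algebra Λ A] [Algebra Λ B] [Algebra A B] [IsScalarTower Λ A B] (K : Ideal B)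

/-- the infinitesimal extension as an `A`-extension. -/
noncomputable abbrev XX : Exal.Ext A (B ⧸ K) K.Cotangent := (Exal.Ext.infinitesimal K).restrictBase A

/-- its middle ring with the `Λ`-structure. -/
abbrev PP : Type v := (XX A K).CharCarrier Λ

/-- the natural `B`-algebra structure on the middle ring `B ⧸ K ^ 2`. -/
@[reducible] def algBP : Algebra B (PP Λ A K) := inferInstanceAs (Algebra B (B ⧸ K ^ 2))

attribute [local instance] algBP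

lemma algebraMap_B_PP (b : B) : algebraMap B (PP Λ A K) b = Ideal.Quotient.mk (K ^ 2) b := rfl

lemma tower_ΛBP : IsScalarTower Λ B (PP Λ A K) :=
  IsScalarTower.of_algebraMap_eq (fun l => by
    change Ideal.Quotient.mk (K ^ 2) (algebraMap A B (algebraMap Λ A l)) =
      Ideal.Quotient.mk (K ^ 2) (algebraMap Λ B l)
    rw [← IsScalarTower.algebraMap_apply])

lemma tower_BPC : IsScalarTower B (PP Λ A K) (B ⧸ K) :=
  IsScalarTower.of_algebraMap_eq (fun _ => rfl)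

attribute [local instance] tower_ΛBP tower_BPC

lemma algebraMap_A_PP (a : A) : algebraMap A (PP Λ A K) a = algebraMap B (PP Λ A K) (algebraMap A B a) := rfl

lemma surj_BP : Function.Surjective (algebraMap B (PP Λ A K)) := Ideal.Quotient.mk_surjective

lemma ker_le : RingHom.ker (algebraMap B (PP Λ A K)) ≤ (RingHom.ker (algebraMap B (B ⧸ K))) ^ 2 := by
  have h1 : RingHom.ker (algebraMap B (PP Λ A K)) = K ^ 2 := Ideal.mk_ker
  have h2 : RingHom.ker (algebraMap B (B ⧸ K)) = K := by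
    rw [Ideal.Quotient.algebraMap_eq, Ideal.mk_ker]
  rw [h1, h2]

/-- the map `C ⊗_A Ω_{A/Λ} → C ⊗_B Ω_{B/Λ}` of the statement. -/
noncomputable def iota : (B ⧸ K) ⊗[A] Ω[A⁄Λ] →ₗ[B ⧸ K] (B ⧸ K) ⊗[B] Ω[B⁄Λ] :=
  ((KaehlerDifferential.mapBaseChange Λ A B).baseChange (B ⧸ K)).comp
    (TensorProduct.AlgebraTensorModule.cancelBaseChange A B (B ⧸ K) (B ⧸ K) Ω[A⁄Λ]).symm.toLinearMap

lemma iota_apply (z : (B ⧸ K) ⊗[A] Ω[A⁄Λ]) :
    iota Λ A K z = ((KaehlerDifferential.mapBaseChange Λ A B).baseChange (B ⧸ K))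
      ((TensorProduct.AlgebraTensorModule.cancelBaseChange A B (B ⧸ K) (B ⧸ K) Ω[A⁄Λ]).symm z) := rfl

lemma iota_tmul (c : B ⧸ K) (ω : Ω[A⁄Λ]) :
    iota Λ A K (c ⊗ₜ[A] ω) = c ⊗ₜ[B] KaehlerDifferential.map Λ Λ A B ω := by
  rw [iota_apply, TensorProduct.AlgebraTensorModule.cancelBaseChange_symm_tmul,
    LinearMap.baseChange_tmul, mapBaseChange_tmul, one_smul]

lemma iota_tmul_D (c : B ⧸ K) (a : A) :
    iota Λ A K (c ⊗ₜ[A] D Λ A a) = c ⊗ₜ[B] D Λ B (algebraMap A B a) := by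
  rw [iota_tmul, map_D]

lemma Phi_iota (z : (B ⧸ K) ⊗[A] Ω[A⁄Λ]) :
    ExalQuot.Phi Λ B (PP Λ A K) (B ⧸ K) (iota Λ A K z) = (XX A K).baseChangeToMiddle Λ z := by
  refine ExalQuot.tensor_kaehler_ext
    (((ExalQuot.Phi Λ B (PP Λ A K) (B ⧸ K)).toAddMonoidHom).comp (iota Λ A K).toAddMonoidHom)
    ((XX A K).baseChangeToMiddle Λ).toAddMonoidHom (fun c a => ?_) z
  change ExalQuot.Phi Λ B (PP Λ A K) (B ⧸ K) (iota Λ A K (c ⊗ₜ[A] D Λ A a)) =
    c ⊗ₜ[PP Λ A K] KaehlerDifferential.map Λ Λ A (PP Λ A K) (D Λ A a)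
  rw [iota_tmul_D, ExalQuot.Phi_tmul_D, map_D]
  rfl

lemma deltaL_toCotangent (k : K) :
    (XX A K).deltaL Λ (K.toCotangent k) =
      ExalQuot.Phi Λ B (PP Λ A K) (B ⧸ K) ((1 : B ⧸ K) ⊗ₜ[B] D Λ B (k : B)) := by
  rw [ExalQuot.Phi_tmul_D]
  change (1 : B ⧸ K) ⊗ₜ[PP Λ A K] D Λ (PP Λ A K) ((XX A K).inclC Λ (K.toCotangent k)) = _
  congr 2

lemma Phi_injective : Function.Injective (ExalQuot.Phi Λ B (PP Λ A K) (B ⧸ K)) :=
  ExalQuot.Phi_injective Λ B (PP Λ A K) (B ⧸ K) (surj_BP Λ A K) (ker_le Λ A K)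

/-- S5833 (a). -/
lemma chi_eq_zero_iff (htriv : (XX A K).IsTrivialOver Λ)
    (χ : ↥(EGA41.imperfection Λ A (B ⧸ K)) →ₗ[B ⧸ K] K.Cotangent)
    (hχ : (XX A K).IsCharHom Λ χ) (z : ↥(EGA41.imperfection Λ A (B ⧸ K))) :
    χ z = 0 ↔ iota Λ A K (z : (B ⧸ K) ⊗[A] Ω[A⁄Λ]) = 0 := by
  have hinj := ExalChar.deltaL_injective Λ (XX A K) htriv
  have h1 := hχ z
  rw [← Phi_iota] at h1
  constructor
  · intro h
    rw [h, map_zero] at h1
    apply Phi_injective Λ A K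
    rw [← h1, map_zero]
  · intro h
    rw [h, map_zero] at h1
    apply hinj
    rw [h1, map_zero]

/-- `C ⊗_B Ω_{B/Λ} → C ⊗_B Ω_{B/A}`. -/
noncomputable def qq : (B ⧸ K) ⊗[B] Ω[B⁄Λ] →ₗ[B ⧸ K] (B ⧸ K) ⊗[B] Ω[B⁄A] :=
  (KaehlerDifferential.map Λ A B B).baseChange (B ⧸ K)

lemma qq_tmul_D (c : B ⧸ K) (b : B) : qq Λ A K (c ⊗ₜ[B] D Λ B b) = c ⊗ₜ[B] D A B b := by
  rw [qq, LinearMap.baseChange_tmul, map_D]
  rfl

lemma qq_iota (z : (B ⧸ K) ⊗[A] Ω[A⁄Λ]) : qq Λ A K (iota Λ A K z) = 0 := by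
  refine ExalQuot.tensor_kaehler_ext
    ((qq Λ A K).toAddMonoidHom.comp (iota Λ A K).toAddMonoidHom) 0 (fun c a => ?_) z
  change qq Λ A K (iota Λ A K (c ⊗ₜ[A] D Λ A a)) = 0
  rw [iota_tmul_D, qq_tmul_D, Derivation.map_algebraMap, tmul_zero]

lemma exact_iota_qq (t : (B ⧸ K) ⊗[B] Ω[B⁄Λ]) (ht : qq Λ A K t = 0) :
    ∃ w : (B ⧸ K) ⊗[A] Ω[A⁄Λ], iota Λ A K w = t := by
  have hex := lTensor_exact (B ⧸ K) (KaehlerDifferential.exact_mapBaseChange_map Λ A B)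
    (KaehlerDifferential.map_surjective Λ A B)
  have ht' : (LinearMap.lTensor (B ⧸ K) (KaehlerDifferential.map Λ A B B)) t = 0 := ht
  obtain ⟨w', hw'⟩ := (hex t).1 ht'
  refine ⟨TensorProduct.AlgebraTensorModule.cancelBaseChange A B (B ⧸ K) (B ⧸ K) Ω[A⁄Λ] w', ?_⟩
  rw [iota_apply, LinearEquiv.symm_apply_apply]
  exact hw'

lemma mapBaseChange_eq (w : (B ⧸ K) ⊗[A] Ω[A⁄Λ]) :
    mapBaseChange Λ A (B ⧸ K) w = mapBaseChange Λ B (B ⧸ K) (iota Λ A K w) := by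
  refine ExalQuot.tensor_kaehler_ext (mapBaseChange Λ A (B ⧸ K)).toAddMonoidHom
    ((mapBaseChange Λ B (B ⧸ K)).toAddMonoidHom.comp (iota Λ A K).toAddMonoidHom) (fun c a => ?_) w
  change mapBaseChange Λ A (B ⧸ K) (c ⊗ₜ[A] D Λ A a) =
    mapBaseChange Λ B (B ⧸ K) (iota Λ A K (c ⊗ₜ[A] D Λ A a))
  rw [iota_tmul_D, mapBaseChange_tmul, mapBaseChange_tmul, map_D, map_D,
    ← IsScalarTower.algebraMap_apply]

/-- S5833 (b). -/
lemma toCotangent_mem_range_iff (htriv : (XX A K).IsTrivialOver Λ)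
    (χ : ↥(EGA41.imperfection Λ A (B ⧸ K)) →ₗ[B ⧸ K] K.Cotangent)
    (hχ : (XX A K).IsCharHom Λ χ) (x : B) (hx : x ∈ K) :
    K.toCotangent ⟨x, hx⟩ ∈ LinearMap.range χ ↔
      (1 : B ⧸ K) ⊗ₜ[B] KaehlerDifferential.D A B x = (0 : (B ⧸ K) ⊗[B] Ω[B⁄A]) := by
  have hinj := ExalChar.deltaL_injective Λ (XX A K) htriv
  constructor
  · rintro ⟨z, hz⟩
    have h1 := hχ z
    rw [← Phi_iota, hz, deltaL_toCotangent] at h1
    have h2 := Phi_injective Λ A K h1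
    have h3 := congrArg (qq Λ A K) h2
    rw [qq_iota, qq_tmul_D] at h3
    exact h3
  · intro h
    have h1 : qq Λ A K ((1 : B ⧸ K) ⊗ₜ[B] D Λ B x) = 0 := by rw [qq_tmul_D, h]
    obtain ⟨w, hw⟩ := exact_iota_qq Λ A K _ h1
    have hwmem : w ∈ EGA41.imperfection Λ A (B ⧸ K) := by
      change mapBaseChange Λ A (B ⧸ K) w = 0
      rw [mapBaseChange_eq, hw, mapBaseChange_tmul, one_smul, map_D, Ideal.Quotient.algebraMap_eq,
        Ideal.Quotient.eq_zero_iff_mem.2 hx, map_zero]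
    refine ⟨⟨w, hwmem⟩, ?_⟩
    apply hinj
    rw [hχ, ← Phi_iota]
    change ExalQuot.Phi Λ B (PP Λ A K) (B ⧸ K) (iota Λ A K w) = _
    rw [hw, deltaL_toCotangent]

end Groth.Agent.Helper2.ExalInf
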