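import Mathlib
import Groth.Prelude

namespace Groth.Agent.Helper2.ExalSix

open Exal

attribute [local instance] Exal.opModule Exal.isCentralScalar_opModule

universe u v

section Basic

variable {A : Type u} {B L : Type v} [CommRing A] [CommRing B] [Algebra A B] [AddCommGroup L]
  [Module B L]

theorem proj_incl (X : Ext A B L) (z : L) : X.proj (X.incl z) = 0 :=
  (X.isExtension.exact _).2 ⟨z, rfl⟩

theorem incl_mul_incl (X : Ext A B L) (z z' : L) : X.incl z * X.incl z' = 0 := by
  rw [X.isExtension.mul_incl, proj_incl, zero_smul, map_zero]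

theorem incl_mul (X : Ext A B L) (x : X.E) (z : L) : X.incl z * x = X.incl (X.proj x • z) := by
  rw [mul_comm, X.isExtension.mul_incl]

theorem exists_incl_of_proj_eq (X : Ext A B L) {x y : X.E} (h : X.proj x = X.proj y) :
    ∃ z, x = y + X.incl z := by
  have h0 : X.proj (x - y) = 0 := by rw [map_sub, h, sub_self]
  obtain ⟨z, hz⟩ := (X.isExtension.exact _).1 h0
  exact ⟨z, by rw [hz]; ring⟩

/-- A morphism of extensions is an equivalence (five lemma). -/
noncomputable def equivOfHom {X Y : Ext A B L} (f : X.E →ₐ[A] Y.E)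
    (hp : ∀ x, Y.proj (f x) = X.proj x) (hi : ∀ z, f (X.incl z) = Y.incl z) : X.Equiv Y where
  toAlgEquiv := AlgEquiv.ofBijective f (by
    constructor
    · rw [injective_iff_map_eq_zero]
      intro x hx
      have h0 : X.proj x = 0 := by rw [← hp, hx, map_zero]
      obtain ⟨z, rfl⟩ := (X.isExtension.exact _).1 h0
      rw [hi] at hx
      have : z = 0 := Y.isExtension.incl_injective (by rw [hx, map_zero])
      rw [this, map_zero]
    · intro y
      obtain ⟨x₀, hx₀⟩ := X.isExtension.proj_surjective (Y.proj y)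
      obtain ⟨z, hz⟩ := exists_incl_of_proj_eq Y (x := y) (y := f x₀) (by rw [hp, hx₀])
      exact ⟨x₀ + X.incl z, by rw [map_add, hi, hz]⟩)
  proj_apply := hp
  apply_incl := hi

/-- The function underlying the morphism from the trivial extension attached to a section. -/
noncomputable def secFun (X : Ext A B L) (s : B →ₐ[A] X.E) (x : TrivSqZeroExt B L) : X.E :=
  s x.fst + X.incl x.snd

theorem secFun_one (X : Ext A B L) (s : B →ₐ[A] X.E) : secFun X s 1 = 1 := by
  unfold secFun
  rw [TrivSqZeroExt.fst_one, TrivSqZeroExt.snd_one, map_one, map_zero, add_zero]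

theorem secFun_zero (X : Ext A B L) (s : B →ₐ[A] X.E) : secFun X s 0 = 0 := by
  unfold secFun
  rw [TrivSqZeroExt.fst_zero, TrivSqZeroExt.snd_zero, map_zero, map_zero, add_zero]

theorem secFun_add (X : Ext A B L) (s : B →ₐ[A] X.E) (x y : TrivSqZeroExt B L) :
    secFun X s (x + y) = secFun X s x + secFun X s y := by
  unfold secFun
  rw [TrivSqZeroExt.fst_add, TrivSqZeroExt.snd_add, map_add, map_add]
  ring

theorem secFun_mul (X : Ext A B L) (s : B →ₐ[A] X.E) (hs : ∀ b, X.proj (s b) = b)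
    (x y : TrivSqZeroExt B L) :
    secFun X s (x * y) = secFun X s x * secFun X s y := by
  unfold secFun
  rw [TrivSqZeroExt.fst_mul, TrivSqZeroExt.snd_mul, map_mul, map_add, op_smul_eq_smul]
  rw [add_mul, mul_add, mul_add, incl_mul_incl, add_zero, X.isExtension.mul_incl, incl_mul, hs, hs]
  ring

theorem secFun_inl (X : Ext A B L) (s : B →ₐ[A] X.E) (b : B) :
    secFun X s (TrivSqZeroExt.inl b) = s b := by
  unfold secFun
  rw [TrivSqZeroExt.fst_inl, TrivSqZeroExt.snd_inl, map_zero, add_zero]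

theorem secFun_inr (X : Ext A B L) (s : B →ₐ[A] X.E) (z : L) :
    secFun X s (TrivSqZeroExt.inr z) = X.incl z := by
  unfold secFun
  rw [TrivSqZeroExt.fst_inr, TrivSqZeroExt.snd_inr, map_zero, zero_add]

/-- The morphism from the trivial extension attached to a section. -/
noncomputable def homOfSection (X : Ext A B L) (s : B →ₐ[A] X.E) (hs : ∀ b, X.proj (s b) = b) :
    (Ext.trivial A B L).E →ₐ[A] X.E where
  toFun x := secFun X s x
  map_one' := secFun_one X s
  map_mul' x y := secFun_mul X s hs x y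
  map_zero' := secFun_zero X s
  map_add' x y := secFun_add X s x y
  commutes' a := (secFun_inl X s (algebraMap A B a)).trans (s.commutes a)

/-- An extension with a section is equivalent to the trivial extension. -/
noncomputable def trivialEquivOfSection (X : Ext A B L) (s : B →ₐ[A] X.E)
    (hs : ∀ b, X.proj (s b) = b) : (Ext.trivial A B L).Equiv X :=
  equivOfHom (homOfSection X s hs)
    (fun x => by
      show X.proj (s (TrivSqZeroExt.fst (R := B) (M := L) x) +
        X.incl (TrivSqZeroExt.snd (R := B) (M := L) x)) = TrivSqZeroExt.fst (R := B) (M := L) x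
      rw [map_add, hs, proj_incl, add_zero])
    (fun z => secFun_inr X s z)

theorem isTrivial_of_equiv_trivial (X : Ext A B L) (e : (Ext.trivial A B L).Equiv X) :
    X.IsTrivial := by
  refine ⟨e.toAlgEquiv.toAlgHom.comp
    { toFun := fun b => (TrivSqZeroExt.inl b : TrivSqZeroExt B L)
      map_one' := TrivSqZeroExt.inl_one L
      map_mul' := fun x y => TrivSqZeroExt.inl_mul L x y
      map_zero' := TrivSqZeroExt.inl_zero L
      map_add' := fun x y => TrivSqZeroExt.inl_add L x y
      commutes' := fun a => rfl }, fun b => ?_⟩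
  show X.proj (e.toAlgEquiv (TrivSqZeroExt.inl b : TrivSqZeroExt B L)) = b
  rw [e.proj_apply]
  rfl

end Basic

section Pull

variable {A : Type u} {B₀ B L : Type v} [CommRing A] [CommRing B₀] [CommRing B] [Algebra A B₀]
  [Algebra A B] [Algebra B₀ B] [IsScalarTower A B₀ B] [AddCommGroup L] [Module B L] [Module B₀ L]
  [IsScalarTower B₀ B L]

theorem mem_fiberProd (Y : Ext A B L) (x : Y.E × B₀) :
    x ∈ Y.fiberProd B₀ ↔ Y.proj x.1 = algebraMap B₀ B x.2 := by
  simp [Ext.fiberProd, AlgHom.mem_equalizer]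

theorem isTrivial_of_hom_pullback (Y : Ext A B L) (f : B₀ →ₐ[A] Y.E)
    (hf : ∀ b, Y.proj (f b) = algebraMap B₀ B b) : (Y.pullback B₀).IsTrivial := by
  refine ⟨AlgHom.codRestrict (f.prod (AlgHom.id A B₀)) (Y.fiberProd B₀) (fun b => ?_), fun b => rfl⟩
  rw [mem_fiberProd]
  exact hf b

theorem pullback_restrictBase_isTrivial (X : Ext B₀ B L) :
    ((X.restrictBase A).pullback B₀).IsTrivial := by
  refine isTrivial_of_hom_pullback (X.restrictBase A)
    { toFun := fun b => algebraMap B₀ X.E b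
      map_one' := map_one _
      map_mul' := map_mul _
      map_zero' := map_zero _
      map_add' := map_add _
      commutes' := fun a => rfl } (fun b => X.proj.commutes b)

theorem pullback_trivial_isTrivial : ((Ext.trivial A B L).pullback B₀).IsTrivial := by
  refine isTrivial_of_hom_pullback (Ext.trivial A B L)
    { toFun := fun b => (TrivSqZeroExt.inl (algebraMap B₀ B b) : TrivSqZeroExt B L)
      map_one' := by rw [map_one]; exact TrivSqZeroExt.inl_one L
      map_mul' := fun x y => by rw [map_mul]; exact TrivSqZeroExt.inl_mul L _ _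
      map_zero' := by rw [map_zero]; exact TrivSqZeroExt.inl_zero L
      map_add' := fun x y => by rw [map_add]; exact TrivSqZeroExt.inl_add L _ _
      commutes' := fun a => by
        rw [← IsScalarTower.algebraMap_apply]
        rfl } (fun b => rfl)

end Pull

section Descend

variable {k : Type u} {Λ R L : Type v} [CommRing k] [CommRing Λ] [CommRing R] [Algebra k Λ]
  [Algebra Λ R] [Algebra k R] [IsScalarTower k Λ R] [AddCommGroup L] [Module R L] [Module Λ L]
  [IsScalarTower Λ R L] [Module k L] [IsScalarTower k Λ L]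

theorem isTrivial_of_restrict (X : Ext Λ R L) (h₀ : (X.restrictBase k).IsTrivial)
    (ha : ∀ D : Derivation k Λ L, ∃ D' : Derivation k R L, ∀ a, D' (algebraMap Λ R a) = D a) :
    X.IsTrivial := by
  classical
  obtain ⟨s₀, hs₀⟩ := h₀
  -- view `s₀` as a ring hom into `X.E`
  let g : R →+* X.E :=
    { toFun := fun r => s₀ r
      map_one' := map_one s₀
      map_mul' := map_mul s₀
      map_zero' := map_zero s₀
      map_add' := map_add s₀ }
  have hg : ∀ r, X.proj (g r) = r := hs₀
  have hgk : ∀ c : k, g (algebraMap k R c) = algebraMap Λ X.E (algebraMap k Λ c) := fun c =>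
    s₀.commutes c
  have hpz : ∀ a : Λ, X.proj (algebraMap Λ X.E a - g (algebraMap Λ R a)) = 0 := by
    intro a
    rw [map_sub, hg, X.proj.commutes, sub_self]
  let D₀ : Λ → L := fun a => X.kerLift _ (hpz a)
  have hD₀ : ∀ a, X.incl (D₀ a) = algebraMap Λ X.E a - g (algebraMap Λ R a) := fun a =>
    X.incl_kerLift _ (hpz a)
  have hinj := X.isExtension.incl_injective
  have hD₀add : ∀ a b, D₀ (a + b) = D₀ a + D₀ b := by
    intro a b
    apply hinj
    rw [map_add, hD₀, hD₀, hD₀, map_add, map_add, map_add]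
    ring
  have hD₀mul : ∀ a b, D₀ (a * b) = a • D₀ b + b • D₀ a := by
    intro a b
    apply hinj
    rw [map_add, ← IsScalarTower.algebraMap_smul R a (D₀ b), ← IsScalarTower.algebraMap_smul R b (D₀ a)]
    have h1 : X.incl (algebraMap Λ R a • D₀ b) = algebraMap Λ X.E a * X.incl (D₀ b) := by
      rw [X.isExtension.mul_incl, X.proj.commutes]
    have h2 : X.incl (algebraMap Λ R b • D₀ a) = g (algebraMap Λ R b) * X.incl (D₀ a) := by
      rw [X.isExtension.mul_incl, hg]
    rw [h1, h2, hD₀, hD₀, hD₀, map_mul, map_mul, map_mul]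
    ring
  have hD₀k : ∀ c : k, D₀ (algebraMap k Λ c) = 0 := by
    intro c
    apply hinj
    rw [hD₀, map_zero, ← IsScalarTower.algebraMap_apply k Λ R, hgk, sub_self]
  let D₁ : Λ →ₗ[k] L :=
    { toFun := D₀
      map_add' := hD₀add
      map_smul' := fun c a => by
        rw [Algebra.smul_def, hD₀mul, hD₀k, smul_zero, add_zero, RingHom.id_apply,
          IsScalarTower.algebraMap_smul] }
  obtain ⟨D', hD'⟩ := ha (Derivation.mk' D₁ hD₀mul)
  have hD'₀ : ∀ a, D' (algebraMap Λ R a) = D₀ a := hD'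
  refine ⟨{ toFun := fun r => g r + X.incl (D' r)
            map_one' := by
              rw [map_one, Derivation.map_one_eq_zero, map_zero, add_zero]
            map_mul' := fun x y => by
              rw [map_mul, Derivation.leibniz, map_add, add_mul, mul_add, mul_add, incl_mul_incl,
                X.isExtension.mul_incl, incl_mul, hg, hg]
              ring
            map_zero' := by rw [map_zero, map_zero, map_zero, add_zero]
            map_add' := fun x y => by
              rw [map_add, map_add, map_add]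
              ring
            commutes' := fun a => by
              rw [hD'₀, hD₀]
              ring }, fun r => ?_⟩
  show X.proj (g r + X.incl (D' r)) = r
  rw [map_add, hg, proj_incl, add_zero]

theorem exists_extension_of_isTrivial (D : Derivation k Λ L)
    (h : (Ext.ofDerivation (C := R) D).IsTrivial) :
    ∃ D' : Derivation k R L, ∀ a, D' (algebraMap Λ R a) = D a := by
  obtain ⟨s, hs⟩ := h
  let σ : R → TrivSqZeroExt R L := fun r => s r
  have hσfst : ∀ r, (σ r).fst = r := hs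
  have hσadd : ∀ r r', σ (r + r') = σ r + σ r' := map_add s
  have hσmul : ∀ r r', σ (r * r') = σ r * σ r' := map_mul s
  have hσalg : ∀ a : Λ, σ (algebraMap Λ R a) =
      TrivSqZeroExt.inl (algebraMap Λ R a) + TrivSqZeroExt.inr (D a) := fun a => s.commutes a
  have hsnd_alg : ∀ a : Λ, (σ (algebraMap Λ R a)).snd = D a := by
    intro a
    rw [hσalg, TrivSqZeroExt.snd_add, TrivSqZeroExt.snd_inl, TrivSqZeroExt.snd_inr, zero_add]
  have hmul : ∀ r r', (σ (r * r')).snd = r • (σ r').snd + r' • (σ r).snd := by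
    intro r r'
    rw [hσmul, TrivSqZeroExt.snd_mul, hσfst, hσfst, op_smul_eq_smul]
  let D₁ : R →ₗ[k] L :=
    { toFun := fun r => (σ r).snd
      map_add' := fun r r' => by rw [hσadd, TrivSqZeroExt.snd_add]
      map_smul' := fun c r => by
        rw [Algebra.smul_def, hmul, IsScalarTower.algebraMap_apply k Λ R, hsnd_alg,
          Derivation.map_algebraMap, smul_zero, add_zero, RingHom.id_apply,
          IsScalarTower.algebraMap_smul, IsScalarTower.algebraMap_smul] }
  exact ⟨Derivation.mk' D₁ hmul, hsnd_alg⟩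

end Descend

section Baer

variable {A : Type u} {B₀ B L : Type v} [CommRing A] [CommRing B₀] [CommRing B] [Algebra A B₀]
  [Algebra A B] [Algebra B₀ B] [IsScalarTower A B₀ B] [AddCommGroup L] [Module B L] [Module B₀ L]
  [IsScalarTower B₀ B L]
  (Y Y' : Ext A B L)

/-- The fibre product of the middle rings of two extensions over `B`. -/
def FF : Subalgebra A (Y.E × Y'.E) :=
  AlgHom.equalizer (Y.proj.comp (AlgHom.fst A Y.E Y'.E)) (Y'.proj.comp (AlgHom.snd A Y.E Y'.E))

theorem mem_FF (x : Y.E × Y'.E) : x ∈ FF Y Y' ↔ Y.proj x.1 = Y'.proj x.2 := by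
  simp [FF, AlgHom.mem_equalizer]

/-- The diagonal copy of `L` in the fibre product. -/
def Δ : Ideal (FF Y Y') where
  carrier := {x | ∃ z : L, x.1 = (Y.incl z, Y'.incl z)}
  add_mem' := by
    rintro x y ⟨z, hz⟩ ⟨w, hw⟩
    refine ⟨z + w, ?_⟩
    rw [Subalgebra.coe_add, hz, hw, map_add, map_add]
    rfl
  zero_mem' := ⟨0, by rw [map_zero, map_zero]; rfl⟩
  smul_mem' := by
    rintro c x ⟨z, hz⟩
    refine ⟨Y.proj c.1.1 • z, ?_⟩
    have hc := (mem_FF Y Y' c.1).1 c.2
    rw [smul_eq_mul, Subalgebra.coe_mul, hz]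
    conv_rhs => rw [← Y.isExtension.mul_incl, hc, ← Y'.isExtension.mul_incl]
    rfl

theorem mem_Δ (x : FF Y Y') : x ∈ Δ Y Y' ↔ ∃ z : L, x.1 = (Y.incl z, Y'.incl z) := Iff.rfl

/-- The projection of the Baer difference. -/
noncomputable def projQ : (FF Y Y' ⧸ Δ Y Y') →+* B :=
  Ideal.Quotient.lift (Δ Y Y')
    ((Y.proj : Y.E →+* B).comp ((RingHom.fst Y.E Y'.E).comp (FF Y Y').val.toRingHom)) (by
      rintro x ⟨z, hz⟩
      show Y.proj x.1.1 = 0
      rw [hz, proj_incl])

theorem projQ_mk (x : FF Y Y') : projQ Y Y' (Ideal.Quotient.mk _ x) = Y.proj x.1.1 := rfl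

/-- The element `(i z, 0)` of the fibre product. -/
def inclF (z : L) : FF Y Y' := ⟨(Y.incl z, 0), by rw [mem_FF, proj_incl, map_zero]⟩

/-- The inclusion of the Baer difference. -/
noncomputable def inclQ : L →+ (FF Y Y' ⧸ Δ Y Y') where
  toFun z := Ideal.Quotient.mk _ (inclF Y Y' z)
  map_zero' := by
    rw [← map_zero (Ideal.Quotient.mk (Δ Y Y'))]
    congr 1
    apply Subtype.ext
    show (Y.incl 0, (0 : Y'.E)) = 0
    rw [map_zero]; rfl
  map_add' z w := by
    rw [← map_add (Ideal.Quotient.mk (Δ Y Y'))]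
    congr 1
    apply Subtype.ext
    show (Y.incl (z + w), (0 : Y'.E)) = (Y.incl z, 0) + (Y.incl w, 0)
    rw [map_add, Prod.mk_add_mk, add_zero]

theorem isExtensionQ_aux_exact (q : FF Y Y' ⧸ Δ Y Y') :
    projQ Y Y' q = 0 ↔ q ∈ Set.range (inclQ Y Y') := by
  constructor
  · intro hq
    obtain ⟨x, rfl⟩ := Ideal.Quotient.mk_surjective q
    rw [projQ_mk] at hq
    have hq' : Y'.proj x.1.2 = 0 := by rw [← (mem_FF Y Y' x.1).1 x.2, hq]
    obtain ⟨z, hz⟩ := (Y.isExtension.exact _).1 hq
    obtain ⟨z', hz'⟩ := (Y'.isExtension.exact _).1 hq'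
    refine ⟨z - z', ?_⟩
    show Ideal.Quotient.mk _ (inclF Y Y' (z - z')) = _
    rw [Ideal.Quotient.eq]
    refine ⟨-z', ?_⟩
    rw [Subalgebra.coe_sub]
    show (Y.incl (z - z'), (0 : Y'.E)) - x.1 = _
    apply Prod.ext
    · show Y.incl (z - z') - x.1.1 = Y.incl (-z')
      rw [← hz, map_sub, map_neg]; ring
    · show (0 : Y'.E) - x.1.2 = Y'.incl (-z')
      rw [← hz', map_neg]; ring
  · rintro ⟨z, rfl⟩
    show Y.proj (Y.incl z) = 0
    exact proj_incl Y z

theorem inclQ_injective : Function.Injective (inclQ Y Y') := by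
  rw [injective_iff_map_eq_zero]
  intro z hz
  have hz' : Ideal.Quotient.mk (Δ Y Y') (inclF Y Y' z) = 0 := hz
  rw [Ideal.Quotient.eq_zero_iff_mem] at hz'
  obtain ⟨w, hw⟩ := hz'
  have h1 : Y.incl z = Y.incl w := congrArg Prod.fst hw
  have h2 : (0 : Y'.E) = Y'.incl w := congrArg Prod.snd hw
  have : w = 0 := Y'.isExtension.incl_injective (by rw [← h2, map_zero])
  rw [this, map_zero] at h1
  exact Y.isExtension.incl_injective (by rw [h1, map_zero])

theorem mul_inclQ (q : FF Y Y' ⧸ Δ Y Y') (z : L) :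
    q * inclQ Y Y' z = inclQ Y Y' (projQ Y Y' q • z) := by
  obtain ⟨x, rfl⟩ := Ideal.Quotient.mk_surjective q
  rw [projQ_mk]
  show Ideal.Quotient.mk _ x * Ideal.Quotient.mk _ (inclF Y Y' z) =
    Ideal.Quotient.mk _ (inclF Y Y' _)
  rw [← map_mul]
  congr 1
  apply Subtype.ext
  show x.1 * (Y.incl z, (0 : Y'.E)) = (Y.incl _, 0)
  apply Prod.ext
  · show x.1.1 * Y.incl z = _
    rw [Y.isExtension.mul_incl]
  · show x.1.2 * (0 : Y'.E) = 0
    rw [mul_zero]

/-- The inclusion of the pulled-back middle ring in the product. -/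
def pbVal : (Y.pullback B₀).E →ₐ[A] Y.E × B₀ := (Y.fiberProd B₀).val

theorem pbVal_mem (w : (Y.pullback B₀).E) :
    Y.proj (pbVal Y w).1 = algebraMap B₀ B (pbVal Y w).2 :=
  (mem_fiberProd Y _).1 (Subtype.property (p := fun x => x ∈ Y.fiberProd B₀) w)

theorem pbVal_proj (w : (Y.pullback B₀).E) : (Y.pullback B₀).proj w = (pbVal Y w).2 := rfl

theorem pbVal_incl (z : L) : pbVal Y ((Y.pullback B₀).incl z) = (Y.incl z, 0) := rfl

variable {Y Y'} (e : (Y.pullback B₀).Equiv (Y'.pullback B₀))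

/-- The map from the pulled-back middle ring to the fibre product. -/
noncomputable def φ : (Y.pullback B₀).E →+* FF Y Y' :=
  RingHom.codRestrict
    (((RingHom.fst Y.E B₀).comp (pbVal Y).toRingHom).prod
      (((RingHom.fst Y'.E B₀).comp (pbVal Y').toRingHom).comp
        e.toAlgEquiv.toAlgHom.toRingHom))
    (FF Y Y') (fun w => by
      rw [mem_FF]
      show Y.proj (pbVal Y w).1 = Y'.proj (pbVal Y' (e.toAlgEquiv w)).1
      rw [pbVal_mem, pbVal_mem, ← pbVal_proj, ← pbVal_proj, e.proj_apply])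

theorem φ_coe (w : (Y.pullback B₀).E) :
    (φ e w).1 = ((pbVal Y w).1, (pbVal Y' (e.toAlgEquiv w)).1) := rfl

theorem φ_incl (z : L) : (φ e ((Y.pullback B₀).incl z)).1 = (Y.incl z, Y'.incl z) := by
  rw [φ_coe, e.apply_incl, pbVal_incl, pbVal_incl]

/-- The `B₀`-algebra structure map of the Baer difference. -/
noncomputable def algQ : B₀ →+* (FF Y Y' ⧸ Δ Y Y') :=
  RingHom.liftOfSurjective ((Y.pullback B₀).proj.toRingHom)
    (Y.pullback B₀).isExtension.proj_surjective
    ⟨(Ideal.Quotient.mk (Δ Y Y')).comp (φ e), by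
      intro w hw
      rw [RingHom.mem_ker] at hw ⊢
      obtain ⟨z, rfl⟩ := ((Y.pullback B₀).isExtension.exact w).1 hw
      rw [RingHom.comp_apply, Ideal.Quotient.eq_zero_iff_mem]
      exact ⟨z, φ_incl e z⟩⟩

theorem algQ_apply (w : (Y.pullback B₀).E) :
    algQ e ((Y.pullback B₀).proj w) = Ideal.Quotient.mk (Δ Y Y') (φ e w) :=
  RingHom.liftOfRightInverse_comp_apply _ _ _ _ w

/-- The carrier of the Baer difference, with its `B₀`-algebra structure. -/
@[nolint unusedArguments]
def BaerE (_e : (Y.pullback B₀).Equiv (Y'.pullback B₀)) : Type v := FF Y Y' ⧸ Δ Y Y'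

noncomputable instance : CommRing (BaerE e) := inferInstanceAs (CommRing (FF Y Y' ⧸ Δ Y Y'))

noncomputable instance : Algebra B₀ (BaerE e) := (algQ e : B₀ →+* BaerE e).toAlgebra

theorem algebraMap_BaerE (b : B₀) : algebraMap B₀ (BaerE e) b = algQ e b := rfl

/-- The Baer difference of `Y` and `Y'` as a `B₀`-extension, given an equivalence of the
pullbacks. -/
noncomputable def baer : Ext B₀ B L where
  E := BaerE e
  proj :=
    { toFun := fun q => projQ Y Y' q
      map_one' := map_one (projQ Y Y')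
      map_mul' := map_mul (projQ Y Y')
      map_zero' := map_zero (projQ Y Y')
      map_add' := map_add (projQ Y Y')
      commutes' := fun b => by
        obtain ⟨w, hw⟩ := (Y.pullback B₀).isExtension.proj_surjective b
        rw [algebraMap_BaerE, ← hw, algQ_apply, projQ_mk, φ_coe]
        exact pbVal_mem Y w }
  incl := inclQ Y Y'
  isExtension :=
    { proj_surjective := fun b => by
        obtain ⟨y, hy⟩ := Y.isExtension.proj_surjective b
        obtain ⟨y', hy'⟩ := Y'.isExtension.proj_surjective b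
        exact ⟨Ideal.Quotient.mk _ ⟨(y, y'), by rw [mem_FF, hy, hy']⟩, hy⟩
      incl_injective := inclQ_injective Y Y'
      exact := isExtensionQ_aux_exact Y Y'
      mul_incl := mul_inclQ Y Y' }

section Graph

variable (Y Y') (σ : B →+* (FF Y Y' ⧸ Δ Y Y'))

/-- The graph of the isomorphism attached to a section of the Baer difference. -/
def G (y : Y.E) (y' : Y'.E) : Prop :=
  ∃ x : FF Y Y', x.1 = (y, y') ∧ Ideal.Quotient.mk (Δ Y Y') x = σ (Y.proj y)

variable {Y Y' σ}

theorem G_proj {y : Y.E} {y' : Y'.E} (h : G Y Y' σ y y') : Y'.proj y' = Y.proj y := by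
  obtain ⟨x, hx, _⟩ := h
  have := (mem_FF Y Y' x.1).1 x.2
  rw [hx] at this
  exact this.symm

theorem G_exists (hσ : ∀ b, projQ Y Y' (σ b) = b) (y : Y.E) : ∃ y', G Y Y' σ y y' := by
  obtain ⟨x, hx⟩ := Ideal.Quotient.mk_surjective (σ (Y.proj y))
  have h1 : Y.proj x.1.1 = Y.proj y := by rw [← projQ_mk, hx, hσ]
  obtain ⟨z, hz⟩ := exists_incl_of_proj_eq Y h1.symm
  have hxm := (mem_FF Y Y' x.1).1 x.2
  refine ⟨x.1.2 + Y'.incl z, ⟨(y, x.1.2 + Y'.incl z), ?_⟩, rfl, ?_⟩
  · rw [mem_FF]
    show Y.proj y = Y'.proj (x.1.2 + Y'.incl z)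
    rw [map_add, proj_incl, add_zero, ← hxm, h1]
  · rw [← hx, Ideal.Quotient.eq]
    refine ⟨z, ?_⟩
    rw [Subalgebra.coe_sub]
    apply Prod.ext
    · show y - x.1.1 = Y.incl z
      rw [hz]; ring
    · show x.1.2 + Y'.incl z - x.1.2 = Y'.incl z
      ring

theorem G_unique {y : Y.E} {y' y'' : Y'.E} (h1 : G Y Y' σ y y') (h2 : G Y Y' σ y y'') :
    y' = y'' := by
  obtain ⟨x1, hx1, e1⟩ := h1
  obtain ⟨x2, hx2, e2⟩ := h2
  have h3 : Ideal.Quotient.mk (Δ Y Y') x1 = Ideal.Quotient.mk (Δ Y Y') x2 := e1.trans e2.symm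
  rw [Ideal.Quotient.eq] at h3
  obtain ⟨w, hw⟩ := h3
  rw [Subalgebra.coe_sub, hx1, hx2] at hw
  have h4 : y - y = Y.incl w := congrArg Prod.fst hw
  have h5 : y' - y'' = Y'.incl w := congrArg Prod.snd hw
  have h6 : w = 0 := Y.isExtension.incl_injective (by rw [← h4, sub_self, map_zero])
  rw [h6, map_zero] at h5
  exact sub_eq_zero.mp h5

theorem G_add {y₁ y₂ : Y.E} {y₁' y₂' : Y'.E} (h1 : G Y Y' σ y₁ y₁') (h2 : G Y Y' σ y₂ y₂') :
    G Y Y' σ (y₁ + y₂) (y₁' + y₂') := by
  obtain ⟨x1, hx1, e1⟩ := h1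
  obtain ⟨x2, hx2, e2⟩ := h2
  refine ⟨x1 + x2, ?_, ?_⟩
  · rw [Subalgebra.coe_add, hx1, hx2]; rfl
  · rw [map_add, e1, e2, map_add, map_add]

theorem G_mul {y₁ y₂ : Y.E} {y₁' y₂' : Y'.E} (h1 : G Y Y' σ y₁ y₁') (h2 : G Y Y' σ y₂ y₂') :
    G Y Y' σ (y₁ * y₂) (y₁' * y₂') := by
  obtain ⟨x1, hx1, e1⟩ := h1
  obtain ⟨x2, hx2, e2⟩ := h2
  refine ⟨x1 * x2, ?_, ?_⟩
  · rw [Subalgebra.coe_mul, hx1, hx2]; rfl
  · rw [map_mul, e1, e2, map_mul, map_mul]

theorem G_one : G Y Y' σ 1 1 :=
  ⟨1, rfl, by rw [map_one, map_one, map_one]⟩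

theorem G_zero : G Y Y' σ 0 0 :=
  ⟨0, rfl, by rw [map_zero, map_zero, map_zero]⟩

theorem G_incl (z : L) : G Y Y' σ (Y.incl z) (Y'.incl z) := by
  have hm : (Y.incl z, Y'.incl z) ∈ FF Y Y' := by rw [mem_FF, proj_incl, proj_incl]
  refine ⟨⟨(Y.incl z, Y'.incl z), hm⟩, rfl, ?_⟩
  have h0 : σ (Y.proj (Y.incl z)) = 0 := by rw [proj_incl, map_zero]
  rw [h0, Ideal.Quotient.eq_zero_iff_mem]
  exact ⟨z, rfl⟩

theorem G_alg (hσalg : ∀ b₀ : B₀, σ (algebraMap B₀ B b₀) = algQ e b₀) (c : A) :
    G Y Y' σ (algebraMap A Y.E c) (algebraMap A Y'.E c) := by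
  refine ⟨algebraMap A (FF Y Y') c, rfl, ?_⟩
  rw [Y.proj.commutes, IsScalarTower.algebraMap_apply A B₀ B, hσalg,
    ← (Y.pullback B₀).proj.commutes, algQ_apply]
  congr 1
  apply Subtype.ext
  rw [φ_coe, e.toAlgEquiv.commutes, (pbVal Y).commutes, (pbVal Y').commutes]
  rfl

theorem nonempty_equiv_of_section (hσ : ∀ b, projQ Y Y' (σ b) = b)
    (hσalg : ∀ b₀ : B₀, σ (algebraMap B₀ B b₀) = algQ e b₀) : Nonempty (Y.Equiv Y') := by
  classical
  choose ψ hψ using G_exists (σ := σ) hσ
  have hu : ∀ y y', G Y Y' σ y y' → ψ y = y' := fun y y' h => G_unique (hψ y) h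
  let f : Y.E →ₐ[A] Y'.E :=
    { toFun := ψ
      map_one' := hu 1 1 G_one
      map_mul' := fun a b => hu _ _ (G_mul (hψ a) (hψ b))
      map_zero' := hu 0 0 G_zero
      map_add' := fun a b => hu _ _ (G_add (hψ a) (hψ b))
      commutes' := fun c => hu _ _ (G_alg e hσalg c) }
  exact ⟨equivOfHom f (fun y => G_proj (hψ y)) (fun z => hu _ _ (G_incl z))⟩

end Graph

theorem nonempty_equiv_of_baer_isTrivial (h : (baer e).IsTrivial) : Nonempty (Y.Equiv Y') := by
  obtain ⟨s, hs⟩ := h
  let σ : B →+* (FF Y Y' ⧸ Δ Y Y') :=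
    { toFun := fun b => s b
      map_one' := map_one s
      map_mul' := map_mul s
      map_zero' := map_zero s
      map_add' := map_add s }
  exact nonempty_equiv_of_section e (σ := σ) hs (fun b₀ => s.commutes b₀)

end Baer

section Main

variable {k : Type u} {Λ R L : Type v} [CommRing k] [CommRing Λ] [CommRing R] [Algebra k Λ]
  [Algebra Λ R] [Algebra k R] [IsScalarTower k Λ R] [AddCommGroup L] [Module R L] [Module Λ L]
  [IsScalarTower Λ R L] [Module k L] [IsScalarTower k Λ L]

theorem main_general :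
    (∀ X : Ext Λ R L, X.IsTrivial) ↔
    ((∀ D : Derivation k Λ L, ∃ D' : Derivation k R L, ∀ a : Λ, D' (algebraMap Λ R a) = D a) ∧
     (∀ Y Y' : Ext k R L,
        Nonempty ((Y.pullback Λ).Equiv (Y'.pullback Λ)) → Nonempty (Y.Equiv Y'))) := by
  constructor
  · intro h
    exact ⟨fun D => exists_extension_of_isTrivial D (h _),
      fun Y Y' ⟨e⟩ => nonempty_equiv_of_baer_isTrivial e (h _)⟩
  · rintro ⟨ha, hb⟩ X
    refine isTrivial_of_restrict (k := k) X ?_ ha
    obtain ⟨s1, hs1⟩ := pullback_restrictBase_isTrivial (A := k) X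
    obtain ⟨s2, hs2⟩ := pullback_trivial_isTrivial (A := k) (B₀ := Λ) (B := R) (L := L)
    have e1 := trivialEquivOfSection _ s1 hs1
    have e2 := trivialEquivOfSection _ s2 hs2
    obtain ⟨e3⟩ := hb (Ext.trivial k R L) (X.restrictBase k) ⟨e2.symm.trans e1⟩
    exact isTrivial_of_equiv_trivial _ e3

end Main

end Groth.Agent.Helper2.ExalSix
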