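import Mathlib
import Groth.Prelude
import Groth.Agent.Helper2.ExalSix
import Groth.Agent.Helper2.CotTIndep01

namespace Groth.Agent.Helper2.ExalT1

open Exal Algebra Function TensorProduct
open Groth.Agent.Helper2.ExalSix

attribute [local instance] Exal.opModule Exal.isCentralScalar_opModule

universe u

section Lift

variable {A : Type u} {R B L : Type u} [CommRing A] [CommRing R] [CommRing B] [Algebra A R]
  [Algebra A B] [Algebra R B] [IsScalarTower A R B] [AddCommGroup L] [Module B L] [Module R L]
  [IsScalarTower R B L]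

/-- The function underlying the morphism from the trivial extension of `R` attached to a lift. -/
noncomputable def liftFun (X : Ext A B L) (g : R →ₐ[A] X.E) (x : TrivSqZeroExt R L) : X.E :=
  g x.fst + X.incl x.snd

theorem liftFun_one (X : Ext A B L) (g : R →ₐ[A] X.E) : liftFun X g 1 = 1 := by
  unfold liftFun
  rw [TrivSqZeroExt.fst_one, TrivSqZeroExt.snd_one, map_one, map_zero, add_zero]

theorem liftFun_zero (X : Ext A B L) (g : R →ₐ[A] X.E) : liftFun X g 0 = 0 := by
  unfold liftFun
  rw [TrivSqZeroExt.fst_zero, TrivSqZeroExt.snd_zero, map_zero, map_zero, add_zero]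

theorem liftFun_add (X : Ext A B L) (g : R →ₐ[A] X.E) (x y : TrivSqZeroExt R L) :
    liftFun X g (x + y) = liftFun X g x + liftFun X g y := by
  unfold liftFun
  rw [TrivSqZeroExt.fst_add, TrivSqZeroExt.snd_add, map_add, map_add]
  ring

theorem liftFun_mul (X : Ext A B L) (g : R →ₐ[A] X.E)
    (hg : ∀ r, X.proj (g r) = algebraMap R B r) (x y : TrivSqZeroExt R L) :
    liftFun X g (x * y) = liftFun X g x * liftFun X g y := by
  unfold liftFun
  rw [TrivSqZeroExt.fst_mul, TrivSqZeroExt.snd_mul, map_mul, map_add, op_smul_eq_smul]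
  rw [add_mul, mul_add, mul_add, incl_mul_incl, add_zero, X.isExtension.mul_incl, incl_mul, hg, hg,
    algebraMap_smul, algebraMap_smul]
  ring

theorem liftFun_inl (X : Ext A B L) (g : R →ₐ[A] X.E) (b : R) :
    liftFun X g (TrivSqZeroExt.inl b) = g b := by
  unfold liftFun
  rw [TrivSqZeroExt.fst_inl, TrivSqZeroExt.snd_inl, map_zero, add_zero]

theorem liftFun_inr (X : Ext A B L) (g : R →ₐ[A] X.E) (z : L) :
    liftFun X g (TrivSqZeroExt.inr z) = X.incl z := by
  unfold liftFun
  rw [TrivSqZeroExt.fst_inr, TrivSqZeroExt.snd_inr, map_zero, zero_add]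

/-- The morphism from the trivial extension of `R` attached to a lift `R → E` of `R → B`. -/
noncomputable def homOfLift (X : Ext A B L) (g : R →ₐ[A] X.E)
    (hg : ∀ r, X.proj (g r) = algebraMap R B r) :
    (Ext.trivial A R L).E →ₐ[A] X.E where
  toFun x := liftFun X g x
  map_one' := liftFun_one X g
  map_mul' x y := liftFun_mul X g hg x y
  map_zero' := liftFun_zero X g
  map_add' x y := liftFun_add X g x y
  commutes' a := (liftFun_inl X g (algebraMap A R a)).trans (g.commutes a)

end Lift

section Main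

variable {A B M : Type u} [CommRing A] [CommRing B] [Algebra A B] [AddCommGroup M] [Module B M]
  (Pe : Algebra.Extension.{u} A B) [Module Pe.Ring M] [IsScalarTower Pe.Ring B M]

/-- `X` realises the class of `φ`. -/
def Rel (X : Ext A B M) (φ : Pe.Cotangent →ₗ[B] M) : Prop :=
  ∃ g : Pe.Ring →ₐ[A] X.E, (∀ r, X.proj (g r) = algebraMap Pe.Ring B r) ∧
    ∀ r : Pe.ker, g r = X.incl (φ (Extension.Cotangent.mk r))

lemma ker_smul (j : Pe.Ring) (hj : j ∈ Pe.ker) (z : M) : j • z = 0 := by
  rw [← algebraMap_smul B j z, show algebraMap Pe.Ring B j = 0 from hj, zero_smul]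

variable (φ : Pe.Cotangent →ₗ[B] M)

lemma phi_smul (c : Pe.Ring) (j : Pe.ker) :
    φ (Extension.Cotangent.mk (c • j)) = c • φ (Extension.Cotangent.mk j) := by
  rw [map_smul, ← algebraMap_smul B c (Extension.Cotangent.mk j), map_smul, algebraMap_smul]

variable (T : Ext A Pe.Ring M) (s : Pe.Ring →ₐ[A] T.E)

/-- The ideal `{(j, -φ j̄)}` of a trivial extension of the presenting ring. -/
def K (hs : ∀ r, T.proj (s r) = r) : Ideal T.E where
  carrier := {y | ∃ j : Pe.ker, y = s j - T.incl (φ (Extension.Cotangent.mk j))}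
  add_mem' := by
    rintro _ _ ⟨j, rfl⟩ ⟨j', rfl⟩
    refine ⟨j + j', ?_⟩
    rw [map_add, map_add, map_add, Submodule.coe_add, map_add]
    ring
  zero_mem' := ⟨0, by simp⟩
  smul_mem' := by
    rintro y _ ⟨j, rfl⟩
    refine ⟨T.proj y • j, ?_⟩
    obtain ⟨m, hm⟩ := exists_incl_of_proj_eq T (x := y) (y := s (T.proj y)) (hs _).symm
    rw [phi_smul, smul_eq_mul, mul_sub, T.isExtension.mul_incl, Submodule.coe_smul, smul_eq_mul,
      map_mul]
    congr 1
    conv_lhs => rw [hm]
    rw [add_mul, incl_mul, hs, ker_smul Pe _ j.2, map_zero, add_zero]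

variable (hs : ∀ r, T.proj (s r) = r)

lemma mem_K (y : T.E) : y ∈ K Pe φ T s hs ↔
    ∃ j : Pe.ker, y = s j - T.incl (φ (Extension.Cotangent.mk j)) := Iff.rfl

/-- the projection of the trivial extension of the presenting ring to `B`. -/
noncomputable def projT : T.E →ₐ[A] B :=
  (IsScalarTower.toAlgHom A Pe.Ring B).comp T.proj

lemma projT_apply (y : T.E) : projT Pe T y = algebraMap Pe.Ring B (T.proj y) := rfl

include hs in
lemma projT_K (y : T.E) (hy : y ∈ K Pe φ T s hs) : projT Pe T y = 0 := by
  obtain ⟨j, rfl⟩ := hy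
  rw [projT_apply, map_sub, proj_incl, sub_zero, hs]
  exact j.2

/-- The extension of `B` by `M` attached to `φ : I/I² → M`: the pushout of `R/I²`. -/
noncomputable def extOf : Ext A B M where
  E := T.E ⧸ K Pe φ T s hs
  proj := Ideal.Quotient.liftₐ (K Pe φ T s hs) (projT Pe T) (projT_K Pe φ T s hs)
  incl := (Ideal.Quotient.mk (K Pe φ T s hs)).toAddMonoidHom.comp T.incl
  isExtension :=
    { proj_surjective := by
        intro b
        obtain ⟨r, rfl⟩ := Pe.algebraMap_surjective b
        refine ⟨Ideal.Quotient.mk _ (s r), ?_⟩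
        change projT Pe T (s r) = _
        rw [projT_apply, hs]
      incl_injective := by
        rw [injective_iff_map_eq_zero]
        intro z hz
        change Ideal.Quotient.mk (K Pe φ T s hs) (T.incl z) = 0 at hz
        rw [Ideal.Quotient.eq_zero_iff_mem] at hz
        obtain ⟨j, hj⟩ := hz
        have h1 := congrArg T.proj hj
        rw [map_sub, proj_incl, proj_incl, sub_zero, hs] at h1
        have hj0 : j = 0 := Subtype.ext h1.symm
        rw [hj0, map_zero, map_zero, Submodule.coe_zero, map_zero, map_zero, sub_zero] at hj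
        exact T.isExtension.incl_injective (by rw [hj, map_zero])
      exact := by
        intro x
        obtain ⟨y, rfl⟩ := Ideal.Quotient.mk_surjective x
        change projT Pe T y = 0 ↔ _
        constructor
        · intro hy
          have hy' : T.proj y ∈ Pe.ker := hy
          obtain ⟨m, hm⟩ := exists_incl_of_proj_eq T (x := y) (y := s (T.proj y)) (hs _).symm
          obtain ⟨j, hjy⟩ : ∃ j : Pe.ker, (j : Pe.Ring) = T.proj y := ⟨⟨_, hy'⟩, rfl⟩
          rw [← hjy] at hm
          refine ⟨m + φ (Extension.Cotangent.mk j), ?_⟩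
          change Ideal.Quotient.mk (K Pe φ T s hs) (T.incl _) =
            Ideal.Quotient.mk (K Pe φ T s hs) y
          rw [eq_comm, Ideal.Quotient.eq]
          refine ⟨j, ?_⟩
          rw [hm, map_add]
          ring
        · rintro ⟨z, hz⟩
          change Ideal.Quotient.mk (K Pe φ T s hs) (T.incl z) =
            Ideal.Quotient.mk (K Pe φ T s hs) y at hz
          rw [Ideal.Quotient.eq] at hz
          have := projT_K Pe φ T s hs _ hz
          rw [map_sub, projT_apply, proj_incl, map_zero, zero_sub, neg_eq_zero] at this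
          exact this
      mul_incl := by
        intro x z
        obtain ⟨y, rfl⟩ := Ideal.Quotient.mk_surjective x
        change Ideal.Quotient.mk (K Pe φ T s hs) y *
          Ideal.Quotient.mk (K Pe φ T s hs) (T.incl z) =
          Ideal.Quotient.mk (K Pe φ T s hs) (T.incl (projT Pe T y • z))
        rw [← map_mul, T.isExtension.mul_incl, projT_apply, algebraMap_smul] }

theorem rel_extOf : Rel Pe (extOf Pe φ T s hs) φ := by
  refine ⟨(Ideal.Quotient.mkₐ A (K Pe φ T s hs)).comp s, fun r => ?_, fun r => ?_⟩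
  · change projT Pe T (s r) = _
    rw [projT_apply, hs]
  · change Ideal.Quotient.mk (K Pe φ T s hs) (s r) = Ideal.Quotient.mk (K Pe φ T s hs) (T.incl _)
    rw [Ideal.Quotient.eq]
    exact ⟨r, rfl⟩

/-- the universal property of the trivial extension that we use. -/
def HasLifts : Prop :=
  ∀ (X : Ext A B M) (g : Pe.Ring →ₐ[A] X.E), (∀ r, X.proj (g r) = algebraMap Pe.Ring B r) →
    ∃ h : T.E →ₐ[A] X.E, (∀ r, h (s r) = g r) ∧ (∀ z, h (T.incl z) = X.incl z)

variable {Pe φ T s}

include hs in
theorem nonempty_equiv_of_rel (hT : HasLifts Pe T s) {X : Ext A B M} (hX : Rel Pe X φ) :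
    Nonempty ((extOf Pe φ T s hs).Equiv X) := by
  obtain ⟨g, hg, hgφ⟩ := hX
  obtain ⟨h, h1, h2⟩ := hT X g hg
  have hK : ∀ y ∈ K Pe φ T s hs, h y = 0 := by
    rintro _ ⟨j, rfl⟩
    rw [map_sub, h1, h2, hgφ, sub_self]
  have hproj : ∀ y, X.proj (h y) = algebraMap Pe.Ring B (T.proj y) := by
    intro y
    obtain ⟨m, hm⟩ := exists_incl_of_proj_eq T (x := y) (y := s (T.proj y)) (hs _).symm
    conv_lhs => rw [hm]
    rw [map_add, h1, h2, map_add, hg, proj_incl, add_zero]
  refine ⟨equivOfHom (X := extOf Pe φ T s hs) (Y := X)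
    (Ideal.Quotient.liftₐ (K Pe φ T s hs) h hK) (fun x => ?_) (fun z => ?_)⟩
  · obtain ⟨y, rfl⟩ := Ideal.Quotient.mk_surjective x
    exact hproj y
  · exact h2 z

omit [Module Pe.Ring M] [IsScalarTower Pe.Ring B M] in
theorem rel_of_equiv {X Y : Ext A B M} (e : X.Equiv Y) (hX : Rel Pe X φ) : Rel Pe Y φ := by
  obtain ⟨g, hg, hgφ⟩ := hX
  refine ⟨e.toAlgEquiv.toAlgHom.comp g, fun r => ?_, fun r => ?_⟩
  · change Y.proj (e.toAlgEquiv (g r)) = _
    rw [e.proj_apply, hg]
  · change e.toAlgEquiv (g r) = _
    rw [hgφ, e.apply_incl]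

omit [Module Pe.Ring M] [IsScalarTower Pe.Ring B M] in
/-- **F1**: an extension admitting a lift of the presentation realises some `φ`. -/
theorem exists_rel (X : Ext A B M) (g : Pe.Ring →ₐ[A] X.E)
    (hg : ∀ r, X.proj (g r) = algebraMap Pe.Ring B r) : ∃ φ, Rel Pe X φ := by
  letI : Module Pe.Ring M := Module.compHom M (algebraMap Pe.Ring B)
  haveI : IsScalarTower Pe.Ring B M := IsScalarTower.of_compHom _ _ _
  have hz : ∀ j : Pe.ker, X.proj (g j) = 0 := fun j => by rw [hg]; exact j.2
  have hinj := X.isExtension.incl_injective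
  let ℓ : Pe.ker →ₗ[Pe.Ring] M :=
    { toFun := fun j => X.kerLift (g j) (hz j)
      map_add' := fun j j' => by
        apply hinj
        rw [map_add, X.incl_kerLift, X.incl_kerLift, X.incl_kerLift, Submodule.coe_add, map_add]
      map_smul' := fun c j => by
        apply hinj
        rw [RingHom.id_apply, X.incl_kerLift,
          show c • X.kerLift (g j) (hz j) = algebraMap Pe.Ring B c • X.kerLift (g j) (hz j) from
            (algebraMap_smul B c _).symm, ← hg, ← X.isExtension.mul_incl,
          X.incl_kerLift, Submodule.coe_smul, smul_eq_mul, map_mul] }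
  refine ⟨(ℓ.liftBaseChange B) ∘ₗ Pe.cotangentEquiv.symm.toLinearMap, g, hg, fun j => ?_⟩
  have h1 : Pe.cotangentEquiv.symm (Extension.Cotangent.mk j) = (1 : B) ⊗ₜ[Pe.Ring] j := by
    rw [LinearEquiv.symm_apply_eq, Extension.contangentEquiv_tmul, one_smul]
  rw [LinearMap.comp_apply, LinearEquiv.coe_coe, h1, LinearMap.liftBaseChange_tmul, one_smul]
  exact (X.incl_kerLift _ (hz j)).symm

variable [Module A M] [IsScalarTower A B M] [IsScalarTower A Pe.Ring M]

omit [IsScalarTower A B M] in
/-- **F2**: two classes realised by the same extension differ by a derivation. -/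
theorem sub_mem_range_of_rel {X : Ext A B M} {φ' : Pe.Cotangent →ₗ[B] M}
    (h : Rel Pe X φ) (h' : Rel Pe X φ') :
    φ - φ' ∈ LinearMap.range (LinearMap.lcomp B M Pe.cotangentComplex) := by
  obtain ⟨g, hg, hgφ⟩ := h
  obtain ⟨g', hg', hgφ'⟩ := h'
  have hinj := X.isExtension.incl_injective
  have hpz : ∀ r, X.proj (g r - g' r) = 0 := fun r => by rw [map_sub, hg, hg', sub_self]
  let D₀ : Pe.Ring → M := fun r => X.kerLift _ (hpz r)
  have hD₀ : ∀ r, X.incl (D₀ r) = g r - g' r := fun r => X.incl_kerLift _ (hpz r)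
  have hD₀add : ∀ a b, D₀ (a + b) = D₀ a + D₀ b := by
    intro a b
    apply hinj
    rw [map_add, hD₀, hD₀, hD₀, map_add, map_add]
    ring
  have hD₀mul : ∀ a b, D₀ (a * b) = a • D₀ b + b • D₀ a := by
    intro a b
    apply hinj
    rw [map_add, ← algebraMap_smul B a (D₀ b), ← algebraMap_smul B b (D₀ a)]
    have h1 : X.incl (algebraMap Pe.Ring B a • D₀ b) = g a * X.incl (D₀ b) := by
      rw [X.isExtension.mul_incl, hg]
    have h2 : X.incl (algebraMap Pe.Ring B b • D₀ a) = g' b * X.incl (D₀ a) := by
      rw [X.isExtension.mul_incl, hg']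
    rw [h1, h2, hD₀, hD₀, hD₀, map_mul, map_mul]
    ring
  have hD₀k : ∀ c : A, D₀ (algebraMap A Pe.Ring c) = 0 := by
    intro c
    apply hinj
    rw [hD₀, map_zero, g.commutes, g'.commutes, sub_self]
  let D₁ : Pe.Ring →ₗ[A] M :=
    { toFun := D₀
      map_add' := hD₀add
      map_smul' := fun c a => by
        rw [Algebra.smul_def, hD₀mul, hD₀k, smul_zero, add_zero, RingHom.id_apply,
          algebraMap_smul] }
  let δ : Derivation A Pe.Ring M := Derivation.mk' D₁ hD₀mul
  refine ⟨(δ.liftKaehlerDifferential).liftBaseChange B, ?_⟩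
  refine LinearMap.ext fun x => ?_
  obtain ⟨j, rfl⟩ := Extension.Cotangent.mk_surjective x
  rw [LinearMap.lcomp_apply', LinearMap.comp_apply, Extension.cotangentComplex_mk,
    LinearMap.liftBaseChange_tmul, one_smul, Derivation.liftKaehlerDifferential_comp_D,
    LinearMap.sub_apply]
  apply hinj
  change X.incl (D₀ j) = _
  rw [hD₀, map_sub, hgφ, hgφ']

/-- **F3**: the realised class can be moved by a derivation. -/
theorem rel_add_of_rel {X : Ext A B M} (h : Rel Pe X φ) (ψ : Pe.CotangentSpace →ₗ[B] M) :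
    Rel Pe X (φ + ψ ∘ₗ Pe.cotangentComplex) := by
  obtain ⟨g, hg, hgφ⟩ := h
  let f : Ω[Pe.Ring⁄A] →ₗ[Pe.Ring] M :=
    (ψ.restrictScalars Pe.Ring) ∘ₗ (TensorProduct.mk Pe.Ring B Ω[Pe.Ring⁄A] 1)
  let δ : Derivation A Pe.Ring M := f.compDer (KaehlerDifferential.D A Pe.Ring)
  have hδ : ∀ r, δ r = ψ ((1 : B) ⊗ₜ[Pe.Ring] KaehlerDifferential.D A Pe.Ring r) := fun r => rfl
  refine ⟨{ toFun := fun r => g r + X.incl (δ r)
            map_one' := by
              rw [map_one, Derivation.map_one_eq_zero, map_zero, add_zero]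
            map_mul' := fun x y => by
              rw [map_mul, Derivation.leibniz, map_add, add_mul, mul_add, mul_add, incl_mul_incl,
                X.isExtension.mul_incl, incl_mul, hg, hg, algebraMap_smul, algebraMap_smul]
              ring
            map_zero' := by rw [map_zero, map_zero, map_zero, add_zero]
            map_add' := fun x y => by
              rw [map_add, map_add, map_add]
              ring
            commutes' := fun a => by
              rw [Derivation.map_algebraMap, map_zero, add_zero, g.commutes] }, fun r => ?_,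
          fun j => ?_⟩
  · change X.proj (g r + X.incl (δ r)) = _
    rw [map_add, hg, proj_incl, add_zero]
  · change g j + X.incl (δ j) = _
    rw [hgφ, ← map_add, LinearMap.add_apply, LinearMap.comp_apply, Extension.cotangentComplex_mk, hδ]

end Main

section Assemble

open Groth.Agent.Helper2.CotTIndep01

variable {A B M ι : Type u} [CommRing A] [CommRing B] [Algebra A B] [AddCommGroup M] [Module B M]
  (P : Algebra.Generators A B ι)

/-- the section of the trivial extension. -/
noncomputable def inlT (R : Type u) [CommRing R] [Algebra A R] [Module R M] :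
    R →ₐ[A] (Ext.trivial A R M).E where
  toFun r := (TrivSqZeroExt.inl r : TrivSqZeroExt R M)
  map_one' := TrivSqZeroExt.inl_one M
  map_mul' := fun x y => TrivSqZeroExt.inl_mul M x y
  map_zero' := TrivSqZeroExt.inl_zero M
  map_add' := fun x y => TrivSqZeroExt.inl_add M x y
  commutes' := fun a => rfl

lemma proj_inlT (R : Type u) [CommRing R] [Algebra A R] [Module R M] (r : R) :
    (Ext.trivial A R M).proj (inlT (A := A) (M := M) R r) = r := rfl

lemma hasLifts_trivial (Pe : Algebra.Extension.{u} A B) [Module Pe.Ring M]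
    [IsScalarTower Pe.Ring B M] :
    HasLifts Pe (Ext.trivial A Pe.Ring M) (inlT (A := A) (M := M) Pe.Ring) := by
  intro X g hg
  exact ⟨homOfLift X g hg, fun r => liftFun_inl X g r, fun z => liftFun_inr X g z⟩

/-- lifts of a polynomial presentation exist. -/
lemma exists_lift (X : Ext A B M) :
    ∃ g : P.toExtension.Ring →ₐ[A] X.E, ∀ r, X.proj (g r) = algebraMap P.toExtension.Ring B r := by
  choose y hy using X.isExtension.proj_surjective
  refine ⟨MvPolynomial.aeval (fun i => y (P.val i)), fun r => ?_⟩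
  have : X.proj.comp (MvPolynomial.aeval (fun i => y (P.val i))) =
      IsScalarTower.toAlgHom A P.Ring B := by
    refine MvPolynomial.algHom_ext fun i => ?_
    rw [AlgHom.comp_apply, MvPolynomial.aeval_X, hy]
    change _ = algebraMap P.Ring B (MvPolynomial.X i)
    rw [Generators.algebraMap_apply, MvPolynomial.aeval_X]
  exact congrFun (congrArg DFunLike.coe this) r

lemma rel_trivial_zero (Pe : Algebra.Extension.{u} A B) : Rel Pe (Ext.trivial A B M) 0 := by
  refine ⟨(inlT (A := A) (M := M) B).comp (IsScalarTower.toAlgHom A Pe.Ring B), fun r => rfl,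
    fun j => ?_⟩
  change (inlT (A := A) (M := M) B) (algebraMap Pe.Ring B j) = _
  rw [show algebraMap Pe.Ring B j = 0 from j.2, map_zero, LinearMap.zero_apply, map_zero]

theorem exists_equiv_E1 :
    ∃ e : Exalcom A B M ≃ E1 M P.toExtension, e 0 = 0 := by
  classical
  letI : Module P.toExtension.Ring M := Module.compHom M (algebraMap P.toExtension.Ring B)
  haveI : IsScalarTower P.toExtension.Ring B M := IsScalarTower.of_compHom _ _ _
  letI : Module A M := Module.compHom M (algebraMap A B)
  haveI : IsScalarTower A B M := IsScalarTower.of_compHom _ _ _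
  haveI : IsScalarTower A P.toExtension.Ring M := ⟨fun a r m => by
    change algebraMap P.toExtension.Ring B (a • r) • m =
      algebraMap A B a • (algebraMap P.toExtension.Ring B r • m)
    rw [Algebra.smul_def, map_mul, ← IsScalarTower.algebraMap_apply, mul_smul]⟩
  let Pe := P.toExtension
  let T := Ext.trivial A Pe.Ring M
  let s := inlT (A := A) (M := M) Pe.Ring
  have hs : ∀ r, T.proj (s r) = r := fun r => rfl
  have hT : HasLifts Pe T s := hasLifts_trivial Pe
  have hex : ∀ X : Ext A B M, ∃ φ, Rel Pe X φ := fun X => by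
    obtain ⟨g, hg⟩ := exists_lift P X
    exact exists_rel X g hg
  let N := LinearMap.range (LinearMap.lcomp B M Pe.cotangentComplex)
  let F₀ : Ext A B M → E1 M Pe := fun X => Submodule.Quotient.mk (Classical.choose (hex X))
  have hF₀ : ∀ (X : Ext A B M) (φ : Pe.Cotangent →ₗ[B] M), Rel Pe X φ →
      F₀ X = Submodule.Quotient.mk φ := by
    intro X φ hφ
    exact (Submodule.Quotient.eq _).2
      (sub_mem_range_of_rel (Classical.choose_spec (hex X)) hφ)
  have hwd : ∀ X Y : Ext A B M, (Ext.setoid A B M).r X Y → F₀ X = F₀ Y := by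
    rintro X Y ⟨e⟩
    exact (hF₀ Y _ (rel_of_equiv e (Classical.choose_spec (hex X)))).symm
  let F : Exalcom A B M → E1 M Pe := Quotient.lift F₀ hwd
  have hF : ∀ X : Ext A B M, F X.cl = F₀ X := fun X => rfl
  have hinj : Injective F := by
    intro x y
    refine Quotient.inductionOn₂ x y fun X Y hXY => ?_
    change F X.cl = F Y.cl at hXY
    rw [hF, hF] at hXY
    have hX := Classical.choose_spec (hex X)
    have hY := Classical.choose_spec (hex Y)
    obtain ⟨ψ, hψ⟩ := (Submodule.Quotient.eq _).1 hXY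
    have hY' := rel_add_of_rel hY ψ
    rw [LinearMap.lcomp_apply'] at hψ
    rw [hψ, add_sub_cancel] at hY'
    obtain ⟨e1⟩ := nonempty_equiv_of_rel hs hT hX
    obtain ⟨e2⟩ := nonempty_equiv_of_rel hs hT hY'
    exact Quotient.sound ⟨e1.symm.trans e2⟩
  have hsurj : Surjective F := by
    intro x
    obtain ⟨φ, rfl⟩ := Submodule.Quotient.mk_surjective _ x
    exact ⟨(extOf Pe φ T s hs).cl, hF₀ _ φ (rel_extOf Pe φ T s hs)⟩
  refine ⟨Equiv.ofBijective F ⟨hinj, hsurj⟩, ?_⟩
  change F (Ext.trivial A B M).cl = 0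
  rw [hF, hF₀ _ 0 (rel_trivial_zero Pe)]
  rfl

end Assemble

end Groth.Agent.Helper2.ExalT1
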