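import Mathlib
import Groth.Prelude.Def_Found
import Groth.Prelude.Def_EGA4b
import Groth.Agent.Helper2.NorGen2
import Groth.Agent.Helper2.RedBC
import Groth.Agent.Helper5.NormQ3
set_option autoImplicit false
universe u
open TensorProduct

namespace Groth.Agent.Helper2.NorGen3

open Groth.Agent.Helper2.NorGen1 Groth.Agent.Helper2.GeomNor

theorem algMap_injective {k M N P Q : Type u} [Field k] [CommRing M] [CommRing N] [CommRing P]
    [CommRing Q] [Algebra k M] [Algebra k N] [Algebra k P] [Algebra k Q]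
    (f : P →ₐ[k] M) (g : Q →ₐ[k] N) (hf : Function.Injective f) (hg : Function.Injective g) :
    Function.Injective (Algebra.TensorProduct.map f g) := by
  have h : (Algebra.TensorProduct.map f g : P ⊗[k] Q → M ⊗[k] N) =
      TensorProduct.map f.toLinearMap g.toLinearMap := rfl
  rw [h]
  exact TensorProduct.map_injective_of_flat_flat _ _ hf hg

section Inter
variable {k : Type u} [Field k] {A K B L : Type u} [AddCommGroup A] [AddCommGroup K]
    [AddCommGroup B] [AddCommGroup L] [Module k A] [Module k K] [Module k B] [Module k L]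
    (ιA : A →ₗ[k] K) (ιB : B →ₗ[k] L)

/-- `(K ⊗ B) ∩ (A ⊗ L) = A ⊗ B` inside `K ⊗ L` -/
theorem exists_of_map_eq (hA : Function.Injective ιA) (hB : Function.Injective ιB)
    (u : K ⊗[k] B) (v : A ⊗[k] L)
    (h : TensorProduct.map LinearMap.id ιB u = TensorProduct.map ιA LinearMap.id v) :
    ∃ w : A ⊗[k] B, TensorProduct.map ιA LinearMap.id w = u := by
  obtain ⟨π, hπ⟩ := LinearMap.exists_leftInverse_of_injective ιA (LinearMap.ker_eq_bot.2 hA)
  refine ⟨TensorProduct.map π LinearMap.id u, ?_⟩
  have h1 : TensorProduct.map π LinearMap.id (TensorProduct.map LinearMap.id ιB u) =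
      TensorProduct.map LinearMap.id ιB (TensorProduct.map π LinearMap.id u) := by
    rw [← LinearMap.comp_apply, ← LinearMap.comp_apply, ← TensorProduct.map_comp,
      ← TensorProduct.map_comp]
    simp
  have h2 : TensorProduct.map π LinearMap.id (TensorProduct.map ιA LinearMap.id v) = v := by
    rw [← LinearMap.comp_apply, ← TensorProduct.map_comp, hπ]
    simp
  have h3 : v = TensorProduct.map LinearMap.id ιB (TensorProduct.map π LinearMap.id u) := by
    rw [← h1, h, h2]
  have hinj : Function.Injective (TensorProduct.map (LinearMap.id : K →ₗ[k] K) ιB) :=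
    TensorProduct.map_injective_of_flat_flat _ _ Function.injective_id hB
  apply hinj
  rw [h, h3]
  generalize TensorProduct.map π LinearMap.id u = w
  have e1 : TensorProduct.map ιA LinearMap.id (TensorProduct.map LinearMap.id ιB w) =
      TensorProduct.map ιA ιB w := by
    rw [← LinearMap.comp_apply, ← TensorProduct.map_comp]
    simp
  have e2 : TensorProduct.map LinearMap.id ιB (TensorProduct.map ιA LinearMap.id w) =
      TensorProduct.map ιA ιB w := by
    rw [← LinearMap.comp_apply, ← TensorProduct.map_comp]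
    simp
  rw [e1, e2]

end Inter

section G
variable (k A B : Type u) [Field k] [CommRing A] [CommRing B] [Algebra k A] [Algebra k B]
    [IsDomain A] [IsDomain B]

/-- clearing denominators in `Frac A ⊗ Frac B` -/
theorem exists_clear (z : FractionRing A ⊗[k] FractionRing B) :
    ∃ (a : A) (b : B) (r : A ⊗[k] B), a ≠ 0 ∧ b ≠ 0 ∧
      (algebraMap A (FractionRing A) a ⊗ₜ[k] algebraMap B (FractionRing B) b) * z =
        Algebra.TensorProduct.map (IsScalarTower.toAlgHom k A (FractionRing A))
          (IsScalarTower.toAlgHom k B (FractionRing B)) r := by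
  induction z using TensorProduct.induction_on with
  | zero => exact ⟨1, 1, 0, one_ne_zero, one_ne_zero, by simp⟩
  | tmul x y =>
    obtain ⟨a', a, ha, rfl⟩ := IsFractionRing.div_surjective (A := A) x
    obtain ⟨b', b, hb, rfl⟩ := IsFractionRing.div_surjective (A := B) y
    have ha0 : algebraMap A (FractionRing A) a ≠ 0 :=
      IsFractionRing.to_map_ne_zero_of_mem_nonZeroDivisors ha
    have hb0 : algebraMap B (FractionRing B) b ≠ 0 :=
      IsFractionRing.to_map_ne_zero_of_mem_nonZeroDivisors hb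
    refine ⟨a, b, a' ⊗ₜ b', nonZeroDivisors.ne_zero ha, nonZeroDivisors.ne_zero hb, ?_⟩
    rw [Algebra.TensorProduct.tmul_mul_tmul, mul_div_cancel₀ _ ha0, mul_div_cancel₀ _ hb0]
    rfl
  | add z₁ z₂ h₁ h₂ =>
    obtain ⟨a₁, b₁, r₁, ha₁, hb₁, e₁⟩ := h₁
    obtain ⟨a₂, b₂, r₂, ha₂, hb₂, e₂⟩ := h₂
    refine ⟨a₁ * a₂, b₁ * b₂, (a₂ ⊗ₜ b₂) * r₁ + (a₁ ⊗ₜ b₁) * r₂, mul_ne_zero ha₁ ha₂,
      mul_ne_zero hb₁ hb₂, ?_⟩
    have hm : ∀ (a : A) (b : B), Algebra.TensorProduct.map
        (IsScalarTower.toAlgHom k A (FractionRing A))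
        (IsScalarTower.toAlgHom k B (FractionRing B)) (a ⊗ₜ[k] b) =
        algebraMap A (FractionRing A) a ⊗ₜ[k] algebraMap B (FractionRing B) b := fun _ _ => rfl
    rw [map_add (Algebra.TensorProduct.map _ _), map_mul (Algebra.TensorProduct.map _ _),
      map_mul (Algebra.TensorProduct.map _ _), ← e₁, ← e₂, hm, hm, map_mul (algebraMap A _),
      map_mul (algebraMap B _), ← Algebra.TensorProduct.tmul_mul_tmul]
    ring

theorem main_G (H1 : EGA4.IsNormalRing (FractionRing A ⊗[k] B))
    (H2 : EGA4.IsNormalRing (A ⊗[k] FractionRing B))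
    (H3 : (minimalPrimes (A ⊗[k] B)).Finite) : EGA4.IsNormalRing (A ⊗[k] B) := by
  classical
  let ιA : A →ₐ[k] FractionRing A := IsScalarTower.toAlgHom k A (FractionRing A)
  let ιB : B →ₐ[k] FractionRing B := IsScalarTower.toAlgHom k B (FractionRing B)
  have hιA : Function.Injective ιA := IsFractionRing.injective A (FractionRing A)
  have hιB : Function.Injective ιB := IsFractionRing.injective B (FractionRing B)
  let i₁ : A ⊗[k] B →ₐ[k] FractionRing A ⊗[k] B := Algebra.TensorProduct.map ιA (AlgHom.id k B)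
  let i₂ : A ⊗[k] B →ₐ[k] A ⊗[k] FractionRing B := Algebra.TensorProduct.map (AlgHom.id k A) ιB
  let j₁ : FractionRing A ⊗[k] B →ₐ[k] FractionRing A ⊗[k] FractionRing B :=
    Algebra.TensorProduct.map (AlgHom.id k _) ιB
  let j₂ : A ⊗[k] FractionRing B →ₐ[k] FractionRing A ⊗[k] FractionRing B :=
    Algebra.TensorProduct.map ιA (AlgHom.id k _)
  let j : A ⊗[k] B →ₐ[k] FractionRing A ⊗[k] FractionRing B := Algebra.TensorProduct.map ιA ιB
  have hi₁ : Function.Injective i₁ := algMap_injective _ _ hιA Function.injective_id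
  have hj₁ : Function.Injective j₁ := algMap_injective _ _ Function.injective_id hιB
  have hj₂ : Function.Injective j₂ := algMap_injective _ _ hιA Function.injective_id
  have hj : Function.Injective j := algMap_injective _ _ hιA hιB
  have hj1 : ∀ r, j₁ (i₁ r) = j r := by
    intro r
    induction r using TensorProduct.induction_on with
    | zero => simp
    | tmul a b => rfl
    | add x y hx hy => rw [map_add, map_add, map_add, hx, hy]
  have hj2 : ∀ r, j₂ (i₂ r) = j r := by
    intro r
    induction r using TensorProduct.induction_on with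
    | zero => simp
    | tmul a b => rfl
    | add x y hx hy => rw [map_add, map_add, map_add, hx, hy]
  -- units
  have hunit : ∀ (a : A) (b : B), a ≠ 0 → b ≠ 0 →
      IsUnit (algebraMap A (FractionRing A) a ⊗ₜ[k] algebraMap B (FractionRing B) b) := by
    intro a b ha hb
    have ha0 : algebraMap A (FractionRing A) a ≠ 0 := by
      rwa [Ne, map_eq_zero_iff _ (IsFractionRing.injective A (FractionRing A))]
    have hb0 : algebraMap B (FractionRing B) b ≠ 0 := by
      rwa [Ne, map_eq_zero_iff _ (IsFractionRing.injective B (FractionRing B))]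
    refine IsUnit.of_mul_eq_one
      ((algebraMap A (FractionRing A) a)⁻¹ ⊗ₜ[k] (algebraMap B (FractionRing B) b)⁻¹) ?_
    rw [Algebra.TensorProduct.tmul_mul_tmul, mul_inv_cancel₀ ha0, mul_inv_cancel₀ hb0]
    rfl
  have hnzd : ∀ (a : A) (b : B), a ≠ 0 → b ≠ 0 → (a ⊗ₜ[k] b) ∈ nonZeroDivisors (A ⊗[k] B) := by
    intro a b ha hb
    rw [mem_nonZeroDivisors_iff_right]
    intro x hx
    apply hj
    have h1 : j x * j (a ⊗ₜ[k] b) = 0 := by rw [← map_mul, hx, map_zero]
    rw [map_zero]
    exact (IsUnit.mul_left_eq_zero (hunit a b ha hb)).1 h1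
  -- maps into the total fraction ring
  let gA : A →ₐ[k] FractionRing (A ⊗[k] B) :=
    (IsScalarTower.toAlgHom k (A ⊗[k] B) (FractionRing (A ⊗[k] B))).comp
      Algebra.TensorProduct.includeLeft
  let gB : B →ₐ[k] FractionRing (A ⊗[k] B) :=
    (IsScalarTower.toAlgHom k (A ⊗[k] B) (FractionRing (A ⊗[k] B))).comp
      Algebra.TensorProduct.includeRight
  have hgA : ∀ y : nonZeroDivisors A, IsUnit (gA y) := by
    intro y
    have := hnzd y.1 1 (nonZeroDivisors.ne_zero y.2) one_ne_zero
    exact IsLocalization.map_units (FractionRing (A ⊗[k] B))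
      (⟨y.1 ⊗ₜ[k] (1 : B), this⟩ : nonZeroDivisors (A ⊗[k] B))
  have hgB : ∀ y : nonZeroDivisors B, IsUnit (gB y) := by
    intro y
    have := hnzd 1 y.1 one_ne_zero (nonZeroDivisors.ne_zero y.2)
    exact IsLocalization.map_units (FractionRing (A ⊗[k] B))
      (⟨(1 : A) ⊗ₜ[k] y.1, this⟩ : nonZeroDivisors (A ⊗[k] B))
  let fK : FractionRing A →ₐ[k] FractionRing (A ⊗[k] B) :=
    IsLocalization.liftAlgHom (M := nonZeroDivisors A) (f := gA) hgA
  let fL : FractionRing B →ₐ[k] FractionRing (A ⊗[k] B) :=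
    IsLocalization.liftAlgHom (M := nonZeroDivisors B) (f := gB) hgB
  let ψ : FractionRing A ⊗[k] FractionRing B →ₐ[k] FractionRing (A ⊗[k] B) :=
    Algebra.TensorProduct.productMap fK fL
  have hψ : ∀ r : A ⊗[k] B, ψ (j r) = algebraMap (A ⊗[k] B) (FractionRing (A ⊗[k] B)) r := by
    intro r
    induction r using TensorProduct.induction_on with
    | zero => simp
    | tmul a b =>
      show ψ (algebraMap A (FractionRing A) a ⊗ₜ[k] algebraMap B (FractionRing B) b) = _
      rw [Algebra.TensorProduct.productMap_apply_tmul]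
      show IsLocalization.liftAlgHom (M := nonZeroDivisors A) (f := gA) hgA (algebraMap A _ a) *
        IsLocalization.liftAlgHom (M := nonZeroDivisors B) (f := gB) hgB (algebraMap B _ b) = _
      rw [IsLocalization.liftAlgHom_apply, IsLocalization.liftAlgHom_apply,
        IsLocalization.lift_eq, IsLocalization.lift_eq]
      show algebraMap (A ⊗[k] B) _ (a ⊗ₜ[k] (1 : B)) * algebraMap (A ⊗[k] B) _ ((1 : A) ⊗ₜ[k] b) = _
      rw [← map_mul, Algebra.TensorProduct.tmul_mul_tmul, mul_one, one_mul]
    | add x y hx hy => rw [map_add, map_add, map_add, hx, hy]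
  have hinjQ : Function.Injective (algebraMap (A ⊗[k] B) (FractionRing (A ⊗[k] B))) :=
    IsLocalization.injective _ (le_refl (nonZeroDivisors (A ⊗[k] B)))
  have hψinj : Function.Injective ψ := by
    rw [injective_iff_map_eq_zero]
    intro z hz
    obtain ⟨a, b, r, ha, hb, e⟩ := exists_clear k A B z
    have h1 : ψ (j r) = 0 := by
      show ψ (Algebra.TensorProduct.map ιA ιB r) = 0
      rw [← e, map_mul, hz, mul_zero]
    rw [hψ] at h1
    have h2 : r = 0 := hinjQ (by rw [h1, map_zero])
    rw [h2, map_zero] at e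
    exact (IsUnit.mul_right_eq_zero (hunit a b ha hb)).1 e
  -- reducedness
  haveI : IsReduced (FractionRing A ⊗[k] B) := Groth.Agent.Helper2.RedBC.reduced_of_normal H1
  haveI : IsReduced (A ⊗[k] B) := isReduced_of_injective i₁ hi₁
  -- the two subalgebras
  letI alg1 : Algebra (A ⊗[k] B) (FractionRing A ⊗[k] B) := i₁.toRingHom.toAlgebra
  letI alg2 : Algebra (A ⊗[k] B) (A ⊗[k] FractionRing B) := i₂.toRingHom.toAlgebra
  let φ₁ : FractionRing A ⊗[k] B →ₐ[A ⊗[k] B] FractionRing (A ⊗[k] B) :=
    { (ψ.comp j₁).toRingHom with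
      commutes' := fun r => by
        show ψ (j₁ (i₁ r)) = _
        rw [hj1, hψ] }
  let φ₂ : A ⊗[k] FractionRing B →ₐ[A ⊗[k] B] FractionRing (A ⊗[k] B) :=
    { (ψ.comp j₂).toRingHom with
      commutes' := fun r => by
        show ψ (j₂ (i₂ r)) = _
        rw [hj2, hψ] }
  have hφ₁ : Function.Injective φ₁ := hψinj.comp hj₁
  have hφ₂ : Function.Injective φ₂ := hψinj.comp hj₂
  refine Groth.Agent.Helper5.NormQ.s2707 (A ⊗[k] B) H3 {φ₁.range, φ₂.range} ?_ ?_
  · intro T hT
    rcases hT with rfl | hT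
    · exact isNormalRing_of_ringEquiv (AlgEquiv.ofInjective φ₁ hφ₁).toRingEquiv H1
    · rw [Set.mem_singleton_iff] at hT
      subst hT
      exact isNormalRing_of_ringEquiv (AlgEquiv.ofInjective φ₂ hφ₂).toRingEquiv H2
  · rw [sInf_pair, eq_bot_iff]
    rintro x ⟨⟨u, hu⟩, ⟨v, hv⟩⟩
    have h1 : j₁ u = j₂ v := by
      apply hψinj
      exact hu.trans hv.symm
    obtain ⟨w, hw⟩ := exists_of_map_eq ιA.toLinearMap ιB.toLinearMap hιA hιB u v h1
    rw [Algebra.mem_bot]
    refine ⟨w, ?_⟩
    rw [← hψ, ← hj1]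
    have h2 : i₁ w = u := hw
    rw [h2]
    exact hu

end G

end Groth.Agent.Helper2.NorGen3
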