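import Mathlib
import Groth.Prelude.Def_Found
import Groth.Prelude.Def_EGA4b
import Groth.Agent.Helper2.NorGen3
import Groth.Agent.Helper1.FieldSmooth7
set_option autoImplicit false
universe u
open TensorProduct

namespace Groth.Agent.Helper2.NorGen4

open Groth.Agent.Helper2.NorGen1 Groth.Agent.Helper2.GeomNor Groth.Agent.Helper2.NorGen3

/-- an integrally closed domain is a normal ring. -/
theorem isNormalRing_of_isIntegrallyClosed (R : Type u) [CommRing R] [IsDomain R]
    [IsIntegrallyClosed R] : EGA4.IsNormalRing R := by
  intro p hp
  exact ⟨IsLocalization.isDomain_localization p.primeCompl_le_nonZeroDivisors,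
    isIntegrallyClosed_of_isLocalization _ p.primeCompl p.primeCompl_le_nonZeroDivisors⟩

/-- `K ⊗_k N` is normal for a geometrically reduced (separable) field extension `K/k` and a
normal `k`-algebra `N`. -/
theorem isNormalRing_tensor_of_geomReduced_field (k K N : Type u) [Field k] [Field K] [Algebra k K]
    [Algebra.IsGeometricallyReduced k K] [CommRing N] [Algebra k N] (hN : EGA4.IsNormalRing N) :
    EGA4.IsNormalRing (K ⊗[k] N) := by
  classical
  have h1 : EGA4.IsNormalRing (N ⊗[k] K) := by
    refine isNormalRing_tensor_of_directed k N K (ι := Finset K)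
      (fun s => (IntermediateField.adjoin k (s : Set K)).toSubalgebra) ?_ ?_ ?_
    · intro s t
      refine ⟨s ∪ t, ?_, ?_⟩
      · exact IntermediateField.adjoin.mono k _ _ (by
          intro x hx
          simp only [Finset.coe_union]
          exact Or.inl hx)
      · exact IntermediateField.adjoin.mono k _ _ (by
          intro x hx
          simp only [Finset.coe_union]
          exact Or.inr hx)
    · intro x
      exact ⟨{x}, IntermediateField.subset_adjoin k _ (by simp)⟩
    · intro s
      haveI : Algebra.EssFiniteType k (IntermediateField.adjoin k (s : Set K)) :=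
        IntermediateField.essFiniteType_iff.mpr (IntermediateField.fg_adjoin_finset s)
      haveI : Algebra.IsGeometricallyReduced k (IntermediateField.adjoin k (s : Set K)) :=
        Algebra.IsGeometricallyReduced.of_injective
          (IntermediateField.adjoin k (s : Set K)).val Subtype.val_injective
      haveI : Algebra.FormallySmooth k (IntermediateField.adjoin k (s : Set K)) :=
        Groth.Agent.Helper1.FieldSmooth.formallySmooth_iff_isGeometricallyReduced.mpr inferInstance
      have h2 := isNormalRing_tensor_of_field k (IntermediateField.adjoin k (s : Set K)) N hN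
      exact isNormalRing_of_ringEquiv
        (Algebra.TensorProduct.comm k (IntermediateField.adjoin k (s : Set K)) N).toRingEquiv h2
  exact isNormalRing_of_ringEquiv (Algebra.TensorProduct.comm k N K).toRingEquiv h1

section Bs
variable (k B : Type u) [Field k] [CommRing B] [Algebra k B] [IsDomain B]

/-- the subfield of `Frac B` generated by a finite subset of `B` -/
noncomputable def Ls (s : Finset B) : IntermediateField k (FractionRing B) :=
  IntermediateField.adjoin k ((algebraMap B (FractionRing B)) '' (s : Set B))

/-- `B ∩ Ls` -/
noncomputable def Bs (s : Finset B) : Subalgebra k B :=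
  (Ls k B s).toSubalgebra.comap (IsScalarTower.toAlgHom k B (FractionRing B))

theorem mem_Bs (s : Finset B) (b : B) :
    b ∈ Bs k B s ↔ algebraMap B (FractionRing B) b ∈ Ls k B s := Iff.rfl

theorem Bs_mono {s t : Finset B} (h : s ⊆ t) : Bs k B s ≤ Bs k B t := by
  intro b hb
  rw [mem_Bs] at hb ⊢
  exact IntermediateField.adjoin.mono k _ _ (Set.image_mono (by exact_mod_cast h)) hb

theorem mem_Bs_self (b : B) : b ∈ Bs k B {b} := by
  rw [mem_Bs]
  exact IntermediateField.subset_adjoin k _ ⟨b, by simp, rfl⟩

/-- the restriction `Bs → Ls` -/
noncomputable def ρ (s : Finset B) : Bs k B s →ₐ[k] Ls k B s :=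
  { toFun := fun b => ⟨algebraMap B (FractionRing B) b.1, b.2⟩
    map_one' := Subtype.ext (map_one _)
    map_mul' := fun _ _ => Subtype.ext (map_mul _ _ _)
    map_zero' := Subtype.ext (map_zero _)
    map_add' := fun _ _ => Subtype.ext (map_add _ _ _)
    commutes' := fun r => Subtype.ext
      (IsScalarTower.algebraMap_apply k B (FractionRing B) r).symm }

theorem ρ_injective (s : Finset B) : Function.Injective (ρ k B s) := by
  intro a b hab
  apply Subtype.ext
  exact IsFractionRing.injective B (FractionRing B) (congrArg Subtype.val hab)

instance (s : Finset B) : Algebra.EssFiniteType k (Ls k B s) := by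
  classical
  have : Ls k B s = IntermediateField.adjoin k
      (((s.image (algebraMap B (FractionRing B)) : Finset (FractionRing B))) : Set (FractionRing B)) := by
    rw [Ls, Finset.coe_image]
  rw [this]
  exact IntermediateField.essFiniteType_iff.mpr (IntermediateField.fg_adjoin_finset _)

theorem isIntegrallyClosed_Bs [IsIntegrallyClosed B] (s : Finset B) :
    IsIntegrallyClosed (Bs k B s) := by
  rw [isIntegrallyClosed_iff (FractionRing (Bs k B s))]
  intro x hx
  -- the map `Frac (Bs) → Frac B`
  let g : Bs k B s →ₐ[Bs k B s] FractionRing B := Algebra.ofId _ _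
  have hg : Function.Injective g := by
    intro a b hab
    apply Subtype.ext
    exact IsFractionRing.injective B (FractionRing B) hab
  let σ : FractionRing (Bs k B s) →ₐ[Bs k B s] FractionRing B := IsFractionRing.liftAlgHom hg
  have hσ : Function.Injective σ := σ.toRingHom.injective
  have h1 : IsIntegral (Bs k B s) (σ x) := hx.map σ
  have h2 : IsIntegral B (σ x) := h1.tower_top
  obtain ⟨b, hb⟩ := IsIntegrallyClosed.isIntegral_iff.mp h2
  have h3 : σ x ∈ Ls k B s := by
    obtain ⟨u, v, hv, rfl⟩ := IsFractionRing.div_surjective (A := Bs k B s) x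
    rw [map_div₀, AlgHom.commutes, AlgHom.commutes]
    exact div_mem u.2 v.2
  have hbs : b ∈ Bs k B s := by
    rw [mem_Bs, hb]
    exact h3
  refine ⟨⟨b, hbs⟩, ?_⟩
  apply hσ
  rw [AlgHom.commutes, ← hb]
  rfl

end Bs

section G'
variable (k A B : Type u) [Field k] [CommRing A] [CommRing B] [Algebra k A] [Algebra k B]
    [IsDomain A] [IsDomain B] [IsIntegrallyClosed B]
    [Algebra.IsGeometricallyReduced k (FractionRing A)]

/-- `A ⊗_k B` is normal for domains `A`, `B` with `B` integrally closed, `Frac A` separable over
`k`, and `A ⊗_k F` normal for all subfields `F` of `Frac B`. -/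
theorem main_G' (hF : ∀ (F : Type u) [Field F] [Algebra k F],
      Nonempty (F →ₐ[k] FractionRing B) → EGA4.IsNormalRing (A ⊗[k] F)) :
    EGA4.IsNormalRing (A ⊗[k] B) := by
  classical
  refine isNormalRing_tensor_of_directed k A B (ι := Finset B) (Bs k B) ?_ ?_ ?_
  · intro s t
    exact ⟨s ∪ t, Bs_mono k B Finset.subset_union_left, Bs_mono k B Finset.subset_union_right⟩
  · intro b
    exact ⟨{b}, mem_Bs_self k B b⟩
  · intro s
    haveI := isIntegrallyClosed_Bs k B s
    have H1 : EGA4.IsNormalRing (FractionRing A ⊗[k] Bs k B s) :=
      isNormalRing_tensor_of_geomReduced_field k _ _ (isNormalRing_of_isIntegrallyClosed _)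
    have hinj : Function.Injective
        ((IsScalarTower.toAlgHom k B (FractionRing B)).comp (Bs k B s).val) :=
      (IsFractionRing.injective B (FractionRing B)).comp Subtype.val_injective
    have H2 : EGA4.IsNormalRing (A ⊗[k] FractionRing (Bs k B s)) :=
      hF _ ⟨IsFractionRing.liftAlgHom hinj⟩
    have H3 : (minimalPrimes (A ⊗[k] Bs k B s)).Finite := by
      haveI : IsNoetherianRing (Ls k B s ⊗[k] FractionRing A) :=
        isNoetherianRing_tensor k (FractionRing A) (Ls k B s)
      let f : A ⊗[k] Bs k B s →+* Ls k B s ⊗[k] FractionRing A :=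
        ((Algebra.TensorProduct.comm k (FractionRing A) (Ls k B s)).toAlgHom.comp
          (Algebra.TensorProduct.map (IsScalarTower.toAlgHom k A (FractionRing A))
            (ρ k B s))).toRingHom
      have hιA : Function.Injective (IsScalarTower.toAlgHom k A (FractionRing A)) :=
        IsFractionRing.injective A (FractionRing A)
      have hf : Function.Injective f := by
        show Function.Injective
          ((Algebra.TensorProduct.comm k (FractionRing A) (Ls k B s)) ∘
            (Algebra.TensorProduct.map (IsScalarTower.toAlgHom k A (FractionRing A)) (ρ k B s)))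
        exact (AlgEquiv.injective _).comp
          (algMap_injective _ _ hιA (ρ_injective k B s))
      have h1 := Ideal.minimalPrimes_comap_subset f ⊥
      rw [Ideal.comap_bot_of_injective f hf] at h1
      exact ((minimalPrimes.finite_of_isNoetherianRing _).image _).subset h1
    exact main_G k A (Bs k B s) H1 H2 H3

end G'

end Groth.Agent.Helper2.NorGen4
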