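import Mathlib
import Groth.Prelude
import Groth.Agent.Helper2.ComplCofinal
import Groth.Agent.Helper2.ComplReg
import Groth.Agent.Helper2.ExcLoc
import Groth.Agent.Helper2.SepAlg
import Groth.Agent.Helper2.CplDesc
import Groth.Agent.Helper2.GeomNor2
import Groth.Agent.Helper2.BrnchH
import Groth.Agent.Helper2.NorGen4
import Groth.Agent.S0600

set_option autoImplicit false
set_option linter.style.haveILetI false
set_option linter.unusedSectionVars false

/-!
# S17803: completions of localizations of excellent normal domains
-/

namespace Groth.Agent.Helper2.ExcCplNor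

universe u

open AdicCompletion

section surj

variable {S T : Type u} [CommRing S] [CommRing T] (I : Ideal S) (K : Ideal T) (g : S →+* T)


/-- completion of a surjection (with compatible ideals) is surjective -/
theorem complMap_surjective (hg : Function.Surjective g) (hIK : I.map g = K) :
    Function.Surjective (FSch.complMap I K g hIK.le) := by
  subst hIK
  intro y
  obtain ⟨t, rfl⟩ := AdicCompletion.mk_surjective (I.map g) T y
  have hstep : ∀ n, ∃ d ∈ I ^ n, g d = t.val (n + 1) - t.val n := by
    intro n
    have h1 : t.val (n + 1) - t.val n ∈ (I.map g) ^ n := by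
      have := Groth.Agent.Helper2.ComplCofinal.cauchy_sub_mem (I.map g) t (Nat.le_succ n)
      have h2 := ((I.map g) ^ n).neg_mem this
      rwa [neg_sub] at h2
    rw [← Ideal.map_pow] at h1
    obtain ⟨d, hd, hd'⟩ := (Ideal.mem_map_iff_of_surjective g hg).mp h1
    exact ⟨d, hd, hd'⟩
  choose d hdI hd using hstep
  obtain ⟨s₀, hs₀⟩ := hg (t.val 0)
  let s : ℕ → S := fun n => Nat.rec s₀ (fun n sn => sn + d n) n
  have hs0 : s 0 = s₀ := rfl
  have hsS : ∀ n, s (n + 1) = s n + d n := fun n => rfl
  have hs : ∀ n, g (s n) = t.val n := by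
    intro n
    induction n with
    | zero => rw [hs0, hs₀]
    | succ n ih => rw [hsS, map_add, ih, hd]; ring
  have hc : ∀ n, s n ≡ s (n + 1) [SMOD (I ^ n • ⊤ : Submodule S S)] := by
    intro n
    rw [SModEq.sub_mem, smul_eq_mul, Ideal.mul_top, hsS]
    have : s n - (s n + d n) = - d n := by ring
    rw [this]
    exact (I ^ n).neg_mem (hdI n)
  let sc : AdicCauchySequence I S := AdicCompletion.AdicCauchySequence.mk I S s hc
  refine ⟨AdicCompletion.mk I S sc, ?_⟩
  apply ext_evalₐ
  intro n
  rw [Groth.Agent.Helper2.ComplLocFlat.evalₐ_complMap, evalₐ_mk, evalₐ_mk]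
  show Ideal.Quotient.mk ((I.map g) ^ n) (g (s n)) = _
  rw [hs]

end surj

section main

variable (A : Type u) [CommRing A] [IsDomain A] [IsIntegrallyClosed A]

theorem isNormalRing_completion_away (hexc : EGA4.IsExcellent A) (I : Ideal A) (f : A) :
    EGA4.IsNormalRing (AdicCompletion (I.map (algebraMap A (Localization.Away f)))
      (Localization.Away f)) := by
  obtain ⟨hN, -, hG, -⟩ := hexc
  haveI := hN
  have hG' : CAlg.IsGRing (Localization.Away f) :=
    Groth.Agent.Helper2.ExcLoc.isGRing_of_isLocalization A (Submonoid.powers f) _ hG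
  haveI := hG'.1
  set I' := I.map (algebraMap A (Localization.Away f)) with hI'
  have hreg := Groth.Agent.S0600.result (Localization.Away f) hG' I'
  have hNH := Groth.Agent.Helper2.CplDesc.isNormalHom_of_isRegularHom _ _ hreg
  haveI : IsNoetherianRing (AdicCompletion I' (Localization.Away f)) :=
    Groth.Agent.S0543.result _ I'
  haveI : Module.Flat (Localization.Away f) (AdicCompletion I' (Localization.Away f)) := hNH.1
  have hnor : EGA4.IsNormalRing (Localization.Away f) :=
    Groth.Agent.Helper2.SepAlg.isNormalRing_of_isLocalization (Submonoid.powers f) _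
      (Groth.Agent.Helper2.NorGen4.isNormalRing_of_isIntegrallyClosed A)
  refine Groth.Agent.Helper2.GeomNor2.isNormalRing_of_flat (Localization.Away f) _ hnor ?_
  intro p hp
  have h1 := Groth.Agent.Helper2.NorGen2.normal_of_isGeomNormal _ _ (hNH.2 p) p.ResidueField
  exact Groth.Agent.Helper2.GeomNor.isNormalRing_of_ringEquiv
    (Algebra.TensorProduct.lid p.ResidueField _).toRingEquiv h1

theorem exists_regular_surjection (R : Type u) [CommRing R] [IsRegularRing R] (φ : R →+* A)
    (hφ : Function.Surjective φ) (I : Ideal A) (f : A) :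
    ∃ (R' : Type u) (_ : CommRing R') (_ : IsRegularRing R')
      (ψ : R' →+* AdicCompletion (I.map (algebraMap A (Localization.Away f)))
        (Localization.Away f)), Function.Surjective ψ := by
  obtain ⟨g, rfl⟩ := hφ f
  let φg : Localization.Away g →+* Localization.Away (φ g) := Localization.awayMap φ g
  have hφg : Function.Surjective φg := by
    intro x
    obtain ⟨a, ⟨_, n, rfl⟩, rfl⟩ := IsLocalization.exists_mk'_eq (Submonoid.powers (φ g)) x
    obtain ⟨r, rfl⟩ := hφ a
    refine ⟨IsLocalization.mk' (Localization.Away g) r (⟨g ^ n, ⟨n, rfl⟩⟩ : Submonoid.powers g), ?_⟩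
    simp only [φg, Localization.awayMap, IsLocalization.Away.map, IsLocalization.map_mk']
    congr 1
    exact Subtype.ext (map_pow φ g n)
  haveI : IsRegularRing (Localization.Away g) :=
    Groth.Agent.Helper2.SepAlg.isRegularRing_of_isLocalization (Submonoid.powers g) _
  set I' := I.map (algebraMap A (Localization.Away (φ g))) with hI'
  let J' : Ideal (Localization.Away g) := I'.comap φg
  have hJ' : J'.map φg = I' := Ideal.map_comap_of_surjective φg hφg I'
  haveI : IsRegularRing (AdicCompletion J' (Localization.Away g)) :=
    Groth.Agent.Helper2.ComplReg.isRegularRing_adicCompletion _ J'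
  exact ⟨AdicCompletion J' (Localization.Away g), inferInstance, inferInstance,
    FSch.complMap J' I' φg hJ'.le, complMap_surjective J' I' φg hφg hJ'⟩

end main

end Groth.Agent.Helper2.ExcCplNor
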