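import Mathlib
import Groth.Prelude
import Groth.Agent.Helper2.CotInj

set_option autoImplicit false
universe u

namespace Groth.Agent.Helper2.ExtHom

open TensorProduct Algebra.Extension KaehlerDifferential

section

variable {A B : Type u} [CommRing A] [CommRing B] [Algebra A B]
  (P P' : Algebra.Extension.{u} A B)

/-- the universal differential `E → B ⊗_E Ω_{E/A}`. -/
noncomputable def dd (e : P.Ring) : P.CotangentSpace :=
  (1 : B) ⊗ₜ[P.Ring] KaehlerDifferential.D A P.Ring e

theorem dd_add (e₁ e₂ : P.Ring) : dd P (e₁ + e₂) = dd P e₁ + dd P e₂ := by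
  simp only [dd, map_add, tmul_add]

theorem dd_sub (e₁ e₂ : P.Ring) : dd P (e₁ - e₂) = dd P e₁ - dd P e₂ := by
  simp only [dd, map_sub, tmul_sub]

theorem dd_zero : dd P 0 = 0 := by
  simp only [dd, map_zero, tmul_zero]

theorem dd_one : dd P 1 = 0 := by
  simp only [dd, Derivation.map_one_eq_zero, tmul_zero]

theorem dd_algebraMap (a : A) : dd P (algebraMap A P.Ring a) = 0 := by
  simp only [dd, Derivation.map_algebraMap, tmul_zero]

theorem dd_mul (e₁ e₂ : P.Ring) :
    dd P (e₁ * e₂) = algebraMap P.Ring B e₁ • dd P e₂ + algebraMap P.Ring B e₂ • dd P e₁ := by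
  simp only [dd, Derivation.leibniz, tmul_add, tmul_smul, algebraMap_smul]

theorem toKaehler_dd (e : P.Ring) :
    P.toKaehler (dd P e) = KaehlerDifferential.D A B (algebraMap P.Ring B e) := by
  simp [dd, Algebra.Extension.toKaehler]

theorem cotangentComplex_mk' (x : P.ker) : P.cotangentComplex (Cotangent.mk x) = dd P x.1 :=
  cotangentComplex_mk P x

variable {P P'}

theorem exists_rel (ψ : P.CotangentSpace →ₗ[B] P'.CotangentSpace)
    (hψ : ∀ y, P'.toKaehler (ψ y) = P.toKaehler y) (e : P.Ring) :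
    ∃ e' : P'.Ring, algebraMap P'.Ring B e' = algebraMap P.Ring B e ∧ dd P' e' = ψ (dd P e) := by
  set e₀ := P'.σ (algebraMap P.Ring B e) with he₀
  have hπ₀ : algebraMap P'.Ring B e₀ = algebraMap P.Ring B e := P'.algebraMap_σ _
  set w := ψ (dd P e) - dd P' e₀ with hw
  have hw0 : P'.toKaehler w = 0 := by
    rw [hw, map_sub, hψ, toKaehler_dd, toKaehler_dd, hπ₀, sub_self]
  obtain ⟨c, hc⟩ := (P'.exact_cotangentComplex_toKaehler w).mp hw0
  obtain ⟨y, rfl⟩ := Cotangent.mk_surjective c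
  rw [cotangentComplex_mk'] at hc
  refine ⟨e₀ + y.1, ?_, ?_⟩
  · rw [map_add, hπ₀, RingHom.mem_ker.mp y.2, add_zero]
  · rw [dd_add, hc, hw]; abel

theorem rel_unique (hinj' : Function.Injective P'.cotangentComplex) (hsq' : P'.ker ^ 2 = ⊥)
    {e₁ e₂ : P'.Ring} (h1 : algebraMap P'.Ring B e₁ = algebraMap P'.Ring B e₂)
    (h2 : dd P' e₁ = dd P' e₂) : e₁ = e₂ := by
  have hy : e₁ - e₂ ∈ P'.ker := by
    rw [RingHom.mem_ker, map_sub, h1, sub_self]
  have h3 : P'.cotangentComplex (Cotangent.mk ⟨e₁ - e₂, hy⟩) = 0 := by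
    rw [cotangentComplex_mk', dd_sub, h2, sub_self]
  have h4 : Cotangent.mk ⟨e₁ - e₂, hy⟩ = 0 := hinj' (h3.trans (map_zero _).symm)
  rw [Cotangent.mk_eq_zero_iff, hsq', Ideal.mem_bot] at h4
  exact sub_eq_zero.mp h4

/-- the function underlying the homomorphism of extensions. -/
noncomputable def fFun (ψ : P.CotangentSpace →ₗ[B] P'.CotangentSpace)
    (hψ : ∀ y, P'.toKaehler (ψ y) = P.toKaehler y) (e : P.Ring) : P'.Ring :=
  Classical.choose (exists_rel ψ hψ e)

theorem fFun_spec (ψ : P.CotangentSpace →ₗ[B] P'.CotangentSpace)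
    (hψ : ∀ y, P'.toKaehler (ψ y) = P.toKaehler y) (e : P.Ring) :
    algebraMap P'.Ring B (fFun ψ hψ e) = algebraMap P.Ring B e ∧
      dd P' (fFun ψ hψ e) = ψ (dd P e) :=
  Classical.choose_spec (exists_rel ψ hψ e)

theorem fFun_eq (ψ : P.CotangentSpace →ₗ[B] P'.CotangentSpace)
    (hψ : ∀ y, P'.toKaehler (ψ y) = P.toKaehler y)
    (hinj' : Function.Injective P'.cotangentComplex) (hsq' : P'.ker ^ 2 = ⊥)
    (e : P.Ring) (e' : P'.Ring) (h1 : algebraMap P'.Ring B e' = algebraMap P.Ring B e)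
    (h2 : dd P' e' = ψ (dd P e)) : fFun ψ hψ e = e' :=
  rel_unique hinj' hsq' ((fFun_spec ψ hψ e).1.trans h1.symm) ((fFun_spec ψ hψ e).2.trans h2.symm)

/-- the homomorphism of extensions attached to a map of conormal sequences. -/
noncomputable def homOf (ψ : P.CotangentSpace →ₗ[B] P'.CotangentSpace)
    (hψ : ∀ y, P'.toKaehler (ψ y) = P.toKaehler y)
    (hinj' : Function.Injective P'.cotangentComplex) (hsq' : P'.ker ^ 2 = ⊥) : P.Hom P' where
  toRingHom :=
    { toFun := fFun ψ hψ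
      map_one' := by
        apply fFun_eq ψ hψ hinj' hsq'
        · rw [map_one, map_one]
        · rw [dd_one, dd_one, map_zero]
      map_mul' := by
        intro x y
        apply fFun_eq ψ hψ hinj' hsq'
        · rw [map_mul, map_mul, (fFun_spec ψ hψ x).1, (fFun_spec ψ hψ y).1]
        · rw [dd_mul, dd_mul, (fFun_spec ψ hψ x).1, (fFun_spec ψ hψ y).1,
            (fFun_spec ψ hψ x).2, (fFun_spec ψ hψ y).2, map_add, map_smul, map_smul]
      map_zero' := by
        apply fFun_eq ψ hψ hinj' hsq'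
        · rw [map_zero, map_zero]
        · rw [dd_zero, dd_zero, map_zero]
      map_add' := by
        intro x y
        apply fFun_eq ψ hψ hinj' hsq'
        · rw [map_add, map_add, (fFun_spec ψ hψ x).1, (fFun_spec ψ hψ y).1]
        · rw [dd_add, dd_add, (fFun_spec ψ hψ x).2, (fFun_spec ψ hψ y).2, map_add] }
  toRingHom_algebraMap := by
    intro a
    apply fFun_eq ψ hψ hinj' hsq'
    · show algebraMap P'.Ring B (algebraMap A P'.Ring a) = algebraMap P.Ring B (algebraMap A P.Ring a)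
      rw [← IsScalarTower.algebraMap_apply, ← IsScalarTower.algebraMap_apply]
    · rw [dd_algebraMap, dd_algebraMap, map_zero]
  algebraMap_toRingHom := by
    intro x
    exact (fFun_spec ψ hψ x).1

theorem homOf_apply (ψ : P.CotangentSpace →ₗ[B] P'.CotangentSpace)
    (hψ : ∀ y, P'.toKaehler (ψ y) = P.toKaehler y)
    (hinj' : Function.Injective P'.cotangentComplex) (hsq' : P'.ker ^ 2 = ⊥) (e : P.Ring) :
    (homOf ψ hψ hinj' hsq').toRingHom e = fFun ψ hψ e := rfl

theorem main [IsReduced B]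
    (hsm : ∀ p : PrimeSpectrum B, p.asIdeal ∈ minimalPrimes B → Algebra.IsSmoothAt A p.asIdeal)
    (P P' : Algebra.Extension.{u} A B) (hsq : P.ker ^ 2 = ⊥) (hsq' : P'.ker ^ 2 = ⊥)
    [Module.Projective B P.Cotangent]
    (e₁ : P.Cotangent ≃ₗ[B] P'.Cotangent) (e₂ : P.CotangentSpace ≃ₗ[B] P'.CotangentSpace)
    (h₁ : ∀ x, e₂ (P.cotangentComplex x) = P'.cotangentComplex (e₁ x))
    (h₂ : ∀ y, P'.toKaehler (e₂ y) = P.toKaehler y) :
    ∃ f : P.Hom P', Function.Bijective f.toRingHom ∧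
      Algebra.Extension.Cotangent.map f = e₁.toLinearMap := by
  haveI : Module.Projective B P'.Cotangent := Module.Projective.of_equiv e₁
  have hinj := CotInj.injective_cotangentComplex P hsm hsq
  have hinj' := CotInj.injective_cotangentComplex P' hsm hsq'
  have h₂l : ∀ y, P'.toKaehler (e₂.toLinearMap y) = P.toKaehler y := h₂
  refine ⟨homOf e₂.toLinearMap h₂l hinj' hsq', ⟨?_, ?_⟩, ?_⟩
  · rw [injective_iff_map_eq_zero]
    intro e he
    have hs := fFun_spec e₂.toLinearMap h₂l e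
    rw [← homOf_apply _ _ hinj' hsq', he] at hs
    obtain ⟨hs1, hs2⟩ := hs
    rw [map_zero] at hs1
    rw [dd_zero] at hs2
    have hd : dd P e = 0 := e₂.injective (by rw [map_zero]; exact hs2.symm)
    have hek : e ∈ P.ker := hs1.symm
    have h0 : Cotangent.mk ⟨e, hek⟩ = 0 :=
      hinj (by rw [cotangentComplex_mk', hd, map_zero])
    rw [Cotangent.mk_eq_zero_iff, hsq, Ideal.mem_bot] at h0
    exact h0
  · intro e'
    have h₂' : ∀ y, P.toKaehler (e₂.symm.toLinearMap y) = P'.toKaehler y := by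
      intro y
      rw [← h₂]
      simp
    obtain ⟨e, he1, he2⟩ := exists_rel e₂.symm.toLinearMap h₂' e'
    refine ⟨e, fFun_eq e₂.toLinearMap h₂l hinj' hsq' e e' he1.symm ?_⟩
    rw [he2]
    simp
  · apply LinearMap.ext
    intro c
    obtain ⟨x, rfl⟩ := Cotangent.mk_surjective c
    apply hinj'
    rw [Cotangent.map_mk, cotangentComplex_mk']
    show _ = P'.cotangentComplex (e₁ (Cotangent.mk x))
    rw [← h₁, cotangentComplex_mk']
    exact (fFun_spec e₂.toLinearMap h₂l x.1).2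

end

end Groth.Agent.Helper2.ExtHom
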