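import Mathlib
import Groth.Prelude

namespace Groth.Agent.Helper2.ExtOneCoker

open CategoryTheory Function Abelian

universe u

noncomputable section

variable {R : Type u} [CommRing R] {L C : Type u} [AddCommGroup L] [Module R L]
  [AddCommGroup C] [Module R C] (π : L →ₗ[R] C) (N : Type u) [AddCommGroup N] [Module R N]

/-- the short complex `ker π → L → C`. -/
def SC : ShortComplex (ModuleCat.{u} R) :=
  ShortComplex.mk (ModuleCat.ofHom (LinearMap.ker π).subtype) (ModuleCat.ofHom π) (by
    ext x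
    exact x.2)

lemma shortExact (hπ : Surjective π) : (SC π).ShortExact := by
  have hexact : (SC π).Exact := by
    rw [ShortComplex.moduleCat_exact_iff]
    intro x₂ hx₂
    exact ⟨⟨x₂, hx₂⟩, rfl⟩
  have : Mono (SC π).f := (ModuleCat.mono_iff_injective _).2 (Submodule.injective_subtype _)
  have : Epi (SC π).g := (ModuleCat.epi_iff_surjective _).2 hπ
  exact ShortComplex.ShortExact.mk hexact

/-- `Ext¹(C, N)` as the cokernel of restriction `Hom(L, N) → Hom(ker π, N)` for projective `L`. -/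
theorem nonempty_ext_one_equiv [Module.Projective R L] (hπ : Surjective π) :
    Nonempty (Ext (ModuleCat.of R C) (ModuleCat.of R N) 1 ≃ₗ[R]
      ((LinearMap.ker π →ₗ[R] N) ⧸
        LinearMap.range (LinearMap.lcomp R N (LinearMap.ker π).subtype))) := by
  have hS := shortExact π hπ
  haveI : Projective (SC π).X₂ := (IsProjective.iff_projective (R := R) (P := L)).1 inferInstance
  let bd : (LinearMap.ker π →ₗ[R] N) →ₗ[R] Ext (ModuleCat.of R C) (ModuleCat.of R N) 1 :=
    (hS.extClass.precompOfLinear R (ModuleCat.of R N) (show 1 + 0 = 1 by omega)) ∘ₗ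
      (Ext.linearEquiv₀ (R := R) (X := ModuleCat.of R (LinearMap.ker π))
        (Y := ModuleCat.of R N)).symm.toLinearMap ∘ₗ
      (ModuleCat.homLinearEquiv (S := R) (M := ModuleCat.of R (LinearMap.ker π))
        (N := ModuleCat.of R N)).symm.toLinearMap
  have hbd_apply : ∀ φ : LinearMap.ker π →ₗ[R] N,
      bd φ = hS.extClass.comp (Ext.mk₀ (ModuleCat.ofHom φ)) (show 1 + 0 = 1 by omega) := by
    intro φ
    rfl
  have hsurj : Surjective bd := by
    intro x₃
    obtain ⟨x₁, hx₁⟩ := Ext.contravariant_sequence_exact₃ hS (ModuleCat.of R N) x₃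
      (Ext.eq_zero_of_projective _) (show 1 + 0 = 1 by omega)
    obtain ⟨φ, rfl⟩ := (Ext.mk₀_bijective _ _).2 x₁
    exact ⟨φ.hom, by rw [hbd_apply]; exact hx₁⟩
  have hker : LinearMap.ker bd =
      LinearMap.range (LinearMap.lcomp R N (LinearMap.ker π).subtype) := by
    ext φ
    rw [LinearMap.mem_ker, hbd_apply]
    constructor
    · intro h
      obtain ⟨x₂, hx₂⟩ := Ext.contravariant_sequence_exact₁ hS (ModuleCat.of R N)
        (Ext.mk₀ (ModuleCat.ofHom φ)) (show 1 + 0 = 1 by omega) h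
      obtain ⟨ψ, rfl⟩ := (Ext.mk₀_bijective _ _).2 x₂
      rw [Ext.mk₀_comp_mk₀] at hx₂
      have := (Ext.mk₀_bijective _ _).1 hx₂
      refine ⟨ψ.hom, ?_⟩
      have h2 := congrArg ModuleCat.Hom.hom this
      exact h2
    · rintro ⟨ψ, rfl⟩
      have : (Ext.mk₀ (ModuleCat.ofHom (LinearMap.lcomp R N (LinearMap.ker π).subtype ψ)) :
            Ext (SC π).X₁ (ModuleCat.of R N) 0) =
          (Ext.mk₀ (SC π).f).comp (Ext.mk₀ (ModuleCat.ofHom ψ)) (zero_add 0) := by
        rw [Ext.mk₀_comp_mk₀]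
        rfl
      change hS.extClass.comp (Ext.mk₀ (ModuleCat.ofHom
        (LinearMap.lcomp R N (LinearMap.ker π).subtype ψ)) :
          Ext (SC π).X₁ (ModuleCat.of R N) 0) (show 1 + 0 = 1 by omega) = 0
      rw [this, ← Ext.comp_assoc_of_third_deg_zero, hS.extClass_comp, Ext.zero_comp]
  exact ⟨((LinearMap.quotKerEquivOfSurjective bd hsurj).symm).trans
    (Submodule.quotEquivOfEq _ _ hker)⟩

end

end Groth.Agent.Helper2.ExtOneCoker
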