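import Mathlib
import Groth.Prelude
import Groth.Agent.Helper2.CotInj

set_option autoImplicit false
universe u

namespace Groth.Agent.Helper2.ExtReal

open TensorProduct Algebra.Extension KaehlerDifferential TrivSqZeroExt

section

variable {A B : Type u} [CommRing A] [CommRing B] [Algebra A B]
variable {N : Type u} [AddCommGroup N] [Module B N]

/-- the right action of `B` on `N`. -/
@[reducible] def opMod (B N : Type u) [CommRing B] [AddCommGroup N] [Module B N] : Module Bᵐᵒᵖ N :=
  Module.compHom N ((RingHom.id B).fromOpposite fun _ _ => Commute.all _ _)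

attribute [local instance] opMod

local instance isCentral : IsCentralScalar B N := ⟨fun _ _ => rfl⟩

/-- the ring `B ×_{Ω} N`. -/
def E (q : N →ₗ[B] Ω[B⁄A]) : Subring (TrivSqZeroExt B N) where
  carrier := {z | q z.snd = KaehlerDifferential.D A B z.fst}
  mul_mem' := by
    intro x y hx hy
    simp only [Set.mem_setOf_eq] at hx hy ⊢
    rw [snd_mul, fst_mul, map_add, op_smul_eq_smul, map_smul, map_smul, hx, hy,
      Derivation.leibniz]
  one_mem' := by
    simp only [Set.mem_setOf_eq, snd_one, map_zero, fst_one, Derivation.map_one_eq_zero]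
  add_mem' := by
    intro x y hx hy
    simp only [Set.mem_setOf_eq] at hx hy ⊢
    rw [snd_add, fst_add, map_add, map_add, hx, hy]
  zero_mem' := by
    simp only [Set.mem_setOf_eq, snd_zero, map_zero, fst_zero]
  neg_mem' := by
    intro x hx
    simp only [Set.mem_setOf_eq] at hx ⊢
    rw [snd_neg, fst_neg, map_neg, map_neg, hx]

theorem mem_E (q : N →ₗ[B] Ω[B⁄A]) (z : TrivSqZeroExt B N) :
    z ∈ E q ↔ q z.snd = KaehlerDifferential.D A B z.fst := Iff.rfl

variable (q : N →ₗ[B] Ω[B⁄A])

/-- the structure map `A → E`. -/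
def algMapAE : A →+* E q :=
  ((inlHom B N).comp (algebraMap A B)).codRestrict (E q) (by
    intro a
    rw [mem_E]
    simp only [RingHom.comp_apply, inlHom_apply, snd_inl, map_zero, fst_inl,
      Derivation.map_algebraMap])

instance algAE : Algebra A (E q) := (algMapAE q).toAlgebra

/-- the projection `E → B`. -/
def algMapEB : E q →+* B := (fstHom B B N).toRingHom.comp (E q).subtype

instance algEB : Algebra (E q) B := (algMapEB q).toAlgebra

theorem algebraMap_EB (z : E q) : algebraMap (E q) B z = z.1.fst := rfl

theorem algebraMap_AE (a : A) : (algebraMap A (E q) a).1 = inl (algebraMap A B a) := rfl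

instance towerAEB : IsScalarTower A (E q) B := IsScalarTower.of_algebraMap_eq' rfl

/-- the extension. -/
noncomputable abbrev P (hq : Function.Surjective q) : Algebra.Extension.{u} A B where
  Ring := E q
  σ := fun b => ⟨inl b + inr (Classical.choose (hq (KaehlerDifferential.D A B b))), by
    rw [mem_E]
    simp only [snd_add, snd_inl, snd_inr, zero_add, fst_add, fst_inl, fst_inr, add_zero]
    exact Classical.choose_spec (hq (KaehlerDifferential.D A B b))⟩
  algebraMap_σ := fun b => by
    rw [algebraMap_EB]
    simp only [fst_add, fst_inl, fst_inr, add_zero]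

variable {q} in
theorem mem_ker_iff (hq : Function.Surjective q) (z : (P q hq).Ring) :
    z ∈ (P q hq).ker ↔ (z : E q).1.fst = 0 := by
  rw [RingHom.mem_ker]
  exact Iff.rfl

theorem ker_sq (hq : Function.Surjective q) : (P q hq).ker ^ 2 = ⊥ := by
  rw [eq_bot_iff, pow_two, Ideal.mul_le]
  intro x hx y hy
  rw [mem_ker_iff] at hx hy
  rw [Ideal.mem_bot]
  apply Subtype.ext
  show (x : E q).1 * (y : E q).1 = 0
  apply TrivSqZeroExt.ext
  · rw [fst_mul, hx, zero_mul, fst_zero]
  · rw [snd_mul, hx, hy, zero_smul, op_smul_eq_smul, zero_smul, add_zero, snd_zero]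

section cot

variable {M : Type u} [AddCommGroup M] [Module B M] (i : M →ₗ[B] N)
  (hex : Function.Exact i q) (hq : Function.Surjective q)

/-- the element `(0, i m)` of the kernel. -/
def kerElt (m : M) : (P q hq).ker :=
  ⟨⟨inr (i m), by
    rw [mem_E]
    simp only [snd_inr, fst_inr, map_zero]
    exact hex.apply_apply_eq_zero m⟩, by
    rw [mem_ker_iff]
    exact fst_inr _ _⟩

theorem kerElt_add (m₁ m₂ : M) :
    kerElt q i hex hq (m₁ + m₂) = kerElt q i hex hq m₁ + kerElt q i hex hq m₂ := by
  apply Subtype.ext
  apply Subtype.ext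
  show inr (i (m₁ + m₂)) = inr (i m₁) + inr (i m₂)
  rw [map_add, inr_add]

theorem smul_kerElt (z : (P q hq).Ring) (m : M) :
    z • kerElt q i hex hq m = kerElt q i hex hq ((z : E q).1.fst • m) := by
  apply Subtype.ext
  apply Subtype.ext
  show (z : E q).1 * inr (i m) = inr (i ((z : E q).1.fst • m))
  apply TrivSqZeroExt.ext
  · rw [fst_mul, fst_inr, mul_zero, fst_inr]
  · rw [snd_mul, fst_inr, snd_inr, snd_inr, op_smul_eq_smul, zero_smul, add_zero, map_smul]

/-- `M → I/I²`. -/
noncomputable def toCot : M →ₗ[B] (P q hq).Cotangent where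
  toFun m := Cotangent.mk (kerElt q i hex hq m)
  map_add' m₁ m₂ := by rw [kerElt_add, map_add]
  map_smul' b m := by
    obtain ⟨z, rfl⟩ := (P q hq).algebraMap_surjective b
    have h : algebraMap (P q hq).Ring B z • Cotangent.mk (kerElt q i hex hq m) =
        z • Cotangent.mk (kerElt q i hex hq m) := algebraMap_smul _ _ _
    rw [RingHom.id_apply, h, ← map_smul, smul_kerElt]
    rfl

theorem toCot_bijective (hi : Function.Injective i) :
    Function.Bijective (toCot q i hex hq) := by
  constructor
  · rw [injective_iff_map_eq_zero]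
    intro m hm
    have h1 : Cotangent.mk (kerElt q i hex hq m) = 0 := hm
    rw [Cotangent.mk_eq_zero_iff, ker_sq, Ideal.mem_bot] at h1
    have h2 : (inr (i m) : TrivSqZeroExt B N) = 0 := congrArg Subtype.val h1
    have h3 : i m = 0 := by
      have := congrArg TrivSqZeroExt.snd h2
      rwa [snd_inr, snd_zero] at this
    exact hi (h3.trans (map_zero i).symm)
  · intro c
    obtain ⟨x, rfl⟩ := Cotangent.mk_surjective c
    have hx0 : ((x : (P q hq).Ring) : E q).1.fst = 0 := (mem_ker_iff hq _).mp x.2
    have hx1 : q ((x : (P q hq).Ring) : E q).1.snd = 0 := by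
      have := ((x : (P q hq).Ring) : E q).2
      rw [mem_E, hx0, map_zero] at this
      exact this
    obtain ⟨m, hm⟩ := (hex _).mp hx1
    refine ⟨m, ?_⟩
    show Cotangent.mk (kerElt q i hex hq m) = Cotangent.mk x
    congr 1
    apply Subtype.ext
    apply Subtype.ext
    show inr (i m) = ((x : (P q hq).Ring) : E q).1
    apply TrivSqZeroExt.ext
    · rw [fst_inr, hx0]
    · rw [snd_inr, hm]

end cot

/-- `N` with its module structures over `A`, `E` and `B`. -/
def NN (_q : N →ₗ[B] Ω[B⁄A]) : Type u := N

instance : AddCommGroup (NN q) := inferInstanceAs (AddCommGroup N)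
instance : Module B (NN q) := inferInstanceAs (Module B N)
instance modENN : Module (E q) (NN q) := Module.compHom N (algebraMap (E q) B)
instance modANN : Module A (NN q) := Module.compHom N (algebraMap A B)
instance : IsScalarTower A B (NN q) := IsScalarTower.of_algebraMap_smul fun _ _ => rfl
instance : IsScalarTower (E q) B (NN q) := IsScalarTower.of_algebraMap_smul fun _ _ => rfl
instance : IsScalarTower A (E q) (NN q) := ⟨fun a z n => by
  show algebraMap (E q) B (a • z) • (show N from n) =
    algebraMap A B a • (algebraMap (E q) B z • (show N from n))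
  rw [Algebra.smul_def, map_mul, mul_smul, ← IsScalarTower.algebraMap_apply]⟩

theorem smul_NN_def (z : E q) (n : NN q) : z • n = (z.1.fst • (show N from n) : N) := rfl

/-- the second projection as a derivation. -/
def δ : Derivation A (E q) (NN q) where
  toFun z := (z.1.snd : N)
  map_add' x y := rfl
  map_smul' a z := by
    show ((a • z : E q)).1.snd = algebraMap A B a • (z.1.snd : N)
    rw [Algebra.smul_def]
    show ((algebraMap A (E q) a).1 * z.1).snd = _
    rw [algebraMap_AE, snd_mul, fst_inl, snd_inl, smul_zero, add_zero]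
  map_one_eq_zero' := by
    show ((1 : E q).1).snd = (0 : N)
    exact snd_one
  leibniz' x y := by
    show (x.1 * y.1).snd = (x.1.fst • (y.1.snd : N) + y.1.fst • (x.1.snd : N) : N)
    rw [snd_mul, op_smul_eq_smul]

theorem δ_apply (z : E q) : δ q z = (z.1.snd : N) := rfl

/-- the comparison map `B ⊗_E Ω_{E/A} → N`. -/
noncomputable def Φ : B ⊗[E q] Ω[E q⁄A] →ₗ[B] NN q :=
  LinearMap.liftBaseChange B (δ q).liftKaehlerDifferential

theorem Φ_tmul_D (b : B) (z : E q) :
    Φ q (b ⊗ₜ[E q] KaehlerDifferential.D A (E q) z) = (b • (z.1.snd : N) : N) := by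
  rw [Φ, LinearMap.liftBaseChange_tmul, Derivation.liftKaehlerDifferential_comp_D]
  rfl

theorem q_Φ (hq : Function.Surjective q) (y : (P q hq).CotangentSpace) :
    q (Φ q y) = (P q hq).toKaehler y := by
  induction y using TensorProduct.induction_on with
  | zero => rw [map_zero, map_zero]; exact map_zero q
  | add x y hx hy =>
    rw [map_add, map_add, ← hx, ← hy]
    exact map_add q _ _
  | tmul b ω =>
    obtain ⟨ω, rfl⟩ := KaehlerDifferential.tensorProductTo_surjective _ _ ω
    induction ω using TensorProduct.induction_on with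
    | zero => rw [map_zero, tmul_zero, map_zero, map_zero]; exact map_zero q
    | add x y hx hy =>
      rw [map_add, tmul_add, map_add, map_add, ← hx, ← hy]
      exact map_add q _ _
    | tmul z w =>
      rw [Derivation.tensorProductTo_tmul, tmul_smul, smul_tmul']
      have h1 : Φ q ((z • b) ⊗ₜ[E q] KaehlerDifferential.D A (E q) w) =
          ((z • b) • ((w : E q).1.snd : N) : N) := Φ_tmul_D q (z • b) w
      have h2 : (P q hq).toKaehler ((z • b) ⊗ₜ[E q] KaehlerDifferential.D A (E q) w) =
          (z • b) • KaehlerDifferential.D A B ((w : E q).1.fst) := by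
        rw [Algebra.Extension.toKaehler, KaehlerDifferential.mapBaseChange_tmul,
          KaehlerDifferential.map_D]
        rfl
      rw [h2]
      refine (congrArg q h1).trans ?_
      rw [map_smul, (w : E q).2]

section five

variable {M : Type u} [AddCommGroup M] [Module B M] (i : M →ₗ[B] N)
  (hex : Function.Exact i q) (hq : Function.Surjective q)

theorem Φ_cot (m : M) :
    Φ q ((P q hq).cotangentComplex (toCot q i hex hq m)) = i m := by
  have h1 : (P q hq).cotangentComplex (toCot q i hex hq m) =
      (1 : B) ⊗ₜ[E q] KaehlerDifferential.D A (E q) (kerElt q i hex hq m).1 :=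
    Algebra.Extension.cotangentComplex_mk (P q hq) (kerElt q i hex hq m)
  rw [h1, Φ_tmul_D, one_smul]
  exact snd_inr _ _

include hex hq in
theorem Φ_bijective (hi : Function.Injective i) :
    Function.Bijective (Φ q : (P q hq).CotangentSpace → NN q) := by
  constructor
  · rw [injective_iff_map_eq_zero]
    intro y hy
    have h1 : (P q hq).toKaehler y = 0 := by
      rw [← q_Φ q hq y, hy]
      exact map_zero q
    obtain ⟨c, rfl⟩ := ((P q hq).exact_cotangentComplex_toKaehler y).mp h1
    obtain ⟨m, rfl⟩ := (toCot_bijective q i hex hq hi).2 c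
    rw [Φ_cot] at hy
    have hm : m = 0 := hi (hy.trans (map_zero i).symm)
    rw [hm, map_zero, map_zero]
  · intro n
    obtain ⟨y, hy⟩ := (P q hq).toKaehler_surjective (q n)
    have h1 : q ((show N from n) - (show N from Φ q y)) = 0 := by
      rw [map_sub]
      show q n - q (Φ q y) = 0
      rw [q_Φ q hq y, hy, sub_self]
    obtain ⟨m, hm⟩ := (hex _).mp h1
    refine ⟨y + (P q hq).cotangentComplex (toCot q i hex hq m), ?_⟩
    rw [map_add, Φ_cot, hm]
    exact add_sub_cancel _ _

end five

end

section main

variable {A B : Type u} [CommRing A] [CommRing B] [Algebra A B]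

attribute [local instance] opMod

theorem main (M N : Type u) [AddCommGroup M] [Module B M] [AddCommGroup N] [Module B N]
    (i : M →ₗ[B] N) (q : N →ₗ[B] Ω[B⁄A]) (hi : Function.Injective i) (hq : Function.Surjective q)
    (hex : Function.Exact i q) :
    ∃ P : Algebra.Extension.{u} A B, P.ker ^ 2 = ⊥ ∧
      ∃ (e₁ : P.Cotangent ≃ₗ[B] M) (e₂ : P.CotangentSpace ≃ₗ[B] N),
        (∀ x, e₂ (P.cotangentComplex x) = i (e₁ x)) ∧ (∀ y, q (e₂ y) = P.toKaehler y) := by
  refine ⟨P q hq, ker_sq q hq,
    (LinearEquiv.ofBijective (toCot q i hex hq) (toCot_bijective q i hex hq hi)).symm,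
    LinearEquiv.ofBijective (Φ q) (Φ_bijective q i hex hq hi), ?_, ?_⟩
  · intro x
    obtain ⟨m, rfl⟩ := (toCot_bijective q i hex hq hi).2 x
    have h1 : (LinearEquiv.ofBijective (toCot q i hex hq) (toCot_bijective q i hex hq hi)).symm
        (toCot q i hex hq m) = m :=
      (LinearEquiv.ofBijective (toCot q i hex hq) (toCot_bijective q i hex hq hi)).symm_apply_apply m
    rw [h1]
    exact Φ_cot q i hex hq m
  · intro y
    exact q_Φ q hq y

end main

end Groth.Agent.Helper2.ExtReal
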