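import Mathlib
import Groth.Agent.Helper2.DepthRees
set_option autoImplicit false
universe u
open CategoryTheory Abelian RingTheory.Sequence ModuleCat IsLocalRing

namespace Groth.Agent.Helper2.ExtReg2


variable {A : Type u} [CommRing A]

/-- the connecting map `Ext N (M/aM) n → Ext N M (n+1)` is bijective if `a` kills `N`, is
`M`-regular and `Ext N M n = 0`. -/
lemma connecting_bijective (N M : ModuleCat.{u} A) (a : A) (ha : a ∈ Module.annihilator A N)
    (hreg : IsSMulRegular M a) (n : ℕ) (h0 : Subsingleton (Ext N M n)) :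
    Function.Bijective
      ((hreg.smulShortComplex_shortExact.extClass).postcomp N (rfl : n + 1 = n + 1)) := by
  have hS := hreg.smulShortComplex_shortExact
  constructor
  · rw [injective_iff_map_eq_zero]
    intro x hx
    obtain ⟨x₂, rfl⟩ := Ext.covariant_sequence_exact₃ N hS x rfl hx
    have h0' : Subsingleton (Ext N (M.smulShortComplex a).X₂ n) := h0
    rw [Subsingleton.elim x₂ 0, Ext.zero_comp]
  · intro y
    have h2 : y.comp (Ext.mk₀ (a • 𝟙 M)) (add_zero (n + 1)) = 0 := by
      have := Ext.postcomp_smul_id_eq_zero_of_mem_annihilator (M := M) ha (n + 1)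
      have h2 := congrArg (fun φ => φ.hom y) this
      exact h2
    have hy : y.comp (Ext.mk₀ (M.smulShortComplex a).f) (add_zero (n + 1)) = 0 := h2
    obtain ⟨x₃, hx₃⟩ := Ext.covariant_sequence_exact₁ N hS y hy rfl
    exact ⟨x₃, hx₃⟩

lemma main [IsLocalRing A] : ∀ (xs : List A) (M : Type u) [AddCommGroup M] [Module A M],
    (∀ x ∈ xs, x ∈ maximalIdeal A) → IsWeaklyRegular M xs →
    Nonempty ((ResidueField A →ₗ[A] (M ⧸ (Ideal.ofList xs • (⊤ : Submodule A M)))) ≃+
      Ext (ModuleCat.of A (ResidueField A)) (ModuleCat.of A M) xs.length) := by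
  intro xs
  induction xs with
  | nil =>
    intro M _ _ _ _
    have hbot : (Ideal.ofList ([] : List A) • (⊤ : Submodule A M)) = ⊥ := by
      rw [Ideal.ofList_nil, Submodule.bot_smul]
    let e1 : (M ⧸ (Ideal.ofList ([] : List A) • (⊤ : Submodule A M))) ≃ₗ[A] M :=
      Submodule.quotEquivOfEqBot _ hbot
    let e2 : (ResidueField A →ₗ[A] (M ⧸ (Ideal.ofList ([] : List A) • (⊤ : Submodule A M)))) ≃ₗ[A]
        (ResidueField A →ₗ[A] M) := LinearEquiv.congrRight e1
    exact ⟨e2.toAddEquiv.trans
      (Ext.addEquiv₀.trans (ModuleCat.homAddEquiv (M := ModuleCat.of A (ResidueField A))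
        (N := ModuleCat.of A M))).symm⟩
  | cons a xs ih =>
    intro M _ _ mem reg
    have reg' := reg
    simp only [isWeaklyRegular_cons_iff] at reg'
    have mem' : ∀ x ∈ xs, x ∈ maximalIdeal A := fun x hx => mem x (List.mem_cons_of_mem _ hx)
    obtain ⟨e⟩ := ih (QuotSMulTop a M) mem' reg'.2
    have hann : ∀ b ∈ maximalIdeal A, b ^ 1 ∈ Module.annihilator A
        (ModuleCat.of A (ResidueField A)) := by
      intro b hb
      rw [pow_one, Module.mem_annihilator]
      intro x
      obtain ⟨r, rfl⟩ := residue_surjective x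
      show b • residue A r = 0
      rw [Algebra.smul_def]
      have : algebraMap A (ResidueField A) b = 0 := by
        rw [ResidueField.algebraMap_eq, residue_eq_zero_iff]
        exact hb
      rw [this, zero_mul]
    have h0 : Subsingleton (Ext (ModuleCat.of A (ResidueField A)) (ModuleCat.of A M) xs.length) :=
      Groth.Agent.Helper2.DepthRees.ext_subsingleton_of_weaklyRegular (maximalIdeal A)
        (ModuleCat.of A (ResidueField A)) 1 hann (a :: xs) (ModuleCat.of A M) reg mem
        xs.length (by simp)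
    have ha : a ∈ Module.annihilator A (ModuleCat.of A (ResidueField A)) := by
      have := hann a (mem a List.mem_cons_self)
      rwa [pow_one] at this
    have hreg : IsSMulRegular (ModuleCat.of A M) a := reg'.1
    let δ := AddEquiv.ofBijective _
      (connecting_bijective (ModuleCat.of A (ResidueField A)) (ModuleCat.of A M) a ha hreg
        xs.length h0)
    let e1 : (M ⧸ (Ideal.ofList (a :: xs) • (⊤ : Submodule A M))) ≃ₗ[A]
        (QuotSMulTop a M ⧸ (Ideal.ofList xs • (⊤ : Submodule A (QuotSMulTop a M)))) :=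
      Submodule.quotOfListConsSMulTopEquivQuotSMulTopInner M a xs
    let e2 : (ResidueField A →ₗ[A] (M ⧸ (Ideal.ofList (a :: xs) • (⊤ : Submodule A M)))) ≃ₗ[A]
        (ResidueField A →ₗ[A]
          (QuotSMulTop a M ⧸ (Ideal.ofList xs • (⊤ : Submodule A (QuotSMulTop a M))))) :=
      LinearEquiv.congrRight e1
    exact ⟨(e2.toAddEquiv.trans e).trans δ⟩


end Groth.Agent.Helper2.ExtReg2
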