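import Mathlib
import Groth.Prelude
import Groth.Agent.Helper2.FlatCL4

set_option autoImplicit false
open TensorProduct Function LinearMap
universe u

namespace Groth.Agent.Helper2.FACP1

open Groth.Agent.Helper2.FlatCL4

section KerCond
variable (A' : Type u) {B' : Type u} [CommRing A'] [CommRing B'] [Algebra A' B']
  (M' : Type u) [AddCommGroup M'] [Module B' M'] [Module A' M'] [IsScalarTower A' B' M']
  (𝔞 : Ideal B')

/-- kernel condition: kernels of `M' ⊗ X' → M' ⊗ X` are killed near `V(𝔞)` -/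
def KerCond : Prop :=
  ∀ (X' X : Type u) [AddCommGroup X'] [AddCommGroup X] [Module A' X'] [Module A' X]
    (ι : X' →ₗ[A'] X), Injective ι → ∀ y : M' ⊗[A'] X',
      (AlgebraTensorModule.lTensor (R := A') B' M' ι) y = 0 → ∃ b : B', 1 - b ∈ 𝔞 ∧ b • y = 0

theorem kerCond_iff :
    (∀ (q : Ideal B') [q.IsPrime], 𝔞 ≤ q →
      Module.Flat A' (LocalizedModule q.primeCompl M')) ↔ KerCond A' M' 𝔞 := by
  constructor
  · intro H X' X _ _ _ _ ι hι y hy
    let J : Ideal B' := LinearMap.ker (LinearMap.toSpanSingleton B' (M' ⊗[A'] X') y)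
    by_cases hJ : J ⊔ 𝔞 = ⊤
    · have h1 : (1 : B') ∈ J ⊔ 𝔞 := by rw [hJ]; trivial
      obtain ⟨j, hj, a, ha, hja⟩ := Submodule.mem_sup.1 h1
      refine ⟨j, ?_, ?_⟩
      · have : 1 - j = a := by rw [← hja]; ring
        rw [this]; exact ha
      · have := LinearMap.mem_ker.1 hj
        simpa using this
    · exfalso
      obtain ⟨q, hqmax, hq⟩ := Ideal.exists_le_maximal _ hJ
      haveI := hqmax.isPrime
      have hflat := H q (le_sup_right.trans hq)
      let g' := LocalizedModule.mkLinearMap q.primeCompl M'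
      have h2 := IsLocalizedModule.map_lTensor (R := A') B' q.primeCompl ι g'
      have h1 : Injective (AlgebraTensorModule.lTensor B' (LocalizedModule q.primeCompl M') ι) :=
        Module.Flat.lTensor_preserves_injective_linearMap ι hι
      rw [← h2] at h1
      obtain ⟨s, hs⟩ := exists_smul_eq_zero_of_map_injective q.primeCompl _ _ _ h1 y hy
      have hsJ : s.1 ∈ J := by
        change LinearMap.toSpanSingleton B' (M' ⊗[A'] X') y s.1 = 0
        rw [LinearMap.toSpanSingleton_apply]
        exact hs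
      exact s.2 (hq (Ideal.mem_sup_left hsJ))
  · intro H q _ hq
    rw [Module.Flat.iff_lTensor_preserves_injective_linearMap]
    intro X' X _ _ _ _ ι hι
    let g' := LocalizedModule.mkLinearMap q.primeCompl M'
    have h2 := IsLocalizedModule.map_lTensor (R := A') B' q.primeCompl ι g'
    change Injective (AlgebraTensorModule.lTensor B' (LocalizedModule q.primeCompl M') ι)
    rw [← h2]
    apply map_injective_of_forall_exists_smul
    intro y hy
    obtain ⟨b, hb1, hb2⟩ := H X' X ι hι y hy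
    refine ⟨⟨b, ?_⟩, hb2⟩
    intro hbq
    apply (Ideal.IsPrime.ne_top ‹q.IsPrime›)
    rw [Ideal.eq_top_iff_one]
    have : (1 : B') = (1 - b) + b := by ring
    rw [this]
    exact add_mem (hq hb1) hbq

end KerCond

section E
variable {B' C' : Type u} [CommRing B'] [CommRing C'] [Algebra B' C'] [Module.Flat B' C']
  {P Q : Type u} [AddCommGroup P] [AddCommGroup Q] [Module B' P] [Module B' Q] (u : P →ₗ[B'] Q)
  (𝔞 : Ideal B') (𝔠 : Ideal C')

lemma E1 (H : ∀ k : P, u k = 0 → ∃ b : B', 1 - b ∈ 𝔞 ∧ b • k = 0)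
    (z : C' ⊗[B'] P) (hz : lTensor C' u z = 0) : ∃ b : B', 1 - b ∈ 𝔞 ∧ b • z = 0 := by
  have hex : Function.Exact (lTensor C' (LinearMap.ker u).subtype) (lTensor C' u) :=
    Module.Flat.lTensor_exact C' (LinearMap.exact_subtype_ker_map u)
  obtain ⟨w, rfl⟩ := (hex z).1 hz
  have key : ∀ w : C' ⊗[B'] (LinearMap.ker u), ∃ b : B', 1 - b ∈ 𝔞 ∧ b • w = 0 := by
    intro w
    induction w using TensorProduct.induction_on with
    | zero => exact ⟨1, by simp, by simp⟩
    | tmul c k =>
      obtain ⟨b, hb1, hb2⟩ := H k.1 k.2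
      refine ⟨b, hb1, ?_⟩
      have : b • k = 0 := Subtype.ext (by simpa using hb2)
      rw [TensorProduct.smul_tmul', TensorProduct.smul_tmul, this, TensorProduct.tmul_zero]
    | add w₁ w₂ h₁ h₂ =>
      obtain ⟨b₁, hb₁, hb₁'⟩ := h₁
      obtain ⟨b₂, hb₂, hb₂'⟩ := h₂
      refine ⟨b₁ * b₂, ?_, ?_⟩
      · have : 1 - b₁ * b₂ = (1 - b₁) + b₁ * (1 - b₂) := by ring
        rw [this]
        exact add_mem hb₁ (Ideal.mul_mem_left _ _ hb₂)
      · rw [smul_add, mul_smul b₁ b₂ w₂, hb₂', smul_zero, mul_comm, mul_smul, hb₁', smul_zero,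
          add_zero]
  obtain ⟨b, hb1, hb2⟩ := key w
  exact ⟨b, hb1, by rw [← map_smul, hb2, map_zero]⟩

lemma E2 (hlo : ∀ q : Ideal B', q.IsMaximal → 𝔞 ≤ q → q.map (algebraMap B' C') ⊔ 𝔠 ≠ ⊤)
    (H : ∀ z : C' ⊗[B'] P, lTensor C' u z = 0 → ∃ c : C', 1 - c ∈ 𝔠 ∧ c • z = 0)
    (k : P) (hk : u k = 0) : ∃ b : B', 1 - b ∈ 𝔞 ∧ b • k = 0 := by
  let J : Ideal B' := LinearMap.ker (LinearMap.toSpanSingleton B' P k)
  by_cases hJ : J ⊔ 𝔞 = ⊤
  · have h1 : (1 : B') ∈ J ⊔ 𝔞 := by rw [hJ]; trivial
    obtain ⟨j, hj, a, ha, hja⟩ := Submodule.mem_sup.1 h1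
    refine ⟨j, ?_, ?_⟩
    · have : 1 - j = a := by rw [← hja]; ring
      rw [this]; exact ha
    · have := LinearMap.mem_ker.1 hj
      simpa using this
  · exfalso
    obtain ⟨q, hqmax, hq⟩ := Ideal.exists_le_maximal _ hJ
    apply hlo q hqmax (le_sup_right.trans hq)
    obtain ⟨c, hc1, hc2⟩ := H ((1 : C') ⊗ₜ[B'] k) (by rw [LinearMap.lTensor_tmul, hk, tmul_zero])
    rw [TensorProduct.smul_tmul', smul_eq_mul, mul_one] at hc2
    let v : (B' ⧸ J) →ₗ[B'] P := J.liftQ (LinearMap.toSpanSingleton B' P k) le_rfl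
    have hv : Injective v := by
      rw [← LinearMap.ker_eq_bot]
      exact Submodule.ker_liftQ_eq_bot _ _ _ le_rfl
    have hv' : Injective (lTensor C' v) := Module.Flat.lTensor_preserves_injective_linearMap v hv
    have h3 : c ⊗ₜ[B'] (Submodule.Quotient.mk (1 : B') : B' ⧸ J) = 0 := by
      apply hv'
      rw [LinearMap.lTensor_tmul, map_zero]
      have : v (Submodule.Quotient.mk (1 : B')) = k := by
        change J.liftQ _ _ (Submodule.Quotient.mk 1) = k
        rw [Submodule.liftQ_apply, LinearMap.toSpanSingleton_apply, one_smul]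
      rw [this]; exact hc2
    have h4 := congrArg (TensorProduct.tensorQuotEquivQuotSMul C' J) h3
    rw [map_zero] at h4
    have h5 : c ∈ (J • ⊤ : Submodule B' C') := by
      have : TensorProduct.tensorQuotEquivQuotSMul C' J
          (c ⊗ₜ[B'] (Submodule.Quotient.mk (1 : B') : B' ⧸ J)) = Submodule.Quotient.mk c := by
        simp [TensorProduct.tensorQuotEquivQuotSMul]
      rw [this] at h4
      exact (Submodule.Quotient.mk_eq_zero _).1 h4
    rw [Ideal.smul_top_eq_map] at h5
    have h6 : c ∈ q.map (algebraMap B' C') :=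
      Ideal.map_mono (le_sup_left.trans hq) h5
    rw [Ideal.eq_top_iff_one]
    have : (1 : C') = c + (1 - c) := by ring
    rw [this]
    exact add_mem (Ideal.mem_sup_left h6) (Ideal.mem_sup_right hc1)

end E

section Nat
variable {B' C' : Type u} [CommRing B'] [CommRing C'] [Algebra B' C']
  {P Q PC QC : Type u} [AddCommGroup P] [AddCommGroup Q] [Module B' P] [Module B' Q]
  [AddCommGroup PC] [AddCommGroup QC] [Module B' PC] [Module B' QC] [Module C' PC] [Module C' QC]
  [IsScalarTower B' C' PC] [IsScalarTower B' C' QC]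

lemma equiv_natural (fP : P →ₗ[B'] PC) (hP : IsBaseChange C' fP) (fQ : Q →ₗ[B'] QC)
    (hQ : IsBaseChange C' fQ) (u : P →ₗ[B'] Q) (uC : PC →ₗ[C'] QC)
    (hu : ∀ p, uC (fP p) = fQ (u p)) (w : C' ⊗[B'] P) :
    hQ.equiv (lTensor C' u w) = uC (hP.equiv w) := by
  induction w using TensorProduct.induction_on with
  | zero => simp
  | add a b ha hb => simp only [map_add, ha, hb]
  | tmul c p =>
    rw [LinearMap.lTensor_tmul, IsBaseChange.equiv_tmul, IsBaseChange.equiv_tmul, map_smul, hu]

end Nat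

section Main
variable (A' : Type u) {B' C' : Type u} [CommRing A'] [CommRing B'] [CommRing C']
  [Algebra A' B'] [Algebra B' C'] [Algebra A' C'] [IsScalarTower A' B' C']
  (M' N' : Type u) [AddCommGroup M'] [Module B' M'] [Module A' M'] [IsScalarTower A' B' M']
  [AddCommGroup N'] [Module C' N'] [Module B' N'] [Module A' N'] [IsScalarTower B' C' N']
  [IsScalarTower A' C' N'] [IsScalarTower A' B' N']
  (𝔞 : Ideal B') (𝔠 : Ideal C')

omit [Algebra B' C'] [IsScalarTower A' B' C'] [IsScalarTower B' C' N'] in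
lemma map_lTensor_comm (h : M' →ₗ[B'] N') {X' X : Type u} [AddCommGroup X'] [AddCommGroup X]
    [Module A' X'] [Module A' X] (ι : X' →ₗ[A'] X) (p : M' ⊗[A'] X') :
    (AlgebraTensorModule.lTensor (R := A') C' N' ι)
      (AlgebraTensorModule.map h (LinearMap.id : X' →ₗ[A'] X') p) =
    AlgebraTensorModule.map h (LinearMap.id : X →ₗ[A'] X)
      ((AlgebraTensorModule.lTensor (R := A') B' M' ι) p) := by
  induction p using TensorProduct.induction_on with
  | zero => simp
  | add a b ha hb => simp only [map_add, ha, hb]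
  | tmul m x => simp

theorem kerCond_iff_of_flat [Module.Flat B' C'] (h : M' →ₗ[B'] N') (hh : IsBaseChange C' h)
    (h𝔞 : 𝔞.map (algebraMap B' C') ≤ 𝔠)
    (hlo : ∀ q : Ideal B', q.IsMaximal → 𝔞 ≤ q → q.map (algebraMap B' C') ⊔ 𝔠 ≠ ⊤) :
    KerCond A' M' 𝔞 ↔ KerCond A' N' 𝔠 := by
  constructor
  · intro H X' X _ _ _ _ ι hι y hy
    have hP := isBaseChange_tensorProduct_map (R := A') (P := X') C' hh
    have hQ := isBaseChange_tensorProduct_map (R := A') (P := X) C' hh
    have hnat := equiv_natural _ hP _ hQ (AlgebraTensorModule.lTensor (R := A') B' M' ι)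
      (AlgebraTensorModule.lTensor (R := A') C' N' ι) (map_lTensor_comm A' M' N' h ι)
    obtain ⟨z, rfl⟩ := hP.equiv.surjective y
    have hz : lTensor C' (AlgebraTensorModule.lTensor (R := A') B' M' ι) z = 0 := by
      apply hQ.equiv.injective
      rw [hnat, hy, map_zero]
    obtain ⟨b, hb1, hb2⟩ := E1 (AlgebraTensorModule.lTensor (R := A') B' M' ι) 𝔞
      (fun k hk => H X' X ι hι k hk) z hz
    refine ⟨algebraMap B' C' b, ?_, ?_⟩
    · rw [← map_one (algebraMap B' C'), ← map_sub]
      exact h𝔞 (Ideal.mem_map_of_mem _ hb1)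
    · rw [← map_smul, algebraMap_smul, hb2, map_zero]
  · intro H X' X _ _ _ _ ι hι y hy
    have hP := isBaseChange_tensorProduct_map (R := A') (P := X') C' hh
    have hQ := isBaseChange_tensorProduct_map (R := A') (P := X) C' hh
    have hnat := equiv_natural _ hP _ hQ (AlgebraTensorModule.lTensor (R := A') B' M' ι)
      (AlgebraTensorModule.lTensor (R := A') C' N' ι) (map_lTensor_comm A' M' N' h ι)
    refine E2 (AlgebraTensorModule.lTensor (R := A') B' M' ι) 𝔞 𝔠 hlo ?_ y hy
    intro z hz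
    have h1 : (AlgebraTensorModule.lTensor (R := A') C' N' ι) (hP.equiv z) = 0 := by
      rw [← hnat, hz, map_zero]
    obtain ⟨c, hc1, hc2⟩ := H X' X ι hι (hP.equiv z) h1
    refine ⟨c, hc1, ?_⟩
    apply hP.equiv.injective
    rw [map_smul, hc2, map_zero]

omit [IsScalarTower A' B' C'] in
theorem kerCond_iff_of_integral [Algebra.IsIntegral B' C'] (e : M' ≃ₗ[B'] N')
    (h𝔞 : 𝔞.map (algebraMap B' C') ≤ 𝔠)
    (hpr : ∀ r : Ideal C', r.IsPrime → 𝔞 ≤ r.comap (algebraMap B' C') → 𝔠 ≤ r) :
    KerCond A' M' 𝔞 ↔ KerCond A' N' 𝔠 := by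
  have hnat : ∀ {X' X : Type u} [AddCommGroup X'] [AddCommGroup X] [Module A' X'] [Module A' X]
      (ι : X' →ₗ[A'] X) (p : M' ⊗[A'] X'),
      (AlgebraTensorModule.lTensor (R := A') C' N' ι)
        (AlgebraTensorModule.congr e (LinearEquiv.refl A' X') p) =
      AlgebraTensorModule.congr e (LinearEquiv.refl A' X)
        ((AlgebraTensorModule.lTensor (R := A') B' M' ι) p) := by
    intro X' X _ _ _ _ ι p
    induction p using TensorProduct.induction_on with
    | zero => simp
    | add a b ha hb => simp only [map_add, ha, hb]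
    | tmul m x => simp
  constructor
  · intro H X' X _ _ _ _ ι hι y hy
    obtain ⟨p, rfl⟩ := (AlgebraTensorModule.congr e (LinearEquiv.refl A' X')).surjective y
    have hp : (AlgebraTensorModule.lTensor (R := A') B' M' ι) p = 0 := by
      apply (AlgebraTensorModule.congr e (LinearEquiv.refl A' X)).injective
      rw [← hnat, hy, map_zero]
    obtain ⟨b, hb1, hb2⟩ := H X' X ι hι p hp
    refine ⟨algebraMap B' C' b, ?_, ?_⟩
    · rw [← map_one (algebraMap B' C'), ← map_sub]
      exact h𝔞 (Ideal.mem_map_of_mem _ hb1)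
    · rw [algebraMap_smul, ← map_smul, hb2, map_zero]
  · intro H X' X _ _ _ _ ι hι y hy
    let J : Ideal B' := LinearMap.ker (LinearMap.toSpanSingleton B' (M' ⊗[A'] X') y)
    by_cases hJ : J ⊔ 𝔞 = ⊤
    · have h1 : (1 : B') ∈ J ⊔ 𝔞 := by rw [hJ]; trivial
      obtain ⟨j, hj, a, ha, hja⟩ := Submodule.mem_sup.1 h1
      refine ⟨j, ?_, ?_⟩
      · have : 1 - j = a := by rw [← hja]; ring
        rw [this]; exact ha
      · have := LinearMap.mem_ker.1 hj
        simpa using this
    · exfalso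
      obtain ⟨q, hqmax, hq⟩ := Ideal.exists_le_maximal _ hJ
      haveI := hqmax.isPrime
      set y' := AlgebraTensorModule.congr e (LinearEquiv.refl A' X') y with hy'
      let J' : Ideal C' := LinearMap.ker (LinearMap.toSpanSingleton C' (N' ⊗[A'] X') y')
      have hJ' : J'.comap (algebraMap B' C') ≤ q := by
        intro b hb
        refine hq (Ideal.mem_sup_left ?_)
        have h1 : algebraMap B' C' b • y' = 0 := by
          have := LinearMap.mem_ker.1 (Ideal.mem_comap.1 hb)
          simpa using this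
        rw [algebraMap_smul, hy', ← map_smul] at h1
        have h2 : b • y = 0 :=
          (AlgebraTensorModule.congr e (LinearEquiv.refl A' X')).injective (by rw [h1, map_zero])
        change LinearMap.toSpanSingleton B' (M' ⊗[A'] X') y b = 0
        rw [LinearMap.toSpanSingleton_apply]; exact h2
      obtain ⟨r, hr1, hr2, hr3⟩ := Ideal.exists_ideal_over_prime_of_isIntegral q J' hJ'
      have h𝔠r : 𝔠 ≤ r := hpr r hr2 (by rw [hr3]; exact le_sup_right.trans hq)
      have h1 : (AlgebraTensorModule.lTensor (R := A') C' N' ι) y' = 0 := by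
        rw [hy', hnat, hy, map_zero]
      obtain ⟨c, hc1, hc2⟩ := H X' X ι hι y' h1
      have hcr : c ∈ r := by
        apply hr1
        change LinearMap.toSpanSingleton C' (N' ⊗[A'] X') y' c = 0
        rw [LinearMap.toSpanSingleton_apply]; exact hc2
      apply hr2.ne_top
      rw [Ideal.eq_top_iff_one]
      have : (1 : C') = c + (1 - c) := by ring
      rw [this]
      exact add_mem hcr (h𝔠r hc1)

end Main

end Groth.Agent.Helper2.FACP1
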