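import Mathlib
import Groth.Prelude
import Groth.Agent.Helper2.FACP1

set_option autoImplicit false
open TensorProduct Function LinearMap IsLocalRing
universe u

namespace Groth.Agent.Helper2.FACP2

open Groth.Agent.Helper2.FACP1

section Paste
variable (A B C A' B' C' : Type u) [CommRing A] [CommRing B] [CommRing C]
  [CommRing A'] [CommRing B'] [CommRing C']
  [Algebra A B] [Algebra B C] [Algebra A C] [IsScalarTower A B C]
  [Algebra A A']
  [Algebra B B'] [Algebra A' B'] [Algebra A B'] [IsScalarTower A B B'] [IsScalarTower A A' B']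
  [Algebra.IsPushout A B A' B']
  [Algebra C C'] [Algebra A' C'] [Algebra A C'] [IsScalarTower A C C'] [IsScalarTower A A' C']

/-- the induced map `B' → C'` -/
noncomputable def pasteHom : B' →+* C' :=
  (Algebra.pushoutDesc B' ((IsScalarTower.toAlgHom A C C').comp (IsScalarTower.toAlgHom A B C))
    (IsScalarTower.toAlgHom A A' C') (fun _ _ => mul_comm _ _)).toRingHom

lemma pasteHom_left (b : B) :
    pasteHom A B C A' B' C' (algebraMap B B' b) = algebraMap C C' (algebraMap B C b) := by
  unfold pasteHom
  change Algebra.pushoutDesc B' _ _ _ (algebraMap B B' b) = _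
  rw [Algebra.pushoutDesc_left]
  rfl

lemma pasteHom_right (a : A') :
    pasteHom A B C A' B' C' (algebraMap A' B' a) = algebraMap A' C' a := by
  unfold pasteHom
  change Algebra.pushoutDesc B' _ _ _ (algebraMap A' B' a) = _
  rw [Algebra.pushoutDesc_right]
  rfl

end Paste

section LyingOver
variable {B C B' C' : Type u} [CommRing B] [CommRing C] [CommRing B'] [CommRing C']
  [IsLocalRing B] [IsLocalRing C] [Algebra B C] [IsLocalHom (algebraMap B C)]
  [Algebra B B'] [Algebra B' C'] [Algebra C C'] [Algebra B C'] [IsScalarTower B B' C']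
  [IsScalarTower B C C'] [Algebra.IsPushout B B' C C']

lemma lying_over (q : Ideal B') [hqm : q.IsMaximal]
    (hq : (maximalIdeal B).map (algebraMap B B') ≤ q) :
    q.map (algebraMap B' C') ⊔ (maximalIdeal C).map (algebraMap C C') ≠ ⊤ := by
  letI : Field (B' ⧸ q) := Ideal.Quotient.field q
  let φ : ResidueField B →+* (B' ⧸ q) :=
    Ideal.Quotient.lift (maximalIdeal B) ((Ideal.Quotient.mk q).comp (algebraMap B B')) (by
      intro b hb
      rw [RingHom.comp_apply, Ideal.Quotient.eq_zero_iff_mem]
      exact hq (Ideal.mem_map_of_mem _ hb))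
  letI : Algebra (ResidueField B) (B' ⧸ q) := φ.toAlgebra
  have hφ : ∀ b : B, algebraMap (ResidueField B) (B' ⧸ q) (residue B b) =
      Ideal.Quotient.mk q (algebraMap B B' b) := fun b => rfl
  haveI : Nontrivial ((B' ⧸ q) ⊗[ResidueField B] (ResidueField C)) :=
    (Module.FaithfullyFlat.nontrivial_tensorProduct_iff_left (ResidueField B) (B' ⧸ q)
      (N := ResidueField C)).2 inferInstance
  letI : Algebra B ((B' ⧸ q) ⊗[ResidueField B] (ResidueField C)) :=
    ((algebraMap (ResidueField B) ((B' ⧸ q) ⊗[ResidueField B] (ResidueField C))).comp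
      (residue B)).toAlgebra
  have halg : ∀ b : B, algebraMap B ((B' ⧸ q) ⊗[ResidueField B] (ResidueField C)) b =
      (Ideal.Quotient.mk q (algebraMap B B' b)) ⊗ₜ[ResidueField B] (1 : ResidueField C) := by
    intro b
    change algebraMap (ResidueField B) ((B' ⧸ q) ⊗[ResidueField B] (ResidueField C))
      (residue B b) = _
    rw [Algebra.TensorProduct.algebraMap_apply, hφ]
  let f : B' →ₐ[B] ((B' ⧸ q) ⊗[ResidueField B] (ResidueField C)) :=
    { toRingHom := (Algebra.TensorProduct.includeLeftRingHom :
        (B' ⧸ q) →+* (B' ⧸ q) ⊗[ResidueField B] ResidueField C).comp (Ideal.Quotient.mk q)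
      commutes' := fun b => by
        rw [halg]; rfl }
  let g : C →ₐ[B] ((B' ⧸ q) ⊗[ResidueField B] (ResidueField C)) :=
    { toRingHom := (Algebra.TensorProduct.includeRight :
        ResidueField C →ₐ[ResidueField B] _).toRingHom.comp (residue C)
      commutes' := fun b => by
        rw [halg]
        change (1 : B' ⧸ q) ⊗ₜ[ResidueField B] (residue C (algebraMap B C b)) = _
        have e1 : residue C (algebraMap B C b) = (residue B b) • (1 : ResidueField C) := by
          rw [← Algebra.algebraMap_eq_smul_one]; rfl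
        have e2 : Ideal.Quotient.mk q (algebraMap B B' b) = (residue B b) • (1 : B' ⧸ q) := by
          rw [← Algebra.algebraMap_eq_smul_one]; rfl
        rw [e1, e2, TensorProduct.tmul_smul, TensorProduct.smul_tmul'] }
  let Φ := Algebra.pushoutDesc C' f g (fun _ _ => mul_comm _ _)
  have hΦ1 : ∀ x : B', Φ (algebraMap B' C' x) = f x := fun x => Algebra.pushoutDesc_left C' f g _ x
  have hΦ2 : ∀ x : C, Φ (algebraMap C C' x) = g x := fun x => Algebra.pushoutDesc_right C' f g _ x
  intro htop
  have h1 : q.map (algebraMap B' C') ⊔ (maximalIdeal C).map (algebraMap C C') ≤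
      RingHom.ker Φ.toRingHom := by
    refine sup_le ?_ ?_
    · rw [Ideal.map_le_iff_le_comap]
      intro x hx
      rw [Ideal.mem_comap, RingHom.mem_ker]
      change Φ (algebraMap B' C' x) = 0
      rw [hΦ1]
      change (Ideal.Quotient.mk q x) ⊗ₜ[ResidueField B] (1 : ResidueField C) = 0
      rw [Ideal.Quotient.eq_zero_iff_mem.2 hx, TensorProduct.zero_tmul]
    · rw [Ideal.map_le_iff_le_comap]
      intro x hx
      rw [Ideal.mem_comap, RingHom.mem_ker]
      change Φ (algebraMap C C' x) = 0
      rw [hΦ2]
      change (1 : B' ⧸ q) ⊗ₜ[ResidueField B] (residue C x) = 0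
      rw [(residue_eq_zero_iff x).2 hx, TensorProduct.tmul_zero]
  have h2 : (1 : C') ∈ RingHom.ker Φ.toRingHom := h1 (htop ▸ Submodule.mem_top)
  rw [RingHom.mem_ker] at h2
  have h3 : Φ 1 = 0 := h2
  rw [map_one] at h3
  exact one_ne_zero h3

end LyingOver

section Final
variable {A B C : Type u} [CommRing A] [IsLocalRing A] [CommRing B] [IsLocalRing B] [CommRing C]
  [IsLocalRing C] [Algebra A B] [IsLocalHom (algebraMap A B)] [Algebra B C]
  [IsLocalHom (algebraMap B C)] [Algebra A C] [IsScalarTower A B C]

omit [IsLocalRing A] [IsLocalHom (algebraMap A B)] in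
theorem s1277 [Module.Flat B C]
    (M : Type u) [AddCommGroup M] [Module B M] (N : Type u) [AddCommGroup N] [Module C N]
    [Module B N] [IsScalarTower B C N]
    (g : M →ₗ[B] N) (hg : IsBaseChange C g)
    (A' : Type u) [CommRing A'] [IsLocalRing A'] [Algebra A A'] [IsLocalHom (algebraMap A A')]
    (B' M' : Type u) [CommRing B'] [Algebra B B'] [Algebra A' B'] [Algebra A B']
    [IsScalarTower A B B'] [IsScalarTower A A' B'] [Algebra.IsPushout A B A' B']
    [AddCommGroup M'] [Module B' M'] [Module B M'] [IsScalarTower B B' M'] [Module A' M']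
    [IsScalarTower A' B' M'] (fB : M →ₗ[B] M') (hfB : IsBaseChange B' fB)
    (C' N' : Type u) [CommRing C'] [Algebra C C'] [Algebra A' C'] [Algebra A C']
    [IsScalarTower A C C'] [IsScalarTower A A' C'] [Algebra.IsPushout A C A' C']
    [AddCommGroup N'] [Module C' N'] [Module C N'] [IsScalarTower C C' N'] [Module A' N']
    [IsScalarTower A' C' N'] (fC : N →ₗ[C] N') (hfC : IsBaseChange C' fC) :
    FlatCA.FlatAboveClosedPoints B A' B' M' ↔ FlatCA.FlatAboveClosedPoints C A' C' N' := by
  letI algB'C' : Algebra B' C' := (pasteHom A B C A' B' C').toAlgebra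
  letI algBC' : Algebra B C' := ((algebraMap C C').comp (algebraMap B C)).toAlgebra
  haveI t1 : IsScalarTower B C C' := IsScalarTower.of_algebraMap_eq (fun _ => rfl)
  haveI t2 : IsScalarTower B B' C' := IsScalarTower.of_algebraMap_eq
    (fun b => (pasteHom_left A B C A' B' C' b).symm)
  haveI t3 : IsScalarTower A' B' C' := IsScalarTower.of_algebraMap_eq
    (fun a => (pasteHom_right A B C A' B' C' a).symm)
  haveI t4 : IsScalarTower A B' C' := IsScalarTower.of_algebraMap_eq (fun a => by
    rw [IsScalarTower.algebraMap_apply A A' C', IsScalarTower.algebraMap_apply A A' B',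
      ← IsScalarTower.algebraMap_apply A' B' C'])
  have hpo : Algebra.IsPushout B C B' C' := (Algebra.IsPushout.comp_iff A B A' B').1 inferInstance
  haveI hpo' : Algebra.IsPushout B B' C C' := hpo.symm
  haveI : Module.Flat B' C' := Module.Flat.isBaseChange B B' C C' hpo'.out
  -- module structures on N'
  letI mB'N' : Module B' N' := Module.compHom N' (algebraMap B' C')
  haveI : IsScalarTower B' C' N' := IsScalarTower.of_algebraMap_smul (fun _ _ => rfl)
  haveI : IsScalarTower A' B' N' := IsScalarTower.of_algebraMap_smul (fun a n => by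
    change algebraMap B' C' (algebraMap A' B' a) • n = a • n
    rw [← IsScalarTower.algebraMap_apply A' B' C', algebraMap_smul])
  letI mBN' : Module B N' := Module.compHom N' (algebraMap B C')
  haveI : IsScalarTower B C' N' := IsScalarTower.of_algebraMap_smul (fun _ _ => rfl)
  haveI : IsScalarTower B B' N' := IsScalarTower.of_algebraMap_smul (fun b n => by
    change algebraMap B' C' (algebraMap B B' b) • n = algebraMap B C' b • n
    rw [← IsScalarTower.algebraMap_apply B B' C'])
  haveI : IsScalarTower B C N' := IsScalarTower.of_algebraMap_smul (fun b n => by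
    change algebraMap B C b • n = algebraMap B C' b • n
    rw [IsScalarTower.algebraMap_apply B C C', algebraMap_smul C' (algebraMap B C b) n])
  -- the base change M' → N'
  have hcomp : IsBaseChange C' ((fC.restrictScalars B).comp g) := IsBaseChange.comp hg hfC
  let h : M' →ₗ[B'] N' := hfB.lift ((fC.restrictScalars B).comp g)
  have hh : IsBaseChange C' h := by
    apply IsBaseChange.of_comp hfB
    have : (h.restrictScalars B).comp fB = (fC.restrictScalars B).comp g := hfB.lift_comp _
    rw [this]
    exact hcomp
  have hB : FlatCA.FlatAboveClosedPoints B A' B' M' ↔ KerCond A' M'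
      ((maximalIdeal A').map (algebraMap A' B') ⊔ (maximalIdeal B).map (algebraMap B B')) :=
    kerCond_iff A' M' _
  have hC : FlatCA.FlatAboveClosedPoints C A' C' N' ↔ KerCond A' N'
      ((maximalIdeal A').map (algebraMap A' C') ⊔ (maximalIdeal C).map (algebraMap C C')) :=
    kerCond_iff A' N' _
  rw [hB, hC]
  have hmBC : (maximalIdeal B).map (algebraMap B C) ≤ maximalIdeal C :=
    ((IsLocalRing.local_hom_TFAE (algebraMap B C)).out 0 2).1 ‹IsLocalHom _›
  have e1 : ((maximalIdeal A').map (algebraMap A' B')).map (algebraMap B' C') =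
      (maximalIdeal A').map (algebraMap A' C') := by
    rw [Ideal.map_map, ← IsScalarTower.algebraMap_eq A' B' C']
  have e2 : ((maximalIdeal B).map (algebraMap B B')).map (algebraMap B' C') ≤
      (maximalIdeal C).map (algebraMap C C') := by
    rw [Ideal.map_map, ← IsScalarTower.algebraMap_eq B B' C', IsScalarTower.algebraMap_eq B C C',
      ← Ideal.map_map]
    exact Ideal.map_mono hmBC
  refine kerCond_iff_of_flat A' M' N' _ _ h hh ?_ ?_
  · rw [Ideal.map_sup, e1]
    exact sup_le_sup le_rfl e2
  · intro q hqm hq
    haveI := hqm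
    have h1 := lying_over (B := B) (C := C) (B' := B') (C' := C') q (le_sup_right.trans hq)
    intro htop
    apply h1
    rw [← top_le_iff, ← htop]
    refine sup_le le_sup_left (sup_le ?_ le_sup_right)
    rw [← e1]
    exact le_sup_of_le_left (Ideal.map_mono (le_sup_left.trans hq))

omit [IsLocalRing A] [IsLocalHom (algebraMap A B)] in
theorem s1278 [Module.Finite B C]
    (N : Type u) [AddCommGroup N] [Module C N] [Module B N] [IsScalarTower B C N]
    (A' : Type u) [CommRing A'] [IsLocalRing A'] [Algebra A A'] [IsLocalHom (algebraMap A A')]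
    (B' M' : Type u) [CommRing B'] [Algebra B B'] [Algebra A' B'] [Algebra A B']
    [IsScalarTower A B B'] [IsScalarTower A A' B'] [Algebra.IsPushout A B A' B']
    [AddCommGroup M'] [Module B' M'] [Module B M'] [IsScalarTower B B' M'] [Module A' M']
    [IsScalarTower A' B' M'] (fB : N →ₗ[B] M') (hfB : IsBaseChange B' fB)
    (C' N' : Type u) [CommRing C'] [Algebra C C'] [Algebra A' C'] [Algebra A C']
    [IsScalarTower A C C'] [IsScalarTower A A' C'] [Algebra.IsPushout A C A' C']
    [AddCommGroup N'] [Module C' N'] [Module C N'] [IsScalarTower C C' N'] [Module A' N']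
    [IsScalarTower A' C' N'] (fC : N →ₗ[C] N') (hfC : IsBaseChange C' fC) :
    FlatCA.FlatAboveClosedPoints B A' B' M' ↔ FlatCA.FlatAboveClosedPoints C A' C' N' := by
  letI algB'C' : Algebra B' C' := (pasteHom A B C A' B' C').toAlgebra
  letI algBC' : Algebra B C' := ((algebraMap C C').comp (algebraMap B C)).toAlgebra
  haveI t1 : IsScalarTower B C C' := IsScalarTower.of_algebraMap_eq (fun _ => rfl)
  haveI t2 : IsScalarTower B B' C' := IsScalarTower.of_algebraMap_eq
    (fun b => (pasteHom_left A B C A' B' C' b).symm)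
  haveI t3 : IsScalarTower A' B' C' := IsScalarTower.of_algebraMap_eq
    (fun a => (pasteHom_right A B C A' B' C' a).symm)
  haveI t4 : IsScalarTower A B' C' := IsScalarTower.of_algebraMap_eq (fun a => by
    rw [IsScalarTower.algebraMap_apply A A' C', IsScalarTower.algebraMap_apply A A' B',
      ← IsScalarTower.algebraMap_apply A' B' C'])
  have hpo : Algebra.IsPushout B C B' C' := (Algebra.IsPushout.comp_iff A B A' B').1 inferInstance
  haveI hpo' : Algebra.IsPushout B B' C C' := hpo.symm
  haveI : Module.Finite B' C' := Module.Finite.equiv hpo'.out.equiv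
  haveI : Algebra.IsIntegral B' C' := inferInstance
  -- module structures on N'
  letI mB'N' : Module B' N' := Module.compHom N' (algebraMap B' C')
  haveI : IsScalarTower B' C' N' := IsScalarTower.of_algebraMap_smul (fun _ _ => rfl)
  haveI : IsScalarTower A' B' N' := IsScalarTower.of_algebraMap_smul (fun a n => by
    change algebraMap B' C' (algebraMap A' B' a) • n = a • n
    rw [← IsScalarTower.algebraMap_apply A' B' C', algebraMap_smul])
  -- the iso M' ≃ N'
  let e : M' ≃ₗ[B'] N' :=
    hfB.equiv.symm ≪≫ₗ (Algebra.IsPushout.cancelBaseChange B B' C C' N).symm ≪≫ₗ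
      (hfC.equiv.restrictScalars B')
  have hB : FlatCA.FlatAboveClosedPoints B A' B' M' ↔ KerCond A' M'
      ((maximalIdeal A').map (algebraMap A' B') ⊔ (maximalIdeal B).map (algebraMap B B')) :=
    kerCond_iff A' M' _
  have hC : FlatCA.FlatAboveClosedPoints C A' C' N' ↔ KerCond A' N'
      ((maximalIdeal A').map (algebraMap A' C') ⊔ (maximalIdeal C).map (algebraMap C C')) :=
    kerCond_iff A' N' _
  rw [hB, hC]
  have hmBC : (maximalIdeal B).map (algebraMap B C) ≤ maximalIdeal C :=
    ((IsLocalRing.local_hom_TFAE (algebraMap B C)).out 0 2).1 ‹IsLocalHom _›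
  have e1 : ((maximalIdeal A').map (algebraMap A' B')).map (algebraMap B' C') =
      (maximalIdeal A').map (algebraMap A' C') := by
    rw [Ideal.map_map, ← IsScalarTower.algebraMap_eq A' B' C']
  have e2 : ((maximalIdeal B).map (algebraMap B B')).map (algebraMap B' C') ≤
      (maximalIdeal C).map (algebraMap C C') := by
    rw [Ideal.map_map, ← IsScalarTower.algebraMap_eq B B' C', IsScalarTower.algebraMap_eq B C C',
      ← Ideal.map_map]
    exact Ideal.map_mono hmBC
  refine kerCond_iff_of_integral A' M' N' _ _ e ?_ ?_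
  · rw [Ideal.map_sup, e1]
    exact sup_le_sup le_rfl e2
  · intro r hr h𝔞
    haveI := hr
    refine sup_le ?_ ?_
    · rw [← e1, Ideal.map_le_iff_le_comap]
      exact le_sup_left.trans h𝔞
    · rw [Ideal.map_le_iff_le_comap]
      set p := r.comap (algebraMap C C') with hp
      haveI : p.IsPrime := Ideal.comap_isPrime _ r
      have h1 : maximalIdeal B ≤ p.comap (algebraMap B C) := by
        rw [hp, Ideal.comap_comap, ← IsScalarTower.algebraMap_eq B C C',
          IsScalarTower.algebraMap_eq B B' C', ← Ideal.comap_comap, ← Ideal.map_le_iff_le_comap]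
        exact le_sup_right.trans h𝔞
      have h2 : p.comap (algebraMap B C) = maximalIdeal B :=
        ((maximalIdeal.isMaximal B).eq_of_le (Ideal.comap_ne_top _ (Ideal.IsPrime.ne_top ‹_›))
          h1).symm
      have h3 : p.IsMaximal :=
        Ideal.isMaximal_of_isIntegral_of_isMaximal_comap (R := B) p
          (h2 ▸ maximalIdeal.isMaximal B)
      rw [IsLocalRing.eq_maximalIdeal h3]

end Final

end Groth.Agent.Helper2.FACP2
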