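import Mathlib
import Groth.Prelude.Def_FibCat2
import Groth.Agent.Helper3.EquivOver

set_option autoImplicit false
open CategoryTheory
universe u v u₂ v₂
open FibCat

namespace Groth.Agent.Helper2.FC1
open CategoryTheory Functor Groth.Agent.Helper3.EquivOver
universe v₃ u₃
variable {C : Type u} [Category.{v} C]
variable {𝒳 : BasedCategory.{v₂, u₂} C} {𝒴 : BasedCategory.{v₃, u₃} C}

theorem lift_transport' {y : 𝒴.obj} {S : C} (hS : 𝒴.p.obj y = S) {x : 𝒴.obj} (e : x ⟶ y)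
    [h : 𝒴.p.IsHomLift (𝟙 (𝒴.p.obj y)) e] : 𝒴.p.IsHomLift (𝟙 S) e := by
  subst hS; exact h

/-- Equivalences over `C` preserve cartesian morphisms. -/
theorem map_isCartesian {F : 𝒳 ⥤ᵇ 𝒴} (hF : FibCat.IsEquivOver F)
    {R S : C} (f : R ⟶ S) {a b : 𝒳.obj} (φ : a ⟶ b) [𝒳.p.IsCartesian f φ] :
    𝒴.p.IsCartesian f (F.map φ) := by
  have hE := isEquivalence hF
  haveI := hE.full
  haveI := hE.faithful
  refine { toIsHomLift := inferInstance, universal_property := ?_ }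
  intro y' ψ hψ
  obtain ⟨x', e, he⟩ := exists_iso hF y'
  have hR' : 𝒴.p.obj y' = R := IsHomLift.domain_eq 𝒴.p f ψ
  haveI he' := lift_transport' hR' e.hom
  obtain ⟨ψ₀, hψ₀⟩ := F.toFunctor.map_surjective (e.hom ≫ ψ)
  have hψ₀' : F.map ψ₀ = e.hom ≫ ψ := hψ₀
  haveI : 𝒴.p.IsHomLift f (F.map ψ₀) := by
    rw [hψ₀']
    have : 𝒴.p.IsHomLift (𝟙 R ≫ f) (e.hom ≫ ψ) := inferInstance
    simpa using this
  haveI : 𝒳.p.IsHomLift f ψ₀ := F.isHomLift_map _ _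
  obtain ⟨χ₀, ⟨hχ₀l, hχ₀⟩, huniq⟩ :=
    IsCartesian.universal_property (p := 𝒳.p) (f := f) (φ := φ) ψ₀
  haveI := hχ₀l
  haveI : 𝒴.p.IsHomLift (𝟙 R) (e.inv ≫ F.map χ₀) := by
    have : 𝒴.p.IsHomLift (𝟙 R ≫ 𝟙 R) (e.inv ≫ F.map χ₀) := inferInstance
    simpa using this
  refine ⟨e.inv ≫ F.map χ₀, ⟨inferInstance, ?_⟩, ?_⟩
  · rw [Category.assoc, ← F.map_comp, hχ₀, hψ₀', Iso.inv_hom_id_assoc]
  · rintro χ' ⟨hχ'l, hχ'⟩
    obtain ⟨χ₁, hχ₁⟩ := F.toFunctor.map_surjective (e.hom ≫ χ')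
    have hχ₁' : F.map χ₁ = e.hom ≫ χ' := hχ₁
    haveI : 𝒴.p.IsHomLift (𝟙 R) (F.map χ₁) := by
      rw [hχ₁']
      have : 𝒴.p.IsHomLift (𝟙 R ≫ 𝟙 R) (e.hom ≫ χ') := inferInstance
      simpa using this
    haveI : 𝒳.p.IsHomLift (𝟙 R) χ₁ := F.isHomLift_map _ _
    have h1 : χ₁ = χ₀ := by
      apply huniq χ₁ ⟨inferInstance, ?_⟩
      apply F.toFunctor.map_injective
      change F.map (χ₁ ≫ φ) = F.map ψ₀
      rw [F.map_comp, hχ₁', Category.assoc, hχ', hψ₀']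
    rw [← h1, hχ₁', Iso.inv_hom_id_assoc]

/-- Equivalences over `C` reflect cartesian morphisms. -/
theorem isCartesian_of_map {F : 𝒳 ⥤ᵇ 𝒴} (hF : FibCat.IsEquivOver F)
    {R S : C} (f : R ⟶ S) {a b : 𝒳.obj} (φ : a ⟶ b) [𝒴.p.IsCartesian f (F.map φ)] :
    𝒳.p.IsCartesian f φ := by
  have hE := isEquivalence hF
  haveI := hE.full
  haveI := hE.faithful
  haveI : 𝒳.p.IsHomLift f φ := F.isHomLift_map _ _
  refine { toIsHomLift := inferInstance, universal_property := ?_ }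
  intro a' ψ hψ
  obtain ⟨χ, ⟨hχl, hχ⟩, huniq⟩ :=
    IsCartesian.universal_property (p := 𝒴.p) (f := f) (φ := F.map φ) (F.map ψ)
  obtain ⟨χ₀, hχ₀⟩ := F.toFunctor.map_surjective χ
  have hχ₀' : F.map χ₀ = χ := hχ₀
  haveI : 𝒴.p.IsHomLift (𝟙 R) (F.map χ₀) := by rw [hχ₀']; exact hχl
  haveI : 𝒳.p.IsHomLift (𝟙 R) χ₀ := F.isHomLift_map _ _
  refine ⟨χ₀, ⟨inferInstance, ?_⟩, ?_⟩
  · apply F.toFunctor.map_injective
    change F.map (χ₀ ≫ φ) = F.map ψ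
    rw [F.map_comp, hχ₀', hχ]
  · rintro χ' ⟨hχ'l, hχ'⟩
    apply F.toFunctor.map_injective
    change F.map χ' = F.map χ₀
    rw [hχ₀']
    apply huniq (F.map χ') ⟨inferInstance, ?_⟩
    rw [← F.map_comp, hχ']

end Groth.Agent.Helper2.FC1
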