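import Mathlib
import Groth.Prelude.Def_FibCat2
import Groth.Agent.Helper3.Fp

set_option autoImplicit false
open CategoryTheory
universe u v u₂ v₂
open FibCat

namespace Groth.Agent.Helper2.FC2
open CategoryTheory Functor FibCat Limits Groth.Agent.Helper3.Fp
universe v₃ u₃
variable {C : Type u} [Category.{v} C]

/-- two lifts of the same morphism along the identity functor agree -/
theorem self_ext {A B R S : C} (g : R ⟶ S) (α β : A ⟶ B)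
    [hα : (𝟭 C).IsHomLift g α] [hβ : (𝟭 C).IsHomLift g β] : α = β := by
  have h1 := IsHomLift.fac' (𝟭 C) g α
  have h2 := IsHomLift.fac' (𝟭 C) g β
  simp only [Functor.id_map] at h1 h2
  rw [h1, h2]

/-- change of base of a cartesian morphism along another lift -/
theorem isCartesian_of_isHomLift {𝒵 : Type*} [Category 𝒵] (p : 𝒵 ⥤ C) {R S R' S' : C}
    (f : R ⟶ S) (f' : R' ⟶ S') {a b : 𝒵} (φ : a ⟶ b)
    (h : p.IsCartesian f φ) (h' : p.IsHomLift f' φ) : p.IsCartesian f' φ := by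
  have h1 := h.toIsHomLift
  cases h'
  revert h
  cases h1
  intro h
  exact h

variable {𝒳 : BasedCategory.{v₂, u₂} C} {𝒴 : BasedCategory.{v₃, u₃} C}

local notation "P" => (FibCat.fp (FibCat.toSelf 𝒳) (FibCat.toSelf 𝒴))

theorem fp_isCartesian_of {R S : C} (f : R ⟶ S) {x y : (FibCat.fp (FibCat.toSelf 𝒳) (FibCat.toSelf 𝒴)).obj} (φ : x ⟶ y)
    (h₁ : 𝒳.p.IsCartesian f φ.hom.fst) (h₂ : 𝒴.p.IsCartesian f φ.hom.snd) :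
    (FibCat.fp (FibCat.toSelf 𝒳) (FibCat.toSelf 𝒴)).p.IsCartesian f φ := by
  refine { toIsHomLift := isHomLift_of_fst _ _ f φ h₁.toIsHomLift, universal_property := ?_ }
  intro z ψ hψ
  have hψ₁ : 𝒳.p.IsHomLift f ψ.hom.fst := fst_isHomLift _ _ _ ψ hψ
  have hψ₂ : 𝒴.p.IsHomLift f ψ.hom.snd := snd_isHomLift _ _ _ ψ hψ
  obtain ⟨χ₁, ⟨hχ₁l, hχ₁⟩, huniq₁⟩ :=
    IsCartesian.universal_property (p := 𝒳.p) (f := f) (φ := φ.hom.fst) ψ.hom.fst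
  obtain ⟨χ₂, ⟨hχ₂l, hχ₂⟩, huniq₂⟩ :=
    IsCartesian.universal_property (p := 𝒴.p) (f := f) (φ := φ.hom.snd) ψ.hom.snd
  have hR : 𝒳.p.obj x.obj.fst = R := IsHomLift.domain_eq 𝒳.p f φ.hom.fst
  have hRz : 𝒳.p.obj z.obj.fst = R := IsHomLift.domain_eq 𝒳.p f ψ.hom.fst
  have hx' : (𝟭 C).IsHomLift (𝟙 R) x.obj.iso.hom := by
    subst hR; exact x.property
  have hz' : (𝟭 C).IsHomLift (𝟙 R) z.obj.iso.hom := by
    subst hRz; exact z.property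
  have hw : (FibCat.toSelf 𝒳).map χ₁ ≫ x.obj.iso.hom = z.obj.iso.hom ≫ (FibCat.toSelf 𝒴).map χ₂ := by
    haveI l1 : (selfOver C).p.IsHomLift (𝟙 R) ((FibCat.toSelf 𝒳).map χ₁) := inferInstance
    haveI l2 : (selfOver C).p.IsHomLift (𝟙 R) ((FibCat.toSelf 𝒴).map χ₂) := inferInstance
    have i1 : (𝟭 C).IsHomLift (𝟙 R) ((FibCat.toSelf 𝒳).map χ₁ ≫ x.obj.iso.hom) :=
      @IsHomLift.comp_of_lift_id _ _ _ _ (𝟭 C) R _ _ _ _ _ l1 hx'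
    have i2 : (𝟭 C).IsHomLift (𝟙 R) (z.obj.iso.hom ≫ (FibCat.toSelf 𝒴).map χ₂) :=
      @IsHomLift.comp_of_lift_id _ _ _ _ (𝟭 C) R _ _ _ _ _ hz' l2
    exact @self_ext _ _ _ _ _ _ (𝟙 R) _ _ i1 i2
  refine ⟨ObjectProperty.homMk ⟨χ₁, χ₂, hw⟩, ⟨isHomLift_of_fst _ _ (𝟙 R) _ hχ₁l, ?_⟩, ?_⟩
  · apply ObjectProperty.hom_ext
    apply CategoricalPullback.hom_ext
    · exact hχ₁
    · exact hχ₂
  · rintro χ' ⟨hχ'l, hχ'⟩
    apply ObjectProperty.hom_ext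
    apply CategoricalPullback.hom_ext
    · apply huniq₁ χ'.hom.fst ⟨fst_isHomLift _ _ (𝟙 R) χ' hχ'l, ?_⟩
      exact congrArg (fun t => t.hom.fst) hχ'
    · apply huniq₂ χ'.hom.snd ⟨snd_isHomLift _ _ (𝟙 R) χ' hχ'l, ?_⟩
      exact congrArg (fun t => t.hom.snd) hχ'


/-- build an object of the fibre product from two objects over the same base object -/
def mkObj (a : 𝒳.obj) (b : 𝒴.obj) (h : 𝒳.p.obj a = 𝒴.p.obj b) :
    (FibCat.fp (FibCat.toSelf 𝒳) (FibCat.toSelf 𝒴)).obj :=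
  ⟨⟨a, b, eqToIso h⟩, IsHomLift.eqToHom_domain_lift_id (p := 𝟭 C) h rfl⟩

/-- build a morphism of the fibre product from two morphisms over the same base morphism -/
def mkHom {x y : (FibCat.fp (FibCat.toSelf 𝒳) (FibCat.toSelf 𝒴)).obj} {R S : C} (f : R ⟶ S)
    (α : x.obj.fst ⟶ y.obj.fst) (β : x.obj.snd ⟶ y.obj.snd)
    (hα : 𝒳.p.IsHomLift f α) (hβ : 𝒴.p.IsHomLift f β) : x ⟶ y :=
  ObjectProperty.homMk ⟨α, β, by
    have hR : 𝒳.p.obj x.obj.fst = R := IsHomLift.domain_eq 𝒳.p f α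
    have hS : 𝒳.p.obj y.obj.fst = S := IsHomLift.codomain_eq 𝒳.p f α
    have hx' : (𝟭 C).IsHomLift (𝟙 R) x.obj.iso.hom := by
      subst hR; exact x.property
    have hy' : (𝟭 C).IsHomLift (𝟙 S) y.obj.iso.hom := by
      subst hS; exact y.property
    haveI l1 : (selfOver C).p.IsHomLift f ((FibCat.toSelf 𝒳).map α) := inferInstance
    haveI l2 : (selfOver C).p.IsHomLift f ((FibCat.toSelf 𝒴).map β) := inferInstance
    have i1 : (𝟭 C).IsHomLift f ((FibCat.toSelf 𝒳).map α ≫ y.obj.iso.hom) :=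
      @IsHomLift.comp_lift_id_right _ _ _ _ (𝟭 C) _ _ _ _ _ f _ l1 _ hy'
    have i2 : (𝟭 C).IsHomLift f (x.obj.iso.hom ≫ (FibCat.toSelf 𝒴).map β) :=
      @IsHomLift.comp_lift_id_left _ _ _ _ (𝟭 C) _ _ _ _ _ f _ l2 _ hx'
    exact @self_ext _ _ _ _ _ _ f _ _ i1 i2⟩

@[simp] theorem mkHom_fst {x y : (FibCat.fp (FibCat.toSelf 𝒳) (FibCat.toSelf 𝒴)).obj} {R S : C} (f : R ⟶ S)
    (α : x.obj.fst ⟶ y.obj.fst) (β : x.obj.snd ⟶ y.obj.snd)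
    (hα : 𝒳.p.IsHomLift f α) (hβ : 𝒴.p.IsHomLift f β) : (mkHom f α β hα hβ).hom.fst = α := rfl

@[simp] theorem mkHom_snd {x y : (FibCat.fp (FibCat.toSelf 𝒳) (FibCat.toSelf 𝒴)).obj} {R S : C} (f : R ⟶ S)
    (α : x.obj.fst ⟶ y.obj.fst) (β : x.obj.snd ⟶ y.obj.snd)
    (hα : 𝒳.p.IsHomLift f α) (hβ : 𝒴.p.IsHomLift f β) : (mkHom f α β hα hβ).hom.snd = β := rfl

theorem mkHom_isHomLift {x y : (FibCat.fp (FibCat.toSelf 𝒳) (FibCat.toSelf 𝒴)).obj} {R S : C} (f : R ⟶ S)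
    (α : x.obj.fst ⟶ y.obj.fst) (β : x.obj.snd ⟶ y.obj.snd)
    (hα : 𝒳.p.IsHomLift f α) (hβ : 𝒴.p.IsHomLift f β) :
    (FibCat.fp (FibCat.toSelf 𝒳) (FibCat.toSelf 𝒴)).p.IsHomLift f (mkHom f α β hα hβ) :=
  isHomLift_of_fst _ _ f _ hα

theorem fp_hom_ext {x y : (FibCat.fp (FibCat.toSelf 𝒳) (FibCat.toSelf 𝒴)).obj} (φ ψ : x ⟶ y)
    (h1 : φ.hom.fst = ψ.hom.fst) (h2 : φ.hom.snd = ψ.hom.snd) : φ = ψ := by
  apply ObjectProperty.hom_ext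
  apply CategoricalPullback.hom_ext
  · exact h1
  · exact h2

theorem fp_fst_isCartesian {R S : C} (f : R ⟶ S)
    {x y : (FibCat.fp (FibCat.toSelf 𝒳) (FibCat.toSelf 𝒴)).obj} (φ : x ⟶ y)
    (h : (FibCat.fp (FibCat.toSelf 𝒳) (FibCat.toSelf 𝒴)).p.IsCartesian f φ) :
    𝒳.p.IsCartesian f φ.hom.fst := by
  have hφl := h.toIsHomLift
  have hφ₁ : 𝒳.p.IsHomLift f φ.hom.fst := fst_isHomLift _ _ _ φ hφl
  have hφ₂ : 𝒴.p.IsHomLift f φ.hom.snd := snd_isHomLift _ _ _ φ hφl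
  refine { toIsHomLift := hφ₁, universal_property := ?_ }
  intro a' α' hα'
  have hR : 𝒳.p.obj a' = R := IsHomLift.domain_eq 𝒳.p f α'
  have hR2 : 𝒴.p.obj x.obj.snd = R := IsHomLift.domain_eq 𝒴.p f φ.hom.snd
  let z := mkObj (𝒳 := 𝒳) (𝒴 := 𝒴) a' x.obj.snd (hR.trans hR2.symm)
  let ψ : z ⟶ y := mkHom f α' φ.hom.snd hα' hφ₂
  have hψ : (FibCat.fp (FibCat.toSelf 𝒳) (FibCat.toSelf 𝒴)).p.IsHomLift f ψ :=
    mkHom_isHomLift _ _ _ _ _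
  obtain ⟨χ, ⟨hχl, hχ⟩, huniq⟩ :=
    IsCartesian.universal_property (p := (FibCat.fp (FibCat.toSelf 𝒳) (FibCat.toSelf 𝒴)).p)
      (f := f) (φ := φ) ψ
  refine ⟨χ.hom.fst, ⟨fst_isHomLift _ _ _ χ hχl, ?_⟩, ?_⟩
  · exact congrArg (fun t => t.hom.fst) hχ
  · rintro χ₁ ⟨hχ₁l, hχ₁⟩
    have hid : 𝒴.p.IsHomLift (𝟙 R) (𝟙 x.obj.snd) := IsHomLift.id hR2
    let χ' : z ⟶ x := mkHom (𝟙 R) χ₁ (𝟙 x.obj.snd) hχ₁l hid
    have : χ' = χ := by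
      apply huniq χ' ⟨mkHom_isHomLift _ _ _ _ _, ?_⟩
      apply fp_hom_ext
      · exact hχ₁
      · change 𝟙 _ ≫ φ.hom.snd = φ.hom.snd
        simp
    rw [← this]
    rfl

theorem fp_snd_isCartesian {R S : C} (f : R ⟶ S)
    {x y : (FibCat.fp (FibCat.toSelf 𝒳) (FibCat.toSelf 𝒴)).obj} (φ : x ⟶ y)
    (h : (FibCat.fp (FibCat.toSelf 𝒳) (FibCat.toSelf 𝒴)).p.IsCartesian f φ) :
    𝒴.p.IsCartesian f φ.hom.snd := by
  have hφl := h.toIsHomLift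
  have hφ₁ : 𝒳.p.IsHomLift f φ.hom.fst := fst_isHomLift _ _ _ φ hφl
  have hφ₂ : 𝒴.p.IsHomLift f φ.hom.snd := snd_isHomLift _ _ _ φ hφl
  refine { toIsHomLift := hφ₂, universal_property := ?_ }
  intro b' β' hβ'
  have hR : 𝒴.p.obj b' = R := IsHomLift.domain_eq 𝒴.p f β'
  have hR1 : 𝒳.p.obj x.obj.fst = R := IsHomLift.domain_eq 𝒳.p f φ.hom.fst
  let z := mkObj (𝒳 := 𝒳) (𝒴 := 𝒴) x.obj.fst b' (hR1.trans hR.symm)
  let ψ : z ⟶ y := mkHom f φ.hom.fst β' hφ₁ hβ'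
  have hψ : (FibCat.fp (FibCat.toSelf 𝒳) (FibCat.toSelf 𝒴)).p.IsHomLift f ψ :=
    mkHom_isHomLift _ _ _ _ _
  obtain ⟨χ, ⟨hχl, hχ⟩, huniq⟩ :=
    IsCartesian.universal_property (p := (FibCat.fp (FibCat.toSelf 𝒳) (FibCat.toSelf 𝒴)).p)
      (f := f) (φ := φ) ψ
  refine ⟨χ.hom.snd, ⟨snd_isHomLift _ _ _ χ hχl, ?_⟩, ?_⟩
  · exact congrArg (fun t => t.hom.snd) hχ
  · rintro χ₂ ⟨hχ₂l, hχ₂⟩
    have hid : 𝒳.p.IsHomLift (𝟙 R) (𝟙 x.obj.fst) := IsHomLift.id hR1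
    let χ' : z ⟶ x := mkHom (𝟙 R) (𝟙 x.obj.fst) χ₂ hid hχ₂l
    have : χ' = χ := by
      apply huniq χ' ⟨mkHom_isHomLift _ _ _ _ _, ?_⟩
      apply fp_hom_ext
      · change 𝟙 _ ≫ φ.hom.fst = φ.hom.fst
        simp
      · exact hχ₂
    rw [← this]
    rfl

theorem fp_isCartesian_iff {R S : C} (f : R ⟶ S)
    {x y : (FibCat.fp (FibCat.toSelf 𝒳) (FibCat.toSelf 𝒴)).obj} (φ : x ⟶ y) :
    (FibCat.fp (FibCat.toSelf 𝒳) (FibCat.toSelf 𝒴)).p.IsCartesian f φ ↔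
      𝒳.p.IsCartesian f φ.hom.fst ∧ 𝒴.p.IsCartesian f φ.hom.snd :=
  ⟨fun h => ⟨fp_fst_isCartesian f φ h, fp_snd_isCartesian f φ h⟩,
   fun h => fp_isCartesian_of f φ h.1 h.2⟩

theorem isPreFibered_fp (h1 : 𝒳.p.IsPreFibered) (h2 : 𝒴.p.IsPreFibered) :
    (FibCat.fp (FibCat.toSelf 𝒳) (FibCat.toSelf 𝒴)).p.IsPreFibered := by
  constructor
  intro x R f
  change R ⟶ 𝒳.p.obj x.obj.fst at f
  obtain ⟨a', φ₁, hφ₁⟩ := IsPreFibered.exists_isCartesian 𝒳.p (a := x.obj.fst) rfl f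
  obtain ⟨b', φ₂, hφ₂⟩ := IsPreFibered.exists_isCartesian 𝒴.p (a := x.obj.snd)
    (snd_obj_eq _ _ x) f
  have hR1 : 𝒳.p.obj a' = R := IsHomLift.domain_eq 𝒳.p f φ₁
  have hR2 : 𝒴.p.obj b' = R := IsHomLift.domain_eq 𝒴.p f φ₂
  let z := mkObj (𝒳 := 𝒳) (𝒴 := 𝒴) a' b' (hR1.trans hR2.symm)
  let ψ : z ⟶ x := mkHom f φ₁ φ₂ hφ₁.toIsHomLift hφ₂.toIsHomLift
  exact ⟨z, ψ, fp_isCartesian_of f ψ hφ₁ hφ₂⟩

theorem isFibered_fp (h1 : 𝒳.p.IsFibered) (h2 : 𝒴.p.IsFibered) :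
    (FibCat.fp (FibCat.toSelf 𝒳) (FibCat.toSelf 𝒴)).p.IsFibered := by
  haveI := isPreFibered_fp (𝒳 := 𝒳) (𝒴 := 𝒴) inferInstance inferInstance
  constructor
  intro R S T f g a b c φ ψ hφ hψ
  have a1 := fp_fst_isCartesian f φ hφ
  have a2 := fp_snd_isCartesian f φ hφ
  have b1 := fp_fst_isCartesian g ψ hψ
  have b2 := fp_snd_isCartesian g ψ hψ
  apply fp_isCartesian_of
  · exact IsFibered.comp f g φ.hom.fst ψ.hom.fst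
  · exact IsFibered.comp f g φ.hom.snd ψ.hom.snd

end Groth.Agent.Helper2.FC2
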