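import Mathlib
import Groth.Prelude.Def_FibCat2

set_option autoImplicit false
open CategoryTheory
universe u v u₂ v₂
open FibCat

namespace Groth.Agent.Helper2.FC3
open CategoryTheory Functor Opposite
variable {C : Type u} [Category.{v} C] {𝒳 : Type u₂} [Category.{v₂} 𝒳]

theorem isHomLift_op (p : 𝒳 ⥤ C) {R S : C} {a b : 𝒳} (f : R ⟶ S) (φ : a ⟶ b)
    (h : p.IsHomLift f φ) : p.op.IsHomLift f.op φ.op := by
  cases h
  exact Functor.IsHomLift.map (p := p.op) φ.op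

theorem isHomLift_unop (p : 𝒳 ⥤ C) {R S : Cᵒᵖ} {a b : 𝒳ᵒᵖ} (f : R ⟶ S) (φ : a ⟶ b)
    (h : p.op.IsHomLift f φ) : p.IsHomLift f.unop φ.unop := by
  cases h
  exact Functor.IsHomLift.map (p := p) φ.unop

theorem isHomLift_op_iff (p : 𝒳 ⥤ C) {R S : Cᵒᵖ} {a b : 𝒳ᵒᵖ} (f : R ⟶ S) (φ : a ⟶ b) :
    p.op.IsHomLift f φ ↔ p.IsHomLift f.unop φ.unop :=
  ⟨isHomLift_unop p f φ, fun h => isHomLift_op p f.unop φ.unop h⟩

/-- `p.op`-cartesian = `p`-cocartesian -/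
theorem op_isCartesian_iff (p : 𝒳 ⥤ C) {R S : Cᵒᵖ} {a b : 𝒳ᵒᵖ} (f : R ⟶ S) (φ : a ⟶ b) :
    p.op.IsCartesian f φ ↔ p.IsCocartesian f.unop φ.unop := by
  constructor
  · intro h
    refine { toIsHomLift := isHomLift_unop p f φ h.toIsHomLift, universal_property := ?_ }
    intro b' φ' hφ'
    have hφ'op : p.op.IsHomLift f φ'.op := isHomLift_op p f.unop φ' hφ'
    obtain ⟨χ, ⟨hχl, hχ⟩, huniq⟩ :=
      IsCartesian.universal_property (p := p.op) (f := f) (φ := φ) φ'.op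
    refine ⟨χ.unop, ⟨isHomLift_unop p (𝟙 R) χ hχl, ?_⟩, ?_⟩
    · have := congrArg Quiver.Hom.unop hχ
      simpa using this
    · rintro χ' ⟨hχ'l, hχ'⟩
      have : χ'.op = χ := by
        apply huniq χ'.op ⟨isHomLift_op p (𝟙 (unop R)) χ' hχ'l, ?_⟩
        apply Quiver.Hom.unop_inj
        simpa using hχ'
      rw [← this]
      rfl
  · intro h
    refine { toIsHomLift := isHomLift_op p f.unop φ.unop h.toIsHomLift, universal_property := ?_ }
    intro a' φ' hφ'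
    have hφ'un : p.IsHomLift f.unop φ'.unop := isHomLift_unop p f φ' hφ'
    obtain ⟨χ, ⟨hχl, hχ⟩, huniq⟩ :=
      IsCocartesian.universal_property (p := p) (f := f.unop) (φ := φ.unop) φ'.unop
    refine ⟨χ.op, ⟨isHomLift_op p (𝟙 (unop R)) χ hχl, ?_⟩, ?_⟩
    · apply Quiver.Hom.unop_inj
      simpa using hχ
    · rintro χ' ⟨hχ'l, hχ'⟩
      have : χ'.unop = χ := by
        apply huniq χ'.unop ⟨isHomLift_unop p (𝟙 R) χ' hχ'l, ?_⟩
        have := congrArg Quiver.Hom.unop hχ'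
        simpa using this
      rw [← this]
      rfl

/-- `p.op`-cocartesian = `p`-cartesian -/
theorem op_isCocartesian_iff (p : 𝒳 ⥤ C) {R S : Cᵒᵖ} {a b : 𝒳ᵒᵖ} (f : R ⟶ S) (φ : a ⟶ b) :
    p.op.IsCocartesian f φ ↔ p.IsCartesian f.unop φ.unop := by
  constructor
  · intro h
    refine { toIsHomLift := isHomLift_unop p f φ h.toIsHomLift, universal_property := ?_ }
    intro b' φ' hφ'
    have hφ'op : p.op.IsHomLift f φ'.op := isHomLift_op p f.unop φ' hφ'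
    obtain ⟨χ, ⟨hχl, hχ⟩, huniq⟩ :=
      IsCocartesian.universal_property (p := p.op) (f := f) (φ := φ) φ'.op
    refine ⟨χ.unop, ⟨isHomLift_unop p (𝟙 S) χ hχl, ?_⟩, ?_⟩
    · have := congrArg Quiver.Hom.unop hχ
      simpa using this
    · rintro χ' ⟨hχ'l, hχ'⟩
      have : χ'.op = χ := by
        apply huniq χ'.op ⟨isHomLift_op p (𝟙 (unop S)) χ' hχ'l, ?_⟩
        apply Quiver.Hom.unop_inj
        simpa using hχ'
      rw [← this]
      rfl
  · intro h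
    refine { toIsHomLift := isHomLift_op p f.unop φ.unop h.toIsHomLift, universal_property := ?_ }
    intro a' φ' hφ'
    have hφ'un : p.IsHomLift f.unop φ'.unop := isHomLift_unop p f φ' hφ'
    obtain ⟨χ, ⟨hχl, hχ⟩, huniq⟩ :=
      IsCartesian.universal_property (p := p) (f := f.unop) (φ := φ.unop) φ'.unop
    refine ⟨χ.op, ⟨isHomLift_op p (𝟙 (unop S)) χ hχl, ?_⟩, ?_⟩
    · apply Quiver.Hom.unop_inj
      simpa using hχ
    · rintro χ' ⟨hχ'l, hχ'⟩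
      have : χ'.unop = χ := by
        apply huniq χ'.unop ⟨isHomLift_unop p (𝟙 S) χ' hχ'l, ?_⟩
        have := congrArg Quiver.Hom.unop hχ'
        simpa using this
      rw [← this]
      rfl

/-- In a fibred category, cocartesian morphisms are closed under composition. -/
theorem comp_isCocartesian (p : 𝒳 ⥤ C) [p.IsFibered] {R S T : C} (f : R ⟶ S) (g : S ⟶ T)
    {a b c : 𝒳} (φ : a ⟶ b) (ψ : b ⟶ c) [hφ : p.IsCocartesian f φ] [hψ : p.IsCocartesian g ψ] :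
    p.IsCocartesian (f ≫ g) (φ ≫ ψ) := by
  refine { toIsHomLift := inferInstance, universal_property := ?_ }
  intro c' θ hθ
  have hc' : p.obj c' = T := IsHomLift.codomain_eq p (f ≫ g) θ
  -- cartesian lift of g to c'
  obtain ⟨d, γ, hγ⟩ := IsPreFibered.exists_isCartesian p hc' g
  haveI : p.IsStronglyCartesian g γ := inferInstance
  -- factor θ through γ
  obtain ⟨θ₁, ⟨hθ₁l, hθ₁⟩, huniqθ⟩ :=
    IsStronglyCartesian.universal_property p g γ f (f ≫ g) rfl θ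
  -- factor θ₁ through φ
  obtain ⟨χ₁, ⟨hχ₁l, hχ₁⟩, huniq₁⟩ :=
    IsCocartesian.universal_property (p := p) (f := f) (φ := φ) θ₁
  -- χ₁ ≫ γ lies over g
  haveI : p.IsHomLift g (χ₁ ≫ γ) := by
    have : p.IsHomLift (𝟙 S ≫ g) (χ₁ ≫ γ) := inferInstance
    simpa using this
  obtain ⟨χ, ⟨hχl, hχ⟩, huniq⟩ :=
    IsCocartesian.universal_property (p := p) (f := g) (φ := ψ) (χ₁ ≫ γ)
  refine ⟨χ, ⟨hχl, ?_⟩, ?_⟩
  · rw [Category.assoc, hχ, ← Category.assoc, hχ₁, hθ₁]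
  · rintro χ' ⟨hχ'l, hχ'⟩
    -- ψ ≫ χ' lies over g
    haveI : p.IsHomLift g (ψ ≫ χ') := by
      have : p.IsHomLift (g ≫ 𝟙 T) (ψ ≫ χ') := inferInstance
      simpa using this
    obtain ⟨χ₁', ⟨hχ₁'l, hχ₁'⟩, -⟩ :=
      IsCartesian.universal_property (p := p) (f := g) (φ := γ) (ψ ≫ χ')
    haveI : p.IsHomLift f (φ ≫ χ₁') := by
      have : p.IsHomLift (f ≫ 𝟙 S) (φ ≫ χ₁') := inferInstance
      simpa using this
    have e1 : φ ≫ χ₁' = θ₁ := by
      apply huniqθ (φ ≫ χ₁') ⟨inferInstance, ?_⟩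
      rw [Category.assoc, hχ₁', ← Category.assoc, hχ']
    have e2 : χ₁' = χ₁ := huniq₁ χ₁' ⟨hχ₁'l, e1⟩
    apply huniq χ' ⟨hχ'l, ?_⟩
    rw [← hχ₁', e2]

end Groth.Agent.Helper2.FC3
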