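import Mathlib
open Polynomial

namespace Groth.Agent.Helper2.FFInt


/-- K-side: a power relation gives integrality of the fraction. -/
lemma isIntegral_div_of_pow_mem {A K : Type*} [CommRing A] [Field K] [Algebra A K]
    (a s : A) (hs : algebraMap A K s ≠ 0) (m : ℕ)
    (h : a ^ (m + 1) ∈ Ideal.span {s} * (Ideal.span {a, s}) ^ m) :
    IsIntegral A (algebraMap A K a / algebraMap A K s) := by
  set x := algebraMap A K a / algebraMap A K s with hx
  have key : ∀ (k : ℕ) (z : A), z ∈ (Ideal.span {a, s}) ^ k →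
      ∃ f : A[X], f.natDegree ≤ k ∧ algebraMap A K z / (algebraMap A K s) ^ k = aeval x f := by
    intro k
    induction k with
    | zero =>
      intro z _
      exact ⟨C z, by simp, by simp⟩
    | succ k ih =>
      intro z hz
      rw [pow_succ'] at hz
      refine Submodule.mul_induction_on hz ?_ ?_
      · intro r hr w hw
        obtain ⟨f, hf, hfe⟩ := ih w hw
        obtain ⟨α, β, rfl⟩ := Ideal.mem_span_pair.mp hr
        refine ⟨(C α * X + C β) * f, ?_, ?_⟩
        · refine (natDegree_mul_le).trans ?_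
          have := natDegree_linear_le (a := α) (b := β)
          omega
        · rw [map_mul (aeval x), ← hfe]
          simp only [map_add, map_mul, aeval_C, aeval_X, hx]
          field_simp
          ring
      · intro z₁ z₂ ⟨f₁, h₁, e₁⟩ ⟨f₂, h₂, e₂⟩
        refine ⟨f₁ + f₂, natDegree_add_le_of_degree_le h₁ h₂, ?_⟩
        rw [map_add, map_add, add_div, e₁, e₂]
  obtain ⟨z, hz, hza⟩ := Ideal.mem_span_singleton_mul.mp h
  obtain ⟨f, hf, hfe⟩ := key m z hz
  have hxm : x ^ (m + 1) = aeval x f := by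
    rw [← hfe, hx, div_pow, ← map_pow, ← hza, map_mul, pow_succ]
    field_simp
  refine ⟨X ^ (m + 1) - f, monic_X_pow_sub ?_, ?_⟩
  · exact (degree_le_of_natDegree_le hf).trans_lt (by exact_mod_cast Nat.lt_succ_self m)
  · rw [← aeval_def, map_sub, map_pow, aeval_X, hxm, sub_self]



/-- the predicate on `B` -/
def P {B : Type*} [CommRing B] (a s u : B) : Prop :=
  ∃ m : ℕ, ∃ z ∈ (Ideal.span {a, s}) ^ m, u = a ^ (m + 1) + s * z

lemma P.mul {B : Type*} [CommRing B] {a s u u' : B} (h : P a s u) (h' : P a s u') :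
    P a s (u * u') := by
  obtain ⟨m, z, hz, rfl⟩ := h
  obtain ⟨m', z', hz', rfl⟩ := h'
  have ha : a ∈ Ideal.span {a, s} := Ideal.subset_span (by simp)
  have hs : s ∈ Ideal.span {a, s} := Ideal.subset_span (by simp)
  refine ⟨m + m' + 1, z * a ^ (m' + 1) + z * s * z' + a ^ (m + 1) * z', ?_, by ring⟩
  refine Ideal.add_mem _ (Ideal.add_mem _ ?_ ?_) ?_
  · have : m + m' + 1 = m + (m' + 1) := by ring
    rw [this, pow_add]
    exact Ideal.mul_mem_mul hz (Ideal.pow_mem_pow ha _)
  · have : m + m' + 1 = m + 1 + m' := by ring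
    rw [this, pow_add, pow_succ]
    exact Ideal.mul_mem_mul (Ideal.mul_mem_mul hz hs) hz'
  · have : m + m' + 1 = m + 1 + m' := by ring
    rw [this, pow_add]
    exact Ideal.mul_mem_mul (Ideal.pow_mem_pow ha _) hz'

lemma P.pow {B : Type*} [CommRing B] {a s u : B} (h : P a s u) (N : ℕ) : P a s (u ^ (N + 1)) := by
  induction N with
  | zero => simpa using h
  | succ N ih => rw [pow_succ]; exact ih.mul h

lemma pow_mem_of_nilpotent {B : Type*} [CommRing B] {a s u : B} (h : P a s u) (hu : IsNilpotent u) :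
    ∃ m : ℕ, a ^ (m + 1) ∈ Ideal.span {s} * (Ideal.span {a, s}) ^ m := by
  obtain ⟨k, hk⟩ := hu
  have h0 : u ^ (k + 1) = 0 := by rw [pow_succ, hk, zero_mul]
  obtain ⟨m, z, hz, e⟩ := h.pow k
  rw [h0] at e
  refine ⟨m, Ideal.mem_span_singleton_mul.mpr ⟨-z, neg_mem hz, ?_⟩⟩
  linear_combination e


lemma exists_nilpotent_P {B R : Type*} [CommRing B] [CommRing R] [Algebra (B ⧸ nilradical B) R]
    (hinj : Function.Injective (algebraMap (B ⧸ nilradical B) R))
    (a s : B) (y : R)
    (hy : algebraMap (B ⧸ nilradical B) R (Ideal.Quotient.mk _ s) * y =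
      algebraMap (B ⧸ nilradical B) R (Ideal.Quotient.mk _ a))
    (hint : IsIntegral (B ⧸ nilradical B) y) :
    ∃ u : B, IsNilpotent u ∧ P a s u := by
  rcases subsingleton_or_nontrivial B with hB | hB
  · exact ⟨0, IsNilpotent.zero, 0, 0, by simp, Subsingleton.elim _ _⟩
  have hC : Nontrivial (B ⧸ nilradical B) := by
    apply Ideal.Quotient.nontrivial_iff.mpr
    rw [Ideal.ne_top_iff_one, mem_nilradical]
    exact not_isNilpotent_one
  have ha : a ∈ Ideal.span {a, s} := Ideal.subset_span (by simp)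
  have hs : s ∈ Ideal.span {a, s} := Ideal.subset_span (by simp)
  obtain ⟨p₀, hp₀m, hp₀e⟩ := hint
  set p := p₀ * X with hp
  have hpm : p.Monic := hp₀m.mul monic_X
  have hpe : eval₂ (algebraMap (B ⧸ nilradical B) R) y p = 0 := by
    rw [hp, eval₂_mul, hp₀e, zero_mul]
  have hpn : p.natDegree = p₀.natDegree + 1 := by
    rw [hp, hp₀m.natDegree_mul monic_X, natDegree_X]
  set n₀ := p₀.natDegree with hn₀
  set q := scaleRoots p (Ideal.Quotient.mk (nilradical B) s) with hq
  have hq0 : eval (Ideal.Quotient.mk (nilradical B) a) q = 0 := by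
    apply hinj
    rw [map_zero, ← eval₂_at_apply, ← hy]
    exact scaleRoots_eval₂_eq_zero _ hpe
  have hqm : q.Monic := (monic_scaleRoots_iff _).mpr hpm
  have hqn : q.natDegree = n₀ + 1 := by rw [hq, natDegree_scaleRoots, hpn]
  have hsum := hqm.as_sum
  rw [hqn] at hsum
  have h1 : (Ideal.Quotient.mk (nilradical B) a) ^ (n₀ + 1) +
      ∑ i ∈ Finset.range (n₀ + 1), q.coeff i * (Ideal.Quotient.mk (nilradical B) a) ^ i = 0 := by
    rw [← hq0]
    conv_rhs => rw [hsum]
    simp [eval_finsetSum]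
  choose c hc using fun i => Ideal.Quotient.mk_surjective (p.coeff i)
  refine ⟨a ^ (n₀ + 1) + s * ∑ i ∈ Finset.range (n₀ + 1), c i * (s ^ (n₀ - i) * a ^ i), ?_,
    n₀, _, ?_, rfl⟩
  · rw [← mem_nilradical, ← Ideal.Quotient.eq_zero_iff_mem, ← h1]
    simp only [map_add, map_mul, map_pow, map_sum, hc, hq, coeff_scaleRoots, hpn, Finset.mul_sum]
    congr 1
    apply Finset.sum_congr rfl
    intro i hi
    have : n₀ + 1 - i = (n₀ - i) + 1 := by have := Finset.mem_range.mp hi; omega
    rw [this, pow_succ]; ring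
  · apply Ideal.sum_mem
    intro i hi
    apply Ideal.mul_mem_left
    have h2 : (Ideal.span {a, s}) ^ n₀ = (Ideal.span {a, s}) ^ (n₀ - i) * (Ideal.span {a, s}) ^ i := by
      rw [← pow_add]
      congr 1
      have := Finset.mem_range.mp hi; omega
    rw [h2]
    exact Ideal.mul_mem_mul (Ideal.pow_mem_pow hs _) (Ideal.pow_mem_pow ha _)


end Groth.Agent.Helper2.FFInt
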