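import Mathlib
import Groth.Prelude

namespace Groth.Agent.Helper2.FLInv

universe u v w

open Module

/-- lifting property of a module killed by `J` and projective over `A ⧸ J`. -/
theorem lift_of_projective {A : Type u} [CommRing A] (J : Ideal A)
    {P : Type*} {X : Type*} {Y : Type*} [AddCommGroup P] [Module A P] [AddCommGroup X] [Module A X]
    [AddCommGroup Y] [Module A Y]
    (hP : Module.IsTorsionBySet A P J) (hX : Module.IsTorsionBySet A X J)
    (hY : Module.IsTorsionBySet A Y J)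
    (hproj : letI := hP.module; Module.Projective (A ⧸ J) P)
    (f : X →ₗ[A] Y) (hf : Function.Surjective f) (g : P →ₗ[A] Y) :
    ∃ h : P →ₗ[A] X, ∀ p, f (h p) = g p := by
  letI := hP.module
  letI := hX.module
  letI := hY.module
  let f' : X →ₗ[A ⧸ J] Y :=
    { toFun := f
      map_add' := f.map_add
      map_smul' := by
        intro c x
        obtain ⟨a, rfl⟩ := Ideal.Quotient.mk_surjective c
        exact f.map_smul a x }
  let g' : P →ₗ[A ⧸ J] Y :=
    { toFun := g
      map_add' := g.map_add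
      map_smul' := by
        intro c x
        obtain ⟨a, rfl⟩ := Ideal.Quotient.mk_surjective c
        exact g.map_smul a x }
  obtain ⟨h', hh'⟩ := Module.projective_lifting_property f' g' hf
  refine ⟨{ toFun := h'
            map_add' := h'.map_add
            map_smul' := fun a x => h'.map_smul (Ideal.Quotient.mk J a) x }, fun p => ?_⟩
  exact LinearMap.congr_fun hh' p

/-- continuity of a linear map to a discrete module that kills `J • M` for an open `J`. -/
theorem continuous_of_le_ker {A : Type u} {M : Type v} {E : Type*} [CommRing A] [TopologicalSpace A]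
    [AddCommGroup M] [Module A M] [TopologicalSpace M] [AddCommGroup E] [Module A E]
    [TopologicalSpace E] [DiscreteTopology E]
    (hM : TopMod.IsDeduced A M) (f : M →ₗ[A] E) (J : Ideal A) (hJ : IsOpen (J : Set A))
    (hle : (J • ⊤ : Submodule A M) ≤ LinearMap.ker f) : Continuous f := by
  haveI := hM.1
  refine continuous_of_continuousAt_zero f.toAddMonoidHom ?_
  change Filter.Tendsto f (nhds 0) (nhds (f 0))
  rw [_root_.map_zero, nhds_discrete E, Filter.tendsto_pure]
  exact Filter.mem_of_superset (hM.2.mem_of_mem hJ) (fun x hx => hle hx)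

/-- a continuous linear map to a discrete module kills `J • M` for an open `J`. -/
theorem exists_le_ker {A : Type u} {M : Type v} {E : Type*} [CommRing A] [TopologicalSpace A]
    [AddCommGroup M] [Module A M] [TopologicalSpace M] [AddCommGroup E] [Module A E]
    [TopologicalSpace E] [DiscreteTopology E]
    (hM : TopMod.IsDeduced A M) (f : M →L[A] E) :
    ∃ J : Ideal A, IsOpen (J : Set A) ∧ (J • ⊤ : Submodule A M) ≤ LinearMap.ker f.toLinearMap := by
  have h0 : (f ⁻¹' {0}) ∈ nhds (0 : M) := by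
    refine IsOpen.mem_nhds ?_ (by simp)
    exact (isOpen_discrete ({0} : Set E)).preimage f.continuous
  obtain ⟨J, hJ, hJle⟩ := hM.2.mem_iff.mp h0
  exact ⟨J, hJ, fun x hx => hJle hx⟩

/-- the algebraic core: a left inverse modulo `𝔏` lifts to a left inverse modulo `J` when
`𝔏 ^ n ≤ J ≤ 𝔏` and `N / J N` is projective over `A / J`. -/
theorem exists_leftInverse_mod {A : Type u} {M : Type v} {N : Type w} [CommRing A]
    [AddCommGroup M] [Module A M] [AddCommGroup N] [Module A N]
    (𝔏 J : Ideal A) (hJ𝔏 : J ≤ 𝔏) (n : ℕ) (hn : 𝔏 ^ n ≤ J)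
    (hproj : Module.Projective (A ⧸ J) (N ⧸ (J • (⊤ : Submodule A N))))
    (u : M →ₗ[A] N)
    (w : N →ₗ[A] M ⧸ (𝔏 • ⊤ : Submodule A M)) (hw : ∀ x : M, w (u x) = Submodule.Quotient.mk x) :
    ∃ r : N →ₗ[A] M ⧸ (J • ⊤ : Submodule A M), ∀ x : M, r (u x) = Submodule.Quotient.mk x := by
  -- the projection `M/JM → M/𝔏M`
  have hle : (J • ⊤ : Submodule A M) ≤ (𝔏 • ⊤ : Submodule A M) := Submodule.smul_mono_left hJ𝔏
  let π : (M ⧸ (J • ⊤ : Submodule A M)) →ₗ[A] (M ⧸ (𝔏 • ⊤ : Submodule A M)) :=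
    Submodule.mapQ _ _ LinearMap.id (by simpa using hle)
  have hπ : ∀ x : M, π (Submodule.Quotient.mk x) = Submodule.Quotient.mk x := fun x => rfl
  have hπs : Function.Surjective π := by
    intro y
    obtain ⟨x, rfl⟩ := Submodule.Quotient.mk_surjective _ y
    exact ⟨Submodule.Quotient.mk x, rfl⟩
  -- `w` kills `J N`
  have hwk : (J • ⊤ : Submodule A N) ≤ LinearMap.ker w := by
    rw [Submodule.smul_le]
    intro a ha y _
    rw [LinearMap.mem_ker, map_smul]
    obtain ⟨x, hx⟩ := Submodule.Quotient.mk_surjective _ (w y)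
    rw [← hx, ← Submodule.Quotient.mk_smul, Submodule.Quotient.mk_eq_zero]
    exact Submodule.smul_mem_smul (hJ𝔏 ha) Submodule.mem_top
  let wbar : (N ⧸ (J • ⊤ : Submodule A N)) →ₗ[A] (M ⧸ (𝔏 • ⊤ : Submodule A M)) :=
    Submodule.liftQ _ w hwk
  have hY : Module.IsTorsionBySet A (M ⧸ (𝔏 • ⊤ : Submodule A M)) J := by
    rw [Module.isTorsionBySet_quotient_iff]
    intro x a ha
    exact Submodule.smul_mem_smul (hJ𝔏 ha) Submodule.mem_top
  obtain ⟨wt, hwt⟩ := lift_of_projective J (Module.isTorsionBySet_quotient_ideal_smul N J)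
    (Module.isTorsionBySet_quotient_ideal_smul M J) hY hproj π hπs wbar
  -- the induced map `M/JM → N/JN`
  let ubar : (M ⧸ (J • ⊤ : Submodule A M)) →ₗ[A] (N ⧸ (J • ⊤ : Submodule A N)) :=
    Submodule.mapQ _ _ u (by
      rw [Submodule.smul_le]
      intro a ha x _
      rw [Submodule.mem_comap, map_smul]
      exact Submodule.smul_mem_smul ha Submodule.mem_top)
  have hubar : ∀ x : M, ubar (Submodule.Quotient.mk x) = Submodule.Quotient.mk (u x) := fun x => rfl
  let φ : Module.End A (M ⧸ (J • ⊤ : Submodule A M)) := wt ∘ₗ ubar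
  let δ : Module.End A (M ⧸ (J • ⊤ : Submodule A M)) := φ - 1
  -- `δ` has image in `𝔏 (M/JM)`
  have hδ1 : ∀ y, δ y ∈ (𝔏 • ⊤ : Submodule A (M ⧸ (J • ⊤ : Submodule A M))) := by
    intro y
    obtain ⟨x, rfl⟩ := Submodule.Quotient.mk_surjective _ y
    obtain ⟨z, hz⟩ := Submodule.Quotient.mk_surjective _ (δ (Submodule.Quotient.mk x))
    have h0 : π (δ (Submodule.Quotient.mk x)) = 0 := by
      change π (wt (ubar (Submodule.Quotient.mk x)) - Submodule.Quotient.mk x) = 0
      rw [map_sub, hwt, hubar, hπ]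
      change w (u x) - _ = 0
      rw [hw, sub_self]
    rw [← hz, hπ, Submodule.Quotient.mk_eq_zero] at h0
    rw [← hz]
    have : (Submodule.Quotient.mk z : M ⧸ (J • ⊤ : Submodule A M)) ∈
        Submodule.map (Submodule.mkQ (J • ⊤ : Submodule A M)) (𝔏 • ⊤ : Submodule A M) :=
      Submodule.mem_map_of_mem h0
    rw [Submodule.map_smul''] at this
    exact Submodule.smul_mono le_rfl le_top this
  have hδk : ∀ k : ℕ, ∀ y, (δ ^ k) y ∈ (𝔏 ^ k • ⊤ : Submodule A (M ⧸ (J • ⊤ : Submodule A M))) := by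
    intro k
    induction k with
    | zero => intro y; simp
    | succ k ih =>
      intro y
      have hy : (δ ^ (k + 1)) y = (δ ^ k) (δ y) := by rw [pow_succ]; rfl
      rw [hy]
      have hstep : ∀ z ∈ (𝔏 • ⊤ : Submodule A (M ⧸ (J • ⊤ : Submodule A M))),
          (δ ^ k) z ∈ (𝔏 ^ (k + 1) • ⊤ : Submodule A (M ⧸ (J • ⊤ : Submodule A M))) := by
        intro z hz
        refine Submodule.smul_induction_on hz ?_ ?_
        · intro a ha t _
          rw [map_smul, pow_succ', mul_smul]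
          exact Submodule.smul_mem_smul ha (ih t)
        · intro a b ha hb
          rw [map_add]
          exact Submodule.add_mem _ ha hb
      exact hstep _ (hδ1 y)
  have hnil : δ ^ n = 0 := by
    refine LinearMap.ext fun y => ?_
    have h1 := hδk n y
    have h2 : (𝔏 ^ n • ⊤ : Submodule A (M ⧸ (J • ⊤ : Submodule A M))) ≤ ⊥ := by
      rw [Submodule.smul_le]
      intro a ha t _
      obtain ⟨x, rfl⟩ := Submodule.Quotient.mk_surjective _ t
      rw [Submodule.mem_bot, ← Submodule.Quotient.mk_smul, Submodule.Quotient.mk_eq_zero]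
      exact Submodule.smul_mem_smul (hn ha) Submodule.mem_top
    simpa using h2 h1
  have hunit : IsUnit φ := by
    have : φ = δ + 1 := by simp [δ]
    rw [this]
    exact IsNilpotent.isUnit_add_one ⟨n, hnil⟩
  obtain ⟨ψ, hψ⟩ := hunit.exists_left_inv
  refine ⟨(ψ ∘ₗ wt) ∘ₗ Submodule.mkQ _, fun x => ?_⟩
  change ψ (wt (Submodule.Quotient.mk (u x))) = _
  rw [← hubar]
  change (ψ * φ) (Submodule.Quotient.mk x) = _
  rw [hψ]
  rfl

theorem s5827 {A : Type u} {M : Type v}
    {N : Type w} [CommRing A] [TopologicalSpace A] [AddCommGroup M] [Module A M] [TopologicalSpace M]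
    [AddCommGroup N] [Module A N] [TopologicalSpace N] (hA : LinTop.IsPreadmissible A) (𝔏 : Ideal A)
    (h𝔏 : LinTop.IsIdealOfDefinition A 𝔏) (hM : TopMod.IsDeduced A M) (hN : TopMod.IsDeduced A N)
    (hproj : ∀ J : Ideal A, IsOpen (J : Set A) → Module.Projective (A ⧸ J) (N ⧸ (J • (⊤ : Submodule A N))))
    (u : M →L[A] N) :
    TopMod.IsFormallyLeftInvertible u ↔
      ∃ w : N →ₗ[A] M ⧸ (𝔏 • ⊤ : Submodule A M), ∀ x : M, w (u x) = Submodule.Quotient.mk x := by
  constructor
  · intro h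
    letI : TopologicalSpace (M ⧸ (𝔏 • ⊤ : Submodule A M)) := ⊥
    haveI : DiscreteTopology (M ⧸ (𝔏 • ⊤ : Submodule A M)) := ⟨rfl⟩
    have hc : Continuous (Submodule.mkQ (𝔏 • ⊤ : Submodule A M)) :=
      continuous_of_le_ker hM _ 𝔏 h𝔏.1 (by simp)
    obtain ⟨w, hw⟩ := h (M ⧸ (𝔏 • ⊤ : Submodule A M)) ⟨Submodule.mkQ _, hc⟩
    exact ⟨w.toLinearMap, fun x => hw x⟩
  · rintro ⟨w, hw⟩ E _ _ _ _ v
    obtain ⟨J₀, hJ₀, hJ₀le⟩ := exists_le_ker hM v
    have hJopen : IsOpen ((J₀ ⊓ 𝔏 : Ideal A) : Set A) := hJ₀.inter h𝔏.1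
    obtain ⟨n, -, hn⟩ := h𝔏.2 _ (hJopen.mem_nhds (J₀ ⊓ 𝔏).zero_mem)
    have hJle : ((J₀ ⊓ 𝔏 : Ideal A) • ⊤ : Submodule A M) ≤ LinearMap.ker v.toLinearMap :=
      (Submodule.smul_mono_left inf_le_left).trans hJ₀le
    obtain ⟨r, hr⟩ := exists_leftInverse_mod 𝔏 (J₀ ⊓ 𝔏) inf_le_right n hn (hproj _ hJopen)
      u.toLinearMap w hw
    let vbar : (M ⧸ ((J₀ ⊓ 𝔏 : Ideal A) • ⊤ : Submodule A M)) →ₗ[A] E :=
      Submodule.liftQ _ v.toLinearMap hJle
    have hc : Continuous (vbar ∘ₗ r) := by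
      refine continuous_of_le_ker hN _ (J₀ ⊓ 𝔏) hJopen ?_
      rw [Submodule.smul_le]
      intro a ha y _
      rw [LinearMap.mem_ker, map_smul]
      obtain ⟨x, hx⟩ := Submodule.Quotient.mk_surjective _ (r y)
      change a • vbar (r y) = 0
      rw [← map_smul, ← hx, ← Submodule.Quotient.mk_smul]
      change v (a • x) = 0
      exact hJle (Submodule.smul_mem_smul ha Submodule.mem_top)
    refine ⟨⟨vbar ∘ₗ r, hc⟩, fun x => ?_⟩
    have h1 : r (u x) = Submodule.Quotient.mk x := hr x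
    change vbar (r (u x)) = v x
    rw [h1]
    rfl

end Groth.Agent.Helper2.FLInv
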