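import Mathlib
import Groth.Prelude
import Groth.Agent.Helper2.FLInv

namespace Groth.Agent.Helper2.FLInv2

universe u v w

open Module Filter Topology

section Top

variable {A : Type u} {M : Type v} [CommRing A] [TopologicalSpace A] [AddCommGroup M] [Module A M]

/-- `J • M` is open for an open ideal `J`. -/
theorem isOpen_smul_top [TopologicalSpace M] (hM : TopMod.IsDeduced A M) (J : Ideal A)
    (hJ : IsOpen (J : Set A)) : IsOpen ((J • ⊤ : Submodule A M) : Set M) := by
  haveI := hM.1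
  exact AddSubgroup.isOpen_of_mem_nhds (J • ⊤ : Submodule A M).toAddSubgroup (hM.2.mem_of_mem hJ)

theorem isClosed_smul_top [TopologicalSpace M] (hM : TopMod.IsDeduced A M) (J : Ideal A)
    (hJ : IsOpen (J : Set A)) : IsClosed ((J • ⊤ : Submodule A M) : Set M) := by
  haveI := hM.1
  exact AddSubgroup.isClosed_of_isOpen (J • ⊤ : Submodule A M).toAddSubgroup
    (isOpen_smul_top hM J hJ)

/-- separation: an element in all `𝔍 n • M` is zero. -/
theorem eq_zero_of_forall_mem [TopologicalSpace M] [T1Space M] (hM : TopMod.IsDeduced A M)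
    (𝔍 : ℕ → Ideal A)
    (h𝔍basis : (nhds (0 : A)).HasBasis (fun _ : ℕ => True) (fun n => (𝔍 n : Set A)))
    (x : M) (hx : ∀ n, x ∈ (𝔍 n • ⊤ : Submodule A M)) : x = 0 := by
  by_contra hne
  have h0 : ({x}ᶜ : Set M) ∈ nhds (0 : M) :=
    isOpen_compl_singleton.mem_nhds (by simpa using Ne.symm hne)
  obtain ⟨J, hJ, hJle⟩ := hM.2.mem_iff.mp h0
  obtain ⟨k, -, hk⟩ := h𝔍basis.mem_iff.mp (hJ.mem_nhds J.zero_mem)
  have : x ∈ (J • ⊤ : Submodule A M) :=
    Submodule.smul_mono_left (show 𝔍 k ≤ J from hk) (hx k)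
  exact hJle this rfl

/-- a sequence with `x m - x n ∈ 𝔍 n M` for `n ≤ m` converges, with the limit congruent to `x n`
modulo `𝔍 n M`. -/
theorem exists_limit [UniformSpace M] [IsUniformAddGroup M] [CompleteSpace M]
    (hM : TopMod.IsDeduced A M)
    (𝔍 : ℕ → Ideal A) (h𝔍open : ∀ n, IsOpen (𝔍 n : Set A))
    (h𝔍basis : (nhds (0 : A)).HasBasis (fun _ : ℕ => True) (fun n => (𝔍 n : Set A)))
    (x : ℕ → M) (hx : ∀ n m, n ≤ m → x m - x n ∈ (𝔍 n • ⊤ : Submodule A M)) :
    ∃ l : M, ∀ n, l - x n ∈ (𝔍 n • ⊤ : Submodule A M) := by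
  have hb := hM.2.comap (fun p : M × M => p.2 - p.1)
  rw [← uniformity_eq_comap_nhds_zero] at hb
  have hc : CauchySeq x := by
    rw [hb.cauchySeq_iff]
    intro J hJ
    obtain ⟨k, -, hk⟩ := h𝔍basis.mem_iff.mp (hJ.mem_nhds J.zero_mem)
    refine ⟨k, fun m hm n hn => ?_⟩
    change x n - x m ∈ (J • ⊤ : Submodule A M)
    have h1 := hx k n hn
    have h2 := hx k m hm
    have h3 : x n - x m = (x n - x k) - (x m - x k) := by abel
    rw [h3]
    exact Submodule.smul_mono_left (show 𝔍 k ≤ J from hk) (Submodule.sub_mem _ h1 h2)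
  obtain ⟨l, hl⟩ := cauchySeq_tendsto_of_complete hc
  refine ⟨l, fun n => ?_⟩
  have ht : Tendsto (fun m => x m - x n) atTop (nhds (l - x n)) := hl.sub_const (x n)
  refine (isClosed_smul_top hM (𝔍 n) (h𝔍open n)).mem_of_tendsto ht ?_
  filter_upwards [eventually_ge_atTop n] with m hm
  exact hx n m hm

/-- a compatible family of linear maps `N → M / 𝔍 n M` comes from a linear map `N → M` when `M` is
Hausdorff and complete. -/
theorem exists_limit_map [UniformSpace M] [IsUniformAddGroup M] [CompleteSpace M] [T2Space M]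
    {N : Type w} [AddCommGroup N] [Module A N]
    (hM : TopMod.IsDeduced A M)
    (𝔍 : ℕ → Ideal A) (h𝔍open : ∀ n, IsOpen (𝔍 n : Set A))
    (h𝔍basis : (nhds (0 : A)).HasBasis (fun _ : ℕ => True) (fun n => (𝔍 n : Set A)))
    (wn : ∀ n, N →ₗ[A] M ⧸ (𝔍 n • ⊤ : Submodule A M))
    (hcompat : ∀ n y (x : M), (Submodule.Quotient.mk x : M ⧸ (𝔍 (n + 1) • ⊤ : Submodule A M)) =
      wn (n + 1) y → (Submodule.Quotient.mk x : M ⧸ (𝔍 n • ⊤ : Submodule A M)) = wn n y) :
    ∃ w : N →ₗ[A] M, ∀ n y, (Submodule.Quotient.mk (w y) : M ⧸ (𝔍 n • ⊤ : Submodule A M)) = wn n y := by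
  have hcompat' : ∀ n m, n ≤ m → ∀ y (x : M),
      (Submodule.Quotient.mk x : M ⧸ (𝔍 m • ⊤ : Submodule A M)) = wn m y →
      (Submodule.Quotient.mk x : M ⧸ (𝔍 n • ⊤ : Submodule A M)) = wn n y := by
    intro n m hnm
    induction m, hnm using Nat.le_induction with
    | base => intro y x h; exact h
    | succ m hm ih => intro y x h; exact ih y x (hcompat m y x h)
  have hex : ∀ y : N, ∃ l : M, ∀ n,
      (Submodule.Quotient.mk l : M ⧸ (𝔍 n • ⊤ : Submodule A M)) = wn n y := by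
    intro y
    choose x hx using fun n => Submodule.Quotient.mk_surjective (𝔍 n • ⊤ : Submodule A M) (wn n y)
    have hsub : ∀ n m, n ≤ m → x m - x n ∈ (𝔍 n • ⊤ : Submodule A M) := by
      intro n m hnm
      rw [← Submodule.Quotient.eq, hx n]
      exact hcompat' n m hnm y (x m) (hx m)
    obtain ⟨l, hl⟩ := exists_limit hM 𝔍 h𝔍open h𝔍basis x hsub
    refine ⟨l, fun n => ?_⟩
    rw [← hx n, Submodule.Quotient.eq]
    exact hl n
  choose w₀ hw₀ using hex
  have huniq : ∀ a b : M, (∀ n, (Submodule.Quotient.mk a : M ⧸ (𝔍 n • ⊤ : Submodule A M)) =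
      Submodule.Quotient.mk b) → a = b := by
    intro a b h
    have := eq_zero_of_forall_mem hM 𝔍 h𝔍basis (a - b)
      (fun n => (Submodule.Quotient.eq _).mp (h n))
    exact sub_eq_zero.mp this
  refine ⟨{ toFun := w₀, map_add' := ?_, map_smul' := ?_ }, fun n y => hw₀ y n⟩
  · intro y y'
    refine huniq _ _ fun n => ?_
    rw [Submodule.Quotient.mk_add, hw₀, hw₀, hw₀, map_add]
  · intro a y
    refine huniq _ _ fun n => ?_
    rw [RingHom.id_apply, Submodule.Quotient.mk_smul, hw₀, hw₀, map_smul]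

end Top

section Alg

variable {A : Type u} {M : Type v} {N : Type w} [CommRing A] [AddCommGroup M] [Module A M]
  [AddCommGroup N] [Module A N]

/-- the inductive step: a left inverse modulo `J` lifts to a compatible left inverse modulo `J' ≤ J`
when the cokernel is projective modulo `J'` and some left inverse modulo `J'` exists. -/
theorem exists_compatible_lift (J J' : Ideal A) (hJ : J' ≤ J) (u : M →ₗ[A] N)
    (hC : Module.Projective (A ⧸ J') ((N ⧸ LinearMap.range u) ⧸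
      (J' • (⊤ : Submodule A (N ⧸ LinearMap.range u)))))
    (wn : N →ₗ[A] M ⧸ (J • ⊤ : Submodule A M))
    (hwn : ∀ x, wn (u x) = Submodule.Quotient.mk x)
    (w' : N →ₗ[A] M ⧸ (J' • ⊤ : Submodule A M)) (hw' : ∀ x, w' (u x) = Submodule.Quotient.mk x) :
    ∃ w'' : N →ₗ[A] M ⧸ (J' • ⊤ : Submodule A M), (∀ x, w'' (u x) = Submodule.Quotient.mk x) ∧
      ∀ y (x : M), (Submodule.Quotient.mk x : M ⧸ (J' • ⊤ : Submodule A M)) = w'' y →
        (Submodule.Quotient.mk x : M ⧸ (J • ⊤ : Submodule A M)) = wn y := by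
  have hle : (J' • ⊤ : Submodule A M) ≤ (J • ⊤ : Submodule A M) := Submodule.smul_mono_left hJ
  let π : (M ⧸ (J' • ⊤ : Submodule A M)) →ₗ[A] (M ⧸ (J • ⊤ : Submodule A M)) :=
    Submodule.mapQ _ _ LinearMap.id (by simpa using hle)
  have hπ : ∀ x : M, π (Submodule.Quotient.mk x) = Submodule.Quotient.mk x := fun x => rfl
  have hπs : Function.Surjective π := by
    intro y
    obtain ⟨x, rfl⟩ := Submodule.Quotient.mk_surjective _ y
    exact ⟨Submodule.Quotient.mk x, rfl⟩
  have hY : Module.IsTorsionBySet A (M ⧸ (J • ⊤ : Submodule A M)) J' := by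
    rw [Module.isTorsionBySet_quotient_iff]
    intro x a ha
    exact Submodule.smul_mem_smul (hJ ha) Submodule.mem_top
  let d : N →ₗ[A] M ⧸ (J • ⊤ : Submodule A M) := π ∘ₗ w' - wn
  have hd : ∀ x, d (u x) = 0 := by
    intro x
    change π (w' (u x)) - wn (u x) = 0
    rw [hw', hwn, hπ, sub_self]
  let dbar : (N ⧸ LinearMap.range u) →ₗ[A] M ⧸ (J • ⊤ : Submodule A M) :=
    Submodule.liftQ _ d (by rintro _ ⟨x, rfl⟩; exact hd x)
  have hdbar : (J' • ⊤ : Submodule A (N ⧸ LinearMap.range u)) ≤ LinearMap.ker dbar := by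
    rw [Submodule.smul_le]
    intro a ha c _
    rw [LinearMap.mem_ker, map_smul]
    exact @hY (dbar c) ⟨a, ha⟩
  let dbb : ((N ⧸ LinearMap.range u) ⧸ (J' • (⊤ : Submodule A (N ⧸ LinearMap.range u)))) →ₗ[A]
      M ⧸ (J • ⊤ : Submodule A M) := Submodule.liftQ _ dbar hdbar
  obtain ⟨h, hh⟩ := FLInv.lift_of_projective J'
    (Module.isTorsionBySet_quotient_ideal_smul (N ⧸ LinearMap.range u) J')
    (Module.isTorsionBySet_quotient_ideal_smul M J') hY hC π hπs dbb
  refine ⟨w' - h ∘ₗ (Submodule.mkQ _ ∘ₗ Submodule.mkQ (LinearMap.range u)), fun x => ?_,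
    fun y x hx => ?_⟩
  · have h0 : (Submodule.mkQ (LinearMap.range u)) (u x) = 0 := by
      rw [Submodule.mkQ_apply, Submodule.Quotient.mk_eq_zero]
      exact ⟨x, rfl⟩
    simp only [LinearMap.sub_apply, LinearMap.comp_apply, h0, _root_.map_zero, sub_zero, hw']
  · rw [← hπ, hx]
    simp only [LinearMap.sub_apply, LinearMap.comp_apply, map_sub, hh]
    change π (w' y) - d y = wn y
    change π (w' y) - (π (w' y) - wn y) = wn y
    abel

end Alg

/-- formal left invertibility gives left inverses modulo every open ideal. -/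
theorem exists_leftInverse_mod_of_formally {A : Type u} {M : Type v} {N : Type w}
    [CommRing A] [TopologicalSpace A] [AddCommGroup M] [Module A M] [TopologicalSpace M]
    [AddCommGroup N] [Module A N] [TopologicalSpace N]
    (hM : TopMod.IsDeduced A M) (u : M →L[A] N) (h : TopMod.IsFormallyLeftInvertible u)
    (J : Ideal A) (hJ : IsOpen (J : Set A)) :
    ∃ w : N →ₗ[A] M ⧸ (J • ⊤ : Submodule A M), ∀ x : M, w (u.toLinearMap x) = Submodule.Quotient.mk x := by
  letI : TopologicalSpace (M ⧸ (J • ⊤ : Submodule A M)) := ⊥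
  haveI : DiscreteTopology (M ⧸ (J • ⊤ : Submodule A M)) := ⟨rfl⟩
  have hc : Continuous (Submodule.mkQ (J • ⊤ : Submodule A M)) :=
    FLInv.continuous_of_le_ker hM _ J hJ (by simp)
  obtain ⟨w, hw⟩ := h (M ⧸ (J • ⊤ : Submodule A M)) ⟨Submodule.mkQ _, hc⟩
  exact ⟨w.toLinearMap, fun x => hw x⟩

/-- a linear left inverse gives formal left invertibility. -/
theorem formally_of_leftInverse {A : Type u} {M : Type v} {N : Type w}
    [CommRing A] [TopologicalSpace A] [AddCommGroup M] [Module A M] [TopologicalSpace M]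
    [AddCommGroup N] [Module A N] [TopologicalSpace N]
    (hM : TopMod.IsDeduced A M) (hN : TopMod.IsDeduced A N) (u : M →L[A] N)
    (w : N →ₗ[A] M) (hw : ∀ x : M, w (u x) = x) : TopMod.IsFormallyLeftInvertible u := by
  intro E _ _ _ _ v
  obtain ⟨J, hJ, hJle⟩ := FLInv.exists_le_ker hM v
  have hc : Continuous (v.toLinearMap ∘ₗ w) := by
    refine FLInv.continuous_of_le_ker hN _ J hJ ?_
    rw [Submodule.smul_le]
    intro a ha y _
    rw [LinearMap.mem_ker, LinearMap.comp_apply, map_smul]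
    exact hJle (Submodule.smul_mem_smul ha Submodule.mem_top)
  refine ⟨⟨v.toLinearMap ∘ₗ w, hc⟩, fun x => ?_⟩
  change v (w (u x)) = v x
  rw [hw]

theorem s5838 {A : Type u} {M : Type v} {N : Type w}
    [CommRing A] [TopologicalSpace A] [AddCommGroup M] [Module A M] [UniformSpace M] [IsUniformAddGroup M]
    [CompleteSpace M] [T2Space M] [AddCommGroup N] [Module A N] [TopologicalSpace N]
    (𝔍 : ℕ → Ideal A) (h𝔍open : ∀ n, IsOpen (𝔍 n : Set A)) (h𝔍anti : Antitone 𝔍)
    (h𝔍basis : (nhds (0 : A)).HasBasis (fun _ : ℕ => True) (fun n => (𝔍 n : Set A)))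
    (hM : TopMod.IsDeduced A M) (hN : TopMod.IsDeduced A N) (u : M →L[A] N)
    (hcoker : ∀ n, Module.Projective (A ⧸ 𝔍 n)
      ((N ⧸ LinearMap.range u.toLinearMap) ⧸ (𝔍 n • (⊤ : Submodule A (N ⧸ LinearMap.range u.toLinearMap))))) :
    TopMod.IsFormallyLeftInvertible u ↔ ∃ w : N →ₗ[A] M, ∀ x : M, w (u x) = x := by
  constructor
  · intro h
    have hex := fun n => exists_leftInverse_mod_of_formally hM u h (𝔍 n) (h𝔍open n)
    have step : ∀ n (wn : {w : N →ₗ[A] M ⧸ (𝔍 n • ⊤ : Submodule A M) //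
        ∀ x, w (u.toLinearMap x) = Submodule.Quotient.mk x}),
        ∃ w'' : {w : N →ₗ[A] M ⧸ (𝔍 (n + 1) • ⊤ : Submodule A M) //
          ∀ x, w (u.toLinearMap x) = Submodule.Quotient.mk x},
          ∀ y (x : M), (Submodule.Quotient.mk x : M ⧸ (𝔍 (n + 1) • ⊤ : Submodule A M)) = w''.1 y →
            (Submodule.Quotient.mk x : M ⧸ (𝔍 n • ⊤ : Submodule A M)) = wn.1 y := by
      intro n wn
      obtain ⟨w', hw'⟩ := hex (n + 1)
      obtain ⟨w'', h1, h2⟩ := exists_compatible_lift (𝔍 n) (𝔍 (n + 1)) (h𝔍anti (Nat.le_succ n))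
        u.toLinearMap (hcoker (n + 1)) wn.1 wn.2 w' hw'
      exact ⟨⟨w'', h1⟩, h2⟩
    choose next hnext using step
    obtain ⟨w0, hw0⟩ := hex 0
    let seq : ∀ n, {w : N →ₗ[A] M ⧸ (𝔍 n • ⊤ : Submodule A M) //
        ∀ x, w (u.toLinearMap x) = Submodule.Quotient.mk x} :=
      fun n => Nat.rec ⟨w0, hw0⟩ (fun n w => next n w) n
    obtain ⟨w, hw⟩ := exists_limit_map hM 𝔍 h𝔍open h𝔍basis (fun n => (seq n).1)
      (fun n y x hx => hnext n (seq n) y x hx)
    refine ⟨w, fun x => ?_⟩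
    have := eq_zero_of_forall_mem hM 𝔍 h𝔍basis (w (u x) - x) (fun n => by
      rw [← Submodule.Quotient.eq, hw n (u x)]
      exact (seq n).2 x)
    exact sub_eq_zero.mp this
  · rintro ⟨w, hw⟩
    exact formally_of_leftInverse hM hN u w hw

/-- if `u` has a left inverse modulo `J` and `N / J N` is projective over `A / J`, then so is
`C / J C` for the cokernel `C` of `u`. -/
theorem projective_coker {A : Type u} {M : Type v} {N : Type w} [CommRing A] [AddCommGroup M]
    [Module A M] [AddCommGroup N] [Module A N] (J : Ideal A) (u : M →ₗ[A] N)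
    (hproj : Module.Projective (A ⧸ J) (N ⧸ (J • (⊤ : Submodule A N))))
    (r : N →ₗ[A] M ⧸ (J • ⊤ : Submodule A M)) (hr : ∀ x, r (u x) = Submodule.Quotient.mk x) :
    Module.Projective (A ⧸ J) ((N ⧸ LinearMap.range u) ⧸
      (J • (⊤ : Submodule A (N ⧸ LinearMap.range u)))) := by
  -- `s : N/JN → C/JC`
  let s : (N ⧸ (J • ⊤ : Submodule A N)) →ₗ[A]
      ((N ⧸ LinearMap.range u) ⧸ (J • (⊤ : Submodule A (N ⧸ LinearMap.range u)))) :=
    Submodule.mapQ _ _ (Submodule.mkQ (LinearMap.range u)) (by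
      rw [Submodule.smul_le]
      intro a ha y _
      rw [Submodule.mem_comap, map_smul]
      exact Submodule.smul_mem_smul ha Submodule.mem_top)
  have hs : ∀ y : N, s (Submodule.Quotient.mk y) =
      Submodule.Quotient.mk (Submodule.Quotient.mk y) := fun y => rfl
  let ubar : (M ⧸ (J • ⊤ : Submodule A M)) →ₗ[A] (N ⧸ (J • ⊤ : Submodule A N)) :=
    Submodule.mapQ _ _ u (by
      rw [Submodule.smul_le]
      intro a ha x _
      rw [Submodule.mem_comap, map_smul]
      exact Submodule.smul_mem_smul ha Submodule.mem_top)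
  have hubar : ∀ x : M, ubar (Submodule.Quotient.mk x) = Submodule.Quotient.mk (u x) := fun x => rfl
  have hsu : ∀ z, s (ubar z) = 0 := by
    intro z
    obtain ⟨x, rfl⟩ := Submodule.Quotient.mk_surjective _ z
    rw [hubar, hs]
    have : (Submodule.Quotient.mk (u x) : N ⧸ LinearMap.range u) = 0 := by
      rw [Submodule.Quotient.mk_eq_zero]
      exact ⟨x, rfl⟩
    rw [this, Submodule.Quotient.mk_zero]
  -- `e : N → N/JN`, `y ↦ y - u (r y)`
  let e : N →ₗ[A] (N ⧸ (J • ⊤ : Submodule A N)) := Submodule.mkQ _ - ubar ∘ₗ r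
  have he : ∀ x, e (u x) = 0 := by
    intro x
    change Submodule.Quotient.mk (u x) - ubar (r (u x)) = 0
    rw [hr, hubar, sub_self]
  let i₀ : (N ⧸ LinearMap.range u) →ₗ[A] (N ⧸ (J • ⊤ : Submodule A N)) :=
    Submodule.liftQ _ e (by rintro _ ⟨x, rfl⟩; exact he x)
  have hi₀ : (J • ⊤ : Submodule A (N ⧸ LinearMap.range u)) ≤ LinearMap.ker i₀ := by
    rw [Submodule.smul_le]
    intro a ha c _
    rw [LinearMap.mem_ker, map_smul]
    exact @Module.isTorsionBySet_quotient_ideal_smul A N _ _ _ J (i₀ c) ⟨a, ha⟩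
  let i : ((N ⧸ LinearMap.range u) ⧸ (J • (⊤ : Submodule A (N ⧸ LinearMap.range u)))) →ₗ[A]
      (N ⧸ (J • ⊤ : Submodule A N)) := Submodule.liftQ _ i₀ hi₀
  have hsi : ∀ c, s (i c) = c := by
    intro c
    obtain ⟨c', rfl⟩ := Submodule.Quotient.mk_surjective _ c
    obtain ⟨y, rfl⟩ := Submodule.Quotient.mk_surjective _ c'
    change s (Submodule.Quotient.mk y - ubar (r y)) = _
    rw [map_sub, hsu, sub_zero, hs]
  let s' : (N ⧸ (J • ⊤ : Submodule A N)) →ₗ[A ⧸ J]
      ((N ⧸ LinearMap.range u) ⧸ (J • (⊤ : Submodule A (N ⧸ LinearMap.range u)))) :=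
    { toFun := s
      map_add' := s.map_add
      map_smul' := by
        intro c x
        obtain ⟨a, rfl⟩ := Ideal.Quotient.mk_surjective c
        exact s.map_smul a x }
  let i' : ((N ⧸ LinearMap.range u) ⧸ (J • (⊤ : Submodule A (N ⧸ LinearMap.range u)))) →ₗ[A ⧸ J]
      (N ⧸ (J • ⊤ : Submodule A N)) :=
    { toFun := i
      map_add' := i.map_add
      map_smul' := by
        intro c x
        obtain ⟨a, rfl⟩ := Ideal.Quotient.mk_surjective c
        exact i.map_smul a x }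
  exact Module.Projective.of_split i' s' (LinearMap.ext hsi)

theorem s5839 {A : Type u} {M : Type v} {N : Type w}
    [CommRing A] [TopologicalSpace A] [AddCommGroup M] [Module A M] [UniformSpace M] [IsUniformAddGroup M]
    [CompleteSpace M] [T2Space M] [AddCommGroup N] [Module A N] [TopologicalSpace N]
    (𝔍 : ℕ → Ideal A) (h𝔍open : ∀ n, IsOpen (𝔍 n : Set A)) (h𝔍anti : Antitone 𝔍)
    (h𝔍basis : (nhds (0 : A)).HasBasis (fun _ : ℕ => True) (fun n => (𝔍 n : Set A)))
    (hM : TopMod.IsDeduced A M) (hN : TopMod.IsDeduced A N) (u : M →L[A] N)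
    (hA : LinTop.IsPreadmissible A) (𝔏 : Ideal A) (h𝔏 : LinTop.IsIdealOfDefinition A 𝔏)
    (hproj : ∀ J : Ideal A, IsOpen (J : Set A) → Module.Projective (A ⧸ J) (N ⧸ (J • (⊤ : Submodule A N)))) :
    (∃ w : N →ₗ[A] M, ∀ x : M, w (u x) = x) ↔
      ∃ w₀ : N →ₗ[A] M ⧸ (𝔏 • ⊤ : Submodule A M), ∀ x : M, w₀ (u x) = Submodule.Quotient.mk x := by
  constructor
  · rintro ⟨w, hw⟩
    refine ⟨Submodule.mkQ _ ∘ₗ w, fun x => ?_⟩
    change Submodule.Quotient.mk (w (u x)) = _
    rw [hw]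
  · intro h
    have hfl : TopMod.IsFormallyLeftInvertible u :=
      (FLInv.s5827 hA 𝔏 h𝔏 hM hN hproj u).mpr h
    refine (s5838 𝔍 h𝔍open h𝔍anti h𝔍basis hM hN u (fun n => ?_)).mp hfl
    obtain ⟨r, hr⟩ := exists_leftInverse_mod_of_formally hM u hfl (𝔍 n) (h𝔍open n)
    exact projective_coker (𝔍 n) u.toLinearMap (hproj _ (h𝔍open n)) r hr

end Groth.Agent.Helper2.FLInv2
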