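import Mathlib
import Groth.Prelude.Def_SGA3b
import Groth.Agent.Helper2.FlatAtElem

/-!
# Pointwise flatness, elementwise; tensor products
-/

set_option autoImplicit false
open Function TensorProduct LinearMap
universe u

namespace Groth.Agent.Helper2.FLoc
open Groth.Agent.Helper2.FlatAtElem

section defs
variable (R : Type u) [CommRing R] {E : Type u} [CommRing E] [Algebra R E]

/-- elementwise flatness of `E` over `R` at the ideal `q` -/
def FlatAt (q : Ideal E) : Prop :=
  ∀ (X' X : Type u) [AddCommGroup X'] [AddCommGroup X] [Module R X'] [Module R X]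
    (ι : X' →ₗ[R] X), Injective ι → ∀ v : E ⊗[R] X', lTensor E ι v = 0 → ∃ s : E, s ∉ q ∧ s • v = 0

lemma flatAt_iff (q : Ideal E) [q.IsPrime] :
    FlatAt R q ↔ Module.Flat R (LocalizedModule q.primeCompl E) := by
  rw [flat_localized_iff]
  constructor
  · intro h X' X _ _ _ _ ι hι v hv
    obtain ⟨s, hs, hsv⟩ := h X' X ι hι v hv
    exact ⟨⟨s, hs⟩, hsv⟩
  · intro h X' X _ _ _ _ ι hι v hv
    obtain ⟨s, hsv⟩ := h X' X ι hι v hv
    exact ⟨s.1, s.2, hsv⟩

end defs

section aux
variable {R : Type u} [CommRing R] (Q : Type u) [AddCommGroup Q] [Module R Q]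
  {M : Type u} [AddCommGroup M] [Module R M]

lemma exact_lTensor_quot (K : Submodule R M) :
    Function.Exact (lTensor Q K.subtype) (lTensor Q K.mkQ) :=
  lTensor_exact Q (LinearMap.exact_subtype_mkQ K) (Submodule.mkQ_surjective K)

end aux

section tensor
variable {R : Type u} [CommRing R] {E₁ E₂ : Type u} [CommRing E₁] [CommRing E₂] [Algebra R E₁]
  [Algebra R E₂]

/-- the reassociation `(E₁ ⊗ E₂) ⊗ X ≃ E₂ ⊗ (E₁ ⊗ X)` -/
noncomputable def reassoc (X : Type u) [AddCommGroup X] [Module R X] :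
    (E₁ ⊗[R] E₂) ⊗[R] X ≃ₗ[R] E₂ ⊗[R] (E₁ ⊗[R] X) :=
  (LinearEquiv.rTensor X (TensorProduct.comm R E₁ E₂)) ≪≫ₗ TensorProduct.assoc R E₂ E₁ X

@[simp] lemma reassoc_tmul (X : Type u) [AddCommGroup X] [Module R X] (a : E₁) (b : E₂) (x : X) :
    reassoc (R := R) (E₁ := E₁) (E₂ := E₂) X ((a ⊗ₜ b) ⊗ₜ x) = b ⊗ₜ (a ⊗ₜ x) := by
  simp [reassoc]

/-- multiplication by `t` on `E₁ ⊗ X`, as an `R`-linear map -/
noncomputable def mulL (X : Type u) [AddCommGroup X] [Module R X] (t : E₁) :
    E₁ ⊗[R] X →ₗ[R] E₁ ⊗[R] X :=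
  (Algebra.lsmul R R (E₁ ⊗[R] X) t)

@[simp] lemma mulL_apply (X : Type u) [AddCommGroup X] [Module R X] (t : E₁) (m : E₁ ⊗[R] X) :
    mulL X t m = t • m := rfl

lemma reassoc_smul (X : Type u) [AddCommGroup X] [Module R X] (t₁ : E₁) (t₂ : E₂)
    (u : (E₁ ⊗[R] E₂) ⊗[R] X) :
    reassoc X ((t₁ ⊗ₜ[R] t₂) • u) = t₂ • (lTensor E₂ (mulL X t₁) (reassoc X u)) := by
  induction u using TensorProduct.induction_on with
  | zero => simp
  | add x y hx hy => simp only [smul_add, map_add, hx, hy]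
  | tmul e x =>
    induction e using TensorProduct.induction_on with
    | zero => simp
    | add a b ha hb => simp only [add_tmul, smul_add, map_add, ha, hb]
    | tmul a b =>
      simp [TensorProduct.smul_tmul', reassoc_tmul]

lemma reassoc_lTensor {X' X : Type u} [AddCommGroup X'] [AddCommGroup X] [Module R X']
    [Module R X] (ι : X' →ₗ[R] X) (u : (E₁ ⊗[R] E₂) ⊗[R] X') :
    reassoc X (lTensor (E₁ ⊗[R] E₂) ι u) = lTensor E₂ (lTensor E₁ ι) (reassoc X' u) := by
  induction u using TensorProduct.induction_on with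
  | zero => simp
  | add x y hx hy => simp only [map_add, hx, hy]
  | tmul e x =>
    induction e using TensorProduct.induction_on with
    | zero => simp
    | add a b ha hb => simp only [add_tmul, map_add, ha, hb]
    | tmul a b => simp [reassoc_tmul]

/-- **flatness of a tensor product at a prime lying over flat points** -/
theorem flatAt_tensor (z : Ideal (E₁ ⊗[R] E₂)) [z.IsPrime]
    (h₁ : FlatAt R (z.comap (Algebra.TensorProduct.includeLeft : E₁ →ₐ[R] E₁ ⊗[R] E₂)))
    (h₂ : FlatAt R (z.comap (Algebra.TensorProduct.includeRight : E₂ →ₐ[R] E₁ ⊗[R] E₂))) :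
    FlatAt R z := by
  intro X' X _ _ _ _ ι hι u hu
  -- the kernel of `E₁ ⊗ ι`
  let ι₁ : E₁ ⊗[R] X' →ₗ[R] E₁ ⊗[R] X := lTensor E₁ ι
  let K : Submodule R (E₁ ⊗[R] X') := LinearMap.ker ι₁
  let p : E₁ ⊗[R] X' →ₗ[R] (E₁ ⊗[R] X') ⧸ K := K.mkQ
  let j : (E₁ ⊗[R] X') ⧸ K →ₗ[R] E₁ ⊗[R] X := K.liftQ ι₁ le_rfl
  have hj : Injective j := by
    rw [← LinearMap.ker_eq_bot]
    exact Submodule.ker_liftQ_eq_bot K ι₁ le_rfl le_rfl
  have hjp : j ∘ₗ p = ι₁ := Submodule.liftQ_mkQ K ι₁ le_rfl
  set u' := reassoc X' u with hu'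
  have h0 : lTensor E₂ ι₁ u' = 0 := by
    rw [hu', ← reassoc_lTensor, hu, map_zero]
  have h1 : lTensor E₂ j (lTensor E₂ p u') = 0 := by
    rw [← LinearMap.comp_apply, ← LinearMap.lTensor_comp, hjp]
    exact h0
  obtain ⟨t₂, ht₂, ht₂u⟩ := h₂ _ _ j hj _ h1
  -- `t₂ • u'` comes from `E₂ ⊗ K`
  have hex : Function.Exact (lTensor E₂ K.subtype) (lTensor E₂ p) := exact_lTensor_quot E₂ K
  have h2 : lTensor E₂ p (t₂ • u') = 0 := by
    rw [← ht₂u]
    induction u' using TensorProduct.induction_on with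
    | zero => simp
    | add x y hx hy => simp only [smul_add, map_add, hx, hy]
    | tmul b m => simp [TensorProduct.smul_tmul']
  obtain ⟨y, hy⟩ := (hex _).1 h2
  -- kill `y` by an element outside `q₁`
  have hkill : ∀ y : E₂ ⊗[R] K, ∃ t₁ : E₁,
      t₁ ∉ z.comap (Algebra.TensorProduct.includeLeft : E₁ →ₐ[R] E₁ ⊗[R] E₂) ∧
      lTensor E₂ (mulL X' t₁) (lTensor E₂ K.subtype y) = 0 := by
    intro y
    induction y using TensorProduct.induction_on with
    | zero => exact ⟨1, fun h => (Ideal.IsPrime.ne_top inferInstance)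
        ((Ideal.eq_top_iff_one _).mpr h), by simp⟩
    | add a b ha hb =>
      obtain ⟨s, hs, hsa⟩ := ha
      obtain ⟨t, ht, htb⟩ := hb
      refine ⟨s * t, fun h => ?_, ?_⟩
      · rcases (Ideal.IsPrime.mem_or_mem inferInstance h) with h | h
        · exact hs h
        · exact ht h
      · have hmul : ∀ w : E₂ ⊗[R] (E₁ ⊗[R] X'), lTensor E₂ (mulL X' (s * t)) w =
            lTensor E₂ (mulL X' t) (lTensor E₂ (mulL X' s) w) := by
          intro w
          rw [← LinearMap.comp_apply, ← LinearMap.lTensor_comp]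
          congr 2
          ext m
          simp [mul_smul, mul_comm s t]
        have hmul' : ∀ w : E₂ ⊗[R] (E₁ ⊗[R] X'), lTensor E₂ (mulL X' (s * t)) w =
            lTensor E₂ (mulL X' s) (lTensor E₂ (mulL X' t) w) := by
          intro w
          rw [← LinearMap.comp_apply, ← LinearMap.lTensor_comp]
          congr 2
          ext m
          simp [mul_smul]
        rw [map_add, map_add, hmul, hsa, map_zero, hmul', htb, map_zero, add_zero]
    | tmul b κ =>
      obtain ⟨t₁, ht₁, hκ⟩ := h₁ X' X ι hι (κ : E₁ ⊗[R] X') κ.2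
      exact ⟨t₁, ht₁, by simp [hκ]⟩
  obtain ⟨t₁, ht₁, ht₁y⟩ := hkill y
  refine ⟨t₁ ⊗ₜ t₂, fun h => ?_, ?_⟩
  · have : (t₁ ⊗ₜ[R] t₂ : E₁ ⊗[R] E₂) = (t₁ ⊗ₜ 1) * (1 ⊗ₜ t₂) := by simp
    rw [this] at h
    rcases (Ideal.IsPrime.mem_or_mem inferInstance h) with h | h
    · exact ht₁ h
    · exact ht₂ h
  · apply (reassoc (R := R) (E₁ := E₁) (E₂ := E₂) X').injective
    rw [reassoc_smul, map_zero, ← hu']
    have : t₂ • (lTensor E₂ (mulL X' t₁)) u' = lTensor E₂ (mulL X' t₁) (t₂ • u') := by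
      induction u' using TensorProduct.induction_on with
      | zero => simp
      | add x y hx hy => simp only [smul_add, map_add, hx, hy]
      | tmul b m => simp [TensorProduct.smul_tmul']
    rw [this, ← hy, ht₁y]

end tensor

section equiv
variable {R : Type u} [CommRing R] {E E' : Type u} [CommRing E] [CommRing E'] [Algebra R E]
  [Algebra R E']

lemma rTensor_algHom_smul (f : E →ₐ[R] E') (X : Type u) [AddCommGroup X] [Module R X] (s : E)
    (v : E ⊗[R] X) :
    rTensor X f.toLinearMap (s • v) = f s • rTensor X f.toLinearMap v := by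
  induction v using TensorProduct.induction_on with
  | zero => simp
  | add x y hx hy => simp only [smul_add, map_add, hx, hy]
  | tmul e x => simp [TensorProduct.smul_tmul']

lemma rTensor_lTensor_comm (f : E →ₐ[R] E') {X' X : Type u} [AddCommGroup X'] [AddCommGroup X]
    [Module R X'] [Module R X] (ι : X' →ₗ[R] X) (v : E ⊗[R] X') :
    lTensor E' ι (rTensor X' f.toLinearMap v) = rTensor X f.toLinearMap (lTensor E ι v) := by
  induction v using TensorProduct.induction_on with
  | zero => simp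
  | add x y hx hy => simp only [map_add, hx, hy]
  | tmul e x => simp

/-- pointwise flatness is transported by algebra isomorphisms -/
theorem flatAt_comap_equiv (f : E ≃ₐ[R] E') (q' : Ideal E') (h : FlatAt R q') :
    FlatAt R (q'.comap (f : E →ₐ[R] E')) := by
  intro X' X _ _ _ _ ι hι v hv
  have h1 : lTensor E' ι (rTensor X' (f : E →ₐ[R] E').toLinearMap v) = 0 := by
    rw [rTensor_lTensor_comm, hv, map_zero]
  obtain ⟨s', hs', hs'v⟩ := h X' X ι hι _ h1
  refine ⟨f.symm s', fun hmem => hs' ?_, ?_⟩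
  · have : (f : E →ₐ[R] E') (f.symm s') ∈ q' := hmem
    simpa using this
  · have hinj : Injective (rTensor X' (f : E →ₐ[R] E').toLinearMap) := by
      have : rTensor X' (f : E →ₐ[R] E').toLinearMap =
          (LinearEquiv.rTensor X' f.toLinearEquiv).toLinearMap := rfl
      rw [this]
      exact (LinearEquiv.rTensor X' f.toLinearEquiv).injective
    apply hinj
    rw [rTensor_algHom_smul, map_zero]
    have : (f : E →ₐ[R] E') (f.symm s') = s' := by simp
    rw [this]
    exact hs'v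

end equiv

end Groth.Agent.Helper2.FLoc
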