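import Mathlib
import Groth.Prelude.Def_SGA3b
import Groth.Agent.Helper2.FLoc1
import Groth.Agent.Helper2.ConvGrp

/-!
# Pointwise flatness of an affine group: stability under multiplication
-/

set_option autoImplicit false
open Function TensorProduct LinearMap
universe u

namespace Groth.Agent.Helper2.FLoc
open WithConv Bialgebra Coalgebra Groth.Agent.Helper2.ConvGrp

section shear
variable (R : Type u) [CommRing R] (C : Type u) [CommRing C] [HopfAlgebra R C]

/-- first inclusion -/
noncomputable abbrev i₁ : C →ₐ[R] C ⊗[R] C := Algebra.TensorProduct.includeLeft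
/-- second inclusion -/
noncomputable abbrev i₂ : C →ₐ[R] C ⊗[R] C := Algebra.TensorProduct.includeRight

lemma conv_comul : toConv (comulAlgHom R C) = toConv (i₁ R C) * toConv (i₂ R C) := by
  have h := push_mul_eq (R := R) (C := C) (A := C) (toConv (AlgHom.id R C))
  simp only [pushHom_apply, ofConv_toConv, AlgHom.comp_id] at h
  rw [h]
  congr 1
  have : Algebra.TensorProduct.map (AlgHom.id R C) (AlgHom.id R C) = AlgHom.id R (C ⊗[R] C) := by
    ext <;> simp
  rw [this, AlgHom.id_comp]

/-- the shear map `(g, h) ↦ (g, g h)` on coordinate rings -/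
noncomputable def shearHom : C ⊗[R] C →ₐ[R] C ⊗[R] C :=
  Algebra.TensorProduct.productMap (i₁ R C) (comulAlgHom R C)

/-- the inverse shear map `(g, h) ↦ (g, g⁻¹ h)` on coordinate rings -/
noncomputable def shearInv : C ⊗[R] C →ₐ[R] C ⊗[R] C :=
  Algebra.TensorProduct.productMap (i₁ R C) ((toConv (i₁ R C))⁻¹ * toConv (i₂ R C)).ofConv

lemma shearHom_comp_i₁ : (shearHom R C).comp (i₁ R C) = i₁ R C := by
  ext c; simp [shearHom]

lemma shearHom_comp_i₂ : (shearHom R C).comp (i₂ R C) = comulAlgHom R C := by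
  ext c; simp [shearHom]

lemma shearInv_comp_i₁ : (shearInv R C).comp (i₁ R C) = i₁ R C := by
  ext c; simp [shearInv]

lemma shearInv_comp_i₂ :
    (shearInv R C).comp (i₂ R C) = ((toConv (i₁ R C))⁻¹ * toConv (i₂ R C)).ofConv := by
  ext c; simp [shearInv]

lemma shearHom_comp_shearInv : (shearHom R C).comp (shearInv R C) = AlgHom.id R _ := by
  apply Algebra.TensorProduct.ext
  · show (shearHom R C).comp ((shearInv R C).comp (i₁ R C)) = (AlgHom.id R _).comp (i₁ R C)
    rw [shearInv_comp_i₁, shearHom_comp_i₁, AlgHom.id_comp]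
  · show (shearHom R C).comp ((shearInv R C).comp (i₂ R C)) = (AlgHom.id R _).comp (i₂ R C)
    rw [shearInv_comp_i₂, AlgHom.id_comp]
    have h : pushHom (C := C) (shearHom R C) ((toConv (i₁ R C))⁻¹ * toConv (i₂ R C)) =
        toConv (i₂ R C) := by
      rw [map_mul, map_inv]
      have e1 : pushHom (C := C) (shearHom R C) (toConv (i₁ R C)) = toConv (i₁ R C) := by
        rw [pushHom_apply, ofConv_toConv, shearHom_comp_i₁]
      have e2 : pushHom (C := C) (shearHom R C) (toConv (i₂ R C)) =
          toConv (i₁ R C) * toConv (i₂ R C) := by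
        rw [pushHom_apply, ofConv_toConv, shearHom_comp_i₂, conv_comul]
      rw [e1, e2, inv_mul_cancel_left]
    have h2 := congrArg WithConv.ofConv h
    rw [pushHom_apply, ofConv_toConv, ofConv_toConv] at h2
    exact h2

lemma shearInv_comp_shearHom : (shearInv R C).comp (shearHom R C) = AlgHom.id R _ := by
  apply Algebra.TensorProduct.ext
  · show (shearInv R C).comp ((shearHom R C).comp (i₁ R C)) = (AlgHom.id R _).comp (i₁ R C)
    rw [shearHom_comp_i₁, shearInv_comp_i₁, AlgHom.id_comp]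
  · show (shearInv R C).comp ((shearHom R C).comp (i₂ R C)) = (AlgHom.id R _).comp (i₂ R C)
    rw [shearHom_comp_i₂, AlgHom.id_comp]
    have h : pushHom (C := C) (shearInv R C) (toConv (comulAlgHom R C)) = toConv (i₂ R C) := by
      rw [conv_comul, map_mul]
      have e1 : pushHom (C := C) (shearInv R C) (toConv (i₁ R C)) = toConv (i₁ R C) := by
        rw [pushHom_apply, ofConv_toConv, shearInv_comp_i₁]
      have e2 : pushHom (C := C) (shearInv R C) (toConv (i₂ R C)) =
          (toConv (i₁ R C))⁻¹ * toConv (i₂ R C) := by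
        rw [pushHom_apply, ofConv_toConv, shearInv_comp_i₂, toConv_ofConv]
      rw [e1, e2, mul_inv_cancel_left]
    have h2 := congrArg WithConv.ofConv h
    rw [pushHom_apply, ofConv_toConv, ofConv_toConv] at h2
    exact h2

/-- the shear automorphism -/
noncomputable def shear : C ⊗[R] C ≃ₐ[R] C ⊗[R] C :=
  AlgEquiv.ofAlgHom (shearHom R C) (shearInv R C) (shearHom_comp_shearInv R C)
    (shearInv_comp_shearHom R C)

lemma shear_comp_i₁ : ((shear R C : C ⊗[R] C →ₐ[R] C ⊗[R] C)).comp (i₁ R C) = i₁ R C :=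
  shearHom_comp_i₁ R C

lemma shear_comp_i₂ :
    ((shear R C : C ⊗[R] C →ₐ[R] C ⊗[R] C)).comp (i₂ R C) = comulAlgHom R C :=
  shearHom_comp_i₂ R C

end shear

section descent
variable {R : Type u} [CommRing R] {C : Type u} [CommRing C] [HopfAlgebra R C]

/-- the comparison of the two descriptions of `d • (1 ⊗ v)` -/
lemma assoc_smul_rTensor {X' : Type u} [AddCommGroup X'] [Module R X'] (v : C ⊗[R] X')
    (d : C ⊗[R] C) :
    TensorProduct.assoc R C C X' (d • rTensor X' (i₂ R C).toLinearMap v) =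
      lTensor C ((LinearMap.toSpanSingleton C (C ⊗[R] X') v).restrictScalars R) d := by
  induction d using TensorProduct.induction_on with
  | zero => simp
  | add x y hx hy => simp only [add_smul, map_add, hx, hy]
  | tmul a b =>
    induction v using TensorProduct.induction_on with
    | zero => simp
    | add x y hx hy =>
      simp only [map_add, smul_add, hx, hy, lTensor_tmul, LinearMap.coe_restrictScalars,
        LinearMap.toSpanSingleton_apply, tmul_add]
    | tmul c x =>
      simp [TensorProduct.smul_tmul', LinearMap.toSpanSingleton_apply]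

/-- **descent step**: if `d' ∉ z'` kills `1 ⊗ v` and `C` is flat at the first projection of `z'`,
then some element outside the second projection of `z'` kills `v` -/
theorem exists_smul_eq_zero_of_shear (z' : Ideal (C ⊗[R] C)) [z'.IsPrime]
    (h₁ : FlatAt R (z'.comap (i₁ R C)))
    {X' : Type u} [AddCommGroup X'] [Module R X'] (v : C ⊗[R] X')
    (d' : C ⊗[R] C) (hd' : d' ∉ z') (hdv : d' • rTensor X' (i₂ R C).toLinearMap v = 0) :
    ∃ s : C, s ∉ z'.comap (i₂ R C) ∧ s • v = 0 := by
  by_contra hcon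
  push Not at hcon
  -- the annihilator of `v`
  let T : C →ₗ[C] C ⊗[R] X' := LinearMap.toSpanSingleton C (C ⊗[R] X') v
  let 𝔞 : Submodule R C := (LinearMap.ker T).restrictScalars R
  have h𝔞 : ∀ α ∈ 𝔞, (i₂ R C) α ∈ z' := by
    intro α hα
    by_contra hne
    have h1 : α • v = 0 := hα
    exact hcon α hne h1
  let TR : C →ₗ[R] C ⊗[R] X' := T.restrictScalars R
  let j : C ⧸ 𝔞 →ₗ[R] C ⊗[R] X' := 𝔞.liftQ TR (fun x hx => hx)
  have hj : Injective j := by
    rw [← LinearMap.ker_eq_bot]
    apply Submodule.ker_liftQ_eq_bot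
    intro x hx
    exact hx
  have hjp : j ∘ₗ 𝔞.mkQ = TR := Submodule.liftQ_mkQ 𝔞 TR _
  have h1 : lTensor C j (lTensor C 𝔞.mkQ d') = 0 := by
    rw [← LinearMap.comp_apply, ← LinearMap.lTensor_comp, hjp]
    have := assoc_smul_rTensor v d'
    rw [hdv, map_zero] at this
    exact this.symm
  obtain ⟨t, ht, htw⟩ := h₁ _ _ j hj _ h1
  have key : ∀ e : C ⊗[R] C, lTensor C 𝔞.mkQ ((t ⊗ₜ[R] (1 : C)) * e) =
      t • lTensor C 𝔞.mkQ e := by
    intro e
    induction e using TensorProduct.induction_on with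
    | zero => simp
    | add x y hx hy => simp only [mul_add, smul_add, map_add, hx, hy]
    | tmul a b => simp [TensorProduct.smul_tmul']
  have h2 : lTensor C 𝔞.mkQ ((t ⊗ₜ[R] (1 : C)) * d') = 0 := by
    rw [key, htw]
  obtain ⟨y, hy⟩ := (exact_lTensor_quot C 𝔞 _).1 h2
  have hmem : ∀ y : C ⊗[R] 𝔞, lTensor C 𝔞.subtype y ∈ z' := by
    intro y
    induction y using TensorProduct.induction_on with
    | zero => simp
    | add a b ha hb => rw [map_add]; exact z'.add_mem ha hb
    | tmul a α =>
      have : lTensor C 𝔞.subtype (a ⊗ₜ[R] α) = (a ⊗ₜ[R] (1 : C)) * (i₂ R C) (α : C) := by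
        simp
      rw [this]
      exact z'.mul_mem_left _ (h𝔞 α α.2)
  have h3 : (t ⊗ₜ[R] (1 : C)) * d' ∈ z' := by
    rw [← hy]
    exact hmem y
  rcases (Ideal.IsPrime.mem_or_mem inferInstance h3) with h | h
  · exact ht h
  · exact hd' h

/-- **stability of the flat locus under multiplication**: a prime of `C ⊗ C` with both projections
in the flat locus has its image under the multiplication in the flat locus -/
theorem flatAt_comap_comul (z : Ideal (C ⊗[R] C)) [z.IsPrime]
    (h₁ : FlatAt R (z.comap (i₁ R C))) (h₂ : FlatAt R (z.comap (i₂ R C))) :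
    FlatAt R (z.comap (comulAlgHom R C)) := by
  intro X' X _ _ _ _ ι hι v hv
  have h0 : lTensor (C ⊗[R] C) ι (rTensor X' (comulAlgHom R C).toLinearMap v) = 0 := by
    rw [rTensor_lTensor_comm, hv, map_zero]
  obtain ⟨d, hd, hdv⟩ := flatAt_tensor z h₁ h₂ X' X ι hι _ h0
  let σ := shear R C
  let z' : Ideal (C ⊗[R] C) := z.comap (σ : C ⊗[R] C →ₐ[R] C ⊗[R] C)
  haveI : z'.IsPrime := Ideal.comap_isPrime _ _
  have hz1 : z'.comap (i₁ R C) = z.comap (i₁ R C) := by
    show (z.comap (σ : C ⊗[R] C →ₐ[R] C ⊗[R] C)).comap (i₁ R C) = _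
    rw [Ideal.comap_comapₐ, shear_comp_i₁]
  have hz2 : z'.comap (i₂ R C) = z.comap (comulAlgHom R C) := by
    show (z.comap (σ : C ⊗[R] C →ₐ[R] C ⊗[R] C)).comap (i₂ R C) = _
    rw [Ideal.comap_comapₐ, shear_comp_i₂]
  have hd' : σ.symm d ∉ z' := by
    intro hmem
    have : (σ : C ⊗[R] C →ₐ[R] C ⊗[R] C) (σ.symm d) ∈ z := hmem
    apply hd
    simpa using this
  have hdv' : σ.symm d • rTensor X' (i₂ R C).toLinearMap v = 0 := by
    have hinj : Injective (rTensor X' (σ : C ⊗[R] C →ₐ[R] C ⊗[R] C).toLinearMap) := by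
      have : rTensor X' (σ : C ⊗[R] C →ₐ[R] C ⊗[R] C).toLinearMap =
          (LinearEquiv.rTensor X' σ.toLinearEquiv).toLinearMap := rfl
      rw [this]
      exact (LinearEquiv.rTensor X' σ.toLinearEquiv).injective
    apply hinj
    rw [rTensor_algHom_smul, map_zero, ← LinearMap.comp_apply, ← LinearMap.rTensor_comp]
    have h1 : (σ : C ⊗[R] C →ₐ[R] C ⊗[R] C) (σ.symm d) = d := by simp
    have h2 : (σ : C ⊗[R] C →ₐ[R] C ⊗[R] C).toLinearMap ∘ₗ (i₂ R C).toLinearMap =
        (comulAlgHom R C).toLinearMap := by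
      rw [← shear_comp_i₂]
      rfl
    rw [h1, h2]
    exact hdv
  obtain ⟨s, hs, hsv⟩ := exists_smul_eq_zero_of_shear z' (hz1 ▸ h₁) v (σ.symm d) hd' hdv'
  exact ⟨s, hz2 ▸ hs, hsv⟩

end descent

end Groth.Agent.Helper2.FLoc
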