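import Mathlib
import Groth.Prelude
import Groth.Agent.Helper2.FlatDescApp

/-!
# Helper2: global descent of flatness to a finitely generated stage (EGA IV 11.2.6, global form)
-/

set_option autoImplicit false
open Function TensorProduct LinearMap
universe u

namespace Groth.Agent.Helper2.FlatDescGlob

open Groth.Agent.Helper2.FlatDescCore Groth.Agent.Helper2.FlatDescPoly
open Groth.Agent.Helper2.FlatAtElem Groth.Agent.Helper2.FlatDescApp

attribute [local instance] MvPolynomial.algebraMvPolynomial

section Local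
variable {A B : Type u} [CommRing A] [CommRing B] [Algebra A B]
  (M : Type u) [AddCommGroup M] [Module B M] [Module A M] [IsScalarTower A B M]

/-- flatness over the base can be checked at the primes of the algebra. -/
theorem flat_of_forall_prime
    (h : ∀ (q : Ideal B) [q.IsPrime], Module.Flat A (LocalizedModule q.primeCompl M)) :
    Module.Flat A M := by
  rw [Module.Flat.iff_lTensor_preserves_injective_linearMap]
  intro X' X _ _ _ _ ι hι
  rw [injective_iff_map_eq_zero]
  intro v hv
  by_contra hne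
  -- the annihilator of `v` in `B`
  let J : Ideal B := (Submodule.span B {v}).annihilator
  have hJ : J ≠ ⊤ := by
    intro htop
    apply hne
    have h1 : (1 : B) ∈ J := by rw [htop]; trivial
    have := (Submodule.mem_annihilator_span_singleton v (1 : B)).1 h1
    rwa [one_smul] at this
  obtain ⟨q, hq, hle⟩ := Ideal.exists_le_maximal J hJ
  haveI := hq.isPrime
  obtain ⟨s, hs⟩ := (flat_localized_iff M q.primeCompl).1 (h q) X' X ι hι v hv
  have : (s : B) ∈ J := (Submodule.mem_annihilator_span_singleton v (s : B)).2 hs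
  exact s.2 (hle this)

theorem flat_localized_of_flat [Module.Flat A M] (T : Submonoid B) :
    Module.Flat A (LocalizedModule T M) := by
  rw [flat_localized_iff]
  intro X' X _ _ _ _ ι hι v hv
  refine ⟨1, ?_⟩
  rw [one_smul]
  exact (injective_iff_map_eq_zero _).1
    (Module.Flat.lTensor_preserves_injective_linearMap ι hι) v hv

theorem flat_localized_congr {q q' : Ideal B} [q.IsPrime] [q'.IsPrime] (h : q = q')
    (hf : Module.Flat A (LocalizedModule q.primeCompl M)) :
    Module.Flat A (LocalizedModule q'.primeCompl M) := by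
  subst h
  exact hf

end Local

section Stage
variable {n t : ℕ} {R₀ B C : Type u} [CommRing R₀] [CommRing B] [CommRing C] [Algebra R₀ B]
  [Algebra B C] [Algebra R₀ C] [IsScalarTower R₀ B C]
  (K₀ : Submodule (MvPolynomial (Fin n) R₀) (Fm n t R₀))

/-- if the stage `B` is flat at the image of every prime of `P(C)`, the stage `C` is flat. -/
theorem flat_stage_of_forall
    (h : ∀ (q₁ : Ideal (MvPolynomial (Fin n) C)) [q₁.IsPrime], Module.Flat B (LocalizedModule
      (q₁.comap (algebraMap (MvPolynomial (Fin n) B) (MvPolynomial (Fin n) C))).primeCompl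
      (Fm n t B ⧸ KB R₀ B K₀))) :
    Module.Flat C (Fm n t C ⧸ KB R₀ C K₀) :=
  flat_of_forall_prime (A := C) (B := MvPolynomial (Fin n) C) _
    (fun q₁ _ => flat_of_stage K₀ q₁ (h q₁))

lemma algebraMap_pol_comp (D : Type u) [CommRing D] [Algebra C D] [Algebra B D]
    [IsScalarTower B C D] :
    (algebraMap (MvPolynomial (Fin n) C) (MvPolynomial (Fin n) D)).comp
      (algebraMap (MvPolynomial (Fin n) B) (MvPolynomial (Fin n) C)) =
      algebraMap (MvPolynomial (Fin n) B) (MvPolynomial (Fin n) D) := by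
  refine RingHom.ext fun p => ?_
  rw [RingHom.comp_apply, MvPolynomial.algebraMap_def, MvPolynomial.algebraMap_def,
    MvPolynomial.algebraMap_def, MvPolynomial.map_map, ← IsScalarTower.algebraMap_eq]

end Stage

section Global
variable {n t : ℕ} {R₀ A : Type u} [CommRing R₀] [IsNoetherianRing R₀] [CommRing A] [Algebra R₀ A]
  (K₀ : Submodule (MvPolynomial (Fin n) R₀) (Fm n t R₀))

/-- **Global descent of flatness** (EGA IV 11.2.6): if the model over `A` is flat, then the model
over every large enough finitely generated subalgebra is flat. -/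
theorem exists_fg_flat_global (h : Module.Flat A (Fm n t A ⧸ KB R₀ A K₀)) :
    ∃ B' : Subalgebra R₀ A, B'.FG ∧ ∀ B'' : Subalgebra R₀ A, B' ≤ B'' →
      Module.Flat B'' (Fm n t B'' ⧸ KB R₀ B'' K₀) := by
  classical
  -- Step 1: local stages
  have hloc : ∀ q : PrimeSpectrum (MvPolynomial (Fin n) A), ∃ B' : Subalgebra R₀ A, B'.FG ∧
      Module.Flat B' (LocalizedModule
        (q.asIdeal.comap (algebraMap (MvPolynomial (Fin n) B') (MvPolynomial (Fin n) A))).primeCompl
        (Fm n t B' ⧸ KB R₀ B' K₀)) := by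
    intro q
    obtain ⟨B', hfg, hB'⟩ := exists_fg_flat K₀ q.asIdeal
      (flat_localized_of_flat (A := A) (B := MvPolynomial (Fin n) A) _ _)
    exact ⟨B', hfg, hB' B' le_rfl hfg⟩
  choose Bq hBfg hBflat using hloc
  let U : PrimeSpectrum (MvPolynomial (Fin n) A) → Set (PrimeSpectrum (MvPolynomial (Fin n) A)) :=
    fun q => (PrimeSpectrum.comap
      (algebraMap (MvPolynomial (Fin n) (Bq q)) (MvPolynomial (Fin n) A))) ⁻¹'
        {q' | Module.Flat (Bq q) (LocalizedModule q'.asIdeal.primeCompl
          (Fm n t (Bq q) ⧸ KB R₀ (Bq q) K₀))}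
  have hUo : ∀ q, IsOpen (U q) := by
    intro q
    haveI : Algebra.FiniteType R₀ (Bq q) := (Subalgebra.fg_iff_finiteType (Bq q)).1 (hBfg q)
    haveI : IsNoetherianRing (Bq q) := Algebra.FiniteType.isNoetherianRing R₀ (Bq q)
    have hopen := Groth.Agent.Helper2.NoethOpen.isOpen_flatLocus (A := Bq q)
      (B := MvPolynomial (Fin n) (Bq q)) (Fm n t (Bq q) ⧸ KB R₀ (Bq q) K₀)
    exact hopen.preimage (PrimeSpectrum.continuous_comap _)
  have hUq : ∀ q, q ∈ U q := fun q => hBflat q
  have hsupfg : ∀ F : Finset (PrimeSpectrum (MvPolynomial (Fin n) A)), (F.sup Bq).FG := by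
    intro F
    induction F using Finset.induction_on with
    | empty =>
      rw [Finset.sup_empty]
      exact Subalgebra.fg_bot
    | insert a s _ ih =>
      rw [Finset.sup_insert]
      exact (hBfg a).sup ih
  obtain ⟨F, hF⟩ := isCompact_univ.elim_finite_subcover U hUo
    (fun q _ => Set.mem_iUnion.2 ⟨q, hUq q⟩)
  set B₁ : Subalgebra R₀ A := F.sup Bq with hB₁
  have hB₁fg : B₁.FG := hsupfg F
  -- the stage `B₁` is flat at the image of every prime of `P(A)`
  have h1 : ∀ q : PrimeSpectrum (MvPolynomial (Fin n) A), Module.Flat B₁ (LocalizedModule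
      (q.asIdeal.comap
        (algebraMap (MvPolynomial (Fin n) B₁) (MvPolynomial (Fin n) A))).primeCompl
      (Fm n t B₁ ⧸ KB R₀ B₁ K₀)) := by
    intro q
    obtain ⟨j, hjF, hqj⟩ : ∃ j ∈ F, q ∈ U j := by
      have := hF (Set.mem_univ q)
      simpa using this
    have hle : Bq j ≤ B₁ := Finset.le_sup hjF
    letI : Algebra (Bq j) B₁ := (Subalgebra.inclusion hle).toRingHom.toAlgebra
    haveI : IsScalarTower R₀ (Bq j) B₁ := IsScalarTower.of_algebraMap_eq (fun r => rfl)
    haveI : IsScalarTower (Bq j) B₁ A := IsScalarTower.of_algebraMap_eq (fun r => rfl)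
    apply flat_of_stage (B := Bq j) (C := B₁) K₀
    have heq : q.asIdeal.comap
        (algebraMap (MvPolynomial (Fin n) (Bq j)) (MvPolynomial (Fin n) A)) =
        (q.asIdeal.comap
          (algebraMap (MvPolynomial (Fin n) B₁) (MvPolynomial (Fin n) A))).comap
          (algebraMap (MvPolynomial (Fin n) (Bq j)) (MvPolynomial (Fin n) B₁)) := by
      rw [Ideal.comap_comap, algebraMap_pol_comp (B := Bq j) (C := B₁) A]
    exact flat_localized_congr (A := Bq j) (B := MvPolynomial (Fin n) (Bq j)) _ heq hqj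
  haveI : Algebra.FiniteType R₀ B₁ := (Subalgebra.fg_iff_finiteType B₁).1 hB₁fg
  haveI : IsNoetherianRing B₁ := Algebra.FiniteType.isNoetherianRing R₀ B₁
  set W : Set (PrimeSpectrum (MvPolynomial (Fin n) B₁)) :=
    {q' | Module.Flat B₁ (LocalizedModule q'.asIdeal.primeCompl (Fm n t B₁ ⧸ KB R₀ B₁ K₀))} with hWdef
  have hW : IsOpen W := Groth.Agent.Helper2.NoethOpen.isOpen_flatLocus (A := B₁)
      (B := MvPolynomial (Fin n) B₁) (Fm n t B₁ ⧸ KB R₀ B₁ K₀)
  set I : Ideal (MvPolynomial (Fin n) B₁) := PrimeSpectrum.vanishingIdeal Wᶜ with hIdef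
  have hWc : Wᶜ = PrimeSpectrum.zeroLocus (I : Set (MvPolynomial (Fin n) B₁)) := by
    rw [hIdef, PrimeSpectrum.zeroLocus_vanishingIdeal_eq_closure, hW.isClosed_compl.closure_eq]
  have hImap : I.map (algebraMap (MvPolynomial (Fin n) B₁) (MvPolynomial (Fin n) A)) = ⊤ := by
    by_contra hne
    obtain ⟨m, hm, hle⟩ := Ideal.exists_le_maximal _ hne
    haveI := hm.isPrime
    have hmem : (⟨m.comap (algebraMap (MvPolynomial (Fin n) B₁) (MvPolynomial (Fin n) A)),
        inferInstance⟩ : PrimeSpectrum (MvPolynomial (Fin n) B₁)) ∈ Wᶜ := by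
      rw [hWc, PrimeSpectrum.mem_zeroLocus]
      intro x hx
      exact hle (Ideal.mem_map_of_mem _ hx)
    exact hmem (h1 ⟨m, inferInstance⟩)
  have h1mem : (1 : MvPolynomial (Fin n) A) ∈ Submodule.span (MvPolynomial (Fin n) A)
      (algebraMap (MvPolynomial (Fin n) B₁) (MvPolynomial (Fin n) A) ''
        (I : Set (MvPolynomial (Fin n) B₁))) := by
    have : (1 : MvPolynomial (Fin n) A) ∈
        I.map (algebraMap (MvPolynomial (Fin n) B₁) (MvPolynomial (Fin n) A)) := by
      rw [hImap]; trivial
    exact this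
  obtain ⟨m, c, g, hg⟩ := Submodule.mem_span_set'.1 h1mem
  have hg' : ∀ i, ∃ a ∈ I, algebraMap (MvPolynomial (Fin n) B₁) (MvPolynomial (Fin n) A) a =
      (g i : MvPolynomial (Fin n) A) := fun i => (g i).2
  choose a ha hag using hg'
  set B₂ : Subalgebra R₀ A := B₁ ⊔ Algebra.adjoin R₀
    ((Finset.univ.biUnion (fun i => (c i).coeffs) : Finset A) : Set A) with hB₂
  refine ⟨B₂, hB₁fg.sup (Subalgebra.fg_adjoin_finset _), fun B'' hle => ?_⟩
  have hle₁ : B₁ ≤ B'' := le_sup_left.trans hle
  letI : Algebra B₁ B'' := (Subalgebra.inclusion hle₁).toRingHom.toAlgebra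
  haveI : IsScalarTower R₀ B₁ B'' := IsScalarTower.of_algebraMap_eq (fun r => rfl)
  haveI : IsScalarTower B₁ B'' A := IsScalarTower.of_algebraMap_eq (fun r => rfl)
  have hcB : ∀ i, ((c i).coeffs : Set A) ⊆ B'' := by
    intro i x hx
    refine hle (Algebra.mem_sup_right (Algebra.subset_adjoin ?_))
    rw [Finset.mem_coe, Finset.mem_biUnion]
    exact ⟨i, Finset.mem_univ _, hx⟩
  choose c' hc' using fun i => exists_map_eq B'' (c i) (hcB i)
  have hone : ∑ i, c' i * algebraMap (MvPolynomial (Fin n) B₁) (MvPolynomial (Fin n) B'') (a i) =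
      1 := by
    apply MvPolynomial.map_injective (algebraMap B'' A) Subtype.val_injective
    rw [map_sum, map_one, ← hg]
    refine Finset.sum_congr rfl (fun i _ => ?_)
    rw [map_mul, hc', smul_eq_mul, ← hag i]
    congr 1
    have := RingHom.congr_fun (algebraMap_pol_comp (n := n) (B := B₁) (C := B'') A) (a i)
    rw [RingHom.comp_apply, MvPolynomial.algebraMap_def] at this
    exact this
  apply flat_stage_of_forall (B := B₁) (C := B'') K₀
  intro q₁ _
  by_contra hnot
  have hmem : (⟨q₁.comap (algebraMap (MvPolynomial (Fin n) B₁) (MvPolynomial (Fin n) B'')),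
      inferInstance⟩ : PrimeSpectrum (MvPolynomial (Fin n) B₁)) ∈ Wᶜ := hnot
  rw [hWc, PrimeSpectrum.mem_zeroLocus] at hmem
  have h1q : (1 : MvPolynomial (Fin n) B'') ∈ q₁ := by
    rw [← hone]
    refine Ideal.sum_mem _ (fun i _ => Ideal.mul_mem_left _ _ ?_)
    exact hmem (ha i)
  exact (Ideal.IsPrime.ne_top inferInstance) ((Ideal.eq_top_iff_one _).2 h1q)

end Global

end Groth.Agent.Helper2.FlatDescGlob
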