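import Mathlib
import Groth.Prelude.Def_SGA3b
import Groth.Agent.Helper2.FLoc2
import Groth.Agent.Helper2.HopfFG
import Groth.Agent.Helper2.FlatDescApp
import Groth.Agent.Helper2.FlatDescGlob
import Groth.Agent.Helper2.ConnIdem2
import Groth.Agent.Helper2.UnipMor1

set_option autoImplicit false
open Function TensorProduct LinearMap
universe u

namespace Groth.Agent.Helper2.FLoc
open WithConv Bialgebra Coalgebra

section conv
variable {R : Type u} [CommRing R] {C : Type u} [CommRing C] [HopfAlgebra R C]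
variable {A B : Type u} [CommRing A] [Algebra R A] [CommRing B] [Algebra R B]

/-- convolution product of two algebra maps out of a Hopf algebra -/
noncomputable def cmul (f g : C →ₐ[R] A) : C →ₐ[R] A := ofConv (toConv f * toConv g)

/-- the unit for the convolution product -/
noncomputable def cone : C →ₐ[R] A := (Algebra.ofId R A).comp (counitAlgHom R C)

lemma cmul_eq (f g : C →ₐ[R] A) :
    cmul f g = (Algebra.TensorProduct.productMap f g).comp (comulAlgHom R C) := by
  rw [Algebra.TensorProduct.productMap_eq_comp_map]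
  rfl

lemma cmul_assoc (f g h : C →ₐ[R] A) : cmul (cmul f g) h = cmul f (cmul g h) := by
  unfold cmul
  rw [toConv_ofConv, toConv_ofConv, mul_assoc]

lemma cmul_cone (f : C →ₐ[R] A) : cmul f cone = f := by
  unfold cmul cone
  rw [← AlgHom.convOne_def, mul_one, ofConv_toConv]

lemma cone_cmul (f : C →ₐ[R] A) : cmul cone f = f := by
  unfold cmul cone
  rw [← AlgHom.convOne_def, one_mul, ofConv_toConv]

lemma comp_cmul (h : A →ₐ[R] B) (f g : C →ₐ[R] A) :
    h.comp (cmul f g) = cmul (h.comp f) (h.comp g) := by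
  unfold cmul
  rw [AlgHom.comp_convMul_distrib]

lemma comp_cone (h : A →ₐ[R] B) : h.comp (cone : C →ₐ[R] A) = cone := by
  unfold cone
  ext c
  simp [Algebra.ofId_apply]

lemma cmul_id_antipode :
    cmul (AlgHom.id R C) (HopfAlgebra.antipodeAlgHom R C) = cone := by
  unfold cmul cone
  have h1 : toConv (HopfAlgebra.antipodeAlgHom R C) = (toConv (AlgHom.id R C))⁻¹ :=
    eq_inv_of_mul_eq_one_left AlgHom.antipode_id_cancel
  rw [h1, mul_inv_cancel]
  rfl

lemma cmul_antipode_id :
    cmul (HopfAlgebra.antipodeAlgHom R C) (AlgHom.id R C) = cone := by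
  unfold cmul cone
  rw [AlgHom.antipode_id_cancel]
  rfl

lemma cmul_comp_antipode (f : C →ₐ[R] A) :
    cmul f (f.comp (HopfAlgebra.antipodeAlgHom R C)) = cone := by
  have := comp_cmul f (AlgHom.id R C) (HopfAlgebra.antipodeAlgHom R C)
  rw [cmul_id_antipode, comp_cone, AlgHom.comp_id] at this
  exact this.symm

lemma cmul_antipode_comp (f : C →ₐ[R] A) :
    cmul (f.comp (HopfAlgebra.antipodeAlgHom R C)) f = cone := by
  have := comp_cmul f (HopfAlgebra.antipodeAlgHom R C) (AlgHom.id R C)
  rw [cmul_antipode_id, comp_cone, AlgHom.comp_id] at this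
  exact this.symm

lemma antipode_comp_antipode :
    (HopfAlgebra.antipodeAlgHom R C).comp (HopfAlgebra.antipodeAlgHom R C) = AlgHom.id R C := by
  ext a
  exact Groth.Agent.Helper2.HopfFG.antipode_antipode a

/-- the antipode as an algebra automorphism -/
noncomputable def antipodeEquiv : C ≃ₐ[R] C :=
  AlgEquiv.ofAlgHom (HopfAlgebra.antipodeAlgHom R C) (HopfAlgebra.antipodeAlgHom R C)
    antipode_comp_antipode antipode_comp_antipode

end conv


section transl
variable {R : Type u} [CommRing R] {C : Type u} [CommRing C] [HopfAlgebra R C]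
variable (K : Type u) [Field K] [Algebra R K]

/-- `C → K ⊗ C` -/
noncomputable abbrev inc : C →ₐ[R] K ⊗[R] C := Algebra.TensorProduct.includeRight
/-- `K → K ⊗ C` -/
noncomputable abbrev kap : K →ₐ[R] K ⊗[R] C := Algebra.TensorProduct.includeLeft

/-- left translation by a `K`-point -/
noncomputable def tau (c : C →ₐ[R] K) : C →ₐ[R] K ⊗[R] C :=
  cmul ((kap (C := C) K).comp c) (inc K)

/-- `w ↦ (c w, w⁻¹)` -/
noncomputable def zeta (c : C →ₐ[R] K) : C ⊗[R] C →ₐ[R] K ⊗[R] C :=
  Algebra.TensorProduct.productMap (tau K c) ((inc K).comp (HopfAlgebra.antipodeAlgHom R C))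

lemma zeta_comp_i₁ (c : C →ₐ[R] K) : (zeta K c).comp (i₁ R C) = tau K c :=
  Algebra.TensorProduct.productMap_left _ _

lemma zeta_comp_i₂ (c : C →ₐ[R] K) :
    (zeta K c).comp (i₂ R C) = (inc K).comp (HopfAlgebra.antipodeAlgHom R C) :=
  Algebra.TensorProduct.productMap_right _ _

lemma zeta_comp_comul (c : C →ₐ[R] K) :
    (zeta K c).comp (comulAlgHom R C) = (kap (C := C) K).comp c := by
  rw [zeta, ← cmul_eq, tau, cmul_assoc, cmul_comp_antipode, cmul_cone]

lemma pt_comp_kap (b : K ⊗[R] C →ₐ[K] K) :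
    (b.restrictScalars R).comp (kap (C := C) K) = AlgHom.id R K := by
  ext k
  show b (k ⊗ₜ[R] (1 : C)) = k
  have h := b.commutes k
  rw [Algebra.TensorProduct.algebraMap_apply] at h
  simpa using h

lemma pt_comp_tau (b : K ⊗[R] C →ₐ[K] K) (c : C →ₐ[R] K) :
    (b.restrictScalars R).comp (tau K c) = cmul c ((b.restrictScalars R).comp (inc K)) := by
  rw [tau, comp_cmul, ← AlgHom.comp_assoc, pt_comp_kap, AlgHom.id_comp]

lemma pt_comp_tau_inv (b : K ⊗[R] C →ₐ[K] K) :
    (b.restrictScalars R).comp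
      (tau K (((b.restrictScalars R).comp (inc K)).comp (HopfAlgebra.antipodeAlgHom R C))) =
      cone := by
  rw [pt_comp_tau, cmul_antipode_comp]

lemma comap_kap_comp (w : Ideal (K ⊗[R] C)) [w.IsPrime] (c : C →ₐ[R] K) :
    w.comap ((kap (C := C) K).comp c) = RingHom.ker c := by
  ext a
  rw [Ideal.mem_comap, RingHom.mem_ker]
  constructor
  · intro h
    by_contra hne
    have hu : IsUnit (c a) := isUnit_iff_ne_zero.mpr hne
    have hu' : IsUnit ((kap (R := R) (C := C) K) (c a)) := hu.map (kap (R := R) (C := C) K)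
    exact (Ideal.IsPrime.ne_top ‹_›) (Ideal.eq_top_of_isUnit_mem _ h hu')
  · intro h
    show (kap (R := R) (C := C) K) (c a) ∈ w
    rw [h, map_zero]
    exact w.zero_mem

/-- the `K`-point of `K ⊗ C` attached to a `K`-point of `C` -/
noncomputable def pt (b₀ : C →ₐ[R] K) : K ⊗[R] C →ₐ[K] K :=
  Algebra.TensorProduct.lift (AlgHom.id K K) b₀ (fun _ _ => Commute.all _ _)

lemma pt_comp_inc (b₀ : C →ₐ[R] K) : ((pt K b₀).restrictScalars R).comp (inc K) = b₀ := by
  ext a
  simp [pt]

/-- Nullstellensatz -/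
lemma exists_point [IsAlgClosed K] [Algebra.FiniteType R C] (𝔪 : Ideal (K ⊗[R] C))
    [h𝔪 : 𝔪.IsMaximal] : ∃ b : K ⊗[R] C →ₐ[K] K, RingHom.ker b = 𝔪 := by
  let : Field ((K ⊗[R] C) ⧸ 𝔪) := Ideal.Quotient.field 𝔪
  haveI : Algebra.FiniteType K ((K ⊗[R] C) ⧸ 𝔪) :=
    Algebra.FiniteType.of_surjective (Ideal.Quotient.mkₐ K 𝔪) Ideal.Quotient.mk_surjective
  haveI : Module.Finite K ((K ⊗[R] C) ⧸ 𝔪) := finite_of_finite_type_of_isJacobsonRing K _
  haveI : Algebra.IsIntegral K ((K ⊗[R] C) ⧸ 𝔪) := Algebra.IsIntegral.of_finite K _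
  have hbij : Function.Bijective (algebraMap K ((K ⊗[R] C) ⧸ 𝔪)) :=
    IsAlgClosed.algebraMap_bijective_of_isIntegral
  let e : K ≃ₐ[K] ((K ⊗[R] C) ⧸ 𝔪) := AlgEquiv.ofBijective (Algebra.ofId K _) hbij
  refine ⟨e.symm.toAlgHom.comp (Ideal.Quotient.mkₐ K 𝔪), ?_⟩
  ext x
  rw [RingHom.mem_ker]
  show e.symm (Ideal.Quotient.mk 𝔪 x) = 0 ↔ _
  rw [← Ideal.Quotient.eq_zero_iff_mem]
  constructor
  · intro h
    rw [← e.symm.map_zero] at h
    exact e.symm.injective h
  · intro h
    rw [h, map_zero]

end transl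

section main
variable {R : Type u} [CommRing R] {C : Type u} [CommRing C] [HopfAlgebra R C]

lemma isOpen_flatLocus [Algebra.FinitePresentation R C] :
    IsOpen {q : PrimeSpectrum C | FlatAt R q.asIdeal} := by
  have := Groth.Agent.Helper2.FlatDescApp.isOpen_flatLocus_fp (R := R) (S := C) (M := C)
  convert this using 1
  ext q
  exact flatAt_iff R q.asIdeal

lemma isOpen_preimage_flatLocus [Algebra.FinitePresentation R C] {T : Type u} [CommRing T]
    [Algebra R T] (f : C →ₐ[R] T) :
    IsOpen {w : PrimeSpectrum T | FlatAt R (w.asIdeal.comap f)} :=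
  (isOpen_flatLocus (R := R) (C := C)).preimage (PrimeSpectrum.continuous_comap f.toRingHom)

lemma mem_of_le {T : Type u} [CommRing T] {s : Set (PrimeSpectrum T)} (hs : IsOpen s)
    {x y : PrimeSpectrum T} (hxy : x.asIdeal ≤ y.asIdeal) (hy : y ∈ s) : x ∈ s :=
  ((PrimeSpectrum.le_iff_specializes x y).mp hxy).mem_open hs hy

lemma flatAt_counit [IsLocalRing R] [Algebra.FinitePresentation R C]
    (hfl : ∀ (q : Ideal C) [q.IsPrime],
      Ideal.map (algebraMap R C) (IsLocalRing.maximalIdeal R) ≤ q → FlatAt R q)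
    (𝔭 : Ideal R) [𝔭.IsPrime] : FlatAt R (𝔭.comap (counitAlgHom R C)) := by
  let V : TopologicalSpace.Opens (PrimeSpectrum R) :=
    ⟨{p | FlatAt R (p.asIdeal.comap (counitAlgHom R C))}, isOpen_preimage_flatLocus _⟩
  have hV : IsLocalRing.closedPoint R ∈ V := by
    show FlatAt R ((IsLocalRing.maximalIdeal R).comap (counitAlgHom R C))
    haveI : ((IsLocalRing.maximalIdeal R).comap (counitAlgHom R C)).IsPrime :=
      Ideal.comap_isPrime _ _
    apply hfl
    rw [Ideal.map_le_iff_le_comap]
    intro r hr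
    show counitAlgHom R C (algebraMap R C r) ∈ IsLocalRing.maximalIdeal R
    rw [AlgHom.commutes]
    exact hr
  rw [IsLocalRing.closedPoint_mem_iff] at hV
  have : (⟨𝔭, inferInstance⟩ : PrimeSpectrum R) ∈ V := by rw [hV]; trivial
  exact this

lemma flatAt_comap_antipode (q : Ideal C) (h : FlatAt R q) :
    FlatAt R (q.comap (HopfAlgebra.antipodeAlgHom R C)) :=
  flatAt_comap_equiv antipodeEquiv q h


/-- **Key step**: over a local base, with flatness along the closed fibre and connected fibres,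
every geometric point of `C` lies in the flat locus. -/
theorem flatAt_ker_point [IsLocalRing R] [Algebra.FinitePresentation R C]
    (hfl : ∀ (q : Ideal C) [q.IsPrime],
      Ideal.map (algebraMap R C) (IsLocalRing.maximalIdeal R) ≤ q → FlatAt R q)
    (hconn : ∀ (p : Ideal R) [p.IsPrime], ConnectedSpace (PrimeSpectrum (p.ResidueField ⊗[R] C)))
    (K : Type u) [Field K] [Algebra R K] [IsAlgClosed K] (b₀ : C →ₐ[R] K) :
    FlatAt R (RingHom.ker b₀) := by
  classical
  haveI : Algebra.FiniteType R C := inferInstance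
  set W : Set (PrimeSpectrum (K ⊗[R] C)) := {w | FlatAt R (w.asIdeal.comap (inc K))} with hW
  have hWo : IsOpen W := isOpen_preimage_flatLocus (inc K)
  have hker : (RingHom.ker (algebraMap R K)).IsPrime := RingHom.ker_isPrime _
  -- the translation lemma
  have hT : ∀ (c : C →ₐ[R] K) (w : PrimeSpectrum (K ⊗[R] C)), w ∈ W →
      FlatAt R (w.asIdeal.comap (tau K c)) → FlatAt R (RingHom.ker c) := by
    intro c w hw hτ
    let z : Ideal (C ⊗[R] C) := w.asIdeal.comap (zeta K c)
    haveI : z.IsPrime := Ideal.comap_isPrime _ _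
    have h1 : z.comap (i₁ R C) = w.asIdeal.comap (tau K c) := by
      show (w.asIdeal.comap (zeta K c)).comap (i₁ R C) = _
      rw [Ideal.comap_comapₐ, zeta_comp_i₁]
    have h2 : z.comap (i₂ R C) =
        (w.asIdeal.comap (inc K)).comap (HopfAlgebra.antipodeAlgHom R C) := by
      show (w.asIdeal.comap (zeta K c)).comap (i₂ R C) = _
      rw [Ideal.comap_comapₐ, zeta_comp_i₂, Ideal.comap_comapₐ]
    have h3 : z.comap (comulAlgHom R C) = RingHom.ker c := by
      show (w.asIdeal.comap (zeta K c)).comap (comulAlgHom R C) = _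
      rw [Ideal.comap_comapₐ, zeta_comp_comul, comap_kap_comp]
    rw [← h3]
    apply flatAt_comap_comul z
    · rw [h1]; exact hτ
    · rw [h2]; exact flatAt_comap_antipode _ hw
  -- the identity point lies in `W`
  have hpt : ∀ b : K ⊗[R] C →ₐ[K] K, (RingHom.ker b).comap (inc (R := R) (C := C) K) =
      RingHom.ker ((b.restrictScalars R).comp (inc K)) := by
    intro b
    ext a
    simp [RingHom.mem_ker]
  have hcone : RingHom.ker (cone : C →ₐ[R] K) =
      (RingHom.ker (algebraMap R K)).comap (counitAlgHom R C) := by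
    ext a
    simp [RingHom.mem_ker, cone, Algebra.ofId_apply]
  have hWc : IsOpen Wᶜ := by
    rw [isOpen_iff_forall_mem_open]
    intro x hx
    obtain ⟨𝔪, hmax, hle⟩ := Ideal.exists_le_maximal x.asIdeal x.2.ne_top
    haveI := hmax
    let y : PrimeSpectrum (K ⊗[R] C) := ⟨𝔪, hmax.isPrime⟩
    have hy : y ∉ W := fun hy => hx (mem_of_le hWo hle hy)
    obtain ⟨b, hb⟩ := exists_point K 𝔪
    set b₁ : C →ₐ[R] K := (b.restrictScalars R).comp (inc K) with hb₁
    set c : C →ₐ[R] K := b₁.comp (HopfAlgebra.antipodeAlgHom R C) with hc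
    have hNo : IsOpen {w : PrimeSpectrum (K ⊗[R] C) | FlatAt R (w.asIdeal.comap (tau K c))} :=
      isOpen_preimage_flatLocus _
    refine ⟨{w | FlatAt R (w.asIdeal.comap (tau K c))}, ?_, hNo, ?_⟩
    · intro w hw hwW
      apply hy
      have h1 : FlatAt R (RingHom.ker c) := hT c w hwW hw
      have h2 := flatAt_comap_antipode _ h1
      have h3 : (RingHom.ker c).comap (HopfAlgebra.antipodeAlgHom R C) = RingHom.ker b₁ := by
        ext a
        rw [Ideal.mem_comap, RingHom.mem_ker, RingHom.mem_ker, hc]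
        show b₁ (HopfAlgebra.antipodeAlgHom R C (HopfAlgebra.antipodeAlgHom R C a)) = 0 ↔ _
        have := congrArg (fun f => f a) (antipode_comp_antipode (R := R) (C := C))
        simp only [AlgHom.comp_apply, AlgHom.id_apply] at this
        rw [this]
      show FlatAt R (𝔪.comap (inc K))
      rw [← hb, hpt, ← hb₁, ← h3]
      exact h2
    · apply mem_of_le hNo hle (y := y)
      show FlatAt R (𝔪.comap (tau K c))
      have h4 : 𝔪.comap (tau K c) = (RingHom.ker (algebraMap R K)).comap (counitAlgHom R C) := by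
        rw [← hb, ← hcone, ← pt_comp_tau_inv K b]
        ext a
        rw [Ideal.mem_comap, RingHom.mem_ker, RingHom.mem_ker]
        exact Iff.rfl
      rw [h4]
      exact flatAt_counit hfl _
  haveI : PreconnectedSpace (PrimeSpectrum (K ⊗[R] C)) :=
    Groth.Agent.Helper2.UnipMor.preconnected_of_noIdem
      (Groth.Agent.Helper2.ConnIdem2.noIdem_field R C hconn K)
  have hclopen : IsClopen W := ⟨isOpen_compl_iff.mp hWc, hWo⟩
  have hmemW : ∀ b : K ⊗[R] C →ₐ[K] K,
      (⟨RingHom.ker b, RingHom.ker_isPrime _⟩ : PrimeSpectrum (K ⊗[R] C)) ∈ W ↔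
        FlatAt R (RingHom.ker ((b.restrictScalars R).comp (inc K))) := by
    intro b
    show FlatAt R ((RingHom.ker b).comap (inc K)) ↔ _
    rw [hpt]
  have hne : W.Nonempty := by
    refine ⟨⟨RingHom.ker (pt K (cone : C →ₐ[R] K)), RingHom.ker_isPrime _⟩, ?_⟩
    rw [hmemW, pt_comp_inc, hcone]
    exact flatAt_counit hfl _
  have huniv : W = Set.univ := (isClopen_iff.mp hclopen).resolve_left hne.ne_empty
  have hb₀ : (⟨RingHom.ker (pt K b₀), RingHom.ker_isPrime _⟩ : PrimeSpectrum (K ⊗[R] C)) ∈ W := by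
    rw [huniv]; trivial
  rw [hmemW, pt_comp_inc] at hb₀
  exact hb₀

/-- **Flatness**: a finitely presented Hopf algebra over a local ring which is flat along the
closed fibre and has connected fibres is flat. -/
theorem flat_of_connected [IsLocalRing R] (hfp : Algebra.FinitePresentation R C)
    (hfl : ∀ (q : Ideal C) [q.IsPrime],
      Ideal.map (algebraMap R C) (IsLocalRing.maximalIdeal R) ≤ q →
        Module.Flat R (Localization.AtPrime q))
    (hconn : ∀ (p : Ideal R) [p.IsPrime], ConnectedSpace (PrimeSpectrum (p.ResidueField ⊗[R] C))) :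
    Module.Flat R C := by
  have hfl' : ∀ (q : Ideal C) [q.IsPrime],
      Ideal.map (algebraMap R C) (IsLocalRing.maximalIdeal R) ≤ q → FlatAt R q := by
    intro q _ hq
    rw [flatAt_iff]
    haveI := hfl q hq
    let e : LocalizedModule q.primeCompl C ≃ₗ[C] Localization.AtPrime q :=
      IsLocalizedModule.iso q.primeCompl (Algebra.linearMap C (Localization.AtPrime q))
    exact Module.Flat.of_linearEquiv (e.restrictScalars R)
  apply Groth.Agent.Helper2.FlatDescGlob.flat_of_forall_prime (A := R) (B := C) C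
  intro q _
  rw [← flatAt_iff]
  let K := AlgebraicClosure q.ResidueField
  letI : Algebra R K :=
    ((algebraMap q.ResidueField K).comp
      ((algebraMap C q.ResidueField).comp (algebraMap R C))).toAlgebra
  let b₀ : C →ₐ[R] K :=
    { toRingHom := (algebraMap q.ResidueField K).comp (algebraMap C q.ResidueField)
      commutes' := fun r => rfl }
  have hk : RingHom.ker b₀ = q := by
    ext a
    rw [RingHom.mem_ker]
    show algebraMap q.ResidueField K (algebraMap C q.ResidueField a) = 0 ↔ _
    rw [map_eq_zero_iff _ (algebraMap q.ResidueField K).injective,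
      Ideal.algebraMap_residueField_eq_zero]
  rw [← hk]
  exact flatAt_ker_point hfl' hconn K b₀

end main

end Groth.Agent.Helper2.FLoc
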