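import Mathlib

/-!
# A quotient as the directed colimit of the quotients by a directed family of subobjects of
the kernel (abstract abelian-category statement)
-/

set_option autoImplicit false
open CategoryTheory CategoryTheory.Limits

noncomputable section

namespace Groth.Agent.Helper2.QuotColim

universe v w
variable {C : Type*} [Category.{v} C] [Abelian C] {G₃ F : C} (φ₃ : G₃ ⟶ F)
  {J : Type w} [PartialOrder J] (m : J →o Subobject (kernel φ₃))

/-- the subobject `m j` of the kernel, as a map to `G₃` -/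
def sub (j : J) : ((m j : Subobject (kernel φ₃)) : C) ⟶ G₃ := (m j).arrow ≫ kernel.ι φ₃

lemma sub_def (j : J) : sub φ₃ m j = (m j).arrow ≫ kernel.ι φ₃ := rfl

instance mono_sub (j : J) : Mono (sub φ₃ m j) := by
  rw [sub_def]
  exact mono_comp _ _

lemma sub_le {j j' : J} (h : j ≤ j') :
    Subobject.ofLE (m j) (m j') (m.monotone h) ≫ sub φ₃ m j' = sub φ₃ m j := by
  simp [sub]

lemma sub_comp (j : J) : sub φ₃ m j ≫ φ₃ = 0 := by
  simp [sub]

/-- the functor of quotients -/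
def quotFunctor : J ⥤ C where
  obj j := cokernel (sub φ₃ m j)
  map {j j'} f := cokernel.desc (sub φ₃ m j) (cokernel.π (sub φ₃ m j')) (by
    rw [← sub_le φ₃ m (leOfHom f), Category.assoc, cokernel.condition, comp_zero])
  map_id j := by
    apply coequalizer.hom_ext
    simp
  map_comp f g := by
    apply coequalizer.hom_ext
    simp

/-- the projection to the quotient -/
def quotπ (j : J) : G₃ ⟶ (quotFunctor φ₃ m).obj j := cokernel.π (sub φ₃ m j)

instance epi_quotπ (j : J) : Epi (quotπ φ₃ m j) :=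
  (inferInstance : Epi (cokernel.π (sub φ₃ m j)))

@[reassoc (attr := simp)]
lemma sub_quotπ (j : J) : sub φ₃ m j ≫ quotπ φ₃ m j = 0 :=
  cokernel.condition (sub φ₃ m j)

@[reassoc (attr := simp)]
lemma quotπ_map {j j' : J} (f : j ⟶ j') :
    quotπ φ₃ m j ≫ (quotFunctor φ₃ m).map f = quotπ φ₃ m j' :=
  cokernel.π_desc _ _ _

instance epi_quotFunctor_map {j j' : J} (f : j ⟶ j') : Epi ((quotFunctor φ₃ m).map f) := by
  haveI : Epi (quotπ φ₃ m j ≫ (quotFunctor φ₃ m).map f) := by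
    rw [quotπ_map]; infer_instance
  exact epi_of_epi (quotπ φ₃ m j) _

/-- the component of the cocone -/
def quotι (j : J) : (quotFunctor φ₃ m).obj j ⟶ F :=
  cokernel.desc (sub φ₃ m j) φ₃ (sub_comp φ₃ m j)

@[reassoc (attr := simp)]
lemma quotπ_ι (j : J) : quotπ φ₃ m j ≫ quotι φ₃ m j = φ₃ :=
  cokernel.π_desc _ _ _

/-- the cocone of quotients with point `F` -/
def quotCocone : Cocone (quotFunctor φ₃ m) where
  pt := F
  ι :=
    { app := fun j => quotι φ₃ m j
      naturality := by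
        intro j j' f
        rw [← cancel_epi (quotπ φ₃ m j)]
        simp }

@[simp] lemma quotCocone_ι_app (j : J) : (quotCocone φ₃ m).ι.app j = quotι φ₃ m j := rfl

variable [IsDirected J (· ≤ ·)] [Nonempty J]

/-- the map `G₃ ⟶ s.pt` induced by a cocone -/
def gOf (s : Cocone (quotFunctor φ₃ m)) : G₃ ⟶ s.pt :=
  quotπ φ₃ m (Classical.arbitrary J) ≫ s.ι.app (Classical.arbitrary J)

omit [Nonempty J] in
lemma π_ι_eq (s : Cocone (quotFunctor φ₃ m)) (j j' : J) :
    quotπ φ₃ m j ≫ s.ι.app j = quotπ φ₃ m j' ≫ s.ι.app j' := by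
  obtain ⟨k, hjk, hj'k⟩ := exists_ge_ge j j'
  rw [← s.w (homOfLE hjk), ← s.w (homOfLE hj'k), quotπ_map_assoc, quotπ_map_assoc]

lemma π_ι_eq_gOf (s : Cocone (quotFunctor φ₃ m)) (j : J) :
    quotπ φ₃ m j ≫ s.ι.app j = gOf φ₃ m s :=
  π_ι_eq φ₃ m s j _

lemma sub_gOf (s : Cocone (quotFunctor φ₃ m)) (j : J) : sub φ₃ m j ≫ gOf φ₃ m s = 0 := by
  rw [← π_ι_eq_gOf φ₃ m s j, sub_quotπ_assoc, zero_comp]

/-- the cocone of quotients is a colimit as soon as the family of subobjects is jointly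
"epimorphic" onto the kernel -/
def quotIsColimit [Epi φ₃]
    (H : ∀ (T : C) (g : G₃ ⟶ T), (∀ j, sub φ₃ m j ≫ g = 0) → kernel.ι φ₃ ≫ g = 0) :
    IsColimit (quotCocone φ₃ m) where
  desc s := Abelian.epiDesc φ₃ (gOf φ₃ m s) (H _ _ (sub_gOf φ₃ m s))
  fac s j := by
    change quotι φ₃ m j ≫ Abelian.epiDesc φ₃ (gOf φ₃ m s) (H _ _ (sub_gOf φ₃ m s)) = s.ι.app j
    rw [← cancel_epi (quotπ φ₃ m j), quotπ_ι_assoc, Abelian.comp_epiDesc, π_ι_eq_gOf]
  uniq s m' hm' := by
    have hm'' : ∀ j, quotι φ₃ m j ≫ (show F ⟶ s.pt from m') = s.ι.app j := hm'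
    change (show F ⟶ s.pt from m') = Abelian.epiDesc φ₃ (gOf φ₃ m s) (H _ _ (sub_gOf φ₃ m s))
    rw [← cancel_epi φ₃, Abelian.comp_epiDesc, ← π_ι_eq_gOf φ₃ m s (Classical.arbitrary J),
      ← hm'', quotπ_ι_assoc]

end Groth.Agent.Helper2.QuotColim

end
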