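import Mathlib
import Groth.Agent.Helper2.FPQuot3
import Groth.Agent.Helper2.QuotColim1
import Groth.Agent.Helper3.SheafModLib
import Groth.Agent.Helper4.FTLift

/-!
# Stacks 01PK: a quasi-coherent module of finite type on a qcqs scheme is a directed colimit of
finitely presented modules with surjective transition maps
-/

set_option autoImplicit false
universe u
open CategoryTheory CategoryTheory.Limits AlgebraicGeometry TopologicalSpace Opposite

noncomputable section

namespace Groth.Agent.Helper2.FPExt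

open Groth.Agent.Helper4 Groth.Agent.Helper4.SubExt Groth.Agent.Helper2.QuotColim

variable {X : Scheme.{u}}

/-- a morphism of modules vanishing on all sections over affine opens is zero -/
theorem hom_eq_zero_of_affine {A T : X.Modules} (κ : A ⟶ T)
    (h : ∀ (V : X.Opens), IsAffineOpen V → ∀ s : Γ(A, V), κ.app V s = 0) : κ = 0 := by
  apply Scheme.Modules.hom_ext
  intro W
  ext s
  change κ.app W s = 0
  have hnhd : ∀ x : W, ∃ V : X.Opens, IsAffineOpen V ∧ x.1 ∈ V ∧ V ≤ W :=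
    fun x => FinLocFree2.exists_affine_nhd_le x.1 W x.2
  choose V hV hxV hVW using hnhd
  refine TopCat.Sheaf.eq_of_locally_eq' (C := AddCommGrpCat.{u}) ⟨T.presheaf, T.isSheaf⟩
    V W (fun x => homOfLE (hVW x)) ?_ (κ.app W s) 0 (fun x => ?_)
  · intro x hx
    exact Opens.mem_iSup.mpr ⟨⟨x, hx⟩, hxV ⟨x, hx⟩⟩
  · rw [map_zero]
    have h1 := StalkExact.app_res κ (homOfLE (hVW x)) s
    exact h1.symm.trans (h (V x) (hV x) _)

instance wellPowered_modules : WellPowered.{u} X.Modules :=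
  inferInstanceAs (WellPowered.{u} (SheafOfModules.{u} X.ringCatSheaf))

section Main

variable {G₃ F : X.Modules} (φ₃ : G₃ ⟶ F)

/-- the property of being a quasi-coherent subobject of finite type -/
def IsFTSub (S : Subobject (kernel φ₃)) : Prop :=
  (S : X.Modules).IsQuasicoherent ∧
    SheafOfModules.IsFiniteType (R := X.ringCatSheaf) (S : X.Modules)

/-- the (small) poset of quasi-coherent subobjects of finite type of the kernel -/
abbrev JJ : Type u := Shrink.{u} {S : Subobject (kernel φ₃) // IsFTSub φ₃ S}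

/-- the underlying subobject -/
def mm : JJ φ₃ →o Subobject (kernel φ₃) where
  toFun j := ((orderIsoShrink.{u} {S : Subobject (kernel φ₃) // IsFTSub φ₃ S}).symm j).1
  monotone' a b h :=
    (orderIsoShrink.{u} {S : Subobject (kernel φ₃) // IsFTSub φ₃ S}).symm.monotone h

lemma mm_prop (j : JJ φ₃) : IsFTSub φ₃ (mm φ₃ j) :=
  ((orderIsoShrink.{u} {S : Subobject (kernel φ₃) // IsFTSub φ₃ S}).symm j).2

lemma le_iff (a b : JJ φ₃) : a ≤ b ↔ mm φ₃ a ≤ mm φ₃ b :=
  ((orderIsoShrink.{u} {S : Subobject (kernel φ₃) // IsFTSub φ₃ S}).symm.le_iff_le).symm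

/-- the index of a subobject -/
def jOf (S : Subobject (kernel φ₃)) (hS : IsFTSub φ₃ S) : JJ φ₃ :=
  orderIsoShrink.{u} {S : Subobject (kernel φ₃) // IsFTSub φ₃ S} ⟨S, hS⟩

lemma mm_jOf (S : Subobject (kernel φ₃)) (hS : IsFTSub φ₃ S) : mm φ₃ (jOf φ₃ S hS) = S := by
  simp [mm, jOf]

lemma isFTSub_mk {K' : X.Modules} (i : K' ⟶ kernel φ₃) [Mono i] [K'.IsQuasicoherent]
    (hft : SheafOfModules.IsFiniteType (R := X.ringCatSheaf) K') :
    IsFTSub φ₃ (Subobject.mk i) := by
  haveI := hft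
  exact ⟨QcohLimits.isQuasicoherent_of_iso (Subobject.underlyingIso i).symm,
    FTRestrict.SoM.isFiniteType_of_iso (R := X.ringCatSheaf) (Subobject.underlyingIso i).symm⟩

theorem directed_JJ [(kernel φ₃).IsQuasicoherent] : IsDirected (JJ φ₃) (· ≤ ·) := by
  constructor
  intro a b
  obtain ⟨haq, haft⟩ := mm_prop φ₃ a
  obtain ⟨hbq, hbft⟩ := mm_prop φ₃ b
  haveI := haq
  haveI := hbq
  obtain ⟨K', i', j1, j2, hi', hq', hft', hj1, hj2⟩ :=
    FTLift.exists_sum_sub (kernel φ₃) (mm φ₃ a).arrow (mm φ₃ b).arrow haft hbft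
  haveI := hi'
  haveI := hq'
  refine ⟨jOf φ₃ (Subobject.mk i') (isFTSub_mk φ₃ i' hft'), ?_, ?_⟩
  · change a ≤ _
    rw [le_iff, mm_jOf]
    exact Subobject.le_mk_of_comm j1 hj1
  · change b ≤ _
    rw [le_iff, mm_jOf]
    exact Subobject.le_mk_of_comm j2 hj2

theorem nonempty_JJ [CompactSpace X] [QuasiSeparatedSpace X] [(kernel φ₃).IsQuasicoherent] :
    Nonempty (JJ φ₃) := by
  obtain ⟨K', i', hi', hq', hft', -⟩ :=
    FTLift.exists_submodule_through_sections (kernel φ₃) [] (by simp)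
  haveI := hi'
  haveI := hq'
  exact ⟨jOf φ₃ (Subobject.mk i') (isFTSub_mk φ₃ i' hft')⟩

lemma comp_eq_zero_of_eq {S S' : Subobject (kernel φ₃)} (h : S = S') {T : X.Modules}
    (g : G₃ ⟶ T) (h0 : S.arrow ≫ kernel.ι φ₃ ≫ g = 0) : S'.arrow ≫ kernel.ι φ₃ ≫ g = 0 := by
  subst h
  exact h0

set_option backward.isDefEq.respectTransparency false in
theorem jointly_epi [CompactSpace X] [QuasiSeparatedSpace X] [(kernel φ₃).IsQuasicoherent]
    (T : X.Modules) (g : G₃ ⟶ T) (h : ∀ j, sub φ₃ (mm φ₃) j ≫ g = 0) :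
    kernel.ι φ₃ ≫ g = 0 := by
  apply hom_eq_zero_of_affine
  intro V hV k
  obtain ⟨K', i', hi', hq', hft', k', hk'⟩ :=
    exists_submodule_through_section (kernel φ₃) V hV.isCompact k
  haveI := hi'
  haveI := hq'
  have h1 := h (jOf φ₃ (Subobject.mk i') (isFTSub_mk φ₃ i' hft'))
  rw [sub_def, Category.assoc] at h1
  have h2 := comp_eq_zero_of_eq φ₃ (mm_jOf φ₃ (Subobject.mk i') (isFTSub_mk φ₃ i' hft')) g h1
  have h3 : i' ≫ kernel.ι φ₃ ≫ g = 0 := by
    rw [← Subobject.underlyingIso_arrow i', Category.assoc, h2, comp_zero]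
  have hk'' : i'.app V k' = k := hk'
  rw [← hk'']
  have := congrArg (fun ψ : K' ⟶ T => ψ.app V k') h3
  exact this

/-- **Stacks 01PK** in terms of the abstract quotient functor -/
theorem exists_directed_colimit [CompactSpace X] [QuasiSeparatedSpace X] (F : X.Modules)
    [F.IsQuasicoherent] (hF : SheafOfModules.IsFiniteType (R := X.ringCatSheaf) F) :
    ∃ (J : Type u) (_ : PartialOrder J) (_ : IsDirected J (· ≤ ·)) (_ : Nonempty J)
      (D : J ⥤ X.Modules) (ι : D ⟶ (Functor.const J).obj F),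
      Nonempty (IsColimit (Cocone.mk F ι)) ∧
      (∀ j, SheafOfModules.IsFinitePresentation (R := X.ringCatSheaf) (D.obj j)) ∧
      ∀ (j j' : J) (h : j ⟶ j'), Epi (D.map h) := by
  obtain ⟨G₃, φ₃, hG₃, hepi⟩ := exists_fp_epi F hF
  haveI := hepi
  haveI := hG₃
  haveI : G₃.IsQuasicoherent := inferInstance
  haveI hKq : (kernel φ₃).IsQuasicoherent := QcohLimits.isQuasicoherent_kernel φ₃
  haveI := directed_JJ φ₃
  haveI := nonempty_JJ φ₃
  refine ⟨JJ φ₃, inferInstance, inferInstance, inferInstance, quotFunctor φ₃ (mm φ₃),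
    (quotCocone φ₃ (mm φ₃)).ι, ⟨quotIsColimit φ₃ (mm φ₃) (jointly_epi φ₃)⟩, ?_, ?_⟩
  · intro j
    obtain ⟨hq, hft⟩ := mm_prop φ₃ j
    haveI := hq
    exact isFP_cokernel_of_mono (sub φ₃ (mm φ₃) j) hft hG₃
  · intro j j' h
    infer_instance

end Main

end Groth.Agent.Helper2.FPExt

end
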