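import Mathlib
import Groth.Agent.Helper2.FPQuot4
import Groth.Agent.Helper1.EpiColim

/-!
# A sectionwise criterion for filtered colimits of quasi-coherent modules; finite coproducts of
finitely presented modules
-/

set_option autoImplicit false
universe u
open CategoryTheory CategoryTheory.Limits AlgebraicGeometry TopologicalSpace Opposite

noncomputable section

namespace Groth.Agent.Helper2.FPCol

open Groth.Agent.Helper4 Groth.Agent.Helper2.FPExt

variable {X : Scheme.{u}}

/-- a cocone of quasi-coherent modules over a small filtered category is a colimit cocone as soon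
as it is so on the sections over every affine open -/
theorem nonempty_isColimit_of_sections {J : Type u} [SmallCategory J] [IsFiltered J]
    (D : J ⥤ X.Modules) (hD : ∀ j, (D.obj j).IsQuasicoherent) (c : Cocone D)
    [c.pt.IsQuasicoherent]
    (h1 : ∀ (V : X.Opens), IsAffineOpen V → ∀ s : Γ(c.pt, V),
      ∃ (j : J) (t : Γ(D.obj j, V)), (c.ι.app j).app V t = s)
    (h2 : ∀ (V : X.Opens), IsAffineOpen V → ∀ (j : J) (t : Γ(D.obj j, V)),
      (c.ι.app j).app V t = 0 → ∃ (j' : J) (f : j ⟶ j'), (D.map f).app V t = 0) :
    Nonempty (IsColimit c) := by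
  haveI : (colimit D).IsQuasicoherent := QcohLimits.isQuasicoherent_colimit D hD
  let θ : colimit D ⟶ c.pt := colimit.desc D c
  have hθ : ∀ j, colimit.ι D j ≫ θ = c.ι.app j := fun j => colimit.ι_desc c j
  haveI : IsIso θ := by
    apply QcohLocal.isIso_of_app_bijective_of_affine_cover
    intro x
    obtain ⟨V, hV, hxV⟩ := QcohLimits.exists_affine_nhd x
    refine ⟨V, hV, hxV, ?_, ?_⟩
    · rw [injective_iff_map_eq_zero]
      intro z hz
      obtain ⟨j, t, rfl⟩ := Groth.Agent.Helper1.EpiColim.exists_rep D (colimit.cocone D)
        (colimit.isColimit D) hV z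
      have h3 : (c.ι.app j).app V t = 0 := by
        have := congrArg (fun ψ : D.obj j ⟶ c.pt => ψ.app V t) (hθ j)
        exact this.symm.trans hz
      obtain ⟨j', f, hf⟩ := h2 V hV j t h3
      have h4 : D.map f ≫ colimit.ι D j' = colimit.ι D j := colimit.w D f
      have h5 := congrArg (fun ψ : D.obj j ⟶ colimit D => ψ.app V t) h4
      change (colimit.ι D j').app V ((D.map f).app V t) = (colimit.ι D j).app V t at h5
      change (colimit.ι D j).app V t = 0
      rw [← h5, hf, map_zero]
    · intro s
      obtain ⟨j, t, ht⟩ := h1 V hV s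
      refine ⟨(colimit.ι D j).app V t, ?_⟩
      have := congrArg (fun ψ : D.obj j ⟶ c.pt => ψ.app V t) (hθ j)
      exact this.trans ht
  haveI : IsIso ((colimit.isColimit D).desc c) := ‹IsIso θ›
  exact ⟨IsColimit.ofPointIso (colimit.isColimit D)⟩

/-- a retract of a finitely presented module (with quasi-coherent source) is finitely presented -/
theorem isFP_of_retract {M E : X.Modules} [M.IsQuasicoherent] (i : M ⟶ E) (p : E ⟶ M)
    (hip : i ≫ p = 𝟙 M)
    (hE : SheafOfModules.IsFinitePresentation (R := X.ringCatSheaf) E) :
    SheafOfModules.IsFinitePresentation (R := X.ringCatSheaf) M := by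
  apply isFP_of_fpOn_top
  intro T hT _
  haveI : Module.FinitePresentation Γ(X, T) Γ(E, T) := fpOn_top_of_isFP E hE T hT le_top
  have hpi : ∀ m : Γ(M, T), p.app T (i.app T m) = m := fun m =>
    congrArg (fun ψ : M ⟶ M => ψ.app T m) hip
  have hsurj : Function.Surjective (QcohEpi.appLin p T) := fun m => ⟨i.app T m, hpi m⟩
  refine Module.finitePresentation_of_surjective (QcohEpi.appLin p T) hsurj ?_
  have hker : LinearMap.ker (QcohEpi.appLin p T) =
      LinearMap.range (LinearMap.id - (QcohEpi.appLin i T).comp (QcohEpi.appLin p T)) := by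
    ext x
    rw [LinearMap.mem_ker, LinearMap.mem_range]
    constructor
    · intro hx
      refine ⟨x, ?_⟩
      change x - i.app T (p.app T x) = x
      have hx' : p.app T x = 0 := hx
      rw [hx', map_zero, sub_zero]
    · rintro ⟨y, rfl⟩
      change p.app T (y - i.app T (p.app T y)) = 0
      rw [map_sub, hpi, sub_self]
  rw [hker, LinearMap.range_eq_map]
  exact (Module.Finite.fg_top).map _

/-- a zero object is finitely presented -/
theorem isFP_of_isZero {M : X.Modules} (hM : IsZero M) :
    SheafOfModules.IsFinitePresentation (R := X.ringCatSheaf) M := by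
  haveI : M.IsQuasicoherent := by
    let F₀ : PEmpty.{u + 1} → X.Modules := fun i => i.elim
    haveI : (∐ F₀).IsQuasicoherent := QcohLimits.isQuasicoherent_sigma F₀ (fun i => i.elim)
    have hz : IsZero (∐ F₀) := by
      rw [IsZero.iff_id_eq_zero]
      exact Sigma.hom_ext _ _ (fun i => i.elim)
    exact QcohLimits.isQuasicoherent_of_iso (hz.iso hM)
  apply isFP_of_fpOn_top
  intro T hT _
  haveI : Subsingleton Γ(M, T) := by
    constructor
    intro a b
    have h0 : (𝟙 M : M ⟶ M) = 0 := hM.eq_of_src _ _
    have ha : a = 0 := congrArg (fun ψ : M ⟶ M => ψ.app T a) h0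
    have hb : b = 0 := congrArg (fun ψ : M ⟶ M => ψ.app T b) h0
    rw [ha, hb]
  infer_instance

/-- a finite coproduct of finitely presented modules is finitely presented -/
theorem isFP_sigma_finite (α : Type u) [hα : Finite α] (G : α → X.Modules)
    (hG : ∀ a, SheafOfModules.IsFinitePresentation (R := X.ringCatSheaf) (G a)) :
    SheafOfModules.IsFinitePresentation (R := X.ringCatSheaf) (∐ G : X.Modules) := by
  classical
  suffices h : ∀ (_ : Finite α) (G : α → X.Modules),
      (∀ a, SheafOfModules.IsFinitePresentation (R := X.ringCatSheaf) (G a)) →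
      SheafOfModules.IsFinitePresentation (R := X.ringCatSheaf) (∐ G : X.Modules) from h hα G hG
  clear hG G
  refine Finite.induction_empty_option
    (P := fun α : Type u => ∀ (_ : Finite α) (G : α → X.Modules),
      (∀ a, SheafOfModules.IsFinitePresentation (R := X.ringCatSheaf) (G a)) →
      SheafOfModules.IsFinitePresentation (R := X.ringCatSheaf) (∐ G : X.Modules)) ?_ ?_ ?_ α
  · intro α β e ih hβ G hG
    haveI : Finite α := Finite.of_equiv β e.symm
    exact isFP_of_iso (Sigma.whiskerEquiv e (fun j => Iso.refl _))
      (ih inferInstance (fun j => G (e j)) (fun j => hG _))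
  · intro _ G hG
    apply isFP_of_isZero
    rw [IsZero.iff_id_eq_zero]
    apply Sigma.hom_ext
    intro j
    exact j.elim
  · intro α _ ih _ G hG
    have hqc : ∀ a, (G a).IsQuasicoherent := fun a => by
      haveI := hG a
      infer_instance
    haveI : (∐ G).IsQuasicoherent := QcohLimits.isQuasicoherent_sigma G hqc
    have h1 := isFP_biprod (G none) (∐ fun a : α => G (some a)) (hG none)
      (ih inferInstance _ (fun a => hG (some a)))
    let r : (∐ G : X.Modules) ⟶ G none ⊞ ∐ fun a : α => G (some a) :=
      Sigma.desc (fun o => match o with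
        | none => biprod.inl
        | some a => Sigma.ι (fun a : α => G (some a)) a ≫ biprod.inr)
    let s : (G none ⊞ ∐ fun a : α => G (some a)) ⟶ (∐ G : X.Modules) :=
      biprod.desc (Sigma.ι G none) (Sigma.desc fun a => Sigma.ι G (some a))
    refine isFP_of_retract r s ?_ h1
    apply Sigma.hom_ext
    intro o
    cases o with
    | none => simp [r, s]
    | some a => simp [r, s]

end Groth.Agent.Helper2.FPCol

end
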