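import Mathlib
import Groth.Agent.Helper2.FPCol1

/-!
# The directed system of finitely presented modules over a quasi-coherent module (Stacks 01PJ)
-/

set_option autoImplicit false
universe u
open CategoryTheory CategoryTheory.Limits AlgebraicGeometry TopologicalSpace Opposite

noncomputable section

namespace Groth.Agent.Helper2.FPCol

open Groth.Agent.Helper4 Groth.Agent.Helper2.FPExt Groth.Agent.Helper2.QuotColim

variable {X : Scheme.{u}} [CompactSpace X] [QuasiSeparatedSpace X] (F : X.Modules)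
  [F.IsQuasicoherent]

/-- the index set of sections over affine opens -/
abbrev Sg : Type u := Σ V : X.affineOpens, Γ(F, V.1)

/-- a finitely presented module with a map to `F` hitting a given section -/
structure Dat (σ : Sg F) where
  G : X.Modules
  φ : G ⟶ F
  fp : SheafOfModules.IsFinitePresentation (R := X.ringCatSheaf) G
  g : Γ(G, σ.1.1)
  hg : φ.app σ.1.1 g = σ.2

theorem nonempty_dat (σ : Sg F) : Nonempty (Dat F σ) := by
  obtain ⟨G, φ, hfp, g, hg⟩ := exists_fp_through_section F σ.1.1 σ.1.2.isCompact σ.2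
  exact ⟨⟨G, φ, hfp, g, hg⟩⟩

/-- the chosen data -/
def dat (σ : Sg F) : Dat F σ := (nonempty_dat F σ).some

/-- the chosen finitely presented module -/
abbrev GG (σ : Sg F) : X.Modules := (dat F σ).G

instance isQuasicoherent_GG (σ : Sg F) : (GG F σ).IsQuasicoherent := by
  haveI := (dat F σ).fp
  infer_instance

/-- the finite sub-coproduct -/
def PA (A : Finset (Sg F)) : X.Modules := ∐ (fun σ : A => GG F σ.1)

/-- the coprojection -/
def ιA (A : Finset (Sg F)) (σ : A) : GG F σ.1 ⟶ PA F A := Sigma.ι (fun σ : A => GG F σ.1) σ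

/-- the map to `F` -/
def πA (A : Finset (Sg F)) : PA F A ⟶ F := Sigma.desc (fun σ : A => (dat F σ.1).φ)

@[reassoc (attr := simp)]
lemma ιA_πA (A : Finset (Sg F)) (σ : A) : ιA F A σ ≫ πA F A = (dat F σ.1).φ :=
  Sigma.ι_desc _ _

lemma PA_hom_ext {A : Finset (Sg F)} {Z : X.Modules} (f g : PA F A ⟶ Z)
    (h : ∀ σ : A, ιA F A σ ≫ f = ιA F A σ ≫ g) : f = g :=
  Sigma.hom_ext _ _ h

/-- the transition map -/
def inc {A B : Finset (Sg F)} (h : A ⊆ B) : PA F A ⟶ PA F B :=
  Sigma.desc (fun σ : A => ιA F B ⟨σ.1, h σ.2⟩)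

@[reassoc (attr := simp)]
lemma ιA_inc {A B : Finset (Sg F)} (h : A ⊆ B) (σ : A) :
    ιA F A σ ≫ inc F h = ιA F B ⟨σ.1, h σ.2⟩ :=
  Sigma.ι_desc _ _

@[reassoc (attr := simp)]
lemma inc_πA {A B : Finset (Sg F)} (h : A ⊆ B) : inc F h ≫ πA F B = πA F A := by
  apply PA_hom_ext
  intro σ
  rw [ιA_inc_assoc, ιA_πA, ιA_πA]

@[simp]
lemma inc_refl (A : Finset (Sg F)) (h : A ⊆ A) : inc F h = 𝟙 _ := by
  apply PA_hom_ext
  intro σ
  rw [ιA_inc, Category.comp_id]

@[reassoc (attr := simp)]
lemma inc_trans {A B C : Finset (Sg F)} (h : A ⊆ B) (h' : B ⊆ C) :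
    inc F h ≫ inc F h' = inc F (h.trans h') := by
  apply PA_hom_ext
  intro σ
  rw [ιA_inc_assoc, ιA_inc, ιA_inc]

theorem isFP_PA (A : Finset (Sg F)) :
    SheafOfModules.IsFinitePresentation (R := X.ringCatSheaf) (PA F A) :=
  isFP_sigma_finite A (fun σ => GG F σ.1) (fun σ => (dat F σ.1).fp)

instance isQuasicoherent_PA (A : Finset (Sg F)) : (PA F A).IsQuasicoherent := by
  haveI := isFP_PA F A
  infer_instance

/-- the index preorder -/
def Idx : Type u := Σ A : Finset (Sg F), JJ (πA F A)

/-- the underlying object of the subobject of the kernel -/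
abbrev subObj (i : Idx F) : X.Modules := ((mm (πA F i.1) i.2 : Subobject _) : X.Modules)

/-- the subobject as a map to the finite sub-coproduct -/
def subI (i : Idx F) : subObj F i ⟶ PA F i.1 := sub (πA F i.1) (mm (πA F i.1)) i.2

instance mono_subI (i : Idx F) : Mono (subI F i) := by
  unfold subI
  infer_instance

@[reassoc (attr := simp)]
lemma subI_πA (i : Idx F) : subI F i ≫ πA F i.1 = 0 := sub_comp _ _ _

instance : Preorder (Idx F) where
  le i i' := ∃ h : i.1 ⊆ i'.1, ∃ u : subObj F i ⟶ subObj F i',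
    u ≫ subI F i' = subI F i ≫ inc F h
  le_refl i := ⟨Finset.Subset.refl _, 𝟙 _, by rw [inc_refl, Category.id_comp, Category.comp_id]⟩
  le_trans i i' i'' := fun ⟨h, u, hu⟩ ⟨h', u', hu'⟩ =>
    ⟨h.trans h', u ≫ u', by rw [Category.assoc, hu', reassoc_of% hu, inc_trans]⟩

/-- the diagram of finitely presented modules -/
def DD : Idx F ⥤ X.Modules where
  obj i := cokernel (subI F i)
  map {i i'} f := cokernel.desc (subI F i) (inc F (leOfHom f).fst ≫ cokernel.π (subI F i')) (by
    obtain ⟨h, u, hu⟩ := leOfHom f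
    rw [← Category.assoc, ← hu, Category.assoc, cokernel.condition, comp_zero])
  map_id i := by
    apply coequalizer.hom_ext
    simp
  map_comp f g := by
    apply coequalizer.hom_ext
    simp

/-- the projection to the quotient -/
def DDπ (i : Idx F) : PA F i.1 ⟶ (DD F).obj i := cokernel.π (subI F i)

instance epi_DDπ (i : Idx F) : Epi (DDπ F i) :=
  (inferInstance : Epi (cokernel.π (subI F i)))

@[reassoc (attr := simp)]
lemma subI_DDπ (i : Idx F) : subI F i ≫ DDπ F i = 0 := cokernel.condition _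

@[reassoc (attr := simp)]
lemma DDπ_map {i i' : Idx F} (f : i ⟶ i') :
    DDπ F i ≫ (DD F).map f = inc F (leOfHom f).fst ≫ DDπ F i' :=
  cokernel.π_desc _ _ _

/-- the component of the cocone -/
def DDι (i : Idx F) : (DD F).obj i ⟶ F := cokernel.desc (subI F i) (πA F i.1) (subI_πA F i)

@[reassoc (attr := simp)]
lemma DDπ_ι (i : Idx F) : DDπ F i ≫ DDι F i = πA F i.1 := cokernel.π_desc _ _ _

/-- the cocone with vertex `F` -/
def cc : Cocone (DD F) where
  pt := F
  ι :=
    { app := fun i => DDι F i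
      naturality := by
        intro i i' f
        rw [← cancel_epi (DDπ F i)]
        simp }

@[simp] lemma cc_ι_app (i : Idx F) : (cc F).ι.app i = DDι F i := rfl

theorem isFP_DD (i : Idx F) :
    SheafOfModules.IsFinitePresentation (R := X.ringCatSheaf) ((DD F).obj i) := by
  obtain ⟨hq, hft⟩ := mm_prop (πA F i.1) i.2
  haveI := hq
  exact isFP_cokernel_of_mono (subI F i) hft (isFP_PA F i.1)

instance isQuasicoherent_DD (i : Idx F) : ((DD F).obj i).IsQuasicoherent := by
  haveI := isFP_DD F i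
  infer_instance

end Groth.Agent.Helper2.FPCol

end
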