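import Mathlib
import Groth.Agent.Helper2.FPCol2

/-!
# Stacks 01PJ: a quasi-coherent module on a qcqs scheme is a filtered colimit of finitely presented
modules
-/

set_option autoImplicit false
universe u
open CategoryTheory CategoryTheory.Limits AlgebraicGeometry TopologicalSpace Opposite

noncomputable section

namespace Groth.Agent.Helper2.FPCol

open Groth.Agent.Helper4 Groth.Agent.Helper2.FPExt Groth.Agent.Helper2.QuotColim

variable {X : Scheme.{u}}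

/-- maps into the underlying object of the index of a subobject -/
theorem exists_hom_to_sub {G₃ F' : X.Modules} (φ₃ : G₃ ⟶ F') (S : Subobject (kernel φ₃))
    (hS : IsFTSub φ₃ S) {Z : X.Modules} (v : Z ⟶ (S : X.Modules)) :
    ∃ u : Z ⟶ ((mm φ₃ (jOf φ₃ S hS) : Subobject (kernel φ₃)) : X.Modules),
      u ≫ sub φ₃ (mm φ₃) (jOf φ₃ S hS) = v ≫ S.arrow ≫ kernel.ι φ₃ := by
  have key : ∀ (S' : Subobject (kernel φ₃)), S' = S →
      ∃ u : Z ⟶ (S' : X.Modules), u ≫ S'.arrow ≫ kernel.ι φ₃ = v ≫ S.arrow ≫ kernel.ι φ₃ := by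
    rintro S' rfl
    exact ⟨v, rfl⟩
  obtain ⟨u, hu⟩ := key _ (mm_jOf φ₃ S hS)
  exact ⟨u, by rw [sub_def]; exact hu⟩

variable [CompactSpace X] [QuasiSeparatedSpace X] (F : X.Modules) [F.IsQuasicoherent]

instance isQuasicoherent_kernel_πA (A : Finset (Sg F)) : (kernel (πA F A)).IsQuasicoherent :=
  QcohLimits.isQuasicoherent_kernel (πA F A)

/-- an index dominating two maps from modules of finite type into the kernel -/
theorem exists_idx_of_maps (C : Finset (Sg F)) {K₁ K₂ : X.Modules} [K₁.IsQuasicoherent]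
    [K₂.IsQuasicoherent] (h₁ : SheafOfModules.IsFiniteType (R := X.ringCatSheaf) K₁)
    (h₂ : SheafOfModules.IsFiniteType (R := X.ringCatSheaf) K₂) (κ₁ : K₁ ⟶ PA F C)
    (κ₂ : K₂ ⟶ PA F C) (w₁ : κ₁ ≫ πA F C = 0) (w₂ : κ₂ ≫ πA F C = 0) :
    ∃ (j : JJ (πA F C)) (u₁ : K₁ ⟶ subObj F ⟨C, j⟩) (u₂ : K₂ ⟶ subObj F ⟨C, j⟩),
      u₁ ≫ subI F ⟨C, j⟩ = κ₁ ∧ u₂ ≫ subI F ⟨C, j⟩ = κ₂ := by
  obtain ⟨K', i', j1, j2, hi', hq', hft', hj1, hj2⟩ :=
    FTLift.exists_sum_sub (kernel (πA F C)) (kernel.lift (πA F C) κ₁ w₁)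
      (kernel.lift (πA F C) κ₂ w₂) h₁ h₂
  haveI := hi'
  haveI := hq'
  have hS := isFTSub_mk (πA F C) i' hft'
  obtain ⟨u₁, hu₁⟩ := exists_hom_to_sub (πA F C) (Subobject.mk i') hS
    (j1 ≫ (Subobject.underlyingIso i').inv)
  obtain ⟨u₂, hu₂⟩ := exists_hom_to_sub (πA F C) (Subobject.mk i') hS
    (j2 ≫ (Subobject.underlyingIso i').inv)
  refine ⟨jOf (πA F C) (Subobject.mk i') hS, u₁, u₂, ?_, ?_⟩
  · change u₁ ≫ sub (πA F C) (mm (πA F C)) (jOf (πA F C) (Subobject.mk i') hS) = κ₁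
    rw [hu₁, Category.assoc, Subobject.underlyingIso_arrow_assoc, reassoc_of% hj1,
      kernel.lift_ι]
  · change u₂ ≫ sub (πA F C) (mm (πA F C)) (jOf (πA F C) (Subobject.mk i') hS) = κ₂
    rw [hu₂, Category.assoc, Subobject.underlyingIso_arrow_assoc, reassoc_of% hj2,
      kernel.lift_ι]

theorem isFT_subObj (i : Idx F) :
    SheafOfModules.IsFiniteType (R := X.ringCatSheaf) (subObj F i) :=
  (mm_prop (πA F i.1) i.2).2

instance isQuasicoherent_subObj (i : Idx F) : (subObj F i).IsQuasicoherent :=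
  (mm_prop (πA F i.1) i.2).1

instance isDirected_Idx : IsDirected (Idx F) (· ≤ ·) := by
  classical
  constructor
  intro i i'
  have hl : i.1 ⊆ i.1 ∪ i'.1 := Finset.subset_union_left
  have hr : i'.1 ⊆ i.1 ∪ i'.1 := Finset.subset_union_right
  obtain ⟨j, u₁, u₂, hu₁, hu₂⟩ := exists_idx_of_maps F (i.1 ∪ i'.1) (isFT_subObj F i)
    (isFT_subObj F i') (subI F i ≫ inc F hl) (subI F i' ≫ inc F hr)
    (by rw [Category.assoc, inc_πA, subI_πA]) (by rw [Category.assoc, inc_πA, subI_πA])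
  exact ⟨⟨i.1 ∪ i'.1, j⟩, ⟨hl, u₁, hu₁⟩, ⟨hr, u₂, hu₂⟩⟩

instance nonempty_Idx : Nonempty (Idx F) := by
  obtain ⟨j⟩ := nonempty_JJ (πA F ∅)
  exact ⟨⟨∅, j⟩⟩

set_option backward.isDefEq.respectTransparency false in
theorem cc_surj (V : X.Opens) (hV : IsAffineOpen V) (s : Γ(F, V)) :
    ∃ (i : Idx F) (t : Γ((DD F).obj i, V)), ((cc F).ι.app i).app V t = s := by
  classical
  let σ : Sg F := ⟨⟨V, hV⟩, s⟩
  obtain ⟨j⟩ := nonempty_JJ (πA F {σ})
  let σ' : ({σ} : Finset (Sg F)) := ⟨σ, Finset.mem_singleton_self σ⟩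
  refine ⟨⟨{σ}, j⟩, (DDπ F ⟨{σ}, j⟩).app V ((ιA F {σ} σ').app V (dat F σ).g), ?_⟩
  have h1 : ιA F {σ} σ' ≫ DDπ F ⟨{σ}, j⟩ ≫ DDι F ⟨{σ}, j⟩ = (dat F σ).φ := by
    rw [DDπ_ι, ιA_πA]
  have h2 := congrArg (fun ψ : GG F σ ⟶ F => ψ.app V (dat F σ).g) h1
  exact h2.trans (dat F σ).hg

set_option backward.isDefEq.respectTransparency false in
theorem cc_inj (V : X.Opens) (hV : IsAffineOpen V) (i : Idx F) (t : Γ((DD F).obj i, V))
    (ht : ((cc F).ι.app i).app V t = 0) :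
    ∃ (i' : Idx F) (f : i ⟶ i'), ((DD F).map f).app V t = 0 := by
  obtain ⟨p, rfl⟩ := QcohEpi.app_surjective_of_epi (DDπ F i) hV t
  have hp : (πA F i.1).app V p = 0 := by
    have h1 := congrArg (fun ψ : PA F i.1 ⟶ F => ψ.app V p) (DDπ_ι F i)
    exact h1.symm.trans ht
  obtain ⟨k, hk⟩ := (SubSec.exists_kernel_section_iff (πA F i.1) V p).mpr hp
  obtain ⟨K₁, i₁, hi₁, hq₁, hft₁, k₁, hk₁⟩ :=
    SubExt.exists_submodule_through_section (kernel (πA F i.1)) V hV.isCompact k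
  haveI := hq₁
  obtain ⟨j', u₁, u₂, hu₁, hu₂⟩ := exists_idx_of_maps F i.1 (isFT_subObj F i) hft₁
    (subI F i) (i₁ ≫ kernel.ι (πA F i.1)) (subI_πA F i)
    (by rw [Category.assoc, kernel.condition, comp_zero])
  have hle : i ≤ ⟨i.1, j'⟩ :=
    ⟨Finset.Subset.refl _, u₁, by rw [hu₁, inc_refl, Category.comp_id]⟩
  refine ⟨⟨i.1, j'⟩, homOfLE hle, ?_⟩
  have h1 : DDπ F i ≫ (DD F).map (homOfLE hle) = DDπ F ⟨i.1, j'⟩ := by
    rw [DDπ_map, inc_refl, Category.id_comp]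
  have h2 := congrArg (fun ψ : PA F i.1 ⟶ (DD F).obj ⟨i.1, j'⟩ => ψ.app V p) h1
  change ((DD F).map (homOfLE hle)).app V ((DDπ F i).app V p) = (DDπ F ⟨i.1, j'⟩).app V p at h2
  rw [h2]
  have h3 : u₂ ≫ subI F ⟨i.1, j'⟩ ≫ DDπ F ⟨i.1, j'⟩ = 0 := by
    rw [subI_DDπ, comp_zero]
  have h4 := congrArg (fun ψ : K₁ ⟶ (DD F).obj ⟨i.1, j'⟩ => ψ.app V k₁) h3
  have h5 : (u₂ ≫ subI F ⟨i.1, j'⟩).app V k₁ = p := by
    rw [hu₂]
    change (kernel.ι (πA F i.1)).app V (i₁.app V k₁) = p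
    have hk₁' : i₁.app V k₁ = k := hk₁
    rw [hk₁', hk]
  change (DDπ F ⟨i.1, j'⟩).app V ((u₂ ≫ subI F ⟨i.1, j'⟩).app V k₁) = 0 at h4
  rw [h5] at h4
  exact h4

/-- **Stacks 01PJ** -/
theorem exists_filtered_colimit :
    ∃ (I : Type u) (_ : SmallCategory I) (_ : IsFiltered I) (D : I ⥤ X.Modules)
      (c : Limits.Cocone D) (_ : Limits.IsColimit c),
      (∀ i, SheafOfModules.IsFinitePresentation (R := X.ringCatSheaf) (D.obj i)) ∧ c.pt = F := by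
  haveI : (cc F).pt.IsQuasicoherent := ‹F.IsQuasicoherent›
  have hcol : Nonempty (IsColimit (cc F)) :=
    nonempty_isColimit_of_sections (DD F) (fun i => inferInstance) (cc F)
      (fun V hV s => cc_surj F V hV s) (fun V hV i t ht => cc_inj F V hV i t ht)
  exact ⟨Idx F, inferInstance, inferInstance, DD F, cc F, hcol.some, fun i => isFP_DD F i, rfl⟩

end Groth.Agent.Helper2.FPCol

end
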