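import Mathlib

/-!
# Abstract "compactness" properties of an object with respect to a fixed cocone

`HasFac D c P`: every map `P ⟶ c.pt` factors through a stage.
`HasInj D c P`: a map `P ⟶ D.obj j` vanishing in `c.pt` vanishes at a later stage.
-/

set_option autoImplicit false

namespace Groth.Agent.Helper2.FPHom

open CategoryTheory Limits

universe v u w w'

variable {C : Type u} [Category.{v} C] [Preadditive C]
variable {J : Type w} [Category.{w'} J] (D : J ⥤ C) (c : Cocone D)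

/-- every map to the vertex factors through a stage -/
def HasFac (P : C) : Prop :=
  ∀ φ : P ⟶ c.pt, ∃ (j : J) (ψ : P ⟶ D.obj j), ψ ≫ c.ι.app j = φ

/-- a map to a stage vanishing in the vertex vanishes at a later stage -/
def HasInj (P : C) : Prop :=
  ∀ (j : J) (δ : P ⟶ D.obj j), δ ≫ c.ι.app j = 0 → ∃ (j' : J) (g : j ⟶ j'), δ ≫ D.map g = 0

variable {D c}

theorem HasInj.eq {P : C} (h : HasInj D c P) {j : J} (ψ ψ' : P ⟶ D.obj j)
    (e : ψ ≫ c.ι.app j = ψ' ≫ c.ι.app j) : ∃ (j' : J) (g : j ⟶ j'), ψ ≫ D.map g = ψ' ≫ D.map g := by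
  obtain ⟨j', g, hg⟩ := h j (ψ - ψ') (by rw [Preadditive.sub_comp, e, sub_self])
  refine ⟨j', g, ?_⟩
  rw [Preadditive.sub_comp, sub_eq_zero] at hg
  exact hg

theorem HasInj.of_epi {P F : C} (σ : P ⟶ F) [Epi σ] (h : HasInj D c P) : HasInj D c F := by
  intro j δ hδ
  obtain ⟨j', g, hg⟩ := h j (σ ≫ δ) (by rw [Category.assoc, hδ, comp_zero])
  refine ⟨j', g, ?_⟩
  rw [← cancel_epi σ, comp_zero, ← Category.assoc]
  exact hg

theorem HasFac.of_cokernel {P₁ P₀ F : C} (ρ : P₁ ⟶ P₀) (σ : P₀ ⟶ F) (w : ρ ≫ σ = 0)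
    (hcok : IsColimit (CokernelCofork.ofπ σ w)) (h0 : HasFac D c P₀) (h1 : HasInj D c P₁) :
    HasFac D c F := by
  intro φ
  haveI : Epi σ := epi_of_isColimit_cofork hcok
  obtain ⟨j, τ, hτ⟩ := h0 (σ ≫ φ)
  obtain ⟨j', g, hg⟩ := h1 j (ρ ≫ τ) (by rw [Category.assoc, hτ, ← Category.assoc, w, zero_comp])
  have w' : ρ ≫ (τ ≫ D.map g) = 0 := by rw [← Category.assoc]; exact hg
  let ψ : F ⟶ D.obj j' := hcok.desc (CokernelCofork.ofπ (τ ≫ D.map g) w')
  have hψ : σ ≫ ψ = τ ≫ D.map g := hcok.fac (CokernelCofork.ofπ (τ ≫ D.map g) w') WalkingParallelPair.one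
  refine ⟨j', ψ, ?_⟩
  rw [← cancel_epi σ, ← Category.assoc, hψ, Category.assoc, c.w g, hτ]

theorem HasFac.of_iso {P P' : C} (e : P ≅ P') (h : HasFac D c P) : HasFac D c P' := by
  intro φ
  obtain ⟨j, ψ, hψ⟩ := h (e.hom ≫ φ)
  exact ⟨j, e.inv ≫ ψ, by rw [Category.assoc, hψ, e.inv_hom_id_assoc]⟩

theorem HasInj.of_iso {P P' : C} (e : P ≅ P') (h : HasInj D c P) : HasInj D c P' :=
  HasInj.of_epi e.hom h

/-- simultaneous realisation of finitely many "eventually true" conditions on maps out of `j` -/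
theorem exists_common {j : J} {ι : Type*} (s : Finset ι) (Pr : ι → ∀ j' : J, (j ⟶ j') → Prop)
    (hstable : ∀ i (j' j'' : J) (g : j ⟶ j') (h : j' ⟶ j''), Pr i j' g → Pr i j'' (g ≫ h))
    (hex : ∀ i ∈ s, ∀ (j' : J) (g : j ⟶ j'), ∃ (j'' : J) (h : j' ⟶ j''), Pr i j'' (g ≫ h)) :
    ∃ (j' : J) (g : j ⟶ j'), ∀ i ∈ s, Pr i j' g := by
  classical
  induction s using Finset.induction_on with
  | empty => exact ⟨j, 𝟙 j, fun i hi => absurd hi (Finset.notMem_empty i)⟩
  | insert a s ha ih =>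
    obtain ⟨j', g, hg⟩ := ih (fun i hi => hex i (Finset.mem_insert_of_mem hi))
    obtain ⟨j'', h, hh⟩ := hex a (Finset.mem_insert_self a s) j' g
    refine ⟨j'', g ≫ h, fun i hi => ?_⟩
    rcases Finset.mem_insert.1 hi with rfl | hi
    · exact hh
    · exact hstable i j' j'' g h (hg i hi)

theorem HasInj.sigma {ι : Type*} [Finite ι] (f : ι → C) [HasCoproduct f]
    (h : ∀ i, HasInj D c (f i)) : HasInj D c (∐ f) := by
  classical
  intro j δ hδ
  haveI := Fintype.ofFinite ι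
  obtain ⟨j', g, hg⟩ := exists_common (J := J) (j := j) (Finset.univ : Finset ι)
    (fun i j' g => Sigma.ι f i ≫ δ ≫ D.map g = 0)
    (fun i j' j'' g h hgi => by
      rw [D.map_comp, ← Category.assoc, ← Category.assoc, Category.assoc (Sigma.ι f i), hgi,
        zero_comp])
    (fun i _ j' g => by
      obtain ⟨j'', h', hh⟩ := h i j' (Sigma.ι f i ≫ δ ≫ D.map g) (by
        rw [Category.assoc, Category.assoc, c.w g, hδ, comp_zero])
      refine ⟨j'', h', ?_⟩
      rw [D.map_comp, ← Category.assoc δ, ← Category.assoc]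
      exact hh)
  refine ⟨j', g, ?_⟩
  apply Sigma.hom_ext
  intro i
  rw [comp_zero]
  exact hg i (Finset.mem_univ i)

theorem HasFac.sigma [IsFiltered J] {ι : Type*} [Finite ι] (f : ι → C) [HasCoproduct f]
    (h : ∀ i, HasFac D c (f i)) : HasFac D c (∐ f) := by
  classical
  intro φ
  haveI := Fintype.ofFinite ι
  choose jj ψ hψ using fun i => h i (Sigma.ι f i ≫ φ)
  obtain ⟨j, hj⟩ := IsFiltered.sup_objs_exists (Finset.univ.image jj)
  have hm : ∀ i, Nonempty (jj i ⟶ j) := fun i =>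
    hj (Finset.mem_image.2 ⟨i, Finset.mem_univ i, rfl⟩)
  let m : ∀ i, jj i ⟶ j := fun i => (hm i).some
  refine ⟨j, Sigma.desc (fun i => ψ i ≫ D.map (m i)), ?_⟩
  apply Sigma.hom_ext
  intro i
  rw [← Category.assoc, Sigma.ι_desc, Category.assoc, c.w (m i), hψ i]

end Groth.Agent.Helper2.FPHom
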