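import Mathlib
import Groth.Agent.Helper1.EpiColim
import Groth.Agent.Lead.LocLift
import Groth.Agent.Helper2.FPHom1

/-!
# Sections over a quasi-compact quasi-separated open of a filtered colimit of modules
-/

set_option autoImplicit false
universe u
open CategoryTheory CategoryTheory.Limits AlgebraicGeometry TopologicalSpace Opposite

namespace Groth.Agent.Helper2.FPHom
open Groth.Agent.Helper9.RpushCmp Groth.Agent.Helper1.CechTop Groth.Agent.Helper1.EpiColim

variable {X : Scheme.{u}}

noncomputable def isColimit_sections {J : Type u} [SmallCategory J] [IsFiltered J] (D : J ⥤ X.Modules)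
    (c : Cocone D) (hc : IsColimit c) {U : X.Opens} (hU : IsCompact (U : Set X))
    (hqs : IsQuasiSeparated (U : Set X)) :
    IsColimit ((tA X ⋙ (sectionsFunctor U :
      CohTop.Ab X.toTopCat ⥤ AddCommGrpCat.{u})).mapCocone c) := by
  haveI : PreservesColimitsOfSize.{u, u} (tA X) :=
    Groth.Agent.Helper3.SheafModLib.toSheaf_preservesColimits X.ringCatSheaf
  haveI : PrespectralSpace X.toTopCat := (inferInstance : PrespectralSpace X)
  haveI := preservesColimitsOfShape_sections (X := X.toTopCat) U hU hqs J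
  exact isColimitOfPreserves (tA X ⋙ (sectionsFunctor U :
    CohTop.Ab X.toTopCat ⥤ AddCommGrpCat.{u})) hc

/-- every section over a qcqs open of a filtered colimit of modules comes from a stage -/
theorem exists_rep' {J : Type u} [SmallCategory J] [IsFiltered J] (D : J ⥤ X.Modules)
    (c : Cocone D) (hc : IsColimit c) {U : X.Opens} (hU : IsCompact (U : Set X))
    (hqs : IsQuasiSeparated (U : Set X)) (s : Γ(c.pt, U)) :
    ∃ (j : J) (t : Γ(D.obj j, U)), (c.ι.app j).app U t = s := by
  have hc1 := isColimit_sections D c hc hU hqs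
  obtain ⟨j, t, ht⟩ := Concrete.isColimit_exists_rep _ hc1 s
  exact ⟨j, t, ht⟩

/-- a section at a stage dying in the colimit dies at a later stage -/
theorem exists_map_eq_zero' {J : Type u} [SmallCategory J] [IsFiltered J] (D : J ⥤ X.Modules)
    (c : Cocone D) (hc : IsColimit c) {U : X.Opens} (hU : IsCompact (U : Set X))
    (hqs : IsQuasiSeparated (U : Set X)) (j : J) (t : Γ(D.obj j, U))
    (ht : (c.ι.app j).app U t = 0) :
    ∃ (j' : J) (g : j ⟶ j'), (D.map g).app U t = 0 := by
  have hc1 := isColimit_sections D c hc hU hqs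
  obtain ⟨k, f, g, hfg⟩ := Concrete.isColimit_exists_of_rep_eq _ hc1 t (0 : Γ(D.obj j, U))
    (by
      refine Eq.trans ht ?_
      exact (map_zero ((c.ι.app j).app U).hom).symm)
  refine ⟨k, f, ?_⟩
  refine Eq.trans hfg ?_
  exact map_zero ((D.map g).app U).hom

end Groth.Agent.Helper2.FPHom

namespace Groth.Agent.Helper2.FPHom
open Groth.Agent.Lead.LocLift

variable {Y : Scheme.{u}}

theorem isCompact_top [CompactSpace Y] : IsCompact ((⊤ : Y.Opens) : Set Y) := by
  rw [Opens.coe_top]; exact isCompact_univ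

theorem isQuasiSeparated_top [QuasiSeparatedSpace Y] : IsQuasiSeparated ((⊤ : Y.Opens) : Set Y) := by
  rw [Opens.coe_top]; exact isQuasiSeparated_univ

variable [CompactSpace Y] [QuasiSeparatedSpace Y]
  {J : Type u} [SmallCategory J] [IsFiltered J] (D : J ⥤ Y.Modules) (c : Cocone D)
  (hc : IsColimit c)

include hc

theorem hasFac_unit : HasFac D c (Coh.structureModule Y) := by
  intro φ
  obtain ⟨j, t, ht⟩ := exists_rep' D c hc (U := ⊤) isCompact_top isQuasiSeparated_top
    (φ.app ⊤ (1 : Γ(Y, ⊤)))
  refine ⟨j, homOfTop (D.obj j) t, hom_unit_ext _ _ ?_⟩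
  change (c.ι.app j).app ⊤ ((homOfTop (D.obj j) t).app ⊤ (1 : Γ(Y, ⊤))) = _
  rw [homOfTop_app_one]
  exact ht

theorem hasInj_unit : HasInj D c (Coh.structureModule Y) := by
  intro j δ hδ
  have h0 : (c.ι.app j).app ⊤ (δ.app ⊤ (1 : Γ(Y, ⊤))) = 0 := by
    have := congrArg (fun ψ : Coh.structureModule Y ⟶ c.pt => ψ.app ⊤ (1 : Γ(Y, ⊤))) hδ
    exact this
  obtain ⟨j', g, hg⟩ := exists_map_eq_zero' D c hc (U := ⊤) isCompact_top isQuasiSeparated_top j
    (δ.app ⊤ (1 : Γ(Y, ⊤))) h0
  refine ⟨j', g, hom_unit_ext _ _ ?_⟩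
  change (D.map g).app ⊤ (δ.app ⊤ (1 : Γ(Y, ⊤))) = _
  rw [hg]
  rfl

theorem hasFac_free (I : Type u) [Finite I] :
    HasFac D c (SheafOfModules.free (R := Y.ringCatSheaf) I) := by
  unfold SheafOfModules.free
  exact HasFac.sigma _ (fun _ => hasFac_unit D c hc)

theorem hasInj_free (I : Type u) [Finite I] :
    HasInj D c (SheafOfModules.free (R := Y.ringCatSheaf) I) := by
  unfold SheafOfModules.free
  exact HasInj.sigma _ (fun _ => hasInj_unit D c hc)

theorem hasInj_of_presentation (H : Y.Modules)
    (P : SheafOfModules.Presentation (R := Y.ringCatSheaf) H) [P.IsFinite] : HasInj D c H := by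
  haveI : Finite P.generators.I := SheafOfModules.GeneratingSections.IsFiniteType.finite
  let σ : (SheafOfModules.free (R := Y.ringCatSheaf) P.generators.I : Y.Modules) ⟶ H :=
    P.generators.π
  have hσ : Epi σ := P.generators.epi
  exact @HasInj.of_epi _ _ _ _ _ D c _ _ σ hσ (hasInj_free D c hc _)

theorem hasFac_of_presentation (H : Y.Modules)
    (P : SheafOfModules.Presentation (R := Y.ringCatSheaf) H) [P.IsFinite] : HasFac D c H := by
  haveI : Finite P.generators.I := SheafOfModules.GeneratingSections.IsFiniteType.finite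
  haveI : Finite P.relations.I := SheafOfModules.GeneratingSections.IsFiniteType.finite
  exact HasFac.of_cokernel _ P.generators.π _ P.isColimit (hasFac_free D c hc _)
    (hasInj_free D c hc _)

end Groth.Agent.Helper2.FPHom
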