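import Mathlib
import Groth.Agent.Helper1.GlueFam
import Groth.Agent.Helper4.StalkExact

/-!
# Gluing morphisms of modules given on the members of an open cover
-/

set_option autoImplicit false
universe u
open CategoryTheory CategoryTheory.Limits AlgebraicGeometry TopologicalSpace Opposite

namespace Groth.Agent.Helper2.FPHom

open Groth.Agent.Helper4.StalkExact Scheme.Modules

variable {X : Scheme.{u}}

/-- restriction of sections along an inclusion of opens -/
noncomputable def res (M : X.Modules) {V V' : X.Opens} (h : V' ≤ V) (x : Γ(M, V)) : Γ(M, V') :=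
  M.presheaf.map (homOfLE h).op x

theorem res_res (M : X.Modules) {V V' V'' : X.Opens} (h : V' ≤ V) (h' : V'' ≤ V') (x : Γ(M, V)) :
    res M h' (res M h x) = res M (h'.trans h) x := by
  unfold res
  have := M.presheaf.map_comp (homOfLE h).op (homOfLE h').op
  exact (congrArg (fun k => k.hom x) this).symm

theorem res_self (M : X.Modules) {V : X.Opens} (h : V ≤ V) (x : Γ(M, V)) : res M h x = x := by
  unfold res
  have : (homOfLE h).op = 𝟙 (op V) := Subsingleton.elim _ _
  rw [this, M.presheaf.map_id]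
  rfl

theorem map_eq_res (M : X.Modules) {V V' : X.Opens} (f : op V ⟶ op V') (x : Γ(M, V)) :
    M.presheaf.map f x = res M (leOfHom f.unop) x := by
  unfold res
  have : f = (homOfLE (leOfHom f.unop)).op := Subsingleton.elim _ _
  rw [← this]

theorem res_add (M : X.Modules) {V V' : X.Opens} (h : V' ≤ V) (x y : Γ(M, V)) :
    res M h (x + y) = res M h x + res M h y := map_add _ _ _

theorem res_smul (M : X.Modules) {V V' : X.Opens} (h : V' ≤ V) (r : Γ(X, V)) (x : Γ(M, V)) :
    res M h (r • x) = X.presheaf.map (homOfLE h).op r • res M h x :=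
  Scheme.Modules.map_smul M (homOfLE h) r x

theorem app_res' {A B : X.Modules} (κ : A ⟶ B) {V V' : X.Opens} (h : V' ≤ V) (x : Γ(A, V)) :
    κ.app V' (res A h x) = res B h (κ.app V x) := app_res κ (homOfLE h) x

section Local

variable {F G : X.Modules} {W : X.Opens}

/-- naturality of a local morphism, in terms of restriction maps of the ambient modules -/
theorem loc_natural (ψ : F.restrict W.ι ⟶ G.restrict W.ι) {Z₁ Z₂ : W.toScheme.Opens} (h : Z₁ ≤ Z₂)
    (x : Γ(F, W.ι ''ᵁ Z₂)) :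
    ψ.app Z₁ (res F (W.ι.image_mono h) x) = res G (W.ι.image_mono h) (ψ.app Z₂ x) :=
  app_res ψ (homOfLE h) x

theorem le_image_preimage {V : X.Opens} (hV : V ≤ W) : V ≤ W.ι ''ᵁ (W.ι ⁻¹ᵁ V) := by
  rw [Scheme.Hom.image_preimage_eq_opensRange_inf, Scheme.Opens.opensRange_ι]
  exact le_inf hV le_rfl

/-- the map on sections over a small open induced by a local morphism -/
noncomputable def secMap (ψ : F.restrict W.ι ⟶ G.restrict W.ι) (V : X.Opens) (hV : V ≤ W)
    (s : Γ(F, V)) : Γ(G, V) :=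
  res G (le_image_preimage hV) (ψ.app (W.ι ⁻¹ᵁ V) (res F (W.ι.image_preimage_le V) s))

theorem secMap_eq (ψ : F.restrict W.ι ⟶ G.restrict W.ι) (V : X.Opens) (hV : V ≤ W)
    (Z : W.toScheme.Opens) (h1 : W.ι ''ᵁ Z ≤ V) (h2 : V ≤ W.ι ''ᵁ Z) (s : Γ(F, V)) :
    secMap ψ V hV s = res G h2 (ψ.app Z (res F h1 s)) := by
  have hZ : Z ≤ W.ι ⁻¹ᵁ V := by
    rw [← W.ι.preimage_image_eq Z]
    exact W.ι.preimage_mono h1
  have e1 : res F h1 s = res F (W.ι.image_mono hZ) (res F (W.ι.image_preimage_le V) s) :=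
    (res_res F _ _ s).symm
  have e2 := loc_natural ψ hZ (res F (W.ι.image_preimage_le V) s)
  have e3 : res G h2 (ψ.app Z (res F h1 s)) =
      res G h2 (res G (W.ι.image_mono hZ)
        (ψ.app (W.ι ⁻¹ᵁ V) (res F (W.ι.image_preimage_le V) s))) :=
    (congrArg (fun z : Γ(F, W.ι ''ᵁ Z) => res G h2 (ψ.app Z z)) e1).trans
      (congrArg (fun z : Γ(G, W.ι ''ᵁ Z) => res G h2 z) e2)
  rw [e3, res_res]
  rfl

end Local

section ResLoc

variable {F G : X.Modules} {W U : X.Opens} (h : U ≤ W)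

/-- the canonical isomorphism `M|_U ≅ (M|_W)|_U` -/
noncomputable def resIso (M : X.Modules) :
    M.restrict U.ι ≅ (M.restrict W.ι).restrict (X.homOfLE h) :=
  ((restrictFunctorCongr (X.homOfLE_ι h).symm) ≪≫ restrictFunctorComp (X.homOfLE h) W.ι).app M

theorem image_image_eq (Z : U.toScheme.Opens) : W.ι ''ᵁ (X.homOfLE h ''ᵁ Z) = U.ι ''ᵁ Z := by
  apply Opens.ext
  rw [Scheme.Hom.coe_image, Scheme.Hom.coe_image, Scheme.Hom.coe_image, Set.image_image]
  apply Set.image_congr
  intro z _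
  have := X.homOfLE_ι h
  exact congrArg (fun f : U.toScheme ⟶ X => f z) this

theorem resIso_hom_app (M : X.Modules) (Z : U.toScheme.Opens) (x : Γ(M, U.ι ''ᵁ Z)) :
    (resIso h M).hom.app Z x = res M (image_image_eq h Z).le x := by
  unfold resIso
  simp only [Iso.app_hom, Iso.trans_hom, NatTrans.comp_app, Scheme.Modules.Hom.comp_app]
  rw [restrictFunctorCongr_hom_app_app, restrictFunctorComp_hom_app_app]
  rw [ConcreteCategory.comp_apply]
  refine Eq.trans (map_eq_res M _ _) ?_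
  refine Eq.trans (congrArg _ (map_eq_res M _ _)) ?_
  exact res_res M _ _ x

theorem resIso_inv_app (M : X.Modules) (Z : U.toScheme.Opens)
    (x : Γ(M, W.ι ''ᵁ (X.homOfLE h ''ᵁ Z))) :
    (resIso h M).inv.app Z x = res M (image_image_eq h Z).ge x := by
  unfold resIso
  simp only [Iso.app_inv, Iso.trans_inv, NatTrans.comp_app, Scheme.Modules.Hom.comp_app]
  rw [restrictFunctorCongr_inv_app_app, restrictFunctorComp_inv_app_app]
  rw [ConcreteCategory.comp_apply]
  refine Eq.trans (map_eq_res M _ _) ?_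
  refine Eq.trans (congrArg _ (map_eq_res M _ _)) ?_
  exact res_res M _ _ x

theorem resIso_hom_naturality {M N : X.Modules} (γ : M ⟶ N) :
    (restrictFunctor U.ι).map γ ≫ (resIso h N).hom =
      (resIso h M).hom ≫ (restrictFunctor (X.homOfLE h)).map ((restrictFunctor W.ι).map γ) :=
  ((restrictFunctorCongr (X.homOfLE_ι h).symm) ≪≫
    restrictFunctorComp (X.homOfLE h) W.ι).hom.naturality γ

/-- restriction of a local morphism to a smaller open -/
noncomputable def resLoc (ψ : F.restrict W.ι ⟶ G.restrict W.ι) :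
    F.restrict U.ι ⟶ G.restrict U.ι :=
  (resIso h F).hom ≫ (restrictFunctor (X.homOfLE h)).map ψ ≫ (resIso h G).inv

theorem resLoc_map (γ : F ⟶ G) :
    resLoc h ((restrictFunctor W.ι).map γ) = (restrictFunctor U.ι).map γ := by
  unfold resLoc
  rw [← Category.assoc, ← resIso_hom_naturality, Category.assoc, Iso.hom_inv_id, Category.comp_id]

theorem resLoc_comp_map {G' : X.Modules} (ψ : F.restrict W.ι ⟶ G.restrict W.ι) (γ : G ⟶ G') :
    resLoc h (ψ ≫ (restrictFunctor W.ι).map γ) = resLoc h ψ ≫ (restrictFunctor U.ι).map γ := by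
  unfold resLoc
  rw [Functor.map_comp, Category.assoc, Category.assoc, Category.assoc]
  congr 2
  rw [← cancel_mono (resIso h G').hom, Category.assoc, Iso.inv_hom_id, Category.comp_id,
    Category.assoc, resIso_hom_naturality, Iso.inv_hom_id_assoc]

theorem resLoc_app (ψ : F.restrict W.ι ⟶ G.restrict W.ι) (Z : U.toScheme.Opens)
    (x : Γ(F, U.ι ''ᵁ Z)) :
    (resLoc h ψ).app Z x =
      res G (image_image_eq h Z).ge (ψ.app (X.homOfLE h ''ᵁ Z) (res F (image_image_eq h Z).le x)) := by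
  unfold resLoc
  rw [Scheme.Modules.Hom.comp_app, Scheme.Modules.Hom.comp_app, ConcreteCategory.comp_apply,
    ConcreteCategory.comp_apply]
  refine Eq.trans (resIso_inv_app h G Z _) ?_
  refine congrArg (fun z => res G (image_image_eq h Z).ge z) ?_
  exact congrArg (fun z => ψ.app (X.homOfLE h ''ᵁ Z) z) (resIso_hom_app h F Z x)

theorem secMap_resLoc (ψ : F.restrict W.ι ⟶ G.restrict W.ι) (V : X.Opens) (hV : V ≤ U)
    (s : Γ(F, V)) : secMap (resLoc h ψ) V hV s = secMap ψ V (hV.trans h) s := by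
  have h1 : W.ι ''ᵁ (X.homOfLE h ''ᵁ (U.ι ⁻¹ᵁ V)) ≤ V :=
    (image_image_eq h _).le.trans (U.ι.image_preimage_le V)
  have h2 : V ≤ W.ι ''ᵁ (X.homOfLE h ''ᵁ (U.ι ⁻¹ᵁ V)) :=
    (le_image_preimage hV).trans (image_image_eq h _).ge
  rw [secMap_eq ψ V (hV.trans h) (X.homOfLE h ''ᵁ (U.ι ⁻¹ᵁ V)) h1 h2]
  unfold secMap
  rw [resLoc_app, res_res]
  exact congrArg (fun z : Γ(F, W.ι ''ᵁ (X.homOfLE h ''ᵁ (U.ι ⁻¹ᵁ V))) =>
    res G h2 (ψ.app (X.homOfLE h ''ᵁ (U.ι ⁻¹ᵁ V)) z)) (res_res F _ _ s)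

end ResLoc

section Glue

variable {F G : X.Modules}

/-- the target of the adjoint of a local morphism -/
noncomputable abbrev EE (G : X.Modules) (W : X.Opens) : X.Modules :=
  (pushforward W.ι).obj (G.restrict W.ι)

/-- the unit `G ⟶ j_* j^* G` -/
noncomputable def bb (G : X.Modules) (W : X.Opens) : G ⟶ EE G W :=
  (restrictAdjunction W.ι).unit.app G

/-- the adjoint of a local morphism -/
noncomputable def aa {W : X.Opens} (ψ : F.restrict W.ι ⟶ G.restrict W.ι) : F ⟶ EE G W :=
  (restrictAdjunction W.ι).homEquiv F (G.restrict W.ι) ψ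

theorem bb_app (W V : X.Opens) (t : Γ(G, V)) :
    (bb G W).app V t = res G (W.ι.image_preimage_le V) t := rfl

theorem aa_app {W : X.Opens} (ψ : F.restrict W.ι ⟶ G.restrict W.ι) (V : X.Opens) (s : Γ(F, V)) :
    (aa ψ).app V s = ψ.app (W.ι ⁻¹ᵁ V) (res F (W.ι.image_preimage_le V) s) := by
  unfold aa
  rw [Adjunction.homEquiv_unit]
  rfl

theorem EE_map (W : X.Opens) {V V' : X.Opens} (hVV' : V' ≤ V) (x : Γ(EE G W, V)) :
    (EE G W).presheaf.map (homOfLE hVV').op x =
      res G (W.ι.image_mono (W.ι.preimage_mono hVV')) x := rfl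

theorem bb_bijective (W : X.Opens) {V : X.Opens} (hV : V ≤ W) :
    Function.Bijective ((bb G W).app V) := by
  constructor
  · intro t t' htt
    have h1 : res G (le_image_preimage hV) ((bb G W).app V t) =
        res G (le_image_preimage hV) ((bb G W).app V t') := congrArg _ htt
    rw [bb_app, bb_app, res_res, res_res, res_self, res_self] at h1
    exact h1
  · intro y
    refine ⟨res G (le_image_preimage hV) y, ?_⟩
    rw [bb_app, res_res, res_self]

theorem EE_supp (W V : X.Opens) :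
    Function.Injective ((EE G W).presheaf.map (homOfLE (inf_le_left : V ⊓ W ≤ V)).op) := by
  intro x y hxy
  have hrev : W.ι ''ᵁ (W.ι ⁻¹ᵁ V) ≤ W.ι ''ᵁ (W.ι ⁻¹ᵁ (V ⊓ W)) := by
    rw [Scheme.Hom.image_preimage_eq_opensRange_inf, Scheme.Hom.image_preimage_eq_opensRange_inf,
      Scheme.Opens.opensRange_ι]
    exact le_inf inf_le_left (le_inf inf_le_right inf_le_left)
  have h1 : res G hrev ((EE G W).presheaf.map (homOfLE (inf_le_left : V ⊓ W ≤ V)).op x) =
      res G hrev ((EE G W).presheaf.map (homOfLE (inf_le_left : V ⊓ W ≤ V)).op y) :=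
    congrArg _ hxy
  rw [EE_map, EE_map, res_res, res_res, res_self, res_self] at h1
  exact h1

theorem eq_secMap_of_bb_eq_aa {W : X.Opens} (ψ : F.restrict W.ι ⟶ G.restrict W.ι) {V : X.Opens}
    (hV : V ≤ W) (s : Γ(F, V)) (t : Γ(G, V)) (h : (bb G W).app V t = (aa ψ).app V s) :
    t = secMap ψ V hV s := by
  rw [bb_app, aa_app] at h
  have h1 := congrArg (fun z => res G (le_image_preimage hV) z) h
  simp only [res_res, res_self] at h1
  exact h1

theorem bb_eq_aa_of_eq_secMap {W : X.Opens} (ψ : F.restrict W.ι ⟶ G.restrict W.ι) {V : X.Opens}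
    (hV : V ≤ W) (s : Γ(F, V)) (t : Γ(G, V)) (h : t = secMap ψ V hV s) :
    (bb G W).app V t = (aa ψ).app V s := by
  rw [bb_app, aa_app, h]
  unfold secMap
  rw [res_res, res_self]

/-- **gluing local morphisms of modules** -/
theorem exists_glue_loc {ι : Type u} (W : ι → X.Opens) (hcov : ⨆ i, W i = ⊤)
    (ψ : ∀ i, F.restrict (W i).ι ⟶ G.restrict (W i).ι)
    (hcompat : ∀ i j, resLoc (inf_le_left : W i ⊓ W j ≤ W i) (ψ i) =
      resLoc (inf_le_right : W i ⊓ W j ≤ W j) (ψ j)) :
    ∃ τ : F ⟶ G, ∀ i, (restrictFunctor (W i).ι).map τ = ψ i := by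
  obtain ⟨τ, hτ, -⟩ := Groth.Agent.Helper1.GlueFam.existsUnique (F := F) (G := G) W hcov
    (fun i => EE G (W i)) (fun i => aa (ψ i)) (fun i => bb G (W i))
    (fun i V hV => bb_bijective (W i) hV)
    (fun i j V hVi hVj s t h => by
      apply bb_eq_aa_of_eq_secMap (ψ j) hVj
      rw [eq_secMap_of_bb_eq_aa (ψ i) hVi s t h]
      have hV : V ≤ W i ⊓ W j := le_inf hVi hVj
      rw [← secMap_resLoc (inf_le_left : W i ⊓ W j ≤ W i) (ψ i) V hV s,
        ← secMap_resLoc (inf_le_right : W i ⊓ W j ≤ W j) (ψ j) V hV s, hcompat i j])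
    (fun i V => EE_supp (W i) V)
  refine ⟨τ, fun i => ?_⟩
  apply ((restrictAdjunction (W i).ι).homEquiv F (G.restrict (W i).ι)).injective
  have h1 := hτ i
  unfold aa bb at h1
  rw [← h1, Adjunction.homEquiv_unit]
  exact ((restrictAdjunction (W i).ι).unit.naturality τ).symm

end Glue

end Groth.Agent.Helper2.FPHom
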