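import Mathlib
import Groth.Agent.Helper2.FPHom2
import Groth.Agent.Helper2.FPHom3
import Groth.Agent.Helper4.FPTilde
import Groth.Agent.Helper4.FinLocFree2
import Groth.Agent.Helper4.TwistExt

/-!
# Finitely presented modules on a qcqs scheme are compact objects of the category of modules
-/

set_option autoImplicit false
universe u
open CategoryTheory CategoryTheory.Limits AlgebraicGeometry TopologicalSpace Opposite

namespace Groth.Agent.Helper2.FPHom

open Groth.Agent.Helper4 Scheme.Modules

variable {X : Scheme.{u}}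

/-- morphisms agreeing on the members of an open cover are equal -/
theorem hom_ext_of_cover {A B : X.Modules} (θ₁ θ₂ : A ⟶ B) {ι : Type*} (W : ι → X.Opens)
    (hcov : ⨆ i, W i = ⊤)
    (h : ∀ i, (restrictFunctor (W i).ι).map θ₁ = (restrictFunctor (W i).ι).map θ₂) : θ₁ = θ₂ := by
  apply Scheme.Modules.hom_ext
  intro V
  ext s
  apply TwistExt.eq_of_cover B V
  intro y hy
  have hy' : y ∈ ⨆ i, W i := by rw [hcov]; trivial
  obtain ⟨i, hi⟩ := Opens.mem_iSup.1 hy'
  refine ⟨(W i).ι ''ᵁ ((W i).ι ⁻¹ᵁ V), (W i).ι.image_preimage_le V, ?_, ?_⟩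
  · rw [Scheme.Hom.image_preimage_eq_opensRange_inf, Scheme.Opens.opensRange_ι]
    exact ⟨hi, hy⟩
  · change res B _ (θ₁.app V s) = res B _ (θ₂.app V s)
    rw [← app_res', ← app_res']
    exact congrArg (fun m : A.restrict (W i).ι ⟶ B.restrict (W i).ι =>
      m.app ((W i).ι ⁻¹ᵁ V) (res A ((W i).ι.image_preimage_le V) s)) (h i)

section Restr

variable {J : Type u} [SmallCategory J] (D : J ⥤ X.Modules) (c : Cocone D)

/-- the restricted diagram -/
noncomputable abbrev DU (U : X.Opens) : J ⥤ U.toScheme.Modules := D ⋙ restrictFunctor U.ι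

/-- the restricted cocone -/
noncomputable abbrev cU (U : X.Opens) : Cocone (DU D U) := (restrictFunctor U.ι).mapCocone c

/-- the restricted cocone is a colimit -/
noncomputable def hcU (hc : IsColimit c) (U : X.Opens) : IsColimit (cU D c U) :=
  isColimitOfPreserves (restrictFunctor U.ι) hc

end Restr

section Cover

/-- a finite affine cover adapted to a finitely presented module -/
theorem exists_cover [CompactSpace X] (F : X.Modules)
    (hF : SheafOfModules.IsFinitePresentation (R := X.ringCatSheaf) F) :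
    ∃ (T : Finset X) (W : T → X.Opens), (⨆ i, W i = ⊤) ∧ (∀ i, IsAffineOpen (W i)) ∧
      ∀ i (V : X.Opens), V ≤ W i →
        ∃ P : SheafOfModules.Presentation (R := V.toScheme.ringCatSheaf) (F.restrict V.ι),
          P.IsFinite := by
  choose W₀ hxW₀ hP using fun x : X => FPTilde.exists_presentation_restrict F hF x
  choose U hU hxU hUW using fun x : X => FinLocFree2.exists_affine_nhd_le x (W₀ x) (hxW₀ x)
  obtain ⟨T, hT⟩ := isCompact_univ.elim_finite_subcover (fun x => ((U x : X.Opens) : Set X))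
    (fun x => (U x).isOpen) (fun x _ => Set.mem_iUnion.2 ⟨x, hxU x⟩)
  refine ⟨T, fun i => U i.1, ?_, fun i => hU i.1, fun i V hV => hP i.1 V (hV.trans (hUW i.1))⟩
  rw [eq_top_iff]
  intro x _
  obtain ⟨x', hx'⟩ := Set.mem_iUnion.1 (hT (Set.mem_univ x))
  obtain ⟨hx'T, hxx'⟩ := Set.mem_iUnion.1 hx'
  exact Opens.mem_iSup.2 ⟨⟨x', hx'T⟩, hxx'⟩

theorem compactSpace_of_isCompact (U : X.Opens) (h : IsCompact (U : Set X)) :
    CompactSpace U.toScheme := isCompact_iff_compactSpace.mp h

theorem quasiSeparatedSpace_opens [QuasiSeparatedSpace X] (U : X.Opens) :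
    QuasiSeparatedSpace U.toScheme :=
  (U.isOpen.isOpenEmbedding_subtypeVal).quasiSeparatedSpace

end Cover

section Main

variable [CompactSpace X] [QuasiSeparatedSpace X] (F : X.Modules)
  (hF : SheafOfModules.IsFinitePresentation (R := X.ringCatSheaf) F)
  {J : Type u} [SmallCategory J] [IsFiltered J] (D : J ⥤ X.Modules) (c : Cocone D)
  (hc : IsColimit c)

include hF hc

/-- (B): a map from a finitely presented module to a stage which vanishes in the colimit
vanishes at a later stage -/
theorem hasInj_of_isFP : HasInj D c F := by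
  classical
  obtain ⟨T, W, hcov, hW, hP⟩ := exists_cover F hF
  intro j δ hδ
  have hInj : ∀ i : T, HasInj (DU D (W i)) (cU D c (W i)) (F.restrict (W i).ι) := by
    intro i
    haveI := compactSpace_of_isCompact (W i) (hW i).isCompact
    haveI := quasiSeparatedSpace_opens (W i)
    obtain ⟨P, hPf⟩ := hP i (W i) le_rfl
    exact hasInj_of_presentation (DU D (W i)) (cU D c (W i)) (hcU D c hc (W i)) _ P
  obtain ⟨j', g, hg⟩ := exists_common (J := J) (j := j) (Finset.univ : Finset T)
    (fun i j' g => (restrictFunctor (W i).ι).map (δ ≫ D.map g) = 0)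
    (fun i j' j'' g h hgi => by
      rw [D.map_comp, ← Category.assoc, Functor.map_comp, hgi, zero_comp])
    (fun i _ j' g => by
      obtain ⟨j'', h, hh⟩ := hInj i j' ((restrictFunctor (W i).ι).map (δ ≫ D.map g)) (by
        change (restrictFunctor (W i).ι).map (δ ≫ D.map g) ≫
          (restrictFunctor (W i).ι).map (c.ι.app j') = 0
        rw [← Functor.map_comp, Category.assoc, c.w g, hδ, Functor.map_zero])
      refine ⟨j'', h, ?_⟩
      rw [D.map_comp, ← Category.assoc, Functor.map_comp]
      exact hh)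
  refine ⟨j', g, hom_ext_of_cover _ _ W hcov (fun i => ?_)⟩
  rw [hg i (Finset.mem_univ i), Functor.map_zero]

/-- (A): a map from a finitely presented module to a filtered colimit factors through a stage -/
theorem hasFac_of_isFP : HasFac D c F := by
  classical
  obtain ⟨T, W, hcov, hW, hP⟩ := exists_cover F hF
  intro φ
  -- local lifts
  have hFac : ∀ i : T, HasFac (DU D (W i)) (cU D c (W i)) (F.restrict (W i).ι) := by
    intro i
    haveI := compactSpace_of_isCompact (W i) (hW i).isCompact
    haveI := quasiSeparatedSpace_opens (W i)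
    obtain ⟨P, hPf⟩ := hP i (W i) le_rfl
    exact hasFac_of_presentation (DU D (W i)) (cU D c (W i)) (hcU D c hc (W i)) _ P
  have hInj : ∀ i i' : T, HasInj (DU D (W i ⊓ W i')) (cU D c (W i ⊓ W i'))
      (F.restrict (W i ⊓ W i').ι) := by
    intro i i'
    haveI := compactSpace_of_isCompact (W i ⊓ W i')
      (QuasiSeparatedSpace.inter_isCompact _ _ (W i).isOpen (hW i).isCompact (W i').isOpen
        (hW i').isCompact)
    haveI := quasiSeparatedSpace_opens (W i ⊓ W i')
    obtain ⟨P, hPf⟩ := hP i (W i ⊓ W i') inf_le_left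
    exact hasInj_of_presentation (DU D (W i ⊓ W i')) (cU D c (W i ⊓ W i'))
      (hcU D c hc (W i ⊓ W i')) _ P
  choose jj ψ₀ hψ₀ using fun i : T => hFac i ((restrictFunctor (W i).ι).map φ)
  obtain ⟨j₁, hj₁⟩ := IsFiltered.sup_objs_exists ((Finset.univ : Finset T).image jj)
  have hm : ∀ i, Nonempty (jj i ⟶ j₁) := fun i =>
    hj₁ (Finset.mem_image.2 ⟨i, Finset.mem_univ i, rfl⟩)
  let m : ∀ i, jj i ⟶ j₁ := fun i => (hm i).some
  let ψ₁ : ∀ i : T, F.restrict (W i).ι ⟶ (D.obj j₁).restrict (W i).ι := fun i =>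
    ψ₀ i ≫ (restrictFunctor (W i).ι).map (D.map (m i))
  have hψ₁ : ∀ i, ψ₁ i ≫ (restrictFunctor (W i).ι).map (c.ι.app j₁) =
      (restrictFunctor (W i).ι).map φ := by
    intro i
    rw [Category.assoc, ← Functor.map_comp, c.w (m i)]
    exact hψ₀ i
  -- compatibility on overlaps at a later stage
  obtain ⟨j₂, g, hg⟩ := exists_common (J := J) (j := j₁) (Finset.univ : Finset (T × T))
    (fun p j' g => resLoc (inf_le_left : W p.1 ⊓ W p.2 ≤ W p.1)
        (ψ₁ p.1 ≫ (restrictFunctor (W p.1).ι).map (D.map g)) =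
      resLoc (inf_le_right : W p.1 ⊓ W p.2 ≤ W p.2)
        (ψ₁ p.2 ≫ (restrictFunctor (W p.2).ι).map (D.map g)))
    (fun p j' j'' g h hgi => by
      have key : ∀ (i : T) (hle : W p.1 ⊓ W p.2 ≤ W i),
          resLoc hle (ψ₁ i ≫ (restrictFunctor (W i).ι).map (D.map (g ≫ h))) =
            resLoc hle (ψ₁ i ≫ (restrictFunctor (W i).ι).map (D.map g)) ≫
              (restrictFunctor (W p.1 ⊓ W p.2).ι).map (D.map h) := by
        intro i hle
        rw [D.map_comp, Functor.map_comp, ← Category.assoc, resLoc_comp_map]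
      rw [key p.1, key p.2, hgi])
    (fun p _ j' g => by
      have e1 : ∀ (i : T) (hle : W p.1 ⊓ W p.2 ≤ W i),
          resLoc hle (ψ₁ i ≫ (restrictFunctor (W i).ι).map (D.map g)) ≫
            (restrictFunctor (W p.1 ⊓ W p.2).ι).map (c.ι.app j') =
          (restrictFunctor (W p.1 ⊓ W p.2).ι).map φ := by
        intro i hle
        rw [← resLoc_comp_map, Category.assoc, ← Functor.map_comp, c.w g, hψ₁ i, resLoc_map]
      obtain ⟨j'', h, hh⟩ := (hInj p.1 p.2).eq
        (resLoc (inf_le_left : W p.1 ⊓ W p.2 ≤ W p.1)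
          (ψ₁ p.1 ≫ (restrictFunctor (W p.1).ι).map (D.map g)))
        (resLoc (inf_le_right : W p.1 ⊓ W p.2 ≤ W p.2)
          (ψ₁ p.2 ≫ (restrictFunctor (W p.2).ι).map (D.map g)))
        ((e1 p.1 inf_le_left).trans (e1 p.2 inf_le_right).symm)
      refine ⟨j'', h, ?_⟩
      have key : ∀ (i : T) (hle : W p.1 ⊓ W p.2 ≤ W i),
          resLoc hle (ψ₁ i ≫ (restrictFunctor (W i).ι).map (D.map (g ≫ h))) =
            resLoc hle (ψ₁ i ≫ (restrictFunctor (W i).ι).map (D.map g)) ≫
              (restrictFunctor (W p.1 ⊓ W p.2).ι).map (D.map h) := by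
        intro i hle
        rw [D.map_comp, Functor.map_comp, ← Category.assoc, resLoc_comp_map]
      rw [key p.1, key p.2]
      exact hh)
  -- glue
  obtain ⟨τ, hτ⟩ := exists_glue_loc (F := F) (G := D.obj j₂) W hcov
    (fun i => ψ₁ i ≫ (restrictFunctor (W i).ι).map (D.map g))
    (fun i i' => hg (i, i') (Finset.mem_univ _))
  refine ⟨j₂, τ, hom_ext_of_cover _ _ W hcov (fun i => ?_)⟩
  rw [Functor.map_comp, hτ i, Category.assoc, ← Functor.map_comp, c.w g, hψ₁ i]

end Main

end Groth.Agent.Helper2.FPHom
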