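import Mathlib
import Groth.Prelude
import Groth.Agent.Helper2.FPHom4
import Groth.Agent.Helper2.FPCol3
import Groth.Agent.Helper4.QcohLimits

/-!
# Compact objects of `QCoh(X)` are the finitely presented modules (qcqs `X`)
-/

set_option autoImplicit false
universe u
open CategoryTheory CategoryTheory.Limits AlgebraicGeometry TopologicalSpace Opposite

namespace Groth.Agent.Helper2.FPHom

open Groth.Agent.Helper4

variable (X : Scheme.{u})

instance isClosedUnderIsomorphisms_isQCoh : (QCohCat.isQCoh X).IsClosedUnderIsomorphisms where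
  of_iso {M N} e hM := by
    haveI : M.IsQuasicoherent := hM
    exact QcohLimits.isQuasicoherent_of_iso e

instance isClosedUnderColimitsOfShape_isQCoh (J : Type u) [SmallCategory J] :
    (QCohCat.isQCoh X).IsClosedUnderColimitsOfShape J :=
  ObjectProperty.IsClosedUnderColimitsOfShape.mk' (by
    rintro _ ⟨D, hD⟩
    exact QcohLimits.isQuasicoherent_colimit D hD)

section Compact

variable {X} [CompactSpace X] [QuasiSeparatedSpace X]

theorem isFinitelyPresentable_of_isFP (F : QCohCat.QCoh X)
    (hF : SheafOfModules.IsFinitePresentation (R := X.ringCatSheaf) F.obj) :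
    IsFinitelyPresentable.{u} F := by
  rw [isFinitelyPresentable_iff_preservesFilteredColimitsOfSize]
  constructor
  intro J _ _
  constructor
  intro D
  have hc : IsColimit (colimit.cocone D) := colimit.isColimit D
  apply preservesColimit_of_preserves_colimit_cocone hc
  have hc' : IsColimit ((QCohCat.isQCoh X).ι.mapCocone (colimit.cocone D)) :=
    isColimitOfPreserves _ hc
  apply Types.FilteredColimit.isColimitOf'
  · intro x
    obtain ⟨j, ψ, hψ⟩ := hasFac_of_isFP F.obj hF (D ⋙ (QCohCat.isQCoh X).ι)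
      ((QCohCat.isQCoh X).ι.mapCocone (colimit.cocone D)) hc' x.hom
    refine ⟨j, ObjectProperty.homMk ψ, ?_⟩
    apply ObjectProperty.hom_ext
    exact hψ.symm
  · intro i x y hxy
    obtain ⟨k, g, hg⟩ := (hasInj_of_isFP F.obj hF (D ⋙ (QCohCat.isQCoh X).ι)
      ((QCohCat.isQCoh X).ι.mapCocone (colimit.cocone D)) hc').eq x.hom y.hom
      (congrArg (fun z : F ⟶ (colimit.cocone D).pt => z.hom) hxy)
    refine ⟨k, g, ?_⟩
    apply ObjectProperty.hom_ext
    exact hg

theorem isFP_of_isFinitelyPresentable (F : QCohCat.QCoh X) [IsFinitelyPresentable.{u} F] :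
    SheafOfModules.IsFinitePresentation (R := X.ringCatSheaf) F.obj := by
  obtain ⟨M, hM⟩ := F
  haveI : M.IsQuasicoherent := hM
  obtain ⟨I, _, _, D, c, hc, hD, hpt⟩ := Groth.Agent.Helper2.FPCol.exists_filtered_colimit M
  subst hpt
  have hDq : ∀ i, QCohCat.isQCoh X (D.obj i) := fun i => by
    haveI := hD i
    exact (inferInstance : (D.obj i).IsQuasicoherent)
  let D' : I ⥤ QCohCat.QCoh X := (QCohCat.isQCoh X).lift D hDq
  let c' : Cocone D' :=
    { pt := ⟨c.pt, hM⟩
      ι := { app := fun i => ObjectProperty.homMk (c.ι.app i)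
             naturality := fun i j f => by
               apply ObjectProperty.hom_ext
               exact c.ι.naturality f } }
  have hc' : IsColimit c' := by
    apply isColimitOfReflects (QCohCat.isQCoh X).ι
    exact hc
  obtain ⟨i, p, hp⟩ := IsFinitelyPresentable.exists_hom_of_isColimit hc' (𝟙 (⟨c.pt, hM⟩ : QCohCat.QCoh X))
  have hp' : p.hom ≫ c.ι.app i = 𝟙 c.pt := congrArg (fun z : (⟨c.pt, hM⟩ : QCohCat.QCoh X) ⟶ ⟨c.pt, hM⟩ => z.hom) hp
  exact Groth.Agent.Helper2.FPCol.isFP_of_retract p.hom (c.ι.app i) hp' (hD i)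

theorem isFinitelyPresentable_iff (F : QCohCat.QCoh X) :
    IsFinitelyPresentable.{u} F ↔ SheafOfModules.IsFinitePresentation (R := X.ringCatSheaf) F.obj :=
  ⟨fun _ => isFP_of_isFinitelyPresentable F, isFinitelyPresentable_of_isFP F⟩

end Compact

end Groth.Agent.Helper2.FPHom
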