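import Mathlib
import Groth.Agent.Helper2.FPSch

set_option autoImplicit false
universe u
open CategoryTheory CategoryTheory.Limits AlgebraicGeometry Opposite

namespace Groth.Agent.Helper2.FPColim

section Sch

variable {A B : Type u} [CommRing A] [CommRing B] [Algebra A B]

/-- the abstract form of S9208/S4778 on an affine chart -/
theorem finitePresentation_of_factor' {X S : Scheme.{u}} (f : X ⟶ S)
    (a : Spec (CommRingCat.of A) ⟶ S) [Mono a]
    (b : Spec (CommRingCat.of B) ⟶ X) [IsOpenImmersion b]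
    (hab : b ≫ f = Spec.map (CommRingCat.ofHom (algebraMap A B)) ≫ a)
    (hfac : ∃ (j : (GIdx A B)ᵒᵖ) (gj : (schSys A B).obj j ⟶ X),
      gj ≫ f = (schStr (B := B) a).app j ∧ (schCone A B).π.app j ≫ gj = b) :
    Algebra.FinitePresentation A B := by
  have haff : ∀ j, IsAffine ((schSys A B).obj j) := fun j => by
    dsimp [schSys]; infer_instance
  let j₀ : (GIdx A B)ᵒᵖ := op (Classical.arbitrary _)
  -- notation for the pieces
  let P : (GIdx A B)ᵒᵖ → Scheme.{u} := fun j => Spec (CommRingCat.of (GIdx.Alg j.unop))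
  let π : ∀ j : (GIdx A B)ᵒᵖ, Spec (CommRingCat.of B) ⟶ P j := fun j =>
    Spec.map (CommRingCat.ofHom (GIdx.toB j.unop).toRingHom)
  let σ : ∀ j : (GIdx A B)ᵒᵖ, P j ⟶ S := fun j =>
    Spec.map (CommRingCat.ofHom (algebraMap A (GIdx.Alg j.unop))) ≫ a
  have hstr : ∀ j : (GIdx A B)ᵒᵖ, π j ≫ σ j =
      Spec.map (CommRingCat.ofHom (algebraMap A B)) ≫ a := by
    intro j
    show Spec.map _ ≫ Spec.map _ ≫ a = _
    rw [← Category.assoc, ← Spec.map_comp]
    congr 2
    ext x
    exact (GIdx.toB j.unop).commutes x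
  obtain ⟨j, gj, h1, h2⟩ := hfac
  let gjP : P j ⟶ X := gj
  replace h1 : gjP ≫ f = σ j := h1
  replace h2 : π j ≫ gjP = b := h2
  -- shrink so that `gj` lands in the range of `b`
  let W : ((schSys A B).obj j).Opens := gj ⁻¹ᵁ b.opensRange
  have hW : (schCone A B).π.app j ⁻¹ᵁ W = ⊤ := by
    show π j ⁻¹ᵁ (gjP ⁻¹ᵁ b.opensRange) = ⊤
    rw [← Scheme.Hom.comp_preimage, h2]
    exact Scheme.Hom.preimage_opensRange b
  haveI : ∀ i, CompactSpace ((schSys A B).obj i) := fun i => by
    haveI := haff i; infer_instance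
  haveI : ∀ {i j : (GIdx A B)ᵒᵖ} (φ : i ⟶ j), IsAffineHom ((schSys A B).map φ) := fun {i j} φ => by
    haveI := haff i; haveI := haff j; infer_instance
  obtain ⟨j', fji, hj'⟩ := exists_map_eq_top (schSys A B) (schCone A B) (schConeIsLimit A B) W hW
  let τ : P j' ⟶ P j := (schSys A B).map fji
  have hπτ : π j' ≫ τ = π j := (schCone A B).w fji
  have hτσ : τ ≫ σ j = σ j' := by
    have := (schStr (B := B) a).naturality fji
    exact this.trans (Category.comp_id _)
  let g' : P j' ⟶ X := τ ≫ gjP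
  have hg'range : Set.range g' ⊆ Set.range b := by
    rintro _ ⟨x, rfl⟩
    have hx : x ∈ (schSys A B).map fji ⁻¹ᵁ W := by rw [hj']; trivial
    exact hx
  let k : P j' ⟶ Spec (CommRingCat.of B) := IsOpenImmersion.lift b g' hg'range
  have hk : k ≫ b = g' := IsOpenImmersion.lift_fac b g' hg'range
  let s : CommRingCat.of B ⟶ CommRingCat.of (GIdx.Alg j'.unop) := Spec.preimage k
  have hs : Spec.map s = k := Spec.map_preimage k
  -- the retraction identity
  have e1 : π j' ≫ k = 𝟙 _ := by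
    rw [← cancel_mono b, Category.assoc, hk, Category.id_comp]
    show π j' ≫ τ ≫ gjP = b
    rw [← Category.assoc, hπτ, h2]
  have hret : s ≫ CommRingCat.ofHom (GIdx.toB j'.unop).toRingHom = 𝟙 _ := by
    apply Spec.map_injective
    rw [Spec.map_comp, hs, Spec.map_id]
    exact e1
  -- compatibility with the structure maps
  have halg : CommRingCat.ofHom (algebraMap A B) ≫ s =
      CommRingCat.ofHom (algebraMap A (GIdx.Alg j'.unop)) := by
    apply Spec.map_injective
    rw [← cancel_mono a, Spec.map_comp, hs, Category.assoc, ← hab, ← Category.assoc, hk]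
    show (τ ≫ gjP) ≫ f = σ j'
    rw [Category.assoc, h1, hτσ]
  haveI := GIdx.finitePresentation j'.unop
  let s' : B →ₐ[A] GIdx.Alg j'.unop :=
    { s.hom with
      commutes' := fun x => congrArg (fun φ => φ.hom x) halg }
  have hrs : ∀ y, GIdx.toB j'.unop (s' y) = y := fun y =>
    congrArg (fun φ => φ.hom y) hret
  exact finitePresentation_of_retract (GIdx.toB j'.unop) s' hrs

end Sch

section OverSys

variable {S : Scheme.{u}} {U : S.Opens} (hU : IsAffineOpen U) (B : Type u) [CommRing B]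
  [Algebra Γ(S, U) B]

/-- the inverse system as a system over `U` -/
noncomputable def overSys : (GIdx Γ(S, U) B)ᵒᵖ ⥤ Over (U : Scheme.{u}) where
  obj j := Over.mk (Spec.map (CommRingCat.ofHom (algebraMap Γ(S, U) (GIdx.Alg j.unop))) ≫
    hU.isoSpec.inv)
  map {j j'} φ := Over.homMk ((schSys Γ(S, U) B).map φ) (by
    show Spec.map (CommRingCat.ofHom (GIdx.trans (leOfHom φ.unop)).toRingHom) ≫
      Spec.map (CommRingCat.ofHom (algebraMap Γ(S, U) (GIdx.Alg j'.unop))) ≫ hU.isoSpec.inv =
      Spec.map (CommRingCat.ofHom (algebraMap Γ(S, U) (GIdx.Alg j.unop))) ≫ hU.isoSpec.inv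
    rw [← Category.assoc, ← Spec.map_comp]
    congr 2
    ext x
    exact (GIdx.trans (leOfHom φ.unop)).commutes x)
  map_id j := by
    ext1
    exact (schSys Γ(S, U) B).map_id j
  map_comp φ ψ := by
    ext1
    exact (schSys Γ(S, U) B).map_comp φ ψ

/-- the limit cone over `S` -/
noncomputable def overCone : Cone (overSys hU B ⋙ Over.map U.ι) where
  pt := Over.mk (Spec.map (CommRingCat.ofHom (algebraMap Γ(S, U) B)) ≫ hU.fromSpec)
  π :=
    { app := fun j => Over.homMk ((schCone Γ(S, U) B).π.app j) (by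
        show Spec.map (CommRingCat.ofHom (GIdx.toB j.unop).toRingHom) ≫
          (Spec.map (CommRingCat.ofHom (algebraMap Γ(S, U) (GIdx.Alg j.unop))) ≫
            hU.isoSpec.inv) ≫ U.ι =
          Spec.map (CommRingCat.ofHom (algebraMap Γ(S, U) B)) ≫ hU.fromSpec
        rw [Category.assoc, ← Category.assoc (Spec.map _), ← Spec.map_comp]
        show _ ≫ hU.fromSpec = _
        congr 2
        ext x
        exact (GIdx.toB j.unop).commutes x)
      naturality := fun j j' φ => by
        ext1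
        exact (schCone Γ(S, U) B).π.naturality φ }

noncomputable def overConeIsLimit : IsLimit (overCone hU B) := by
  haveI : IsConnected (GIdx Γ(S, U) B)ᵒᵖ := IsCofiltered.isConnected _
  apply isLimitOfReflects (Over.forget S)
  exact schConeIsLimit Γ(S, U) B

end OverSys


/-- S4778 -/
theorem locallyOfFinitePresentation_of_preservesColimit {X S : Scheme.{u}} (f : X ⟶ S)
    (h : ∀ (U : S.Opens), IsAffineOpen U →
      ∀ (J : Type u) [Preorder J] [IsDirected J (· ≤ ·)] [Nonempty J]
        (Z : Jᵒᵖ ⥤ Over (U : Scheme.{u})),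
      (∀ j, IsAffine (Z.obj j).left) →
      Limits.PreservesColimit (Z ⋙ Over.map U.ι).op (yoneda.obj (Over.mk f))) :
    LocallyOfFinitePresentation f := by
  rw [HasRingHomProperty.iff_appLE (P := @LocallyOfFinitePresentation)]
  intro U V e
  letI : Algebra Γ(S, U.1) Γ(X, V.1) := (f.appLE U.1 V.1 e).hom.toAlgebra
  have hab : V.2.fromSpec ≫ f =
      Spec.map (CommRingCat.ofHom (algebraMap Γ(S, U.1) Γ(X, V.1))) ≫ U.2.fromSpec :=
    (IsAffineOpen.SpecMap_appLE_fromSpec f U.2 V.2 e).symm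
  haveI := h U.1 U.2 (GIdx Γ(S, U.1) Γ(X, V.1)) (overSys U.2 Γ(X, V.1)) (fun j => by
    show IsAffine (Spec _); infer_instance)
  have hcol := isColimitOfPreserves (yoneda.obj (Over.mk f))
    (overConeIsLimit U.2 Γ(X, V.1)).op
  let g₀ : (overCone U.2 Γ(X, V.1)).pt ⟶ Over.mk f := Over.homMk V.2.fromSpec hab
  obtain ⟨j, x, hx⟩ := Types.jointly_surjective_of_isColimit hcol g₀
  have hx' : (overCone U.2 Γ(X, V.1)).π.app j.unop ≫ x = g₀ := hx
  have hfac : ∃ (j : (GIdx Γ(S, U.1) Γ(X, V.1))ᵒᵖ)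
      (gj : (schSys Γ(S, U.1) Γ(X, V.1)).obj j ⟶ X),
      gj ≫ f = (schStr (B := Γ(X, V.1)) U.2.fromSpec).app j ∧
        (schCone Γ(S, U.1) Γ(X, V.1)).π.app j ≫ gj = V.2.fromSpec := by
    refine ⟨j.unop, x.left, ?_, ?_⟩
    · have := Over.w x
      exact this
    · exact congrArg (fun φ => φ.left) hx'
  have := finitePresentation_of_factor' (A := Γ(S, U.1)) (B := Γ(X, V.1)) f U.2.fromSpec
    V.2.fromSpec hab hfac
  exact (RingHom.finitePresentation_algebraMap (A := Γ(S, U.1)) (B := Γ(X, V.1))).mpr this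

end Groth.Agent.Helper2.FPColim
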