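import Mathlib
import Groth.Prelude.Def_Found
import Groth.Agent.Helper2.ProjDesc3

/-!
# Helper2: formal smoothness descends along faithfully flat base change.
-/

set_option autoImplicit false
universe u

namespace Groth.Agent.Helper2.FSmDesc

open TensorProduct

attribute [local instance] Algebra.TensorProduct.rightAlgebra in
theorem faithfullyFlat_right (R : Type u) [CommRing R] (S : Type u) [CommRing S] [Algebra R S]
    (R' : Type u) [CommRing R'] [Algebra R R'] [Module.FaithfullyFlat R R'] :
    Module.FaithfullyFlat S (R' ⊗[R] S) :=
  Module.FaithfullyFlat.of_linearEquiv S (S ⊗[R] R')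
    (Algebra.TensorProduct.commRight R S R').symm.toLinearEquiv

attribute [local instance] Algebra.TensorProduct.rightAlgebra in
theorem formallySmooth_of_baseChange (R : Type u) [CommRing R]
    (S : Type u) [CommRing S] [Algebra R S] (R' : Type u) [CommRing R'] [Algebra R R']
    [Module.FaithfullyFlat R R'] (h : Algebra.FormallySmooth R' (R' ⊗[R] S)) :
    Algebra.FormallySmooth R S := by
  rw [Algebra.formallySmooth_iff]
  constructor
  · haveI : Module.FaithfullyFlat S (R' ⊗[R] S) := faithfullyFlat_right R S R'
    have e := KaehlerDifferential.tensorKaehlerEquiv R R' S (R' ⊗[R] S)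
    haveI : Module.Projective (R' ⊗[R] S) ((R' ⊗[R] S) ⊗[S] Ω[S⁄R]) :=
      Module.Projective.of_equiv e.symm
    exact Groth.Agent.Helper2.ProjDesc.projective_of_baseChange (R := S) (S := R' ⊗[R] S)
  · have e := Algebra.tensorH1CotangentOfFlat R S R'
    haveI : Subsingleton (R' ⊗[R] Algebra.H1Cotangent R S) := e.subsingleton
    exact Module.FaithfullyFlat.lTensor_reflects_triviality R R' _

end Groth.Agent.Helper2.FSmDesc
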