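import Mathlib
import Groth.Prelude.Def_CAlg
import Groth.Prelude.Def_EGA4b
import Groth.Agent.Helper2.FlatLoc
import Groth.Agent.Helper2.RegCM
import Groth.Agent.Helper2.DepthCM

set_option autoImplicit false
universe u
open TensorProduct

namespace Groth.Agent.Helper2.FibBC

section General
variable (A B A' B' k k' : Type u) [CommRing A] [CommRing B] [CommRing A'] [CommRing B']
  [CommRing k] [CommRing k']
  [Algebra A B] [Algebra A A'] [Algebra B B'] [Algebra A' B'] [Algebra A B']
  [IsScalarTower A B B'] [IsScalarTower A A' B'] [Algebra.IsPushout A B A' B']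
  [Algebra A k] [Algebra A' k'] [Algebra k k'] [Algebra A k'] [IsScalarTower A k k']
  [IsScalarTower A A' k']

attribute [local instance] Algebra.TensorProduct.rightAlgebra

/-- the natural map between fibre rings -/
noncomputable def phi : (k ⊗[A] B) →ₐ[A] (k' ⊗[A'] B') :=
  Algebra.TensorProduct.lift
    (((Algebra.TensorProduct.includeLeft : k' →ₐ[A'] k' ⊗[A'] B').restrictScalars A).comp
      (IsScalarTower.toAlgHom A k k'))
    (((Algebra.TensorProduct.includeRight : B' →ₐ[A'] k' ⊗[A'] B').restrictScalars A).comp
      (IsScalarTower.toAlgHom A B B'))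
    (fun _ _ => Commute.all _ _)

@[simp] theorem phi_tmul (x : k) (b : B) :
    phi A B A' B' k k' (x ⊗ₜ b) = (algebraMap k k' x) ⊗ₜ (algebraMap B B' b) := by
  simp [phi, Algebra.TensorProduct.tmul_mul_tmul]

theorem flat_phi [Module.Flat k k'] :
    letI := (phi A B A' B' k k').toRingHom.toAlgebra
    Module.Flat (k ⊗[A] B) (k' ⊗[A'] B') := by
  letI algBC' : Algebra B (k' ⊗[A'] B') :=
    ((algebraMap B' (k' ⊗[A'] B')).comp (algebraMap B B')).toAlgebra
  haveI : IsScalarTower B B' (k' ⊗[A'] B') := IsScalarTower.of_algebraMap_eq fun _ => rfl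
  haveI : IsScalarTower A B' (k' ⊗[A'] B') := by
    refine IsScalarTower.of_algebraMap_eq' ?_
    have h1 := IsScalarTower.algebraMap_eq A A' (k' ⊗[A'] B')
    have h2 := IsScalarTower.algebraMap_eq A' B' (k' ⊗[A'] B')
    have h3 := IsScalarTower.algebraMap_eq A A' B'
    rw [h1, h2, RingHom.comp_assoc, ← h3]
  haveI : IsScalarTower A B (k' ⊗[A'] B') := by
    refine IsScalarTower.of_algebraMap_eq' ?_
    have h1 := IsScalarTower.algebraMap_eq A B' (k' ⊗[A'] B')
    have h2 := IsScalarTower.algebraMap_eq A B B'
    rw [h1, h2, ← RingHom.comp_assoc]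
    rfl
  have hP1 : Algebra.IsPushout A k' B (k' ⊗[A'] B') := by
    haveI : Algebra.IsPushout A A' B B' := Algebra.IsPushout.symm inferInstance
    exact (Algebra.IsPushout.comp_iff A A' B (S' := B') (T := k')
      (T' := k' ⊗[A'] B')).2 inferInstance
  letI algCC' : Algebra (k ⊗[A] B) (k' ⊗[A'] B') := (phi A B A' B' k k').toRingHom.toAlgebra
  haveI : IsScalarTower k k' (k' ⊗[A'] B') := inferInstance
  haveI : IsScalarTower k (k ⊗[A] B) (k' ⊗[A'] B') := by
    refine IsScalarTower.of_algebraMap_eq fun x => ?_
    show _ = phi A B A' B' k k' (x ⊗ₜ 1)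
    rw [phi_tmul, map_one]
    rfl
  haveI : IsScalarTower A (k ⊗[A] B) (k' ⊗[A'] B') := by
    refine IsScalarTower.of_algebraMap_eq fun x => ?_
    exact ((phi A B A' B' k k').commutes x).symm
  haveI : IsScalarTower B (k ⊗[A] B) (k' ⊗[A'] B') := by
    refine IsScalarTower.of_algebraMap_eq fun x => ?_
    show _ = phi A B A' B' k k' (1 ⊗ₜ x)
    rw [phi_tmul, map_one]
    rfl
  have hP2 : Algebra.IsPushout k k' (k ⊗[A] B) (k' ⊗[A'] B') :=
    (Algebra.IsPushout.comp_iff A k B (S' := k ⊗[A] B) (T := k')
      (T' := k' ⊗[A'] B')).1 hP1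
  have hbc := (Algebra.IsPushout.symm hP2).out
  exact Module.Flat.isBaseChange k (k ⊗[A] B) k' (k' ⊗[A'] B') hbc

end General

section Iso

open IsLocalRing

/-- depth is invariant under ring isomorphisms -/
lemma depth_eq_of_ringEquiv {R S : Type u} [CommRing R] [CommRing S] [IsLocalRing R]
    [IsLocalRing S] [IsNoetherianRing R] [IsNoetherianRing S] (e : R ≃+* S) :
    LocCoh.depth R R = LocCoh.depth S S := by
  letI : Algebra R S := e.toRingHom.toAlgebra
  haveI : IsLocalHom (algebraMap R S) := by
    show IsLocalHom e.toRingHom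
    exact IsLocalHom.of_surjective _ e.surjective
  have hbij : Function.Bijective (Algebra.linearMap R S) := e.bijective
  haveI : Module.Finite R S := Module.Finite.of_surjective (Algebra.linearMap R S) hbij.2
  rw [← Groth.Agent.Helper2.RegCM.depth_eq_of_isLocalHom R S S]
  exact Groth.Agent.Helper2.DepthCM.idealDepth_congr (maximalIdeal R)
    (LinearEquiv.ofBijective (Algebra.linearMap R S) hbij)

variable (A B : Type u) [CommRing A] [CommRing B] [Algebra A B]

attribute [local instance] Algebra.TensorProduct.rightAlgebra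

theorem isNoetherianRing_fiber [IsNoetherianRing B] (p : Ideal A) [p.IsPrime] :
    IsNoetherianRing (p.Fiber B) := by
  haveI : IsNoetherianRing (Localization (Algebra.algebraMapSubmonoid B p.primeCompl)) :=
    IsLocalization.isNoetherianRing (Algebra.algebraMapSubmonoid B p.primeCompl) _ inferInstance
  exact isNoetherianRing_of_ringEquiv _ (Ideal.Fiber.algEquivQuotient (S := B) p).symm.toRingEquiv

theorem depth_fib_congr {q₁ q₂ : Ideal B} [q₁.IsPrime] [q₂.IsPrime] (h : q₁ = q₂) :
    LocCoh.depth (EGA4.FibLocRing A B q₁) (EGA4.FibLocRing A B q₁) =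
      LocCoh.depth (EGA4.FibLocRing A B q₂) (EGA4.FibLocRing A B q₂) := by
  subst h
  rfl

/-- the local ring of the fibre ring at a prime is the fibre local ring -/
theorem nonempty_fiber_equiv (p : Ideal A) [p.IsPrime] (Q : Ideal (p.Fiber B)) [Q.IsPrime] :
    Nonempty (Localization.AtPrime Q ≃+*
      EGA4.FibLocRing A B (Q.comap (Algebra.TensorProduct.includeRight (R := A)
        (A := p.ResidueField) (B := B)))) := by
  have e := (Ideal.Fiber.algEquivAux₂ (S := B) p Q).toRingEquiv
  have hover : (Q.comap (Algebra.TensorProduct.includeRight (R := A) (A := p.ResidueField)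
      (B := B))).comap (algebraMap A B) = p := by
    have h0 := (Ideal.LiesOver.over (p := p) (P := Q))
    refine Eq.trans ?_ h0.symm
    ext x
    simp only [Ideal.mem_comap, Ideal.under]
    have h1 : (Algebra.TensorProduct.includeRight (R := A) (A := p.ResidueField)
        (B := B)) (algebraMap A B x) = algebraMap A (p.Fiber B) x := by
      simp only [Algebra.algebraMap_eq_smul_one, map_smul, map_one]
    rw [h1]
  refine ⟨e.trans (Ideal.quotEquivOfEq ?_)⟩
  rw [hover, Ideal.map_map, ← IsScalarTower.algebraMap_eq]

end Iso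


section Main

open IsLocalRing

variable (A B A' B' : Type u) [CommRing A] [CommRing B] [CommRing A'] [CommRing B']
  [Algebra A B] [Algebra A A'] [Algebra B B'] [Algebra A' B'] [Algebra A B']
  [IsScalarTower A B B'] [IsScalarTower A A' B'] [Algebra.IsPushout A B A' B']

attribute [local instance] Algebra.TensorProduct.rightAlgebra

lemma map_le' (q : Ideal B) [q.IsPrime] :
    (q.comap (algebraMap A B)).map (algebraMap A (Localization.AtPrime q)) ≤
    maximalIdeal (Localization.AtPrime q) := by
  rw [Ideal.map_le_iff_le_comap]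
  intro x hx
  rw [Ideal.mem_comap, IsScalarTower.algebraMap_apply A B (Localization.AtPrime q),
    IsLocalization.AtPrime.to_map_mem_maximal_iff (Localization.AtPrime q) q]
  exact hx

instance nontrivial_fibLocRing (q : Ideal B) [q.IsPrime] : Nontrivial (EGA4.FibLocRing A B q) :=
  Ideal.Quotient.nontrivial_iff.2 (fun h =>
    (IsLocalRing.maximalIdeal.isMaximal (Localization.AtPrime q)).ne_top
      (top_le_iff.1 (h ▸ map_le' A B q)))

instance isLocalRing_fibLocRing (q : Ideal B) [q.IsPrime] : IsLocalRing (EGA4.FibLocRing A B q) :=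
  IsLocalRing.of_surjective' (Ideal.Quotient.mk _) Ideal.Quotient.mk_surjective

theorem depth_fib_le_aux [IsNoetherianRing B] [IsNoetherianRing B'] (p' : Ideal A') [p'.IsPrime]
    (Q' : Ideal (p'.Fiber B')) [Q'.IsPrime] :
    LocCoh.depth (EGA4.FibLocRing A B ((Q'.comap (Algebra.TensorProduct.includeRight (R := A')
        (A := p'.ResidueField) (B := B'))).comap (algebraMap B B')))
      (EGA4.FibLocRing A B ((Q'.comap (Algebra.TensorProduct.includeRight (R := A')
        (A := p'.ResidueField) (B := B'))).comap (algebraMap B B'))) ≤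
    LocCoh.depth (EGA4.FibLocRing A' B' (Q'.comap (Algebra.TensorProduct.includeRight (R := A')
        (A := p'.ResidueField) (B := B'))))
      (EGA4.FibLocRing A' B' (Q'.comap (Algebra.TensorProduct.includeRight (R := A')
        (A := p'.ResidueField) (B := B')))) := by
  letI algkk : Algebra (p'.comap (algebraMap A A')).ResidueField p'.ResidueField :=
    (Ideal.ResidueField.mapₐ (p'.comap (algebraMap A A')) p' (Algebra.ofId A A')
      rfl).toRingHom.toAlgebra
  haveI : IsScalarTower A (p'.comap (algebraMap A A')).ResidueField p'.ResidueField :=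
    IsScalarTower.of_algebraMap_eq fun x =>
      ((Ideal.ResidueField.mapₐ (p'.comap (algebraMap A A')) p' (Algebra.ofId A A')
        rfl).commutes x).symm
  letI algCC : Algebra ((p'.comap (algebraMap A A')).Fiber B) (p'.Fiber B') :=
    (phi A B A' B' (p'.comap (algebraMap A A')).ResidueField p'.ResidueField).toRingHom.toAlgebra
  haveI : Module.Flat ((p'.comap (algebraMap A A')).Fiber B) (p'.Fiber B') :=
    flat_phi A B A' B' (p'.comap (algebraMap A A')).ResidueField p'.ResidueField
  haveI := isNoetherianRing_fiber A B (p'.comap (algebraMap A A'))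
  haveI := isNoetherianRing_fiber A' B' p'
  have hd := Groth.Agent.Helper2.FlatLoc.depth_eq ((p'.comap (algebraMap A A')).Fiber B)
    (p'.Fiber B') Q'
  obtain ⟨e⟩ := nonempty_fiber_equiv A B (p'.comap (algebraMap A A'))
    (Q'.comap (algebraMap ((p'.comap (algebraMap A A')).Fiber B) (p'.Fiber B')))
  obtain ⟨e'⟩ := nonempty_fiber_equiv A' B' p' Q'
  haveI : IsNoetherianRing (Localization.AtPrime Q') :=
    IsLocalization.isNoetherianRing Q'.primeCompl _ inferInstance
  haveI : IsNoetherianRing (Localization.AtPrime
      (Q'.comap (algebraMap ((p'.comap (algebraMap A A')).Fiber B) (p'.Fiber B')))) :=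
    IsLocalization.isNoetherianRing (Q'.comap (algebraMap ((p'.comap (algebraMap A A')).Fiber B)
      (p'.Fiber B'))).primeCompl _ inferInstance
  haveI : IsNoetherianRing (Localization.AtPrime (Q'.comap (Algebra.TensorProduct.includeRight
      (R := A') (A := p'.ResidueField) (B := B')))) :=
    IsLocalization.isNoetherianRing (Q'.comap (Algebra.TensorProduct.includeRight
      (R := A') (A := p'.ResidueField) (B := B'))).primeCompl _ inferInstance
  haveI : IsNoetherianRing (Localization.AtPrime
      ((Q'.comap (algebraMap ((p'.comap (algebraMap A A')).Fiber B) (p'.Fiber B'))).comap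
        (Algebra.TensorProduct.includeRight (R := A)
          (A := (p'.comap (algebraMap A A')).ResidueField) (B := B)))) :=
    IsLocalization.isNoetherianRing ((Q'.comap (algebraMap ((p'.comap (algebraMap A A')).Fiber B)
      (p'.Fiber B'))).comap (Algebra.TensorProduct.includeRight (R := A)
          (A := (p'.comap (algebraMap A A')).ResidueField) (B := B))).primeCompl _ inferInstance
  have hq : (Q'.comap (Algebra.TensorProduct.includeRight (R := A')
        (A := p'.ResidueField) (B := B'))).comap (algebraMap B B') =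
      (Q'.comap (algebraMap ((p'.comap (algebraMap A A')).Fiber B) (p'.Fiber B'))).comap
        (Algebra.TensorProduct.includeRight (R := A)
          (A := (p'.comap (algebraMap A A')).ResidueField) (B := B)) := by
    ext b
    simp only [Ideal.mem_comap]
    have : algebraMap ((p'.comap (algebraMap A A')).Fiber B) (p'.Fiber B')
        ((Algebra.TensorProduct.includeRight (R := A)
          (A := (p'.comap (algebraMap A A')).ResidueField) (B := B)) b) =
        (Algebra.TensorProduct.includeRight (R := A')
        (A := p'.ResidueField) (B := B')) (algebraMap B B' b) := by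
      show phi A B A' B' (p'.comap (algebraMap A A')).ResidueField p'.ResidueField (1 ⊗ₜ b) = _
      rw [phi_tmul, map_one]
      rfl
    rw [this]
  have h1 : LocCoh.depth (Localization.AtPrime
      (Q'.comap (algebraMap ((p'.comap (algebraMap A A')).Fiber B) (p'.Fiber B'))))
      (Localization.AtPrime
      (Q'.comap (algebraMap ((p'.comap (algebraMap A A')).Fiber B) (p'.Fiber B')))) = _ :=
    depth_eq_of_ringEquiv e
  have h2 : LocCoh.depth (Localization.AtPrime Q') (Localization.AtPrime Q') = _ :=
    depth_eq_of_ringEquiv e'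
  rw [depth_fib_congr A B hq, ← h1, ← h2, hd]
  exact le_self_add

/-- base change does not decrease the depth of the fibre local rings -/
theorem depth_fib_le [IsNoetherianRing B] [IsNoetherianRing B'] (q' : Ideal B') [q'.IsPrime] :
    LocCoh.depth (EGA4.FibLocRing A B (q'.comap (algebraMap B B')))
      (EGA4.FibLocRing A B (q'.comap (algebraMap B B'))) ≤
    LocCoh.depth (EGA4.FibLocRing A' B' q') (EGA4.FibLocRing A' B' q') := by
  have hmem : q' ∈ (q'.comap (algebraMap A' B')).primesOver B' :=
    ⟨inferInstance, ⟨rfl⟩⟩
  let Q'' := PrimeSpectrum.primesOverOrderIsoFiber A' B' (q'.comap (algebraMap A' B')) ⟨q', hmem⟩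
  have hQ : Q''.asIdeal.comap (Algebra.TensorProduct.includeRight (R := A')
        (A := (q'.comap (algebraMap A' B')).ResidueField) (B := B')) = q' := by
    have h1 := PrimeSpectrum.coe_primesOverOrderIsoFiber_symm_apply
      (R := A') (S := B') (p := q'.comap (algebraMap A' B')) Q''
    rw [OrderIso.symm_apply_apply] at h1
    exact h1.symm
  have h := depth_fib_le_aux A B A' B' (q'.comap (algebraMap A' B')) Q''.asIdeal
  have hQ2 : (Q''.asIdeal.comap (Algebra.TensorProduct.includeRight (R := A')
        (A := (q'.comap (algebraMap A' B')).ResidueField) (B := B'))).comap (algebraMap B B') =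
      q'.comap (algebraMap B B') := by rw [hQ]
  rw [depth_fib_congr A B hQ2, depth_fib_congr A' B' hQ] at h
  exact h

end Main

end Groth.Agent.Helper2.FibBC
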