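import Mathlib
import Groth.Prelude
import Groth.Agent.Helper2.FlatLoc
import Groth.Agent.Helper2.DepthFlat2
import Groth.Agent.Helper2.RegCM
import Groth.Agent.Helper6.FlatGD
import Groth.Agent.Helper6.FlatCM

set_option autoImplicit false
universe u
open TensorProduct IsLocalRing

namespace Groth.Agent.Helper2.ZT

section FlatComp
variable (A B : Type u) [CommRing A] [CommRing B] [Algebra A B]
  (M : Type u) [AddCommGroup M] [Module B M] [Module A M] [IsScalarTower A B M] [Module.Flat B M]
  (F : Type u) [AddCommGroup F] [Module B F] [Module A F] [IsScalarTower A B F] [Module.Flat A F]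

/-- `M` flat over `B`, `F` a `B`-module flat over `A`: `M ⊗_B F` is flat over `A`. -/
theorem flat_tensor : Module.Flat A (M ⊗[B] F) := by
  rw [Module.Flat.iff_lTensor_preserves_injective_linearMap]
  intro N N' _ _ _ _ f hf
  have h1 : Function.Injective (TensorProduct.AlgebraTensorModule.lTensor B F f) := by
    have := Module.Flat.lTensor_preserves_injective_linearMap (M := F) f hf
    exact this
  have h2 : Function.Injective ((TensorProduct.AlgebraTensorModule.lTensor B F f).lTensor M) :=
    Module.Flat.lTensor_preserves_injective_linearMap _ h1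
  have hcomm : ∀ z, (TensorProduct.AlgebraTensorModule.assoc A B B M F N') (f.lTensor (M ⊗[B] F) z) =
      ((TensorProduct.AlgebraTensorModule.lTensor B F f).lTensor M)
        ((TensorProduct.AlgebraTensorModule.assoc A B B M F N) z) := by
    intro z
    induction z using TensorProduct.induction_on with
    | zero => simp
    | add x y hx hy => simp only [map_add, hx, hy]
    | tmul w n =>
      induction w using TensorProduct.induction_on with
      | zero => simp
      | add x y hx hy => simp only [TensorProduct.add_tmul, map_add, hx, hy]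
      | tmul m x => rfl
  intro z z' hzz
  apply (TensorProduct.AlgebraTensorModule.assoc A B B M F N).injective
  apply h2
  rw [← hcomm, ← hcomm, hzz]

end FlatComp

section Loc
variable (A B : Type u) [CommRing A] [CommRing B] [Algebra A B]
  (E : Type u) [AddCommGroup E] [Module A E]
  (F : Type u) [AddCommGroup F] [Module B F] [Module A F] [IsScalarTower A B F]
  (Q : Ideal B) [Q.IsPrime]

/-- the `A_P`-module structure on `F_Q`, `P = Q ∩ A` -/
@[reducible] noncomputable def modA' :
    Module (Localization.AtPrime (Q.comap (algebraMap A B))) (LocalizedModule Q.primeCompl F) :=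
  letI := Localization.AtPrime.algebraOfLiesOver (Q.comap (algebraMap A B)) Q
  Module.compHom _ (algebraMap (Localization.AtPrime (Q.comap (algebraMap A B)))
    (Localization.AtPrime Q))

omit [Module A F] [IsScalarTower A B F] in
lemma tower2 : letI := Localization.AtPrime.algebraOfLiesOver (Q.comap (algebraMap A B)) Q
    letI := modA' A B F Q
    IsScalarTower (Localization.AtPrime (Q.comap (algebraMap A B))) (Localization.AtPrime Q)
      (LocalizedModule Q.primeCompl F) :=
  letI := Localization.AtPrime.algebraOfLiesOver (Q.comap (algebraMap A B)) Q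
  letI := modA' A B F Q
  IsScalarTower.of_algebraMap_smul fun _ _ => rfl

lemma tower3 : letI := modA' A B F Q
    IsScalarTower A (Localization.AtPrime (Q.comap (algebraMap A B)))
      (LocalizedModule Q.primeCompl F) := by
  letI := Localization.AtPrime.algebraOfLiesOver (Q.comap (algebraMap A B)) Q
  letI := modA' A B F Q
  refine ⟨fun a x n => ?_⟩
  show algebraMap _ (Localization.AtPrime Q) (a • x) • n =
    a • (algebraMap _ (Localization.AtPrime Q) x • n)
  rw [Algebra.smul_def, map_mul, mul_smul, ← IsScalarTower.algebraMap_apply, algebraMap_smul]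

theorem flat_loc [Module.Flat A F] : letI := modA' A B F Q
    Module.Flat (Localization.AtPrime (Q.comap (algebraMap A B)))
      (LocalizedModule Q.primeCompl F) := by
  letI := Localization.AtPrime.algebraOfLiesOver (Q.comap (algebraMap A B)) Q
  letI := modA' A B F Q
  haveI := tower3 A B F Q
  rw [Module.flat_iff_of_isLocalization (Localization.AtPrime (Q.comap (algebraMap A B)))
    (Q.comap (algebraMap A B)).primeCompl]
  haveI : Module.Flat A (Localization.AtPrime Q ⊗[B] F) :=
    flat_tensor A B (Localization.AtPrime Q) F
  let e : (Localization.AtPrime Q ⊗[B] F) ≃ₗ[Localization.AtPrime Q]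
      LocalizedModule Q.primeCompl F :=
    (IsLocalizedModule.isBaseChange Q.primeCompl (Localization.AtPrime Q)
      (LocalizedModule.mkLinearMap Q.primeCompl F)).equiv
  exact Module.Flat.of_linearEquiv (e.symm.restrictScalars A)

/-- `(F ⊗_A E)_Q ≃ F_Q ⊗_{A_P} E_P` -/
noncomputable def locEquiv :
    letI := Localization.AtPrime.algebraOfLiesOver (Q.comap (algebraMap A B)) Q
    letI := modA' A B F Q
    haveI := tower2 A B F Q
    LocalizedModule Q.primeCompl (F ⊗[A] E) ≃ₗ[Localization.AtPrime Q]
      (LocalizedModule Q.primeCompl F) ⊗[Localization.AtPrime (Q.comap (algebraMap A B))]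
        (LocalizedModule (Q.comap (algebraMap A B)).primeCompl E) := by
  letI := Localization.AtPrime.algebraOfLiesOver (Q.comap (algebraMap A B)) Q
  letI := modA' A B F Q
  haveI := tower2 A B F Q
  haveI := tower3 A B F Q
  let e1 : (Localization.AtPrime Q ⊗[B] (F ⊗[A] E)) ≃ₗ[Localization.AtPrime Q]
      LocalizedModule Q.primeCompl (F ⊗[A] E) :=
    (IsLocalizedModule.isBaseChange Q.primeCompl (Localization.AtPrime Q)
      (LocalizedModule.mkLinearMap Q.primeCompl (F ⊗[A] E))).equiv
  let e2 : ((Localization.AtPrime Q ⊗[B] F) ⊗[A] E) ≃ₗ[Localization.AtPrime Q]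
      (Localization.AtPrime Q ⊗[B] (F ⊗[A] E)) :=
    TensorProduct.AlgebraTensorModule.assoc A B (Localization.AtPrime Q)
      (Localization.AtPrime Q) F E
  let e0 : (Localization.AtPrime Q ⊗[B] F) ≃ₗ[Localization.AtPrime Q]
      LocalizedModule Q.primeCompl F :=
    (IsLocalizedModule.isBaseChange Q.primeCompl (Localization.AtPrime Q)
      (LocalizedModule.mkLinearMap Q.primeCompl F)).equiv
  let e3 : ((Localization.AtPrime Q ⊗[B] F) ⊗[A] E) ≃ₗ[Localization.AtPrime Q]
      (LocalizedModule Q.primeCompl F) ⊗[A] E :=
    TensorProduct.AlgebraTensorModule.congr e0 (LinearEquiv.refl A E)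
  let e4 : ((LocalizedModule Q.primeCompl F) ⊗[Localization.AtPrime (Q.comap (algebraMap A B))]
      (Localization.AtPrime (Q.comap (algebraMap A B)) ⊗[A] E)) ≃ₗ[Localization.AtPrime Q]
      (LocalizedModule Q.primeCompl F) ⊗[A] E :=
    TensorProduct.AlgebraTensorModule.cancelBaseChange A
      (Localization.AtPrime (Q.comap (algebraMap A B)))
      (Localization.AtPrime Q) (LocalizedModule Q.primeCompl F) E
  let e5 : (Localization.AtPrime (Q.comap (algebraMap A B)) ⊗[A] E) ≃ₗ[
      Localization.AtPrime (Q.comap (algebraMap A B))]
      LocalizedModule (Q.comap (algebraMap A B)).primeCompl E :=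
    (IsLocalizedModule.isBaseChange (Q.comap (algebraMap A B)).primeCompl
      (Localization.AtPrime (Q.comap (algebraMap A B)))
      (LocalizedModule.mkLinearMap (Q.comap (algebraMap A B)).primeCompl E)).equiv
  let e6 : ((LocalizedModule Q.primeCompl F) ⊗[Localization.AtPrime (Q.comap (algebraMap A B))]
      (Localization.AtPrime (Q.comap (algebraMap A B)) ⊗[A] E)) ≃ₗ[Localization.AtPrime Q]
      (LocalizedModule Q.primeCompl F) ⊗[Localization.AtPrime (Q.comap (algebraMap A B))]
        (LocalizedModule (Q.comap (algebraMap A B)).primeCompl E) :=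
    TensorProduct.AlgebraTensorModule.congr
      (LinearEquiv.refl (Localization.AtPrime Q) (LocalizedModule Q.primeCompl F)) e5
  exact e1.symm ≪≫ₗ e2.symm ≪≫ₗ e3 ≪≫ₗ e4.symm ≪≫ₗ e6

end Loc

section Formulas
variable (A B : Type u) [CommRing A] [CommRing B] [IsNoetherianRing A] [IsNoetherianRing B]
  [Algebra A B]
  (E : Type u) [AddCommGroup E] [Module A E] [Module.Finite A E]
  (F : Type u) [AddCommGroup F] [Module B F] [Module A F] [IsScalarTower A B F]
  [Module.Finite B F] [Module.Flat A F]
  (Q : Ideal B) [Q.IsPrime]

/-- the fibre module of `F_Q` over `A_P → B_Q` is `FibLocMod` -/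
noncomputable def fibEquiv :
    letI := Localization.AtPrime.algebraOfLiesOver (Q.comap (algebraMap A B)) Q
    EGA4.FibMod (Localization.AtPrime (Q.comap (algebraMap A B))) (Localization.AtPrime Q)
      (LocalizedModule Q.primeCompl F) ≃ₗ[Localization.AtPrime Q] EGA4.FibLocMod A B Q F := by
  letI := Localization.AtPrime.algebraOfLiesOver (Q.comap (algebraMap A B)) Q
  refine Submodule.quotEquivOfEq _ _ ?_
  show (maximalIdeal (Localization.AtPrime (Q.comap (algebraMap A B)))).map
      (algebraMap (Localization.AtPrime (Q.comap (algebraMap A B))) (Localization.AtPrime Q)) • _ = _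
  rw [← Localization.AtPrime.map_eq_maximalIdeal, Ideal.map_map, ← IsScalarTower.algebraMap_eq]

theorem depth_fib :
    letI := Localization.AtPrime.algebraOfLiesOver (Q.comap (algebraMap A B)) Q
    LocCoh.depth (Localization.AtPrime Q)
      (EGA4.FibMod (Localization.AtPrime (Q.comap (algebraMap A B))) (Localization.AtPrime Q)
        (LocalizedModule Q.primeCompl F)) =
    LocCoh.depth (EGA4.FibLocRing A B Q) (EGA4.FibLocMod A B Q F) := by
  letI := Localization.AtPrime.algebraOfLiesOver (Q.comap (algebraMap A B)) Q
  haveI : IsNoetherianRing (Localization.AtPrime Q) :=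
    IsLocalization.isNoetherianRing Q.primeCompl _ inferInstance
  haveI : Module.Finite (Localization.AtPrime Q) (LocalizedModule Q.primeCompl F) :=
    Module.Finite.of_isLocalizedModule Q.primeCompl (LocalizedModule.mkLinearMap Q.primeCompl F)
  haveI : IsLocalHom (algebraMap (Localization.AtPrime Q) (EGA4.FibLocRing A B Q)) :=
    IsLocalHom.of_surjective _ Ideal.Quotient.mk_surjective
  have h1 : LocCoh.depth (Localization.AtPrime Q)
      (EGA4.FibMod (Localization.AtPrime (Q.comap (algebraMap A B))) (Localization.AtPrime Q)
        (LocalizedModule Q.primeCompl F)) =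
      LocCoh.depth (Localization.AtPrime Q) (EGA4.FibLocMod A B Q F) :=
    Groth.Agent.Helper2.DepthCM.idealDepth_congr _ (fibEquiv A B F Q)
  rw [h1]
  exact Groth.Agent.Helper2.RegCM.depth_eq_of_isLocalHom (Localization.AtPrime Q)
    (EGA4.FibLocRing A B Q) (EGA4.FibLocMod A B Q F)

theorem supportDim_fib :
    letI := Localization.AtPrime.algebraOfLiesOver (Q.comap (algebraMap A B)) Q
    Module.supportDim (Localization.AtPrime Q)
      (EGA4.FibMod (Localization.AtPrime (Q.comap (algebraMap A B))) (Localization.AtPrime Q)
        (LocalizedModule Q.primeCompl F)) =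
    Module.supportDim (EGA4.FibLocRing A B Q) (EGA4.FibLocMod A B Q F) := by
  letI := Localization.AtPrime.algebraOfLiesOver (Q.comap (algebraMap A B)) Q
  haveI : Module.Finite (Localization.AtPrime Q) (LocalizedModule Q.primeCompl F) :=
    Module.Finite.of_isLocalizedModule Q.primeCompl (LocalizedModule.mkLinearMap Q.primeCompl F)
  rw [Module.supportDim_eq_of_equiv (fibEquiv A B F Q)]
  exact Groth.Agent.Helper6.FlatCM.supportDim_of_surjective (R := Localization.AtPrime Q)
    (R' := EGA4.FibLocRing A B Q) (EGA4.FibLocMod A B Q F) Ideal.Quotient.mk_surjective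

theorem depth_loc :
    LocCoh.depth (Localization.AtPrime Q) (LocalizedModule Q.primeCompl (F ⊗[A] E)) =
      LocCoh.depth (Localization.AtPrime (Q.comap (algebraMap A B)))
        (LocalizedModule (Q.comap (algebraMap A B)).primeCompl E) +
      LocCoh.depth (EGA4.FibLocRing A B Q) (EGA4.FibLocMod A B Q F) := by
  letI := Localization.AtPrime.algebraOfLiesOver (Q.comap (algebraMap A B)) Q
  haveI : IsLocalHom (algebraMap (Localization.AtPrime (Q.comap (algebraMap A B)))
      (Localization.AtPrime Q)) :=
    Localization.isLocalHom_localRingHom _ _ _ Ideal.LiesOver.over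
  letI := modA' A B F Q
  haveI := tower2 A B F Q
  haveI := flat_loc A B F Q
  haveI : IsNoetherianRing (Localization.AtPrime Q) :=
    IsLocalization.isNoetherianRing Q.primeCompl _ inferInstance
  haveI : IsNoetherianRing (Localization.AtPrime (Q.comap (algebraMap A B))) :=
    IsLocalization.isNoetherianRing (Q.comap (algebraMap A B)).primeCompl _ inferInstance
  haveI : Module.Finite (Localization.AtPrime Q) (LocalizedModule Q.primeCompl F) :=
    Module.Finite.of_isLocalizedModule Q.primeCompl (LocalizedModule.mkLinearMap Q.primeCompl F)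
  haveI : Module.Finite (Localization.AtPrime (Q.comap (algebraMap A B)))
      (LocalizedModule (Q.comap (algebraMap A B)).primeCompl E) :=
    Module.Finite.of_isLocalizedModule (Q.comap (algebraMap A B)).primeCompl
      (LocalizedModule.mkLinearMap (Q.comap (algebraMap A B)).primeCompl E)
  have h1 : LocCoh.depth (Localization.AtPrime Q) (LocalizedModule Q.primeCompl (F ⊗[A] E)) =
      LocCoh.depth (Localization.AtPrime Q)
        ((LocalizedModule Q.primeCompl F) ⊗[Localization.AtPrime (Q.comap (algebraMap A B))]
          (LocalizedModule (Q.comap (algebraMap A B)).primeCompl E)) :=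
    Groth.Agent.Helper2.DepthCM.idealDepth_congr _ (locEquiv A B E F Q)
  rw [h1, Groth.Agent.Helper2.DepthFlat2.depth_tensor, depth_fib A B F Q]

theorem supportDim_loc
    [Nontrivial (LocalizedModule (Q.comap (algebraMap A B)).primeCompl E)]
    [Nontrivial (LocalizedModule Q.primeCompl F)] :
    Module.supportDim (Localization.AtPrime Q) (LocalizedModule Q.primeCompl (F ⊗[A] E)) =
      Module.supportDim (Localization.AtPrime (Q.comap (algebraMap A B)))
        (LocalizedModule (Q.comap (algebraMap A B)).primeCompl E) +
      Module.supportDim (EGA4.FibLocRing A B Q) (EGA4.FibLocMod A B Q F) := by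
  letI := Localization.AtPrime.algebraOfLiesOver (Q.comap (algebraMap A B)) Q
  haveI : IsLocalHom (algebraMap (Localization.AtPrime (Q.comap (algebraMap A B)))
      (Localization.AtPrime Q)) :=
    Localization.isLocalHom_localRingHom _ _ _ Ideal.LiesOver.over
  letI := modA' A B F Q
  haveI := tower2 A B F Q
  haveI := flat_loc A B F Q
  haveI : IsNoetherianRing (Localization.AtPrime Q) :=
    IsLocalization.isNoetherianRing Q.primeCompl _ inferInstance
  haveI : IsNoetherianRing (Localization.AtPrime (Q.comap (algebraMap A B))) :=
    IsLocalization.isNoetherianRing (Q.comap (algebraMap A B)).primeCompl _ inferInstance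
  haveI : Module.Finite (Localization.AtPrime Q) (LocalizedModule Q.primeCompl F) :=
    Module.Finite.of_isLocalizedModule Q.primeCompl (LocalizedModule.mkLinearMap Q.primeCompl F)
  haveI : Module.Finite (Localization.AtPrime (Q.comap (algebraMap A B)))
      (LocalizedModule (Q.comap (algebraMap A B)).primeCompl E) :=
    Module.Finite.of_isLocalizedModule (Q.comap (algebraMap A B)).primeCompl
      (LocalizedModule.mkLinearMap (Q.comap (algebraMap A B)).primeCompl E)
  rw [Module.supportDim_eq_of_equiv (locEquiv A B E F Q),
    Groth.Agent.Helper6.FlatGD.supportDim_tensor_eq, ← supportDim_fib A B F Q]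

theorem subsingleton_loc
    (h : Subsingleton (LocalizedModule (Q.comap (algebraMap A B)).primeCompl E) ∨
      Subsingleton (LocalizedModule Q.primeCompl F)) :
    Subsingleton (LocalizedModule Q.primeCompl (F ⊗[A] E)) := by
  letI := Localization.AtPrime.algebraOfLiesOver (Q.comap (algebraMap A B)) Q
  letI := modA' A B F Q
  haveI := tower2 A B F Q
  rcases h with h | h
  · exact (locEquiv A B E F Q).toEquiv.subsingleton
  · exact (locEquiv A B E F Q).toEquiv.subsingleton

end Formulas

end Groth.Agent.Helper2.ZT
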