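import Mathlib
import Groth.Prelude
import Groth.Agent.Helper2.ZT1
import Groth.Agent.Helper2.DepthLoc
import Groth.Agent.Helper9.DepthKer

set_option autoImplicit false
set_option linter.style.haveILetI false
set_option linter.unusedSectionVars false
universe u
open TensorProduct IsLocalRing

namespace Groth.Agent.Helper2.ZU
open Groth.Agent.Helper2.ZT

section Fib
variable (A B : Type u) [CommRing A] [CommRing B] [IsNoetherianRing A] [IsNoetherianRing B]
  [Algebra A B]
  (F : Type u) [AddCommGroup F] [Module B F] [Module A F] [IsScalarTower A B F]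
  [Module.Finite B F] [Module.Flat A F]
  (Q : Ideal B) [Q.IsPrime]

/-- the fibre depth is at most the total depth, for a module flat over the base -/
theorem depth_fib_le :
    LocCoh.depth (EGA4.FibLocRing A B Q) (EGA4.FibLocMod A B Q F) ≤
      LocCoh.depth (Localization.AtPrime Q) (LocalizedModule Q.primeCompl F) := by
  letI := Localization.AtPrime.algebraOfLiesOver (Q.comap (algebraMap A B)) Q
  haveI : IsLocalHom (algebraMap (Localization.AtPrime (Q.comap (algebraMap A B)))
      (Localization.AtPrime Q)) :=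
    Localization.isLocalHom_localRingHom _ _ _ Ideal.LiesOver.over
  letI := modA' A B F Q
  haveI := tower2 A B F Q
  haveI := flat_loc A B F Q
  haveI : IsNoetherianRing (Localization.AtPrime Q) :=
    IsLocalization.isNoetherianRing Q.primeCompl _ inferInstance
  haveI : IsNoetherianRing (Localization.AtPrime (Q.comap (algebraMap A B))) :=
    IsLocalization.isNoetherianRing (Q.comap (algebraMap A B)).primeCompl _ inferInstance
  haveI : Module.Finite (Localization.AtPrime Q) (LocalizedModule Q.primeCompl F) :=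
    Module.Finite.of_isLocalizedModule Q.primeCompl (LocalizedModule.mkLinearMap Q.primeCompl F)
  have e : ((LocalizedModule Q.primeCompl F) ⊗[Localization.AtPrime (Q.comap (algebraMap A B))]
      (Localization.AtPrime (Q.comap (algebraMap A B)))) ≃ₗ[Localization.AtPrime Q]
      LocalizedModule Q.primeCompl F :=
    TensorProduct.AlgebraTensorModule.rid _ _ _
  have h1 : LocCoh.depth (Localization.AtPrime Q) (LocalizedModule Q.primeCompl F) =
      LocCoh.depth (Localization.AtPrime Q)
        ((LocalizedModule Q.primeCompl F) ⊗[Localization.AtPrime (Q.comap (algebraMap A B))]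
          (Localization.AtPrime (Q.comap (algebraMap A B)))) :=
    (Groth.Agent.Helper2.DepthCM.idealDepth_congr _ e).symm
  rw [h1, Groth.Agent.Helper2.DepthFlat2.depth_tensor, depth_fib A B F Q]
  exact le_add_self

omit [IsNoetherianRing A] [IsNoetherianRing B] [Module.Finite B F] [Module.Flat A F]
  [Module A F] [IsScalarTower A B F] in
lemma map_eq_maximalIdeal :
    Q.map (algebraMap B (EGA4.FibLocRing A B Q)) = maximalIdeal (EGA4.FibLocRing A B Q) := by
  rw [IsScalarTower.algebraMap_eq B (Localization.AtPrime Q) (EGA4.FibLocRing A B Q),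
    ← Ideal.map_map, Localization.AtPrime.map_eq_maximalIdeal]
  exact IsLocalRing.map_maximalIdeal_of_surjective _ Ideal.Quotient.mk_surjective

end Fib

section LocGlob
variable {B : Type u} [CommRing B] [IsNoetherianRing B] (J : Ideal B)
  (M : Type u) [AddCommGroup M] [Module B M] [Module.Finite B M]

theorem le_idealDepth_of_forall_prime (n : ℕ)
    (h : ∀ q : PrimeSpectrum B, J ≤ q.asIdeal →
      (n : ℕ∞) ≤ LocCoh.depth (Localization.AtPrime q.asIdeal)
        (LocalizedModule q.asIdeal.primeCompl M)) :
    (n : ℕ∞) ≤ LocCoh.idealDepth J M := by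
  by_cases hJM : J • (⊤ : Submodule B M) = ⊤
  · unfold LocCoh.idealDepth
    rw [if_pos hJM]
    exact le_top
  · obtain ⟨rs, h1, h2, h3, h4⟩ := Groth.Agent.Helper2.DepthCM.exists_length_eq_idealDepth J M hJM
    obtain ⟨p, hle, hp⟩ := Groth.Agent.Helper2.DepthLoc.exists_depth_localized_eq J M hJM rs h2 h1 h3
    rw [← h4, ← hp]
    exact h p hle

end LocGlob

section Main
variable (A B : Type u) [CommRing A] [CommRing B] [IsNoetherianRing A] [IsNoetherianRing B]
  [Algebra A B] (J : Ideal B)

theorem le_idealDepth_of_fib (n : ℕ)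
    (E : Type u) [AddCommGroup E] [Module B E] [Module A E] [IsScalarTower A B E]
    [Module.Finite B E] [Module.Flat A E]
    (h : ∀ q : PrimeSpectrum B, J ≤ q.asIdeal →
      (n : ℕ∞) ≤ LocCoh.idealDepth (q.asIdeal.map (algebraMap B (EGA4.FibLocRing A B q.asIdeal)))
        (EGA4.FibLocMod A B q.asIdeal E)) :
    (n : ℕ∞) ≤ LocCoh.idealDepth J E := by
  apply le_idealDepth_of_forall_prime
  intro q hq
  have h1 := h q hq
  rw [map_eq_maximalIdeal A B q.asIdeal] at h1
  exact h1.trans (depth_fib_le A B E q.asIdeal)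

theorem s18707
    (F E0 E1 : Type u) [AddCommGroup F] [Module B F] [Module.Finite B F]
    [AddCommGroup E0] [Module B E0] [Module A E0] [IsScalarTower A B E0] [Module.Finite B E0]
    [Module.Flat A E0]
    [AddCommGroup E1] [Module B E1] [Module A E1] [IsScalarTower A B E1] [Module.Finite B E1]
    [Module.Flat A E1]
    (f : F →ₗ[B] E0) (u : E0 →ₗ[B] E1)
    (hf : Function.Injective f) (hfu : Function.Exact f u)
    (h0 : ∀ q : PrimeSpectrum B, J ≤ q.asIdeal →
      2 ≤ LocCoh.idealDepth (q.asIdeal.map (algebraMap B (EGA4.FibLocRing A B q.asIdeal)))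
        (EGA4.FibLocMod A B q.asIdeal E0))
    (h1 : ∀ q : PrimeSpectrum B, J ≤ q.asIdeal →
      1 ≤ LocCoh.idealDepth (q.asIdeal.map (algebraMap B (EGA4.FibLocRing A B q.asIdeal)))
        (EGA4.FibLocMod A B q.asIdeal E1)) :
    2 ≤ LocCoh.idealDepth J F := by
  have hE0 : 2 ≤ LocCoh.idealDepth J E0 := by
    have := le_idealDepth_of_fib A B J 2 E0 (fun q hq => by exact_mod_cast h0 q hq)
    exact_mod_cast this
  have hE1 : 1 ≤ LocCoh.idealDepth J E1 := by
    have := le_idealDepth_of_fib A B J 1 E1 (fun q hq => by exact_mod_cast h1 q hq)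
    exact_mod_cast this
  have h2 := Groth.Agent.Helper9.DepthKer.depth_ker_two (I := J) u hE0 hE1
  let e : F ≃ₗ[B] LinearMap.ker u :=
    LinearEquiv.ofBijective (f.codRestrict (LinearMap.ker u) (fun x => hfu.apply_apply_eq_zero x))
      ⟨fun x y hxy => hf (congrArg Subtype.val hxy), fun ⟨y, hy⟩ => by
        obtain ⟨x, hx⟩ := (hfu y).1 hy
        exact ⟨x, Subtype.ext hx⟩⟩
  rw [Groth.Agent.Helper2.DepthCM.idealDepth_congr J e]
  exact h2

end Main

end Groth.Agent.Helper2.ZU
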