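import Mathlib
import Groth.Prelude
import Groth.Agent.Helper2.ZU1
import Groth.Agent.Helper2.FlatLoc
import Groth.Agent.S18702
import Groth.Agent.S18703

set_option autoImplicit false
set_option linter.style.haveILetI false
set_option linter.unusedSectionVars false
universe u
open TensorProduct IsLocalRing

namespace Groth.Agent.Helper2.ZU

section Ring
variable (A B : Type u) [CommRing A] [CommRing B] [IsNoetherianRing A] [IsNoetherianRing B]
  [Algebra A B] [Module.Flat A B] (J : Ideal B)

/-- `B_q`, as a localized module, is `B_q` -/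
noncomputable def locSelfEquiv (q : Ideal B) [q.IsPrime] :
    LocalizedModule q.primeCompl B ≃ₗ[Localization.AtPrime q] Localization.AtPrime q :=
  LinearEquiv.extendScalarsOfIsLocalization q.primeCompl (Localization.AtPrime q)
    (IsLocalizedModule.iso q.primeCompl (Algebra.linearMap B (Localization.AtPrime q)))

theorem le_idealDepth_ring (n : ℕ)
    (h : ∀ q : PrimeSpectrum B, J ≤ q.asIdeal →
      (n : ℕ∞) ≤ LocCoh.idealDepth (q.asIdeal.map (algebraMap B (EGA4.FibLocRing A B q.asIdeal)))
        (EGA4.FibLocRing A B q.asIdeal)) :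
    (n : ℕ∞) ≤ LocCoh.idealDepth J B := by
  apply le_idealDepth_of_forall_prime
  intro q hq
  have h1 := h q hq
  rw [map_eq_maximalIdeal A B q.asIdeal] at h1
  have h2 : LocCoh.depth (Localization.AtPrime q.asIdeal)
      (LocalizedModule q.asIdeal.primeCompl B) =
      LocCoh.depth (Localization.AtPrime q.asIdeal) (Localization.AtPrime q.asIdeal) :=
    Groth.Agent.Helper2.DepthCM.idealDepth_congr _ (locSelfEquiv B q.asIdeal)
  rw [h2, Groth.Agent.Helper2.FlatLoc.depth_eq A B q.asIdeal]
  exact h1.trans le_add_self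

theorem s18722
    (hZ1 : ∀ q : PrimeSpectrum B, J ≤ q.asIdeal →
      1 ≤ LocCoh.idealDepth (q.asIdeal.map (algebraMap B (EGA4.FibLocRing A B q.asIdeal)))
        (EGA4.FibLocRing A B q.asIdeal))
    (F : Type u) [AddCommGroup F] [Module B F] [Module.Finite B F] :
    ((∀ q : PrimeSpectrum B, ¬ J ≤ q.asIdeal →
        Module.IsReflexive (Localization.AtPrime q.asIdeal)
          (LocalizedModule q.asIdeal.primeCompl F)) →
      2 ≤ LocCoh.idealDepth J F → Module.IsReflexive B F) ∧
    (Module.IsReflexive B F →
      (∀ q : PrimeSpectrum B, J ≤ q.asIdeal →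
        2 ≤ LocCoh.idealDepth (q.asIdeal.map (algebraMap B (EGA4.FibLocRing A B q.asIdeal)))
          (EGA4.FibLocRing A B q.asIdeal)) →
      2 ≤ LocCoh.idealDepth J F) := by
  refine ⟨fun hU hF => ?_, fun hF hZ2 => ?_⟩
  · have hB : 1 ≤ LocCoh.idealDepth J B := by
      have := le_idealDepth_ring A B J 1 (fun q hq => by exact_mod_cast hZ1 q hq)
      exact_mod_cast this
    exact Groth.Agent.S18703.result B J hB F hU hF
  · have hB : 2 ≤ LocCoh.idealDepth J B := by
      have := le_idealDepth_ring A B J 2 (fun q hq => by exact_mod_cast hZ2 q hq)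
      exact_mod_cast this
    exact (Groth.Agent.S18702.result B J F).2.1 hB

end Ring

end Groth.Agent.Helper2.ZU
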