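import Mathlib
import Groth.Prelude.Def_CAlg
import Groth.Prelude.Def_EGA4b
import Groth.Agent.Helper2.FibBC1
import Groth.Agent.Helper2.ZU2

set_option linter.style.haveILetI false
set_option linter.unusedSectionVars false
set_option autoImplicit false

/-! Base change of the fibre depth hypothesis. -/

namespace Groth.Agent.Helper2.FibBC

open TensorProduct IsLocalRing

universe u

section
variable (A B A' B' : Type u) [CommRing A] [CommRing B] [CommRing A'] [CommRing B']
  [Algebra A B] [Algebra A A'] [Algebra B B'] [Algebra A' B'] [Algebra A B']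
  [IsScalarTower A B B'] [IsScalarTower A A' B'] [Algebra.IsPushout A B A' B']

theorem flat_baseChange [Module.Flat A B] : Module.Flat A' B' := by
  have h : Algebra.IsPushout A A' B B' := Algebra.IsPushout.symm inferInstance
  exact Module.Flat.isBaseChange A A' B B' h.out

variable [IsNoetherianRing B] [IsNoetherianRing B'] (J : Ideal B)

/-- the fibre depth hypothesis passes to the base change -/
theorem fib_depth_baseChange (n : ℕ)
    (hZ : ∀ q : PrimeSpectrum B, J ≤ q.asIdeal →
      (n : ℕ∞) ≤ LocCoh.idealDepth (q.asIdeal.map (algebraMap B (EGA4.FibLocRing A B q.asIdeal)))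
        (EGA4.FibLocRing A B q.asIdeal))
    (q' : PrimeSpectrum B') (hq' : J.map (algebraMap B B') ≤ q'.asIdeal) :
    (n : ℕ∞) ≤ LocCoh.idealDepth
      (q'.asIdeal.map (algebraMap B' (EGA4.FibLocRing A' B' q'.asIdeal)))
      (EGA4.FibLocRing A' B' q'.asIdeal) := by
  have hJq : J ≤ q'.asIdeal.comap (algebraMap B B') := Ideal.map_le_iff_le_comap.1 hq'
  have h1 := hZ ⟨q'.asIdeal.comap (algebraMap B B'), inferInstance⟩ hJq
  rw [Groth.Agent.Helper2.ZU.map_eq_maximalIdeal] at h1 ⊢
  exact h1.trans (depth_fib_le A B A' B' q'.asIdeal)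

end

end Groth.Agent.Helper2.FibBC
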