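import Mathlib
import Groth.Prelude

set_option autoImplicit false
set_option linter.style.haveILetI false
set_option linter.unusedSectionVars false
set_option linter.dupNamespace false

namespace Groth.Agent.Helper2.FibLift

universe u

open Polynomial TensorProduct

section Pair

variable {R : Type*} [CommRing R]

/-- If `P` has the same `f` as `Q` and `P.g = Q.g * f'`, the standard étale algebras agree. -/
noncomputable def ringEquivOfMulDerivative (Q P : StandardEtalePair R) (hf : P.f = Q.f)
    (hg : P.g = Q.g * derivative Q.f) : P.Ring ≃ₐ[R] Q.Ring :=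
  have h1 : P.HasMap Q.X := by
    refine ⟨by rw [hf]; exact Q.hasMap_X.1, ?_⟩
    rw [hg, map_mul]
    exact Q.hasMap_X.2.mul Q.hasMap_X.isUnit_derivative_f
  have h2 : Q.HasMap P.X := by
    refine ⟨by rw [← hf]; exact P.hasMap_X.1, ?_⟩
    have := P.hasMap_X.2
    rw [hg, map_mul] at this
    exact isUnit_of_mul_isUnit_left this
  AlgEquiv.ofAlgHom (P.lift Q.X h1) (Q.lift P.X h2) (Q.hom_ext (by simp)) (P.hom_ext (by simp))

end Pair

theorem exists_lift {B C D : Type u} [CommRing B] [CommRing C] [CommRing D] [Algebra B C]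
    [Algebra C D] [Algebra.IsStandardEtale C D] (𝔮 : Ideal C) [𝔮.IsPrime]
    (hP : ∀ s : C, ∃ x r : B, algebraMap B C r ∉ 𝔮 ∧ algebraMap B C r * s = algebraMap B C x) :
    ∃ t : B, algebraMap B C t ∉ 𝔮 ∧ ∀ (B' C' : Type u) [CommRing B'] [CommRing C'] [Algebra B B']
      [Algebra C C'] [Algebra B' C'] [Algebra B C'] [IsScalarTower B B' C'] [IsScalarTower B C C']
      [IsLocalization.Away t B'] [IsLocalization.Away (algebraMap B C t) C'],
      ∃ (A : Type u) (_ : CommRing A) (_ : Algebra B' A), Algebra.Etale B' A ∧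
        Nonempty (C' ⊗[B'] A ≃ₐ[C'] C' ⊗[C] D) := by
  classical
  let Pres : StandardEtalePresentation C D := Nonempty.some inferInstance
  let Q := Pres.P
  choose x r hr hrx using hP
  let Sg : Finset C := Q.f.coeffs ∪ Q.g.coeffs
  refine ⟨∏ s ∈ Sg, r s, ?_, ?_⟩
  · rw [map_prod, Ideal.IsPrime.prod_mem_iff]
    rintro ⟨s, -, hs⟩
    exact hr s hs
  intro B' C' _ _ _ _ _ _ _ _ _ _
  set t := ∏ s ∈ Sg, r s with ht
  have hmem : ∀ s ∈ Sg, algebraMap C C' s ∈ (algebraMap B' C').range := by
    intro s hs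
    have hdvd : r s ∣ t := Finset.dvd_prod_of_mem _ hs
    have hu : IsUnit (algebraMap B B' (r s)) :=
      isUnit_of_dvd_unit (map_dvd (algebraMap B B') hdvd) (IsLocalization.Away.algebraMap_isUnit t)
    obtain ⟨w, hw⟩ := hu
    refine ⟨algebraMap B B' (x s) * ↑w⁻¹, ?_⟩
    have e1 : algebraMap B' C' (algebraMap B B' (r s)) * algebraMap C C' s =
        algebraMap B' C' (algebraMap B B' (x s)) := by
      rw [← IsScalarTower.algebraMap_apply, ← IsScalarTower.algebraMap_apply,
        IsScalarTower.algebraMap_apply B C C', IsScalarTower.algebraMap_apply B C C', ← map_mul,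
        hrx]
    rw [map_mul, ← e1, ← hw, mul_comm, ← mul_assoc, ← map_mul, Units.inv_mul, map_one, one_mul]
  have hcoeff : ∀ (p : C[X]), (p.coeffs ⊆ Sg) → p.map (algebraMap C C') ∈ lifts (algebraMap B' C') := by
    intro p hp
    rw [lifts_iff_coeff_lifts]
    intro n
    rw [coeff_map]
    by_cases h0 : p.coeff n = 0
    · rw [h0, map_zero]; exact ⟨0, map_zero _⟩
    · exact hmem _ (hp (coeff_mem_coeffs h0))
  obtain ⟨f', hf', -, hmonic⟩ := lifts_and_natDegree_eq_and_monic
    (hcoeff Q.f Finset.subset_union_left) (Q.monic_f.map _)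
  obtain ⟨g', hg'⟩ := (mem_lifts _).1 (hcoeff Q.g Finset.subset_union_right)
  let P : StandardEtalePair B' := ⟨f', hmonic, g' * derivative f', ⟨g', 0, 1, by ring⟩⟩
  refine ⟨P.Ring, inferInstance, inferInstance, inferInstance, ?_⟩
  -- the tautological presentation of `P.Ring`
  let PresP : StandardEtalePresentation B' P.Ring :=
    ⟨P, P.X, P.hasMap_X, by simpa [StandardEtalePair.lift_X_left] using Function.bijective_id⟩
  let e1 : C' ⊗[B'] P.Ring ≃ₐ[C'] (P.map (algebraMap B' C')).Ring := PresP.baseChange.equivRing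
  let e3 : C' ⊗[C] D ≃ₐ[C'] (Q.map (algebraMap C C')).Ring := Pres.baseChange.equivRing
  let e2 : (P.map (algebraMap B' C')).Ring ≃ₐ[C'] (Q.map (algebraMap C C')).Ring :=
    ringEquivOfMulDerivative _ _ (by simp [P, hf', Q]) (by
      simp only [StandardEtalePair.map_g, StandardEtalePair.map_f, P, Polynomial.map_mul,
        Polynomial.derivative_map, hg', Q, ← hf'])
  exact ⟨(e1.trans e2).trans e3.symm⟩

end Groth.Agent.Helper2.FibLift
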