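import Mathlib
import Groth.Prelude

set_option autoImplicit false
set_option linter.style.haveILetI false
set_option linter.unusedSectionVars false
set_option linter.dupNamespace false

namespace Groth.Agent.Helper2.FibLift

universe u

open AlgebraicGeometry CategoryTheory Topology

/-- shrinking along a topological embedding -/
theorem exists_basicOpen_preimage_le {X Z : Scheme.{u}} (i : Z ⟶ X) (hi : IsEmbedding i)
    {X₀ : X.Opens} (hX₀ : IsAffineOpen X₀) (z : Z) (hz : i z ∈ X₀) (O : Z.Opens) (hzO : z ∈ O) :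
    ∃ b : Γ(X, X₀), i z ∈ X.basicOpen b ∧ i ⁻¹ᵁ (X.basicOpen b) ≤ O := by
  obtain ⟨O', hO', hOO'⟩ := hi.isInducing.isOpen_iff.1 O.isOpen
  let O'' : X.Opens := ⟨O', hO'⟩
  have hz' : i z ∈ O'' := by
    show z ∈ i ⁻¹' O'
    rw [hOO']; exact hzO
  obtain ⟨b, hb1, hb2⟩ := hX₀.exists_basicOpen_le (V := O'') ⟨i z, hz'⟩ hz
  refine ⟨b, hb2, ?_⟩
  intro y hy
  have : i y ∈ O'' := hb1 hy
  have h2 : y ∈ i ⁻¹' O' := this
  rw [hOO'] at h2
  exact h2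

theorem mem_basicOpen_iff_notMem_primeIdealOf {X : Scheme.{u}} {V : X.Opens} (hV : IsAffineOpen V)
    (x : X) (hx : x ∈ V) (r : Γ(X, V)) :
    x ∈ X.basicOpen r ↔ r ∉ (hV.primeIdealOf ⟨x, hx⟩).asIdeal := by
  have key : hV.fromSpec (hV.primeIdealOf ⟨x, hx⟩) = x := hV.fromSpec_primeIdealOf ⟨x, hx⟩
  have h2 : hV.fromSpec ⁻¹ᵁ X.basicOpen r = PrimeSpectrum.basicOpen r :=
    hV.fromSpec_preimage_basicOpen r
  constructor
  · intro h
    have h3 : hV.primeIdealOf ⟨x, hx⟩ ∈ hV.fromSpec ⁻¹ᵁ X.basicOpen r := by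
      show hV.fromSpec (hV.primeIdealOf ⟨x, hx⟩) ∈ X.basicOpen r
      rw [key]; exact h
    rw [h2] at h3
    exact h3
  · intro h
    have h3 : hV.primeIdealOf ⟨x, hx⟩ ∈ hV.fromSpec ⁻¹ᵁ X.basicOpen r := by
      rw [h2]; exact h
    have h4 : hV.fromSpec (hV.primeIdealOf ⟨x, hx⟩) ∈ X.basicOpen r := h3
    rwa [key] at h4

/-- an affine open neighbourhood whose preimage is affine -/
theorem exists_affine_preimage_affine {X Z : Scheme.{u}} (i : Z ⟶ X) (hi : IsEmbedding i) (z : Z) :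
    ∃ X₀ : X.Opens, IsAffineOpen X₀ ∧ i z ∈ X₀ ∧ IsAffineOpen (i ⁻¹ᵁ X₀) := by
  obtain ⟨_, ⟨X₁, hX₁ : IsAffineOpen X₁, rfl⟩, hx, -⟩ :=
    X.isBasis_affineOpens.exists_subset_of_mem_open (Set.mem_univ (i z)) isOpen_univ
  obtain ⟨_, ⟨Z₁, hZ₁ : IsAffineOpen Z₁, rfl⟩, hz, hle⟩ :=
    Z.isBasis_affineOpens.exists_subset_of_mem_open (show z ∈ (i ⁻¹ᵁ X₁ : Set Z) from hx)
      (i ⁻¹ᵁ X₁).isOpen
  obtain ⟨b, hb1, hb2⟩ := exists_basicOpen_preimage_le i hi hX₁ z hx Z₁ hz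
  refine ⟨X.basicOpen b, hX₁.basicOpen b, hb1, ?_⟩
  have hle' : Z₁ ≤ i ⁻¹ᵁ X₁ := hle
  have h1 : i ⁻¹ᵁ (X.basicOpen b) = Z.basicOpen (Z.presheaf.map (homOfLE hle').op (i.app X₁ b)) := by
    rw [Scheme.preimage_basicOpen] at hb2
    rw [Scheme.basicOpen_res, Scheme.preimage_basicOpen]
    exact (inf_eq_right.2 hb2).symm
  rw [h1]
  exact hZ₁.basicOpen _

/-- a preimmersion is, on sections over an affine open with affine preimage, "surjective up to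
denominators" at each point -/
theorem exists_div_of_isPreimmersion {X Z : Scheme.{u}} (i : Z ⟶ X) [IsPreimmersion i]
    {X₀ : X.Opens} (hX₀ : IsAffineOpen X₀) (hZ₀ : IsAffineOpen (i ⁻¹ᵁ X₀)) (z : Z)
    (hz : i z ∈ X₀) (s : Γ(Z, i ⁻¹ᵁ X₀)) :
    ∃ x r : Γ(X, X₀), (i.app X₀).hom r ∉ (hZ₀.primeIdealOf ⟨z, hz⟩).asIdeal ∧
      (i.app X₀).hom r * s = (i.app X₀).hom x := by
  have hsurj : RingHom.SurjectiveOnStalks (i.app X₀).hom := by
    have := HasRingHomProperty.appLE (P := @SurjectiveOnStalks) i inferInstance ⟨X₀, hX₀⟩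
      ⟨i ⁻¹ᵁ X₀, hZ₀⟩ le_rfl
    rwa [← Scheme.Hom.app_eq_appLE] at this
  set 𝔮 := (hZ₀.primeIdealOf ⟨z, hz⟩).asIdeal with h𝔮
  obtain ⟨x, r, c, hc, hr, e⟩ := (RingHom.surjective_localRingHom_iff 𝔮).1 (hsurj 𝔮 inferInstance) s
  have hzc : z ∈ Z.basicOpen c := (mem_basicOpen_iff_notMem_primeIdealOf hZ₀ z hz c).2 hc
  obtain ⟨b, hb1, hb2⟩ := exists_basicOpen_preimage_le i i.isEmbedding hX₀ z hz _ hzc
  rw [Scheme.preimage_basicOpen] at hb2
  have hb3 : (i.app X₀).hom b ∉ 𝔮 := by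
    rw [h𝔮, ← mem_basicOpen_iff_notMem_primeIdealOf hZ₀ z hz]
    have : z ∈ i ⁻¹ᵁ X.basicOpen b := hb1
    rwa [Scheme.preimage_basicOpen] at this
  have hb4 : (i.app X₀).hom b ∈ (Ideal.span {c}).radical := by
    rw [← PrimeSpectrum.basicOpen_le_basicOpen_iff]
    have h1 := hZ₀.fromSpec_preimage_basicOpen ((i.app X₀).hom b)
    have h2 := hZ₀.fromSpec_preimage_basicOpen c
    intro y hy
    have hy1 : y ∈ hZ₀.fromSpec ⁻¹ᵁ Z.basicOpen ((i.app X₀).hom b) := by rw [h1]; exact hy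
    have hy2 : y ∈ hZ₀.fromSpec ⁻¹ᵁ Z.basicOpen c := hb2 hy1
    rw [h2] at hy2
    exact hy2
  obtain ⟨n, hn⟩ := hb4
  obtain ⟨c', hc'⟩ := Ideal.mem_span_singleton.1 hn
  refine ⟨b ^ n * x, b ^ n * r, ?_, ?_⟩
  · rw [map_mul, map_pow]
    exact fun h => (Ideal.IsPrime.mem_or_mem inferInstance h).elim
      (fun h' => hb3 (Ideal.IsPrime.mem_of_pow_mem inferInstance _ h')) hr
  · rw [map_mul, map_mul, map_pow, hc']
    linear_combination c' * e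

end Groth.Agent.Helper2.FibLift
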