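import Mathlib
import Groth.Prelude
import Groth.Agent.Helper2.FibLiftB

set_option autoImplicit false
set_option linter.style.haveILetI false
set_option linter.unusedSectionVars false
set_option linter.dupNamespace false

namespace Groth.Agent.Helper2.FibLift

universe u

open AlgebraicGeometry CategoryTheory Topology

/-- a standard étale chart of an étale morphism at a point, over a given affine open of the target -/
theorem exists_standardEtale_chart {V Z : Scheme.{u}} (g : V ⟶ Z) [Etale g] (v : V)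
    {Z₀ : Z.Opens} (hZ₀ : IsAffineOpen Z₀) (hv : g v ∈ Z₀) :
    ∃ (D : Type u) (_ : CommRing D) (_ : Algebra Γ(Z, Z₀) D) (_ : Algebra.IsStandardEtale Γ(Z, Z₀) D)
      (jV : Spec (CommRingCat.of D) ⟶ V) (_ : IsOpenImmersion jV) (w₀ : Spec (CommRingCat.of D)),
      jV w₀ = v ∧
      jV ≫ g = Spec.map (CommRingCat.ofHom (algebraMap Γ(Z, Z₀) D)) ≫ hZ₀.fromSpec := by
  obtain ⟨_, ⟨V₁, hV₁ : IsAffineOpen V₁, rfl⟩, hvV₁, hle⟩ :=
    V.isBasis_affineOpens.exists_subset_of_mem_open (show v ∈ (g ⁻¹ᵁ Z₀ : Set V) from hv)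
      (g ⁻¹ᵁ Z₀).isOpen
  have hle' : V₁ ≤ g ⁻¹ᵁ Z₀ := hle
  have het : RingHom.Etale (g.appLE Z₀ V₁ hle').hom :=
    HasRingHomProperty.appLE (P := @Etale) g inferInstance ⟨Z₀, hZ₀⟩ ⟨V₁, hV₁⟩ hle'
  algebraize [(g.appLE Z₀ V₁ hle').hom]
  haveI : Algebra.Etale Γ(Z, Z₀) Γ(V, V₁) := RingHom.etale_algebraMap.1 het
  set 𝔫 := (hV₁.primeIdealOf ⟨v, hvV₁⟩).asIdeal with h𝔫
  haveI : Algebra.IsEtaleAt Γ(Z, Z₀) 𝔫 :=
    Algebra.FormallyEtale.comp Γ(Z, Z₀) Γ(V, V₁) (Localization.AtPrime 𝔫)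
  obtain ⟨f, hf, hstd⟩ := Algebra.IsEtaleAt.exists_isStandardEtale (R := Γ(Z, Z₀)) 𝔫
  let D := Localization.Away f
  let jV : Spec (CommRingCat.of D) ⟶ V :=
    Spec.map (CommRingCat.ofHom (algebraMap Γ(V, V₁) D)) ≫ hV₁.fromSpec
  haveI := hV₁.isOpenImmersion_fromSpec
  have hrange : hV₁.primeIdealOf ⟨v, hvV₁⟩ ∈
      Set.range (Spec.map (CommRingCat.ofHom (algebraMap Γ(V, V₁) D))) := by
    have h1 : (Spec.map (CommRingCat.ofHom (algebraMap Γ(V, V₁) D))).opensRange =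
        PrimeSpectrum.basicOpen f := Scheme.Hom.opensRange_localizationAway (R := Γ(V, V₁)) f
    have h2 : hV₁.primeIdealOf ⟨v, hvV₁⟩ ∈ PrimeSpectrum.basicOpen f := hf
    rw [← h1] at h2
    exact h2
  obtain ⟨w₀, hw₀⟩ := hrange
  refine ⟨D, inferInstance, inferInstance, hstd, jV, inferInstance, w₀, ?_, ?_⟩
  · show hV₁.fromSpec ((Spec.map (CommRingCat.ofHom (algebraMap Γ(V, V₁) D))) w₀) = v
    rw [hw₀, hV₁.fromSpec_primeIdealOf]
  · show (Spec.map _ ≫ hV₁.fromSpec) ≫ g = _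
    rw [Category.assoc, ← IsAffineOpen.SpecMap_appLE_fromSpec g hZ₀ hV₁ hle', ← Spec.map_comp_assoc]
    congr 2

end Groth.Agent.Helper2.FibLift
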