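import Mathlib
import Groth.Prelude
import Groth.Agent.Helper2.FibLiftA
import Groth.Agent.Helper2.FibLiftC

set_option autoImplicit false
set_option linter.style.haveILetI false
set_option linter.unusedSectionVars false
set_option linter.dupNamespace false

namespace Groth.Agent.Helper2.FibLift

universe u

open AlgebraicGeometry CategoryTheory Topology TensorProduct

theorem exists_preimage_of_isPullback {P X Y S : Scheme.{u}} {fst : P ⟶ X} {snd : P ⟶ Y}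
    {f : X ⟶ S} {g : Y ⟶ S} (h : IsPullback fst snd f g) (x : X) (y : Y) (hxy : f x = g y) :
    ∃ z : P, fst z = x ∧ snd z = y := by
  obtain ⟨z', hz1, hz2⟩ := Scheme.Pullback.exists_preimage_pullback x y hxy
  refine ⟨h.isoPullback.inv z', ?_, ?_⟩
  · rw [← Scheme.Hom.comp_apply, h.isoPullback_inv_fst, hz1]
  · rw [← Scheme.Hom.comp_apply, h.isoPullback_inv_snd, hz2]

/-- Étale neighbourhoods lift along a preimmersion, up to shrinking. -/
theorem exists_etale_lift {X Z V : Scheme.{u}} (i : Z ⟶ X) [IsPreimmersion i] (g : V ⟶ Z)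
    [Etale g] (v : V) :
    ∃ (U : Scheme.{u}) (p : U ⟶ X) (T : Scheme.{u}) (fst : T ⟶ U) (snd : T ⟶ Z) (m : T ⟶ V)
      (w : T), Etale p ∧ IsPullback fst snd p i ∧ IsOpenImmersion m ∧ m ≫ g = snd ∧ m w = v := by
  obtain ⟨X₀, hX₀, hx, hZ₀⟩ := exists_affine_preimage_affine i i.isEmbedding (g v)
  have hz : g v ∈ i ⁻¹ᵁ X₀ := hx
  obtain ⟨D, _, _, hstd, jV, hjV, w₀, hw₀, hjVg⟩ := exists_standardEtale_chart g v hZ₀ hz
  letI : Algebra Γ(X, X₀) Γ(Z, i ⁻¹ᵁ X₀) := (i.app X₀).hom.toAlgebra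
  set 𝔮 := (hZ₀.primeIdealOf ⟨g v, hz⟩).asIdeal with h𝔮
  obtain ⟨t, ht, H⟩ := exists_lift (B := Γ(X, X₀)) (C := Γ(Z, i ⁻¹ᵁ X₀)) (D := D) 𝔮
    (fun s => exists_div_of_isPreimmersion i hX₀ hZ₀ (g v) hx s)
  let B' := Localization.Away t
  let C' := Localization.Away (algebraMap Γ(X, X₀) Γ(Z, i ⁻¹ᵁ X₀) t)
  letI : Algebra B' C' := (Localization.awayMap (algebraMap Γ(X, X₀) Γ(Z, i ⁻¹ᵁ X₀)) t).toAlgebra
  haveI : IsScalarTower Γ(X, X₀) B' C' := IsScalarTower.of_algebraMap_eq (fun b => by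
    have h1 : algebraMap B' C' (algebraMap Γ(X, X₀) B' b) =
        algebraMap Γ(Z, i ⁻¹ᵁ X₀) C' (algebraMap Γ(X, X₀) Γ(Z, i ⁻¹ᵁ X₀) b) := by
      show Localization.awayMap (algebraMap Γ(X, X₀) Γ(Z, i ⁻¹ᵁ X₀)) t
        (algebraMap Γ(X, X₀) B' b) = _
      simp only [Localization.awayMap, IsLocalization.Away.map]
      exact IsLocalization.map_eq _ b
    rw [h1, ← IsScalarTower.algebraMap_apply])
  obtain ⟨A, _, _, hA, ⟨e⟩⟩ := H B' C'
  -- the ring maps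
  let βB : Γ(X, X₀) ⟶ CommRingCat.of B' := CommRingCat.ofHom (algebraMap Γ(X, X₀) B')
  let βA : CommRingCat.of B' ⟶ CommRingCat.of A := CommRingCat.ofHom (algebraMap B' A)
  let φ : Γ(X, X₀) ⟶ Γ(Z, i ⁻¹ᵁ X₀) := i.app X₀
  let γ : Γ(Z, i ⁻¹ᵁ X₀) ⟶ CommRingCat.of C' := CommRingCat.ofHom (algebraMap Γ(Z, i ⁻¹ᵁ X₀) C')
  let φ' : CommRingCat.of B' ⟶ CommRingCat.of C' := CommRingCat.ofHom (algebraMap B' C')
  let ψ : Γ(Z, i ⁻¹ᵁ X₀) ⟶ CommRingCat.of D := CommRingCat.ofHom (algebraMap Γ(Z, i ⁻¹ᵁ X₀) D)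
  let inl₁ : CommRingCat.of C' ⟶ CommRingCat.of (C' ⊗[B'] A) :=
    CommRingCat.ofHom Algebra.TensorProduct.includeLeftRingHom
  let inr₁ : CommRingCat.of A ⟶ CommRingCat.of (C' ⊗[B'] A) :=
    CommRingCat.ofHom Algebra.TensorProduct.includeRight.toRingHom
  let inl₂ : CommRingCat.of C' ⟶ CommRingCat.of (C' ⊗[Γ(Z, i ⁻¹ᵁ X₀)] D) :=
    CommRingCat.ofHom Algebra.TensorProduct.includeLeftRingHom
  let inr₂ : CommRingCat.of D ⟶ CommRingCat.of (C' ⊗[Γ(Z, i ⁻¹ᵁ X₀)] D) :=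
    CommRingCat.ofHom Algebra.TensorProduct.includeRight.toRingHom
  let ee : CommRingCat.of (C' ⊗[Γ(Z, i ⁻¹ᵁ X₀)] D) ≅ CommRingCat.of (C' ⊗[B'] A) :=
    e.symm.toRingEquiv.toCommRingCatIso
  haveI := hX₀.isOpenImmersion_fromSpec
  haveI := hZ₀.isOpenImmersion_fromSpec
  -- squares
  have s₁ : IsPullback (Spec.map inr₁) (Spec.map inl₁) (Spec.map βA) (Spec.map φ') :=
    (isPullback_SpecMap_of_isPushout _ _ _ _ (CommRingCat.isPushout_tensorProduct B' C' A)).flip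
  have hφγ : φ ≫ γ = βB ≫ φ' := by
    ext b
    show algebraMap Γ(Z, i ⁻¹ᵁ X₀) C' (algebraMap Γ(X, X₀) Γ(Z, i ⁻¹ᵁ X₀) b) =
      algebraMap B' C' (algebraMap Γ(X, X₀) B' b)
    rw [← IsScalarTower.algebraMap_apply, ← IsScalarTower.algebraMap_apply]
  have s₂ : IsPullback (Spec.map φ') (Spec.map γ) (Spec.map βB) (Spec.map φ) := by
    refine IsOpenImmersion.isPullback _ _ _ _ ?_ ?_
    · rw [← Spec.map_comp, ← Spec.map_comp, hφγ]
    · rw [Scheme.Hom.opensRange_localizationAway, Scheme.Hom.opensRange_localizationAway]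
      ext y
      exact Iff.rfl
  have s₃ : IsPullback (Spec.map φ) hZ₀.fromSpec hX₀.fromSpec i := by
    refine IsOpenImmersion.isPullback _ _ _ _ ?_ ?_
    · have := IsAffineOpen.SpecMap_appLE_fromSpec i hX₀ hZ₀ le_rfl
      rw [← Scheme.Hom.app_eq_appLE] at this
      exact this.symm
    · rw [hX₀.opensRange_fromSpec, hZ₀.opensRange_fromSpec]
  have s := (s₁.paste_vert s₂).paste_vert s₃
  have s₄ : IsPullback (Spec.map inl₂) (Spec.map inr₂) (Spec.map γ) (Spec.map ψ) :=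
    isPullback_SpecMap_of_isPushout _ _ _ _
      (CommRingCat.isPushout_tensorProduct Γ(Z, i ⁻¹ᵁ X₀) C' D)
  haveI : IsOpenImmersion (Spec.map inr₂) :=
    MorphismProperty.of_isPullback (P := @IsOpenImmersion) s₄ inferInstance
  haveI : Etale (Spec.map βA) := by
    rw [HasRingHomProperty.Spec_iff (P := @Etale)]
    exact RingHom.etale_algebraMap.2 hA
  have hee : inl₂ ≫ ee.hom = inl₁ := by
    ext c
    show e.symm (c ⊗ₜ 1) = c ⊗ₜ 1
    have := e.symm.commutes c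
    simpa [Algebra.TensorProduct.algebraMap_apply] using this
  have hψγ : ψ ≫ inr₂ = γ ≫ inl₂ := by
    ext c
    show (1 : C') ⊗ₜ[Γ(Z, i ⁻¹ᵁ X₀)] (algebraMap Γ(Z, i ⁻¹ᵁ X₀) D c) =
      (algebraMap Γ(Z, i ⁻¹ᵁ X₀) C' c) ⊗ₜ 1
    exact (Algebra.TensorProduct.tmul_one_eq_one_tmul c).symm
  have h1 : hZ₀.fromSpec (Spec.map ψ w₀) = g v := by
    rw [← Scheme.Hom.comp_apply, ← hjVg, Scheme.Hom.comp_apply, hw₀]
  have h2 : Spec.map ψ w₀ = hZ₀.primeIdealOf ⟨g v, hz⟩ :=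
    hZ₀.fromSpec.isOpenEmbedding.injective (h1.trans (hZ₀.fromSpec_primeIdealOf ⟨g v, hz⟩).symm)
  have h3 : Spec.map ψ w₀ ∈ (Spec.map γ).opensRange := by
    rw [Scheme.Hom.opensRange_localizationAway, h2]
    exact ht
  obtain ⟨y, hy⟩ := h3
  obtain ⟨w₁, hw₁a, hw₁b⟩ := exists_preimage_of_isPullback s₄ y w₀ hy
  refine ⟨Spec (CommRingCat.of A), (Spec.map βA ≫ Spec.map βB) ≫ hX₀.fromSpec,
    Spec (CommRingCat.of (C' ⊗[B'] A)), Spec.map inr₁, (Spec.map inl₁ ≫ Spec.map γ) ≫ hZ₀.fromSpec,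
    Spec.map ee.hom ≫ Spec.map inr₂ ≫ jV, Spec.map ee.inv w₁, inferInstance, s, inferInstance,
    ?_, ?_⟩
  · calc (Spec.map ee.hom ≫ Spec.map inr₂ ≫ jV) ≫ g
        = Spec.map ee.hom ≫ Spec.map inr₂ ≫ (jV ≫ g) := by simp only [Category.assoc]
      _ = Spec.map ee.hom ≫ (Spec.map inr₂ ≫ Spec.map ψ) ≫ hZ₀.fromSpec := by
          rw [hjVg]; simp only [Category.assoc]; rfl
      _ = Spec.map ee.hom ≫ (Spec.map inl₂ ≫ Spec.map γ) ≫ hZ₀.fromSpec := by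
          rw [← Spec.map_comp, hψγ, Spec.map_comp]
      _ = (Spec.map ee.hom ≫ Spec.map inl₂) ≫ Spec.map γ ≫ hZ₀.fromSpec := by
          simp only [Category.assoc]
      _ = Spec.map inl₁ ≫ Spec.map γ ≫ hZ₀.fromSpec := by rw [← Spec.map_comp, hee]
      _ = _ := by simp only [Category.assoc]
  · rw [← Scheme.Hom.comp_apply, ← Category.assoc, ← Spec.map_comp, ee.hom_inv_id, Spec.map_id,
      Category.id_comp, Scheme.Hom.comp_apply, hw₁b, hw₀]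

end Groth.Agent.Helper2.FibLift
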