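import Mathlib
import Groth.Prelude
import Groth.Agent.Helper2.FibLiftD

set_option autoImplicit false
set_option linter.style.haveILetI false
set_option linter.unusedSectionVars false
set_option linter.dupNamespace false

namespace Groth.Agent.Helper2.FibLift

universe u

open AlgebraicGeometry CategoryTheory Topology Limits

/-- the fibre of `p ≫ f` is the pullback of `p` along the inclusion of the fibre of `f` -/
theorem isPullback_fiberMap {U X S : Scheme.{u}} (p : U ⟶ X) (f : X ⟶ S) (s : S) :
    IsPullback ((p ≫ f).fiberι s) (MoreMor.fiberMap p f s) p (f.fiberι s) := by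
  have h1 : MoreMor.fiberMap p f s ≫ f.fiberToSpecResidueField s =
      (p ≫ f).fiberToSpecResidueField s := pullback.lift_snd _ _ _
  have h2 : MoreMor.fiberMap p f s ≫ f.fiberι s = (p ≫ f).fiberι s ≫ p := pullback.lift_fst _ _ _
  have big : IsPullback (MoreMor.fiberMap p f s ≫ f.fiberToSpecResidueField s)
      ((p ≫ f).fiberι s) (S.fromSpecResidueField s) (p ≫ f) := by
    rw [h1]
    exact (IsPullback.of_hasPullback (p ≫ f) (S.fromSpecResidueField s)).flip
  have right : IsPullback (f.fiberToSpecResidueField s) (f.fiberι s) (S.fromSpecResidueField s) f :=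
    (IsPullback.of_hasPullback f (S.fromSpecResidueField s)).flip
  exact (IsPullback.of_right big h2 right).flip

theorem s9727 {X S V : Scheme.{u}} (f : X ⟶ S) (x : X)
    (g : V ⟶ f.fiber (f x)) [Etale g] (v : V) (hv : g v = f.asFiber x) :
    ∃ (U : Scheme.{u}) (p : U ⟶ X) (u : U) (m : (p ≫ f).fiber (f x) ⟶ V)
      (u' : ↑((p ≫ f).fiber (f x))),
      Etale p ∧ p u = x ∧ IsOpenImmersion m ∧ m ≫ g = MoreMor.fiberMap p f (f x) ∧
      (p ≫ f).fiberι (f x) u' = u ∧ m u' = v := by
  obtain ⟨U, p, T, fst, snd, m, w, hp, hpb, hm, hmg, hmw⟩ := exists_etale_lift (f.fiberι (f x)) g v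
  have hfib := isPullback_fiberMap p f (f x)
  let e := hfib.isoIsPullback _ _ hpb
  refine ⟨U, p, fst w, e.hom ≫ m, e.inv w, hp, ?_, inferInstance, ?_, ?_, ?_⟩
  · rw [← Scheme.Hom.comp_apply, hpb.w, Scheme.Hom.comp_apply, ← hmg, Scheme.Hom.comp_apply, hmw, hv,
      Scheme.Hom.fiberι_asFiber]
  · rw [Category.assoc, hmg]
    exact hfib.isoIsPullback_hom_snd _ _ hpb
  · rw [← Scheme.Hom.comp_apply]
    exact congrArg (fun φ : T ⟶ U => φ w) (hfib.isoIsPullback_inv_fst _ _ hpb)
  · rw [← Scheme.Hom.comp_apply, ← Category.assoc, e.inv_hom_id, Category.id_comp, hmw]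

end Groth.Agent.Helper2.FibLift
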