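import Mathlib
import Groth.Prelude
import Groth.Agent.Helper2.FibLiftE
import Groth.Agent.Helper2.BrSchH

set_option autoImplicit false
set_option linter.style.haveILetI false
set_option linter.unusedSectionVars false
set_option linter.dupNamespace false

namespace Groth.Agent.Helper2.FibBr

universe u

open AlgebraicGeometry CategoryTheory Topology Limits IsLocalRing
open Groth.Agent.Helper2.BrSch Groth.Agent.Helper2.FibLift

/-- open immersions preserve the number of irreducible components through a point -/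
theorem encard_components_of_isOpenImmersion {W V : Scheme.{u}} (m : W ⟶ V) [IsOpenImmersion m]
    (w : W) :
    {Z : Set ↑W | Z ∈ irreducibleComponents ↑W ∧ w ∈ Z}.encard =
      {Z : Set ↑V | Z ∈ irreducibleComponents ↑V ∧ m w ∈ Z}.encard := by
  rw [encard_components_eq_minimalPrimes, encard_components_eq_minimalPrimes]
  exact (Brnch.encard_minimalPrimes_of_ringEquiv
    (asIso (m.stalkMap w)).commRingCatIsoToRingEquiv).symm

theorem setOf_components_fiberι {U S : Scheme.{u}} (h : U ⟶ S) (s : S) (u₀ : ↑(h.fiber s)) :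
    {Z : Set ↑(h.fiber s) | Z ∈ irreducibleComponents ↑(h.fiber s) ∧
      ∃ u' ∈ Z, h.fiberι s u' = h.fiberι s u₀} =
    {Z : Set ↑(h.fiber s) | Z ∈ irreducibleComponents ↑(h.fiber s) ∧ u₀ ∈ Z} := by
  ext Z
  constructor
  · rintro ⟨hZ, u', hu', e⟩
    have : u' = u₀ := (h.fiberι s).isEmbedding.injective e
    exact ⟨hZ, this ▸ hu'⟩
  · rintro ⟨hZ, hu⟩
    exact ⟨hZ, u₀, hu, rfl⟩

theorem etale_fiberMap {U X S : Scheme.{u}} (p : U ⟶ X) [Etale p] (f : X ⟶ S) (s : S) :
    Etale (MoreMor.fiberMap p f s) :=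
  MorphismProperty.of_isPullback (P := @Etale) (isPullback_fiberMap p f s) inferInstance

theorem fiberMap_eq_asFiber {U X S : Scheme.{u}} (p : U ⟶ X) (f : X ⟶ S) (u : U)
    (u₀ : ↑((p ≫ f).fiber (f (p u)))) (hu₀ : (p ≫ f).fiberι (f (p u)) u₀ = u) :
    MoreMor.fiberMap p f (f (p u)) u₀ = f.asFiber (p u) := by
  apply (f.fiberι (f (p u))).isEmbedding.injective
  rw [Scheme.Hom.fiberι_asFiber, ← Scheme.Hom.comp_apply, (isPullback_fiberMap p f _).w.symm,
    Scheme.Hom.comp_apply, hu₀]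

theorem exists_fiberι_eq {U S : Scheme.{u}} (h : U ⟶ S) (u : U) :
    ∃ u₀ : ↑(h.fiber (h u)), h.fiberι (h u) u₀ = u :=
  ⟨h.asFiber u, h.fiberι_asFiber u⟩

theorem s9754 {X S : Scheme.{u}} (f : X ⟶ S) (x : X) :
    _root_.Brnch.numGeomBranchesAt (f.fiber (f x)) (f.asFiber x) =
      ⨆ (U : Scheme.{u}) (g : U ⟶ X) (u : U) (_ : Etale g ∧ g u = x),
      {Z : Set ↑((g ≫ f).fiber (f x)) | Z ∈ irreducibleComponents ↑((g ≫ f).fiber (f x)) ∧
        ∃ u' ∈ Z, (g ≫ f).fiberι (f x) u' = u}.encard := by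
  apply le_antisymm
  · rw [← ENat.forall_natCast_le_iff_le]
    intro n hn
    obtain ⟨V, g', v, ⟨hg', hv⟩, hle⟩ := exists_nbhd_geom (f.asFiber x) n hn
    haveI := hg'
    obtain ⟨U, p, u, m, u', hp, hpu, hm, hmg, hu', hmu'⟩ := s9727 f x g' v hv
    have key := setOf_components_fiberι (p ≫ f) (f x) u'
    rw [hu'] at key
    rw [← hmu', ← encard_components_of_isOpenImmersion m u', ← key] at hle
    exact hle.trans (le_iSup_of_le U (le_iSup_of_le p (le_iSup_of_le u
      (le_iSup_of_le ⟨hp, hpu⟩ le_rfl))))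
  · refine iSup_le fun U => iSup_le fun g => iSup_le fun u => iSup_le ?_
    rintro ⟨hg, rfl⟩
    obtain ⟨u₀, hu₀⟩ : ∃ u₀ : ↑((g ≫ f).fiber (f (g u))), (g ≫ f).fiberι (f (g u)) u₀ = u :=
      exists_fiberι_eq (g ≫ f) u
    have key := setOf_components_fiberι (g ≫ f) (f (g u)) u₀
    rw [hu₀] at key
    rw [key]
    haveI := etale_fiberMap g f (f (g u))
    exact (le_numGeomBranchesAt (MoreMor.fiberMap g f (f (g u))) u₀).trans_eq
      (by rw [fiberMap_eq_asFiber g f u u₀ hu₀])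

end Groth.Agent.Helper2.FibBr
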