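import Mathlib
import Groth.Prelude
import Groth.Agent.Helper2.FibBrA

set_option autoImplicit false
set_option linter.style.haveILetI false
set_option linter.unusedSectionVars false
set_option linter.dupNamespace false

namespace Groth.Agent.Helper2.FibBr

universe u

open AlgebraicGeometry CategoryTheory Topology Limits IsLocalRing
open Groth.Agent.Helper2.BrSch Groth.Agent.Helper2.FibLift

theorem bijective_residueFieldMap_congr {X Y : Scheme.{u}} {f g : X ⟶ Y} (e : f = g) (x : X) :
    Function.Bijective (f.residueFieldMap x) ↔ Function.Bijective (g.residueFieldMap x) := by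
  subst e; rfl

theorem bijective_residueFieldMap_congr' {X Y : Scheme.{u}} (f : X ⟶ Y) {x₁ x₂ : X} (e : x₁ = x₂) :
    Function.Bijective (f.residueFieldMap x₁) ↔ Function.Bijective (f.residueFieldMap x₂) := by
  subst e; rfl

theorem bijective_residueFieldMap_of_surjectiveOnStalks {X Y : Scheme.{u}} (i : X ⟶ Y)
    [SurjectiveOnStalks i] (x : X) : Function.Bijective (i.residueFieldMap x) := by
  refine ⟨(i.residueFieldMap x).hom.injective, ?_⟩
  have h1 : Function.Surjective (i.stalkMap x ≫ X.residue x) :=
    (X.residue_surjective x).comp (i.stalkMap_surjective x)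
  rw [← Scheme.residue_residueFieldMap] at h1
  have h2 : Function.Surjective (⇑(i.residueFieldMap x) ∘ ⇑(Y.residue (i x))) := h1
  exact Function.Surjective.of_comp h2

theorem bijective_residueFieldMap_comp {X Y Z : Scheme.{u}} (f : X ⟶ Y) (g : Y ⟶ Z) (x : X) :
    Function.Bijective ((f ≫ g).residueFieldMap x) ↔
      Function.Bijective (f.residueFieldMap x ∘ g.residueFieldMap (f x)) := by
  rw [Scheme.residueFieldMap_comp]
  rfl

/-- in a commutative square whose "horizontal" maps are surjective on stalks, the residue field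
extensions of the vertical maps are simultaneously trivial -/
theorem bijective_residueFieldMap_iff {P U Y X : Scheme.{u}} (a : P ⟶ Y) (i : Y ⟶ X) (j : P ⟶ U)
    (p : U ⟶ X) (w : a ≫ i = j ≫ p) [SurjectiveOnStalks i] [SurjectiveOnStalks j] (z : P) :
    Function.Bijective (a.residueFieldMap z) ↔ Function.Bijective (p.residueFieldMap (j z)) := by
  have h1 := bijective_residueFieldMap_congr w z
  rw [bijective_residueFieldMap_comp, bijective_residueFieldMap_comp] at h1
  rw [Function.Bijective.of_comp_iff _ (bijective_residueFieldMap_of_surjectiveOnStalks i (a z)),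
    Function.Bijective.of_comp_iff' (bijective_residueFieldMap_of_surjectiveOnStalks j z)] at h1
  exact h1

theorem s9755 {X S : Scheme.{u}} (f : X ⟶ S) (x : X) :
    _root_.Brnch.numBranchesAt (f.fiber (f x)) (f.asFiber x) =
      ⨆ (U : Scheme.{u}) (g : U ⟶ X) (u : U) (_ : Hens2.IsEtaleNbhd g u x),
      {Z : Set ↑((g ≫ f).fiber (f x)) | Z ∈ irreducibleComponents ↑((g ≫ f).fiber (f x)) ∧
        ∃ u' ∈ Z, (g ≫ f).fiberι (f x) u' = u}.encard := by
  apply le_antisymm
  · rw [← ENat.forall_natCast_le_iff_le]
    intro n hn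
    obtain ⟨V, g', v, hnbhd, hle⟩ := exists_nbhd_elem (f.asFiber x) n hn
    haveI := hnbhd.etale
    have hv : g' v = f.asFiber x := hnbhd.base_eq
    obtain ⟨U, p, u, m, u', hp, hpu, hm, hmg, hu', hmu'⟩ := s9727 f x g' v hv
    have key := setOf_components_fiberι (p ≫ f) (f x) u'
    rw [hu'] at key
    rw [← hmu', ← encard_components_of_isOpenImmersion m u', ← key] at hle
    have hres : Function.Bijective (p.residueFieldMap u) := by
      rw [← bijective_residueFieldMap_congr' p hu',
        ← bijective_residueFieldMap_iff (MoreMor.fiberMap p f (f x)) (f.fiberι (f x))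
          ((p ≫ f).fiberι (f x)) p (isPullback_fiberMap p f (f x)).w.symm u',
        ← bijective_residueFieldMap_congr hmg, bijective_residueFieldMap_comp]
      exact (bijective_residueFieldMap_of_surjectiveOnStalks m u').comp
        ((bijective_residueFieldMap_congr' g' hmu').2 hnbhd.residue_bijective)
    exact hle.trans (le_iSup_of_le U (le_iSup_of_le p (le_iSup_of_le u
      (le_iSup_of_le ⟨hp, hpu, hres⟩ le_rfl))))
  · refine iSup_le fun U => iSup_le fun g => iSup_le fun u => iSup_le ?_
    rintro ⟨hg, rfl, hres⟩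
    obtain ⟨u₀, hu₀⟩ : ∃ u₀ : ↑((g ≫ f).fiber (f (g u))), (g ≫ f).fiberι (f (g u)) u₀ = u :=
      exists_fiberι_eq (g ≫ f) u
    have key := setOf_components_fiberι (g ≫ f) (f (g u)) u₀
    rw [hu₀] at key
    haveI := etale_fiberMap g f (f (g u))
    have hres' : Function.Bijective ((MoreMor.fiberMap g f (f (g u))).residueFieldMap u₀) := by
      rw [bijective_residueFieldMap_iff (MoreMor.fiberMap g f (f (g u))) (f.fiberι (f (g u)))
          ((g ≫ f).fiberι (f (g u))) g (isPullback_fiberMap g f (f (g u))).w.symm u₀,
        bijective_residueFieldMap_congr' g hu₀]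
      exact hres
    show {Z : Set ↑((g ≫ f).fiber (f (g u))) | Z ∈ irreducibleComponents
      ↑((g ≫ f).fiber (f (g u))) ∧ ∃ u' ∈ Z, (g ≫ f).fiberι (f (g u)) u' = u}.encard ≤
        _root_.Brnch.numBranchesAt (f.fiber (f (g u))) (f.asFiber (g u))
    rw [key]
    exact (le_numBranchesAt (MoreMor.fiberMap g f (f (g u))) u₀ hres').trans_eq
      (by rw [fiberMap_eq_asFiber g f u u₀ hu₀])

end Groth.Agent.Helper2.FibBr
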