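import Mathlib
import Groth.Agent.Helper8.GenFree11

set_option autoImplicit false
universe u

open TensorProduct

namespace Groth.Agent.Helper2.FibEx

open Groth.Agent.Helper8.GenFree

section
variable {R : Type*} [CommRing R] {M : Type*} [AddCommGroup M] [Module R M]

/-- freeness of a localized module from `GFat`, for any submonoid containing `f` -/
theorem free_of_mem {f : R} (h : GFat R M f) (S : Submonoid R) (hfS : f ∈ S)
    (A : Type*) [CommRing A]
    [Algebra R A] [IsLocalization S A] (Mf : Type*) [AddCommGroup Mf] [Module R Mf]
    [Module A Mf] [IsScalarTower R A Mf] (φ : M →ₗ[R] Mf)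
    [IsLocalizedModule S φ] : Module.Free A Mf := by
  obtain ⟨s, hs, hsp⟩ := h
  have hli : LinearIndependent A (φ ∘ (fun x : s => (x : M))) :=
    LinearIndependent.of_isLocalizedModule A S φ hs
  have hspan : ⊤ ≤ Submodule.span A (Set.range (φ ∘ (fun x : s => (x : M)))) := by
    rintro y -
    obtain ⟨⟨m, t⟩, ht⟩ := IsLocalizedModule.surj S φ y
    obtain ⟨n, hn⟩ := hsp m
    have h1 : φ (f ^ n • m) ∈ Submodule.span A (Set.range (φ ∘ (fun x : s => (x : M)))) := by
      have h2 : Submodule.span R s ≤ ((Submodule.span A
          (Set.range (φ ∘ (fun x : s => (x : M))))).restrictScalars R).comap φ := by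
        rw [Submodule.span_le]
        intro x hx
        exact Submodule.subset_span ⟨⟨x, hx⟩, rfl⟩
      exact h2 hn
    have h3 : (algebraMap R A (f ^ n * t)) • y ∈
        Submodule.span A (Set.range (φ ∘ (fun x : s => (x : M)))) := by
      have : (algebraMap R A (f ^ n * t)) • y = φ (f ^ n • m) := by
        rw [algebraMap_smul, mul_smul, map_smul, ← ht]; rfl
      rw [this]; exact h1
    have hu : IsUnit (algebraMap R A (f ^ n * t)) := by
      rw [map_mul]
      refine IsUnit.mul ?_ (IsLocalization.map_units A t)
      exact IsLocalization.map_units A (⟨f ^ n, pow_mem hfS n⟩ : S)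
    exact (Submodule.smul_mem_iff_of_isUnit _ hu).mp h3
  exact Module.Free.of_basis (Module.Basis.mk hli hspan)

end

section
variable {R A k : Type*} [CommRing R] [CommRing A] [Algebra R A] [CommRing k] [Algebra R k]
  [Algebra A k] [IsScalarTower R A k]
  {M N : Type*} [AddCommGroup M] [Module R M] [AddCommGroup N] [Module R N]

theorem cancel_natural (φ : M →ₗ[R] N) (x : k ⊗[A] (A ⊗[R] M)) :
    TensorProduct.AlgebraTensorModule.cancelBaseChange R A k k N
      ((φ.baseChange A).lTensor k x) =
    φ.baseChange k (TensorProduct.AlgebraTensorModule.cancelBaseChange R A k k M x) := by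
  induction x using TensorProduct.induction_on with
  | zero => simp
  | tmul a y =>
    induction y using TensorProduct.induction_on with
    | zero => simp
    | tmul b m => simp
    | add y z hy hz => simp only [tmul_add, map_add, hy, hz]
  | add x y hx hy => simp only [map_add, hx, hy]

theorem baseChange_injective_of_tower (φ : M →ₗ[R] N)
    (h : Function.Injective ((φ.baseChange A).lTensor k)) :
    Function.Injective (φ.baseChange k) := by
  intro x y hxy
  let eM := TensorProduct.AlgebraTensorModule.cancelBaseChange R A k k M
  let eN := TensorProduct.AlgebraTensorModule.cancelBaseChange R A k k N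
  have hx := cancel_natural (A := A) (k := k) φ (eM.symm x)
  have hy := cancel_natural (A := A) (k := k) φ (eM.symm y)
  rw [LinearEquiv.apply_symm_apply] at hx hy
  have : eN ((φ.baseChange A).lTensor k (eM.symm x)) = eN ((φ.baseChange A).lTensor k (eM.symm y)) := by
    rw [hx, hy, hxy]
  have h2 := h (eN.injective this)
  exact eM.symm.injective h2

end

end Groth.Agent.Helper2.FibEx
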