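import Mathlib
import Groth.Agent.Helper2.FibEx1

set_option autoImplicit false
universe u

open TensorProduct

namespace Groth.Agent.Helper2.FibEx

open Groth.Agent.Helper8.GenFree

section
variable {R A k : Type*} [CommRing R] [CommRing A] [Algebra R A] [CommRing k] [Algebra R k]
  [Algebra A k] [IsScalarTower R A k]
  {F G H : Type*} [AddCommGroup F] [Module R F] [AddCommGroup G] [Module R G]
  [AddCommGroup H] [Module R H]

theorem exact_baseChange_of_flat_coker (u : F →ₗ[R] G) (v : G →ₗ[R] H)
    (hle : LinearMap.range u ≤ LinearMap.ker v)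
    (hinj : Function.Injective (((LinearMap.range u).liftQ v hle).baseChange A))
    [Module.Flat A (A ⊗[R] (H ⧸ LinearMap.range v))] :
    Function.Exact (u.baseChange k) (v.baseChange k) := by
  set P := LinearMap.range u with hP
  set π := P.mkQ with hπ
  set w := P.liftQ v hle with hw
  set ρ := (LinearMap.range v).mkQ with hρ
  have hρs : Function.Surjective ρ := Submodule.mkQ_surjective _
  have hπs : Function.Surjective π := Submodule.mkQ_surjective _
  have hex1 : Function.Exact w ρ := by
    rw [LinearMap.exact_iff, hρ, Submodule.ker_mkQ, hw, Submodule.range_liftQ]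
  have hex1A : Function.Exact (w.baseChange A) (ρ.baseChange A) := by
    have := lTensor_exact A hex1 hρs
    simpa [LinearMap.baseChange_eq_ltensor] using this
  have hsurjA : Function.Surjective (ρ.baseChange A) := by
    have := LinearMap.lTensor_surjective A hρs
    simpa [LinearMap.baseChange_eq_ltensor] using this
  have inj_k : Function.Injective ((w.baseChange A).lTensor k) :=
    LinearMap.lTensor_injective_of_exact_of_flat (ρ.baseChange A) hsurjA (w.baseChange A) hinj
      hex1A k
  have inj_k' : Function.Injective (w.baseChange k) := baseChange_injective_of_tower w inj_k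
  have hex2 : Function.Exact u π := by
    rw [LinearMap.exact_iff, hπ, Submodule.ker_mkQ]
  have hex2k : Function.Exact (u.baseChange k) (π.baseChange k) := by
    have := lTensor_exact k hex2 hπs
    simpa [LinearMap.baseChange_eq_ltensor] using this
  have hv : v = w ∘ₗ π := by
    rw [hw, hπ, Submodule.liftQ_mkQ]
  have hvk : (v.baseChange k : k ⊗[R] G → k ⊗[R] H) = (w.baseChange k) ∘ (π.baseChange k) := by
    rw [hv, LinearMap.baseChange_comp]; rfl
  rw [hvk]
  exact hex2k.comp_injective _ inj_k' (map_zero _)

end

section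
variable {R : Type*} [CommRing R] (S : Submonoid R) (A : Type*) [CommRing A] [Algebra R A]
  [IsLocalization S A]
  {C H : Type*} [AddCommGroup C] [Module R C] [AddCommGroup H] [Module R H]

theorem baseChange_injective_of_torsion_ker (w : C →ₗ[R] H)
    (hw : ∀ c, w c = 0 → ∃ s : S, s • c = 0) :
    Function.Injective (w.baseChange A) := by
  rw [← LinearMap.ker_eq_bot, LinearMap.ker_eq_bot']
  intro x hx
  obtain ⟨⟨c, s⟩, hs⟩ := IsLocalizedModule.surj S (TensorProduct.mk R A C 1) x
  simp only [TensorProduct.mk_apply] at hs
  have h1 : (w.baseChange A) ((1 : A) ⊗ₜ[R] c) = 0 := by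
    rw [← hs, Submonoid.smul_def, ← algebraMap_smul A (s : R) x, map_smul, hx, smul_zero]
  rw [LinearMap.baseChange_tmul] at h1
  obtain ⟨t, ht⟩ := (IsLocalizedModule.eq_zero_iff S (TensorProduct.mk R A H 1) (m := w c)).mp h1
  have h2 : w ((t : R) • c) = 0 := by rw [map_smul]; exact ht
  obtain ⟨s', hs'⟩ := hw _ h2
  have h3 : (1 : A) ⊗ₜ[R] c = 0 := by
    refine (IsLocalizedModule.eq_zero_iff S (TensorProduct.mk R A C 1) (m := c)).mpr ⟨s' * t, ?_⟩
    rw [Submonoid.smul_def, Submonoid.coe_mul, mul_smul]; exact hs'
  rw [h3] at hs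
  have hu : IsUnit (algebraMap R A (s : R)) := IsLocalization.map_units A s
  have h4 : algebraMap R A (s : R) • x = 0 := by rw [algebraMap_smul]; exact hs
  exact (hu.smul_eq_zero).mp h4

end

end Groth.Agent.Helper2.FibEx
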