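import Mathlib
import Groth.Agent.Helper2.FibEx2

set_option autoImplicit false
universe u

open TensorProduct

namespace Groth.Agent.Helper2.FibEx

open Groth.Agent.Helper8.GenFree

section
variable {R B : Type u} [CommRing R] [IsDomain R] [CommRing B] [Algebra R B]
  {F G H : Type u} [AddCommGroup F] [Module B F] [Module R F] [IsScalarTower R B F]
  [AddCommGroup G] [Module B G] [Module R G] [IsScalarTower R B G]
  [AddCommGroup H] [Module B H] [Module R H] [IsScalarTower R B H]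

local notation "K" => FractionRing R

/-- kernel of `M → K ⊗ M` is torsion -/
theorem exists_smul_eq_zero_of_one_tmul_eq_zero {M : Type*} [AddCommGroup M] [Module R M] (z : M)
    (hz : (1 : K) ⊗ₜ[R] z = 0) :
    ∃ r : R, r ≠ 0 ∧ r • z = 0 := by
  have h := (IsLocalizedModule.eq_zero_iff (nonZeroDivisors R)
    (TensorProduct.mk R K M 1) (m := z)).mp hz
  obtain ⟨c, hc⟩ := h
  exact ⟨c, nonZeroDivisors.ne_zero c.2, hc⟩

/-- generic exactness: elements of the kernel are torsion modulo the image -/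
theorem exists_smul_mem_range (u : F →ₗ[R] G) (v : G →ₗ[R] H)
    (hgen : Function.Exact (u.baseChange K) (v.baseChange K)) (g : G) (hg : v g = 0) :
    ∃ r : R, r ≠ 0 ∧ r • g ∈ LinearMap.range u := by
  have h1 : (v.baseChange K) ((1 : K) ⊗ₜ[R] g) = 0 := by
    rw [LinearMap.baseChange_tmul, hg, tmul_zero]
  obtain ⟨y, hy⟩ := (hgen _).mp h1
  obtain ⟨⟨x, s⟩, hs⟩ := IsLocalizedModule.surj (nonZeroDivisors R) (TensorProduct.mk R K F 1) y
  simp only [TensorProduct.mk_apply] at hs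
  have h2 : (1 : K) ⊗ₜ[R] ((s : R) • g - u x) = 0 := by
    rw [tmul_sub, ← LinearMap.baseChange_tmul, ← hs, Submonoid.smul_def,
      LinearMap.map_smul_of_tower, hy, TensorProduct.tmul_smul, sub_self]
  obtain ⟨t, ht, h3⟩ := exists_smul_eq_zero_of_one_tmul_eq_zero _ h2
  refine ⟨t * s, mul_ne_zero ht (nonZeroDivisors.ne_zero s.2), ⟨t • x, ?_⟩⟩
  rw [smul_sub, sub_eq_zero] at h3
  rw [map_smul, ← h3, mul_smul]

theorem main_of_comp_eq_zero [Algebra.FiniteType R B] [Module.Finite B G] [Module.Finite B H]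
    (u : F →ₗ[B] G) (v : G →ₗ[B] H) (hvu : v ∘ₗ u = 0)
    (hgen : Function.Exact ((u.restrictScalars R).baseChange K)
      ((v.restrictScalars R).baseChange K)) :
    ∃ f : R, f ≠ 0 ∧ ∀ p : PrimeSpectrum R, f ∉ p.asIdeal →
      Function.Exact ((u.restrictScalars R).baseChange p.asIdeal.ResidueField)
        ((v.restrictScalars R).baseChange p.asIdeal.ResidueField) := by
  obtain ⟨f₂, hf₂, h₂⟩ := genericFreeness R B (G ⧸ LinearMap.range u)
  obtain ⟨f₃, hf₃, h₃⟩ := genericFreeness R B (H ⧸ LinearMap.range v)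
  set uR := u.restrictScalars R with huR
  set vR := v.restrictScalars R with hvR
  have e₂ : (G ⧸ LinearMap.range u) ≃ₗ[R] (G ⧸ LinearMap.range uR) :=
    (Submodule.Quotient.restrictScalarsEquiv R (LinearMap.range u)).symm ≪≫ₗ
      Submodule.quotEquivOfEq _ _ (by ext; simp [huR])
  have e₃ : (H ⧸ LinearMap.range v) ≃ₗ[R] (H ⧸ LinearMap.range vR) :=
    (Submodule.Quotient.restrictScalarsEquiv R (LinearMap.range v)).symm ≪≫ₗ
      Submodule.quotEquivOfEq _ _ (by ext; simp [hvR])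
  have h₂' : GFat R (G ⧸ LinearMap.range uR) f₂ := GFat.of_linearEquiv e₂ h₂
  have h₃' : GFat R (H ⧸ LinearMap.range vR) f₃ := GFat.of_linearEquiv e₃ h₃
  have hle : LinearMap.range uR ≤ LinearMap.ker vR := by
    rintro _ ⟨x, rfl⟩
    rw [LinearMap.mem_ker]
    exact LinearMap.congr_fun hvu x
  refine ⟨f₂ * f₃, mul_ne_zero hf₂ hf₃, fun p hp => ?_⟩
  have hp₂ : f₂ ∈ p.asIdeal.primeCompl := fun h => hp (Ideal.mul_mem_right _ _ h)
  have hp₃ : f₃ ∈ p.asIdeal.primeCompl := fun h => hp (Ideal.mul_mem_left _ _ h)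
  haveI : Module.Free (Localization.AtPrime p.asIdeal)
      (Localization.AtPrime p.asIdeal ⊗[R] (H ⧸ LinearMap.range vR)) :=
    free_of_mem h₃' p.asIdeal.primeCompl hp₃ (Localization.AtPrime p.asIdeal) _
      (TensorProduct.mk R (Localization.AtPrime p.asIdeal) (H ⧸ LinearMap.range vR) 1)
  refine exact_baseChange_of_flat_coker (A := Localization.AtPrime p.asIdeal) uR vR hle ?_
  refine baseChange_injective_of_torsion_ker p.asIdeal.primeCompl _ _ ?_
  intro c hc
  obtain ⟨g, rfl⟩ := Submodule.mkQ_surjective _ c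
  have hg : vR g = 0 := by simpa using hc
  obtain ⟨r, hr, hrg⟩ := exists_smul_mem_range uR vR hgen g hg
  have h4 : r • (LinearMap.range uR).mkQ g = 0 := by
    rw [← map_smul, Submodule.mkQ_apply, Submodule.Quotient.mk_eq_zero]; exact hrg
  obtain ⟨n, hn⟩ := h₂'.pow_smul_eq_zero _ r hr h4
  exact ⟨⟨f₂ ^ n, pow_mem hp₂ n⟩, hn⟩

end

end Groth.Agent.Helper2.FibEx
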