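import Mathlib
import Groth.Agent.Helper2.FibEx3

set_option autoImplicit false
universe u

open TensorProduct

namespace Groth.Agent.Helper2.FibEx

open Groth.Agent.Helper8.GenFree

section
variable {R B : Type u} [CommRing R] [IsDomain R] [CommRing B] [Algebra R B]
  {F G H : Type u} [AddCommGroup F] [Module B F] [Module R F] [IsScalarTower R B F]
  [AddCommGroup G] [Module B G] [Module R G] [IsScalarTower R B G]
  [AddCommGroup H] [Module B H] [Module R H] [IsScalarTower R B H]

local notation "K" => FractionRing R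

theorem exists_smul_comp_eq_zero [Module.Finite B F] (u : F →ₗ[B] G) (v : G →ₗ[B] H)
    (hgen : Function.Exact ((u.restrictScalars R).baseChange K)
      ((v.restrictScalars R).baseChange K)) :
    ∃ f₁ : R, f₁ ≠ 0 ∧ ∀ x, f₁ • v (u x) = 0 := by
  classical
  obtain ⟨s, hs⟩ := Module.Finite.fg_top (R := B) (M := F)
  have h1 : ∀ x : F, ∃ r : R, r ≠ 0 ∧ r • v (u x) = 0 := by
    intro x
    refine exists_smul_eq_zero_of_one_tmul_eq_zero _ ?_
    have := hgen.apply_apply_eq_zero ((1 : K) ⊗ₜ[R] x)
    simpa using this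
  choose r hr hr' using h1
  refine ⟨∏ x ∈ s, r x, Finset.prod_ne_zero_iff.mpr (fun x _ => hr x), ?_⟩
  have h2 : (algebraMap R B (∏ x ∈ s, r x)) • (v ∘ₗ u) = 0 := by
    refine LinearMap.ext_on hs ?_
    intro x hx
    obtain ⟨c, hc⟩ := Finset.dvd_prod_of_mem r hx
    rw [LinearMap.smul_apply, LinearMap.comp_apply, algebraMap_smul, hc, mul_comm, mul_smul, hr',
      smul_zero, LinearMap.zero_apply]
  intro x
  have := LinearMap.congr_fun h2 x
  rw [LinearMap.smul_apply, LinearMap.comp_apply, algebraMap_smul] at this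
  simpa using this

omit [IsDomain R] in
theorem range_baseChange_smul (u : F →ₗ[B] G) (f₁ : R) (k : Type*) [Field k] [Algebra R k]
    (hk : algebraMap R k f₁ ≠ 0) :
    LinearMap.range ((((algebraMap R B f₁) • u).restrictScalars R).baseChange k) =
      LinearMap.range ((u.restrictScalars R).baseChange k) := by
  have h1 : ((algebraMap R B f₁) • u).restrictScalars R = f₁ • u.restrictScalars R := by
    ext x; simp [algebraMap_smul]
  have h2 : (f₁ • u.restrictScalars R).baseChange k =
      (algebraMap R k f₁) • (u.restrictScalars R).baseChange k := by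
    rw [LinearMap.baseChange_smul]
    ext x
    simp [algebraMap_smul]
  rw [h1, h2, LinearMap.range_smul _ _ hk]

theorem s4801 [Algebra.FiniteType R B] [Module.Finite B F] [Module.Finite B G] [Module.Finite B H]
    (u : F →ₗ[B] G) (v : G →ₗ[B] H)
    (hgen : Function.Exact ((u.restrictScalars R).baseChange K)
      ((v.restrictScalars R).baseChange K)) :
    ∃ f : R, f ≠ 0 ∧ ∀ p : PrimeSpectrum R, f ∉ p.asIdeal →
      Function.Exact ((u.restrictScalars R).baseChange p.asIdeal.ResidueField)
        ((v.restrictScalars R).baseChange p.asIdeal.ResidueField) := by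
  obtain ⟨f₁, hf₁, h1⟩ := exists_smul_comp_eq_zero u v hgen
  set u' := (algebraMap R B f₁) • u with hu'
  have hvu' : v ∘ₗ u' = 0 := by
    ext x
    rw [LinearMap.comp_apply, hu', LinearMap.smul_apply, map_smul, algebraMap_smul]
    exact h1 x
  have hK : algebraMap R K f₁ ≠ 0 := by
    rw [Ne, map_eq_zero_iff _ (IsFractionRing.injective R K)]; exact hf₁
  have hgen' : Function.Exact ((u'.restrictScalars R).baseChange K)
      ((v.restrictScalars R).baseChange K) := by
    rw [LinearMap.exact_iff] at hgen ⊢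
    rw [hgen, hu', range_baseChange_smul u f₁ K hK]
  obtain ⟨f, hf, h⟩ := main_of_comp_eq_zero u' v hvu' hgen'
  refine ⟨f₁ * f, mul_ne_zero hf₁ hf, fun p hp => ?_⟩
  have hp₁ : f₁ ∉ p.asIdeal := fun h => hp (Ideal.mul_mem_right _ _ h)
  have hp₂ : f ∉ p.asIdeal := fun h => hp (Ideal.mul_mem_left _ _ h)
  have hk : algebraMap R p.asIdeal.ResidueField f₁ ≠ 0 := by
    rw [Ne, Ideal.algebraMap_residueField_eq_zero]; exact hp₁
  have := h p hp₂
  rw [LinearMap.exact_iff] at this ⊢
  rw [this, hu', range_baseChange_smul u f₁ _ hk]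

end

end Groth.Agent.Helper2.FibEx
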