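import Mathlib
import Groth.Agent.Helper2.FibEx4

set_option autoImplicit false
universe u

open TensorProduct

namespace Groth.Agent.Helper2.FibExC

open Groth.Agent.Helper2.FibEx

/-- fibre-exactness locus of a pair of composable linear maps -/
def EL {R : Type*} [CommRing R] {F G H : Type*} [AddCommGroup F] [Module R F]
    [AddCommGroup G] [Module R G] [AddCommGroup H] [Module R H]
    (u : F →ₗ[R] G) (v : G →ₗ[R] H) : Set (PrimeSpectrum R) :=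
  {p | Function.Exact (u.baseChange p.asIdeal.ResidueField)
    (v.baseChange p.asIdeal.ResidueField)}

section StepA
variable {R₀ R k : Type*} [CommRing R₀] [CommRing R] [Algebra R₀ R] [CommRing k] [Algebra R k]
  [Algebra R₀ k] [IsScalarTower R₀ R k]
  {F₀ G₀ H₀ F G H : Type*} [AddCommGroup F₀] [Module R₀ F₀] [AddCommGroup G₀] [Module R₀ G₀]
  [AddCommGroup H₀] [Module R₀ H₀]
  [AddCommGroup F] [Module R F] [Module R₀ F] [IsScalarTower R₀ R F]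
  [AddCommGroup G] [Module R G] [Module R₀ G] [IsScalarTower R₀ R G]
  [AddCommGroup H] [Module R H] [Module R₀ H] [IsScalarTower R₀ R H]

/-- the comparison iso `k ⊗_{R₀} F₀ ≃ k ⊗_R F` for a base change `F₀ → F` -/
noncomputable def bcEquiv {α : F₀ →ₗ[R₀] F} (hα : IsBaseChange R α) :
    k ⊗[R₀] F₀ ≃ₗ[k] k ⊗[R] F :=
  (hα.comp (TensorProduct.isBaseChange R F k)).equiv

theorem bcEquiv_tmul {α : F₀ →ₗ[R₀] F} (hα : IsBaseChange R α) (a : k) (x : F₀) :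
    bcEquiv (k := k) hα (a ⊗ₜ x) = a ⊗ₜ α x := by
  rw [bcEquiv, IsBaseChange.equiv_tmul]
  simp [TensorProduct.smul_tmul']

theorem bcEquiv_natural {α : F₀ →ₗ[R₀] F} {β : G₀ →ₗ[R₀] G}
    (hα : IsBaseChange R α) (hβ : IsBaseChange R β)
    (u₀ : F₀ →ₗ[R₀] G₀) (u : F →ₗ[R] G) (hu : ∀ x, u (α x) = β (u₀ x)) :
    (u.baseChange k) ∘ₗ (bcEquiv (k := k) hα).toLinearMap =
      (bcEquiv (k := k) hβ).toLinearMap ∘ₗ (u₀.baseChange k) := by
  ext x
  simp [bcEquiv_tmul, hu]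

theorem exact_baseChange_iff_of_isBaseChange {α : F₀ →ₗ[R₀] F} {β : G₀ →ₗ[R₀] G}
    {γ : H₀ →ₗ[R₀] H}
    (hα : IsBaseChange R α) (hβ : IsBaseChange R β) (hγ : IsBaseChange R γ)
    (u₀ : F₀ →ₗ[R₀] G₀) (v₀ : G₀ →ₗ[R₀] H₀) (u : F →ₗ[R] G) (v : G →ₗ[R] H)
    (hu : ∀ x, u (α x) = β (u₀ x)) (hv : ∀ y, v (β y) = γ (v₀ y)) :
    Function.Exact (u.baseChange k) (v.baseChange k) ↔
      Function.Exact (u₀.baseChange k) (v₀.baseChange k) :=
  Function.Exact.iff_of_ladder_linearEquiv (bcEquiv_natural (k := k) hα hβ u₀ u hu)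
    (bcEquiv_natural (k := k) hβ hγ v₀ v hv)

end StepA

section StepB
variable {R₀ k₀ k : Type*} [CommRing R₀] [Field k₀] [Field k] [Algebra R₀ k₀] [Algebra R₀ k]
  [Algebra k₀ k] [IsScalarTower R₀ k₀ k]
  {F₀ G₀ H₀ : Type*} [AddCommGroup F₀] [Module R₀ F₀] [AddCommGroup G₀] [Module R₀ G₀]
  [AddCommGroup H₀] [Module R₀ H₀]

theorem exact_baseChange_field_ext (u₀ : F₀ →ₗ[R₀] G₀) (v₀ : G₀ →ₗ[R₀] H₀) :
    Function.Exact (u₀.baseChange k) (v₀.baseChange k) ↔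
      Function.Exact (u₀.baseChange k₀) (v₀.baseChange k₀) := by
  rw [← Module.FaithfullyFlat.lTensor_exact_iff_exact k₀ k (u₀.baseChange k₀) (v₀.baseChange k₀)]
  refine Function.Exact.iff_of_ladder_linearEquiv
    (e₁ := (TensorProduct.AlgebraTensorModule.cancelBaseChange R₀ k₀ k k F₀).restrictScalars k₀)
    (e₂ := (TensorProduct.AlgebraTensorModule.cancelBaseChange R₀ k₀ k k G₀).restrictScalars k₀)
    (e₃ := (TensorProduct.AlgebraTensorModule.cancelBaseChange R₀ k₀ k k H₀).restrictScalars k₀)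
    (g₁₂ := (u₀.baseChange k).restrictScalars k₀) (g₂₃ := (v₀.baseChange k).restrictScalars k₀)
    ?_ ?_
  · exact LinearMap.ext fun x => (cancel_natural (A := k₀) (k := k) u₀ x).symm
  · exact LinearMap.ext fun x => (cancel_natural (A := k₀) (k := k) v₀ x).symm

end StepB

section Prime
variable {R₀ R : Type*} [CommRing R₀] [CommRing R] [Algebra R₀ R]
  {F₀ G₀ H₀ F G H : Type*} [AddCommGroup F₀] [Module R₀ F₀] [AddCommGroup G₀] [Module R₀ G₀]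
  [AddCommGroup H₀] [Module R₀ H₀]
  [AddCommGroup F] [Module R F] [Module R₀ F] [IsScalarTower R₀ R F]
  [AddCommGroup G] [Module R G] [Module R₀ G] [IsScalarTower R₀ R G]
  [AddCommGroup H] [Module R H] [Module R₀ H] [IsScalarTower R₀ R H]

theorem mem_EL_iff_of_isBaseChange {α : F₀ →ₗ[R₀] F} {β : G₀ →ₗ[R₀] G}
    {γ : H₀ →ₗ[R₀] H}
    (hα : IsBaseChange R α) (hβ : IsBaseChange R β) (hγ : IsBaseChange R γ)
    (u₀ : F₀ →ₗ[R₀] G₀) (v₀ : G₀ →ₗ[R₀] H₀) (u : F →ₗ[R] G) (v : G →ₗ[R] H)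
    (hu : ∀ x, u (α x) = β (u₀ x)) (hv : ∀ y, v (β y) = γ (v₀ y)) (p : PrimeSpectrum R) :
    p ∈ EL u v ↔ PrimeSpectrum.comap (algebraMap R₀ R) p ∈ EL u₀ v₀ := by
  set p₀ := PrimeSpectrum.comap (algebraMap R₀ R) p with hp₀
  let φ : p₀.asIdeal.ResidueField →ₐ[R₀] p.asIdeal.ResidueField :=
    Ideal.ResidueField.mapₐ p₀.asIdeal p.asIdeal (Algebra.ofId R₀ R) rfl
  letI : Algebra p₀.asIdeal.ResidueField p.asIdeal.ResidueField := φ.toRingHom.toAlgebra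
  haveI : IsScalarTower R₀ p₀.asIdeal.ResidueField p.asIdeal.ResidueField :=
    IsScalarTower.of_algHom φ
  show Function.Exact _ _ ↔ Function.Exact _ _
  rw [exact_baseChange_iff_of_isBaseChange (k := p.asIdeal.ResidueField) hα hβ hγ u₀ v₀ u v hu hv]
  exact exact_baseChange_field_ext u₀ v₀

theorem EL_eq_preimage_of_isBaseChange {α : F₀ →ₗ[R₀] F} {β : G₀ →ₗ[R₀] G}
    {γ : H₀ →ₗ[R₀] H}
    (hα : IsBaseChange R α) (hβ : IsBaseChange R β) (hγ : IsBaseChange R γ)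
    (u₀ : F₀ →ₗ[R₀] G₀) (v₀ : G₀ →ₗ[R₀] H₀) (u : F →ₗ[R] G) (v : G →ₗ[R] H)
    (hu : ∀ x, u (α x) = β (u₀ x)) (hv : ∀ y, v (β y) = γ (v₀ y)) :
    EL u v = PrimeSpectrum.comap (algebraMap R₀ R) ⁻¹' EL u₀ v₀ := by
  ext p
  exact mem_EL_iff_of_isBaseChange hα hβ hγ u₀ v₀ u v hu hv p

end Prime

end Groth.Agent.Helper2.FibExC
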