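import Mathlib
import Groth.Agent.Helper2.FibExC1

set_option autoImplicit false
universe u

open TensorProduct

namespace Groth.Agent.Helper2.FibExC

open Groth.Agent.Helper2.FibEx Groth.Agent.Helper8.GenFree

section Basis
variable {R : Type*} [CommRing R] {M : Type*} [AddCommGroup M] [Module R M]

/-- basis of a localized module from the data of `GFat` -/
noncomputable def basisOfMem {f : R} (s : Set M) (hs : LinearIndepOn R id s)
    (hsp : ∀ m : M, ∃ n : ℕ, f ^ n • m ∈ Submodule.span R s)
    (S : Submonoid R) (hfS : f ∈ S)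
    (A : Type*) [CommRing A]
    [Algebra R A] [IsLocalization S A] (Mf : Type*) [AddCommGroup Mf] [Module R Mf]
    [Module A Mf] [IsScalarTower R A Mf] (φ : M →ₗ[R] Mf)
    [IsLocalizedModule S φ] : Module.Basis s A Mf := by
  have hli : LinearIndependent A (φ ∘ (fun x : s => (x : M))) :=
    LinearIndependent.of_isLocalizedModule A S φ hs
  have hspan : ⊤ ≤ Submodule.span A (Set.range (φ ∘ (fun x : s => (x : M)))) := by
    rintro y -
    obtain ⟨⟨m, t⟩, ht⟩ := IsLocalizedModule.surj S φ y
    obtain ⟨n, hn⟩ := hsp m
    have h1 : φ (f ^ n • m) ∈ Submodule.span A (Set.range (φ ∘ (fun x : s => (x : M)))) := by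
      have h2 : Submodule.span R s ≤ ((Submodule.span A
          (Set.range (φ ∘ (fun x : s => (x : M))))).restrictScalars R).comap φ := by
        rw [Submodule.span_le]
        intro x hx
        exact Submodule.subset_span ⟨⟨x, hx⟩, rfl⟩
      exact h2 hn
    have h3 : (algebraMap R A (f ^ n * t)) • y ∈
        Submodule.span A (Set.range (φ ∘ (fun x : s => (x : M)))) := by
      have : (algebraMap R A (f ^ n * t)) • y = φ (f ^ n • m) := by
        rw [algebraMap_smul, mul_smul, map_smul, ← ht]; rfl
      rw [this]; exact h1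
    have hu : IsUnit (algebraMap R A (f ^ n * t)) := by
      rw [map_mul]
      refine IsUnit.mul ?_ (IsLocalization.map_units A t)
      exact IsLocalization.map_units A (⟨f ^ n, pow_mem hfS n⟩ : S)
    exact (Submodule.smul_mem_iff_of_isUnit _ hu).mp h3
  exact Module.Basis.mk hli hspan

/-- if every element is killed by a power of `f` and `f` is invertible in `k`, then `k ⊗ M = 0` -/
theorem subsingleton_tensor_of_pow_torsion {f : R} (hM : ∀ m : M, ∃ n : ℕ, f ^ n • m = 0)
    (k : Type*) [CommRing k] [Algebra R k] (hf : IsUnit (algebraMap R k f)) :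
    Subsingleton (k ⊗[R] M) := by
  refine subsingleton_of_forall_eq 0 fun x => ?_
  induction x using TensorProduct.induction_on with
  | zero => rfl
  | tmul a m =>
    obtain ⟨n, hn⟩ := hM m
    obtain ⟨c, hc⟩ := (hf.pow n).exists_right_inv
    have : a = (f ^ n) • (a * c) := by
      rw [Algebra.smul_def, map_pow, mul_comm a c, ← mul_assoc, hc, one_mul]
    rw [this, TensorProduct.smul_tmul, hn, tmul_zero]
  | add x y hx hy => rw [hx, hy, add_zero]

/-- nonempty basis set: the fibre over any nontrivial algebra over the localization is nonzero -/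
theorem nontrivial_tensor_of_basis {f : R} (s : Set M) (hs : LinearIndepOn R id s)
    (hsp : ∀ m : M, ∃ n : ℕ, f ^ n • m ∈ Submodule.span R s) (hne : s.Nonempty)
    (S : Submonoid R) (hfS : f ∈ S)
    (A : Type*) [CommRing A] [Algebra R A] [IsLocalization S A]
    (k : Type*) [CommRing k] [Nontrivial k] [Algebra R k] [Algebra A k] [IsScalarTower R A k] :
    Nontrivial (k ⊗[R] M) := by
  let b : Module.Basis s A (A ⊗[R] M) :=
    basisOfMem s hs hsp S hfS A (A ⊗[R] M) (TensorProduct.mk R A M 1)
  let b' : Module.Basis s k (k ⊗[A] (A ⊗[R] M)) := Module.Basis.baseChange k b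
  obtain ⟨x, hx⟩ := hne
  have h1 : b' ⟨x, hx⟩ ≠ 0 := b'.ne_zero _
  let e := TensorProduct.AlgebraTensorModule.cancelBaseChange R A k k M
  have h2 : e (b' ⟨x, hx⟩) ≠ 0 := fun h => h1 (e.map_eq_zero_iff.mp h)
  exact ⟨⟨_, 0, h2⟩⟩

end Basis

section Dom
variable {R : Type*} [CommRing R] [IsDomain R] {N : Type*} [AddCommGroup N] [Module R N]

local notation "K" => FractionRing R

theorem nontrivial_fibre_of_generic {f : R} (hf : f ≠ 0) (h : GFat R N f)
    (hK : Nontrivial (K ⊗[R] N)) (p : PrimeSpectrum R) (hp : f ∉ p.asIdeal) :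
    Nontrivial (p.asIdeal.ResidueField ⊗[R] N) := by
  obtain ⟨s, hs, hsp⟩ := h
  by_cases hne : s.Nonempty
  · exact nontrivial_tensor_of_basis s hs hsp hne p.asIdeal.primeCompl hp
      (Localization.AtPrime p.asIdeal) p.asIdeal.ResidueField
  · exfalso
    rw [Set.not_nonempty_iff_eq_empty] at hne
    subst hne
    have hM : ∀ m : N, ∃ n : ℕ, f ^ n • m = 0 := by
      intro m
      obtain ⟨n, hn⟩ := hsp m
      refine ⟨n, ?_⟩
      simpa using hn
    have hu : IsUnit (algebraMap R K f) := by
      rw [isUnit_iff_ne_zero, Ne, map_eq_zero_iff _ (IsFractionRing.injective R K)]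
      exact hf
    have := subsingleton_tensor_of_pow_torsion hM K hu
    exact not_subsingleton _ this

end Dom

section Inj
variable {R : Type*} [CommRing R] {M' M M'' : Type*} [AddCommGroup M'] [Module R M']
  [AddCommGroup M] [Module R M] [AddCommGroup M''] [Module R M'']

theorem baseChange_injective_of_gfat (ι : M' →ₗ[R] M) (π : M →ₗ[R] M'')
    (hι : Function.Injective ι) (hπ : Function.Surjective π) (hex : Function.Exact ι π)
    {f : R} (h : GFat R M'' f) (p : PrimeSpectrum R) (hp : f ∉ p.asIdeal) :
    Function.Injective (ι.baseChange p.asIdeal.ResidueField) := by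
  set A := Localization.AtPrime p.asIdeal with hA
  haveI : Module.Free A (A ⊗[R] M'') :=
    free_of_mem h p.asIdeal.primeCompl hp A _ (TensorProduct.mk R A M'' 1)
  have hinjA : Function.Injective (ι.baseChange A) := by
    have := Module.Flat.lTensor_preserves_injective_linearMap (M := A) ι hι
    simpa [LinearMap.baseChange_eq_ltensor] using this
  have hexA : Function.Exact (ι.baseChange A) (π.baseChange A) := by
    have := lTensor_exact A hex hπ
    simpa [LinearMap.baseChange_eq_ltensor] using this
  have hsurjA : Function.Surjective (π.baseChange A) := by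
    have := LinearMap.lTensor_surjective A hπ
    simpa [LinearMap.baseChange_eq_ltensor] using this
  have inj_k : Function.Injective ((ι.baseChange A).lTensor p.asIdeal.ResidueField) :=
    LinearMap.lTensor_injective_of_exact_of_flat (π.baseChange A) hsurjA (ι.baseChange A) hinjA
      hexA _
  exact baseChange_injective_of_tower ι inj_k

end Inj

end Groth.Agent.Helper2.FibExC
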