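import Mathlib
import Groth.Agent.Helper2.FibExC2

set_option autoImplicit false
universe u

open TensorProduct

namespace Groth.Agent.Helper2.FibExC

open Groth.Agent.Helper2.FibEx Groth.Agent.Helper8.GenFree

section
variable {R B : Type u} [CommRing R] [IsDomain R] [CommRing B] [Algebra R B]
  {F G H : Type u} [AddCommGroup F] [Module B F] [Module R F] [IsScalarTower R B F]
  [AddCommGroup G] [Module B G] [Module R G] [IsScalarTower R B G]
  [AddCommGroup H] [Module B H] [Module R H] [IsScalarTower R B H]

local notation "K" => FractionRing R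

theorem exists_smul_eq_zero_of_baseChange_eq_zero [Module.Finite B F] (D : F →ₗ[B] H)
    (hD : (D.restrictScalars R).baseChange K = 0) :
    ∃ f₁ : R, f₁ ≠ 0 ∧ ∀ x, f₁ • D x = 0 := by
  classical
  obtain ⟨s, hs⟩ := Module.Finite.fg_top (R := B) (M := F)
  have h1 : ∀ x : F, ∃ r : R, r ≠ 0 ∧ r • D x = 0 := by
    intro x
    refine exists_smul_eq_zero_of_one_tmul_eq_zero _ ?_
    have := LinearMap.congr_fun hD ((1 : K) ⊗ₜ[R] x)
    simpa using this
  choose r hr hr' using h1
  refine ⟨∏ x ∈ s, r x, Finset.prod_ne_zero_iff.mpr (fun x _ => hr x), ?_⟩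
  have h2 : (algebraMap R B (∏ x ∈ s, r x)) • D = 0 := by
    refine LinearMap.ext_on hs ?_
    intro x hx
    obtain ⟨c, hc⟩ := Finset.dvd_prod_of_mem r hx
    rw [LinearMap.smul_apply, algebraMap_smul, hc, mul_comm, mul_smul, hr',
      smul_zero, LinearMap.zero_apply]
  intro x
  have := LinearMap.congr_fun h2 x
  rw [LinearMap.smul_apply, algebraMap_smul] at this
  simpa using this

/-- B1: a generically nonzero map is nonzero on all fibres over a dense open -/
theorem exists_forall_baseChange_ne_zero [Algebra.FiniteType R B] [Module.Finite B F]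
    [Module.Finite B H] (D : F →ₗ[B] H)
    (hD : (D.restrictScalars R).baseChange K ≠ 0) :
    ∃ f : R, f ≠ 0 ∧ ∀ p : PrimeSpectrum R, f ∉ p.asIdeal →
      (D.restrictScalars R).baseChange p.asIdeal.ResidueField ≠ 0 := by
  set W := LinearMap.range D with hW
  obtain ⟨f₁, hf₁, h₁⟩ := genericFreeness R B W
  obtain ⟨f₂, hf₂, h₂⟩ := genericFreeness R B (H ⧸ W)
  set D' : F →ₗ[R] W := D.rangeRestrict.restrictScalars R with hD'
  set ιW : W →ₗ[R] H := W.subtype.restrictScalars R with hιW
  have hfac : D.restrictScalars R = ιW ∘ₗ D' := by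
    ext x; rfl
  have hD's : Function.Surjective D' := D.surjective_rangeRestrict
  -- generic fibre of W is nonzero
  have hKW : Nontrivial (K ⊗[R] W) := by
    by_contra hcon
    rw [not_nontrivial_iff_subsingleton] at hcon
    apply hD
    rw [hfac, LinearMap.baseChange_comp]
    ext x
    simp only [AlgebraTensorModule.curry_apply, LinearMap.restrictScalars_comp, curry_apply,
      LinearMap.coe_comp, LinearMap.coe_restrictScalars, Function.comp_apply,
      LinearMap.zero_apply]
    rw [Subsingleton.elim ((LinearMap.baseChange K D') (1 ⊗ₜ[R] x)) 0, map_zero]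
  refine ⟨f₁ * f₂, mul_ne_zero hf₁ hf₂, fun p hp => ?_⟩
  have hp₁ : f₁ ∉ p.asIdeal := fun h => hp (Ideal.mul_mem_right _ _ h)
  have hp₂ : f₂ ∉ p.asIdeal := fun h => hp (Ideal.mul_mem_left _ _ h)
  have hinj : Function.Injective (ιW.baseChange p.asIdeal.ResidueField) :=
    baseChange_injective_of_gfat ιW (W.mkQ.restrictScalars R) W.subtype_injective
      W.mkQ_surjective (by
        rw [LinearMap.exact_iff]
        ext x
        simp [hιW]) h₂ p hp₂
  have hnt : Nontrivial (p.asIdeal.ResidueField ⊗[R] W) :=
    nontrivial_fibre_of_generic hf₁ h₁ hKW p hp₁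
  have hsurj : Function.Surjective (D'.baseChange p.asIdeal.ResidueField) := by
    have := LinearMap.lTensor_surjective p.asIdeal.ResidueField hD's
    simpa [LinearMap.baseChange_eq_ltensor] using this
  intro h0
  obtain ⟨x, hx⟩ := exists_ne (0 : p.asIdeal.ResidueField ⊗[R] W)
  obtain ⟨y, rfl⟩ := hsurj x
  apply hx
  apply hinj
  rw [map_zero]
  have := LinearMap.congr_fun h0 y
  rw [hfac, LinearMap.baseChange_comp] at this
  simpa using this

end

end Groth.Agent.Helper2.FibExC
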