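import Mathlib
import Groth.Agent.Helper2.FibExC3

set_option autoImplicit false
universe u

open TensorProduct

namespace Groth.Agent.Helper2.FibExC

open Groth.Agent.Helper2.FibEx Groth.Agent.Helper8.GenFree

section Abs
variable {R : Type*} [CommRing R] (k : Type*) [CommRing k] [Algebra R k]
  {F G C H : Type*} [AddCommGroup F] [Module R F] [AddCommGroup G] [Module R G]
  [AddCommGroup C] [Module R C] [AddCommGroup H] [Module R H]

/-- if `G → C` is the cokernel of `u` and `v = w ∘ π`, then exactness of the base-changed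
sequence forces `k ⊗ w` to be injective -/
theorem baseChange_injective_of_exact (u : F →ₗ[R] G) (π : G →ₗ[R] C) (w : C →ₗ[R] H)
    (hπ : Function.Surjective π) (hπu : π ∘ₗ u = 0)
    (hex : Function.Exact (u.baseChange k) ((w ∘ₗ π).baseChange k)) :
    Function.Injective (w.baseChange k) := by
  rw [← LinearMap.ker_eq_bot, LinearMap.ker_eq_bot']
  intro z hz
  have hsurj : Function.Surjective (π.baseChange k) := by
    have := LinearMap.lTensor_surjective k hπ
    simpa [LinearMap.baseChange_eq_ltensor] using this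
  obtain ⟨y, rfl⟩ := hsurj z
  have h1 : ((w ∘ₗ π).baseChange k) y = 0 := by
    rw [LinearMap.baseChange_comp]; exact hz
  obtain ⟨x, rfl⟩ := (hex y).mp h1
  have h2 : (π.baseChange k) ((u.baseChange k) x) = ((π ∘ₗ u).baseChange k) x := by
    rw [LinearMap.baseChange_comp]; rfl
  rw [h2, hπu, LinearMap.baseChange_zero, LinearMap.zero_apply]

/-- conversely, if `k ⊗ w` is injective and `π = coker u`, the base-changed sequence is exact -/
theorem exact_of_baseChange_injective (u : F →ₗ[R] G) (π : G →ₗ[R] C) (w : C →ₗ[R] H)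
    (hπ : Function.Surjective π) (hex : Function.Exact u π)
    (hinj : Function.Injective (w.baseChange k)) :
    Function.Exact (u.baseChange k) ((w ∘ₗ π).baseChange k) := by
  have hex2k : Function.Exact (u.baseChange k) (π.baseChange k) := by
    have := lTensor_exact k hex hπ
    simpa [LinearMap.baseChange_eq_ltensor] using this
  have hvk : (((w ∘ₗ π).baseChange k : k ⊗[R] G →ₗ[k] k ⊗[R] H) : k ⊗[R] G → k ⊗[R] H) =
      (w.baseChange k) ∘ (π.baseChange k) := by
    rw [LinearMap.baseChange_comp]; rfl
  rw [hvk]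
  exact hex2k.comp_injective _ hinj (map_zero _)

end Abs

section
variable {R B : Type u} [CommRing R] [IsDomain R] [IsNoetherianRing R] [CommRing B] [Algebra R B]
  [Algebra.FiniteType R B]
  {F G H : Type u} [AddCommGroup F] [Module B F] [Module R F] [IsScalarTower R B F]
  [AddCommGroup G] [Module B G] [Module R G] [IsScalarTower R B G]
  [AddCommGroup H] [Module B H] [Module R H] [IsScalarTower R B H]

local notation "K" => FractionRing R

/-- B2: a generically non-exact complex is non-exact on all fibres over a dense open -/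
theorem exists_forall_not_exact_of_comp_eq_zero [Module.Finite B G]
    (u : F →ₗ[B] G) (v : G →ₗ[B] H) (hvu : v ∘ₗ u = 0)
    (hgen : ¬ Function.Exact ((u.restrictScalars R).baseChange K)
      ((v.restrictScalars R).baseChange K)) :
    ∃ f : R, f ≠ 0 ∧ ∀ p : PrimeSpectrum R, f ∉ p.asIdeal →
      ¬ Function.Exact ((u.restrictScalars R).baseChange p.asIdeal.ResidueField)
        ((v.restrictScalars R).baseChange p.asIdeal.ResidueField) := by
  set P := LinearMap.range u with hP
  have hle : P ≤ LinearMap.ker v := by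
    rintro _ ⟨x, rfl⟩
    rw [LinearMap.mem_ker]
    exact LinearMap.congr_fun hvu x
  set π := P.mkQ with hπ
  set w := P.liftQ v hle with hw
  set N := LinearMap.ker w with hN
  haveI : IsNoetherianRing B := Algebra.FiniteType.isNoetherianRing R B
  haveI : IsNoetherian B (G ⧸ P) := isNoetherian_of_isNoetherianRing_of_finite B _
  haveI : Module.Finite B N := inferInstance
  obtain ⟨f₁, hf₁, h₁⟩ := genericFreeness R B N
  obtain ⟨f₂, hf₂, h₂⟩ := genericFreeness R B ((G ⧸ P) ⧸ N)
  set uR := u.restrictScalars R with huR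
  set vR := v.restrictScalars R with hvR
  set πR : G →ₗ[R] (G ⧸ P) := π.restrictScalars R with hπR
  set wR : (G ⧸ P) →ₗ[R] H := w.restrictScalars R with hwR
  set ιN : N →ₗ[R] (G ⧸ P) := N.subtype.restrictScalars R with hιN
  have hv : vR = wR ∘ₗ πR := by
    ext x; simp [hvR, hwR, hπR, hw, hπ]
  have hπs : Function.Surjective πR := P.mkQ_surjective
  have hπu : πR ∘ₗ uR = 0 := by
    ext x
    simp [hπR, huR, hπ, hP]
  have hexuπ : Function.Exact uR πR := by
    rw [LinearMap.exact_iff]
    ext x
    simp [hπR, huR, hπ, hP]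
  have hexN : Function.Exact ιN wR := by
    rw [LinearMap.exact_iff]
    ext x
    simp [hιN, hwR, hN]
  have hwι : wR ∘ₗ ιN = 0 := by
    ext x
    exact x.2
  have hKN : Nontrivial (K ⊗[R] N) := by
    by_contra hcon
    rw [not_nontrivial_iff_subsingleton] at hcon
    apply hgen
    rw [hv]
    refine exact_of_baseChange_injective K uR πR wR hπs hexuπ ?_
    have hexK : Function.Exact (ιN.baseChange K) (wR.baseChange K) := by
      have := Module.Flat.lTensor_exact K hexN
      simpa [LinearMap.baseChange_eq_ltensor] using this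
    rw [← LinearMap.ker_eq_bot, LinearMap.ker_eq_bot']
    intro z hz
    obtain ⟨y, rfl⟩ := (hexK z).mp hz
    rw [Subsingleton.elim y 0, map_zero]
  refine ⟨f₁ * f₂, mul_ne_zero hf₁ hf₂, fun p hp => ?_⟩
  have hp₁ : f₁ ∉ p.asIdeal := fun h => hp (Ideal.mul_mem_right _ _ h)
  have hp₂ : f₂ ∉ p.asIdeal := fun h => hp (Ideal.mul_mem_left _ _ h)
  intro hex
  rw [hv] at hex
  have hwinj : Function.Injective (wR.baseChange p.asIdeal.ResidueField) :=
    baseChange_injective_of_exact _ uR πR wR hπs hπu hex
  have hιinj : Function.Injective (ιN.baseChange p.asIdeal.ResidueField) :=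
    baseChange_injective_of_gfat ιN (N.mkQ.restrictScalars R) N.subtype_injective
      N.mkQ_surjective (by
        rw [LinearMap.exact_iff]
        ext x
        simp [hιN]) h₂ p hp₂
  have hnt : Nontrivial (p.asIdeal.ResidueField ⊗[R] N) :=
    nontrivial_fibre_of_generic hf₁ h₁ hKN p hp₁
  obtain ⟨x, hx⟩ := exists_ne (0 : p.asIdeal.ResidueField ⊗[R] N)
  apply hx
  apply hιinj
  apply hwinj
  rw [map_zero, map_zero]
  have h3 : (wR.baseChange p.asIdeal.ResidueField) ((ιN.baseChange p.asIdeal.ResidueField) x) =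
      ((wR ∘ₗ ιN).baseChange p.asIdeal.ResidueField) x := by
    rw [LinearMap.baseChange_comp]; rfl
  rw [h3, hwι, LinearMap.baseChange_zero, LinearMap.zero_apply]

/-- generic dichotomy over a Noetherian domain -/
theorem dichotomy [Module.Finite B F] [Module.Finite B G] [Module.Finite B H]
    (u : F →ₗ[B] G) (v : G →ₗ[B] H) :
    ∃ f : R, f ≠ 0 ∧
      ((∀ p : PrimeSpectrum R, f ∉ p.asIdeal →
        Function.Exact ((u.restrictScalars R).baseChange p.asIdeal.ResidueField)
          ((v.restrictScalars R).baseChange p.asIdeal.ResidueField)) ∨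
      (∀ p : PrimeSpectrum R, f ∉ p.asIdeal →
        ¬ Function.Exact ((u.restrictScalars R).baseChange p.asIdeal.ResidueField)
          ((v.restrictScalars R).baseChange p.asIdeal.ResidueField))) := by
  by_cases hgen : Function.Exact ((u.restrictScalars R).baseChange K)
      ((v.restrictScalars R).baseChange K)
  · obtain ⟨f, hf, h⟩ := s4801 u v hgen
    exact ⟨f, hf, Or.inl h⟩
  by_cases hD : ((v ∘ₗ u).restrictScalars R).baseChange K = 0
  · obtain ⟨f₁, hf₁, h1⟩ := exists_smul_eq_zero_of_baseChange_eq_zero (v ∘ₗ u) hD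
    set u' := (algebraMap R B f₁) • u with hu'
    have hvu' : v ∘ₗ u' = 0 := by
      ext x
      rw [LinearMap.comp_apply, hu', LinearMap.smul_apply, map_smul, algebraMap_smul]
      exact h1 x
    have hK : algebraMap R K f₁ ≠ 0 := by
      rw [Ne, map_eq_zero_iff _ (IsFractionRing.injective R K)]; exact hf₁
    have hgen' : ¬ Function.Exact ((u'.restrictScalars R).baseChange K)
        ((v.restrictScalars R).baseChange K) := by
      intro h
      apply hgen
      rw [LinearMap.exact_iff] at h ⊢
      rw [h, hu', range_baseChange_smul u f₁ K hK]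
    obtain ⟨f, hf, h⟩ := exists_forall_not_exact_of_comp_eq_zero u' v hvu' hgen'
    refine ⟨f₁ * f, mul_ne_zero hf₁ hf, Or.inr fun p hp => ?_⟩
    have hp₁ : f₁ ∉ p.asIdeal := fun h => hp (Ideal.mul_mem_right _ _ h)
    have hp₂ : f ∉ p.asIdeal := fun h => hp (Ideal.mul_mem_left _ _ h)
    have hk : algebraMap R p.asIdeal.ResidueField f₁ ≠ 0 := by
      rw [Ne, Ideal.algebraMap_residueField_eq_zero]; exact hp₁
    intro hex
    apply h p hp₂
    rw [LinearMap.exact_iff] at hex ⊢
    rw [hex, hu', range_baseChange_smul u f₁ _ hk]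
  · obtain ⟨f, hf, h⟩ := exists_forall_baseChange_ne_zero (v ∘ₗ u) hD
    refine ⟨f, hf, Or.inr fun p hp hex => ?_⟩
    apply h p hp
    ext x
    have := hex.apply_apply_eq_zero ((1 : p.asIdeal.ResidueField) ⊗ₜ[R] x)
    simpa using this

end

end Groth.Agent.Helper2.FibExC
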