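import Mathlib
import Groth.Agent.Helper2.FibExC4

set_option autoImplicit false
universe u

open TensorProduct

namespace Groth.Agent.Helper2.FibExC

/-- matrix data over `R[X₁,…,Xₙ]` describing a sequence `P^a → P^b → P^c / im A` -/
structure MD (n a b c c' : ℕ) (R : Type u) [CommRing R] where
  U : Matrix (Fin b) (Fin a) (MvPolynomial (Fin n) R)
  V : Matrix (Fin c) (Fin b) (MvPolynomial (Fin n) R)
  A : Matrix (Fin c) (Fin c') (MvPolynomial (Fin n) R)

namespace MD

variable {n a b c c' : ℕ} {R : Type u} [CommRing R] (D : MD n a b c c' R)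

/-- the cokernel of `A` -/
abbrev HM : Type u := (Fin c → MvPolynomial (Fin n) R) ⧸ LinearMap.range D.A.mulVecLin

/-- the first map -/
noncomputable def uM : (Fin a → MvPolynomial (Fin n) R) →ₗ[MvPolynomial (Fin n) R]
    (Fin b → MvPolynomial (Fin n) R) := D.U.mulVecLin

/-- the second map -/
noncomputable def vM : (Fin b → MvPolynomial (Fin n) R) →ₗ[MvPolynomial (Fin n) R] D.HM :=
  (LinearMap.range D.A.mulVecLin).mkQ ∘ₗ D.V.mulVecLin

/-- base change of matrix data -/
noncomputable def map {R' : Type u} [CommRing R'] (φ : R →+* R') : MD n a b c c' R' :=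
  ⟨D.U.map (MvPolynomial.map φ), D.V.map (MvPolynomial.map φ), D.A.map (MvPolynomial.map φ)⟩

/-- the fibre-exactness locus of matrix data -/
def EM : Set (PrimeSpectrum R) := EL (D.uM.restrictScalars R) (D.vM.restrictScalars R)

end MD

section BC
variable {n : ℕ} {R R' : Type u} [CommRing R] [CommRing R'] [Algebra R R']

/-- coefficientwise base change of polynomials as an `R`-linear map -/
noncomputable def mapL : MvPolynomial (Fin n) R →ₗ[R] MvPolynomial (Fin n) R' :=
  (MvPolynomial.mapAlgHom (Algebra.ofId R R')).toLinearMap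

@[simp] theorem mapL_apply (x : MvPolynomial (Fin n) R) :
    mapL (R' := R') x = MvPolynomial.map (algebraMap R R') x := rfl

theorem isBaseChange_mapL : IsBaseChange R' (mapL (n := n) (R := R) (R' := R')) :=
  IsBaseChange.of_equiv (MvPolynomial.algebraTensorAlgEquiv R R').toLinearEquiv
    (fun x => by simp)

/-- vector version -/
noncomputable def mapV (m : ℕ) :
    (Fin m → MvPolynomial (Fin n) R) →ₗ[R] (Fin m → MvPolynomial (Fin n) R') :=
  (mapL (n := n) (R := R) (R' := R')).compLeft (Fin m)

@[simp] theorem mapV_apply (m : ℕ) (x : Fin m → MvPolynomial (Fin n) R) (i : Fin m) :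
    mapV (R' := R') m x i = MvPolynomial.map (algebraMap R R') (x i) := rfl

theorem isBaseChange_mapV (m : ℕ) :
    IsBaseChange R' (mapV (n := n) (R := R) (R' := R') m) :=
  IsBaseChange.finitePow (Fin m) isBaseChange_mapL

theorem mapV_mulVec {m l : ℕ} (M : Matrix (Fin m) (Fin l) (MvPolynomial (Fin n) R))
    (x : Fin l → MvPolynomial (Fin n) R) :
    mapV (R' := R') m (M.mulVec x) =
      (M.map (MvPolynomial.map (algebraMap R R'))).mulVec (mapV (R' := R') l x) := by
  ext i : 1
  rw [mapV_apply, RingHom.map_mulVec]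
  rfl

end BC

end Groth.Agent.Helper2.FibExC
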