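import Mathlib
import Groth.Agent.Helper2.FibExC5

set_option autoImplicit false
universe u

open TensorProduct

namespace Groth.Agent.Helper2.FibExC

section BC2
variable {n a b c c' : ℕ} {R R' : Type u} [CommRing R] [CommRing R'] [Algebra R R']
  (D : MD n a b c c' R)

theorem range_le_comap :
    (LinearMap.range D.A.mulVecLin).restrictScalars R ≤
      ((LinearMap.range (D.map (algebraMap R R')).A.mulVecLin).restrictScalars R).comap
        (mapV (R' := R') c) := by
  rintro _ ⟨x, rfl⟩
  refine ⟨mapV (R' := R') c' x, ?_⟩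
  simp only [Matrix.mulVecLin_apply]
  rw [mapV_mulVec]
  rfl

/-- the comparison map on cokernels -/
noncomputable def mapH : D.HM →ₗ[R] (D.map (algebraMap R R')).HM :=
  (Submodule.Quotient.restrictScalarsEquiv R
      (LinearMap.range (D.map (algebraMap R R')).A.mulVecLin)).toLinearMap ∘ₗ
    (Submodule.mapQ _ _ (mapV (R' := R') c) (range_le_comap D)) ∘ₗ
    (Submodule.Quotient.restrictScalarsEquiv R (LinearMap.range D.A.mulVecLin)).symm.toLinearMap

theorem mapH_mk (x : Fin c → MvPolynomial (Fin n) R) :
    mapH (R' := R') D (Submodule.Quotient.mk x) = Submodule.Quotient.mk (mapV (R' := R') c x) :=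
  rfl

theorem comm₁ : (mapV (R' := R') c) ∘ₗ (D.A.mulVecLin.restrictScalars R) =
      (((D.map (algebraMap R R')).A.mulVecLin.restrictScalars R').restrictScalars R) ∘ₗ
        (mapV (R' := R') c') := by
    refine LinearMap.ext fun x => ?_
    show mapV (R' := R') c (D.A.mulVec x) = _
    rw [mapV_mulVec]
    rfl

theorem comm₂ : (mapH (R' := R') D) ∘ₗ ((LinearMap.range D.A.mulVecLin).mkQ.restrictScalars R) =
      (((LinearMap.range (D.map (algebraMap R R')).A.mulVecLin).mkQ.restrictScalars R').restrictScalars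
        R) ∘ₗ (mapV (R' := R') c) := by
    refine LinearMap.ext fun x => ?_
    rfl
theorem ex₁ : Function.Exact (D.A.mulVecLin.restrictScalars R)
      ((LinearMap.range D.A.mulVecLin).mkQ.restrictScalars R) := by
    intro y
    show (LinearMap.range D.A.mulVecLin).mkQ y = 0 ↔ y ∈ Set.range D.A.mulVecLin
    rw [Submodule.mkQ_apply, Submodule.Quotient.mk_eq_zero]
    rfl

theorem isBaseChange_mapH : IsBaseChange R' (mapH (R' := R') D) := by
  refine IsBaseChange.of_right_exact R' (mapV (R' := R') c') (mapV (R' := R') c) (mapH (R' := R') D)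
    (f := D.A.mulVecLin.restrictScalars R)
    (g := (LinearMap.range D.A.mulVecLin).mkQ.restrictScalars R)
    (f' := (D.map (algebraMap R R')).A.mulVecLin.restrictScalars R')
    (g' := (LinearMap.range (D.map (algebraMap R R')).A.mulVecLin).mkQ.restrictScalars R')
    ?_ ?_ (isBaseChange_mapV c') (isBaseChange_mapV c) ?_ ?_ ?_ ?_
  · refine LinearMap.ext fun x => ?_
    show mapV (R' := R') c (D.A.mulVec x) = _
    rw [mapV_mulVec]
    rfl
  · refine LinearMap.ext fun x => ?_
    rfl
  · intro y
    show (LinearMap.range D.A.mulVecLin).mkQ y = 0 ↔ y ∈ Set.range D.A.mulVecLin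
    rw [Submodule.mkQ_apply, Submodule.Quotient.mk_eq_zero]
    rfl
  · intro y
    obtain ⟨x, rfl⟩ := Submodule.Quotient.mk_surjective _ y
    exact ⟨x, rfl⟩
  · intro y
    show (LinearMap.range (D.map (algebraMap R R')).A.mulVecLin).mkQ y = 0 ↔
      y ∈ Set.range (D.map (algebraMap R R')).A.mulVecLin
    rw [Submodule.mkQ_apply, Submodule.Quotient.mk_eq_zero]
    rfl
  · intro y
    obtain ⟨x, rfl⟩ := Submodule.Quotient.mk_surjective _ y
    exact ⟨x, rfl⟩

theorem EM_map : (D.map (algebraMap R R')).EM = PrimeSpectrum.comap (algebraMap R R') ⁻¹' D.EM := by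
  refine EL_eq_preimage_of_isBaseChange (isBaseChange_mapV a) (isBaseChange_mapV b)
    (isBaseChange_mapH D) (D.uM.restrictScalars R) (D.vM.restrictScalars R)
    ((D.map (algebraMap R R')).uM.restrictScalars R')
    ((D.map (algebraMap R R')).vM.restrictScalars R') ?_ ?_
  · intro x
    show (D.map (algebraMap R R')).U.mulVec (mapV (R' := R') a x) = mapV (R' := R') b (D.U.mulVec x)
    rw [mapV_mulVec]
    rfl
  · intro y
    show Submodule.Quotient.mk ((D.map (algebraMap R R')).V.mulVec (mapV (R' := R') b y)) =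
      mapH (R' := R') D (Submodule.Quotient.mk (D.V.mulVec y))
    rw [mapH_mk, mapV_mulVec]
    rfl

end BC2
end Groth.Agent.Helper2.FibExC
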