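import Mathlib
import Groth.Agent.Helper2.FibExC6
import Groth.Agent.Helper5.ConsLc1

set_option autoImplicit false
universe u

open TensorProduct Topology

namespace Groth.Agent.Helper2.FibExC

section Noeth
variable {n a b c c' : ℕ} {R : Type u} [CommRing R]

/-- dichotomy for matrix data over a Noetherian domain -/
theorem MD.dichotomy [IsDomain R] [IsNoetherianRing R] (D : MD n a b c c' R) :
    ∃ f : R, f ≠ 0 ∧
      ((∀ p : PrimeSpectrum R, f ∉ p.asIdeal → p ∈ D.EM) ∨
      (∀ p : PrimeSpectrum R, f ∉ p.asIdeal → p ∉ D.EM)) :=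
  FibExC.dichotomy D.uM D.vM

theorem MD.isConstructible_EM_of_noeth [IsNoetherianRing R] (D : MD n a b c c' R) :
    IsConstructible D.EM := by
  refine Groth.Agent.Helper5.ConsLc.isConstructible_of_noeth _ ?_
  intro Z hZc hZi
  set q := PrimeSpectrum.vanishingIdeal Z with hq
  haveI hqp : q.IsPrime := PrimeSpectrum.isIrreducible_iff_vanishingIdeal_isPrime.mp hZi
  have hZ : Z = PrimeSpectrum.zeroLocus (q : Set R) := by
    rw [hq, PrimeSpectrum.zeroLocus_vanishingIdeal_eq_closure, hZc.closure_eq]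
  obtain ⟨fbar, hfbar, h⟩ := (D.map (algebraMap R (R ⧸ q))).dichotomy
  obtain ⟨f, rfl⟩ := Ideal.Quotient.mk_surjective fbar
  have hfq : f ∉ q := by
    intro hf
    apply hfbar
    exact Ideal.Quotient.eq_zero_iff_mem.mpr hf
  have key : ∀ p : PrimeSpectrum R, p ∈ Z → f ∉ p.asIdeal →
      ∃ pbar : PrimeSpectrum (R ⧸ q), PrimeSpectrum.comap (algebraMap R (R ⧸ q)) pbar = p ∧
        Ideal.Quotient.mk q f ∉ pbar.asIdeal := by
    intro p hpZ hpf
    have hp : p ∈ Set.range (PrimeSpectrum.comap (algebraMap R (R ⧸ q))) := by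
      rw [_root_.range_comap_of_surjective _ (algebraMap R (R ⧸ q)) Ideal.Quotient.mk_surjective]
      rw [hZ] at hpZ
      have : RingHom.ker (algebraMap R (R ⧸ q)) = q := Ideal.mk_ker
      rw [this]
      exact hpZ
    obtain ⟨pbar, rfl⟩ := hp
    exact ⟨pbar, rfl, fun h => hpf h⟩
  refine ⟨(PrimeSpectrum.basicOpen f : Set (PrimeSpectrum R)), (PrimeSpectrum.basicOpen f).isOpen,
    ⟨⟨q, hqp⟩, ?_, hfq⟩, ?_⟩
  · rw [hZ]
    exact fun x hx => hx
  · rcases h with h | h
    · left
      rintro p ⟨hpZ, hpf⟩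
      obtain ⟨pbar, rfl, hpbar⟩ := key p hpZ hpf
      have := h pbar hpbar
      rw [EM_map] at this
      exact this
    · right
      rintro p ⟨hpZ, hpf⟩
      obtain ⟨pbar, rfl, hpbar⟩ := key p hpZ hpf
      have := h pbar hpbar
      rw [EM_map] at this
      exact this

end Noeth

end Groth.Agent.Helper2.FibExC
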