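import Mathlib
import Groth.Agent.Helper2.FibExC7

set_option autoImplicit false
universe u

open TensorProduct Topology

namespace Groth.Agent.Helper2.FibExC

section Desc
variable {n a b c c' : ℕ} {R : Type u} [CommRing R]

theorem MD.exists_model {R₀ : Type u} [CommRing R₀] [Algebra R₀ R] (D : MD n a b c c' R)
    (hU : ∀ i j, ((D.U i j).coeffs : Set R) ⊆ Set.range (algebraMap R₀ R))
    (hV : ∀ i j, ((D.V i j).coeffs : Set R) ⊆ Set.range (algebraMap R₀ R))
    (hA : ∀ i j, ((D.A i j).coeffs : Set R) ⊆ Set.range (algebraMap R₀ R)) :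
    ∃ D₀ : MD n a b c c' R₀, D₀.map (algebraMap R₀ R) = D := by
  have h1 : ∀ i j, ∃ g, MvPolynomial.map (algebraMap R₀ R) g = D.U i j :=
    fun i j => MvPolynomial.mem_range_map_iff_coeffs_subset.mpr (hU i j)
  have h2 : ∀ i j, ∃ g, MvPolynomial.map (algebraMap R₀ R) g = D.V i j :=
    fun i j => MvPolynomial.mem_range_map_iff_coeffs_subset.mpr (hV i j)
  have h3 : ∀ i j, ∃ g, MvPolynomial.map (algebraMap R₀ R) g = D.A i j :=
    fun i j => MvPolynomial.mem_range_map_iff_coeffs_subset.mpr (hA i j)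
  choose U₀ hU₀ using h1
  choose V₀ hV₀ using h2
  choose A₀ hA₀ using h3
  refine ⟨⟨Matrix.of U₀, Matrix.of V₀, Matrix.of A₀⟩, ?_⟩
  obtain ⟨U, V, A⟩ := D
  simp only [MD.map, MD.mk.injEq]
  refine ⟨?_, ?_, ?_⟩
  · exact Matrix.ext fun i j => hU₀ i j
  · exact Matrix.ext fun i j => hV₀ i j
  · exact Matrix.ext fun i j => hA₀ i j

theorem isConstructible_preimage_comap {R₀ : Type u} [CommRing R₀] (φ : R₀ →+* R)
    {s : Set (PrimeSpectrum R₀)} (hs : IsConstructible s) :
    IsConstructible (PrimeSpectrum.comap φ ⁻¹' s) := by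
  obtain ⟨S, rfl⟩ := PrimeSpectrum.exists_constructibleSetData_iff.mpr hs
  rw [← PrimeSpectrum.ConstructibleSetData.toSet_map]
  exact PrimeSpectrum.ConstructibleSetData.isConstructible_toSet _

/-- the fibre-exactness locus of matrix data is constructible -/
theorem MD.isConstructible_EM (D : MD n a b c c' R) : IsConstructible D.EM := by
  set s : Set R := (⋃ i, ⋃ j, ((D.U i j).coeffs : Set R)) ∪ (⋃ i, ⋃ j, ((D.V i j).coeffs : Set R)) ∪
    (⋃ i, ⋃ j, ((D.A i j).coeffs : Set R)) with hs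
  have hfin : s.Finite := by
    refine (Set.Finite.union ?_ ?_).union ?_
    · exact Set.finite_iUnion fun i => Set.finite_iUnion fun j => Finset.finite_toSet _
    · exact Set.finite_iUnion fun i => Set.finite_iUnion fun j => Finset.finite_toSet _
    · exact Set.finite_iUnion fun i => Set.finite_iUnion fun j => Finset.finite_toSet _
  set R₀ : Subalgebra ℤ R := Algebra.adjoin ℤ s with hR₀
  haveI : Algebra.FiniteType ℤ R₀ := Algebra.FiniteType.adjoin_of_finite hfin
  haveI : IsNoetherianRing R₀ := Algebra.FiniteType.isNoetherianRing ℤ R₀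
  have hsub : s ⊆ Set.range (algebraMap R₀ R) := by
    intro x hx
    exact ⟨⟨x, Algebra.subset_adjoin hx⟩, rfl⟩
  obtain ⟨D₀, hD₀⟩ := D.exists_model (R₀ := R₀)
    (fun i j => subset_trans (fun x hx => Or.inl (Or.inl (Set.mem_iUnion.mpr ⟨i, Set.mem_iUnion.mpr ⟨j, hx⟩⟩))) hsub)
    (fun i j => subset_trans (fun x hx => Or.inl (Or.inr (Set.mem_iUnion.mpr ⟨i, Set.mem_iUnion.mpr ⟨j, hx⟩⟩))) hsub)
    (fun i j => subset_trans (fun x hx => Or.inr (Set.mem_iUnion.mpr ⟨i, Set.mem_iUnion.mpr ⟨j, hx⟩⟩)) hsub)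
  rw [← hD₀, EM_map]
  exact isConstructible_preimage_comap _ D₀.isConstructible_EM_of_noeth

end Desc

end Groth.Agent.Helper2.FibExC
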