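import Mathlib
import Groth.Agent.Helper2.FibExC8

set_option autoImplicit false
universe u

open TensorProduct Topology

namespace Groth.Agent.Helper2.FibExC

section R1
variable {k : Type*} [Ring k]
  {F₁ L G' H' F G H : Type*} [AddCommGroup F₁] [Module k F₁] [AddCommGroup L] [Module k L]
  [AddCommGroup G'] [Module k G'] [AddCommGroup H'] [Module k H']
  [AddCommGroup F] [Module k F] [AddCommGroup G] [Module k G] [AddCommGroup H] [Module k H]

/-- replacing a sequence by a "resolved" one does not change exactness -/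
theorem exact_iff_of_resolution (u : F →ₗ[k] G) (v : G →ₗ[k] H)
    (u' : F₁ →ₗ[k] G') (A : L →ₗ[k] G') (v' : G' →ₗ[k] H')
    (π : F₁ →ₗ[k] F) (β : G' →ₗ[k] G) (γ : H' →ₗ[k] H)
    (hπ : Function.Surjective π) (hβ : Function.Surjective β) (hγ : Function.Injective γ)
    (hA : Function.Exact A β) (hU : ∀ x, β (u' x) = u (π x)) (hv : ∀ y, γ (v' y) = v (β y)) :
    Function.Exact u v ↔
      (∀ y, v' y = 0 ↔ ∃ x l, u' x + A l = y) := by
  constructor
  · intro hex y
    constructor
    · intro hy
      have h1 : v (β y) = 0 := by rw [← hv, hy, map_zero]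
      obtain ⟨x, hx⟩ := (hex _).mp h1
      obtain ⟨x₁, rfl⟩ := hπ x
      have h2 : β (y - u' x₁) = 0 := by rw [map_sub, hU, hx, sub_self]
      obtain ⟨l, hl⟩ := (hA _).mp h2
      exact ⟨x₁, l, by rw [hl]; abel⟩
    · rintro ⟨x, l, rfl⟩
      apply hγ
      rw [map_zero, hv, map_add, hU, (hA _).mpr ⟨l, rfl⟩, add_zero]
      exact (hex _).mpr ⟨_, rfl⟩
  · intro h y
    constructor
    · intro hy
      obtain ⟨y', rfl⟩ := hβ y
      have h1 : v' y' = 0 := by
        apply hγ
        rw [map_zero, hv, hy]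
      obtain ⟨x, l, rfl⟩ := (h y').mp h1
      refine ⟨π x, ?_⟩
      rw [map_add, hU, (hA _).mpr ⟨l, rfl⟩, add_zero]
    · rintro ⟨x, rfl⟩
      obtain ⟨x₁, rfl⟩ := hπ x
      rw [← hU, ← hv, (h _).mpr ⟨x₁, 0, by simp⟩, map_zero]

end R1

section R2
variable {R : Type*} [CommRing R] (k : Type*) [CommRing k] [Algebra R k]
  {F'' F₁ L G' H' F G H : Type*} [AddCommGroup F''] [Module R F'']
  [AddCommGroup F₁] [Module R F₁] [AddCommGroup L] [Module R L]
  [AddCommGroup G'] [Module R G'] [AddCommGroup H'] [Module R H']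
  [AddCommGroup F] [Module R F] [AddCommGroup G] [Module R G] [AddCommGroup H] [Module R H]

theorem baseChange_surjective {M N : Type*} [AddCommGroup M] [Module R M] [AddCommGroup N]
    [Module R N] (f : M →ₗ[R] N) (hf : Function.Surjective f) :
    Function.Surjective (f.baseChange k) := by
  have := LinearMap.lTensor_surjective k hf
  simpa [LinearMap.baseChange_eq_ltensor] using this

theorem baseChange_comp_apply {M N Q : Type*} [AddCommGroup M] [Module R M] [AddCommGroup N]
    [Module R N] [AddCommGroup Q] [Module R Q] (g : N →ₗ[R] Q) (f : M →ₗ[R] N) (x : k ⊗[R] M) :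
    (g.baseChange k) ((f.baseChange k) x) = ((g ∘ₗ f).baseChange k) x := by
  rw [LinearMap.baseChange_comp]; rfl

theorem exact_baseChange_iff_of_resolution (u : F →ₗ[R] G) (v : G →ₗ[R] H)
    (U₁ : F₁ →ₗ[R] G') (A : L →ₗ[R] G') (v' : G' →ₗ[R] H')
    (π : F₁ →ₗ[R] F) (β : G' →ₗ[R] G) (γ : H' ≃ₗ[R] H)
    (hπ : Function.Surjective π) (hβ : Function.Surjective β)
    (hA : Function.Exact A β) (hU : β ∘ₗ U₁ = u ∘ₗ π) (hv : γ.toLinearMap ∘ₗ v' = v ∘ₗ β)
    (ε : F'' →ₗ[R] F₁ × L) (hε : Function.Surjective ε) :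
    Function.Exact (u.baseChange k) (v.baseChange k) ↔
      Function.Exact (((U₁.coprod A) ∘ₗ ε).baseChange k) (v'.baseChange k) := by
  have hγ : Function.Injective (γ.toLinearMap.baseChange k) := by
    intro x y hxy
    have h1 := congrArg (γ.symm.toLinearMap.baseChange k) hxy
    rw [baseChange_comp_apply, baseChange_comp_apply] at h1
    simpa using h1
  have hAk : Function.Exact (A.baseChange k) (β.baseChange k) := by
    have := lTensor_exact k hA hβ
    simpa [LinearMap.baseChange_eq_ltensor] using this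
  rw [exact_iff_of_resolution (u.baseChange k) (v.baseChange k) (U₁.baseChange k)
    (A.baseChange k) (v'.baseChange k) (π.baseChange k) (β.baseChange k)
    (γ.toLinearMap.baseChange k) (baseChange_surjective k π hπ) (baseChange_surjective k β hβ) hγ hAk
    (fun x => by rw [baseChange_comp_apply, baseChange_comp_apply, hU])
    (fun y => by rw [baseChange_comp_apply, baseChange_comp_apply, hv])]
  have hεk := baseChange_surjective k ε hε
  have hco : U₁.coprod A = U₁ ∘ₗ LinearMap.fst R F₁ L + A ∘ₗ LinearMap.snd R F₁ L := by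
    ext x <;> simp
  refine forall_congr' fun y => ?_
  refine iff_congr Iff.rfl ?_
  constructor
  · rintro ⟨x, l, rfl⟩
    obtain ⟨z, hz⟩ := hεk (((LinearMap.inl R F₁ L).baseChange k) x +
      ((LinearMap.inr R F₁ L).baseChange k) l)
    refine ⟨z, ?_⟩
    rw [← baseChange_comp_apply, hz, map_add, baseChange_comp_apply, baseChange_comp_apply,
      LinearMap.coprod_inl, LinearMap.coprod_inr]
  · rintro ⟨z, rfl⟩
    refine ⟨((LinearMap.fst R F₁ L).baseChange k) ((ε.baseChange k) z),
      ((LinearMap.snd R F₁ L).baseChange k) ((ε.baseChange k) z), ?_⟩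
    set w := (ε.baseChange k) z with hw
    have e1 : (U₁.baseChange k) (((LinearMap.fst R F₁ L).baseChange k) w) =
        ((U₁ ∘ₗ LinearMap.fst R F₁ L).baseChange k) w := baseChange_comp_apply k _ _ _
    have e2 : (A.baseChange k) (((LinearMap.snd R F₁ L).baseChange k) w) =
        ((A ∘ₗ LinearMap.snd R F₁ L).baseChange k) w := baseChange_comp_apply k _ _ _
    have e3 : (((U₁.coprod A) ∘ₗ ε).baseChange k) z = ((U₁.coprod A).baseChange k) w :=
      (baseChange_comp_apply k _ _ _).symm
    rw [e1, e2, e3, ← LinearMap.add_apply, ← LinearMap.baseChange_add, ← hco]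

end R2

end Groth.Agent.Helper2.FibExC
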