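import Mathlib
import Groth.Agent.Helper2.FibExC9

set_option autoImplicit false
universe u

open TensorProduct Topology

namespace Groth.Agent.Helper2.FibExC

section PC1
variable (P : Type u) [CommRing P] (M : Type u) [AddCommGroup M] [Module P M]
  [Module.FinitePresentation P M]

theorem exists_matrix_presentation :
    ∃ (c c' : ℕ) (A : Matrix (Fin c) (Fin c') P),
      Nonempty (M ≃ₗ[P] (Fin c → P) ⧸ LinearMap.range A.mulVecLin) := by
  obtain ⟨c, K, e, hK⟩ := Module.FinitePresentation.exists_fin P M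
  obtain ⟨c', s, hs⟩ := Submodule.fg_iff_exists_fin_generating_family.mp hK
  refine ⟨c, c', Matrix.of (fun i j => s j i), ⟨e ≪≫ₗ Submodule.quotEquivOfEq _ _ ?_⟩⟩
  rw [Matrix.range_mulVecLin, ← hs]
  congr 1

end PC1

section Poly
variable {n : ℕ} {R : Type u} [CommRing R]
  {F G H : Type u} [AddCommGroup F] [Module (MvPolynomial (Fin n) R) F] [Module R F]
  [IsScalarTower R (MvPolynomial (Fin n) R) F] [Module.Finite (MvPolynomial (Fin n) R) F]
  [AddCommGroup G] [Module (MvPolynomial (Fin n) R) G] [Module R G]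
  [IsScalarTower R (MvPolynomial (Fin n) R) G] [Module.FinitePresentation (MvPolynomial (Fin n) R) G]
  [AddCommGroup H] [Module (MvPolynomial (Fin n) R) H] [Module R H]
  [IsScalarTower R (MvPolynomial (Fin n) R) H] [Module.FinitePresentation (MvPolynomial (Fin n) R) H]

theorem exists_MD (u : F →ₗ[MvPolynomial (Fin n) R] G) (v : G →ₗ[MvPolynomial (Fin n) R] H) :
    ∃ (a b c c' : ℕ) (D : MD n a b c c' R),
      EL (u.restrictScalars R) (v.restrictScalars R) = D.EM := by
  obtain ⟨b, b', AG, ⟨eG⟩⟩ := exists_matrix_presentation (MvPolynomial (Fin n) R) G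
  obtain ⟨c, c', AH, ⟨eH⟩⟩ := exists_matrix_presentation (MvPolynomial (Fin n) R) H
  obtain ⟨a, πF, hπF⟩ := Module.Finite.exists_fin' (MvPolynomial (Fin n) R) F
  set β : (Fin b → MvPolynomial (Fin n) R) →ₗ[MvPolynomial (Fin n) R] G :=
    eG.symm.toLinearMap ∘ₗ (LinearMap.range AG.mulVecLin).mkQ with hβdef
  have hβ : Function.Surjective β :=
    eG.symm.surjective.comp (Submodule.mkQ_surjective _)
  have hAβ : Function.Exact AG.mulVecLin β := by
    intro y
    rw [hβdef, LinearMap.comp_apply, LinearEquiv.coe_coe, LinearEquiv.map_eq_zero_iff,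
      Submodule.mkQ_apply, Submodule.Quotient.mk_eq_zero]
    rfl
  obtain ⟨U₁, hU₁⟩ := Module.projective_lifting_property β (u ∘ₗ πF) hβ
  obtain ⟨V₁, hV₁⟩ := Module.projective_lifting_property (LinearMap.range AH.mulVecLin).mkQ
    (eH.toLinearMap ∘ₗ v ∘ₗ β) (Submodule.mkQ_surjective _)
  set ε : (Fin (a + b') → MvPolynomial (Fin n) R) ≃ₗ[MvPolynomial (Fin n) R]
      (Fin a → MvPolynomial (Fin n) R) × (Fin b' → MvPolynomial (Fin n) R) :=
    (LinearEquiv.funCongrLeft (MvPolynomial (Fin n) R) (MvPolynomial (Fin n) R) finSumFinEquiv) ≪≫ₗ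
      (LinearEquiv.sumArrowLequivProdArrow (Fin a) (Fin b') (MvPolynomial (Fin n) R)
        (MvPolynomial (Fin n) R)) with hε
  set u' := (U₁.coprod AG.mulVecLin) ∘ₗ ε.toLinearMap with hu'
  set D : MD n (a + b') b c c' R := ⟨LinearMap.toMatrix' u', LinearMap.toMatrix' V₁, AH⟩ with hD
  have hDu : D.uM = u' := by
    show (LinearMap.toMatrix' u').mulVecLin = _
    rw [← Matrix.toLin'_apply', Matrix.toLin'_toMatrix']
  have hDv : D.vM = (LinearMap.range AH.mulVecLin).mkQ ∘ₗ V₁ := by
    show (LinearMap.range AH.mulVecLin).mkQ ∘ₗ (LinearMap.toMatrix' V₁).mulVecLin = _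
    rw [← Matrix.toLin'_apply' (LinearMap.toMatrix' V₁), Matrix.toLin'_toMatrix']
  refine ⟨a + b', b, c, c', D, ?_⟩
  ext p
  show Function.Exact _ _ ↔ Function.Exact _ _
  rw [hDu, hDv]
  refine exact_baseChange_iff_of_resolution p.asIdeal.ResidueField (u.restrictScalars R)
    (v.restrictScalars R) (U₁.restrictScalars R) (AG.mulVecLin.restrictScalars R)
    (((LinearMap.range AH.mulVecLin).mkQ ∘ₗ V₁).restrictScalars R) (πF.restrictScalars R)
    (β.restrictScalars R) (eH.symm.restrictScalars R) hπF hβ hAβ ?_ ?_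
    (ε.toLinearMap.restrictScalars R) ε.surjective
  · refine LinearMap.ext fun x => ?_
    exact LinearMap.congr_fun hU₁ x
  · refine LinearMap.ext fun y => ?_
    have := LinearMap.congr_fun hV₁ y
    simp only [LinearMap.comp_apply, LinearEquiv.coe_coe] at this
    show eH.symm ((LinearMap.range AH.mulVecLin).mkQ (V₁ y)) = v (β y)
    rw [this, LinearEquiv.symm_apply_apply]

end Poly

end Groth.Agent.Helper2.FibExC
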