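import Mathlib
import Groth.Agent.Helper2.FibExC10

set_option autoImplicit false
universe u

open TensorProduct Topology

namespace Groth.Agent.Helper2.FibExC

section Tower
variable {R P B : Type u} [CommRing R] [CommRing P] [CommRing B] [Algebra R P] [Algebra R B]
  [Algebra P B] [IsScalarTower R P B]

/-- a `B`-module viewed over `P` is finitely presented if `P → B` is surjective with finitely
generated kernel -/
theorem fp_compHom (hs : Function.Surjective (algebraMap P B))
    (hk : (RingHom.ker (algebraMap P B)).FG)
    (M : Type u) [AddCommGroup M] [Module B M] [Module.FinitePresentation B M] [Module P M]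
    [IsScalarTower P B M] : Module.FinitePresentation P M := by
  haveI : Module.FinitePresentation P B :=
    Module.finitePresentation_of_surjective (Algebra.linearMap P B) hs hk
  exact Module.FinitePresentation.trans P M B

end Tower

theorem s4796 {R B : Type u} [CommRing R] [CommRing B] [Algebra R B]
    [Algebra.FinitePresentation R B]
    {F G H : Type u} [AddCommGroup F] [Module B F] [Module R F] [IsScalarTower R B F]
    [Module.FinitePresentation B F]
    [AddCommGroup G] [Module B G] [Module R G] [IsScalarTower R B G] [Module.FinitePresentation B G]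
    [AddCommGroup H] [Module B H] [Module R H] [IsScalarTower R B H] [Module.FinitePresentation B H]
    (u : F →ₗ[B] G) (v : G →ₗ[B] H) :
    IsConstructible {p : PrimeSpectrum R |
      Function.Exact ((u.restrictScalars R).baseChange p.asIdeal.ResidueField)
        ((v.restrictScalars R).baseChange p.asIdeal.ResidueField)} := by
  obtain ⟨n, φ, hφ, hker⟩ := Algebra.FinitePresentation.out (R := R) (A := B)
  letI : Algebra (MvPolynomial (Fin n) R) B := φ.toRingHom.toAlgebra
  haveI : IsScalarTower R (MvPolynomial (Fin n) R) B :=
    IsScalarTower.of_algebraMap_eq (fun r => (φ.commutes r).symm)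
  have hs : Function.Surjective (algebraMap (MvPolynomial (Fin n) R) B) := hφ
  have hk : (RingHom.ker (algebraMap (MvPolynomial (Fin n) R) B)).FG := hker
  letI : Module (MvPolynomial (Fin n) R) F := Module.compHom F (algebraMap (MvPolynomial (Fin n) R) B)
  letI : Module (MvPolynomial (Fin n) R) G := Module.compHom G (algebraMap (MvPolynomial (Fin n) R) B)
  letI : Module (MvPolynomial (Fin n) R) H := Module.compHom H (algebraMap (MvPolynomial (Fin n) R) B)
  haveI : IsScalarTower (MvPolynomial (Fin n) R) B F :=
    ⟨fun p b x => by
      show (algebraMap (MvPolynomial (Fin n) R) B p * b) • x =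
        algebraMap (MvPolynomial (Fin n) R) B p • (b • x)
      rw [mul_smul]⟩
  haveI : IsScalarTower (MvPolynomial (Fin n) R) B G :=
    ⟨fun p b x => by
      show (algebraMap (MvPolynomial (Fin n) R) B p * b) • x =
        algebraMap (MvPolynomial (Fin n) R) B p • (b • x)
      rw [mul_smul]⟩
  haveI : IsScalarTower (MvPolynomial (Fin n) R) B H :=
    ⟨fun p b x => by
      show (algebraMap (MvPolynomial (Fin n) R) B p * b) • x =
        algebraMap (MvPolynomial (Fin n) R) B p • (b • x)
      rw [mul_smul]⟩
  haveI : IsScalarTower R (MvPolynomial (Fin n) R) F :=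
    ⟨fun r p x => by
      show algebraMap (MvPolynomial (Fin n) R) B (r • p) • x =
        r • (algebraMap (MvPolynomial (Fin n) R) B p • x)
      rw [Algebra.smul_def, map_mul, ← IsScalarTower.algebraMap_apply, mul_smul, algebraMap_smul]⟩
  haveI : IsScalarTower R (MvPolynomial (Fin n) R) G :=
    ⟨fun r p x => by
      show algebraMap (MvPolynomial (Fin n) R) B (r • p) • x =
        r • (algebraMap (MvPolynomial (Fin n) R) B p • x)
      rw [Algebra.smul_def, map_mul, ← IsScalarTower.algebraMap_apply, mul_smul, algebraMap_smul]⟩
  haveI : IsScalarTower R (MvPolynomial (Fin n) R) H :=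
    ⟨fun r p x => by
      show algebraMap (MvPolynomial (Fin n) R) B (r • p) • x =
        r • (algebraMap (MvPolynomial (Fin n) R) B p • x)
      rw [Algebra.smul_def, map_mul, ← IsScalarTower.algebraMap_apply, mul_smul, algebraMap_smul]⟩
  haveI : Module.FinitePresentation (MvPolynomial (Fin n) R) F := fp_compHom hs hk F
  haveI : Module.FinitePresentation (MvPolynomial (Fin n) R) G := fp_compHom hs hk G
  haveI : Module.FinitePresentation (MvPolynomial (Fin n) R) H := fp_compHom hs hk H
  obtain ⟨a, b, c, c', D, hD⟩ := exists_MD (u.restrictScalars (MvPolynomial (Fin n) R))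
    (v.restrictScalars (MvPolynomial (Fin n) R))
  have h1 : {p : PrimeSpectrum R |
      Function.Exact ((u.restrictScalars R).baseChange p.asIdeal.ResidueField)
        ((v.restrictScalars R).baseChange p.asIdeal.ResidueField)} =
      EL ((u.restrictScalars (MvPolynomial (Fin n) R)).restrictScalars R)
        ((v.restrictScalars (MvPolynomial (Fin n) R)).restrictScalars R) := rfl
  rw [h1, hD]
  exact D.isConstructible_EM

end Groth.Agent.Helper2.FibExC
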