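import Mathlib
import Groth.Prelude
import Groth.Agent.Helper2.FibFD4
import Groth.Agent.Helper2.FlatLocusMod
import Groth.Agent.Helper5.GenFlat3
import Groth.Agent.Helper5.KLem11
import Groth.Agent.Helper5.ConsLc1
import Groth.Agent.Helper4.FinLocFree2

set_option autoImplicit false
set_option linter.unusedVariables false
open CategoryTheory CategoryTheory.Limits AlgebraicGeometry TopologicalSpace Topology TensorProduct
universe u

namespace Groth.Agent.Helper2.FibFD

theorem s4833_aux {X Y S : Scheme.{u}} [IsIntegral S] [IsNoetherian S]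
    (g : X ⟶ Y) (h : Y ⟶ S) [LocallyOfFiniteType h] [QuasiCompact h]
    [LocallyOfFiniteType (g ≫ h)] [QuasiCompact (g ≫ h)]
    (F : X.Modules) [Coh.IsQCoh F] (hF : CohB1.IsFP F)
    (hη : ¬ FlatMod.IsFlatOver (MoreMor.fiberMap g h (genericPoint S))
      ((Scheme.Modules.pullback ((g ≫ h).fiberι (genericPoint S))).obj F)) :
    ∃ U : S.Opens, genericPoint S ∈ U ∧ ∀ s ∈ U, ¬ FlatMod.IsFlatOver (MoreMor.fiberMap g h s)
      ((Scheme.Modules.pullback ((g ≫ h).fiberι s)).obj F) := by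
  haveI : F.IsQuasicoherent := ‹Coh.IsQCoh F›
  have hYN1 : IsLocallyNoetherian Y := LocallyOfFiniteType.isLocallyNoetherian h
  have hXN1 : IsLocallyNoetherian X := LocallyOfFiniteType.isLocallyNoetherian (g ≫ h)
  have hXN2 : CompactSpace X := QuasiCompact.compactSpace_of_compactSpace (g ≫ h)
  have hXN : IsNoetherian X := {}
  have hglft : LocallyOfFiniteType g := locallyOfFiniteType_of_comp g h
  have hgfp : LocallyOfFinitePresentation g :=
    LocallyOfFinitePresentation.iff_locallyOfFiniteType.mpr hglft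
  have hufp : LocallyOfFinitePresentation (g ≫ h) :=
    LocallyOfFinitePresentation.iff_locallyOfFiniteType.mpr inferInstance
  have hft := Groth.Agent.Helper4.FinLocFree2.isFiniteType_of_isFinitePresentation F hF
  obtain ⟨U₀, hU₀, hflat⟩ := Groth.Agent.Helper5.GenFlat.main (g ≫ h) F ‹Coh.IsQCoh F› hft
  let W : Set X := {x | FlatMod.IsFlatOverAt g F x}
  have hW : IsOpen W := Groth.Agent.Helper2.FlatLocusMod.isOpen_isFlatOverAt g F hF
  have hZ : IsLocallyConstructible Wᶜ :=
    (Groth.Agent.Helper5.ConsLc.isConstructible_of_isClosed_noeth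
      hW.isClosed_compl).isLocallyConstructible
  have hB : IsLocallyConstructible ((g ≫ h) '' Wᶜ) := (g ≫ h).isLocallyConstructible_image hZ
  let η := genericPoint S
  have hηmax : ∀ η' : S, η' ⤳ η → η' = η := by
    intro η' hη'
    have h1 : η ⤳ η' := by
      rw [specializes_iff_mem_closure, genericPoint_closure]; trivial
    exact (hη'.antisymm h1).eq
  have hηU : η ∈ U₀ := by
    obtain ⟨t, ht⟩ := hU₀
    have h1 : η ⤳ t := by
      rw [specializes_iff_mem_closure, genericPoint_closure]; trivial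
    exact h1.mem_open U₀.isOpen ht
  have hηB : η ∈ (g ≫ h) '' Wᶜ := by
    unfold FlatMod.IsFlatOver at hη
    push_neg at hη
    obtain ⟨x', hx'⟩ := hη
    refine ⟨(g ≫ h).fiberι η x', fun hxW => hx' ?_,
      Groth.Agent.Helper5.FibStalk.fiberι_apply (g ≫ h) η x'⟩
    exact isFlatOverAt_fibre_of_isFlatOverAt g h F η x' hxW
  have h1 : (g ≫ h) '' Wᶜ ∈ nhds η := by
    refine Groth.Agent.Helper5.KLem.mem_nhds_of_isLocallyConstructible _ hB η ?_
    intro t ht
    rw [hηmax t ht]
    exact hηB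
  obtain ⟨U₁, hU₁B, hU₁o, hηU₁⟩ := mem_nhds_iff.mp h1
  refine ⟨⟨U₁, hU₁o⟩ ⊓ U₀, ⟨hηU₁, hηU⟩, ?_⟩
  rintro s ⟨hs1, hs0⟩ hfl
  obtain ⟨x, hxW, hxs⟩ := hU₁B hs1
  have hxr : x ∈ Set.range ((g ≫ h).fiberι s) := by
    rw [Scheme.Hom.range_fiberι]; exact hxs
  obtain ⟨x', rfl⟩ := hxr
  refine hxW (isFlatOverAt_of_fibre g h F hF s x' (hflat _ ?_) (hfl x'))
  rw [hxs]; exact hs0

end Groth.Agent.Helper2.FibFD
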