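import Mathlib
import Groth.Prelude.Def_CAlg
import Groth.Prelude.Def_EGA4b
import Groth.Agent.Helper9.ReflKer

set_option linter.style.haveILetI false
set_option linter.unusedSectionVars false
set_option autoImplicit false

/-! The fibre stalk of a module which is free at a prime is a free module over the fibre local
ring; depth bounds. -/

namespace Groth.Agent.Helper2.FibFreeB

open TensorProduct

universe u

theorem exists_quot_equiv_pi (R : Type u) [CommRing R] (I : Ideal R) (M : Type u) [AddCommGroup M]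
    [Module R M] [Module.Free R M] [Module.Finite R M] :
    ∃ r : ℕ, Nonempty ((M ⧸ I • (⊤ : Submodule R M)) ≃ₗ[R ⧸ I] (Fin r → R ⧸ I)) := by
  rcases subsingleton_or_nontrivial R with hR | hR
  · haveI : Subsingleton (R ⧸ I) := (Ideal.Quotient.mk_surjective).subsingleton
    haveI : Subsingleton M := Module.subsingleton R M
    exact ⟨0, ⟨LinearEquiv.ofSubsingleton _ _⟩⟩
  let e : M ≃ₗ[R] (Fin (Module.finrank R M) → R) := (Module.finBasis R M).equivFun
  let e1 : (M ⧸ I • (⊤ : Submodule R M)) ≃ₗ[R] (R ⧸ I) ⊗[R] M :=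
    (TensorProduct.quotTensorEquivQuotSMul M I).symm
  let e2 : (R ⧸ I) ⊗[R] M ≃ₗ[R] (R ⧸ I) ⊗[R] (Fin (Module.finrank R M) → R) :=
    LinearEquiv.lTensor (R ⧸ I) e
  let e3 : (R ⧸ I) ⊗[R] (Fin (Module.finrank R M) → R) ≃ₗ[R ⧸ I]
      (Fin (Module.finrank R M) → R ⧸ I) :=
    TensorProduct.piScalarRight R (R ⧸ I) (R ⧸ I) (Fin (Module.finrank R M))
  exact ⟨Module.finrank R M, ⟨(e1 ≪≫ₗ e2 ≪≫ₗ e3.restrictScalars R).extendScalarsOfSurjective
    Ideal.Quotient.mk_surjective⟩⟩

variable (A B : Type u) [CommRing A] [CommRing B] [Algebra A B] (q : Ideal B) [q.IsPrime]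
  (E : Type u) [AddCommGroup E] [Module B E]

theorem one_le_fibdepth [Module.Finite B E]
    [Module.Free (Localization.AtPrime q) (LocalizedModule q.primeCompl E)]
    (h : 1 ≤ LocCoh.idealDepth (q.map (algebraMap B (EGA4.FibLocRing A B q)))
      (EGA4.FibLocRing A B q)) :
    1 ≤ LocCoh.idealDepth (q.map (algebraMap B (EGA4.FibLocRing A B q)))
      (EGA4.FibLocMod A B q E) := by
  haveI : Module.Finite (Localization.AtPrime q) (LocalizedModule q.primeCompl E) :=
    Module.Finite.of_isLocalizedModule q.primeCompl (LocalizedModule.mkLinearMap q.primeCompl E)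
  obtain ⟨r, ⟨e⟩⟩ := exists_quot_equiv_pi (Localization.AtPrime q)
    ((q.comap (algebraMap A B)).map (algebraMap A (Localization.AtPrime q)))
    (LocalizedModule q.primeCompl E)
  rw [Groth.Agent.Helper9.ReflKer.idealDepth_congr _ e]
  exact Groth.Agent.Helper9.ReflKer.one_le_idealDepth_pi _ _ r h

theorem two_le_fibdepth [Module.Finite B E]
    [Module.Free (Localization.AtPrime q) (LocalizedModule q.primeCompl E)]
    (h : 2 ≤ LocCoh.idealDepth (q.map (algebraMap B (EGA4.FibLocRing A B q)))
      (EGA4.FibLocRing A B q)) :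
    2 ≤ LocCoh.idealDepth (q.map (algebraMap B (EGA4.FibLocRing A B q)))
      (EGA4.FibLocMod A B q E) := by
  haveI : Module.Finite (Localization.AtPrime q) (LocalizedModule q.primeCompl E) :=
    Module.Finite.of_isLocalizedModule q.primeCompl (LocalizedModule.mkLinearMap q.primeCompl E)
  obtain ⟨r, ⟨e⟩⟩ := exists_quot_equiv_pi (Localization.AtPrime q)
    ((q.comap (algebraMap A B)).map (algebraMap A (Localization.AtPrime q)))
    (LocalizedModule q.primeCompl E)
  rw [Groth.Agent.Helper9.ReflKer.idealDepth_congr _ e]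
  exact Groth.Agent.Helper9.ReflKer.two_le_idealDepth_pi _ _ r h

end Groth.Agent.Helper2.FibFreeB
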