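import Mathlib
import Groth.Prelude

set_option autoImplicit false
universe u

namespace Groth.Agent.Helper2.FibIso

open TensorProduct

/-- a finite module with `mQ = Q` for all maximal `m` is zero. -/
theorem subsingleton_of_forall_smul_top {R Q : Type*} [CommRing R] [AddCommGroup Q] [Module R Q]
    [Module.Finite R Q] (h : ∀ (m : Ideal R) [m.IsMaximal], m • (⊤ : Submodule R Q) = ⊤) :
    Subsingleton Q := by
  by_contra hns
  rw [not_subsingleton_iff_nontrivial] at hns
  have hJ : Module.annihilator R Q ≠ ⊤ := by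
    intro hJ
    have h1 : (1 : R) ∈ Module.annihilator R Q := hJ ▸ Submodule.mem_top
    rw [Module.mem_annihilator] at h1
    obtain ⟨x, y, hxy⟩ := hns
    exact hxy (by rw [← one_smul R x, ← one_smul R y, h1 x, h1 y])
  obtain ⟨m, hm, hJm⟩ := Ideal.exists_le_maximal _ hJ
  obtain ⟨r, hr1, hr2⟩ := Submodule.exists_sub_one_mem_and_smul_eq_zero_of_fg_of_le_smul m
    (⊤ : Submodule R Q) Module.Finite.fg_top (h m).ge
  have hrJ : r ∈ Module.annihilator R Q := by
    rw [Module.mem_annihilator]
    exact fun q => hr2 q Submodule.mem_top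
  have : (1 : R) ∈ m := by
    have := m.sub_mem (hJm hrJ) hr1
    simpa using this
  exact hm.ne_top ((Ideal.eq_top_iff_one _).mpr this)

theorem surjective_of_lTensor_residueField {R A B : Type*} [CommRing R] [AddCommGroup A]
    [Module R A] [AddCommGroup B] [Module R B] [Module.Finite R A] (f : B →ₗ[R] A)
    (h : ∀ (m : Ideal R) [m.IsMaximal],
      Function.Surjective (LinearMap.lTensor m.ResidueField f)) :
    Function.Surjective f := by
  rw [← LinearMap.range_eq_top]
  set N := LinearMap.range f with hN
  suffices hs : Subsingleton (A ⧸ N) from Submodule.Quotient.subsingleton_iff.mp hs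
  apply subsingleton_of_forall_smul_top (R := R)
  intro m _
  have hsub : Subsingleton (m.ResidueField ⊗[R] (A ⧸ N)) := by
    have hπ : Function.Surjective (LinearMap.lTensor m.ResidueField N.mkQ) :=
      LinearMap.lTensor_surjective _ (Submodule.mkQ_surjective N)
    have hzero : (LinearMap.lTensor m.ResidueField N.mkQ).comp
        (LinearMap.lTensor m.ResidueField f) = 0 := by
      rw [← LinearMap.lTensor_comp]
      have : N.mkQ.comp f = 0 := by
        ext b
        simp only [LinearMap.comp_apply, Submodule.mkQ_apply, LinearMap.zero_apply,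
          Submodule.Quotient.mk_eq_zero]
        exact LinearMap.mem_range_self f b
      rw [this, LinearMap.lTensor_zero]
    refine ⟨fun x y => ?_⟩
    have h0 : ∀ z : m.ResidueField ⊗[R] (A ⧸ N), z = 0 := by
      intro z
      obtain ⟨w, rfl⟩ := hπ z
      obtain ⟨v, rfl⟩ := h m w
      exact LinearMap.congr_fun hzero v
    rw [h0 x, h0 y]
  let e1 : (R ⧸ m) ≃ₗ[R] m.ResidueField :=
    LinearEquiv.ofBijective (IsScalarTower.toAlgHom R (R ⧸ m) m.ResidueField).toLinearMap
      (Ideal.bijective_algebraMap_quotient_residueField m)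
  let e2 : m.ResidueField ⊗[R] (A ⧸ N) ≃ₗ[R] (A ⧸ N) ⧸ (m • (⊤ : Submodule R (A ⧸ N))) :=
    (TensorProduct.congr e1.symm (LinearEquiv.refl R _)) ≪≫ₗ
      TensorProduct.quotTensorEquivQuotSMul (A ⧸ N) m
  have : Subsingleton ((A ⧸ N) ⧸ (m • (⊤ : Submodule R (A ⧸ N)))) := e2.symm.toEquiv.subsingleton
  exact Submodule.Quotient.subsingleton_iff.mp this

section loc

variable {R A B : Type u} [CommRing R] [CommRing A] [CommRing B] [Algebra R A] [Algebra R B]
  [Module.Finite R A] [Module.Flat R A] [Algebra.FiniteType R B]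
  (f : B →ₐ[R] A) (p : Ideal R) [p.IsPrime]

/-- base change of `f` to the local ring at `p`. -/
noncomputable abbrev f' : Localization.AtPrime p ⊗[R] B →ₐ[Localization.AtPrime p]
    Localization.AtPrime p ⊗[R] A :=
  Algebra.TensorProduct.map (AlgHom.id (Localization.AtPrime p) (Localization.AtPrime p)) f

theorem f'_surjective (hf : Function.Surjective f) : Function.Surjective (f' f p) := by
  have : (f' f p : Localization.AtPrime p ⊗[R] B → Localization.AtPrime p ⊗[R] A) =
      TensorProduct.map (LinearMap.id) f.toLinearMap := by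
    ext z
    induction z using TensorProduct.induction_on with
    | zero => simp
    | tmul x y => simp
    | add x y hx hy => simp only [map_add, hx, hy]
  rw [this]
  exact TensorProduct.map_surjective Function.surjective_id hf

theorem ker_f'_fg (hf : Function.Surjective f) : (RingHom.ker (f' f p)).FG := by
  haveI : Module.Free (Localization.AtPrime p) (Localization.AtPrime p ⊗[R] A) :=
    Module.free_of_flat_of_isLocalRing
  haveI : Module.FinitePresentation (Localization.AtPrime p) (Localization.AtPrime p ⊗[R] A) :=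
    Module.finitePresentation_of_projective _ _
  obtain ⟨n, g, hg⟩ := Algebra.FiniteType.iff_quotient_mvPolynomial''.mp
    (inferInstance : Algebra.FiniteType (Localization.AtPrime p) (Localization.AtPrime p ⊗[R] B))
  have h1 := Algebra.FinitePresentation.ker_fG_of_surjective ((f' f p).comp g)
    ((f'_surjective f p hf).comp hg)
  have h2 : RingHom.ker (f' f p) = (RingHom.ker ((f' f p).comp g).toRingHom).map g.toRingHom := by
    have h3 : RingHom.ker ((f' f p).comp g).toRingHom =
        (RingHom.ker (f' f p)).comap g.toRingHom := by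
      ext x
      simp [RingHom.mem_ker, Ideal.mem_comap]
    rw [h3]
    exact (Ideal.map_comap_of_surjective g.toRingHom hg _).symm
  rw [h2]
  exact h1.map _

theorem mem_smul_top_of_mem_ker
    (hinj : Function.Injective (LinearMap.lTensor p.ResidueField f.toLinearMap))
    (k : Localization.AtPrime p ⊗[R] B) (hk : k ∈ RingHom.ker (f' f p)) :
    k ∈ (IsLocalRing.maximalIdeal (Localization.AtPrime p)) •
      (⊤ : Submodule (Localization.AtPrime p) (Localization.AtPrime p ⊗[R] B)) := by
  set R' := Localization.AtPrime p with hR'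
  set m' := IsLocalRing.maximalIdeal R' with hm'
  -- the element 1 ⊗ k of κ ⊗[R'] (R' ⊗ B)
  let cbB := TensorProduct.AlgebraTensorModule.cancelBaseChange R R' R' (R' ⧸ m') B
  let cbA := TensorProduct.AlgebraTensorModule.cancelBaseChange R R' R' (R' ⧸ m') A
  have hnat : ∀ z : (R' ⧸ m') ⊗[R'] (R' ⊗[R] B),
      (LinearMap.lTensor (R' ⧸ m') f.toLinearMap) (cbB z) =
        cbA ((LinearMap.lTensor (R' ⧸ m') (f' f p).toLinearMap) z) := by
    intro z
    induction z using TensorProduct.induction_on with
    | zero => simp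
    | add x y hx hy => simp only [map_add, hx, hy]
    | tmul c w =>
      induction w using TensorProduct.induction_on with
      | zero => simp
      | add x y hx hy =>
        simp only [TensorProduct.tmul_add, map_add] at hx hy ⊢
        rw [hx, hy]
      | tmul r b =>
        rw [LinearMap.lTensor_tmul]
        have hfr : (f' f p).toLinearMap (r ⊗ₜ[R] b) = r ⊗ₜ[R] f b := by simp [f']
        rw [hfr]
        simp only [cbB, cbA, TensorProduct.AlgebraTensorModule.cancelBaseChange_tmul,
          LinearMap.lTensor_tmul]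
        rfl
  have h1 : (LinearMap.lTensor (R' ⧸ m') f.toLinearMap) (cbB ((1 : R' ⧸ m') ⊗ₜ[R'] k)) = 0 := by
    rw [hnat, LinearMap.lTensor_tmul]
    have : (f' f p).toLinearMap k = 0 := hk
    rw [this, TensorProduct.tmul_zero, map_zero]
  have hinj' : Function.Injective (LinearMap.lTensor (R' ⧸ m') f.toLinearMap) := hinj
  have h2 : cbB ((1 : R' ⧸ m') ⊗ₜ[R'] k) = 0 := hinj' (by rw [h1, map_zero])
  have h3 : ((1 : R' ⧸ m') ⊗ₜ[R'] k) = 0 := by
    have := congrArg cbB.symm h2
    simpa using this
  have h4 := congrArg (TensorProduct.quotTensorEquivQuotSMul (R' ⊗[R] B) m') h3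
  rw [TensorProduct.quotTensorEquivQuotSMul_mk_one_tmul, map_zero,
    Submodule.Quotient.mk_eq_zero] at h4
  exact h4

theorem exists_mul_ker_eq_zero (hf : Function.Surjective f)
    (hinj : Function.Injective (LinearMap.lTensor p.ResidueField f.toLinearMap)) :
    ∃ t : Localization.AtPrime p ⊗[R] B,
      t - 1 ∈ (IsLocalRing.maximalIdeal (Localization.AtPrime p)).map
        (algebraMap (Localization.AtPrime p) (Localization.AtPrime p ⊗[R] B)) ∧
      ∀ k ∈ RingHom.ker (f' f p), t * k = 0 := by
  set R' := Localization.AtPrime p with hR'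
  set m' := IsLocalRing.maximalIdeal R' with hm'
  set I := m'.map (algebraMap R' (R' ⊗[R] B)) with hI
  haveI : Module.Free R' (R' ⊗[R] A) := Module.free_of_flat_of_isLocalRing
  -- a linear section of f'
  obtain ⟨σ, hσ⟩ := Module.projective_lifting_property (f' f p).toLinearMap
    (LinearMap.id : (R' ⊗[R] A) →ₗ[R'] (R' ⊗[R] A)) (f'_surjective f p hf)
  let π : (R' ⊗[R] B) →ₗ[R'] (R' ⊗[R] B) := LinearMap.id - σ.comp (f' f p).toLinearMap
  let K : Submodule R' (R' ⊗[R] B) := LinearMap.ker (f' f p).toLinearMap
  have hπK : ∀ x, π x ∈ K := by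
    intro x
    show (f' f p).toLinearMap (π x) = 0
    have h1 : (f' f p).toLinearMap (σ ((f' f p).toLinearMap x)) = (f' f p).toLinearMap x :=
      LinearMap.congr_fun hσ ((f' f p).toLinearMap x)
    simp only [π, LinearMap.sub_apply, LinearMap.id_apply, LinearMap.comp_apply, map_sub, h1,
      sub_self]
  have hπk : ∀ k ∈ RingHom.ker (f' f p), π k = k := by
    intro k hk
    have : (f' f p).toLinearMap k = 0 := hk
    simp only [π, LinearMap.sub_apply, LinearMap.id_apply, LinearMap.comp_apply, this, map_zero,
      sub_zero]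
  have hle : RingHom.ker (f' f p) ≤ I • RingHom.ker (f' f p) := by
    intro k hk
    have h1 : k ∈ m' • (⊤ : Submodule R' (R' ⊗[R] B)) := mem_smul_top_of_mem_ker f p hinj k hk
    have h2 : π k ∈ (m' • (⊤ : Submodule R' (R' ⊗[R] B))).map π := Submodule.mem_map_of_mem h1
    rw [Submodule.map_smul'', hπk k hk] at h2
    have h3 : m' • (Submodule.map π ⊤) ≤ m' • K := by
      apply Submodule.smul_mono le_rfl
      rintro _ ⟨x, -, rfl⟩
      exact hπK x
    have h4 := h3 h2
    refine Submodule.smul_induction_on h4 ?_ ?_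
    · intro r hr n hn
      have hrn : r • n = algebraMap R' (R' ⊗[R] B) r * n := Algebra.smul_def r n
      have hmem : algebraMap R' (R' ⊗[R] B) r * n ∈ I • RingHom.ker (f' f p) :=
        Submodule.smul_mem_smul (Ideal.mem_map_of_mem _ hr) hn
      rw [← hrn] at hmem
      exact hmem
    · intro x y hx hy
      exact Submodule.add_mem _ hx hy
  obtain ⟨t, ht1, ht2⟩ := Submodule.exists_sub_one_mem_and_smul_eq_zero_of_fg_of_le_smul I
    (RingHom.ker (f' f p)) (ker_f'_fg f p hf) hle
  exact ⟨t, ht1, fun k hk => ht2 k hk⟩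

end loc

section fin

variable {R A B : Type u} [CommRing R] [CommRing A] [CommRing B] [Algebra R A] [Algebra R B]
  [Module.Finite R A]

theorem injective_lTensor_of_rank_eq (f : B →ₐ[R] A) (hf : Function.Surjective f)
    (κ : Type u) [Field κ] [Algebra R κ]
    (hrank : Module.rank κ (κ ⊗[R] B) = Module.rank κ (κ ⊗[R] A)) :
    Function.Injective (LinearMap.lTensor κ f.toLinearMap) := by
  haveI : Module.Finite κ (κ ⊗[R] A) := inferInstance
  have hlt : Module.rank κ (κ ⊗[R] B) < Cardinal.aleph0 := hrank ▸ Module.rank_lt_aleph0 κ _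
  haveI : Module.Finite κ (κ ⊗[R] B) := Module.rank_lt_aleph0_iff.mp hlt
  have hfin : Module.finrank κ (κ ⊗[R] B) = Module.finrank κ (κ ⊗[R] A) :=
    congrArg Cardinal.toNat hrank
  have hs : Function.Surjective (f.toLinearMap.baseChange κ) := by
    rw [LinearMap.baseChange_eq_ltensor]
    exact LinearMap.lTensor_surjective _ hf
  have := (LinearMap.injective_iff_surjective_of_finrank_eq_finrank hfin
    (f := f.toLinearMap.baseChange κ)).mpr hs
  rwa [LinearMap.baseChange_eq_ltensor] at this

end fin

section main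

variable {R A B : Type u} [CommRing R] [CommRing A] [CommRing B] [Algebra R A] [Algebra R B]
  [Module.Finite R A] [Module.Flat R A] [Algebra.FiniteType R B]

theorem injective_of (f : B →ₐ[R] A) (hf : Function.Surjective f)
    (hinj : ∀ (p : Ideal R) [p.IsPrime],
      Function.Injective (LinearMap.lTensor p.ResidueField f.toLinearMap)) :
    Function.Injective f := by
  rw [injective_iff_map_eq_zero]
  intro b hb
  by_contra hb0
  -- annihilator of b
  let J : Ideal B := Ideal.span {b} |>.annihilator
  have hJ : ∀ x : B, x ∈ J ↔ x * b = 0 := by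
    intro x
    simp only [J, Submodule.mem_annihilator_span_singleton, smul_eq_mul]
  have hJne : J ≠ ⊤ := by
    intro h
    have : (1 : B) ∈ J := h ▸ Submodule.mem_top
    rw [hJ, one_mul] at this
    exact hb0 this
  obtain ⟨q, hqmax, hJq⟩ := Ideal.exists_le_maximal J hJne
  haveI : q.IsPrime := hqmax.isPrime
  let p : Ideal R := q.comap (algebraMap R B)
  haveI : p.IsPrime := Ideal.comap_isPrime _ _
  obtain ⟨t, ht1, ht2⟩ := exists_mul_ker_eq_zero f p hf (hinj p)
  set R' := Localization.AtPrime p with hR'
  set Bq := Localization.AtPrime q with hBq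
  -- the map R' → B_q
  have hunit : ∀ y : p.primeCompl, IsUnit ((Algebra.ofId R Bq) y) := by
    intro y
    have : algebraMap R B y ∈ q.primeCompl := y.2
    show IsUnit (algebraMap R Bq y)
    rw [IsScalarTower.algebraMap_apply R B Bq]
    exact IsLocalization.map_units Bq ⟨_, this⟩
  let g1 : R' →ₐ[R] Bq := IsLocalization.liftAlgHom (M := p.primeCompl) (f := Algebra.ofId R Bq) hunit
  let g2 : B →ₐ[R] Bq := IsScalarTower.toAlgHom R B Bq
  let χ : R' ⊗[R] B →ₐ[R] Bq := Algebra.TensorProduct.lift g1 g2 (fun _ _ => Commute.all _ _)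
  have hχ1 : ∀ x : R', χ (algebraMap R' (R' ⊗[R] B) x) = g1 x := by
    intro x
    rw [Algebra.TensorProduct.algebraMap_apply]
    simp [χ]
  have hχ2 : ∀ y : B, χ ((1 : R') ⊗ₜ[R] y) = algebraMap B Bq y := by
    intro y
    simp [χ, g2]
  have hg1 : ∀ x ∈ IsLocalRing.maximalIdeal R', g1 x ∈ IsLocalRing.maximalIdeal Bq := by
    intro x hx
    rw [← Localization.AtPrime.map_eq_maximalIdeal] at hx
    have hle : p.map (algebraMap R R') ≤ (IsLocalRing.maximalIdeal Bq).comap g1.toRingHom := by
      rw [Ideal.map_le_iff_le_comap]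
      intro r hr
      rw [Ideal.mem_comap, Ideal.mem_comap]
      have : g1.toRingHom (algebraMap R R' r) = algebraMap B Bq (algebraMap R B r) := by
        show g1 (algebraMap R R' r) = _
        rw [AlgHom.commutes, IsScalarTower.algebraMap_apply R B Bq]
      rw [this]
      exact (IsLocalization.AtPrime.to_map_mem_maximal_iff Bq q _).mpr hr
    exact hle hx
  have hχI : ∀ x ∈ (IsLocalRing.maximalIdeal R').map (algebraMap R' (R' ⊗[R] B)),
      χ x ∈ IsLocalRing.maximalIdeal Bq := by
    have hle : (IsLocalRing.maximalIdeal R').map (algebraMap R' (R' ⊗[R] B)) ≤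
        (IsLocalRing.maximalIdeal Bq).comap χ.toRingHom := by
      rw [Ideal.map_le_iff_le_comap]
      intro x hx
      rw [Ideal.mem_comap, Ideal.mem_comap]
      show χ (algebraMap R' (R' ⊗[R] B) x) ∈ _
      rw [hχ1]
      exact hg1 x hx
    exact fun x hx => hle hx
  have hunit_t : IsUnit (χ t) := by
    have h1 : χ (t - 1) ∈ IsLocalRing.maximalIdeal Bq := hχI _ ht1
    have h2 : (1 - χ t) ∈ nonunits Bq := by
      have : 1 - χ t = - χ (t - 1) := by rw [map_sub, map_one]; ring
      rw [this]
      exact (IsLocalRing.maximalIdeal Bq).neg_mem h1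
    have := IsLocalRing.isUnit_one_sub_self_of_mem_nonunits _ h2
    simpa using this
  have hker : (1 : R') ⊗ₜ[R] b ∈ RingHom.ker (f' f p) := by
    rw [RingHom.mem_ker]
    simp [f', hb]
  have h0 : χ t * algebraMap B Bq b = 0 := by
    rw [← hχ2, ← map_mul, ht2 _ hker, map_zero]
  have h1 : algebraMap B Bq b = 0 := by
    rcases hunit_t with ⟨u, hu⟩
    rw [← hu] at h0
    exact (Units.mul_right_eq_zero u).mp h0
  rw [IsLocalization.map_eq_zero_iff q.primeCompl Bq] at h1
  obtain ⟨s, hs⟩ := h1
  exact s.2 (hJq ((hJ _).mpr hs))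

theorem s13632
    (f : B →ₐ[R] A)
    (hrank : ∀ p : PrimeSpectrum R,
      Module.rank p.asIdeal.ResidueField (p.asIdeal.ResidueField ⊗[R] B) =
        Module.rank p.asIdeal.ResidueField (p.asIdeal.ResidueField ⊗[R] A))
    (hmax : ∀ (m : Ideal R) [m.IsMaximal],
      Function.Bijective (LinearMap.lTensor m.ResidueField f.toLinearMap)) :
    Function.Bijective f := by
  have hsurj : Function.Surjective f :=
    surjective_of_lTensor_residueField f.toLinearMap (fun m _ => (hmax m).2)
  refine ⟨injective_of f hsurj ?_, hsurj⟩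
  intro p _
  exact injective_lTensor_of_rank_eq f hsurj p.ResidueField (hrank ⟨p, inferInstance⟩)

end main

end Groth.Agent.Helper2.FibIso
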