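import Mathlib
import Groth.Prelude
import Groth.Agent.Helper2.FibLF4
import Groth.Agent.Helper4.FinLocFree7

set_option autoImplicit false
set_option linter.unusedVariables false
open CategoryTheory CategoryTheory.Limits AlgebraicGeometry TopologicalSpace Topology TensorProduct
universe u

namespace Groth.Agent.Helper2.FibLF

open Groth.Agent.Helper4 Groth.Agent.Helper4.FinLocFree Groth.Agent.Helper5.ConsPr

/-- the local rank of a locally free module is well defined -/
theorem rank_unique {Z : Scheme.{u}} (G : Z.Modules) [G.IsQuasicoherent] {V V' : Z.Opens}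
    {m n : ℕ} (h : IsFreeAlong G V.ι m) (h' : IsFreeAlong G V'.ι n) (x : Z) (hx : x ∈ V)
    (hx' : x ∈ V') : m = n := by
  obtain ⟨b⟩ := FinLocFree2.nonempty_basis_stalk_of_isFreeAlong G h x hx
  obtain ⟨b'⟩ := FinLocFree2.nonempty_basis_stalk_of_isFreeAlong G h' x hx'
  have := Fintype.card_eq.mpr ⟨b.indexEquiv b'⟩
  simpa using this

/-- the relation "the module is locally free of rank `n`" -/
def PLFn (n : ℕ) : ∀ ⦃Y T : Scheme.{u}⦄, (Y ⟶ T) → Y.Modules → Prop :=
  fun _ _ _ M => FlatMod.IsFinLocFreeOfRank n M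

theorem fieldStable_isFinLocFreeOfRank (n : ℕ) :
    ConsProp.IsFieldStableMod (PLFn.{u} n) := by
  intro Y Y' T T' g g' e h _ _ _ _ _ _ sq F F' hF iso
  constructor
  · intro hM
    exact Groth.Agent.Helper2.FinLocFreeLim.isFinLocFreeOfRank_of_iso iso.symm
      (Groth.Agent.Helper2.FinLocFreeLim.isFinLocFreeOfRank_pullback e hM)
  · intro hM'
    have hMn : FlatMod.IsFinLocFreeOfRank n ((Scheme.Modules.pullback e).obj F) :=
      Groth.Agent.Helper2.FinLocFreeLim.isFinLocFreeOfRank_of_iso iso hM'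
    have hM' : FlatMod.IsFinLocFree F' := FinLocFree7.isFinLocFree_of_rank _ hM'
    have hlf : FlatMod.IsFinLocFree F :=
      (fieldStable_isFinLocFree g g' e h sq F F' hF iso).mpr hM'
    have : Nonempty T' := inferInstance
    have hh : Surjective h := surjective_of_subsingleton h
    have hesurj : Surjective e := MorphismProperty.of_isPullback sq.flip hh
    haveI : F.IsQuasicoherent := hF.1
    haveI : ((Scheme.Modules.pullback e).obj F).IsQuasicoherent :=
      Groth.Agent.Lead.StalkPull.isQuasicoherent_pullbackObj e F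
    intro y
    obtain ⟨y', rfl⟩ := hesurj.surj y
    obtain ⟨V, m, hyV, hV⟩ := hlf (e y')
    obtain ⟨V', hyV', hV'⟩ := hMn y'
    have h1 := Groth.Agent.Helper2.FinLocFreeLim.isFreeAlong_pullback e hV
    have hmn : m = n := rank_unique _ h1 hV' y' hyV hyV'
    subst hmn
    exact ⟨V, hyV, hV⟩

theorem isConsMod_isFinLocFreeOfRank (n : ℕ) : ConsProp.IsConsMod (PLFn.{u} n) := by
  refine ⟨fieldStable_isFinLocFreeOfRank n, ?_⟩
  intro X S u _ _ _ _ F hF
  have hXN1 : IsLocallyNoetherian X := LocallyOfFiniteType.isLocallyNoetherian u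
  have hufp : LocallyOfFinitePresentation u :=
    LocallyOfFinitePresentation.iff_locallyOfFiniteType.mpr inferInstance
  haveI : F.IsQuasicoherent := hF.1
  have hfp := CohFP.isFP_of_isCoh F hF.1 hF.2
  obtain ⟨U₀, hU₀, hflat⟩ := Groth.Agent.Helper5.GenFlat.main u F hF.1 hF.2
  let W : Set X := {x | ∃ (V : X.Opens), x ∈ V ∧ IsFreeAlong F V.ι n}
  have hW : IsOpen W := by
    rw [isOpen_iff_forall_mem_open]
    rintro x ⟨V, hxV, hV⟩
    exact ⟨V, fun y hy => ⟨V, hy, hV⟩, V.isOpen, hxV⟩
  refine decided_of_open_criterion u U₀ hU₀ W hW _ (fun s hs => ?_)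
  haveI : ((Scheme.Modules.pullback (u.fiberι s)).obj F).IsQuasicoherent :=
    Groth.Agent.Lead.StalkPull.isQuasicoherent_pullbackObj _ F
  constructor
  · intro hL x hx
    have hxr : x ∈ Set.range (u.fiberι s) := by
      rw [Scheme.Hom.range_fiberι]; exact hx
    obtain ⟨x', rfl⟩ := hxr
    have hfree := FinLocFree2.free_stalk_of_isFinLocFree _
      (FinLocFree7.isFinLocFree_of_rank _ hL) x'
    have hfl : FlatMod.IsFlatOverAt u F (u.fiberι s x') := hflat _ (by rw [hx]; exact hs)
    obtain ⟨V, m, hxV, hV⟩ := exists_free_nhd_of_fibre u F hF.1 hfp s x' hfl inferInstance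
    obtain ⟨V', hxV', hV'⟩ := hL x'
    have h1 := Groth.Agent.Helper2.FinLocFreeLim.isFreeAlong_pullback (u.fiberι s) hV
    have hmn : m = n := rank_unique _ h1 hV' x' hxV hxV'
    subst hmn
    exact ⟨V, hxV, hV⟩
  · intro h x'
    obtain ⟨V, hxV, hV⟩ := h (u.fiberι s x') (Groth.Agent.Helper5.FibStalk.fiberι_apply u s x')
    exact ⟨(u.fiberι s) ⁻¹ᵁ V, hxV,
      Groth.Agent.Helper2.FinLocFreeLim.isFreeAlong_pullback (u.fiberι s) hV⟩

theorem s4820 {X S : Scheme.{u}} (f : X ⟶ S)
    [LocallyOfFinitePresentation f] [QuasiCompact f] [QuasiSeparated f]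
    (F : X.Modules) [Coh.IsQCoh F] (hF : CohB1.IsFP F) (n : ℕ) :
    Topology.IsLocallyConstructible
      {s : S | FlatMod.IsFinLocFreeOfRank n ((Scheme.Modules.pullback (f.fiberι s)).obj F)} :=
  Groth.Agent.Helper2.ConsMod.s5878 f F hF (isConsMod_isFinLocFreeOfRank n)

end Groth.Agent.Helper2.FibLF
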