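import Mathlib
import Groth.Prelude
import Groth.Agent.Helper2.FibLF7

set_option autoImplicit false
set_option linter.unusedVariables false
open CategoryTheory CategoryTheory.Limits AlgebraicGeometry TopologicalSpace Topology TensorProduct
universe u

namespace Groth.Agent.Helper2.FibLF

open Groth.Agent.Helper4 Groth.Agent.Helper4.FinLocFree Groth.Agent.Helper4.StalkDict

theorem s9769 {X S X' S' : Scheme.{u}} (f : X ⟶ S) [LocallyOfFinitePresentation f]
    (F : X.Modules) (hF : CohB1.IsFP F) (hfl : FlatMod.IsFlatOver f F)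
    (g : S' ⟶ S) (f' : X' ⟶ S') (g' : X' ⟶ X) (hc : IsPullback g' f' f g) :
    {x' : ↑X' | Module.Free ↑(X'.presheaf.stalk x') ↑(((Scheme.Modules.pullback g').obj F).presheaf.stalk x')} =
      g' ⁻¹' {x : ↑X | Module.Free ↑(X.presheaf.stalk x) ↑(F.presheaf.stalk x)} := by
  haveI : F.IsQuasicoherent := FinLocFree2.isQuasicoherent_of_isFinitePresentation F hF
  ext x'
  simp only [Set.mem_setOf_eq, Set.mem_preimage]
  constructor
  · intro hfree
    obtain ⟨s', hs'⟩ : ∃ s', f' x' = s' := ⟨_, rfl⟩
    have hxr : x' ∈ Set.range (f'.fiberι s') := by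
      rw [Scheme.Hom.range_fiberι]; exact hs'
    obtain ⟨z, rfl⟩ := hxr
    obtain ⟨V, n, hV, hVfree⟩ := exists_free_nhd_of_baseChange f F inferInstance hF g f' g' hc s' z
      hfl inferInstance
    obtain ⟨b⟩ := FinLocFree2.nonempty_basis_stalk_of_isFreeAlong F hVfree _ hV
    exact Module.Free.of_basis b
  · intro hfree
    letI := (g'.stalkMap x').hom.toAlgebra
    obtain ⟨E⟩ := Groth.Agent.Lead.StalkPull.nonempty_stalk_pullback_equiv g' F x'
    exact Module.Free.of_equiv E.symm

end Groth.Agent.Helper2.FibLF
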