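import Mathlib
import Groth.Prelude
import Groth.Agent.Helper2.FibLF4
import Groth.Agent.Helper2.SmoothRegSch
import Groth.Agent.Lead.RegDimOne
import Groth.Agent.Lead.LimPres

set_option autoImplicit false
set_option linter.unusedVariables false
open CategoryTheory CategoryTheory.Limits AlgebraicGeometry TopologicalSpace Topology TensorProduct
universe u

namespace Groth.Agent.Helper2.FibLF

open Groth.Agent.Helper4 Groth.Agent.Helper4.FinLocFree

/-- a finitely presented module, flat over the base, whose fibre stalk at a point is torsion-free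
over a regular fibre local ring of dimension `≤ 1`, is free near that point -/
theorem exists_free_nhd_of_fibre_regular_dim_le_one {X S : Scheme.{u}} (f : X ⟶ S)
    [LocallyOfFinitePresentation f] (F : X.Modules) (hfp : CohB1.IsFP F) (s : S)
    (z : ↥(f.fiber s)) (hfl : FlatMod.IsFlatOverAt f F (f.fiberι s z))
    (hreg : IsRegularLocalRing ((f.fiber s).presheaf.stalk z))
    (hdim : ringKrullDim ((f.fiber s).presheaf.stalk z) ≤ 1)
    (htf : Module.IsTorsionFree ((f.fiber s).presheaf.stalk z)
      (((Scheme.Modules.pullback (f.fiberι s)).obj F).presheaf.stalk z)) :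
    ∃ (V : X.Opens) (n : ℕ), f.fiberι s z ∈ V ∧
      Nonempty (F.restrict V.ι ≅ FlatMod.freeMod (↑V) n) := by
  haveI : F.IsQuasicoherent := FinLocFree2.isQuasicoherent_of_isFinitePresentation F hfp
  haveI : IsDomain ((f.fiber s).presheaf.stalk z) :=
    Groth.Agent.Lead.RegLocal.isDomain_of_isRegularLocalRing _
  haveI : IsPrincipalIdealRing ((f.fiber s).presheaf.stalk z) :=
    Groth.Agent.Lead.RegDimOne.isPrincipalIdealRing_of_regular_dim_le_one _ hdim
  have hfp' : CohB1.IsFP ((Scheme.Modules.pullback (f.fiberι s)).obj F) :=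
    Groth.Agent.Lead.LimPres.isFP_pullback _ F hfp
  haveI : ((Scheme.Modules.pullback (f.fiberι s)).obj F).IsQuasicoherent :=
    Groth.Agent.Lead.StalkPull.isQuasicoherent_pullbackObj _ F
  haveI := FinLocFree2.finite_stalk _
    (FinLocFree2.isFiniteType_of_isFinitePresentation _ hfp') z
  haveI := htf
  have hfree : Module.Free ((f.fiber s).presheaf.stalk z)
      (((Scheme.Modules.pullback (f.fiberι s)).obj F).presheaf.stalk z) :=
    Module.free_of_finite_type_torsion_free'
  exact exists_free_nhd_of_fibre f F inferInstance hfp s z hfl inferInstance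

theorem s16424
    (k : Type u) [Field k] (X S : Scheme.{u})
    (a : X ⟶ Spec (CommRingCat.of k)) (b : S ⟶ Spec (CommRingCat.of k))
    [Smooth a] [IsProper a] [GeometricallyIrreducible a]
    (hproj : ∃ H : X.Modules, CohB1.IsAmple H)
    (F : (pullback a b).Modules) (hfp : CohB1.IsFP F)
    (hfl : FlatMod.IsFlatOver (pullback.snd a b) F)
    (htf : ∀ s : ↥S, TorSh.IsTorsionFree
      ((Scheme.Modules.pullback ((pullback.snd a b).fiberι s)).obj F))
    (x : ↥(pullback a b))
    (hx : ringKrullDim ↑(CInt.fiberStalk (pullback.snd a b) x) ≤ 1) :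
    ∃ (V : (pullback a b).Opens) (n : ℕ), x ∈ V ∧
      Nonempty (F.restrict V.ι ≅ FlatMod.freeMod (↑V) n) := by
  haveI : Smooth (pullback.snd a b) := MorphismProperty.pullback_snd _ _ inferInstance
  haveI : Smooth ((pullback.snd a b).fiberToSpecResidueField ((pullback.snd a b) x)) :=
    MorphismProperty.pullback_snd _ _ inferInstance
  have hreg : IsRegularLocalRing
      (((pullback.snd a b).fiber ((pullback.snd a b) x)).presheaf.stalk
        ((pullback.snd a b).asFiber x)) :=
    Groth.Agent.Helper2.SmoothRegSch.stalk_regular_of_smooth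
      (S.residueField ((pullback.snd a b) x)) _
      ((pullback.snd a b).fiberToSpecResidueField ((pullback.snd a b) x)) _
  obtain ⟨V, n, hV, hfree⟩ := exists_free_nhd_of_fibre_regular_dim_le_one (pullback.snd a b) F hfp
    ((pullback.snd a b) x) ((pullback.snd a b).asFiber x) (hfl _) hreg hx
    (htf _ _)
  rw [Scheme.Hom.fiberι_asFiber] at hV
  exact ⟨V, n, hV, hfree⟩

end Groth.Agent.Helper2.FibLF
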