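import Mathlib
import Groth.Prelude

set_option autoImplicit false
set_option linter.unusedVariables false
open CategoryTheory CategoryTheory.Limits AlgebraicGeometry TopologicalSpace Topology TensorProduct
open IsLocalRing
universe u

namespace Groth.Agent.Helper2.FibNoeth

/-- base change of a locally Noetherian scheme along the spectrum of an essentially finite type
ring map is locally Noetherian. -/
theorem isLocallyNoetherian_pullback_specMap {A K : CommRingCat.{u}} (φ : A ⟶ K)
    (hφ : φ.hom.EssFiniteType) {Z : Scheme.{u}} [IsLocallyNoetherian Z] (f : Z ⟶ Spec A) :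
    IsLocallyNoetherian (pullback f (Spec.map φ)) := by
  rw [isLocallyNoetherian_iff_openCover
    (Scheme.Pullback.openCoverOfLeft Z.affineOpenCover.openCover f (Spec.map φ))]
  intro i0
  let i : Z.affineOpenCover.openCover.I₀ := i0
  show IsLocallyNoetherian (pullback (Z.affineOpenCover.openCover.f i ≫ f) (Spec.map φ))
  haveI : IsOpenImmersion (Z.affineOpenCover.openCover.f i) :=
    Z.affineOpenCover.openCover.map_prop i
  let C : CommRingCat.{u} := Z.affineOpenCover.X i
  have hC : IsNoetherianRing C := by
    have : IsLocallyNoetherian (Z.affineOpenCover.openCover.X i) :=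
      isLocallyNoetherian_of_isOpenImmersion (Z.affineOpenCover.openCover.f i)
    exact isLocallyNoetherian_Spec.1 this
  let ψ : A ⟶ C := Spec.preimage (Z.affineOpenCover.openCover.f i ≫ f)
  have hψ : Spec.map ψ = Z.affineOpenCover.openCover.f i ≫ f := Spec.map_preimage _
  rw [← hψ]
  letI algC : Algebra A C := ψ.hom.toAlgebra
  letI algK : Algebra A K := φ.hom.toAlgebra
  haveI : Algebra.EssFiniteType A K := hφ
  haveI : IsNoetherianRing (C ⊗[A] K) := Algebra.EssFiniteType.isNoetherianRing C _
  have e : pullback (Spec.map ψ) (Spec.map φ) ≅ Spec (CommRingCat.of (C ⊗[A] K)) :=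
    pullbackSpecIso A C K
  exact isLocallyNoetherian_of_isOpenImmersion e.hom

/-- the fibres of a morphism with locally Noetherian source are locally Noetherian. -/
theorem isLocallyNoetherian_fiber {Z X : Scheme.{u}} [IsLocallyNoetherian Z] (f : Z ⟶ X) (x : X) :
    IsLocallyNoetherian (f.fiber x) := by
  obtain ⟨_, ⟨V, hV : IsAffineOpen V, rfl⟩, hxV, -⟩ :=
    X.isBasis_affineOpens.exists_subset_of_mem_open (Set.mem_univ x) isOpen_univ
  let φ : Γ(X, V) ⟶ X.residueField x := X.presheaf.germ V x hxV ≫ X.residue x
  have hg : X.fromSpecResidueField x = Spec.map φ ≫ hV.fromSpec := by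
    show Spec.map (X.residue x) ≫ X.fromSpecStalk x = _
    rw [← hV.fromSpecStalk_eq_fromSpecStalk hxV]
    simp [φ, IsAffineOpen.fromSpecStalk]
  have hφ : φ.hom.EssFiniteType := by
    have h1 : (X.presheaf.germ V x hxV).hom.EssFiniteType := by
      letI := (X.presheaf.germ V x hxV).hom.toAlgebra
      haveI := hV.isLocalization_stalk ⟨x, hxV⟩
      exact Algebra.EssFiniteType.of_isLocalization _ (hV.primeIdealOf ⟨x, hxV⟩).asIdeal.primeCompl
    have h2 : (X.residue x).hom.EssFiniteType :=
      RingHom.FiniteType.essFiniteType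
        (RingHom.FiniteType.of_surjective _ IsLocalRing.residue_surjective)
    exact h1.comp h2
  haveI : IsLocallyNoetherian (pullback f hV.fromSpec) :=
    isLocallyNoetherian_of_isOpenImmersion (pullback.fst f hV.fromSpec)
  haveI := isLocallyNoetherian_pullback_specMap φ hφ (pullback.snd f hV.fromSpec)
  have e : pullback (pullback.snd f hV.fromSpec) (Spec.map φ) ≅
      pullback f (Spec.map φ ≫ hV.fromSpec) := pullbackLeftPullbackSndIso f hV.fromSpec (Spec.map φ)
  have e' : f.fiber x ≅ pullback f (Spec.map φ ≫ hV.fromSpec) :=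
    pullback.congrHom rfl hg
  exact isLocallyNoetherian_of_isOpenImmersion (e'.hom ≫ e.inv)

end Groth.Agent.Helper2.FibNoeth
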