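import Mathlib

set_option autoImplicit false
universe u
open TensorProduct

namespace Groth.Agent.Helper2.FibreProdBC

variable {R B' B C S : Type u} [CommRing R] [CommRing B'] [CommRing B] [CommRing C]
    [CommRing S] [Algebra R B'] [Algebra R B] [Algebra R C] [Algebra R S]

lemma map_id_eq_lTensor {X Y : Type u} [CommRing X] [CommRing Y] [Algebra R X] [Algebra R Y]
    (h : X →ₐ[R] Y) (z : S ⊗[R] X) :
    Algebra.TensorProduct.map (AlgHom.id R S) h z = h.toLinearMap.lTensor S z := by
  induction z using TensorProduct.induction_on with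
  | zero => simp
  | tmul s x => simp
  | add a b ha hb => rw [map_add, map_add, ha, hb]

variable (f : B' →ₐ[R] B) (g : C →ₐ[R] B)

/-- the fibre product -/
abbrev P : Subalgebra R (B' × C) :=
  AlgHom.equalizer (f.comp (AlgHom.fst R B' C)) (g.comp (AlgHom.snd R B' C))

/-- kernel of `f` into the fibre product -/
def ιJ : LinearMap.ker f.toLinearMap →ₗ[R] P f g where
  toFun j := ⟨((j : B'), 0), by
    show f (j : B') = g 0
    rw [map_zero]
    exact j.2⟩
  map_add' a b := by
    apply Subtype.ext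
    simp
  map_smul' r a := by
    apply Subtype.ext
    simp

abbrev p₁ : P f g →ₐ[R] B' := (AlgHom.fst R B' C).comp (P f g).val
abbrev p₂ : P f g →ₐ[R] C := (AlgHom.snd R B' C).comp (P f g).val

lemma p₁_ιJ : (p₁ f g).toLinearMap ∘ₗ ιJ f g = (LinearMap.ker f.toLinearMap).subtype := rfl

lemma p₂_ιJ : (p₂ f g).toLinearMap ∘ₗ ιJ f g = 0 := rfl

lemma f_p₁ : f.toLinearMap ∘ₗ (p₁ f g).toLinearMap = g.toLinearMap ∘ₗ (p₂ f g).toLinearMap := by
  ext ⟨x, hx⟩
  exact hx

lemma p₂_surjective (hf : Function.Surjective f) : Function.Surjective (p₂ f g) := by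
  intro c
  obtain ⟨b', hb'⟩ := hf (g c)
  exact ⟨⟨(b', c), hb'⟩, rfl⟩

lemma exact_ιJ_p₂ : Function.Exact (ιJ f g) (p₂ f g).toLinearMap := by
  intro x
  constructor
  · intro hx
    obtain ⟨⟨b', c⟩, hbc⟩ := x
    have hc : c = 0 := hx
    subst hc
    have hb' : f b' = 0 := by
      have : f b' = g 0 := hbc
      rw [this, map_zero]
    exact ⟨⟨b', hb'⟩, rfl⟩
  · rintro ⟨j, rfl⟩
    rfl

end Groth.Agent.Helper2.FibreProdBC
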