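import Mathlib
import Groth.Agent.Helper2.GrFlatCrit

set_option autoImplicit false
open TensorProduct Function LinearMap
universe u

namespace Groth.Agent.Helper2.FiltFlatCrit

open Groth.Agent.Helper2.TorReg Groth.Agent.Helper2.ContentIdeal Groth.Agent.Helper2.NilpCrit
  Groth.Agent.Helper2.GrFlatCrit

section step
variable {S : Type u} [CommRing S] (J : Ideal S) {M : Type u} [AddCommGroup M] [Module S M]

/-- one step of the filtration argument, general filtration -/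
lemma gstep (𝔞 𝔟 𝔟' : Ideal S) (hJ : J * 𝔟 ≤ 𝔟')
    (h𝔟 : Injective (muI (M := M) 𝔟))
    [Module.Flat (S ⧸ J) ((S ⧸ J) ⊗[S] M)]
    (x : 𝔞 ⊗[S] M) (hx : muI 𝔞 x = 0)
    (hxj : x ∈ LinearMap.range (rTensor M (Submodule.inclusion
      (inf_le_left : 𝔞 ⊓ 𝔟 ≤ 𝔞)))) :
    x ∈ LinearMap.range (rTensor M (Submodule.inclusion
      (inf_le_left : 𝔞 ⊓ 𝔟' ≤ 𝔞))) := by
  obtain ⟨xj, rfl⟩ := hxj
  rw [muI_inclusion] at hx
  have hy : rTensor M (Submodule.inclusion (inf_le_right : 𝔞 ⊓ 𝔟 ≤ 𝔟)) xj = 0 := by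
    apply h𝔟
    rw [muI_inclusion, hx, map_zero]
  let K' : Submodule S ↥(𝔞 ⊓ 𝔟) := Submodule.comap (𝔞 ⊓ 𝔟).subtype 𝔟'
  let K : Submodule S ↥𝔟 := Submodule.comap 𝔟.subtype 𝔟'
  have hKK' : K' ≤ Submodule.comap (Submodule.inclusion (inf_le_right : 𝔞 ⊓ 𝔟 ≤ 𝔟)) K := by
    intro a ha
    exact ha
  let ιq : (↥(𝔞 ⊓ 𝔟) ⧸ K') →ₗ[S] (↥𝔟 ⧸ K) :=
    Submodule.mapQ K' K (Submodule.inclusion inf_le_right) hKK'
  have hιq : Injective ιq := by
    rw [← LinearMap.ker_eq_bot, eq_bot_iff]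
    intro a ha
    obtain ⟨a, rfl⟩ := Submodule.Quotient.mk_surjective _ a
    rw [LinearMap.mem_ker, Submodule.mapQ_apply, Submodule.Quotient.mk_eq_zero] at ha
    rw [Submodule.mem_bot, Submodule.Quotient.mk_eq_zero]
    exact ha
  have htors' : Module.IsTorsionBySet S (↥(𝔞 ⊓ 𝔟) ⧸ K') J := by
    intro a s
    obtain ⟨a, rfl⟩ := Submodule.Quotient.mk_surjective _ a
    rw [← Submodule.Quotient.mk_smul, Submodule.Quotient.mk_eq_zero]
    change ((s : S) • a : ↥(𝔞 ⊓ 𝔟)).1 ∈ 𝔟'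
    exact hJ (Ideal.mul_mem_mul s.2 a.2.2)
  have htors : Module.IsTorsionBySet S (↥𝔟 ⧸ K) J := by
    intro a s
    obtain ⟨a, rfl⟩ := Submodule.Quotient.mk_surjective _ a
    rw [← Submodule.Quotient.mk_smul, Submodule.Quotient.mk_eq_zero]
    change ((s : S) • a : ↥𝔟).1 ∈ 𝔟'
    exact hJ (Ideal.mul_mem_mul s.2 a.2)
  have hL := rTensor_injective_of_torsion (M := M) J htors' htors ιq hιq
  have hxbar : rTensor M K'.mkQ xj = 0 := by
    apply hL
    rw [map_zero, ← LinearMap.comp_apply, ← LinearMap.rTensor_comp]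
    have : ιq ∘ₗ K'.mkQ = K.mkQ ∘ₗ Submodule.inclusion (inf_le_right : 𝔞 ⊓ 𝔟 ≤ 𝔟) := by
      ext a; rfl
    rw [this, LinearMap.rTensor_comp, LinearMap.comp_apply, hy, map_zero]
  have hex := rTensor_exact M (LinearMap.exact_subtype_mkQ K') (Submodule.mkQ_surjective K')
  obtain ⟨w, rfl⟩ := (hex xj).1 hxbar
  let κ : K' →ₗ[S] ↥(𝔞 ⊓ 𝔟') :=
    LinearMap.codRestrict (𝔞 ⊓ 𝔟') ((𝔞 ⊓ 𝔟).subtype ∘ₗ K'.subtype)
      (fun a => ⟨a.1.2.1, a.2⟩)
  refine ⟨rTensor M κ w, ?_⟩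
  rw [← LinearMap.comp_apply, ← LinearMap.rTensor_comp, ← LinearMap.comp_apply,
    ← LinearMap.rTensor_comp]
  rfl

end step

section framework
variable {A : Type u} [CommRing A] [IsNoetherianRing A] (J : Ideal A)
  (M : Type u) [AddCommGroup M] [Module A M]

theorem PP_filt (𝔠 : ℕ → Ideal A) (hanti : ∀ n, 𝔠 (n + 1) ≤ 𝔠 n)
    (hG : ∀ n, PP M (𝔠 n) (𝔠 (n + 1)) (hanti n))
    (i n : ℕ) : PP M (𝔠 i) (𝔠 (i + n)) (antitone_nat_of_succ_le hanti (Nat.le_add_right i n)) := by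
  induction n with
  | zero => exact PP.refl (𝔠 i)
  | succ n ih => exact PP.trans _ _ ih (hG (i + n))

theorem flat_of_filt (hsep : ∀ a : Ideal A, IsHausdorff J (↥a ⊗[A] M))
    (hM : Module.Flat (A ⧸ J) ((A ⧸ J) ⊗[A] M))
    (𝔠 : ℕ → Ideal A) (h0 : 𝔠 0 = ⊤) (hanti : ∀ n, 𝔠 (n + 1) ≤ 𝔠 n)
    (hJ𝔠 : ∀ n, J * 𝔠 n ≤ 𝔠 (n + 1)) (hcof : ∀ n, ∃ m, 𝔠 m ≤ J ^ n)
    (hG : ∀ n, PP M (𝔠 n) (𝔠 (n + 1)) (hanti n)) :
    Module.Flat A M := by
  have hmono : Antitone 𝔠 := antitone_nat_of_succ_le hanti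
  -- (3')
  have hinj : ∀ j, Injective (muI (M := M) (𝔠 j)) := by
    intro j
    rw [injective_iff_map_eq_zero]
    intro x hx
    apply (hsep (𝔠 j)).haus' x
    intro n
    rw [SModEq.zero]
    obtain ⟨c, hc⟩ := Ideal.exists_pow_inf_eq_pow_smul J (𝔠 j : Submodule A A)
    have hAR : 𝔠 j ⊓ J ^ (n + c) ≤ J ^ n * 𝔠 j := by
      have := hc (n + c) (by omega)
      rw [Nat.add_sub_cancel] at this
      intro y hy
      have hy' : y ∈ J ^ (n + c) • (⊤ : Submodule A A) ⊓ 𝔠 j := by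
        refine ⟨?_, hy.1⟩
        simpa using hy.2
      rw [this] at hy'
      exact Submodule.smul_mono le_rfl inf_le_right hy'
    obtain ⟨m, hm⟩ := hcof (n + c)
    have hk : 𝔠 (j + m) ≤ J ^ n * 𝔠 j :=
      le_trans (le_inf (hmono (Nat.le_add_right j m)) ((hmono (Nat.le_add_left m j)).trans hm)) hAR
    have h1 := PP_filt M 𝔠 hanti hG j m x (by rw [hx]; exact zero_mem _)
    exact range_le_smul_top (J ^ n) (𝔠 j) (𝔠 (j + m)) hk _ h1
  rw [Module.Flat.iff_rTensor_injective']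
  intro 𝔞
  rw [← muI_injective_iff, injective_iff_map_eq_zero]
  intro x hx
  have key : ∀ j : ℕ, x ∈ LinearMap.range (rTensor M (Submodule.inclusion
      (inf_le_left : 𝔞 ⊓ 𝔠 j ≤ 𝔞))) := by
    intro j
    induction j with
    | zero =>
      have h0' : 𝔞 ≤ 𝔞 ⊓ 𝔠 0 := le_inf le_rfl (by rw [h0]; exact le_top)
      refine ⟨rTensor M (Submodule.inclusion h0') x, ?_⟩
      rw [← LinearMap.comp_apply, ← LinearMap.rTensor_comp]
      have : Submodule.inclusion (inf_le_left : 𝔞 ⊓ 𝔠 0 ≤ 𝔞) ∘ₗ Submodule.inclusion h0' =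
          LinearMap.id := by ext; rfl
      rw [this, LinearMap.rTensor_id, LinearMap.id_apply]
    | succ j ih => exact gstep J 𝔞 (𝔠 j) (𝔠 (j + 1)) (hJ𝔠 j) (hinj j) x hx ih
  apply (hsep 𝔞).haus' x
  intro n
  rw [SModEq.zero]
  obtain ⟨c, hc⟩ := Ideal.exists_pow_inf_eq_pow_smul J (𝔞 : Submodule A A)
  have hAR : 𝔞 ⊓ J ^ (n + c) ≤ J ^ n * 𝔞 := by
    have := hc (n + c) (by omega)
    rw [Nat.add_sub_cancel] at this
    intro y hy
    have hy' : y ∈ J ^ (n + c) • (⊤ : Submodule A A) ⊓ 𝔞 := by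
      refine ⟨?_, hy.1⟩
      simpa using hy.2
    rw [this] at hy'
    exact Submodule.smul_mono le_rfl inf_le_right hy'
  obtain ⟨m, hm⟩ := hcof (n + c)
  have hle : 𝔞 ⊓ 𝔠 m ≤ J ^ n * 𝔞 := le_trans (inf_le_inf_left 𝔞 hm) hAR
  exact range_le_smul_top (J ^ n) 𝔞 (𝔞 ⊓ 𝔠 m) hle inf_le_left (key m)

end framework


section symb
variable {A : Type u} [CommRing A] [IsNoetherianRing A] (J : Ideal A)
  (M : Type u) [AddCommGroup M] [Module A M]

/-- the key injectivity for a filtration cut out by finitely many primes -/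
theorem PP_of_primes {r : ℕ} (p : Fin r → Ideal A) [∀ i, (p i).IsPrime]
    (hM : Module.Flat (A ⧸ J) ((A ⧸ J) ⊗[A] M))
    (hloc : ∀ i, Module.Flat (Localization.AtPrime (p i)) (LocalizedModule (p i).primeCompl M))
    (𝔟 𝔟' : Ideal A) (hle : 𝔟' ≤ 𝔟) (hJ : J * 𝔟 ≤ 𝔟')
    (hreg : ∀ a : A, (∀ i, a ∉ p i) → ∀ b ∈ 𝔟, a * b ∈ 𝔟' → b ∈ 𝔟') :
    PP M 𝔟 𝔟' hle := by
  classical
  intro x hx
  let K : Submodule A ↥𝔟 := Submodule.comap 𝔟.subtype 𝔟'
  have hex := rTensor_exact M (LinearMap.exact_subtype_mkQ K) (Submodule.mkQ_surjective K)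
  let κ : K →ₗ[A] ↥𝔟' := LinearMap.codRestrict 𝔟' (𝔟.subtype ∘ₗ K.subtype) (fun a => a.2)
  have hκ : K.subtype = Submodule.inclusion hle ∘ₗ κ := by ext a; rfl
  suffices hy : rTensor M K.mkQ x = 0 by
    obtain ⟨w, rfl⟩ := (hex x).1 hy
    refine ⟨rTensor M κ w, ?_⟩
    rw [← LinearMap.comp_apply, ← LinearMap.rTensor_comp, ← hκ]
  by_contra hy
  set y := rTensor M K.mkQ x with hydef
  have htors : Module.IsTorsionBySet A (↥𝔟 ⧸ K) J := by
    intro a s
    obtain ⟨a, rfl⟩ := Submodule.Quotient.mk_surjective _ a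
    rw [← Submodule.Quotient.mk_smul, Submodule.Quotient.mk_eq_zero]
    change ((s : A) • a : ↥𝔟).1 ∈ 𝔟'
    exact hJ (Ideal.mul_mem_mul s.2 a.2)
  -- annihilator inside some p i
  let 𝔫 : Ideal A := LinearMap.ker (LinearMap.toSpanSingleton A ((↥𝔟 ⧸ K) ⊗[A] M) y)
  have h𝔫 : ∀ a, a ∈ 𝔫 ↔ a • y = 0 := by
    intro a
    simp [𝔫, LinearMap.mem_ker, LinearMap.toSpanSingleton_apply]
  have hsub : (𝔫 : Set A) ⊆ ⋃ q ∈ ((Finset.univ.image p : Finset (Ideal A)) : Set (Ideal A)),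
      (q : Set A) := by
    intro a ha
    have hay : a • y = 0 := (h𝔫 a).1 ha
    by_contra hcon
    have hnot : ∀ i, a ∉ p i := by
      intro i hi
      apply hcon
      simp only [Finset.coe_image, Finset.coe_univ, Set.image_univ, Set.mem_range,
        Set.iUnion_exists, Set.iUnion_iUnion_eq', Set.mem_iUnion, SetLike.mem_coe]
      exact ⟨i, hi⟩
    let ι : (↥𝔟 ⧸ K) →ₗ[A] (↥𝔟 ⧸ K) := a • LinearMap.id
    have hι : Injective ι := by
      rw [← LinearMap.ker_eq_bot, eq_bot_iff]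
      intro e he
      obtain ⟨b, rfl⟩ := Submodule.Quotient.mk_surjective _ e
      rw [LinearMap.mem_ker] at he
      have he' : a • (Submodule.Quotient.mk b : ↥𝔟 ⧸ K) = 0 := he
      rw [← Submodule.Quotient.mk_smul, Submodule.Quotient.mk_eq_zero] at he'
      rw [Submodule.mem_bot, Submodule.Quotient.mk_eq_zero]
      exact hreg a hnot b.1 b.2 he'
    have hL := rTensor_injective_of_torsion (M := M) J htors htors ι hι
    apply hy
    apply hL
    rw [map_zero]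
    have : rTensor M ι = a • LinearMap.id := by
      ext e m
      simp [ι, TensorProduct.smul_tmul']
    rw [this]
    exact hay
  rw [Ideal.subset_union_prime (R := A) (f := fun q : Ideal A => q) ⊥ ⊥] at hsub
  swap
  · intro q hq _ _
    rw [Finset.mem_image] at hq
    obtain ⟨i, _, rfl⟩ := hq
    infer_instance
  obtain ⟨q, hq, hnq⟩ := hsub
  rw [Finset.mem_image] at hq
  obtain ⟨i, _, rfl⟩ := hq
  -- localize at p i
  have hflat : Module.Flat (Localization.AtPrime (p i)) (LocalizedModule (p i).primeCompl M) :=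
    hloc i
  have hflatA : Module.Flat A (LocalizedModule (p i).primeCompl M) :=
    Module.Flat.trans A (Localization.AtPrime (p i)) _
  set g := LocalizedModule.mkLinearMap (p i).primeCompl M with hg
  have hx' : muI 𝔟 (lTensor 𝔟 g x) ∈ (𝔟' • ⊤ : Submodule A (LocalizedModule (p i).primeCompl M)) := by
    rw [muI_natural]
    have : ((𝔟' • ⊤ : Submodule A M)).map g ≤
        (𝔟' • ⊤ : Submodule A (LocalizedModule (p i).primeCompl M)) := by
      rw [Submodule.map_smul'']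
      exact Submodule.smul_mono le_rfl le_top
    exact this ⟨_, hx, rfl⟩
  obtain ⟨w, hw⟩ := exists_muI_eq 𝔟' _ hx'
  have hinj : Injective (muI (M := LocalizedModule (p i).primeCompl M) 𝔟) := by
    rw [muI_injective_iff]
    exact (Module.Flat.iff_rTensor_injective'.1 inferInstance) 𝔟
  have hxw : lTensor 𝔟 g x = rTensor _ (Submodule.inclusion hle) w := by
    apply hinj
    rw [muI_inclusion, hw]
  have h0 : lTensor (↥𝔟 ⧸ K) g y = 0 := by
    rw [hydef, ← LinearMap.comp_apply, LinearMap.lTensor_comp_rTensor,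
      ← LinearMap.rTensor_comp_lTensor, LinearMap.comp_apply, hxw, ← LinearMap.comp_apply,
      ← LinearMap.rTensor_comp]
    have : K.mkQ ∘ₗ Submodule.inclusion hle = 0 := by
      ext b
      simp only [LinearMap.comp_apply, Submodule.mkQ_apply, LinearMap.zero_apply]
      rw [Submodule.Quotient.mk_eq_zero]
      exact b.2
    rw [this, LinearMap.rTensor_zero, LinearMap.zero_apply]
  have h0' : lTensor (↥𝔟 ⧸ K) g y = lTensor (↥𝔟 ⧸ K) g 0 := by rw [h0, map_zero]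
  obtain ⟨c, hc⟩ := IsLocalizedModule.exists_of_eq (S := (p i).primeCompl)
    (f := lTensor (↥𝔟 ⧸ K) g) h0'
  have hc' : (c : A) • y = 0 := by
    have : (c : A) • y = (c : A) • (0 : (↥𝔟 ⧸ K) ⊗[A] M) := hc
    rw [this, smul_zero]
  exact c.2 (hnq ((h𝔫 c).2 hc'))

end symb

end Groth.Agent.Helper2.FiltFlatCrit
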