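import Mathlib

set_option autoImplicit false
universe u
open CategoryTheory CategoryTheory.Limits

namespace Groth.Agent.Helper2.FilteredColimFlat

/-- Stage lifting property. -/
def StageLift {R S : Type u} [CommRing R] [CommRing S] (f : R →+* S)
    (P : ∀ {C' A' : Type u} [CommRing C'] [CommRing A'], (C' →+* A') → Prop) : Prop :=
  ∀ (l : ℕ) (fs : Fin l → R) (xs : Fin l → S) (z : ℤ), ∑ i, f (fs i) * xs i = (z : S) →
    ∃ (C' A' : Type u) (_ : CommRing C') (_ : CommRing A') (c : C' →+* R) (a : A' →+* S)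
      (g : C' →+* A'), P g ∧ f.comp c = a.comp g ∧
      ∃ (fs' : Fin l → C') (xs' : Fin l → A'), (∀ i, c (fs' i) = fs i) ∧ (∀ i, a (xs' i) = xs i) ∧
        ∑ i, g (fs' i) * xs' i = (z : A')

lemma StageLift.mono {R S : Type u} [CommRing R] [CommRing S] {f : R →+* S}
    {P Q : ∀ {C' A' : Type u} [CommRing C'] [CommRing A'], (C' →+* A') → Prop}
    (hPQ : ∀ {C' A' : Type u} [CommRing C'] [CommRing A'] (g : C' →+* A'), P g → Q g)
    (h : StageLift f P) : StageLift f Q := by
  intro l fs xs z hz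
  obtain ⟨C', A', i1, i2, c, a, g, hP, rest⟩ := h l fs xs z hz
  exact ⟨C', A', i1, i2, c, a, g, hPQ g hP, rest⟩

lemma flat_of_stageLift {R S : Type u} [CommRing R] [CommRing S] (f : R →+* S)
    (h : StageLift f (fun g => g.Flat)) : f.Flat := by
  letI := f.toAlgebra
  show Module.Flat R S
  apply Module.Flat.of_forall_isTrivialRelation
  intro l fs xs hsum
  have hsum' : ∑ i, f (fs i) * xs i = ((0 : ℤ) : S) := by
    simpa [Algebra.smul_def, RingHom.algebraMap_toAlgebra] using hsum
  obtain ⟨C', A', _, _, c, a, g, hg, hcomm, fs', xs', hfs, hxs, hs⟩ := h l fs xs 0 hsum'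
  letI := g.toAlgebra
  have hgflat : Module.Flat C' A' := hg
  obtain ⟨k, a', y, hx, hrel⟩ := Module.Flat.isTrivialRelation_of_sum_smul_eq_zero
    (R := C') (M := A') (f := fs') (x := xs') (by
      simpa [Algebra.smul_def, RingHom.algebraMap_toAlgebra] using hs)
  refine ⟨k, fun i j => c (a' i j), fun j => a (y j), ?_, ?_⟩
  · intro i
    rw [← hxs i, hx i, map_sum]
    refine Finset.sum_congr rfl fun j _ => ?_
    rw [Algebra.smul_def, Algebra.smul_def, RingHom.algebraMap_toAlgebra,
      RingHom.algebraMap_toAlgebra, map_mul]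
    congr 1
    exact (RingHom.congr_fun hcomm (a' i j)).symm
  · intro j
    have := congrArg c (hrel j)
    simpa [map_sum, map_mul, hfs] using this

lemma faithfullyFlat_of_stageLift {R S : Type u} [CommRing R] [CommRing S] (f : R →+* S)
    (h : StageLift f (fun g => g.FaithfullyFlat)) : f.FaithfullyFlat := by
  have hflat : f.Flat := flat_of_stageLift f (h.mono fun g hg => hg.flat)
  letI := f.toAlgebra
  show Module.FaithfullyFlat R S
  rw [Module.FaithfullyFlat.iff_flat_and_proper_ideal]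
  refine ⟨hflat, fun I hI htop => ?_⟩
  have h1 : (1 : S) ∈ I.map (algebraMap R S) := by
    have : (1 : S) ∈ (I • (⊤ : Submodule R S)) := by rw [htop]; trivial
    rw [Ideal.smul_top_eq_map] at this
    exact this
  rw [Ideal.map, Ideal.span, Submodule.mem_span_set'] at h1
  obtain ⟨n, cs, gs, hsum⟩ := h1
  choose ms hmI hms using fun i => (gs i).2
  have hsum' : ∑ i, f (ms i) * cs i = ((1 : ℤ) : S) := by
    rw [Int.cast_one, ← hsum]
    refine Finset.sum_congr rfl fun i _ => ?_
    rw [smul_eq_mul, mul_comm, ← hms i]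
    rfl
  obtain ⟨C', A', _, _, c, a, g, hg, hcomm, fs', xs', hfs, hxs, hs⟩ := h n ms cs 1 hsum'
  letI := g.toAlgebra
  have hgff : Module.FaithfullyFlat C' A' := hg
  have hI' : I.comap c ≠ ⊤ := by
    intro htop'
    apply hI
    rw [Ideal.eq_top_iff_one]
    have : (1 : C') ∈ I.comap c := by rw [htop']; trivial
    simpa using this
  refine ((Module.FaithfullyFlat.iff_flat_and_proper_ideal C' A').1 hgff).2 _ hI' ?_
  rw [Ideal.smul_top_eq_map]
  have : (1 : A') ∈ (I.comap c).map (algebraMap C' A') := by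
    have h1 : ((1 : ℤ) : A') = 1 := Int.cast_one
    rw [← h1, ← hs]
    refine Ideal.sum_mem _ fun i _ => Ideal.mul_mem_right _ _ (Ideal.mem_map_of_mem _ ?_)
    show c (fs' i) ∈ I
    rw [hfs]; exact hmI i
  have htop2 : (I.comap c).map (algebraMap C' A') = ⊤ := (Ideal.eq_top_iff_one _).2 this
  rw [htop2]
  rfl

variable {J : Type u} [SmallCategory J] [IsFiltered J]

lemma ι_map_apply (A : J ⥤ CommRingCat.{u}) {j k : J} (u : j ⟶ k) (y : A.obj j) :
    (colimit.ι A k).hom ((A.map u).hom y) = (colimit.ι A j).hom y := by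
  have := ConcreteCategory.congr_hom (colimit.w A u) y
  simpa using this

lemma exists_rep_fin (A : J ⥤ CommRingCat.{u}) (j₀ : J) {l : ℕ}
    (x : Fin l → (colimit A : CommRingCat.{u})) :
    ∃ (j : J) (_ : j₀ ⟶ j) (y : Fin l → A.obj j), ∀ i, (colimit.ι A j).hom (y i) = x i := by
  induction l with
  | zero => exact ⟨j₀, 𝟙 _, Fin.elim0, fun i => i.elim0⟩
  | succ n ih =>
    obtain ⟨j, u, y, hy⟩ := ih (fun i => x i.succ)
    obtain ⟨j', y', hy'⟩ := Concrete.colimit_exists_rep A (x 0)
    refine ⟨IsFiltered.max j j', u ≫ IsFiltered.leftToMax j j',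
      Fin.cons ((A.map (IsFiltered.rightToMax j j')).hom y')
        (fun i => (A.map (IsFiltered.leftToMax j j')).hom (y i)), ?_⟩
    intro i
    refine Fin.cases ?_ (fun i => ?_) i
    · rw [Fin.cons_zero, ι_map_apply]; exact hy'
    · rw [Fin.cons_succ, ι_map_apply]; exact hy i

lemma stageLift_colimMap (C A : J ⥤ CommRingCat.{u}) (φ : C ⟶ A)
    (P : ∀ {C' A' : Type u} [CommRing C'] [CommRing A'], (C' →+* A') → Prop)
    (h : ∀ j : J, P (φ.app j).hom) : StageLift (colimMap φ).hom P := by
  intro l fs xs z hz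
  have hι : ∀ j, (colimMap φ).hom.comp (colimit.ι C j).hom =
      (colimit.ι A j).hom.comp (φ.app j).hom := by
    intro j
    have := ι_colimMap φ j
    rw [← CommRingCat.hom_comp, ← CommRingCat.hom_comp, this]
  have hφ : ∀ {j k : J} (u : j ⟶ k) (y : C.obj j),
      (φ.app k).hom ((C.map u).hom y) = (A.map u).hom ((φ.app j).hom y) := by
    intro j k u y
    have := ConcreteCategory.congr_hom (φ.naturality u) y
    simpa using this
  obtain ⟨j₀⟩ := IsFiltered.nonempty (C := J)
  obtain ⟨j1, _, fs1, hfs1⟩ := exists_rep_fin C j₀ fs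
  obtain ⟨j2, u, xs2, hxs2⟩ := exists_rep_fin A j1 xs
  -- push fs to stage j2
  let fs2 : Fin l → C.obj j2 := fun i => (C.map u).hom (fs1 i)
  have hfs2 : ∀ i, (colimit.ι C j2).hom (fs2 i) = fs i := fun i => by
    rw [ι_map_apply]; exact hfs1 i
  -- the relation at stage j2 holds after mapping to the colimit
  have hrel : (colimit.ι A j2).hom (∑ i, (φ.app j2).hom (fs2 i) * xs2 i) =
      (colimit.ι A j2).hom (z : A.obj j2) := by
    rw [map_sum, map_intCast, ← hz]
    refine Finset.sum_congr rfl fun i _ => ?_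
    rw [map_mul, hxs2 i, ← hfs2 i]
    congr 1
    exact (RingHom.congr_fun (hι j2) (fs2 i)).symm
  obtain ⟨k, v, w, hvw⟩ := Concrete.colimit_exists_of_rep_eq A _ _ hrel
  -- coequalize v and w? not needed: w sends integer to integer
  refine ⟨C.obj k, A.obj k, inferInstance, inferInstance, (colimit.ι C k).hom,
    (colimit.ι A k).hom, (φ.app k).hom, h k, hι k,
    fun i => (C.map v).hom (fs2 i), fun i => (A.map v).hom (xs2 i), ?_, ?_, ?_⟩
  · intro i; rw [ι_map_apply]; exact hfs2 i
  · intro i; rw [ι_map_apply]; exact hxs2 i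
  · have h1 : (A.map v).hom (∑ i, (φ.app j2).hom (fs2 i) * xs2 i) = (z : A.obj k) := by
      have : (A.map w).hom (z : A.obj j2) = (z : A.obj k) := map_intCast _ _
      rw [← this]
      exact hvw
    rw [← h1, map_sum]
    refine Finset.sum_congr rfl fun i _ => ?_
    rw [map_mul, hφ]

end Groth.Agent.Helper2.FilteredColimFlat
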