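import Mathlib
open CategoryTheory Limits AlgebraicGeometry

/-!
# The system of finitely generated `R`-subalgebras of an `R`-algebra
(adapted from `Groth.Agent.Lead.SubalgSys`, which treats `ℤ`-subalgebras)
-/

namespace Groth.Agent.Helper2.SubalgK
universe u
variable (R : Type u) [CommRing R] (A : Type u) [CommRing A] [Algebra R A]

/-- finitely generated subalgebras -/
def Idx : Type u := {B : Subalgebra R A // B.FG}

instance : Preorder (Idx R A) := inferInstanceAs (Preorder {B : Subalgebra R A // B.FG})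

/-- the base index -/
def base : Idx R A := ⟨⊥, Subalgebra.fg_bot⟩

instance : IsDirected (Idx R A) (· ≤ ·) :=
  ⟨fun B B' ↦ ⟨⟨B.1 ⊔ B'.1, B.2.sup B'.2⟩,
    (le_sup_left : B.1 ≤ B.1 ⊔ B'.1), (le_sup_right : B'.1 ≤ B.1 ⊔ B'.1)⟩⟩

instance : Nonempty (Idx R A) := ⟨base R A⟩

lemma base_le (B : Idx R A) : base R A ≤ B := (bot_le : (⊥ : Subalgebra R A) ≤ B.1)

/-- the diagram of rings -/
def ringDiag : Idx R A ⥤ CommRingCat.{u} where
  obj B := .of B.1
  map {B B'} h := CommRingCat.ofHom (Subalgebra.inclusion (leOfHom h : B.1 ≤ B'.1)).toRingHom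
  map_id B := by ext; rfl
  map_comp f g := by ext; rfl

/-- the cocone of inclusions -/
def ringCocone : Cocone (ringDiag R A) where
  pt := .of A
  ι := { app B := CommRingCat.ofHom B.1.val.toRingHom
         naturality B B' h := by ext; rfl }

variable {R A}

/-- the ring is the filtered colimit of its finitely generated subalgebras -/
noncomputable def ringCoconeIsColimit : IsColimit (ringCocone R A) := by
  have : ReflectsFilteredColimits (forget CommRingCat.{u}) :=
    ⟨fun _ ↦ reflectsColimitsOfShape_of_reflectsIsomorphisms⟩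
  refine (ReflectsColimit.reflects (F := forget _) (Types.FilteredColimit.isColimitOf' _ _ ?_ ?_)).some
  · intro (x : A)
    refine ⟨⟨Algebra.adjoin R {x}, ⟨{x}, by simp⟩⟩, ⟨x, ?_⟩, rfl⟩
    exact Algebra.self_mem_adjoin_singleton R x
  · intro B x y hxy
    exact ⟨B, 𝟙 B, by
      have : x = y := Subtype.ext hxy
      rw [this]⟩

variable (R A)

/-- the diagram of spectra -/
noncomputable def D : (Idx R A)ᵒᵖ ⥤ Scheme.{u} := (ringDiag R A).op ⋙ Scheme.Spec

/-- the cone of spectra -/
noncomputable def cone : Cone (D R A) := Scheme.Spec.mapCone (ringCocone R A).op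

variable {R A}

/-- `Spec A` is the limit of the spectra of its finitely generated subalgebras -/
noncomputable def coneIsLimit : IsLimit (cone R A) :=
  isLimitOfPreserves Scheme.Spec (ringCoconeIsColimit (R := R) (A := A)).op

instance {i j : (Idx R A)ᵒᵖ} (f : i ⟶ j) : IsAffineHom ((D R A).map f) := by
  dsimp [D]; infer_instance

instance (i : (Idx R A)ᵒᵖ) : IsAffine ((D R A).obj i) := by
  dsimp [D]; infer_instance

instance isCofiltered : IsCofiltered (Idx R A)ᵒᵖ := by
  infer_instance

lemma cone_pt : (cone R A).pt = Spec (.of A) := rfl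

lemma cone_π (B : (Idx R A)ᵒᵖ) :
    (cone R A).π.app B = Spec.map (CommRingCat.ofHom B.unop.1.val.toRingHom) := rfl

lemma D_obj (B : (Idx R A)ᵒᵖ) : (D R A).obj B = Spec (.of B.unop.1) := rfl

lemma D_map {B B' : (Idx R A)ᵒᵖ} (f : B ⟶ B') :
    (D R A).map f = Spec.map (CommRingCat.ofHom
      (Subalgebra.inclusion (leOfHom f.unop : B'.unop.1 ≤ B.unop.1)).toRingHom) := rfl

end Groth.Agent.Helper2.SubalgK
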