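import Mathlib
import Groth.Prelude
import Groth.Agent.Helper2.SubalgK1
import Groth.Agent.S4790
import Groth.Agent.Lead.LimHom
import Groth.Agent.Lead.LimPres
import Groth.Agent.Lead.StalkPull2

set_option autoImplicit false
set_option linter.unusedVariables false
universe u
open CategoryTheory CategoryTheory.Limits AlgebraicGeometry TopologicalSpace Opposite

namespace Groth.Agent.Helper2.FinExtIso

open Groth.Agent.Helper2.SubalgK Groth.Agent.Lead.LimPullback Groth.Agent.Lead.LimHom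

/-- transport of an isomorphism of pullbacks along a factorization -/
noncomputable def isoOfFac {X Y Z : Scheme.{u}} (a : Z ⟶ Y) (b : Y ⟶ X) (c : Z ⟶ X) (h : a ≫ b = c)
    (F G : X.Modules) (ε : (Scheme.Modules.pullback b).obj F ≅ (Scheme.Modules.pullback b).obj G) :
    (Scheme.Modules.pullback c).obj F ≅ (Scheme.Modules.pullback c).obj G :=
  ((Scheme.Modules.pullbackCongr h).app F).symm ≪≫
    ((Scheme.Modules.pullbackComp a b).app F).symm ≪≫
    (Scheme.Modules.pullback a).mapIso ε ≪≫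
    (Scheme.Modules.pullbackComp a b).app G ≪≫ (Scheme.Modules.pullbackCongr h).app G

/-- an isomorphism of pullbacks along a composite, as an isomorphism of iterated pullbacks -/
noncomputable def isoOfComp {X Y Z : Scheme.{u}} (a : Z ⟶ Y) (b : Y ⟶ X)
    (F G : X.Modules) (ε : (Scheme.Modules.pullback (a ≫ b)).obj F ≅ (Scheme.Modules.pullback (a ≫ b)).obj G) :
    (Scheme.Modules.pullback a).obj ((Scheme.Modules.pullback b).obj F) ≅
      (Scheme.Modules.pullback a).obj ((Scheme.Modules.pullback b).obj G) :=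
  (Scheme.Modules.pullbackComp a b).app F ≪≫ ε ≪≫ ((Scheme.Modules.pullbackComp a b).app G).symm

/-- and conversely -/
noncomputable def isoOfComp' {X Y Z : Scheme.{u}} (a : Z ⟶ Y) (b : Y ⟶ X)
    (F G : X.Modules) (ε : (Scheme.Modules.pullback a).obj ((Scheme.Modules.pullback b).obj F) ≅
      (Scheme.Modules.pullback a).obj ((Scheme.Modules.pullback b).obj G)) :
    (Scheme.Modules.pullback (a ≫ b)).obj F ≅ (Scheme.Modules.pullback (a ≫ b)).obj G :=
  ((Scheme.Modules.pullbackComp a b).app F).symm ≪≫ ε ≪≫ (Scheme.Modules.pullbackComp a b).app G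

/-- the ring map `⊥ → k` -/
noncomputable def botHom (k Ω : Type u) [Field k] [Field Ω] [Algebra k Ω] :
    (⊥ : Subalgebra k Ω) →+* k := (Algebra.botEquiv k Ω).toAlgHom.toRingHom

theorem botHom_algebraMap (k Ω : Type u) [Field k] [Field Ω] [Algebra k Ω] (x : (⊥ : Subalgebra k Ω)) :
    algebraMap k (⊥ : Subalgebra k Ω) (botHom k Ω x) = x := by
  have h1 : algebraMap k (⊥ : Subalgebra k Ω) (botHom k Ω x) =
      (Algebra.botEquiv k Ω).symm (Algebra.botEquiv k Ω x) :=
    (Algebra.botEquiv_symm_apply k Ω _).symm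
  rw [h1]
  exact (Algebra.botEquiv k Ω).symm_apply_apply x

theorem val_eq_comp_botHom (k Ω : Type u) [Field k] [Field Ω] [Algebra k Ω] :
    (⊥ : Subalgebra k Ω).val.toRingHom = (algebraMap k Ω).comp (botHom k Ω) := by
  ext x
  have h := botHom_algebraMap k Ω x
  have h2 := congrArg Subtype.val h
  exact h2.symm

theorem mk_comp_inclusion_eq (k Ω : Type u) [Field k] [Field Ω] [Algebra k Ω] (B : Subalgebra k Ω)
    (m : Ideal B) :
    (Ideal.Quotient.mk m).comp (Subalgebra.inclusion (bot_le : (⊥ : Subalgebra k Ω) ≤ B)).toRingHom =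
      (algebraMap k (B ⧸ m)).comp (botHom k Ω) := by
  ext x
  have h := botHom_algebraMap k Ω x
  change Ideal.Quotient.mk m (Subalgebra.inclusion bot_le x) = algebraMap k (B ⧸ m) (botHom k Ω x)
  conv_lhs => rw [← h]
  rfl

set_option backward.isDefEq.respectTransparency false in
theorem s4823 {k : Type u} [Field k] {X : Scheme.{u}}
    (p : X ⟶ Spec (CommRingCat.of k)) [LocallyOfFiniteType p] [QuasiCompact p]
    (F G : X.Modules) [Coh.IsQCoh F] [Coh.IsQCoh G] (hF : CohB1.IsFP F) (hG : CohB1.IsFP G)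
    (Ω : Type u) [Field Ω] [Algebra k Ω] [IsAlgClosed Ω]
    (e : (Scheme.Modules.pullback (pullback.fst p (Spec.map (CommRingCat.ofHom (algebraMap k Ω))))).obj F ≅
      (Scheme.Modules.pullback (pullback.fst p (Spec.map (CommRingCat.ofHom (algebraMap k Ω))))).obj G) :
    ∃ (k' : Type u) (_ : Field k') (_ : Algebra k k') (_ : Module.Finite k k'),
      Nonempty ((Scheme.Modules.pullback (pullback.fst p (Spec.map (CommRingCat.ofHom (algebraMap k k'))))).obj F ≅
        (Scheme.Modules.pullback (pullback.fst p (Spec.map (CommRingCat.ofHom (algebraMap k k'))))).obj G) := by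
  haveI : CompactSpace X := QuasiCompact.compactSpace_of_compactSpace p
  haveI : IsLocallyNoetherian X := LocallyOfFiniteType.isLocallyNoetherian p
  haveI : QuasiSeparatedSpace X := inferInstance
  -- the system
  let D := SubalgK.D k Ω
  let c := SubalgK.cone k Ω
  have hc : IsLimit c := SubalgK.coneIsLimit
  let i₀ : (Idx k Ω)ᵒᵖ := op (base k Ω)
  let ψ₀ : Spec (CommRingCat.of k) ⟶ D.obj i₀ := Spec.map (CommRingCat.ofHom (botHom k Ω))
  let g : X ⟶ D.obj i₀ := p ≫ ψ₀
  haveI hAff : ∀ (i j : (Idx k Ω)ᵒᵖ) (f : i ⟶ j), IsAffineHom (D.map f) := fun _ _ f => inferInstance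
  haveI hAff' : ∀ {i j : (Idx k Ω)ᵒᵖ} (f : i ⟶ j), IsAffineHom (D.map f) := fun f => inferInstance
  -- base change of the system to `X`
  let D' := pbDiag D i₀ g
  let c' := pbCone D c i₀ g
  have hc' : IsLimit c' := pbConeIsLimit i₀ g hc
  haveI : ∀ (i j : Over i₀) (f : i ⟶ j), IsAffineHom (D'.map f) :=
    fun _ _ f => isAffineHom_pbDiag_map i₀ g f
  let i₀' : Over i₀ := Over.mk (𝟙 i₀)
  haveI : CompactSpace (D'.obj i₀') := compactSpace_pbDiag D i₀ g i₀'
  haveI : QuasiSeparatedSpace (D'.obj i₀') := quasiSeparatedSpace_pbDiag D i₀ g i₀'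
  let snd₀ : D'.obj i₀' ⟶ X := pullback.snd (D.map (𝟙 i₀)) g
  let F₀ : (D'.obj i₀').Modules := (Scheme.Modules.pullback snd₀).obj F
  let G₀ : (D'.obj i₀').Modules := (Scheme.Modules.pullback snd₀).obj G
  haveI : F.IsQuasicoherent := ‹Coh.IsQCoh F›
  haveI : G.IsQuasicoherent := ‹Coh.IsQCoh G›
  haveI qF₀ : Coh.IsQCoh F₀ := Groth.Agent.Lead.StalkPull.isQuasicoherent_pullbackObj snd₀ F
  haveI qG₀ : Coh.IsQCoh G₀ := Groth.Agent.Lead.StalkPull.isQuasicoherent_pullbackObj snd₀ G
  have hF₀ : CohB1.IsFP F₀ := Groth.Agent.Lead.LimPres.isFP_pullback snd₀ F hF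
  have hG₀ : CohB1.IsFP G₀ := Groth.Agent.Lead.LimPres.isFP_pullback snd₀ G hG
  -- the comparison map to `X_Ω`
  have hπ₀ : c.π.app i₀ = Spec.map (CommRingCat.ofHom (algebraMap k Ω)) ≫ ψ₀ := by
    change Spec.map (CommRingCat.ofHom (⊥ : Subalgebra k Ω).val.toRingHom) = _
    rw [val_eq_comp_botHom, CommRingCat.ofHom_comp, Spec.map_comp]
  haveI : IsIso ψ₀ := by
    have : IsIso (CommRingCat.ofHom (botHom k Ω)) := by
      rw [ConcreteCategory.isIso_iff_bijective]
      exact (Algebra.botEquiv k Ω).bijective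
    infer_instance
  have hcond : pullback.snd (c.π.app i₀) g ≫ p =
      pullback.fst (c.π.app i₀) g ≫ Spec.map (CommRingCat.ofHom (algebraMap k Ω)) := by
    rw [← cancel_mono ψ₀, Category.assoc, Category.assoc, ← hπ₀]
    exact (pullback.condition).symm
  let θ : c'.pt ⟶ pullback p (Spec.map (CommRingCat.ofHom (algebraMap k Ω))) :=
    pullback.lift (pullback.snd (c.π.app i₀) g) (pullback.fst (c.π.app i₀) g) hcond
  have hθ : θ ≫ pullback.fst p (Spec.map (CommRingCat.ofHom (algebraMap k Ω))) =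
      c'.π.app i₀' ≫ snd₀ := by
    rw [pullback.lift_fst]
    simp [c', pbCone, snd₀, i₀']
  -- the isomorphism over the limit
  have e1 : (Scheme.Modules.pullback (c'.π.app i₀')).obj F₀ ≅
      (Scheme.Modules.pullback (c'.π.app i₀')).obj G₀ :=
    isoOfComp (c'.π.app i₀') snd₀ F G (isoOfFac θ _ _ hθ F G e)
  obtain ⟨j, φ, ⟨ε⟩⟩ := (Groth.Agent.S4790.result D' c' hc' i₀' F₀ G₀ hF₀ hG₀).mp ⟨e1⟩
  -- the finitely generated subalgebra
  let B : Subalgebra k Ω := j.left.unop.1
  have hBfg : B.FG := j.left.unop.2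
  haveI : Algebra.FiniteType k B := (Subalgebra.fg_iff_finiteType B).mp hBfg
  obtain ⟨m, hm⟩ := Ideal.exists_maximal B
  haveI := hm
  letI fld : Field (B ⧸ m) := Ideal.Quotient.field m
  haveI : Algebra.FiniteType k (B ⧸ m) :=
    Algebra.FiniteType.of_surjective (Ideal.Quotient.mkₐ k m) (Ideal.Quotient.mkₐ_surjective k m)
  haveI hfin : Module.Finite k (B ⧸ m) := finite_of_finite_type_of_isJacobsonRing k (B ⧸ m)
  refine ⟨B ⧸ m, fld, inferInstance, hfin, ⟨?_⟩⟩
  -- the map from `X_{k'}` to the stage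
  let sndj : D'.obj j ⟶ X := pullback.snd (D.map j.hom) g
  have hφ : D'.map φ ≫ snd₀ = sndj := by
    simp [D', pbDiag, snd₀, sndj, i₀']
  have hDj : D.map j.hom = Spec.map (CommRingCat.ofHom
      (Subalgebra.inclusion (bot_le : (⊥ : Subalgebra k Ω) ≤ B)).toRingHom) := rfl
  have hcond2 : (pullback.snd p (Spec.map (CommRingCat.ofHom (algebraMap k (B ⧸ m)))) ≫
      Spec.map (CommRingCat.ofHom (Ideal.Quotient.mk m))) ≫ D.map j.hom =
      pullback.fst p (Spec.map (CommRingCat.ofHom (algebraMap k (B ⧸ m)))) ≫ g := by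
    rw [Category.assoc, hDj, ← Spec.map_comp, ← CommRingCat.ofHom_comp, mk_comp_inclusion_eq,
      CommRingCat.ofHom_comp, Spec.map_comp, ← Category.assoc, ← pullback.condition,
      Category.assoc]
  let t : pullback p (Spec.map (CommRingCat.ofHom (algebraMap k (B ⧸ m)))) ⟶ D'.obj j :=
    pullback.lift (pullback.snd p _ ≫ Spec.map (CommRingCat.ofHom (Ideal.Quotient.mk m)))
      (pullback.fst p _) hcond2
  have ht : t ≫ sndj = pullback.fst p (Spec.map (CommRingCat.ofHom (algebraMap k (B ⧸ m)))) :=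
    pullback.lift_snd _ _ _
  -- the isomorphism on the stage, for the projection to `X`
  have ε' : (Scheme.Modules.pullback sndj).obj F ≅ (Scheme.Modules.pullback sndj).obj G :=
    isoOfFac (𝟙 _) _ _ (by rw [Category.id_comp]; exact hφ) F G (isoOfComp' (D'.map φ) snd₀ F G ε)
  exact isoOfFac t sndj _ ht F G ε'

end Groth.Agent.Helper2.FinExtIso
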