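import Mathlib
set_option autoImplicit false

universe u

noncomputable section

namespace Groth.Agent.Helper2.QFinMod

open TensorProduct

variable {A R : Type u} [CommRing A] [CommRing R] [Algebra A R] (I : Ideal A)

/-- the fibre over a prime containing `I` is finite when `R/IR` is a finite `A`-module -/
theorem finite_fiber (hfin : Module.Finite A (R ⧸ I.map (algebraMap A R)))
    (p : Ideal A) [p.IsPrime] (hIp : I ≤ p) :
    Module.Finite p.ResidueField (p.Fiber R) := by
  classical
  obtain ⟨G, hG⟩ := hfin.fg_top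
  choose lift hlift using fun x : R ⧸ I.map (algebraMap A R) => Ideal.Quotient.mk_surjective x
  let T : Finset (p.Fiber R) := G.image fun g => (1 : p.ResidueField) ⊗ₜ[A] lift g
  refine ⟨⟨T, ?_⟩⟩
  set N : Submodule p.ResidueField (p.Fiber R) := Submodule.span p.ResidueField (T : Set _) with hN
  -- elements of `IR` die
  have hI0 : ∀ x ∈ I.map (algebraMap A R), (1 : p.ResidueField) ⊗ₜ[A] x = 0 := by
    intro x hx
    refine Submodule.span_induction ?_ ?_ ?_ ?_ hx
    · rintro _ ⟨a, ha, rfl⟩
      rw [Algebra.algebraMap_eq_smul_one, ← TensorProduct.smul_tmul, Algebra.smul_def, mul_one]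
      have : algebraMap A p.ResidueField a = 0 := by
        rw [Ideal.algebraMap_residueField_eq_zero]
        exact hIp ha
      rw [this, TensorProduct.zero_tmul]
    · exact TensorProduct.tmul_zero _ _
    · intro x y _ _ hx hy
      rw [TensorProduct.tmul_add, hx, hy, add_zero]
    · intro c x _ hx
      rw [smul_eq_mul]
      have : (1 : p.ResidueField) ⊗ₜ[A] (c * x) =
          ((1 : p.ResidueField) ⊗ₜ[A] c) * ((1 : p.ResidueField) ⊗ₜ[A] x) := by
        rw [Algebra.TensorProduct.tmul_mul_tmul, mul_one]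
      rw [this, hx, mul_zero]
  have h1 : ∀ r : R, (1 : p.ResidueField) ⊗ₜ[A] r ∈ N := by
    intro r
    have hr : Ideal.Quotient.mk (I.map (algebraMap A R)) r ∈
        Submodule.span A (G : Set (R ⧸ I.map (algebraMap A R))) := by rw [hG]; trivial
    obtain ⟨c, hc⟩ := (Submodule.mem_span_finset).mp hr
    obtain ⟨-, hc⟩ := hc
    have h2 : r - ∑ g ∈ G, c g • lift g ∈ I.map (algebraMap A R) := by
      rw [← Ideal.Quotient.eq, map_sum, ← hc]
      refine Finset.sum_congr rfl fun g _ => ?_
      rw [Algebra.smul_def (c g) g, Algebra.smul_def (c g) (lift g), map_mul, hlift]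
      rfl
    have h3 := hI0 _ h2
    rw [TensorProduct.tmul_sub, sub_eq_zero] at h3
    rw [h3, TensorProduct.tmul_sum]
    refine N.sum_mem fun g hg => ?_
    rw [TensorProduct.tmul_smul]
    have h4 : c g • ((1 : p.ResidueField) ⊗ₜ[A] lift g) =
        (algebraMap A p.ResidueField (c g)) • ((1 : p.ResidueField) ⊗ₜ[A] lift g) := by
      rw [algebraMap_smul]
    rw [h4]
    exact N.smul_mem _ (Submodule.subset_span (Finset.mem_image_of_mem _ hg))
  rw [eq_top_iff]
  rintro z -
  induction z using TensorProduct.induction_on with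
  | zero => exact N.zero_mem
  | tmul c r =>
    have : c ⊗ₜ[A] r = c • ((1 : p.ResidueField) ⊗ₜ[A] r) := by
      rw [TensorProduct.smul_tmul', smul_eq_mul, mul_one]
    rw [this]
    exact N.smul_mem _ (h1 r)
  | add x y hx hy => exact N.add_mem hx hy


theorem quasiFiniteAt_of_le [Algebra.FiniteType A R]
    (hfin : Module.Finite A (R ⧸ I.map (algebraMap A R))) (q : PrimeSpectrum R)
    (hq : I.map (algebraMap A R) ≤ q.asIdeal) : Algebra.QuasiFiniteAt A q.asIdeal := by
  let p := q.comap (algebraMap A R)
  have hIp : I ≤ p.asIdeal := by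
    intro a ha
    show algebraMap A R a ∈ q.asIdeal
    exact hq (Ideal.mem_map_of_mem _ ha)
  haveI := finite_fiber I hfin p.asIdeal hIp
  let e := PrimeSpectrum.preimageHomeomorphFiber A R p
  exact .of_quasiFiniteAt_residueField p.asIdeal q.asIdeal (e ⟨q, rfl⟩).asIdeal
    congr($(e.symm_apply_apply ⟨q, rfl⟩).1.asIdeal)

end Groth.Agent.Helper2.QFinMod
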