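import Mathlib
import Groth.Agent.Helper2.QFinMod
import Groth.Agent.Helper3.HensEtale
import Groth.Agent.Helper3.IdemOpen
set_option autoImplicit false

universe u

noncomputable section

namespace Groth.Agent.Helper2.QFinMod

open TensorProduct PrimeSpectrum

variable {A R : Type u} [CommRing A] [CommRing R] [Algebra A R] (I : Ideal A)

/-- primes of a subalgebra in `D(r)` lift when the localisations at `r` agree -/
theorem exists_comap_eq_of_awayMap_bijective (S₀ : Subalgebra A R) (r : S₀)
    (hbij : Function.Bijective (Localization.awayMap S₀.val.toRingHom r))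
    (p : PrimeSpectrum S₀) (hp : r ∉ p.asIdeal) :
    ∃ q : PrimeSpectrum R, comap S₀.val.toRingHom q = p := by
  have h1 : p ∈ Set.range (comap (algebraMap S₀ (Localization.Away r))) := by
    rw [localization_away_comap_range (Localization.Away r) r]
    exact hp
  obtain ⟨P, rfl⟩ := h1
  let φ := Localization.awayMap S₀.val.toRingHom r
  let ψ : Localization.Away r ≃+* Localization.Away (S₀.val.toRingHom r) :=
    RingEquiv.ofBijective φ hbij
  refine ⟨comap (algebraMap R (Localization.Away (S₀.val.toRingHom r)))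
    (comap (ψ.symm : _ →+* _) P), ?_⟩
  rw [← comap_comp_apply, ← comap_comp_apply]
  congr 1
  refine RingHom.ext fun t => ?_
  show ψ.symm (algebraMap R _ (S₀.val.toRingHom t)) = algebraMap S₀ _ t
  rw [RingEquiv.symm_apply_eq]
  show _ = φ (algebraMap S₀ _ t)
  exact (IsLocalization.map_eq _ t).symm


/-- the finite part: over a henselian pair, a finite type algebra which is finite modulo `I`
splits off a finite direct factor containing `V(IR)` -/
theorem exists_idem_finite [HenselianRing A I] [Algebra.FiniteType A R]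
    (hfin : Module.Finite A (R ⧸ I.map (algebraMap A R))) :
    ∃ e : R, IsIdempotentElem e ∧ 1 - e ∈ I.map (algebraMap A R) ∧
      Module.Finite A (R ⧸ Ideal.span {1 - e}) := by
  classical
  set IR := I.map (algebraMap A R) with hIR
  -- ZMT at each prime over `V(IR)`
  have hz : ∀ q : {q : PrimeSpectrum R // IR ≤ q.asIdeal}, ∃ S' : Subalgebra A R,
      S'.toSubmodule.FG ∧ ∃ r : S', r.1 ∉ q.1.asIdeal ∧
        Function.Bijective (Localization.awayMap S'.val.toRingHom r) := fun q =>
    haveI := quasiFiniteAt_of_le I hfin q.1 q.2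
    Algebra.QuasiFiniteAt.exists_fg_and_exists_notMem_and_awayMap_bijective q.1.asIdeal
  choose S' hS' r hrq hr using hz
  have htop : Ideal.span (Set.range fun q => (r q : R)) ⊔ IR = ⊤ := by
    by_contra hne
    obtain ⟨m, hm, hle⟩ := Ideal.exists_le_maximal _ hne
    let qm : {q : PrimeSpectrum R // IR ≤ q.asIdeal} :=
      ⟨⟨m, hm.isPrime⟩, le_trans le_sup_right hle⟩
    exact hrq qm (hle (Ideal.mem_sup_left (Ideal.subset_span ⟨qm, rfl⟩)))
  have h1 : (1 : R) ∈ Ideal.span (Set.range fun q => (r q : R)) ⊔ IR := by rw [htop]; trivial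
  obtain ⟨y, hy, k, hk, hyk⟩ := Submodule.mem_sup.1 h1
  obtain ⟨c, hc⟩ := (Finsupp.mem_span_range_iff_exists_finsupp).1 hy
  set s := c.support with hs
  set S₀ : Subalgebra A R := s.sup S' with hS₀
  have hle : ∀ q ∈ s, S' q ≤ S₀ := fun q hq => Finset.le_sup (f := S') hq
  have hfinS₀ : S₀.toSubmodule.FG :=
    Groth.Agent.Helper3.HensEtale.finite_finset_sup s S' fun q _ => hS' q
  have hrmem : ∀ q ∈ s, (r q : R) ∈ S₀ := fun q hq => hle q hq (r q).2
  haveI : Module.Finite A S₀ := ⟨(Submodule.fg_top _).2 hfinS₀⟩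
  haveI : Algebra.IsIntegral A S₀ := Algebra.IsIntegral.of_finite A S₀
  let rr : s → S₀ := fun q => ⟨r q.1, hrmem q.1 q.2⟩
  -- the localisations agree
  have hsurj : ∀ (q : s) (x : R), ∃ (b : S₀) (m : ℕ), (b : R) = (rr q : R) ^ m * x := by
    intro q x
    obtain ⟨b, m, hb⟩ := Localization.awayMap_surjective_iff.1 (hr q.1).2 x
    exact ⟨⟨b, hle q.1 q.2 b.2⟩, m, hb⟩
  have hbij : ∀ q : s, Function.Bijective (Localization.awayMap S₀.val.toRingHom (rr q)) := by
    intro q
    constructor
    · rw [Localization.awayMap_injective_iff]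
      intro a ha
      have : a = 0 := Subtype.ext ha
      exact ⟨0, by rw [this, mul_zero]⟩
    · rw [Localization.awayMap_surjective_iff]
      intro x
      obtain ⟨b, m, hb⟩ := hsurj q x
      exact ⟨b, m, hb⟩
  let U : Set (PrimeSpectrum S₀) := ⋃ q : s, (basicOpen (rr q) : Set (PrimeSpectrum S₀))
  have hU : IsOpen U := isOpen_iUnion fun q => (basicOpen (rr q)).isOpen
  let ι : S₀ →+* R := S₀.val.toRingHom
  let π : S₀ →+* R ⧸ IR := (Ideal.Quotient.mk IR).comp ι
  have hπint : π.IsIntegral := by
    intro x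
    have hx : IsIntegral A x := Algebra.IsIntegral.isIntegral x
    obtain ⟨P, hP, hPx⟩ := hx
    refine ⟨P.map (algebraMap A S₀), hP.map _, ?_⟩
    rw [Polynomial.eval₂_map]
    have : π.comp (algebraMap A S₀) = algebraMap A (R ⧸ IR) := by
      refine RingHom.ext fun a => ?_
      rfl
    rw [this]
    exact hPx
  set J := I.map (algebraMap A S₀) with hJ
  -- the closed set
  have hZ : U ∩ zeroLocus (J : Set S₀) = Set.range (comap π) := by
    ext z
    constructor
    · rintro ⟨hzU, hzJ⟩
      obtain ⟨q, hq⟩ := Set.mem_iUnion.1 hzU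
      obtain ⟨q', hq'⟩ := exists_comap_eq_of_awayMap_bijective S₀ (rr q) (hbij q) z hq
      have hIRq' : IR ≤ q'.asIdeal := by
        rw [hIR, Ideal.map_le_iff_le_comap]
        intro a ha
        have h2 : algebraMap A S₀ a ∈ z.asIdeal := hzJ (Ideal.mem_map_of_mem _ ha)
        rw [← hq'] at h2
        exact h2
      have h3 : q' ∈ Set.range (comap (Ideal.Quotient.mk IR)) := by
        rw [range_comap_of_surjective _ _ Ideal.Quotient.mk_surjective, Ideal.mk_ker]
        exact hIRq'
      obtain ⟨q'', rfl⟩ := h3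
      exact ⟨q'', by rw [← hq']; rfl⟩
    · rintro ⟨q'', rfl⟩
      constructor
      · by_contra hnot
        have hall : ∀ q : s, (r q.1 : R) ∈ (comap (Ideal.Quotient.mk IR) q'').asIdeal := by
          intro q
          by_contra hq
          exact hnot (Set.mem_iUnion.2 ⟨q, hq⟩)
        have hy' : y ∈ (comap (Ideal.Quotient.mk IR) q'').asIdeal := by
          rw [← hc, Finsupp.sum]
          refine Ideal.sum_mem _ fun q hq => ?_
          exact Ideal.mul_mem_left _ _ (hall ⟨q, hq⟩)
        have hk' : k ∈ (comap (Ideal.Quotient.mk IR) q'').asIdeal := by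
          show Ideal.Quotient.mk IR k ∈ q''.asIdeal
          rw [Ideal.Quotient.eq_zero_iff_mem.mpr hk]
          exact Ideal.zero_mem _
        have h1' : (1 : R) ∈ (comap (Ideal.Quotient.mk IR) q'').asIdeal := by
          rw [← hyk]
          exact Ideal.add_mem _ hy' hk'
        exact (comap (Ideal.Quotient.mk IR) q'').isPrime.ne_top ((Ideal.eq_top_iff_one _).2 h1')
      · intro t ht
        have : J ≤ (comap π q'').asIdeal := by
          rw [hJ, Ideal.map_le_iff_le_comap]
          intro a ha
          show π (algebraMap A S₀ a) ∈ q''.asIdeal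
          have : π (algebraMap A S₀ a) = 0 := by
            show Ideal.Quotient.mk IR (algebraMap A R a) = 0
            exact Ideal.Quotient.eq_zero_iff_mem.mpr (Ideal.mem_map_of_mem _ ha)
          rw [this]
          exact Ideal.zero_mem _
        exact this ht
  have hcl : IsClosed (U ∩ zeroLocus (J : Set S₀)) := by
    rw [hZ, ← Set.image_univ]
    exact isClosedMap_comap_of_isIntegral π hπint _ isClosed_univ
  obtain ⟨e₀, he₀, heU, hUe⟩ := Groth.Agent.Helper3.IdemOpen.exists_idem A I S₀ U hU hcl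
  -- (A) `e₀ R ⊆ S₀`
  have hA : ∀ x : R, (e₀ : R) * x ∈ S₀ := by
    intro x
    let C : Ideal S₀ :=
      { carrier := {t | (t : R) * x ∈ S₀}
        add_mem' := by
          intro t u ht hu
          change ((t + u : S₀) : R) * x ∈ S₀
          rw [Subalgebra.coe_add, add_mul]
          exact S₀.add_mem ht hu
        zero_mem' := by
          change ((0 : S₀) : R) * x ∈ S₀
          rw [Subalgebra.coe_zero, zero_mul]
          exact S₀.zero_mem
        smul_mem' := by
          intro t u hu
          change ((t • u : S₀) : R) * x ∈ S₀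
          rw [smul_eq_mul, Subalgebra.coe_mul, mul_assoc]
          exact S₀.mul_mem t.2 hu }
    have hCmem : ∀ t : S₀, t ∈ C ↔ (t : R) * x ∈ S₀ := fun t => Iff.rfl
    have hrad : ∀ q : s, rr q ∈ C.radical := by
      intro q
      obtain ⟨b, m, hb⟩ := hsurj q x
      refine ⟨m, ?_⟩
      rw [hCmem, Subalgebra.coe_pow, ← hb]
      exact b.2
    have hspan : Ideal.span (Set.range rr) ≤ C.radical := by
      rw [Ideal.span_le]
      rintro _ ⟨q, rfl⟩
      exact hrad q
    have he₀rad : e₀ ∈ (Ideal.span (Set.range rr)).radical := by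
      rw [← vanishingIdeal_zeroLocus_eq_radical, mem_vanishingIdeal]
      intro z hz
      by_contra hne
      have hzU : z ∈ U := heU hne
      obtain ⟨q, hq⟩ := Set.mem_iUnion.1 hzU
      exact hq (hz (Ideal.subset_span ⟨q, rfl⟩))
    have he₀C : e₀ ∈ C.radical := by
      have := Ideal.radical_mono hspan he₀rad
      rwa [Ideal.radical_idem] at this
    obtain ⟨N, hN⟩ := he₀C
    rcases Nat.eq_zero_or_pos N with rfl | hNpos
    · rw [pow_zero, hCmem, Subalgebra.coe_one, one_mul] at hN
      exact S₀.mul_mem e₀.2 hN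
    · obtain ⟨N', rfl⟩ := Nat.exists_eq_succ_of_ne_zero (Nat.pos_iff_ne_zero.mp hNpos)
      rw [Nat.succ_eq_add_one, IsIdempotentElem.pow_succ_eq N' he₀] at hN
      exact hN
  refine ⟨(e₀ : R), ?_, ?_, ?_⟩
  · show (e₀ : R) * (e₀ : R) = (e₀ : R)
    rw [← Subalgebra.coe_mul, he₀.eq]
  · -- (B)
    have hidem : IsIdempotentElem (Ideal.Quotient.mk IR (e₀ : R)) := by
      show _ * _ = _
      rw [← map_mul, ← Subalgebra.coe_mul, he₀.eq]
    have hunit : IsUnit (Ideal.Quotient.mk IR (e₀ : R)) := by
      by_contra hnu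
      obtain ⟨m, hm, hmem⟩ := exists_max_ideal_of_mem_nonunits hnu
      let q'' : PrimeSpectrum (R ⧸ IR) := ⟨m, hm.isPrime⟩
      have hzZ : comap π q'' ∈ U ∩ zeroLocus (J : Set S₀) := by rw [hZ]; exact ⟨q'', rfl⟩
      have := hUe hzZ
      exact this hmem
    have h2 : Ideal.Quotient.mk IR (e₀ : R) * (1 - Ideal.Quotient.mk IR (e₀ : R)) = 0 := by
      rw [mul_sub, mul_one, hidem.eq, sub_self]
    have h3 := hunit.mul_right_eq_zero.mp h2
    rw [← map_one (Ideal.Quotient.mk IR), ← map_sub] at h3
    exact Ideal.Quotient.eq_zero_iff_mem.mp h3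
  · -- (C)
    let f : S₀ →ₗ[A] R ⧸ Ideal.span {1 - (e₀ : R)} :=
      ((Ideal.Quotient.mkₐ A (Ideal.span {1 - (e₀ : R)})).comp S₀.val).toLinearMap
    refine Module.Finite.of_surjective f ?_
    intro z
    obtain ⟨x, rfl⟩ := Ideal.Quotient.mk_surjective z
    refine ⟨⟨(e₀ : R) * x, hA x⟩, ?_⟩
    show Ideal.Quotient.mk _ ((e₀ : R) * x) = Ideal.Quotient.mk _ x
    rw [Ideal.Quotient.eq]
    have : (e₀ : R) * x - x = -((1 - (e₀ : R)) * x) := by ring
    rw [this]
    exact Submodule.neg_mem _ (Ideal.mul_mem_right _ _ (Ideal.subset_span rfl))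

end Groth.Agent.Helper2.QFinMod
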