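import Mathlib
import Groth.Prelude
import Groth.Agent.Helper2.PairHensNbhd5
set_option autoImplicit false

universe u

noncomputable section

namespace Groth.Agent.Helper2.PairHens

open TensorProduct Polynomial

section Idem

variable {C : Type u} [CommRing C]

theorem idem_eq_zero_of_mem_jacobson {ε : C} (hε : IsIdempotentElem ε)
    (hj : ε ∈ Ideal.jacobson (⊥ : Ideal C)) : ε = 0 := by
  have hu : IsUnit (1 - ε) := by
    have := (Ideal.mem_jacobson_bot.mp hj) (-1)
    rw [mul_neg, mul_one, neg_add_eq_sub] at this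
    exact this
  have h0 : ε * (1 - ε) = 0 := by
    rw [mul_sub, mul_one, hε.eq, sub_self]
  exact (hu.mul_left_eq_zero).mp h0

theorem exists_idem_lift (K : Ideal C) [HenselianRing C K] (x : C) (hx : x ^ 2 - x ∈ K) :
    ∃ ε : C, IsIdempotentElem ε ∧ ε - x ∈ K := by
  have hmonic : (X ^ 2 - X : C[X]).Monic := by
    nontriviality C
    apply Polynomial.monic_X_pow_sub
    rw [degree_X]
    norm_num
  have hev : (X ^ 2 - X : C[X]).eval x ∈ K := by
    simpa using hx
  have hder : IsUnit (Ideal.Quotient.mk K ((X ^ 2 - X : C[X]).derivative.eval x)) := by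
    have h1 : (X ^ 2 - X : C[X]).derivative.eval x = 2 * x - 1 := by
      simp
      ring
    rw [h1]
    apply IsUnit.of_mul_eq_one (Ideal.Quotient.mk K (2 * x - 1))
    rw [← map_mul, ← map_one (Ideal.Quotient.mk K), Ideal.Quotient.eq]
    have : (2 * x - 1) * (2 * x - 1) - 1 = 4 * (x ^ 2 - x) := by ring
    rw [this]
    exact Ideal.mul_mem_left _ _ hx
  obtain ⟨a, ha, haK⟩ := HenselianRing.is_henselian (X ^ 2 - X : C[X]) hmonic x hev hder
  refine ⟨a, ?_, haK⟩
  have : a ^ 2 - a = 0 := by simpa [Polynomial.IsRoot] using ha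
  show a * a = a
  rw [← sub_eq_zero, ← this]
  ring

end Idem

end Groth.Agent.Helper2.PairHens
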