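import Mathlib
import Groth.Prelude
import Groth.Agent.Helper2.FinPart
import Groth.Agent.Helper2.PairHensProps
import Groth.Agent.Helper2.PairHensCRT0
set_option autoImplicit false

universe u

noncomputable section

namespace Groth.Agent.Helper2.PairHens

open Groth.Agent.Helper2.QFinMod

theorem s17596 (A : Type u) [CommRing A] (I : Ideal A)
    [HenselianRing A I] (R : Type u) [CommRing R] [Algebra A R] [Algebra.FinitePresentation A R]
    (B : Type u) [CommRing B] [Algebra R B] [Algebra A B] [IsScalarTower A R B]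
    (hB : Hens2.IsPairHenselization R (I.map (algebraMap A R)) B)
    (hfin : (Ideal.quotientMap (I.map (algebraMap A B)) (algebraMap A B) Ideal.le_comap_map).Finite) :
    Module.Finite A B ∧ Algebra.FinitePresentation A B := by
  set IR := I.map (algebraMap A R) with hIR
  have hIB : IR.map (algebraMap R B) = I.map (algebraMap A B) := by
    rw [hIR, Ideal.map_map, ← IsScalarTower.algebraMap_eq]
  -- Step 1
  have h1 : Module.Finite A (B ⧸ I.map (algebraMap A B)) := by
    have h2 : (algebraMap A (B ⧸ I.map (algebraMap A B))).Finite := by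
      have : algebraMap A (B ⧸ I.map (algebraMap A B)) =
          (Ideal.quotientMap (I.map (algebraMap A B)) (algebraMap A B) Ideal.le_comap_map).comp
            (Ideal.Quotient.mk I) := by
        refine RingHom.ext fun a => ?_
        rfl
      rw [this]
      exact hfin.comp (RingHom.Finite.of_surjective _ Ideal.Quotient.mk_surjective)
    exact RingHom.finite_algebraMap.mp h2
  let f : R ⧸ IR →ₐ[A] B ⧸ I.map (algebraMap A B) :=
    Ideal.quotientMapₐ _ (IsScalarTower.toAlgHom A R B) (by
      rw [← Ideal.map_le_iff_le_comap]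
      exact le_of_eq hIB)
  have hfmk : ∀ r : R, f (Ideal.Quotient.mk _ r) = Ideal.Quotient.mk _ (algebraMap R B r) :=
    fun r => rfl
  have hfbij : Function.Bijective f := by
    constructor
    · rw [injective_iff_map_eq_zero]
      intro x hx
      obtain ⟨r, rfl⟩ := Ideal.Quotient.mk_surjective x
      rw [hfmk, Ideal.Quotient.eq_zero_iff_mem, ← hIB] at hx
      have h2 : r ∈ IR ^ 1 := mem_pow_of_algebraMap_mem hB 1 r (by rw [pow_one]; exact hx)
      rw [pow_one] at h2
      exact Ideal.Quotient.eq_zero_iff_mem.mpr h2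
    · intro y
      obtain ⟨b, rfl⟩ := Ideal.Quotient.mk_surjective y
      obtain ⟨r, hr⟩ := exists_sub_mem_of_isPairHenselization hB b
      refine ⟨Ideal.Quotient.mk _ r, ?_⟩
      rw [hfmk, eq_comm, Ideal.Quotient.eq, ← hIB]
      exact hr
  have hfinR : Module.Finite A (R ⧸ IR) :=
    Module.Finite.equiv (LinearEquiv.ofBijective f.toLinearMap hfbij).symm
  -- Step 2
  obtain ⟨e, he, heI, hefin⟩ := exists_idem_finite I hfinR
  haveI := hefin
  haveI : Algebra.IsIntegral A (R ⧸ Ideal.span {1 - e}) := Algebra.IsIntegral.of_finite A _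
  have hhens : HenselianRing (R ⧸ Ideal.span {1 - e})
      (I.map (algebraMap A (R ⧸ Ideal.span {1 - e}))) :=
    Groth.Agent.Helper3.HensRows.hens_of_isIntegral A I _
  have hR₁ : Hens2.IsPairHenselization R IR (R ⧸ Ideal.span {1 - e}) := by
    refine ⟨?_, ?_⟩
    · rw [hIR, Ideal.map_map, ← IsScalarTower.algebraMap_eq]
      exact hhens
    · intro C _ J g hC hgJ
      have hg0 : g (1 - e) = 0 := by
        have hidem : IsIdempotentElem (g (1 - e)) := (he.one_sub).map g
        have hmem : g (1 - e) ∈ J := hgJ (Ideal.mem_map_of_mem g heI)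
        exact idem_eq_zero_of_mem_jacobson hidem (hC.jac hmem)
      refine ⟨Ideal.Quotient.lift _ g (by
        intro x hx
        obtain ⟨c, rfl⟩ := Ideal.mem_span_singleton'.mp hx
        rw [map_mul, hg0, mul_zero]), ?_, ?_⟩
      · refine RingHom.ext fun r => ?_
        rfl
      · intro g' hg'
        refine RingHom.ext fun x => ?_
        obtain ⟨r, rfl⟩ := Ideal.Quotient.mk_surjective x
        exact congr($hg' r)
  obtain ⟨e1⟩ := exists_algEquiv hB
  obtain ⟨e2⟩ := exists_algEquiv hR₁
  let ε : (R ⧸ Ideal.span {1 - e}) ≃ₐ[R] B := e2.symm.trans e1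
  let εA : (R ⧸ Ideal.span {1 - e}) ≃ₐ[A] B := ε.restrictScalars A
  haveI : Algebra.FinitePresentation A (R ⧸ Ideal.span {1 - e}) :=
    Algebra.FinitePresentation.quotient ⟨{1 - e}, by simp⟩
  exact ⟨Module.Finite.equiv εA.toLinearEquiv, Algebra.FinitePresentation.equiv εA⟩

end Groth.Agent.Helper2.PairHens
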