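import Mathlib
import Groth.Prelude
import Groth.Agent.Helper2.HensFib
import Groth.Agent.Helper2.RegBC
set_option autoImplicit false
universe u
open CategoryTheory CategoryTheory.Limits TensorProduct

namespace Groth.Agent.Helper2.IndEtFib

open Groth.Agent.Helper2.HensFib

/-- a concrete filtered system extracted from an ind-étale presentation -/
structure Sys (A B : Type u) [CommRing A] [CommRing B] [Algebra A B] where
  J : Type u
  cat : SmallCategory J
  filt : IsFiltered J
  R : J → Type u
  ring : ∀ j, CommRing (R j)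
  alg : ∀ j, Algebra A (R j)
  etale : ∀ j, Algebra.Etale A (R j)
  t : ∀ {i j : J}, (i ⟶ j) → (R i →ₐ[A] R j)
  φ : ∀ j, R j →ₐ[A] B
  hφ : ∀ {i j : J} (f : i ⟶ j) (x : R i), φ j (t f x) = φ i x
  hsurj : ∀ b : B, ∃ j y, φ j y = b
  hinj : ∀ (i : J) (x y : R i), φ i x = φ i y → ∃ (k : J) (f : i ⟶ k), t f x = t f y

attribute [instance] Sys.cat Sys.filt Sys.ring Sys.alg Sys.etale

section Extract
variable {A B : Type u} [CommRing A] [CommRing B] [Algebra A B]

theorem nonempty_sys (h : EtPBC.IsIndEtale A B) : Nonempty (Sys A B) := by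
  obtain ⟨J, hJ, hJf, D, c, hc, hD, ⟨e⟩⟩ := h
  letI alg : ∀ j, Algebra A (D.obj j).right := fun j => (D.obj j).hom.hom.toAlgebra
  let G : Under (CommRingCat.of A) ⥤ Type u := Under.forget _ ⋙ forget CommRingCat
  haveI : PreservesColimitsOfShape J (Under.forget (CommRingCat.of A)) :=
    PreservesFilteredColimitsOfSize.preserves_filtered_colimits J
  haveI : PreservesColimitsOfShape J (forget CommRingCat.{u}) :=
    PreservesFilteredColimitsOfSize.preserves_filtered_colimits J
  have hG : IsColimit (G.mapCocone c) := isColimitOfPreserves G hc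
  let t : ∀ {i j : J}, (i ⟶ j) → ((D.obj i).right →ₐ[A] (D.obj j).right) := fun {i j} f =>
    { (D.map f).right.hom with
      commutes' := fun a => by
        have := Under.w (D.map f)
        exact congrArg (fun g => g.hom a) this }
  let φ : ∀ j, (D.obj j).right →ₐ[A] B := fun j =>
    { ((c.ι.app j).right ≫ e.hom.right).hom with
      commutes' := fun a => by
        have h1 := Under.w (c.ι.app j)
        have h2 := Under.w e.hom
        have h3 : (D.obj j).hom ≫ ((c.ι.app j).right ≫ e.hom.right) =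
            CommRingCat.ofHom (algebraMap A B) := by
          rw [← Category.assoc]
          erw [h1, h2]
          rfl
        exact congrArg (fun g => g.hom a) h3 }
  have hφ : ∀ {i j : J} (f : i ⟶ j) (x : (D.obj i).right), φ j (t f x) = φ i x := by
    intro i j f x
    have := c.w f
    have h' : (D.map f).right ≫ (c.ι.app j).right = (c.ι.app i).right := by
      rw [← Under.comp_right, this]
    show (e.hom.right.hom) ((c.ι.app j).right.hom ((D.map f).right.hom x)) =
      (e.hom.right.hom) ((c.ι.app i).right.hom x)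
    rw [← h']
    rfl
  have hsurj : ∀ b : B, ∃ j y, φ j y = b := by
    intro b
    obtain ⟨j, y, hy⟩ := Types.jointly_surjective_of_isColimit hG (e.inv.right.hom b)
    refine ⟨j, y, ?_⟩
    show e.hom.right.hom ((c.ι.app j).right.hom y) = b
    have : (c.ι.app j).right.hom y = e.inv.right.hom b := hy
    rw [this]
    have h4 : e.inv.right ≫ e.hom.right = 𝟙 _ := by
      rw [← Under.comp_right, e.inv_hom_id]
      rfl
    exact congrArg (fun g => g.hom b) h4
  have hinj : ∀ (i : J) (x y : (D.obj i).right), φ i x = φ i y →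
      ∃ (k : J) (f : i ⟶ k), t f x = t f y := by
    intro i x y hxy
    have hxy' : (c.ι.app i).right.hom x = (c.ι.app i).right.hom y := by
      have h4 : e.hom.right ≫ e.inv.right = 𝟙 _ := by
        rw [← Under.comp_right, e.hom_inv_id]
        rfl
      have h5 : ∀ z, e.inv.right.hom (e.hom.right.hom z) = z := fun z =>
        congrArg (fun g => g.hom z) h4
      have := congrArg (e.inv.right.hom) hxy
      simpa [φ, h5] using this
    have hxy'' : (G.mapCocone c).ι.app i x = (G.mapCocone c).ι.app i y := hxy'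
    obtain ⟨k, f, g, hfg⟩ := (Types.FilteredColimit.isColimit_eq_iff _ hG).mp hxy''
    refine ⟨IsFiltered.coeq f g, f ≫ IsFiltered.coeqHom f g, ?_⟩
    have hfg' : (D.map f).right.hom x = (D.map g).right.hom y := hfg
    show (D.map (f ≫ IsFiltered.coeqHom f g)).right.hom x =
      (D.map (f ≫ IsFiltered.coeqHom f g)).right.hom y
    conv_rhs => rw [IsFiltered.coeq_condition f g]
    rw [D.map_comp, D.map_comp]
    show (D.map (IsFiltered.coeqHom f g)).right.hom ((D.map f).right.hom x) =
      (D.map (IsFiltered.coeqHom f g)).right.hom ((D.map g).right.hom y)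
    rw [hfg']
  exact ⟨{ J := J, cat := hJ, filt := hJf, R := fun j => (D.obj j).right,
           ring := fun j => inferInstance, alg := alg, etale := hD, t := t, φ := φ,
           hφ := hφ, hsurj := hsurj, hinj := hinj }⟩

end Extract

section Lift
variable {A B : Type u} [CommRing A] [CommRing B] [Algebra A B] (S : Sys A B)

/-- every element of `k ⊗ B` comes from some `k ⊗ R j`. -/
theorem exists_lift (k : Type u) [CommRing k] [Algebra A k] (x : k ⊗[A] B) :
    ∃ (j : S.J) (xj : k ⊗[A] S.R j),
      Algebra.TensorProduct.map (AlgHom.id k k) (S.φ j) xj = x := by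
  induction x using TensorProduct.induction_on with
  | zero =>
    obtain ⟨j⟩ := IsFiltered.nonempty (C := S.J)
    exact ⟨j, 0, map_zero _⟩
  | tmul z b =>
    obtain ⟨j, y, rfl⟩ := S.hsurj b
    exact ⟨j, z ⊗ₜ y, by simp⟩
  | add x₁ x₂ h₁ h₂ =>
    obtain ⟨j₁, y₁, rfl⟩ := h₁
    obtain ⟨j₂, y₂, rfl⟩ := h₂
    have e₁ : (Algebra.TensorProduct.map (AlgHom.id k k) (S.φ (IsFiltered.max j₁ j₂))).comp
        (Algebra.TensorProduct.map (AlgHom.id k k) (S.t (IsFiltered.leftToMax j₁ j₂))) =
        Algebra.TensorProduct.map (AlgHom.id k k) (S.φ j₁) := by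
      apply Algebra.TensorProduct.ext'
      intro a b
      simp only [AlgHom.comp_apply, Algebra.TensorProduct.map_tmul, AlgHom.id_apply]
      rw [S.hφ]
    have e₂ : (Algebra.TensorProduct.map (AlgHom.id k k) (S.φ (IsFiltered.max j₁ j₂))).comp
        (Algebra.TensorProduct.map (AlgHom.id k k) (S.t (IsFiltered.rightToMax j₁ j₂))) =
        Algebra.TensorProduct.map (AlgHom.id k k) (S.φ j₂) := by
      apply Algebra.TensorProduct.ext'
      intro a b
      simp only [AlgHom.comp_apply, Algebra.TensorProduct.map_tmul, AlgHom.id_apply]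
      rw [S.hφ]
    refine ⟨IsFiltered.max j₁ j₂,
      Algebra.TensorProduct.map (AlgHom.id k k) (S.t (IsFiltered.leftToMax j₁ j₂)) y₁ +
      Algebra.TensorProduct.map (AlgHom.id k k) (S.t (IsFiltered.rightToMax j₁ j₂)) y₂, ?_⟩
    rw [map_add, ← AlgHom.comp_apply, ← AlgHom.comp_apply, e₁, e₂]

include S in
theorem isVNR_fibre (k : Type u) [Field k] [Algebra A k] : IsVNR (k ⊗[A] B) := by
  intro x
  obtain ⟨j, xj, rfl⟩ := exists_lift S k x
  obtain ⟨y, hy⟩ := isVNR_of_etale_field k (k ⊗[A] S.R j) xj
  exact ⟨Algebra.TensorProduct.map (AlgHom.id k k) (S.φ j) y, by rw [← map_mul, ← map_mul, hy]⟩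

include S in
theorem isSeparable_quotient (k : Type u) [Field k] [Algebra A k]
    (m : Ideal (k ⊗[A] B)) [m.IsMaximal] :
    Algebra.IsSeparable k ((k ⊗[A] B) ⧸ m) := by
  letI := Ideal.Quotient.field m
  refine ⟨fun z => ?_⟩
  obtain ⟨x, rfl⟩ := Ideal.Quotient.mk_surjective z
  obtain ⟨j, xj, rfl⟩ := exists_lift S k x
  let ψ : k ⊗[A] S.R j →ₐ[k] (k ⊗[A] B) ⧸ m :=
    (Ideal.Quotient.mkₐ k m).comp (Algebra.TensorProduct.map (AlgHom.id k k) (S.φ j))
  haveI : (RingHom.ker ψ).IsPrime := RingHom.ker_isPrime ψ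
  have h1 : IsSeparable k (Ideal.Quotient.mk (RingHom.ker ψ) xj) :=
    Algebra.IsSeparable.isSeparable k _
  have h2 := h1.map (Ideal.kerLiftAlg ψ) (Ideal.kerLiftAlg_injective ψ)
  exact h2

end Lift

section Sep
variable {R H : Type u} [CommRing R] [CommRing H] [Algebra R H]

theorem isSeparable_of_fibre' (Q : Ideal H) [Q.IsPrime] (p : Ideal R) [p.IsPrime]
    [Algebra p.ResidueField Q.ResidueField] [IsScalarTower R p.ResidueField Q.ResidueField]
    (hv : IsVNR (p.ResidueField ⊗[R] H))
    (hs : ∀ (m : Ideal (p.ResidueField ⊗[R] H)) [m.IsMaximal],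
      Algebra.IsSeparable p.ResidueField ((p.ResidueField ⊗[R] H) ⧸ m)) :
    Algebra.IsSeparable p.ResidueField Q.ResidueField := by
  let ψ : p.ResidueField ⊗[R] H →ₐ[p.ResidueField] Q.ResidueField :=
    Algebra.TensorProduct.lift (Algebra.ofId p.ResidueField Q.ResidueField)
      (IsScalarTower.toAlgHom R H Q.ResidueField)
      (fun _ _ => Commute.all _ _)
  haveI : (RingHom.ker ψ).IsPrime := RingHom.ker_isPrime ψ
  haveI := hv.isMaximal (RingHom.ker ψ)
  haveI := hs (RingHom.ker ψ)
  have key : ∀ u, IsSeparable p.ResidueField (ψ u) := by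
    intro u
    have h1 := Algebra.IsSeparable.isSeparable p.ResidueField
      (Ideal.Quotient.mk (RingHom.ker ψ) u)
    have h2 := h1.map (Ideal.kerLiftAlg ψ) (Ideal.kerLiftAlg_injective ψ)
    rwa [Ideal.kerLiftAlg_mk] at h2
  refine ⟨fun z => ?_⟩
  obtain ⟨a, b, hb, rfl⟩ := IsFractionRing.div_surjective (A := H ⧸ Q) z
  obtain ⟨a', rfl⟩ := Ideal.Quotient.mk_surjective a
  obtain ⟨b', rfl⟩ := Ideal.Quotient.mk_surjective b
  have ha : ∀ h : H, algebraMap (H ⧸ Q) Q.ResidueField (Ideal.Quotient.mk Q h) = ψ (1 ⊗ₜ h) := by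
    intro h
    simp only [ψ, Algebra.TensorProduct.lift_tmul, map_one, one_mul, IsScalarTower.coe_toAlgHom']
    exact (IsScalarTower.algebraMap_apply H (H ⧸ Q) Q.ResidueField h).symm
  rw [ha, ha, div_eq_mul_inv]
  exact Field.isSeparable_mul (key _) (Field.isSeparable_inv (key _))

end Sep

/-- the statement S2096 -/
theorem main {A B : Type u} [CommRing A] [CommRing B] [Algebra A B] (hB : EtPBC.IsIndEtale A B)
    [IsNoetherianRing B] (p : Ideal A) [p.IsPrime] :
    {q : PrimeSpectrum B | q.asIdeal.LiesOver p}.Finite ∧ IsReduced (p.Fiber B) ∧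
      ringKrullDim (p.Fiber B) ≤ 0 ∧
      ∀ (q : Ideal B) [q.IsPrime] [q.LiesOver p],
        @Algebra.IsSeparable p.ResidueField q.ResidueField _ _
          (Ideal.ResidueField.mapₐ p q (Algebra.ofId A B) (q.over_def p)).toRingHom.toAlgebra := by
  obtain ⟨S⟩ := nonempty_sys hB
  have hv : IsVNR (p.Fiber B) := isVNR_fibre S p.ResidueField
  haveI : IsNoetherianRing (p.Fiber B) :=
    Groth.Agent.Helper2.RegBC.isNoetherianRing_fiber A B p
  haveI := hv.isArtinianRing
  refine ⟨?_, hv.isReduced, ?_, ?_⟩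
  · have hfin : Finite (PrimeSpectrum (p.Fiber B)) := inferInstance
    have e := PrimeSpectrum.preimageEquivFiber A B ⟨p, inferInstance⟩
    haveI : Finite (PrimeSpectrum.comap (algebraMap A B) ⁻¹' {⟨p, inferInstance⟩}) :=
      Finite.of_equiv _ e.symm
    have hset : {q : PrimeSpectrum B | q.asIdeal.LiesOver p} =
        PrimeSpectrum.comap (algebraMap A B) ⁻¹' {⟨p, inferInstance⟩} := by
      ext q
      simp only [Set.mem_ofPred_eq, Set.mem_preimage, Set.mem_singleton_iff]
      constructor
      · intro h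
        exact PrimeSpectrum.ext (h.over).symm
      · intro h
        exact ⟨(congrArg PrimeSpectrum.asIdeal h).symm⟩
    rw [hset]
    exact Set.toFinite _
  · haveI : Ring.KrullDimLE 0 (p.Fiber B) := inferInstance
    exact Ring.krullDimLE_iff.mp inferInstance
  · intro q _ _
    letI : Algebra p.ResidueField q.ResidueField :=
      (Ideal.ResidueField.mapₐ p q (Algebra.ofId A B) (q.over_def p)).toRingHom.toAlgebra
    haveI : IsScalarTower A p.ResidueField q.ResidueField :=
      IsScalarTower.of_algebraMap_eq (fun a =>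
        ((Ideal.ResidueField.mapₐ p q (Algebra.ofId A B) (q.over_def p)).commutes a).symm)
    exact isSeparable_of_fibre' q p hv (fun m _ => isSeparable_quotient S p.ResidueField m)

end Groth.Agent.Helper2.IndEtFib
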