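import Mathlib
import Groth.Prelude
import Groth.Agent.Helper2.IndEtFib

set_option autoImplicit false
universe u
open CategoryTheory CategoryTheory.Limits TensorProduct

namespace Groth.Agent.Helper2.IndEtCrit

/-- a concrete filtered system presenting `B` as a filtered colimit of `A`-algebras -/
structure FSys (A B : Type u) [CommRing A] [CommRing B] [Algebra A B] where
  J : Type u
  cat : SmallCategory J
  filt : IsFiltered J
  R : J → Type u
  ring : ∀ j, CommRing (R j)
  alg : ∀ j, Algebra A (R j)
  t : ∀ {i j : J}, (i ⟶ j) → (R i →ₐ[A] R j)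
  φ : ∀ j, R j →ₐ[A] B
  hφ : ∀ {i j : J} (f : i ⟶ j) (x : R i), φ j (t f x) = φ i x
  hsurj : ∀ b : B, ∃ j y, φ j y = b
  hinj : ∀ (i : J) (x y : R i), φ i x = φ i y → ∃ (k : J) (f : i ⟶ k), t f x = t f y

attribute [instance] FSys.cat FSys.filt FSys.ring FSys.alg

variable {A B : Type u} [CommRing A] [CommRing B] [Algebra A B]

/-- forget étaleness -/
def ofSys (S : IndEtFib.Sys A B) : FSys A B where
  J := S.J
  cat := S.cat
  filt := S.filt
  R := S.R
  ring := S.ring
  alg := S.alg
  t := S.t
  φ := S.φ
  hφ := S.hφ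
  hsurj := S.hsurj
  hinj := S.hinj

variable (S : FSys A B)

theorem exists_lift_family {ι : Type*} [DecidableEq ι] (s : Finset ι) (b : ι → B) :
    ∃ (j : S.J) (y : ι → S.R j), ∀ m ∈ s, S.φ j (y m) = b m := by
  induction s using Finset.induction_on with
  | empty =>
    haveI : Nonempty S.J := IsFiltered.nonempty
    exact ⟨Classical.arbitrary _, fun _ => 0, by simp⟩
  | insert a s ha ih =>
    obtain ⟨j, y, hy⟩ := ih
    obtain ⟨j', z, hz⟩ := S.hsurj (b a)
    refine ⟨IsFiltered.max j j', fun m => if m = a then S.t (IsFiltered.rightToMax j j') z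
      else S.t (IsFiltered.leftToMax j j') (y m), ?_⟩
    intro m hm
    rw [Finset.mem_insert] at hm
    by_cases hma : m = a
    · subst hma
      simp only [if_true]
      rw [S.hφ, hz]
    · simp only [if_neg hma]
      rw [S.hφ]
      exact hy m (hm.resolve_left hma)

theorem exists_kill {P : Type u} [CommRing P] [Algebra A P] (g : P →ₐ[A] B)
    (F : Finset P) (hF : ∀ p ∈ F, g p = 0) (j : S.J) (h : P →ₐ[A] S.R j)
    (hh : (S.φ j).comp h = g) :
    ∃ (k : S.J) (h' : P →ₐ[A] S.R k), (S.φ k).comp h' = g ∧ ∀ p ∈ F, h' p = 0 := by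
  classical
  induction F using Finset.induction_on with
  | empty => exact ⟨j, h, hh, by simp⟩
  | insert a s ha ih =>
    obtain ⟨k, h', hh', hk⟩ := ih (fun p hp => hF p (Finset.mem_insert_of_mem hp))
    have h0 : S.φ k (h' a) = S.φ k 0 := by
      rw [map_zero, ← AlgHom.comp_apply, hh']
      exact hF a (Finset.mem_insert_self _ _)
    obtain ⟨k', f, hf⟩ := S.hinj k _ _ h0
    refine ⟨k', (S.t f).comp h', ?_, ?_⟩
    · ext p
      show S.φ k' (S.t f (h' p)) = g p
      rw [S.hφ, ← AlgHom.comp_apply, hh']
    · intro p hp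
      rw [Finset.mem_insert] at hp
      rcases hp with rfl | hp
      · show S.t f (h' p) = 0
        rw [hf, map_zero]
      · show S.t f (h' p) = 0
        rw [hk p hp, map_zero]

/-- compactness of finitely presented algebras -/
theorem exists_factor (P : Type u) [CommRing P] [Algebra A P] [Algebra.FinitePresentation A P]
    (g : P →ₐ[A] B) : ∃ (j : S.J) (g' : P →ₐ[A] S.R j), (S.φ j).comp g' = g := by
  classical
  obtain ⟨n, f, hf, hker⟩ := Algebra.FinitePresentation.out (R := A) (A := P)
  obtain ⟨F, hF⟩ := hker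
  obtain ⟨j, y, hy⟩ := exists_lift_family S (Finset.univ : Finset (Fin n))
    (fun m => g (f (MvPolynomial.X m)))
  let h₀ : MvPolynomial (Fin n) A →ₐ[A] S.R j := MvPolynomial.aeval y
  have hh₀ : (S.φ j).comp h₀ = g.comp f := by
    apply MvPolynomial.algHom_ext
    intro m
    simp only [AlgHom.comp_apply, h₀, MvPolynomial.aeval_X]
    exact hy m (Finset.mem_univ m)
  have hFz : ∀ p ∈ F, (g.comp f) p = 0 := by
    intro p hp
    have : p ∈ RingHom.ker f.toRingHom := hF ▸ Ideal.subset_span hp
    rw [AlgHom.comp_apply]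
    have h1 : f p = 0 := this
    rw [h1, map_zero]
  obtain ⟨k, h', hh', hk⟩ := exists_kill S (g.comp f) F hFz j h₀ hh₀
  have hle : RingHom.ker f.toRingHom ≤ RingHom.ker h'.toRingHom := by
    rw [← hF, Ideal.span_le]
    intro p hp
    exact hk p hp
  let e : (MvPolynomial (Fin n) A ⧸ RingHom.ker f.toRingHom) ≃ₐ[A] P :=
    Ideal.quotientKerAlgEquivOfSurjective hf
  let l : (MvPolynomial (Fin n) A ⧸ RingHom.ker f.toRingHom) →ₐ[A] S.R k :=
    Ideal.Quotient.liftₐ _ h' (fun p hp => hle hp)
  refine ⟨k, l.comp e.symm.toAlgHom, ?_⟩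
  ext p
  obtain ⟨q, rfl⟩ := hf p
  have h2 : e.symm (f q) = Ideal.Quotient.mk _ q := by
    apply e.injective
    rw [e.apply_symm_apply]
    rfl
  show S.φ k (l (e.symm (f q))) = g (f q)
  rw [h2]
  show S.φ k (h' q) = g (f q)
  rw [← AlgHom.comp_apply, hh']
  rfl

section Extract

variable {J : Type u} [SmallCategory J] [IsFiltered J]
    (D : J ⥤ Under (CommRingCat.of A)) (c : Cocone D) (hc : IsColimit c)
    (e : c.pt ≅ Under.mk (CommRingCat.ofHom (algebraMap A B)))

/-- the forgetful functor to types -/
abbrev G (A : Type u) [CommRing A] : Under (CommRingCat.of A) ⥤ Type u :=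
  Under.forget _ ⋙ forget CommRingCat

/-- transition maps -/
def tMap {i j : J} (f : i ⟶ j) :
    letI := (D.obj i).hom.hom.toAlgebra
    letI := (D.obj j).hom.hom.toAlgebra
    (D.obj i).right →ₐ[A] (D.obj j).right :=
  letI := (D.obj i).hom.hom.toAlgebra
  letI := (D.obj j).hom.hom.toAlgebra
  { (D.map f).right.hom with
    commutes' := fun a => by
      have := Under.w (D.map f)
      exact congrArg (fun g => g.hom a) this }

/-- structure maps -/
def φMap (j : J) :
    letI := (D.obj j).hom.hom.toAlgebra
    (D.obj j).right →ₐ[A] B :=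
  letI := (D.obj j).hom.hom.toAlgebra
  { ((c.ι.app j).right ≫ e.hom.right).hom with
    commutes' := fun a => by
      have h1 := Under.w (c.ι.app j)
      have h2 := Under.w e.hom
      have h3 : (D.obj j).hom ≫ ((c.ι.app j).right ≫ e.hom.right) =
          CommRingCat.ofHom (algebraMap A B) := by
        rw [← Category.assoc]
        erw [h1, h2]
        rfl
      exact congrArg (fun g => g.hom a) h3 }

include hc in
theorem φMap_surj (b : B) : ∃ j y, φMap D c e j y = b := by
  haveI : PreservesColimitsOfShape J (Under.forget (CommRingCat.of A)) :=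
    PreservesFilteredColimitsOfSize.preserves_filtered_colimits J
  haveI : PreservesColimitsOfShape J (forget CommRingCat.{u}) :=
    PreservesFilteredColimitsOfSize.preserves_filtered_colimits J
  have hG : IsColimit ((G A).mapCocone c) := isColimitOfPreserves (G A) hc
  obtain ⟨j, y, hy⟩ := Types.jointly_surjective_of_isColimit hG (e.inv.right.hom b)
  refine ⟨j, y, ?_⟩
  show e.hom.right.hom ((c.ι.app j).right.hom y) = b
  have : (c.ι.app j).right.hom y = e.inv.right.hom b := hy
  rw [this]
  have h4 : e.inv.right ≫ e.hom.right = 𝟙 _ := by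
    rw [← Under.comp_right, e.inv_hom_id]
    rfl
  exact congrArg (fun g => g.hom b) h4

include hc in
theorem φMap_inj (i : J) (x y : (D.obj i).right) (hxy : φMap D c e i x = φMap D c e i y) :
    ∃ (k : J) (f : i ⟶ k), tMap D f x = tMap D f y := by
  haveI : PreservesColimitsOfShape J (Under.forget (CommRingCat.of A)) :=
    PreservesFilteredColimitsOfSize.preserves_filtered_colimits J
  haveI : PreservesColimitsOfShape J (forget CommRingCat.{u}) :=
    PreservesFilteredColimitsOfSize.preserves_filtered_colimits J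
  have hG : IsColimit ((G A).mapCocone c) := isColimitOfPreserves (G A) hc
  have hxy' : (c.ι.app i).right.hom x = (c.ι.app i).right.hom y := by
    have h4 : e.hom.right ≫ e.inv.right = 𝟙 _ := by
      rw [← Under.comp_right, e.hom_inv_id]
      rfl
    have h5 : ∀ z, e.inv.right.hom (e.hom.right.hom z) = z := fun z =>
      congrArg (fun g => g.hom z) h4
    have := congrArg (e.inv.right.hom) hxy
    simpa [φMap, h5] using this
  have hxy'' : ((G A).mapCocone c).ι.app i x = ((G A).mapCocone c).ι.app i y := hxy'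
  obtain ⟨k, f, g, hfg⟩ := (Types.FilteredColimit.isColimit_eq_iff _ hG).mp hxy''
  refine ⟨IsFiltered.coeq f g, f ≫ IsFiltered.coeqHom f g, ?_⟩
  have hfg' : (D.map f).right.hom x = (D.map g).right.hom y := hfg
  show (D.map (f ≫ IsFiltered.coeqHom f g)).right.hom x =
    (D.map (f ≫ IsFiltered.coeqHom f g)).right.hom y
  conv_rhs => rw [IsFiltered.coeq_condition f g]
  rw [D.map_comp, D.map_comp]
  show (D.map (IsFiltered.coeqHom f g)).right.hom ((D.map f).right.hom x) =
    (D.map (IsFiltered.coeqHom f g)).right.hom ((D.map g).right.hom y)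
  rw [hfg']

/-- the concrete system of a filtered colimit -/
def ofColimit : FSys A B where
  J := J
  cat := inferInstance
  filt := inferInstance
  R := fun j => (D.obj j).right
  ring := fun j => inferInstance
  alg := fun j => (D.obj j).hom.hom.toAlgebra
  t := fun f => tMap D f
  φ := fun j => φMap D c e j
  hφ := fun {i j} f x => by
    have := c.w f
    have h' : (D.map f).right ≫ (c.ι.app j).right = (c.ι.app i).right := by
      rw [← Under.comp_right, this]
    show (e.hom.right.hom) ((c.ι.app j).right.hom ((D.map f).right.hom x)) =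
      (e.hom.right.hom) ((c.ι.app i).right.hom x)
    rw [← h']
    rfl
  hsurj := φMap_surj D c hc e
  hinj := φMap_inj D c hc e

end Extract

/-- the factorization property -/
def Fac (A B : Type u) [CommRing A] [CommRing B] [Algebra A B] : Prop :=
  ∀ (P : Type u) [CommRing P] [Algebra A P] [Algebra.FinitePresentation A P] (g : P →ₐ[A] B),
    ∃ (E : Type u) (_ : CommRing E) (_ : Algebra A E) (_ : Algebra.Etale A E)
      (h : P →ₐ[A] E) (g' : E →ₐ[A] B), g'.comp h = g

theorem fac_of_isIndEtale (h : EtPBC.IsIndEtale A B) : Fac A B := by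
  obtain ⟨S⟩ := IndEtFib.nonempty_sys h
  intro P _ _ _ g
  obtain ⟨j, g', hg'⟩ := exists_factor (ofSys S) P g
  exact ⟨S.R j, inferInstance, inferInstance, S.etale j, g', S.φ j, hg'⟩

end Groth.Agent.Helper2.IndEtCrit
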