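import Mathlib
import Groth.Prelude
import Groth.Agent.Helper2.IndEtCritA

set_option autoImplicit false
universe u
open CategoryTheory CategoryTheory.Limits TensorProduct

namespace Groth.Agent.Helper2.IndZarCrit

open Groth.Agent.Helper2.IndEtCrit

variable {A B : Type u} [CommRing A] [CommRing B] [Algebra A B]

/-- the factorization property through local isomorphisms -/
def FacZ (A B : Type u) [CommRing A] [CommRing B] [Algebra A B] : Prop :=
  ∀ (P : Type u) [CommRing P] [Algebra A P] [Algebra.FinitePresentation A P] (g : P →ₐ[A] B),
    ∃ (E : Type u) (_ : CommRing E) (_ : Algebra A E) (_ : Algebra.IsLocalIso A E)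
      (h : P →ₐ[A] E) (g' : E →ₐ[A] B), g'.comp h = g

theorem facZ_of_isIndZariski (h : EtPBC.IsIndZariski A B) : FacZ A B := by
  obtain ⟨J, _, _, D, c, hc, hloc, ⟨e⟩⟩ := h
  intro P _ _ _ g
  obtain ⟨j, g', hg'⟩ := exists_factor (ofColimit D c hc e) P g
  exact ⟨(ofColimit D c hc e).R j, inferInstance, inferInstance, hloc j, g',
    (ofColimit D c hc e).φ j, hg'⟩

/-- a standard open immersion is of finite presentation -/
theorem finitePresentation_of_isStandardOpenImmersion (R S : Type u) [CommRing R] [CommRing S]
    [Algebra R S] [Algebra.IsStandardOpenImmersion R S] : Algebra.FinitePresentation R S := by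
  obtain ⟨r, hr⟩ := Algebra.IsStandardOpenImmersion.exists_away R S
  exact IsLocalization.Away.finitePresentation r

/-- a local isomorphism is of finite presentation -/
theorem finitePresentation_of_isLocalIso (R S : Type u) [CommRing R] [CommRing S]
    [Algebra R S] [Algebra.IsLocalIso R S] : Algebra.FinitePresentation R S := by
  apply Algebra.FinitePresentation.of_span_eq_top_target
    {g : S | Algebra.IsStandardOpenImmersion R (Localization.Away g)}
    (Algebra.IsLocalIso.span_isStandardOpenImmersion_eq_top R S)
  intro g hg
  haveI : Algebra.IsStandardOpenImmersion R (Localization.Away g) := hg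
  exact finitePresentation_of_isStandardOpenImmersion R _

end Groth.Agent.Helper2.IndZarCrit
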