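import Mathlib
import Groth.Prelude
import Groth.Agent.Helper2.IndZarCritB

set_option autoImplicit false
universe u
open CategoryTheory CategoryTheory.Limits TensorProduct

namespace Groth.Agent.Helper2.HullZ

open Groth.Agent.Helper2.IndEtCrit Groth.Agent.Helper2.IndZarCrit

/-- two maps between local-iso algebras agree, near any prime containing their "difference
ideal", after multiplying by an element outside the prime -/
theorem exists_mul_eq_zero {A C₁ C₂ : Type u} [CommRing A] [CommRing C₁] [CommRing C₂]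
    [Algebra A C₁] [Algebra A C₂] [Algebra.IsLocalIso A C₁] (f g : C₁ →ₐ[A] C₂)
    (r : Ideal C₂) [r.IsPrime] (hr : ∀ c : C₁, f c - g c ∈ r) (c : C₁) :
    ∃ u : C₂, u ∉ r ∧ u * (f c - g c) = 0 := by
  -- the common contraction
  have hcomap : r.comap f.toRingHom = r.comap g.toRingHom := by
    ext x
    show f x ∈ r ↔ g x ∈ r
    constructor
    · intro h
      have := r.sub_mem h (hr x)
      simpa using this
    · intro h
      have := r.add_mem h (hr x)
      simpa using this
  haveI : (r.comap f.toRingHom).IsPrime := Ideal.comap_isPrime _ _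
  obtain ⟨s₁, hs₁, hstd⟩ :=
    Algebra.IsLocalIso.exists_notMem_isStandardOpenImmersion (R := A) (r.comap f.toRingHom)
  obtain ⟨a, ha⟩ := hstd.exists_away
  have hfs : f s₁ ∉ r := hs₁
  have hgs : g s₁ ∉ r := by
    have : s₁ ∉ r.comap g.toRingHom := hcomap ▸ hs₁
    exact this
  set u₀ : C₂ := f s₁ * g s₁ with hu₀
  have hu₀r : u₀ ∉ r := fun h => (‹r.IsPrime›.mem_or_mem h).elim hfs hgs
  have hfu : IsUnit ((IsScalarTower.toAlgHom A C₂ (Localization.Away u₀)).comp f s₁) := by
    show IsUnit (algebraMap C₂ (Localization.Away u₀) (f s₁))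
    exact isUnit_of_dvd_unit (map_dvd _ (dvd_mul_right _ _))
      (IsLocalization.Away.algebraMap_isUnit u₀)
  have hgu : IsUnit ((IsScalarTower.toAlgHom A C₂ (Localization.Away u₀)).comp g s₁) := by
    show IsUnit (algebraMap C₂ (Localization.Away u₀) (g s₁))
    exact isUnit_of_dvd_unit (map_dvd _ (dvd_mul_left _ _))
      (IsLocalization.Away.algebraMap_isUnit u₀)
  let F : Localization.Away s₁ →ₐ[A] Localization.Away u₀ :=
    IsLocalization.Away.liftAlgHom (x := s₁)
      (f := (IsScalarTower.toAlgHom A C₂ (Localization.Away u₀)).comp f) hfu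
  let G : Localization.Away s₁ →ₐ[A] Localization.Away u₀ :=
    IsLocalization.Away.liftAlgHom (x := s₁)
      (f := (IsScalarTower.toAlgHom A C₂ (Localization.Away u₀)).comp g) hgu
  have hFG : F = G :=
    Subsingleton.elim (h := IsLocalization.algHom_subsingleton (Submonoid.powers a)) _ _
  have h1 : algebraMap C₂ (Localization.Away u₀) (f c) =
      algebraMap C₂ (Localization.Away u₀) (g c) := by
    have hF : F (algebraMap C₁ _ c) = algebraMap C₂ (Localization.Away u₀) (f c) := by
      simp [F]
    have hG : G (algebraMap C₁ _ c) = algebraMap C₂ (Localization.Away u₀) (g c) := by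
      simp [G]
    rw [← hF, ← hG, hFG]
  have h2 : algebraMap C₂ (Localization.Away u₀) (f c - g c) = 0 := by
    rw [map_sub, h1, sub_self]
  rw [IsLocalization.map_eq_zero_iff (Submonoid.powers u₀)] at h2
  obtain ⟨⟨_, n, rfl⟩, hn⟩ := h2
  exact ⟨u₀ ^ n, fun h => hu₀r (‹r.IsPrime›.mem_of_pow_mem n h), hn⟩

/-- the coequalizer of two maps between local-iso algebras is a local isomorphism -/
theorem isLocalIso_coeq {A C₁ C₂ : Type u} [CommRing A] [CommRing C₁] [CommRing C₂] [Algebra A C₁]
    [Algebra A C₂] [Algebra.IsLocalIso A C₁] [Algebra.IsLocalIso A C₂] (f g : C₁ →ₐ[A] C₂)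
    (s : Finset C₁) (hs : Algebra.adjoin A (s : Set C₁) = ⊤) :
    Algebra.IsLocalIso A (C₂ ⧸ Ideal.span ((fun c => f c - g c) '' (s : Set C₁))) := by
  classical
  set J : Ideal C₂ := Ideal.span ((fun c => f c - g c) '' (s : Set C₁)) with hJ
  have hfg : J.FG := ⟨s.image (fun c => f c - g c), by rw [Finset.coe_image]⟩
  -- all differences lie in `J`
  have hall : ∀ c : C₁, f c - g c ∈ J := by
    have hπ : (Ideal.Quotient.mkₐ A J).comp f = (Ideal.Quotient.mkₐ A J).comp g := by
      apply AlgHom.ext_of_adjoin_eq_top hs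
      intro c hc
      show Ideal.Quotient.mk J (f c) = Ideal.Quotient.mk J (g c)
      rw [Ideal.Quotient.eq]
      exact Ideal.subset_span ⟨c, hc, rfl⟩
    intro c
    rw [← Ideal.Quotient.eq]
    exact congr($hπ c)
  -- `J` is idempotent
  have hJJ : J ≤ J * J := by
    rw [hJ, Ideal.span_le]
    rintro _ ⟨c, -, rfl⟩
    show f c - g c ∈ J * J
    set d : C₂ := f c - g c with hd
    let Ann : Ideal C₂ := LinearMap.ker (LinearMap.toSpanSingleton C₂ C₂ d)
    have hAnn : ∀ x, x ∈ Ann ↔ x * d = 0 := by
      intro x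
      rw [LinearMap.mem_ker, LinearMap.toSpanSingleton_apply, smul_eq_mul]
    have htop : Ann ⊔ J = ⊤ := by
      by_contra hne
      obtain ⟨m, hm, hle⟩ := Ideal.exists_le_maximal _ hne
      haveI := hm.isPrime
      have hJm : J ≤ m := le_trans le_sup_right hle
      obtain ⟨u, hu, hud⟩ := exists_mul_eq_zero f g m (fun c => hJm (hall c)) c
      exact hu (hle (Ideal.mem_sup_left ((hAnn u).mpr hud)))
    have h1 : (1 : C₂) ∈ Ann ⊔ J := htop ▸ Submodule.mem_top
    obtain ⟨α, hα, j, hj, hαj⟩ := Submodule.mem_sup.mp h1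
    have hαd : α * d = 0 := (hAnn α).mp hα
    have : d = j * d := by
      calc d = (α + j) * d := by rw [hαj, one_mul]
        _ = j * d := by rw [add_mul, hαd, zero_add]
    rw [this]
    exact Ideal.mul_mem_mul hj (hall c)
  have hidem : IsIdempotentElem J := le_antisymm Ideal.mul_le_right hJJ
  obtain ⟨e, he, hJe⟩ := (J.isIdempotentElem_iff_of_fg hfg).mp hidem
  have hJe' : J = Ideal.span {1 - (1 - e)} := by
    rw [sub_sub_cancel]
    exact hJe
  haveI : IsLocalization.Away (1 - e) (C₂ ⧸ J) := by
    rw [hJe']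
    exact IsLocalization.Away.quotient_of_isIdempotentElem he.one_sub
  haveI : Algebra.IsStandardOpenImmersion C₂ (C₂ ⧸ J) := ⟨1 - e, inferInstance⟩
  exact Algebra.IsLocalIso.trans A C₂ (C₂ ⧸ J)

variable {A : Type u} [CommRing A] {B : Type u} [CommRing B] [Algebra A B]

instance isFilteredOrEmpty : IsFilteredOrEmpty (ZIdx A B) where
  cocone_objs a b := by
    haveI : Algebra.IsLocalIso A (a.C ⊗[A] b.C) := isLocalIso_tensor a b
    obtain ⟨k, e, he⟩ := ZIdx.exists_equiv (a.C ⊗[A] b.C)
      (Algebra.TensorProduct.productMap a.γ b.γ)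
    exact ⟨k, ⟨e.toAlgHom.comp Algebra.TensorProduct.includeLeft, fun c => by
        show k.γ (e (c ⊗ₜ 1)) = _
        rw [he]; simp⟩,
      ⟨e.toAlgHom.comp Algebra.TensorProduct.includeRight, fun c => by
        show k.γ (e (1 ⊗ₜ c)) = _
        rw [he]; simp⟩, trivial⟩
  cocone_maps a b f g := by
    classical
    obtain ⟨s, hs⟩ := (inferInstance : Algebra.FiniteType A a.C).out
    set J : Ideal b.C := Ideal.span ((fun c => f.1 c - g.1 c) '' (s : Set a.C)) with hJ
    haveI : Algebra.IsLocalIso A (b.C ⧸ J) := isLocalIso_coeq f.1 g.1 s hs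
    have hle : ∀ c ∈ J, b.γ c = 0 := by
      have : J ≤ RingHom.ker b.γ.toRingHom := by
        rw [hJ, Ideal.span_le]
        rintro _ ⟨c, -, rfl⟩
        show b.γ (f.1 c - g.1 c) = 0
        rw [map_sub, f.2, g.2, sub_self]
      exact fun c hc => this hc
    obtain ⟨k, e, he⟩ := ZIdx.exists_equiv (b.C ⧸ J) (Ideal.Quotient.liftₐ J b.γ hle)
    refine ⟨k, ⟨e.toAlgHom.comp (Ideal.Quotient.mkₐ A J), fun c => by
      show k.γ (e (Ideal.Quotient.mk J c)) = _
      rw [he]
      rfl⟩, ?_⟩
    apply Subtype.ext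
    show (e.toAlgHom.comp (Ideal.Quotient.mkₐ A J)).comp f.1 =
      (e.toAlgHom.comp (Ideal.Quotient.mkₐ A J)).comp g.1
    apply AlgHom.ext_of_adjoin_eq_top hs
    intro c hc
    show e (Ideal.Quotient.mk J (f.1 c)) = e (Ideal.Quotient.mk J (g.1 c))
    congr 1
    rw [Ideal.Quotient.eq]
    exact Ideal.subset_span ⟨c, hc, rfl⟩

instance isFiltered : IsFiltered (ZIdx A B) := {}

variable (A B)

/-- the ind-Zariski hull, as an object under `A` -/
noncomputable abbrev hullObj : Under (CommRingCat.of A) := colimit (ZD (A := A) (B := B))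

/-- the ind-Zariski hull of `B` over `A` -/
abbrev Hull : Type u := (hullObj A B).right

noncomputable instance : Algebra A (Hull A B) := (hullObj A B).hom.hom.toAlgebra

/-- the comparison iso (identity) -/
noncomputable def hullIso : (colimit.cocone (ZD (A := A) (B := B))).pt ≅
    Under.mk (CommRingCat.ofHom (algebraMap A (Hull A B))) := Iso.refl _

/-- the filtered system of the hull -/
noncomputable def hullSys : FSys A (Hull A B) :=
  ofColimit (ZD (A := A) (B := B)) (colimit.cocone ZD) (colimit.isColimit ZD) (hullIso A B)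

theorem isIndZariski_hull : EtPBC.IsIndZariski A (Hull A B) := by
  refine ⟨ZIdx A B, inferInstance, inferInstance, ZD, colimit.cocone ZD, colimit.isColimit ZD, ?_,
    ⟨hullIso A B⟩⟩
  intro a
  have halg : (algebraMap A a.C).toAlgebra = (inferInstance : Algebra A a.C) :=
    Algebra.algebra_ext _ _ (fun r => rfl)
  show @Algebra.IsLocalIso A a.C _ _ (algebraMap A a.C).toAlgebra
  rw [halg]
  infer_instance

/-- the counit `Hull A B → B` -/
noncomputable def hullCounit : Hull A B →ₐ[A] B :=
  { (colimit.desc ZD (Zcc (A := A) (B := B))).right.hom with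
    commutes' := fun a => by
      have := Under.w (colimit.desc ZD (Zcc (A := A) (B := B)))
      exact congrArg (fun g => g.hom a) this }

/-- the structure maps into the hull -/
noncomputable def hullι (j : ZIdx A B) : j.C →ₐ[A] Hull A B :=
  { (colimit.ι (ZD (A := A) (B := B)) j).right.hom with
    commutes' := fun a => by
      have := Under.w (colimit.ι (ZD (A := A) (B := B)) j)
      exact congrArg (fun g => g.hom a) this }

theorem hullι_map {j k : ZIdx A B} (f : j ⟶ k) (y : j.C) :
    hullι A B k (f.1 y) = hullι A B j y := by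
  have h := colimit.w (ZD (A := A) (B := B)) f
  have h' : (ZD.map f).right ≫ (colimit.ι (ZD (A := A) (B := B)) k).right =
      (colimit.ι (ZD (A := A) (B := B)) j).right := by
    rw [← Under.comp_right, h]
  exact congrArg (fun g => g.hom y) h'

theorem hullι_jointly_surjective (x : Hull A B) : ∃ (j : ZIdx A B) (y : j.C), hullι A B j y = x := by
  obtain ⟨j, y, hy⟩ := (hullSys A B).hsurj x
  exact ⟨j, y, hy⟩

theorem hullCounit_ι (j : ZIdx A B) (y : j.C) : hullCounit A B (hullι A B j y) = j.γ y := by
  have h := colimit.ι_desc (Zcc (A := A) (B := B)) j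
  have h' : (colimit.ι (ZD (A := A) (B := B)) j).right ≫
      (colimit.desc ZD (Zcc (A := A) (B := B))).right = ((Zcc (A := A) (B := B)).ι.app j).right := by
    rw [← Under.comp_right, h]
  exact congrArg (fun g => g.hom y) h'

/-- an element of the hull whose image in `B` is a unit is a unit -/
theorem isUnit_of_isUnit_counit (x : Hull A B) (hx : IsUnit (hullCounit A B x)) : IsUnit x := by
  obtain ⟨i, xi, rfl⟩ := hullι_jointly_surjective A B x
  rw [hullCounit_ι] at hx
  haveI : Algebra.IsLocalIso A (Localization.Away xi) := Algebra.IsLocalIso.trans A i.C _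
  let γ' : Localization.Away xi →ₐ[A] B := IsLocalization.Away.liftAlgHom xi (f := i.γ) hx
  have hγ' : ∀ c, γ' (algebraMap i.C (Localization.Away xi) c) = i.γ c := fun c =>
    IsLocalization.Away.lift_eq xi (g := (i.γ : i.C →+* B)) hx c
  obtain ⟨k, e, he⟩ := ZIdx.exists_equiv (Localization.Away xi) γ'
  let m : i ⟶ k := ⟨e.toAlgHom.comp (IsScalarTower.toAlgHom A i.C (Localization.Away xi)),
    fun c => by
      show k.γ (e (algebraMap i.C (Localization.Away xi) c)) = i.γ c
      rw [he, hγ']⟩
  rw [← hullι_map A B m xi]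
  have hu : IsUnit (algebraMap i.C (Localization.Away xi) xi) :=
    IsLocalization.Away.algebraMap_isUnit xi
  exact (hu.map e).map (hullι A B k)

/-- idempotents of `B` lift to the hull -/
theorem exists_counit_eq_of_isIdempotentElem (t : B) (ht : IsIdempotentElem t) :
    ∃ c : Hull A B, IsIdempotentElem c ∧ hullCounit A B c = t := by
  have ht' : t * t = t := ht
  have ht0 : t * (1 - t) = 0 := by rw [mul_sub, mul_one, ht', sub_self]
  have ht1 : (1 - t) * (1 - t) = 1 - t := by
    have : (1 - t) * (1 - t) = 1 - t - (t * (1 - t)) := by ring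
    rw [this, ht0, sub_zero]
  let f : (Fin 2 → A) →ₗ[A] B :=
    { toFun := fun a => a 0 • t + a 1 • (1 - t)
      map_add' := fun a b => by
        simp only [Pi.add_apply, add_smul]
        abel
      map_smul' := fun r a => by
        simp only [Pi.smul_apply, smul_eq_mul, RingHom.id_apply, smul_add, mul_smul] }
  let γ : (Fin 2 → A) →ₐ[A] B := AlgHom.ofLinearMap f
    (by
      show (1 : A) • t + (1 : A) • (1 - t) = 1
      rw [one_smul, one_smul]
      ring)
    (by
      intro a b
      show (a 0 * b 0) • t + (a 1 * b 1) • (1 - t) =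
        (a 0 • t + a 1 • (1 - t)) * (b 0 • t + b 1 • (1 - t))
      simp only [Algebra.smul_def, map_mul]
      have e1 : (algebraMap A B (a 0) * t + algebraMap A B (a 1) * (1 - t)) *
          (algebraMap A B (b 0) * t + algebraMap A B (b 1) * (1 - t)) =
          algebraMap A B (a 0) * algebraMap A B (b 0) * (t * t) +
          algebraMap A B (a 1) * algebraMap A B (b 1) * ((1 - t) * (1 - t)) +
          (algebraMap A B (a 0) * algebraMap A B (b 1) +
            algebraMap A B (a 1) * algebraMap A B (b 0)) * (t * (1 - t)) := by ring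
      rw [e1, ht', ht1, ht0, mul_zero, add_zero])
  haveI : Algebra.IsLocalIso A (Fin 2 → A) := Algebra.IsLocalIso.pi_of_finite A (fun _ : Fin 2 => A)
  obtain ⟨k, e, he⟩ := ZIdx.exists_equiv (Fin 2 → A) γ
  have hid : IsIdempotentElem (Pi.single (0 : Fin 2) (1 : A) : Fin 2 → A) := by
    funext j
    show (Pi.single (0 : Fin 2) (1 : A) : Fin 2 → A) j * (Pi.single (0 : Fin 2) (1 : A) : Fin 2 → A) j
      = (Pi.single (0 : Fin 2) (1 : A) : Fin 2 → A) j
    fin_cases j <;> simp
  refine ⟨hullι A B k (e (Pi.single 0 1)), (hid.map e).map (hullι A B k), ?_⟩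
  rw [hullCounit_ι, he]
  show (Pi.single (0 : Fin 2) (1 : A) : Fin 2 → A) 0 • t +
    (Pi.single (0 : Fin 2) (1 : A) : Fin 2 → A) 1 • (1 - t) = t
  simp

end Groth.Agent.Helper2.HullZ
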