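import Mathlib
import Groth.Prelude
import Groth.Agent.Helper2.HullZA

set_option autoImplicit false
universe u
open CategoryTheory CategoryTheory.Limits TensorProduct

namespace Groth.Agent.Helper2.HullZ

open Groth.Agent.Helper2.IndEtCrit Groth.Agent.Helper2.IndZarCrit

variable (A : Type u) [CommRing A] (B : Type u) [CommRing B] [Algebra A B]

section Desc

variable {A B} {R : Type u} [CommRing R] [Algebra A R] (ψ : ∀ j : ZIdx A B, j.C →ₐ[A] R)
  (hψ : ∀ {j k : ZIdx A B} (f : j ⟶ k) (c : j.C), ψ k (f.1 c) = ψ j c)

/-- the cocone of a compatible family -/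
noncomputable def descCocone : Cocone (ZD (A := A) (B := B)) where
  pt := Under.mk (CommRingCat.ofHom (algebraMap A R))
  ι :=
    { app := fun a => Under.homMk (CommRingCat.ofHom (ψ a).toRingHom) (by
        ext r
        exact (ψ a).commutes r)
      naturality := fun a b f => by
        ext x
        exact hψ f x }

/-- maps out of the hull from compatible families -/
noncomputable def hullDesc : Hull A B →ₐ[A] R :=
  { (colimit.desc ZD (descCocone ψ hψ)).right.hom with
    commutes' := fun a => by
      have := Under.w (colimit.desc ZD (descCocone ψ hψ))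
      exact congrArg (fun g => g.hom a) this }

theorem hullDesc_ι (j : ZIdx A B) (y : j.C) : hullDesc ψ hψ (hullι A B j y) = ψ j y := by
  have h := colimit.ι_desc (descCocone ψ hψ) j
  have h' : (colimit.ι (ZD (A := A) (B := B)) j).right ≫
      (colimit.desc ZD (descCocone ψ hψ)).right = ((descCocone ψ hψ).ι.app j).right := by
    rw [← Under.comp_right, h]
  exact congrArg (fun g => g.hom y) h'

end Desc

theorem hull_algHom_ext {R : Type*} [CommRing R] [Algebra A R] (f g : Hull A B →ₐ[A] R)
    (h : ∀ (j : ZIdx A B) (y : j.C), f (hullι A B j y) = g (hullι A B j y)) : f = g := by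
  ext x
  obtain ⟨j, y, rfl⟩ := hullι_jointly_surjective A B x
  exact h j y

end Groth.Agent.Helper2.HullZ
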