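import Mathlib
import Groth.Prelude
import Groth.Agent.Helper2.IndEtCritA

set_option autoImplicit false
universe u
open CategoryTheory CategoryTheory.Limits TensorProduct

namespace Groth.Agent.Helper2.IndEtCrit

/-- The small index type: étale quotients of polynomial rings with a map to `B`. -/
structure QIdx (A : Type u) [CommRing A] (B : Type u) [CommRing B] [Algebra A B] where
  n : ℕ
  I : Ideal (MvPolynomial (Fin n) A)
  γ : (MvPolynomial (Fin n) A ⧸ I) →ₐ[A] B
  etale : Algebra.Etale A (MvPolynomial (Fin n) A ⧸ I)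

variable {A : Type u} [CommRing A] {B : Type u} [CommRing B] [Algebra A B]

namespace QIdx

/-- the algebra of an index -/
abbrev C (i : QIdx A B) : Type u := MvPolynomial (Fin i.n) A ⧸ i.I

instance (i : QIdx A B) : Algebra.Etale A i.C := i.etale

theorem exists_equiv (C : Type u) [CommRing C] [Algebra A C] [Algebra.Etale A C]
    (γ : C →ₐ[A] B) : ∃ (i : QIdx A B) (e : C ≃ₐ[A] i.C), ∀ c, i.γ (e c) = γ c := by
  obtain ⟨n, f, hf⟩ := Algebra.FiniteType.iff_quotient_mvPolynomial''.1
    (inferInstance : Algebra.FiniteType A C)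
  let e : (MvPolynomial (Fin n) A ⧸ RingHom.ker f.toRingHom) ≃ₐ[A] C :=
    Ideal.quotientKerAlgEquivOfSurjective hf
  refine ⟨⟨n, RingHom.ker f.toRingHom, γ.comp e.toAlgHom, Algebra.Etale.of_equiv e.symm⟩,
    e.symm, fun c => ?_⟩
  show γ (e (e.symm c)) = γ c
  rw [e.apply_symm_apply]

end QIdx

noncomputable instance : SmallCategory (QIdx A B) where
  Hom a b := {φ : a.C →ₐ[A] b.C // ∀ c, b.γ (φ c) = a.γ c}
  id a := ⟨AlgHom.id A _, fun _ => rfl⟩
  comp f g := ⟨g.1.comp f.1, fun c => by rw [AlgHom.comp_apply, g.2, f.2]⟩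

/-- killing finitely many elements in the kernel of `γ` using the factorization property -/
theorem exists_kill_fac (hfac : Fac A B) {C : Type u} [CommRing C] [Algebra A C] [Algebra.Etale A C]
    (γ : C →ₐ[A] B) (s : Finset C) (hs : ∀ c ∈ s, γ c = 0) :
    ∃ (D : Type u) (_ : CommRing D) (_ : Algebra A D) (_ : Algebra.Etale A D) (δ : D →ₐ[A] B)
      (φ : C →ₐ[A] D), (∀ c, δ (φ c) = γ c) ∧ ∀ c ∈ s, φ c = 0 := by
  classical
  let I : Ideal C := Ideal.span (↑s : Set C)
  have hI : I.FG := ⟨s, rfl⟩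
  haveI : Algebra.FinitePresentation A (C ⧸ I) := Algebra.FinitePresentation.quotient hI
  have hle : ∀ c ∈ I, γ c = 0 := by
    intro c hc
    have : I ≤ RingHom.ker γ.toRingHom := by
      rw [Ideal.span_le]
      intro x hx
      exact hs x hx
    exact this hc
  let g : (C ⧸ I) →ₐ[A] B := Ideal.Quotient.liftₐ I γ hle
  obtain ⟨E, _, _, _, h, g', hg'⟩ := hfac (C ⧸ I) g
  refine ⟨E, inferInstance, inferInstance, inferInstance, g', h.comp (Ideal.Quotient.mkₐ A I), ?_, ?_⟩
  · intro c
    show g' (h (Ideal.Quotient.mk I c)) = γ c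
    rw [← AlgHom.comp_apply, hg']
    rfl
  · intro c hc
    show h (Ideal.Quotient.mk I c) = 0
    rw [Ideal.Quotient.eq_zero_iff_mem.2 (Ideal.subset_span hc), map_zero]

theorem isFilteredOrEmpty_of_fac (hfac : Fac A B) : IsFilteredOrEmpty (QIdx A B) where
  cocone_objs a b := by
    haveI : Algebra.Etale a.C (a.C ⊗[A] b.C) := inferInstance
    haveI : Algebra.Etale A (a.C ⊗[A] b.C) := Algebra.Etale.comp A a.C _
    obtain ⟨k, e, he⟩ := QIdx.exists_equiv (a.C ⊗[A] b.C)
      (Algebra.TensorProduct.productMap a.γ b.γ)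
    exact ⟨k, ⟨e.toAlgHom.comp Algebra.TensorProduct.includeLeft, fun c => by
        show k.γ (e (c ⊗ₜ 1)) = _
        rw [he]; simp⟩,
      ⟨e.toAlgHom.comp Algebra.TensorProduct.includeRight, fun c => by
        show k.γ (e (1 ⊗ₜ c)) = _
        rw [he]; simp⟩, trivial⟩
  cocone_maps a b f g := by
    classical
    let s : Finset b.C := Finset.univ.image (fun m : Fin a.n =>
      f.1 (Ideal.Quotient.mk _ (MvPolynomial.X m)) - g.1 (Ideal.Quotient.mk _ (MvPolynomial.X m)))
    have hs : ∀ c ∈ s, b.γ c = 0 := by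
      intro c hc
      obtain ⟨m, -, rfl⟩ := Finset.mem_image.mp hc
      rw [map_sub, f.2, g.2, sub_self]
    obtain ⟨D, _, _, _, δ, φ, hφ, hk⟩ := exists_kill_fac hfac b.γ s hs
    obtain ⟨k, e, he⟩ := QIdx.exists_equiv D δ
    refine ⟨k, ⟨e.toAlgHom.comp φ, fun c => by
      show k.γ (e (φ c)) = _
      rw [he, hφ]⟩, ?_⟩
    apply Subtype.ext
    show (e.toAlgHom.comp φ).comp f.1 = (e.toAlgHom.comp φ).comp g.1
    apply Ideal.Quotient.algHom_ext
    apply MvPolynomial.algHom_ext
    intro m
    have h1 := hk _ (Finset.mem_image_of_mem _ (Finset.mem_univ m))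
    rw [map_sub, sub_eq_zero] at h1
    show e (φ (f.1 (Ideal.Quotient.mk _ (MvPolynomial.X m)))) =
      e (φ (g.1 (Ideal.Quotient.mk _ (MvPolynomial.X m))))
    rw [h1]

instance : Nonempty (QIdx A B) := by
  obtain ⟨i, -, -⟩ := QIdx.exists_equiv A (Algebra.ofId A B)
  exact ⟨i⟩

theorem isFiltered_of_fac (hfac : Fac A B) : IsFiltered (QIdx A B) :=
  haveI := isFilteredOrEmpty_of_fac hfac
  {}

/-- the diagram -/
noncomputable def QD : QIdx A B ⥤ Under (CommRingCat.of A) where
  obj a := Under.mk (CommRingCat.ofHom (algebraMap A a.C))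
  map {a b} f := Under.homMk (CommRingCat.ofHom f.1.toRingHom) (by
    ext r
    exact f.1.commutes r)
  map_id a := by ext; rfl
  map_comp f g := by ext; rfl

/-- the cocone with vertex `B` -/
noncomputable def Qcc : Cocone (QD (A := A) (B := B)) where
  pt := Under.mk (CommRingCat.ofHom (algebraMap A B))
  ι :=
    { app := fun a => Under.homMk (CommRingCat.ofHom a.γ.toRingHom) (by
        ext r
        exact a.γ.commutes r)
      naturality := fun a b f => by
        ext x
        exact f.2 x }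

noncomputable def QccIsColimit (hfac : Fac A B) : IsColimit (Qcc (A := A) (B := B)) := by
  haveI := isFiltered_of_fac hfac
  haveI : PreservesColimitsOfShape (QIdx A B) (Under.forget (CommRingCat.of A)) :=
    PreservesFilteredColimitsOfSize.preserves_filtered_colimits _
  haveI : PreservesColimitsOfShape (QIdx A B) (forget CommRingCat.{u}) :=
    PreservesFilteredColimitsOfSize.preserves_filtered_colimits _
  haveI : ReflectsColimit (QD (A := A) (B := B)) (G A) := reflectsColimit_of_reflectsIsomorphisms _ _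
  apply isColimitOfReflects (G A)
  apply Types.FilteredColimit.isColimitOf'
  · intro (z : B)
    -- use the factorization property for `A[X] → B`
    obtain ⟨E, _, _, _, h, g', hg'⟩ := hfac (MvPolynomial (Fin 1) A)
      (MvPolynomial.aeval (fun _ => z))
    obtain ⟨i, e, he⟩ := QIdx.exists_equiv E g'
    refine ⟨i, (e (h (MvPolynomial.X 0)) : i.C), ?_⟩
    show z = i.γ (e (h (MvPolynomial.X 0)))
    rw [he, ← AlgHom.comp_apply, hg']
    simp
  · intro a (x : a.C) (y : a.C) hxy
    have hxy' : a.γ x = a.γ y := hxy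
    classical
    obtain ⟨D', _, _, _, δ, φ, hφ, hk⟩ := exists_kill_fac hfac a.γ {x - y} (by
      intro c hc
      rw [Finset.mem_singleton] at hc
      rw [hc, map_sub, hxy', sub_self])
    obtain ⟨k, e, he⟩ := QIdx.exists_equiv D' δ
    refine ⟨k, ⟨e.toAlgHom.comp φ, fun c => by
      show k.γ (e (φ c)) = _
      rw [he, hφ]⟩, ?_⟩
    show e (φ x) = e (φ y)
    have h1 := hk (x - y) (Finset.mem_singleton_self _)
    rw [map_sub, sub_eq_zero] at h1
    rw [h1]

/-- (Crit ⇐) the factorization property implies ind-étale -/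
theorem isIndEtale_of_fac (hfac : Fac A B) : EtPBC.IsIndEtale A B := by
  refine ⟨QIdx A B, inferInstance, isFiltered_of_fac hfac, QD, Qcc, QccIsColimit hfac, ?_, ⟨Iso.refl _⟩⟩
  intro a
  have halg : (algebraMap A a.C).toAlgebra = (inferInstance : Algebra A a.C) :=
    Algebra.algebra_ext _ _ (fun r => rfl)
  show @Algebra.Etale A a.C _ _ (algebraMap A a.C).toAlgebra
  rw [halg]
  infer_instance

theorem isIndEtale_iff_fac : EtPBC.IsIndEtale A B ↔ Fac A B :=
  ⟨fac_of_isIndEtale, isIndEtale_of_fac⟩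

end Groth.Agent.Helper2.IndEtCrit
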