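import Mathlib
import Groth.Prelude
import Groth.Agent.Helper2.IndEtCritB

set_option autoImplicit false
universe u
open CategoryTheory CategoryTheory.Limits TensorProduct

namespace Groth.Agent.Helper2.IndEtCrit

theorem s7289 (A B : Type u) [CommRing A] [CommRing B] [Algebra A B]
    {J : Type u} [SmallCategory J] [IsFiltered J] (D : J ⥤ Under (CommRingCat.of A))
    (hD : ∀ j, letI := (D.obj j).hom.hom.toAlgebra; EtPBC.IsIndEtale A ↥(D.obj j).right)
    (c : Cocone D) (hc : IsColimit c)
    (e : c.pt ≅ Under.mk (CommRingCat.ofHom (algebraMap A B))) :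
    EtPBC.IsIndEtale A B := by
  apply isIndEtale_of_fac
  intro P _ _ _ g
  obtain ⟨j, g', hg'⟩ := exists_factor (ofColimit D c hc e) P g
  letI : Algebra A (D.obj j).right := (D.obj j).hom.hom.toAlgebra
  obtain ⟨E, _, _, _, h, g'', hg''⟩ := fac_of_isIndEtale (hD j) P g'
  exact ⟨E, inferInstance, inferInstance, inferInstance, h,
    ((ofColimit D c hc e).φ j).comp g'', by
      ext p
      have h1 : g'' (h p) = g' p := AlgHom.congr_fun hg'' p
      have h2 := AlgHom.congr_fun hg' p
      show ((ofColimit D c hc e).φ j) (g'' (h p)) = g p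
      rw [h1]; exact h2⟩

end Groth.Agent.Helper2.IndEtCrit
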