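import Mathlib
import Groth.Prelude
import Groth.Agent.Helper2.IndEtCritC

set_option autoImplicit false
universe u
open CategoryTheory CategoryTheory.Limits TensorProduct

namespace Groth.Agent.Helper2.IndEtCrit

/-- finitely many elements of `B` come from a common stage -/
theorem exists_stage_finset {A B : Type u} [CommRing A] [CommRing B] [Algebra A B]
    (S : FSys A B) (T : Finset B) :
    ∃ j : S.J, (↑T : Set B) ⊆ Set.range (S.φ j) := by
  classical
  obtain ⟨j, y, hy⟩ := exists_lift_family S T (fun b => b)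
  exact ⟨j, fun b hb => ⟨y b, hy b hb⟩⟩

/-- cancellation: core construction. `R` is an étale `A`-algebra with a map `ρ` to `B`
through which the presentation of `P` descends. -/
theorem fac_cancel_core (A B C : Type u) [CommRing A] [CommRing B] [CommRing C] [Algebra A B]
    [Algebra B C] [Algebra A C] [IsScalarTower A B C] (hC : Fac A C)
    (R : Type u) [CommRing R] [Algebra A R] [Algebra.Etale A R] (ρ : R →ₐ[A] B)
    (P : Type u) [CommRing P] [Algebra B P] (g : P →ₐ[B] C)
    (n : ℕ) (f : MvPolynomial (Fin n) B →ₐ[B] P) (hf : Function.Surjective f)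
    (F' : Finset (MvPolynomial (Fin n) R))
    (hF : RingHom.ker f.toRingHom =
      Ideal.span ((MvPolynomial.map ρ.toRingHom) '' (↑F' : Set (MvPolynomial (Fin n) R)))) :
    ∃ (E : Type u) (_ : CommRing E) (_ : Algebra B E) (_ : Algebra.Etale B E)
      (h : P →ₐ[B] E) (g' : E →ₐ[B] C), g'.comp h = g := by
  classical
  -- the descended algebra
  let I'' : Ideal (MvPolynomial (Fin n) R) := Ideal.span (↑F' : Set (MvPolynomial (Fin n) R))
  let P'' := MvPolynomial (Fin n) R ⧸ I''
  haveI : Algebra.FinitePresentation A R := inferInstance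
  haveI : Algebra.FinitePresentation R (MvPolynomial (Fin n) R) :=
    Algebra.FinitePresentation.mvPolynomial R R (Fin n)
  haveI : Algebra.FinitePresentation A (MvPolynomial (Fin n) R) :=
    Algebra.FinitePresentation.trans A R _
  haveI : Algebra.FinitePresentation A P'' := Algebra.FinitePresentation.quotient ⟨F', rfl⟩
  -- the map `MvPolynomial R → C`
  let θ : MvPolynomial (Fin n) R →+* C :=
    (g.toRingHom.comp f.toRingHom).comp (MvPolynomial.map ρ.toRingHom)
  have hθC : ∀ r : R, θ (MvPolynomial.C r) = algebraMap B C (ρ r) := by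
    intro r
    show g (f (MvPolynomial.map ρ.toRingHom (MvPolynomial.C r))) = _
    rw [MvPolynomial.map_C]
    show g (f (algebraMap B _ (ρ r))) = _
    rw [AlgHom.commutes, AlgHom.commutes]
  let θA : MvPolynomial (Fin n) R →ₐ[A] C :=
    { θ with
      commutes' := fun a => by
        show θ (MvPolynomial.C (algebraMap A R a)) = _
        rw [hθC, AlgHom.commutes, ← IsScalarTower.algebraMap_apply] }
  have hθker : ∀ p ∈ I'', θA p = 0 := by
    intro p hp
    have hle : I'' ≤ RingHom.ker θA.toRingHom := by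
      rw [Ideal.span_le]
      intro q hq
      show g (f (MvPolynomial.map ρ.toRingHom q)) = 0
      have : MvPolynomial.map ρ.toRingHom q ∈ RingHom.ker f.toRingHom := by
        rw [hF]
        exact Ideal.subset_span ⟨q, hq, rfl⟩
      have h1 : f (MvPolynomial.map ρ.toRingHom q) = 0 := this
      rw [h1, map_zero]
    exact hle hp
  let γ : P'' →ₐ[A] C := Ideal.Quotient.liftₐ I'' θA hθker
  obtain ⟨E, _, _, _, h, g', hg'⟩ := hC P'' γ
  -- `E` as an `R`-algebra
  letI : Algebra R E := (h.toRingHom.comp (algebraMap R P'')).toAlgebra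
  haveI : IsScalarTower A R E := IsScalarTower.of_algebraMap_eq fun a => by
    show algebraMap A E a = h (algebraMap R P'' (algebraMap A R a))
    rw [← IsScalarTower.algebraMap_apply A R P'', AlgHom.commutes]
  haveI : Algebra.Etale R E := Algebra.Etale.of_restrictScalars A R E
  letI : Algebra R B := ρ.toRingHom.toAlgebra
  letI : Algebra R C := ((algebraMap B C).comp ρ.toRingHom).toAlgebra
  haveI : IsScalarTower R B C := IsScalarTower.of_algebraMap_eq fun r => rfl
  have hg'R : ∀ r : R, g' (algebraMap R E r) = algebraMap R C r := by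
    intro r
    show g' (h (algebraMap R P'' r)) = algebraMap B C (ρ r)
    rw [← AlgHom.comp_apply, hg']
    show θ (MvPolynomial.C r) = _
    exact hθC r
  let g'R : E →ₐ[R] C := { g' with commutes' := hg'R }
  let gB : B ⊗[R] E →ₐ[B] C :=
    Algebra.TensorProduct.lift (Algebra.ofId B C) g'R (fun _ _ => mul_comm _ _)
  -- the map `P → B ⊗ E`
  let ψ : MvPolynomial (Fin n) B →ₐ[B] B ⊗[R] E :=
    MvPolynomial.aeval (fun m => (1 : B) ⊗ₜ[R] h (Ideal.Quotient.mk I'' (MvPolynomial.X m)))
  have hψ : ∀ q : MvPolynomial (Fin n) R,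
      ψ (MvPolynomial.map ρ.toRingHom q) = (1 : B) ⊗ₜ[R] h (Ideal.Quotient.mk I'' q) := by
    intro q
    let r1 : MvPolynomial (Fin n) R →+* B ⊗[R] E :=
      ψ.toRingHom.comp (MvPolynomial.map ρ.toRingHom)
    let r2 : MvPolynomial (Fin n) R →+* B ⊗[R] E :=
      (Algebra.TensorProduct.includeRight (R := R) (A := B) (B := E)).toRingHom.comp
        (h.toRingHom.comp (Ideal.Quotient.mk I''))
    have : r1 = r2 := by
      apply MvPolynomial.ringHom_ext
      · intro r
        show ψ (MvPolynomial.map ρ.toRingHom (MvPolynomial.C r)) =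
          (1 : B) ⊗ₜ[R] h (Ideal.Quotient.mk I'' (MvPolynomial.C r))
        rw [MvPolynomial.map_C]
        show ψ (algebraMap B _ (ρ r)) = _
        rw [AlgHom.commutes, Algebra.TensorProduct.algebraMap_apply]
        show (algebraMap R B r) ⊗ₜ[R] (1 : E) = (1 : B) ⊗ₜ[R] (algebraMap R E r)
        rw [Algebra.algebraMap_eq_smul_one, TensorProduct.smul_tmul,
          ← Algebra.algebraMap_eq_smul_one]
      · intro m
        show ψ (MvPolynomial.map ρ.toRingHom (MvPolynomial.X m)) = _
        rw [MvPolynomial.map_X]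
        simp [ψ]
        rfl
    exact RingHom.congr_fun this q
  have hψker : RingHom.ker f.toRingHom ≤ RingHom.ker ψ.toRingHom := by
    rw [hF, Ideal.span_le]
    rintro _ ⟨q, hq, rfl⟩
    show ψ (MvPolynomial.map ρ.toRingHom q) = 0
    rw [hψ, Ideal.Quotient.eq_zero_iff_mem.2 (Ideal.subset_span hq), map_zero,
      TensorProduct.tmul_zero]
  let e : (MvPolynomial (Fin n) B ⧸ RingHom.ker f.toRingHom) ≃ₐ[B] P :=
    Ideal.quotientKerAlgEquivOfSurjective hf
  let l : (MvPolynomial (Fin n) B ⧸ RingHom.ker f.toRingHom) →ₐ[B] B ⊗[R] E :=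
    Ideal.Quotient.liftₐ _ ψ (fun p hp => hψker hp)
  refine ⟨B ⊗[R] E, inferInstance, inferInstance, inferInstance, l.comp e.symm.toAlgHom, gB, ?_⟩
  -- check equality on generators
  have hcomp : (gB.comp (l.comp e.symm.toAlgHom)).comp f = g.comp f := by
    apply MvPolynomial.algHom_ext
    intro m
    have h2 : e.symm (f (MvPolynomial.X m)) = Ideal.Quotient.mk _ (MvPolynomial.X m) := by
      apply e.injective
      rw [e.apply_symm_apply]
      rfl
    show gB (l (e.symm (f (MvPolynomial.X m)))) = g (f (MvPolynomial.X m))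
    rw [h2]
    show gB (ψ (MvPolynomial.X m)) = _
    simp only [ψ, MvPolynomial.aeval_X]
    show gB ((1 : B) ⊗ₜ[R] h (Ideal.Quotient.mk I'' (MvPolynomial.X m))) = _
    simp only [gB, Algebra.TensorProduct.lift_tmul, map_one, one_mul]
    show g' (h (Ideal.Quotient.mk I'' (MvPolynomial.X m))) = _
    rw [← AlgHom.comp_apply, hg']
    show θ (MvPolynomial.X m) = _
    show g (f (MvPolynomial.map ρ.toRingHom (MvPolynomial.X m))) = _
    rw [MvPolynomial.map_X]
  ext p
  obtain ⟨q, rfl⟩ := hf p
  exact AlgHom.congr_fun hcomp q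

theorem s0735 (A B C : Type u) [CommRing A] [CommRing B]
    [CommRing C] [Algebra A B] [Algebra B C] [Algebra A C] [IsScalarTower A B C]
    (hB : EtPBC.IsIndEtale A B) (hC : EtPBC.IsIndEtale A C) : EtPBC.IsIndEtale B C := by
  classical
  apply isIndEtale_of_fac
  intro P _ _ _ g
  obtain ⟨S⟩ := IndEtFib.nonempty_sys hB
  obtain ⟨n, f, hf, F, hF⟩ := Algebra.FinitePresentation.out (R := B) (A := P)
  -- all coefficients come from a common stage
  obtain ⟨j, hj⟩ := exists_stage_finset (ofSys S) (F.biUnion (fun p => p.coeffs))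
  have hlift : ∀ p ∈ F, ∃ p' : MvPolynomial (Fin n) (S.R j),
      MvPolynomial.map (S.φ j).toRingHom p' = p := by
    intro p hp
    have : p ∈ Set.range (MvPolynomial.map (S.φ j).toRingHom) := by
      rw [MvPolynomial.mem_range_map_iff_coeffs_subset]
      intro c hc
      exact hj (Finset.mem_biUnion.2 ⟨p, hp, hc⟩)
    exact this
  choose! lift hlift' using hlift
  let F' : Finset (MvPolynomial (Fin n) (S.R j)) := F.image lift
  have hF' : RingHom.ker f.toRingHom =
      Ideal.span ((MvPolynomial.map (S.φ j).toRingHom) '' (↑F' : Set (MvPolynomial (Fin n) (S.R j)))) := by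
    rw [← hF]
    congr 1
    ext p
    simp only [F', Finset.coe_image, Set.mem_image, Finset.mem_coe]
    constructor
    · intro hp
      exact ⟨lift p, ⟨p, hp, rfl⟩, hlift' p hp⟩
    · rintro ⟨_, ⟨q, hq, rfl⟩, rfl⟩
      rw [hlift' q hq]
      exact hq
  haveI : Algebra.Etale A (S.R j) := S.etale j
  exact fac_cancel_core A B C (fac_of_isIndEtale hC) (S.R j) (S.φ j) P g n f hf F' hF'

end Groth.Agent.Helper2.IndEtCrit
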