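import Mathlib
import Groth.Prelude
import Groth.Agent.Helper2.IndEtCritD
import Groth.Agent.S0733

set_option autoImplicit false
universe u
open CategoryTheory CategoryTheory.Limits TensorProduct

namespace Groth.Agent.Helper2.IndEtCrit

theorem fac_of_algEquiv {A B B' : Type u} [CommRing A] [CommRing B] [CommRing B'] [Algebra A B]
    [Algebra A B'] (e : B ≃ₐ[A] B') (h : Fac A B) : Fac A B' := by
  intro P _ _ _ g
  obtain ⟨E, _, _, _, h1, g', hg'⟩ := h P (e.symm.toAlgHom.comp g)
  refine ⟨E, inferInstance, inferInstance, inferInstance, h1, e.toAlgHom.comp g', ?_⟩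
  rw [AlgHom.comp_assoc, hg', ← AlgHom.comp_assoc]
  ext p
  simp

theorem fac_of_etale (A B : Type u) [CommRing A] [CommRing B] [Algebra A B] [Algebra.Etale A B] :
    Fac A B := by
  intro P _ _ _ g
  exact ⟨B, inferInstance, inferInstance, inferInstance, g, AlgHom.id A B, by ext; rfl⟩

/-- étale followed by `Fac` is `Fac`. -/
theorem fac_trans_etale (A B T : Type u) [CommRing A] [CommRing B] [CommRing T] [Algebra A B]
    [Algebra B T] [Algebra A T] [IsScalarTower A B T] [Algebra.Etale A B] (h : Fac B T) :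
    Fac A T := by
  intro P _ _ _ g
  let gB : B ⊗[A] P →ₐ[B] T :=
    Algebra.TensorProduct.lift (Algebra.ofId B T) g (fun _ _ => mul_comm _ _)
  obtain ⟨E, _, _, _, h1, g', hg'⟩ := h (B ⊗[A] P) gB
  letI : Algebra A E := ((algebraMap B E).comp (algebraMap A B)).toAlgebra
  haveI : IsScalarTower A B E := IsScalarTower.of_algebraMap_eq fun a => rfl
  haveI : Algebra.Etale A E := Algebra.Etale.comp A B E
  refine ⟨E, inferInstance, inferInstance, inferInstance,
    (h1.restrictScalars A).comp Algebra.TensorProduct.includeRight, g'.restrictScalars A, ?_⟩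
  ext p
  show g' (h1 ((1 : B) ⊗ₜ[A] p)) = g p
  rw [← AlgHom.comp_apply, hg']
  simp [gB]

/-- descent of an étale algebra to a stage -/
theorem descend_etale {A B : Type u} [CommRing A] [CommRing B] [Algebra A B]
    (S : IndEtFib.Sys A B) (E : Type u) [CommRing E] [Algebra B E] [Algebra.Etale B E] :
    ∃ (j : S.J) (Ej : Type u) (_ : CommRing Ej) (_ : Algebra (S.R j) Ej)
      (_ : Algebra.Etale (S.R j) Ej),
      letI : Algebra (S.R j) B := (S.φ j).toRingHom.toAlgebra
      Nonempty (E ≃ₐ[B] B ⊗[S.R j] Ej) := by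
  obtain ⟨B₀, E₀, _, _, hfg, hE₀, ⟨e⟩⟩ := Algebra.Etale.exists_subalgebra_fg ℤ B E
  haveI : Algebra.FiniteType ℤ B₀ := (Subalgebra.fg_iff_finiteType B₀).1 hfg
  haveI : Algebra.FinitePresentation ℤ B₀ := Algebra.FinitePresentation.of_finiteType.1 inferInstance
  let m : A ⊗[ℤ] B₀ →ₐ[A] B :=
    Algebra.TensorProduct.lift (Algebra.ofId A B) B₀.val (fun _ _ => mul_comm _ _)
  obtain ⟨j, k, hk⟩ := exists_factor (ofSys S) (A ⊗[ℤ] B₀) m
  let κ : B₀ →+* S.R j := k.toRingHom.comp
    (Algebra.TensorProduct.includeRight (R := ℤ) (A := A) (B := B₀)).toRingHom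
  letI : Algebra B₀ (S.R j) := κ.toAlgebra
  letI : Algebra (S.R j) B := (S.φ j).toRingHom.toAlgebra
  haveI : IsScalarTower B₀ (S.R j) B := IsScalarTower.of_algebraMap_eq fun b => by
    show (b : B) = S.φ j (k ((1 : A) ⊗ₜ[ℤ] b))
    have := AlgHom.congr_fun hk ((1 : A) ⊗ₜ[ℤ] b)
    rw [AlgHom.comp_apply] at this
    show (b : B) = (ofSys S).φ j (k ((1 : A) ⊗ₜ[ℤ] b))
    rw [this]
    simp [m]
  refine ⟨j, (S.R j) ⊗[B₀] E₀, inferInstance, inferInstance, inferInstance, ?_⟩
  exact ⟨e.trans (Algebra.TensorProduct.cancelBaseChange B₀ (S.R j) B B E₀).symm⟩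

/-- an étale algebra over an ind-étale algebra is ind-étale (factorization form) -/
theorem fac_of_etale_over_indEtale (A B E : Type u) [CommRing A] [CommRing B] [CommRing E]
    [Algebra A B] [Algebra B E] [Algebra A E] [IsScalarTower A B E]
    (hB : EtPBC.IsIndEtale A B) [Algebra.Etale B E] : Fac A E := by
  obtain ⟨S⟩ := IndEtFib.nonempty_sys hB
  obtain ⟨j, Ej, _, _, _, he⟩ := descend_etale S E
  letI : Algebra (S.R j) B := (S.φ j).toRingHom.toAlgebra
  obtain ⟨e⟩ := he
  haveI : IsScalarTower A (S.R j) B := IsScalarTower.of_algebraMap_eq fun a =>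
    ((S.φ j).commutes a).symm
  haveI : Algebra.Etale A (S.R j) := S.etale j
  -- `B` is ind-étale over the stage
  have hRB : EtPBC.IsIndEtale (S.R j) B :=
    s0735 A (S.R j) B (isIndEtale_of_fac (fac_of_etale A (S.R j))) hB
  have hT : EtPBC.IsIndEtale Ej (Ej ⊗[S.R j] B) := Groth.Agent.S0733.result (S.R j) B Ej hRB
  letI : Algebra A Ej := ((algebraMap (S.R j) Ej).comp (algebraMap A (S.R j))).toAlgebra
  haveI : IsScalarTower A (S.R j) Ej := IsScalarTower.of_algebraMap_eq fun a => rfl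
  haveI : Algebra.Etale A Ej := Algebra.Etale.comp A (S.R j) Ej
  haveI : IsScalarTower A Ej (Ej ⊗[S.R j] B) := inferInstance
  have hFT : Fac A (Ej ⊗[S.R j] B) := fac_trans_etale A Ej _ (fac_of_isIndEtale hT)
  -- the isomorphism
  let ε : (Ej ⊗[S.R j] B) ≃+* E :=
    ((Algebra.TensorProduct.comm (S.R j) Ej B).toRingEquiv).trans e.symm.toRingEquiv
  have hε : ∀ a : A, ε (algebraMap A (Ej ⊗[S.R j] B) a) = algebraMap A E a := by
    intro a
    rw [Algebra.TensorProduct.algebraMap_apply]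
    show e.symm (Algebra.TensorProduct.comm (S.R j) Ej B
      ((algebraMap (S.R j) Ej (algebraMap A (S.R j) a)) ⊗ₜ[S.R j] (1 : B))) = _
    rw [Algebra.TensorProduct.comm_tmul, Algebra.algebraMap_eq_smul_one (A := Ej),
      ← TensorProduct.smul_tmul, ← Algebra.algebraMap_eq_smul_one,
      ← IsScalarTower.algebraMap_apply A (S.R j) B]
    have : (algebraMap A B a) ⊗ₜ[S.R j] (1 : Ej) = algebraMap B (B ⊗[S.R j] Ej) (algebraMap A B a) :=
      rfl
    rw [this, AlgEquiv.commutes, ← IsScalarTower.algebraMap_apply]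
  exact fac_of_algEquiv (AlgEquiv.ofRingEquiv (f := ε) hε) hFT

theorem s0734 (A B C : Type u) [CommRing A] [CommRing B] [CommRing C] [Algebra A B]
    [Algebra B C] [Algebra A C] [IsScalarTower A B C] (hAB : EtPBC.IsIndEtale A B)
    (hBC : EtPBC.IsIndEtale B C) : EtPBC.IsIndEtale A C := by
  apply isIndEtale_of_fac
  intro P _ _ _ g
  let gB : B ⊗[A] P →ₐ[B] C :=
    Algebra.TensorProduct.lift (Algebra.ofId B C) g (fun _ _ => mul_comm _ _)
  obtain ⟨E, _, _, _, h1, g', hg'⟩ := fac_of_isIndEtale hBC (B ⊗[A] P) gB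
  letI : Algebra A E := ((algebraMap B E).comp (algebraMap A B)).toAlgebra
  haveI : IsScalarTower A B E := IsScalarTower.of_algebraMap_eq fun a => rfl
  have hE : Fac A E := fac_of_etale_over_indEtale A B E hAB
  obtain ⟨E', _, _, _, h2, g'', hg''⟩ := hE P
    ((h1.restrictScalars A).comp Algebra.TensorProduct.includeRight)
  refine ⟨E', inferInstance, inferInstance, inferInstance, h2, (g'.restrictScalars A).comp g'', ?_⟩
  rw [AlgHom.comp_assoc, hg'']
  ext p
  show g' (h1 ((1 : B) ⊗ₜ[A] p)) = g p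
  rw [← AlgHom.comp_apply, hg']
  simp [gB]

end Groth.Agent.Helper2.IndEtCrit
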