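import Mathlib
import Groth.Prelude
import Groth.Agent.Helper2.IndEtCritB

set_option autoImplicit false
universe u
open CategoryTheory CategoryTheory.Limits TensorProduct

namespace Groth.Agent.Helper2.IndEtLift

open Groth.Agent.Helper2.IndEtCrit

/-- the coequalizer of two maps between étale algebras is étale -/
theorem etale_coeq {A C₁ C₂ : Type u} [CommRing A] [CommRing C₁] [CommRing C₂] [Algebra A C₁]
    [Algebra A C₂] [Algebra.Etale A C₁] [Algebra.Etale A C₂] (f g : C₁ →ₐ[A] C₂)
    (s : Finset C₁) (hs : Algebra.adjoin A (s : Set C₁) = ⊤) :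
    Algebra.Etale A (C₂ ⧸ Ideal.span ((fun c => f c - g c) '' (s : Set C₁))) := by
  classical
  set J : Ideal C₂ := Ideal.span ((fun c => f c - g c) '' (s : Set C₁)) with hJ
  have hfg : J.FG := ⟨s.image (fun c => f c - g c), by rw [Finset.coe_image]⟩
  have hπ : (Ideal.Quotient.mkₐ A J).comp f = (Ideal.Quotient.mkₐ A J).comp g := by
    apply AlgHom.ext_of_adjoin_eq_top hs
    intro c hc
    show Ideal.Quotient.mk J (f c) = Ideal.Quotient.mk J (g c)
    rw [Ideal.Quotient.eq]
    exact Ideal.subset_span ⟨c, hc, rfl⟩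
  refine ⟨?_, Algebra.FinitePresentation.quotient hfg⟩
  rw [Algebra.FormallyEtale.iff_comp_bijective]
  intro T _ _ N hN
  constructor
  · intro v v' hvv'
    have h1 : v.comp (Ideal.Quotient.mkₐ A J) = v'.comp (Ideal.Quotient.mkₐ A J) := by
      apply Algebra.FormallyUnramified.comp_injective N hN
      show (Ideal.Quotient.mkₐ A N).comp (v.comp (Ideal.Quotient.mkₐ A J)) =
        (Ideal.Quotient.mkₐ A N).comp (v'.comp (Ideal.Quotient.mkₐ A J))
      rw [← AlgHom.comp_assoc, ← AlgHom.comp_assoc]
      exact congrArg (fun w => w.comp (Ideal.Quotient.mkₐ A J)) hvv'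
    apply Ideal.Quotient.algHom_ext
    exact h1
  · intro w
    obtain ⟨w', hw'⟩ := Algebra.FormallySmooth.comp_surjective A C₂ N hN
      (w.comp (Ideal.Quotient.mkₐ A J))
    have h2 : w'.comp f = w'.comp g := by
      apply Algebra.FormallyUnramified.comp_injective N hN
      show (Ideal.Quotient.mkₐ A N).comp (w'.comp f) = (Ideal.Quotient.mkₐ A N).comp (w'.comp g)
      rw [← AlgHom.comp_assoc, ← AlgHom.comp_assoc, hw', AlgHom.comp_assoc, AlgHom.comp_assoc, hπ]
    have h3 : ∀ x ∈ J, w' x = 0 := by
      have : J ≤ RingHom.ker w'.toRingHom := by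
        rw [hJ, Ideal.span_le]
        rintro _ ⟨c, -, rfl⟩
        show w' (f c - g c) = 0
        rw [map_sub, sub_eq_zero]
        exact congr($h2 c)
      exact fun x hx => this hx
    refine ⟨Ideal.Quotient.liftₐ J w' h3, ?_⟩
    apply Ideal.Quotient.algHom_ext
    exact hw'

variable {A : Type u} [CommRing A] {B : Type u} [CommRing B] [Algebra A B]

instance isFilteredOrEmpty : IsFilteredOrEmpty (QIdx A B) where
  cocone_objs a b := by
    haveI : Algebra.Etale a.C (a.C ⊗[A] b.C) := inferInstance
    haveI : Algebra.Etale A (a.C ⊗[A] b.C) := Algebra.Etale.comp A a.C _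
    obtain ⟨k, e, he⟩ := QIdx.exists_equiv (a.C ⊗[A] b.C)
      (Algebra.TensorProduct.productMap a.γ b.γ)
    exact ⟨k, ⟨e.toAlgHom.comp Algebra.TensorProduct.includeLeft, fun c => by
        show k.γ (e (c ⊗ₜ 1)) = _
        rw [he]; simp⟩,
      ⟨e.toAlgHom.comp Algebra.TensorProduct.includeRight, fun c => by
        show k.γ (e (1 ⊗ₜ c)) = _
        rw [he]; simp⟩, trivial⟩
  cocone_maps a b f g := by
    classical
    obtain ⟨s, hs⟩ := (inferInstance : Algebra.FiniteType A a.C).out
    set J : Ideal b.C := Ideal.span ((fun c => f.1 c - g.1 c) '' (s : Set a.C)) with hJ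
    haveI : Algebra.Etale A (b.C ⧸ J) := etale_coeq f.1 g.1 s hs
    have hle : ∀ c ∈ J, b.γ c = 0 := by
      have : J ≤ RingHom.ker b.γ.toRingHom := by
        rw [hJ, Ideal.span_le]
        rintro _ ⟨c, -, rfl⟩
        show b.γ (f.1 c - g.1 c) = 0
        rw [map_sub, f.2, g.2, sub_self]
      exact fun c hc => this hc
    obtain ⟨k, e, he⟩ := QIdx.exists_equiv (b.C ⧸ J) (Ideal.Quotient.liftₐ J b.γ hle)
    refine ⟨k, ⟨e.toAlgHom.comp (Ideal.Quotient.mkₐ A J), fun c => by
      show k.γ (e (Ideal.Quotient.mk J c)) = _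
      rw [he]
      rfl⟩, ?_⟩
    apply Subtype.ext
    show (e.toAlgHom.comp (Ideal.Quotient.mkₐ A J)).comp f.1 =
      (e.toAlgHom.comp (Ideal.Quotient.mkₐ A J)).comp g.1
    apply AlgHom.ext_of_adjoin_eq_top hs
    intro c hc
    show e (Ideal.Quotient.mk J (f.1 c)) = e (Ideal.Quotient.mk J (g.1 c))
    congr 1
    rw [Ideal.Quotient.eq]
    exact Ideal.subset_span ⟨c, hc, rfl⟩

instance isFiltered : IsFiltered (QIdx A B) := {}

variable (A B)

/-- the ind-étale hull, as an object under `A` -/
noncomputable abbrev hullObj : Under (CommRingCat.of A) := colimit (QD (A := A) (B := B))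

/-- the ind-étale hull of `B` over `A` -/
abbrev Hull : Type u := (hullObj A B).right

noncomputable instance : Algebra A (Hull A B) := (hullObj A B).hom.hom.toAlgebra

/-- the comparison iso (identity) -/
noncomputable def hullIso : (colimit.cocone (QD (A := A) (B := B))).pt ≅
    Under.mk (CommRingCat.ofHom (algebraMap A (Hull A B))) := Iso.refl _

/-- the filtered system of the hull -/
noncomputable def hullSys : FSys A (Hull A B) :=
  ofColimit (QD (A := A) (B := B)) (colimit.cocone QD) (colimit.isColimit QD) (hullIso A B)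

theorem isIndEtale_hull : EtPBC.IsIndEtale A (Hull A B) := by
  refine ⟨QIdx A B, inferInstance, inferInstance, QD, colimit.cocone QD, colimit.isColimit QD, ?_,
    ⟨hullIso A B⟩⟩
  intro a
  have halg : (algebraMap A a.C).toAlgebra = (inferInstance : Algebra A a.C) :=
    Algebra.algebra_ext _ _ (fun r => rfl)
  show @Algebra.Etale A a.C _ _ (algebraMap A a.C).toAlgebra
  rw [halg]
  infer_instance

/-- the counit `Hull A B → B` -/
noncomputable def hullCounit : Hull A B →ₐ[A] B :=
  { (colimit.desc QD (Qcc (A := A) (B := B))).right.hom with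
    commutes' := fun a => by
      have := Under.w (colimit.desc QD (Qcc (A := A) (B := B)))
      exact congrArg (fun g => g.hom a) this }

/-- the structure maps into the hull -/
noncomputable def hullι (j : QIdx A B) : j.C →ₐ[A] Hull A B :=
  { (colimit.ι (QD (A := A) (B := B)) j).right.hom with
    commutes' := fun a => by
      have := Under.w (colimit.ι (QD (A := A) (B := B)) j)
      exact congrArg (fun g => g.hom a) this }

theorem hullι_map {j k : QIdx A B} (f : j ⟶ k) (y : j.C) :
    hullι A B k (f.1 y) = hullι A B j y := by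
  have h := colimit.w (QD (A := A) (B := B)) f
  have h' : (QD.map f).right ≫ (colimit.ι (QD (A := A) (B := B)) k).right =
      (colimit.ι (QD (A := A) (B := B)) j).right := by
    rw [← Under.comp_right, h]
  exact congrArg (fun g => g.hom y) h'

theorem hullι_jointly_surjective (x : Hull A B) : ∃ (j : QIdx A B) (y : j.C), hullι A B j y = x := by
  obtain ⟨j, y, hy⟩ := (hullSys A B).hsurj x
  exact ⟨j, y, hy⟩

theorem hullCounit_ι (j : QIdx A B) (y : j.C) : hullCounit A B (hullι A B j y) = j.γ y := by
  have h := colimit.ι_desc (Qcc (A := A) (B := B)) j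
  have h' : (colimit.ι (QD (A := A) (B := B)) j).right ≫
      (colimit.desc QD (Qcc (A := A) (B := B))).right = ((Qcc (A := A) (B := B)).ι.app j).right := by
    rw [← Under.comp_right, h]
  exact congrArg (fun g => g.hom y) h'

end Groth.Agent.Helper2.IndEtLift
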