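import Mathlib
import Groth.Prelude
import Groth.Agent.Helper2.IndEtLiftA
import Groth.Agent.Helper2.IndEtCritE
import Groth.Agent.Lead.IndEtale

set_option autoImplicit false
universe u
open CategoryTheory CategoryTheory.Limits TensorProduct

namespace Groth.Agent.Helper2.IndEtLift

open Groth.Agent.Helper2.IndEtCrit

variable (A : Type u) [CommRing A] (B : Type u) [CommRing B] [Algebra A B]

/-- the étale filtered system of the hull, with the standard instances -/
noncomputable def hullSysE : IndEtFib.Sys A (Hull A B) where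
  J := QIdx A B
  cat := inferInstance
  filt := inferInstance
  R := fun j => j.C
  ring := fun j => inferInstance
  alg := fun j => inferInstance
  etale := fun j => j.etale
  t := fun f => f.1
  φ := fun j => hullι A B j
  hφ := fun f x => hullι_map A B f x
  hsurj := hullι_jointly_surjective A B
  hinj := fun i x y h => by
    obtain ⟨k, f, hf⟩ := (hullSys A B).hinj i x y h
    exact ⟨k, f, hf⟩

/-- a nontrivial finite type algebra over an algebraically closed field has a rational point -/
theorem exists_point (k F : Type u) [Field k] [IsAlgClosed k] [CommRing F] [Algebra k F]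
    [Algebra.FiniteType k F] [Nontrivial F] : Nonempty (F →ₐ[k] k) := by
  obtain ⟨m, hm⟩ := Ideal.exists_maximal F
  letI := Ideal.Quotient.field m
  haveI : Algebra.FiniteType k (F ⧸ m) :=
    Algebra.FiniteType.of_surjective (Ideal.Quotient.mkₐ k m) Ideal.Quotient.mk_surjective
  haveI : Module.Finite k (F ⧸ m) := finite_of_finite_type_of_isJacobsonRing k (F ⧸ m)
  have hbij : Function.Bijective (algebraMap k (F ⧸ m)) :=
    IsAlgClosed.algebraMap_bijective_of_isIntegral
  let e : k ≃ₐ[k] (F ⧸ m) := AlgEquiv.ofBijective (Algebra.ofId k (F ⧸ m)) hbij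
  exact ⟨e.symm.toAlgHom.comp (Ideal.Quotient.mkₐ k m)⟩

theorem descend_etale_hull (D : Type u) [CommRing D] [Algebra (Hull A B) D]
    [Algebra.Etale (Hull A B) D] :
    ∃ (j : QIdx A B) (Dj : Type u) (_ : CommRing Dj) (_ : Algebra j.C Dj)
      (_ : Algebra.Etale j.C Dj),
      letI : Algebra j.C (Hull A B) := (hullι A B j).toRingHom.toAlgebra
      Nonempty (D ≃ₐ[Hull A B] Hull A B ⊗[j.C] Dj) :=
  descend_etale (hullSysE A B) D

/-- the product of algebraic closures of all residue fields -/
abbrev AC (x : PrimeSpectrum A) : Type u := AlgebraicClosure x.asIdeal.ResidueField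

theorem algebraMap_AC_eq_zero (x : PrimeSpectrum A) (a : A) :
    algebraMap A (AC A x) a = 0 ↔ a ∈ x.asIdeal := by
  rw [IsScalarTower.algebraMap_apply A x.asIdeal.ResidueField (AC A x),
    map_eq_zero_iff _ (algebraMap x.asIdeal.ResidueField (AC A x)).injective,
    Ideal.algebraMap_residueField_eq_zero]

theorem s0693 : ∃ (C : Type u) (_ : CommRing C) (_ : Algebra A C),
      Module.FaithfullyFlat A C ∧ EtPBC.IsIndEtale A C ∧ ProEtW.HasEtaleRetractions C := by
  classical
  refine ⟨Hull A (Π x, AC A x), inferInstance, inferInstance, ?_, isIndEtale_hull A _, ?_⟩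
  · haveI : Algebra.WeaklyEtale A (Hull A (Π x, AC A x)) :=
      Groth.Agent.Lead.IndEtale.weaklyEtale_of_isIndEtale (isIndEtale_hull A _)
    haveI : Module.Flat A (Hull A (Π x, AC A x)) := inferInstance
    apply Module.FaithfullyFlat.of_comap_surjective
    intro x
    let ψ : Hull A (Π x, AC A x) →ₐ[A] AC A x :=
      (Pi.evalAlgHom A (AC A) x).comp (hullCounit A (Π x, AC A x))
    refine ⟨⟨RingHom.ker ψ.toRingHom, RingHom.ker_isPrime _⟩, ?_⟩
    apply PrimeSpectrum.ext
    ext a
    show ψ (algebraMap A _ a) = 0 ↔ a ∈ x.asIdeal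
    rw [ψ.commutes, algebraMap_AC_eq_zero]
  · intro D _ _ hff hEt
    obtain ⟨j, Dj, _, _, _, ⟨e⟩⟩ := descend_etale_hull A (Π x, AC A x) D
    letI : Algebra j.C (Hull A (Π x, AC A x)) := (hullι A (Π x, AC A x) j).toRingHom.toAlgebra
    letI : Algebra A Dj := ((algebraMap j.C Dj).comp (algebraMap A j.C)).toAlgebra
    haveI : IsScalarTower A j.C Dj := by
      have h0 := IsScalarTower.of_algebraMap_eq (R := A) (S := j.C) (A := Dj) (fun _ => rfl)
      exact h0
    haveI : Algebra.Etale A Dj := Algebra.Etale.comp A j.C Dj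
    have hpt : ∀ x : PrimeSpectrum A, ∃ ρ : Dj →+* AC A x,
        ∀ c : j.C, ρ (algebraMap j.C Dj c) = j.γ c x := by
      intro x
      let ψ : Hull A (Π x, AC A x) →ₐ[A] AC A x :=
        (Pi.evalAlgHom A (AC A) x).comp (hullCounit A (Π x, AC A x))
      letI : Algebra (Hull A (Π x, AC A x)) (AC A x) := ψ.toRingHom.toAlgebra
      haveI : Nontrivial (AC A x ⊗[Hull A (Π x, AC A x)] D) := inferInstance
      obtain ⟨ρ0⟩ := exists_point (AC A x) (AC A x ⊗[Hull A (Π x, AC A x)] D)
      refine ⟨(ρ0.toRingHom.comp (Algebra.TensorProduct.includeRight :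
          D →ₐ[Hull A (Π x, AC A x)] AC A x ⊗[Hull A (Π x, AC A x)] D).toRingHom).comp
        (e.symm.toAlgHom.toRingHom.comp
          (Algebra.TensorProduct.includeRight :
            Dj →ₐ[j.C] Hull A (Π x, AC A x) ⊗[j.C] Dj).toRingHom), ?_⟩
      intro c
      show ρ0 ((1 : AC A x) ⊗ₜ[Hull A (Π x, AC A x)]
        (e.symm ((1 : Hull A (Π x, AC A x)) ⊗ₜ[j.C] (algebraMap j.C Dj c)))) = _
      have h1 : ((1 : Hull A (Π x, AC A x)) ⊗ₜ[j.C] (algebraMap j.C Dj c)) =
          algebraMap (Hull A (Π x, AC A x)) (Hull A (Π x, AC A x) ⊗[j.C] Dj)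
            (hullι A (Π x, AC A x) j c) := by
        rw [Algebra.TensorProduct.algebraMap_apply, Algebra.algebraMap_eq_smul_one (A := Dj)]
        refine (TensorProduct.smul_tmul c (1 : Hull A (Π x, AC A x)) (1 : Dj)).symm.trans ?_
        congr 1
        rw [Algebra.smul_def, mul_one]
        rfl
      rw [h1, AlgEquiv.commutes, Algebra.algebraMap_eq_smul_one (A := D)]
      have h3 : (1 : AC A x) ⊗ₜ[Hull A (Π x, AC A x)] (hullι A (Π x, AC A x) j c • (1 : D)) =
          (algebraMap (Hull A (Π x, AC A x)) (AC A x)) (hullι A (Π x, AC A x) j c)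
            ⊗ₜ[Hull A (Π x, AC A x)] (1 : D) := by
        refine (TensorProduct.smul_tmul (hullι A (Π x, AC A x) j c) (1 : AC A x) (1 : D)).symm.trans ?_
        congr 1
        rw [Algebra.smul_def, mul_one]
      rw [h3]
      have h2 : ((algebraMap (Hull A (Π x, AC A x)) (AC A x)) (hullι A (Π x, AC A x) j c)
          ⊗ₜ[Hull A (Π x, AC A x)] (1 : D)) = algebraMap (AC A x) _ (ψ (hullι A _ j c)) := rfl
      rw [h2, ρ0.commutes]
      show (hullCounit A (Π x, AC A x) (hullι A (Π x, AC A x) j c)) x = _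
      rw [hullCounit_ι]
    choose ρ hρ using hpt
    let ρA : Dj →ₐ[A] (Π x, AC A x) :=
      { Pi.ringHom ρ with
        commutes' := fun a => by
          funext x
          show ρ x (algebraMap j.C Dj (algebraMap A j.C a)) = _
          rw [hρ, j.γ.commutes] }
    obtain ⟨k, e', he'⟩ := QIdx.exists_equiv Dj ρA
    let m : j ⟶ k := ⟨e'.toAlgHom.comp (IsScalarTower.toAlgHom A j.C Dj), fun c => by
      show k.γ (e' (algebraMap j.C Dj c)) = j.γ c
      rw [he']
      funext x
      exact hρ x c⟩
    let ρ' : Dj →ₐ[j.C] Hull A (Π x, AC A x) :=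
      { ((hullι A (Π x, AC A x) k).comp e'.toAlgHom).toRingHom with
        commutes' := fun c => hullι_map A (Π x, AC A x) m c }
    exact ⟨(Algebra.TensorProduct.lift (Algebra.ofId _ _) ρ' (fun _ _ => mul_comm _ _)).comp
      e.toAlgHom⟩

end Groth.Agent.Helper2.IndEtLift
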