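import Mathlib
import Groth.Prelude
import Groth.Agent.Helper2.IndEtLiftC

set_option autoImplicit false
universe u
open CategoryTheory CategoryTheory.Limits TensorProduct

namespace Groth.Agent.Helper2.IndEtLift

open Groth.Agent.Helper2.IndEtCrit

variable {A : Type u} [CommRing A] {X T : Type u} [CommRing X] [CommRing T] [Algebra A X]
  [Algebra A T]

/-- pushing an index along an algebra map -/
noncomputable def pushIdx (g : X →ₐ[A] T) (i : QIdx A X) : QIdx A T := ⟨i.n, i.I, g.comp i.γ, i.etale⟩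

/-- pushing a morphism of indices -/
noncomputable def pushMap (g : X →ₐ[A] T) {i j : QIdx A X} (f : i ⟶ j) :
    pushIdx g i ⟶ pushIdx g j :=
  ⟨f.1, fun c => by
    show g (j.γ (f.1 c)) = g (i.γ c)
    rw [f.2]⟩

/-- the cocone on `QD (B := X)` with vertex the hull of `T` -/
noncomputable def pushCocone (g : X →ₐ[A] T) : Cocone (QD (A := A) (B := X)) where
  pt := hullObj A T
  ι :=
    { app := fun i => colimit.ι (QD (A := A) (B := T)) (pushIdx g i)
      naturality := fun i j f => by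
        have h := colimit.w (QD (A := A) (B := T)) (pushMap g f)
        exact h.trans (Category.comp_id _).symm }

theorem QIdx.jointly_surjective (hX : Fac A X) (x : X) : ∃ (i : QIdx A X) (y : i.C), i.γ y = x := by
  obtain ⟨E, _, _, _, h, g', hg'⟩ := hX (MvPolynomial (Fin 1) A) (MvPolynomial.aeval (fun _ => x))
  obtain ⟨i, e, he⟩ := QIdx.exists_equiv E g'
  refine ⟨i, e (h (MvPolynomial.X 0)), ?_⟩
  rw [he, ← AlgHom.comp_apply, hg']
  simp

/-- the lift of a map `X → T` from an ind-étale algebra to the hull -/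
noncomputable def hullLift (hX : Fac A X) (g : X →ₐ[A] T) : X →ₐ[A] Hull A T :=
  { ((QccIsColimit hX).desc (pushCocone g)).right.hom with
    commutes' := fun a => by
      have := Under.w ((QccIsColimit hX).desc (pushCocone g))
      exact congrArg (fun g => g.hom a) this }

theorem hullLift_γ (hX : Fac A X) (g : X →ₐ[A] T) (i : QIdx A X) (y : i.C) :
    hullLift hX g (i.γ y) = hullι A T (pushIdx g i) y := by
  have h := (QccIsColimit hX).fac (pushCocone g) i
  have h' : ((Qcc (A := A) (B := X)).ι.app i).right ≫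
      ((QccIsColimit hX).desc (pushCocone g)).right = ((pushCocone g).ι.app i).right := by
    rw [← Under.comp_right, h]
  exact congrArg (fun g => g.hom y) h'

theorem hullCounit_hullLift (hX : Fac A X) (g : X →ₐ[A] T) :
    (hullCounit A T).comp (hullLift hX g) = g := by
  ext x
  obtain ⟨i, y, rfl⟩ := QIdx.jointly_surjective hX x
  rw [AlgHom.comp_apply, hullLift_γ, hullCounit_ι]
  rfl

/-- maps from an étale algebra into the hull are determined by their composite to `T` -/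
theorem hull_hom_ext_etale {E : Type u} [CommRing E] [Algebra A E] [Algebra.Etale A E]
    (h₁ h₂ : E →ₐ[A] Hull A T) (h : (hullCounit A T).comp h₁ = (hullCounit A T).comp h₂) :
    h₁ = h₂ := by
  obtain ⟨(k₁ : QIdx A T), (h₁' : E →ₐ[A] k₁.C), hh₁⟩ :=
    exists_factor (ofSys (hullSysE A T)) E h₁
  obtain ⟨(k₂ : QIdx A T), (h₂' : E →ₐ[A] k₂.C), hh₂⟩ :=
    exists_factor (ofSys (hullSysE A T)) E h₂
  obtain ⟨i₀, e, he⟩ := QIdx.exists_equiv E ((hullCounit A T).comp h₁)
  have hφ₁ : ∀ c, hullι A T k₁ (h₁' c) = h₁ c := fun c => congr($hh₁ c)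
  have hφ₂ : ∀ c, hullι A T k₂ (h₂' c) = h₂ c := fun c => congr($hh₂ c)
  let m₁ : i₀ ⟶ k₁ := ⟨h₁'.comp e.symm.toAlgHom, fun c => by
    show k₁.γ (h₁' (e.symm c)) = i₀.γ c
    rw [← hullCounit_ι, hφ₁]
    have := he (e.symm c)
    rw [e.apply_symm_apply] at this
    rw [this]
    rfl⟩
  let m₂ : i₀ ⟶ k₂ := ⟨h₂'.comp e.symm.toAlgHom, fun c => by
    show k₂.γ (h₂' (e.symm c)) = i₀.γ c
    rw [← hullCounit_ι, hφ₂]
    have := he (e.symm c)
    rw [e.apply_symm_apply] at this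
    rw [this, h]
    rfl⟩
  obtain ⟨k, q₁, q₂, hq⟩ := IsFilteredOrEmpty.cocone_objs k₁ k₂
  obtain ⟨k', q, hq'⟩ := IsFilteredOrEmpty.cocone_maps (m₁ ≫ q₁) (m₂ ≫ q₂)
  ext c
  have h3 : (m₁ ≫ q₁ ≫ q).1 (e c) = (m₂ ≫ q₂ ≫ q).1 (e c) := by
    rw [← Category.assoc, ← Category.assoc, hq']
  have h4 : (m₁ ≫ q₁ ≫ q).1 (e c) = (q₁ ≫ q).1 (h₁' c) := by
    show (q₁ ≫ q).1 (h₁' (e.symm (e c))) = _
    rw [e.symm_apply_apply]
  have h5 : (m₂ ≫ q₂ ≫ q).1 (e c) = (q₂ ≫ q).1 (h₂' c) := by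
    show (q₂ ≫ q).1 (h₂' (e.symm (e c))) = _
    rw [e.symm_apply_apply]
  calc h₁ c = hullι A T k₁ (h₁' c) := (hφ₁ c).symm
    _ = hullι A T k' ((q₁ ≫ q).1 (h₁' c)) := (hullι_map A T (q₁ ≫ q) (h₁' c)).symm
    _ = hullι A T k' ((q₂ ≫ q).1 (h₂' c)) := by rw [← h4, ← h5, h3]
    _ = hullι A T k₂ (h₂' c) := hullι_map A T (q₂ ≫ q) (h₂' c)
    _ = h₂ c := hφ₂ c

/-- maps from an ind-étale algebra into the hull are determined by their composite to `T` -/
theorem hull_hom_ext (hX : Fac A X) (g₁ g₂ : X →ₐ[A] Hull A T)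
    (h : (hullCounit A T).comp g₁ = (hullCounit A T).comp g₂) : g₁ = g₂ := by
  ext x
  obtain ⟨i, y, rfl⟩ := QIdx.jointly_surjective hX x
  have := hull_hom_ext_etale (g₁.comp i.γ) (g₂.comp i.γ) (by
    rw [← AlgHom.comp_assoc, ← AlgHom.comp_assoc, h])
  exact congr($this y)

end Groth.Agent.Helper2.IndEtLift
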