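import Mathlib
import Groth.Prelude
import Groth.Agent.Helper2.IndEtLiftD
import Groth.Agent.S0733

set_option autoImplicit false
universe u
open CategoryTheory CategoryTheory.Limits TensorProduct

namespace Groth.Agent.Helper2.IndEtLift

open Groth.Agent.Helper2.IndEtCrit

/-- an ind-étale algebra over a field is integral -/
theorem isIntegral_of_isIndEtale_field (k F : Type u) [Field k] [CommRing F] [Algebra k F]
    (h : EtPBC.IsIndEtale k F) : Algebra.IsIntegral k F := by
  obtain ⟨S⟩ := IndEtFib.nonempty_sys h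
  refine ⟨fun x => ?_⟩
  obtain ⟨j, y, rfl⟩ := S.hsurj x
  haveI : Module.Finite k (S.R j) := Algebra.FormallyUnramified.finite_of_free k (S.R j)
  exact (Algebra.IsIntegral.isIntegral (R := k) y).map (S.φ j)

/-- a nontrivial ind-étale algebra over an algebraically closed field has a rational point -/
theorem exists_point_indEtale (k F : Type u) [Field k] [IsAlgClosed k] [CommRing F] [Algebra k F]
    [Nontrivial F] (h : EtPBC.IsIndEtale k F) : Nonempty (F →ₐ[k] k) := by
  haveI := isIntegral_of_isIndEtale_field k F h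
  obtain ⟨m, hm⟩ := Ideal.exists_maximal F
  letI := Ideal.Quotient.field m
  haveI : Algebra.IsIntegral k (F ⧸ m) :=
    ⟨fun x => by
      obtain ⟨y, rfl⟩ := Ideal.Quotient.mk_surjective x
      exact (Algebra.IsIntegral.isIntegral (R := k) y).map (Ideal.Quotient.mkₐ k m)⟩
  have hbij : Function.Bijective (algebraMap k (F ⧸ m)) :=
    IsAlgClosed.algebraMap_bijective_of_isIntegral
  let e : k ≃ₐ[k] (F ⧸ m) := AlgEquiv.ofBijective (Algebra.ofId k (F ⧸ m)) hbij
  exact ⟨e.symm.toAlgHom.comp (Ideal.Quotient.mkₐ k m)⟩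

variable (A : Type u) [CommRing A] {Y : Type u} (Ω : Y → Type u) [∀ y, Field (Ω y)]
  [∀ y, IsAlgClosed (Ω y)] [Algebra A (Π y, Ω y)]

/-- the hull of a product of algebraically closed fields has retractions for all faithfully flat
ind-étale algebras -/
theorem hasIndEtaleRetractions_hull : ProEtW.HasIndEtaleRetractions (Hull A (Π y, Ω y)) := by
  intro D' _ _ hff hind
  letI : Algebra A D' :=
    ((algebraMap (Hull A (Π y, Ω y)) D').comp (algebraMap A (Hull A (Π y, Ω y)))).toAlgebra
  haveI : IsScalarTower A (Hull A (Π y, Ω y)) D' := IsScalarTower.of_algebraMap_eq fun _ => rfl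
  have hD'A : EtPBC.IsIndEtale A D' := s0734 A (Hull A (Π y, Ω y)) D' (isIndEtale_hull A _) hind
  have hpt : ∀ y : Y, ∃ ρ : D' →+* Ω y, ∀ c : Hull A (Π y, Ω y),
      ρ (algebraMap _ D' c) = hullCounit A (Π y, Ω y) c y := by
    intro y
    let ψ : Hull A (Π y, Ω y) →+* Ω y :=
      (Pi.evalRingHom Ω y).comp (hullCounit A (Π y, Ω y)).toRingHom
    letI : Algebra (Hull A (Π y, Ω y)) (Ω y) := ψ.toAlgebra
    haveI : Nontrivial (Ω y ⊗[Hull A (Π y, Ω y)] D') := inferInstance
    obtain ⟨ρ0⟩ := exists_point_indEtale (Ω y) (Ω y ⊗[Hull A (Π y, Ω y)] D')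
      (Groth.Agent.S0733.result (Hull A (Π y, Ω y)) D' (Ω y) hind)
    refine ⟨ρ0.toRingHom.comp (Algebra.TensorProduct.includeRight :
      D' →ₐ[Hull A (Π y, Ω y)] Ω y ⊗[Hull A (Π y, Ω y)] D').toRingHom, fun c => ?_⟩
    show ρ0 ((1 : Ω y) ⊗ₜ[Hull A (Π y, Ω y)] (algebraMap _ D' c)) = _
    rw [Algebra.algebraMap_eq_smul_one (A := D')]
    have h3 : (1 : Ω y) ⊗ₜ[Hull A (Π y, Ω y)] (c • (1 : D')) =
        algebraMap (Ω y) _ (ψ c) := by
      refine (TensorProduct.smul_tmul c (1 : Ω y) (1 : D')).symm.trans ?_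
      rw [Algebra.TensorProduct.algebraMap_apply]
      congr 1
      rw [Algebra.smul_def, mul_one]
      rfl
    rw [h3, ρ0.commutes]
    rfl
  choose ρ hρ using hpt
  let ρA : D' →ₐ[A] (Π y, Ω y) :=
    { Pi.ringHom ρ with
      commutes' := fun a => by
        funext y
        show ρ y (algebraMap (Hull A (Π y, Ω y)) D' (algebraMap A _ a)) = _
        rw [hρ, (hullCounit A (Π y, Ω y)).commutes] }
  let ρ' : D' →ₐ[A] Hull A (Π y, Ω y) := hullLift (fac_of_isIndEtale hD'A) ρA
  have hρ' : (hullCounit A (Π y, Ω y)).comp ρ' = ρA := hullCounit_hullLift _ _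
  have key : ρ'.comp (IsScalarTower.toAlgHom A (Hull A (Π y, Ω y)) D') = AlgHom.id A _ := by
    apply hull_hom_ext (fac_of_isIndEtale (isIndEtale_hull A _))
    rw [← AlgHom.comp_assoc, hρ']
    ext c y
    exact hρ y c
  exact ⟨{ ρ'.toRingHom with commutes' := fun c => congr($key c) }⟩

end Groth.Agent.Helper2.IndEtLift
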