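import Mathlib
import Groth.Prelude
import Groth.Agent.Helper2.IndEtLiftE

set_option autoImplicit false
universe u
open CategoryTheory CategoryTheory.Limits TensorProduct

namespace Groth.Agent.Helper2.IndEtLift

open Groth.Agent.Helper2.IndEtCrit

section General

variable (A : Type u) [CommRing A] (T : Type u) [CommRing T] [Algebra A T]

/-- an element of the hull whose image in `T` is a unit is a unit -/
theorem isUnit_of_isUnit_counit (x : Hull A T) (hx : IsUnit (hullCounit A T x)) : IsUnit x := by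
  obtain ⟨i, xi, rfl⟩ := hullι_jointly_surjective A T x
  rw [hullCounit_ι] at hx
  haveI : Algebra.Etale i.C (Localization.Away xi) := Algebra.Etale.of_isLocalizationAway xi
  haveI : Algebra.Etale A (Localization.Away xi) := Algebra.Etale.comp A i.C _
  let γ' : Localization.Away xi →ₐ[A] T := IsLocalization.Away.liftAlgHom xi (f := i.γ) hx
  have hγ' : ∀ c, γ' (algebraMap i.C (Localization.Away xi) c) = i.γ c := fun c =>
    IsLocalization.Away.lift_eq xi (g := (i.γ : i.C →+* T)) hx c
  obtain ⟨k, e, he⟩ := QIdx.exists_equiv (Localization.Away xi) γ'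
  let m : i ⟶ k := ⟨e.toAlgHom.comp (IsScalarTower.toAlgHom A i.C (Localization.Away xi)),
    fun c => by
      show k.γ (e (algebraMap i.C (Localization.Away xi) c)) = i.γ c
      rw [he, hγ']⟩
  rw [← hullι_map A T m xi]
  have hu : IsUnit (algebraMap i.C (Localization.Away xi) xi) :=
    IsLocalization.Away.algebraMap_isUnit xi
  exact (hu.map e).map (hullι A T k)

/-- idempotents of `T` lift to the hull -/
theorem exists_counit_eq_of_isIdempotentElem (t : T) (ht : IsIdempotentElem t) :
    ∃ c : Hull A T, IsIdempotentElem c ∧ hullCounit A T c = t := by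
  have ht' : t * t = t := ht
  have ht0 : t * (1 - t) = 0 := by rw [mul_sub, mul_one, ht', sub_self]
  have ht1 : (1 - t) * (1 - t) = 1 - t := by
    have : (1 - t) * (1 - t) = 1 - t - (t * (1 - t)) := by ring
    rw [this, ht0, sub_zero]
  let f : (Fin 2 → A) →ₗ[A] T :=
    { toFun := fun a => a 0 • t + a 1 • (1 - t)
      map_add' := fun a b => by
        simp only [Pi.add_apply, add_smul]
        abel
      map_smul' := fun r a => by
        simp only [Pi.smul_apply, smul_eq_mul, RingHom.id_apply, smul_add, mul_smul] }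
  let γ : (Fin 2 → A) →ₐ[A] T := AlgHom.ofLinearMap f
    (by
      show (1 : A) • t + (1 : A) • (1 - t) = 1
      rw [one_smul, one_smul]
      ring)
    (by
      intro a b
      show (a 0 * b 0) • t + (a 1 * b 1) • (1 - t) =
        (a 0 • t + a 1 • (1 - t)) * (b 0 • t + b 1 • (1 - t))
      simp only [Algebra.smul_def, map_mul]
      have e1 : (algebraMap A T (a 0) * t + algebraMap A T (a 1) * (1 - t)) *
          (algebraMap A T (b 0) * t + algebraMap A T (b 1) * (1 - t)) =
          algebraMap A T (a 0) * algebraMap A T (b 0) * (t * t) +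
          algebraMap A T (a 1) * algebraMap A T (b 1) * ((1 - t) * (1 - t)) +
          (algebraMap A T (a 0) * algebraMap A T (b 1) +
            algebraMap A T (a 1) * algebraMap A T (b 0)) * (t * (1 - t)) := by ring
      rw [e1, ht', ht1, ht0, mul_zero, add_zero])
  obtain ⟨k, e, he⟩ := QIdx.exists_equiv (Fin 2 → A) γ
  have hid : IsIdempotentElem (Pi.single (0 : Fin 2) (1 : A) : Fin 2 → A) := by
    funext j
    show (Pi.single (0 : Fin 2) (1 : A) : Fin 2 → A) j * (Pi.single (0 : Fin 2) (1 : A) : Fin 2 → A) j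
      = (Pi.single (0 : Fin 2) (1 : A) : Fin 2 → A) j
    fin_cases j <;> simp
  refine ⟨hullι A T k (e (Pi.single 0 1)), (hid.map e).map (hullι A T k), ?_⟩
  rw [hullCounit_ι, he]
  show (Pi.single (0 : Fin 2) (1 : A) : Fin 2 → A) 0 • t +
    (Pi.single (0 : Fin 2) (1 : A) : Fin 2 → A) 1 • (1 - t) = t
  simp

end General

section Fields

variable (A : Type u) [CommRing A] {Y : Type u} (Ω : Y → Type u) [∀ y, Field (Ω y)]
  [Algebra A (Π y, Ω y)]

open Classical in
/-- gluing two elements of the hull along a subset of `Y` -/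
theorem exists_glue (S : Set Y) (x₁ x₂ : Hull A (Π y, Ω y)) :
    ∃ c : Hull A (Π y, Ω y), IsIdempotentElem c ∧
      (∀ y, hullCounit A (Π y, Ω y) c y = if y ∈ S then 1 else 0) ∧
      ∀ y, hullCounit A (Π y, Ω y) (c * x₁ + (1 - c) * x₂) y =
        if y ∈ S then hullCounit A (Π y, Ω y) x₁ y else hullCounit A (Π y, Ω y) x₂ y := by
  let t : Π y, Ω y := fun y => if y ∈ S then 1 else 0
  have ht : IsIdempotentElem t := by
    funext y
    show t y * t y = t y
    by_cases hy : y ∈ S <;> simp [t, hy]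
  obtain ⟨c, hci, hc⟩ := exists_counit_eq_of_isIdempotentElem A (Π y, Ω y) t ht
  refine ⟨c, hci, fun y => by rw [hc], fun y => ?_⟩
  rw [map_add, map_mul, map_mul, map_sub, map_one, hc]
  show t y * _ + (1 - t y) * _ = _
  by_cases hy : y ∈ S <;> simp [t, hy]

/-- every maximal ideal of the hull of a product of fields is contracted from the product -/
theorem exists_comap_eq_of_isMaximal (m : Ideal (Hull A (Π y, Ω y))) [hm : m.IsMaximal] :
    ∃ P : Ideal (Π y, Ω y), P.IsPrime ∧ P.comap (hullCounit A (Π y, Ω y)).toRingHom = m := by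
  classical
  have key : ∀ t ∈ Ideal.map (hullCounit A (Π y, Ω y)).toRingHom m,
      ∃ c ∈ m, ∀ y, t y ≠ 0 → hullCounit A (Π y, Ω y) c y ≠ 0 := by
    intro t ht
    refine Submodule.span_induction (p := fun t _ => ∃ c ∈ m, ∀ y, t y ≠ 0 →
      hullCounit A (Π y, Ω y) c y ≠ 0) ?_ ?_ ?_ ?_ ht
    · rintro _ ⟨c, hc, rfl⟩
      exact ⟨c, hc, fun y hy => hy⟩
    · exact ⟨0, m.zero_mem, fun y hy => absurd rfl hy⟩
    · rintro t₁ t₂ - - ⟨c₁, hc₁, h₁⟩ ⟨c₂, hc₂, h₂⟩
      obtain ⟨c, -, -, hc⟩ := exists_glue A Ω {y | hullCounit A (Π y, Ω y) c₁ y ≠ 0} c₁ c₂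
      refine ⟨c * c₁ + (1 - c) * c₂, m.add_mem (m.mul_mem_left _ hc₁) (m.mul_mem_left _ hc₂),
        fun y hy => ?_⟩
      rw [hc y]
      by_cases hy1 : hullCounit A (Π y, Ω y) c₁ y ≠ 0
      · rw [if_pos (show y ∈ {y | hullCounit A (Π y, Ω y) c₁ y ≠ 0} from hy1)]
        exact hy1
      · rw [if_neg (show y ∉ {y | hullCounit A (Π y, Ω y) c₁ y ≠ 0} from hy1)]
        apply h₂
        intro h0
        apply hy
        have h10 : t₁ y = 0 := by
          by_contra h
          exact hy1 (h₁ y h)
        show t₁ y + t₂ y = 0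
        rw [h10, h0, add_zero]
    · rintro r t - ⟨c, hc, h⟩
      refine ⟨c, hc, fun y hy => h y ?_⟩
      intro h0
      apply hy
      show r y * t y = 0
      rw [h0, mul_zero]
  have hne : Ideal.map (hullCounit A (Π y, Ω y)).toRingHom m ≠ ⊤ := by
    intro h
    obtain ⟨c, hc, hcy⟩ := key 1 (h ▸ Submodule.mem_top)
    have hu : IsUnit (hullCounit A (Π y, Ω y) c) := by
      rw [Pi.isUnit_iff]
      intro y
      exact (hcy y one_ne_zero).isUnit
    exact hm.ne_top (Ideal.eq_top_of_isUnit_mem _ hc (isUnit_of_isUnit_counit A _ c hu))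
  obtain ⟨P, hP, hle⟩ := Ideal.exists_le_maximal _ hne
  refine ⟨P, hP.isPrime, ?_⟩
  symm
  apply hm.eq_of_le (Ideal.comap_ne_top _ hP.ne_top)
  exact Ideal.map_le_iff_le_comap.mp hle

end Fields

end Groth.Agent.Helper2.IndEtLift
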