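import Mathlib

/-! Basic lemmas for integral closedness under weakly étale maps:
flat contraction, flat finite intersections, Zariski–Riemann compactness. -/

open TensorProduct Polynomial

namespace Groth.Agent.Helper2.WEInt

universe u


/-- (L1) flat contraction. -/
theorem mem_map_comap_of_flat (R R' C : Type u) [CommRing R] [CommRing R'] [CommRing C]
    [Algebra R R'] [Algebra R C] [Module.Flat R C] (I' : Ideal R') (b : C)
    (h : (1 : R') ⊗ₜ[R] b ∈ I'.map (algebraMap R' (R' ⊗[R] C))) :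
    b ∈ (I'.comap (algebraMap R R')).map (algebraMap R C) := by
  set J : Ideal R := I'.comap (algebraMap R R') with hJ
  -- injective map R/J → R'/I'
  let ψ : (R ⧸ J) →ₗ[R] (R' ⧸ I') :=
    Submodule.mapQ J (I'.restrictScalars R) (Algebra.linearMap R R') (fun x hx => hx)
  have hψ : Function.Injective ψ := by
    rw [← LinearMap.ker_eq_bot]
    show (Submodule.mapQ J (I'.restrictScalars R) (Algebra.linearMap R R') _).ker = ⊥
    rw [Submodule.ker_mapQ, eq_bot_iff]
    rintro _ ⟨x, hx, rfl⟩
    rw [Submodule.mem_bot]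
    exact (Submodule.Quotient.mk_eq_zero _).2 hx
  have hinj : Function.Injective (ψ.rTensor C) :=
    Module.Flat.rTensor_preserves_injective_linearMap ψ hψ
  -- ring hom θ
  let θ : R' ⊗[R] C →ₐ[R] (R' ⧸ I') ⊗[R] C :=
    Algebra.TensorProduct.map (Ideal.Quotient.mkₐ R I') (AlgHom.id R C)
  have hθ : θ ((1 : R') ⊗ₜ[R] b) = 0 := by
    have hle : I'.map (algebraMap R' (R' ⊗[R] C)) ≤ RingHom.ker θ.toRingHom := by
      rw [Ideal.map_le_iff_le_comap]
      intro x hx
      simp only [Ideal.mem_comap, RingHom.mem_ker]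
      show θ (x ⊗ₜ 1) = 0
      simp [θ, Ideal.Quotient.eq_zero_iff_mem.2 hx]
    exact hle h
  have h0 : (Ideal.Quotient.mk J 1) ⊗ₜ[R] b = (0 : (R ⧸ J) ⊗[R] C) := by
    apply hinj
    rw [map_zero, LinearMap.rTensor_tmul]
    rw [← hθ]
    show (Submodule.mapQ J (I'.restrictScalars R) (Algebra.linearMap R R') _
      (Submodule.Quotient.mk (1 : R))) ⊗ₜ[R] b = _
    rw [Submodule.mapQ_apply]
    simp [θ]
    rfl
  have h1 := congrArg (TensorProduct.quotTensorEquivQuotSMul C J) h0
  rw [map_zero, TensorProduct.quotTensorEquivQuotSMul_mk_tmul, one_smul,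
    Submodule.Quotient.mk_eq_zero, Ideal.smul_top_eq_map] at h1
  exact h1


theorem tmul_eq_zero_of_mem (R C : Type u) [CommRing R] [CommRing C] [Algebra R C]
    (I : Ideal R) (b : C) (hb : b ∈ I.map (algebraMap R C)) :
    (1 : R ⧸ I) ⊗ₜ[R] b = 0 := by
  apply (TensorProduct.quotTensorEquivQuotSMul C I).injective
  rw [map_zero]
  show (TensorProduct.quotTensorEquivQuotSMul C I) ((Ideal.Quotient.mk I 1) ⊗ₜ[R] b) = 0
  rw [TensorProduct.quotTensorEquivQuotSMul_mk_tmul, one_smul,
    Submodule.Quotient.mk_eq_zero, Ideal.smul_top_eq_map]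
  exact hb

/-- (L2) flat extension commutes with binary intersections of ideals. -/
theorem map_inf_of_flat (R C : Type u) [CommRing R] [CommRing C] [Algebra R C] [Module.Flat R C]
    (I J : Ideal R) :
    (I ⊓ J).map (algebraMap R C) = I.map (algebraMap R C) ⊓ J.map (algebraMap R C) := by
  refine le_antisymm (Ideal.map_inf_le _) ?_
  rintro b ⟨hbI, hbJ⟩
  have key := mem_map_comap_of_flat R ((R ⧸ I) × (R ⧸ J)) C ⊥ b ?_
  · convert key using 2
    ext x
    simp only [Ideal.mem_inf, Ideal.mem_comap, Ideal.mem_bot, Prod.ext_iff]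
    simp [Ideal.Quotient.eq_zero_iff_mem]
  · rw [Ideal.map_bot, Ideal.mem_bot]
    apply (TensorProduct.prodLeft R R (R ⧸ I) (R ⧸ J) C).injective
    rw [map_zero]
    show (TensorProduct.prodLeft R R (R ⧸ I) (R ⧸ J) C) (((1 : R ⧸ I), (1 : R ⧸ J)) ⊗ₜ[R] b) = 0
    rw [TensorProduct.prodLeft_tmul, tmul_eq_zero_of_mem R C I b hbI,
      tmul_eq_zero_of_mem R C J b hbJ]
    rfl

theorem map_finset_inf_of_flat (R C : Type u) [CommRing R] [CommRing C] [Algebra R C]
    [Module.Flat R C] {ι : Type*} (S : Finset ι) (J : ι → Ideal R) :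
    (S.inf J).map (algebraMap R C) = S.inf (fun i => (J i).map (algebraMap R C)) := by
  classical
  induction S using Finset.induction_on with
  | empty => simp [Ideal.map_top]
  | insert a s ha ih =>
    rw [Finset.inf_insert, Finset.inf_insert, map_inf_of_flat, ih]




/-- (L3) finite generation of membership in an extended ideal. -/
theorem exists_finset_of_mem_map {R C : Type*} [CommRing R] [CommRing C] (f : R →+* C)
    (J : Ideal R) (b : C) (hb : b ∈ J.map f) :
    ∃ F : Finset R, (↑F : Set R) ⊆ (J : Set R) ∧ b ∈ (Ideal.span (↑F : Set R)).map f := by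
  classical
  unfold Ideal.map at hb
  obtain ⟨T, hT, hbT⟩ := Submodule.mem_span_finite_of_mem_span hb
  obtain ⟨F, hF, rfl⟩ := Finset.subset_set_image_iff.1 hT
  refine ⟨F, hF, ?_⟩
  have : Ideal.span (↑(Finset.image f F) : Set C) ≤ (Ideal.span (↑F : Set R)).map f := by
    rw [Ideal.span_le]
    intro x hx
    simp only [Finset.coe_image, Set.mem_image] at hx
    obtain ⟨y, hy, rfl⟩ := hx
    exact Ideal.mem_map_of_mem _ (Ideal.subset_span hy)
  exact this hbT

open Filter in
/-- Zariski–Riemann compactness. -/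
theorem zr_compact {Ω : Type*} [Field Ω] (R0 : Subring Ω) {ι : Type*} (G : ι → Finset Ω)
    (h : ∀ V : ValuationSubring Ω, R0 ≤ V.toSubring → ∃ i, (↑(G i) : Set Ω) ⊆ (V : Set Ω)) :
    ∃ S : Finset ι, ∀ V : ValuationSubring Ω, R0 ≤ V.toSubring →
      ∃ i ∈ S, (↑(G i) : Set Ω) ⊆ (V : Set Ω) := by
  classical
  by_contra hcon
  push_neg at hcon
  choose V hV0 hV using hcon
  let 𝒰 : Ultrafilter (Finset ι) := Ultrafilter.of atTop
  have h𝒰 : (𝒰 : Filter (Finset ι)) ≤ atTop := Ultrafilter.of_le atTop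
  let W : ValuationSubring Ω :=
    { carrier := {x | ∀ᶠ S in (𝒰 : Filter (Finset ι)), x ∈ V S}
      mul_mem' := fun {a b} ha hb => by
        filter_upwards [ha, hb] with S h1 h2 using mul_mem h1 h2
      one_mem' := Filter.Eventually.of_forall fun S => one_mem _
      add_mem' := fun {a b} ha hb => by
        filter_upwards [ha, hb] with S h1 h2 using add_mem h1 h2
      zero_mem' := Filter.Eventually.of_forall fun S => zero_mem _
      neg_mem' := fun {a} ha => by
        filter_upwards [ha] with S h1 using neg_mem h1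
      mem_or_inv_mem' := fun a => by
        have : ∀ᶠ S in (𝒰 : Filter (Finset ι)), a ∈ V S ∨ a⁻¹ ∈ V S :=
          Filter.Eventually.of_forall fun S => (V S).mem_or_inv_mem a
        exact Ultrafilter.eventually_or.1 this }
  have hW0 : R0 ≤ W.toSubring := fun x hx =>
    Filter.Eventually.of_forall fun S => hV0 S hx
  obtain ⟨i, hi⟩ := h W hW0
  have h1 : ∀ᶠ S in (𝒰 : Filter (Finset ι)), ∀ x ∈ G i, x ∈ V S := by
    rw [Filter.eventually_all_finset]
    intro x hx
    exact hi hx
  have h2 : ∀ᶠ S in (𝒰 : Filter (Finset ι)), i ∈ S :=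
    h𝒰 (Filter.eventually_atTop.2 ⟨{i}, fun S hS => hS (Finset.mem_singleton_self i)⟩)
  obtain ⟨S, hS1, hS2⟩ := (h1.and h2).exists
  exact hV S i hS2 (fun x hx => hS1 x hx)


theorem map_scaleRoots_of_monic {S T : Type*} [CommRing S] [CommRing T] (f : S →+* T)
    (p : S[X]) (hp : p.Monic) (x : S) :
    (p.map f).scaleRoots (f x) = (p.scaleRoots x).map f := by
  rcases subsingleton_or_nontrivial T with h | h
  · exact Subsingleton.elim _ _
  · refine (map_scaleRoots p x f ?_).symm
    rw [hp.leadingCoeff, map_one]; exact one_ne_zero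

/-- integrally closed in `Ω` passes to the range subring -/
theorem isIntegrallyClosedIn_range (R Ω : Type*) [CommRing R] [Field Ω] [Algebra R Ω]
    [IsIntegrallyClosedIn R Ω] : IsIntegrallyClosedIn (algebraMap R Ω).range Ω := by
  rw [Subring.isIntegrallyClosedIn_iff]
  rintro x ⟨p0, hp0, hx⟩
  have hsurj : Function.Surjective (algebraMap R Ω).rangeRestrict :=
    (algebraMap R Ω).rangeRestrict_surjective
  have hl : p0 ∈ lifts (algebraMap R Ω).rangeRestrict := by
    obtain ⟨q, hq⟩ := Polynomial.map_surjective _ hsurj p0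
    exact ⟨q, hq⟩
  obtain ⟨q, hq1, -, hq3⟩ := lifts_and_degree_eq_and_monic hl hp0
  have : IsIntegral R x := by
    refine ⟨q, hq3, ?_⟩
    rw [← hx, ← hq1, eval₂_map]
    rfl
  obtain ⟨y, hy⟩ := IsIntegrallyClosedIn.isIntegral_iff.1 this
  exact ⟨y, hy⟩


end Groth.Agent.Helper2.WEInt
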