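import Mathlib
import Groth.Agent.Lead.WEField4
import Groth.Agent.Helper3.WEtale2
import Groth.Agent.Helper2.WEIntA

open TensorProduct Polynomial

namespace Groth.Agent.Helper2.WEInt

universe u

open Groth.Agent.Lead.WEField Groth.Agent.Helper3.WEtale

/-- A weakly étale algebra over a field is integral. -/
theorem isIntegral_of_weaklyEtale_field (K C : Type u) [Field K] [CommRing C] [Algebra K C]
    [Algebra.WeaklyEtale K C] : Algebra.IsIntegral K C :=
  ⟨fun c => isIntegral_of_flat_lmul' (Algebra.WeaklyEtale.flat_lmul' K C) c⟩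

/-- (V) Olivier's theorem for valuation rings with algebraically closed fraction field. -/
theorem bijective_of_valuationRing (W K B : Type u) [CommRing W] [IsDomain W] [ValuationRing W]
    [Field K] [IsAlgClosed K] [Algebra W K] [IsFractionRing W K]
    [CommRing B] [IsLocalRing B] [Algebra W B] [IsLocalHom (algebraMap W B)]
    [Algebra.WeaklyEtale W B] : Function.Bijective (algebraMap W B) := by
  haveI : Module.FaithfullyFlat W B := Module.FaithfullyFlat.of_flat_of_isLocalHom
  haveI : Nontrivial (K ⊗[W] B) := Module.FaithfullyFlat.rTensor_nontrivial W B K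
  obtain ⟨P, hP⟩ := Ideal.exists_maximal (K ⊗[W] B)
  letI : Field ((K ⊗[W] B) ⧸ P) := Ideal.Quotient.field P
  haveI : Algebra.IsIntegral K (K ⊗[W] B) := isIntegral_of_weaklyEtale_field K _
  haveI : Algebra.IsIntegral K ((K ⊗[W] B) ⧸ P) :=
    ⟨fun x => by
      obtain ⟨y, rfl⟩ := Ideal.Quotient.mk_surjective x
      exact (Algebra.IsIntegral.isIntegral (R := K) y).map (Ideal.Quotient.mkₐ K P)⟩
  have hbij : Function.Bijective (algebraMap K ((K ⊗[W] B) ⧸ P)) :=
    IsAlgClosed.algebraMap_bijective_of_isIntegral
  let e : K ≃+* ((K ⊗[W] B) ⧸ P) := RingEquiv.ofBijective (algebraMap K _) hbij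
  let g : B →+* K := e.symm.toRingHom.comp ((Ideal.Quotient.mk P).comp
    (Algebra.TensorProduct.includeRight (R := W) (A := K) (B := B)).toRingHom)
  have hg : g.comp (algebraMap W B) = algebraMap W K := by
    ext w
    show e.symm (Ideal.Quotient.mk P ((1 : K) ⊗ₜ[W] (algebraMap W B w))) = _
    apply e.injective
    rw [RingEquiv.apply_symm_apply]
    show _ = algebraMap K _ (algebraMap W K w)
    rw [Algebra.algebraMap_eq_smul_one, ← TensorProduct.smul_tmul, ← Algebra.algebraMap_eq_smul_one]
    rfl
  have hbij2 := bijective_rangeRestrict_comp_of_valuationRing (K := K) (algebraMap W B) g hg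
  -- retraction
  let e2 : W ≃+* g.range := RingEquiv.ofBijective _ hbij2
  let ρ : B →+* W := e2.symm.toRingHom.comp g.rangeRestrict
  have hρ : ∀ w, ρ (algebraMap W B w) = w := fun w => by
    show e2.symm (g.rangeRestrict (algebraMap W B w)) = w
    apply e2.injective
    rw [RingEquiv.apply_symm_apply]
    rfl
  have hρsurj : Function.Surjective ρ := fun w => ⟨_, hρ w⟩
  letI : Algebra B W := ρ.toAlgebra
  haveI : IsScalarTower W B W := IsScalarTower.of_algebraMap_eq fun w => (hρ w).symm
  haveI : Algebra.WeaklyEtale W W := inferInstance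
  haveI : Algebra.WeaklyEtale B W := weaklyEtale_of_weaklyEtale W B W
  haveI : IsLocalHom (algebraMap B W) := IsLocalHom.of_surjective ρ hρsurj
  haveI : Module.FaithfullyFlat B W := Module.FaithfullyFlat.of_flat_of_isLocalHom
  have hρinj : Function.Injective ρ := FaithfulSMul.algebraMap_injective B W
  refine ⟨FaithfulSMul.algebraMap_injective W B, fun b => ⟨ρ b, ?_⟩⟩
  apply hρinj
  rw [hρ]

end Groth.Agent.Helper2.WEInt
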