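import Mathlib
import Groth.Agent.Helper2.WEIntB

open TensorProduct Polynomial

namespace Groth.Agent.Helper2.WEInt

universe u

open Groth.Agent.Lead.WEField Groth.Agent.Helper3.WEtale

/-- Elementwise form of "`B` is integrally closed in `B[1/s]` for all nonzero `s ∈ A`". -/
def IC (A B : Type*) [CommRing A] [CommRing B] [Algebra A B] : Prop :=
  ∀ (s : A), s ≠ 0 → ∀ (b : B) (p : B[X]), p.Monic →
    (p.scaleRoots (algebraMap A B s)).eval b = 0 → b ∈ Ideal.span {algebraMap A B s}

theorem ic_of_bijective (W B : Type*) [CommRing W] [IsDomain W] [IsIntegrallyClosed W]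
    [CommRing B] [Algebra W B] (h : Function.Bijective (algebraMap W B)) : IC W B := by
  intro s hs b p hp hb
  let K := FractionRing W
  let e : W ≃+* B := RingEquiv.ofBijective (algebraMap W B) h
  let q : W[X] := p.map e.symm.toRingHom
  have hq : q.Monic := hp.map _
  let w : W := e.symm b
  have hes : e.symm (algebraMap W B s) = s := e.symm_apply_apply s
  have hw : (q.scaleRoots s).eval w = 0 := by
    have h1 : q.scaleRoots s = (p.scaleRoots (algebraMap W B s)).map e.symm.toRingHom := by
      rw [map_scaleRoots]
      · show _ = (p.map e.symm.toRingHom).scaleRoots (e.symm (algebraMap W B s))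
        rw [hes]
      · rw [hp.leadingCoeff, map_one]; exact one_ne_zero
    rw [h1, eval_map]
    show eval₂ e.symm.toRingHom (e.symm.toRingHom b) _ = 0
    rw [eval₂_at_apply, hb, map_zero]
  let f := algebraMap W K
  have hfs : f s ≠ 0 := by
    rw [Ne, map_eq_zero_iff f (IsFractionRing.injective W K)]; exact hs
  have hx : eval₂ f (f w / f s) q = 0 := by
    have h2 := scaleRoots_eval₂_mul (p := q) f (f w / f s) s
    rw [mul_div_cancel₀ _ hfs, eval₂_at_apply, hw, map_zero] at h2
    exact (mul_eq_zero.1 h2.symm).resolve_left (pow_ne_zero _ hfs)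
  have hint : IsIntegral W (f w / f s) := ⟨q, hq, hx⟩
  obtain ⟨w', hw'⟩ := IsIntegrallyClosed.isIntegral_iff.1 hint
  have : w = s * w' := by
    apply IsFractionRing.injective W K
    rw [map_mul, hw', mul_div_cancel₀ _ hfs]
  rw [Ideal.mem_span_singleton]
  refine ⟨algebraMap W B w', ?_⟩
  rw [← map_mul, ← this]
  exact (e.apply_symm_apply b).symm

/-- localization of a valuation ring at a prime is a valuation ring -/
theorem valuationRing_localization (V : Type*) [CommRing V] [IsDomain V] [ValuationRing V]
    (P : Ideal V) [P.IsPrime] : ValuationRing (Localization.AtPrime P) := by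
  let K := FractionRing V
  haveI : IsDomain (Localization.AtPrime P) :=
    IsLocalization.isDomain_localization P.primeCompl_le_nonZeroDivisors
  letI : Algebra (Localization.AtPrime P) K :=
    (IsLocalization.lift (M := P.primeCompl) (g := algebraMap V K) (fun y => by
      apply IsUnit.mk0
      rw [Ne, map_eq_zero_iff _ (IsFractionRing.injective V K)]
      rintro h
      exact y.2 (h ▸ P.zero_mem))).toAlgebra
  haveI : IsScalarTower V (Localization.AtPrime P) K :=
    .of_algebraMap_eq fun x => (IsLocalization.lift_eq _ x).symm
  haveI : IsFractionRing (Localization.AtPrime P) K :=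
    IsFractionRing.isFractionRing_of_isDomain_of_isLocalization P.primeCompl _ K
  rw [ValuationRing.iff_isInteger_or_isInteger (Localization.AtPrime P) K]
  intro x
  rcases ValuationRing.isInteger_or_isInteger V x with ⟨y, hy⟩ | ⟨y, hy⟩
  · left
    exact ⟨algebraMap V _ y, by rw [← IsScalarTower.algebraMap_apply, hy]⟩
  · right
    exact ⟨algebraMap V _ y, by rw [← IsScalarTower.algebraMap_apply, hy]⟩

/-- (V'') a weakly étale algebra over a valuation ring with algebraically closed fraction field
is "integrally closed". -/
theorem ic_of_valuationRing (V K C : Type u) [CommRing V] [IsDomain V] [ValuationRing V]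
    [Field K] [IsAlgClosed K] [Algebra V K] [IsFractionRing V K]
    [CommRing C] [Algebra V C] [Algebra.WeaklyEtale V C] : IC V C := by
  intro s hs b p hp hb
  apply Ideal.mem_of_localization_maximal
  intro Q hQ
  haveI hQp : Q.IsPrime := hQ.isPrime
  let P : Ideal V := Q.comap (algebraMap V C)
  haveI : P.IsPrime := Ideal.comap_isPrime _ _
  let W := Localization.AtPrime P
  let CQ := Localization.AtPrime Q
  haveI : IsDomain W := IsLocalization.isDomain_localization P.primeCompl_le_nonZeroDivisors
  haveI : ValuationRing W := valuationRing_localization V P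
  letI : Algebra W K :=
    (IsLocalization.lift (M := P.primeCompl) (g := algebraMap V K) (fun y => by
      apply IsUnit.mk0
      rw [Ne, map_eq_zero_iff _ (IsFractionRing.injective V K)]
      rintro h
      exact y.2 (h ▸ P.zero_mem))).toAlgebra
  haveI : IsScalarTower V W K :=
    .of_algebraMap_eq fun x => (IsLocalization.lift_eq _ x).symm
  haveI : IsFractionRing W K :=
    IsFractionRing.isFractionRing_of_isDomain_of_isLocalization P.primeCompl _ K
  letI : Algebra W CQ := (Localization.localRingHom P Q (algebraMap V C) rfl).toAlgebra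
  haveI : IsLocalHom (algebraMap W CQ) := Localization.isLocalHom_localRingHom _ _ _ rfl
  haveI : Algebra.WeaklyEtale W CQ := by
    have h1 : WE (algebraMap V C) := WE_algebraMap_iff.2 inferInstance
    have h2 := WE.localRingHom (algebraMap V C) h1 Q hQp
    rw [WE_iff] at h2
    exact h2
  have hbij : Function.Bijective (algebraMap W CQ) := bijective_of_valuationRing W K CQ
  have hIC : IC W CQ := ic_of_bijective W CQ hbij
  have hs' : algebraMap V W s ≠ 0 := by
    rw [Ne, map_eq_zero_iff _ (IsLocalization.injective W P.primeCompl_le_nonZeroDivisors)]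
    exact hs
  have hcomm : algebraMap W CQ (algebraMap V W s) = algebraMap C CQ (algebraMap V C s) :=
    Localization.localRingHom_to_map P Q (algebraMap V C) rfl s
  have key := hIC (algebraMap V W s) hs' (algebraMap C CQ b) (p.map (algebraMap C CQ)) (hp.map _) (by
    rw [hcomm, ← map_scaleRoots, eval_map, eval₂_at_apply, hb, map_zero]
    rw [hp.leadingCoeff, map_one]; exact one_ne_zero)
  rw [hcomm] at key
  rw [Ideal.map_span, Set.image_singleton]
  exact key

end Groth.Agent.Helper2.WEInt
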