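import Mathlib
import Groth.Agent.Helper2.WEIntC

open TensorProduct Polynomial

namespace Groth.Agent.Helper2.WEInt

universe u

open Groth.Agent.Lead.WEField Groth.Agent.Helper3.WEtale

/-- one valuation ring at a time -/
theorem step_valuation (R Ω C : Type u) [CommRing R] [Field Ω] [IsAlgClosed Ω] [Algebra R Ω]
    [CommRing C] [Algebra R C] [Algebra.WeaklyEtale R C]
    (V : ValuationSubring Ω) (hV : (algebraMap R Ω).range ≤ V.toSubring)
    (s : R) (hs : algebraMap R Ω s ≠ 0) (b : C) (p : C[X]) (hp : p.Monic)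
    (hb : (p.scaleRoots (algebraMap R C s)).eval b = 0) :
    ∃ F : Finset R, (∀ a ∈ F, ∃ v ∈ V, algebraMap R Ω a = algebraMap R Ω s * v) ∧
      b ∈ (Ideal.span (↑F : Set R)).map (algebraMap R C) := by
  let φ : R →+* V := (algebraMap R Ω).codRestrict V.toSubring (fun r => hV ⟨r, rfl⟩)
  letI : Algebra R V := φ.toAlgebra
  haveI : IsScalarTower R V Ω := .of_algebraMap_eq fun r => rfl
  have hIC : IC V (V ⊗[R] C) := ic_of_valuationRing V Ω (V ⊗[R] C)
  have hφs : φ s ≠ 0 := fun h => hs (by
    have := congrArg (algebraMap V Ω) h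
    rwa [map_zero] at this)
  have hcomm : algebraMap V (V ⊗[R] C) (φ s) =
      (Algebra.TensorProduct.includeRight (R := R) (A := V) (B := C)) (algebraMap R C s) := by
    rw [Algebra.TensorProduct.algebraMap_apply, Algebra.TensorProduct.includeRight_apply]
    show (algebraMap R V s) ⊗ₜ[R] (1 : C) = 1 ⊗ₜ[R] (algebraMap R C s)
    rw [Algebra.algebraMap_eq_smul_one, TensorProduct.smul_tmul, ← Algebra.algebraMap_eq_smul_one]
  have key := hIC (φ s) hφs ((1 : V) ⊗ₜ[R] b)
    (p.map (Algebra.TensorProduct.includeRight (R := R) (A := V) (B := C)).toRingHom)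
    (hp.map _) (by
      rw [hcomm]
      have : (p.map (Algebra.TensorProduct.includeRight (R := R) (A := V) (B := C)).toRingHom).scaleRoots
          ((Algebra.TensorProduct.includeRight (R := R) (A := V) (B := C)) (algebraMap R C s)) =
          (p.scaleRoots (algebraMap R C s)).map
            (Algebra.TensorProduct.includeRight (R := R) (A := V) (B := C)).toRingHom := by
        exact map_scaleRoots_of_monic _ p hp _
      rw [this, eval_map]
      show eval₂ _ ((Algebra.TensorProduct.includeRight (R := R) (A := V) (B := C)).toRingHom b) _ = 0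
      rw [eval₂_at_apply, hb, map_zero])
  have key2 : (1 : V) ⊗ₜ[R] b ∈ (Ideal.span {φ s}).map (algebraMap V (V ⊗[R] C)) := by
    rw [Ideal.map_span, Set.image_singleton]
    exact key
  have key3 := mem_map_comap_of_flat R V C (Ideal.span {φ s}) b key2
  obtain ⟨F, hF1, hF2⟩ := exists_finset_of_mem_map _ _ b key3
  refine ⟨F, fun a ha => ?_, hF2⟩
  have h1 : algebraMap R V a ∈ Ideal.span {φ s} := hF1 ha
  rw [Ideal.mem_span_singleton] at h1
  obtain ⟨v, hv⟩ := h1
  refine ⟨v.1, v.2, ?_⟩
  have := congrArg (algebraMap V Ω) hv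
  rw [map_mul] at this
  exact this

/-- (N̄') -/
theorem ic_of_isIntegrallyClosedIn (R Ω C : Type u) [CommRing R] [Field Ω] [IsAlgClosed Ω]
    [Algebra R Ω] [IsIntegrallyClosedIn R Ω]
    [CommRing C] [Algebra R C] [Algebra.WeaklyEtale R C] : IC R C := by
  classical
  intro s hs b p hp hb
  have hinj : Function.Injective (algebraMap R Ω) := (isIntegrallyClosedIn_iff.1 inferInstance).1
  have hfs : algebraMap R Ω s ≠ 0 := by
    rw [Ne, map_eq_zero_iff _ hinj]; exact hs
  set f := algebraMap R Ω with hf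
  let R0 : Subring Ω := f.range
  let ι := {V : ValuationSubring Ω // R0 ≤ V.toSubring}
  have step : ∀ V : ι, ∃ F : Finset R, (∀ a ∈ F, ∃ v ∈ V.1, f a = f s * v) ∧
      b ∈ (Ideal.span (↑F : Set R)).map (algebraMap R C) := fun V =>
    step_valuation R Ω C V.1 V.2 s hfs b p hp hb
  choose F hF1 hF2 using step
  let G : ι → Finset Ω := fun V => (F V).image (fun a => f a / f s)
  obtain ⟨S, hS⟩ := zr_compact R0 G (fun V hV => ⟨⟨V, hV⟩, by
    intro x hx
    simp only [G, Finset.coe_image, Set.mem_image] at hx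
    obtain ⟨a, ha, rfl⟩ := hx
    obtain ⟨v, hv, hav⟩ := hF1 ⟨V, hV⟩ a ha
    rw [hav, mul_div_cancel_left₀ _ hfs]
    exact hv⟩)
  have hb2 : b ∈ (S.inf (fun i => Ideal.span (↑(F i) : Set R))).map (algebraMap R C) := by
    rw [map_finset_inf_of_flat, Submodule.mem_finsetInf]
    exact fun i _ => hF2 i
  have hle : S.inf (fun i => Ideal.span (↑(F i) : Set R)) ≤ Ideal.span {s} := by
    intro a ha
    rw [Submodule.mem_finsetInf] at ha
    haveI := isIntegrallyClosedIn_range R Ω
    by_contra hcon
    have hx : f a / f s ∉ R0 := by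
      rintro ⟨a', ha'⟩
      apply hcon
      rw [Ideal.mem_span_singleton]
      refine ⟨a', hinj ?_⟩
      rw [map_mul, ha', mul_div_cancel₀ _ hfs]
    obtain ⟨V, hV1, hV2⟩ := Subring.exists_le_valuationSubring_of_isIntegrallyClosedIn hx
    obtain ⟨i, hiS, hi⟩ := hS V hV1
    apply hV2
    have hai := ha i hiS
    refine Submodule.span_induction (p := fun a _ => f a / f s ∈ V) ?_ ?_ ?_ ?_ hai
    · intro x hx
      apply hi
      simp only [G, Finset.coe_image, Set.mem_image]
      exact ⟨x, hx, rfl⟩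
    · simp only [map_zero, zero_div]; exact zero_mem _
    · intro x y _ _ hx hy
      rw [map_add, add_div]; exact add_mem hx hy
    · intro r x _ hx
      rw [smul_eq_mul, map_mul, mul_div_assoc]
      exact mul_mem (hV1 ⟨r, rfl⟩) hx
  have := Ideal.map_mono (f := algebraMap R C) hle hb2
  rwa [Ideal.map_span, Set.image_singleton] at this

end Groth.Agent.Helper2.WEInt
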