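import Mathlib
import Groth.Agent.Helper2.WEIntD

open TensorProduct Polynomial

namespace Groth.Agent.Helper2.WEInt

universe u

open Groth.Agent.Lead.WEField Groth.Agent.Helper3.WEtale

/-- descent of the IC property along `R → R'` for flat `C`. -/
theorem ic_descend (R R' C : Type u) [CommRing R] [CommRing R'] [Algebra R R']
    [CommRing C] [Algebra R C] [Module.Flat R C] (hIC : IC R' (R' ⊗[R] C))
    (s : R) (hs : algebraMap R R' s ≠ 0) (b : C) (p : C[X]) (hp : p.Monic)
    (hb : (p.scaleRoots (algebraMap R C s)).eval b = 0) :
    b ∈ ((Ideal.span {algebraMap R R' s}).comap (algebraMap R R')).map (algebraMap R C) := by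
  have hcomm : algebraMap R' (R' ⊗[R] C) (algebraMap R R' s) =
      (Algebra.TensorProduct.includeRight (R := R) (A := R') (B := C)) (algebraMap R C s) := by
    rw [Algebra.TensorProduct.algebraMap_apply, Algebra.TensorProduct.includeRight_apply]
    show (algebraMap R R' s) ⊗ₜ[R] (1 : C) = 1 ⊗ₜ[R] (algebraMap R C s)
    rw [Algebra.algebraMap_eq_smul_one, TensorProduct.smul_tmul, ← Algebra.algebraMap_eq_smul_one]
  have key := hIC (algebraMap R R' s) hs ((1 : R') ⊗ₜ[R] b)
    (p.map (Algebra.TensorProduct.includeRight (R := R) (A := R') (B := C)).toRingHom)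
    (hp.map _) (by
      rw [hcomm]
      have : (p.map (Algebra.TensorProduct.includeRight (R := R) (A := R') (B := C)).toRingHom).scaleRoots
          ((Algebra.TensorProduct.includeRight (R := R) (A := R') (B := C)) (algebraMap R C s)) =
          (p.scaleRoots (algebraMap R C s)).map
            (Algebra.TensorProduct.includeRight (R := R) (A := R') (B := C)).toRingHom := by
        exact map_scaleRoots_of_monic _ p hp _
      rw [this, eval_map]
      show eval₂ _ ((Algebra.TensorProduct.includeRight (R := R) (A := R') (B := C)).toRingHom b) _ = 0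
      rw [eval₂_at_apply, hb, map_zero])
  have key2 : (1 : R') ⊗ₜ[R] b ∈
      (Ideal.span {algebraMap R R' s}).map (algebraMap R' (R' ⊗[R] C)) := by
    rw [Ideal.map_span, Set.image_singleton]
    exact key
  exact mem_map_comap_of_flat R R' C _ b key2

/-- (N) weakly étale algebras over a normal domain satisfy IC. -/
theorem ic_of_normal (A : Type u) [CommRing A] [IsDomain A] [IsIntegrallyClosed A]
    (B : Type u) [CommRing B] [Algebra A B] [Algebra.WeaklyEtale A B] : IC A B := by
  intro s hs b p hp hb
  let K := FractionRing A
  let Ω := AlgebraicClosure K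
  let Abar := integralClosure A Ω
  have hinjΩ : Function.Injective (algebraMap A Ω) := by
    rw [IsScalarTower.algebraMap_eq A K Ω]
    exact (algebraMap K Ω).injective.comp (IsFractionRing.injective A K)
  have hIC : IC Abar (Abar ⊗[A] B) := ic_of_isIntegrallyClosedIn Abar Ω (Abar ⊗[A] B)
  have hs' : algebraMap A Abar s ≠ 0 := by
    intro h
    apply hs
    apply hinjΩ
    have := congrArg (algebraMap Abar Ω) h
    rw [map_zero] at this
    rw [map_zero, ← this]
    rfl
  have key := ic_descend A Abar B hIC s hs' b p hp hb
  refine Ideal.map_mono (f := algebraMap A B) ?_ key |> fun h => by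
    rwa [Ideal.map_span, Set.image_singleton] at h
  intro a ha
  rw [Ideal.mem_comap, Ideal.mem_span_singleton] at ha
  obtain ⟨abar, habar⟩ := ha
  -- a / s ∈ K is integral over A
  have hsK : algebraMap A K s ≠ 0 := by
    rw [Ne, map_eq_zero_iff _ (IsFractionRing.injective A K)]; exact hs
  have hint : IsIntegral A (algebraMap A K a / algebraMap A K s) := by
    have h1 : IsIntegral A (abar : Ω) := abar.2
    have h2 : (abar : Ω) = algebraMap K Ω (algebraMap A K a / algebraMap A K s) := by
      have h3 := congrArg (algebraMap Abar Ω) habar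
      rw [map_mul] at h3
      have h4 : algebraMap Abar Ω (algebraMap A Abar a) = algebraMap K Ω (algebraMap A K a) := by
        rw [← IsScalarTower.algebraMap_apply, ← IsScalarTower.algebraMap_apply]
      have h5 : algebraMap Abar Ω (algebraMap A Abar s) = algebraMap K Ω (algebraMap A K s) := by
        rw [← IsScalarTower.algebraMap_apply, ← IsScalarTower.algebraMap_apply]
      rw [h4, h5] at h3
      have h6 : algebraMap K Ω (algebraMap A K s) ≠ 0 := by
        rw [Ne, map_eq_zero]; exact hsK
      rw [map_div₀, h3, mul_div_cancel_left₀ _ h6]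
      rfl
    rw [h2] at h1
    exact (isIntegral_algebraMap_iff (algebraMap K Ω).injective).1 h1
  obtain ⟨a', ha'⟩ := IsIntegrallyClosed.isIntegral_iff.1 hint
  rw [Ideal.mem_span_singleton]
  refine ⟨a', IsFractionRing.injective A K ?_⟩
  rw [map_mul, ha', mul_div_cancel₀ _ hsK]

end Groth.Agent.Helper2.WEInt
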