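import Mathlib
import Groth.Agent.Helper2.WEIntE

open TensorProduct Polynomial

namespace Groth.Agent.Helper2.WEInt

universe u

/-- IC implies integrally closed in the generic fibre. -/
theorem isIntegrallyClosedIn_of_ic (A : Type u) [CommRing A] [IsDomain A]
    (K : Type u) [Field K] [Algebra A K] [IsFractionRing A K] (B : Type u) [CommRing B] [Algebra A B]
    [Module.Flat A B] (hIC : IC A B) :
    IsIntegrallyClosedIn B (B ⊗[A] K) := by
  have hinj : Function.Injective (algebraMap B (B ⊗[A] K)) :=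
    Algebra.TensorProduct.includeLeft_injective (S := B) (IsFractionRing.injective A K)
  rw [isIntegrallyClosedIn_iff]
  refine ⟨hinj, ?_⟩
  rintro x ⟨p, hp, hx⟩
  haveI : IsLocalization (Algebra.algebraMapSubmonoid B (nonZeroDivisors A)) (B ⊗[A] K) :=
    IsLocalization.tensor K (nonZeroDivisors A)
  obtain ⟨⟨b, ⟨m, s, hs, rfl⟩⟩, hbm⟩ :=
    IsLocalization.surj (Algebra.algebraMapSubmonoid B (nonZeroDivisors A)) x
  simp only at hbm
  set f := algebraMap B (B ⊗[A] K) with hf
  have hunit : IsUnit (f (algebraMap A B s)) :=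
    IsLocalization.map_units (B ⊗[A] K)
      (⟨algebraMap A B s, s, hs, rfl⟩ : Algebra.algebraMapSubmonoid B (nonZeroDivisors A))
  have h2 := scaleRoots_eval₂_mul (p := p) f x (algebraMap A B s)
  rw [hx, mul_zero, mul_comm, hbm, eval₂_at_apply] at h2
  have h3 : (p.scaleRoots (algebraMap A B s)).eval b = 0 := hinj (by rw [h2, map_zero])
  have h4 := hIC s (nonZeroDivisors.ne_zero hs) b p hp h3
  rw [Ideal.mem_span_singleton] at h4
  obtain ⟨b', rfl⟩ := h4
  refine ⟨b', ?_⟩
  rw [map_mul, mul_comm] at hbm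
  exact (hunit.mul_left_cancel hbm).symm

theorem s1967 (A : Type u) [CommRing A] [IsDomain A] [IsIntegrallyClosed A]
    (K : Type u) [Field K] [Algebra A K] [IsFractionRing A K] (B : Type u) [CommRing B] [Algebra A B]
    [Algebra.WeaklyEtale A B] :
    IsIntegrallyClosedIn B (B ⊗[A] K) :=
  isIntegrallyClosedIn_of_ic A K B (ic_of_normal A B)

end Groth.Agent.Helper2.WEInt
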