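import Mathlib
import Groth.Agent.Helper2.WEIntF

open TensorProduct Polynomial

namespace Groth.Agent.Helper2.WEInt

universe u

open Groth.Agent.Lead.WEField Groth.Agent.Helper3.WEtale

theorem idem_local {B : Type*} [CommRing B] [IsLocalRing B] (e : B) (he : e * e = e) :
    e = 0 ∨ e = 1 := by
  have h0 : e * (1 - e) = 0 := by rw [mul_sub, mul_one, he, sub_self]
  rcases IsLocalRing.isUnit_or_isUnit_one_sub_self e with h | h
  · right
    have : 1 - e = 0 := (IsUnit.mul_right_eq_zero h).1 h0
    exact (sub_eq_zero.1 this).symm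
  · left
    exact (IsUnit.mul_left_eq_zero h).1 h0

theorem isField_of_vnr {L : Type*} [CommRing L] [Nontrivial L] (hL : ∀ x : L, ∃ r : L, x = x * x * r)
    (hidem : ∀ e : L, e * e = e → e = 0 ∨ e = 1) : IsField L := by
  refine ⟨exists_pair_ne L, mul_comm, ?_⟩
  intro x hx
  obtain ⟨r, hr⟩ := hL x
  have he : (x * r) * (x * r) = x * r := by
    calc (x * r) * (x * r) = (x * x * r) * r := by ring
      _ = x * r := by rw [← hr]
  rcases hidem _ he with h | h
  · exfalso
    apply hx
    calc x = x * x * r := hr
      _ = x * (x * r) := by ring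
      _ = 0 := by rw [h, mul_zero]
  · exact ⟨r, h⟩

/-- A local ring weakly étale over a normal domain is a normal domain. -/
theorem normal_of_weaklyEtale (A : Type u) [CommRing A] [IsDomain A] [IsIntegrallyClosed A]
    (B : Type u) [CommRing B] [IsLocalRing B] [Algebra A B] [Algebra.WeaklyEtale A B] :
    IsDomain B ∧ IsIntegrallyClosed B := by
  let K := FractionRing A
  let L := B ⊗[A] K
  haveI hcl : IsIntegrallyClosedIn B L := s1967 A K B
  have hinj : Function.Injective (algebraMap B L) := (isIntegrallyClosedIn_iff.1 hcl).1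
  haveI : Nontrivial L := hinj.nontrivial
  have hvnr : VNR L :=
    VNR.of_surjective (Algebra.TensorProduct.comm A K B).toRingEquiv.toRingHom
      (Algebra.TensorProduct.comm A K B).surjective
      (vnr_of_flat_lmul' (Algebra.WeaklyEtale.flat_lmul' K (K ⊗[A] B)))
  have hidem : ∀ e : L, e * e = e → e = 0 ∨ e = 1 := by
    intro e he
    have hint : IsIntegral B e := by
      refine ⟨X ^ 2 - X, monic_X_pow_sub (by simp), ?_⟩
      simp [pow_two, he]
    obtain ⟨b, rfl⟩ := IsIntegrallyClosedIn.isIntegral_iff.1 hint
    have hb : b * b = b := hinj (by rw [map_mul, he])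
    rcases idem_local b hb with h | h
    · left; rw [h, map_zero]
    · right; rw [h, map_one]
  have hfield : IsField L := isField_of_vnr hvnr hidem
  letI : Field L := hfield.toField
  haveI : IsDomain B := hinj.isDomain (algebraMap B L)
  haveI : FaithfulSMul B L := (faithfulSMul_iff_algebraMap_injective B L).2 hinj
  haveI : IsLocalization (Algebra.algebraMapSubmonoid B (nonZeroDivisors A)) L :=
    IsLocalization.tensor K (nonZeroDivisors A)
  haveI : IsFractionRing B L := by
    apply IsFractionRing.of_field
    intro z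
    obtain ⟨⟨b, ⟨m, s, hs, rfl⟩⟩, hbm⟩ :=
      IsLocalization.surj (Algebra.algebraMapSubmonoid B (nonZeroDivisors A)) z
    simp only at hbm
    have hunit : IsUnit (algebraMap B L (algebraMap A B s)) :=
      IsLocalization.map_units L
        (⟨algebraMap A B s, s, hs, rfl⟩ : Algebra.algebraMapSubmonoid B (nonZeroDivisors A))
    refine ⟨b, algebraMap A B s, ?_⟩
    rw [eq_div_iff hunit.ne_zero]
    exact hbm
  exact ⟨inferInstance, (isIntegrallyClosed_iff_isIntegrallyClosedIn L).2 hcl⟩

end Groth.Agent.Helper2.WEInt
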