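import Mathlib
import Groth.Agent.Helper2.WEIntG
import Groth.Agent.S0426

open TensorProduct Polynomial IsLocalRing

namespace Groth.Agent.Helper2.Oliv

universe u

open Groth.Agent.Lead.WEField Groth.Agent.Helper3.WEtale Groth.Agent.Helper2.WEInt

/-- Step 1: residue fields agree. -/
theorem exists_sub_mem_maximalIdeal (A B : Type u) [CommRing A] [CommRing B] [IsLocalRing A]
    [IsLocalRing B] [IsSepClosed (ResidueField A)] [Algebra A B] [IsLocalHom (algebraMap A B)]
    [Algebra.WeaklyEtale A B] (b : B) :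
    ∃ a : A, b - algebraMap A B a ∈ maximalIdeal B := by
  let k := ResidueField A
  haveI : Module.FaithfullyFlat A B := Module.FaithfullyFlat.of_flat_of_isLocalHom
  haveI : Nontrivial (k ⊗[A] B) := Module.FaithfullyFlat.rTensor_nontrivial A B k
  obtain ⟨M, hM⟩ := Ideal.exists_maximal (k ⊗[A] B)
  letI : Field ((k ⊗[A] B) ⧸ M) := Ideal.Quotient.field M
  haveI : Algebra.WeaklyEtale k ((k ⊗[A] B) ⧸ M) := weaklyEtale_quotient k (k ⊗[A] B) M
  haveI : Algebra.IsSeparable k ((k ⊗[A] B) ⧸ M) := Groth.Agent.S0426.result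
  have hsurj : Function.Surjective (algebraMap k ((k ⊗[A] B) ⧸ M)) :=
    IsSepClosed.algebraMap_surjective k _
  let g : B →+* (k ⊗[A] B) ⧸ M := (Ideal.Quotient.mk M).comp
    (Algebra.TensorProduct.includeRight (R := A) (A := k) (B := B)).toRingHom
  have hg : ∀ a : A, g (algebraMap A B a) = algebraMap k _ (residue A a) := by
    intro a
    show Ideal.Quotient.mk M ((1 : k) ⊗ₜ[A] (algebraMap A B a)) = _
    rw [Algebra.algebraMap_eq_smul_one, ← TensorProduct.smul_tmul, ← Algebra.algebraMap_eq_smul_one]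
    rfl
  have hgsurj : Function.Surjective g := by
    intro z
    obtain ⟨c, rfl⟩ := hsurj z
    obtain ⟨a, rfl⟩ := residue_surjective c
    exact ⟨algebraMap A B a, hg a⟩
  have hker : RingHom.ker g = maximalIdeal B :=
    IsLocalRing.eq_maximalIdeal (RingHom.ker_isMaximal_of_surjective g hgsurj)
  obtain ⟨c, hc⟩ := hsurj (g b)
  obtain ⟨a, rfl⟩ := residue_surjective c
  refine ⟨a, ?_⟩
  rw [← hker, RingHom.mem_ker, map_sub, hg, hc, sub_self]

/-- Step 3: tensor product of local rings is local under residue-surjectivity + integrality. -/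
theorem isLocalRing_tensor (A B D : Type u) [CommRing A] [CommRing B] [CommRing D]
    [Algebra A B] [Algebra A D] [IsLocalRing B] [IsLocalRing D] [Algebra.IsIntegral A D]
    [Nontrivial (D ⊗[A] B)]
    (hres : ∀ b : B, ∃ a : A, b - algebraMap A B a ∈ maximalIdeal B) :
    IsLocalRing (D ⊗[A] B) := by
  let iL : D →+* D ⊗[A] B := (Algebra.TensorProduct.includeLeft (R := A) (S := A) (A := D) (B := B)).toRingHom
  let iR : B →+* D ⊗[A] B := (Algebra.TensorProduct.includeRight (R := A) (A := D) (B := B)).toRingHom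
  let J : Ideal (D ⊗[A] B) := (maximalIdeal B).map iR
  have huni : ∀ x : D ⊗[A] B, ∃ d : D, x - iL d ∈ J := by
    intro x
    induction x using TensorProduct.induction_on with
    | zero => exact ⟨0, by simp⟩
    | tmul d b =>
      obtain ⟨a, ha⟩ := hres b
      refine ⟨a • d, ?_⟩
      have h1 : d ⊗ₜ[A] b - iL (a • d) = iL d * iR (b - algebraMap A B a) := by
        show d ⊗ₜ[A] b - (a • d) ⊗ₜ[A] (1 : B) = (d ⊗ₜ[A] (1 : B)) * ((1 : D) ⊗ₜ[A] (b - algebraMap A B a))
        rw [Algebra.TensorProduct.tmul_mul_tmul, mul_one, one_mul, TensorProduct.tmul_sub,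
          TensorProduct.smul_tmul, Algebra.algebraMap_eq_smul_one]
      rw [h1]
      exact J.mul_mem_left _ (Ideal.mem_map_of_mem _ ha)
    | add x y hx hy =>
      obtain ⟨d1, h1⟩ := hx
      obtain ⟨d2, h2⟩ := hy
      refine ⟨d1 + d2, ?_⟩
      have : x + y - iL (d1 + d2) = (x - iL d1) + (y - iL d2) := by rw [map_add]; ring
      rw [this]
      exact J.add_mem h1 h2
  have hint : iR.IsIntegral := by
    have h1 : iR = ((Algebra.TensorProduct.comm A B D).toRingEquiv.toRingHom).comp
        (algebraMap B (B ⊗[A] D)) := by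
      ext b
      show (1 : D) ⊗ₜ[A] b = Algebra.TensorProduct.comm A B D (b ⊗ₜ[A] (1 : D))
      simp
    rw [h1]
    exact RingHom.IsIntegral.trans _ _ (algebraMap_isIntegral_iff.2 inferInstance)
      (RingHom.isIntegral_of_surjective _ (Algebra.TensorProduct.comm A B D).surjective)
  have hJM : ∀ M : Ideal (D ⊗[A] B), M.IsMaximal → J ≤ M := by
    intro M hM
    have h1 : (M.comap iR).IsMaximal := Ideal.isMaximal_comap_of_isIntegral_of_isMaximal' iR hint M
    have h2 := IsLocalRing.eq_maximalIdeal h1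
    rw [Ideal.map_le_iff_le_comap, h2]
  have hchar : ∀ M : Ideal (D ⊗[A] B), M.IsMaximal → ∀ x d, x - iL d ∈ J →
      (x ∈ M ↔ d ∈ maximalIdeal D) := by
    intro M hM x d hxd
    have h1 : x ∈ M ↔ iL d ∈ M := by
      have h0 : x - iL d ∈ M := hJM M hM hxd
      constructor
      · intro hx
        have := M.sub_mem hx h0
        rwa [sub_sub_cancel] at this
      · intro hd
        have := M.add_mem h0 hd
        rwa [sub_add_cancel] at this
    letI : Field ((D ⊗[A] B) ⧸ M) := Ideal.Quotient.field M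
    have hsurj : Function.Surjective ((Ideal.Quotient.mk M).comp iL) := by
      intro z
      obtain ⟨x', rfl⟩ := Ideal.Quotient.mk_surjective z
      obtain ⟨d', hd'⟩ := huni x'
      refine ⟨d', ?_⟩
      rw [RingHom.comp_apply, eq_comm, Ideal.Quotient.eq]
      exact hJM M hM hd'
    have hmax : (RingHom.ker ((Ideal.Quotient.mk M).comp iL)).IsMaximal :=
      RingHom.ker_isMaximal_of_surjective _ hsurj
    have h2 := IsLocalRing.eq_maximalIdeal hmax
    rw [h1, ← h2, RingHom.mem_ker, RingHom.comp_apply, Ideal.Quotient.eq_zero_iff_mem]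
  apply IsLocalRing.of_unique_max_ideal
  obtain ⟨M, hM⟩ := Ideal.exists_maximal (D ⊗[A] B)
  refine ⟨M, hM, fun M' hM' => ?_⟩
  refine (hM'.eq_of_le hM.ne_top ?_)
  intro x hx
  obtain ⟨d, hd⟩ := huni x
  exact (hchar M hM x d hd).2 ((hchar M' hM' x d hd).1 hx)

end Groth.Agent.Helper2.Oliv
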