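import Mathlib
import Groth.Agent.Helper2.OlivA
import Groth.Agent.Helper2.Unibr1

open TensorProduct Polynomial IsLocalRing

namespace Groth.Agent.Helper2.Oliv

universe u

open Groth.Agent.Lead.WEField Groth.Agent.Helper3.WEtale Groth.Agent.Helper2.WEInt

/-- A local ring weakly étale over a domain with the IC property is a domain, "generically a
field" and "generically integral". -/
theorem domain_of_ic (A : Type u) [CommRing A] [IsDomain A]
    (B : Type u) [CommRing B] [IsLocalRing B] [Algebra A B] [Algebra.WeaklyEtale A B]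
    (hIC : IC A B) :
    IsDomain B ∧ (∀ x : B, x ≠ 0 → ∃ y : B, ∃ d : A, d ≠ 0 ∧ x * y = algebraMap A B d) ∧
      (∀ x : B, ∃ d : A, d ≠ 0 ∧ IsIntegral A (algebraMap A B d * x)) := by
  let K := FractionRing A
  let L := B ⊗[A] K
  haveI hcl : IsIntegrallyClosedIn B L := isIntegrallyClosedIn_of_ic A K B hIC
  have hinj : Function.Injective (algebraMap B L) := (isIntegrallyClosedIn_iff.1 hcl).1
  haveI : Nontrivial L := hinj.nontrivial
  have hvnr : VNR L :=
    VNR.of_surjective (Algebra.TensorProduct.comm A K B).toRingEquiv.toRingHom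
      (Algebra.TensorProduct.comm A K B).surjective
      (vnr_of_flat_lmul' (Algebra.WeaklyEtale.flat_lmul' K (K ⊗[A] B)))
  have hidem : ∀ e : L, e * e = e → e = 0 ∨ e = 1 := by
    intro e he
    have hint : IsIntegral B e := by
      refine ⟨X ^ 2 - X, monic_X_pow_sub (by simp), ?_⟩
      simp [pow_two, he]
    obtain ⟨b, rfl⟩ := IsIntegrallyClosedIn.isIntegral_iff.1 hint
    have hb : b * b = b := hinj (by rw [map_mul, he])
    rcases idem_local b hb with h | h
    · left; rw [h, map_zero]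
    · right; rw [h, map_one]
  have hfield : IsField L := isField_of_vnr hvnr hidem
  letI : Field L := hfield.toField
  haveI : IsDomain B := hinj.isDomain (algebraMap B L)
  haveI : IsLocalization (Algebra.algebraMapSubmonoid B (nonZeroDivisors A)) L :=
    IsLocalization.tensor K (nonZeroDivisors A)
  refine ⟨inferInstance, ?_, ?_⟩
  · intro x hx
    have hx' : algebraMap B L x ≠ 0 := by
      rw [Ne, map_eq_zero_iff _ hinj]; exact hx
    obtain ⟨⟨y, ⟨m, d, hd, rfl⟩⟩, hym⟩ :=
      IsLocalization.surj (Algebra.algebraMapSubmonoid B (nonZeroDivisors A)) (algebraMap B L x)⁻¹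
    simp only at hym
    refine ⟨y, d, nonZeroDivisors.ne_zero hd, hinj ?_⟩
    rw [map_mul, ← hym, ← mul_assoc, mul_inv_cancel₀ hx', one_mul]
  · intro x
    haveI : Algebra.IsIntegral K (K ⊗[A] B) := isIntegral_of_weaklyEtale_field K _
    obtain ⟨m, hm⟩ := IsIntegral.exists_multiple_integral_of_isLocalization (nonZeroDivisors A)
      ((1 : K) ⊗ₜ[A] x) (Algebra.IsIntegral.isIntegral (R := K) _)
    refine ⟨m.1, nonZeroDivisors.ne_zero m.2, ?_⟩
    have hinjR : Function.Injective (Algebra.TensorProduct.includeRight (R := A) (A := K) (B := B)) :=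
      Algebra.TensorProduct.includeRight_injective (IsFractionRing.injective A K)
    have h1 : (Algebra.TensorProduct.includeRight (R := A) (A := K) (B := B))
        (algebraMap A B m.1 * x) = m • ((1 : K) ⊗ₜ[A] x) := by
      rw [Algebra.TensorProduct.includeRight_apply, ← Algebra.smul_def, TensorProduct.tmul_smul]
      rfl
    rw [← isIntegral_algHom_iff _ hinjR, h1]
    exact hm

/-- Step 2: `A → B` is an epimorphism with respect to algebraically closed fields. -/
theorem eq_of_comp_eq (A B : Type u) [CommRing A] [CommRing B] [HenselianLocalRing A]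
    [IsLocalRing B] [IsSepClosed (ResidueField A)] [Algebra A B] [IsLocalHom (algebraMap A B)]
    [Algebra.WeaklyEtale A B] (Ω : Type u) [Field Ω] [IsAlgClosed Ω] (φ₁ φ₂ : B →+* Ω)
    (h : φ₁.comp (algebraMap A B) = φ₂.comp (algebraMap A B)) : φ₁ = φ₂ := by
  letI : Algebra A Ω := (φ₁.comp (algebraMap A B)).toAlgebra
  let Abar := integralClosure A Ω
  haveI : IsLocalRing Abar := Groth.Agent.Helper2.Unibr1.isLocalRing_of_isIntegral_of_isDomain A Abar
  haveI : Module.FaithfullyFlat A B := Module.FaithfullyFlat.of_flat_of_isLocalHom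
  haveI : Nontrivial (Abar ⊗[A] B) := Module.FaithfullyFlat.rTensor_nontrivial A B Abar
  haveI : IsLocalRing (Abar ⊗[A] B) :=
    isLocalRing_tensor A B Abar (exists_sub_mem_maximalIdeal A B)
  have hIC : IC Abar (Abar ⊗[A] B) := ic_of_isIntegrallyClosedIn Abar Ω (Abar ⊗[A] B)
  obtain ⟨hdom, hfld, hint⟩ := domain_of_ic Abar (Abar ⊗[A] B) hIC
  -- the two maps
  let g₁ : B →ₐ[A] Ω := { φ₁ with commutes' := fun a => rfl }
  let g₂ : B →ₐ[A] Ω := { φ₂ with commutes' := fun a => (RingHom.congr_fun h a).symm }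
  let Ψ₁ : Abar ⊗[A] B →ₐ[Abar] Ω :=
    Algebra.TensorProduct.lift (Algebra.ofId Abar Ω) g₁ (fun _ _ => mul_comm _ _)
  let Ψ₂ : Abar ⊗[A] B →ₐ[Abar] Ω :=
    Algebra.TensorProduct.lift (Algebra.ofId Abar Ω) g₂ (fun _ _ => mul_comm _ _)
  have hinjA : Function.Injective (algebraMap Abar Ω) := Subtype.val_injective
  have hΨinj : ∀ Ψ : Abar ⊗[A] B →ₐ[Abar] Ω, Function.Injective Ψ := by
    intro Ψ
    rw [injective_iff_map_eq_zero]
    intro x hx
    by_contra hx0
    obtain ⟨y, d, hd, hxy⟩ := hfld x hx0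
    have := congrArg Ψ hxy
    rw [map_mul, hx, zero_mul, AlgHom.commutes] at this
    exact hd (hinjA (by rw [← this, map_zero]))
  have hΨ : ∀ x, Ψ₁ x = Ψ₂ x := by
    intro x
    obtain ⟨d, hd, hdx⟩ := hint x
    have h1 : IsIntegral Abar (Ψ₁ (algebraMap Abar _ d * x)) := hdx.map Ψ₁
    obtain ⟨a₁, ha₁⟩ := IsIntegrallyClosedIn.isIntegral_iff.1 h1
    have h2 : algebraMap Abar _ d * x = algebraMap Abar (Abar ⊗[A] B) a₁ := by
      apply hΨinj Ψ₁
      rw [← ha₁, AlgHom.commutes]
    have h3 : Ψ₁ (algebraMap Abar _ d * x) = Ψ₂ (algebraMap Abar _ d * x) := by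
      rw [h2, AlgHom.commutes, AlgHom.commutes]
    rw [map_mul, map_mul, AlgHom.commutes, AlgHom.commutes] at h3
    have hd' : algebraMap Abar Ω d ≠ 0 := by
      rw [Ne, map_eq_zero_iff _ hinjA]; exact hd
    exact mul_left_cancel₀ hd' h3
  ext b
  have := hΨ ((1 : Abar) ⊗ₜ[A] b)
  simpa [Ψ₁, Ψ₂, g₁, g₂] using this

end Groth.Agent.Helper2.Oliv
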