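import Mathlib
import Groth.Agent.Helper2.OlivB

open TensorProduct Polynomial IsLocalRing

namespace Groth.Agent.Helper2.Oliv

universe u

open Groth.Agent.Lead.WEField Groth.Agent.Helper3.WEtale Groth.Agent.Helper2.WEInt

/-- Olivier's theorem. -/
theorem olivier (A B : Type u) [CommRing A] [CommRing B] [HenselianLocalRing A]
    [IsLocalRing B] [IsSepClosed (ResidueField A)] [Algebra A B] [IsLocalHom (algebraMap A B)]
    [Algebra.WeaklyEtale A B] : Function.Bijective (algebraMap A B) := by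
  haveI : Module.FaithfullyFlat A B := Module.FaithfullyFlat.of_flat_of_isLocalHom
  let F := (Algebra.TensorProduct.lmul' A (S := B)).toRingHom
  have hFsurj : Function.Surjective F := fun x ↦ ⟨x ⊗ₜ 1, by simp [F]⟩
  letI : Algebra (B ⊗[A] B) B := F.toAlgebra
  have hfl : Module.Flat (B ⊗[A] B) B := Algebra.WeaklyEtale.flat_lmul' A B
  have hsurj : Function.Surjective (Algebra.ofId (B ⊗[A] B) B) := hFsurj
  have e' : ((B ⊗[A] B) ⧸ RingHom.ker (Algebra.ofId (B ⊗[A] B) B)) ≃ₐ[B ⊗[A] B] B :=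
    Ideal.quotientKerAlgEquivOfSurjective hsurj
  haveI hpure : (RingHom.ker (Algebra.ofId (B ⊗[A] B) B)).Pure :=
    Module.Flat.of_linearEquiv e'.toLinearEquiv
  have hkerF : ∀ x, x ∈ RingHom.ker (Algebra.ofId (B ⊗[A] B) B) ↔ F x = 0 := fun x => Iff.rfl
  have hI_le : ∀ r : Ideal (B ⊗[A] B), r.IsMaximal →
      RingHom.ker (Algebra.ofId (B ⊗[A] B) B) ≤ r := by
    intro r hr
    letI : Field ((B ⊗[A] B) ⧸ r) := Ideal.Quotient.field r
    let Ω := AlgebraicClosure ((B ⊗[A] B) ⧸ r)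
    let φ₁ : B →+* Ω := (algebraMap ((B ⊗[A] B) ⧸ r) Ω).comp ((Ideal.Quotient.mk r).comp
      (Algebra.TensorProduct.includeLeft (R := A) (S := A) (A := B) (B := B)).toRingHom)
    let φ₂ : B →+* Ω := (algebraMap ((B ⊗[A] B) ⧸ r) Ω).comp ((Ideal.Quotient.mk r).comp
      (Algebra.TensorProduct.includeRight (R := A) (A := B) (B := B)).toRingHom)
    have h : φ₁.comp (algebraMap A B) = φ₂.comp (algebraMap A B) := by
      ext a
      show algebraMap _ Ω (Ideal.Quotient.mk r ((algebraMap A B a) ⊗ₜ[A] (1 : B))) =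
        algebraMap _ Ω (Ideal.Quotient.mk r ((1 : B) ⊗ₜ[A] (algebraMap A B a)))
      have h0 : (algebraMap A B a) ⊗ₜ[A] (1 : B) = (1 : B) ⊗ₜ[A] (algebraMap A B a) := by
        rw [Algebra.algebraMap_eq_smul_one, TensorProduct.smul_tmul]
      rw [h0]
    have h12 := eq_of_comp_eq A B Ω φ₁ φ₂ h
    have hI : RingHom.ker (Algebra.ofId (B ⊗[A] B) B) = KaehlerDifferential.ideal A B := rfl
    rw [hI, ← KaehlerDifferential.span_range_eq_ideal, Ideal.span_le]
    rintro _ ⟨s, rfl⟩
    have h1 := RingHom.congr_fun h12 s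
    have h2 : Ideal.Quotient.mk r (s ⊗ₜ[A] (1 : B)) = Ideal.Quotient.mk r ((1 : B) ⊗ₜ[A] s) :=
      (algebraMap ((B ⊗[A] B) ⧸ r) Ω).injective h1
    rw [SetLike.mem_coe, ← Ideal.Quotient.eq_zero_iff_mem, map_sub, h2, sub_self]
  have hinj : Function.Injective F := by
    rw [injective_iff_map_eq_zero]
    intro x hx
    obtain ⟨y, hy, hxy⟩ := Ideal.exists_eq_mul_of_pure ((hkerF x).2 hx)
    have hunit : IsUnit (1 - y) := by
      by_contra hnu
      obtain ⟨r, hr, hyr⟩ := exists_max_ideal_of_mem_nonunits hnu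
      apply hr.ne_top
      rw [Ideal.eq_top_iff_one]
      have := r.add_mem hyr (hI_le r hr hy)
      rwa [sub_add_cancel] at this
    have h0 : x * (1 - y) = 0 := by rw [mul_sub, mul_one, ← hxy, sub_self]
    exact (hunit.mul_left_eq_zero).1 h0
  have hFbij : Function.Bijective F := ⟨hinj, hFsurj⟩
  refine ⟨FaithfulSMul.algebraMap_injective A B, ?_⟩
  -- surjectivity by faithfully flat descent
  have h1 : Function.Surjective ((Algebra.linearMap A B).lTensor B) := by
    intro z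
    refine ⟨(F z) ⊗ₜ[A] (1 : A), ?_⟩
    apply hinj
    rw [LinearMap.lTensor_tmul]
    simp [F]
  exact (Module.FaithfullyFlat.lTensor_surjective_iff_surjective A B _).1 h1

end Groth.Agent.Helper2.Oliv
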