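import Mathlib
import Groth.Prelude
import Groth.Agent.Helper2.IndEtLiftF
import Groth.Agent.Helper2.OlivC
import Groth.Agent.Helper3.WEtale2
import Groth.Agent.Helper9.EtRetrF

set_option autoImplicit false
universe u
open CategoryTheory CategoryTheory.Limits TensorProduct

namespace Groth.Agent.Helper2.IndEtLift

open Groth.Agent.Helper2.IndEtCrit Groth.Agent.Helper3.WEtale

/-- a weakly étale map out of a ring with étale retractions is bijective on local rings at
primes over maximal ideals -/
theorem bijective_localRingHom_of_WE {C D : Type u} [CommRing C] [CommRing D]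
    (s : C →+* D) (hs : WE s) (hC : ProEtW.HasEtaleRetractions C) (n : Ideal D) [n.IsPrime]
    (hm : (n.comap s).IsMaximal) :
    Function.Bijective (Localization.localRingHom (n.comap s) n s rfl) := by
  have hloc := WE.localRingHom s hs n inferInstance
  rw [WE_iff] at hloc
  letI := (Localization.localRingHom (n.comap s) n s rfl).toAlgebra
  obtain ⟨hH, hsep⟩ := Groth.Agent.Helper9.EtRetrF.main C hC (n.comap s)
  haveI : IsLocalHom (algebraMap (Localization.AtPrime (n.comap s)) (Localization.AtPrime n)) :=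
    Localization.isLocalHom_localRingHom _ _ _ rfl
  exact Groth.Agent.Helper2.Oliv.olivier _ _

theorem local_inj {C D : Type u} [CommRing C] [CommRing D]
    (s : C →+* D) (n : Ideal D) [n.IsPrime]
    (h : Function.Injective (Localization.localRingHom (n.comap s) n s rfl))
    (c : C) (hc : s c = 0) : ∃ u, u ∉ n.comap s ∧ u * c = 0 := by
  have h1 : Localization.localRingHom (n.comap s) n s rfl
      (algebraMap C (Localization.AtPrime (n.comap s)) c) = 0 := by
    rw [Localization.localRingHom_to_map, hc, map_zero]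
  have h2 := h (h1.trans (map_zero _).symm)
  obtain ⟨u, hu⟩ := (IsLocalization.map_eq_zero_iff (n.comap s).primeCompl _ c).mp h2
  exact ⟨u.1, u.2, hu⟩

theorem local_surj {C D : Type u} [CommRing C] [CommRing D]
    (s : C →+* D) (n : Ideal D) [n.IsPrime]
    (h : Function.Surjective (Localization.localRingHom (n.comap s) n s rfl))
    (d : D) : ∃ c u v, u ∉ n.comap s ∧ v ∉ n ∧ v * (s u * d - s c) = 0 := by
  obtain ⟨z, hz⟩ := h (algebraMap D (Localization.AtPrime n) d)
  obtain ⟨c, u, rfl⟩ := IsLocalization.exists_mk'_eq (n.comap s).primeCompl z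
  rw [Localization.localRingHom_mk', IsLocalization.mk'_eq_iff_eq_mul, ← map_mul] at hz
  obtain ⟨v, hv⟩ := (IsLocalization.eq_iff_exists n.primeCompl _).mp hz
  refine ⟨c, u.1, v.1, u.2, v.2, ?_⟩
  have hv' : (v : D) * s c = v * (d * s u) := hv
  rw [mul_sub, mul_comm (s u) d, ← hv', sub_self]

section Comparison

variable (A B : Type u) [CommRing A] [CommRing B] [Algebra A B] [Algebra.WeaklyEtale A B]
  {Y : Type u} (Ω : Y → Type u) [∀ y, Field (Ω y)] [∀ y, IsAlgClosed (Ω y)]
  [Algebra B (Π y, Ω y)] [Algebra A (Π y, Ω y)] [IsScalarTower A B (Π y, Ω y)]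

/-- the comparison map `Hull A T → Hull B T` -/
theorem exists_comparison :
    ∃ s : Hull A (Π y, Ω y) →+* Hull B (Π y, Ω y),
      (∀ c, hullCounit B (Π y, Ω y) (s c) = hullCounit A (Π y, Ω y) c) ∧
      (∀ a, s (algebraMap A _ a) = algebraMap B _ (algebraMap A B a)) := by
  have hC : EtPBC.IsIndEtale B (B ⊗[A] Hull A (Π y, Ω y)) :=
    Groth.Agent.S0733.result A (Hull A (Π y, Ω y)) B (isIndEtale_hull A _)
  let g : B ⊗[A] Hull A (Π y, Ω y) →ₐ[B] (Π y, Ω y) :=
    Algebra.TensorProduct.lift (Algebra.ofId B _) (hullCounit A (Π y, Ω y))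
      (fun _ _ => mul_comm _ _)
  let sh : B ⊗[A] Hull A (Π y, Ω y) →ₐ[B] Hull B (Π y, Ω y) :=
    hullLift (fac_of_isIndEtale hC) g
  have hsh : (hullCounit B (Π y, Ω y)).comp sh = g := hullCounit_hullLift _ _
  refine ⟨sh.toRingHom.comp (Algebra.TensorProduct.includeRight :
    Hull A (Π y, Ω y) →ₐ[A] B ⊗[A] Hull A (Π y, Ω y)).toRingHom, fun c => ?_, fun a => ?_⟩
  · show hullCounit B (Π y, Ω y) (sh ((1 : B) ⊗ₜ[A] c)) = _
    rw [← AlgHom.comp_apply, hsh]
    simp [g]
  · show sh ((1 : B) ⊗ₜ[A] (algebraMap A _ a)) = _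
    have : ((1 : B) ⊗ₜ[A] (algebraMap A (Hull A (Π y, Ω y)) a)) =
        algebraMap B (B ⊗[A] Hull A (Π y, Ω y)) (algebraMap A B a) := by
      rw [Algebra.TensorProduct.algebraMap_apply, Algebra.algebraMap_eq_smul_one (A := Hull A _),
        Algebra.algebraMap_eq_smul_one (A := B) a]
      exact (TensorProduct.smul_tmul a (1 : B) (1 : Hull A (Π y, Ω y))).symm
    rw [this, sh.commutes]

theorem hasEtaleRetractions_hull : ProEtW.HasEtaleRetractions (Hull A (Π y, Ω y)) := by
  intro E _ _ hff hEt
  exact hasIndEtaleRetractions_hull A Ω E hff (isIndEtale_of_fac (fac_of_etale _ E))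

open Classical in
theorem bijective_comparison (s : Hull A (Π y, Ω y) →+* Hull B (Π y, Ω y))
    (hs1 : ∀ c, hullCounit B (Π y, Ω y) (s c) = hullCounit A (Π y, Ω y) c)
    (hs2 : ∀ a, s (algebraMap A _ a) = algebraMap B _ (algebraMap A B a)) :
    Function.Bijective s := by
  -- weak étaleness of `s`
  have hWE : WE s := by
    letI algAD : Algebra A (Hull B (Π y, Ω y)) :=
      ((algebraMap B (Hull B (Π y, Ω y))).comp (algebraMap A B)).toAlgebra
    haveI : IsScalarTower A B (Hull B (Π y, Ω y)) := IsScalarTower.of_algebraMap_eq fun _ => rfl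
    haveI : Algebra.WeaklyEtale B (Hull B (Π y, Ω y)) :=
      Groth.Agent.Lead.IndEtale.weaklyEtale_of_isIndEtale (isIndEtale_hull B _)
    haveI : Algebra.WeaklyEtale A (Hull B (Π y, Ω y)) := Algebra.WeaklyEtale.trans A B _
    haveI : Algebra.WeaklyEtale A (Hull A (Π y, Ω y)) :=
      Groth.Agent.Lead.IndEtale.weaklyEtale_of_isIndEtale (isIndEtale_hull A _)
    rw [WE_iff]
    letI : Algebra (Hull A (Π y, Ω y)) (Hull B (Π y, Ω y)) := s.toAlgebra
    haveI : IsScalarTower A (Hull A (Π y, Ω y)) (Hull B (Π y, Ω y)) :=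
      IsScalarTower.of_algebraMap_eq fun a => (hs2 a).symm
    exact weaklyEtale_of_weaklyEtale A (Hull A (Π y, Ω y)) (Hull B (Π y, Ω y))
  have hret := hasEtaleRetractions_hull A Ω
  -- the prime of `D` attached to a maximal ideal of `C`
  have hprime : ∀ m : Ideal (Hull A (Π y, Ω y)), m.IsMaximal →
      ∃ (P : Ideal (Π y, Ω y)) (n : Ideal (Hull B (Π y, Ω y))), P.IsPrime ∧ n.IsPrime ∧
        n.comap s = m ∧ (∀ d, d ∈ n ↔ hullCounit B (Π y, Ω y) d ∈ P) ∧
        (∀ c, c ∈ m ↔ hullCounit A (Π y, Ω y) c ∈ P) := by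
    intro m hm
    obtain ⟨P, hP, hPm⟩ := exists_comap_eq_of_isMaximal A Ω m
    refine ⟨P, P.comap (hullCounit B (Π y, Ω y)).toRingHom, hP, Ideal.comap_isPrime _ _, ?_,
      fun d => Iff.rfl, fun c => ?_⟩
    · rw [← hPm]
      ext c
      show hullCounit B (Π y, Ω y) (s c) ∈ P ↔ hullCounit A (Π y, Ω y) c ∈ P
      rw [hs1]
    · rw [← hPm]
      rfl
  constructor
  · rw [injective_iff_map_eq_zero]
    intro c hc
    by_contra hc0
    have hne : (Ideal.span {c}).annihilator ≠ ⊤ := by
      intro h
      have h1 : (1 : Hull A (Π y, Ω y)) ∈ (Ideal.span {c}).annihilator := h ▸ Submodule.mem_top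
      rw [Submodule.mem_annihilator_span_singleton, one_smul] at h1
      exact hc0 h1
    obtain ⟨m, hm, hle⟩ := Ideal.exists_le_maximal _ hne
    obtain ⟨P, n, hP, hn, hnm, -, -⟩ := hprime m hm
    have hm' : (n.comap s).IsMaximal := hnm ▸ hm
    obtain ⟨u, hu, huc⟩ := local_inj s n (bijective_localRingHom_of_WE s hWE hret n hm').1 c hc
    apply hu
    rw [hnm]
    apply hle
    rw [Submodule.mem_annihilator_span_singleton]
    exact huc
  · intro d
    let 𝔞 : Ideal (Hull A (Π y, Ω y)) :=
      { carrier := {c | ∃ c', s c' = s c * d}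
        add_mem' := by
          rintro a b ⟨a', ha⟩ ⟨b', hb⟩
          exact ⟨a' + b', by rw [map_add, map_add, add_mul, ha, hb]⟩
        zero_mem' := ⟨0, by rw [map_zero, zero_mul]⟩
        smul_mem' := by
          rintro r a ⟨a', ha⟩
          exact ⟨r * a', by rw [smul_eq_mul, map_mul, map_mul, mul_assoc, ha]⟩ }
    by_cases h𝔞 : 𝔞 = ⊤
    · have h1 : (1 : Hull A (Π y, Ω y)) ∈ 𝔞 := h𝔞 ▸ Submodule.mem_top
      obtain ⟨c', hc'⟩ := h1
      exact ⟨c', by rw [hc', map_one, one_mul]⟩
    · exfalso
      obtain ⟨m, hm, hle⟩ := Ideal.exists_le_maximal _ h𝔞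
      obtain ⟨P, n, hP, hn, hnm, hnP, hmP⟩ := hprime m hm
      have hm' : (n.comap s).IsMaximal := hnm ▸ hm
      obtain ⟨c, u, v, hu, hv, hz⟩ :=
        local_surj s n (bijective_localRingHom_of_WE s hWE hret n hm').2 d
      rw [hnm] at hu
      obtain ⟨cS, hcSi, hcS, -⟩ := exists_glue A Ω {y | hullCounit B (Π y, Ω y) v y ≠ 0} 0 0
      have hdSi : IsIdempotentElem (s cS) := hcSi.map s
      have hunit : IsUnit (v + (1 - s cS)) := by
        apply isUnit_of_isUnit_counit
        rw [Pi.isUnit_iff]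
        intro y
        apply Ne.isUnit
        rw [map_add, map_sub, map_one, hs1]
        show hullCounit B (Π y, Ω y) v y + (1 - hullCounit A (Π y, Ω y) cS y) ≠ 0
        rw [hcS y]
        by_cases hy : hullCounit B (Π y, Ω y) v y ≠ 0
        · rw [if_pos (show y ∈ {y | hullCounit B (Π y, Ω y) v y ≠ 0} from hy), sub_self, add_zero]
          exact hy
        · rw [if_neg (show y ∉ {y | hullCounit B (Π y, Ω y) v y ≠ 0} from hy), sub_zero]
          rw [not_not] at hy
          rw [hy, zero_add]
          exact one_ne_zero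
      obtain ⟨w, hw⟩ := hunit.exists_left_inv
      have hdS : s cS * (s u * d - s c) = 0 := by
        have e1 : s cS * (s u * d - s c) =
            w * ((s cS * v + (s cS - s cS * s cS)) * (s u * d - s c)) := by
          have : (s cS * v + (s cS - s cS * s cS)) = s cS * (v + (1 - s cS)) := by ring
          rw [this]
          calc s cS * (s u * d - s c) = (w * (v + (1 - s cS))) * (s cS * (s u * d - s c)) := by
                rw [hw, one_mul]
            _ = _ := by ring
        rw [e1, hdSi.eq, sub_self, add_zero, mul_assoc, hz, mul_zero, mul_zero]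
      have hmem : cS * u ∈ 𝔞 := by
        refine ⟨cS * c, ?_⟩
        rw [map_mul, map_mul, mul_assoc]
        have : s cS * (s u * d) - s cS * s c = 0 := by rw [← mul_sub]; exact hdS
        exact (sub_eq_zero.mp this).symm
      have hm2 : cS * u ∈ m := hle hmem
      rcases hm.isPrime.mem_or_mem hm2 with h1 | h1
      · apply hv
        rw [hnP]
        rw [hmP] at h1
        have : hullCounit B (Π y, Ω y) v =
            hullCounit B (Π y, Ω y) v * hullCounit A (Π y, Ω y) cS := by
          funext y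
          show _ = hullCounit B (Π y, Ω y) v y * hullCounit A (Π y, Ω y) cS y
          rw [hcS y]
          by_cases hy : hullCounit B (Π y, Ω y) v y ≠ 0
          · rw [if_pos (show y ∈ {y | hullCounit B (Π y, Ω y) v y ≠ 0} from hy), mul_one]
          · rw [if_neg (show y ∉ {y | hullCounit B (Π y, Ω y) v y ≠ 0} from hy), mul_zero]
            rw [not_not] at hy
            exact hy
        rw [this]
        exact P.mul_mem_left _ h1
      · exact hu h1

end Comparison

end Groth.Agent.Helper2.IndEtLift
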