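import Mathlib
import Groth.Prelude
import Groth.Agent.Helper2.IndEtLiftG

set_option autoImplicit false
universe u
open CategoryTheory CategoryTheory.Limits TensorProduct

namespace Groth.Agent.Helper2.IndEtLift

open Groth.Agent.Helper2.IndEtCrit Groth.Agent.Helper3.WEtale

/-- the hull of the product of the algebraic closures of all residue fields is faithfully flat -/
theorem faithfullyFlat_hull_AC (A : Type u) [CommRing A] :
    Module.FaithfullyFlat A (Hull A (Π x, AC A x)) := by
  haveI : Algebra.WeaklyEtale A (Hull A (Π x, AC A x)) :=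
    Groth.Agent.Lead.IndEtale.weaklyEtale_of_isIndEtale (isIndEtale_hull A _)
  haveI : Module.Flat A (Hull A (Π x, AC A x)) := inferInstance
  apply Module.FaithfullyFlat.of_comap_surjective
  intro x
  let ψ : Hull A (Π x, AC A x) →ₐ[A] AC A x :=
    (Pi.evalAlgHom A (AC A) x).comp (hullCounit A (Π x, AC A x))
  refine ⟨⟨RingHom.ker ψ.toRingHom, RingHom.ker_isPrime _⟩, ?_⟩
  apply PrimeSpectrum.ext
  ext a
  show ψ (algebraMap A _ a) = 0 ↔ a ∈ x.asIdeal
  rw [ψ.commutes, algebraMap_AC_eq_zero]

theorem s0176 (A B : Type u) [CommRing A] [CommRing B] [Algebra A B]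
    [Algebra.WeaklyEtale A B] :
    ∃ (B' : Type u) (_ : CommRing B') (_ : Algebra B B') (_ : Algebra A B') (_ : IsScalarTower A B B'),
      Module.FaithfullyFlat B B' ∧ EtPBC.IsIndEtale B B' ∧ EtPBC.IsIndEtale A B' := by
  letI algAD : Algebra A (Hull B (Π y, AC B y)) :=
    ((algebraMap B (Hull B (Π y, AC B y))).comp (algebraMap A B)).toAlgebra
  haveI tow : IsScalarTower A B (Hull B (Π y, AC B y)) := IsScalarTower.of_algebraMap_eq fun _ => rfl
  refine ⟨Hull B (Π y, AC B y), inferInstance, inferInstance, algAD, tow,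
    faithfullyFlat_hull_AC B, isIndEtale_hull B _, ?_⟩
  obtain ⟨s, hs1, hs2⟩ := exists_comparison A B (AC B)
  have hbij := bijective_comparison A B (AC B) s hs1 hs2
  let sA : Hull A (Π y, AC B y) →ₐ[A] Hull B (Π y, AC B y) :=
    { s with commutes' := hs2 }
  let e : Hull A (Π y, AC B y) ≃ₐ[A] Hull B (Π y, AC B y) := AlgEquiv.ofBijective sA hbij
  exact isIndEtale_of_fac (fac_of_algEquiv e (fac_of_isIndEtale (isIndEtale_hull A _)))

theorem isWContractible_of_hasIndEtaleRetractions (A : Type u) [CommRing A]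
    (h : ProEtW.HasIndEtaleRetractions A) : EtPBC.IsWContractible A := by
  intro E _ _ hff hwe
  obtain ⟨E', _, _, _, _, hff', -, hind⟩ := s0176 A E
  haveI : Module.FaithfullyFlat A E' := Module.FaithfullyFlat.trans A E E'
  obtain ⟨r⟩ := h E' inferInstance hind
  exact ⟨r.comp (IsScalarTower.toAlgHom A E E')⟩

theorem s0778 (A : Type u) [CommRing A] :
    EtPBC.IsWContractible A ↔ ProEtW.HasIndEtaleRetractions A := by
  refine ⟨fun h E _ _ hff hind => ?_, isWContractible_of_hasIndEtaleRetractions A⟩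
  exact h E hff (Groth.Agent.Lead.IndEtale.weaklyEtale_of_isIndEtale hind)

theorem s0177 (A : Type u) [CommRing A] :
    ∃ (D : Type u) (_ : CommRing D) (_ : Algebra A D),
      Module.FaithfullyFlat A D ∧ EtPBC.IsIndEtale A D ∧ EtPBC.IsWContractible D :=
  ⟨Hull A (Π x, AC A x), inferInstance, inferInstance, faithfullyFlat_hull_AC A,
    isIndEtale_hull A _,
    isWContractible_of_hasIndEtaleRetractions _ (hasIndEtaleRetractions_hull A (AC A))⟩

end Groth.Agent.Helper2.IndEtLift
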