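import Mathlib
import Groth.Prelude
import Groth.Agent.Helper2.IndEtLiftH

set_option autoImplicit false
universe u
open CategoryTheory CategoryTheory.Limits TensorProduct

namespace Groth.Agent.Helper2.IndEtLift

open Groth.Agent.Helper2.IndEtCrit

section Fields

variable (A : Type u) [CommRing A] {Y : Type u} (Ω : Y → Type u) [∀ y, Field (Ω y)]
  [Algebra A (Π y, Ω y)]

open Classical in
/-- the contraction to the hull of a prime of a product of fields is a maximal ideal -/
theorem isMaximal_comap_counit (P : Ideal (Π y, Ω y)) [hP : P.IsPrime] :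
    (P.comap (hullCounit A (Π y, Ω y)).toRingHom).IsMaximal := by
  rw [Ideal.isMaximal_iff]
  refine ⟨fun h => hP.ne_top ((Ideal.eq_top_iff_one _).mpr (by
    have : hullCounit A (Π y, Ω y) 1 ∈ P := h
    rwa [map_one] at this)), ?_⟩
  intro J c hIJ hc hcJ
  have hc' : hullCounit A (Π y, Ω y) c ∉ P := hc
  obtain ⟨cS, hcSi, hcS, -⟩ := exists_glue A Ω {y | hullCounit A (Π y, Ω y) c y ≠ 0} 0 0
  have hunit : IsUnit (c * cS + (1 - cS)) := by
    apply isUnit_of_isUnit_counit
    rw [Pi.isUnit_iff]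
    intro y
    apply Ne.isUnit
    rw [map_add, map_mul, map_sub, map_one]
    show hullCounit A (Π y, Ω y) c y * hullCounit A (Π y, Ω y) cS y +
      (1 - hullCounit A (Π y, Ω y) cS y) ≠ 0
    rw [hcS y]
    by_cases hy : hullCounit A (Π y, Ω y) c y ≠ 0
    · rw [if_pos (show y ∈ {y | hullCounit A (Π y, Ω y) c y ≠ 0} from hy), mul_one, sub_self,
        add_zero]
      exact hy
    · rw [if_neg (show y ∉ {y | hullCounit A (Π y, Ω y) c y ≠ 0} from hy), mul_zero, sub_zero,
        zero_add]
      exact one_ne_zero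
  obtain ⟨w, hw⟩ := hunit.exists_left_inv
  have h1 : cS = w * (c * cS) := by
    have e1 : cS * (c * cS + (1 - cS)) = c * (cS * cS) + (cS - cS * cS) := by ring
    calc cS = (w * (c * cS + (1 - cS))) * cS := by rw [hw, one_mul]
      _ = w * (cS * (c * cS + (1 - cS))) := by ring
      _ = w * (c * cS) := by rw [e1, hcSi.eq, sub_self, add_zero]
  have h2 : cS ∈ J := by
    rw [h1]
    exact J.mul_mem_left _ (J.mul_mem_right _ hcJ)
  have h3 : 1 - cS ∈ P.comap (hullCounit A (Π y, Ω y)).toRingHom := by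
    show hullCounit A (Π y, Ω y) (1 - cS) ∈ P
    have h4 : hullCounit A (Π y, Ω y) (1 - cS) * hullCounit A (Π y, Ω y) c = 0 := by
      funext y
      rw [map_sub, map_one]
      show (1 - hullCounit A (Π y, Ω y) cS y) * hullCounit A (Π y, Ω y) c y = 0
      rw [hcS y]
      by_cases hy : hullCounit A (Π y, Ω y) c y ≠ 0
      · rw [if_pos (show y ∈ {y | hullCounit A (Π y, Ω y) c y ≠ 0} from hy), sub_self, zero_mul]
      · rw [not_not] at hy
        rw [hy, mul_zero]
    have h5 : hullCounit A (Π y, Ω y) (1 - cS) * hullCounit A (Π y, Ω y) c ∈ P := by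
      rw [h4]; exact P.zero_mem
    exact (hP.mem_or_mem h5).resolve_right hc'
  have : (1 : Hull A (Π y, Ω y)) = cS + (1 - cS) := by ring
  rw [this]
  exact J.add_mem h2 (hIJ h3)

/-- the closed points of the spectrum of the hull are the contractions of primes of `T` -/
theorem closedPoints_hull :
    ProEtW.closedPoints (PrimeSpectrum (Hull A (Π y, Ω y))) =
      Set.range (PrimeSpectrum.comap (hullCounit A (Π y, Ω y)).toRingHom) := by
  ext x
  show IsClosed ({x} : Set _) ↔ _
  rw [PrimeSpectrum.isClosed_singleton_iff_isMaximal]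
  constructor
  · intro hx
    obtain ⟨P, hP, hPx⟩ := exists_comap_eq_of_isMaximal A Ω x.asIdeal
    exact ⟨⟨P, hP⟩, PrimeSpectrum.ext hPx⟩
  · rintro ⟨P, rfl⟩
    exact isMaximal_comap_counit A Ω P.asIdeal

open Classical in
theorem isWLocal_hull : ProEtW.IsWLocal (PrimeSpectrum (Hull A (Π y, Ω y))) := by
  refine ⟨inferInstance, ?_, ?_⟩
  · have h := closedPoints_hull A Ω
    unfold ProEtW.closedPoints at h
    rw [h]
    apply PrimeSpectrum.isClosed_range_of_stableUnderSpecialization
    rintro x x' hxx' ⟨P, rfl⟩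
    have hmax := isMaximal_comap_counit A Ω P.asIdeal
    have hle : (PrimeSpectrum.comap (hullCounit A (Π y, Ω y)).toRingHom P).asIdeal ≤ x'.asIdeal :=
      (PrimeSpectrum.le_iff_specializes _ _).mpr hxx'
    have heq := hmax.eq_of_le x'.2.ne_top hle
    exact ⟨P, PrimeSpectrum.ext heq⟩
  · intro x
    obtain ⟨m, hm, hle⟩ := Ideal.exists_le_maximal x.asIdeal x.2.ne_top
    refine ⟨⟨m, hm.isPrime⟩, ⟨(PrimeSpectrum.isClosed_singleton_iff_isMaximal _).mpr hm,
      (PrimeSpectrum.le_iff_specializes x ⟨m, hm.isPrime⟩).mp hle⟩, ?_⟩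
    rintro y ⟨hy, hxy⟩
    rw [PrimeSpectrum.isClosed_singleton_iff_isMaximal] at hy
    have hle' : x.asIdeal ≤ y.asIdeal := (PrimeSpectrum.le_iff_specializes x y).mpr hxy
    by_contra hne
    have hne' : y.asIdeal ≠ m := fun h => hne (PrimeSpectrum.ext h)
    obtain ⟨P₁, hP₁, hPm⟩ := exists_comap_eq_of_isMaximal A Ω m
    obtain ⟨P₂, hP₂, hPy⟩ := exists_comap_eq_of_isMaximal A Ω y.asIdeal
    have hnle : ¬ P₁ ≤ P₂ := by
      intro h
      have h1 : m ≤ y.asIdeal := by
        rw [← hPm, ← hPy]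
        exact Ideal.comap_mono h
      exact hne' (hm.eq_of_le hy.ne_top h1).symm
    obtain ⟨f, hf1, hf2⟩ := Set.not_subset.mp hnle
    obtain ⟨cS, hcSi, hcS, -⟩ := exists_glue A Ω {y | f y ≠ 0} 0 0
    have ht1 : hullCounit A (Π y, Ω y) cS ∈ P₁ := by
      have : hullCounit A (Π y, Ω y) cS = f * (fun y => (f y)⁻¹) := by
        funext y
        show _ = f y * (f y)⁻¹
        rw [hcS y]
        by_cases hy : f y ≠ 0
        · rw [if_pos (show y ∈ {y | f y ≠ 0} from hy), mul_inv_cancel₀ hy]
        · rw [if_neg (show y ∉ {y | f y ≠ 0} from hy)]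
          rw [not_not] at hy
          rw [hy, zero_mul]
      rw [this]
      exact P₁.mul_mem_right _ hf1
    have ht2 : hullCounit A (Π y, Ω y) (1 - cS) ∈ P₂ := by
      have h4 : hullCounit A (Π y, Ω y) (1 - cS) * f = 0 := by
        funext y
        rw [map_sub, map_one]
        show (1 - hullCounit A (Π y, Ω y) cS y) * f y = 0
        rw [hcS y]
        by_cases hy : f y ≠ 0
        · rw [if_pos (show y ∈ {y | f y ≠ 0} from hy), sub_self, zero_mul]
        · rw [not_not] at hy
          rw [hy, mul_zero]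
      have h5 : hullCounit A (Π y, Ω y) (1 - cS) * f ∈ P₂ := by
        rw [h4]; exact P₂.zero_mem
      exact (hP₂.mem_or_mem h5).resolve_right hf2
    have hm1 : cS ∈ m := by rw [← hPm]; exact ht1
    have hm2 : 1 - cS ∈ y.asIdeal := by rw [← hPy]; exact ht2
    have h0 : cS * (1 - cS) ∈ x.asIdeal := by
      have : cS * (1 - cS) = cS - cS * cS := by ring
      rw [this, hcSi.eq, sub_self]
      exact x.asIdeal.zero_mem
    rcases x.2.mem_or_mem h0 with h | h
    · apply hy.ne_top
      rw [Ideal.eq_top_iff_one]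
      have := y.asIdeal.add_mem (hle' h) hm2
      rwa [add_sub_cancel] at this
    · apply hm.ne_top
      rw [Ideal.eq_top_iff_one]
      have := m.add_mem hm1 (hle h)
      rwa [add_sub_cancel] at this

end Fields

end Groth.Agent.Helper2.IndEtLift
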