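import Mathlib
import Groth.Prelude
import Groth.Agent.Helper2.HullWLocA

set_option autoImplicit false
universe u
open CategoryTheory CategoryTheory.Limits TensorProduct

namespace Groth.Agent.Helper2.IndEtLift

open Groth.Agent.Helper2.IndEtCrit

/-- maps from ind-étale `A`-algebras to a `B`-algebra `T` lift to the `B`-hull -/
theorem exists_hull_map (A B : Type u) [CommRing A] [CommRing B] [Algebra A B]
    (X : Type u) [CommRing X] [Algebra A X] (hX : EtPBC.IsIndEtale A X)
    (T : Type u) [CommRing T] [Algebra B T] [Algebra A T] [IsScalarTower A B T]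
    (θ : X →ₐ[A] T) :
    ∃ s : X →+* Hull B T, (∀ x, hullCounit B T (s x) = θ x) ∧
      ∀ a, s (algebraMap A X a) = algebraMap B _ (algebraMap A B a) := by
  have hC : EtPBC.IsIndEtale B (B ⊗[A] X) := Groth.Agent.S0733.result A X B hX
  let g : B ⊗[A] X →ₐ[B] T :=
    Algebra.TensorProduct.lift (Algebra.ofId B _) θ (fun _ _ => mul_comm _ _)
  let sh : B ⊗[A] X →ₐ[B] Hull B T := hullLift (fac_of_isIndEtale hC) g
  have hsh : (hullCounit B T).comp sh = g := hullCounit_hullLift _ _
  refine ⟨sh.toRingHom.comp (Algebra.TensorProduct.includeRight :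
    X →ₐ[A] B ⊗[A] X).toRingHom, fun c => ?_, fun a => ?_⟩
  · show hullCounit B T (sh ((1 : B) ⊗ₜ[A] c)) = _
    rw [← AlgHom.comp_apply, hsh]
    simp [g]
  · show sh ((1 : B) ⊗ₜ[A] (algebraMap A _ a)) = _
    have : ((1 : B) ⊗ₜ[A] (algebraMap A X a)) =
        algebraMap B (B ⊗[A] X) (algebraMap A B a) := by
      rw [Algebra.TensorProduct.algebraMap_apply, Algebra.algebraMap_eq_smul_one (A := X),
        Algebra.algebraMap_eq_smul_one (A := B) a]
      exact (TensorProduct.smul_tmul a (1 : B) (1 : X)).symm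
    rw [this, sh.commutes]

theorem isSpectralMap_comap {R S : Type*} [CommRing R] [CommRing S] (f : R →+* S) :
    IsSpectralMap (PrimeSpectrum.comap f) := by
  refine ⟨PrimeSpectrum.continuous_comap f, fun U hU hUc => ?_⟩
  obtain ⟨t, rfl⟩ := PrimeSpectrum.isCompact_isOpen_iff.mp ⟨hUc, hU⟩
  classical
  have : PrimeSpectrum.comap f ⁻¹' (PrimeSpectrum.zeroLocus (t : Set R))ᶜ =
      (PrimeSpectrum.zeroLocus ((t.image f : Finset S) : Set S))ᶜ := by
    rw [Set.preimage_compl, PrimeSpectrum.preimage_comap_zeroLocus, Finset.coe_image]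
  rw [this]
  exact (PrimeSpectrum.isCompact_isOpen_iff.mpr ⟨t.image f, rfl⟩).1

/-- incomparability from algebraicity -/
theorem exists_mem_of_isAlgebraic {R S : Type*} [CommRing R] [CommRing S] [Algebra R S]
    (q n : Ideal S) [q.IsPrime] (hqn : q ≤ n)
    (halg : Algebra.IsAlgebraic (R ⧸ q.comap (algebraMap R S)) (S ⧸ q))
    (x : S) (hxn : x ∈ n) (hxq : x ∉ q) :
    ∃ r : R, algebraMap R S r ∈ n ∧ algebraMap R S r ∉ q := by
  have hx0 : Ideal.Quotient.mk q x ≠ 0 := fun h => hxq (Ideal.Quotient.eq_zero_iff_mem.mp h)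
  have hxm : Ideal.Quotient.mk q x ∈ n.map (Ideal.Quotient.mk q) := Ideal.mem_map_of_mem _ hxn
  have h1 := Ideal.comap_ne_bot_of_algebraic_mem (R := R ⧸ q.comap (algebraMap R S)) hx0 hxm
    (halg.isAlgebraic _)
  obtain ⟨rb, hrb, hrb0⟩ := Submodule.exists_mem_ne_zero_of_ne_bot h1
  obtain ⟨r, rfl⟩ := Ideal.Quotient.mk_surjective rb
  refine ⟨r, ?_, ?_⟩
  · have h2 : Ideal.Quotient.mk q (algebraMap R S r) ∈ n.map (Ideal.Quotient.mk q) := hrb
    rw [Ideal.mem_map_iff_of_surjective _ Ideal.Quotient.mk_surjective] at h2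
    obtain ⟨z, hz, hze⟩ := h2
    have h3 : z - algebraMap R S r ∈ q := by
      rw [← Ideal.Quotient.eq]
      exact hze
    have : algebraMap R S r = z - (z - algebraMap R S r) := by ring
    rw [this]
    exact n.sub_mem hz (hqn h3)
  · intro h
    apply hrb0
    exact Ideal.Quotient.eq_zero_iff_mem.mpr h

/-- ind-étale maps induce algebraic extensions of residue domains -/
theorem isAlgebraic_quotient_of_isIndEtale (B D : Type u) [CommRing B] [CommRing D] [Algebra B D]
    (h : EtPBC.IsIndEtale B D) (q : Ideal D) [q.IsPrime] :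
    Algebra.IsAlgebraic (B ⧸ q.comap (algebraMap B D)) (D ⧸ q) := by
  haveI : (q.comap (algebraMap B D)).IsPrime := Ideal.comap_isPrime _ _
  have hinj : Function.Injective (algebraMap (B ⧸ q.comap (algebraMap B D)) (D ⧸ q)) := by
    rw [injective_iff_map_eq_zero]
    intro x hx
    obtain ⟨b, rfl⟩ := Ideal.Quotient.mk_surjective x
    have h1 : Ideal.Quotient.mk q (algebraMap B D b) = 0 := hx
    rw [Ideal.Quotient.eq_zero_iff_mem] at h1 ⊢
    exact h1
  let ι : (B ⧸ q.comap (algebraMap B D)) →+* q.ResidueField :=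
    (algebraMap (D ⧸ q) q.ResidueField).comp
      (algebraMap (B ⧸ q.comap (algebraMap B D)) (D ⧸ q))
  have hι : Function.Injective ι := (IsFractionRing.injective (D ⧸ q) _).comp hinj
  let κ : (q.comap (algebraMap B D)).ResidueField →+* q.ResidueField :=
    IsFractionRing.lift hι
  letI : Algebra (q.comap (algebraMap B D)).ResidueField q.ResidueField := κ.toAlgebra
  letI algBpL : Algebra (B ⧸ q.comap (algebraMap B D)) q.ResidueField := ι.toAlgebra
  haveI : IsScalarTower (B ⧸ q.comap (algebraMap B D)) (q.comap (algebraMap B D)).ResidueField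
      q.ResidueField :=
    IsScalarTower.of_algebraMap_eq (fun x => (IsFractionRing.lift_algebraMap hι x).symm)
  haveI : IsScalarTower (B ⧸ q.comap (algebraMap B D)) (D ⧸ q) q.ResidueField :=
    IsScalarTower.of_algebraMap_eq (fun x => rfl)
  haveI : IsScalarTower B (q.comap (algebraMap B D)).ResidueField q.ResidueField :=
    IsScalarTower.of_algebraMap_eq (fun b => by
      show algebraMap B q.ResidueField b = κ (algebraMap B _ b)
      rw [IsScalarTower.algebraMap_apply B (B ⧸ q.comap (algebraMap B D))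
        (q.comap (algebraMap B D)).ResidueField, IsFractionRing.lift_algebraMap hι]
      show _ = algebraMap (D ⧸ q) q.ResidueField (Ideal.Quotient.mk q (algebraMap B D b))
      rw [IsScalarTower.algebraMap_apply B D q.ResidueField,
        IsScalarTower.algebraMap_apply D (D ⧸ q) q.ResidueField]
      rfl)
  have hF : EtPBC.IsIndEtale (q.comap (algebraMap B D)).ResidueField
      ((q.comap (algebraMap B D)).ResidueField ⊗[B] D) :=
    Groth.Agent.S0733.result B D (q.comap (algebraMap B D)).ResidueField h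
  haveI := isIntegral_of_isIndEtale_field _ _ hF
  let ψ : (q.comap (algebraMap B D)).ResidueField ⊗[B] D →ₐ[(q.comap (algebraMap B D)).ResidueField]
      q.ResidueField :=
    Algebra.TensorProduct.lift (Algebra.ofId _ _) (IsScalarTower.toAlgHom B D _)
      (fun _ _ => mul_comm _ _)
  refine ⟨fun xb => ?_⟩
  obtain ⟨x, rfl⟩ := Ideal.Quotient.mk_surjective xb
  have h1 : IsIntegral (q.comap (algebraMap B D)).ResidueField
      (ψ ((1 : (q.comap (algebraMap B D)).ResidueField) ⊗ₜ[B] x)) :=
    (Algebra.IsIntegral.isIntegral (R := (q.comap (algebraMap B D)).ResidueField)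
      ((1 : (q.comap (algebraMap B D)).ResidueField) ⊗ₜ[B] x)).map ψ
  have h2 : ψ ((1 : (q.comap (algebraMap B D)).ResidueField) ⊗ₜ[B] x) =
      algebraMap (D ⧸ q) q.ResidueField (Ideal.Quotient.mk q x) := by
    simp only [ψ, Algebra.TensorProduct.lift_tmul, map_one, one_mul]
    show algebraMap D q.ResidueField x = _
    rw [IsScalarTower.algebraMap_apply D (D ⧸ q) q.ResidueField]
    rfl
  rw [h2] at h1
  have h3 : IsAlgebraic (B ⧸ q.comap (algebraMap B D))
      (algebraMap (D ⧸ q) q.ResidueField (Ideal.Quotient.mk q x)) :=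
    (IsFractionRing.isAlgebraic_iff (B ⧸ q.comap (algebraMap B D))
      (q.comap (algebraMap B D)).ResidueField q.ResidueField).mpr h1.isAlgebraic
  exact (isAlgebraic_algHom_iff (IsScalarTower.toAlgHom (B ⧸ q.comap (algebraMap B D)) (D ⧸ q)
    q.ResidueField) (IsFractionRing.injective _ _)).mp h3

end Groth.Agent.Helper2.IndEtLift
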