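import Mathlib
import Groth.Prelude
import Groth.Agent.Helper2.IndEtCritA

set_option autoImplicit false
universe u
open CategoryTheory CategoryTheory.Limits

namespace Groth.Agent.Helper2.ILRCrit

open Groth.Agent.Helper2.IndEtCrit

section Crit

variable {A S : Type u} [CommRing A] [CommRing S]

/-- elementwise criterion for bijectivity of the map of local rings -/
theorem bijective_localRingHom_iff (f : A →+* S) (q : Ideal S) [q.IsPrime] :
    Function.Bijective (Localization.localRingHom (q.comap f) q f rfl) ↔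
      (∀ a : A, (∃ t : S, t ∉ q ∧ t * f a = 0) → ∃ s : A, f s ∉ q ∧ s * a = 0) ∧
      (∀ s : S, ∃ c₁ c₂ : A, f c₂ ∉ q ∧ ∃ u : S, u ∉ q ∧ u * (f c₁ - s * f c₂) = 0) := by
  constructor
  · rintro ⟨hinj, hsurj⟩
    refine ⟨?_, ?_⟩
    · rintro a ⟨t, ht, hta⟩
      have h0 : Localization.localRingHom (q.comap f) q f rfl
          (algebraMap A (Localization.AtPrime (q.comap f)) a) = 0 := by
        rw [Localization.localRingHom_to_map]
        rw [IsLocalization.map_eq_zero_iff q.primeCompl]
        exact ⟨⟨t, ht⟩, hta⟩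
      have h1 : algebraMap A (Localization.AtPrime (q.comap f)) a = 0 :=
        hinj (by rw [h0, map_zero])
      rw [IsLocalization.map_eq_zero_iff (q.comap f).primeCompl] at h1
      obtain ⟨m, hm⟩ := h1
      exact ⟨m.1, m.2, hm⟩
    · intro s
      obtain ⟨x, hx⟩ := hsurj (algebraMap S (Localization.AtPrime q) s)
      obtain ⟨c₁, c₂, rfl⟩ := IsLocalization.exists_mk'_eq (q.comap f).primeCompl x
      rw [Localization.localRingHom_mk', IsLocalization.mk'_eq_iff_eq_mul] at hx
      rw [← map_mul, IsLocalization.eq_iff_exists q.primeCompl] at hx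
      obtain ⟨c, hc⟩ := hx
      refine ⟨c₁, c₂.1, c₂.2, c.1, c.2, ?_⟩
      rw [mul_sub, hc, sub_self]
  · rintro ⟨h1, h2⟩
    constructor
    · rw [injective_iff_map_eq_zero]
      intro x hx
      obtain ⟨a, s, rfl⟩ := IsLocalization.exists_mk'_eq (q.comap f).primeCompl x
      rw [Localization.localRingHom_mk', IsLocalization.mk'_eq_zero_iff] at hx
      obtain ⟨m, hm⟩ := hx
      obtain ⟨s', hs', hs'a⟩ := h1 a ⟨m.1, m.2, hm⟩
      rw [IsLocalization.mk'_eq_zero_iff]
      exact ⟨⟨s', hs'⟩, hs'a⟩
    · intro y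
      obtain ⟨s, t, rfl⟩ := IsLocalization.exists_mk'_eq q.primeCompl y
      obtain ⟨c₁, c₂, hc₂, u, hu, huc⟩ := h2 s
      obtain ⟨d₁, d₂, hd₂, v, hv, hvd⟩ := h2 t.1
      have hd₁ : f d₁ ∉ q := by
        intro hmem
        have h3 : v * (t.1 * f d₂) ∈ q := by
          have : v * (t.1 * f d₂) = v * f d₁ := by
            have := hvd
            rw [mul_sub, sub_eq_zero] at this
            exact this.symm
          rw [this]
          exact q.mul_mem_left _ hmem
        rcases (Ideal.IsPrime.mem_or_mem inferInstance h3) with h | h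
        · exact hv h
        · rcases (Ideal.IsPrime.mem_or_mem inferInstance h) with h | h
          · exact t.2 h
          · exact hd₂ h
      have hmem : c₂ * d₁ ∈ (q.comap f).primeCompl := by
        show ¬ (f (c₂ * d₁) ∈ q)
        rw [map_mul]
        intro h
        rcases (Ideal.IsPrime.mem_or_mem inferInstance h) with h | h
        · exact hc₂ h
        · exact hd₁ h
      refine ⟨IsLocalization.mk' _ (c₁ * d₂) ⟨c₂ * d₁, hmem⟩, ?_⟩
      rw [Localization.localRingHom_mk', IsLocalization.mk'_eq_iff_eq,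
        IsLocalization.eq_iff_exists q.primeCompl]
      refine ⟨⟨u * v, q.primeCompl.mul_mem hu hv⟩, ?_⟩
      have e1 : u * f c₁ = u * (s * f c₂) := by
        have := huc
        rw [mul_sub, sub_eq_zero] at this
        exact this
      have e2 : v * f d₁ = v * (t.1 * f d₂) := by
        have := hvd
        rw [mul_sub, sub_eq_zero] at this
        exact this
      show u * v * (t.1 * f (c₁ * d₂)) = u * v * (f (c₂ * d₁) * s)
      rw [map_mul, map_mul]
      calc u * v * (t.1 * (f c₁ * f d₂)) = (u * f c₁) * (v * (t.1 * f d₂)) := by ring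
        _ = (u * (s * f c₂)) * (v * f d₁) := by rw [e1, e2]
        _ = u * v * (f c₂ * f d₁ * s) := by ring

end Crit

section Comp

variable {A B C : Type u} [CommRing A] [CommRing B] [CommRing C] [Algebra A B] [Algebra B C]
  [Algebra A C] [IsScalarTower A B C]

/-- composition of maps identifying local rings -/
theorem comp (h1 : EtPBC.IdentifiesLocalRings A B) (h2 : EtPBC.IdentifiesLocalRings B C) :
    EtPBC.IdentifiesLocalRings A C := by
  intro q
  have key : ∀ (f : A →+* C) (hf : f = (algebraMap B C).comp (algebraMap A B)),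
      Function.Bijective (Localization.localRingHom (q.asIdeal.comap f) q.asIdeal f rfl) := by
    intro f hf
    subst hf
    have h := Localization.localRingHom_comp (I := (q.asIdeal.comap (algebraMap B C)).comap
      (algebraMap A B)) (q.asIdeal.comap (algebraMap B C)) q.asIdeal (algebraMap A B) rfl
      (algebraMap B C) rfl
    have h' : Localization.localRingHom (q.asIdeal.comap ((algebraMap B C).comp (algebraMap A B)))
        q.asIdeal ((algebraMap B C).comp (algebraMap A B)) rfl =
        (Localization.localRingHom (q.asIdeal.comap (algebraMap B C)) q.asIdeal (algebraMap B C)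
          rfl).comp (Localization.localRingHom ((q.asIdeal.comap (algebraMap B C)).comap
            (algebraMap A B)) (q.asIdeal.comap (algebraMap B C)) (algebraMap A B) rfl) := h
    rw [h']
    have hb := Function.Bijective.comp (h2 q) (h1 ⟨q.asIdeal.comap (algebraMap B C), inferInstance⟩)
    exact hb
  exact key (algebraMap A C) (IsScalarTower.algebraMap_eq A B C)

end Comp

section LocalIso

variable {A S : Type u} [CommRing A] [CommRing S] [Algebra A S]

/-- local isomorphisms identify local rings -/
theorem of_isLocalIso [Algebra.IsLocalIso A S] : EtPBC.IdentifiesLocalRings A S := by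
  intro q
  rw [bijective_localRingHom_iff]
  obtain ⟨g, hg, hstd⟩ := Algebra.IsLocalIso.exists_notMem_isStandardOpenImmersion (R := A) q.asIdeal
  obtain ⟨a, ha⟩ := hstd.exists_away
  set L := Localization.Away g with hL
  have hdisj : Disjoint (Submonoid.powers g : Set S) (q.asIdeal : Set S) := by
    rw [Set.disjoint_left]
    rintro x ⟨n, rfl⟩ hx
    exact hg (q.2.mem_of_pow_mem n hx)
  set Q : Ideal L := Ideal.map (algebraMap S L) q.asIdeal with hQ
  haveI hQp : Q.IsPrime := IsLocalization.isPrime_of_isPrime_disjoint (Submonoid.powers g) L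
    q.asIdeal q.2 hdisj
  have hcomap : Q.comap (algebraMap S L) = q.asIdeal :=
    IsLocalization.under_map_of_isPrime_disjoint (Submonoid.powers g) L q.2 hdisj
  have hmemQ : ∀ x : S, algebraMap S L x ∈ Q ↔ x ∈ q.asIdeal := by
    intro x
    rw [← hcomap]
    rfl
  have hAL : ∀ x : A, algebraMap A L x = algebraMap S L (algebraMap A S x) := fun x =>
    IsScalarTower.algebraMap_apply A S L x
  have hunit : IsUnit (algebraMap A L a) := IsLocalization.Away.algebraMap_isUnit a
  have ha_not : algebraMap A S a ∉ q.asIdeal := by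
    intro h
    rw [← hmemQ, ← hAL] at h
    exact hQp.ne_top (Ideal.eq_top_of_isUnit_mem _ h hunit)
  have hapow : ∀ n : ℕ, algebraMap A S (a ^ n) ∉ q.asIdeal := by
    intro n h
    rw [map_pow] at h
    exact ha_not (q.2.mem_of_pow_mem n h)
  refine ⟨?_, ?_⟩
  · rintro a' ⟨t, ht, hta⟩
    obtain ⟨⟨c, m⟩, hcm⟩ := IsLocalization.surj (Submonoid.powers a) (algebraMap S L t)
    obtain ⟨n, hn⟩ := m.2
    have hn' : a ^ n = m.1 := hn
    have hcm' : algebraMap S L t * algebraMap A L (a ^ n) = algebraMap A L c := by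
      rw [hn']; exact hcm
    have h0 : algebraMap A L (c * a') = 0 := by
      rw [map_mul, ← hcm', hAL a', mul_right_comm, ← map_mul, hta, map_zero, zero_mul]
    rw [IsLocalization.map_eq_zero_iff (Submonoid.powers a)] at h0
    obtain ⟨m', hm'⟩ := h0
    obtain ⟨k, hk⟩ := m'.2
    have hk' : a ^ k = m'.1 := hk
    refine ⟨a ^ k * c, ?_, ?_⟩
    · rw [map_mul]
      intro h
      rcases q.2.mem_or_mem h with h | h
      · exact hapow k h
      · rw [← hmemQ, ← hAL, ← hcm'] at h
        rcases hQp.mem_or_mem h with h | h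
        · exact ht ((hmemQ t).mp h)
        · rw [hAL, hmemQ] at h
          exact hapow n h
    · rw [mul_assoc, hk']; exact hm'
  · intro s
    obtain ⟨⟨c, m⟩, hcm⟩ := IsLocalization.surj (Submonoid.powers a) (algebraMap S L s)
    obtain ⟨n, hn⟩ := m.2
    have hn' : a ^ n = m.1 := hn
    have hcm' : algebraMap S L s * algebraMap A L (a ^ n) = algebraMap A L c := by
      rw [hn']; exact hcm
    have h0 : algebraMap S L (algebraMap A S c - s * algebraMap A S (a ^ n)) = 0 := by
      rw [map_sub, map_mul, ← hAL, ← hAL, hcm', sub_self]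
    rw [IsLocalization.map_eq_zero_iff (Submonoid.powers g)] at h0
    obtain ⟨m', hm'⟩ := h0
    obtain ⟨k, hk⟩ := m'.2
    have hk' : g ^ k = m'.1 := hk
    refine ⟨c, a ^ n, hapow n, g ^ k, ?_, ?_⟩
    · intro h; exact hg (q.2.mem_of_pow_mem k h)
    · rw [hk']; exact hm'

end LocalIso

section IndZar

variable {A B : Type u} [CommRing A] [CommRing B] [Algebra A B]

/-- a filtered system of algebras identifying local rings identifies local rings in the colimit -/
theorem of_fsys (Sy : FSys A B) (h : ∀ j, EtPBC.IdentifiesLocalRings A (Sy.R j)) :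
    EtPBC.IdentifiesLocalRings A B := by
  intro q
  rw [bijective_localRingHom_iff]
  have hq : ∀ j, (q.asIdeal.comap (Sy.φ j).toRingHom).IsPrime := fun j => inferInstance
  have hcrit := fun j => (bijective_localRingHom_iff (algebraMap A (Sy.R j))
    (q.asIdeal.comap (Sy.φ j).toRingHom)).mp (h j ⟨q.asIdeal.comap (Sy.φ j).toRingHom, hq j⟩)
  refine ⟨?_, ?_⟩
  · rintro a ⟨t, ht, hta⟩
    obtain ⟨j, tj, rfl⟩ := Sy.hsurj t
    have h0 : Sy.φ j (tj * algebraMap A (Sy.R j) a) = Sy.φ j 0 := by
      rw [map_mul, AlgHom.commutes, hta, map_zero]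
    obtain ⟨k, f, hf⟩ := Sy.hinj j _ _ h0
    rw [map_mul, AlgHom.commutes, map_zero] at hf
    obtain ⟨s, hs, hsa⟩ := (hcrit k).1 a ⟨Sy.t f tj, by
      show ¬ (Sy.φ k (Sy.t f tj) ∈ q.asIdeal)
      rw [Sy.hφ]; exact ht, hf⟩
    refine ⟨s, ?_, hsa⟩
    intro hmem
    apply hs
    show Sy.φ k (algebraMap A (Sy.R k) s) ∈ q.asIdeal
    rw [AlgHom.commutes]; exact hmem
  · intro s
    obtain ⟨j, sj, rfl⟩ := Sy.hsurj s
    obtain ⟨c₁, c₂, hc₂, u, hu, huc⟩ := (hcrit j).2 sj
    refine ⟨c₁, c₂, ?_, Sy.φ j u, hu, ?_⟩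
    · intro hmem
      apply hc₂
      show Sy.φ j (algebraMap A (Sy.R j) c₂) ∈ q.asIdeal
      rw [AlgHom.commutes]; exact hmem
    · have := congrArg (Sy.φ j) huc
      rw [map_mul, map_sub, map_mul, AlgHom.commutes, AlgHom.commutes, map_zero] at this
      exact this

/-- ind-Zariski algebras identify local rings -/
theorem of_isIndZariski (h : EtPBC.IsIndZariski A B) : EtPBC.IdentifiesLocalRings A B := by
  obtain ⟨J, _, _, D, c, hc, hloc, ⟨e⟩⟩ := h
  let Sy := ofColimit D c hc e
  apply of_fsys Sy
  intro j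
  haveI : Algebra.IsLocalIso A (Sy.R j) := hloc j
  exact of_isLocalIso

end IndZar

end Groth.Agent.Helper2.ILRCrit
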