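import Mathlib
import Groth.Prelude
import Groth.Agent.Helper2.ILRCrit
import Groth.Agent.Helper2.HullZA
import Groth.Agent.Helper6.WLocalRing

set_option autoImplicit false
universe u
open CategoryTheory CategoryTheory.Limits TensorProduct

namespace Groth.Agent.Helper2.LiftZ

open Groth.Agent.Helper2 Groth.Agent.Helper6

/-- localizations identify local rings -/
theorem ilr_of_isLocalization {C S : Type u} [CommRing C] [CommRing S] [Algebra C S]
    (M : Submonoid C) [IsLocalization M S] : EtPBC.IdentifiesLocalRings C S := by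
  intro q
  rw [ILRCrit.bijective_localRingHom_iff]
  have hM : ∀ m ∈ M, algebraMap C S m ∉ q.asIdeal := fun m hm h =>
    q.2.ne_top (Ideal.eq_top_of_isUnit_mem _ h (IsLocalization.map_units S ⟨m, hm⟩))
  refine ⟨?_, ?_⟩
  · rintro a ⟨t, ht, hta⟩
    obtain ⟨⟨t', m⟩, htm⟩ := IsLocalization.surj M t
    have htm' : t * algebraMap C S m = algebraMap C S t' := htm
    have h0 : algebraMap C S (t' * a) = 0 := by
      rw [map_mul, ← htm', mul_right_comm, hta, zero_mul]
    rw [IsLocalization.map_eq_zero_iff M] at h0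
    obtain ⟨m', hm'⟩ := h0
    refine ⟨m' * t', ?_, by rw [mul_assoc]; exact hm'⟩
    rw [map_mul]
    intro h
    rcases q.2.mem_or_mem h with h | h
    · exact hM _ m'.2 h
    · rw [← htm'] at h
      rcases q.2.mem_or_mem h with h | h
      · exact ht h
      · exact hM _ m.2 h
  · intro s
    obtain ⟨⟨c, m⟩, hcm⟩ := IsLocalization.surj M s
    have hcm' : s * algebraMap C S m = algebraMap C S c := hcm
    refine ⟨c, m, hM _ m.2, 1, fun h => q.2.ne_top ((Ideal.eq_top_iff_one _).mpr h), ?_⟩
    rw [one_mul, ← hcm', sub_self]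

/-- uniqueness of lifts of maps out of local isomorphisms modulo an ideal in the Jacobson radical -/
theorem lift_unique {A B C : Type u} [CommRing A] [CommRing B] [CommRing C] [Algebra A B]
    [Algebra A C] [Algebra.IsLocalIso A C] (J : Ideal B)
    (hJ : ∀ m : Ideal B, m.IsMaximal → J ≤ m) (ψ₁ ψ₂ : C →ₐ[A] B)
    (h : ∀ c, Ideal.Quotient.mk J (ψ₁ c) = Ideal.Quotient.mk J (ψ₂ c)) : ψ₁ = ψ₂ := by
  ext c
  set d : B := ψ₁ c - ψ₂ c with hd
  let Ann : Ideal B := LinearMap.ker (LinearMap.toSpanSingleton B B d)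
  have hAnn : ∀ x, x ∈ Ann ↔ x * d = 0 := by
    intro x
    rw [LinearMap.mem_ker, LinearMap.toSpanSingleton_apply, smul_eq_mul]
  have htop : Ann = ⊤ := by
    by_contra hne
    obtain ⟨m, hm, hle⟩ := Ideal.exists_le_maximal _ hne
    haveI := hm.isPrime
    obtain ⟨u, hu, hud⟩ := HullZ.exists_mul_eq_zero ψ₁ ψ₂ m (fun c' => by
      apply hJ m hm
      rw [← Ideal.Quotient.eq]
      exact h c') c
    exact hu (hle ((hAnn u).mpr hud))
  have h1 : (1 : B) ∈ Ann := htop ▸ Submodule.mem_top
  rw [hAnn, one_mul] at h1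
  exact sub_eq_zero.mp h1

/-- the lifting lemma, over the base `B` -/
theorem exists_retraction {B C : Type u} [CommRing B] [CommRing C] [Algebra B C]
    [Algebra.IsLocalIso B C] (hB : ProEtW.IsWLocal (PrimeSpectrum B)) (J : Ideal B)
    (hJ : ∀ m : Ideal B, m.IsMaximal → J ≤ m) (σ : C →ₐ[B] B ⧸ J) :
    ∃ ψ : C →ₐ[B] B, ∀ c, Ideal.Quotient.mk J (ψ c) = σ c := by
  classical
  have hσsurj : Function.Surjective σ := fun y => by
    obtain ⟨b, rfl⟩ := Ideal.Quotient.mk_surjective y
    exact ⟨algebraMap B C b, σ.commutes b⟩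
  let S : Submonoid C := (IsUnit.submonoid (B ⧸ J)).comap σ.toRingHom
  have hS : ∀ s : C, s ∈ S ↔ IsUnit (σ s) := fun s => Iff.rfl
  have hilr : EtPBC.IdentifiesLocalRings B (Localization S) :=
    ILRCrit.comp (ILRCrit.of_isLocalIso (A := B) (S := C)) (ilr_of_isLocalization S)
  have hbij : Function.Bijective (algebraMap B (Localization S)) := by
    apply WLocalRing.bijective_of_closed_points hilr
    intro y hy
    have hmy : y.asIdeal.IsMaximal := (PrimeSpectrum.isClosed_singleton_iff_isMaximal _).mp hy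
    let χ : C →+* B ⧸ y.asIdeal := (Ideal.Quotient.factor (hJ _ hmy)).comp σ.toRingHom
    have hχ : ∀ b : B, χ (algebraMap B C b) = Ideal.Quotient.mk y.asIdeal b := by
      intro b
      show Ideal.Quotient.factor (hJ _ hmy) (σ (algebraMap B C b)) = _
      rw [σ.commutes]
      rfl
    have hχsurj : Function.Surjective χ := fun z => by
      obtain ⟨b, rfl⟩ := Ideal.Quotient.mk_surjective z
      exact ⟨algebraMap B C b, hχ b⟩
    letI : Field (B ⧸ y.asIdeal) := Ideal.Quotient.field y.asIdeal
    set n : Ideal C := RingHom.ker χ with hn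
    haveI hnmax : n.IsMaximal := RingHom.ker_isMaximal_of_surjective χ hχsurj
    have hdisj : Disjoint (S : Set C) (n : Set C) := by
      rw [Set.disjoint_left]
      intro s hs hsn
      have h1 : IsUnit (χ s) := ((hS s).mp hs).map (Ideal.Quotient.factor (hJ _ hmy))
      have h2 : χ s = 0 := hsn
      rw [h2] at h1
      exact not_isUnit_zero h1
    have hxprime : (n.map (algebraMap C (Localization S))).IsPrime :=
      IsLocalization.isPrime_of_isPrime_disjoint S _ n hnmax.isPrime hdisj
    have hxcomap : (n.map (algebraMap C (Localization S))).comap (algebraMap C (Localization S)) = n :=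
      IsLocalization.under_map_of_isPrime_disjoint S _ hnmax.isPrime hdisj
    let x : PrimeSpectrum (Localization S) := ⟨n.map (algebraMap C (Localization S)), hxprime⟩
    refine ⟨x, ?_, ?_, ?_⟩
    · rw [PrimeSpectrum.isClosed_singleton_iff_isMaximal]
      obtain ⟨M₁, hM₁, hle⟩ := Ideal.exists_le_maximal x.asIdeal hxprime.ne_top
      have h1 : n ≤ M₁.comap (algebraMap C (Localization S)) := by
        rw [← hxcomap]; exact Ideal.comap_mono hle
      have h2 : n = M₁.comap (algebraMap C (Localization S)) :=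
        hnmax.eq_of_le (Ideal.comap_ne_top _ hM₁.ne_top) h1
      have h4 : Ideal.map (algebraMap C (Localization S))
          (M₁.comap (algebraMap C (Localization S))) = M₁ :=
        IsLocalization.map_comap S (Localization S) M₁
      have h3 : M₁ = x.asIdeal := by
        rw [← h4, ← h2]
      rw [← h3]; exact hM₁
    · apply PrimeSpectrum.ext
      ext b
      show algebraMap B (Localization S) b ∈ x.asIdeal ↔ b ∈ y.asIdeal
      rw [IsScalarTower.algebraMap_apply B C (Localization S)]
      have : algebraMap C (Localization S) (algebraMap B C b) ∈ x.asIdeal ↔ algebraMap B C b ∈ n := by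
        rw [← hxcomap]; rfl
      rw [this, hn, RingHom.mem_ker, hχ, Ideal.Quotient.eq_zero_iff_mem]
    · intro q hq
      set q₀ : Ideal C := q.asIdeal.comap (algebraMap C (Localization S)) with hq₀
      have hq₀S : ∀ s ∈ S, s ∉ q₀ := by
        intro s hs hsq
        exact q.2.ne_top (Ideal.eq_top_of_isUnit_mem _ hsq (IsLocalization.map_units _ ⟨s, hs⟩))
      have hK : Ideal.map σ.toRingHom q₀ ≠ ⊤ := by
        intro htop
        have h1 : (1 : B ⧸ J) ∈ Ideal.map σ.toRingHom q₀ := htop ▸ Submodule.mem_top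
        rw [Ideal.mem_map_iff_of_surjective σ.toRingHom hσsurj] at h1
        obtain ⟨t, ht, ht1⟩ := h1
        have ht1' : σ t = 1 := ht1
        exact hq₀S t ((hS t).mpr (by rw [ht1']; exact isUnit_one)) ht
      obtain ⟨M', hM', hKM'⟩ := Ideal.exists_le_maximal _ hK
      haveI hm'max : (M'.comap (Ideal.Quotient.mk J)).IsMaximal :=
        Ideal.comap_isMaximal_of_surjective _ Ideal.Quotient.mk_surjective
      let y' : PrimeSpectrum B := ⟨M'.comap (Ideal.Quotient.mk J), hm'max.isPrime⟩
      have hσM' : ∀ c ∈ q₀, σ c ∈ M' := fun c hc => hKM' (Ideal.mem_map_of_mem σ.toRingHom hc)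
      have hle' : (PrimeSpectrum.comap (algebraMap B (Localization S)) q).asIdeal ≤ y'.asIdeal := by
        intro b hb
        have hb' : algebraMap B C b ∈ q₀ := by
          show algebraMap C (Localization S) (algebraMap B C b) ∈ q.asIdeal
          rw [← IsScalarTower.algebraMap_apply B C (Localization S)]
          exact hb
        have := hσM' _ hb'
        rw [σ.commutes] at this
        exact this
      have hspec' : PrimeSpectrum.comap (algebraMap B (Localization S)) q ⤳ y' :=
        (PrimeSpectrum.le_iff_specializes _ _).mp hle'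
      have hy'cl : IsClosed ({y'} : Set (PrimeSpectrum B)) :=
        (PrimeSpectrum.isClosed_singleton_iff_isMaximal _).mpr hm'max
      obtain ⟨z, -, hzuniq⟩ := hB.2.2 (PrimeSpectrum.comap (algebraMap B (Localization S)) q)
      have hyy' : y' = y := (hzuniq y' ⟨hy'cl, hspec'⟩).trans (hzuniq y ⟨hy, hq⟩).symm
      have hq₀n : q₀ ≤ n := by
        intro c hc
        rw [hn, RingHom.mem_ker]
        show Ideal.Quotient.factor (hJ _ hmy) (σ c) = 0
        obtain ⟨b, hb⟩ := Ideal.Quotient.mk_surjective (σ c)
        have hbM' : Ideal.Quotient.mk J b ∈ M' := by rw [hb]; exact hσM' c hc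
        have hby : b ∈ y.asIdeal := by
          rw [← hyy']; exact hbM'
        rw [← hb]
        show Ideal.Quotient.mk y.asIdeal b = 0
        exact Ideal.Quotient.eq_zero_iff_mem.mpr hby
      rw [← PrimeSpectrum.le_iff_specializes]
      show q.asIdeal ≤ n.map (algebraMap C (Localization S))
      have h4 : Ideal.map (algebraMap C (Localization S))
          (q.asIdeal.comap (algebraMap C (Localization S))) = q.asIdeal :=
        IsLocalization.map_comap S (Localization S) q.asIdeal
      rw [← h4]
      exact Ideal.map_mono hq₀n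
  let e : B ≃ₐ[B] Localization S := AlgEquiv.ofBijective (Algebra.ofId B _) hbij
  have he : ∀ b, e b = algebraMap B (Localization S) b := fun _ => rfl
  let σt : Localization S →ₐ[B] B ⧸ J :=
    IsLocalization.liftAlgHom (M := S) (f := σ) (fun s => (hS s.1).mp s.2)
  have hσt : ∀ c, σt (algebraMap C (Localization S) c) = σ c := fun c =>
    IsLocalization.lift_eq (M := S) (g := σ.toRingHom) (fun s => (hS s.1).mp s.2) c
  refine ⟨e.symm.toAlgHom.comp (IsScalarTower.toAlgHom B C (Localization S)), fun c => ?_⟩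
  show Ideal.Quotient.mk J (e.symm (algebraMap C (Localization S) c)) = σ c
  have h1 : Ideal.Quotient.mk J (e.symm (algebraMap C (Localization S) c)) =
      σt (algebraMap B (Localization S) (e.symm (algebraMap C (Localization S) c))) :=
    (σt.commutes _).symm
  rw [h1, ← he, e.apply_symm_apply, hσt]

/-- the lifting lemma, over a base `A` -/
theorem exists_lift {A B C : Type u} [CommRing A] [CommRing B] [CommRing C] [Algebra A B]
    [Algebra A C] [Algebra.IsLocalIso A C] (hB : ProEtW.IsWLocal (PrimeSpectrum B)) (J : Ideal B)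
    (hJ : ∀ m : Ideal B, m.IsMaximal → J ≤ m) (σ : C →ₐ[A] B ⧸ J) :
    ∃ ψ : C →ₐ[A] B, ∀ c, Ideal.Quotient.mk J (ψ c) = σ c := by
  let σ' : B ⊗[A] C →ₐ[B] B ⧸ J :=
    Algebra.TensorProduct.lift (Algebra.ofId B (B ⧸ J)) σ (fun _ _ => Commute.all _ _)
  obtain ⟨ψ', hψ'⟩ := exists_retraction hB J hJ σ'
  refine ⟨(ψ'.restrictScalars A).comp Algebra.TensorProduct.includeRight, fun c => ?_⟩
  show Ideal.Quotient.mk J (ψ' ((1 : B) ⊗ₜ[A] c)) = σ c
  rw [hψ']
  simp [σ']

end Groth.Agent.Helper2.LiftZ
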