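import Mathlib
import Groth.Prelude

set_option autoImplicit false
universe u
open MvPolynomial

namespace Groth.Agent.Helper2.TAbs

variable (A : Type u) [CommRing A]

/-- the relations defining the universal absolutely flat algebra -/
def rel : Set (MvPolynomial A A) :=
  {p | ∃ a : A, p = C a ^ 2 * X a - C a ∨ p = C a * X a ^ 2 - X a}

/-- the universal absolutely flat `A`-algebra -/
def T : Type u := MvPolynomial A A ⧸ Ideal.span (rel A)

noncomputable instance : CommRing (T A) :=
  inferInstanceAs (CommRing (MvPolynomial A A ⧸ Ideal.span (rel A)))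

noncomputable instance : Algebra A (T A) :=
  inferInstanceAs (Algebra A (MvPolynomial A A ⧸ Ideal.span (rel A)))

/-- the quotient map -/
noncomputable def mkT : MvPolynomial A A →+* T A := Ideal.Quotient.mk (Ideal.span (rel A))

theorem mkT_surjective : Function.Surjective (mkT A) := Ideal.Quotient.mk_surjective

theorem mkT_eq_zero_iff (p : MvPolynomial A A) : mkT A p = 0 ↔ p ∈ Ideal.span (rel A) :=
  Ideal.Quotient.eq_zero_iff_mem

variable {A}

/-- the quasi-inverse of `a` -/
noncomputable def x (a : A) : T A := mkT A (X a)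

theorem algebraMap_eq (a : A) : algebraMap A (T A) a = mkT A (C a) := rfl

theorem rel1 (a : A) : algebraMap A (T A) a ^ 2 * x a = algebraMap A (T A) a := by
  rw [algebraMap_eq, x, ← map_pow, ← map_mul, ← sub_eq_zero, ← map_sub, mkT_eq_zero_iff]
  exact Ideal.subset_span ⟨a, Or.inl rfl⟩

theorem rel2 (a : A) : algebraMap A (T A) a * x a ^ 2 = x a := by
  rw [algebraMap_eq, x, ← map_pow, ← map_mul, ← sub_eq_zero, ← map_sub, mkT_eq_zero_iff]
  exact Ideal.subset_span ⟨a, Or.inr rfl⟩

/-- the idempotent cutting out `D(a)` -/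
noncomputable def ε (a : A) : T A := algebraMap A (T A) a * x a

theorem ε_idem (a : A) : IsIdempotentElem (ε a) := by
  show algebraMap A (T A) a * x a * (algebraMap A (T A) a * x a) = algebraMap A (T A) a * x a
  have : algebraMap A (T A) a * x a * (algebraMap A (T A) a * x a) =
      (algebraMap A (T A) a ^ 2 * x a) * x a := by ring
  rw [this, rel1]

theorem ε_mul_x (a : A) : ε a * x a = x a := by
  show algebraMap A (T A) a * x a * x a = x a
  have : algebraMap A (T A) a * x a * x a = algebraMap A (T A) a * x a ^ 2 := by ring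
  rw [this, rel2]

theorem ε_mul_a (a : A) : ε a * algebraMap A (T A) a = algebraMap A (T A) a := by
  show algebraMap A (T A) a * x a * algebraMap A (T A) a = algebraMap A (T A) a
  have : algebraMap A (T A) a * x a * algebraMap A (T A) a =
      algebraMap A (T A) a ^ 2 * x a := by ring
  rw [this, rel1]

/-- the map to a field attached to a ring map `A → K` -/
noncomputable def toField {K : Type*} [Field K] (φ : A →+* K) : T A →+* K :=
  Ideal.Quotient.lift (Ideal.span (rel A)) (eval₂Hom φ (fun a => (φ a)⁻¹)) (by
    have : Ideal.span (rel A) ≤ RingHom.ker (eval₂Hom φ (fun a => (φ a)⁻¹)) := by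
      rw [Ideal.span_le]
      rintro p ⟨a, rfl | rfl⟩
      · show eval₂Hom φ (fun a => (φ a)⁻¹) (C a ^ 2 * X a - C a) = 0
        simp only [map_sub, map_mul, map_pow, eval₂Hom_C, eval₂Hom_X']
        by_cases h : φ a = 0
        · simp [h]
        · field_simp
          ring
      · show eval₂Hom φ (fun a => (φ a)⁻¹) (C a * X a ^ 2 - X a) = 0
        simp only [map_sub, map_mul, map_pow, eval₂Hom_C, eval₂Hom_X']
        by_cases h : φ a = 0
        · simp [h]
        · field_simp
          ring
    exact fun p hp => this hp)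

theorem toField_mkT {K : Type*} [Field K] (φ : A →+* K) (p : MvPolynomial A A) :
    toField φ (mkT A p) = eval₂Hom φ (fun a => (φ a)⁻¹) p := rfl

theorem toField_algebraMap {K : Type*} [Field K] (φ : A →+* K) (a : A) :
    toField φ (algebraMap A (T A) a) = φ a := by
  rw [algebraMap_eq, toField_mkT]
  simp

theorem toField_x {K : Type*} [Field K] (φ : A →+* K) (a : A) :
    toField φ (x a) = (φ a)⁻¹ := by
  rw [x, toField_mkT]
  simp

/-- ring maps out of `T A` are determined by their restriction to `A` (into a field) -/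
theorem eq_toField {K : Type*} [Field K] (ψ : T A →+* K) :
    ψ = toField (ψ.comp (algebraMap A (T A))) := by
  have key : ψ.comp (mkT A) = (toField (ψ.comp (algebraMap A (T A)))).comp (mkT A) := by
    apply MvPolynomial.ringHom_ext
    · intro a
      show ψ (algebraMap A (T A) a) = toField _ (algebraMap A (T A) a)
      rw [toField_algebraMap]
      rfl
    · intro a
      show ψ (x a) = toField _ (x a)
      rw [toField_x]
      show ψ (x a) = (ψ (algebraMap A (T A) a))⁻¹
      have h1 := congrArg ψ (rel1 a)
      have h2 := congrArg ψ (rel2 a)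
      rw [map_mul, map_pow] at h1 h2
      by_cases h : ψ (algebraMap A (T A) a) = 0
      · rw [h, zero_mul] at h2
        rw [h, inv_zero, ← h2]
      · apply eq_inv_of_mul_eq_one_left
        have h3 : ψ (algebraMap A (T A) a) * (ψ (x a) * ψ (algebraMap A (T A) a)) =
            ψ (algebraMap A (T A) a) * 1 := by
          rw [mul_one]
          nth_rw 3 [← h1]
          ring
        exact mul_left_cancel₀ h h3
  ext t
  obtain ⟨p, rfl⟩ := mkT_surjective A t
  exact congr($key p)

theorem toField_comp {K L : Type*} [Field K] [Field L] (φ : A →+* K) (ι : K →+* L) :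
    ι.comp (toField φ) = toField (ι.comp φ) := by
  rw [eq_toField (ι.comp (toField φ))]
  congr 1
  ext a
  show ι (toField φ (algebraMap A (T A) a)) = ι (φ a)
  rw [toField_algebraMap]

variable (A)

/-- the canonical point over a prime -/
noncomputable def pt (p : PrimeSpectrum A) : PrimeSpectrum (T A) :=
  ⟨RingHom.ker (toField (algebraMap A p.asIdeal.ResidueField)), RingHom.ker_isPrime _⟩

theorem comap_pt (p : PrimeSpectrum A) : PrimeSpectrum.comap (algebraMap A (T A)) (pt A p) = p := by
  apply PrimeSpectrum.ext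
  ext a
  show toField (algebraMap A p.asIdeal.ResidueField) (algebraMap A (T A) a) = 0 ↔ _
  rw [toField_algebraMap, Ideal.algebraMap_residueField_eq_zero]

theorem eq_pt (q : PrimeSpectrum (T A)) :
    q = pt A (PrimeSpectrum.comap (algebraMap A (T A)) q) := by
  set p := PrimeSpectrum.comap (algebraMap A (T A)) q with hp
  let K := FractionRing (T A ⧸ q.asIdeal)
  let ψ : T A →+* K := (algebraMap (T A ⧸ q.asIdeal) K).comp (Ideal.Quotient.mk q.asIdeal)
  have hker : ∀ t, ψ t = 0 ↔ t ∈ q.asIdeal := by
    intro t
    show algebraMap (T A ⧸ q.asIdeal) K (Ideal.Quotient.mk q.asIdeal t) = 0 ↔ _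
    rw [map_eq_zero_iff _ (IsFractionRing.injective (T A ⧸ q.asIdeal) K),
      Ideal.Quotient.eq_zero_iff_mem]
  let χ : A →+* K := ψ.comp (algebraMap A (T A))
  have hχker : ∀ a, χ a = 0 ↔ a ∈ p.asIdeal := fun a => hker _
  have hf₁ : p.asIdeal ≤ RingHom.ker χ := fun a ha => (hχker a).mpr ha
  have hf₂ : p.asIdeal.primeCompl ≤ (IsUnit.submonoid K).comap χ := by
    intro a ha
    show IsUnit (χ a)
    exact Ne.isUnit (fun h => ha ((hχker a).mp h))
  let ι : p.asIdeal.ResidueField →+* K := Ideal.ResidueField.lift p.asIdeal χ hf₁ hf₂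
  have hι : ι.comp (algebraMap A p.asIdeal.ResidueField) = χ := by
    ext a
    exact Ideal.ResidueField.lift_algebraMap p.asIdeal χ hf₁ hf₂ a
  have h1 : ψ = ι.comp (toField (algebraMap A p.asIdeal.ResidueField)) := by
    rw [toField_comp, hι]
    exact eq_toField ψ
  apply PrimeSpectrum.ext
  ext t
  show t ∈ q.asIdeal ↔ toField (algebraMap A p.asIdeal.ResidueField) t = 0
  rw [← hker, h1]
  show ι (toField (algebraMap A p.asIdeal.ResidueField) t) = 0 ↔ _
  rw [map_eq_zero_iff _ ι.injective]

theorem comap_bijective :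
    Function.Bijective (PrimeSpectrum.comap (algebraMap A (T A))) := by
  constructor
  · intro q q' h
    rw [eq_pt A q, eq_pt A q', h]
  · intro p
    exact ⟨pt A p, comap_pt A p⟩

theorem toField_surjective (p : PrimeSpectrum A) :
    Function.Surjective (toField (algebraMap A p.asIdeal.ResidueField)) := by
  intro y
  obtain ⟨a', b', hb', rfl⟩ := IsFractionRing.div_surjective (A := A ⧸ p.asIdeal) y
  obtain ⟨a, rfl⟩ := Ideal.Quotient.mk_surjective a'
  obtain ⟨b, rfl⟩ := Ideal.Quotient.mk_surjective b'
  refine ⟨algebraMap A (T A) a * x b, ?_⟩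
  rw [map_mul, toField_algebraMap, toField_x, div_eq_mul_inv]
  rfl

/-- every prime of `T A` is maximal -/
theorem isMaximal_of_isPrime (q : Ideal (T A)) [hq : q.IsPrime] : q.IsMaximal := by
  have h := eq_pt A ⟨q, hq⟩
  have h' : q = RingHom.ker (toField (algebraMap A
      (PrimeSpectrum.comap (algebraMap A (T A)) ⟨q, hq⟩).asIdeal.ResidueField)) :=
    congrArg PrimeSpectrum.asIdeal h
  rw [h']
  exact RingHom.ker_isMaximal_of_surjective _ (toField_surjective A _)

/-- membership of `ε a` in a prime -/
theorem ε_mem_iff (q : PrimeSpectrum (T A)) (a : A) :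
    ε a ∈ q.asIdeal ↔ a ∈ (PrimeSpectrum.comap (algebraMap A (T A)) q).asIdeal := by
  constructor
  · intro h
    show algebraMap A (T A) a ∈ q.asIdeal
    rw [← ε_mul_a]
    exact Ideal.mul_mem_right _ _ h
  · intro h
    exact Ideal.mul_mem_right _ _ h

end Groth.Agent.Helper2.TAbs
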