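import Mathlib
import Groth.Prelude
import Groth.Agent.Helper2.TAbs
import Groth.Agent.Helper4.DimZero

set_option autoImplicit false
universe u
open MvPolynomial

namespace Groth.Agent.Helper2.TAbs

variable {A : Type u} [CommRing A]

/-- uniqueness of weak inverses -/
theorem weakInv_unique {R : Type*} [CommRing R] (r y y' : R) (h1 : r ^ 2 * y = r)
    (h2 : r * y ^ 2 = y) (h1' : r ^ 2 * y' = r) (h2' : r * y' ^ 2 = y') : y = y' := by
  have e1 : y = y * r * y' := by
    calc y = r * y ^ 2 := h2.symm
      _ = (r ^ 2 * y') * y ^ 2 := by rw [h1']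
      _ = (r * y ^ 2) * r * y' := by ring
      _ = y * r * y' := by rw [h2]
  have e2 : y' = y * r * y' := by
    calc y' = r * y' ^ 2 := h2'.symm
      _ = (r ^ 2 * y) * y' ^ 2 := by rw [h1]
      _ = y * r * (r * y' ^ 2) := by ring
      _ = y * r * y' := by rw [h2']
  rw [e1]
  exact e2.symm

/-- the universal property of `T A`: existence -/
noncomputable def lift {R : Type u} [CommRing R] [Algebra A R] (w : A → R)
    (h1 : ∀ a, algebraMap A R a ^ 2 * w a = algebraMap A R a)
    (h2 : ∀ a, algebraMap A R a * w a ^ 2 = w a) : T A →ₐ[A] R :=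
  Ideal.Quotient.liftₐ (Ideal.span (rel A)) (MvPolynomial.aeval w) (by
    have : Ideal.span (rel A) ≤ RingHom.ker (MvPolynomial.aeval (R := A) w).toRingHom := by
      rw [Ideal.span_le]
      rintro p ⟨a, rfl | rfl⟩
      · show MvPolynomial.aeval w (C a ^ 2 * X a - C a) = 0
        simp only [map_sub, map_mul, map_pow, MvPolynomial.aeval_C, MvPolynomial.aeval_X]
        rw [h1, sub_self]
      · show MvPolynomial.aeval w (C a * X a ^ 2 - X a) = 0
        simp only [map_sub, map_mul, map_pow, MvPolynomial.aeval_C, MvPolynomial.aeval_X]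
        rw [h2, sub_self]
    exact fun p hp => this hp)

/-- the universal property of `T A`: uniqueness -/
theorem algHom_ext {R : Type*} [CommRing R] [Algebra A R] (f g : T A →ₐ[A] R) : f = g := by
  have key : f.toRingHom.comp (mkT A) = g.toRingHom.comp (mkT A) := by
    apply MvPolynomial.ringHom_ext
    · intro a
      show f (algebraMap A (T A) a) = g (algebraMap A (T A) a)
      rw [f.commutes, g.commutes]
    · intro a
      show f (x a) = g (x a)
      have hf1 := congrArg f (rel1 a)
      have hf2 := congrArg f (rel2 a)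
      have hg1 := congrArg g (rel1 a)
      have hg2 := congrArg g (rel2 a)
      rw [map_mul, map_pow, f.commutes] at hf1 hf2
      rw [map_mul, map_pow, g.commutes] at hg1 hg2
      exact weakInv_unique _ _ _ hf1 hf2 hg1 hg2
  ext t
  obtain ⟨p, rfl⟩ := mkT_surjective A t
  exact congr($key p)

/-- weak inverses exist in reduced zero-dimensional rings -/
theorem exists_weakInv {R : Type*} [CommRing R] [IsReduced R]
    (hmax : ∀ q : Ideal R, q.IsPrime → q.IsMaximal) (r : R) :
    ∃ y : R, r ^ 2 * y = r ∧ r * y ^ 2 = y := by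
  haveI : Ring.KrullDimLE 0 R := Ring.KrullDimLE.mk₀ hmax
  obtain ⟨n, g, hng⟩ := Groth.Agent.Helper4.exists_pow_mul_one_sub_eq_zero r
  have h0 : r * (1 - r * g) = 0 := by
    apply IsReduced.eq_zero
    refine ⟨n + 1, ?_⟩
    rw [mul_pow, pow_succ, pow_succ]
    calc r ^ n * r * ((1 - r * g) ^ n * (1 - r * g))
        = (r ^ n * (1 - r * g)) * (r * (1 - r * g) ^ n) := by ring
      _ = 0 := by rw [hng, zero_mul]
  have h1 : r ^ 2 * g = r := by
    have : r - r ^ 2 * g = 0 := by rw [← h0]; ring
    exact (sub_eq_zero.mp this).symm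
  refine ⟨g ^ 2 * r, ?_, ?_⟩
  · calc r ^ 2 * (g ^ 2 * r) = (r ^ 2 * g) * (g * r) := by ring
      _ = r * (g * r) := by rw [h1]
      _ = r ^ 2 * g := by ring
      _ = r := h1
  · calc r * (g ^ 2 * r) ^ 2 = (r ^ 2 * g) * (r * g ^ 3) := by ring
      _ = r * (r * g ^ 3) := by rw [h1]
      _ = (r ^ 2 * g) * g ^ 2 := by ring
      _ = r * g ^ 2 := by rw [h1]
      _ = g ^ 2 * r := by ring

/-- the canonical map from `T A` to a reduced zero-dimensional `A`-algebra -/
theorem exists_algHom {R : Type u} [CommRing R] [Algebra A R] [IsReduced R]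
    (hmax : ∀ q : Ideal R, q.IsPrime → q.IsMaximal) : Nonempty (T A →ₐ[A] R) := by
  choose w h1 h2 using fun a : A => exists_weakInv hmax (algebraMap A R a)
  exact ⟨lift w h1 h2⟩

end Groth.Agent.Helper2.TAbs
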