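import Mathlib
import Groth.Prelude
import Groth.Agent.Helper2.HullZA
import Groth.Agent.Helper2.TAbs
import Groth.Agent.Lead.IndEtale

set_option autoImplicit false
universe u
open CategoryTheory CategoryTheory.Limits TensorProduct

namespace Groth.Agent.Helper2.WLocZ

open Groth.Agent.Helper2.IndEtCrit Groth.Agent.Helper2.IndZarCrit Groth.Agent.Helper2.HullZ
open Groth.Agent.Helper2

/-- local isomorphisms are flat -/
theorem flat_of_isLocalIso (A S : Type u) [CommRing A] [CommRing S] [Algebra A S]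
    [Algebra.IsLocalIso A S] : Module.Flat A S := by
  refine Module.flat_of_isLocalized_span (R := A) (S := S) (M := S)
    {g : S | Algebra.IsStandardOpenImmersion A (Localization.Away g)}
    (Algebra.IsLocalIso.span_isStandardOpenImmersion_eq_top A S)
    (fun r => Localization.Away r.1)
    (fun r => Algebra.linearMap S (Localization.Away r.1)) ?_
  intro r
  obtain ⟨a, ha⟩ := (r.2 : Algebra.IsStandardOpenImmersion A (Localization.Away r.1)).exists_away
  exact IsLocalization.flat _ (Submonoid.powers a)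

/-- ind-Zariski algebras are flat -/
theorem flat_of_isIndZariski {A B : Type u} [CommRing A] [CommRing B] [Algebra A B]
    (h : EtPBC.IsIndZariski A B) : Module.Flat A B := by
  obtain ⟨J, _, _, D, c, hc, hloc, ⟨e⟩⟩ := h
  let Sy := ofColimit D c hc e
  haveI : ∀ j, Module.Flat A (Sy.R j) := fun j => by
    haveI : Algebra.IsLocalIso A (Sy.R j) := hloc j
    exact flat_of_isLocalIso A (Sy.R j)
  exact Groth.Agent.Lead.IndEtale.flat_of_system Sy.R (fun f => Sy.t f) Sy.φ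
    (fun f x => Sy.hφ f x) Sy.hsurj Sy.hinj

section Hull

variable (A : Type u) [CommRing A]

/-- the w-localization -/
abbrev Aw : Type u := Hull A (TAbs.T A)

/-- the counit -/
noncomputable abbrev ε : Aw A →ₐ[A] TAbs.T A := hullCounit A (TAbs.T A)

theorem exists_ε_eq_x (a : A) : ∃ h : Aw A, ε A h = TAbs.x a := by
  obtain ⟨c, hc, hcε⟩ := exists_counit_eq_of_isIdempotentElem A (TAbs.T A) (TAbs.ε a) (TAbs.ε_idem a)
  set u : Aw A := algebraMap A (Aw A) a * c + (1 - c) with hu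
  have hεu : ε A u = algebraMap A (TAbs.T A) a * TAbs.ε a + (1 - TAbs.ε a) := by
    rw [hu, map_add, map_mul, map_sub, map_one, hcε, AlgHom.commutes]
  have hee : TAbs.ε a * TAbs.ε a = TAbs.ε a := TAbs.ε_idem a
  have hax : algebraMap A (TAbs.T A) a * TAbs.x a = TAbs.ε a := rfl
  have hunit : IsUnit (ε A u) := by
    rw [hεu]
    refine IsUnit.of_mul_eq_one (TAbs.x a * TAbs.ε a + (1 - TAbs.ε a)) ?_
    have : (algebraMap A (TAbs.T A) a * TAbs.ε a + (1 - TAbs.ε a)) *
        (TAbs.x a * TAbs.ε a + (1 - TAbs.ε a)) =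
        (algebraMap A (TAbs.T A) a * TAbs.x a) * (TAbs.ε a * TAbs.ε a) +
        (algebraMap A (TAbs.T A) a + TAbs.x a) * (TAbs.ε a - TAbs.ε a * TAbs.ε a) +
        (1 - 2 * TAbs.ε a + TAbs.ε a * TAbs.ε a) := by ring
    rw [this, hee, hax, hee, sub_self, mul_zero, add_zero]
    ring
  have hu' : IsUnit u := isUnit_of_isUnit_counit A (TAbs.T A) u hunit
  obtain ⟨w, hw⟩ := hu'.exists_right_inv
  have hεw : ε A w = TAbs.x a * TAbs.ε a + (1 - TAbs.ε a) := by
    have h1 : ε A u * ε A w = 1 := by rw [← map_mul, hw, map_one]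
    have h2 : ε A u * (TAbs.x a * TAbs.ε a + (1 - TAbs.ε a)) = 1 := by
      rw [hεu]
      have : (algebraMap A (TAbs.T A) a * TAbs.ε a + (1 - TAbs.ε a)) *
          (TAbs.x a * TAbs.ε a + (1 - TAbs.ε a)) =
          (algebraMap A (TAbs.T A) a * TAbs.x a) * (TAbs.ε a * TAbs.ε a) +
          (algebraMap A (TAbs.T A) a + TAbs.x a) * (TAbs.ε a - TAbs.ε a * TAbs.ε a) +
          (1 - 2 * TAbs.ε a + TAbs.ε a * TAbs.ε a) := by ring
      rw [this, hee, hax, hee, sub_self, mul_zero, add_zero]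
      ring
    exact hunit.mul_left_cancel (h1.trans h2.symm)
  refine ⟨w * c, ?_⟩
  rw [map_mul, hεw, hcε]
  have : (TAbs.x a * TAbs.ε a + (1 - TAbs.ε a)) * TAbs.ε a =
      TAbs.x a * (TAbs.ε a * TAbs.ε a) + (TAbs.ε a - TAbs.ε a * TAbs.ε a) := by ring
  rw [this, hee, sub_self, add_zero, mul_comm, TAbs.ε_mul_x]

theorem ε_surjective : Function.Surjective (ε A) := by
  intro t
  obtain ⟨p, rfl⟩ := TAbs.mkT_surjective A t
  induction p using MvPolynomial.induction_on with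
  | C a => exact ⟨algebraMap A (Aw A) a, (ε A).commutes a⟩
  | add p q hp hq =>
    obtain ⟨hp', hp⟩ := hp
    obtain ⟨hq', hq⟩ := hq
    exact ⟨hp' + hq', by rw [map_add, map_add, hp, hq]⟩
  | mul_X p a hp =>
    obtain ⟨hp', hp⟩ := hp
    obtain ⟨hx, hx'⟩ := exists_ε_eq_x A a
    refine ⟨hp' * hx, ?_⟩
    rw [map_mul, map_mul, hp, hx']
    rfl

/-- the kernel of the counit lies in every maximal ideal -/
theorem ker_le_of_isMaximal (m : Ideal (Aw A)) [hm : m.IsMaximal] :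
    RingHom.ker (ε A).toRingHom ≤ m := by
  intro k hk
  by_contra hkm
  obtain ⟨r, x, hx, hxy⟩ := hm.exists_inv hkm
  have hεx : ε A x = 1 := by
    have : x = 1 - r * k := by rw [← hxy]; ring
    rw [this, map_sub, map_one, map_mul]
    have hk0 : ε A k = 0 := hk
    rw [hk0, mul_zero, sub_zero]
  have hxu : IsUnit x := isUnit_of_isUnit_counit A (TAbs.T A) x (by rw [hεx]; exact isUnit_one)
  exact hm.ne_top (Ideal.eq_top_of_isUnit_mem _ hx hxu)

theorem isMaximal_comap_ε (q : Ideal (TAbs.T A)) [q.IsPrime] :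
    (q.comap (ε A).toRingHom).IsMaximal := by
  haveI := TAbs.isMaximal_of_isPrime A q
  exact Ideal.comap_isMaximal_of_surjective _ (ε_surjective A)

theorem exists_comap_eq_of_isMaximal (m : Ideal (Aw A)) [hm : m.IsMaximal] :
    ∃ q : PrimeSpectrum (TAbs.T A), q.asIdeal.comap (ε A).toRingHom = m := by
  have h1 : (⟨m, hm.isPrime⟩ : PrimeSpectrum (Aw A)) ∈
      PrimeSpectrum.zeroLocus (RingHom.ker (ε A).toRingHom : Set (Aw A)) :=
    ker_le_of_isMaximal A m
  rw [← range_comap_of_surjective _ _ (ε_surjective A)] at h1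
  obtain ⟨q, hq⟩ := h1
  exact ⟨q, congrArg PrimeSpectrum.asIdeal hq⟩

theorem closedPoints_eq :
    ProEtW.closedPoints (PrimeSpectrum (Aw A)) =
      Set.range (PrimeSpectrum.comap (ε A).toRingHom) := by
  ext y
  show IsClosed ({y} : Set _) ↔ _
  rw [PrimeSpectrum.isClosed_singleton_iff_isMaximal]
  constructor
  · intro hy
    obtain ⟨q, hq⟩ := exists_comap_eq_of_isMaximal A y.asIdeal
    exact ⟨q, PrimeSpectrum.ext hq⟩
  · rintro ⟨q, rfl⟩
    exact isMaximal_comap_ε A q.asIdeal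

/-- separation of two distinct points of `Spec T` by a lifted idempotent -/
theorem exists_idem_sep (q₁ q₂ : PrimeSpectrum (TAbs.T A)) (hne : q₁ ≠ q₂) :
    ∃ c : Aw A, IsIdempotentElem c ∧
      ((ε A c ∈ q₁.asIdeal ∧ ε A c ∉ q₂.asIdeal) ∨ (ε A c ∈ q₂.asIdeal ∧ ε A c ∉ q₁.asIdeal)) := by
  have hp : PrimeSpectrum.comap (algebraMap A (TAbs.T A)) q₁ ≠
      PrimeSpectrum.comap (algebraMap A (TAbs.T A)) q₂ :=
    fun h => hne ((TAbs.comap_bijective A).1 h)
  have hp' : (PrimeSpectrum.comap (algebraMap A (TAbs.T A)) q₁).asIdeal ≠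
      (PrimeSpectrum.comap (algebraMap A (TAbs.T A)) q₂).asIdeal :=
    fun h => hp (PrimeSpectrum.ext h)
  have : ∃ a : A, (a ∈ (PrimeSpectrum.comap (algebraMap A (TAbs.T A)) q₁).asIdeal ∧
      a ∉ (PrimeSpectrum.comap (algebraMap A (TAbs.T A)) q₂).asIdeal) ∨
      (a ∈ (PrimeSpectrum.comap (algebraMap A (TAbs.T A)) q₂).asIdeal ∧
      a ∉ (PrimeSpectrum.comap (algebraMap A (TAbs.T A)) q₁).asIdeal) := by
    by_contra hcon
    push Not at hcon
    apply hp'
    ext a
    constructor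
    · intro h
      exact (hcon a).1 h
    · intro h
      exact (hcon a).2 h
  obtain ⟨a, ha⟩ := this
  obtain ⟨c, hc, hcε⟩ := exists_counit_eq_of_isIdempotentElem A (TAbs.T A) (TAbs.ε a) (TAbs.ε_idem a)
  refine ⟨c, hc, ?_⟩
  rw [show ε A c = TAbs.ε a from hcε]
  rcases ha with ⟨h1, h2⟩ | ⟨h1, h2⟩
  · exact Or.inl ⟨(TAbs.ε_mem_iff A q₁ a).mpr h1, fun h => h2 ((TAbs.ε_mem_iff A q₂ a).mp h)⟩
  · exact Or.inr ⟨(TAbs.ε_mem_iff A q₂ a).mpr h1, fun h => h2 ((TAbs.ε_mem_iff A q₁ a).mp h)⟩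

theorem isWLocal : ProEtW.IsWLocal (PrimeSpectrum (Aw A)) := by
  refine ⟨inferInstance, ?_, ?_⟩
  · have h := closedPoints_eq A
    unfold ProEtW.closedPoints at h
    rw [h, range_comap_of_surjective _ _ (ε_surjective A)]
    exact PrimeSpectrum.isClosed_zeroLocus _
  · intro x
    obtain ⟨m, hm, hle⟩ := Ideal.exists_le_maximal x.asIdeal x.2.ne_top
    refine ⟨⟨m, hm.isPrime⟩, ⟨(PrimeSpectrum.isClosed_singleton_iff_isMaximal _).mpr hm,
      (PrimeSpectrum.le_iff_specializes x ⟨m, hm.isPrime⟩).mp hle⟩, ?_⟩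
    rintro y ⟨hy, hxy⟩
    rw [PrimeSpectrum.isClosed_singleton_iff_isMaximal] at hy
    have hle' : x.asIdeal ≤ y.asIdeal := (PrimeSpectrum.le_iff_specializes x y).mpr hxy
    by_contra hne
    have hne' : y.asIdeal ≠ m := fun h => hne (PrimeSpectrum.ext h)
    obtain ⟨q₁, hq₁⟩ := exists_comap_eq_of_isMaximal A m
    obtain ⟨q₂, hq₂⟩ := exists_comap_eq_of_isMaximal A y.asIdeal
    have hq : q₁ ≠ q₂ := by
      intro h
      apply hne'
      rw [← hq₁, ← hq₂, h]
    obtain ⟨c, hc, hsep⟩ := exists_idem_sep A q₁ q₂ hq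
    have h0 : c * (1 - c) ∈ x.asIdeal := by
      have : c * (1 - c) = c - c * c := by ring
      rw [this, hc.eq, sub_self]
      exact x.asIdeal.zero_mem
    have hmem_m : ∀ z : Aw A, z ∈ m ↔ ε A z ∈ q₁.asIdeal := fun z => by rw [← hq₁]; rfl
    have hmem_y : ∀ z : Aw A, z ∈ y.asIdeal ↔ ε A z ∈ q₂.asIdeal := fun z => by rw [← hq₂]; rfl
    rcases hsep with ⟨h1, h2⟩ | ⟨h1, h2⟩
    · -- c ∈ m, c ∉ y
      have hcm : c ∈ m := (hmem_m c).mpr h1
      have hcy : c ∉ y.asIdeal := fun h => h2 ((hmem_y c).mp h)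
      rcases x.2.mem_or_mem h0 with h | h
      · exact hcy (hle' h)
      · apply hm.ne_top
        rw [Ideal.eq_top_iff_one]
        have := m.add_mem hcm (hle h)
        rwa [add_sub_cancel] at this
    · -- c ∈ y, c ∉ m
      have hcy : c ∈ y.asIdeal := (hmem_y c).mpr h1
      have hcm : c ∉ m := fun h => h2 ((hmem_m c).mp h)
      rcases x.2.mem_or_mem h0 with h | h
      · exact hcm (hle h)
      · apply hy.ne_top
        rw [Ideal.eq_top_iff_one]
        have := y.asIdeal.add_mem hcy (hle' h)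
        rwa [add_sub_cancel] at this

theorem comap_comap (q : PrimeSpectrum (TAbs.T A)) :
    PrimeSpectrum.comap (algebraMap A (Aw A)) (PrimeSpectrum.comap (ε A).toRingHom q) =
      PrimeSpectrum.comap (algebraMap A (TAbs.T A)) q := by
  apply PrimeSpectrum.ext
  ext a
  show ε A (algebraMap A (Aw A) a) ∈ q.asIdeal ↔ algebraMap A (TAbs.T A) a ∈ q.asIdeal
  rw [AlgHom.commutes]

theorem bijOn_closedPoints :
    Set.BijOn (PrimeSpectrum.comap (algebraMap A (Aw A)))
      (ProEtW.closedPoints (PrimeSpectrum (Aw A))) Set.univ := by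
  rw [closedPoints_eq]
  refine ⟨fun _ _ => Set.mem_univ _, ?_, ?_⟩
  · rintro _ ⟨q₁, rfl⟩ _ ⟨q₂, rfl⟩ h
    rw [comap_comap, comap_comap] at h
    rw [(TAbs.comap_bijective A).1 h]
  · intro p _
    obtain ⟨q, hq⟩ := (TAbs.comap_bijective A).2 p
    exact ⟨PrimeSpectrum.comap (ε A).toRingHom q, ⟨q, rfl⟩, by rw [comap_comap, hq]⟩

theorem faithfullyFlat : Module.FaithfullyFlat A (Aw A) := by
  haveI : Module.Flat A (Aw A) := flat_of_isIndZariski (isIndZariski_hull A (TAbs.T A))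
  apply Module.FaithfullyFlat.of_comap_surjective
  intro p
  obtain ⟨y, -, hy⟩ := (bijOn_closedPoints A).surjOn (Set.mem_univ p)
  exact ⟨y, hy⟩

theorem s0694 :
    ∃ (Aw : Type u) (_ : CommRing Aw) (_ : Algebra A Aw),
      Module.FaithfullyFlat A Aw ∧ EtPBC.IsIndZariski A Aw ∧ ProEtW.IsWLocal (PrimeSpectrum Aw) ∧
      Set.BijOn (PrimeSpectrum.comap (algebraMap A Aw)) (ProEtW.closedPoints (PrimeSpectrum Aw))
        Set.univ :=
  ⟨Aw A, inferInstance, inferInstance, faithfullyFlat A, isIndZariski_hull A (TAbs.T A),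
    isWLocal A, bijOn_closedPoints A⟩

end Hull

end Groth.Agent.Helper2.WLocZ
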