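import Mathlib
import Groth.Prelude
import Groth.Agent.Helper2.WLocZ
import Groth.Agent.Helper2.LiftZ
import Groth.Agent.Helper2.TAbsLift
import Groth.Agent.Helper2.HullDesc
import Groth.Agent.Helper2.HullWLocB

set_option autoImplicit false
universe u
open CategoryTheory CategoryTheory.Limits TensorProduct

namespace Groth.Agent.Helper2.WLocUniv

open Groth.Agent.Helper2.IndEtCrit Groth.Agent.Helper2.IndZarCrit Groth.Agent.Helper2.HullZ
open Groth.Agent.Helper2

section Jc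

variable (B : Type u) [CommRing B]

/-- the radical ideal cutting out the closed points -/
def Jc : Ideal B := PrimeSpectrum.vanishingIdeal (ProEtW.closedPoints (PrimeSpectrum B))

theorem Jc_le (m : Ideal B) (hm : m.IsMaximal) : Jc B ≤ m := by
  intro f hf
  rw [Jc, PrimeSpectrum.mem_vanishingIdeal] at hf
  exact hf ⟨m, hm.isPrime⟩ ((PrimeSpectrum.isClosed_singleton_iff_isMaximal _).mpr hm)

theorem mem_Jc (f : B) (h : ∀ m : Ideal B, m.IsMaximal → f ∈ m) : f ∈ Jc B := by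
  rw [Jc, PrimeSpectrum.mem_vanishingIdeal]
  intro x hx
  exact h x.asIdeal ((PrimeSpectrum.isClosed_singleton_iff_isMaximal _).mp hx)

variable {B}

theorem zeroLocus_Jc (hB : ProEtW.IsWLocal (PrimeSpectrum B)) :
    PrimeSpectrum.zeroLocus (Jc B : Set B) = ProEtW.closedPoints (PrimeSpectrum B) := by
  rw [Jc, PrimeSpectrum.zeroLocus_vanishingIdeal_eq_closure]
  exact IsClosed.closure_eq hB.2.1

instance : IsReduced (B ⧸ Jc B) :=
  (Ideal.isRadical_iff_quotient_reduced _).mp (PrimeSpectrum.isRadical_vanishingIdeal _)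

theorem isMaximal_of_isPrime_quot (hB : ProEtW.IsWLocal (PrimeSpectrum B))
    (Q : Ideal (B ⧸ Jc B)) (hQ : Q.IsPrime) : Q.IsMaximal := by
  have hq : (Q.comap (Ideal.Quotient.mk (Jc B))).IsMaximal := by
    have hmem : (⟨Q.comap (Ideal.Quotient.mk (Jc B)), Ideal.comap_isPrime _ _⟩ : PrimeSpectrum B) ∈
        PrimeSpectrum.zeroLocus (Jc B : Set B) := by
      intro b hb
      show Ideal.Quotient.mk (Jc B) b ∈ Q
      rw [Ideal.Quotient.eq_zero_iff_mem.mpr hb]
      exact Q.zero_mem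
    rw [zeroLocus_Jc hB] at hmem
    exact (PrimeSpectrum.isClosed_singleton_iff_isMaximal _).mp hmem
  obtain ⟨M', hM', hle⟩ := Ideal.exists_le_maximal Q hQ.ne_top
  have heq : Q.comap (Ideal.Quotient.mk (Jc B)) = M'.comap (Ideal.Quotient.mk (Jc B)) :=
    hq.eq_of_le (Ideal.comap_ne_top _ hM'.ne_top) (Ideal.comap_mono hle)
  have : Q = M' := Ideal.comap_injective_of_surjective _ Ideal.Quotient.mk_surjective heq
  rw [this]; exact hM'

end Jc

variable (A : Type u) [CommRing A]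

/-- the universal property of the w-localization -/
theorem existsUnique_wLocal (B : Type u) [CommRing B] [Algebra A B]
    (hB : ProEtW.IsWLocal (PrimeSpectrum B)) :
    ∃! φ : WLocZ.Aw A →ₐ[A] B, ProEtW.IsWLocalMap (PrimeSpectrum.comap φ.toRingHom) := by
  classical
  obtain ⟨τ⟩ := TAbs.exists_algHom (A := A) (R := B ⧸ Jc B) (isMaximal_of_isPrime_quot hB)
  -- key: any `φ` with `mk ∘ φ = τ ∘ ε` is unique
  have huniq : ∀ φ₁ φ₂ : WLocZ.Aw A →ₐ[A] B,
      (∀ x, Ideal.Quotient.mk (Jc B) (φ₁ x) = τ (WLocZ.ε A x)) →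
      (∀ x, Ideal.Quotient.mk (Jc B) (φ₂ x) = τ (WLocZ.ε A x)) → φ₁ = φ₂ := by
    intro φ₁ φ₂ h₁ h₂
    apply hull_algHom_ext
    intro j y
    have := LiftZ.lift_unique (Jc B) (Jc_le B) (φ₁.comp (hullι A (TAbs.T A) j))
      (φ₂.comp (hullι A (TAbs.T A) j)) (fun c => by
        show Ideal.Quotient.mk (Jc B) (φ₁ (hullι A (TAbs.T A) j c)) =
          Ideal.Quotient.mk (Jc B) (φ₂ (hullι A (TAbs.T A) j c))
        rw [h₁, h₂])
    exact congr($this y)
  -- a w-local `φ` satisfies the key property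
  have hkey : ∀ φ : WLocZ.Aw A →ₐ[A] B,
      ProEtW.IsWLocalMap (PrimeSpectrum.comap φ.toRingHom) →
      ∀ x, Ideal.Quotient.mk (Jc B) (φ x) = τ (WLocZ.ε A x) := by
    intro φ hφ
    have hker : ∀ k : WLocZ.Aw A, k ∈ RingHom.ker (WLocZ.ε A).toRingHom →
        ((Ideal.Quotient.mkₐ A (Jc B)).comp φ) k = 0 := by
      intro k hk
      show Ideal.Quotient.mk (Jc B) (φ k) = 0
      rw [Ideal.Quotient.eq_zero_iff_mem]
      apply mem_Jc
      intro m hm
      have hcl := hφ.2 ⟨m, hm.isPrime⟩ ((PrimeSpectrum.isClosed_singleton_iff_isMaximal _).mpr hm)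
      rw [PrimeSpectrum.isClosed_singleton_iff_isMaximal] at hcl
      have h2 := @WLocZ.ker_le_of_isMaximal A _
        (PrimeSpectrum.comap φ.toRingHom ⟨m, hm.isPrime⟩).asIdeal hcl k hk
      exact h2
    let e := Ideal.quotientKerAlgEquivOfSurjective (WLocZ.ε_surjective A)
    let τ' : TAbs.T A →ₐ[A] B ⧸ Jc B :=
      (Ideal.Quotient.liftₐ (RingHom.ker (WLocZ.ε A).toRingHom)
        ((Ideal.Quotient.mkₐ A (Jc B)).comp φ) hker).comp e.symm.toAlgHom
    have hτ' : ∀ x, τ' (WLocZ.ε A x) = Ideal.Quotient.mk (Jc B) (φ x) := by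
      intro x
      have h1 : e.symm (WLocZ.ε A x) = Ideal.Quotient.mk _ x := by
        rw [AlgEquiv.symm_apply_eq]
        rfl
      show Ideal.Quotient.liftₐ _ _ hker (e.symm (WLocZ.ε A x)) = _
      rw [h1]
      rfl
    intro x
    rw [← hτ', TAbs.algHom_ext τ' τ]
  -- existence
  have hlift : ∀ j : ZIdx A (TAbs.T A), ∃ ψ : j.C →ₐ[A] B,
      ∀ c, Ideal.Quotient.mk (Jc B) (ψ c) = (τ.comp j.γ) c :=
    fun j => LiftZ.exists_lift hB (Jc B) (Jc_le B) (τ.comp j.γ)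
  choose ψ hψ using hlift
  have hcompat : ∀ {j k : ZIdx A (TAbs.T A)} (f : j ⟶ k) (c : j.C), ψ k (f.1 c) = ψ j c := by
    intro j k f c
    have := LiftZ.lift_unique (Jc B) (Jc_le B) ((ψ k).comp f.1) (ψ j) (fun c => by
      show Ideal.Quotient.mk (Jc B) (ψ k (f.1 c)) = Ideal.Quotient.mk (Jc B) (ψ j c)
      rw [hψ, hψ]
      show τ (k.γ (f.1 c)) = τ (j.γ c)
      rw [f.2])
    exact congr($this c)
  let φ : WLocZ.Aw A →ₐ[A] B := hullDesc ψ hcompat
  have hφP : ∀ x, Ideal.Quotient.mk (Jc B) (φ x) = τ (WLocZ.ε A x) := by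
    intro x
    obtain ⟨j, y, rfl⟩ := hullι_jointly_surjective A (TAbs.T A) x
    rw [hullDesc_ι, hψ]
    show τ (j.γ y) = τ (hullCounit A (TAbs.T A) (hullι A (TAbs.T A) j y))
    rw [hullCounit_ι]
  refine ⟨φ, ⟨Groth.Agent.Helper2.IndEtLift.isSpectralMap_comap _, ?_⟩, ?_⟩
  · intro x hx
    have hx' : x ∈ PrimeSpectrum.zeroLocus (Jc B : Set B) := by
      rw [zeroLocus_Jc hB]; exact hx
    have hker : RingHom.ker (Ideal.Quotient.mk (Jc B)) = Jc B := Ideal.mk_ker
    rw [← hker, ← range_comap_of_surjective _ _ Ideal.Quotient.mk_surjective] at hx'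
    obtain ⟨Q, rfl⟩ := hx'
    rw [PrimeSpectrum.isClosed_singleton_iff_isMaximal]
    have heq : (PrimeSpectrum.comap φ.toRingHom
        (PrimeSpectrum.comap (Ideal.Quotient.mk (Jc B)) Q)).asIdeal =
        (Q.asIdeal.comap τ.toRingHom).comap (WLocZ.ε A).toRingHom := by
      ext z
      show Ideal.Quotient.mk (Jc B) (φ z) ∈ Q.asIdeal ↔ τ (WLocZ.ε A z) ∈ Q.asIdeal
      rw [hφP]
    rw [heq]
    exact WLocZ.isMaximal_comap_ε A _
  · intro φ' hφ'
    exact huniq φ' φ (hkey φ' hφ') hφP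

/-- S0695 -/
theorem s0695 :
    ∃ (Aw : Type u) (_ : CommRing Aw) (_ : Algebra A Aw),
      Module.FaithfullyFlat A Aw ∧ EtPBC.IsIndZariski A Aw ∧ ProEtW.IsWLocal (PrimeSpectrum Aw) ∧
      ∀ (B : Type u) [CommRing B] [Algebra A B], ProEtW.IsWLocal (PrimeSpectrum B) →
        ∃! φ : Aw →ₐ[A] B, ProEtW.IsWLocalMap (PrimeSpectrum.comap φ.toRingHom) :=
  ⟨WLocZ.Aw A, inferInstance, inferInstance, WLocZ.faithfullyFlat A,
    isIndZariski_hull A (TAbs.T A), WLocZ.isWLocal A,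
    fun B _ _ hB => existsUnique_wLocal A B hB⟩

end Groth.Agent.Helper2.WLocUniv
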