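import Mathlib
import Groth.Prelude
import Groth.Agent.Helper3.HensQF
import Groth.Agent.Helper3.StrictHensFinite
import Groth.Agent.Helper2.WLocUniv

set_option autoImplicit false
universe u
open CategoryTheory CategoryTheory.Limits TensorProduct

namespace Groth.Agent.Helper2.FinWL

open Groth.Agent.Helper3

/-- in a finite algebra over a henselian local ring every prime lies in a unique maximal ideal -/
theorem maximal_unique (R : Type u) [CommRing R] [HenselianLocalRing R]
    (T : Type u) [CommRing T] [Algebra R T] [Module.Finite R T]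
    (Q : Ideal T) [hQ : Q.IsPrime] (N₁ N₂ : Ideal T) [h₁ : N₁.IsMaximal] [h₂ : N₂.IsMaximal]
    (hQ₁ : Q ≤ N₁) (hQ₂ : Q ≤ N₂) : N₁ = N₂ := by
  by_contra hne
  obtain ⟨ε, hε, hε₁, hεy⟩ := HensQF.exists_idem_finite R T N₁
  -- ε ∈ N₂
  have hε₂ : ε ∈ N₂ := by
    by_contra hε₂
    have hnle : ¬ N₂ ≤ N₁ := fun hle => hne (h₂.eq_of_le h₁.ne_top hle).symm
    obtain ⟨y, hy₂, hy₁⟩ := SetLike.not_le_iff_exists.mp hnle
    obtain ⟨s, hs⟩ := hεy y hy₁
    apply hε₂
    rw [← hs]
    exact N₂.mul_mem_right _ (N₂.mul_mem_left _ hy₂)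
  have hprod : ε * (1 - ε) ∈ Q := by
    have : ε * (1 - ε) = 0 := by rw [mul_sub, mul_one, hε.eq, sub_self]
    rw [this]; exact Q.zero_mem
  rcases hQ.mem_or_mem hprod with h | h
  · exact hε₁ (hQ₁ h)
  · have h1 : (1 : T) ∈ N₂ := by
      have := N₂.add_mem (hQ₂ h) hε₂
      rwa [sub_add_cancel] at this
    exact h₂.ne_top ((Ideal.eq_top_iff_one _).mpr h1)

variable (A B : Type u) [CommRing A] [CommRing B] [Algebra A B] [Module.Finite A B]

theorem isMaximal_iff_comap (n : Ideal B) [n.IsPrime] :
    n.IsMaximal ↔ (n.comap (algebraMap A B)).IsMaximal := by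
  haveI : Algebra.IsIntegral A B := Algebra.IsIntegral.of_finite A B
  constructor
  · intro h
    exact Ideal.isMaximal_comap_of_isIntegral_of_isMaximal (R := A) n
  · intro h
    exact Ideal.isMaximal_of_isIntegral_of_isMaximal_comap (R := A) n h

theorem closedPoints_eq :
    ProEtW.closedPoints (PrimeSpectrum B) =
      PrimeSpectrum.comap (algebraMap A B) ⁻¹' ProEtW.closedPoints (PrimeSpectrum A) := by
  ext x
  simp only [ProEtW.closedPoints, Set.mem_setOf_eq, Set.mem_preimage,
    PrimeSpectrum.isClosed_singleton_iff_isMaximal]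
  exact isMaximal_iff_comap A B x.asIdeal

variable {A B}

theorem disjoint_of_comap_le (m : Ideal A) [m.IsPrime] (q : Ideal B)
    (hq : q.comap (algebraMap A B) ≤ m) :
    Disjoint (Algebra.algebraMapSubmonoid B m.primeCompl : Set B) (q : Set B) := by
  rw [Set.disjoint_left]
  rintro x ⟨a, ha, rfl⟩ hx
  exact ha (hq hx)

theorem maximal_unique_of_wLocal (hA : ProEtW.IsWLocal (PrimeSpectrum A))
    (hH : ∀ (m : Ideal A) [m.IsMaximal], HenselianLocalRing (Localization.AtPrime m))
    (q : Ideal B) [hq : q.IsPrime] (n₁ n₂ : Ideal B) [hn₁ : n₁.IsMaximal] [hn₂ : n₂.IsMaximal]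
    (h₁ : q ≤ n₁) (h₂ : q ≤ n₂) : n₁ = n₂ := by
  haveI : Algebra.IsIntegral A B := Algebra.IsIntegral.of_finite A B
  set m := n₁.comap (algebraMap A B) with hm
  haveI hmmax : m.IsMaximal := Ideal.isMaximal_comap_of_isIntegral_of_isMaximal (R := A) n₁
  have hm'max : (n₂.comap (algebraMap A B)).IsMaximal :=
    Ideal.isMaximal_comap_of_isIntegral_of_isMaximal (R := A) n₂
  -- the two contractions agree
  have hm2 : n₂.comap (algebraMap A B) = m := by
    obtain ⟨y, _, huniq⟩ := hA.2.2 ⟨q.comap (algebraMap A B), Ideal.comap_isPrime _ _⟩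
    have e1 := huniq ⟨m, hmmax.isPrime⟩
      ⟨(PrimeSpectrum.isClosed_singleton_iff_isMaximal _).mpr hmmax,
        (PrimeSpectrum.le_iff_specializes _ _).mp (Ideal.comap_mono h₁)⟩
    have e2 := huniq ⟨n₂.comap (algebraMap A B), hm'max.isPrime⟩
      ⟨(PrimeSpectrum.isClosed_singleton_iff_isMaximal _).mpr hm'max,
        (PrimeSpectrum.le_iff_specializes _ _).mp (Ideal.comap_mono h₂)⟩
    have := e2.trans e1.symm
    exact congrArg PrimeSpectrum.asIdeal this
  haveI := hH m
  set M := Algebra.algebraMapSubmonoid B m.primeCompl with hM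
  let T := Localization M
  have hd₁ : Disjoint (M : Set B) (n₁ : Set B) := disjoint_of_comap_le m n₁ le_rfl
  have hd₂ : Disjoint (M : Set B) (n₂ : Set B) := disjoint_of_comap_le m n₂ hm2.le
  have hdq : Disjoint (M : Set B) (q : Set B) := disjoint_of_comap_le m q (Ideal.comap_mono h₁)
  haveI hQ : (q.map (algebraMap B T)).IsPrime :=
    IsLocalization.isPrime_of_isPrime_disjoint M T q hq hdq
  have hN₁ : (n₁.map (algebraMap B T)) ≠ ⊤ :=
    (IsLocalization.isPrime_of_isPrime_disjoint M T n₁ hn₁.isPrime hd₁).ne_top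
  have hN₂ : (n₂.map (algebraMap B T)) ≠ ⊤ :=
    (IsLocalization.isPrime_of_isPrime_disjoint M T n₂ hn₂.isPrime hd₂).ne_top
  obtain ⟨N₁, hN₁max, hN₁le⟩ := Ideal.exists_le_maximal _ hN₁
  obtain ⟨N₂, hN₂max, hN₂le⟩ := Ideal.exists_le_maximal _ hN₂
  have hc₁ : n₁ = N₁.comap (algebraMap B T) :=
    hn₁.eq_of_le (Ideal.comap_ne_top _ hN₁max.ne_top)
      (Ideal.map_le_iff_le_comap.mp hN₁le)
  have hc₂ : n₂ = N₂.comap (algebraMap B T) :=
    hn₂.eq_of_le (Ideal.comap_ne_top _ hN₂max.ne_top)
      (Ideal.map_le_iff_le_comap.mp hN₂le)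
  have hEq : N₁ = N₂ :=
    maximal_unique (Localization.AtPrime m) T (q.map (algebraMap B T)) N₁ N₂
      ((Ideal.map_mono h₁).trans hN₁le) ((Ideal.map_mono h₂).trans hN₂le)
  rw [hc₁, hc₂, hEq]

variable (A B)

theorem isWLocal (hA : ProEtW.IsWLocal (PrimeSpectrum A))
    (hH : ∀ (m : Ideal A) [m.IsMaximal], HenselianLocalRing (Localization.AtPrime m)) :
    ProEtW.IsWLocal (PrimeSpectrum B) := by
  refine ⟨inferInstance, ?_, ?_⟩
  · have h := closedPoints_eq A B
    rw [ProEtW.closedPoints] at h
    rw [h]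
    exact hA.2.1.preimage (PrimeSpectrum.continuous_comap _)
  · intro x
    obtain ⟨n, hn, hle⟩ := Ideal.exists_le_maximal x.asIdeal x.2.ne_top
    refine ⟨⟨n, hn.isPrime⟩, ⟨(PrimeSpectrum.isClosed_singleton_iff_isMaximal _).mpr hn,
      (PrimeSpectrum.le_iff_specializes _ _).mp hle⟩, ?_⟩
    rintro y ⟨hy, hxy⟩
    have hymax := (PrimeSpectrum.isClosed_singleton_iff_isMaximal _).mp hy
    have hle' := (PrimeSpectrum.le_iff_specializes _ _).mpr hxy
    haveI := x.2
    have := maximal_unique_of_wLocal hA hH x.asIdeal y.asIdeal n hle' hle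
    exact PrimeSpectrum.ext this

/-- the local rings of `B` at maximal ideals are finite over those of `A` -/
theorem finite_localRingHom
    (hH : ∀ (m : Ideal A) [m.IsMaximal], HenselianLocalRing (Localization.AtPrime m))
    (n : Ideal B) [hn : n.IsMaximal] :
    (Localization.localRingHom (n.comap (algebraMap A B)) n (algebraMap A B) rfl).Finite := by
  haveI : Algebra.IsIntegral A B := Algebra.IsIntegral.of_finite A B
  set m := n.comap (algebraMap A B) with hm
  haveI hmmax : m.IsMaximal := Ideal.isMaximal_comap_of_isIntegral_of_isMaximal (R := A) n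
  haveI := hH m
  set M := Algebra.algebraMapSubmonoid B m.primeCompl with hM
  let T := Localization M
  let R := Localization.AtPrime m
  let Bn := Localization.AtPrime n
  have hunit : ∀ y : M, IsUnit (algebraMap B Bn y) := by
    rintro ⟨y, a, ha, rfl⟩
    apply IsLocalization.map_units Bn (⟨algebraMap A B a, ?_⟩ : n.primeCompl)
    exact fun h => ha h
  let g : T →+* Bn := IsLocalization.lift (M := M) hunit
  have hg : ∀ b : B, g (algebraMap B T b) = algebraMap B Bn b := fun b =>
    IsLocalization.lift_eq hunit b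
  -- the factorization
  have hfac : Localization.localRingHom m n (algebraMap A B) rfl = g.comp (algebraMap R T) := by
    apply IsLocalization.ringHom_ext m.primeCompl
    ext a
    simp only [RingHom.comp_apply, Localization.localRingHom_to_map]
    rw [← IsScalarTower.algebraMap_apply A R T, IsScalarTower.algebraMap_apply A B T, hg]
  -- surjectivity of g
  have hsurj : Function.Surjective g := by
    set N := (IsLocalRing.maximalIdeal Bn).comap g with hN
    haveI hNprime : N.IsPrime := Ideal.comap_isPrime _ _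
    haveI : Algebra.IsIntegral R T := Algebra.IsIntegral.of_finite R T
    haveI hNmax : N.IsMaximal := by
      apply Ideal.isMaximal_of_isIntegral_of_isMaximal_comap (R := R) N
      have : N.comap (algebraMap R T) = IsLocalRing.maximalIdeal R := by
        rw [hN, Ideal.comap_comap, ← hfac]
        exact ((IsLocalRing.local_hom_TFAE
          (Localization.localRingHom m n (algebraMap A B) rfl)).out 0 4).mp
          (Localization.isLocalHom_localRingHom m n (algebraMap A B) rfl)
      rw [this]
      exact IsLocalRing.maximalIdeal.isMaximal R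
    intro z
    obtain ⟨b, s, rfl⟩ := IsLocalization.exists_mk'_eq n.primeCompl z
    obtain ⟨ε, hε, hεN, hεy⟩ := HensQF.exists_idem_finite R T N
    have hsN : algebraMap B T s ∉ N := by
      rw [hN, Ideal.mem_comap, hg]
      intro h
      exact (IsLocalRing.mem_maximalIdeal _).mp h (IsLocalization.map_units Bn s)
    obtain ⟨σ, hσ⟩ := hεy _ hsN
    have hεu : IsUnit (g ε) := by
      by_contra h
      exact hεN ((IsLocalRing.mem_maximalIdeal _).mpr h)
    have h1 : algebraMap B Bn s * g σ = 1 := by
      have := congrArg g hσ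
      rw [map_mul, map_mul, hg, mul_assoc] at this
      exact hεu.mul_left_cancel (by rw [this, mul_one])
    refine ⟨algebraMap B T b * σ, ?_⟩
    rw [map_mul, hg, IsLocalization.eq_mk'_iff_mul_eq, mul_assoc, mul_comm (g σ), h1, mul_one]
  rw [hfac]
  exact (RingHom.Finite.of_surjective g hsurj).comp
    (show (algebraMap R T).Finite from (inferInstance : Module.Finite R T))

theorem isStrictlyHenselian
    (hSH : ∀ (m : Ideal A) [m.IsMaximal],
      EtCoh.IsStrictlyHenselianLocalRing (Localization.AtPrime m))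
    (n : Ideal B) [hn : n.IsMaximal] :
    EtCoh.IsStrictlyHenselianLocalRing (Localization.AtPrime n) := by
  haveI : Algebra.IsIntegral A B := Algebra.IsIntegral.of_finite A B
  haveI hmmax : (n.comap (algebraMap A B)).IsMaximal :=
    Ideal.isMaximal_comap_of_isIntegral_of_isMaximal (R := A) n
  have hfin := finite_localRingHom A B (fun m _ => (hSH m).choose) n
  exact StrictHensFinite.main _ hfin (hSH _)

end Groth.Agent.Helper2.FinWL
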