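import Mathlib
import Groth.Prelude
import Groth.Agent.Helper2.HullWLocB

set_option autoImplicit false
universe u
open CategoryTheory CategoryTheory.Limits TensorProduct

namespace Groth.Agent.Helper2.IndEtLift

open Groth.Agent.Helper2.IndEtCrit

section Family

variable (A B : Type u) [CommRing A] [CommRing B] [Algebra A B]

/-- algebraic closures of all residue fields of `A` and of `B` -/
def OmAB : PrimeSpectrum A ⊕ PrimeSpectrum B → Type u
  | Sum.inl x => AC A x
  | Sum.inr y => AC B y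

noncomputable instance instFieldOmAB : ∀ z, Field (OmAB A B z)
  | Sum.inl x => inferInstanceAs (Field (AC A x))
  | Sum.inr y => inferInstanceAs (Field (AC B y))

instance instIsAlgClosedOmAB : ∀ z, IsAlgClosed (OmAB A B z)
  | Sum.inl x => inferInstanceAs (IsAlgClosed (AC A x))
  | Sum.inr y => inferInstanceAs (IsAlgClosed (AC B y))

noncomputable instance instAlgebraOmAB : ∀ z, Algebra A (OmAB A B z)
  | Sum.inl x => inferInstanceAs (Algebra A (AC A x))
  | Sum.inr y => inferInstanceAs (Algebra A (AC B y))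

/-- projection to the `B`-part -/
noncomputable def projB : (Π z, OmAB A B z) →ₐ[A] (Π y, AC B y) :=
  Pi.algHom A (fun y => AC B y) (fun y => Pi.evalAlgHom A (OmAB A B) (Sum.inr y))

end Family

section Main

variable (A B : Type u) [CommRing A] [CommRing B] [Algebra A B]

theorem exists_closedPoint_over_A (x : PrimeSpectrum A) :
    ∃ c ∈ ProEtW.closedPoints (PrimeSpectrum (Hull A (Π z, OmAB A B z))),
      PrimeSpectrum.comap (algebraMap A (Hull A (Π z, OmAB A B z))) c = x := by
  let ev : (Π z, OmAB A B z) →+* AC A x := Pi.evalRingHom (OmAB A B) (Sum.inl x)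
  refine ⟨PrimeSpectrum.comap (hullCounit A (Π z, OmAB A B z)).toRingHom
    ⟨RingHom.ker ev, RingHom.ker_isPrime _⟩, ?_, ?_⟩
  · rw [closedPoints_hull]
    exact ⟨_, rfl⟩
  · apply PrimeSpectrum.ext
    ext a
    show ev (hullCounit A (Π z, OmAB A B z) (algebraMap A _ a)) = 0 ↔ a ∈ x.asIdeal
    rw [(hullCounit A (Π z, OmAB A B z)).commutes]
    show algebraMap A (AC A x) a = 0 ↔ _
    exact algebraMap_AC_eq_zero A x a

theorem exists_closedPoint_over (y : PrimeSpectrum B) :
    ∃ c ∈ ProEtW.closedPoints (PrimeSpectrum (Hull B (Π y, AC B y))),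
      PrimeSpectrum.comap (algebraMap B (Hull B (Π y, AC B y))) c = y := by
  let ev : (Π y, AC B y) →+* AC B y := Pi.evalRingHom (AC B) y
  refine ⟨PrimeSpectrum.comap (hullCounit B (Π y, AC B y)).toRingHom
    ⟨RingHom.ker ev, RingHom.ker_isPrime _⟩, ?_, ?_⟩
  · rw [closedPoints_hull]
    exact ⟨_, rfl⟩
  · apply PrimeSpectrum.ext
    ext a
    show ev (hullCounit B (Π y, AC B y) (algebraMap B _ a)) = 0 ↔ a ∈ y.asIdeal
    rw [(hullCounit B (Π y, AC B y)).commutes]
    show algebraMap B (AC B y) a = 0 ↔ _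
    exact algebraMap_AC_eq_zero B y a

theorem s0692 (h : ProEtW.AlgebraicResidueExtensions A B) :
    ∃ (C D : Type u) (_ : CommRing C) (_ : CommRing D) (_ : Algebra A C) (_ : Algebra B D)
      (_ : Algebra C D) (_ : Algebra A D) (_ : IsScalarTower A C D) (_ : IsScalarTower A B D),
      Module.FaithfullyFlat A C ∧ EtPBC.IsIndEtale A C ∧ Module.FaithfullyFlat B D ∧
      EtPBC.IsIndEtale B D ∧ ProEtW.IsWLocal (PrimeSpectrum C) ∧ ProEtW.IsWLocal (PrimeSpectrum D) ∧
      ProEtW.IsWLocalMap (PrimeSpectrum.comap (algebraMap C D)) ∧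
      ProEtW.closedPoints (PrimeSpectrum D) =
        PrimeSpectrum.comap (algebraMap C D) ⁻¹' ProEtW.closedPoints (PrimeSpectrum C) ∧
      PrimeSpectrum.comap (algebraMap A C) '' ProEtW.closedPoints (PrimeSpectrum C) = Set.univ ∧
      PrimeSpectrum.comap (algebraMap B D) '' ProEtW.closedPoints (PrimeSpectrum D) = Set.univ ∧
      ∀ (m : Ideal C) [m.IsMaximal], EtCoh.IsStrictlyHenselianLocalRing (Localization.AtPrime m) := by
  classical
  let θ : Hull A (Π z, OmAB A B z) →ₐ[A] (Π y, AC B y) :=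
    (projB A B).comp (hullCounit A (Π z, OmAB A B z))
  obtain ⟨s, hs1, hs2⟩ := exists_hull_map A B (Hull A (Π z, OmAB A B z)) (isIndEtale_hull A _)
    (Π y, AC B y) θ
  letI algCD : Algebra (Hull A (Π z, OmAB A B z)) (Hull B (Π y, AC B y)) := s.toAlgebra
  letI algAD : Algebra A (Hull B (Π y, AC B y)) :=
    ((algebraMap B (Hull B (Π y, AC B y))).comp (algebraMap A B)).toAlgebra
  have tow1 : IsScalarTower A (Hull A (Π z, OmAB A B z)) (Hull B (Π y, AC B y)) :=
    IsScalarTower.of_algebraMap_eq (fun a => (hs2 a).symm)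
  have tow2 : IsScalarTower A B (Hull B (Π y, AC B y)) :=
    IsScalarTower.of_algebraMap_eq (fun _ => rfl)
  -- contraction of closed points
  have hcomap : ∀ P : PrimeSpectrum (Π y, AC B y),
      PrimeSpectrum.comap s (PrimeSpectrum.comap (hullCounit B (Π y, AC B y)).toRingHom P) =
        PrimeSpectrum.comap (hullCounit A (Π z, OmAB A B z)).toRingHom
          (PrimeSpectrum.comap (projB A B).toRingHom P) := by
    intro P
    apply PrimeSpectrum.ext
    ext c
    show hullCounit B (Π y, AC B y) (s c) ∈ P.asIdeal ↔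
      projB A B (hullCounit A (Π z, OmAB A B z) c) ∈ P.asIdeal
    rw [hs1]
    rfl
  have hclosedmap : ∀ y : PrimeSpectrum (Hull B (Π y, AC B y)),
      y ∈ ProEtW.closedPoints (PrimeSpectrum (Hull B (Π y, AC B y))) →
      PrimeSpectrum.comap s y ∈ ProEtW.closedPoints (PrimeSpectrum (Hull A (Π z, OmAB A B z))) := by
    intro y hy
    rw [closedPoints_hull] at hy ⊢
    obtain ⟨P, rfl⟩ := hy
    exact ⟨_, (hcomap P).symm⟩
  have hflatC : Module.Flat A (Hull A (Π z, OmAB A B z)) := by
    haveI : Algebra.WeaklyEtale A (Hull A (Π z, OmAB A B z)) :=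
      Groth.Agent.Lead.IndEtale.weaklyEtale_of_isIndEtale (isIndEtale_hull A _)
    infer_instance
  refine ⟨Hull A (Π z, OmAB A B z), Hull B (Π y, AC B y), inferInstance, inferInstance,
    inferInstance, inferInstance, algCD, algAD, tow1, tow2, ?_, isIndEtale_hull A _,
    faithfullyFlat_hull_AC B, isIndEtale_hull B _, isWLocal_hull A (OmAB A B),
    isWLocal_hull B (AC B), ⟨isSpectralMap_comap s, fun y hy => hclosedmap y hy⟩, ?_, ?_, ?_, ?_⟩
  · apply Module.FaithfullyFlat.of_comap_surjective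
    intro x
    obtain ⟨c, -, hc⟩ := exists_closedPoint_over_A A B x
    exact ⟨c, hc⟩
  · ext 𝔮
    constructor
    · exact hclosedmap 𝔮
    · intro hq
      have hq' : IsClosed ({PrimeSpectrum.comap s 𝔮} : Set _) := hq
      rw [PrimeSpectrum.isClosed_singleton_iff_isMaximal] at hq'
      show IsClosed ({𝔮} : Set _)
      rw [PrimeSpectrum.isClosed_singleton_iff_isMaximal]
      obtain ⟨𝔫, h𝔫, hle⟩ := Ideal.exists_le_maximal 𝔮.asIdeal 𝔮.2.ne_top
      have hmeq : 𝔫.comap s = 𝔮.asIdeal.comap s :=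
        (hq'.eq_of_le (Ideal.comap_ne_top _ h𝔫.ne_top) (Ideal.comap_mono hle)).symm
      have heq : 𝔮.asIdeal = 𝔫 := by
        apply le_antisymm hle
        intro x hx𝔫
        by_contra hx𝔮
        haveI := 𝔮.2
        obtain ⟨b, hb𝔫, hb𝔮⟩ := exists_mem_of_isAlgebraic (R := B) 𝔮.asIdeal 𝔫 hle
          (isAlgebraic_quotient_of_isIndEtale B _ (isIndEtale_hull B _) 𝔮.asIdeal) x hx𝔫 hx𝔮
        haveI : (𝔮.asIdeal.comap (algebraMap B (Hull B (Π y, AC B y)))).IsPrime :=
          Ideal.comap_isPrime _ _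
        obtain ⟨a, ha𝔫, ha𝔮⟩ := exists_mem_of_isAlgebraic (R := A)
          (𝔮.asIdeal.comap (algebraMap B (Hull B (Π y, AC B y))))
          (𝔫.comap (algebraMap B (Hull B (Π y, AC B y)))) (Ideal.comap_mono hle)
          (h (𝔮.asIdeal.comap (algebraMap B (Hull B (Π y, AC B y))))) b hb𝔫 hb𝔮
        have h1 : algebraMap A (Hull A (Π z, OmAB A B z)) a ∈ 𝔫.comap s := by
          show s (algebraMap A _ a) ∈ 𝔫
          rw [hs2]
          exact ha𝔫
        rw [hmeq] at h1
        apply ha𝔮
        show algebraMap B (Hull B (Π y, AC B y)) (algebraMap A B a) ∈ 𝔮.asIdeal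
        rw [← hs2]
        exact h1
      rw [heq]
      exact h𝔫
  · rw [Set.eq_univ_iff_forall]
    intro x
    obtain ⟨c, hc, hcx⟩ := exists_closedPoint_over_A A B x
    exact ⟨c, hc, hcx⟩
  · rw [Set.eq_univ_iff_forall]
    intro y
    obtain ⟨c, hc, hcy⟩ := exists_closedPoint_over B y
    exact ⟨c, hc, hcy⟩
  · intro m hm
    exact Groth.Agent.Helper9.EtRetrF.main _ (hasEtaleRetractions_hull A (OmAB A B)) m

end Main

end Groth.Agent.Helper2.IndEtLift
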