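import Mathlib
import Groth.Prelude
import Groth.Agent.Helper2.HullWLocC
import Groth.Agent.Helper6.SpecTop

set_option autoImplicit false
universe u
open CategoryTheory CategoryTheory.Limits TensorProduct

namespace Groth.Agent.Helper2.WCtr

open Groth.Agent.Helper2.IndEtCrit Groth.Agent.Helper2.IndEtLift

section PiField

variable {Y : Type u} (Ω : Y → Type u) [∀ y, Field (Ω y)]

/-- the principal point of the spectrum of a product of fields -/
noncomputable def pt (y : Y) : PrimeSpectrum (Π y, Ω y) :=
  ⟨RingHom.ker (Pi.evalRingHom Ω y), RingHom.ker_isPrime _⟩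

theorem mem_pt (y : Y) (f : Π y, Ω y) : f ∈ (pt Ω y).asIdeal ↔ f y = 0 := Iff.rfl

open Classical in
/-- the spectrum of a product of fields is extremally disconnected -/
theorem extremallyDisconnected_spec_pi : ExtremallyDisconnected (PrimeSpectrum (Π y, Ω y)) := by
  refine ⟨fun U hU => ?_⟩
  let S : Set Y := {y | pt Ω y ∈ U}
  let t : Π y, Ω y := fun y => if y ∈ S then 1 else 0
  have ht : IsIdempotentElem t := by
    funext y
    show t y * t y = t y
    by_cases hy : y ∈ S <;> simp [t, hy]
  suffices h : closure U = (PrimeSpectrum.basicOpen t : Set (PrimeSpectrum (Π y, Ω y))) by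
    rw [h]
    exact (PrimeSpectrum.basicOpen t).2
  apply le_antisymm
  · have hcl : IsClosed (PrimeSpectrum.basicOpen t : Set (PrimeSpectrum (Π y, Ω y))) :=
      (PrimeSpectrum.isClopen_iff.mpr ⟨t, ht, rfl⟩).1
    apply closure_minimal _ hcl
    intro P hP
    obtain ⟨_, ⟨f, rfl⟩, hPf, hfU⟩ :=
      PrimeSpectrum.isTopologicalBasis_basic_opens.exists_subset_of_mem_open hP hU
    show t ∉ P.asIdeal
    intro htP
    apply hPf
    have : f = f * t := by
      funext y
      show f y = f y * t y
      by_cases hy : f y = 0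
      · rw [hy, zero_mul]
      · have hyS : y ∈ S := hfU (show f ∉ (pt Ω y).asIdeal from hy)
        simp [t, hyS]
    show f ∈ P.asIdeal
    rw [this]
    exact P.asIdeal.mul_mem_left _ htP
  · intro P hP
    have hP' : t ∉ P.asIdeal := hP
    rw [PrimeSpectrum.isTopologicalBasis_basic_opens.mem_closure_iff]
    rintro _ ⟨f, rfl⟩ hPf
    have hPf' : f ∉ P.asIdeal := hPf
    have hft : f * t ≠ 0 := by
      intro h0
      have : f * t ∈ P.asIdeal := by rw [h0]; exact P.asIdeal.zero_mem
      rcases P.2.mem_or_mem this with h | h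
      · exact hPf' h
      · exact hP' h
    obtain ⟨y, hy⟩ : ∃ y, (f * t) y ≠ 0 := by
      by_contra hne
      push_neg at hne
      exact hft (funext hne)
    have hy' : f y * t y ≠ 0 := hy
    have hyS : y ∈ S := by
      by_contra hyS
      apply hy'
      simp [t, hyS]
    have hfy : f y ≠ 0 := fun h => hy' (by rw [h, zero_mul])
    exact ⟨pt Ω y, hfy, hyS⟩

end PiField

section Top

/-- a retract of an extremally disconnected space is extremally disconnected -/
theorem extremallyDisconnected_of_retract {X P : Type*} [TopologicalSpace X] [TopologicalSpace P]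
    [ExtremallyDisconnected P] (i : X → P) (p : P → X) (hi : Continuous i) (hp : Continuous p)
    (h : ∀ x, p (i x) = x) : ExtremallyDisconnected X := by
  refine ⟨fun U hU => ?_⟩
  have hopen : IsOpen (closure (p ⁻¹' U)) :=
    ExtremallyDisconnected.open_closure _ (hU.preimage hp)
  have : closure U = i ⁻¹' (closure (p ⁻¹' U)) := by
    apply le_antisymm
    · apply closure_minimal _ (isClosed_closure.preimage hi)
      intro x hx
      exact subset_closure (show p (i x) ∈ U by rw [h]; exact hx)
    · intro x hx
      have h1 : p (i x) ∈ closure U :=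
        map_mem_closure hp hx (t := U) (fun y hy => hy)
      rwa [h] at h1
  rw [this]
  exact hopen.preimage hi

/-- a spectral space admitting a closed embedding into a w-local space is w-local -/
theorem isWLocal_of_isClosedEmbedding {X Y : Type u} [TopologicalSpace X] [TopologicalSpace Y]
    [SpectralSpace X] (hY : ProEtW.IsWLocal Y) (f : X → Y) (hf : Topology.IsClosedEmbedding f) :
    ProEtW.IsWLocal X := by
  have hcl : ∀ x : X, IsClosed ({x} : Set X) ↔ IsClosed ({f x} : Set Y) := by
    intro x
    constructor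
    · intro hx
      have := hf.isClosedMap _ hx
      rwa [Set.image_singleton] at this
    · intro hx
      have : ({x} : Set X) = f ⁻¹' {f x} := by
        ext x'
        simp [hf.injective.eq_iff]
      rw [this]
      exact hx.preimage hf.continuous
  refine ⟨inferInstance, ?_, ?_⟩
  · have : {x : X | IsClosed ({x} : Set X)} = f ⁻¹' {y | IsClosed ({y} : Set Y)} := by
      ext x
      exact hcl x
    rw [this]
    exact hY.2.1.preimage hf.continuous
  · intro x
    obtain ⟨c, ⟨hc, hxc⟩, huniq⟩ := hY.2.2 (f x)
    have hcr : c ∈ Set.range f :=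
      hf.isClosed_range.stableUnderSpecialization hxc ⟨x, rfl⟩
    obtain ⟨y, rfl⟩ := hcr
    refine ⟨y, ⟨(hcl y).mpr hc, hf.isInducing.specializes_iff.mp hxc⟩, ?_⟩
    rintro y' ⟨hy', hxy'⟩
    apply hf.injective
    exact huniq (f y') ⟨(hcl y').mp hy', hxy'.map hf.continuous⟩

end Top

section HullCC

variable (A : Type u) [CommRing A] {Y : Type u} (Ω : Y → Type u) [∀ y, Field (Ω y)]
  [Algebra A (Π y, Ω y)]

/-- the map from the spectrum of the product to the components of the spectrum of the hull -/
noncomputable def jmap (P : PrimeSpectrum (Π y, Ω y)) :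
    _root_.ConnectedComponents (PrimeSpectrum (Hull A (Π y, Ω y))) :=
  ConnectedComponents.mk (PrimeSpectrum.comap (hullCounit A (Π y, Ω y)).toRingHom P)

theorem continuous_jmap : Continuous (jmap A Ω) :=
  ConnectedComponents.continuous_coe.comp
    (PrimeSpectrum.continuous_comap (hullCounit A (Π y, Ω y)).toRingHom)

theorem jmap_surjective : Function.Surjective (jmap A Ω) := by
  intro c
  obtain ⟨x, rfl⟩ := ConnectedComponents.surjective_coe c
  obtain ⟨m, ⟨hm, hxm⟩, -⟩ := (isWLocal_hull A Ω).2.2 x
  have hm' : m ∈ ProEtW.closedPoints _ := hm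
  rw [closedPoints_hull] at hm'
  obtain ⟨P, rfl⟩ := hm'
  exact ⟨P, Groth.Agent.Helper6.SpecTop.mk_eq_of_specializes hxm⟩

open Classical in
theorem jmap_ne (P₁ P₂ : PrimeSpectrum (Π y, Ω y)) (hnle : ¬ P₁.asIdeal ≤ P₂.asIdeal) :
    jmap A Ω P₁ ≠ jmap A Ω P₂ := by
  obtain ⟨f, hf1, hf2⟩ := Set.not_subset.mp hnle
  obtain ⟨c, hci, hc, -⟩ := exists_glue A Ω {y | f y ≠ 0} 0 0
  have ht1 : hullCounit A (Π y, Ω y) c ∈ P₁.asIdeal := by
    have : hullCounit A (Π y, Ω y) c = f * (fun y => (f y)⁻¹) := by
      funext y
      rw [hc y]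
      show _ = f y * (f y)⁻¹
      by_cases hy : f y ≠ 0
      · rw [if_pos (show y ∈ {y | f y ≠ 0} from hy), mul_inv_cancel₀ hy]
      · rw [if_neg (show y ∉ {y | f y ≠ 0} from hy)]
        rw [not_not] at hy
        rw [hy, zero_mul]
    rw [this]
    exact P₁.asIdeal.mul_mem_right _ hf1
  have ht2 : hullCounit A (Π y, Ω y) c ∉ P₂.asIdeal := by
    intro h
    apply hf2
    have : f = f * hullCounit A (Π y, Ω y) c := by
      funext y
      show f y = f y * hullCounit A (Π y, Ω y) c y
      rw [hc y]
      by_cases hy : f y ≠ 0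
      · rw [if_pos (show y ∈ {y | f y ≠ 0} from hy), mul_one]
      · rw [if_neg (show y ∉ {y | f y ≠ 0} from hy)]
        rw [not_not] at hy
        rw [hy, zero_mul]
    show f ∈ P₂.asIdeal
    rw [this]
    exact P₂.asIdeal.mul_mem_left _ h
  have hU : IsClopen (PrimeSpectrum.basicOpen c : Set (PrimeSpectrum (Hull A (Π y, Ω y)))) :=
    PrimeSpectrum.isClopen_iff.mpr ⟨c, hci, rfl⟩
  intro heq
  have hmem : PrimeSpectrum.comap (hullCounit A (Π y, Ω y)).toRingHom P₁ ∈
      connectedComponent (PrimeSpectrum.comap (hullCounit A (Π y, Ω y)).toRingHom P₂) :=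
    ConnectedComponents.coe_eq_coe'.mp heq
  have h2 : PrimeSpectrum.comap (hullCounit A (Π y, Ω y)).toRingHom P₂ ∈
      (PrimeSpectrum.basicOpen c : Set (PrimeSpectrum (Hull A (Π y, Ω y)))) := ht2
  exact hU.connectedComponent_subset h2 hmem ht1

theorem jmap_injective : Function.Injective (jmap A Ω) := by
  intro P₁ P₂ h
  by_contra hne
  have : ¬ P₁.asIdeal ≤ P₂.asIdeal ∨ ¬ P₂.asIdeal ≤ P₁.asIdeal := by
    by_contra hcon
    push Not at hcon
    exact hne (PrimeSpectrum.ext (le_antisymm hcon.1 hcon.2))
  rcases this with h1 | h1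
  · exact jmap_ne A Ω P₁ P₂ h1 h
  · exact jmap_ne A Ω P₂ P₁ h1 h.symm

/-- the space of components of the spectrum of the hull of a product of fields is extremally
disconnected -/
theorem extremallyDisconnected_cc_hull :
    ExtremallyDisconnected (_root_.ConnectedComponents (PrimeSpectrum (Hull A (Π y, Ω y)))) := by
  haveI : T2Space (_root_.ConnectedComponents (PrimeSpectrum (Hull A (Π y, Ω y)))) :=
    Groth.Agent.Helper6.SpecTop.t2_connectedComponents
  haveI := extremallyDisconnected_spec_pi Ω
  let e : PrimeSpectrum (Π y, Ω y) ≃ _root_.ConnectedComponents (PrimeSpectrum (Hull A (Π y, Ω y))) :=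
    Equiv.ofBijective (jmap A Ω) ⟨jmap_injective A Ω, jmap_surjective A Ω⟩
  exact extremallyDisconnected_of_homeo
    (Continuous.homeoOfEquivCompactToT2 (f := e) (continuous_jmap A Ω))

end HullCC

section Forward

/-- the forward direction of the characterization of w-contractible rings -/
theorem forward (A : Type u) [CommRing A] (hA : EtPBC.IsWContractible A) :
    ProEtW.IsWLocal (PrimeSpectrum A) ∧
      ExtremallyDisconnected (_root_.ConnectedComponents (PrimeSpectrum A)) ∧
      ∀ (m : Ideal A) [m.IsMaximal],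
        EtCoh.IsStrictlyHenselianLocalRing (Localization.AtPrime m) := by
  have hC_ff := faithfullyFlat_hull_AC A
  have hC_we : Algebra.WeaklyEtale A (Hull A (Π x, AC A x)) :=
    Groth.Agent.Lead.IndEtale.weaklyEtale_of_isIndEtale (isIndEtale_hull A _)
  obtain ⟨r⟩ := hA (Hull A (Π x, AC A x)) hC_ff hC_we
  have hr : ∀ a, r (algebraMap A _ a) = a := fun a => by rw [r.commutes]; rfl
  have hsurj : Function.Surjective r.toRingHom := fun a => ⟨algebraMap A _ a, hr a⟩
  have hemb := PrimeSpectrum.isClosedEmbedding_comap_of_surjective _ r.toRingHom hsurj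
  refine ⟨isWLocal_of_isClosedEmbedding (isWLocal_hull A (AC A)) _ hemb, ?_, ?_⟩
  · haveI := extremallyDisconnected_cc_hull A (AC A)
    have hf : Continuous (PrimeSpectrum.comap r.toRingHom) :=
      PrimeSpectrum.continuous_comap r.toRingHom
    have hg : Continuous (PrimeSpectrum.comap (algebraMap A (Hull A (Π x, AC A x)))) :=
      PrimeSpectrum.continuous_comap (algebraMap A (Hull A (Π x, AC A x)))
    refine extremallyDisconnected_of_retract hf.connectedComponentsMap hg.connectedComponentsMap
      hf.connectedComponentsMap_continuous hg.connectedComponentsMap_continuous ?_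
    intro c
    obtain ⟨x, rfl⟩ := ConnectedComponents.surjective_coe c
    show ConnectedComponents.mk (PrimeSpectrum.comap (algebraMap A (Hull A (Π x, AC A x)))
      (PrimeSpectrum.comap r.toRingHom x)) = ConnectedComponents.mk x
    congr 1
    apply PrimeSpectrum.ext
    ext a
    show r (algebraMap A _ a) ∈ x.asIdeal ↔ a ∈ x.asIdeal
    rw [hr]
  · intro m hm
    have hER : ProEtW.HasEtaleRetractions A := fun B _ _ hff het => hA B hff inferInstance
    exact Groth.Agent.Helper9.EtRetrF.main A hER m

end Forward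

end Groth.Agent.Helper2.WCtr
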