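import Mathlib
import Groth.Prelude
import Groth.Agent.Helper2.WCtrA
import Groth.Agent.Helper6.WLocalRing
import Groth.Agent.Helper6.IndZarT

set_option autoImplicit false
universe u
open CategoryTheory CategoryTheory.Limits TensorProduct

namespace Groth.Agent.Helper2.WCtr

open Groth.Agent.Helper2.IndEtCrit Groth.Agent.Helper2.IndEtLift Groth.Agent.Helper3.WEtale
open Groth.Agent.Helper6

section IdemQuot

variable (D : Type u) [CommRing D] (T : Set (_root_.ConnectedComponents (PrimeSpectrum D)))

/-- complements of the idempotents vanishing on the preimage of `T` -/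
def idemSubmonoid : Submonoid D where
  carrier := {s | ∃ e ∈ IndZarT.E D T, s = 1 - e}
  one_mem' := ⟨0, IndZarT.zero_mem D T, by simp⟩
  mul_mem' := by
    rintro _ _ ⟨a, ha, rfl⟩ ⟨f, hf, rfl⟩
    exact ⟨a + f - a * f, IndZarT.join_mem D T ha hf, by ring⟩

theorem exists_idem_of_mem_I {x : D} (hx : x ∈ IndZarT.I D T) :
    ∃ e ∈ IndZarT.E D T, x = x * e := by
  refine Submodule.span_induction (p := fun x _ => ∃ e ∈ IndZarT.E D T, x = x * e)
    ?_ ?_ ?_ ?_ hx
  · intro e he
    exact ⟨e, he, he.1.eq.symm⟩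
  · exact ⟨0, IndZarT.zero_mem D T, by simp⟩
  · rintro x y - - ⟨e₁, he₁, h₁⟩ ⟨e₂, he₂, h₂⟩
    refine ⟨e₁ + e₂ - e₁ * e₂, IndZarT.join_mem D T he₁ he₂, ?_⟩
    linear_combination (1 - e₂) * h₁ + (1 - e₁) * h₂
  · rintro a x - ⟨e, he, h⟩
    exact ⟨e, he, by rw [smul_eq_mul, mul_assoc, ← h]⟩

theorem isLocalization_quot : IsLocalization (idemSubmonoid D T) (D ⧸ IndZarT.I D T) := by
  rw [isLocalization_iff]
  refine ⟨?_, ?_, ?_⟩
  · rintro ⟨_, e, he, rfl⟩
    have h0 : algebraMap D (D ⧸ IndZarT.I D T) e = 0 :=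
      Ideal.Quotient.eq_zero_iff_mem.mpr (Ideal.subset_span he)
    have : algebraMap D (D ⧸ IndZarT.I D T) (1 - e) = 1 := by
      rw [map_sub, map_one, h0, sub_zero]
    show IsUnit (algebraMap D (D ⧸ IndZarT.I D T) (1 - e))
    rw [this]
    exact isUnit_one
  · intro z
    obtain ⟨d, rfl⟩ := Ideal.Quotient.mk_surjective z
    refine ⟨(d, 1), ?_⟩
    show _ * algebraMap D (D ⧸ IndZarT.I D T) 1 = algebraMap D (D ⧸ IndZarT.I D T) d
    rw [map_one, mul_one]
    rfl
  · intro a b hab
    have hmem : a - b ∈ IndZarT.I D T := Ideal.Quotient.eq.mp hab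
    obtain ⟨e, he, h⟩ := exists_idem_of_mem_I D T hmem
    refine ⟨⟨1 - e, e, he, rfl⟩, ?_⟩
    show (1 - e) * a = (1 - e) * b
    linear_combination h

end IdemQuot

/-- a weakly étale map is bijective on local rings over a strictly henselian local ring -/
theorem bijective_localRingHom_of_WE_of_SH {C D : Type u} [CommRing C] [CommRing D]
    (s : C →+* D) (hs : WE s) (n : Ideal D) [n.IsPrime]
    (hSH : EtCoh.IsStrictlyHenselianLocalRing (Localization.AtPrime (n.comap s))) :
    Function.Bijective (Localization.localRingHom (n.comap s) n s rfl) := by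
  have hloc := WE.localRingHom s hs n inferInstance
  rw [WE_iff] at hloc
  letI := (Localization.localRingHom (n.comap s) n s rfl).toAlgebra
  obtain ⟨hH, hsep⟩ := hSH
  haveI : IsLocalHom (algebraMap (Localization.AtPrime (n.comap s)) (Localization.AtPrime n)) :=
    Localization.isLocalHom_localRingHom _ _ _ rfl
  exact Groth.Agent.Helper2.Oliv.olivier _ _

section Bij

set_option backward.isDefEq.respectTransparency false in
set_option backward.isDefEq.respectTransparency.types false in
/-- variant of `Helper6.WLocalRing.bijective_of_closed_points` (same proof) which only needs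
bijectivity on the local rings at the chosen closed points -/
theorem bijective_of_closed_points' {A B : Type u} [CommRing A] [CommRing B] [Algebra A B]
    (hF : ∀ y : PrimeSpectrum A, IsClosed ({y} : Set (PrimeSpectrum A)) →
      ∃ x : PrimeSpectrum B,
        PrimeSpectrum.comap (algebraMap A B) x = y ∧
        Function.Bijective
          (Localization.localRingHom (x.asIdeal.comap (algebraMap A B)) x.asIdeal
            (algebraMap A B) rfl) ∧
        ∀ q : PrimeSpectrum B, PrimeSpectrum.comap (algebraMap A B) q ⤳ y → q ⤳ x) :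
    Function.Bijective (algebraMap A B) := by
  constructor
  · rw [injective_iff_map_eq_zero]
    intro a ha
    by_contra hne
    obtain ⟨I, hI⟩ : ∃ I : Ideal A, I = LinearMap.ker (LinearMap.toSpanSingleton A A a) :=
      ⟨_, rfl⟩
    have hmemI : ∀ r : A, r ∈ I ↔ r * a = 0 := by
      intro r
      rw [hI, LinearMap.mem_ker, LinearMap.toSpanSingleton_apply, smul_eq_mul]
    have hItop : I ≠ ⊤ := by
      intro h
      have h1' : (1 : A) ∈ I := h ▸ Submodule.mem_top
      rw [hmemI, one_mul] at h1'
      exact hne h1'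
    obtain ⟨m, hm, hIm⟩ := Ideal.exists_le_maximal I hItop
    have hcl : IsClosed ({(⟨m, hm.isPrime⟩ : PrimeSpectrum A)} : Set (PrimeSpectrum A)) :=
      (PrimeSpectrum.isClosed_singleton_iff_isMaximal _).mpr hm
    obtain ⟨x, hx, h1x, -⟩ := hF ⟨m, hm.isPrime⟩ hcl
    have hmx : x.asIdeal.comap (algebraMap A B) = m := congrArg PrimeSpectrum.asIdeal hx
    have h0 : Localization.localRingHom (x.asIdeal.comap (algebraMap A B)) x.asIdeal
        (algebraMap A B) rfl
        (algebraMap A (Localization.AtPrime (x.asIdeal.comap (algebraMap A B))) a) = 0 := by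
      rw [Localization.localRingHom_to_map, ha, map_zero]
    have h0' := h1x.1 (h0.trans (map_zero _).symm)
    rw [IsLocalization.map_eq_zero_iff (x.asIdeal.comap (algebraMap A B)).primeCompl] at h0'
    obtain ⟨s, hs⟩ := h0'
    have hsI : (s : A) ∈ I := (hmemI _).mpr hs
    have hsm : (s : A) ∈ x.asIdeal.comap (algebraMap A B) :=
      (SetLike.ext_iff.mp hmx (s : A)).mpr (hIm hsI)
    exact s.2 hsm
  · intro b
    obtain ⟨J, hJ⟩ : ∃ J : Ideal A, J = Submodule.comap (LinearMap.toSpanSingleton A B b)
        (LinearMap.range (Algebra.linearMap A B)) := ⟨_, rfl⟩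
    have hmemJ : ∀ r : A, r ∈ J ↔ ∃ a : A, algebraMap A B a = algebraMap A B r * b := by
      intro r
      rw [hJ, Submodule.mem_comap, LinearMap.mem_range, LinearMap.toSpanSingleton_apply]
      simp only [Algebra.linearMap_apply, Algebra.smul_def]
    by_cases hJtop : J = ⊤
    · have h1' : (1 : A) ∈ J := hJtop ▸ Submodule.mem_top
      obtain ⟨a, ha⟩ := (hmemJ 1).mp h1'
      exact ⟨a, by rw [ha, map_one, one_mul]⟩
    · exfalso
      obtain ⟨m, hm, hJm⟩ := Ideal.exists_le_maximal J hJtop
      have hcl : IsClosed ({(⟨m, hm.isPrime⟩ : PrimeSpectrum A)} : Set (PrimeSpectrum A)) :=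
        (PrimeSpectrum.isClosed_singleton_iff_isMaximal _).mpr hm
      obtain ⟨x, hx, h1x, hgen⟩ := hF ⟨m, hm.isPrime⟩ hcl
      have hmx : x.asIdeal.comap (algebraMap A B) = m := congrArg PrimeSpectrum.asIdeal hx
      obtain ⟨z, hz⟩ := h1x.2 (algebraMap B (Localization.AtPrime x.asIdeal) b)
      obtain ⟨a, s, rfl⟩ :=
        IsLocalization.exists_mk'_eq (x.asIdeal.comap (algebraMap A B)).primeCompl z
      rw [Localization.localRingHom_mk', IsLocalization.mk'_eq_iff_eq_mul, ← map_mul,
        IsLocalization.eq_iff_exists x.asIdeal.primeCompl] at hz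
      obtain ⟨u, hu⟩ := hz
      obtain ⟨c, hc⟩ : ∃ c : B, c = algebraMap A B s * b - algebraMap A B a := ⟨_, rfl⟩
      have huc : (u : B) * c = 0 := by
        rw [hc, mul_sub, hu]
        simp only
        ring
      have hclaim : ∃ t : A, t ∉ m ∧ algebraMap A B t * c = 0 := by
        by_contra hcon
        push Not at hcon
        obtain ⟨𝔞, h𝔞⟩ : ∃ 𝔞 : Ideal B, 𝔞 = LinearMap.ker (LinearMap.toSpanSingleton B B c) :=
          ⟨_, rfl⟩
        have hmem𝔞 : ∀ r : B, r ∈ 𝔞 ↔ r * c = 0 := by
          intro r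
          rw [h𝔞, LinearMap.mem_ker, LinearMap.toSpanSingleton_apply, smul_eq_mul]
        have hdisj : Disjoint (𝔞 : Set B)
            ((Submonoid.map (algebraMap A B) m.primeCompl : Submonoid B) : Set B) := by
          rw [Set.disjoint_left]
          rintro r hr ⟨t, ht, rfl⟩
          exact hcon t ht ((hmem𝔞 _).mp hr)
        obtain ⟨q, hqp, h𝔞q, hqT⟩ := Ideal.exists_le_prime_disjoint 𝔞 _ hdisj
        have hqm : q.comap (algebraMap A B) ≤ m := by
          intro r hr
          by_contra hrm
          exact Set.disjoint_left.mp hqT hr ⟨r, hrm, rfl⟩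
        have hspec : PrimeSpectrum.comap (algebraMap A B) ⟨q, hqp⟩ ⤳
            (⟨m, hm.isPrime⟩ : PrimeSpectrum A) := by
          rw [← PrimeSpectrum.le_iff_specializes]
          exact hqm
        have hqx : (⟨q, hqp⟩ : PrimeSpectrum B) ⤳ x := hgen _ hspec
        rw [← PrimeSpectrum.le_iff_specializes] at hqx
        have huq : (u : B) ∈ q := h𝔞q ((hmem𝔞 _).mpr huc)
        exact u.2 (hqx huq)
      obtain ⟨t, htm, htc⟩ := hclaim
      have htsJ : t * s ∈ J := by
        rw [hmemJ]
        refine ⟨t * a, ?_⟩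
        rw [hc] at htc
        rw [map_mul, map_mul]
        linear_combination -htc
      have hts : t * s ∈ m := hJm htsJ
      rcases hm.isPrime.mem_or_mem hts with h | h
      · exact htm h
      · exact s.2 ((SetLike.ext_iff.mp hmx (s : A)).mpr h)


end Bij

end Groth.Agent.Helper2.WCtr
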