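import Mathlib
import Groth.Prelude
import Groth.Agent.Helper2.WCtrB

set_option autoImplicit false
universe u
open CategoryTheory CategoryTheory.Limits TensorProduct

namespace Groth.Agent.Helper2.WCtr

open Groth.Agent.Helper2.IndEtCrit Groth.Agent.Helper2.IndEtLift Groth.Agent.Helper3.WEtale
open Groth.Agent.Helper6

/-- the set of components picked out by a section of closed points -/
theorem exists_section_set {X Z : Type u} [TopologicalSpace X] [TopologicalSpace Z]
    (hX : ProEtW.IsWLocal X) (hZ : ProEtW.IsWLocal Z) (g : Z → X) (hg : Continuous g)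
    (hgs : Function.Surjective g) [hED : ExtremallyDisconnected (_root_.ConnectedComponents X)] :
    ∃ T : Set (_root_.ConnectedComponents Z), IsClosed T ∧
      ∀ y : X, IsClosed ({y} : Set X) → ∃ d : Z, ConnectedComponents.mk d ∈ T ∧ g d = y ∧
        ∀ q : Z, ConnectedComponents.mk q ∈ T → g q ⤳ y → q ⤳ d := by
  haveI := hX.1
  haveI := hZ.1
  haveI : T2Space (_root_.ConnectedComponents X) := SpecTop.t2_connectedComponents
  haveI : T2Space (_root_.ConnectedComponents Z) := SpecTop.t2_connectedComponents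
  let Q₀ : Set Z := {z | IsClosed ({z} : Set Z)} ∩ g ⁻¹' {x | IsClosed ({x} : Set X)}
  have hQ₀ : IsClosed Q₀ := hZ.2.1.inter (hX.2.1.preimage hg)
  let Q : Set (_root_.ConnectedComponents Z) := ConnectedComponents.mk '' Q₀
  have hQ : IsClosed Q := (hQ₀.isCompact.image ConnectedComponents.continuous_coe).isClosed
  haveI : CompactSpace Q := isCompact_iff_compactSpace.mp hQ.isCompact
  let ψ : Q → _root_.ConnectedComponents X := fun c => hg.connectedComponentsMap c.1
  have hψc : Continuous ψ := hg.connectedComponentsMap_continuous.comp continuous_subtype_val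
  have hψs : Function.Surjective ψ := by
    intro p
    obtain ⟨x', rfl⟩ := ConnectedComponents.surjective_coe p
    obtain ⟨x, ⟨hx, hx'x⟩, -⟩ := hX.2.2 x'
    obtain ⟨z', rfl⟩ := hgs x
    obtain ⟨z, ⟨hz, hz'z⟩, -⟩ := hZ.2.2 z'
    have hgz : g z = g z' :=
      (SpecTop.isClosed_singleton_iff_forall_specializes.mp hx) _ (hz'z.map hg)
    refine ⟨⟨ConnectedComponents.mk z, z, ⟨hz, by show IsClosed {g z}; rw [hgz]; exact hx⟩, rfl⟩, ?_⟩
    show ConnectedComponents.mk (g z) = ConnectedComponents.mk x'
    rw [hgz]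
    exact SpecTop.mk_eq_of_specializes hx'x
  obtain ⟨σ, hσc, hσ⟩ := CompactT2.ExtremallyDisconnected.projective
    (A := _root_.ConnectedComponents X) continuous_id hψc hψs
  have hσ' : ∀ p, ψ (σ p) = p := fun p => congrFun hσ p
  let T : Set (_root_.ConnectedComponents Z) := Set.range (fun p => (σ p).1)
  have hT : IsClosed T := (isCompact_range (continuous_subtype_val.comp hσc)).isClosed
  refine ⟨T, hT, ?_⟩
  intro y hy
  obtain ⟨d, hdQ, hd⟩ := (σ (ConnectedComponents.mk y)).2
  have hgd : g d = y := by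
    by_contra hne
    apply WLocalTop.mk_ne_mk_of_closed_ne hX hdQ.2 hy hne
    rw [← hσ' (ConnectedComponents.mk y)]
    show _ = hg.connectedComponentsMap (σ (ConnectedComponents.mk y)).1
    rw [← hd]
    rfl
  refine ⟨d, ⟨ConnectedComponents.mk y, hd.symm⟩, hgd, ?_⟩
  intro q hqT hqy
  obtain ⟨d', ⟨hd', hqd'⟩, -⟩ := hZ.2.2 q
  have hmk : ConnectedComponents.mk d' = ConnectedComponents.mk q :=
    SpecTop.mk_eq_of_specializes hqd'
  obtain ⟨p, hp⟩ := hqT
  have hp : (σ p).1 = ConnectedComponents.mk q := hp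
  obtain ⟨d'', hd''Q, hd''⟩ := (σ p).2
  have hdd : d'' = d' := by
    by_contra hne
    apply WLocalTop.mk_ne_mk_of_closed_ne hZ hd''Q.1 hd' hne
    rw [hd'', hp, hmk]
  rw [hdd] at hd''Q hd''
  have hgd' : g d' = y := by
    obtain ⟨c, -, huniq⟩ := hX.2.2 (g q)
    have e1 : g d' = c := huniq _ ⟨hd''Q.2, hqd'.map hg⟩
    have e2 : y = c := huniq _ ⟨hy, hqy⟩
    exact e1.trans e2.symm
  have hp' : p = ConnectedComponents.mk y := by
    rw [← hσ' p]
    show hg.connectedComponentsMap (σ p).1 = _
    rw [← hd'']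
    show ConnectedComponents.mk (g d') = _
    rw [hgd']
  have : d' = d := by
    by_contra hne
    apply WLocalTop.mk_ne_mk_of_closed_ne hZ hd''Q.1 hdQ.1 hne
    rw [hd'', hd, hp']
  rw [← this]
  exact hqd'

/-- a faithfully flat weakly étale w-local algebra over a w-strictly local ring with extremally
disconnected space of components has a retraction -/
theorem exists_retraction_of_wLocal (A D : Type u) [CommRing A] [CommRing D] [Algebra A D]
    [Algebra.WeaklyEtale A D]
    (hsurj : Function.Surjective (PrimeSpectrum.comap (algebraMap A D)))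
    (hX : ProEtW.IsWLocal (PrimeSpectrum A)) (hZ : ProEtW.IsWLocal (PrimeSpectrum D))
    (hED : ExtremallyDisconnected (_root_.ConnectedComponents (PrimeSpectrum A)))
    (hSH : ∀ (m : Ideal A) [m.IsMaximal],
      EtCoh.IsStrictlyHenselianLocalRing (Localization.AtPrime m)) :
    Nonempty (D →ₐ[A] A) := by
  obtain ⟨T, hT, hTy⟩ := exists_section_set hX hZ _
    (PrimeSpectrum.continuous_comap (algebraMap A D)) hsurj
  haveI : IsLocalization (idemSubmonoid D T) (D ⧸ IndZarT.I D T) := isLocalization_quot D T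
  haveI : Algebra.WeaklyEtale D (D ⧸ IndZarT.I D T) :=
    weaklyEtale_of_isLocalization (idemSubmonoid D T) _
  haveI : Algebra.WeaklyEtale A (D ⧸ IndZarT.I D T) := Algebra.WeaklyEtale.trans A D _
  have hWE : WE (algebraMap A (D ⧸ IndZarT.I D T)) := WE_algebraMap_iff.mpr inferInstance
  have hrange : Set.range (PrimeSpectrum.comap (Ideal.Quotient.mk (IndZarT.I D T))) =
      ConnectedComponents.mk ⁻¹' T := by
    rw [_root_.range_comap_of_surjective _ _ Ideal.Quotient.mk_surjective, Ideal.mk_ker]
    exact IndZarT.zeroLocus_I D T hT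
  have hemb := PrimeSpectrum.isClosedEmbedding_comap_of_surjective _
    (Ideal.Quotient.mk (IndZarT.I D T)) Ideal.Quotient.mk_surjective
  have hcomp : ∀ q : PrimeSpectrum (D ⧸ IndZarT.I D T),
      PrimeSpectrum.comap (algebraMap A (D ⧸ IndZarT.I D T)) q =
        PrimeSpectrum.comap (algebraMap A D)
          (PrimeSpectrum.comap (Ideal.Quotient.mk (IndZarT.I D T)) q) := fun q => rfl
  have hbij : Function.Bijective (algebraMap A (D ⧸ IndZarT.I D T)) := by
    apply bijective_of_closed_points'
    intro y hy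
    obtain ⟨d, hdT, hgd, hgen⟩ := hTy y hy
    obtain ⟨x, hx⟩ : d ∈ Set.range (PrimeSpectrum.comap (Ideal.Quotient.mk (IndZarT.I D T))) := by
      rw [hrange]; exact hdT
    have hxy : PrimeSpectrum.comap (algebraMap A (D ⧸ IndZarT.I D T)) x = y := by
      rw [hcomp, hx, hgd]
    refine ⟨x, hxy, ?_, ?_⟩
    · have hmax : (x.asIdeal.comap (algebraMap A (D ⧸ IndZarT.I D T))).IsMaximal := by
        have h1 : x.asIdeal.comap (algebraMap A (D ⧸ IndZarT.I D T)) = y.asIdeal :=
          congrArg PrimeSpectrum.asIdeal hxy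
        rw [h1]
        exact (PrimeSpectrum.isClosed_singleton_iff_isMaximal y).mp hy
      exact bijective_localRingHom_of_WE_of_SH _ hWE x.asIdeal (hSH _)
    · intro q hq
      rw [hcomp] at hq
      have hq' := hgen (PrimeSpectrum.comap (Ideal.Quotient.mk (IndZarT.I D T)) q)
        (by
          have : PrimeSpectrum.comap (Ideal.Quotient.mk (IndZarT.I D T)) q ∈
              ConnectedComponents.mk ⁻¹' T := by
            rw [← hrange]; exact ⟨q, rfl⟩
          exact this) hq
      rw [← hx] at hq'
      exact hemb.isInducing.specializes_iff.mp hq'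
  let e : A ≃ₐ[A] (D ⧸ IndZarT.I D T) := AlgEquiv.ofBijective (Algebra.ofId A _) hbij
  exact ⟨e.symm.toAlgHom.comp (IsScalarTower.toAlgHom A D (D ⧸ IndZarT.I D T))⟩

/-- the backward direction of the characterization of w-contractible rings -/
theorem backward (A : Type u) [CommRing A]
    (hX : ProEtW.IsWLocal (PrimeSpectrum A))
    (hED : ExtremallyDisconnected (_root_.ConnectedComponents (PrimeSpectrum A)))
    (hSH : ∀ (m : Ideal A) [m.IsMaximal],
      EtCoh.IsStrictlyHenselianLocalRing (Localization.AtPrime m)) :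
    EtPBC.IsWContractible A := by
  intro B _ _ hff hwe
  haveI := hff
  haveI := hwe
  letI algAD : Algebra A (Hull B (Π y, AC B y)) :=
    ((algebraMap B (Hull B (Π y, AC B y))).comp (algebraMap A B)).toAlgebra
  haveI tow : IsScalarTower A B (Hull B (Π y, AC B y)) :=
    IsScalarTower.of_algebraMap_eq fun _ => rfl
  haveI : Module.FaithfullyFlat B (Hull B (Π y, AC B y)) := faithfullyFlat_hull_AC B
  haveI : Algebra.WeaklyEtale B (Hull B (Π y, AC B y)) :=
    Groth.Agent.Lead.IndEtale.weaklyEtale_of_isIndEtale (isIndEtale_hull B _)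
  haveI : Module.FaithfullyFlat A (Hull B (Π y, AC B y)) := Module.FaithfullyFlat.trans A B _
  haveI : Algebra.WeaklyEtale A (Hull B (Π y, AC B y)) := Algebra.WeaklyEtale.trans A B _
  have hsurj : Function.Surjective
      (PrimeSpectrum.comap (algebraMap A (Hull B (Π y, AC B y)))) :=
    PrimeSpectrum.comap_surjective_of_faithfullyFlat
  obtain ⟨r⟩ := exists_retraction_of_wLocal A (Hull B (Π y, AC B y)) hsurj hX
    (isWLocal_hull B (AC B)) hED hSH
  exact ⟨r.comp (IsScalarTower.toAlgHom A B _)⟩

theorem s0677 (A : Type u) [CommRing A] :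
    EtPBC.IsWContractible A ↔
      (ProEtW.IsWLocal (PrimeSpectrum A) ∧
        ExtremallyDisconnected (_root_.ConnectedComponents (PrimeSpectrum A)) ∧
        ∀ (m : Ideal A) [m.IsMaximal],
          EtCoh.IsStrictlyHenselianLocalRing (Localization.AtPrime m)) :=
  ⟨forward A, fun h => backward A h.1 h.2.1 h.2.2⟩

end Groth.Agent.Helper2.WCtr
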