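import Mathlib
import Groth.Prelude
import Groth.Agent.Helper2.FinWL
import Groth.Agent.Helper2.EDQF
import Groth.Agent.Helper2.WCtrC
import Groth.Agent.Helper4.DimZero

set_option autoImplicit false
universe u
open CategoryTheory CategoryTheory.Limits TensorProduct

namespace Groth.Agent.Helper2.FinWC

open Groth.Agent.Helper2.WLocUniv Groth.Agent.Helper6

theorem ed_of_homeo {X Y : Type*} [TopologicalSpace X] [TopologicalSpace Y] (e : X ≃ₜ Y)
    [ExtremallyDisconnected Y] : ExtremallyDisconnected X :=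
  WCtr.extremallyDisconnected_of_retract e e.symm e.continuous e.symm.continuous
    (fun x => e.symm_apply_apply x)

/-- for a w-local ring and an ideal cutting out the closed points, `Spec (R/J) ≃ₜ π₀(Spec R)` -/
theorem exists_homeo (R : Type u) [CommRing R] (hR : ProEtW.IsWLocal (PrimeSpectrum R))
    (J : Ideal R)
    (hJ : PrimeSpectrum.zeroLocus (J : Set R) = ProEtW.closedPoints (PrimeSpectrum R)) :
    Nonempty (PrimeSpectrum (R ⧸ J) ≃ₜ _root_.ConnectedComponents (PrimeSpectrum R)) := by
  let φ : PrimeSpectrum (R ⧸ J) → _root_.ConnectedComponents (PrimeSpectrum R) :=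
    fun x => ConnectedComponents.mk (PrimeSpectrum.comap (Ideal.Quotient.mk J) x)
  have hcont : Continuous φ :=
    ConnectedComponents.continuous_coe.comp (PrimeSpectrum.continuous_comap _)
  have hrange : Set.range (PrimeSpectrum.comap (Ideal.Quotient.mk J)) =
      ProEtW.closedPoints (PrimeSpectrum R) := by
    rw [_root_.range_comap_of_surjective _ _ Ideal.Quotient.mk_surjective, Ideal.mk_ker, hJ]
  have hcl : ∀ x : PrimeSpectrum (R ⧸ J),
      IsClosed ({PrimeSpectrum.comap (Ideal.Quotient.mk J) x} : Set (PrimeSpectrum R)) := by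
    intro x
    have : PrimeSpectrum.comap (Ideal.Quotient.mk J) x ∈ ProEtW.closedPoints (PrimeSpectrum R) := by
      rw [← hrange]; exact ⟨x, rfl⟩
    exact this
  have hinj : Function.Injective φ := by
    intro x y hxy
    by_contra hne
    have hne' : PrimeSpectrum.comap (Ideal.Quotient.mk J) x ≠
        PrimeSpectrum.comap (Ideal.Quotient.mk J) y := fun h =>
      hne (PrimeSpectrum.comap_injective_of_surjective _ Ideal.Quotient.mk_surjective h)
    exact WLocalTop.mk_ne_mk_of_closed_ne hR (hcl x) (hcl y) hne' hxy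
  have hsurj : Function.Surjective φ := by
    intro c
    obtain ⟨x, rfl⟩ := ConnectedComponents.surjective_coe c
    obtain ⟨y, ⟨hy, hxy⟩, _⟩ := hR.2.2 x
    have : y ∈ Set.range (PrimeSpectrum.comap (Ideal.Quotient.mk J)) := by
      rw [hrange]; exact hy
    obtain ⟨z, rfl⟩ := this
    exact ⟨z, SpecTop.mk_eq_of_specializes hxy⟩
  haveI : SpectralSpace (PrimeSpectrum R) := hR.1
  haveI : T2Space (_root_.ConnectedComponents (PrimeSpectrum R)) := SpecTop.t2_connectedComponents
  exact ⟨(isHomeomorph_iff_continuous_bijective.mpr ⟨hcont, hinj, hsurj⟩).homeomorph φ⟩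

variable (A : Type u) [CommRing A]

/-- residue fields of `A / Jc A` for `A` w-strictly local -/
theorem isSepClosed_residueField (hA : ProEtW.IsWLocal (PrimeSpectrum A))
    (hSH : ∀ (m : Ideal A) [m.IsMaximal],
      EtCoh.IsStrictlyHenselianLocalRing (Localization.AtPrime m))
    (p : PrimeSpectrum (A ⧸ Jc A)) : IsSepClosed p.asIdeal.ResidueField := by
  have hPmax : p.asIdeal.IsMaximal := isMaximal_of_isPrime_quot hA p.asIdeal p.2
  set m := p.asIdeal.comap (Ideal.Quotient.mk (Jc A)) with hm
  haveI hmmax : m.IsMaximal := Ideal.comap_isMaximal_of_surjective _ Ideal.Quotient.mk_surjective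
  obtain ⟨hH, hsep⟩ := hSH m
  have hbij := RingHom.SurjectiveOnStalks.residueFieldMap_bijective
    (RingHom.surjectiveOnStalks_of_surjective (Ideal.Quotient.mk_surjective (I := Jc A)))
    m p.asIdeal rfl
  haveI : IsSepClosed m.ResidueField := hsep
  exact EDQF.isSepClosed_of_ringEquiv (RingEquiv.ofBijective _ hbij)

variable (B : Type u) [CommRing B] [Algebra A B] [Module.Finite A B]
  [Algebra.FinitePresentation A B]

theorem main (h : EtPBC.IsWContractible A) : EtPBC.IsWContractible B := by
  obtain ⟨hA, hED, hSH⟩ := (WCtr.s0677 A).mp h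
  have hH : ∀ (m : Ideal A) [m.IsMaximal], HenselianLocalRing (Localization.AtPrime m) :=
    fun m _ => (hSH m).choose
  have hB : ProEtW.IsWLocal (PrimeSpectrum B) := FinWL.isWLocal A B hA hH
  refine (WCtr.s0677 B).mpr ⟨hB, ?_, fun n _ => FinWL.isStrictlyHenselian A B hSH n⟩
  -- extremal disconnectedness
  set I := Jc A with hI
  have hJA : PrimeSpectrum.zeroLocus (I : Set A) = ProEtW.closedPoints (PrimeSpectrum A) :=
    zeroLocus_Jc hA
  have hJB : PrimeSpectrum.zeroLocus ((I.map (algebraMap A B) : Ideal B) : Set B) =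
      ProEtW.closedPoints (PrimeSpectrum B) := by
    rw [FinWL.closedPoints_eq A B, ← hJA]
    ext x
    simp only [PrimeSpectrum.mem_zeroLocus, Set.mem_preimage, SetLike.coe_subset_coe]
    exact Ideal.map_le_iff_le_comap
  obtain ⟨eA⟩ := exists_homeo A hA I hJA
  obtain ⟨eB⟩ := exists_homeo B hB (I.map (algebraMap A B)) hJB
  haveI : ExtremallyDisconnected (_root_.ConnectedComponents (PrimeSpectrum A)) := hED
  haveI : ExtremallyDisconnected (PrimeSpectrum (A ⧸ I)) := ed_of_homeo eA
  haveI : Ring.KrullDimLE 0 (A ⧸ I) := Ring.KrullDimLE.mk₀ (isMaximal_of_isPrime_quot hA)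
  haveI : T2Space (PrimeSpectrum (A ⧸ I)) := Groth.Agent.Helper4.t2Space_primeSpectrum
  haveI : ExtremallyDisconnected (PrimeSpectrum ((A ⧸ I) ⊗[A] B)) :=
    EDQF.s0750 (A ⧸ I) ((A ⧸ I) ⊗[A] B) (isSepClosed_residueField A hA hSH)
  let e : (B ⧸ I.map (algebraMap A B)) ≃+* (A ⧸ I) ⊗[A] B :=
    (Algebra.TensorProduct.quotIdealMapEquivQuotTensor B I).toRingEquiv
  haveI : ExtremallyDisconnected (PrimeSpectrum (B ⧸ I.map (algebraMap A B))) :=
    ed_of_homeo (PrimeSpectrum.homeomorphOfRingEquiv e)
  exact ed_of_homeo eB.symm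

end Groth.Agent.Helper2.FinWC
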