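import Mathlib

set_option autoImplicit false
universe u

namespace Groth.Agent.Helper2.FiniteExtPrinciple

open scoped IntermediateField.algebraAdjoinAdjoin in
theorem main {k : Type u} [Field k]
    (C : ∀ (K : Type u) [Field K] [Algebra k K], Prop)
    (h₁ : ∀ (K K' : Type u) [Field K] [Algebra k K] [Field K'] [Algebra k K'],
      Nonempty (K →ₐ[k] K') → C K → C K')
    (h₂ : ∀ (K : Type u) [Field K] [Algebra k K], C K →
      ∃ K' : IntermediateField k K, K'.FG ∧ C K')
    (h₃ : ∀ (A K : Type u) [CommRing A] [IsDomain A] [Algebra k A] [Algebra.FiniteType k A]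
      [Field K] [Algebra k K] [Algebra A K] [IsScalarTower k A K] [IsFractionRing A K], C K →
      ∃ f : A, f ≠ 0 ∧ ∀ (K' : Type u) [Field K'] [Algebra k K'] (φ : Localization.Away f →ₐ[k] K'),
        Function.Surjective φ → C K')
    (hC : ∃ (K : Type u) (_ : Field K) (_ : Algebra k K), C K) :
    ∃ (K' : Type u) (_ : Field K') (_ : Algebra k K'), Module.Finite k K' ∧ C K' := by
  classical
  obtain ⟨K, _, _, hCK⟩ := hC
  obtain ⟨K', ⟨S, rfl⟩, hCK'⟩ := h₂ K hCK
  haveI : Algebra.FiniteType k (Algebra.adjoin k (S : Set K)) :=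
    (Subalgebra.fg_iff_finiteType _).mp (Subalgebra.fg_adjoin_finset S)
  obtain ⟨f, hf, hfC⟩ := h₃ (Algebra.adjoin k (S : Set K)) (IntermediateField.adjoin k (S : Set K)) hCK'
  haveI : Nontrivial (Localization.Away f) :=
    (IsLocalization.injective (Localization.Away f)
      (Submonoid.powers_le.mpr (mem_nonZeroDivisors_of_ne_zero hf))).nontrivial
  obtain ⟨𝔪, h𝔪⟩ := Ideal.exists_maximal (Localization.Away f)
  letI : Field (Localization.Away f ⧸ 𝔪) := Ideal.Quotient.field 𝔪
  have hCq : C (Localization.Away f ⧸ 𝔪) :=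
    hfC (Localization.Away f ⧸ 𝔪) (Ideal.Quotient.mkₐ k 𝔪) (Ideal.Quotient.mkₐ_surjective k 𝔪)
  haveI : Algebra.FiniteType k (Localization.Away f) :=
    Algebra.FiniteType.trans (S := Algebra.adjoin k (S : Set K)) inferInstance inferInstance
  haveI : Algebra.FiniteType k (Localization.Away f ⧸ 𝔪) :=
    Algebra.FiniteType.of_surjective (Ideal.Quotient.mkₐ k 𝔪)
      (Ideal.Quotient.mkₐ_surjective k 𝔪)
  exact ⟨Localization.Away f ⧸ 𝔪, inferInstance, inferInstance,
    finite_of_finite_type_of_isJacobsonRing k _, hCq⟩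

end Groth.Agent.Helper2.FiniteExtPrinciple
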