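import Mathlib

set_option autoImplicit false

namespace Groth.Agent.Helper2.FiniteFieldHomog

open MvPolynomial

lemma eq_single_of_degree_le {n : ℕ} (s : Fin n →₀ ℕ) (q : ℕ) (j : Fin n) (hdeg : s.degree ≤ q)
    (hj : q ≤ s j) : s = Finsupp.single j q := by
  classical
  rw [Finsupp.degree_eq_sum] at hdeg
  have h1 := Finset.add_sum_erase Finset.univ (fun i => s i) (Finset.mem_univ j)
  have h2 : ∑ i ∈ Finset.univ.erase j, s i = 0 := by omega
  have h3 : s j = q := by omega
  ext i
  by_cases hij : i = j
  · subst hij
    rw [Finsupp.single_eq_same, h3]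
  · rw [Finsupp.single_apply, if_neg (fun h => hij h.symm)]
    exact Finset.sum_eq_zero_iff.mp h2 i (Finset.mem_erase.mpr ⟨hij, Finset.mem_univ _⟩)

variable {k : Type} [Field k] [Fintype k]

theorem eq_zero_of_homogeneous (n d : ℕ) (P : MvPolynomial (Fin n) k) (hP : P.IsHomogeneous d)
    (hd : d ≤ Fintype.card k) (hvan : ∀ x : Fin n → k, eval x P = 0) : P = 0 := by
  classical
  set q := Fintype.card k with hq
  have hq2 : 2 ≤ q := Fintype.one_lt_card
  set a : Fin n → k := fun i => coeff (Finsupp.single i q) P with ha
  set Q : MvPolynomial (Fin n) k := P - ∑ i, C (a i) * (X i ^ q - X i) with hQ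
  have hQvan : ∀ x : Fin n → k, eval x Q = 0 := by
    intro x
    rw [hQ, map_sub, hvan x, map_sum, zero_sub, neg_eq_zero]
    refine Finset.sum_eq_zero fun i _ => ?_
    rw [map_mul, map_sub, map_pow, eval_X, hq, FiniteField.pow_card, sub_self, mul_zero]
  have hcoeff : ∀ s : Fin n →₀ ℕ, coeff s Q = coeff s P -
      ∑ i, a i * ((if Finsupp.single i q = s then 1 else 0) -
        (if Finsupp.single i 1 = s then 1 else 0)) := by
    intro s
    rw [hQ, coeff_sub, coeff_sum]
    congr 1
    refine Finset.sum_congr rfl fun i _ => ?_
    rw [coeff_C_mul, coeff_sub, coeff_X_pow, coeff_X']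
  have hQmem : Q ∈ restrictDegree (Fin n) k (Fintype.card k - 1) := by
    rw [mem_restrictDegree]
    intro s hs j
    by_contra hlt
    have hj : q ≤ s j := by omega
    apply (mem_support_iff.mp hs)
    rw [hcoeff]
    have hne1 : ∀ i, Finsupp.single i 1 ≠ s := by
      intro i h
      have : s j ≤ 1 := by
        rw [← h]
        by_cases hij : j = i
        · subst hij; simp
        · rw [Finsupp.single_apply, if_neg (fun h => hij h.symm)]; omega
      omega
    simp only [hne1, if_false, sub_zero]
    by_cases hex : ∃ i₀, Finsupp.single i₀ q = s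
    · obtain ⟨i₀, hi₀⟩ := hex
      rw [Finset.sum_eq_single i₀]
      · rw [if_pos hi₀, mul_one, ha]
        simp only
        rw [hi₀, sub_self]
      · intro i _ hi
        rw [if_neg, mul_zero]
        intro h
        apply hi
        have := h.trans hi₀.symm
        exact (Finsupp.single_left_inj (by omega)).mp this
      · intro h; exact absurd (Finset.mem_univ _) h
    · rw [not_exists] at hex
      simp only [hex, if_false, mul_zero, Finset.sum_const_zero, sub_zero]
      by_contra hne
      have hdeg : s.degree = d := by
        by_contra hd'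
        exact hne (hP.coeff_eq_zero hd')
      exact hex j (eq_single_of_degree_le s q j (by omega) hj).symm
  have hQ0 : Q = 0 := eq_zero_of_eval_eq_zero (Fin n) k Q hQvan hQmem
  -- all `a i` vanish
  have ha0 : ∀ i, a i = 0 := by
    intro i
    by_cases hdq : d = q
    · have h1 : coeff (Finsupp.single i 1) Q = 0 := by rw [hQ0, coeff_zero]
      rw [hcoeff] at h1
      have h2 : coeff (Finsupp.single i 1) P = 0 := by
        apply hP.coeff_eq_zero
        rw [Finsupp.degree_single]
        omega
      rw [h2, zero_sub, neg_eq_zero, Finset.sum_eq_single i] at h1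
      · rw [if_pos rfl, if_neg, zero_sub, mul_neg, mul_one, neg_eq_zero] at h1
        · exact h1
        · intro h
          have := congrArg (fun f => f i) h
          simp only [Finsupp.single_eq_same] at this
          omega
      · intro j _ hj
        rw [if_neg, if_neg, sub_zero, mul_zero]
        · intro h
          exact hj ((Finsupp.single_left_inj (by omega)).mp h)
        · intro h
          have := congrArg (fun f => f i) h
          simp only [Finsupp.single_eq_same] at this
          by_cases hij : i = j
          · exact hj hij.symm
          · rw [Finsupp.single_apply, if_neg (fun h => hij h.symm)] at this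
            omega
      · intro h; exact absurd (Finset.mem_univ _) h
    · rw [ha]
      apply hP.coeff_eq_zero
      rw [Finsupp.degree_single]
      exact fun h => hdq h.symm
  have : P = Q := by
    rw [hQ]
    simp only [ha0, map_zero, zero_mul, Finset.sum_const_zero, sub_zero]
  rw [this, hQ0]

end Groth.Agent.Helper2.FiniteFieldHomog
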