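import Mathlib
open CategoryTheory CategoryTheory.Limits AlgebraicGeometry
universe u

namespace Groth.Agent.Helper2.FlatApp

/-- A faithfully flat morphism of schemes is injective on sections. -/
lemma app_injective_of_flat_of_surjective {X' X : Scheme.{u}} (g : X' ⟶ X) [Flat g] [Surjective g]
    (V : X.Opens) : Function.Injective (g.app V).hom := by
  rw [injective_iff_map_eq_zero]
  intro t ht
  have key : ∀ (x : X) (hx : x ∈ V), X.presheaf.germ V x hx t = X.presheaf.germ V x hx 0 := by
    intro x hx
    obtain ⟨x', rfl⟩ := g.surjective x
    have hinj : Function.Injective (g.stalkMap x').hom := by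
      algebraize [(g.stalkMap x').hom]
      have : Module.FaithfullyFlat (X.presheaf.stalk (g x')) (X'.presheaf.stalk x') :=
        @Module.FaithfullyFlat.of_flat_of_isLocalHom _ _ _ _ _ _ _
          (Flat.stalkMap g x') (g.toLRSHom.prop x')
      exact ‹RingHom.FaithfullyFlat _›.injective
    apply hinj
    have h1 := Scheme.Hom.germ_stalkMap_apply g V x' hx t
    have h2 : (g.app V) t = 0 := ht
    rw [h2, map_zero] at h1
    rw [map_zero, map_zero]
    exact h1
  exact TopCat.Presheaf.section_ext X.sheaf V _ _ key

end Groth.Agent.Helper2.FlatApp
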