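import Mathlib
import Groth.Agent.Helper2.FlatFibre2
import Groth.Agent.S5774

set_option autoImplicit false
open RingTheory.Sequence Pointwise Function TensorProduct IsLocalRing LinearMap
open Groth.Agent.Helper2.FlatFibre
universe u v

namespace Groth.Agent.Helper2.FlatFibre3

variable {A B : Type u} [CommRing A] [CommRing B] [IsLocalRing A] [IsLocalRing B]
  [IsNoetherianRing A] [IsNoetherianRing B] [Algebra A B] [IsLocalHom (algebraMap A B)]
  {N : Type u} [AddCommGroup N] [Module B N] [Module A N] [IsScalarTower A B N]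

/-- `K ∩ 𝔪N ⊆ 𝔪K` when `N/K` is flat. -/
lemma mem_smul_of_flat_quot [Module.Flat A N] (K : Submodule B N) [Module.Flat A (N ⧸ K)]
    (x : N) (hxK : x ∈ K)
    (hxm : x ∈ ((maximalIdeal A).map (algebraMap A B) • ⊤ : Submodule B N)) :
    x ∈ (maximalIdeal A).map (algebraMap A B) • K := by
  obtain ⟨y, hy⟩ := exists_mu_eq A x hxm
  have h1 : rTensor (maximalIdeal A) (K.mkQ.restrictScalars A) y = 0 := by
    apply mu_injective A (N := N ⧸ K)
    rw [mu_natural, hy, map_zero]
    simpa using hxK
  have hex2 := rTensor_exact (maximalIdeal A)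
    (show Exact (K.subtype.restrictScalars A) (K.mkQ.restrictScalars A) from
      LinearMap.exact_subtype_mkQ K)
    (show Surjective (K.mkQ.restrictScalars A) from Submodule.mkQ_surjective K)
  obtain ⟨w, hw⟩ := (hex2 y).1 h1
  have h2 : x = K.subtype (mu A K w) := by
    have := mu_natural A (K.subtype.restrictScalars A) w
    rw [hw, hy] at this
    exact this
  have h3 := mu_mem A (B := B) w
  rw [h2]
  have : (maximalIdeal A).map (algebraMap A B) • K =
      Submodule.map K.subtype ((maximalIdeal A).map (algebraMap A B) • ⊤) := by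
    rw [Submodule.map_smul'', Submodule.map_subtype_top]
  rw [this]
  exact Submodule.mem_map_of_mem h3

lemma map_le_jacobson : (maximalIdeal A).map (algebraMap A B) ≤ Ideal.jacobson ⊥ := by
  refine le_trans ?_ (IsLocalRing.maximalIdeal_le_jacobson _)
  rw [Ideal.map_le_iff_le_comap]
  intro x hx
  exact (mem_maximalIdeal _).2 (fun hu => (mem_maximalIdeal x).1 hx (isUnit_of_map_unit _ x hu))

end Groth.Agent.Helper2.FlatFibre3
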