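import Mathlib
import Groth.Prelude
import Groth.Agent.Helper2.FlatStageGlob
import Groth.Agent.Lead.LimPres
import Groth.Agent.Lead.FpqcSheaf2

set_option autoImplicit false
set_option linter.unusedVariables false
universe u
open CategoryTheory CategoryTheory.Limits AlgebraicGeometry TopologicalSpace Topology Opposite

noncomputable section

namespace Groth.Agent.Helper2.FlatFunLim

open Groth.Agent.Lead.LimPres Groth.Agent.Lead

section Stab

variable {X S : Scheme.{u}} (f : X ⟶ S) (F : X.Modules) [F.IsQuasicoherent]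

/-- flatness of `F_T` over `T` is stable under base change. -/
theorem flat_stable {T T₀ : Over S} (k : T ⟶ T₀)
    (h : FlatMod.IsFlatOver (PicF.XTproj f T₀) (FGA.ET f F T₀)) :
    FlatMod.IsFlatOver (PicF.XTproj f T) (FGA.ET f F T) := by
  intro x
  haveI : (FGA.ET f F T₀).IsQuasicoherent := StalkPull.isQuasicoherent_pullbackObj _ F
  have h1 := FlatBC.main_baseChange (PicF.XTproj f T₀) (PicF.XTproj f T) (PicF.XTmap f k) k.left
    (isPullback_XTmap f k) (FGA.ET f F T₀) inferInstance x (h _)
  exact FpqcSheaf.isFlatOverAt_of_iso _ (FGA.ETiso f F k) x h1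

end Stab

section Main

variable {X S : Scheme.{u}} (f : X ⟶ S) [QuasiCompact f] [LocallyOfFinitePresentation f]
  (F : X.Modules) [F.IsQuasicoherent]

set_option backward.isDefEq.respectTransparency false in
theorem s9013 (hF : CohB1.IsFP F) :
    AlgSp.IsLimitPreserving
      (FlatFun.genPSp S (fun T => FlatMod.IsFlatOver (PicF.XTproj f T) (FGA.ET f F T))) := by
  apply isLimitPreserving_genPSp
  · intro T T₀ k hk
    exact flat_stable f F k hk
  · intro I _ _ D c hc hD hT hP
    obtain ⟨i₀⟩ := IsCofiltered.nonempty (C := I)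
    let D' : I ⥤ Scheme.{u} := D ⋙ Over.forget S
    let c' : Cone D' := (Over.forget S).mapCone c
    haveI hA : ∀ (i j : I) (φ : i ⟶ j), IsAffineHom (D'.map φ) := fun i j φ => by
      haveI := hD i
      haveI := hD j
      change IsAffineHom (D.map φ).left
      infer_instance
    haveI : CompactSpace (D'.obj i₀) := by
      haveI := hD i₀
      change CompactSpace (D.obj i₀).left
      infer_instance
    let F₀ : (pullback f (D.obj i₀).hom).Modules := FGA.ET f F (D.obj i₀)
    haveI : F₀.IsQuasicoherent := StalkPull.isQuasicoherent_pullbackObj _ F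
    have hF₀ : SheafOfModules.IsFinitePresentation
        (R := (pullback f (D.obj i₀).hom).ringCatSheaf) F₀ := isFP_pullback _ F hF
    let f₀ : pullback f (D.obj i₀).hom ⟶ D'.obj i₀ := pullback.snd f (D.obj i₀).hom
    haveI : LocallyOfFinitePresentation f₀ :=
      MorphismProperty.pullback_snd (P := @LocallyOfFinitePresentation) _ _ inferInstance
    haveI : QuasiCompact (f₀ ≫ 𝟙 (D'.obj i₀)) := by
      rw [Category.comp_id]
      exact MorphismProperty.pullback_snd (P := @QuasiCompact) _ _ inferInstance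
    have hY : IsPullback (c'.π.app i₀) (𝟙 c'.pt) (𝟙 (D'.obj i₀)) (c'.π.app i₀) :=
      haveI : IsIso (𝟙 c'.pt) := inferInstance
      IsPullback.of_vert_isIso ⟨(Category.comp_id _).trans (Category.id_comp _).symm⟩
    have hX : IsPullback (PicF.XTmap f (c.π.app i₀)) (pullback.snd f c.pt.hom) f₀ (c'.π.app i₀) :=
      isPullback_XTmap f (c.π.app i₀)
    have hflat : FlatMod.IsFlatOver (pullback.snd f c.pt.hom)
        ((Scheme.Modules.pullback (PicF.XTmap f (c.π.app i₀))).obj F₀) := fun x =>
      FpqcSheaf.isFlatOverAt_of_iso _ (FGA.ETiso f F (c.π.app i₀)).symm x (hP x)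
    obtain ⟨i, φ, Xi, Yi, fi, gi, pY, pX, hYi, hXi, hfl⟩ :=
      Groth.Agent.Helper2.FlatStageGlob.exists_stage_of_isFlatOver D' c' hc i₀ f₀ (𝟙 (D'.obj i₀)) F₀
        hF₀ (pullback.snd f c.pt.hom) (𝟙 c'.pt) (c'.π.app i₀) (PicF.XTmap f (c.π.app i₀)) hY hX hflat
    refine ⟨i, ?_⟩
    haveI hgi : IsIso gi := hYi.isIso_snd_of_isIso
    have hpY : pY = gi ≫ (D.map φ).left := by
      have := hYi.w
      rw [Category.comp_id] at this
      exact this
    -- the comparison `X ×_S T_i ⟶ X_i`
    let e : pullback f (D.obj i).hom ⟶ Xi :=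
      hXi.lift (PicF.XTmap f (D.map φ)) (pullback.snd f (D.obj i).hom ≫ inv gi) (by
        rw [Category.assoc, hpY, IsIso.inv_hom_id_assoc]
        exact XTmap_snd f (D.map φ))
    have he1 : e ≫ pX = PicF.XTmap f (D.map φ) := hXi.lift_fst _ _ _
    have he2 : e ≫ fi = pullback.snd f (D.obj i).hom ≫ inv gi := hXi.lift_snd _ _ _
    have hsq : IsPullback e (pullback.snd f (D.obj i).hom) fi (inv gi) := by
      refine IsPullback.of_right ?_ he2 hXi
      rw [he1, hpY, IsIso.inv_hom_id_assoc]
      exact isPullback_XTmap f (D.map φ)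
    haveI : ((Scheme.Modules.pullback pX).obj F₀).IsQuasicoherent :=
      StalkPull.isQuasicoherent_pullbackObj _ F₀
    intro x
    have h1 := FlatBC.main_baseChange fi (pullback.snd f (D.obj i).hom) e (inv gi) hsq
      ((Scheme.Modules.pullback pX).obj F₀) inferInstance x (hfl _)
    refine FpqcSheaf.isFlatOverAt_of_iso _ ?_ x h1
    exact (Scheme.Modules.pullbackComp e pX).app F₀ ≪≫
      (Scheme.Modules.pullbackCongr he1).app F₀ ≪≫ FGA.ETiso f F (D.map φ)

end Main

end Groth.Agent.Helper2.FlatFunLim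

end
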