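import Mathlib
import Groth.Prelude
import Groth.Agent.Helper2.FlatLocusMod
import Groth.Agent.Helper4.QCClosure

set_option autoImplicit false
open Function AlgebraicGeometry CategoryTheory TopologicalSpace
universe u

namespace Groth.Agent.Helper2.FlatGenOpen

/-- for a quasi-compact morphism and a closed subset `T` of the source, the closure of `f(T)` is the
set of specializations of points of `f(T)`. -/
theorem mem_closure_image_iff {X Y : Scheme.{u}} (f : X ⟶ Y) [QuasiCompact f] (T : Set X)
    (hT : IsClosed T) (y : Y) :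
    y ∈ closure (f '' T) ↔ ∃ x ∈ T, f x ⤳ y := by
  let C : TopologicalSpace.Closeds X := ⟨T, hT⟩
  let I := Scheme.IdealSheafData.vanishingIdeal C
  have hrange : Set.range I.subschemeι = T := by
    rw [Scheme.IdealSheafData.range_subschemeι, Scheme.IdealSheafData.coe_support_vanishingIdeal]
    rfl
  have hrange' : Set.range (I.subschemeι ≫ f) = f '' T := by
    rw [← hrange, ← Set.range_comp]
    rfl
  have key := Groth.Agent.Helper4.mem_closure_range_iff_of_quasiCompact (I.subschemeι ≫ f) y
  constructor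
  · intro hy
    have hy' : y ∈ closure (Set.range (I.subschemeι ≫ f)) := by rw [hrange']; exact hy
    obtain ⟨w, hw⟩ := key.mp hy'
    refine ⟨I.subschemeι w, ?_, hw⟩
    rw [← hrange]
    exact ⟨w, rfl⟩
  · rintro ⟨x, hx, hxy⟩
    have hsub : ({f x} : Set Y) ⊆ f '' T := Set.singleton_subset_iff.mpr ⟨x, hx, rfl⟩
    exact closure_mono hsub hxy.mem_closure

theorem s4864 {X Y Z : Scheme.{u}} (f : X ⟶ Y) (g : Y ⟶ Z)
    [LocallyOfFinitePresentation f] [QuasiCompact f]
    [LocallyOfFinitePresentation g]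
    (F : X.Modules) [F.IsQuasicoherent]
    (hF : SheafOfModules.IsFinitePresentation (R := X.ringCatSheaf) F) :
    IsOpen {y : Y | ∀ y' : Y, y' ⤳ y → ∀ x : X, f x = y' →
      FlatMod.IsFlatOverAt (f ≫ g) F x} := by
  have hE : IsOpen {x : X | FlatMod.IsFlatOverAt (f ≫ g) F x} :=
    Groth.Agent.Helper2.FlatLocusMod.isOpen_isFlatOverAt (f ≫ g) F hF
  have hT : IsClosed ({x : X | FlatMod.IsFlatOverAt (f ≫ g) F x}ᶜ) := hE.isClosed_compl
  have heq : {y : Y | ∀ y' : Y, y' ⤳ y → ∀ x : X, f x = y' →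
      FlatMod.IsFlatOverAt (f ≫ g) F x} =
      (closure (f '' ({x : X | FlatMod.IsFlatOverAt (f ≫ g) F x}ᶜ)))ᶜ := by
    ext y
    rw [Set.mem_compl_iff, mem_closure_image_iff f _ hT y]
    constructor
    · rintro H ⟨x, hx, hxy⟩
      exact hx (H (f x) hxy x rfl)
    · intro H y' hy' x hx
      by_contra hcon
      exact H ⟨x, hcon, hx ▸ hy'⟩
  rw [heq]
  exact isClosed_closure.isOpen_compl

end Groth.Agent.Helper2.FlatGenOpen
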