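import Mathlib
set_option autoImplicit false
universe u

namespace Groth.Agent.Helper2.FlatHt

variable {A B : Type*} [CommRing A] [CommRing B] [Algebra A B]

/-- height is preserved by flat extension when `V(I)` is in the image -/
theorem height_map_eq [IsNoetherianRing A] [IsNoetherianRing B] [Module.Flat A B] (I : Ideal A)
    (hI : ∀ p : PrimeSpectrum A, I ≤ p.asIdeal →
      ∃ q : PrimeSpectrum B, q.asIdeal.comap (algebraMap A B) = p.asIdeal) :
    (I.map (algebraMap A B)).height = I.height := by
  apply le_antisymm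
  · rw [Ideal.height_eq_inf_minimalPrimes I]
    refine le_iInf₂ fun p hp => ?_
    haveI hpp : p.IsPrime := hp.1.1
    obtain ⟨q, hq'⟩ := hI ⟨p, hpp⟩ hp.1.2
    have hq : q.asIdeal.comap (algebraMap A B) = p := hq'
    have hpq : p.map (algebraMap A B) ≤ q.asIdeal := by
      rw [Ideal.map_le_iff_le_comap, hq]
    obtain ⟨Q, hQ, hQq⟩ := Ideal.exists_minimalPrimes_le hpq
    haveI hQp : Q.IsPrime := hQ.1.1
    have hQcomap : Q.comap (algebraMap A B) = p := by
      apply le_antisymm
      · rw [← hq]; exact Ideal.comap_mono hQq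
      · exact Ideal.map_le_iff_le_comap.mp hQ.1.2
    haveI : Q.LiesOver p := ⟨hQcomap.symm⟩
    have h1 := Ideal.height_eq_height_add_of_liesOver_of_hasGoingDown p Q
    have h2 : (Q.map (Ideal.Quotient.mk (p.map (algebraMap A B)))).height = 0 := by
      rw [Ideal.minimalPrimes_eq_comap] at hQ
      obtain ⟨Q', hQ', rfl⟩ := hQ
      rw [Ideal.map_comap_of_surjective _ Ideal.Quotient.mk_surjective]
      haveI : Q'.IsPrime := hQ'.1.1
      exact Ideal.height_eq_zero_iff.mpr hQ'
    rw [h2, add_zero] at h1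
    rw [← h1]
    exact Ideal.height_mono ((Ideal.map_mono hp.1.2).trans hQ.1.2)
  · rw [Ideal.height_eq_inf_minimalPrimes (I.map (algebraMap A B))]
    refine le_iInf₂ fun Q hQ => ?_
    haveI hQp : Q.IsPrime := hQ.1.1
    haveI : (Q.comap (algebraMap A B)).IsPrime := Ideal.comap_isPrime _ Q
    haveI : Q.LiesOver (Q.comap (algebraMap A B)) := ⟨rfl⟩
    have h1 := Ideal.height_eq_height_add_of_liesOver_of_hasGoingDown (Q.comap (algebraMap A B)) Q
    have h2 : I ≤ Q.comap (algebraMap A B) := Ideal.map_le_iff_le_comap.mp hQ.1.2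
    calc I.height ≤ (Q.comap (algebraMap A B)).height := Ideal.height_mono h2
      _ ≤ Q.height := by rw [h1]; exact le_self_add

end Groth.Agent.Helper2.FlatHt
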