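import Mathlib
import Groth.Prelude.Def_CAlg
import Groth.Agent.Helper2.Depth
import Groth.Agent.Helper2.DepthCM
import Groth.Agent.Helper2.Kollar
import Groth.Agent.Helper1.AssTensor
import Groth.Agent.Helper3.SuppBC
set_option autoImplicit false
universe u
open TensorProduct RingTheory.Sequence

namespace Groth.Agent.Helper2.FlatHt

/-- general criterion for ideal depth zero -/
lemma idealDepth_eq_zero_iff {R : Type*} [CommRing R] (J : Ideal R) (M : Type*) [AddCommGroup M]
    [Module R M] (hJM : J • (⊤ : Submodule R M) ≠ ⊤) :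
    LocCoh.idealDepth J M = 0 ↔ ∀ x ∈ J, ¬ IsSMulRegular M x := by
  unfold LocCoh.idealDepth
  rw [if_neg hJM]
  simp only [ENat.iSup_eq_zero]
  constructor
  · intro h x hx hreg
    have := h [x] ⟨(isWeaklyRegular_singleton_iff M x).mpr hreg, by simpa using hx⟩
    simp at this
  · intro h rs ⟨hreg, hmem⟩
    cases rs with
    | nil => simp
    | cons x rs =>
      exfalso
      rw [isWeaklyRegular_cons_iff] at hreg
      exact h x (hmem x (by simp)) hreg.1

section Depth
variable {A B : Type u} [CommRing A] [CommRing B] [Algebra A B] [IsNoetherianRing A]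
  [IsNoetherianRing B] [Module.Flat A B] (I : Ideal A)

include I in
omit [IsNoetherianRing A] [IsNoetherianRing B] [Module.Flat A B] in
lemma finite_of_isBaseChange {G N : Type*} [AddCommGroup G] [Module A G] [Module.Finite A G]
    [AddCommGroup N] [Module B N] [Module A N] [IsScalarTower A B N]
    {f : G →ₗ[A] N} (hf : IsBaseChange B f) : Module.Finite B N :=
  Module.Finite.equiv hf.equiv

omit [IsNoetherianRing A] [IsNoetherianRing B] [Module.Flat A B] in
theorem smul_top_ne_top_of_isBaseChange
    (hI : ∀ p : PrimeSpectrum A, I ≤ p.asIdeal →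
      ∃ q : PrimeSpectrum B, q.asIdeal.comap (algebraMap A B) = p.asIdeal)
    {G N : Type*} [AddCommGroup G] [Module A G] [Module.Finite A G]
    [AddCommGroup N] [Module B N] [Module A N] [IsScalarTower A B N]
    {f : G →ₗ[A] N} (hf : IsBaseChange B f) (hIG : I • (⊤ : Submodule A G) ≠ ⊤) :
    (I.map (algebraMap A B)) • (⊤ : Submodule B N) ≠ ⊤ := by
  haveI : Module.Finite B N := finite_of_isBaseChange I hf
  haveI : Nontrivial (G ⧸ I • (⊤ : Submodule A G)) :=
    Submodule.Quotient.nontrivial_iff.mpr hIG
  obtain ⟨p, hp⟩ := Module.nonempty_support_of_nontrivial (R := A) (M := G ⧸ I • (⊤ : Submodule A G))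
  rw [Module.support_quotient] at hp
  have hIp : I ≤ p.asIdeal := hp.2
  obtain ⟨q, hq⟩ := hI p hIp
  have hqp : q.comap (algebraMap A B) = p := PrimeSpectrum.ext hq
  have hq1 : q ∈ Module.support B (B ⊗[A] G) := by
    rw [Helper3.SuppBC.mem_support_baseChange_iff, hqp]
    exact hp.1
  have hq2 : q ∈ Module.support B N := by
    rw [← hf.equiv.support_eq]; exact hq1
  have hIq : I.map (algebraMap A B) ≤ q.asIdeal := by
    rw [Ideal.map_le_iff_le_comap, hq]; exact hIp
  have hq3 : q ∈ Module.support B (N ⧸ (I.map (algebraMap A B)) • (⊤ : Submodule B N)) := by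
    rw [Module.support_quotient]
    exact ⟨hq2, hIq⟩
  intro htop
  haveI : Subsingleton (N ⧸ (I.map (algebraMap A B)) • (⊤ : Submodule B N)) := by
    rw [htop]; infer_instance
  rw [Module.support_eq_empty] at hq3
  exact hq3


theorem depth_baseChange_aux
    (hI : ∀ p : PrimeSpectrum A, I ≤ p.asIdeal →
      ∃ q : PrimeSpectrum B, q.asIdeal.comap (algebraMap A B) = p.asIdeal) :
    ∀ (r : ℕ) (G N : Type u) [AddCommGroup G] [Module A G] [Module.Finite A G]
      [AddCommGroup N] [Module B N] [Module A N] [IsScalarTower A B N] (f : G →ₗ[A] N)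
      (_ : IsBaseChange B f) (_ : I • (⊤ : Submodule A G) ≠ ⊤),
      LocCoh.idealDepth I G = r → LocCoh.idealDepth (I.map (algebraMap A B)) N = r := by
  intro r
  induction r with
  | zero =>
    intro G N _ _ _ _ _ _ _ f hf hIG hd
    haveI : Module.Finite B N := finite_of_isBaseChange I hf
    have hIN := smul_top_ne_top_of_isBaseChange I hI hf hIG
    have hd' : LocCoh.idealDepth I G = 0 := by exact_mod_cast hd
    have h0 : ∀ x ∈ I, ¬ IsSMulRegular G x := (idealDepth_eq_zero_iff I G hIG).mp hd'
    have hp : ∃ p ∈ associatedPrimes A G, I ≤ p := by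
      rcases Ass.exists_le_assPrime_or_le A G I ⊥ (fun x hx _ => h0 x hx) with h | h
      · haveI : Nontrivial G := by
          by_contra hcon
          rw [not_nontrivial_iff_subsingleton] at hcon
          exact hIG (Subsingleton.elim _ _)
        obtain ⟨p, hp⟩ := associatedPrimes.nonempty A G
        exact ⟨p, hp, h.trans bot_le⟩
      · exact h
    obtain ⟨p, hp, hIp⟩ := hp
    haveI hpp : p.IsPrime := hp.isPrime
    obtain ⟨q, hq'⟩ := hI ⟨p, hpp⟩ hIp
    have hq : q.asIdeal.comap (algebraMap A B) = p := hq'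
    have hpq : p.map (algebraMap A B) ≤ q.asIdeal := by
      rw [Ideal.map_le_iff_le_comap, hq]
    have hne : (p.map (algebraMap A B) • (⊤ : Submodule B B)) ≠ ⊤ := by
      rw [smul_eq_mul, Ideal.mul_top]
      intro h
      exact q.isPrime.ne_top (top_le_iff.mp (h ▸ hpq))
    haveI : Nontrivial (B ⧸ (p.map (algebraMap A B) • (⊤ : Submodule B B))) :=
      Submodule.Quotient.nontrivial_iff.mpr hne
    obtain ⟨Q, hQ⟩ := associatedPrimes.nonempty B (B ⧸ (p.map (algebraMap A B) • (⊤ : Submodule B B)))
    have hQt : Q ∈ associatedPrimes B (B ⊗[A] G) := Helper1.AssTensor.mem_ass_tensor_of_mem hp hQ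
    have hQN : Q ∈ associatedPrimes B N := by
      rw [← LinearEquiv.AssociatedPrimes.eq hf.equiv]; exact hQt
    have hpQ : p.map (algebraMap A B) ≤ Q := by
      obtain ⟨z, _, hz⟩ := Kollar.exists_of_mem_ass hQ
      intro b hb
      rw [hz]
      obtain ⟨y, rfl⟩ := Submodule.Quotient.mk_surjective _ z
      rw [← Submodule.Quotient.mk_smul, Submodule.Quotient.mk_eq_zero]
      exact Submodule.smul_mem_smul hb Submodule.mem_top
    have hIQ : I.map (algebraMap A B) ≤ Q := (Ideal.map_mono hIp).trans hpQ
    have := (idealDepth_eq_zero_iff (I.map (algebraMap A B)) N hIN).mpr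
      (fun b hb => Depth.not_regular_of_mem_ass B N Q hQN b (hIQ hb))
    rw [this]; rfl
  | succ r ih =>
    intro G N _ _ _ _ _ _ _ f hf hIG hd
    haveI : Module.Finite B N := finite_of_isBaseChange I hf
    have hIN := smul_top_ne_top_of_isBaseChange I hI hf hIG
    have hx : ∃ x ∈ I, IsSMulRegular G x := by
      by_contra hcon
      push_neg at hcon
      have := (idealDepth_eq_zero_iff I G hIG).mpr hcon
      rw [this] at hd
      have h1 : (0 : ℕ∞) = ((r + 1 : ℕ) : ℕ∞) := hd
      have h2 : (0 : ℕ) = r + 1 := by exact_mod_cast h1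
      omega
    obtain ⟨x, hxI, hreg⟩ := hx
    have hdq := DepthCM.idealDepth_quotSMulTop I G hIG x hxI hreg
    have hdq' : LocCoh.idealDepth I (QuotSMulTop x G) = r := by
      have h5 : LocCoh.idealDepth I (QuotSMulTop x G) + 1 = (r : ℕ∞) + 1 := by
        rw [hdq, hd]; push_cast; rfl
      exact ENat.add_left_injective_of_ne_top (by simp) h5
    have e := (QuotSMulTop.algebraMapTensorEquivTensorQuotSMulTop x G B).symm ≪≫ₗ
      QuotSMulTop.congr ((algebraMap A B) x) hf.equiv
    have hg : IsBaseChange B <|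
        e.toLinearMap.restrictScalars A ∘ₗ TensorProduct.mk A B (QuotSMulTop x G) 1 :=
      IsBaseChange.of_equiv e (fun _ ↦ by simp)
    have hIG' : I • (⊤ : Submodule A (QuotSMulTop x G)) ≠ ⊤ :=
      DepthRees.smul_top_quotSMulTop_ne_top hxI hIG
    have h6 := ih (QuotSMulTop x G) (QuotSMulTop (algebraMap A B x) N) _ hg hIG' hdq'
    have hregN : IsSMulRegular N (algebraMap A B x) := hreg.of_flat_of_isBaseChange hf
    have hxB : algebraMap A B x ∈ I.map (algebraMap A B) := Ideal.mem_map_of_mem _ hxI
    have h7 := DepthCM.idealDepth_quotSMulTop (I.map (algebraMap A B)) N hIN _ hxB hregN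
    rw [← h7, h6]; push_cast; rfl

theorem depth_baseChange
    (hI : ∀ p : PrimeSpectrum A, I ≤ p.asIdeal →
      ∃ q : PrimeSpectrum B, q.asIdeal.comap (algebraMap A B) = p.asIdeal)
    (G : Type u) [AddCommGroup G] [Module A G] [Module.Finite A G] :
    LocCoh.idealDepth (I.map (algebraMap A B)) (B ⊗[A] G) = LocCoh.idealDepth I G := by
  by_cases hIG : I • (⊤ : Submodule A G) = ⊤
  · have hIN : (I.map (algebraMap A B)) • (⊤ : Submodule B (B ⊗[A] G)) = ⊤ := by
      rw [eq_top_iff]
      suffices hall : ∀ z : B ⊗[A] G, z ∈ (I.map (algebraMap A B)) • (⊤ : Submodule B (B ⊗[A] G)) from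
        fun z _ => hall z
      intro z
      induction z using TensorProduct.induction_on with
      | zero => exact Submodule.zero_mem _
      | add x y hx hy => exact Submodule.add_mem _ hx hy
      | tmul b g =>
        have hg : g ∈ I • (⊤ : Submodule A G) := by rw [hIG]; trivial
        refine Submodule.smul_induction_on hg ?_ ?_
        · intro a ha g' _
          rw [TensorProduct.tmul_smul, ← algebraMap_smul B a (b ⊗ₜ[A] g')]
          exact Submodule.smul_mem_smul (Ideal.mem_map_of_mem _ ha) Submodule.mem_top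
        · intro x y hx hy
          rw [TensorProduct.tmul_add]
          exact Submodule.add_mem _ hx hy
    unfold LocCoh.idealDepth
    rw [if_pos hIG, if_pos hIN]
  · obtain ⟨r, hr⟩ := ENat.ne_top_iff_exists.mp (DepthCM.idealDepth_ne_top I G hIG)
    rw [← hr]
    exact depth_baseChange_aux I hI r G (B ⊗[A] G) (TensorProduct.mk A B G 1)
      (TensorProduct.isBaseChange A G B) hIG hr.symm

end Depth

end Groth.Agent.Helper2.FlatHt
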