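import Mathlib
import Groth.Prelude

set_option autoImplicit false
universe u

namespace Groth.Agent.Helper2.FlatLift

open TensorProduct

section mult

variable {R : Type u} [CommRing R] (J : Ideal R)

/-- multiplication `N ⊗ J → N`. -/
noncomputable def mult (N : Type u) [AddCommGroup N] [Module R N] : N ⊗[R] ↥J →ₗ[R] N :=
  (TensorProduct.rid R N).toLinearMap ∘ₗ (LinearMap.lTensor N (Submodule.subtype J))

theorem mult_apply (N : Type u) [AddCommGroup N] [Module R N] (z : N ⊗[R] ↥J) :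
    mult J N z = TensorProduct.rid R N (LinearMap.lTensor N (Submodule.subtype J) z) := rfl

theorem mult_tmul (N : Type u) [AddCommGroup N] [Module R N] (n : N) (j : J) :
    mult J N (n ⊗ₜ j) = (j : R) • n := by
  simp [mult_apply]

theorem mult_injective (N : Type u) [AddCommGroup N] [Module R N] [Module.Flat R N] :
    Function.Injective (mult J N) := by
  have h1 : Function.Injective (LinearMap.lTensor N (Submodule.subtype J)) :=
    Module.Flat.lTensor_preserves_injective_linearMap _ Subtype.val_injective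
  exact (TensorProduct.rid R N).injective.comp h1

theorem mult_natural {N Q : Type u} [AddCommGroup N] [Module R N] [AddCommGroup Q] [Module R Q]
    (g : N →ₗ[R] Q) (z : N ⊗[R] ↥J) :
    mult J Q (LinearMap.rTensor ↥J g z) = g (mult J N z) := by
  induction z using TensorProduct.induction_on with
  | zero => simp
  | add x y hx hy => simp only [map_add, hx, hy]
  | tmul n j => simp [mult_tmul]

/-- the key vanishing lemma. -/
theorem rTensor_eq_zero_of_mult_mem {N Q : Type u} [AddCommGroup N] [Module R N]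
    [AddCommGroup Q] [Module R Q] (K : Submodule R N) [Module.Flat R (N ⧸ K)]
    (g : N →ₗ[R] Q) (hg : ∀ x ∈ K, g x = 0) (z : N ⊗[R] ↥J) (hz : mult J N z ∈ K) :
    LinearMap.rTensor ↥J g z = 0 := by
  have hK : K ≤ LinearMap.ker g := fun x hx => hg x hx
  have hfac : g = (K.liftQ g hK) ∘ₗ K.mkQ := by
    ext x
    simp
  have h1 : LinearMap.rTensor ↥J K.mkQ z = 0 := by
    apply mult_injective J (N ⧸ K)
    rw [mult_natural, map_zero]
    exact (Submodule.Quotient.mk_eq_zero K).mpr hz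
  rw [hfac, LinearMap.rTensor_comp, LinearMap.comp_apply, h1, map_zero]

end mult

section alg

variable {R : Type u} [CommRing R] (J : Ideal R) {S : Type u} [CommRing S] [Algebra R S]

theorem mult_smul (s : S) (z : S ⊗[R] ↥J) : mult J S (s • z) = s * mult J S z := by
  induction z using TensorProduct.induction_on with
  | zero => simp
  | add x y hx hy => simp only [smul_add, map_add, hx, hy, mul_add]
  | tmul n j =>
    rw [TensorProduct.smul_tmul', mult_tmul, mult_tmul, smul_eq_mul, mul_smul_comm]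

theorem mem_map_iff_exists_mult (y : S) :
    y ∈ J.map (algebraMap R S) ↔ ∃ z : S ⊗[R] ↥J, mult J S z = y := by
  constructor
  · intro hy
    refine Submodule.span_induction (p := fun y _ => ∃ z : S ⊗[R] ↥J, mult J S z = y)
      ?_ ?_ ?_ ?_ hy
    · rintro _ ⟨j, hj, rfl⟩
      refine ⟨(1 : S) ⊗ₜ ⟨j, hj⟩, ?_⟩
      rw [mult_tmul, Algebra.smul_def, mul_one]
    · exact ⟨0, map_zero _⟩
    · rintro x y _ _ ⟨zx, hzx⟩ ⟨zy, hzy⟩
      exact ⟨zx + zy, by rw [map_add, hzx, hzy]⟩
    · rintro a x _ ⟨zx, hzx⟩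
      exact ⟨a • zx, by rw [mult_smul, hzx, smul_eq_mul]⟩
  · rintro ⟨z, rfl⟩
    induction z using TensorProduct.induction_on with
    | zero => rw [map_zero]; exact Submodule.zero_mem _
    | add x y hx hy => rw [map_add]; exact Submodule.add_mem _ hx hy
    | tmul n j =>
      rw [mult_tmul, Algebra.smul_def]
      exact Ideal.mul_mem_right _ _ (Ideal.mem_map_of_mem _ j.2)

variable {Q : Type u} [CommRing Q] [Algebra R Q] [Algebra S Q] [IsScalarTower R S Q]

theorem rTensor_smul (s : S) (z : S ⊗[R] ↥J) :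
    LinearMap.rTensor ↥J (IsScalarTower.toAlgHom R S Q).toLinearMap (s • z) =
      s • LinearMap.rTensor ↥J (IsScalarTower.toAlgHom R S Q).toLinearMap z := by
  induction z using TensorProduct.induction_on with
  | zero => simp
  | add x y hx hy => simp only [smul_add, map_add, hx, hy]
  | tmul n j =>
    rw [TensorProduct.smul_tmul', LinearMap.rTensor_tmul, LinearMap.rTensor_tmul,
      TensorProduct.smul_tmul']
    congr 1
    simp [Algebra.smul_def]

end alg

section key

variable {R : Type u} [CommRing R] (J : Ideal R) {S : Type u} [CommRing S] [Algebra R S]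
  {Q : Type u} [CommRing Q] [Algebra R Q]

/-- the key vanishing lemma, for an ideal with flat quotient. -/
theorem rTensor_eq_zero_of_mult_mem' (I' : Ideal S) [Module.Flat R (S ⧸ I')]
    (G : S →ₐ[R] Q) (hG : ∀ x ∈ I', G x = 0) (z : S ⊗[R] ↥J) (hz : mult J S z ∈ I') :
    LinearMap.rTensor ↥J G.toLinearMap z = 0 := by
  have hfac : G.toLinearMap =
      (Ideal.Quotient.liftₐ I' G hG).toLinearMap ∘ₗ (Ideal.Quotient.mkₐ R I').toLinearMap := by
    ext x
    simp
  have h1 : LinearMap.rTensor ↥J (Ideal.Quotient.mkₐ R I').toLinearMap z = 0 := by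
    apply mult_injective J (S ⧸ I')
    rw [mult_natural, map_zero]
    exact Ideal.Quotient.eq_zero_iff_mem.mpr hz
  rw [hfac, LinearMap.rTensor_comp, LinearMap.comp_apply, h1, map_zero]

end key

section main

variable {R : Type u} [CommRing R] (J : Ideal R) {S : Type u} [CommRing S] [Algebra R S]
  (I : Ideal (S ⧸ J.map (algebraMap R S)))

/-- the projection `S → (S/JS)/I`. -/
noncomputable abbrev G : S →ₐ[R] ((S ⧸ J.map (algebraMap R S)) ⧸ I) := IsScalarTower.toAlgHom R S _

theorem G_apply (x : S) :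
    G J I x = Ideal.Quotient.mk I (Ideal.Quotient.mk (J.map (algebraMap R S)) x) := rfl

variable {J I}

theorem G_eq_zero {I' : Ideal S}
    (hI' : I'.map (Ideal.Quotient.mk (J.map (algebraMap R S))) = I) :
    ∀ x ∈ I', G J I x = 0 := by
  intro x hx
  rw [G_apply, Ideal.Quotient.eq_zero_iff_mem, ← hI']
  exact Ideal.mem_map_of_mem _ hx

variable [Module.Flat R S] {I' I'' : Ideal S} [Module.Flat R (S ⧸ I')] [Module.Flat R (S ⧸ I'')]
  (hI' : I'.map (Ideal.Quotient.mk (J.map (algebraMap R S))) = I)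
  (hI'' : I''.map (Ideal.Quotient.mk (J.map (algebraMap R S))) = I)

include hI' hI'' in
theorem wd {x' x'₁ x'' x''₁ : S} (h1 : x' ∈ I') (h1' : x'₁ ∈ I') (h2 : x'' ∈ I'')
    (h2' : x''₁ ∈ I'')
    (e1 : Ideal.Quotient.mk (J.map (algebraMap R S)) x'₁ =
      Ideal.Quotient.mk (J.map (algebraMap R S)) x')
    (e2 : Ideal.Quotient.mk (J.map (algebraMap R S)) x''₁ =
      Ideal.Quotient.mk (J.map (algebraMap R S)) x'')
    {z z₁ : S ⊗[R] ↥J} (hz : mult J S z = x'' - x') (hz₁ : mult J S z₁ = x''₁ - x'₁) :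
    LinearMap.rTensor ↥J (G J I).toLinearMap z₁ = LinearMap.rTensor ↥J (G J I).toLinearMap z := by
  have m1 : x'₁ - x' ∈ J.map (algebraMap R S) := by
    rw [← Ideal.Quotient.eq_zero_iff_mem, map_sub, e1, sub_self]
  have m2 : x''₁ - x'' ∈ J.map (algebraMap R S) := by
    rw [← Ideal.Quotient.eq_zero_iff_mem, map_sub, e2, sub_self]
  obtain ⟨w', hw'⟩ := (mem_map_iff_exists_mult J _).mp m1
  obtain ⟨w'', hw''⟩ := (mem_map_iff_exists_mult J _).mp m2
  have k1 : LinearMap.rTensor ↥J (G J I).toLinearMap w' = 0 :=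
    rTensor_eq_zero_of_mult_mem' J I' (G J I) (G_eq_zero hI') w'
      (by rw [hw']; exact I'.sub_mem h1' h1)
  have k2 : LinearMap.rTensor ↥J (G J I).toLinearMap w'' = 0 :=
    rTensor_eq_zero_of_mult_mem' J I'' (G J I) (G_eq_zero hI'') w''
      (by rw [hw'']; exact I''.sub_mem h2' h2)
  have hz1 : z₁ = z + w'' - w' := by
    apply mult_injective J S
    rw [map_sub, map_add, hz, hz₁, hw', hw'']
    ring
  rw [hz1, map_sub, map_add, k1, k2, add_zero, sub_zero]

include hI' hI'' in
theorem exists_data (x : ↥I) : ∃ (x' x'' : S) (z : S ⊗[R] ↥J), x' ∈ I' ∧ x'' ∈ I'' ∧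
    Ideal.Quotient.mk (J.map (algebraMap R S)) x' = x.1 ∧
    Ideal.Quotient.mk (J.map (algebraMap R S)) x'' = x.1 ∧ mult J S z = x'' - x' := by
  have hx1 : x.1 ∈ I'.map (Ideal.Quotient.mk (J.map (algebraMap R S))) := hI' ▸ x.2
  have hx2 : x.1 ∈ I''.map (Ideal.Quotient.mk (J.map (algebraMap R S))) := hI'' ▸ x.2
  obtain ⟨x', hx', e'⟩ := (Ideal.mem_map_iff_of_surjective _ Ideal.Quotient.mk_surjective).mp hx1
  obtain ⟨x'', hx'', e''⟩ := (Ideal.mem_map_iff_of_surjective _ Ideal.Quotient.mk_surjective).mp hx2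
  have m : x'' - x' ∈ J.map (algebraMap R S) := by
    rw [← Ideal.Quotient.eq_zero_iff_mem, map_sub, e', e'', sub_self]
  obtain ⟨z, hz⟩ := (mem_map_iff_exists_mult J _).mp m
  exact ⟨x', x'', z, hx', hx'', e', e'', hz⟩

/-- the value of the difference homomorphism. -/
noncomputable def φval (x : ↥I) : ((S ⧸ J.map (algebraMap R S)) ⧸ I) ⊗[R] ↥J :=
  LinearMap.rTensor ↥J (G J I).toLinearMap (exists_data hI' hI'' x).choose_spec.choose_spec.choose

include hI' hI'' in
theorem φval_eq (x : ↥I) {x' x'' : S} {z : S ⊗[R] ↥J} (h1 : x' ∈ I') (h2 : x'' ∈ I'')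
    (e1 : Ideal.Quotient.mk (J.map (algebraMap R S)) x' = x.1)
    (e2 : Ideal.Quotient.mk (J.map (algebraMap R S)) x'' = x.1) (hz : mult J S z = x'' - x') :
    LinearMap.rTensor ↥J (G J I).toLinearMap z = φval hI' hI'' x := by
  obtain ⟨c1, c2, c3, c4, c5⟩ := (exists_data hI' hI'' x).choose_spec.choose_spec.choose_spec
  exact wd hI' hI'' c1 h1 c2 h2 (e1.trans c3.symm) (e2.trans c4.symm) c5 hz

end main

section final

theorem main (A' : Type u) [CommRing A'] (J : Ideal A') (B' : Type u) [CommRing B'] [Algebra A' B']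
    [Module.Flat A' B'] (I : Ideal (B' ⧸ J.map (algebraMap A' B')))
    (I' I'' : Ideal B') [Module.Flat A' (B' ⧸ I')] [Module.Flat A' (B' ⧸ I'')]
    (hI' : I'.map (Ideal.Quotient.mk (J.map (algebraMap A' B'))) = I)
    (hI'' : I''.map (Ideal.Quotient.mk (J.map (algebraMap A' B'))) = I) :
    ∃! φ : ↥I →ₗ[B'] (((B' ⧸ J.map (algebraMap A' B')) ⧸ I) ⊗[A'] ↥J),
      (∀ (x : (B' ⧸ J.map (algebraMap A' B'))) (hx : x ∈ I) (x' x'' : B'), x' ∈ I' → x'' ∈ I'' →
          Ideal.Quotient.mk (J.map (algebraMap A' B')) x' = x → Ideal.Quotient.mk (J.map (algebraMap A' B')) x'' = x →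
          ∀ z : B' ⊗[A'] ↥J, TensorProduct.rid A' B' (LinearMap.lTensor B' (Submodule.subtype J) z) = x'' - x' →
            LinearMap.rTensor ↥J (IsScalarTower.toAlgHom A' B' ((B' ⧸ J.map (algebraMap A' B')) ⧸ I)).toLinearMap z = φ ⟨x, hx⟩) := by
  let φ : ↥I →ₗ[B'] (((B' ⧸ J.map (algebraMap A' B')) ⧸ I) ⊗[A'] ↥J) :=
    { toFun := φval hI' hI''
      map_add' := by
        intro a b
        obtain ⟨a', a'', za, ha1, ha2, ha3, ha4, ha5⟩ := exists_data hI' hI'' a
        obtain ⟨b', b'', zb, hb1, hb2, hb3, hb4, hb5⟩ := exists_data hI' hI'' b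
        rw [← φval_eq hI' hI'' a ha1 ha2 ha3 ha4 ha5, ← φval_eq hI' hI'' b hb1 hb2 hb3 hb4 hb5,
          ← map_add]
        symm
        apply φval_eq hI' hI'' (a + b) (I'.add_mem ha1 hb1) (I''.add_mem ha2 hb2)
        · rw [map_add, ha3, hb3]; rfl
        · rw [map_add, ha4, hb4]; rfl
        · rw [map_add, ha5, hb5]; ring
      map_smul' := by
        intro s a
        obtain ⟨a', a'', za, ha1, ha2, ha3, ha4, ha5⟩ := exists_data hI' hI'' a
        rw [RingHom.id_apply, ← φval_eq hI' hI'' a ha1 ha2 ha3 ha4 ha5, ← rTensor_smul]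
        symm
        apply φval_eq hI' hI'' (s • a) (I'.mul_mem_left s ha1) (I''.mul_mem_left s ha2)
        · rw [map_mul, ha3]; rfl
        · rw [map_mul, ha4]; rfl
        · rw [mult_smul, ha5]; ring }
  refine ⟨φ, ?_, ?_⟩
  · intro x hx x' x'' h1 h2 e1 e2 z hz
    exact φval_eq hI' hI'' ⟨x, hx⟩ h1 h2 e1 e2 hz
  · intro ψ hψ
    apply LinearMap.ext
    intro a
    obtain ⟨a', a'', za, ha1, ha2, ha3, ha4, ha5⟩ := exists_data hI' hI'' a
    have h1 := hψ a.1 a.2 a' a'' ha1 ha2 ha3 ha4 za ha5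
    have h2 := φval_eq hI' hI'' a ha1 ha2 ha3 ha4 ha5
    exact h1.symm.trans h2

end final

end Groth.Agent.Helper2.FlatLift
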