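import Mathlib
import Groth.Prelude
import Groth.Agent.Helper2.FlatLift
import Groth.Agent.Helper1.ArtFlat

set_option autoImplicit false
universe u

namespace Groth.Agent.Helper2.FlatLift2

open TensorProduct Groth.Agent.Helper2.FlatLift

section modlemmas

variable {R : Type u} [CommRing R] (J : Ideal R)

theorem mem_smul_top_iff_exists_mult (N : Type u) [AddCommGroup N] [Module R N] (y : N) :
    y ∈ J • (⊤ : Submodule R N) ↔ ∃ z : N ⊗[R] ↥J, mult J N z = y := by
  constructor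
  · intro hy
    refine Submodule.smul_induction_on hy ?_ ?_
    · intro r hr n _
      exact ⟨n ⊗ₜ ⟨r, hr⟩, mult_tmul J N n ⟨r, hr⟩⟩
    · rintro x y ⟨zx, hzx⟩ ⟨zy, hzy⟩
      exact ⟨zx + zy, by rw [map_add, hzx, hzy]⟩
  · rintro ⟨z, rfl⟩
    induction z using TensorProduct.induction_on with
    | zero => rw [map_zero]; exact Submodule.zero_mem _
    | add x y hx hy => rw [map_add]; exact Submodule.add_mem _ hx hy
    | tmul n j =>
      rw [mult_tmul]
      exact Submodule.smul_mem_smul j.2 Submodule.mem_top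

/-- flat quotient ⟹ `I ∩ JS = J I`. -/
theorem mem_smul_of_flat_quotient {S : Type u} [CommRing S] [Algebra R S] (I : Ideal S)
    [Module.Flat R (S ⧸ I)] (y : S) (hy : y ∈ I) (hy' : y ∈ J • (⊤ : Submodule R S)) :
    y ∈ J • (I.restrictScalars R) := by
  obtain ⟨z, hz⟩ := (mem_smul_top_iff_exists_mult J S y).mp hy'
  have h1 : LinearMap.rTensor ↥J (Ideal.Quotient.mkₐ R I).toLinearMap z = 0 :=
    rTensor_eq_zero_of_mult_mem' J I (Ideal.Quotient.mkₐ R I)
      (fun x hx => Ideal.Quotient.eq_zero_iff_mem.mpr hx) z (hz ▸ hy)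
  have hex : Function.Exact (I.restrictScalars R).subtype (Ideal.Quotient.mkₐ R I).toLinearMap := by
    intro s
    constructor
    · intro hs
      exact ⟨⟨s, Ideal.Quotient.eq_zero_iff_mem.mp hs⟩, rfl⟩
    · rintro ⟨⟨s', hs'⟩, rfl⟩
      exact Ideal.Quotient.eq_zero_iff_mem.mpr hs'
  have hsurj : Function.Surjective (Ideal.Quotient.mkₐ R I).toLinearMap :=
    Ideal.Quotient.mk_surjective
  obtain ⟨w, hw⟩ := (rTensor_exact ↥J hex hsurj z).mp h1
  have h2 : y = (I.restrictScalars R).subtype (mult J _ w) := by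
    rw [← mult_natural, hw, hz]
  have h3 : mult J _ w ∈ J • (⊤ : Submodule R ↥(I.restrictScalars R)) :=
    (mem_smul_top_iff_exists_mult J _ _).mpr ⟨w, rfl⟩
  rw [Submodule.mem_smul_top_iff] at h3
  rw [h2]
  exact h3

end modlemmas

section constr

variable {R : Type u} [CommRing R] {J : Ideal R} {S : Type u} [CommRing S] [Algebra R S]
  {I : Ideal (S ⧸ J.map (algebraMap R S))} (I' : Ideal S)
  (φ : ↥I →ₗ[S] (((S ⧸ J.map (algebraMap R S)) ⧸ I) ⊗[R] ↥J))

/-- the translated ideal. -/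
def I2 : Ideal S where
  carrier := {y | ∃ (hy : Ideal.Quotient.mk (J.map (algebraMap R S)) y ∈ I) (x' : S)
    (z : S ⊗[R] ↥J), x' ∈ I' ∧
      Ideal.Quotient.mk (J.map (algebraMap R S)) x' = Ideal.Quotient.mk (J.map (algebraMap R S)) y ∧
      mult J S z = y - x' ∧
      LinearMap.rTensor ↥J (G J I).toLinearMap z = φ ⟨Ideal.Quotient.mk _ y, hy⟩}
  add_mem' := by
    rintro a b ⟨ha, a', za, ha1, ha2, ha3, ha4⟩ ⟨hb, b', zb, hb1, hb2, hb3, hb4⟩
    refine ⟨by rw [map_add]; exact I.add_mem ha hb, a' + b', za + zb, I'.add_mem ha1 hb1, ?_, ?_, ?_⟩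
    · rw [map_add, map_add, ha2, hb2]
    · rw [map_add, ha3, hb3]; ring
    · rw [map_add, ha4, hb4, ← map_add]
      congr 1
  zero_mem' := by
    refine ⟨by rw [map_zero]; exact I.zero_mem, 0, 0, I'.zero_mem, rfl, ?_, ?_⟩
    · rw [map_zero, sub_zero]
    · rw [map_zero]
      symm
      convert map_zero φ
      exact map_zero _
  smul_mem' := by
    rintro s a ⟨ha, a', za, ha1, ha2, ha3, ha4⟩
    refine ⟨by rw [smul_eq_mul, map_mul]; exact I.mul_mem_left _ ha, s * a', s • za,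
      I'.mul_mem_left s ha1, ?_, ?_, ?_⟩
    · rw [smul_eq_mul, map_mul, map_mul, ha2]
    · rw [mult_smul, ha3, smul_eq_mul]; ring
    · rw [rTensor_smul, ha4, ← map_smul]
      congr 1

theorem mem_I2 (y : S) : y ∈ I2 I' φ ↔
    ∃ (hy : Ideal.Quotient.mk (J.map (algebraMap R S)) y ∈ I) (x' : S)
    (z : S ⊗[R] ↥J), x' ∈ I' ∧
      Ideal.Quotient.mk (J.map (algebraMap R S)) x' = Ideal.Quotient.mk (J.map (algebraMap R S)) y ∧
      mult J S z = y - x' ∧
      LinearMap.rTensor ↥J (G J I).toLinearMap z = φ ⟨Ideal.Quotient.mk _ y, hy⟩ := Iff.rfl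

end constr

section props

variable {R : Type u} [CommRing R] {J : Ideal R} {S : Type u} [CommRing S] [Algebra R S]
  {I : Ideal (S ⧸ J.map (algebraMap R S))} {I' : Ideal S}
  (φ : ↥I →ₗ[S] (((S ⧸ J.map (algebraMap R S)) ⧸ I) ⊗[R] ↥J))
  (hI' : I'.map (Ideal.Quotient.mk (J.map (algebraMap R S))) = I)

include hI' in
theorem I2_property [Module.Flat R (S ⧸ I')]
    (x : S ⧸ J.map (algebraMap R S)) (hx : x ∈ I) (x' x'' : S) (h1 : x' ∈ I')
    (h2 : x'' ∈ I2 I' φ) (e1 : Ideal.Quotient.mk (J.map (algebraMap R S)) x' = x)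
    (e2 : Ideal.Quotient.mk (J.map (algebraMap R S)) x'' = x) (z : S ⊗[R] ↥J)
    (hz : mult J S z = x'' - x') :
    LinearMap.rTensor ↥J (G J I).toLinearMap z = φ ⟨x, hx⟩ := by
  obtain ⟨hy, x'₀, z₀, k1, k2, k3, k4⟩ := h2
  have hm : mult J S (z - z₀) ∈ I' := by
    rw [map_sub, hz, k3]
    have : x'' - x' - (x'' - x'₀) = x'₀ - x' := by ring
    rw [this]
    exact I'.sub_mem k1 h1
  have h0 := rTensor_eq_zero_of_mult_mem' J I' (G J I) (G_eq_zero hI') (z - z₀) hm
  rw [map_sub, sub_eq_zero] at h0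
  rw [h0, k4]
  subst e2
  rfl

include hI' in
theorem I2_map : (I2 I' φ).map (Ideal.Quotient.mk (J.map (algebraMap R S))) = I := by
  apply le_antisymm
  · rw [Ideal.map_le_iff_le_comap]
    intro y hy
    exact hy.1
  · intro x hx
    have hx1 : x ∈ I'.map (Ideal.Quotient.mk (J.map (algebraMap R S))) := hI' ▸ hx
    obtain ⟨x', hx', e'⟩ :=
      (Ideal.mem_map_iff_of_surjective _ Ideal.Quotient.mk_surjective).mp hx1
    have hGs : Function.Surjective (G J I).toLinearMap := by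
      intro q
      obtain ⟨q', rfl⟩ := Ideal.Quotient.mk_surjective q
      obtain ⟨q'', rfl⟩ := Ideal.Quotient.mk_surjective q'
      exact ⟨q'', rfl⟩
    obtain ⟨z, hz⟩ := LinearMap.rTensor_surjective ↥J hGs (φ ⟨x, hx⟩)
    have hm : Ideal.Quotient.mk (J.map (algebraMap R S)) (mult J S z) = 0 :=
      Ideal.Quotient.eq_zero_iff_mem.mpr ((mem_map_iff_exists_mult J _).mpr ⟨z, rfl⟩)
    have hy : Ideal.Quotient.mk (J.map (algebraMap R S)) (x' + mult J S z) = x := by
      rw [map_add, hm, add_zero, e']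
    have hmem : x' + mult J S z ∈ I2 I' φ := by
      refine ⟨hy ▸ hx, x', z, hx', ?_, ?_, ?_⟩
      · rw [hy, e']
      · ring
      · rw [hz]
        congr 1
        exact Subtype.ext hy.symm
    rw [← hy]
    exact Ideal.mem_map_of_mem _ hmem

theorem smul_eq_zero_of_mem_map (hJJ : J * J = ⊥) (r : R) (hr : r ∈ J) (b : S)
    (hb : b ∈ J.map (algebraMap R S)) : r • b = 0 := by
  refine Submodule.span_induction (p := fun b _ => r • b = 0) ?_ ?_ ?_ ?_ hb
  · rintro _ ⟨j, hj, rfl⟩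
    rw [Algebra.smul_def, ← map_mul]
    have : r * j ∈ J * J := Ideal.mul_mem_mul hr hj
    rw [hJJ, Ideal.mem_bot] at this
    rw [this, map_zero]
  · exact smul_zero r
  · intro x y _ _ hx hy
    rw [smul_add, hx, hy, add_zero]
  · intro a x _ hx
    rw [smul_comm, hx, smul_zero]

include hI' in
/-- lemma (D). -/
theorem mult_mem_of_rTensor_eq_zero (hJJ : J * J = ⊥) (z : S ⊗[R] ↥J)
    (hz : LinearMap.rTensor ↥J (G J I).toLinearMap z = 0) :
    mult J S z ∈ J • (I'.restrictScalars R) := by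
  set 𝔎 : Submodule R S := (I' ⊔ J.map (algebraMap R S)).restrictScalars R with h𝔎
  have hex : Function.Exact 𝔎.subtype (G J I).toLinearMap := by
    intro s
    constructor
    · intro hs
      have h1 : Ideal.Quotient.mk (J.map (algebraMap R S)) s ∈ I :=
        Ideal.Quotient.eq_zero_iff_mem.mp hs
      rw [← hI'] at h1
      obtain ⟨x', hx', e'⟩ :=
        (Ideal.mem_map_iff_of_surjective _ Ideal.Quotient.mk_surjective).mp h1
      have h2 : s - x' ∈ J.map (algebraMap R S) := by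
        rw [← Ideal.Quotient.eq_zero_iff_mem, map_sub, e', sub_self]
      refine ⟨⟨s, ?_⟩, rfl⟩
      show s ∈ I' ⊔ J.map (algebraMap R S)
      have : s = x' + (s - x') := by ring
      rw [this]
      exact Submodule.add_mem_sup hx' h2
    · rintro ⟨⟨s', hs'⟩, rfl⟩
      have hs'' : s' ∈ I' ⊔ J.map (algebraMap R S) := hs'
      obtain ⟨a, ha, b, hb, rfl⟩ := Submodule.mem_sup.mp hs''
      show G J I (a + b) = 0
      rw [map_add, G_eq_zero hI' a ha, zero_add, G_apply,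
        Ideal.Quotient.eq_zero_iff_mem.mpr hb, map_zero]
  have hGs : Function.Surjective (G J I).toLinearMap := by
    intro q
    obtain ⟨q', rfl⟩ := Ideal.Quotient.mk_surjective q
    obtain ⟨q'', rfl⟩ := Ideal.Quotient.mk_surjective q'
    exact ⟨q'', rfl⟩
  obtain ⟨w, hw⟩ := (rTensor_exact ↥J hex hGs z).mp hz
  have h2 : mult J S z = 𝔎.subtype (mult J _ w) := by
    rw [← mult_natural, hw]
  have h3 : mult J _ w ∈ J • (⊤ : Submodule R ↥𝔎) :=
    (mem_smul_top_iff_exists_mult J _ _).mpr ⟨w, rfl⟩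
  rw [Submodule.mem_smul_top_iff] at h3
  rw [h2]
  have hle : J • 𝔎 ≤ J • (I'.restrictScalars R) := by
    rw [Submodule.smul_le]
    intro r hr n hn
    have hn' : n ∈ I' ⊔ J.map (algebraMap R S) := hn
    obtain ⟨a, ha, b, hb, rfl⟩ := Submodule.mem_sup.mp hn'
    rw [smul_add, smul_eq_zero_of_mem_map hJJ r hr b hb, add_zero]
    exact Submodule.smul_mem_smul hr ha
  exact hle h3

include hI' in
/-- lemma (*). -/
theorem smul_le_smul_of_map_eq (hJJ : J * J = ⊥) (I₂ : Ideal S)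
    (hI₂ : I₂.map (Ideal.Quotient.mk (J.map (algebraMap R S))) = I) :
    J • (I'.restrictScalars R) ≤ J • (I₂.restrictScalars R) := by
  rw [Submodule.smul_le]
  intro r hr a ha
  have ha' : a ∈ I' := ha
  have h1 : Ideal.Quotient.mk (J.map (algebraMap R S)) a ∈ I := by
    rw [← hI']
    exact Ideal.mem_map_of_mem _ ha'
  rw [← hI₂] at h1
  obtain ⟨a₂, ha₂, e₂⟩ :=
    (Ideal.mem_map_iff_of_surjective _ Ideal.Quotient.mk_surjective).mp h1
  have h2 : a - a₂ ∈ J.map (algebraMap R S) := by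
    rw [← Ideal.Quotient.eq_zero_iff_mem, map_sub, e₂, sub_self]
  have h3 := smul_eq_zero_of_mem_map hJJ r hr _ h2
  rw [smul_sub, sub_eq_zero] at h3
  rw [h3]
  exact Submodule.smul_mem_smul hr ha₂

end props

section res

theorem lTensor_residue_injective {R : Type u} [CommRing R] (m : Ideal R) {N : Type u}
    [AddCommGroup N] [Module R N] (K : Submodule R N)
    (h : ∀ y ∈ K, y ∈ m • (⊤ : Submodule R N) → y ∈ m • K) :
    Function.Injective (LinearMap.lTensor (R ⧸ m) K.subtype) := by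
  rw [injective_iff_map_eq_zero]
  intro t ht
  obtain ⟨y, hy⟩ := Submodule.Quotient.mk_surjective _ (TensorProduct.quotTensorEquivQuotSMul K m t)
  have ht' : t = (1 : R ⧸ m) ⊗ₜ[R] y := by
    rw [← TensorProduct.quotTensorEquivQuotSMul_symm_mk, hy, LinearEquiv.symm_apply_apply]
  rw [ht', LinearMap.lTensor_tmul] at ht
  have h1 := congrArg (TensorProduct.quotTensorEquivQuotSMul N m) ht
  rw [TensorProduct.quotTensorEquivQuotSMul_mk_one_tmul, map_zero,
    Submodule.Quotient.mk_eq_zero] at h1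
  have h2 : (y : N) ∈ m • K := h _ y.2 h1
  have h3 : y ∈ m • (⊤ : Submodule R ↥K) := (Submodule.mem_smul_top_iff m K y).mpr h2
  rw [ht', ← TensorProduct.quotTensorEquivQuotSMul_symm_mk,
    (Submodule.Quotient.mk_eq_zero _).mpr h3, map_zero]

end res

section uniq

variable {R : Type u} [CommRing R] {J : Ideal R} {S : Type u} [CommRing S] [Algebra R S]
  {I : Ideal (S ⧸ J.map (algebraMap R S))} {I' : Ideal S}
  (φ : ↥I →ₗ[S] (((S ⧸ J.map (algebraMap R S)) ⧸ I) ⊗[R] ↥J))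
  (hI' : I'.map (Ideal.Quotient.mk (J.map (algebraMap R S))) = I)

include hI' in
theorem le_of_property (hJJ : J * J = ⊥) (I₁ I₂ : Ideal S)
    (h₁ : I₁.map (Ideal.Quotient.mk (J.map (algebraMap R S))) = I)
    (h₂ : I₂.map (Ideal.Quotient.mk (J.map (algebraMap R S))) = I)
    (P₁ : ∀ (x : S ⧸ J.map (algebraMap R S)) (hx : x ∈ I) (x' x'' : S), x' ∈ I' → x'' ∈ I₁ →
      Ideal.Quotient.mk (J.map (algebraMap R S)) x' = x →
      Ideal.Quotient.mk (J.map (algebraMap R S)) x'' = x →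
      ∀ z : S ⊗[R] ↥J, mult J S z = x'' - x' →
        LinearMap.rTensor ↥J (G J I).toLinearMap z = φ ⟨x, hx⟩)
    (P₂ : ∀ (x : S ⧸ J.map (algebraMap R S)) (hx : x ∈ I) (x' x'' : S), x' ∈ I' → x'' ∈ I₂ →
      Ideal.Quotient.mk (J.map (algebraMap R S)) x' = x →
      Ideal.Quotient.mk (J.map (algebraMap R S)) x'' = x →
      ∀ z : S ⊗[R] ↥J, mult J S z = x'' - x' →
        LinearMap.rTensor ↥J (G J I).toLinearMap z = φ ⟨x, hx⟩) :
    I₁ ≤ I₂ := by
  intro y hy
  have hyI : Ideal.Quotient.mk (J.map (algebraMap R S)) y ∈ I := by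
    rw [← h₁]; exact Ideal.mem_map_of_mem _ hy
  have hyI' := hyI
  rw [← hI'] at hyI'
  obtain ⟨x', hx', e'⟩ :=
    (Ideal.mem_map_iff_of_surjective _ Ideal.Quotient.mk_surjective).mp hyI'
  have hyI₂ := hyI
  rw [← h₂] at hyI₂
  obtain ⟨y₂, hy₂, e₂⟩ :=
    (Ideal.mem_map_iff_of_surjective _ Ideal.Quotient.mk_surjective).mp hyI₂
  have m1 : y - x' ∈ J.map (algebraMap R S) := by
    rw [← Ideal.Quotient.eq_zero_iff_mem, map_sub, e', sub_self]
  have m2 : y₂ - x' ∈ J.map (algebraMap R S) := by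
    rw [← Ideal.Quotient.eq_zero_iff_mem, map_sub, e', e₂, sub_self]
  obtain ⟨z, hz⟩ := (mem_map_iff_exists_mult J _).mp m1
  obtain ⟨z₂, hz₂⟩ := (mem_map_iff_exists_mult J _).mp m2
  have r1 := P₁ _ hyI x' y hx' hy e' rfl z hz
  have r2 := P₂ _ hyI x' y₂ hx' hy₂ e' e₂ z₂ hz₂
  have r3 : LinearMap.rTensor ↥J (G J I).toLinearMap (z - z₂) = 0 := by
    rw [map_sub, r1, r2, sub_self]
  have r4 := mult_mem_of_rTensor_eq_zero hI' hJJ (z - z₂) r3
  have r5 := smul_le_smul_of_map_eq hI' hJJ I₂ h₂ r4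
  have r6 : J • (I₂.restrictScalars R) ≤ I₂.restrictScalars R := by
    rw [Submodule.smul_le]
    intro r _ a ha
    exact Submodule.smul_mem _ r ha
  have r7 : mult J S (z - z₂) ∈ I₂ := r6 r5
  rw [map_sub, hz, hz₂] at r7
  have : y = (y - x' - (y₂ - x')) + y₂ := by ring
  rw [this]
  exact I₂.add_mem r7 hy₂

end uniq

section flat

variable {R : Type u} [CommRing R] [IsLocalRing R] [IsArtinianRing R] {J : Ideal R}
  {S : Type u} [CommRing S] [Algebra R S]
  {I : Ideal (S ⧸ J.map (algebraMap R S))} {I' : Ideal S}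
  (φ : ↥I →ₗ[S] (((S ⧸ J.map (algebraMap R S)) ⧸ I) ⊗[R] ↥J))
  (hI' : I'.map (Ideal.Quotient.mk (J.map (algebraMap R S))) = I)

include hI' in
theorem I2_inter (hJ : IsLocalRing.maximalIdeal R * J = ⊥) (hJne : J ≠ ⊤)
    [Module.Flat R (S ⧸ I')]
    [Module.Flat (R ⧸ J) ((S ⧸ J.map (algebraMap R S)) ⧸ I)] :
    ∀ y ∈ (I2 I' φ).restrictScalars R,
      y ∈ IsLocalRing.maximalIdeal R • (⊤ : Submodule R S) →
      y ∈ IsLocalRing.maximalIdeal R • ((I2 I' φ).restrictScalars R) := by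
  intro y hy hym
  set m := IsLocalRing.maximalIdeal R with hm
  have hJm : J ≤ m := IsLocalRing.le_maximalIdeal hJne
  have hJJ : J * J = ⊥ := by
    rw [eq_bot_iff, ← hJ]
    exact Ideal.mul_mono_left hJm
  have hyI2 : y ∈ I2 I' φ := hy
  set mbar : Ideal (R ⧸ J) := m.map (Ideal.Quotient.mk J) with hmbar
  -- step (a)
  have ha1 : Ideal.Quotient.mk (J.map (algebraMap R S)) y ∈ I := hyI2.1
  have ha2 : Ideal.Quotient.mk (J.map (algebraMap R S)) y ∈
      mbar • (⊤ : Submodule (R ⧸ J) (S ⧸ J.map (algebraMap R S))) := by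
    refine Submodule.smul_induction_on (p := fun y => Ideal.Quotient.mk (J.map (algebraMap R S)) y ∈
      mbar • (⊤ : Submodule (R ⧸ J) (S ⧸ J.map (algebraMap R S)))) hym ?_ ?_
    · intro r hr n _
      have h1 : Ideal.Quotient.mk (J.map (algebraMap R S)) (r • n) =
          (Ideal.Quotient.mk J r) • Ideal.Quotient.mk (J.map (algebraMap R S)) n := by
        rw [Algebra.smul_def, map_mul, Algebra.smul_def]
        rfl
      rw [h1]
      exact Submodule.smul_mem_smul (Ideal.mem_map_of_mem _ hr) Submodule.mem_top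
    · intro x y hx hy
      rw [map_add]
      exact Submodule.add_mem _ hx hy
  -- step (b)
  have hb := mem_smul_of_flat_quotient mbar I _ ha1 ha2
  -- step (c)
  have hc : ∃ y₁ ∈ m • ((I2 I' φ).restrictScalars R),
      Ideal.Quotient.mk (J.map (algebraMap R S)) y₁ =
        Ideal.Quotient.mk (J.map (algebraMap R S)) y := by
    refine Submodule.smul_induction_on (p := fun w => ∃ y₁ ∈ m • ((I2 I' φ).restrictScalars R),
      Ideal.Quotient.mk (J.map (algebraMap R S)) y₁ = w) hb ?_ ?_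
    · intro rb hrb x hx
      obtain ⟨r, hr, rfl⟩ :=
        (Ideal.mem_map_iff_of_surjective _ Ideal.Quotient.mk_surjective).mp hrb
      have hx' : x ∈ I := hx
      rw [← I2_map φ hI'] at hx'
      obtain ⟨x'', hx'', rfl⟩ :=
        (Ideal.mem_map_iff_of_surjective _ Ideal.Quotient.mk_surjective).mp hx'
      refine ⟨r • x'', Submodule.smul_mem_smul hr hx'', ?_⟩
      rw [Algebra.smul_def, map_mul, Algebra.smul_def]
      rfl
    · rintro a b ⟨a₁, ha₁, ea⟩ ⟨b₁, hb₁, eb⟩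
      exact ⟨a₁ + b₁, Submodule.add_mem _ ha₁ hb₁, by rw [map_add, ea, eb]⟩
  obtain ⟨y₁, hy₁, ey₁⟩ := hc
  -- step (d)
  have hle : m • ((I2 I' φ).restrictScalars R) ≤ (I2 I' φ).restrictScalars R := by
    rw [Submodule.smul_le]
    intro r _ a ha
    exact Submodule.smul_mem _ r ha
  have hy₁I2 : y₁ ∈ I2 I' φ := hle hy₁
  have hy₂ : y - y₁ ∈ I2 I' φ := (I2 I' φ).sub_mem hyI2 hy₁I2
  have hy₂0 : Ideal.Quotient.mk (J.map (algebraMap R S)) (y - y₁) = 0 := by
    rw [map_sub, ey₁, sub_self]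
  obtain ⟨hyy, x'₀, z₀, k1, k2, k3, k4⟩ := hy₂
  have hφ0 : φ ⟨Ideal.Quotient.mk _ (y - y₁), hyy⟩ = 0 := by
    have : (⟨Ideal.Quotient.mk _ (y - y₁), hyy⟩ : ↥I) = 0 := Subtype.ext hy₂0
    rw [this, map_zero]
  rw [hφ0] at k4
  have d1 := mult_mem_of_rTensor_eq_zero hI' hJJ z₀ k4
  have d2 : x'₀ ∈ J.map (algebraMap R S) := by
    rw [← Ideal.Quotient.eq_zero_iff_mem, k2, hy₂0]
  have d3 : x'₀ ∈ J • (⊤ : Submodule R S) :=
    (mem_smul_top_iff_exists_mult J S x'₀).mpr ((mem_map_iff_exists_mult J x'₀).mp d2)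
  have d4 := mem_smul_of_flat_quotient J I' x'₀ k1 d3
  have d5 : y - y₁ ∈ J • (I'.restrictScalars R) := by
    have : y - y₁ = x'₀ + mult J S z₀ := by rw [k3]; ring
    rw [this]
    exact Submodule.add_mem _ d4 d1
  have d6 := smul_le_smul_of_map_eq hI' hJJ (I2 I' φ) (I2_map φ hI') d5
  have d7 : y - y₁ ∈ m • ((I2 I' φ).restrictScalars R) := Submodule.smul_mono_left hJm d6
  have : y = y₁ + (y - y₁) := by ring
  rw [this]
  exact Submodule.add_mem _ hy₁ d7

include hI' in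
theorem I2_flat (hJ : IsLocalRing.maximalIdeal R * J = ⊥) (hJne : J ≠ ⊤)
    [Module.Flat R S] [Module.Flat R (S ⧸ I')]
    [Module.Flat (R ⧸ J) ((S ⧸ J.map (algebraMap R S)) ⧸ I)] :
    Module.Flat R (S ⧸ I2 I' φ) := by
  have hk : Function.Injective (LinearMap.lTensor (IsLocalRing.ResidueField R)
      ((I2 I' φ).restrictScalars R).subtype) :=
    lTensor_residue_injective (IsLocalRing.maximalIdeal R) _ (I2_inter φ hI' hJ hJne)
  have hex : Function.Exact ((I2 I' φ).restrictScalars R).subtype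
      (Ideal.Quotient.mkₐ R (I2 I' φ)).toLinearMap := by
    intro s
    constructor
    · intro hs
      exact ⟨⟨s, Ideal.Quotient.eq_zero_iff_mem.mp hs⟩, rfl⟩
    · rintro ⟨⟨s', hs'⟩, rfl⟩
      exact Ideal.Quotient.eq_zero_iff_mem.mpr hs'
  exact Groth.Agent.Helper1.ArtFlat.flat_of_residue_injective R
    ((I2 I' φ).restrictScalars R).subtype (Ideal.Quotient.mkₐ R (I2 I' φ)).toLinearMap
    Ideal.Quotient.mk_surjective hex hk

end flat

section final

theorem main (C' : Type u) [CommRing C'] [IsLocalRing C'] [IsArtinianRing C'] (J : Ideal C')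
    (hJ : IsLocalRing.maximalIdeal C' * J = ⊥) (hJne : J ≠ ⊤) (A' : Type u) [CommRing A'] [Algebra C' A'] [Module.Flat C' A']
    (I : Ideal (A' ⧸ J.map (algebraMap C' A')))
    [Module.Flat (C' ⧸ J) ((A' ⧸ J.map (algebraMap C' A')) ⧸ I)]
    (I' : Ideal A') [Module.Flat C' (A' ⧸ I')]
    (hI' : I'.map (Ideal.Quotient.mk (J.map (algebraMap C' A'))) = I)
    (φ : ↥I →ₗ[A'] (((A' ⧸ J.map (algebraMap C' A')) ⧸ I) ⊗[C'] ↥J)) :
    ∃! I'' : Ideal A', Module.Flat C' (A' ⧸ I'') ∧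
      I''.map (Ideal.Quotient.mk (J.map (algebraMap C' A'))) = I ∧
      (∀ (x : (A' ⧸ J.map (algebraMap C' A'))) (hx : x ∈ I) (x' x'' : A'), x' ∈ I' → x'' ∈ I'' →
          Ideal.Quotient.mk (J.map (algebraMap C' A')) x' = x → Ideal.Quotient.mk (J.map (algebraMap C' A')) x'' = x →
          ∀ z : A' ⊗[C'] ↥J, TensorProduct.rid C' A' (LinearMap.lTensor A' (Submodule.subtype J) z) = x'' - x' →
            LinearMap.rTensor ↥J (IsScalarTower.toAlgHom C' A' ((A' ⧸ J.map (algebraMap C' A')) ⧸ I)).toLinearMap z = φ ⟨x, hx⟩) := by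
  have hJm : J ≤ IsLocalRing.maximalIdeal C' := IsLocalRing.le_maximalIdeal hJne
  have hJJ : J * J = ⊥ := by
    rw [eq_bot_iff, ← hJ]
    exact Ideal.mul_mono_left hJm
  refine ⟨I2 I' φ, ⟨I2_flat φ hI' hJ hJne, I2_map φ hI', ?_⟩, ?_⟩
  · intro x hx x' x'' h1 h2 e1 e2 z hz
    exact I2_property φ hI' x hx x' x'' h1 h2 e1 e2 z hz
  · rintro I₁ ⟨_, h₁, P₁⟩
    apply le_antisymm
    · exact le_of_property φ hI' hJJ I₁ (I2 I' φ) h₁ (I2_map φ hI') P₁
        (fun x hx x' x'' h1 h2 e1 e2 z hz => I2_property φ hI' x hx x' x'' h1 h2 e1 e2 z hz)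
    · exact le_of_property φ hI' hJJ (I2 I' φ) I₁ (I2_map φ hI') h₁
        (fun x hx x' x'' h1 h2 e1 e2 z hz => I2_property φ hI' x hx x' x'' h1 h2 e1 e2 z hz) P₁

end final

end Groth.Agent.Helper2.FlatLift2
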