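import Mathlib
import Groth.Prelude
import Groth.Agent.Helper2.FlatLift2

set_option autoImplicit false
universe u

namespace Groth.Agent.Helper2.FlatLift3

open TensorProduct Groth.Agent.Helper2.FlatLift Groth.Agent.Helper2.FlatLift2

section general

variable {R : Type u} [CommRing R] {J : Ideal R} {S : Type u} [CommRing S] [Algebra R S]
  {I : Ideal (S ⧸ J.map (algebraMap R S))} {I' : Ideal S}
  (φ : ↥I →ₗ[S] (((S ⧸ J.map (algebraMap R S)) ⧸ I) ⊗[R] ↥J))
  (hI' : I'.map (Ideal.Quotient.mk (J.map (algebraMap R S))) = I)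

include hI' in
/-- Elements of the translated ideal that vanish modulo `JS` lie in `J • I'`. -/
theorem mem_smul_of_mem_I2_of_mk_eq_zero (hJJ : J * J = ⊥) [Module.Flat R (S ⧸ I')] (y : S)
    (hy : y ∈ I2 I' φ) (hy0 : Ideal.Quotient.mk (J.map (algebraMap R S)) y = 0) :
    y ∈ J • (I'.restrictScalars R) := by
  obtain ⟨hyy, x'₀, z₀, k1, k2, k3, k4⟩ := hy
  have hφ0 : φ ⟨Ideal.Quotient.mk _ y, hyy⟩ = 0 := by
    have : (⟨Ideal.Quotient.mk _ y, hyy⟩ : ↥I) = 0 := Subtype.ext hy0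
    rw [this, map_zero]
  rw [hφ0] at k4
  have d1 := mult_mem_of_rTensor_eq_zero hI' hJJ z₀ k4
  have d2 : x'₀ ∈ J.map (algebraMap R S) := by
    rw [← Ideal.Quotient.eq_zero_iff_mem, k2, hy0]
  have d3 : x'₀ ∈ J • (⊤ : Submodule R S) :=
    (mem_smul_top_iff_exists_mult J S x'₀).mpr ((mem_map_iff_exists_mult J x'₀).mp d2)
  have d4 := mem_smul_of_flat_quotient J I' x'₀ k1 d3
  have : y = x'₀ + mult J S z₀ := by rw [k3]; ring
  rw [this]
  exact Submodule.add_mem _ d4 d1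

include hI' in
theorem smul_le_smul_of_le (hJJ : J * J = ⊥) (𝔠 : Ideal R) (h𝔠 : 𝔠 ≤ J) (I₂ : Ideal S)
    (hI₂ : I₂.map (Ideal.Quotient.mk (J.map (algebraMap R S))) = I) :
    𝔠 • (I'.restrictScalars R) ≤ 𝔠 • (I₂.restrictScalars R) := by
  rw [Submodule.smul_le]
  intro r hr a ha
  have ha' : a ∈ I' := ha
  have h1 : Ideal.Quotient.mk (J.map (algebraMap R S)) a ∈ I := by
    rw [← hI']
    exact Ideal.mem_map_of_mem _ ha'
  rw [← hI₂] at h1
  obtain ⟨a₂, ha₂, e₂⟩ :=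
    (Ideal.mem_map_iff_of_surjective _ Ideal.Quotient.mk_surjective).mp h1
  have h2 : a - a₂ ∈ J.map (algebraMap R S) := by
    rw [← Ideal.Quotient.eq_zero_iff_mem, map_sub, e₂, sub_self]
  have h3 := smul_eq_zero_of_mem_map hJJ r (h𝔠 hr) _ h2
  rw [smul_sub, sub_eq_zero] at h3
  rw [h3]
  exact Submodule.smul_mem_smul hr ha₂

theorem mk_eq_zero_of_mem_smul_top (𝔠 : Ideal R) (h𝔠 : 𝔠 ≤ J) (y : S)
    (hy : y ∈ 𝔠 • (⊤ : Submodule R S)) :
    Ideal.Quotient.mk (J.map (algebraMap R S)) y = 0 := by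
  rw [Ideal.Quotient.eq_zero_iff_mem]
  have h1 : y ∈ J • (⊤ : Submodule R S) := Submodule.smul_mono_left h𝔠 hy
  rw [Ideal.smul_top_eq_map] at h1
  exact h1

include hI' in
theorem I2_inter_le (hJJ : J * J = ⊥) [Module.Flat R (S ⧸ I')] (𝔠 : Ideal R) (h𝔠 : 𝔠 ≤ J)
    (y : S) (hy : y ∈ I2 I' φ) (hyc : y ∈ 𝔠 • (⊤ : Submodule R S)) :
    y ∈ 𝔠 • ((I2 I' φ).restrictScalars R) := by
  have hy0 := mk_eq_zero_of_mem_smul_top 𝔠 h𝔠 y hyc
  have h1 := mem_smul_of_mem_I2_of_mk_eq_zero φ hI' hJJ y hy hy0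
  have hle : J • (I'.restrictScalars R) ≤ I'.restrictScalars R := by
    rw [Submodule.smul_le]
    intro r _ a ha
    exact Submodule.smul_mem _ r ha
  have h2 := mem_smul_of_flat_quotient 𝔠 I' y (hle h1) hyc
  exact smul_le_smul_of_le hI' hJJ 𝔠 h𝔠 (I2 I' φ) (I2_map φ hI') h2

include hI' in
theorem I2_inter_all (hJJ : J * J = ⊥) [Module.Flat R (S ⧸ I')]
    [Module.Flat (R ⧸ J) ((S ⧸ J.map (algebraMap R S)) ⧸ I)] (𝔞 : Ideal R) :
    ∀ y ∈ (I2 I' φ).restrictScalars R, y ∈ 𝔞 • (⊤ : Submodule R S) →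
      y ∈ 𝔞 • ((I2 I' φ).restrictScalars R) := by
  intro y hy hya
  have hyI2 : y ∈ I2 I' φ := hy
  set abar : Ideal (R ⧸ J) := 𝔞.map (Ideal.Quotient.mk J) with habar
  -- step (a)
  have ha1 : Ideal.Quotient.mk (J.map (algebraMap R S)) y ∈ I := hyI2.1
  have ha2 : Ideal.Quotient.mk (J.map (algebraMap R S)) y ∈
      abar • (⊤ : Submodule (R ⧸ J) (S ⧸ J.map (algebraMap R S))) := by
    refine Submodule.smul_induction_on (p := fun y => Ideal.Quotient.mk (J.map (algebraMap R S)) y ∈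
      abar • (⊤ : Submodule (R ⧸ J) (S ⧸ J.map (algebraMap R S)))) hya ?_ ?_
    · intro r hr n _
      have h1 : Ideal.Quotient.mk (J.map (algebraMap R S)) (r • n) =
          (Ideal.Quotient.mk J r) • Ideal.Quotient.mk (J.map (algebraMap R S)) n := by
        rw [Algebra.smul_def, map_mul, Algebra.smul_def]
        rfl
      rw [h1]
      exact Submodule.smul_mem_smul (Ideal.mem_map_of_mem _ hr) Submodule.mem_top
    · intro x y hx hy
      rw [map_add]
      exact Submodule.add_mem _ hx hy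
  -- step (b)
  have hb := mem_smul_of_flat_quotient abar I _ ha1 ha2
  -- step (c)
  have hc : ∃ y₁ ∈ 𝔞 • ((I2 I' φ).restrictScalars R),
      Ideal.Quotient.mk (J.map (algebraMap R S)) y₁ =
        Ideal.Quotient.mk (J.map (algebraMap R S)) y := by
    refine Submodule.smul_induction_on (p := fun w => ∃ y₁ ∈ 𝔞 • ((I2 I' φ).restrictScalars R),
      Ideal.Quotient.mk (J.map (algebraMap R S)) y₁ = w) hb ?_ ?_
    · intro rb hrb x hx
      obtain ⟨r, hr, rfl⟩ :=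
        (Ideal.mem_map_iff_of_surjective _ Ideal.Quotient.mk_surjective).mp hrb
      have hx' : x ∈ I := hx
      rw [← I2_map φ hI'] at hx'
      obtain ⟨x'', hx'', rfl⟩ :=
        (Ideal.mem_map_iff_of_surjective _ Ideal.Quotient.mk_surjective).mp hx'
      refine ⟨r • x'', Submodule.smul_mem_smul hr hx'', ?_⟩
      rw [Algebra.smul_def, map_mul, Algebra.smul_def]
      rfl
    · rintro a b ⟨a₁, ha₁, ea⟩ ⟨b₁, hb₁, eb⟩
      exact ⟨a₁ + b₁, Submodule.add_mem _ ha₁ hb₁, by rw [map_add, ea, eb]⟩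
  obtain ⟨y₁, hy₁, ey₁⟩ := hc
  -- step (d)
  have hleK : 𝔞 • ((I2 I' φ).restrictScalars R) ≤ (I2 I' φ).restrictScalars R := by
    rw [Submodule.smul_le]
    intro r _ a ha
    exact Submodule.smul_mem _ r ha
  have hletop : 𝔞 • ((I2 I' φ).restrictScalars R) ≤ 𝔞 • (⊤ : Submodule R S) :=
    Submodule.smul_mono le_rfl le_top
  have hy₁I2 : y₁ ∈ I2 I' φ := hleK hy₁
  have hwK : y - y₁ ∈ I2 I' φ := (I2 I' φ).sub_mem hyI2 hy₁I2
  have hw0 : Ideal.Quotient.mk (J.map (algebraMap R S)) (y - y₁) = 0 := by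
    rw [map_sub, ey₁, sub_self]
  have hwa : y - y₁ ∈ 𝔞 • (⊤ : Submodule R S) := Submodule.sub_mem _ hya (hletop hy₁)
  have hwJI' := mem_smul_of_mem_I2_of_mk_eq_zero φ hI' hJJ (y - y₁) hwK hw0
  have hleI' : J • (I'.restrictScalars R) ≤ I'.restrictScalars R := by
    rw [Submodule.smul_le]
    intro r _ a ha
    exact Submodule.smul_mem _ r ha
  have hwaI' := mem_smul_of_flat_quotient 𝔞 I' (y - y₁) (hleI' hwJI') hwa
  -- decomposition
  have hdec : ∃ u ∈ 𝔞 • ((I2 I' φ).restrictScalars R),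
      (y - y₁) - u ∈ (𝔞 * J) • (⊤ : Submodule R S) := by
    refine Submodule.smul_induction_on (p := fun w => ∃ u ∈ 𝔞 • ((I2 I' φ).restrictScalars R),
      w - u ∈ (𝔞 * J) • (⊤ : Submodule R S)) hwaI' ?_ ?_
    · intro a ha x hx
      have hx' : x ∈ I' := hx
      have h1 : Ideal.Quotient.mk (J.map (algebraMap R S)) x ∈ I := by
        rw [← hI']
        exact Ideal.mem_map_of_mem _ hx'
      rw [← I2_map φ hI'] at h1
      obtain ⟨k, hk, ek⟩ :=
        (Ideal.mem_map_iff_of_surjective _ Ideal.Quotient.mk_surjective).mp h1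
      have h2 : x - k ∈ J.map (algebraMap R S) := by
        rw [← Ideal.Quotient.eq_zero_iff_mem, map_sub, ek, sub_self]
      have h3 : x - k ∈ J • (⊤ : Submodule R S) := by
        rw [Ideal.smul_top_eq_map]
        exact h2
      refine ⟨a • k, Submodule.smul_mem_smul ha hk, ?_⟩
      rw [← smul_sub, Submodule.mul_smul]
      exact Submodule.smul_mem_smul ha h3
    · rintro a b ⟨ua, hua, ea⟩ ⟨ub, hub, eb⟩
      refine ⟨ua + ub, Submodule.add_mem _ hua hub, ?_⟩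
      have : a + b - (ua + ub) = (a - ua) + (b - ub) := by ring
      rw [this]
      exact Submodule.add_mem _ ea eb
  obtain ⟨u, hu, hv⟩ := hdec
  have huK : u ∈ I2 I' φ := hleK hu
  have hvK : (y - y₁) - u ∈ I2 I' φ := (I2 I' φ).sub_mem hwK huK
  have hv' := I2_inter_le φ hI' hJJ (𝔞 * J) Ideal.mul_le_right _ hvK hv
  have hv'' : (y - y₁) - u ∈ 𝔞 • ((I2 I' φ).restrictScalars R) :=
    Submodule.smul_mono_left Ideal.mul_le_left hv'
  have : y = y₁ + (u + ((y - y₁) - u)) := by ring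
  rw [this]
  exact Submodule.add_mem _ hy₁ (Submodule.add_mem _ hu hv'')

include hI' in
theorem I2_flat (hJJ : J * J = ⊥) [Module.Flat R S] [Module.Flat R (S ⧸ I')]
    [Module.Flat (R ⧸ J) ((S ⧸ J.map (algebraMap R S)) ⧸ I)] :
    Module.Flat R (S ⧸ I2 I' φ) := by
  have hex : Function.Exact ((I2 I' φ).restrictScalars R).subtype
      (Ideal.Quotient.mkₐ R (I2 I' φ)).toLinearMap := by
    intro s
    constructor
    · intro hs
      exact ⟨⟨s, Ideal.Quotient.eq_zero_iff_mem.mp hs⟩, rfl⟩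
    · rintro ⟨⟨s', hs'⟩, rfl⟩
      exact Ideal.Quotient.eq_zero_iff_mem.mpr hs'
  exact Groth.Agent.Helper1.ArtFlat.flat_of_quotient_lTensor_injective
    ((I2 I' φ).restrictScalars R).subtype (Ideal.Quotient.mkₐ R (I2 I' φ)).toLinearMap
    Ideal.Quotient.mk_surjective hex
    (fun 𝔞 => lTensor_residue_injective 𝔞 _ (I2_inter_all φ hI' hJJ 𝔞))

end general

theorem main (A' : Type u) [CommRing A']
    (J : Ideal A') (hJ : J * J = ⊥) (B' : Type u) [CommRing B'] [Algebra A' B'] [Module.Flat A' B']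
    (I : Ideal (B' ⧸ J.map (algebraMap A' B')))
    [Module.Flat (A' ⧸ J) ((B' ⧸ J.map (algebraMap A' B')) ⧸ I)]
    (I' : Ideal B') [Module.Flat A' (B' ⧸ I')]
    (hI' : I'.map (Ideal.Quotient.mk (J.map (algebraMap A' B'))) = I)
    (φ : ↥I →ₗ[B'] (((B' ⧸ J.map (algebraMap A' B')) ⧸ I) ⊗[A'] ↥J)) :
    ∃! I'' : Ideal B', Module.Flat A' (B' ⧸ I'') ∧
      I''.map (Ideal.Quotient.mk (J.map (algebraMap A' B'))) = I ∧
      (∀ (x : (B' ⧸ J.map (algebraMap A' B'))) (hx : x ∈ I) (x' x'' : B'), x' ∈ I' → x'' ∈ I'' →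
          Ideal.Quotient.mk (J.map (algebraMap A' B')) x' = x → Ideal.Quotient.mk (J.map (algebraMap A' B')) x'' = x →
          ∀ z : B' ⊗[A'] ↥J, TensorProduct.rid A' B' (LinearMap.lTensor B' (Submodule.subtype J) z) = x'' - x' →
            LinearMap.rTensor ↥J (IsScalarTower.toAlgHom A' B' ((B' ⧸ J.map (algebraMap A' B')) ⧸ I)).toLinearMap z = φ ⟨x, hx⟩) := by
  refine ⟨I2 I' φ, ⟨I2_flat φ hI' hJ, I2_map φ hI', ?_⟩, ?_⟩
  · intro x hx x' x'' h1 h2 e1 e2 z hz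
    exact I2_property φ hI' x hx x' x'' h1 h2 e1 e2 z hz
  · rintro I₁ ⟨_, h₁, P₁⟩
    apply le_antisymm
    · exact le_of_property φ hI' hJ I₁ (I2 I' φ) h₁ (I2_map φ hI') P₁
        (fun x hx x' x'' h1 h2 e1 e2 z hz => I2_property φ hI' x hx x' x'' h1 h2 e1 e2 z hz)
    · exact le_of_property φ hI' hJ (I2 I' φ) I₁ (I2_map φ hI') h₁
        (fun x hx x' x'' h1 h2 e1 e2 z hz => I2_property φ hI' x hx x' x'' h1 h2 e1 e2 z hz) P₁

end Groth.Agent.Helper2.FlatLift3
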