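import Mathlib
import Groth.Prelude
import Groth.Agent.Lead.FD7
import Groth.Agent.Lead.FD9
import Groth.Agent.Helper4.FPDescent

set_option autoImplicit false
open Function TensorProduct
universe u

namespace Groth.Agent.Helper2.FlatModel

attribute [local instance] Algebra.TensorProduct.rightAlgebra

section StepB
variable {R S M : Type u} [CommRing R] [CommRing S] [Algebra R S] [AddCommGroup M] [Module S M]
  [Module R M] [IsScalarTower R S M] [Module.Flat R M]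
  (R₁ : Type u) [CommRing R₁] [IsNoetherianRing R₁] [Algebra R₁ R]
  (S₁ : Type u) [CommRing S₁] [Algebra R₁ S₁] [Algebra S₁ S] [Algebra R₁ S]
  [IsScalarTower R₁ R S] [IsScalarTower R₁ S₁ S] [Algebra.FiniteType R₁ S₁]
  [Algebra.IsPushout R₁ R S₁ S]
  (M₁ : Type u) [AddCommGroup M₁] [Module S₁ M₁] [Module R₁ M₁] [IsScalarTower R₁ S₁ M₁]
  [Module S₁ M] [IsScalarTower S₁ S M] [Module.Finite S₁ M₁]
  (f₁ : M₁ →ₗ[S₁] M) (hf₁ : IsBaseChange S f₁)

include hf₁ in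
omit [IsNoetherianRing R₁] [Algebra.FiniteType R₁ S₁] [Module.Finite S₁ M₁] in
lemma flat_tensor : Module.Flat R (R ⊗[R₁] M₁) := by
  let e : R ⊗[R₁] M₁ ≃ₗ[R] M :=
    (Algebra.IsPushout.cancelBaseChange R₁ R S₁ S M₁).symm ≪≫ₗ hf₁.equiv.restrictScalars R
  exact Module.Flat.of_linearEquiv e

include hf₁ in
/-- **Step B**: refine a finite type model to a flat one. -/
theorem refine_flat (hft : Algebra.FiniteType ℤ R₁) :
    ∃ (R₀ : Type u) (_ : CommRing R₀) (_ : Algebra R₀ R) (S₀ : Type u) (_ : CommRing S₀)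
      (_ : Algebra R₀ S₀) (_ : Algebra S₀ S) (_ : Algebra R₀ S) (_ : IsScalarTower R₀ R S)
      (_ : IsScalarTower R₀ S₀ S) (M₀ : Type u) (_ : AddCommGroup M₀) (_ : Module S₀ M₀)
      (_ : Module R₀ M₀) (_ : IsScalarTower R₀ S₀ M₀) (_ : Module S₀ M) (_ : IsScalarTower S₀ S M)
      (f : M₀ →ₗ[S₀] M),
      Algebra.FiniteType ℤ R₀ ∧ Algebra.FiniteType R₀ S₀ ∧ Module.Finite S₀ M₀ ∧ Module.Flat R₀ M₀ ∧
        Algebra.IsPushout R₀ R S₀ S ∧ IsBaseChange S f := by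
  haveI := flat_tensor (R := R) R₁ S₁ M₁ f₁ hf₁
  obtain ⟨T, hT⟩ := Groth.Agent.Lead.FD7.core_ft' (A₀ := R₁) S₁ M₁ R
  set C : Subalgebra R₁ R := Algebra.adjoin R₁ (↑T : Set R) with hC
  have hflatC : Module.Flat C (C ⊗[R₁] M₁) := hT C Algebra.subset_adjoin
  haveI hftC : Algebra.FiniteType R₁ C := (Subalgebra.fg_iff_finiteType C).mp ⟨T, rfl⟩
  -- the algebra structure `S₀ → S`
  let φ : C ⊗[R₁] S₁ →ₐ[R₁] S := Algebra.TensorProduct.productMap
    ((IsScalarTower.toAlgHom R₁ R S).comp C.val) (IsScalarTower.toAlgHom R₁ S₁ S)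
  letI algS₀S : Algebra (C ⊗[R₁] S₁) S := φ.toRingHom.toAlgebra
  have hφ : ∀ (c : C) (s : S₁), algebraMap (C ⊗[R₁] S₁) S (c ⊗ₜ s) =
      algebraMap R S (c : R) * algebraMap S₁ S s := by
    intro c s
    change φ (c ⊗ₜ s) = _
    simp [φ]
  have t1' : ∀ c : C, algebraMap C S c = algebraMap (C ⊗[R₁] S₁) S (algebraMap C (C ⊗[R₁] S₁) c) := by
    intro c
    have : algebraMap C (C ⊗[R₁] S₁) c = c ⊗ₜ (1 : S₁) := by
      rw [Algebra.TensorProduct.algebraMap_apply]; rfl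
    rw [this, hφ, map_one, mul_one]
    rfl
  haveI t1 : IsScalarTower C (C ⊗[R₁] S₁) S :=
    @IsScalarTower.of_algebraMap_eq C (C ⊗[R₁] S₁) S _ _ _ _ algS₀S _ t1'
  haveI t2 : IsScalarTower S₁ (C ⊗[R₁] S₁) S := by
    refine IsScalarTower.of_algebraMap_eq (fun s => ?_)
    have : algebraMap S₁ (C ⊗[R₁] S₁) s = (1 : C) ⊗ₜ s := rfl
    rw [this, hφ]
    simp
  have t3' : ∀ r : R₁, algebraMap R₁ S r =
      algebraMap (C ⊗[R₁] S₁) S (algebraMap R₁ (C ⊗[R₁] S₁) r) := by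
    intro r
    have : algebraMap R₁ (C ⊗[R₁] S₁) r = (algebraMap R₁ C r) ⊗ₜ (1 : S₁) := by
      rw [Algebra.TensorProduct.algebraMap_apply]
    rw [this, hφ, map_one, mul_one, IsScalarTower.algebraMap_apply R₁ R S]
    rfl
  haveI t3 : IsScalarTower R₁ (C ⊗[R₁] S₁) S :=
    @IsScalarTower.of_algebraMap_eq R₁ (C ⊗[R₁] S₁) S _ _ _ _ algS₀S _ t3'
  letI modS₀M : Module (C ⊗[R₁] S₁) M := Module.compHom M (algebraMap (C ⊗[R₁] S₁) S)
  haveI t4 : IsScalarTower (C ⊗[R₁] S₁) S M := IsScalarTower.of_algebraMap_smul (fun _ _ => rfl)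
  haveI t5 : IsScalarTower S₁ (C ⊗[R₁] S₁) M := by
    refine IsScalarTower.of_algebraMap_smul (fun s m => ?_)
    change algebraMap (C ⊗[R₁] S₁) S (algebraMap S₁ (C ⊗[R₁] S₁) s) • m = s • m
    rw [← IsScalarTower.algebraMap_apply S₁ (C ⊗[R₁] S₁) S, algebraMap_smul]
  let g : M₁ →ₗ[S₁] (C ⊗[R₁] S₁) ⊗[S₁] M₁ := TensorProduct.mk S₁ (C ⊗[R₁] S₁) M₁ 1
  have hg : IsBaseChange (C ⊗[R₁] S₁) g := TensorProduct.isBaseChange S₁ M₁ (C ⊗[R₁] S₁)
  let f : (C ⊗[R₁] S₁) ⊗[S₁] M₁ →ₗ[C ⊗[R₁] S₁] M := hg.lift f₁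
  have hfg : (f.restrictScalars S₁) ∘ₗ g = f₁ := hg.lift_comp f₁
  refine ⟨C, inferInstance, inferInstance, C ⊗[R₁] S₁, inferInstance, inferInstance, algS₀S,
    inferInstance, inferInstance, t1, (C ⊗[R₁] S₁) ⊗[S₁] M₁, inferInstance, inferInstance,
    inferInstance, inferInstance, modS₀M, t4, f, ?_, ?_, ?_, ?_, ?_, ?_⟩
  · exact Algebra.FiniteType.trans (R := ℤ) (S := R₁) (A := C) hft hftC
  · infer_instance
  · infer_instance
  · exact Module.Flat.of_linearEquiv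
      (Algebra.IsPushout.cancelBaseChange R₁ C S₁ (C ⊗[R₁] S₁) M₁)
  · exact (Algebra.IsPushout.comp_iff R₁ C S₁ (S' := C ⊗[R₁] S₁) (T := R) (T' := S)).1
      inferInstance
  · apply IsBaseChange.of_comp hg
    rw [hfg]
    exact hf₁

end StepB

section StepA
variable {R S M : Type u} [CommRing R] [CommRing S] [Algebra R S] [AddCommGroup M] [Module S M]
  [Module R M] [IsScalarTower R S M] [Module.FinitePresentation S M]

omit [Module R M] [IsScalarTower R S M] in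
open Groth.Agent.Lead.FD9 Groth.Agent.Helper4.FPDescent in
/-- **Step A**: a finite type model of `(R → S, M)` from a tensor model of `R → S`. -/
theorem exists_model_of_tensor (Rc : Type u) [CommRing Rc] [Algebra Rc R]
    (hRc : Algebra.FiniteType ℤ Rc) (Sm : Type u) [CommRing Sm] [Algebra Rc Sm]
    [Algebra.FiniteType Rc Sm] (e : R ⊗[Rc] Sm ≃ₐ[R] S) :
    ∃ (R₁ : Type u) (_ : CommRing R₁) (_ : Algebra R₁ R) (S₁ : Type u) (_ : CommRing S₁)
      (_ : Algebra R₁ S₁) (_ : Algebra S₁ S) (_ : Algebra R₁ S) (_ : IsScalarTower R₁ R S)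
      (_ : IsScalarTower R₁ S₁ S) (M₁ : Type u) (_ : AddCommGroup M₁) (_ : Module S₁ M₁)
      (_ : Module R₁ M₁) (_ : IsScalarTower R₁ S₁ M₁) (_ : Module S₁ M) (_ : IsScalarTower S₁ S M)
      (f₁ : M₁ →ₗ[S₁] M),
      Algebra.FiniteType ℤ R₁ ∧ Algebra.FiniteType R₁ S₁ ∧ Module.Finite S₁ M₁ ∧
        Algebra.IsPushout R₁ R S₁ S ∧ IsBaseChange S f₁ := by
  classical
  obtain ⟨n, m, p, g, hp, hpg⟩ := Module.FinitePresentation.exists_fin' S M
  -- the finitely many coefficients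
  have hT : ∀ (j : Fin m) (i : Fin n), ∃ T : Finset R, ∀ C : Subalgebra Rc R, (↑T : Set R) ⊆ C →
      e.symm (g (Pi.single j 1) i) ∈ (gC Sm R C).range :=
    fun j i => exists_finset_mem_range Sm R _
  choose T hT using hT
  set C : Subalgebra Rc R := Algebra.adjoin Rc
    ((Finset.univ.biUnion (fun j => Finset.univ.biUnion (fun i => T j i)) : Finset R) : Set R)
    with hC
  haveI hftC : Algebra.FiniteType Rc C := (Subalgebra.fg_iff_finiteType C).mp ⟨_, rfl⟩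
  have hw : ∀ (j : Fin m) (i : Fin n), ∃ w : C ⊗[Rc] Sm,
      gC Sm R C w = e.symm (g (Pi.single j 1) i) := by
    intro j i
    refine hT j i C ?_
    intro x hx
    apply Algebra.subset_adjoin
    rw [Finset.mem_coe, Finset.mem_biUnion]
    exact ⟨j, Finset.mem_univ _, Finset.mem_biUnion.2 ⟨i, Finset.mem_univ _, hx⟩⟩
  choose w hw using hw
  -- the algebra structure `S₁ → S`
  let ψ : C ⊗[Rc] Sm →+* S := (e : R ⊗[Rc] Sm →+* S).comp (gC Sm R C).toRingHom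
  letI algS₁S : Algebra (C ⊗[Rc] Sm) S := ψ.toAlgebra
  have hψ : ∀ x : C ⊗[Rc] Sm, algebraMap (C ⊗[Rc] Sm) S x = e (gC Sm R C x) := fun _ => rfl
  have hwS : ∀ j i, algebraMap (C ⊗[Rc] Sm) S (w j i) = g (Pi.single j 1) i := by
    intro j i
    rw [hψ, hw, AlgEquiv.apply_symm_apply]
  have t1' : ∀ c : C, algebraMap C S c =
      algebraMap (C ⊗[Rc] Sm) S (algebraMap C (C ⊗[Rc] Sm) c) := by
    intro c
    have h1 : algebraMap C (C ⊗[Rc] Sm) c = c ⊗ₜ (1 : Sm) := by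
      rw [Algebra.TensorProduct.algebraMap_apply]; rfl
    rw [h1, hψ]
    have h2 : gC Sm R C (c ⊗ₜ (1 : Sm)) = algebraMap R (R ⊗[Rc] Sm) (c : R) := by
      simp [Algebra.TensorProduct.algebraMap_apply]
    rw [h2, e.commutes]
    rfl
  haveI t1 : IsScalarTower C (C ⊗[Rc] Sm) S :=
    @IsScalarTower.of_algebraMap_eq C (C ⊗[Rc] Sm) S _ _ _ _ algS₁S _ t1'
  letI modS₁M : Module (C ⊗[Rc] Sm) M := Module.compHom M (algebraMap (C ⊗[Rc] Sm) S)
  haveI t4 : IsScalarTower (C ⊗[Rc] Sm) S M := IsScalarTower.of_algebraMap_smul (fun _ _ => rfl)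
  -- the module model
  obtain ⟨eM⟩ := nonempty_equiv (R := C ⊗[Rc] Sm) (A := S) g w hwS
  have hker : LinearMap.ker p = LinearMap.range g := LinearMap.exact_iff.mp hpg
  let E : M ≃ₗ[S] S ⊗[C ⊗[Rc] Sm] ((Fin n → C ⊗[Rc] Sm) ⧸ LinearMap.range (gR w)) :=
    (LinearMap.quotKerEquivOfSurjective p hp).symm ≪≫ₗ (Submodule.quotEquivOfEq _ _ hker) ≪≫ₗ eM
  let f₁ : ((Fin n → C ⊗[Rc] Sm) ⧸ LinearMap.range (gR w)) →ₗ[C ⊗[Rc] Sm] M :=
    (E.symm.toLinearMap.restrictScalars (C ⊗[Rc] Sm)) ∘ₗ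
      (TensorProduct.mk (C ⊗[Rc] Sm) S ((Fin n → C ⊗[Rc] Sm) ⧸ LinearMap.range (gR w)) 1)
  have hf₁ : IsBaseChange S f₁ := IsBaseChange.of_equiv E.symm (fun x => rfl)
  haveI : Module.FinitePresentation (C ⊗[Rc] Sm)
      ((Fin n → C ⊗[Rc] Sm) ⧸ LinearMap.range (gR w)) := finitePresentation_coker w
  -- the pushout
  have hpo : Algebra.IsPushout C R (C ⊗[Rc] Sm) S := by
    let E' : R ⊗[C] (C ⊗[Rc] Sm) ≃ₐ[R] S :=
      (Algebra.TensorProduct.cancelBaseChange Rc C R R Sm).trans e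
    haveI : IsScalarTower C (C ⊗[Rc] Sm) (R ⊗[C] (C ⊗[Rc] Sm)) :=
      Algebra.TensorProduct.right_isScalarTower
    refine Algebra.IsPushout.of_equiv (R := C) (R' := R) (S := C ⊗[Rc] Sm)
      (S' := R ⊗[C] (C ⊗[Rc] Sm)) (h := TensorProduct.isPushout) E' ?_
    refine RingHom.ext (fun x => ?_)
    change e (Algebra.TensorProduct.cancelBaseChange Rc C R R Sm ((1 : R) ⊗ₜ[C] x)) =
      e (gC Sm R C x)
    congr 1
    induction x using TensorProduct.induction_on with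
    | zero => simp
    | add a b ha hb => rw [TensorProduct.tmul_add, map_add, map_add, ha, hb]
    | tmul c s =>
      rw [Algebra.TensorProduct.cancelBaseChange_tmul]
      simp [Algebra.smul_def]
  refine ⟨C, inferInstance, inferInstance, C ⊗[Rc] Sm, inferInstance, inferInstance, algS₁S,
    inferInstance, inferInstance, t1, (Fin n → C ⊗[Rc] Sm) ⧸ LinearMap.range (gR w),
    inferInstance, inferInstance, inferInstance, inferInstance, modS₁M, t4, f₁, ?_, ?_, ?_, hpo,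
    hf₁⟩
  · exact Algebra.FiniteType.trans (R := ℤ) (S := Rc) (A := C) hRc hftC
  · infer_instance
  · infer_instance

end StepA

section Main

/-- **Noetherian approximation of a flat finitely presented module** (S9456). -/
theorem exists_flat_model (R : Type u) [CommRing R]
    (S : Type u) [CommRing S] [Algebra R S] [Algebra.FinitePresentation R S] (M : Type u)
    [AddCommGroup M] [Module S M] [Module R M] [IsScalarTower R S M]
    [Module.FinitePresentation S M] [Module.Flat R M] :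
    ∃ (R₀ : Type u) (_ : CommRing R₀) (_ : Algebra R₀ R) (S₀ : Type u) (_ : CommRing S₀)
      (_ : Algebra R₀ S₀) (_ : Algebra S₀ S) (_ : Algebra R₀ S) (_ : IsScalarTower R₀ R S)
      (_ : IsScalarTower R₀ S₀ S) (M₀ : Type u) (_ : AddCommGroup M₀) (_ : Module S₀ M₀)
      (_ : Module R₀ M₀) (_ : IsScalarTower R₀ S₀ M₀) (_ : Module S₀ M) (_ : IsScalarTower S₀ S M)
      (f : M₀ →ₗ[S₀] M),
      Algebra.FiniteType ℤ R₀ ∧ Algebra.FiniteType R₀ S₀ ∧ Module.Finite S₀ M₀ ∧ Module.Flat R₀ M₀ ∧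
        Algebra.IsPushout R₀ R S₀ S ∧ IsBaseChange S f := by
  classical
  let P := Algebra.Presentation.ofFinitePresentation R S
  let e : R ⊗[P.Core] P.ModelOfHasCoeffs P.Core ≃ₐ[R] S := P.tensorModelOfHasCoeffsEquiv P.Core
  obtain ⟨R₁, _, _, S₁, _, _, _, _, _, _, M₁, _, _, _, _, _, _, f₁, h1, h2, h3, h4, h5⟩ :=
    exists_model_of_tensor (M := M) P.Core inferInstance (P.ModelOfHasCoeffs P.Core) e
  haveI : IsNoetherianRing R₁ := Algebra.FiniteType.isNoetherianRing ℤ R₁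
  exact refine_flat R₁ S₁ M₁ f₁ h5 h1

end Main

end Groth.Agent.Helper2.FlatModel
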