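import Mathlib
import Groth.Prelude

namespace Groth.Agent.Helper2.FlatSec

universe u

open Finset in
/-- If `p : E → B` is surjective onto a flat `A`-module and `m • ker p = 0`, then `ker p ∩ mE = 0`. -/
theorem eq_zero_of_mem_map_of_map_eq_zero {A B E : Type*} [CommRing A] [CommRing B] [CommRing E]
    [Algebra A B] [Algebra A E] [Module.Flat A B] (m : Ideal A) (p : E →ₐ[A] B)
    (hp : Function.Surjective p) (hm : ∀ a ∈ m, ∀ x, p x = 0 → a • x = 0) {d : E}
    (hd : d ∈ m.map (algebraMap A E)) (hpd : p d = 0) : d = 0 := by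
  rw [Ideal.map, Ideal.span, Finsupp.mem_span_image_iff_linearCombination] at hd
  obtain ⟨l, hl, rfl⟩ := hd
  have hsupp : ∀ i : l.support, (i : A) ∈ m := fun i => hl i.2
  have hd' : Finsupp.linearCombination E (algebraMap A E) l = ∑ i : l.support, (i : A) • l i := by
    rw [Finsupp.linearCombination_apply, Finsupp.sum, ← Finset.sum_coe_sort]
    refine Finset.sum_congr rfl fun i _ => ?_
    rw [Algebra.smul_def (i : A), smul_eq_mul, mul_comm]
  rw [hd'] at hpd ⊢
  have h0 : ∑ i : l.support, (i : A) • p (l i) = 0 := by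
    rw [← hpd, map_sum]
    exact Finset.sum_congr rfl fun i _ => (map_smul p _ _).symm
  obtain ⟨n, a', y, hx, ha⟩ := Module.Flat.isTrivialRelation_of_sum_smul_eq_zero (R := A) (M := B)
    (f := fun i : l.support => (i : A)) (x := fun i : l.support => p (l i)) h0
  choose y' hy' using fun j => hp (y j)
  have hn : ∀ i : l.support, (i : A) • (l i - ∑ j, a' i j • y' j) = 0 := by
    intro i
    refine hm _ (hsupp i) _ ?_
    have hxi : p (l i) = ∑ j, a' i j • y j := hx i
    rw [map_sub, map_sum, hxi, sub_eq_zero]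
    exact Finset.sum_congr rfl fun j _ => by rw [map_smul, hy']
  have h1 : ∀ i : l.support, (i : A) • l i = ∑ j, ((i : A) * a' i j) • y' j := by
    intro i
    have := hn i
    rw [smul_sub, sub_eq_zero] at this
    rw [this, Finset.smul_sum]
    exact Finset.sum_congr rfl fun j _ => by rw [mul_smul]
  rw [Finset.sum_congr rfl fun i _ => h1 i, Finset.sum_comm]
  refine Finset.sum_eq_zero fun j _ => ?_
  rw [← Finset.sum_smul, ha j, zero_smul]

section Sec

variable {A : Type*} [CommRing A] (m : Ideal A)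
  {B : Type*} [CommRing B] [Algebra A B]
  {E : Type*} [CommRing E] [Algebra A E] (p : E →ₐ[A] B)

lemma map_le_comap : m.map (algebraMap A E) ≤ (m.map (algebraMap A B)).comap p.toRingHom := by
  rw [← Ideal.map_le_iff_le_comap, Ideal.map_map]
  have : p.toRingHom.comp (algebraMap A E) = algebraMap A B := by
    ext a; simp
  rw [this]

/-- The map induced by `p` modulo `m`. -/
noncomputable def p₀ : (E ⧸ m.map (algebraMap A E)) →ₐ[A ⧸ m] (B ⧸ m.map (algebraMap A B)) :=
  { Ideal.quotientMap (m.map (algebraMap A B)) p.toRingHom (map_le_comap m p) with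
    commutes' := by
      intro x
      obtain ⟨a, rfl⟩ := Ideal.Quotient.mk_surjective x
      simp }

@[simp] lemma p₀_mk (e : E) : p₀ m p (Ideal.Quotient.mk _ e) = Ideal.Quotient.mk _ (p e) := rfl

variable {m p}

lemma p₀_surjective (hp : Function.Surjective p) : Function.Surjective (p₀ m p) := by
  intro x
  obtain ⟨b, rfl⟩ := Ideal.Quotient.mk_surjective x
  obtain ⟨e, rfl⟩ := hp b
  exact ⟨Ideal.Quotient.mk _ e, rfl⟩

lemma exists_mk_of_p₀_eq_zero (hp : Function.Surjective p) {x : E ⧸ m.map (algebraMap A E)}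
    (hx : p₀ m p x = 0) : ∃ n : E, p n = 0 ∧ Ideal.Quotient.mk _ n = x := by
  obtain ⟨e, rfl⟩ := Ideal.Quotient.mk_surjective x
  rw [p₀_mk, Ideal.Quotient.eq_zero_iff_mem] at hx
  have h1 : (m.map (algebraMap A E)).map p.toRingHom = m.map (algebraMap A B) := by
    rw [Ideal.map_map]
    have : p.toRingHom.comp (algebraMap A E) = algebraMap A B := by
      ext a; simp
    rw [this]
  rw [← h1] at hx
  obtain ⟨e', he', hpe'⟩ := (Ideal.mem_map_iff_of_surjective p.toRingHom hp).mp hx
  replace hpe' : p e' = p e := hpe'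
  refine ⟨e - e', by rw [map_sub]; exact sub_eq_zero.mpr hpe'.symm, ?_⟩
  rw [map_sub, (Ideal.Quotient.eq_zero_iff_mem).mpr he', sub_zero]

lemma isNilpotent_ker_p₀ (hp : Function.Surjective p) (hsq : ∀ x y, p x = 0 → p y = 0 → x * y = 0) :
    IsNilpotent (RingHom.ker ((p₀ m p) :
      (E ⧸ m.map (algebraMap A E)) →+* (B ⧸ m.map (algebraMap A B)))) := by
  refine ⟨2, ?_⟩
  rw [pow_two, Ideal.zero_eq_bot, ← le_bot_iff, Ideal.mul_le]
  intro x hx y hy
  obtain ⟨n, hn, rfl⟩ := exists_mk_of_p₀_eq_zero hp (x := x) hx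
  obtain ⟨n', hn', rfl⟩ := exists_mk_of_p₀_eq_zero hp (x := y) hy
  rw [← map_mul, hsq n n' hn hn', map_zero]
  exact Submodule.mem_bot _ |>.mpr rfl

/-- **Key lemma**: a surjection `p : E → B` of `A`-algebras onto a flat `A`-algebra `B` whose
reduction modulo `m` is formally smooth over `A/m`, with square-zero kernel killed by `m`, has an
`A`-algebra section. -/
theorem exists_section [Module.Flat A B]
    [Algebra.FormallySmooth (A ⧸ m) (B ⧸ m.map (algebraMap A B))]
    (hp : Function.Surjective p)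
    (hsq : ∀ x y, p x = 0 → p y = 0 → x * y = 0)
    (hm : ∀ a ∈ m, ∀ x, p x = 0 → a • x = 0) :
    ∃ s : B →ₐ[A] E, ∀ b, p (s b) = b := by
  classical
  let s₀ := Algebra.FormallySmooth.liftOfSurjective
    (AlgHom.id (A ⧸ m) (B ⧸ m.map (algebraMap A B))) (p₀ m p) (p₀_surjective hp)
    (isNilpotent_ker_p₀ hp hsq)
  have hs₀ : ∀ x, p₀ m p (s₀ x) = x := fun x =>
    Algebra.FormallySmooth.liftOfSurjective_apply _ _ _ _ x
  have hex : ∀ b : B, ∃ e : E, p e = b ∧
      Ideal.Quotient.mk (m.map (algebraMap A E)) e = s₀ (Ideal.Quotient.mk _ b) := by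
    intro b
    obtain ⟨e₁, he₁⟩ := hp b
    have : p₀ m p (Ideal.Quotient.mk _ e₁ - s₀ (Ideal.Quotient.mk _ b)) = 0 := by
      rw [map_sub, hs₀, p₀_mk, he₁, sub_self]
    obtain ⟨n, hn, hn'⟩ := exists_mk_of_p₀_eq_zero hp this
    refine ⟨e₁ - n, by rw [map_sub, hn, sub_zero, he₁], ?_⟩
    rw [map_sub, hn', sub_sub_cancel]
  have huniq : ∀ e e' : E, p e = p e' →
      Ideal.Quotient.mk (m.map (algebraMap A E)) e = Ideal.Quotient.mk _ e' → e = e' := by
    intro e e' h1 h2
    have hd : e - e' ∈ m.map (algebraMap A E) := by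
      rw [← Ideal.Quotient.eq_zero_iff_mem, map_sub, h2, sub_self]
    have := eq_zero_of_mem_map_of_map_eq_zero m p hp hm hd (by rw [map_sub, h1, sub_self])
    exact sub_eq_zero.mp this
  choose s hs1 hs2 using hex
  refine ⟨{ toFun := s, map_one' := ?_, map_mul' := ?_, map_zero' := ?_, map_add' := ?_,
            commutes' := ?_ }, hs1⟩
  · apply huniq
    · rw [hs1, map_one]
    · rw [hs2, map_one, map_one, map_one]
  · intro x y
    apply huniq
    · rw [hs1, map_mul, hs1, hs1]
    · rw [hs2, map_mul, map_mul, map_mul, hs2, hs2]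
  · apply huniq
    · rw [hs1, map_zero]
    · rw [hs2, map_zero, map_zero, map_zero]
  · intro x y
    apply huniq
    · rw [hs1, map_add, hs1, hs1]
    · rw [hs2, map_add, map_add, map_add, hs2, hs2]
  · intro a
    apply huniq
    · rw [hs1, AlgHom.commutes]
    · rw [hs2]
      have h1 : Ideal.Quotient.mk (m.map (algebraMap A B)) (algebraMap A B a) =
          algebraMap (A ⧸ m) (B ⧸ m.map (algebraMap A B)) (Ideal.Quotient.mk m a) := rfl
      have h2 : Ideal.Quotient.mk (m.map (algebraMap A E)) (algebraMap A E a) =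
          algebraMap (A ⧸ m) (E ⧸ m.map (algebraMap A E)) (Ideal.Quotient.mk m a) := rfl
      rw [h1, h2, AlgHom.commutes]

end Sec

section Main

open IsLocalRing

/-- flatness: `T * x = 0` implies `x` is a combination with coefficients annihilating `t`. -/
lemma exists_sum_of_mul_eq_zero {A B : Type*} [CommRing A] [CommRing B] [Algebra A B]
    [Module.Flat A B] (t : A) {x : B} (h : algebraMap A B t * x = 0) :
    ∃ (n : ℕ) (a : Fin n → A) (y : Fin n → B), x = ∑ j, a j • y j ∧ ∀ j, t * a j = 0 := by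
  obtain ⟨n, a, y, hx, ha⟩ := Module.Flat.isTrivialRelation_of_sum_smul_eq_zero (R := A) (M := B)
    (f := fun _ : Unit => t) (x := fun _ : Unit => x) (by simp [Algebra.smul_def, h])
  exact ⟨n, a (), y, hx (), fun j => by simpa using ha j⟩

theorem s11280
    {k : Type u} [Field k]
    {A : Type u} [CommRing A] [Algebra k A] [IsLocalRing A]
    (hres : ∀ a : A, ∃ c : k, a - algebraMap k A c ∈ IsLocalRing.maximalIdeal A)
    (t : A) (ht : t ∈ IsLocalRing.maximalIdeal A)
    (htm : ∀ a ∈ IsLocalRing.maximalIdeal A, a * t = 0)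
    {B : Type u} [CommRing B] [Algebra A B] [Module.Flat A B] [Algebra k B] [IsScalarTower k A B]
    (hsm : Algebra.FormallySmooth k (B ⧸ (IsLocalRing.maximalIdeal A).map (algebraMap A B)))
    (σ : (B ⧸ Ideal.span {algebraMap A B t}) ≃ₐ[A] (B ⧸ Ideal.span {algebraMap A B t})) :
    ∃ τ : B ≃ₐ[A] B, ∀ b : B,
      Ideal.Quotient.mk (Ideal.span {algebraMap A B t}) (τ b) =
        σ (Ideal.Quotient.mk (Ideal.span {algebraMap A B t}) b) := by
  classical
  -- formal smoothness over `A ⧸ m`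
  have hsurj : Function.Surjective (algebraMap k (A ⧸ maximalIdeal A)) := by
    intro x
    obtain ⟨a, rfl⟩ := Ideal.Quotient.mk_surjective x
    obtain ⟨c, hc⟩ := hres a
    refine ⟨c, ?_⟩
    rw [IsScalarTower.algebraMap_apply k A (A ⧸ maximalIdeal A), Ideal.Quotient.algebraMap_eq]
    exact ((Ideal.Quotient.mk_eq_mk_iff_sub_mem _ _).mpr hc).symm
  haveI : Algebra.FormallyUnramified k (A ⧸ maximalIdeal A) :=
    Algebra.FormallyUnramified.of_surjective (Algebra.ofId k (A ⧸ maximalIdeal A)) hsurj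
  haveI : IsScalarTower k (A ⧸ maximalIdeal A) (B ⧸ (maximalIdeal A).map (algebraMap A B)) :=
    IsScalarTower.of_algebraMap_eq fun c => by
      rw [IsScalarTower.algebraMap_apply k A (A ⧸ maximalIdeal A), Ideal.Quotient.algebraMap_eq,
        Ideal.Quotient.algebraMap_quotient_map_quotient,
        IsScalarTower.algebraMap_apply k B (B ⧸ (maximalIdeal A).map (algebraMap A B)),
        Ideal.Quotient.algebraMap_eq, IsScalarTower.algebraMap_apply k A B]
  haveI : Algebra.FormallySmooth (A ⧸ maximalIdeal A)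
      (B ⧸ (maximalIdeal A).map (algebraMap A B)) :=
    Algebra.FormallySmooth.of_restrictScalars k _ _
  let T : B := algebraMap A B t
  have hT : T = algebraMap A B t := rfl
  have hTT : T * T = 0 := by rw [hT, ← map_mul, htm t ht, map_zero]
  have hmT : ∀ a ∈ maximalIdeal A, ∀ c : B, a • (c * T) = 0 := by
    intro a ha c
    rw [Algebra.smul_def, mul_left_comm, hT, ← map_mul, htm a ha, map_zero, mul_zero]
  -- the fibre product
  let I : Ideal B := Ideal.span {T}
  let f₁ : B × B →ₐ[A] B ⧸ I :=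
    (σ : (B ⧸ I) →ₐ[A] (B ⧸ I)).comp ((Ideal.Quotient.mkₐ A I).comp (AlgHom.fst A B B))
  let f₂ : B × B →ₐ[A] B ⧸ I := (Ideal.Quotient.mkₐ A I).comp (AlgHom.snd A B B)
  let E : Subalgebra A (B × B) := AlgHom.equalizer f₁ f₂
  have hE : ∀ x : B × B, x ∈ E ↔ σ (Ideal.Quotient.mk I x.1) = Ideal.Quotient.mk I x.2 := by
    intro x
    exact AlgHom.mem_equalizer f₁ f₂ x
  let p : E →ₐ[A] B := (AlgHom.fst A B B).comp E.val
  have hp : Function.Surjective p := by
    intro b
    obtain ⟨b', hb'⟩ := Ideal.Quotient.mk_surjective (σ (Ideal.Quotient.mk I b))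
    exact ⟨⟨(b, b'), (hE _).mpr hb'.symm⟩, rfl⟩
  have hker : ∀ x : E, p x = 0 → ∃ c : B, (x : B × B) = (0, c * T) := by
    intro x hx
    have hx1 : (x : B × B).1 = 0 := hx
    have h2 := (hE _).mp x.2
    rw [hx1, map_zero, map_zero] at h2
    obtain ⟨c, hc⟩ := Ideal.mem_span_singleton'.mp (Ideal.Quotient.eq_zero_iff_mem.mp h2.symm)
    exact ⟨c, Prod.ext hx1 hc.symm⟩
  have hsq : ∀ x y : E, p x = 0 → p y = 0 → x * y = 0 := by
    intro x y hx hy
    obtain ⟨c, hc⟩ := hker x hx
    obtain ⟨c', hc'⟩ := hker y hy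
    apply Subtype.ext
    rw [Subalgebra.coe_mul, hc, hc', Subalgebra.coe_zero, Prod.mk_mul_mk, mul_zero]
    refine Prod.ext rfl ?_
    change c * T * (c' * T) = 0
    rw [mul_mul_mul_comm, hTT, mul_zero]
  have hm : ∀ a ∈ maximalIdeal A, ∀ x : E, p x = 0 → a • x = 0 := by
    intro a ha x hx
    obtain ⟨c, hc⟩ := hker x hx
    apply Subtype.ext
    rw [Subalgebra.coe_smul, hc, Subalgebra.coe_zero, Prod.smul_mk, smul_zero, hmT a ha]
    rfl
  obtain ⟨s, hs⟩ := exists_section (m := maximalIdeal A) (p := p) hp hsq hm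
  let τ₀ : B →ₐ[A] B := (AlgHom.snd A B B).comp (E.val.comp s)
  have hτ : ∀ b, Ideal.Quotient.mk I (τ₀ b) = σ (Ideal.Quotient.mk I b) := by
    intro b
    have h2 := (hE _).mp (s b).2
    have h1 : ((s b : E) : B × B).1 = b := hs b
    rw [h1] at h2
    exact h2.symm
  have hτT : ∀ c : B, τ₀ (c * T) = τ₀ c * T := by
    intro c
    rw [map_mul, hT, AlgHom.commutes]
  -- every element is `τ₀ x₁ + w * T`
  have hdecomp : ∀ x : B, ∃ x₁ w : B, x = τ₀ x₁ + w * T := by
    intro x
    obtain ⟨x₁, hx₁⟩ := Ideal.Quotient.mk_surjective (σ.symm (Ideal.Quotient.mk I x))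
    have : Ideal.Quotient.mk I (x - τ₀ x₁) = 0 := by
      rw [map_sub, hτ, hx₁, AlgEquiv.apply_symm_apply, sub_self]
    obtain ⟨w, hw⟩ := Ideal.mem_span_singleton'.mp (Ideal.Quotient.eq_zero_iff_mem.mp this)
    exact ⟨x₁, w, by rw [hw]; ring⟩
  have hinj : Function.Injective τ₀ := by
    rw [injective_iff_map_eq_zero]
    intro b hb
    have h1 : σ (Ideal.Quotient.mk I b) = 0 := by rw [← hτ, hb, map_zero]
    have h2 : Ideal.Quotient.mk I b = 0 := (map_eq_zero_iff σ σ.injective).mp h1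
    obtain ⟨c, hc⟩ := Ideal.mem_span_singleton'.mp (Ideal.Quotient.eq_zero_iff_mem.mp h2)
    rw [← hc, hτT] at hb
    obtain ⟨n, a, y, hy, ha⟩ := exists_sum_of_mul_eq_zero t (x := τ₀ c) (by rw [mul_comm]; exact hb)
    choose z hz using fun j => Ideal.Quotient.mk_surjective (σ.symm (Ideal.Quotient.mk I (y j)))
    have h3 : Ideal.Quotient.mk I (c - ∑ j, a j • z j) = 0 := by
      have h4 : Ideal.Quotient.mk I c = σ.symm (Ideal.Quotient.mk I (τ₀ c)) := by
        rw [hτ, AlgEquiv.symm_apply_apply]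
      rw [map_sub, h4, hy, map_sum, map_sum, map_sum, sub_eq_zero]
      refine Finset.sum_congr rfl fun j _ => ?_
      have h5 : Ideal.Quotient.mk I (a j • y j) = a j • Ideal.Quotient.mk I (y j) := rfl
      have h6 : Ideal.Quotient.mk I (a j • z j) = a j • Ideal.Quotient.mk I (z j) := rfl
      rw [h5, h6, map_smul, hz]
    obtain ⟨w, hw⟩ := Ideal.mem_span_singleton'.mp (Ideal.Quotient.eq_zero_iff_mem.mp h3)
    have h7 : c = ∑ j, a j • z j + w * T := by rw [hw]; ring
    rw [← hc, h7, add_mul, mul_assoc, hTT, mul_zero, add_zero, Finset.sum_mul]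
    refine Finset.sum_eq_zero fun j _ => ?_
    rw [Algebra.smul_def, mul_right_comm, hT, ← map_mul, mul_comm (a j), ha j, map_zero, zero_mul]
  have hsurj' : Function.Surjective τ₀ := by
    intro b
    obtain ⟨b₁, w, hb⟩ := hdecomp b
    obtain ⟨w₁, w', hw⟩ := hdecomp w
    refine ⟨b₁ + w₁ * T, ?_⟩
    rw [map_add, hτT, hb, hw, add_mul, mul_assoc, hTT, mul_zero, add_zero]
  exact ⟨AlgEquiv.ofBijective τ₀ ⟨hinj, hsurj'⟩, fun b => hτ b⟩

end Main

end Groth.Agent.Helper2.FlatSec
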