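import Mathlib
import Groth.Prelude
import Groth.Agent.Helper2.CplDom

set_option autoImplicit false
set_option linter.style.haveILetI false

namespace Groth.Agent.Helper2.FracCpl

universe u

open TensorProduct IsLocalRing

/-- For a henselian Noetherian local ring `A` with geometrically normal formal fibres and a finite
`A`-algebra `A'` which is an integrally closed domain, `A' ⊗ Â` is a domain. -/
theorem isDomain_tensor (A : Type u) [CommRing A] [IsNoetherianRing A] [HenselianLocalRing A]
    (h : EGA4.HasGeomNormalFormalFibres A)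
    (A' : Type u) [CommRing A'] [IsDomain A'] [IsIntegrallyClosed A'] [Algebra A A']
    [Module.Finite A A'] [IsLocalHom (algebraMap A A')] :
    IsDomain (A' ⊗[A] EGA4.Cpl A) := by
  haveI : IsNoetherianRing A' := IsNoetherianRing.of_finite A _
  haveI : IsLocalRing A' :=
    Groth.Agent.Helper2.Unibr1.isLocalRing_of_isIntegral_of_isDomain A _
  have hA'n : EGA4.IsNormalRing A' :=
    Groth.Agent.Helper2.HensNor.isNormalRing_of_isIntegrallyClosed _
  haveI : IsNoetherianRing (EGA4.Cpl A) := Groth.Agent.S0543.result A _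
  have hnh : EGA4.IsNormalHom A (EGA4.Cpl A) := ⟨inferInstance, h⟩
  haveI : IsNoetherianRing (A' ⊗[A] EGA4.Cpl A) := by
    haveI : IsNoetherianRing (EGA4.Cpl A ⊗[A] A') :=
      IsNoetherianRing.of_finite (EGA4.Cpl A) _
    exact isNoetherianRing_of_ringEquiv _
      (Algebra.TensorProduct.comm A (EGA4.Cpl A) A').toRingEquiv
  have hnh' : EGA4.IsNormalHom A' (A' ⊗[A] EGA4.Cpl A) :=
    (Groth.Agent.S4749.result A (EGA4.Cpl A) A' (Or.inr inferInstance)).1 hnh
  haveI := hnh'.1
  have hTn : EGA4.IsNormalRing (A' ⊗[A] EGA4.Cpl A) := by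
    refine Groth.Agent.Helper2.GeomNor2.isNormalRing_of_flat A' _ hA'n (fun p hp => ?_)
    have h1 := hnh'.2 p p.ResidueField (Module.Finite.self _)
    exact Groth.Agent.Helper2.GeomNor.isNormalRing_of_ringEquiv
      (Algebra.TensorProduct.lid p.ResidueField _).toRingEquiv h1
  have hpi : Groth.Agent.Helper2.SmU1.PIres A (EGA4.Cpl A) := by
    intro b
    obtain ⟨r, hr⟩ := (AdicCompletion.residueField_map_bijective (R := A)).2 (residue _ b)
    obtain ⟨r, rfl⟩ := residue_surjective r
    refine ⟨0, r, ?_⟩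
    rw [pow_zero, pow_one, ← Ideal.Quotient.eq]
    exact hr.symm
  obtain ⟨hloc, -⟩ := Groth.Agent.Helper2.SmU1.main' A A' (EGA4.Cpl A) hpi
  exact Groth.Agent.Helper2.CplDom.isDomain_of_isNormalRing_of_isLocalRing _ hTn

/-- geometric reducedness of `Frac Â` over `Frac A` -/
theorem part1 (A : Type u) [CommRing A] [IsNoetherianRing A]
    [IsLocalRing A] [IsDomain A] (h : EGA4.HasGeomReducedFormalFibres A)
    (K L : Type u) [Field K] [Field L] [Algebra A K] [IsFractionRing A K]
    [Algebra (EGA4.Cpl A) L] [IsFractionRing (EGA4.Cpl A) L] [Algebra K L] [Algebra A L]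
    [IsScalarTower A K L] [IsScalarTower A (EGA4.Cpl A) L] :
    Algebra.IsGeometricallyReduced K L := by
  rw [Algebra.isGeometricallyReduced_field_iff]
  let Ω := AlgebraicClosure K
  let κ := (⊥ : Ideal A).ResidueField
  have hinj : Function.Injective (algebraMap A Ω) := by
    rw [IsScalarTower.algebraMap_eq A K Ω]
    exact (algebraMap K Ω).injective.comp (IsFractionRing.injective A K)
  have hu : (⊥ : Ideal A).primeCompl ≤ (IsUnit.submonoid Ω).comap (algebraMap A Ω) := by
    intro a ha
    have ha0 : a ≠ 0 := fun h0 => ha (by rw [h0]; exact Ideal.zero_mem _)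
    change IsUnit (algebraMap A Ω a)
    exact IsUnit.mk0 _ (fun h0 => ha0 (hinj (by rw [h0, map_zero])))
  letI : Algebra κ Ω :=
    (Ideal.ResidueField.lift (⊥ : Ideal A) (algebraMap A Ω) bot_le hu).toAlgebra
  haveI : IsScalarTower A κ Ω := IsScalarTower.of_algebraMap_eq (fun a => by
    change algebraMap A Ω a = Ideal.ResidueField.lift _ _ _ _ (algebraMap A κ a)
    rw [Ideal.ResidueField.lift_algebraMap])
  haveI : Algebra.IsAlgebraic A Ω :=
    (IsFractionRing.comap_isAlgebraic_iff (A := A) (K := K) (C := Ω)).mpr inferInstance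
  haveI : Algebra.IsAlgebraic κ Ω := Algebra.IsAlgebraic.extendScalars (R := A) (S := κ) (A := Ω)
    (by
      intro a b hab
      apply hinj
      rw [IsScalarTower.algebraMap_apply A κ Ω, hab, ← IsScalarTower.algebraMap_apply A κ Ω])
  haveI : Algebra.IsGeometricallyReduced κ (κ ⊗[A] EGA4.Cpl A) := h ⊥
  haveI h0 : IsReduced (Ω ⊗[κ] (κ ⊗[A] EGA4.Cpl A)) := inferInstance
  let e3 : Ω ⊗[κ] (κ ⊗[A] EGA4.Cpl A) ≃+* Ω ⊗[A] EGA4.Cpl A :=
    (Algebra.TensorProduct.cancelBaseChange A κ κ Ω (EGA4.Cpl A)).toRingEquiv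
  have h1 : IsReduced (Ω ⊗[A] EGA4.Cpl A) := isReduced_of_injective e3.symm e3.symm.injective
  have h2 : IsReduced (EGA4.Cpl A ⊗[A] Ω) :=
    isReduced_of_injective (Algebra.TensorProduct.comm A (EGA4.Cpl A) Ω).toAlgHom.toRingHom
      (Algebra.TensorProduct.comm A (EGA4.Cpl A) Ω).injective
  have h3 : IsReduced (L ⊗[A] Ω) :=
    Groth.Agent.Helper2.AnUnr6.isReduced_tensor_fractionRing (nonZeroDivisors (EGA4.Cpl A)) h2
  have h4 : IsReduced (Ω ⊗[A] L) :=
    isReduced_of_injective (Algebra.TensorProduct.comm A Ω L).toAlgHom.toRingHom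
      (Algebra.TensorProduct.comm A Ω L).injective
  let e5 : Ω ⊗[K] L ≃ₐ[K] Ω ⊗[A] L := IsLocalization.algebraTensorEquiv (nonZeroDivisors A) K Ω L
  exact isReduced_of_injective e5.toAlgHom.toRingHom e5.injective

/-- algebraic closedness of `Frac A` in `Frac Â` -/
theorem part2 (A : Type u) [CommRing A] [IsNoetherianRing A]
    [HenselianLocalRing A] [IsDomain A] (h : EGA4.HasGeomNormalFormalFibres A) [IsDomain (EGA4.Cpl A)]
    (K L : Type u) [Field K] [Field L] [Algebra A K] [IsFractionRing A K]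
    [Algebra (EGA4.Cpl A) L] [IsFractionRing (EGA4.Cpl A) L] [Algebra K L] [Algebra A L]
    [IsScalarTower A K L] [IsScalarTower A (EGA4.Cpl A) L] (x : L) (hx : IsAlgebraic K x) :
    x ∈ Set.range (algebraMap K L) := by
  classical
  have hNag : CAlg.IsNagata A := Groth.Agent.Helper2.AnUnr6.s2657 A
    (fun p hp => Groth.Agent.Helper2.AnUnr7.isGeometricallyReduced_of_isGeomNormal _ _ (h p))
  have hN2 : CAlg.IsN2 A := by
    have h1 := hNag.2 ⊥
    exact Groth.Agent.Helper2.TateN2e.isN2_of_ringEquiv (RingEquiv.quotientBot A) h1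
  let K' : IntermediateField K L := IntermediateField.adjoin K {x}
  haveI : FiniteDimensional K K' := IntermediateField.adjoin.finiteDimensional hx.isIntegral
  haveI : IsScalarTower A K' L := IsScalarTower.of_algebraMap_eq (fun a => rfl)
  have hinjL : Function.Injective (algebraMap A L) := by
    rw [IsScalarTower.algebraMap_eq A K L]
    exact (algebraMap K L).injective.comp (IsFractionRing.injective A K)
  have hinjK' : Function.Injective (algebraMap A K') := by
    intro a b hab
    apply hinjL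
    rw [IsScalarTower.algebraMap_apply A K' L, hab, ← IsScalarTower.algebraMap_apply A K' L]
  haveI : FaithfulSMul A (integralClosure A K') := by
    rw [faithfulSMul_iff_algebraMap_injective]
    intro a b hab
    apply hinjK'
    have := congrArg (integralClosure A K').val hab
    exact this
  haveI hfin : Module.Finite A (integralClosure A K') :=
    Groth.Agent.Helper4.Japanese.IsN2.finite hN2 K K'
  haveI : IsIntegrallyClosed (integralClosure A K') :=
    integralClosure.isIntegrallyClosedOfFiniteExtension K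
  haveI hdomT : IsDomain (integralClosure A K' ⊗[A] EGA4.Cpl A) :=
    isDomain_tensor A h (integralClosure A K')
  haveI hdom : IsDomain (EGA4.Cpl A ⊗[A] integralClosure A K') :=
    (Algebra.TensorProduct.comm A (EGA4.Cpl A) (integralClosure A K')).toRingEquiv.toMulEquiv.isDomain
  -- the multiplication map
  let ι : integralClosure A K' →ₐ[A] L :=
    ((IsScalarTower.toAlgHom A K' L)).comp (integralClosure A K').val
  let μ : EGA4.Cpl A ⊗[A] integralClosure A K' →ₐ[EGA4.Cpl A] L :=
    Algebra.TensorProduct.lift (Algebra.ofId (EGA4.Cpl A) L) ι (fun _ _ => Commute.all _ _)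
  have hμ : Function.Injective μ := by
    have hk : RingHom.ker μ.toRingHom = ⊥ := by
      apply Ideal.eq_bot_of_comap_eq_bot (R := EGA4.Cpl A)
      rw [eq_bot_iff]
      intro b hb
      rw [Ideal.mem_comap, RingHom.mem_ker] at hb
      have h2 : algebraMap (EGA4.Cpl A) L b = 0 := by
        rw [← hb]
        exact (μ.commutes b).symm
      rw [Ideal.mem_bot]
      exact IsFractionRing.injective (EGA4.Cpl A) L (by rw [h2, map_zero])
    exact (RingHom.injective_iff_ker_eq_bot μ.toRingHom).mpr hk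
  -- an integral multiple of `x`
  have hxA : IsAlgebraic A x := (IsFractionRing.isAlgebraic_iff A K L).mpr hx
  obtain ⟨a, ha0, hai⟩ := hxA.exists_integral_multiple
  have hxK' : x ∈ K' := IntermediateField.mem_adjoin_simple_self K x
  have haxK' : a • x ∈ K' := by
    rw [Algebra.smul_def, IsScalarTower.algebraMap_apply A K L]
    exact K'.mul_mem (K'.algebraMap_mem _) hxK'
  have hyint : IsIntegral A (⟨a • x, haxK'⟩ : K') := by
    rw [← isIntegral_algHom_iff (IsScalarTower.toAlgHom A K' L) (algebraMap K' L).injective]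
    exact hai
  let y : integralClosure A K' := ⟨⟨a • x, haxK'⟩, hyint⟩
  have hιy : ι y = a • x := rfl
  obtain ⟨⟨b₁, b₂⟩, hb⟩ := IsLocalization.surj (nonZeroDivisors (EGA4.Cpl A)) x
  have hb' : x * algebraMap (EGA4.Cpl A) L b₂ = algebraMap (EGA4.Cpl A) L b₁ := hb
  have hb₂ : (b₂ : EGA4.Cpl A) ≠ 0 := nonZeroDivisors.ne_zero b₂.2
  have heq : ((b₂ : EGA4.Cpl A) ⊗ₜ[A] y : EGA4.Cpl A ⊗[A] integralClosure A K') =
      (a • b₁) ⊗ₜ[A] (1 : integralClosure A K') := by
    apply hμ
    change Algebra.TensorProduct.lift _ _ _ _ = Algebra.TensorProduct.lift _ _ _ _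
    rw [Algebra.TensorProduct.lift_tmul, Algebra.TensorProduct.lift_tmul, hιy, map_one, mul_one]
    change algebraMap (EGA4.Cpl A) L b₂ * (a • x) = algebraMap (EGA4.Cpl A) L (a • b₁)
    rw [Algebra.smul_def a b₁, map_mul, ← IsScalarTower.algebraMap_apply A (EGA4.Cpl A) L, ← hb',
      Algebra.smul_def]
    ring
  -- the quotient `A'/A`
  let N : Submodule A (integralClosure A K') := LinearMap.range (Algebra.linearMap A _)
  have h0 : ((b₂ : EGA4.Cpl A) ⊗ₜ[A] (N.mkQ y) : EGA4.Cpl A ⊗[A] (integralClosure A K' ⧸ N)) = 0 := by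
    have h1 := congrArg (LinearMap.lTensor (EGA4.Cpl A) N.mkQ) heq
    rw [LinearMap.lTensor_tmul, LinearMap.lTensor_tmul] at h1
    rw [h1]
    have h2 : N.mkQ (1 : integralClosure A K') = 0 := by
      rw [Submodule.mkQ_apply, Submodule.Quotient.mk_eq_zero]
      exact ⟨1, by simp⟩
    rw [h2, TensorProduct.tmul_zero]
  have hex : ∃ r : A, r ≠ 0 ∧ r • y ∈ N := by
    by_contra hcon
    push_neg at hcon
    have hψ : Function.Injective (LinearMap.toSpanSingleton A _ (N.mkQ y)) := by
      rw [← LinearMap.ker_eq_bot, eq_bot_iff]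
      intro r hr
      rw [LinearMap.mem_ker, LinearMap.toSpanSingleton_apply, ← map_smul, Submodule.mkQ_apply,
        Submodule.Quotient.mk_eq_zero] at hr
      by_contra hr0
      exact hcon r hr0 hr
    have hψ' := Module.Flat.lTensor_preserves_injective_linearMap (M := EGA4.Cpl A) _ hψ
    have h3 : ((b₂ : EGA4.Cpl A) ⊗ₜ[A] (1 : A) : EGA4.Cpl A ⊗[A] A) = 0 := by
      apply hψ'
      rw [LinearMap.lTensor_tmul, LinearMap.toSpanSingleton_apply, one_smul, map_zero]
      exact h0
    have h4 := congrArg (TensorProduct.rid A (EGA4.Cpl A)) h3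
    rw [TensorProduct.rid_tmul, one_smul, map_zero] at h4
    exact hb₂ h4
  obtain ⟨r, hr0, c, hc⟩ := hex
  have hc' : algebraMap A L c = r • (a • x) := by
    have := congrArg ι hc
    rw [map_smul, hιy] at this
    rw [← this]
    exact (ι.commutes c).symm
  refine ⟨algebraMap A K c / algebraMap A K (r * a), ?_⟩
  have hra : algebraMap A L (r * a) ≠ 0 := fun h0 =>
    (mul_ne_zero hr0 ha0) (hinjL (by rw [h0, map_zero]))
  rw [map_div₀, ← IsScalarTower.algebraMap_apply A K L, ← IsScalarTower.algebraMap_apply A K L,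
    div_eq_iff hra, hc', Algebra.smul_def, Algebra.smul_def, map_mul]
  ring

/-- S5056 -/
theorem s5056 (A : Type u) [CommRing A] [IsNoetherianRing A]
    [HenselianLocalRing A] [IsDomain A] (h : EGA4.HasGeomNormalFormalFibres A) [IsDomain (EGA4.Cpl A)]
    (K L : Type u) [Field K] [Field L] [Algebra A K] [IsFractionRing A K]
    [Algebra (EGA4.Cpl A) L] [IsFractionRing (EGA4.Cpl A) L] [Algebra K L] [Algebra A L]
    [IsScalarTower A K L] [IsScalarTower A (EGA4.Cpl A) L] :
    Algebra.IsGeometricallyReduced K L ∧ ∀ x : L, IsAlgebraic K x → x ∈ Set.range (algebraMap K L) :=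
  ⟨part1 A (fun p hp => Groth.Agent.Helper2.AnUnr7.isGeometricallyReduced_of_isGeomNormal _ _ (h p))
    K L, fun x hx => part2 A h K L x hx⟩

end Groth.Agent.Helper2.FracCpl
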