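import Mathlib
import Groth.Prelude
import Groth.Agent.Helper3.CoverRes
import Groth.Agent.Helper1.FlatCxLinAlg
import Groth.Agent.Helper2.KerFP

set_option autoImplicit false

namespace Groth.Agent.Helper2.FreeRes

open CategoryTheory CategoryTheory.Limits
open Groth.Agent.Helper3.CoverRes Groth.Agent.Helper1.FlatCx

universe u

variable (A : Type u) {B : Type u} [CommRing A] [CommRing B] [Algebra A B]

/-- A `B`-module is *good* if it is isomorphic to a finitely presented `B`-module flat over `A`. -/
def Good (N : ModuleCat.{u} B) : Prop :=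
  ∃ (M : Type u) (_ : AddCommGroup M) (_ : Module B M) (_ : Module A M) (_ : IsScalarTower A B M)
    (_ : Module.FinitePresentation B M) (_ : Module.Flat A M), Nonempty (N ≅ ModuleCat.of B M)

variable {A}

lemma Good.of_iso {N N' : ModuleCat.{u} B} (h : Good A N) (e : N' ≅ N) : Good A N' := by
  obtain ⟨M, i1, i2, i3, i4, i5, i6, ⟨e'⟩⟩ := h
  exact ⟨M, i1, i2, i3, i4, i5, i6, ⟨e ≪≫ e'⟩⟩

lemma good_of (M : Type u) [AddCommGroup M] [Module B M] [Module A M] [IsScalarTower A B M]
    [Module.FinitePresentation B M] [Module.Flat A M] : Good A (ModuleCat.of B M) :=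
  ⟨M, inferInstance, inferInstance, inferInstance, inferInstance, inferInstance, inferInstance,
    ⟨Iso.refl _⟩⟩

variable (A) [Algebra.FinitePresentation A B] [Module.Flat A B]

lemma exists_cover (N : ModuleCat.{u} B) : ∃ (F : ModuleCat.{u} B) (p : F ⟶ N), Epi p ∧
    Projective F ∧ (Good A N → (Module.Finite B F ∧ Module.Free B F) ∧ Good A (kernel p)) := by
  by_cases h : Good A N
  · obtain ⟨M, i1, i2, i3, i4, i5, i6, ⟨e⟩⟩ := h
    obtain ⟨m, π, hπ⟩ := Module.Finite.exists_fin' B M
    haveI : Epi (ModuleCat.ofHom π) := (ModuleCat.epi_iff_surjective _).mpr hπ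
    refine ⟨ModuleCat.of B (Fin m → B), ModuleCat.ofHom π ≫ e.inv, inferInstance, ?_, fun _ =>
      ⟨⟨(inferInstance : Module.Finite B (Fin m → B)),
        (inferInstance : Module.Free B (Fin m → B))⟩, ?_⟩⟩
    · exact (IsProjective.iff_projective (R := B) (P := (Fin m → B))).mp inferInstance
    · haveI : Module.FinitePresentation B (LinearMap.ker π) :=
        Groth.Agent.Helper2.KerFP.fp_ker_of_flat (A := A) M π hπ
      haveI : Module.Flat A (Fin m → B) :=
        Module.Flat.of_linearEquiv
          (DFinsupp.linearEquivFunOnFintype (R := A) (M := fun _ : Fin m => B)).symm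
      haveI : Module.Flat A (LinearMap.ker π) :=
        flat_of_exact_of_flat (A := A) ((LinearMap.ker π).subtype.restrictScalars A)
          (π.restrictScalars A) (Submodule.injective_subtype _) hπ
          (fun x => LinearMap.exact_subtype_ker_map π x)
      refine (good_of (A := A) (LinearMap.ker π)).of_iso ?_
      exact kernelCompMono (ModuleCat.ofHom π) e.inv ≪≫ ModuleCat.kernelIsoKer (ModuleCat.ofHom π)
  · exact ⟨Projective.over N, Projective.π N, inferInstance, inferInstance, fun h' => absurd h' h⟩

/-- The chosen covers: finite free with good kernel whenever the module is good. -/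
noncomputable def cov : Cover (ModuleCat.{u} B) where
  obj M := (exists_cover A M).choose
  π M := (exists_cover A M).choose_spec.choose
  epi M := (exists_cover A M).choose_spec.choose_spec.1
  proj M := (exists_cover A M).choose_spec.choose_spec.2.1

lemma cov_spec (M : ModuleCat.{u} B) (h : Good A M) :
    (Module.Finite B ((cov A).obj M) ∧ Module.Free B ((cov A).obj M)) ∧
      Good A (kernel ((cov A).π M)) :=
  (exists_cover A M).choose_spec.choose_spec.2.2 h

/-- kernel of a differential `c.d f`. -/
lemma good_kernel_d {X Y : ModuleCat.{u} B} (f : X ⟶ Y) (h : Good A (kernel f)) :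
    Good A (kernel ((cov A).d f)) :=
  ((cov_spec A _ h).2).of_iso (kernelCompMono _ _)

theorem exists_finite_free_resolution (M : ModuleCat.{u} B) (hM : Good A M) :
    ∃ F : ProjectiveResolution M, ∀ n : ℕ,
      Module.Finite B (F.complex.X n) ∧ Module.Free B (F.complex.X n) := by
  refine ⟨(cov A).of M, ?_⟩
  have key : ∀ n : ℕ,
      (Module.Finite B (((cov A).ofComplex M).X n) ∧ Module.Free B (((cov A).ofComplex M).X n)) ∧
      (Module.Finite B (((cov A).ofComplex M).X (n + 1)) ∧
        Module.Free B (((cov A).ofComplex M).X (n + 1))) ∧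
      Good A (kernel (((cov A).ofComplex M).d (n + 1) n)) := by
    intro n
    induction n with
    | zero =>
      have h0 := cov_spec A M hM
      refine ⟨h0.1, (cov_spec A _ h0.2).1, ?_⟩
      rw [Cover.ofComplex_d_1_0]
      exact good_kernel_d A _ h0.2
    | succ n ih =>
      have h1 := cov_spec A _ ih.2.2
      let e := ((cov A).ofComplexXIso M n)
      have hfin := h1.1.1
      have hfree := h1.1.2
      refine ⟨ih.2.1, ⟨Module.Finite.equiv e.toLinearEquiv.symm,
        Module.Free.of_equiv e.toLinearEquiv.symm⟩, ?_⟩
      have hd : ((cov A).ofComplex M).d (n + 2) (n + 1) =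
          e.hom ≫ (cov A).d (((cov A).ofComplex M).d (n + 1) n) :=
        ChainComplex.mk'_d _ _ _ _ n
      rw [show n + 1 + 1 = n + 2 from rfl, hd]
      exact (good_kernel_d A _ ih.2.2).of_iso (kernelIsIsoComp e.hom _)
  exact fun n => (key n).1

theorem main (M : Type u) [AddCommGroup M] [Module B M] [Module A M]
    [IsScalarTower A B M] [Module.FinitePresentation B M] [Module.Flat A M] :
    ∃ P : ProjectiveResolution (ModuleCat.of B M),
      ∀ n : ℕ, Module.Finite B (P.complex.X n) ∧ Module.Free B (P.complex.X n) :=
  exists_finite_free_resolution A _ (good_of (A := A) M)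

end Groth.Agent.Helper2.FreeRes
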