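import Mathlib
import Groth.Agent.Helper1.FieldSmooth5

set_option autoImplicit false
set_option linter.unusedVariables false
open TensorProduct
universe u

namespace Groth.Agent.Helper2.FrobRed

open Groth.Agent.Helper1.FieldSmooth

/-- `k` as an algebra over itself through the Frobenius endomorphism. -/
def FrobK (k : Type u) (p : ℕ) : Type u := k

section
variable (k : Type u) [Field k] (p : ℕ) [hp : Fact p.Prime] [CharP k p]

instance : Field (FrobK k p) := inferInstanceAs (Field k)

noncomputable instance : Algebra k (FrobK k p) := (frobenius k p).toAlgebra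

theorem algebraMap_frobK : algebraMap k (FrobK k p) = frobenius k p := rfl

/-- the identity map `k → FrobK k p`. -/
def toF (c : k) : FrobK k p := c

theorem toF_pow (c : k) : (toF k p c) ^ p = c • (1 : FrobK k p) := by
  rw [Algebra.smul_def, mul_one]
  rfl

theorem toF_eq_zero {c : k} (h : toF k p c = 0) : c = 0 := h

theorem toF_zero : toF k p 0 = 0 := rfl

theorem algebraMap_frobK_apply (c : k) : algebraMap k (FrobK k p) c = (c ^ p : k) := rfl

instance : CharP (FrobK k p) p := inferInstanceAs (CharP k p)

end

section
variable {k : Type u} [Field k] (p : ℕ) [hp : Fact p.Prime] [CharP k p]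
  (A : Type u) [CommRing A] [Algebra k A]

/-- MacLane's condition from reducedness of the Frobenius twist. -/
theorem linearIndepOn_pow_of_isReduced (h : IsReduced (FrobK k p ⊗[k] A))
    (s : Finset A) (hs : LinearIndepOn k id (s : Set A)) :
    LinearIndepOn k (fun x : A => x ^ p) (s : Set A) := by
  classical
  by_cases hA : Subsingleton A
  · -- all elements are zero; a linearly independent family in the zero module is empty
    have hempty : (s : Set A) = ∅ := by
      by_contra hne
      obtain ⟨x, hx⟩ := Set.nonempty_iff_ne_empty.2 hne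
      have hli : LinearIndependent k (fun y : (s : Set A) => (y : A)) := hs
      exact hli.ne_zero ⟨x, hx⟩ (Subsingleton.elim _ _)
    rw [hempty]
    exact linearIndepOn_empty k _
  rw [not_subsingleton_iff_nontrivial] at hA
  haveI : Nontrivial (FrobK k p ⊗[k] A) := inferInstance
  haveI : CharP (FrobK k p ⊗[k] A) p :=
    charP_of_injective_algebraMap (algebraMap k (FrobK k p ⊗[k] A)).injective p
  have hli : LinearIndependent k (fun y : (s : Set A) => (y : A)) := hs
  show LinearIndependent k (fun y : (s : Set A) => (y : A) ^ p)
  rw [Fintype.linearIndependent_iff]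
  intro g hg
  let z : FrobK k p ⊗[k] A := ∑ i : (s : Set A), (toF k p (g i)) ⊗ₜ[k] (i : A)
  have hzp : z ^ p = 0 := by
    simp only [z]
    rw [sum_pow_char]
    have h1 : ∀ i : (s : Set A), ((toF k p (g i)) ⊗ₜ[k] (i : A)) ^ p =
        (1 : FrobK k p) ⊗ₜ[k] (g i • (i : A) ^ p) := by
      intro i
      rw [Algebra.TensorProduct.tmul_pow]
      rw [toF_pow, TensorProduct.smul_tmul]
    rw [Finset.sum_congr rfl (fun i _ => h1 i), ← TensorProduct.tmul_sum, hg,
      TensorProduct.tmul_zero]
  have hz : z = 0 := h.eq_zero z ⟨p, hzp⟩
  intro i₀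
  obtain ⟨ℓ, hℓ⟩ := exists_functional hli i₀
  have h3 := congrArg (fun w => TensorProduct.rid k (FrobK k p) (LinearMap.lTensor (FrobK k p) ℓ w)) hz
  simp only [z, map_sum, LinearMap.lTensor_tmul, TensorProduct.rid_tmul, map_zero, hℓ] at h3
  simp only [ite_smul, one_smul, zero_smul] at h3
  rw [Finset.sum_ite_eq' _ i₀, if_pos (Finset.mem_univ _)] at h3
  exact toF_eq_zero k p h3

end

end Groth.Agent.Helper2.FrobRed

namespace Groth.Agent.Helper2.FrobRed

open Groth.Agent.Helper1.FieldSmooth

section
variable {k : Type u} [Field k] (p : ℕ) [hp : Fact p.Prime] [CharP k p]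
  (A : Type u) [CommRing A] [Algebra k A]

/-- MacLane's condition for an algebra implies that all its base changes to field extensions
are reduced. -/
theorem isReduced_tensor_of_linearIndepOn_pow'
    (H : ∀ s : Finset A, LinearIndepOn k id (s : Set A) →
      LinearIndepOn k (fun x : A => x ^ p) (s : Set A))
    (L : Type u) [Field L] [Algebra k L] : IsReduced (L ⊗[k] A) := by
  classical
  by_cases hA : Subsingleton A
  · haveI : Subsingleton (L ⊗[k] A) := by
      refine ⟨fun a b => ?_⟩
      have h0 : ∀ t : L ⊗[k] A, t = 0 := by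
        intro t
        induction t using TensorProduct.induction_on with
        | zero => rfl
        | tmul x y => rw [Subsingleton.elim y 0, TensorProduct.tmul_zero]
        | add x y hx hy => rw [hx, hy, add_zero]
      rw [h0 a, h0 b]
    exact ⟨fun x _ => Subsingleton.elim _ _⟩
  rw [not_subsingleton_iff_nontrivial] at hA
  let c := Module.Basis.ofVectorSpace k A
  have hcinj : Function.Injective c := c.injective
  have hcp : LinearIndependent k (fun i => c i ^ p) := by
    rw [linearIndependent_iff_finset_linearIndependent]
    intro s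
    have h1 : LinearIndepOn k id ((s.image c : Finset A) : Set A) := by
      have := c.linearIndependent.linearIndepOn_id
      refine this.mono ?_
      intro x hx
      rw [Finset.coe_image] at hx
      obtain ⟨i, _, rfl⟩ := hx
      exact ⟨i, rfl⟩
    have h2 := H _ h1
    have h3 : LinearIndependent k (fun x : ((s.image c : Finset A) : Set A) => (x : A) ^ p) := h2
    have h4 := h3.comp (fun i : s => (⟨c i, by
      rw [Finset.coe_image]; exact ⟨i, i.2, rfl⟩⟩ : ((s.image c : Finset A) : Set A))) (by
      intro i j hij
      exact Subtype.ext (hcinj (congrArg Subtype.val hij)))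
    exact h4
  haveI : Nontrivial (L ⊗[k] A) := inferInstance
  haveI : CharP (L ⊗[k] A) p :=
    charP_of_injective_algebraMap (algebraMap k (L ⊗[k] A)).injective p
  haveI : CharP L p := charP_of_injective_algebraMap (algebraMap k L).injective p
  let bT : Module.Basis _ L (L ⊗[k] A) := Module.Basis.baseChange L c
  have key : ∀ t : L ⊗[k] A, t ^ p = 0 → t = 0 := by
    intro t ht
    have ht' : t = ∑ i ∈ (bT.repr t).support, (bT.repr t i) ⊗ₜ[k] c i := by
      conv_lhs => rw [← bT.linearCombination_repr t, Finsupp.linearCombination_apply, Finsupp.sum]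
      refine Finset.sum_congr rfl fun i _ => ?_
      rw [Module.Basis.baseChange_apply, TensorProduct.smul_tmul', smul_eq_mul, mul_one]
    have h1 : ∑ i ∈ (bT.repr t).support, (bT.repr t i ^ p) ⊗ₜ[k] (c i ^ p) = 0 := by
      rw [← ht]
      conv_rhs => rw [ht']
      rw [sum_pow_char]
      refine Finset.sum_congr rfl fun i _ => ?_
      rw [Algebra.TensorProduct.tmul_pow]
    have h2 : ∀ i, bT.repr t i = 0 := by
      intro i₀
      by_cases hi₀ : i₀ ∈ (bT.repr t).support
      · obtain ⟨ℓ, hℓ⟩ := exists_functional hcp i₀
        have h3 := congrArg (fun z => TensorProduct.rid k L (LinearMap.lTensor L ℓ z)) h1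
        simp only [map_sum, LinearMap.lTensor_tmul, TensorProduct.rid_tmul, map_zero, hℓ] at h3
        simp only [ite_smul, one_smul, zero_smul] at h3
        rw [Finset.sum_ite_eq' _ i₀, if_pos hi₀] at h3
        exact (pow_eq_zero_iff hp.out.ne_zero).mp h3
      · exact Finsupp.notMem_support_iff.mp hi₀
    have h3 : bT.repr t = 0 := Finsupp.ext h2
    exact (LinearEquiv.map_eq_zero_iff _).mp h3
  have key2 : ∀ m : ℕ, ∀ t : L ⊗[k] A, t ^ (p ^ m) = 0 → t = 0 := by
    intro m
    induction m with
    | zero => intro t ht; simpa using ht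
    | succ m ih =>
      intro t ht
      rw [pow_succ, pow_mul] at ht
      exact ih t (key _ ht)
  constructor
  rintro t ⟨n, hn⟩
  apply key2 n
  have hle : n ≤ p ^ n := (Nat.lt_pow_self hp.out.one_lt).le
  obtain ⟨d, hd⟩ := Nat.exists_eq_add_of_le hle
  rw [hd, pow_add, hn, zero_mul]

/-- if the Frobenius twist of `A` is reduced, all base changes of `A` to field extensions are
reduced. -/
theorem isReduced_tensor_of_isReduced_frob (h : IsReduced (FrobK k p ⊗[k] A))
    (L : Type u) [Field L] [Algebra k L] : IsReduced (L ⊗[k] A) :=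
  isReduced_tensor_of_linearIndepOn_pow' p A (linearIndepOn_pow_of_isReduced p A h) L

end

end Groth.Agent.Helper2.FrobRed
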