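import Mathlib
import Groth.Prelude
import Groth.Agent.Helper2.FrobRed1
import Groth.Agent.Helper4.GeomRedSch

set_option autoImplicit false
set_option linter.unusedVariables false
open CategoryTheory CategoryTheory.Limits AlgebraicGeometry Opposite TensorProduct
universe u

namespace Groth.Agent.Helper2.FrobRed

open Groth.Agent.Helper4.GeomRedSch

variable {k : Type u} [Field k] (p : ℕ) [hp : Fact p.Prime] [CharP k p]

/-- affine case. -/
theorem isReduced_pullback_of_Spec_frob (R : CommRingCat.{u}) (g : Spec R ⟶ Spec (CommRingCat.of k))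
    (h : IsReduced (pullback g (Spec.map (CommRingCat.ofHom (algebraMap k (FrobK k p))))))
    (K : Type u) [Field K] [Algebra k K] :
    IsReduced (pullback g (Spec.map (CommRingCat.ofHom (algebraMap k K)))) := by
  obtain ⟨φ, rfl⟩ := Spec.map_surjective g
  algebraize [φ.hom]
  have hφ : φ = CommRingCat.ofHom (algebraMap k R) := rfl
  rw [hφ] at h ⊢
  rw [isReduced_pullback_Spec_iff (k := k) R K]
  rw [isReduced_pullback_Spec_iff (k := k) R (FrobK k p)] at h
  exact isReduced_tensor_of_isReduced_frob p R h K

theorem isReduced_bc_of_frob {X : Scheme.{u}} (f : X ⟶ Spec (CommRingCat.of k))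
    (h : IsReduced (pullback f (Spec.map (CommRingCat.ofHom (algebraMap k (FrobK k p))))))
    (K : Type u) [Field K] [Algebra k K] :
    IsReduced (pullback f (Spec.map (CommRingCat.ofHom (algebraMap k K)))) := by
  let 𝒰 := X.affineCover
  have key : ∀ i : 𝒰.I₀, IsReduced (pullback (𝒰.f i ≫ f)
      (Spec.map (CommRingCat.ofHom (algebraMap k K)))) := by
    intro i
    apply isReduced_pullback_of_Spec_frob p _ (𝒰.f i ≫ f)
    exact (IsReduced.iff_of_openCover _ (Scheme.Pullback.openCoverOfLeft 𝒰 f
      (Spec.map (CommRingCat.ofHom (algebraMap k (FrobK k p)))))).mp h i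
  exact (IsReduced.iff_of_openCover _ (Scheme.Pullback.openCoverOfLeft 𝒰 f
      (Spec.map (CommRingCat.ofHom (algebraMap k K))))).mpr key

theorem s7678 (k : Type u) [Field k] (X : Scheme.{u}) [X.Over (Spec (CommRingCat.of k))]
    (p : ℕ) [Fact p.Prime] [CharP k p] :
    GeometricallyReduced (X ↘ (Spec (CommRingCat.of k))) ↔
      IsReduced ↑(pullback (X ↘ (Spec (CommRingCat.of k)))
        (Spec.map (CommRingCat.ofHom (frobenius k p)))) := by
  constructor
  · intro h
    exact pullback_of_geometrically h.1 k (Spec.map (CommRingCat.ofHom (frobenius k p)))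
  · intro h
    have h' : IsReduced (pullback (X ↘ (Spec (CommRingCat.of k)))
        (Spec.map (CommRingCat.ofHom (algebraMap k (FrobK k p))))) := h
    constructor
    rw [geometrically_iff_of_commRing_of_isClosedUnderIsomorphisms]
    intro K _ _
    exact isReduced_bc_of_frob p (X ↘ (Spec (CommRingCat.of k))) h' K

end Groth.Agent.Helper2.FrobRed
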