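import Mathlib

set_option autoImplicit false
universe u

namespace Groth.Agent.Helper2.FrobSeries

variable (p : ℕ) [Fact p.Prime] {k₀ K₀ : Type u} [Field k₀] [Field K₀] [Algebra k₀ K₀]

/-- `K₀^p` as the subfield generated by `p`-th powers. -/
abbrev Lp (K₀ : Type u) [Field K₀] : Subfield K₀ := Subfield.closure (Set.range fun y : K₀ => y ^ p)

/-- `k₀(K₀^p)`. -/
abbrev Fp (k₀ K₀ : Type u) [Field k₀] [Field K₀] [Algebra k₀ K₀] : Subfield K₀ :=
  Subfield.closure (Set.range (algebraMap k₀ K₀) ∪ Set.range fun y : K₀ => y ^ p)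

lemma Lp_le_Fp : Lp p K₀ ≤ Fp p k₀ K₀ := Subfield.closure_mono Set.subset_union_right

lemma algebraMap_mem_Lp (x : k₀) (hx : x ∈ Lp p k₀) : algebraMap k₀ K₀ x ∈ Lp p K₀ := by
  have h1 : (Lp p k₀).map (algebraMap k₀ K₀) ≤ Lp p K₀ := by
    rw [Subfield.map_le_iff_le_comap]
    apply Subfield.closure_le.2
    rintro _ ⟨y, rfl⟩
    show algebraMap k₀ K₀ (y ^ p) ∈ Lp p K₀
    rw [map_pow]
    exact Subfield.subset_closure ⟨_, rfl⟩
  exact h1 ⟨x, hx, rfl⟩

instance : Algebra.IsAlgebraic (Lp p K₀) K₀ := by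
  constructor
  intro a
  refine ⟨Polynomial.X ^ p - Polynomial.C ⟨a ^ p, Subfield.subset_closure ⟨a, rfl⟩⟩,
    Polynomial.X_pow_sub_C_ne_zero (Fact.out : p.Prime).pos _, ?_⟩
  simp only [map_sub, map_pow, Polynomial.aeval_X, Polynomial.aeval_C]
  show a ^ p - a ^ p = 0
  exact sub_self _

/-- Every element of `k₀(K₀^p)` is a `K₀^p`-combination of the images of a spanning family of
`k₀` over `k₀^p`. -/
theorem exists_repr {s : ℕ} (b : Fin s → k₀)
    (hb : Submodule.span (Lp p k₀) (Set.range b) = ⊤) (c : K₀) (hc : c ∈ Fp p k₀ K₀) :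
    ∃ y : Fin s → K₀, (∀ i, y i ∈ Lp p K₀) ∧ c = ∑ i, algebraMap k₀ K₀ (b i) * y i := by
  let V : Submodule (Lp p K₀) K₀ := Submodule.span (Lp p K₀) (Set.range fun i => algebraMap k₀ K₀ (b i))
  have hgen : ∀ x : k₀, algebraMap k₀ K₀ x ∈ V := by
    intro x
    have hx : x ∈ Submodule.span (Lp p k₀) (Set.range b) := by rw [hb]; trivial
    obtain ⟨l, rfl⟩ := (Submodule.mem_span_range_iff_exists_fun _).1 hx
    rw [map_sum]
    refine Submodule.sum_mem _ fun i _ => ?_
    have : algebraMap k₀ K₀ (l i • b i) =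
        (⟨algebraMap k₀ K₀ (l i : k₀), algebraMap_mem_Lp p _ (l i).2⟩ : Lp p K₀) •
          algebraMap k₀ K₀ (b i) := by
      rw [Subfield.smul_def, Subfield.smul_def, smul_eq_mul, smul_eq_mul, map_mul]
    rw [this]
    exact Submodule.smul_mem _ _ (Submodule.subset_span ⟨i, rfl⟩)
  have hmul : ∀ x y, x ∈ V → y ∈ V → x * y ∈ V := by
    intro x y hx hy
    refine Submodule.span_induction₂ (p := fun x y _ _ => x * y ∈ V) ?_ ?_ ?_ ?_ ?_ ?_ ?_ hx hy
    · rintro _ _ ⟨i, rfl⟩ ⟨j, rfl⟩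
      rw [← map_mul]
      exact hgen _
    · intro y _; rw [zero_mul]; exact V.zero_mem
    · intro x _; rw [mul_zero]; exact V.zero_mem
    · intro x y z _ _ _ h1 h2; rw [add_mul]; exact V.add_mem h1 h2
    · intro x y z _ _ _ h1 h2; rw [mul_add]; exact V.add_mem h1 h2
    · intro r x y _ _ h; rw [smul_mul_assoc]; exact V.smul_mem _ h
    · intro r x y _ _ h; rw [mul_smul_comm]; exact V.smul_mem _ h
  have hone : (1 : K₀) ∈ V := by
    have := hgen 1
    rwa [map_one] at this
  let S : Subalgebra (Lp p K₀) K₀ := V.toSubalgebra hone hmul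
  let E : IntermediateField (Lp p K₀) K₀ :=
    S.toIntermediateField fun x hx => S.inv_mem_of_algebraic (x := ⟨x, hx⟩)
      (Algebra.IsAlgebraic.isAlgebraic x)
  have hle : Fp p k₀ K₀ ≤ E.toSubfield := by
    apply Subfield.closure_le.2
    rintro x (⟨x, rfl⟩ | ⟨y, rfl⟩)
    · exact hgen x
    · have : (⟨y ^ p, Subfield.subset_closure ⟨y, rfl⟩⟩ : Lp p K₀) • (1 : K₀) ∈ V :=
        V.smul_mem _ hone
      rw [Subfield.smul_def, smul_eq_mul, mul_one] at this
      exact this
  have hcV : c ∈ V := hle hc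
  obtain ⟨l, hl⟩ := (Submodule.mem_span_range_iff_exists_fun _).1 hcV
  refine ⟨fun i => (l i : K₀), fun i => (l i).2, ?_⟩
  rw [← hl]
  apply Finset.sum_congr rfl
  intro i _
  rw [Subfield.smul_def, smul_eq_mul, mul_comm]

theorem main (hfin : Module.Finite (Lp p k₀) k₀) (r : ℕ) :
    Subfield.closure (algebraMap (MvPowerSeries (Fin r) K₀)
        (FractionRing (MvPowerSeries (Fin r) K₀)) ''
        {f | ∀ n, MvPowerSeries.coeff n f ∈ Fp p k₀ K₀}) =
      Subfield.closure
        (Set.range (algebraMap k₀ (FractionRing (MvPowerSeries (Fin r) K₀))) ∪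
          (Subfield.closure (algebraMap (MvPowerSeries (Fin r) K₀)
            (FractionRing (MvPowerSeries (Fin r) K₀)) ''
            {f | ∀ n, MvPowerSeries.coeff n f ∈ Lp p K₀}) :
            Set (FractionRing (MvPowerSeries (Fin r) K₀)))) := by
  classical
  set P := MvPowerSeries (Fin r) K₀
  set Q := FractionRing P
  have hk : ∀ x : k₀, algebraMap k₀ Q x = algebraMap P Q (MvPowerSeries.C (algebraMap k₀ K₀ x)) := by
    intro x
    rw [IsScalarTower.algebraMap_apply k₀ P Q, MvPowerSeries.algebraMap_apply]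
  apply le_antisymm
  · apply Subfield.closure_le.2
    rintro _ ⟨f, hf, rfl⟩
    obtain ⟨s, b, hb⟩ := Module.Finite.exists_fin (R := Lp p k₀) (M := k₀)
    choose y hy1 hy2 using fun n => exists_repr p b hb (MvPowerSeries.coeff n f) (hf n)
    let g : Fin s → MvPowerSeries (Fin r) K₀ := fun i n => y n i
    have hfsum : f = ∑ i, MvPowerSeries.C (algebraMap k₀ K₀ (b i)) * g i := by
      ext n
      rw [map_sum, hy2 n]
      apply Finset.sum_congr rfl
      intro i _
      rw [MvPowerSeries.coeff_C_mul]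
      rfl
    rw [hfsum, map_sum]
    refine Subfield.sum_mem _ fun i _ => ?_
    rw [map_mul, ← hk]
    refine Subfield.mul_mem _ (Subfield.subset_closure (Or.inl ⟨_, rfl⟩)) ?_
    refine Subfield.subset_closure (Or.inr ?_)
    exact Subfield.subset_closure ⟨_, fun n => hy1 n i, rfl⟩
  · apply Subfield.closure_le.2
    rintro x (⟨x, rfl⟩ | hx)
    · rw [hk]
      refine Subfield.subset_closure ⟨_, fun n => ?_, rfl⟩
      rw [MvPowerSeries.coeff_C]
      split_ifs
      · exact Subfield.subset_closure (Or.inl ⟨x, rfl⟩)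
      · exact Subfield.zero_mem _
    · refine (Subfield.closure_mono ?_) hx
      rintro _ ⟨f, hf, rfl⟩
      exact ⟨f, fun n => Lp_le_Fp p (hf n), rfl⟩

end Groth.Agent.Helper2.FrobSeries
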