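import Mathlib
import Groth.Prelude
import Groth.Agent.Helper5.FtDim5

set_option autoImplicit false
universe u

namespace Groth.Agent.Helper2.GCIField

section Trans
open MvPolynomial
variable {B K : Type u} [CommRing B] [Field K] [Algebra B K]

/-- the evaluation map at `e` on `MvPolynomial Unit B`. -/
noncomputable abbrev ev (e : K) : MvPolynomial Unit B →ₐ[B] K := aeval (fun _ : Unit => e)

lemma mem_range_ev (e : K) : e ∈ (ev (B := B) e).range := ⟨X (), by simp⟩

lemma coe_aeval_val (e : K) (p : MvPolynomial Unit B) :
    ((aeval (fun _ : Unit => (⟨e, mem_range_ev e⟩ : (ev (B := B) e).range)) p :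
      (ev (B := B) e).range) : K) = ev e p := by
  have : ((ev (B := B) e).range.val.comp
      (aeval (fun _ : Unit => (⟨e, mem_range_ev e⟩ : (ev (B := B) e).range)))) = ev e := by
    apply MvPolynomial.algHom_ext
    intro i
    simp
  exact congrArg (fun f => f p) this

lemma aeval_val_surjective (e : K) :
    Function.Surjective
      (aeval (R := B) (fun _ : Unit => (⟨e, mem_range_ev e⟩ : (ev (B := B) e).range))) := by
  rintro ⟨y, p, rfl⟩
  exact ⟨p, Subtype.ext (coe_aeval_val e p)⟩

lemma ev_eq_aeval_pUnit (e : K) (p : MvPolynomial Unit B) :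
    ev e p = Polynomial.aeval e (uniqueAlgEquiv B Unit p) := by
  have : ev (B := B) e = (Polynomial.aeval e).comp (uniqueAlgEquiv B Unit).toAlgHom := by
    apply MvPolynomial.algHom_ext
    intro i
    simp
  rw [this]
  rfl

/-- presentation of `B[e]` over `B` given a generator `f` of the kernel. -/
noncomputable def presAlg (e : K) (f : Polynomial B)
    (hf : ∀ h : Polynomial B, Polynomial.aeval e h = 0 ↔ f ∣ h) :
    Algebra.Presentation B (ev (B := B) e).range Unit Unit where
  toGenerators := Algebra.Generators.ofSurjective _ (aeval_val_surjective e)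
  relation := fun _ => (uniqueAlgEquiv B Unit).symm f
  span_range_relation_eq_ker := by
    rw [Algebra.Generators.ker_eq_ker_aeval_val]
    have hv : (Algebra.Generators.ofSurjective _ (aeval_val_surjective (B := B) e)).val =
        fun _ => ⟨e, mem_range_ev e⟩ := rfl
    rw [hv, Set.range_const]
    ext p
    rw [Ideal.mem_span_singleton, RingHom.mem_ker]
    have h1 : (aeval (R := B) (fun _ : Unit => (⟨e, mem_range_ev e⟩ : (ev (B := B) e).range)) p = 0)
        ↔ ev e p = 0 := by
      rw [← coe_aeval_val]
      exact ⟨fun h => by rw [h]; rfl, fun h => Subtype.ext h⟩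
    rw [h1, ev_eq_aeval_pUnit, hf]
    constructor
    · rintro ⟨q, hq⟩
      refine ⟨uniqueAlgEquiv B Unit q, ?_⟩
      rw [hq, map_mul, AlgEquiv.apply_symm_apply]
    · rintro ⟨q, hq⟩
      refine ⟨(uniqueAlgEquiv B Unit).symm q, ?_⟩
      rw [← map_mul, ← hq, AlgEquiv.symm_apply_apply]

/-- presentation in the transcendental case. -/
noncomputable def presTrans (e : K) (he : Transcendental B e) :
    Algebra.Presentation B (ev (B := B) e).range Unit PEmpty.{1} where
  toGenerators := Algebra.Generators.ofSurjective _ (aeval_val_surjective e)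
  relation := PEmpty.elim
  span_range_relation_eq_ker := by
    rw [Algebra.Generators.ker_eq_ker_aeval_val]
    have hinj : Function.Injective (ev (B := B) e) := by
      rw [← algebraicIndependent_iff_injective_aeval, algebraicIndependent_unique_type_iff]
      exact he
    have : RingHom.ker (aeval (R := B)
        (fun _ : Unit => (⟨e, mem_range_ev e⟩ : (ev (B := B) e).range))) = ⊥ := by
      rw [RingHom.ker_eq_bot_iff_eq_zero]
      intro p hp
      apply hinj
      rw [map_zero, ← coe_aeval_val, hp]
      rfl
    have hv : (Algebra.Generators.ofSurjective _ (aeval_val_surjective (B := B) e)).val =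
        fun _ => ⟨e, mem_range_ev e⟩ := rfl
    rw [hv, this]
    simp

lemma trdeg_trans [IsDomain B] (e : K) (he : Transcendental B e) :
    Algebra.trdeg B (ev (B := B) e).range = 1 := by
  have hinj : Function.Injective (ev (B := B) e) := by
    rw [← algebraicIndependent_iff_injective_aeval, algebraicIndependent_unique_type_iff]
    exact he
  rw [← (AlgEquiv.ofInjective (ev (B := B) e) hinj).trdeg_eq, MvPolynomial.trdeg_of_isDomain]
  simp

end Trans

section Alg
open Polynomial
variable {B K : Type u} [CommRing B] [IsDomain B] [Field K] [Algebra B K]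

omit [IsDomain B] in
/-- a nonzero annihilating polynomial of minimal degree. -/
lemma exists_min_poly (hinj : Function.Injective (algebraMap B K)) (e : K) (he : IsAlgebraic B e) :
    ∃ f : B[X], f ≠ 0 ∧ aeval e f = 0 ∧ 0 < f.natDegree ∧
      ∀ r : B[X], aeval e r = 0 → r.natDegree < f.natDegree → r = 0 := by
  classical
  have hex : ∃ n : ℕ, ∃ f : B[X], f ≠ 0 ∧ aeval e f = 0 ∧ f.natDegree = n := by
    obtain ⟨f, hf0, hf⟩ := he
    exact ⟨_, f, hf0, hf, rfl⟩
  obtain ⟨f, hf0, hf, hfd⟩ := Nat.find_spec hex
  have hmin : ∀ r : B[X], aeval e r = 0 → r.natDegree < f.natDegree → r = 0 := by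
    intro r hr hlt
    by_contra hr0
    exact Nat.find_min hex (hfd ▸ hlt) ⟨r, hr0, hr, rfl⟩
  refine ⟨f, hf0, hf, ?_, hmin⟩
  by_contra hd
  have hd0 : f.natDegree = 0 := by omega
  rw [Polynomial.eq_C_of_natDegree_eq_zero hd0, aeval_C] at hf
  have : f.coeff 0 = 0 := hinj (by rw [hf, map_zero])
  apply hf0
  rw [Polynomial.eq_C_of_natDegree_eq_zero hd0, this, C_0]

end Alg

section Loc
open Polynomial
variable {B B₁ K : Type u} [CommRing B] [IsDomain B] [CommRing B₁] [IsDomain B₁] [Field K]
  [Algebra B B₁] [Algebra B K] [Algebra B₁ K] [IsScalarTower B B₁ K]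

/-- key divisibility: over the localization `B₁ = B_g`, the kernel of evaluation at `e` is
generated by `f`. -/
lemma dvd_of_aeval_eq_zero (g : B) (hg : g ≠ 0) [IsLocalization.Away g B₁]
    (e : K) (f : B[X]) (hfg : f.leadingCoeff = g) (hf : aeval e f = 0)
    (hd : 0 < f.natDegree)
    (hmin : ∀ r : B[X], aeval e r = 0 → r.natDegree < f.natDegree → r = 0)
    (h : B₁[X]) (hh : aeval e h = 0) : f.map (algebraMap B B₁) ∣ h := by
  have hM : Submonoid.powers g ≤ nonZeroDivisors B :=
    powers_le_nonZeroDivisors_of_noZeroDivisors hg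
  have hinj1 : Function.Injective (algebraMap B B₁) := IsLocalization.injective B₁ hM
  set f₁ := f.map (algebraMap B B₁) with hf₁
  have hlc : f₁.leadingCoeff = algebraMap B B₁ g := by
    rw [hf₁, Polynomial.leadingCoeff_map_of_injective hinj1, hfg]
  have hu : IsUnit (algebraMap B B₁ g) := IsLocalization.Away.algebraMap_isUnit g
  obtain ⟨u, hu'⟩ := hu
  have hnd : f₁.natDegree = f.natDegree := Polynomial.natDegree_map_eq_of_injective hinj1 f
  set P : B₁[X] := C (↑u⁻¹ : B₁) * f₁ with hP
  have hPm : P.Monic := by
    apply Polynomial.monic_C_mul_of_mul_leadingCoeff_eq_one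
    rw [hlc, ← hu']
    exact Units.inv_mul u
  have hPd : P.natDegree = f.natDegree := by
    rw [hP, Polynomial.natDegree_C_mul (by exact Units.ne_zero _), hnd]
  have hf₁e : aeval e f₁ = 0 := by
    rw [hf₁, Polynomial.aeval_map_algebraMap]; exact hf
  have hPe : aeval e P = 0 := by rw [hP, map_mul, hf₁e, mul_zero]
  have hP1 : P ≠ 1 := by
    intro h1
    rw [h1, Polynomial.natDegree_one] at hPd
    omega
  set r := h %ₘ P with hr
  have hre : aeval e r = 0 := by
    have := Polynomial.modByMonic_add_div h P
    have h2 : aeval e (r + P * (h /ₘ P)) = 0 := by rw [this]; exact hh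
    rw [map_add, map_mul, hPe, zero_mul, add_zero] at h2
    exact h2
  have hrd : r.natDegree < f.natDegree := by
    rw [← hPd]; exact Polynomial.natDegree_modByMonic_lt h hPm hP1
  set r' := IsLocalization.integerNormalization (Submonoid.powers g) r with hr'
  have hr'e : aeval e r' = 0 :=
    IsLocalization.integerNormalization_aeval_eq_zero (Submonoid.powers g) r hre
  have hr'd : r'.natDegree < f.natDegree := by
    refine lt_of_le_of_lt ?_ hrd
    apply Polynomial.natDegree_le_natDegree
    apply Polynomial.degree_mono
    exact IsLocalization.integerNormalization_support (Submonoid.powers g) r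
  have hr'0 : r' = 0 := hmin r' hr'e hr'd
  have hr0 : r = 0 := (IsLocalization.integerNormalization_eq_zero_iff hM r).1 hr'0
  have hdvd : P ∣ h := (Polynomial.modByMonic_eq_zero_iff_dvd hPm).1 hr0
  refine dvd_trans ?_ hdvd
  refine ⟨C (↑u⁻¹ : B₁), ?_⟩
  rw [hP, mul_comm]

end Loc

section Step
variable {B K : Type u} [CommRing B] [IsDomain B] [Field K] [Algebra B K]

/-- every evaluation is algebraic over `B` when coefficients and `e` are. -/
lemma isAlgebraic_ev {B₁ : Type u} [CommRing B₁] [Algebra B B₁] [Algebra B₁ K]
    [IsScalarTower B B₁ K] [Algebra.IsAlgebraic B B₁] (e : K) (he : IsAlgebraic B e)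
    (p : MvPolynomial Unit B₁) : IsAlgebraic B (ev (B := B₁) e p) := by
  induction p using MvPolynomial.induction_on with
  | C c =>
    rw [MvPolynomial.aeval_C]
    exact (Algebra.IsAlgebraic.isAlgebraic c).algebraMap
  | add p q hp hq => rw [map_add]; exact hp.add hq
  | mul_X p i hp =>
    rw [map_mul, MvPolynomial.aeval_X]
    exact hp.mul he

/-- the inductive step. -/
theorem step (hinj : Function.Injective (algebraMap B K)) (e : K) :
    ∃ (B' : Type u) (_ : CommRing B') (_ : Algebra B B') (j : B' →ₐ[B] K),
      Function.Injective j ∧ e ∈ Set.range j ∧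
      ∃ (ι σ : Type) (_ : Fintype ι) (_ : Fintype σ) (_ : Algebra.Presentation B B' ι σ),
        Fintype.card σ ≤ Fintype.card ι ∧
        Algebra.trdeg B B' = ((Fintype.card ι - Fintype.card σ : ℕ) : Cardinal.{u}) := by
  by_cases he : Transcendental B e
  · refine ⟨(ev (B := B) e).range, inferInstance, inferInstance, (ev (B := B) e).range.val,
      Subtype.val_injective, ⟨⟨e, mem_range_ev e⟩, rfl⟩, Unit, PEmpty.{1}, inferInstance,
      inferInstance, presTrans e he, by simp, ?_⟩
    rw [trdeg_trans e he]
    simp
  · have halg : IsAlgebraic B e := by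
      by_contra h
      exact he h
    obtain ⟨f, hf0, hfe, hd, hmin⟩ := exists_min_poly hinj e halg
    set g := f.leadingCoeff with hg
    have hg0 : g ≠ 0 := Polynomial.leadingCoeff_ne_zero.2 hf0
    have hM : Submonoid.powers g ≤ nonZeroDivisors B :=
      powers_le_nonZeroDivisors_of_noZeroDivisors hg0
    haveI : IsDomain (Localization.Away g) := IsLocalization.isDomain_localization hM
    have hunit : ∀ y : Submonoid.powers g, IsUnit (algebraMap B K y) := by
      rintro ⟨_, n, rfl⟩
      rw [map_pow]
      exact (IsUnit.mk0 _ (fun h0 => hg0 (hinj (by rw [h0, map_zero])))).pow n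
    letI : Algebra (Localization.Away g) K := (IsLocalization.lift hunit).toAlgebra
    haveI : IsScalarTower B (Localization.Away g) K :=
      IsScalarTower.of_algebraMap_eq (fun x => (IsLocalization.lift_eq hunit x).symm)
    haveI : Algebra.IsAlgebraic B (Localization.Away g) :=
      IsLocalization.isAlgebraic (Localization.Away g) (Submonoid.powers g)
    have hdvd : ∀ h : Polynomial (Localization.Away g), Polynomial.aeval e h = 0 ↔
        f.map (algebraMap B (Localization.Away g)) ∣ h := by
      intro h
      constructor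
      · exact dvd_of_aeval_eq_zero g hg0 e f rfl hfe hd hmin h
      · rintro ⟨q, rfl⟩
        rw [map_mul, Polynomial.aeval_map_algebraMap, hfe, zero_mul]
    let Q₁ : Algebra.Presentation B (Localization.Away g) Unit Unit :=
      Algebra.Presentation.localizationAway (Localization.Away g) g
    let Q₂ := presAlg (B := Localization.Away g) e (f.map (algebraMap B (Localization.Away g))) hdvd
    refine ⟨(ev (B := Localization.Away g) e).range, inferInstance, inferInstance,
      (ev (B := Localization.Away g) e).range.val.restrictScalars B,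
      Subtype.val_injective, ⟨⟨e, mem_range_ev e⟩, rfl⟩, Unit ⊕ Unit, Unit ⊕ Unit, inferInstance,
      inferInstance, Q₂.comp Q₁, by simp, ?_⟩
    haveI : Algebra.IsAlgebraic B (ev (B := Localization.Away g) e).range := by
      refine ⟨fun y => ?_⟩
      obtain ⟨y, p, rfl⟩ := y
      have h1 := isAlgebraic_ev (B := B) (B₁ := Localization.Away g) e halg p
      refine (isAlgebraic_algHom_iff
        ((ev (B := Localization.Away g) e).range.val.restrictScalars B)
        Subtype.val_injective).1 ?_
      exact h1
    rw [trdeg_eq_zero]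
    simp

end Step

section Main
variable (k : Type u) [Field k] (K : Type u) [Field K] [Algebra k K]

/-- presentation data with the right count. -/
def HasGCI (B : Type u) [CommRing B] [Algebra k B] : Prop :=
  ∃ (ι σ : Type) (_ : Fintype ι) (_ : Fintype σ) (_ : Algebra.Presentation k B ι σ),
    Fintype.card σ ≤ Fintype.card ι ∧
    Algebra.trdeg k B = ((Fintype.card ι - Fintype.card σ : ℕ) : Cardinal.{u})

theorem exists_model (E : Finset K) :
    ∃ (B : Type u) (_ : CommRing B) (_ : Algebra k B) (j : B →ₐ[k] K),
      Function.Injective j ∧ (↑E : Set K) ⊆ Set.range j ∧ HasGCI k B := by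
  classical
  induction E using Finset.induction_on with
  | empty =>
    refine ⟨k, inferInstance, inferInstance, Algebra.ofId k K, (algebraMap k K).injective,
      by simp, PEmpty.{1}, PEmpty.{1}, inferInstance, inferInstance,
      Algebra.Presentation.id k, le_rfl, ?_⟩
    rw [trdeg_eq_zero]
    simp
  | insert a E _ ih =>
    obtain ⟨B, _, _, j, hj, hE, ι, σ, _, _, P, hle, htr⟩ := ih
    letI : Algebra B K := j.toRingHom.toAlgebra
    haveI : IsScalarTower k B K := IsScalarTower.of_algebraMap_eq (fun x => (j.commutes x).symm)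
    haveI : IsDomain B := Function.Injective.isDomain j.toRingHom hj
    obtain ⟨B', _, _, j', hj', ha, ι', σ', _, _, Q, hle', htr'⟩ :=
      step (B := B) (K := K) hj a
    letI : Algebra k B' := ((algebraMap B B').comp (algebraMap k B)).toAlgebra
    haveI : IsScalarTower k B B' := IsScalarTower.of_algebraMap_eq (fun _ => rfl)
    haveI : IsDomain B' := Function.Injective.isDomain j'.toRingHom hj'
    have hBB' : Function.Injective (algebraMap B B') := by
      intro x y hxy
      apply hj
      have := congrArg j' hxy
      rwa [j'.commutes, j'.commutes] at this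
    haveI : FaithfulSMul B B' := (faithfulSMul_iff_algebraMap_injective B B').2 hBB'
    refine ⟨B', inferInstance, inferInstance, j'.restrictScalars k, hj', ?_, ι' ⊕ ι, σ' ⊕ σ,
      inferInstance, inferInstance, Q.comp P, ?_, ?_⟩
    · intro x hx
      rw [Finset.coe_insert, Set.mem_insert_iff] at hx
      rcases hx with rfl | hx
      · exact ha
      · obtain ⟨b, rfl⟩ := hE hx
        exact ⟨algebraMap B B' b, j'.commutes b⟩
    · rw [Fintype.card_sum, Fintype.card_sum]
      omega
    · have h := trdeg_add_eq k B (A := B')
      rw [← h, htr, htr', Fintype.card_sum, Fintype.card_sum, ← Nat.cast_add]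
      congr 1
      omega

end Main

section Final
variable (k : Type u) [Field k] (K : Type u) [Field K] [Algebra k K]

/-- `dim = trdeg` for a finite type domain, with `trdeg` of the ring itself. -/
lemma dim_eq_of_trdeg (A : Type u) [CommRing A] [IsDomain A] [Algebra k A]
    [Algebra.FiniteType k A] (m : ℕ) (h : Algebra.trdeg k A = (m : Cardinal.{u})) :
    ringKrullDim A = (m : WithBot ℕ∞) := by
  obtain ⟨n, hn1, hn2⟩ := Groth.Agent.Helper5.FtDim.dim_eq_trdeg k A (FractionRing A)
  haveI : Algebra.IsAlgebraic A (FractionRing A) :=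
    IsLocalization.isAlgebraic (FractionRing A) (nonZeroDivisors A)
  have h1 := trdeg_add_eq k A (A := FractionRing A)
  rw [trdeg_eq_zero (R := A) (A := FractionRing A), add_zero, h, hn2] at h1
  have : m = n := by exact_mod_cast h1
  rw [hn1, this]

theorem s9430 (E : Finset K) :
    ∃ A : Subalgebra k K, (↑E : Set K) ⊆ (A : Set K) ∧ Synt.IsGlobalCI k A := by
  obtain ⟨B, _, _, j, hj, hE, ι, σ, _, _, P, hle, htr⟩ := exists_model k K E
  refine ⟨j.range, ?_, Or.inr ?_⟩
  · intro x hx
    obtain ⟨b, rfl⟩ := hE hx
    exact ⟨b, rfl⟩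
  · let e : B ≃ₐ[k] j.range := AlgEquiv.ofInjective j hj
    let P' : Algebra.Presentation k j.range (Fin (Fintype.card ι)) (Fin (Fintype.card σ)) :=
      (P.ofAlgEquiv e).reindex (Fintype.equivFin ι).symm (Fintype.equivFin σ).symm
    haveI : Algebra.FinitePresentation k j.range :=
      Algebra.Presentation.finitePresentation_of_isFinite P'
    haveI : IsDomain j.range := inferInstance
    refine ⟨Fintype.card ι, Fintype.card σ, hle, MvPolynomial.aeval P'.val, P'.relation,
      P'.aeval_val_surjective, ?_, ?_⟩
    · rw [P'.span_range_relation_eq_ker, Algebra.Generators.ker_eq_ker_aeval_val]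
      rfl
    · apply dim_eq_of_trdeg k
      rw [← e.trdeg_eq, htr]

end Final

end Groth.Agent.Helper2.GCIField
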