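import Mathlib
import Groth.Prelude
import Groth.Agent.Helper2.ZU1
import Groth.Agent.Helper2.LocLoc
import Groth.Agent.Helper2.FourTerm
import Groth.Agent.Helper2.NoethOpen

set_option autoImplicit false
set_option linter.style.haveILetI false
set_option linter.unusedSectionVars false
universe u
open TensorProduct IsLocalRing

namespace Groth.Agent.Helper2.ZV
open Groth.Agent.Helper2.ZT Groth.Agent.Helper2.ZU

section LocLoc
variable (A : Type u) {B : Type u} [CommRing A] [CommRing B] [Algebra A B]
  (G : Type u) [AddCommGroup G] [Module B G] [Module A G] [IsScalarTower A B G]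

/-- flatness over `A` of `(G_q)_{P'}` from flatness of `G_{P' ∩ B}` -/
theorem flat_locloc (q : Ideal B) [q.IsPrime] (P' : Ideal (Localization.AtPrime q)) [P'.IsPrime]
    (h : Module.Flat A (LocalizedModule
      (P'.comap (algebraMap B (Localization.AtPrime q))).primeCompl G)) :
    Module.Flat A (LocalizedModule P'.primeCompl (LocalizedModule q.primeCompl G)) := by
  set T : Submonoid B := q.primeCompl with hTdef
  let r : Ideal B := P'.comap (algebraMap B (Localization T))
  haveI : r.IsPrime := Ideal.comap_isPrime _ _
  have hP'ne : P' ≠ ⊤ := Ideal.IsPrime.ne_top inferInstance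
  have hT : T ≤ r.primeCompl := by
    intro t ht hmem
    have h1 : algebraMap B (Localization T) t ∈ P' := hmem
    have h2 : IsUnit (algebraMap B (Localization T) t) := IsLocalization.map_units _ ⟨t, ht⟩
    exact hP'ne (Ideal.eq_top_of_isUnit_mem _ h1 h2)
  let g := LocalizedModule.mkLinearMap P'.primeCompl (LocalizedModule T G)
  have hle : Algebra.algebraMapSubmonoid (Localization T) r.primeCompl ≤ P'.primeCompl := by
    rintro _ ⟨c, hc, rfl⟩
    exact hc
  have hdiv : ∀ x : P'.primeCompl,
      ∃ m : Localization T, m * x ∈ Algebra.algebraMapSubmonoid (Localization T) r.primeCompl := by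
    intro x
    obtain ⟨c, t, hx⟩ := IsLocalization.exists_mk'_eq T (x : Localization T)
    refine ⟨algebraMap B (Localization T) t, c, ?_, ?_⟩
    · intro hmem
      have h1 : algebraMap B (Localization T) c ∈ P' := hmem
      apply x.2
      rw [← hx, IsLocalization.mk'_eq_mul_mk'_one]
      exact Ideal.mul_mem_right _ _ h1
    · rw [← hx, mul_comm, IsLocalization.mk'_spec]
  haveI : IsLocalizedModule (Algebra.algebraMapSubmonoid (Localization T) r.primeCompl) g :=
    Groth.Agent.Helper2.LocLoc.isLocalizedModule_of_le_of_exists_mul_mem _ _ hle hdiv g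
  haveI : IsLocalizedModule r.primeCompl (g.restrictScalars B) :=
    IsLocalizedModule.restrictScalars r.primeCompl g
  haveI : IsLocalizedModule r.primeCompl
      ((g.restrictScalars B) ∘ₗ (LocalizedModule.mkLinearMap T G)) :=
    Groth.Agent.Helper2.LocLoc.isLocalizedModule_comp T r.primeCompl hT _ _
  let e := IsLocalizedModule.iso r.primeCompl
      ((g.restrictScalars B) ∘ₗ (LocalizedModule.mkLinearMap T G))
  exact Module.Flat.of_linearEquiv (e.symm.restrictScalars A)

end LocLoc

section FibDepth
variable (A B : Type u) [CommRing A] [CommRing B] [IsNoetherianRing B] [Algebra A B]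
  (F : Type u) [AddCommGroup F] [Module B F] [Module.Finite B F]
  (Q : Ideal B) [Q.IsPrime]

/-- the fibre module of `F_Q` over `A_P → B_Q` is `FibLocMod` (no flatness needed) -/
noncomputable def fibEquiv' :
    letI := Localization.AtPrime.algebraOfLiesOver (Q.comap (algebraMap A B)) Q
    EGA4.FibMod (Localization.AtPrime (Q.comap (algebraMap A B))) (Localization.AtPrime Q)
      (LocalizedModule Q.primeCompl F) ≃ₗ[Localization.AtPrime Q] EGA4.FibLocMod A B Q F := by
  letI := Localization.AtPrime.algebraOfLiesOver (Q.comap (algebraMap A B)) Q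
  refine Submodule.quotEquivOfEq _ _ ?_
  show (maximalIdeal (Localization.AtPrime (Q.comap (algebraMap A B)))).map
      (algebraMap (Localization.AtPrime (Q.comap (algebraMap A B))) (Localization.AtPrime Q)) • _ = _
  rw [← Localization.AtPrime.map_eq_maximalIdeal, Ideal.map_map, ← IsScalarTower.algebraMap_eq]

theorem depth_fib' :
    letI := Localization.AtPrime.algebraOfLiesOver (Q.comap (algebraMap A B)) Q
    LocCoh.idealDepth (maximalIdeal (Localization.AtPrime Q))
      (EGA4.FibMod (Localization.AtPrime (Q.comap (algebraMap A B))) (Localization.AtPrime Q)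
        (LocalizedModule Q.primeCompl F)) =
    LocCoh.idealDepth (Q.map (algebraMap B (EGA4.FibLocRing A B Q))) (EGA4.FibLocMod A B Q F) := by
  letI := Localization.AtPrime.algebraOfLiesOver (Q.comap (algebraMap A B)) Q
  haveI : IsNoetherianRing (Localization.AtPrime Q) :=
    IsLocalization.isNoetherianRing Q.primeCompl _ inferInstance
  haveI : Module.Finite (Localization.AtPrime Q) (LocalizedModule Q.primeCompl F) :=
    Module.Finite.of_isLocalizedModule Q.primeCompl (LocalizedModule.mkLinearMap Q.primeCompl F)
  haveI : IsLocalHom (algebraMap (Localization.AtPrime Q) (EGA4.FibLocRing A B Q)) :=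
    IsLocalHom.of_surjective _ Ideal.Quotient.mk_surjective
  rw [map_eq_maximalIdeal A B Q, Groth.Agent.Helper2.DepthCM.idealDepth_congr _ (fibEquiv' A B F Q)]
  exact Groth.Agent.Helper2.RegCM.depth_eq_of_isLocalHom (Localization.AtPrime Q)
    (EGA4.FibLocRing A B Q) (EGA4.FibLocMod A B Q F)

end FibDepth

section Local
variable (A B : Type u) [CommRing A] [CommRing B] [IsNoetherianRing A] [IsNoetherianRing B]
  [Algebra A B]
  {F E0 E1 G : Type u} [AddCommGroup F] [Module B F] [Module A F] [IsScalarTower A B F]
  [Module.Finite B F]
  [AddCommGroup E0] [Module B E0] [Module A E0] [IsScalarTower A B E0] [Module.Finite B E0]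
  [Module.Flat A E0]
  [AddCommGroup E1] [Module B E1] [Module A E1] [IsScalarTower A B E1] [Module.Finite B E1]
  [Module.Flat A E1]
  [AddCommGroup G] [Module B G] [Module A G] [IsScalarTower A B G] [Module.Finite B G]
  (f : F →ₗ[B] E0) (u : E0 →ₗ[B] E1) (v : E1 →ₗ[B] G)
  (hf : Function.Injective f) (hfu : Function.Exact f u) (huv : Function.Exact u v)
  (hv : Function.Surjective v) (q : Ideal B) [q.IsPrime]

include hf hfu huv hv

/-- `G` flat at `q` ⇒ the fibre of `F` at `q` has depth `≥ 2`. -/
theorem fibdepth_of_flatAt (hG : Module.Flat A (LocalizedModule q.primeCompl G))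
    (h0 : 2 ≤ LocCoh.idealDepth (q.map (algebraMap B (EGA4.FibLocRing A B q)))
      (EGA4.FibLocMod A B q E0))
    (h1 : 1 ≤ LocCoh.idealDepth (q.map (algebraMap B (EGA4.FibLocRing A B q)))
      (EGA4.FibLocMod A B q E1)) :
    2 ≤ LocCoh.idealDepth (q.map (algebraMap B (EGA4.FibLocRing A B q)))
      (EGA4.FibLocMod A B q F) := by
  letI := Localization.AtPrime.algebraOfLiesOver (q.comap (algebraMap A B)) q
  haveI : IsLocalHom (algebraMap (Localization.AtPrime (q.comap (algebraMap A B)))
      (Localization.AtPrime q)) :=
    Localization.isLocalHom_localRingHom _ _ _ Ideal.LiesOver.over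
  haveI : IsNoetherianRing (Localization.AtPrime q) :=
    IsLocalization.isNoetherianRing q.primeCompl _ inferInstance
  haveI : IsNoetherianRing (Localization.AtPrime (q.comap (algebraMap A B))) :=
    IsLocalization.isNoetherianRing (q.comap (algebraMap A B)).primeCompl _ inferInstance
  letI iF := modA' A B F q
  haveI := tower2 A B F q
  letI iE0 := modA' A B E0 q
  haveI := tower2 A B E0 q
  haveI := flat_loc A B E0 q
  letI iE1 := modA' A B E1 q
  haveI := tower2 A B E1 q
  haveI := flat_loc A B E1 q
  letI iG := modA' A B G q
  haveI := tower2 A B G q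
  haveI := tower3 A B G q
  haveI : Module.Finite (Localization.AtPrime q) (LocalizedModule q.primeCompl F) :=
    Module.Finite.of_isLocalizedModule q.primeCompl (LocalizedModule.mkLinearMap q.primeCompl F)
  haveI : Module.Finite (Localization.AtPrime q) (LocalizedModule q.primeCompl E0) :=
    Module.Finite.of_isLocalizedModule q.primeCompl (LocalizedModule.mkLinearMap q.primeCompl E0)
  haveI : Module.Finite (Localization.AtPrime q) (LocalizedModule q.primeCompl E1) :=
    Module.Finite.of_isLocalizedModule q.primeCompl (LocalizedModule.mkLinearMap q.primeCompl E1)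
  haveI : Module.Finite (Localization.AtPrime q) (LocalizedModule q.primeCompl G) :=
    Module.Finite.of_isLocalizedModule q.primeCompl (LocalizedModule.mkLinearMap q.primeCompl G)
  haveI : Module.Flat (Localization.AtPrime (q.comap (algebraMap A B)))
      (LocalizedModule q.primeCompl G) :=
    (Module.flat_iff_of_isLocalization (Localization.AtPrime (q.comap (algebraMap A B)))
      (q.comap (algebraMap A B)).primeCompl (LocalizedModule q.primeCompl G)).2 hG
  rw [← depth_fib' A B F q]
  rw [← depth_fib' A B E0 q] at h0
  rw [← depth_fib' A B E1 q] at h1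
  exact Groth.Agent.Helper2.FourTerm.depth_fib_of_flat
    (A := Localization.AtPrime (q.comap (algebraMap A B))) (B := Localization.AtPrime q)
    (maximalIdeal (Localization.AtPrime q))
    (LocalizedModule.map q.primeCompl f) (LocalizedModule.map q.primeCompl u)
    (LocalizedModule.map q.primeCompl v)
    (LocalizedModule.map_injective q.primeCompl f hf)
    (fun y => LocalizedModule.map_exact q.primeCompl f u hfu y)
    (fun y => LocalizedModule.map_exact q.primeCompl u v huv y)
    (LocalizedModule.map_surjective q.primeCompl v hv) h0 h1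

/-- `G` flat at all proper generizations of `q` and fibre depth of `F` at `q` at least `2` ⇒ `G`
flat at `q`. -/
theorem flatAt_of_fibdepth
    (hGU : ∀ (q' : Ideal B) [q'.IsPrime], q' < q →
      Module.Flat A (LocalizedModule q'.primeCompl G))
    (h0 : 1 ≤ LocCoh.idealDepth (q.map (algebraMap B (EGA4.FibLocRing A B q)))
      (EGA4.FibLocMod A B q E0))
    (h2 : 2 ≤ LocCoh.idealDepth (q.map (algebraMap B (EGA4.FibLocRing A B q)))
      (EGA4.FibLocMod A B q F)) :
    Module.Flat A (LocalizedModule q.primeCompl G) := by
  letI := Localization.AtPrime.algebraOfLiesOver (q.comap (algebraMap A B)) q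
  haveI : IsLocalHom (algebraMap (Localization.AtPrime (q.comap (algebraMap A B)))
      (Localization.AtPrime q)) :=
    Localization.isLocalHom_localRingHom _ _ _ Ideal.LiesOver.over
  haveI : IsNoetherianRing (Localization.AtPrime q) :=
    IsLocalization.isNoetherianRing q.primeCompl _ inferInstance
  haveI : IsNoetherianRing (Localization.AtPrime (q.comap (algebraMap A B))) :=
    IsLocalization.isNoetherianRing (q.comap (algebraMap A B)).primeCompl _ inferInstance
  letI iF := modA' A B F q
  haveI := tower2 A B F q
  letI iE0 := modA' A B E0 q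
  haveI := tower2 A B E0 q
  haveI := flat_loc A B E0 q
  letI iE1 := modA' A B E1 q
  haveI := tower2 A B E1 q
  haveI := flat_loc A B E1 q
  letI iG := modA' A B G q
  haveI := tower2 A B G q
  haveI := tower3 A B G q
  haveI : Module.Finite (Localization.AtPrime q) (LocalizedModule q.primeCompl F) :=
    Module.Finite.of_isLocalizedModule q.primeCompl (LocalizedModule.mkLinearMap q.primeCompl F)
  haveI : Module.Finite (Localization.AtPrime q) (LocalizedModule q.primeCompl E0) :=
    Module.Finite.of_isLocalizedModule q.primeCompl (LocalizedModule.mkLinearMap q.primeCompl E0)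
  haveI : Module.Finite (Localization.AtPrime q) (LocalizedModule q.primeCompl E1) :=
    Module.Finite.of_isLocalizedModule q.primeCompl (LocalizedModule.mkLinearMap q.primeCompl E1)
  haveI : Module.Finite (Localization.AtPrime q) (LocalizedModule q.primeCompl G) :=
    Module.Finite.of_isLocalizedModule q.primeCompl (LocalizedModule.mkLinearMap q.primeCompl G)
  rw [← depth_fib' A B F q] at h2
  rw [← depth_fib' A B E0 q] at h0
  have hGU' : ∀ q'' : PrimeSpectrum (Localization.AtPrime q),
      ¬ maximalIdeal (Localization.AtPrime q) ≤ q''.asIdeal →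
      FlatCA.FlatAt (Localization.AtPrime (q.comap (algebraMap A B))) q''.asIdeal
        (LocalizedModule q.primeCompl G) := by
    intro q'' hq''
    unfold FlatCA.FlatAt
    have hle : q''.asIdeal.comap (algebraMap B (Localization.AtPrime q)) ≤ q := by
      have h1 : q''.asIdeal ≤ maximalIdeal (Localization.AtPrime q) := le_maximalIdeal q''.2.ne_top
      have h2 := Ideal.comap_mono (f := algebraMap B (Localization.AtPrime q)) h1
      have h3 : Ideal.comap (algebraMap B (Localization.AtPrime q))
          (maximalIdeal (Localization.AtPrime q)) = q :=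
        IsLocalization.AtPrime.under_maximalIdeal (Localization.AtPrime q) q
      rwa [h3] at h2
    have hne : q''.asIdeal.comap (algebraMap B (Localization.AtPrime q)) ≠ q := by
      intro heq
      apply hq''
      have h5 := IsLocalization.map_comap q.primeCompl (Localization.AtPrime q) q''.asIdeal
      rw [← h5]
      show _ ≤ Ideal.map _ (q''.asIdeal.comap (algebraMap B (Localization.AtPrime q)))
      rw [heq, Localization.AtPrime.map_eq_maximalIdeal]
    have h1 := hGU _ (lt_of_le_of_ne hle hne)
    have h3 := flat_locloc A G q q''.asIdeal h1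
    exact (Module.flat_iff_of_isLocalization (Localization.AtPrime (q.comap (algebraMap A B)))
      (q.comap (algebraMap A B)).primeCompl
      (LocalizedModule q''.asIdeal.primeCompl (LocalizedModule q.primeCompl G))).2 h3
  have hfl := Groth.Agent.Helper2.FourTerm.flat_of_depth_fib
    (A := Localization.AtPrime (q.comap (algebraMap A B))) (B := Localization.AtPrime q)
    (maximalIdeal (Localization.AtPrime q))
    (LocalizedModule.map q.primeCompl f) (LocalizedModule.map q.primeCompl u)
    (LocalizedModule.map q.primeCompl v)
    (LocalizedModule.map_injective q.primeCompl f hf)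
    (fun y => LocalizedModule.map_exact q.primeCompl f u hfu y)
    (fun y => LocalizedModule.map_exact q.primeCompl u v huv y)
    (LocalizedModule.map_surjective q.primeCompl v hv) hGU' h0 h2
  exact (Module.flat_iff_of_isLocalization (Localization.AtPrime (q.comap (algebraMap A B)))
      (q.comap (algebraMap A B)).primeCompl (LocalizedModule q.primeCompl G)).1 hfl

end Local

end Groth.Agent.Helper2.ZV
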