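import Mathlib
import Groth.Prelude
import Groth.Agent.Helper2.ZV1

set_option autoImplicit false
set_option linter.style.haveILetI false
set_option linter.unusedSectionVars false
universe u
open TensorProduct IsLocalRing

/-! Global flatness of the cokernel of a four-term sequence from fibre depth of the kernel. -/

namespace Groth.Agent.Helper2.GFlat

section Main
variable (A B : Type u) [CommRing A] [CommRing B] [IsNoetherianRing A] [IsNoetherianRing B]
  [Algebra A B] (J : Ideal B)
  {F E0 E1 G : Type u} [AddCommGroup F] [Module B F] [Module A F] [IsScalarTower A B F]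
  [Module.Finite B F]
  [AddCommGroup E0] [Module B E0] [Module A E0] [IsScalarTower A B E0] [Module.Finite B E0]
  [Module.Flat A E0]
  [AddCommGroup E1] [Module B E1] [Module A E1] [IsScalarTower A B E1] [Module.Finite B E1]
  [Module.Flat A E1]
  [AddCommGroup G] [Module B G] [Module A G] [IsScalarTower A B G] [Module.Finite B G]
  (f : F →ₗ[B] E0) (u : E0 →ₗ[B] E1) (v : E1 →ₗ[B] G)

theorem flatAt_all
    (hf : Function.Injective f) (hfu : Function.Exact f u) (huv : Function.Exact u v)
    (hv : Function.Surjective v)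
    (hGU : ∀ q : PrimeSpectrum B, ¬ J ≤ q.asIdeal → FlatCA.FlatAt A q.asIdeal G)
    (h0 : ∀ q : PrimeSpectrum B, J ≤ q.asIdeal →
      1 ≤ LocCoh.idealDepth (q.asIdeal.map (algebraMap B (EGA4.FibLocRing A B q.asIdeal)))
        (EGA4.FibLocMod A B q.asIdeal E0))
    (h2 : ∀ q : PrimeSpectrum B, J ≤ q.asIdeal →
      2 ≤ LocCoh.idealDepth (q.asIdeal.map (algebraMap B (EGA4.FibLocRing A B q.asIdeal)))
        (EGA4.FibLocMod A B q.asIdeal F))
    (n : PrimeSpectrum B) : Module.Flat A (LocalizedModule n.asIdeal.primeCompl G) := by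
  have key : ∀ k : ℕ, ∀ q : PrimeSpectrum B, q.asIdeal.height < (k : ℕ∞) →
      Module.Flat A (LocalizedModule q.asIdeal.primeCompl G) := by
    intro k
    induction k with
    | zero =>
      intro q hq
      exact absurd hq (by simp)
    | succ k ih =>
      intro q hq
      by_cases hJ : J ≤ q.asIdeal
      · have hqk : q.asIdeal.height ≤ (k : ℕ∞) := by
          rw [Nat.cast_add, Nat.cast_one] at hq
          exact (ENat.lt_add_one_iff (ENat.coe_ne_top k)).1 hq
        refine Groth.Agent.Helper2.ZV.flatAt_of_fibdepth A B f u v hf hfu huv hv q.asIdeal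
          (fun q' _ hlt => ?_) (h0 q hJ) (h2 q hJ)
        refine ih ⟨q', inferInstance⟩ ?_
        exact lt_of_lt_of_le (Ideal.height_strict_mono_of_isPrime_of_isPrime hlt) hqk
      · exact hGU q hJ
  obtain ⟨m, hm⟩ := ENat.ne_top_iff_exists.1 (Ideal.height_ne_top n.2.ne_top)
  refine key (m + 1) n ?_
  rw [← hm]
  exact_mod_cast Nat.lt_succ_self m

theorem flat_G
    (hf : Function.Injective f) (hfu : Function.Exact f u) (huv : Function.Exact u v)
    (hv : Function.Surjective v)
    (hGU : ∀ q : PrimeSpectrum B, ¬ J ≤ q.asIdeal → FlatCA.FlatAt A q.asIdeal G)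
    (h0 : ∀ q : PrimeSpectrum B, J ≤ q.asIdeal →
      1 ≤ LocCoh.idealDepth (q.asIdeal.map (algebraMap B (EGA4.FibLocRing A B q.asIdeal)))
        (EGA4.FibLocMod A B q.asIdeal E0))
    (h2 : ∀ q : PrimeSpectrum B, J ≤ q.asIdeal →
      2 ≤ LocCoh.idealDepth (q.asIdeal.map (algebraMap B (EGA4.FibLocRing A B q.asIdeal)))
        (EGA4.FibLocMod A B q.asIdeal F)) : Module.Flat A G := by
  refine Module.flat_of_isLocalized_maximal B G
    (fun P _ => LocalizedModule P.primeCompl G)
    (fun P _ => LocalizedModule.mkLinearMap P.primeCompl G) ?_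
  intro P hP
  exact flatAt_all A B J f u v hf hfu huv hv hGU h0 h2 ⟨P, hP.isPrime⟩

end Main

end Groth.Agent.Helper2.GFlat
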