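import Mathlib
import Groth.Prelude.Def_VecGrp
import Groth.Prelude.Def_HopfRep

set_option autoImplicit false
universe u
open scoped TensorProduct
open WithConv

namespace Groth.Agent.Helper2.GMC

variable {R : Type u} [CommRing R] {A : Type u} [CommRing A] [HopfAlgebra R A]
variable {E : Type u} [AddCommGroup E] [Module R E]

/-- twist by an algebra map: `E ⊗ A → B ⊗ E`, `x ⊗ a ↦ f a ⊗ x`. -/
noncomputable def tw {B : Type u} [CommRing B] [Algebra R B] (f : A →ₐ[R] B) :
    E ⊗[R] A →ₗ[R] B ⊗[R] E :=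
  (TensorProduct.comm R E B).toLinearMap ∘ₗ LinearMap.lTensor E f.toLinearMap

@[simp] theorem tw_tmul {B : Type u} [CommRing B] [Algebra R B] (f : A →ₐ[R] B) (x : E) (a : A) :
    tw (E := E) f (x ⊗ₜ[R] a) = f a ⊗ₜ[R] x := by
  simp [tw]

/-- the action attached to `δ` and the point `f`. -/
noncomputable def act (δ : E →ₗ[R] E ⊗[R] A) {B : Type u} [CommRing B] [Algebra R B]
    (f : A →ₐ[R] B) : B ⊗[R] E →ₗ[B] B ⊗[R] E :=
  LinearMap.liftBaseChange B (tw f ∘ₗ δ)

@[simp] theorem act_tmul (δ : E →ₗ[R] E ⊗[R] A) {B : Type u} [CommRing B] [Algebra R B]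
    (f : A →ₐ[R] B) (b : B) (x : E) :
    act δ f (b ⊗ₜ[R] x) = b • tw f (δ x) := by
  simp [act]

theorem act_ext {B : Type u} [CommRing B] [Algebra R B] {φ ψ : B ⊗[R] E →ₗ[B] B ⊗[R] E}
    (h : ∀ x : E, φ (1 ⊗ₜ[R] x) = ψ (1 ⊗ₜ[R] x)) : φ = ψ := by
  apply LinearMap.ext
  intro y
  induction y using TensorProduct.induction_on with
  | zero => simp
  | tmul b x =>
    have : b ⊗ₜ[R] x = b • ((1 : B) ⊗ₜ[R] x) := by simp [TensorProduct.smul_tmul']
    rw [this, map_smul, map_smul, h]
  | add y z hy hz => rw [map_add, map_add, hy, hz]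

theorem act_tw (δ : E →ₗ[R] E ⊗[R] A) {B : Type u} [CommRing B] [Algebra R B]
    (f g : A →ₐ[R] B) (y : E ⊗[R] A) :
    act δ f (tw g y) =
      tw (Algebra.TensorProduct.lift f g (fun _ _ => Commute.all _ _))
        ((TensorProduct.assoc R E A A) (δ.rTensor A y)) := by
  induction y using TensorProduct.induction_on with
  | zero => simp
  | tmul x a =>
    simp only [tw_tmul, act_tmul, LinearMap.rTensor_tmul]
    generalize δ x = z
    induction z using TensorProduct.induction_on with
    | zero => simp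
    | tmul x' a' =>
      simp [TensorProduct.smul_tmul', mul_comm]
    | add z w hz hw =>
      simp only [map_add, smul_add, TensorProduct.add_tmul, hz, hw]
  | add y z hy hz => simp only [map_add, hy, hz]

theorem tw_lTensor_comul {B : Type u} [CommRing B] [Algebra R B]
    (f g : WithConv (A →ₐ[R] B)) (y : E ⊗[R] A) :
    tw (f * g).ofConv y =
      tw (Algebra.TensorProduct.lift f.ofConv g.ofConv (fun _ _ => Commute.all _ _))
        ((CoalgebraStruct.comul (R := R) (A := A)).lTensor E y) := by
  induction y using TensorProduct.induction_on with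
  | zero => simp
  | tmul x a =>
    simp only [tw_tmul, LinearMap.lTensor_tmul]
    congr 1
    exact AlgHom.convMul_apply f g a
  | add y z hy hz => simp only [map_add, hy, hz]

theorem act_mul (δ : E →ₗ[R] E ⊗[R] A)
    (hδ : (TensorProduct.assoc R E A A).toLinearMap ∘ₗ δ.rTensor A ∘ₗ δ =
            (CoalgebraStruct.comul (R := R) (A := A)).lTensor E ∘ₗ δ)
    {B : Type u} [CommRing B] [Algebra R B] (f g : WithConv (A →ₐ[R] B)) :
    act δ (f * g).ofConv = act δ f.ofConv ∘ₗ act δ g.ofConv := by
  apply act_ext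
  intro x
  simp only [act_tmul, one_smul, LinearMap.comp_apply]
  rw [act_tw, tw_lTensor_comul]
  congr 1
  exact (LinearMap.congr_fun hδ x).symm

theorem act_one (δ : E →ₗ[R] E ⊗[R] A)
    (hδ : (CoalgebraStruct.counit (R := R) (A := A)).lTensor E ∘ₗ δ = (TensorProduct.mk R E R).flip 1)
    {B : Type u} [CommRing B] [Algebra R B] :
    act δ (1 : WithConv (A →ₐ[R] B)).ofConv = LinearMap.id := by
  apply act_ext
  intro x
  simp only [act_tmul, one_smul, LinearMap.id_apply]
  have key : ∀ y : E ⊗[R] A, tw (1 : WithConv (A →ₐ[R] B)).ofConv y =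
      (TensorProduct.comm R E B) (LinearMap.lTensor E (Algebra.linearMap R B)
        ((CoalgebraStruct.counit (R := R) (A := A)).lTensor E y)) := by
    intro y
    induction y using TensorProduct.induction_on with
    | zero => simp
    | tmul x a => simp [AlgHom.convOne_def]
    | add y z hy hz => simp only [map_add, hy, hz]
  rw [key]
  have := LinearMap.congr_fun hδ x
  simp only [LinearMap.comp_apply] at this
  rw [this]
  simp

theorem Wmap_tw {B B' : Type u} [CommRing B] [Algebra R B] [CommRing B'] [Algebra R B']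
    (φ : B →ₐ[R] B') (f : A →ₐ[R] B) (y : E ⊗[R] A) :
    VecGrp.Wmap (M := E) φ (tw f y) = tw (φ.comp f) y := by
  induction y using TensorProduct.induction_on with
  | zero => simp
  | tmul x a => simp
  | add y z hy hz => simp only [map_add, hy, hz]

theorem Wmap_act (δ : E →ₗ[R] E ⊗[R] A)
    {B B' : Type u} [CommRing B] [Algebra R B] [CommRing B'] [Algebra R B']
    (φ : B →ₐ[R] B') (f : A →ₐ[R] B) (y : B ⊗[R] E) :
    VecGrp.Wmap (M := E) φ (act δ f y) = act δ (φ.comp f) (VecGrp.Wmap (M := E) φ y) := by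
  induction y using TensorProduct.induction_on with
  | zero => simp
  | tmul b x =>
    simp only [act_tmul, VecGrp.Wmap_tmul, VecGrp.Wmap_smul, Wmap_tw]
  | add y z hy hz => simp only [map_add, hy, hz]

/-- the monoid hom into endomorphisms. -/
noncomputable def actHom (δ : E →ₗ[R] E ⊗[R] A)
    (h1 : (TensorProduct.assoc R E A A).toLinearMap ∘ₗ δ.rTensor A ∘ₗ δ =
            (CoalgebraStruct.comul (R := R) (A := A)).lTensor E ∘ₗ δ)
    (h2 : (CoalgebraStruct.counit (R := R) (A := A)).lTensor E ∘ₗ δ = (TensorProduct.mk R E R).flip 1)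
    (B : Type u) [CommRing B] [Algebra R B] :
    WithConv (A →ₐ[R] B) →* Module.End B (B ⊗[R] E) where
  toFun f := act δ f.ofConv
  map_one' := act_one δ h2
  map_mul' f g := act_mul δ h1 f g

end Groth.Agent.Helper2.GMC
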