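import Groth.Agent.Helper2.GMC1

set_option autoImplicit false
universe u
open CategoryTheory MonObj GrpObj AlgebraicGeometry
open scoped TensorProduct
open WithConv

namespace Groth.Agent.Helper2.GMC

variable {R : Type u} [CommRing R] {A : Type u} [CommRing A] [HopfAlgebra R A]
variable {E : Type u} [AddCommGroup E] [Module R E]

variable (R A) in
noncomputable abbrev GA : Over (Spec (CommRingCat.of R)) :=
  (Spec (CommRingCat.of A)).asOver (Spec (CommRingCat.of R))

/-- the algebra map of a point. -/
noncomputable def algOf {B : Type u} [CommRing B] [Algebra R B] (g : VecGrp.pt R B ⟶ GA R A) :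
    A →ₐ[R] B := (Spec.mapMulEquiv.symm g).ofConv

theorem algOf_mul {B : Type u} [CommRing B] [Algebra R B] (g h : VecGrp.pt R B ⟶ GA R A) :
    toConv (algOf (g * h)) = toConv (algOf g) * toConv (algOf h) := by
  simp only [algOf, toConv_ofConv]
  exact map_mul Spec.mapMulEquiv.symm g h

theorem algOf_one {B : Type u} [CommRing B] [Algebra R B] :
    toConv (algOf (1 : VecGrp.pt R B ⟶ GA R A)) = 1 := by
  simp only [algOf, toConv_ofConv]
  exact map_one Spec.mapMulEquiv.symm

theorem left_eq {B : Type u} [CommRing B] [Algebra R B] (g : VecGrp.pt R B ⟶ GA R A) :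
    g.left = Spec.map (CommRingCat.ofHom (algOf g).toRingHom) := by
  have := Spec.mapMulEquiv.apply_symm_apply g
  conv_lhs => rw [← this]
  rfl

theorem algOf_ptMap {B B' : Type u} [CommRing B] [Algebra R B] [CommRing B'] [Algebra R B']
    (φ : B →ₐ[R] B') (g : VecGrp.pt R B ⟶ GA R A) :
    algOf (VecGrp.ptMap φ ≫ g) = φ.comp (algOf g) := by
  have h1 : Spec.map (CommRingCat.ofHom (algOf (VecGrp.ptMap φ ≫ g)).toRingHom) =
      Spec.map (CommRingCat.ofHom (φ.toRingHom.comp (algOf g).toRingHom)) := by
    rw [← LieS.specMap_comp, ← left_eq g, ← left_eq]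
    rfl
  have h2 := Spec.map_injective h1
  have h3 := congrArg CommRingCat.Hom.hom h2
  simp only [CommRingCat.hom_ofHom] at h3
  apply AlgHom.coe_ringHom_injective
  exact h3


/-- the `G`-module attached to a comodule structure. -/
noncomputable def gmodOf (δ : E →ₗ[R] E ⊗[R] A)
    (h1 : (TensorProduct.assoc R E A A).toLinearMap ∘ₗ δ.rTensor A ∘ₗ δ =
            (CoalgebraStruct.comul (R := R) (A := A)).lTensor E ∘ₗ δ)
    (h2 : (CoalgebraStruct.counit (R := R) (A := A)).lTensor E ∘ₗ δ = (TensorProduct.mk R E R).flip 1) :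
    VecGrp.GMod (GA R A) E where
  ρ B _ _ := (LinearMap.GeneralLinearGroup.generalLinearEquiv B (B ⊗[R] E)).toMonoidHom.comp
    (MonoidHom.toHomUnits
      { toFun := fun g => act δ (algOf g)
        map_one' := by
          have := (actHom δ h1 h2 B).map_one
          rw [← algOf_one (R := R) (A := A) (B := B)] at this
          exact this
        map_mul' := fun g h => by
          have := (actHom δ h1 h2 B).map_mul (toConv (algOf g)) (toConv (algOf h))
          rw [← algOf_mul] at this
          exact this })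
  naturality φ g x := by
    change VecGrp.Wmap φ (act δ (algOf g) x) = act δ (algOf (VecGrp.ptMap φ ≫ g)) (VecGrp.Wmap φ x)
    rw [algOf_ptMap, Wmap_act]

theorem gmodOf_ρ (δ : E →ₗ[R] E ⊗[R] A)
    (h1 : (TensorProduct.assoc R E A A).toLinearMap ∘ₗ δ.rTensor A ∘ₗ δ =
            (CoalgebraStruct.comul (R := R) (A := A)).lTensor E ∘ₗ δ)
    (h2 : (CoalgebraStruct.counit (R := R) (A := A)).lTensor E ∘ₗ δ = (TensorProduct.mk R E R).flip 1)
    (B : Type u) [CommRing B] [Algebra R B] (g : VecGrp.pt R B ⟶ GA R A) (y : B ⊗[R] E) :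
    (gmodOf δ h1 h2).ρ B g y = act δ (algOf g) y := rfl

theorem gmod_ext {m m' : VecGrp.GMod (GA R A) E}
    (h : ∀ (B : Type u) [CommRing B] [Algebra R B] (g : VecGrp.pt R B ⟶ GA R A) (x : E),
      m.ρ B g ((1 : B) ⊗ₜ[R] x) = m'.ρ B g ((1 : B) ⊗ₜ[R] x)) : m = m' := by
  cases m with
  | mk ρ nat =>
    cases m' with
    | mk ρ' nat' =>
      congr
      funext B _ _
      apply MonoidHom.ext
      intro g
      apply LinearEquiv.toLinearMap_injective
      apply act_ext
      intro x
      exact h B g x

end Groth.Agent.Helper2.GMC
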