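import Groth.Agent.Helper2.GMC2

set_option autoImplicit false
universe u
open CategoryTheory MonObj GrpObj AlgebraicGeometry
open scoped TensorProduct
open WithConv

namespace Groth.Agent.Helper2.GMC

variable {R : Type u} [CommRing R] {A : Type u} [CommRing A] [HopfAlgebra R A]
variable {E : Type u} [AddCommGroup E] [Module R E]

variable (R A) in
/-- the universal point. -/
noncomputable def gUniv : VecGrp.pt R A ⟶ GA R A :=
  Spec.mapMulEquiv (toConv (AlgHom.id R A))

theorem algOf_gUniv : algOf (gUniv R A) = AlgHom.id R A := by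
  simp [algOf, gUniv]

theorem algOf_injective {B : Type u} [CommRing B] [Algebra R B] :
    Function.Injective (algOf (R := R) (A := A) (B := B)) := by
  intro g h hgh
  have : Spec.mapMulEquiv.symm g = Spec.mapMulEquiv.symm h := WithConv.ofConv_injective hgh
  exact Spec.mapMulEquiv.symm.injective this

theorem eq_ptMap_gUniv {B : Type u} [CommRing B] [Algebra R B] (g : VecGrp.pt R B ⟶ GA R A) :
    g = VecGrp.ptMap (algOf g) ≫ gUniv R A := by
  apply algOf_injective
  rw [algOf_ptMap, algOf_gUniv, AlgHom.comp_id]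

theorem tw_id_injective : Function.Injective (tw (E := E) (AlgHom.id R A)) := by
  have : (tw (E := E) (AlgHom.id R A)) = (TensorProduct.comm R E A).toLinearMap := by
    apply TensorProduct.ext'
    intro x a
    simp
  rw [this]
  exact (TensorProduct.comm R E A).injective

/-- the coaction attached to a `G`-module structure. -/
noncomputable def coactOf (m : VecGrp.GMod (GA R A) E) : E →ₗ[R] E ⊗[R] A :=
  (TensorProduct.comm R E A).symm.toLinearMap ∘ₗ
    ((m.ρ A (gUniv R A)).toLinearMap.restrictScalars R) ∘ₗ (TensorProduct.mk R A E 1)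

theorem tw_coactOf (m : VecGrp.GMod (GA R A) E) (x : E) :
    tw (AlgHom.id R A) (coactOf m x) = m.ρ A (gUniv R A) ((1 : A) ⊗ₜ[R] x) := by
  have : (tw (E := E) (AlgHom.id R A)) = (TensorProduct.comm R E A).toLinearMap := by
    apply TensorProduct.ext'
    intro x a
    simp
  rw [this]
  simp [coactOf]

theorem formula (m : VecGrp.GMod (GA R A) E) (B : Type u) [CommRing B] [Algebra R B]
    (g : VecGrp.pt R B ⟶ GA R A) (x : E) :
    m.ρ B g ((1 : B) ⊗ₜ[R] x) = tw (algOf g) (coactOf m x) := by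
  have h := m.naturality (algOf g) (gUniv R A) ((1 : A) ⊗ₜ[R] x)
  rw [← eq_ptMap_gUniv g, ← tw_coactOf, Wmap_tw, AlgHom.comp_id, VecGrp.Wmap_tmul, map_one] at h
  exact h.symm

theorem ρ_eq_act (m : VecGrp.GMod (GA R A) E) (δ : E →ₗ[R] E ⊗[R] A)
    (hδ : ∀ (B : Type u) [CommRing B] [Algebra R B] (g : VecGrp.pt R B ⟶ GA R A) (x : E),
      m.ρ B g ((1 : B) ⊗ₜ[R] x) = tw (algOf g) (δ x))
    (B : Type u) [CommRing B] [Algebra R B]
    (g : VecGrp.pt R B ⟶ GA R A) : (m.ρ B g).toLinearMap = act δ (algOf g) := by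
  apply act_ext
  intro x
  simp only [LinearEquiv.coe_coe, act_tmul, one_smul]
  exact hδ B g x

theorem coassoc_of (m : VecGrp.GMod (GA R A) E) (δ : E →ₗ[R] E ⊗[R] A)
    (hδ : ∀ (B : Type u) [CommRing B] [Algebra R B] (g : VecGrp.pt R B ⟶ GA R A) (x : E),
      m.ρ B g ((1 : B) ⊗ₜ[R] x) = tw (algOf g) (δ x)) :
    (TensorProduct.assoc R E A A).toLinearMap ∘ₗ δ.rTensor A ∘ₗ δ =
            (CoalgebraStruct.comul (R := R) (A := A)).lTensor E ∘ₗ δ := by
  apply LinearMap.ext
  intro x
  simp only [LinearMap.comp_apply, LinearEquiv.coe_coe]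
  let il : A →ₐ[R] A ⊗[R] A := Algebra.TensorProduct.includeLeft
  let ir : A →ₐ[R] A ⊗[R] A := Algebra.TensorProduct.includeRight
  let gl : VecGrp.pt R (A ⊗[R] A) ⟶ GA R A := Spec.mapMulEquiv (toConv il)
  let gr : VecGrp.pt R (A ⊗[R] A) ⟶ GA R A := Spec.mapMulEquiv (toConv ir)
  have hl : algOf gl = il := by simp [algOf, gl]
  have hr : algOf gr = ir := by simp [algOf, gr]
  have hmul := m.ρ (A ⊗[R] A) |>.map_mul gl gr
  have h1 := congrArg (fun e => e ((1 : A ⊗[R] A) ⊗ₜ[R] x)) hmul
  simp only [LinearEquiv.mul_apply] at h1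
  rw [hδ, hδ _ gr] at h1
  have h2 := LinearMap.congr_fun (ρ_eq_act m δ hδ (A ⊗[R] A) gl) (tw (algOf gr) (δ x))
  simp only [LinearEquiv.coe_coe] at h2
  rw [h2, act_tw] at h1
  have h3 : algOf (gl * gr) = (toConv il * toConv ir).ofConv := by
    have := algOf_mul gl gr
    rw [hl, hr] at this
    rw [← this]
  rw [h3, tw_lTensor_comul, hl, hr] at h1
  have hid : Algebra.TensorProduct.lift (toConv il).ofConv (toConv ir).ofConv
      (fun _ _ => Commute.all _ _) = AlgHom.id R (A ⊗[R] A) := by
    apply Algebra.TensorProduct.ext'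
    intro a b
    simp [il, ir]
  have hid' : Algebra.TensorProduct.lift il ir
      (fun _ _ => Commute.all _ _) = AlgHom.id R (A ⊗[R] A) := hid
  rw [hid] at h1
  have hinj : Function.Injective (tw (E := E) (AlgHom.id R (A ⊗[R] A))) := by
    have : (tw (E := E) (AlgHom.id R (A ⊗[R] A))) =
        (TensorProduct.comm R E (A ⊗[R] A)).toLinearMap := by
      apply TensorProduct.ext'
      intro x a
      simp
    rw [this]
    exact (TensorProduct.comm R E (A ⊗[R] A)).injective
  exact (hinj h1).symm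

theorem counit_of (m : VecGrp.GMod (GA R A) E) (δ : E →ₗ[R] E ⊗[R] A)
    (hδ : ∀ (B : Type u) [CommRing B] [Algebra R B] (g : VecGrp.pt R B ⟶ GA R A) (x : E),
      m.ρ B g ((1 : B) ⊗ₜ[R] x) = tw (algOf g) (δ x)) :
    (CoalgebraStruct.counit (R := R) (A := A)).lTensor E ∘ₗ δ = (TensorProduct.mk R E R).flip 1 := by
  apply LinearMap.ext
  intro x
  simp only [LinearMap.comp_apply, LinearMap.flip_apply, TensorProduct.mk_apply]
  have h1 := hδ R (1 : VecGrp.pt R R ⟶ GA R A) x
  rw [map_one] at h1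
  change (1 : R) ⊗ₜ[R] x = _ at h1
  have h2 : algOf (1 : VecGrp.pt R R ⟶ GA R A) = (1 : WithConv (A →ₐ[R] R)).ofConv := by
    rw [← algOf_one (R := R) (A := A) (B := R)]
  rw [h2] at h1
  have key : ∀ y : E ⊗[R] A, tw (1 : WithConv (A →ₐ[R] R)).ofConv y =
      (TensorProduct.comm R E R) ((CoalgebraStruct.counit (R := R) (A := A)).lTensor E y) := by
    intro y
    induction y using TensorProduct.induction_on with
    | zero => simp
    | tmul x a => simp [AlgHom.convOne_def]
    | add y z hy hz => simp only [map_add, hy, hz]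
  rw [key] at h1
  have h3 := congrArg (TensorProduct.comm R E R).symm h1
  simp only [LinearEquiv.symm_apply_apply] at h3
  rw [← h3]
  simp

end Groth.Agent.Helper2.GMC
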