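import Mathlib
import Groth.Prelude
import Groth.Agent.Helper4.Japanese
import Groth.Agent.Helper7.N1Loc2
import Groth.Agent.Helper7.NorOpen2
import Groth.Agent.Helper2.AnUnr7
import Groth.Agent.Helper2.NagFT10

set_option autoImplicit false
set_option linter.style.haveILetI false

namespace Groth.Agent.Helper2.NorNag

universe u

open TensorProduct IsLocalRing

/-- N-2 implies N-1 -/
theorem isN1_of_isN2 (D : Type u) [CommRing D] [IsDomain D] (h : CAlg.IsN2 D) : CAlg.IsN1 D :=
  Groth.Agent.Helper4.Japanese.IsN2.finite h (FractionRing D) (FractionRing D)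

/-- (L) localizations of `D` in which `f` becomes invertible are integrally closed domains as soon
as `D_f` is integrally closed. -/
theorem isIntegrallyClosed_of_away (D : Type u) [CommRing D] [IsDomain D] (f : D)
    (hf : IsIntegrallyClosed (Localization.Away f)) (M : Submonoid D) (hfM : f ∈ M)
    (hM : M ≤ nonZeroDivisors D) (T : Type u) [CommRing T] [Algebra D T] [IsLocalization M T] :
    IsDomain T ∧ IsIntegrallyClosed T := by
  have hle : Submonoid.powers f ≤ M := Submonoid.powers_le.mpr hfM
  haveI : IsDomain T := IsLocalization.isDomain_of_le_nonZeroDivisors T hM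
  refine ⟨inferInstance, ?_⟩
  haveI : IsDomain (Localization.Away f) :=
    IsLocalization.isDomain_of_le_nonZeroDivisors (Localization.Away f) (hle.trans hM)
  letI : Algebra (Localization.Away f) T :=
    IsLocalization.localizationAlgebraOfSubmonoidLe (Localization.Away f) T (Submonoid.powers f) M hle
  haveI : IsScalarTower D (Localization.Away f) T :=
    IsLocalization.localization_isScalarTower_of_submonoid_le (Localization.Away f) T
      (Submonoid.powers f) M hle
  haveI : IsLocalization (M.map (algebraMap D (Localization.Away f))) T :=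
    IsLocalization.isLocalization_of_submonoid_le (Localization.Away f) T (Submonoid.powers f) M hle
  refine isIntegrallyClosed_of_isLocalization T (M.map (algebraMap D (Localization.Away f))) ?_
  rintro _ ⟨m, hm, rfl⟩
  rw [mem_nonZeroDivisors_iff_ne_zero]
  intro h0
  have hinj : Function.Injective (algebraMap D (Localization.Away f)) :=
    IsLocalization.injective _ (hle.trans hM)
  have : m = 0 := hinj (by rw [h0, map_zero])
  exact nonZeroDivisors.ne_zero (hM hm) this

/-- the normal locus of a Nagata ring is open -/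
theorem isOpen_norLocus_of_isNagata (A : Type u) [CommRing A] (hA : CAlg.IsNagata A) :
    IsOpen (EGA4.norLocus A) := by
  classical
  haveI := hA.1
  rw [Groth.Agent.Helper7.NorOpen.isOpen_norLocus_iff]
  intro p hpmin hpnor
  haveI : p.asIdeal.IsPrime := p.2
  obtain ⟨hdom, -⟩ := hpnor
  haveI := hdom
  -- the maximal ideal of `A_p` is zero
  have hmax : p.asIdeal.map (algebraMap A (Localization.AtPrime p.asIdeal)) = ⊥ := by
    haveI : (⊥ : Ideal (Localization.AtPrime p.asIdeal)).IsPrime := Ideal.bot_prime
    set q := (⊥ : Ideal (Localization.AtPrime p.asIdeal)).comap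
      (algebraMap A (Localization.AtPrime p.asIdeal)) with hq
    haveI : q.IsPrime := Ideal.comap_isPrime _ _
    have hqp : q ≤ p.asIdeal := by
      rw [← IsLocalization.AtPrime.comap_maximalIdeal (Localization.AtPrime p.asIdeal) p.asIdeal]
      exact Ideal.comap_mono bot_le
    have hpq : p.asIdeal ≤ q := hpmin.2 ⟨inferInstance, bot_le⟩ hqp
    have heq : p.asIdeal = q := le_antisymm hpq hqp
    have h1 : q.map (algebraMap A (Localization.AtPrime p.asIdeal)) = ⊥ := by
      rw [hq, IsLocalization.map_comap p.asIdeal.primeCompl]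
    rw [← h1]
    exact congrArg (Ideal.map (algebraMap A (Localization.AtPrime p.asIdeal))) heq
  -- an element killing `p`
  have hkill : ∀ x ∈ p.asIdeal, ∃ m : p.asIdeal.primeCompl, (m : A) * x = 0 := by
    intro x hx
    have h0 : algebraMap A (Localization.AtPrime p.asIdeal) x = 0 := by
      have : algebraMap A (Localization.AtPrime p.asIdeal) x ∈
          p.asIdeal.map (algebraMap A (Localization.AtPrime p.asIdeal)) :=
        Ideal.mem_map_of_mem _ hx
      rwa [hmax, Ideal.mem_bot] at this
    exact (IsLocalization.map_eq_zero_iff p.asIdeal.primeCompl _ x).mp h0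
  obtain ⟨s, hs⟩ := (isNoetherianRing_iff_ideal_fg A).mp inferInstance p.asIdeal
  have hsp : ∀ x ∈ s, x ∈ p.asIdeal := fun x hx => hs ▸ Ideal.subset_span hx
  let gx : A → A := fun x => if hx : x ∈ p.asIdeal then ((hkill x hx).choose : A) else 1
  have hgx1 : ∀ x, gx x ∉ p.asIdeal := by
    intro x
    by_cases hx : x ∈ p.asIdeal
    · simp only [gx, dif_pos hx]
      exact (hkill x hx).choose.2
    · simp only [gx, dif_neg hx]
      exact p.asIdeal.one_notMem
  have hgx2 : ∀ x ∈ p.asIdeal, gx x * x = 0 := by
    intro x hx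
    simp only [gx, dif_pos hx]
    exact (hkill x hx).choose_spec
  let g : A := ∏ x ∈ s, gx x
  have hgp : g ∉ p.asIdeal := by
    intro h
    obtain ⟨x, -, hx⟩ := (Ideal.IsPrime.prod_mem_iff).mp h
    exact hgx1 x hx
  have hgkill : ∀ x ∈ p.asIdeal, g * x = 0 := by
    intro x hx
    rw [← hs] at hx
    refine Submodule.span_induction (p := fun x _ => g * x = 0) ?_ ?_ ?_ ?_ hx
    · intro y hy
      have : g = (∏ x ∈ s.erase y, gx x) * gx y := by
        rw [Finset.prod_erase_mul _ _ hy]
      rw [this, mul_assoc, hgx2 y (hsp y hy), mul_zero]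
    · exact mul_zero g
    · intro a b _ _ ha hb
      rw [mul_add, ha, hb, add_zero]
    · intro a b _ hb
      rw [smul_eq_mul, mul_left_comm, hb, mul_zero]
  -- the quotient domain
  have hD : CAlg.IsNagata (A ⧸ p.asIdeal) :=
    Groth.Agent.Helper2.AnUnr6.isNagata_of_surjective (Ideal.Quotient.mk _)
      Ideal.Quotient.mk_surjective hA
  haveI := hD.1
  have hN1 : CAlg.IsN1 (A ⧸ p.asIdeal) :=
    isN1_of_isN2 _ (Groth.Agent.Helper2.NagFT.isN2_of_isNagata_of_isDomain _ hD)
  obtain ⟨fbar, hf0, hfic⟩ := ((Groth.Agent.Helper7.N1Loc.main (A ⧸ p.asIdeal)).mp hN1).1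
  obtain ⟨f, rfl⟩ := Ideal.Quotient.mk_surjective fbar
  have hfp : f ∉ p.asIdeal := fun h => hf0 (Ideal.Quotient.eq_zero_iff_mem.mpr h)
  refine ⟨PrimeSpectrum.basicOpen (g * f), (PrimeSpectrum.basicOpen (g * f)).isOpen, ?_, ?_⟩
  · change g * f ∉ p.asIdeal
    intro h
    rcases (inferInstance : p.asIdeal.IsPrime).mem_or_mem h with h | h
    · exact hgp h
    · exact hfp h
  · intro P hP
    change g * f ∉ P.asIdeal at hP
    haveI : P.asIdeal.IsPrime := P.2
    have hgP : g ∉ P.asIdeal := fun h => hP (Ideal.mul_mem_right _ _ h)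
    have hfP : f ∉ P.asIdeal := fun h => hP (Ideal.mul_mem_left _ _ h)
    have hpP : p.asIdeal ≤ P.asIdeal := by
      intro x hx
      have h0 : g * x ∈ P.asIdeal := by rw [hgkill x hx]; exact P.asIdeal.zero_mem
      exact ((inferInstance : P.asIdeal.IsPrime).mem_or_mem h0).resolve_left hgP
    have hI : p.asIdeal.map (algebraMap A (Localization.AtPrime P.asIdeal)) = ⊥ := by
      rw [eq_bot_iff, Ideal.map_le_iff_le_comap]
      intro x hx
      rw [Ideal.mem_comap, Ideal.mem_bot]
      have hu : IsUnit (algebraMap A (Localization.AtPrime P.asIdeal) g) :=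
        IsLocalization.map_units _ (⟨g, hgP⟩ : P.asIdeal.primeCompl)
      apply hu.mul_left_cancel
      rw [← map_mul, hgkill x hx, map_zero, mul_zero]
    have hM : Algebra.algebraMapSubmonoid (A ⧸ p.asIdeal) P.asIdeal.primeCompl ≤
        nonZeroDivisors (A ⧸ p.asIdeal) := by
      rintro _ ⟨a, ha, rfl⟩
      rw [mem_nonZeroDivisors_iff_ne_zero]
      intro h0
      exact ha (hpP (Ideal.Quotient.eq_zero_iff_mem.mp h0))
    obtain ⟨h1, h2⟩ := isIntegrallyClosed_of_away (A ⧸ p.asIdeal) (Ideal.Quotient.mk _ f) hfic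
      (Algebra.algebraMapSubmonoid (A ⧸ p.asIdeal) P.asIdeal.primeCompl) ⟨f, hfP, rfl⟩ hM
      (Localization.AtPrime P.asIdeal ⧸
        p.asIdeal.map (algebraMap A (Localization.AtPrime P.asIdeal)))
    let e : (Localization.AtPrime P.asIdeal ⧸
        p.asIdeal.map (algebraMap A (Localization.AtPrime P.asIdeal))) ≃+*
        Localization.AtPrime P.asIdeal :=
      (Ideal.quotEquivOfEq hI).trans (RingEquiv.quotientBot _)
    haveI := h1
    haveI := h2
    exact ⟨MulEquiv.isDomain _ e.symm.toMulEquiv, IsIntegrallyClosed.of_equiv e⟩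

/-- S2702 -/
theorem s2702 (A : Type u) [CommRing A] [IsNoetherianRing A] [IsLocalRing A]
    (hA : EGA4.HasGeomNormalFormalFibres A) : IsOpen (EGA4.norLocus A) := by
  apply isOpen_norLocus_of_isNagata
  apply Groth.Agent.Helper2.AnUnr6.s2657
  intro p hp
  exact Groth.Agent.Helper2.AnUnr7.isGeometricallyReduced_of_isGeomNormal _ _ (hA p)

end Groth.Agent.Helper2.NorNag
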