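import Mathlib
import Groth.Prelude
import Groth.Agent.Helper2.GUConn

set_option autoImplicit false
set_option linter.style.haveILetI false
set_option linter.unusedSectionVars false
set_option linter.unusedVariables false

namespace Groth.Agent.Helper2.GUC

universe u

open IsLocalRing TensorProduct AlgebraicGeometry CategoryTheory
open Groth.Agent.Helper2.Unibr6 Groth.Agent.Helper2.SmGU2 Groth.Agent.Helper2.GeomConn
open Groth.Agent.Helper2.Mori Groth.Agent.Helper2.GUConn

/-- S2785 with the algebraic form of geometric reducedness of the fibres. -/
theorem s2785' (A B : Type u) [CommRing A] [IsLocalRing A]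
    [IsNoetherianRing A] [CommRing B] [IsLocalRing B] [IsNoetherianRing B] [Algebra A B]
    [IsLocalHom (algebraMap A B)] [Module.Flat A B]
    (hred : ∀ (L : Type u) [Field L] [Algebra A L], _root_.IsReduced (L ⊗[A] B))
    (hA : CAlg2.IsGeomUnibranch A)
    (T : Set (PrimeSpectrum B)) (hT : IsClosed T)
    (hT' : interior (closure (PrimeSpectrum.comap (algebraMap A B) '' T)) = ∅) :
    _root_.IsConnected Tᶜ := by
  have htriv := trivIdem_generic_fibre A B hred hA
  haveI hD : IsDomain (CAlg2.red A) := hA.1.1
  haveI : ConnectedSpace (PrimeSpectrum (FractionRing (CAlg2.red A) ⊗[A] B)) :=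
    Groth.Agent.Helper4.SpecConn.connectedSpace_iff.mpr htriv
  let K := FractionRing (CAlg2.red A)
  let φ : B →+* K ⊗[A] B := (Algebra.TensorProduct.includeRight : B →ₐ[A] K ⊗[A] B).toRingHom
  have hG : _root_.IsConnected (Set.range (PrimeSpectrum.comap φ)) :=
    isConnected_range (PrimeSpectrum.continuous_comap φ)
  refine hG.subset_closure ?_ ?_
  · -- the generic fibre misses `T`
    rintro _ ⟨Q, rfl⟩ hQT
    apply Set.nonempty_iff_ne_empty.mp _ hT'
    -- the image point is the generic point
    have hmem : PrimeSpectrum.comap (algebraMap A B) (PrimeSpectrum.comap φ Q) ∈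
        PrimeSpectrum.comap (algebraMap A B) '' T := ⟨_, hQT, rfl⟩
    have hideal : (PrimeSpectrum.comap (algebraMap A B) (PrimeSpectrum.comap φ Q)).asIdeal =
        nilradical A := by
      ext a
      rw [PrimeSpectrum.comap_asIdeal, PrimeSpectrum.comap_asIdeal, Ideal.mem_comap,
        Ideal.mem_comap]
      have hφ : φ (algebraMap A B a) = (algebraMap A K a) ⊗ₜ[A] (1 : B) := by
        change (1 : K) ⊗ₜ[A] (algebraMap A B a) = _
        rw [Algebra.algebraMap_eq_smul_one, Algebra.algebraMap_eq_smul_one (A := K),
          TensorProduct.smul_tmul]
      rw [hφ]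
      constructor
      · intro h
        by_contra hna
        have hne : algebraMap A K a ≠ 0 := by
          intro h0
          rw [IsScalarTower.algebraMap_apply A (CAlg2.red A) K] at h0
          have h1 := (IsFractionRing.injective (CAlg2.red A) K) (h0.trans (map_zero _).symm)
          exact hna (Ideal.Quotient.eq_zero_iff_mem.mp h1)
        have hu : IsUnit ((algebraMap A K a) ⊗ₜ[A] (1 : B) : K ⊗[A] B) := by
          have := (IsUnit.mk0 _ hne).map
            (Algebra.TensorProduct.includeLeft : K →ₐ[A] K ⊗[A] B)
          exact this
        exact Q.2.ne_top (Ideal.eq_top_of_isUnit_mem _ h hu)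
      · intro h
        have h0 : algebraMap A K a = 0 := by
          rw [IsScalarTower.algebraMap_apply A (CAlg2.red A) K]
          have : algebraMap A (CAlg2.red A) a = 0 := Ideal.Quotient.eq_zero_iff_mem.mpr h
          rw [this, map_zero]
        rw [h0, TensorProduct.zero_tmul]
        exact Ideal.zero_mem _
    have hcl : closure (PrimeSpectrum.comap (algebraMap A B) '' T) = Set.univ := by
      rw [Set.eq_univ_iff_forall]
      intro x
      have h1 : x ∈ closure ({PrimeSpectrum.comap (algebraMap A B) (PrimeSpectrum.comap φ Q)} :
          Set (PrimeSpectrum A)) := by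
        rw [PrimeSpectrum.closure_singleton, hideal, PrimeSpectrum.mem_zeroLocus]
        intro a ha
        haveI := x.2
        exact nilradical_le_prime x.asIdeal ha
      exact closure_mono (Set.singleton_subset_iff.mpr hmem) h1
    rw [hcl, interior_univ]
    exact Set.univ_nonempty
  · -- the generic fibre is dense
    have hdense : DenseRange (PrimeSpectrum.comap φ) := by
      rw [PrimeSpectrum.denseRange_comap_iff_ker_le_nilRadical]
      intro b hb
      rw [RingHom.mem_ker] at hb
      rw [mem_nilradical]
      apply isNilpotent_of_tmul_eq_zero A B b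
      have hinj : Function.Injective
          (Algebra.TensorProduct.map
            (IsScalarTower.toAlgHom A (CAlg2.normRed A) K) (AlgHom.id A B)) := by
        have := Module.Flat.rTensor_preserves_injective_linearMap (M := B)
          (IsScalarTower.toAlgHom A (CAlg2.normRed A) K).toLinearMap
          (Subtype.val_injective)
        exact this
      apply hinj
      rw [map_zero, Algebra.TensorProduct.map_tmul, map_one]
      exact hb
    intro x _
    exact hdense x


end Groth.Agent.Helper2.GUC
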