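import Mathlib
import Groth.Prelude
import Groth.Agent.Helper2.Mori9

set_option autoImplicit false
set_option linter.style.haveILetI false
set_option linter.unusedSectionVars false
set_option linter.unusedVariables false

namespace Groth.Agent.Helper2.GUC

universe u

open IsLocalRing TensorProduct AlgebraicGeometry CategoryTheory CategoryTheory.Limits

theorem geometricallyReduced_comp_of_isOpenImmersion {U X Y : Scheme.{u}} (i : U ⟶ X)
    [IsOpenImmersion i] (f : X ⟶ Y) [GeometricallyReduced f] : GeometricallyReduced (i ≫ f) := by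
  refine ⟨?_⟩
  intro K _ y Z fst snd h
  have hQ : AlgebraicGeometry.IsReduced (pullback f y) :=
    GeometricallyReduced.geometrically_isReduced (f := f) _ _ _ (IsPullback.of_hasPullback f y)
  let t : Z ⟶ pullback f y := pullback.lift (fst ≫ i) snd (by rw [Category.assoc, h.w])
  have hpb : IsPullback fst t i (pullback.fst f y) := by
    refine IsPullback.of_bot ?_ (pullback.lift_fst _ _ _).symm (IsPullback.of_hasPullback f y)
    have : t ≫ pullback.snd f y = snd := pullback.lift_snd _ _ _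
    rw [this]
    exact h
  haveI : IsOpenImmersion t := MorphismProperty.of_isPullback (P := @IsOpenImmersion) hpb
    inferInstance
  exact isReduced_of_isOpenImmersion t

theorem geometricallyReduced_of_comp_mono {X Y' Y : Scheme.{u}} (g : X ⟶ Y') (m : Y' ⟶ Y)
    [Mono m] [GeometricallyReduced (g ≫ m)] : GeometricallyReduced g := by
  refine ⟨?_⟩
  intro K _ y Z fst snd h
  refine GeometricallyReduced.geometrically_isReduced (f := g ≫ m) (y ≫ m) fst snd ?_
  refine ⟨⟨by rw [← Category.assoc, h.w, Category.assoc]⟩, ⟨PullbackCone.IsLimit.mk _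
    (fun s => h.lift s.fst s.snd (by
      rw [← cancel_mono m, Category.assoc, Category.assoc]
      exact s.condition))
    (fun s => h.lift_fst _ _ _) (fun s => h.lift_snd _ _ _)
    (fun s l h1 h2 => h.hom_ext (by rw [h1, h.lift_fst]) (by rw [h2, h.lift_snd]))⟩⟩

theorem isReduced_tensor_appLE {X Y : Scheme.{u}} (f : X ⟶ Y) [GeometricallyReduced f]
    {V : Y.Opens} (hV : IsAffineOpen V) {U : X.Opens} (hU : IsAffineOpen U) (e : U ≤ f ⁻¹ᵁ V)
    (L : Type u) [Field L] [Algebra Γ(Y, V) L] :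
    letI := (f.appLE V U e).hom.toAlgebra
    _root_.IsReduced (L ⊗[Γ(Y, V)] Γ(X, U)) := by
  letI := (f.appLE V U e).hom.toAlgebra
  haveI : GeometricallyReduced
      (Spec.map (CommRingCat.ofHom (algebraMap Γ(Y, V) Γ(X, U)))) := by
    have h1 : GeometricallyReduced (hU.fromSpec ≫ f) :=
      geometricallyReduced_comp_of_isOpenImmersion _ f
    rw [← IsAffineOpen.SpecMap_appLE_fromSpec f hV hU e] at h1
    haveI := h1
    exact geometricallyReduced_of_comp_mono (Spec.map (f.appLE V U e)) hV.fromSpec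
  exact Groth.Agent.Helper2.Mori.isReduced_tensor_of_geometricallyReduced Γ(Y, V) Γ(X, U) L

theorem isReduced_tensor_localization (R₀ R A B L : Type u) [CommRing R₀] [CommRing R]
    [CommRing A] [CommRing B] [Field L]
    [Algebra R₀ R] [Algebra R₀ A] [Algebra R B] [Algebra A B] [Algebra R₀ B]
    [IsScalarTower R₀ A B] [IsScalarTower R₀ R B]
    (q : Ideal R₀) [q.IsPrime] [IsLocalization.AtPrime A q]
    (p : Ideal R) [p.IsPrime] [IsLocalization.AtPrime B p]
    [Algebra A L] [Algebra R₀ L] [IsScalarTower R₀ A L]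
    (h : _root_.IsReduced (L ⊗[R₀] R)) : _root_.IsReduced (L ⊗[A] B) := by
  letI : Algebra (L ⊗[R₀] R) (L ⊗[R₀] B) :=
    (Algebra.TensorProduct.map (AlgHom.id L L) (IsScalarTower.toAlgHom R₀ R B)).toRingHom.toAlgebra
  haveI : IsScalarTower L (L ⊗[R₀] R) (L ⊗[R₀] B) :=
    IsScalarTower.of_algebraMap_eq (fun r => by
      show r ⊗ₜ[R₀] (1 : B) =
        Algebra.TensorProduct.map (AlgHom.id L L) (IsScalarTower.toAlgHom R₀ R B) (r ⊗ₜ[R₀] (1 : R))
      simp)
  have H : (algebraMap (L ⊗[R₀] R) (L ⊗[R₀] B)).comp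
      (Algebra.TensorProduct.includeRight : R →ₐ[R₀] L ⊗[R₀] R).toRingHom =
      (Algebra.TensorProduct.includeRight : B →ₐ[R₀] L ⊗[R₀] B).toRingHom.comp
        (algebraMap R B) := by
    ext c
    show Algebra.TensorProduct.map (AlgHom.id L L) (IsScalarTower.toAlgHom R₀ R B)
      ((1 : L) ⊗ₜ[R₀] c) = _
    simp
  haveI := IsLocalization.tensorProduct_tensorProduct_right R₀ L p.primeCompl B H
  haveI : _root_.IsReduced (L ⊗[R₀] B) :=
    isReduced_localizationPreserves
      (p.primeCompl.map (Algebra.TensorProduct.includeRight (R := R₀) (A := L) (B := R))) _ h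
  let e := IsLocalization.algebraTensorEquiv q.primeCompl A L B
  exact isReduced_of_injective e.toAlgHom.toRingHom e.injective

set_option maxHeartbeats 1600000 in
theorem isReduced_tensor_stalk {X Y : Scheme.{u}} (f : X ⟶ Y) [GeometricallyReduced f] (x : X)
    (L : Type u) [Field L] [Algebra (Y.presheaf.stalk (f x)) L] :
    letI := (f.stalkMap x).hom.toAlgebra
    _root_.IsReduced (L ⊗[Y.presheaf.stalk (f x)] X.presheaf.stalk x) := by
  letI := (f.stalkMap x).hom.toAlgebra
  obtain ⟨V, hV, hyV, -⟩ := exists_isAffineOpen_mem_and_subset (X := Y) (x := f x) (U := ⊤) trivial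
  have hxV : x ∈ f ⁻¹ᵁ V := hyV
  obtain ⟨U, hU, hxU, hUV⟩ := exists_isAffineOpen_mem_and_subset (X := X) (x := x) hxV
  have e : U ≤ f ⁻¹ᵁ V := hUV
  letI : Algebra Γ(Y, V) Γ(X, U) := (f.appLE V U e).hom.toAlgebra
  letI : Algebra Γ(Y, V) (Y.presheaf.stalk (f x)) :=
    TopCat.Presheaf.algebra_section_stalk Y.presheaf (⟨f x, hyV⟩ : V)
  letI : Algebra Γ(X, U) (X.presheaf.stalk x) :=
    TopCat.Presheaf.algebra_section_stalk X.presheaf (⟨x, hxU⟩ : U)
  letI : Algebra Γ(Y, V) (X.presheaf.stalk x) :=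
    ((algebraMap (Y.presheaf.stalk (f x)) (X.presheaf.stalk x)).comp
      (algebraMap Γ(Y, V) (Y.presheaf.stalk (f x)))).toAlgebra
  haveI : IsScalarTower Γ(Y, V) (Y.presheaf.stalk (f x)) (X.presheaf.stalk x) :=
    IsScalarTower.of_algebraMap_eq (fun _ => rfl)
  haveI : IsScalarTower Γ(Y, V) Γ(X, U) (X.presheaf.stalk x) :=
    IsScalarTower.of_algebraMap_eq (fun r => by
      show (f.stalkMap x).hom ((Y.presheaf.germ V (f x) hyV).hom r) =
        (X.presheaf.germ U x hxU).hom ((f.appLE V U e).hom r)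
      rw [Scheme.Hom.germ_stalkMap_apply, Scheme.Hom.appLE]
      show _ = (X.presheaf.germ U x hxU).hom ((X.presheaf.map (homOfLE e).op).hom ((f.app V).hom r))
      exact (TopCat.Presheaf.germ_res_apply X.presheaf (homOfLE e) x hxU ((f.app V).hom r)).symm)
  letI : Algebra Γ(Y, V) L :=
    ((algebraMap (Y.presheaf.stalk (f x)) L).comp
      (algebraMap Γ(Y, V) (Y.presheaf.stalk (f x)))).toAlgebra
  haveI : IsScalarTower Γ(Y, V) (Y.presheaf.stalk (f x)) L :=
    IsScalarTower.of_algebraMap_eq (fun _ => rfl)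
  haveI : IsLocalization.AtPrime (Y.presheaf.stalk (f x))
      (hV.primeIdealOf ⟨f x, hyV⟩).asIdeal := hV.isLocalization_stalk ⟨f x, hyV⟩
  haveI : IsLocalization.AtPrime (X.presheaf.stalk x)
      (hU.primeIdealOf ⟨x, hxU⟩).asIdeal := hU.isLocalization_stalk ⟨x, hxU⟩
  have h := isReduced_tensor_appLE f hV hU e L
  exact isReduced_tensor_localization Γ(Y, V) Γ(X, U) (Y.presheaf.stalk (f x))
    (X.presheaf.stalk x) L (hV.primeIdealOf ⟨f x, hyV⟩).asIdeal
    (hU.primeIdealOf ⟨x, hxU⟩).asIdeal h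

end Groth.Agent.Helper2.GUC
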