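import Mathlib
import Groth.Prelude

set_option autoImplicit false
set_option linter.style.haveILetI false
set_option linter.unusedSectionVars false
set_option linter.unusedVariables false

namespace Groth.Agent.Helper2.GUC

open TopologicalSpace Topology

section topo

variable {α : Type*} [TopologicalSpace α]

/-- in a space with a Noetherian quasi-sober open neighbourhood of `x`, a point in the closure of
an open set is a specialization of a point of that open set. -/
theorem exists_specializes_of_mem_closure (V : Set α) (hV : IsOpen V) [NoetherianSpace V]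
    [QuasiSober V] (U : Set α) (hU : IsOpen U) (x : α) (hxV : x ∈ V) (hx : x ∈ closure U) :
    ∃ ξ ∈ U, ξ ⤳ x := by
  classical
  let S : Set V := Subtype.val ⁻¹' U
  have hSo : IsOpen S := hU.preimage continuous_subtype_val
  have hxS : (⟨x, hxV⟩ : V) ∈ closure S := by
    rw [mem_closure_iff]
    intro o ho hxo
    obtain ⟨o', ho', rfl⟩ := isOpen_induced_iff.1 ho
    have h1 : x ∈ o' ∩ V := ⟨hxo, hxV⟩
    obtain ⟨z, hz1, hz2⟩ := mem_closure_iff.1 hx (o' ∩ V) (ho'.inter hV) h1
    exact ⟨⟨z, hz1.2⟩, hz1.1, hz2⟩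
  obtain ⟨F, hFfin, hFc, hFi, hFU⟩ :=
    NoetherianSpace.exists_finite_set_isClosed_irreducible (isClosed_closure : IsClosed (closure S))
  let F' : Set (Set V) := {t ∈ F | (t ∩ S).Nonempty}
  have hF'fin : F'.Finite := hFfin.subset (fun t ht => ht.1)
  have hS' : S ⊆ ⋃₀ F' := by
    intro s hs
    have h1 : s ∈ ⋃₀ F := by rw [← hFU]; exact subset_closure hs
    obtain ⟨t, ht, hst⟩ := h1
    exact ⟨t, ⟨ht, ⟨s, hst, hs⟩⟩, hst⟩
  have hcl : IsClosed (⋃₀ F') := by
    rw [Set.sUnion_eq_biUnion]
    exact hF'fin.isClosed_biUnion (fun t ht => hFc t ht.1)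
  have hxF' : (⟨x, hxV⟩ : V) ∈ ⋃₀ F' := closure_minimal hS' hcl hxS
  obtain ⟨t, ⟨htF, htS⟩, hxt⟩ := hxF'
  have hgen := (hFi t htF).isGenericPoint_genericPoint (hFc t htF)
  have h1 : (hFi t htF).genericPoint ⤳ (⟨x, hxV⟩ : V) := hgen.specializes hxt
  have h2 : (hFi t htF).genericPoint ∈ S := (hgen.mem_open_set_iff hSo).2 htS
  exact ⟨((hFi t htF).genericPoint : α), h2, h1.map continuous_subtype_val⟩

/-- a closed set containing a point without proper generizations, which has a Noetherian
quasi-sober open neighbourhood, has nonempty interior. -/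
theorem interior_nonempty_of_maximal_mem (V : Set α) (hV : IsOpen V) [NoetherianSpace V]
    [QuasiSober V] (η : α) (hηV : η ∈ V) (hmax : ∀ η' : α, η' ⤳ η → η ⤳ η')
    (Z : Set α) (hZ : IsClosed Z) (hη : η ∈ Z) : (interior Z).Nonempty := by
  let ηV : V := ⟨η, hηV⟩
  have hC := irreducibleComponent_mem_irreducibleComponents ηV
  obtain ⟨o, ho, hone, hoC⟩ :=
    NoetherianSpace.exists_isOpen_nonempty_subset_irreducibleComponent _ hC
  have hgen := (isIrreducible_irreducibleComponent (x := ηV)).isGenericPoint_genericPoint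
    isClosed_irreducibleComponent
  set ζ := (isIrreducible_irreducibleComponent (x := ηV)).genericPoint with hζ
  have h1 : ζ ⤳ ηV := hgen.specializes mem_irreducibleComponent
  have h2 : (ζ : α) ⤳ η := h1.map continuous_subtype_val
  have h3 : η ⤳ (ζ : α) := hmax _ h2
  have hsub : Subtype.val '' o ⊆ Z := by
    rintro _ ⟨c, hc, rfl⟩
    have h4 : ζ ⤳ c := hgen.specializes (hoC hc)
    have h5 : (ζ : α) ⤳ (c : α) := h4.map continuous_subtype_val
    exact (h3.trans h5).mem_closed hZ hη
  have hopen : IsOpen (Subtype.val '' o) := hV.isOpenMap_subtype_val o ho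
  obtain ⟨c, hc⟩ := hone
  exact ⟨(c : α), interior_maximal hsub hopen ⟨c, hc, rfl⟩⟩

end topo

end Groth.Agent.Helper2.GUC
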