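import Mathlib
import Groth.Prelude
import Groth.Agent.Helper2.GUC3

set_option autoImplicit false
set_option linter.style.haveILetI false
set_option linter.unusedSectionVars false
set_option linter.unusedVariables false

namespace Groth.Agent.Helper2.GUC

universe u

open AlgebraicGeometry CategoryTheory TopologicalSpace Topology

/-- every point of a locally noetherian scheme has an open Noetherian quasi-sober
neighbourhood. -/
theorem exists_noeth_nhd (X : Scheme.{u}) [IsLocallyNoetherian X] (x : X) :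
    ∃ V : Set X, IsOpen V ∧ x ∈ V ∧ NoetherianSpace V ∧ QuasiSober V := by
  obtain ⟨U, hU, hxU, -⟩ := exists_isAffineOpen_mem_and_subset (x := x) (U := ⊤) trivial
  haveI : IsNoetherianRing Γ(X, U) := IsLocallyNoetherian.component_noetherian ⟨U, hU⟩
  refine ⟨(U : Set X), U.2, hxU, noetherianSpace_of_isAffineOpen U hU, ?_⟩
  exact U.isOpenEmbedding'.quasiSober

/-- the image of a minimal prime of a local ring of `Y` has no proper generizations. -/
theorem maximal_of_minimalPrime (Y : Scheme.{u}) (y : Y)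
    (𝔫 : PrimeSpectrum (Y.presheaf.stalk y))
    (h𝔫 : 𝔫.asIdeal ∈ minimalPrimes (Y.presheaf.stalk y)) (η' : Y)
    (h : η' ⤳ Y.fromSpecStalk y 𝔫) : Y.fromSpecStalk y 𝔫 ⤳ η' := by
  have h1 : Y.fromSpecStalk y 𝔫 ⤳ y := by
    have : Y.fromSpecStalk y 𝔫 ∈ Set.range (Y.fromSpecStalk y) := ⟨𝔫, rfl⟩
    rw [Scheme.range_fromSpecStalk] at this
    exact this
  have h2 : η' ∈ Set.range (Y.fromSpecStalk y) := by
    rw [Scheme.range_fromSpecStalk]
    exact h.trans h1
  obtain ⟨𝔫', rfl⟩ := h2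
  have h3' : 𝔫' ⤳ 𝔫 := (Y.fromSpecStalk y).isEmbedding.isInducing.specializes_iff.1 h
  have h3'' : @Specializes (PrimeSpectrum (Y.presheaf.stalk y)) _ 𝔫' 𝔫 := h3'
  have h3 : (show PrimeSpectrum (Y.presheaf.stalk y) from 𝔫') ≤ 𝔫 :=
    (PrimeSpectrum.le_iff_specializes _ _).2 h3''
  have h4 : 𝔫.asIdeal ≤ 𝔫'.asIdeal := h𝔫.2 ⟨𝔫'.isPrime, bot_le⟩ h3
  have h5 : 𝔫 = 𝔫' := PrimeSpectrum.ext (le_antisymm h4 h3)
  subst h5
  exact h

/-- a closed nowhere dense subset of a locally Noetherian scheme misses the images of the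
minimal primes of all local rings. -/
theorem not_mem_of_minimalPrime (Y : Scheme.{u}) [IsLocallyNoetherian Y] (Z : Set Y)
    (hZ : IsClosed Z) (hZ' : interior Z = ∅) (y : Y) (𝔫 : PrimeSpectrum (Y.presheaf.stalk y))
    (h𝔫 : 𝔫.asIdeal ∈ minimalPrimes (Y.presheaf.stalk y)) : Y.fromSpecStalk y 𝔫 ∉ Z := by
  intro hmem
  obtain ⟨V, hV, hηV, hVn, hVs⟩ := exists_noeth_nhd Y (Y.fromSpecStalk y 𝔫)
  have := interior_nonempty_of_maximal_mem V hV _ hηV
    (maximal_of_minimalPrime Y y 𝔫 h𝔫) Z hZ hmem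
  rw [hZ'] at this
  exact Set.not_nonempty_empty this

end Groth.Agent.Helper2.GUC
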