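import Mathlib
import Groth.Prelude
import Groth.Agent.Helper2.GUC1
import Groth.Agent.Helper2.GUC2
import Groth.Agent.Helper2.GUC4

set_option autoImplicit false
set_option linter.style.haveILetI false
set_option linter.unusedSectionVars false
set_option linter.unusedVariables false

namespace Groth.Agent.Helper2.GUC

universe u

open AlgebraicGeometry CategoryTheory TopologicalSpace Topology

theorem map_fromSpecStalk {X Y : Scheme.{u}} (f : X ⟶ Y) (x : X)
    (𝔮 : Spec (X.presheaf.stalk x)) :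
    f (X.fromSpecStalk x 𝔮) = Y.fromSpecStalk (f x) (Spec.map (f.stalkMap x) 𝔮) := by
  have e : (Spec.map (f.stalkMap x) ≫ Y.fromSpecStalk (f x)) 𝔮 = (X.fromSpecStalk x ≫ f) 𝔮 := by
    rw [Scheme.SpecMap_stalkMap_fromSpecStalk]
  rw [Scheme.Hom.comp_apply, Scheme.Hom.comp_apply] at e
  exact e.symm

theorem exists_minimalPrime_over {X Y : Scheme.{u}} (f : X ⟶ Y) [Flat f] (x : X) :
    ∃ 𝔮 : Spec (X.presheaf.stalk x),
      (Spec.map (f.stalkMap x) 𝔮).asIdeal ∈ minimalPrimes (Y.presheaf.stalk (f x)) := by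
  letI : Algebra (Y.presheaf.stalk (f x)) (X.presheaf.stalk x) := (f.stalkMap x).hom.toAlgebra
  haveI : Module.Flat (Y.presheaf.stalk (f x)) (X.presheaf.stalk x) := Flat.stalkMap f x
  haveI : IsLocalHom (algebraMap (Y.presheaf.stalk (f x)) (X.presheaf.stalk x)) :=
    f.toLRSHom.prop x
  haveI : Module.FaithfullyFlat (Y.presheaf.stalk (f x)) (X.presheaf.stalk x) :=
    Module.FaithfullyFlat.of_flat_of_isLocalHom
  obtain ⟨𝔫i, h𝔫i, -⟩ := Ideal.exists_minimalPrimes_le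
    (I := (⊥ : Ideal (Y.presheaf.stalk (f x))))
    (J := IsLocalRing.maximalIdeal (Y.presheaf.stalk (f x))) bot_le
  haveI : 𝔫i.IsPrime := h𝔫i.1.1
  obtain ⟨𝔮, h𝔮⟩ := PrimeSpectrum.comap_surjective_of_faithfullyFlat
    (A := Y.presheaf.stalk (f x)) (B := X.presheaf.stalk x) ⟨𝔫i, h𝔫i.1.1⟩
  refine ⟨𝔮, ?_⟩
  have : Spec.map (f.stalkMap x) 𝔮 = ⟨𝔫i, h𝔫i.1.1⟩ := h𝔮
  rw [this]
  exact h𝔫i

theorem interior_eq_empty {X Y : Scheme.{u}} [IsLocallyNoetherian Y] (f : X ⟶ Y) [Flat f]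
    (T : Set X) (hT' : interior (closure (f.base '' T)) = ∅) : interior T = ∅ := by
  rw [Set.eq_empty_iff_forall_notMem]
  intro x hx
  obtain ⟨𝔮, h𝔮⟩ := exists_minimalPrime_over f x
  have hξ : X.fromSpecStalk x 𝔮 ⤳ x := by
    have : X.fromSpecStalk x 𝔮 ∈ Set.range (X.fromSpecStalk x) := ⟨𝔮, rfl⟩
    rw [Scheme.range_fromSpecStalk] at this
    exact this
  have hξT : X.fromSpecStalk x 𝔮 ∈ T := interior_subset (hξ.mem_open isOpen_interior hx)
  refine not_mem_of_minimalPrime Y (closure (f.base '' T)) isClosed_closure hT' (f x) _ h𝔮 ?_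
  apply subset_closure
  exact ⟨_, hξT, map_fromSpecStalk f x 𝔮⟩

end Groth.Agent.Helper2.GUC
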