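import Mathlib
import Groth.Prelude
import Groth.Agent.Helper2.GUC5

set_option autoImplicit false
set_option linter.style.haveILetI false
set_option linter.unusedSectionVars false
set_option linter.unusedVariables false

namespace Groth.Agent.Helper2.GUC

universe u

open AlgebraicGeometry CategoryTheory TopologicalSpace Topology

theorem specializes_fromSpecStalk {X : Scheme.{u}} (x : X) (𝔮 : Spec (X.presheaf.stalk x)) :
    X.fromSpecStalk x 𝔮 ⤳ x := by
  have : X.fromSpecStalk x 𝔮 ∈ Set.range (X.fromSpecStalk x) := ⟨𝔮, rfl⟩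
  rw [Scheme.range_fromSpecStalk] at this
  exact this

theorem exists_of_specializes {X : Scheme.{u}} (x ξ : X) (h : ξ ⤳ x) :
    ∃ 𝔮 : Spec (X.presheaf.stalk x), X.fromSpecStalk x 𝔮 = ξ := by
  have : ξ ∈ Set.range (X.fromSpecStalk x) := by
    rw [Scheme.range_fromSpecStalk]; exact h
  exact this

/-- the local nowhere-density hypothesis. -/
theorem local_interior_empty {X Y : Scheme.{u}} [IsLocallyNoetherian Y] (f : X ⟶ Y)
    (T : Set X) (hT' : interior (closure (f.base '' T)) = ∅) (x : X) :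
    interior (closure ((Spec.map (f.stalkMap x)).base '' ((X.fromSpecStalk x).base ⁻¹' T))) = ∅ := by
  rw [Set.eq_empty_iff_forall_notMem]
  intro 𝔭 h𝔭
  obtain ⟨𝔫i, h𝔫i, hle⟩ := Ideal.exists_minimalPrimes_le
    (I := (⊥ : Ideal (Y.presheaf.stalk (f x)))) (J := 𝔭.asIdeal) bot_le
  let 𝔫 : Spec (Y.presheaf.stalk (f x)) := ⟨𝔫i, h𝔫i.1.1⟩
  have hsp' : @Specializes (PrimeSpectrum (Y.presheaf.stalk (f x))) _ 𝔫 𝔭 :=
    (PrimeSpectrum.le_iff_specializes _ _).1 hle
  have hsp : 𝔫 ⤳ 𝔭 := hsp'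
  have h1 : 𝔫 ∈ closure ((Spec.map (f.stalkMap x)).base '' ((X.fromSpecStalk x).base ⁻¹' T)) :=
    interior_subset (hsp.mem_open isOpen_interior h𝔭)
  have h2 : (Y.fromSpecStalk (f x)).base 𝔫 ∈ closure (f.base '' T) := by
    have h3 := image_closure_subset_closure_image (Y.fromSpecStalk (f x)).continuous
      (Set.mem_image_of_mem _ h1)
    refine closure_mono ?_ h3
    rintro _ ⟨_, ⟨𝔮, h𝔮, rfl⟩, rfl⟩
    exact ⟨_, h𝔮, map_fromSpecStalk f x 𝔮⟩
  exact not_mem_of_minimalPrime Y (closure (f.base '' T)) isClosed_closure hT' (f x) 𝔫 h𝔫i h2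

end Groth.Agent.Helper2.GUC

namespace Groth.Agent.Helper2.GUC

universe u

open AlgebraicGeometry CategoryTheory TopologicalSpace Topology TensorProduct

/-- local connectedness at a point: the complement of the pullback of `T` to `Spec 𝒪_{X,x}` is
connected. -/
theorem local_isConnected {X Y : Scheme.{u}} [IsLocallyNoetherian X]
    [IsLocallyNoetherian Y] (hY : ∀ y : Y, CAlg2.IsGeomUnibranch (Y.presheaf.stalk y))
    (f : X ⟶ Y) [Flat f] [GeometricallyReduced f]
    (T : Set ↥X) (hT : IsClosed T) (hT' : interior (closure (f.base '' T)) = ∅) (x : X) :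
    IsConnected ((X.fromSpecStalk x).base ⁻¹' T)ᶜ := by
  letI : Algebra (Y.presheaf.stalk (f x)) (X.presheaf.stalk x) := (f.stalkMap x).hom.toAlgebra
  haveI : Module.Flat (Y.presheaf.stalk (f x)) (X.presheaf.stalk x) := Flat.stalkMap f x
  haveI : IsLocalHom (algebraMap (Y.presheaf.stalk (f x)) (X.presheaf.stalk x)) :=
    f.toLRSHom.prop x
  have hred : ∀ (L : Type u) [Field L] [Algebra (Y.presheaf.stalk (f x)) L],
      _root_.IsReduced (L ⊗[Y.presheaf.stalk (f x)] X.presheaf.stalk x) :=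
    fun L _ _ => isReduced_tensor_stalk f x L
  exact s2785' (Y.presheaf.stalk (f x)) (X.presheaf.stalk x) hred (hY (f x))
    ((X.fromSpecStalk x).base ⁻¹' T) (hT.preimage (X.fromSpecStalk x).continuous)
    (local_interior_empty f T hT' x)

theorem main {X Y : Scheme.{u}} [IsLocallyNoetherian X]
    [IsLocallyNoetherian Y] [ConnectedSpace ↥X]
    (hY : ∀ y : Y, CAlg2.IsGeomUnibranch (Y.presheaf.stalk y))
    (f : X ⟶ Y) [Flat f] [GeometricallyReduced f]
    (T : Set ↥X) (hT : IsClosed T) (hT' : interior (closure (f.base '' T)) = ∅) :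
    IsConnected Tᶜ := by
  have hint : interior T = ∅ := interior_eq_empty f T hT'
  have hdense : Dense Tᶜ := interior_eq_empty_iff_dense_compl.1 hint
  refine ⟨hdense.nonempty, ?_⟩
  intro u v hu hv huv hsu hsv
  by_contra hne
  have hU1 : IsOpen (Tᶜ ∩ u) := hT.isOpen_compl.inter hu
  have hU2 : IsOpen (Tᶜ ∩ v) := hT.isOpen_compl.inter hv
  have hcov : (Set.univ : Set X) ⊆ closure (Tᶜ ∩ u) ∪ closure (Tᶜ ∩ v) := by
    rw [← closure_union, ← Set.inter_union_distrib_left, Set.inter_eq_left.2 huv,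
      hdense.closure_eq]
  have hpre : _root_.IsPreconnected (Set.univ : Set X) := isPreconnected_univ
  obtain ⟨x, -, hx1, hx2⟩ := (isPreconnected_closed_iff.1 hpre) _ _ isClosed_closure
    isClosed_closure hcov
    (by
      obtain ⟨z, hz⟩ := hsu
      exact ⟨z, trivial, subset_closure hz⟩)
    (by
      obtain ⟨z, hz⟩ := hsv
      exact ⟨z, trivial, subset_closure hz⟩)
  obtain ⟨V, hV, hxV, hVn, hVs⟩ := exists_noeth_nhd X x
  obtain ⟨ξ₁, hξ₁, hs₁⟩ := exists_specializes_of_mem_closure V hV _ hU1 x hxV hx1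
  obtain ⟨ξ₂, hξ₂, hs₂⟩ := exists_specializes_of_mem_closure V hV _ hU2 x hxV hx2
  obtain ⟨𝔮₁, rfl⟩ := exists_of_specializes x ξ₁ hs₁
  obtain ⟨𝔮₂, rfl⟩ := exists_of_specializes x ξ₂ hs₂
  have hloc := (local_isConnected hY f T hT hT' x).isPreconnected
  obtain ⟨𝔮, h𝔮T, h𝔮u, h𝔮v⟩ := hloc ((X.fromSpecStalk x).base ⁻¹' u)
    ((X.fromSpecStalk x).base ⁻¹' v)
    (hu.preimage (X.fromSpecStalk x).continuous) (hv.preimage (X.fromSpecStalk x).continuous)
    (fun 𝔭 h𝔭 => huv h𝔭) ⟨𝔮₁, hξ₁.1, hξ₁.2⟩ ⟨𝔮₂, hξ₂.1, hξ₂.2⟩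
  exact hne ⟨_, h𝔮T, h𝔮u, h𝔮v⟩

end Groth.Agent.Helper2.GUC
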