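import Mathlib
import Groth.Prelude
import Groth.Agent.Helper5.GaPts1

set_option autoImplicit false
set_option linter.unusedSectionVars false
set_option linter.style.haveILetI false
universe u
set_option backward.isDefEq.respectTransparency false

open CategoryTheory CategoryTheory.Limits MonoidalCategory CartesianMonoidalCategory MonObj
  AlgebraicGeometry Opposite
open scoped TensorProduct

noncomputable section

namespace Groth.Agent.Helper2.GaAdd

open Groth.Agent.Helper5.GaPts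

abbrev GaZ' : Over GmPts.baseZ.{u} := Red.GaZ.{u}

abbrev symIso : Γ(Spec (CommRingCat.of SymZ.{u}), ⊤) ≅ CommRingCat.of SymZ.{u} :=
  Scheme.ΓSpecIso (CommRingCat.of SymZ.{u})

variable {S : Scheme.{u}} {T : Over S}

abbrev specPtA (t : T ⟶ Red.Ga S) : T.left ⟶ Spec (CommRingCat.of SymZ.{u}) :=
  t.left ≫ pullback.fst GaZ'.hom (GmPts.toBaseZ S)

theorem gaFn_eq (t : T ⟶ Red.Ga S) : Red.gaFn t = (specPtA t).appTop (symIso.inv gen) := rfl

def pairPtA (t t' : T ⟶ Red.Ga S) : T.left ⟶ (GaZ' ⊗ GaZ').left :=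
  (lift t t').left ≫ (Functor.LaxMonoidal.μ (Over.pullback (GmPts.toBaseZ S)) GaZ' GaZ').left ≫
    pullback.fst (GaZ' ⊗ GaZ').hom (GmPts.toBaseZ S)

theorem specPtA_mul (t t' : T ⟶ Red.Ga S) : specPtA (t * t') = pairPtA t t' ≫ μ[GaZ'].left := by
  have h1 : t * t' = lift t t' ≫ μ[Red.Ga S] := Hom.mul_def t t'
  have h2 : μ[Red.Ga S] = Functor.LaxMonoidal.μ (Over.pullback (GmPts.toBaseZ S)) GaZ' GaZ' ≫
      (Over.pullback (GmPts.toBaseZ S)).map μ[GaZ'] := rfl
  have h3 := GmPts.pullback_map_left_fst (S := S) μ[GaZ']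
  rw [specPtA, pairPtA, h1, h2, Over.comp_left, Over.comp_left]
  simp only [Category.assoc]
  exact _ ≫= (_ ≫= h3)

theorem pairPtA_fst (t t' : T ⟶ Red.Ga S) :
    pairPtA t t' ≫ pullback.fst GaZ'.hom GaZ'.hom = specPtA t := by
  rw [pairPtA, Category.assoc, Category.assoc, Over.μ_pullback_left_fst_fst, ← Category.assoc]
  congr 1
  rw [← Over.fst_left, ← Over.comp_left, lift_fst]

theorem pairPtA_snd (t t' : T ⟶ Red.Ga S) :
    pairPtA t t' ≫ pullback.snd GaZ'.hom GaZ'.hom = specPtA t' := by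
  rw [pairPtA, Category.assoc, Category.assoc, Over.μ_pullback_left_fst_snd, ← Category.assoc]
  congr 1
  rw [← Over.snd_left, ← Over.comp_left, lift_snd]

theorem specMap_appTop_symIso_inv {R : CommRingCat.{u}} (φ : CommRingCat.of SymZ.{u} ⟶ R)
    (c : SymZ.{u}) :
    (Spec.map φ).appTop (symIso.inv c) = (Scheme.ΓSpecIso R).inv (φ c) := by
  have h := congrArg (fun ψ => (ConcreteCategory.hom ψ) c) (Scheme.ΓSpecIso_inv_naturality φ)
  exact h.symm

theorem comul_gen :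
    Coalgebra.comul (R := ULift.{u} ℤ) (gen.{u}) =
      gen ⊗ₜ[ULift.{u} ℤ] (1 : SymZ.{u}) + (1 : SymZ.{u}) ⊗ₜ[ULift.{u} ℤ] gen := by
  simp [gen]

theorem mul_appTop_gen : μ[GaZ'].left.appTop (symIso.inv (gen.{u})) =
    (pullback.fst GaZ'.hom GaZ'.hom).appTop (symIso.inv gen) +
      (pullback.snd GaZ'.hom GaZ'.hom).appTop (symIso.inv gen) := by
  let CC : Type u := TensorProduct (ULift.{u} ℤ) SymZ.{u} SymZ.{u}
  let iL : SymZ.{u} →+* CC := Algebra.TensorProduct.includeLeftRingHom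
  let iR : SymZ.{u} →+* CC :=
    ((Algebra.TensorProduct.includeRight (R := ULift.{u} ℤ) (A := SymZ.{u}) (B := SymZ.{u}) :
      SymZ.{u} →ₐ[ULift.{u} ℤ] CC) : SymZ.{u} →+* CC)
  let fC : Spec (CommRingCat.of SymZ.{u}) ⟶ GmPts.baseZ.{u} :=
    Spec.map (CommRingCat.ofHom (algebraMap (ULift.{u} ℤ) SymZ.{u}))
  let psi := pullbackSpecIso (ULift.{u} ℤ) SymZ.{u} SymZ.{u}
  have hfst : pullback.fst fC fC = psi.hom ≫ Spec.map (CommRingCat.ofHom (R := SymZ.{u}) (S := CC) iL) := by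
    rw [← pullbackSpecIso_inv_fst, Iso.hom_inv_id_assoc]
  have hsnd : pullback.snd fC fC = psi.hom ≫ Spec.map (CommRingCat.ofHom (R := SymZ.{u}) (S := CC) iR) := by
    rw [← pullbackSpecIso_inv_snd, Iso.hom_inv_id_assoc]
  have hc : (CommRingCat.ofHom (R := SymZ.{u}) (S := CC) (Bialgebra.comulAlgHom (ULift.{u} ℤ) SymZ.{u}).toRingHom) (gen.{u}) =
      (CommRingCat.ofHom (R := SymZ.{u}) (S := CC) iL) (gen.{u}) +
        (CommRingCat.ofHom (R := SymZ.{u}) (S := CC) iR) (gen.{u}) := by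
    change Coalgebra.comul (R := ULift.{u} ℤ) (gen.{u}) =
      (gen ⊗ₜ[ULift.{u} ℤ] (1 : SymZ.{u})) + ((1 : SymZ.{u}) ⊗ₜ[ULift.{u} ℤ] gen)
    exact comul_gen
  change (psi.hom ≫ Spec.map (CommRingCat.ofHom (R := SymZ.{u}) (S := CC) (Bialgebra.comulAlgHom (ULift.{u} ℤ) SymZ.{u}).toRingHom)).appTop
      (symIso.inv gen) =
    (pullback.fst fC fC).appTop (symIso.inv gen) + (pullback.snd fC fC).appTop (symIso.inv gen)
  rw [hfst, hsnd, GmPts.appTop_comp_apply, GmPts.appTop_comp_apply, GmPts.appTop_comp_apply,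
    specMap_appTop_symIso_inv, specMap_appTop_symIso_inv, specMap_appTop_symIso_inv, hc, map_add, map_add]

/-- `Red.gaFn` is additive. -/
theorem gaFn_mul (t t' : T ⟶ Red.Ga S) : Red.gaFn (t * t') = Red.gaFn t + Red.gaFn t' := by
  have e1 : Red.gaFn (t * t') = (pairPtA t t').appTop (μ[GaZ'].left.appTop (symIso.inv gen)) := by
    change (specPtA (t * t')).appTop (symIso.inv gen) = _
    rw [specPtA_mul]
    exact GmPts.appTop_comp_apply _ _ _
  rw [e1, mul_appTop_gen, map_add]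
  congr 1
  · rw [gaFn_eq, ← pairPtA_fst t t']
    exact (GmPts.appTop_comp_apply _ _ _).symm
  · rw [gaFn_eq, ← pairPtA_snd t t']
    exact (GmPts.appTop_comp_apply _ _ _).symm

theorem gaFn_one : Red.gaFn (1 : T ⟶ Red.Ga S) = 0 := by
  have h := gaFn_mul (1 : T ⟶ Red.Ga S) 1
  rw [_root_.mul_one] at h
  exact left_eq_add.mp h

theorem gaFn_inv (t : T ⟶ Red.Ga S) : Red.gaFn t⁻¹ = - Red.gaFn t := by
  have h := gaFn_mul t⁻¹ t
  rw [inv_mul_cancel, gaFn_one] at h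
  exact eq_neg_of_add_eq_zero_left h.symm

theorem pt_add (a b : Γ(T.left, ⊤)) : (pt (a + b) : T ⟶ Red.Ga S) = pt a * pt b :=
  gaFn_injective (by rw [gaFn_mul, gaFn_pt, gaFn_pt, gaFn_pt])

end Groth.Agent.Helper2.GaAdd
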