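import Mathlib
import Groth.Prelude.Def_Pi1X

set_option autoImplicit false
universe u v w
open CategoryTheory PreGaloisCategory

namespace Groth.Agent.Helper2.Gal1
open CategoryTheory PreGaloisCategory Limits Functor

variable {C : Type u} [Category.{v} C] [GaloisCategory C]
  (F : C ⥤ FintypeCat.{w}) [FiberFunctor F]

/-- the fibre of the terminal object is a singleton -/
noncomputable def uniqueFiberTerminal : Unique (F.obj (⊤_ C)) :=
  Types.isTerminalEquivUnique _
    (IsTerminal.isTerminalObj (F ⋙ FintypeCat.incl) _ terminalIsTerminal)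

theorem smul_terminal (σ : Aut F) (t : F.obj (⊤_ C)) : σ • t = t := by
  letI := uniqueFiberTerminal F
  exact Subsingleton.elim _ _

theorem fixed_of_section {Y : C} (b : F.obj Y) (s : ⊤_ C ⟶ Y)
    (hs : ∀ t : F.obj (⊤_ C), F.map s t = b) (σ : Aut F) : σ • b = b := by
  letI := uniqueFiberTerminal F
  have t : F.obj (⊤_ C) := default
  rw [← hs t, mulAction_naturality, smul_terminal]

theorem exists_section_of_fixed {Y : C} (b : F.obj Y) (hb : ∀ σ : Aut F, σ • b = b) :
    ∃ s : ⊤_ C ⟶ Y, ∀ t : F.obj (⊤_ C), F.map s t = b := by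
  let f : (functorToAction F).obj (⊤_ C) ⟶ (functorToAction F).obj Y :=
    { hom := FintypeCat.homMk (fun _ => b)
      comm := fun g => by
        apply FintypeCat.hom_ext
        intro x
        exact (hb g).symm }
  obtain ⟨s, hs⟩ := (functorToAction F).map_surjective f
  refine ⟨s, fun t => ?_⟩
  have := congrArg (fun k => k.hom t) hs
  simp only [functorToAction_map, f] at this
  exact this

theorem exists_section_iff_fixed {Y : C} (b : F.obj Y) :
    (∃ s : ⊤_ C ⟶ Y, ∀ t : F.obj (⊤_ C), F.map s t = b) ↔ ∀ σ : Aut F, σ • b = b :=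
  ⟨fun ⟨s, hs⟩ σ => fixed_of_section F b s hs σ, exists_section_of_fixed F b⟩

end Groth.Agent.Helper2.Gal1
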