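import Mathlib
import Groth.Prelude.Def_Pi1X
import Groth.Agent.Helper2.Gal1

set_option autoImplicit false
universe u v w
open CategoryTheory PreGaloisCategory

namespace Groth.Agent.Helper2.Gal2
open CategoryTheory PreGaloisCategory Limits Functor Groth.Agent.Helper2.Gal1

variable {C : Type u} [Category.{v} C] [GaloisCategory C]
  (F : C ⥤ FintypeCat.{w}) [FiberFunctor F]

theorem jointly_surjective_sigma {ι : Type} [Finite ι] (f : ι → C) (x : F.obj (∐ f)) :
    ∃ (i : ι) (a : F.obj (f i)), F.map (Sigma.ι f i) a = x := by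
  haveI : Fintype ι := Fintype.ofFinite ι
  obtain ⟨⟨j⟩, a, ha⟩ := Limits.FintypeCat.jointly_surjective
    (Discrete.functor f ⋙ F) _ (Limits.isColimitOfPreserves F (colimit.isColimit (Discrete.functor f))) x
  exact ⟨j, a, ha⟩

theorem trivial_of_iso_coprod_terminal {Y : C} {n : ℕ} (e : Y ≅ ∐ fun _ : Fin n => ⊤_ C)
    (σ : Aut F) (b : F.obj Y) : σ • b = b := by
  obtain ⟨i, t, ht⟩ := jointly_surjective_sigma F (fun _ : Fin n => ⊤_ C) (F.map e.hom b)
  letI := uniqueFiberTerminal F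
  apply fixed_of_section F b (Sigma.ι (fun _ : Fin n => ⊤_ C) i ≫ e.inv)
  intro t'
  have : t' = t := Subsingleton.elim _ _
  rw [this, F.map_comp, FintypeCat.comp_apply, ht, ← FintypeCat.comp_apply, ← F.map_comp,
    e.hom_inv_id, F.map_id, FintypeCat.id_apply]

theorem exists_iso_coprod_terminal_of_trivial {Y : C} (h : ∀ (σ : Aut F) (b : F.obj Y), σ • b = b) :
    ∃ n : ℕ, Nonempty (Y ≅ ∐ fun _ : Fin n => ⊤_ C) := by
  letI := uniqueFiberTerminal F
  haveI : Fintype (F.obj Y) := Fintype.ofFinite _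
  let n := Fintype.card (F.obj Y)
  let e : Fin n ≃ F.obj Y := (Fintype.equivFin (F.obj Y)).symm
  choose s hs using fun i : Fin n => exists_section_of_fixed F (e i) (fun σ => h σ (e i))
  let g : (∐ fun _ : Fin n => ⊤_ C) ⟶ Y := Sigma.desc s
  have hg : ∀ (i : Fin n) (t : F.obj (⊤_ C)),
      F.map g (F.map (Sigma.ι (fun _ : Fin n => ⊤_ C) i) t) = e i := by
    intro i t
    rw [← FintypeCat.comp_apply, ← F.map_comp, Sigma.ι_desc, hs]
  have hbij : Function.Bijective (F.map g) := by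
    constructor
    · intro x x' hxx'
      obtain ⟨i, t, rfl⟩ := jointly_surjective_sigma F (fun _ : Fin n => ⊤_ C) x
      obtain ⟨j, t', rfl⟩ := jointly_surjective_sigma F (fun _ : Fin n => ⊤_ C) x'
      rw [hg, hg] at hxx'
      have hij : i = j := e.injective hxx'
      subst hij
      have : t = t' := Subsingleton.elim _ _
      rw [this]
    · intro y
      obtain ⟨i, rfl⟩ := e.surjective y
      exact ⟨F.map (Sigma.ι (fun _ : Fin n => ⊤_ C) i) default, hg i default⟩
  haveI : IsIso (F.map g) := (ConcreteCategory.isIso_iff_bijective (F.map g)).2 hbij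
  haveI : IsIso g := isIso_of_reflects_iso g F
  exact ⟨n, ⟨(asIso g).symm⟩⟩

theorem trivial_iff_iso_coprod_terminal {Y : C} :
    (∀ (σ : Aut F) (b : F.obj Y), σ • b = b) ↔ ∃ n : ℕ, Nonempty (Y ≅ ∐ fun _ : Fin n => ⊤_ C) :=
  ⟨exists_iso_coprod_terminal_of_trivial F, fun ⟨_, ⟨e⟩⟩ σ b => trivial_of_iso_coprod_terminal F e σ b⟩

theorem subgroup_normalClosure_le_iff {G : Type*} [Group G] (s : Set G) (K : Subgroup G) :
    Subgroup.normalClosure s ≤ K ↔ ∀ x ∈ s, ∀ g : G, g * x * g⁻¹ ∈ K := by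
  constructor
  · intro h x hx g
    apply h
    apply Subgroup.conjugatesOfSet_subset_normalClosure
    rw [Group.mem_conjugatesOfSet_iff]
    exact ⟨x, hx, isConj_iff.2 ⟨g, rfl⟩⟩
  · intro h
    unfold Subgroup.normalClosure
    rw [Subgroup.closure_le]
    intro y hy
    rw [Group.mem_conjugatesOfSet_iff] at hy
    obtain ⟨x, hx, hxy⟩ := hy
    obtain ⟨g, rfl⟩ := isConj_iff.1 hxy
    exact h x hx g

end Groth.Agent.Helper2.Gal2
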