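import Mathlib
import Groth.Prelude.Def_Pi1X
import Groth.Agent.Helper2.Gal2

set_option autoImplicit false
universe u v w
open CategoryTheory PreGaloisCategory Limits

namespace Groth.Agent.Helper2.Gal3
open CategoryTheory PreGaloisCategory Limits Functor Groth.Agent.Helper2.Gal1 Groth.Agent.Helper2.Gal2

section single
variable {C : Type u} [Category.{v} C] [GaloisCategory C]
  (F : C ⥤ FintypeCat.{w}) [FiberFunctor F]

/-- the coproduct injections into a finite coproduct have disjoint images on fibres -/
theorem sigma_fiber_disjoint {ι : Type} [Finite ι] (f : ι → C) (i j : ι) (a : F.obj (f i))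
    (b : F.obj (f j)) (h : F.map (Sigma.ι f i) a = F.map (Sigma.ι f j) b) : i = j := by
  haveI : Fintype ι := Fintype.ofFinite ι
  let hc := Limits.isColimitOfPreserves F (colimit.isColimit (Discrete.functor f))
  let c : Cocone (Discrete.functor f ⋙ F) :=
    { pt := FintypeCat.of (ULift.{w} ι)
      ι := Discrete.natTrans (fun ⟨k⟩ => FintypeCat.homMk (fun _ => ULift.up k)) }
  let d := hc.desc c
  have hd : ∀ (k : ι) (z : F.obj (f k)), d (F.map (Sigma.ι f k) z) = ULift.up k := by
    intro k z
    have := hc.fac c ⟨k⟩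
    have h2 := congrArg (fun m => m z) this
    exact h2
  have := congrArg d h
  rw [hd, hd] at this
  exact ULift.up_injective this

/-- an object whose fibre is nonempty with transitive action is connected -/
theorem isConnected_of_pretransitive (X : C) [Nonempty (F.obj X)]
    [MulAction.IsPretransitive (Aut F) (F.obj X)] : IsConnected X := by
  refine ⟨?_, ?_⟩
  · intro hi
    obtain ⟨x⟩ := (inferInstance : Nonempty (F.obj X))
    exact not_initial_of_inhabited F x hi
  · intro Y i _ hY
    obtain ⟨y⟩ := (not_initial_iff_fiber_nonempty F Y).1 hY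
    have hsurj : Function.Surjective (F.map i) := by
      intro x
      obtain ⟨σ, hσ⟩ := MulAction.exists_smul_eq (Aut F) (F.map i y) x
      refine ⟨σ • y, ?_⟩
      rw [← mulAction_naturality, hσ]
    have hinj : Function.Injective (F.map i) :=
      (ConcreteCategory.mono_iff_injective_of_preservesPullback (F.map i)).1 inferInstance
    haveI : IsIso (F.map i) := (ConcreteCategory.isIso_iff_bijective (F.map i)).2 ⟨hinj, hsurj⟩
    exact isIso_of_reflects_iso i F

end single

section pair
variable {C C' : Type u} [Category.{v} C] [Category.{v} C'] [GaloisCategory C] [GaloisCategory C']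
  (H : C ⥤ C') (F' : C' ⥤ FintypeCat.{w}) [FiberFunctor F'] [FiberFunctor (H ⋙ F')]

/-- The action of `Aut F'` on the fibres of `H ⋙ F'`. -/
instance actionComp (X : C) : MulAction (Aut F') ((H ⋙ F').obj X) :=
  inferInstanceAs (MulAction (Aut F') (F'.obj (H.obj X)))

theorem actionComp_def (X : C) (σ : Aut F') (x : (H ⋙ F').obj X) :
    σ • x = (Pi1X.autWhisker H F' σ) • x := rfl

instance : IsNaturalSMul (H ⋙ F') (Aut F') where
  naturality g {X Y} f x := by
    rw [actionComp_def, actionComp_def]
    exact (mulAction_naturality (H ⋙ F') _ f x).symm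

instance (X : C) : ContinuousSMul (Aut F') ((H ⋙ F').obj X) :=
  inferInstanceAs (ContinuousSMul (Aut F') (F'.obj (H.obj X)))

theorem toAut_eq : toAut (H ⋙ F') (Aut F') = Pi1X.autWhisker H F' := by
  ext σ X x
  rfl

theorem continuous_autWhisker : Continuous (Pi1X.autWhisker H F') := by
  rw [← toAut_eq]
  exact toAut_continuous (H ⋙ F') (Aut F')

theorem surjective_of_pretransitive
    (h : ∀ (X : C) [IsConnected X], MulAction.IsPretransitive (Aut F') (F'.obj (H.obj X))) :
    Function.Surjective (Pi1X.autWhisker H F') := by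
  rw [← toAut_eq]
  apply toAut_surjective_of_isPretransitive
  intro X hX
  haveI : IsConnected X := hX.toIsConnected
  exact h X

theorem pretransitive_of_surjective (h : Function.Surjective (Pi1X.autWhisker H F'))
    (X : C) [IsConnected X] : MulAction.IsPretransitive (Aut F') (F'.obj (H.obj X)) := by
  rw [← toAut_eq] at h
  exact isPretransitive_of_surjective (H ⋙ F') (G := Aut F') h X

/-- surjective on fundamental groups implies full -/
theorem full_of_surjective (h : Function.Surjective (Pi1X.autWhisker H F')) : H.Full := by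
  constructor
  intro X Y g'
  let f : (functorToAction (H ⋙ F')).obj X ⟶ (functorToAction (H ⋙ F')).obj Y :=
    { hom := F'.map g'
      comm := fun τ => by
        obtain ⟨σ, rfl⟩ := h τ
        exact (σ.hom.naturality g').symm }
  obtain ⟨g, hg⟩ := (functorToAction (H ⋙ F')).map_surjective f
  refine ⟨g, ?_⟩
  apply F'.map_injective
  have := congrArg (fun k => k.hom) hg
  exact this

include F' in
theorem faithful_of_fiberFunctor : H.Faithful := by
  constructor
  intro X Y f g hfg
  apply (H ⋙ F').map_injective
  simp [hfg]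

open Classical in
/-- full implies: connected objects go to objects with transitive action -/
theorem pretransitive_of_full [H.Full] (X : C) [IsConnected X] :
    MulAction.IsPretransitive (Aut F') (F'.obj (H.obj X)) := by
  constructor
  intro x y
  letI := uniqueFiberTerminal (H ⋙ F')
  let T : C := ∐ (fun _ : Fin 2 => ⊤_ C)
  let a : Fin 2 → (H ⋙ F').obj T := fun i =>
    (H ⋙ F').map (Sigma.ι (fun _ : Fin 2 => ⊤_ C) i) default
  have ha01 : a 0 ≠ a 1 := by
    intro h
    have := sigma_fiber_disjoint (H ⋙ F') (fun _ : Fin 2 => ⊤_ C) 0 1 default default h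
    exact absurd this (by decide)
  have hafix : ∀ (i : Fin 2) (τ : Aut (H ⋙ F')), τ • a i = a i := by
    intro i τ
    apply fixed_of_section (H ⋙ F') (a i) (Sigma.ι (fun _ : Fin 2 => ⊤_ C) i)
    intro t
    have : t = default := Subsingleton.elim _ _
    rw [this]
  let O : Set (F'.obj (H.obj X)) := {z | ∃ σ : Aut F', σ • x = z}
  have hO : ∀ (σ : Aut F') (z : F'.obj (H.obj X)), σ • z ∈ O ↔ z ∈ O := by
    intro σ z
    constructor
    · rintro ⟨ρ, hρ⟩
      exact ⟨σ⁻¹ * ρ, by rw [mul_smul, hρ, inv_smul_smul]⟩
    · rintro ⟨ρ, hρ⟩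
      exact ⟨σ * ρ, by rw [mul_smul, hρ]⟩
  let χ : F'.obj (H.obj X) → F'.obj (H.obj T) := fun z => if z ∈ O then a 0 else a 1
  have hχfix : ∀ (σ : Aut F') (z : F'.obj (H.obj X)), σ • χ z = χ z := by
    intro σ z
    simp only [χ]
    split_ifs
    · exact hafix 0 (Pi1X.autWhisker H F' σ)
    · exact hafix 1 (Pi1X.autWhisker H F' σ)
  have hχσ : ∀ (σ : Aut F') (z : F'.obj (H.obj X)), χ (σ • z) = χ z := by
    intro σ z
    have hz := hO σ z
    by_cases hzO : z ∈ O
    · have h1 : σ • z ∈ O := hz.2 hzO
      simp only [χ, if_pos hzO, if_pos h1]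
    · have h1 : σ • z ∉ O := fun h => hzO (hz.1 h)
      simp only [χ, if_neg hzO, if_neg h1]
  let f : (functorToAction F').obj (H.obj X) ⟶ (functorToAction F').obj (H.obj T) :=
    { hom := FintypeCat.homMk χ
      comm := fun σ => by
        apply FintypeCat.hom_ext
        intro z
        change χ (σ • z) = σ • χ z
        rw [hχfix]
        exact hχσ σ z }
  obtain ⟨g', hg'⟩ := (functorToAction F').map_surjective f
  obtain ⟨g, rfl⟩ := H.map_surjective g'
  have hg : ∀ z : (H ⋙ F').obj X, (H ⋙ F').map g z = χ z := by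
    intro z
    have := congrArg (fun k => k.hom z) hg'
    exact this
  obtain ⟨τ, hτ⟩ := MulAction.exists_smul_eq (Aut (H ⋙ F')) (α := (H ⋙ F').obj X) x y
  have h1 : χ y = χ x := by
    rw [← hg y, ← hτ, ← mulAction_naturality, hg x]
    simp only [χ]
    split_ifs
    · exact hafix 0 τ
    · exact hafix 1 τ
  have hx : x ∈ O := ⟨1, one_smul _ _⟩
  have h2 : χ x = a 0 := by simp only [χ, if_pos hx]
  by_contra hy
  have hy' : y ∉ O := hy
  have h3 : χ y = a 1 := by simp only [χ, if_neg hy']
  rw [h2, h3] at h1
  exact ha01 h1.symm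

end pair

end Groth.Agent.Helper2.Gal3
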