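import Mathlib
import Groth.Prelude.Def_Pi1X
import Groth.Agent.Helper2.Gal3

set_option autoImplicit false
universe u v w
open CategoryTheory PreGaloisCategory Limits

namespace Groth.Agent.Helper2.Gal4
open CategoryTheory PreGaloisCategory Limits Functor Groth.Agent.Helper2.Gal1 Groth.Agent.Helper2.Gal2
  Groth.Agent.Helper2.Gal3

section single
variable {C : Type u} [Category.{v} C] [GaloisCategory C]
  (F : C ⥤ FintypeCat.{w}) [FiberFunctor F]

theorem map_injective_of_mono {X Y : C} (i : X ⟶ Y) [Mono i] : Function.Injective (F.map i) :=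
  (ConcreteCategory.mono_iff_injective_of_preservesPullback (F.map i)).1 inferInstance

/-- For a connected pointed object `(Y, y)` and a pointed object `(X, x)` with
`Stab y ≤ Stab x` there is a morphism `Y ⟶ X` sending `y` to `x`. -/
theorem exists_hom_of_stabilizer_le {Y X : C} [IsConnected Y] (y : F.obj Y) (x : F.obj X)
    (h : MulAction.stabilizer (Aut F) y ≤ MulAction.stabilizer (Aut F) x) :
    ∃ q : Y ⟶ X, F.map q y = x := by
  have hex : ∀ z : F.obj Y, ∃ σ : Aut F, σ • y = z := fun z => MulAction.exists_smul_eq (Aut F) y z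
  choose s hs using hex
  let m : F.obj Y → F.obj X := fun z => s z • x
  have hm : ∀ (σ : Aut F), m (σ • y) = σ • x := by
    intro σ
    have h1 : (σ⁻¹ * s (σ • y)) ∈ MulAction.stabilizer (Aut F) y := by
      rw [MulAction.mem_stabilizer_iff, mul_smul, hs, inv_smul_smul]
    have h2 := h h1
    rw [MulAction.mem_stabilizer_iff, mul_smul] at h2
    have := congrArg (fun t => σ • t) h2
    simp only [smul_inv_smul] at this
    exact this
  let f : (functorToAction F).obj Y ⟶ (functorToAction F).obj X :=
    { hom := FintypeCat.homMk m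
      comm := fun ρ => by
        apply FintypeCat.hom_ext
        intro z
        have key : ∀ z' : F.obj Y, m (ρ • z') = ρ • m z' := by
          intro z'
          obtain ⟨σ, rfl⟩ := MulAction.exists_smul_eq (Aut F) y z'
          rw [← mul_smul, hm, hm, mul_smul]
        exact key z }
  obtain ⟨q, hq⟩ := (functorToAction F).map_surjective f
  refine ⟨q, ?_⟩
  have := congrArg (fun k => k.hom y) hq
  have h1 : F.map q y = m y := this
  rw [h1]
  have := hm 1
  rwa [one_smul, one_smul] at this

end single

section pair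
variable {C C' : Type u} [Category.{v} C] [Category.{v} C'] [GaloisCategory C] [GaloisCategory C']
  (H : C ⥤ C') (F' : C' ⥤ FintypeCat.{w}) [FiberFunctor F'] [FiberFunctor (H ⋙ F')]

theorem ker_smul (σ : Aut F') (hσ : σ ∈ (Pi1X.autWhisker H F').ker) (X : C)
    (z : F'.obj (H.obj X)) : σ • z = z := by
  have h1 : Pi1X.autWhisker H F' σ = 1 := hσ
  have : (Pi1X.autWhisker H F' σ) • (show (H ⋙ F').obj X from z) = z := by rw [h1, one_smul]
  exact this

/-- the kernel acts trivially on connected subobjects of objects in the image -/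
theorem ker_le_stabilizer_of_mono {X : C} {Y' X' : C'} (i : Y' ⟶ H.obj X) [Mono i] (q : Y' ⟶ X')
    (b : F'.obj Y') : (Pi1X.autWhisker H F').ker ≤ MulAction.stabilizer (Aut F') (F'.map q b) := by
  intro σ hσ
  rw [MulAction.mem_stabilizer_iff, mulAction_naturality]
  congr 1
  apply map_injective_of_mono F' i
  rw [← mulAction_naturality]
  exact ker_smul H F' σ hσ X _

/-- key topological step: an open subgroup containing the kernel contains the preimage
of the stabilizer of a point of a Galois object -/
theorem exists_galois_of_ker_le (U' : Subgroup (Aut F')) (hU' : IsOpen (U' : Set (Aut F')))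
    (hker : (Pi1X.autWhisker H F').ker ≤ U') :
    ∃ (A : C) (_ : IsGalois A) (a : F'.obj (H.obj A)), MulAction.stabilizer (Aut F') a ≤ U' := by
  let K : Set (Aut F') := (U' : Set (Aut F'))ᶜ
  have hKc : IsCompact K := hU'.isClosed_compl.isCompact
  have hcont := continuous_autWhisker H F'
  have himg : IsClosed ((Pi1X.autWhisker H F') '' K) := (hKc.image hcont).isClosed
  let W : Set (Aut (H ⋙ F')) := ((Pi1X.autWhisker H F') '' K)ᶜ
  have hWo : IsOpen W := himg.isOpen_compl
  have h1W : (1 : Aut (H ⋙ F')) ∈ W := by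
    rintro ⟨g, hgK, hg⟩
    exact hgK (hker hg)
  have hWn : W ∈ nhds (1 : Aut (H ⋙ F')) := hWo.mem_nhds h1W
  obtain ⟨P, -, hP⟩ := (nhds_one_has_basis_stabilizers (H ⋙ F')).mem_iff.1 hWn
  refine ⟨P.obj, P.isGalois, P.pt, ?_⟩
  intro σ hσ
  by_contra hσU
  have h2 : Pi1X.autWhisker H F' σ ∈ MulAction.stabilizer (Aut (H ⋙ F')) P.pt := hσ
  exact hP h2 ⟨σ, hσU, rfl⟩

end pair

end Groth.Agent.Helper2.Gal4
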