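import Mathlib
import Groth.Prelude.Def_Pi1X
import Groth.Agent.Helper2.Gal4

set_option autoImplicit false
universe u v w
open CategoryTheory PreGaloisCategory Limits

namespace Groth.Agent.Helper2.Gal5
open CategoryTheory PreGaloisCategory Limits Functor Groth.Agent.Helper2.Gal1 Groth.Agent.Helper2.Gal2
  Groth.Agent.Helper2.Gal3 Groth.Agent.Helper2.Gal4

section small
variable {C : Type u} [Category.{v} C] [GaloisCategory C]
  (F : C ⥤ FintypeCat.{u}) [FiberFunctor F]

/-- Every open subgroup of `Aut F` is the stabilizer of a point of a connected object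
(universe-restricted version). -/
theorem exists_pointed_stabilizer_eq_small (V : OpenSubgroup (Aut F)) :
    ∃ (X : C) (_ : IsConnected X) (x : F.obj X),
      MulAction.stabilizer (Aut F) x = V.toSubgroup := by
  obtain ⟨X, ⟨φ⟩⟩ := exists_lift_of_quotient_openSubgroup (F := F) V
  let x : F.obj X := φ.inv.hom (QuotientGroup.mk (1 : Aut F))
  have hφx : φ.hom.hom x = QuotientGroup.mk (1 : Aut F) := by
    have := congrArg (fun k => k.hom (QuotientGroup.mk (1 : Aut F))) φ.inv_hom_id
    exact this
  have hcomm : ∀ (σ : Aut F) (z : F.obj X), φ.hom.hom (σ • z) = σ • φ.hom.hom z := by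
    intro σ z
    have := congrArg (fun k => k z) (φ.hom.comm σ)
    exact this
  have hinj : Function.Injective φ.hom.hom := by
    intro z z' hzz'
    have h1 := congrArg (fun k => k.hom z) φ.hom_inv_id
    have h2 := congrArg (fun k => k.hom z') φ.hom_inv_id
    simp only [Action.comp_hom, Action.id_hom, FintypeCat.comp_apply, FintypeCat.id_apply] at h1 h2
    rw [← h1, ← h2, hzz']
  have hstab : MulAction.stabilizer (Aut F) x = V.toSubgroup := by
    ext σ
    rw [MulAction.mem_stabilizer_iff]
    constructor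
    · intro h
      have h1 := congrArg φ.hom.hom h
      rw [hcomm, hφx] at h1
      have h2 : (QuotientGroup.mk (σ * 1) : Aut F ⧸ V.toSubgroup) = QuotientGroup.mk 1 := h1
      rw [QuotientGroup.eq] at h2
      simpa using h2
    · intro h
      apply hinj
      rw [hcomm, hφx]
      change (QuotientGroup.mk (σ * 1) : Aut F ⧸ V.toSubgroup) = QuotientGroup.mk 1
      rw [QuotientGroup.eq]
      simpa using h
  haveI : Nonempty (F.obj X) := ⟨x⟩
  haveI : MulAction.IsPretransitive (Aut F) (F.obj X) := by
    constructor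
    intro z z'
    obtain ⟨g, hg⟩ := QuotientGroup.mk_surjective (φ.hom.hom z)
    obtain ⟨g', hg'⟩ := QuotientGroup.mk_surjective (φ.hom.hom z')
    refine ⟨g' * g⁻¹, ?_⟩
    apply hinj
    rw [hcomm, ← hg, ← hg']
    change (QuotientGroup.mk (g' * g⁻¹ * g) : Aut F ⧸ V.toSubgroup) = _
    simp
  exact ⟨X, isConnected_of_pretransitive F X, x, hstab⟩

end small

section general
variable {C : Type u} [Category.{v} C] [GaloisCategory C]
  (F : C ⥤ FintypeCat.{w}) [FiberFunctor F]

/-- Every open subgroup of `Aut F` is the stabilizer of a point of a connected object. -/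
theorem exists_pointed_stabilizer_eq (V : Subgroup (Aut F)) (hV : IsOpen (V : Set (Aut F))) :
    ∃ (X : C) (_ : IsConnected X) (x : F.obj X), MulAction.stabilizer (Aut F) x = V := by
  let E : FintypeCat.{w} ⥤ FintypeCat.{u} := FintypeCat.uSwitch.{w, u}
  let Fs : C ⥤ FintypeCat.{u} := F ⋙ E
  haveI : FiberFunctor Fs := FiberFunctor.comp_right _
  let hE : E.FullyFaithful := Functor.FullyFaithful.ofFullyFaithful E
  let e : Aut F ≃ₜ* Aut Fs := autEquivAutWhiskerRight F hE
  have he : ∀ (σ : Aut F) (X : C), (e σ).hom.app X = E.map (σ.hom.app X) := fun σ X => rfl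
  let Vs : OpenSubgroup (Aut Fs) :=
    ⟨V.map e.toMulEquiv.toMonoidHom, by
      have : ((V.map e.toMulEquiv.toMonoidHom : Subgroup (Aut Fs)) : Set (Aut Fs)) = e '' (V : Set (Aut F)) := rfl
      change IsOpen ((V.map e.toMulEquiv.toMonoidHom : Subgroup (Aut Fs)) : Set (Aut Fs))
      rw [this]
      exact e.toHomeomorph.isOpenMap _ hV⟩
  obtain ⟨X, hX, xs, hxs⟩ := exists_pointed_stabilizer_eq_small Fs Vs
  let x : F.obj X := (F.obj X).uSwitchEquiv xs
  refine ⟨X, hX, x, ?_⟩
  have hsmul : ∀ σ : Aut F, σ • x = (F.obj X).uSwitchEquiv ((e σ) • xs) := by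
    intro σ
    change σ.hom.app X ((F.obj X).uSwitchEquiv xs) = (F.obj X).uSwitchEquiv ((e σ).hom.app X xs)
    rw [he, FintypeCat.uSwitchEquiv_naturality]
  ext σ
  rw [MulAction.mem_stabilizer_iff, hsmul]
  constructor
  · intro h
    have h1 : (e σ) • xs = xs := (F.obj X).uSwitchEquiv.injective h
    have h2 : e σ ∈ MulAction.stabilizer (Aut Fs) xs := h1
    rw [hxs] at h2
    obtain ⟨τ, hτ, hτσ⟩ := h2
    have : τ = σ := e.injective hτσ
    rw [← this]
    exact hτ
  · intro h
    have h2 : e σ ∈ MulAction.stabilizer (Aut Fs) xs := by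
      rw [hxs]
      exact ⟨σ, h, rfl⟩
    have h1 : (e σ) • xs = xs := h2
    rw [h1]

end general

end Groth.Agent.Helper2.Gal5
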