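import Mathlib
import Groth.Prelude.Def_Pi1X
import Groth.Agent.Helper2.Gal5

set_option autoImplicit false
universe u v w
open CategoryTheory PreGaloisCategory Limits

namespace Groth.Agent.Helper2.Gal6
open CategoryTheory PreGaloisCategory Limits Functor Groth.Agent.Helper2.Gal1 Groth.Agent.Helper2.Gal2
  Groth.Agent.Helper2.Gal3 Groth.Agent.Helper2.Gal4 Groth.Agent.Helper2.Gal5

section
variable {C : Type u} [Category.{v} C] [GaloisCategory C]
  (F : C ⥤ FintypeCat.{w}) [FiberFunctor F]

/-- A closed subgroup is the intersection of the stabilizers of connected pointed objects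
containing it: separation form. -/
theorem exists_pointed_of_not_mem_closed (R : Subgroup (Aut F)) (hR : IsClosed (R : Set (Aut F)))
    (σ : Aut F) (hσ : σ ∉ R) :
    ∃ (X : C) (_ : IsConnected X) (x : F.obj X),
      R ≤ MulAction.stabilizer (Aut F) x ∧ σ ∉ MulAction.stabilizer (Aut F) x := by
  let W : Set (Aut F) := (fun g => σ * g) ⁻¹' (R : Set (Aut F))ᶜ
  have hWo : IsOpen W := hR.isOpen_compl.preimage (continuous_const_mul σ)
  have h1W : (1 : Aut F) ∈ W := by
    change σ * 1 ∉ R
    rwa [mul_one]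
  obtain ⟨P, -, hP⟩ := (nhds_one_has_basis_stabilizers F).mem_iff.1 (hWo.mem_nhds h1W)
  haveI := P.isGalois
  let N : Subgroup (Aut F) := MulAction.stabilizer (Aut F) P.pt
  haveI hN : N.Normal := stabilizer_normal_of_isGalois F P.obj P.pt
  have hNo : IsOpen (N : Set (Aut F)) := stabilizer_isOpen (Aut F) P.pt
  let V : Subgroup (Aut F) := R ⊔ N
  have hVo : IsOpen (V : Set (Aut F)) := Subgroup.isOpen_mono (le_sup_right : N ≤ V) hNo
  obtain ⟨X, hX, x, hx⟩ := exists_pointed_stabilizer_eq F V hVo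
  refine ⟨X, hX, x, ?_, ?_⟩
  · rw [hx]; exact le_sup_left
  · rw [hx]
    intro hσV
    have : σ ∈ ((R ⊔ N : Subgroup (Aut F)) : Set (Aut F)) := hσV
    rw [Subgroup.mul_normal] at this
    obtain ⟨r, hr, n, hn, hrn⟩ := this
    have h2 : n⁻¹ ∈ W := hP (N.inv_mem hn)
    apply h2
    change σ * n⁻¹ ∈ R
    rw [← hrn]
    simpa using hr

end

end Groth.Agent.Helper2.Gal6
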