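import Mathlib
import Groth.Prelude.Def_Pi1X
import Groth.Agent.Helper2.Gal6

set_option autoImplicit false
universe u v w
open CategoryTheory PreGaloisCategory Limits

namespace Groth.Agent.Helper2.Gal7
open CategoryTheory PreGaloisCategory Limits Functor Groth.Agent.Helper2.Gal1 Groth.Agent.Helper2.Gal2
  Groth.Agent.Helper2.Gal3 Groth.Agent.Helper2.Gal4 Groth.Agent.Helper2.Gal5 Groth.Agent.Helper2.Gal6

section single
variable {C : Type u} [Category.{v} C] [GaloisCategory C]
  (F : C ⥤ FintypeCat.{w}) [FiberFunctor F]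

/-- the kernel of the action of `Aut F` on the fibre of `X` -/
def K (X : C) : Subgroup (Aut F) := ⨅ x : F.obj X, MulAction.stabilizer (Aut F) x

theorem mem_K {X : C} (g : Aut F) : g ∈ K F X ↔ ∀ x : F.obj X, g • x = x := by
  simp [K, Subgroup.mem_iInf, MulAction.mem_stabilizer_iff]

instance K_normal (X : C) : (K F X).Normal := by
  constructor
  intro n hn g
  rw [mem_K] at hn ⊢
  intro x
  rw [mul_smul, mul_smul, hn, smul_inv_smul]

theorem K_isClosed (X : C) : IsClosed ((K F X : Subgroup (Aut F)) : Set (Aut F)) := by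
  have : ((K F X : Subgroup (Aut F)) : Set (Aut F)) =
      ⋂ x : F.obj X, ((MulAction.stabilizer (Aut F) x : Subgroup (Aut F)) : Set (Aut F)) := by
    ext g
    simp [K, Subgroup.mem_iInf]
  rw [this]
  apply isClosed_iInter
  intro x
  exact Subgroup.isClosed_of_isOpen _ (stabilizer_isOpen (Aut F) x)

/-- for a connected object with a point whose stabilizer is normal, `K` is that stabilizer -/
theorem K_eq_stabilizer_of_normal {X : C} [IsConnected X] (x : F.obj X)
    (h : (MulAction.stabilizer (Aut F) x).Normal) : K F X = MulAction.stabilizer (Aut F) x := by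
  apply le_antisymm
  · exact iInf_le _ x
  · intro g hg
    rw [mem_K]
    intro z
    obtain ⟨τ, rfl⟩ := MulAction.exists_smul_eq (Aut F) x z
    have h1 := h.conj_mem g hg τ⁻¹
    rw [MulAction.mem_stabilizer_iff, inv_inv, mul_smul, mul_smul] at h1
    have := congrArg (fun t => τ • t) h1
    simp only [smul_inv_smul] at this
    exact this

theorem K_le_of_iso {X Y : C} (e : X ≅ Y) : K F X ≤ K F Y := by
  intro g hg
  rw [mem_K] at hg ⊢
  intro y
  have : y = F.map e.hom (F.map e.inv y) := by
    rw [← FintypeCat.comp_apply, ← F.map_comp, e.inv_hom_id, F.map_id, FintypeCat.id_apply]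
  rw [this, mulAction_naturality, hg]

theorem K_le_of_mono {X Y : C} (i : X ⟶ Y) [Mono i] : K F Y ≤ K F X := by
  intro g hg
  rw [mem_K] at hg ⊢
  intro x
  apply map_injective_of_mono F i
  rw [← mulAction_naturality, hg]

/-- separation of closed normal subgroups by kernels of actions -/
theorem exists_K_of_not_mem_closed_normal (M : Subgroup (Aut F)) [hM : M.Normal]
    (hMc : IsClosed (M : Set (Aut F))) (σ : Aut F) (hσ : σ ∉ M) :
    ∃ X : C, M ≤ K F X ∧ σ ∉ K F X := by
  let W : Set (Aut F) := (fun g => σ * g) ⁻¹' (M : Set (Aut F))ᶜ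
  have hWo : IsOpen W := hMc.isOpen_compl.preimage (continuous_const_mul σ)
  have h1W : (1 : Aut F) ∈ W := by
    change σ * 1 ∉ M
    rwa [mul_one]
  obtain ⟨P, -, hP⟩ := (nhds_one_has_basis_stabilizers F).mem_iff.1 (hWo.mem_nhds h1W)
  haveI := P.isGalois
  let N : Subgroup (Aut F) := MulAction.stabilizer (Aut F) P.pt
  haveI hN : N.Normal := stabilizer_normal_of_isGalois F P.obj P.pt
  have hNo : IsOpen (N : Set (Aut F)) := stabilizer_isOpen (Aut F) P.pt
  let V : Subgroup (Aut F) := M ⊔ N
  have hVn : V.Normal := inferInstance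
  have hVo : IsOpen (V : Set (Aut F)) := Subgroup.isOpen_mono (le_sup_right : N ≤ V) hNo
  obtain ⟨X, hX, x, hx⟩ := exists_pointed_stabilizer_eq F V hVo
  have hKX : K F X = V := by
    rw [K_eq_stabilizer_of_normal F x (hx ▸ hVn), hx]
  refine ⟨X, ?_, ?_⟩
  · rw [hKX]; exact le_sup_left
  · rw [hKX]
    intro hσV
    have : σ ∈ ((M ⊔ N : Subgroup (Aut F)) : Set (Aut F)) := hσV
    rw [Subgroup.mul_normal] at this
    obtain ⟨r, hr, n, hn, hrn⟩ := this
    have h2 : n⁻¹ ∈ W := hP (N.inv_mem hn)
    apply h2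
    change σ * n⁻¹ ∈ M
    rw [← hrn]
    simpa using hr

theorem iso_of_stabilizer_eq {Y X : C} [IsConnected Y] [IsConnected X] (y : F.obj Y) (x : F.obj X)
    (h : MulAction.stabilizer (Aut F) y = MulAction.stabilizer (Aut F) x) : Nonempty (Y ≅ X) := by
  obtain ⟨f, hf⟩ := exists_hom_of_stabilizer_le F y x h.le
  haveI : Nonempty (F.obj Y) := ⟨y⟩
  have hsurj : Function.Surjective (F.map f) := surjective_of_nonempty_fiber_of_isConnected F f
  have hinj : Function.Injective (F.map f) := by
    intro z z' hzz'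
    obtain ⟨g, rfl⟩ := MulAction.exists_smul_eq (Aut F) y z
    obtain ⟨g', rfl⟩ := MulAction.exists_smul_eq (Aut F) y z'
    rw [← mulAction_naturality, ← mulAction_naturality, hf] at hzz'
    have h1 : g⁻¹ * g' ∈ MulAction.stabilizer (Aut F) x := by
      rw [MulAction.mem_stabilizer_iff, mul_smul, ← hzz', inv_smul_smul]
    rw [← h, MulAction.mem_stabilizer_iff, mul_smul] at h1
    have := congrArg (fun t => g • t) h1
    simp only [smul_inv_smul] at this
    exact this.symm
  haveI : IsIso (F.map f) := (ConcreteCategory.isIso_iff_bijective (F.map f)).2 ⟨hinj, hsurj⟩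
  haveI : IsIso f := isIso_of_reflects_iso f F
  exact ⟨asIso f⟩

end single

section pair
variable {C C' : Type u} [Category.{v} C] [Category.{v} C'] [GaloisCategory C] [GaloisCategory C']
  (H : C ⥤ C') (F' : C' ⥤ FintypeCat.{w}) [FiberFunctor F'] [FiberFunctor (H ⋙ F')]

theorem ker_le_K_of_iso {X : C} {X' : C'} (e : H.obj X ≅ X') :
    (Pi1X.autWhisker H F').ker ≤ K F' X' := by
  refine le_trans ?_ (K_le_of_iso F' e)
  intro g hg
  rw [mem_K]
  intro z
  exact ker_smul H F' g hg X z

theorem ker_isClosed : IsClosed (((Pi1X.autWhisker H F').ker : Subgroup (Aut F')) : Set (Aut F')) := by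
  have : (((Pi1X.autWhisker H F').ker : Subgroup (Aut F')) : Set (Aut F')) =
      (Pi1X.autWhisker H F') ⁻¹' {1} := by
    ext g
    simp [MonoidHom.mem_ker]
  rw [this]
  exact isClosed_singleton.preimage (continuous_autWhisker H F')

/-- connected case of the essential image criterion -/
theorem exists_iso_of_ker_le_connected (hsurj : Function.Surjective (Pi1X.autWhisker H F'))
    (X' : C') [IsConnected X'] (a' : F'.obj X')
    (hker : (Pi1X.autWhisker H F').ker ≤ MulAction.stabilizer (Aut F') a') :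
    ∃ X : C, Nonempty (H.obj X ≅ X') := by
  let u := Pi1X.autWhisker H F'
  let U' : Subgroup (Aut F') := MulAction.stabilizer (Aut F') a'
  have hU'o : IsOpen (U' : Set (Aut F')) := stabilizer_isOpen (Aut F') a'
  let U : Subgroup (Aut (H ⋙ F')) := U'.map u
  have hpre : ∀ g : Aut F', u g ∈ U → g ∈ U' := by
    rintro g ⟨h, hh, hhg⟩
    have h1 : h⁻¹ * g ∈ u.ker := by
      rw [MonoidHom.mem_ker, map_mul, _root_.map_inv, hhg, inv_mul_cancel]
    have h2 := hker h1
    have := U'.mul_mem hh h2
    simpa using this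
  have hUo : IsOpen (U : Set (Aut (H ⋙ F'))) := by
    have hcompl : ((U : Set (Aut (H ⋙ F'))))ᶜ = u '' ((U' : Set (Aut F'))ᶜ) := by
      ext τ
      constructor
      · intro hτ
        obtain ⟨g, rfl⟩ := hsurj τ
        refine ⟨g, ?_, rfl⟩
        intro hg
        exact hτ ⟨g, hg, rfl⟩
      · rintro ⟨g, hg, rfl⟩ hτ
        exact hg (hpre g hτ)
    rw [← isClosed_compl_iff, hcompl]
    exact (hU'o.isClosed_compl.isCompact.image (continuous_autWhisker H F')).isClosed
  obtain ⟨X, hX, x, hx⟩ := exists_pointed_stabilizer_eq (H ⋙ F') U hUo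
  haveI := hX
  haveI : MulAction.IsPretransitive (Aut F') (F'.obj (H.obj X)) :=
    pretransitive_of_surjective H F' hsurj X
  haveI : Nonempty (F'.obj (H.obj X)) := ⟨x⟩
  haveI : IsConnected (H.obj X) := isConnected_of_pretransitive F' (H.obj X)
  have hstab : MulAction.stabilizer (Aut F') (show F'.obj (H.obj X) from x) =
      MulAction.stabilizer (Aut F') a' := by
    ext g
    rw [MulAction.mem_stabilizer_iff]
    constructor
    · intro hg
      apply hpre g
      rw [← hx, MulAction.mem_stabilizer_iff]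
      exact hg
    · intro hg
      have : u g ∈ U := ⟨g, hg, rfl⟩
      rw [← hx, MulAction.mem_stabilizer_iff] at this
      exact this
  exact ⟨X, iso_of_stabilizer_eq F' (show F'.obj (H.obj X) from x) a' hstab⟩

/-- the essential image criterion -/
theorem exists_iso_of_ker_le [PreservesFiniteColimits H]
    (hsurj : Function.Surjective (Pi1X.autWhisker H F'))
    (X' : C') (hker : (Pi1X.autWhisker H F').ker ≤ K F' X') :
    ∃ X : C, Nonempty (H.obj X ≅ X') := by
  obtain ⟨ι, hι, f, e, hc⟩ := has_decomp_connected_components' X'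
  haveI := hι
  have hex : ∀ j : ι, ∃ X : C, Nonempty (H.obj X ≅ f j) := by
    intro j
    haveI := hc j
    obtain ⟨a'⟩ := nonempty_fiber_of_isConnected F' (f j)
    apply exists_iso_of_ker_le_connected H F' hsurj (f j) a'
    haveI : Mono (Sigma.ι f j ≫ e.hom) := by
      haveI : Mono (Sigma.ι f j) := MonoCoprod.mono_ι f j
      infer_instance
    refine hker.trans ((K_le_of_mono F' (Sigma.ι f j ≫ e.hom)).trans ?_)
    exact iInf_le _ a'
  choose Xj hXj using hex
  haveI : Fintype ι := Fintype.ofFinite ι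
  refine ⟨∐ Xj, ⟨?_⟩⟩
  exact PreservesCoproduct.iso H Xj ≪≫ Sigma.mapIso (fun j => (hXj j).some) ≪≫ e

end pair

end Groth.Agent.Helper2.Gal7
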