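import Mathlib
import Groth.Prelude.Def_Pi1X
import Groth.Agent.Helper2.Gal7

set_option autoImplicit false
universe u v w
open CategoryTheory PreGaloisCategory Limits

namespace Groth.Agent.Helper2.Gal8
open CategoryTheory PreGaloisCategory Limits Functor Groth.Agent.Helper2.Gal1 Groth.Agent.Helper2.Gal2
  Groth.Agent.Helper2.Gal3 Groth.Agent.Helper2.Gal4

variable {C : Type u} [Category.{v} C] [GaloisCategory C]

section G
variable (G : C ⥤ FintypeCat.{w})

section prod
variable [PreservesLimitsOfShape (Discrete WalkingPair) G]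

/-- The fiber of the binary product is the binary product of the fibers
(for a functor preserving binary products). -/
noncomputable def prodEquiv (X Y : C) : G.obj (X ⨯ Y) ≃ G.obj X × G.obj Y :=
  (PreservesLimitPair.iso (G ⋙ FintypeCat.incl) X Y ≪≫
  Types.binaryProductIso (G.obj X) (G.obj Y)).toEquiv

lemma prodEquiv_symm_fst_apply {X Y : C} (x : G.obj X) (y : G.obj Y) :
    G.map prod.fst ((prodEquiv G X Y).symm (x, y)) = x := by
  simp only [prodEquiv]
  change ((Types.binaryProductIso _ _).inv ≫ _ ≫ (G ⋙ FintypeCat.incl).map prod.fst) _ = _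
  erw [PreservesLimitPair.iso_inv_fst, Types.binaryProductIso_inv_comp_fst]
  rfl

lemma prodEquiv_symm_snd_apply {X Y : C} (x : G.obj X) (y : G.obj Y) :
    G.map prod.snd ((prodEquiv G X Y).symm (x, y)) = y := by
  simp only [prodEquiv]
  change ((Types.binaryProductIso _ _).inv ≫ _ ≫ (G ⋙ FintypeCat.incl).map prod.snd) _ = _
  erw [PreservesLimitPair.iso_inv_snd, Types.binaryProductIso_inv_comp_snd]
  rfl

lemma prodEquiv_apply {X Y : C} (z : G.obj (X ⨯ Y)) :
    prodEquiv G X Y z = (G.map prod.fst z, G.map prod.snd z) := by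
  obtain ⟨⟨x, y⟩, rfl⟩ := (prodEquiv G X Y).symm.surjective z
  rw [Equiv.apply_symm_apply, prodEquiv_symm_fst_apply, prodEquiv_symm_snd_apply]

lemma prod_ext {X Y : C} (z z' : G.obj (X ⨯ Y)) (h1 : G.map prod.fst z = G.map prod.fst z')
    (h2 : G.map prod.snd z = G.map prod.snd z') : z = z' := by
  apply (prodEquiv G X Y).injective
  rw [prodEquiv_apply, prodEquiv_apply, h1, h2]

lemma exists_prod {X Y : C} (x : G.obj X) (y : G.obj Y) :
    ∃ z : G.obj (X ⨯ Y), G.map prod.fst z = x ∧ G.map prod.snd z = y :=
  ⟨(prodEquiv G X Y).symm (x, y), prodEquiv_symm_fst_apply G x y, prodEquiv_symm_snd_apply G x y⟩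

end prod

section coprod
variable [PreservesFiniteCoproducts G]

theorem jointly_surjective_sigma' {n : ℕ} (f : Fin n → C) (x : G.obj (∐ f)) :
    ∃ (i : Fin n) (a : G.obj (f i)), G.map (Sigma.ι f i) a = x := by
  obtain ⟨⟨j⟩, a, ha⟩ := Limits.FintypeCat.jointly_surjective
    (Discrete.functor f ⋙ G) _ (Limits.isColimitOfPreserves G (colimit.isColimit (Discrete.functor f))) x
  exact ⟨j, a, ha⟩

theorem sigma_fiber_disjoint' {n : ℕ} (f : Fin n → C) (i j : Fin n) (a : G.obj (f i))
    (b : G.obj (f j)) (h : G.map (Sigma.ι f i) a = G.map (Sigma.ι f j) b) : i = j := by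
  let hc := Limits.isColimitOfPreserves G (colimit.isColimit (Discrete.functor f))
  let c : Cocone (Discrete.functor f ⋙ G) :=
    { pt := FintypeCat.of (ULift.{w} (Fin n))
      ι := Discrete.natTrans (fun ⟨k⟩ => FintypeCat.homMk (fun _ => ULift.up k)) }
  let d := hc.desc c
  have hd : ∀ (k : Fin n) (z : G.obj (f k)), d (G.map (Sigma.ι f k) z) = ULift.up k := by
    intro k z
    have := hc.fac c ⟨k⟩
    have h2 := congrArg (fun m => m z) this
    exact h2
  have := congrArg d h
  rw [hd, hd] at this
  exact ULift.up_injective this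

end coprod

end G

section split
variable (F : C ⥤ FintypeCat.{w}) [FiberFunctor F] (G : C ⥤ FintypeCat.{w})
  [PreservesLimitsOfShape (Discrete WalkingPair) G] [PreservesFiniteCoproducts G]

/-- If the Galois object `A` splits `X`, then evaluation at any point of `G.obj A` is a bijection
`(A ⟶ X) ≃ G.obj X`, for any `G` preserving binary products and finite coproducts. -/
theorem eval_bijective_of_split (A X : C) [IsGalois A]
    (hsplit : ∀ (b : F.obj A) (x : F.obj X), ∃ f : A ⟶ X, F.map f b = x) (a' : G.obj A) :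
    Function.Bijective (fun f : A ⟶ X => G.map f a') := by
  haveI : IsConnected A := inferInstance
  haveI : Finite (A ⟶ X) := inferInstance
  let n := Nat.card (A ⟶ X)
  let e : Fin n ≃ (A ⟶ X) := (Finite.equivFin (A ⟶ X)).symm
  let fam : Fin n → C := fun _ => A
  let Φ : ∐ fam ⟶ A ⨯ X := Sigma.desc (fun i => prod.lift (𝟙 A) (e i))
  have hΦfst : ∀ i, Sigma.ι fam i ≫ Φ ≫ prod.fst = 𝟙 A := by
    intro i
    rw [← Category.assoc, Sigma.ι_desc]
    exact prod.lift_fst _ _
  have hΦsnd : ∀ i, Sigma.ι fam i ≫ Φ ≫ prod.snd = e i := by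
    intro i
    rw [← Category.assoc, Sigma.ι_desc]
    exact prod.lift_snd _ _
  -- generic computation for any functor
  have hfst : ∀ (K : C ⥤ FintypeCat.{w}) (i : Fin n) (b : K.obj A),
      K.map prod.fst (K.map Φ (K.map (Sigma.ι fam i) b)) = b := by
    intro K i b
    rw [← FintypeCat.comp_apply, ← FintypeCat.comp_apply, ← K.map_comp, ← K.map_comp, hΦfst,
      K.map_id, FintypeCat.id_apply]
  have hsnd : ∀ (K : C ⥤ FintypeCat.{w}) (i : Fin n) (b : K.obj A),
      K.map prod.snd (K.map Φ (K.map (Sigma.ι fam i) b)) = K.map (e i) b := by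
    intro K i b
    rw [← FintypeCat.comp_apply, ← FintypeCat.comp_apply, ← K.map_comp, ← K.map_comp, hΦsnd]
  have hΦF : Function.Bijective (F.map Φ) := by
    constructor
    · intro w w' hww'
      obtain ⟨i, b, rfl⟩ := jointly_surjective_sigma' F fam w
      obtain ⟨j, c, rfl⟩ := jointly_surjective_sigma' F fam w'
      have h1 := congrArg (F.map prod.fst) hww'
      rw [hfst, hfst] at h1
      change b = c at h1
      subst h1
      have h2 := congrArg (F.map prod.snd) hww'
      rw [hsnd, hsnd] at h2
      have h3 : e i = e j := evaluation_injective_of_isConnected F A X b h2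
      have h4 : i = j := e.injective h3
      subst h4
      rfl
    · intro z
      obtain ⟨f, hf⟩ := hsplit (F.map prod.fst z) (F.map prod.snd z)
      refine ⟨F.map (Sigma.ι fam (e.symm f)) (F.map prod.fst z), ?_⟩
      apply prod_ext F
      · rw [hfst]
      · rw [hsnd, Equiv.apply_symm_apply, hf]
  haveI : IsIso (F.map Φ) := (ConcreteCategory.isIso_iff_bijective (F.map Φ)).2 hΦF
  haveI : IsIso Φ := isIso_of_reflects_iso Φ F
  have hΦG : Function.Bijective (G.map Φ) := ConcreteCategory.bijective_of_isIso (G.map Φ)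
  constructor
  · intro f g hfg
    have hfg' : G.map f a' = G.map g a' := hfg
    have h1 : G.map Φ (G.map (Sigma.ι fam (e.symm f)) a') =
        G.map Φ (G.map (Sigma.ι fam (e.symm g)) a') := by
      apply prod_ext G
      · rw [hfst, hfst]
      · rw [hsnd, hsnd, Equiv.apply_symm_apply, Equiv.apply_symm_apply, hfg']
    have h2 := hΦG.1 h1
    have h3 := sigma_fiber_disjoint' G fam _ _ _ _ h2
    exact e.symm.injective h3
  · intro x'
    obtain ⟨z, hz1, hz2⟩ := exists_prod G a' x'
    obtain ⟨w, rfl⟩ := hΦG.2 z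
    obtain ⟨i, b', rfl⟩ := jointly_surjective_sigma' G fam w
    rw [hfst] at hz1
    rw [hsnd] at hz2
    change b' = a' at hz1
    subst hz1
    exact ⟨e i, hz2⟩

end split

section iso
variable (F : C ⥤ FintypeCat.{w}) [FiberFunctor F]

/-- The category of pointed Galois objects is cofiltered (any universe). -/
theorem isCofilteredOrEmpty_pointed : IsCofilteredOrEmpty (PointedGaloisObject F) where
  cone_objs := fun ⟨A, a, _⟩ ⟨B, b, _⟩ ↦ by
    obtain ⟨Z, f, z, hgal, hfz⟩ := exists_hom_from_galois_of_fiber F (A ⨯ B)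
      <| (fiberBinaryProductEquiv F A B).symm (a, b)
    refine ⟨⟨Z, z, hgal⟩, ⟨f ≫ prod.fst, ?_⟩, ⟨f ≫ prod.snd, ?_⟩, trivial⟩
    · simp only [F.map_comp, hfz, FintypeCat.comp_apply, fiberBinaryProductEquiv_symm_fst_apply]
    · simp only [F.map_comp, hfz, FintypeCat.comp_apply, fiberBinaryProductEquiv_symm_snd_apply]
  cone_maps := fun ⟨A, a, _⟩ ⟨B, b, _⟩ ⟨f, hf⟩ ⟨g, hg⟩ ↦ by
    obtain ⟨Z, h, z, hgal, hhz⟩ := exists_hom_from_galois_of_fiber F A a
    refine ⟨⟨Z, z, hgal⟩, ⟨h, hhz⟩, PointedGaloisObject.hom_ext ?_⟩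
    apply evaluation_injective_of_isConnected F Z B z
    simp [hhz, hf, hg]

variable (G : C ⥤ FintypeCat.{w})
  [PreservesLimitsOfShape (Discrete WalkingPair) G] [PreservesFiniteCoproducts G]

/-- Main theorem: a functor to finite sets preserving binary products and finite coproducts,
with nonempty values on Galois objects, is isomorphic to the fibre functor. -/
theorem nonempty_iso_of_preserves (hne : ∀ (A : C) [IsGalois A], Nonempty (G.obj A)) :
    Nonempty (F ≅ G) := by
  haveI := isCofilteredOrEmpty_pointed F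
  let D : PointedGaloisObject F ⥤ Type w := PointedGaloisObject.incl F ⋙ G ⋙ FintypeCat.incl
  haveI : ∀ P, Finite (D.obj P) := fun P => inferInstanceAs (Finite (G.obj P.obj))
  haveI : ∀ P, Nonempty (D.obj P) := fun P => by
    haveI := P.isGalois
    exact hne P.obj
  obtain ⟨s, hs⟩ := nonempty_sections_of_finite_cofiltered_system D
  -- s P : G.obj P.obj, compatible
  have hs' : ∀ {P Q : PointedGaloisObject F} (g : P ⟶ Q), G.map g.val (s P) = s Q := fun g => hs g
  -- key well-definedness lemma
  have key : ∀ (X : C) (P Q : PointedGaloisObject F) (f : P.obj ⟶ X) (g : Q.obj ⟶ X),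
      F.map f P.pt = F.map g Q.pt → G.map f (s P) = G.map g (s Q) := by
    intro X P Q f g hfg
    obtain ⟨R, p, q, -⟩ := IsCofilteredOrEmpty.cone_objs P Q
    haveI := R.isGalois
    have hpq : p.val ≫ f = q.val ≫ g := by
      apply evaluation_injective_of_isConnected F R.obj X R.pt
      change F.map (p.val ≫ f) R.pt = F.map (q.val ≫ g) R.pt
      rw [F.map_comp, F.map_comp, FintypeCat.comp_apply, FintypeCat.comp_apply, p.comp, q.comp, hfg]
    rw [← hs' p, ← hs' q, ← FintypeCat.comp_apply, ← FintypeCat.comp_apply, ← G.map_comp,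
      ← G.map_comp, hpq]
  -- choice of a representing pointed Galois object for each point
  have hex : ∀ (X : C) (x : F.obj X), ∃ (P : PointedGaloisObject F) (f : P.obj ⟶ X),
      F.map f P.pt = x := by
    intro X x
    obtain ⟨A, f, a, hA, hfa⟩ := exists_hom_from_galois_of_fiber F X x
    exact ⟨⟨A, a, hA⟩, f, hfa⟩
  choose P f hPf using hex
  let η : ∀ X : C, F.obj X → G.obj X := fun X x => G.map (f X x) (s (P X x))
  have hη : ∀ (X : C) (Q : PointedGaloisObject F) (g : Q.obj ⟶ X),
      η X (F.map g Q.pt) = G.map g (s Q) := by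
    intro X Q g
    exact key X _ Q _ g (hPf X _)
  have hnat : ∀ {X Y : C} (h : X ⟶ Y) (x : F.obj X), η Y (F.map h x) = G.map h (η X x) := by
    intro X Y h x
    have h1 := hη Y (P X x) (f X x ≫ h)
    rw [F.map_comp, FintypeCat.comp_apply, hPf] at h1
    rw [h1, G.map_comp, FintypeCat.comp_apply]
  have hbij : ∀ X : C, Function.Bijective (η X) := by
    intro X
    obtain ⟨A, a, hA, hev⟩ := exists_galois_representative F X
    haveI := hA
    let Q : PointedGaloisObject F := ⟨A, a, hA⟩
    have hsplit : ∀ (b : F.obj A) (x : F.obj X), ∃ g : A ⟶ X, F.map g b = x := by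
      intro b x
      obtain ⟨g₀, hg₀⟩ := hev.2 x
      obtain ⟨σ, hσ⟩ := MulAction.exists_smul_eq (Aut A) b a
      refine ⟨σ.hom ≫ g₀, ?_⟩
      rw [F.map_comp, FintypeCat.comp_apply]
      have : F.map σ.hom b = a := hσ
      rw [this]
      exact hg₀
    have hevG := eval_bijective_of_split F G A X hsplit (s Q)
    have hcomp : (η X) ∘ (fun g : A ⟶ X => F.map g a) = fun g : A ⟶ X => G.map g (s Q) := by
      funext g
      exact hη X Q g
    have h1 : Function.Bijective ((η X) ∘ (fun g : A ⟶ X => F.map g a)) := by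
      rw [hcomp]; exact hevG
    exact (Function.Bijective.of_comp_iff (η X) hev).1 h1
  refine ⟨NatIso.ofComponents
    (fun X => FintypeCat.equivEquivIso (Equiv.ofBijective (η X) (hbij X))) ?_⟩
  intro X Y h
  apply FintypeCat.hom_ext
  intro x
  exact hnat h x

end iso

section applications
variable (F : C ⥤ FintypeCat.{w}) [FiberFunctor F] (G : C ⥤ FintypeCat.{w})

/-- the fibre of the terminal object is a singleton, for a functor preserving it -/
noncomputable def uniqueObjTerminal [PreservesLimitsOfShape (Discrete PEmpty.{1}) G] :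
    Unique (G.obj (⊤_ C)) :=
  Types.isTerminalEquivUnique _
    (IsTerminal.isTerminalObj (G ⋙ FintypeCat.incl) _ terminalIsTerminal)

include F in
theorem isConnected_terminal_of_nonempty (h : Nonempty (F.obj (⊤_ C))) : IsConnected (⊤_ C) := by
  letI := uniqueFiberTerminal F
  haveI : MulAction.IsPretransitive (Aut F) (F.obj (⊤_ C)) :=
    ⟨fun x y => ⟨1, Subsingleton.elim _ _⟩⟩
  exact isConnected_of_pretransitive F (⊤_ C)

include F in
theorem nonempty_obj_of_exact [PreservesFiniteLimits G] [PreservesFiniteColimits G]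
    (A : C) [IsConnected A] : Nonempty (G.obj A) := by
  obtain ⟨a⟩ := nonempty_fiber_of_isConnected F A
  haveI : Nonempty (F.obj A) := ⟨a⟩
  haveI : IsConnected (⊤_ C) :=
    isConnected_terminal_of_nonempty F ⟨F.map (terminal.from A) a⟩
  haveI : Epi (terminal.from A) := epi_of_nonempty_of_isConnected F (terminal.from A)
  haveI : Epi (G.map (terminal.from A)) := inferInstance
  have hs : Function.Surjective (G.map (terminal.from A)) :=
    surjective_of_epi (FintypeCat.incl.map (G.map (terminal.from A)))
  letI := uniqueObjTerminal G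
  obtain ⟨x, -⟩ := hs default
  exact ⟨x⟩

theorem iso_of_exact [PreservesFiniteLimits G] [PreservesFiniteColimits G] : Nonempty (G ≅ F) := by
  haveI : PreservesFiniteCoproducts G := inferInstance
  obtain ⟨e⟩ := nonempty_iso_of_preserves F G (fun A _ => nonempty_obj_of_exact F G A)
  exact ⟨e.symm⟩

/-- binary coproduct injections have disjoint images -/
theorem binary_fiber_disjoint [PreservesColimitsOfShape (Discrete WalkingPair) G] (X Y : C)
    (a : G.obj X) (b : G.obj Y)
    (h : G.map (coprod.inl : X ⟶ X ⨿ Y) a = G.map (coprod.inr : Y ⟶ X ⨿ Y) b) : False := by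
  let hc := Limits.isColimitOfPreserves G (colimit.isColimit (pair X Y))
  let c : Cocone (pair X Y ⋙ G) :=
    { pt := FintypeCat.of (ULift.{w} Bool)
      ι := Discrete.natTrans (fun ⟨k⟩ => match k with
        | .left => FintypeCat.homMk (fun _ => ULift.up true)
        | .right => FintypeCat.homMk (fun _ => ULift.up false)) }
  let d := hc.desc c
  have hl : d (G.map (coprod.inl : X ⟶ X ⨿ Y) a) = ULift.up true := by
    have := hc.fac c ⟨.left⟩
    exact congrArg (fun m => m a) this
  have hr : d (G.map (coprod.inr : Y ⟶ X ⨿ Y) b) = ULift.up false := by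
    have := hc.fac c ⟨.right⟩
    exact congrArg (fun m => m b) this
  rw [h, hr] at hl
  have := ULift.up_injective hl
  exact Bool.noConfusion this

theorem isEmpty_obj_initial [PreservesColimitsOfShape (Discrete WalkingPair) G] :
    IsEmpty (G.obj (⊥_ C)) := by
  constructor
  intro x
  have : (coprod.inl : ⊥_ C ⟶ (⊥_ C) ⨿ (⊥_ C)) = coprod.inr := Subsingleton.elim _ _
  apply binary_fiber_disjoint G (⊥_ C) (⊥_ C) x x
  rw [this]

theorem iso_of_preserves_of_nonempty [PreservesFiniteLimits G]
    [PreservesColimitsOfShape (Discrete WalkingPair) G]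
    (h : ∀ X : C, IsEmpty (G.obj X) → Nonempty (IsInitial X)) : Nonempty (G ≅ F) := by
  haveI hempty := isEmpty_obj_initial G
  have hinit : IsInitial (G.obj (⊥_ C)) := by
    refine IsInitial.ofUniqueHom (fun Y => FintypeCat.homMk (fun x => (hempty.false x).elim)) ?_
    intro Y m
    apply FintypeCat.hom_ext
    intro x
    exact (hempty.false x).elim
  haveI : PreservesColimit (Functor.empty.{0} C) G := by
    apply preservesColimit_of_preserves_colimit_cocone initialIsInitial
    apply (isColimitMapCoconeEmptyCoconeEquiv _ _).symm _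
    exact hinit
  haveI : PreservesColimitsOfShape (Discrete PEmpty.{1}) G :=
    preservesColimitsOfShape_pempty_of_preservesInitial G
  haveI : PreservesFiniteCoproducts G :=
    ⟨fun n => PreservesFiniteCoproducts.of_preserves_binary_and_initial G (Fin n)⟩
  obtain ⟨e⟩ := nonempty_iso_of_preserves F G (fun A hA => by
    by_contra hne
    rw [not_nonempty_iff] at hne
    obtain ⟨hi⟩ := h A hne
    exact (hA.toIsConnected.notInitial) hi)
  exact ⟨e.symm⟩

end applications

end Groth.Agent.Helper2.Gal8
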