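import Mathlib
import Groth.Prelude.Def_Pi1X
import Groth.Agent.Helper2.Gal8

set_option autoImplicit false
universe u v w
open CategoryTheory PreGaloisCategory Limits

namespace Groth.Agent.Helper2.Gal9
open CategoryTheory PreGaloisCategory Limits Functor Groth.Agent.Helper2.Gal1 Groth.Agent.Helper2.Gal2
  Groth.Agent.Helper2.Gal3 Groth.Agent.Helper2.Gal4 Groth.Agent.Helper2.Gal8

variable {C : Type u} [Category.{v} C] [GaloisCategory C]

section
variable (F : C ⥤ FintypeCat.{w}) [FiberFunctor F] (G : C ⥤ FintypeCat.{w})

include F in
theorem nonempty_obj_of_preservesEpi [PreservesLimitsOfShape (Discrete PEmpty.{1}) G]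
    [G.PreservesEpimorphisms] (A : C) [IsConnected A] : Nonempty (G.obj A) := by
  obtain ⟨a⟩ := nonempty_fiber_of_isConnected F A
  haveI : Nonempty (F.obj A) := ⟨a⟩
  haveI : IsConnected (⊤_ C) :=
    isConnected_terminal_of_nonempty F ⟨F.map (terminal.from A) a⟩
  haveI : Epi (terminal.from A) := epi_of_nonempty_of_isConnected F (terminal.from A)
  haveI : Epi (G.map (terminal.from A)) := inferInstance
  have hs : Function.Surjective (G.map (terminal.from A)) :=
    surjective_of_epi (FintypeCat.incl.map (G.map (terminal.from A)))
  letI := uniqueObjTerminal G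
  obtain ⟨x, -⟩ := hs default
  exact ⟨x⟩

end

variable {D : Type u} [Category.{v} D] [GaloisCategory D]
  (H : C ⥤ D) [PreservesFiniteLimits H] [PreservesFiniteColimits H]
  (F' : D ⥤ FintypeCat.{w}) [FiberFunctor F']

/-- The composite of an exact functor between Galois categories with a fibre functor is a
fibre functor. -/
theorem fiberFunctor_comp (F : C ⥤ FintypeCat.{w}) [FiberFunctor F] : FiberFunctor (H ⋙ F') := by
  haveI : PreservesFiniteCoproducts H := inferInstance
  haveI : PreservesFiniteCoproducts F' := inferInstance
  haveI : PreservesFiniteCoproducts (H ⋙ F') := inferInstance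
  haveI : H.PreservesEpimorphisms := inferInstance
  haveI : (H ⋙ F').PreservesEpimorphisms := inferInstance
  haveI : PreservesLimitsOfShape (Discrete PEmpty.{1}) (H ⋙ F') := inferInstance
  haveI : PreservesLimitsOfShape (Discrete WalkingPair) (H ⋙ F') := inferInstance
  obtain ⟨e⟩ := nonempty_iso_of_preserves F (H ⋙ F')
    (fun A _ => nonempty_obj_of_preservesEpi F (H ⋙ F') A)
  have hrefl : (H ⋙ F').ReflectsIsomorphisms := by
    constructor
    intro X Y f hf
    have : F.map f = e.hom.app X ≫ (H ⋙ F').map f ≫ e.inv.app Y := by
      rw [← e.hom.naturality_assoc]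
      simp
    haveI : IsIso (F.map f) := by
      rw [this]
      infer_instance
    exact isIso_of_reflects_iso f F
  have hquot : ∀ (G : Type v) [Group G] [Finite G],
      PreservesColimitsOfShape (SingleObj G) (H ⋙ F') := by
    intro G _ _
    haveI : PreservesColimitsOfShape (SingleObj G) H := by
      obtain ⟨G', hg, hf, ⟨he⟩⟩ := Finite.exists_type_univ_nonempty_mulEquiv.{v, 0} G
      haveI : PreservesColimitsOfShape (SingleObj G') H := inferInstance
      exact Limits.preservesColimitsOfShape_of_equiv he.toSingleObjEquiv.symm H
    infer_instance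
  exact
    { preservesTerminalObjects := inferInstance
      preservesPullbacks := inferInstance
      preservesFiniteCoproducts := inferInstance
      preservesEpis := inferInstance
      preservesQuotientsByFiniteGroups := fun G _ _ => hquot G
      reflectsIsos := hrefl }

end Groth.Agent.Helper2.Gal9
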