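import Mathlib

set_option autoImplicit false
universe u
open MvPolynomial

namespace Groth.Agent.Helper2.GenericDet

variable {k : Type u} [Field k] {n : ℕ}

/-- set the variable `v` to zero -/
noncomputable def z (v : Fin n × Fin n) :
    MvPolynomial (Fin n × Fin n) k →ₐ[k] MvPolynomial (Fin n × Fin n) k :=
  aeval (fun w => if w = v then 0 else X w)

lemma z_X (v w : Fin n × Fin n) : z (k := k) v (X w) = if w = v then 0 else X w := by
  simp [z]

lemma z_comm (a b : Fin n × Fin n) (p : MvPolynomial (Fin n × Fin n) k) :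
    z a (z b p) = z b (z a p) := by
  have : (z (k := k) a).comp (z b) = (z b).comp (z a) := by
    apply MvPolynomial.algHom_ext
    intro w
    simp only [AlgHom.comp_apply, z_X]
    split_ifs <;> simp [z_X, *]
  exact AlgHom.congr_fun this p

lemma z_eq_self_of_degreeOf {v : Fin n × Fin n} {p : MvPolynomial (Fin n × Fin n) k}
    (h : degreeOf v p = 0) : z v p = p := by
  have hv : v ∉ p.vars := by
    rw [mem_vars_iff_degreeOf_ne_zero]; simpa using h
  have h1 : (z (k := k) v : MvPolynomial (Fin n × Fin n) k →+* _) p =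
      (RingHom.id (MvPolynomial (Fin n × Fin n) k)) p := by
    apply hom_congr_vars
    · ext c
      simp [z]
    · intro w hw _
      have : w ≠ v := fun hwv => hv (hwv ▸ hw)
      simp [z_X, this]
    · rfl
  exact h1

/-- the generic determinant -/
noncomputable abbrev D (k : Type u) [Field k] (n : ℕ) : MvPolynomial (Fin n × Fin n) k :=
  (Matrix.mvPolynomialX (Fin n) (Fin n) k).det

lemma z_prod (v : Fin n × Fin n) (π : Equiv.Perm (Fin n)) :
    z (k := k) v (∏ c, X (π c, c)) = if π v.2 = v.1 then 0 else ∏ c, X (π c, c) := by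
  rw [map_prod]
  split_ifs with h
  · apply Finset.prod_eq_zero (Finset.mem_univ v.2)
    rw [z_X, if_pos]
    exact Prod.ext h rfl
  · apply Finset.prod_congr rfl
    intro c _
    rw [z_X, if_neg]
    intro hc
    apply h
    have h1 : π c = v.1 := congrArg Prod.fst hc
    have h2 : c = v.2 := congrArg Prod.snd hc
    rw [← h2, h1]

lemma pair_identity (a b : Fin n × Fin n) (hab : a ≠ b) (h : a.1 = b.1 ∨ a.2 = b.2) :
    D k n + z a (z b (D k n)) = z a (D k n) + z b (D k n) := by
  unfold D
  rw [Matrix.det_apply']
  simp only [map_sum, map_mul, map_intCast, Matrix.mvPolynomialX_apply]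
  rw [← Finset.sum_add_distrib, ← Finset.sum_add_distrib]
  apply Finset.sum_congr rfl
  intro π _
  rw [z_prod, z_prod]
  have hnot : ¬ (π a.2 = a.1 ∧ π b.2 = b.1) := by
    rintro ⟨h1, h2⟩
    apply hab
    rcases h with h | h
    · have : π a.2 = π b.2 := by rw [h1, h2, h]
      exact Prod.ext h (π.injective this)
    · have : a.1 = b.1 := by rw [← h1, ← h2, h]
      exact Prod.ext this h
  by_cases h1 : π a.2 = a.1 <;> by_cases h2 : π b.2 = b.1
  · exact absurd ⟨h1, h2⟩ hnot
  · rw [if_neg h2, if_pos h1, z_prod, if_pos h1]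
    ring
  · rw [if_pos h2, if_neg h1, map_zero]
  · rw [if_neg h2, if_neg h1, z_prod, if_neg h1]

lemma z_D_ne (w : Fin n × Fin n) : z w (D k n) ≠ D k n := by
  intro heq
  let π : Equiv.Perm (Fin n) := Equiv.swap w.1 w.2
  have hπ : π w.2 = w.1 := Equiv.swap_apply_right _ _
  let P : Matrix (Fin n) (Fin n) k := (π⁻¹).permMatrix k
  have hP : ∀ r c, P r c = if π⁻¹ r = c then 1 else 0 := by
    intro r c
    simp [P, Equiv.Perm.permMatrix, PEquiv.toMatrix_apply, Equiv.toPEquiv_apply]
  let P' : Matrix (Fin n) (Fin n) k := Matrix.of fun r c => if (r, c) = w then 0 else P r c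
  let ev : MvPolynomial (Fin n × Fin n) k →ₐ[k] k := aeval fun p : Fin n × Fin n => P p.1 p.2
  let ev' : MvPolynomial (Fin n × Fin n) k →ₐ[k] k := aeval fun p : Fin n × Fin n => P' p.1 p.2
  have h1 : ev (D k n) = P.det := by
    unfold D
    rw [AlgHom.map_det, Matrix.mvPolynomialX_mapMatrix_aeval]
  have h2 : ev' (D k n) = P'.det := by
    unfold D
    rw [AlgHom.map_det, Matrix.mvPolynomialX_mapMatrix_aeval]
  have h3 : ev (z w (D k n)) = ev' (D k n) := by
    have : ev.comp (z w) = ev' := by
      apply MvPolynomial.algHom_ext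
      intro v
      simp only [AlgHom.comp_apply, z_X, ev, ev', P']
      split_ifs with hv
      · simp [hv]
      · simp [Matrix.of_apply, hv]
    rw [← this]; rfl
  have h4 : P.det ≠ 0 := by
    rw [Matrix.det_permutation]
    rcases Int.units_eq_one_or (Equiv.Perm.sign π⁻¹) with h | h <;> simp [h]
  have h5 : P'.det = 0 := by
    apply Matrix.det_eq_zero_of_column_eq_zero w.2
    intro r
    simp only [P', Matrix.of_apply]
    split_ifs with hr
    · rfl
    · rw [hP, if_neg]
      intro hc
      apply hr
      have : r = π w.2 := by rw [← hc]; simp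
      rw [this, hπ]
  rw [heq] at h3
  rw [h1, h2, h5] at h3
  exact h4 h3

lemma degreeOf_D_le (v : Fin n × Fin n) : degreeOf v (D k n) ≤ 1 := by
  classical
  unfold D
  rw [Matrix.det_apply']
  refine (degreeOf_sum_le _ _ _).trans ?_
  apply Finset.sup_le
  intro π _
  simp only [Function.comp_apply, Matrix.mvPolynomialX_apply]
  have h1 : (((Equiv.Perm.sign π : ℤˣ) : ℤ) : MvPolynomial (Fin n × Fin n) k) =
      C (((Equiv.Perm.sign π : ℤˣ) : ℤ) : k) := by simp
  rw [h1]
  refine (degreeOf_C_mul_le _ _ _).trans ?_
  refine (degreeOf_prod_le _ _ _).trans ?_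
  simp only [degreeOf_X]
  calc ∑ c, (if v = (π c, c) then 1 else 0)
      ≤ ∑ c, (if c = v.2 then 1 else 0) := by
        apply Finset.sum_le_sum
        intro c _
        split_ifs with h1 h2 h2
        · exact le_rfl
        · exact absurd (congrArg Prod.snd h1).symm h2
        · exact Nat.zero_le _
        · exact le_rfl
    _ = 1 := by simp

lemma split_pair {p q : MvPolynomial (Fin n × Fin n) k} (hpq : D k n = p * q)
    (a b : Fin n × Fin n) (hab : a ≠ b) (h : a.1 = b.1 ∨ a.2 = b.2)
    (hb : z b p = p) (ha : z a q = q) : z a p = p ∨ z b q = q := by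
  have h1 := pair_identity (k := k) a b hab h
  rw [hpq] at h1
  simp only [map_mul] at h1
  rw [hb, ha, z_comm a b q, ha] at h1
  have h2 : (p - z a p) * (q - z b q) = 0 := by
    have : (p - z a p) * (q - z b q) = p * q + z a p * z b q - (z a p * q + p * z b q) := by ring
    rw [this, h1, sub_self]
  rcases mul_eq_zero.1 h2 with h3 | h3
  · left; exact (sub_eq_zero.1 h3).symm
  · right; exact (sub_eq_zero.1 h3).symm

lemma eq_C_of_forall_z {f : MvPolynomial (Fin n × Fin n) k} (h : ∀ v, z (k := k) v f = f) :
    f = C (constantCoeff f) := by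
  classical
  have key : ∀ S : Finset (Fin n × Fin n),
      aeval (fun w => if w ∈ S then (0 : MvPolynomial (Fin n × Fin n) k) else X w) f = f := by
    intro S
    induction S using Finset.induction_on with
    | empty => simp
    | insert v S _ ih =>
      have hcomp : (aeval (R := k) (fun w => if w ∈ insert v S then (0 : MvPolynomial (Fin n × Fin n) k) else X w)) =
          (aeval (R := k) (fun w => if w ∈ S then (0 : MvPolynomial (Fin n × Fin n) k) else X w)).comp (z (k := k) v) := by
        apply MvPolynomial.algHom_ext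
        intro w
        simp only [AlgHom.comp_apply, z_X, aeval_X, Finset.mem_insert]
        by_cases hwv : w = v
        · simp [hwv]
        · simp [hwv]
      rw [hcomp, AlgHom.comp_apply, h v, ih]
  have := key Finset.univ
  simp only [Finset.mem_univ, if_true] at this
  rw [aeval_zero'] at this
  exact this.symm

end Groth.Agent.Helper2.GenericDet
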