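import Mathlib

set_option autoImplicit false
universe u

namespace Groth.Agent.Helper2.GenericUnitIdeal

attribute [local instance] MvPolynomial.algebraMvPolynomial in
theorem main {A : Type u} [CommRing A] [IsDomain A] {m : ℕ}
    (P : Finset (MvPolynomial (Fin m) A))
    (hη : Ideal.span ((MvPolynomial.map (algebraMap A (FractionRing A))) '' (P : Set (MvPolynomial (Fin m) A))) = ⊤) :
    ∃ f : A, f ≠ 0 ∧ ∀ p : PrimeSpectrum A, f ∉ p.asIdeal →
      Ideal.span ((MvPolynomial.map (algebraMap A p.asIdeal.ResidueField)) '' (P : Set (MvPolynomial (Fin m) A))) = ⊤ := by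
  classical
  set K := FractionRing A
  set I : Ideal (MvPolynomial (Fin m) A) := Ideal.span (P : Set (MvPolynomial (Fin m) A)) with hI
  have hmap : I.map (algebraMap (MvPolynomial (Fin m) A) (MvPolynomial (Fin m) K)) = ⊤ := by
    rw [hI, Ideal.map_span, MvPolynomial.algebraMap_def]
    exact hη
  have h1 : (1 : MvPolynomial (Fin m) K) ∈
      I.map (algebraMap (MvPolynomial (Fin m) A) (MvPolynomial (Fin m) K)) := by
    rw [hmap]; trivial
  rw [IsLocalization.mem_map_algebraMap_iff
    ((nonZeroDivisors A).map (MvPolynomial.C (σ := Fin m)))] at h1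
  obtain ⟨⟨⟨a, ha⟩, ⟨s, hs⟩⟩, h⟩ := h1
  obtain ⟨f, hf, rfl⟩ := hs
  simp only [one_mul] at h
  have hinj : Function.Injective
      (algebraMap (MvPolynomial (Fin m) A) (MvPolynomial (Fin m) K)) := by
    rw [MvPolynomial.algebraMap_def]
    exact MvPolynomial.map_injective _ (IsFractionRing.injective A K)
  have hCf : MvPolynomial.C f ∈ I := by
    have := hinj h
    rw [this]
    exact ha
  refine ⟨f, nonZeroDivisors.ne_zero hf, ?_⟩
  intro p hp
  have h2 : MvPolynomial.map (algebraMap A p.asIdeal.ResidueField) (MvPolynomial.C f) ∈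
      I.map (MvPolynomial.map (algebraMap A p.asIdeal.ResidueField)) :=
    Ideal.mem_map_of_mem _ hCf
  rw [hI, Ideal.map_span, MvPolynomial.map_C] at h2
  refine Ideal.eq_top_of_isUnit_mem _ h2 ?_
  have hne : algebraMap A p.asIdeal.ResidueField f ≠ 0 := by
    intro h0
    exact hp ((Ideal.algebraMap_residueField_eq_zero).mp h0)
  exact (IsUnit.mk0 _ hne).map MvPolynomial.C

end Groth.Agent.Helper2.GenericUnitIdeal
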