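import Mathlib
import Groth.Agent.Helper2.Pi0Hopf1

set_option autoImplicit false
open TensorProduct

namespace Groth.Agent.Helper2.GeoIrr

open MvPolynomial

section basic
variable {σ : Type*}

lemma totalDegree_map_of_inj {R S : Type*} [CommSemiring R] [CommSemiring S] (f : R →+* S)
    (hf : Function.Injective f) (p : MvPolynomial σ R) :
    (map f p).totalDegree = p.totalDegree := by
  simp only [totalDegree, support_map_of_injective _ hf]

lemma isUnit_of_totalDegree_eq_zero {K : Type*} [Field K] {p : MvPolynomial σ K} (hp : p ≠ 0)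
    (h : p.totalDegree = 0) : IsUnit p := by
  rw [isUnit_iff_totalDegree_of_isReduced]
  refine ⟨?_, h⟩
  rw [totalDegree_eq_zero_iff_eq_C] at h
  have : p.coeff 0 ≠ 0 := by
    intro h0
    rw [h0, map_zero] at h
    exact hp h
  exact this.isUnit

lemma totalDegree_pos_of_not_isUnit {K : Type*} [Field K] {p : MvPolynomial σ K} (hp : p ≠ 0)
    (h : ¬ IsUnit p) : 0 < p.totalDegree := by
  by_contra h0
  exact h (isUnit_of_totalDegree_eq_zero hp (by omega))

lemma not_isUnit_of_totalDegree_pos {K : Type*} [Field K] {p : MvPolynomial σ K}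
    (h : 0 < p.totalDegree) : ¬ IsUnit p := by
  intro hu
  rw [isUnit_iff_totalDegree_of_isReduced] at hu
  omega

lemma exists_mem_support_degree_eq {R : Type*} [CommSemiring R] {p : MvPolynomial σ R}
    (hp : p ≠ 0) : ∃ m ∈ p.support, (m.sum fun _ e => e) = p.totalDegree := by
  have hne : p.support.Nonempty := by
    rwa [Finset.nonempty_iff_ne_empty, Ne, support_eq_empty]
  obtain ⟨m, hm, h⟩ := Finset.exists_mem_eq_sup p.support hne (fun s => s.sum fun _ e => e)
  exact ⟨m, hm, h.symm⟩

lemma le_totalDegree_of_coeff_ne_zero {R : Type*} [CommSemiring R] {p : MvPolynomial σ R}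
    (m : σ →₀ ℕ) (h : p.coeff m ≠ 0) : (m.sum fun _ e => e) ≤ p.totalDegree :=
  le_totalDegree (mem_support_iff.2 h)

/-- descending irreducibility along a field extension -/
lemma irreducible_of_irreducible_map {K L : Type*} [Field K] [Field L] (ψ : K →+* L)
    (p : MvPolynomial σ K) (h : Irreducible (map ψ p)) : Irreducible p := by
  have hinj : Function.Injective ψ := ψ.injective
  have hmapinj : Function.Injective (map (σ := σ) ψ) := map_injective _ hinj
  have hp0 : p ≠ 0 := by
    rintro rfl
    exact h.ne_zero (map_zero _)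
  refine ⟨fun hu => h.not_isUnit (hu.map _), fun a b hab => ?_⟩
  have ha0 : a ≠ 0 := by rintro rfl; exact hp0 (by rw [hab, zero_mul])
  have hb0 : b ≠ 0 := by rintro rfl; exact hp0 (by rw [hab, mul_zero])
  have hab' : map ψ p = map ψ a * map ψ b := by rw [hab, map_mul]
  rcases h.isUnit_or_isUnit hab' with hu | hu
  · left
    rw [isUnit_iff_totalDegree_of_isReduced] at hu
    exact isUnit_of_totalDegree_eq_zero ha0 (by rw [← totalDegree_map_of_inj ψ hinj]; exact hu.2)
  · right
    rw [isUnit_iff_totalDegree_of_isReduced] at hu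
    exact isUnit_of_totalDegree_eq_zero hb0 (by rw [← totalDegree_map_of_inj ψ hinj]; exact hu.2)

end basic

section ascend
variable {σ : Type*} {Ω L : Type*} [Field Ω] [IsAlgClosed Ω] [Field L]

/-- an Ω-point of a finitely generated Ω-domain not killing a given nonzero element -/
lemma exists_point_ne_zero (R : Type*) [CommRing R] [IsDomain R] [Algebra Ω R]
    [Algebra.FiniteType Ω R] (c : R) (hc : c ≠ 0) : ∃ z : R →ₐ[Ω] Ω, z c ≠ 0 := by
  haveI : IsJacobsonRing R := isJacobsonRing_of_finiteType (A := Ω) (B := R)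
  have hjac : (⊥ : Ideal R).jacobson = ⊥ := by
    exact IsJacobsonRing.out' _ Ideal.isRadical_bot
  have hcj : c ∉ (⊥ : Ideal R).jacobson := by
    rw [hjac]; simpa using hc
  rw [Ideal.jacobson, Ideal.mem_sInf] at hcj
  push Not at hcj
  obtain ⟨𝔪, ⟨-, hmax⟩, hcm⟩ := hcj
  haveI := hmax
  obtain ⟨z, hz⟩ := Pi0Hopf.exists_point_of_isMaximal Ω R 𝔪
  refine ⟨z, fun h0 => hcm ?_⟩
  rw [← hz, RingHom.mem_ker]; exact h0

end ascend

end Groth.Agent.Helper2.GeoIrr
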