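import Mathlib
import Groth.Agent.Helper2.GeoIrr1

set_option autoImplicit false
open TensorProduct

namespace Groth.Agent.Helper2.GeoIrr

open MvPolynomial

section ascend
variable {σ : Type*} {Ω L : Type*} [Field Ω] [IsAlgClosed Ω] [Field L]

/-- irreducibility over an algebraically closed field persists under field extension -/
theorem irreducible_map_of_isAlgClosed (φ : Ω →+* L) (f : MvPolynomial σ Ω) (hf : Irreducible f) :
    Irreducible (map φ f) := by
  classical
  letI : Algebra Ω L := φ.toAlgebra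
  have hφ : φ = algebraMap Ω L := rfl
  have hinj : Function.Injective φ := φ.injective
  have hf0 : f ≠ 0 := hf.ne_zero
  have hmf0 : map φ f ≠ 0 := fun h => hf0 (map_injective _ hinj (by rw [h, map_zero]))
  have hfdeg : 0 < f.totalDegree := totalDegree_pos_of_not_isUnit hf0 hf.not_isUnit
  refine ⟨?_, fun g h hgh => ?_⟩
  · apply not_isUnit_of_totalDegree_pos
    rw [totalDegree_map_of_inj φ hinj]; exact hfdeg
  by_contra hcon
  push Not at hcon
  obtain ⟨hgu, hhu⟩ := hcon
  have hg0 : g ≠ 0 := by rintro rfl; exact hmf0 (by rw [hgh, zero_mul])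
  have hh0 : h ≠ 0 := by rintro rfl; exact hmf0 (by rw [hgh, mul_zero])
  have hgdeg : 0 < g.totalDegree := totalDegree_pos_of_not_isUnit hg0 hgu
  have hhdeg : 0 < h.totalDegree := totalDegree_pos_of_not_isUnit hh0 hhu
  -- the subalgebra generated by the coefficients
  let S : Finset L := g.coeffs ∪ h.coeffs
  let R : Subalgebra Ω L := Algebra.adjoin Ω (S : Set L)
  haveI : Algebra.FiniteType Ω R := (Subalgebra.fg_iff_finiteType R).1 (Subalgebra.fg_adjoin_finset S)
  have hRinj : Function.Injective (R.val : R →+* L) := Subtype.val_injective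
  have hgR : g ∈ Set.range (map (σ := σ) (R.val : R →+* L)) := by
    rw [mem_range_map_iff_coeffs_subset]
    intro c hc
    exact ⟨⟨c, Algebra.subset_adjoin (Finset.mem_coe.2 (Finset.mem_union_left _ hc))⟩, rfl⟩
  have hhR : h ∈ Set.range (map (σ := σ) (R.val : R →+* L)) := by
    rw [mem_range_map_iff_coeffs_subset]
    intro c hc
    exact ⟨⟨c, Algebra.subset_adjoin (Finset.mem_coe.2 (Finset.mem_union_right _ hc))⟩, rfl⟩
  obtain ⟨g', hg'⟩ := hgR
  obtain ⟨h', hh'⟩ := hhR
  have hg'0 : g' ≠ 0 := by rintro rfl; exact hg0 (by rw [← hg', map_zero])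
  have hh'0 : h' ≠ 0 := by rintro rfl; exact hh0 (by rw [← hh', map_zero])
  rw [← hg', totalDegree_map_of_inj _ hRinj] at hgdeg
  rw [← hh', totalDegree_map_of_inj _ hRinj] at hhdeg
  have hfR : map (algebraMap Ω R) f = g' * h' := by
    apply map_injective _ hRinj
    rw [map_mul, hg', hh', ← hgh, MvPolynomial.map_map]
    rfl
  obtain ⟨mg, hmg, hmgd⟩ := exists_mem_support_degree_eq hg'0
  obtain ⟨mh, hmh, hmhd⟩ := exists_mem_support_degree_eq hh'0
  rw [mem_support_iff] at hmg hmh
  obtain ⟨z, hz⟩ := exists_point_ne_zero (Ω := Ω) R (g'.coeff mg * h'.coeff mh) (mul_ne_zero hmg hmh)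
  rw [map_mul] at hz
  have hzg : z (g'.coeff mg) ≠ 0 := left_ne_zero_of_mul hz
  have hzh : z (h'.coeff mh) ≠ 0 := right_ne_zero_of_mul hz
  have hfz : f = map (z : R →+* Ω) g' * map (z : R →+* Ω) h' := by
    rw [← map_mul, ← hfR, MvPolynomial.map_map]
    have : (z : R →+* Ω).comp (algebraMap Ω R) = RingHom.id Ω := by
      ext x; simp
    rw [this, MvPolynomial.map_id]
  rcases hf.isUnit_or_isUnit hfz with hu | hu
  · refine not_isUnit_of_totalDegree_pos ?_ hu
    refine lt_of_lt_of_le hgdeg ?_
    rw [← hmgd]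
    apply le_totalDegree_of_coeff_ne_zero
    rw [coeff_map]; exact hzg
  · refine not_isUnit_of_totalDegree_pos ?_ hu
    refine lt_of_lt_of_le hhdeg ?_
    rw [← hmhd]
    apply le_totalDegree_of_coeff_ne_zero
    rw [coeff_map]; exact hzh

end ascend

section common
universe u1 u2 u3
variable (k : Type u1) (K : Type u2) (Ω : Type u3) [Field k] [Field K] [Field Ω] [Algebra k K]
  [Algebra k Ω]

/-- two extensions of a field embed compatibly in a common field -/
theorem exists_common_field :
    ∃ (L : Type (max u2 u3)) (_ : Field L) (a : K →+* L) (b : Ω →+* L),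
      a.comp (algebraMap k K) = b.comp (algebraMap k Ω) := by
  haveI : Nontrivial (K ⊗[k] Ω) := inferInstance
  obtain ⟨m, hm⟩ := Ideal.exists_maximal (K ⊗[k] Ω)
  haveI := hm
  refine ⟨(K ⊗[k] Ω) ⧸ m, Ideal.Quotient.field m,
    (Ideal.Quotient.mk m).comp Algebra.TensorProduct.includeLeftRingHom,
    (Ideal.Quotient.mk m).comp (Algebra.TensorProduct.includeRight (R := k) (A := K) (B := Ω)).toRingHom, ?_⟩
  ext x
  simp only [RingHom.comp_apply, Algebra.TensorProduct.includeLeftRingHom_apply,
    AlgHom.toRingHom_eq_coe, RingHom.coe_coe, Algebra.TensorProduct.includeRight_apply]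
  congr 1
  rw [Algebra.algebraMap_eq_smul_one, Algebra.algebraMap_eq_smul_one, TensorProduct.smul_tmul]

end common

end Groth.Agent.Helper2.GeoIrr
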