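import Mathlib
import Groth.Agent.Helper2.GeoIrr2

set_option autoImplicit false
open TensorProduct

namespace Groth.Agent.Helper2.GeoIrr

open MvPolynomial AlgebraicGeometry CategoryTheory

universe u

section cb
variable {σ : Type*} {k : Type u} [Field k]

/-- (c) ⇒ (b) -/
theorem irreducible_map_of_irreducible_algClosed (Ω : Type*) [Field Ω] [Algebra k Ω]
    [IsAlgClosed Ω] (K : Type*) [Field K] [Algebra k K] (F : MvPolynomial σ k)
    (h : Irreducible (map (algebraMap k Ω) F)) : Irreducible (map (algebraMap k K) F) := by
  obtain ⟨L, _, a, b, hab⟩ := exists_common_field k K Ω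
  have h1 := irreducible_map_of_isAlgClosed b _ h
  rw [MvPolynomial.map_map, ← hab, ← MvPolynomial.map_map] at h1
  exact irreducible_of_irreducible_map a _ h1

end cb

section geo

instance isClosedUnderIso_isIntegral :
    ObjectProperty.IsClosedUnderIsomorphisms (C := Scheme.{u}) (IsIntegral ·) where
  of_iso {X Y} e h := by
    haveI : IsIntegral X := h
    haveI : Nonempty Y := ⟨e.hom (Classical.arbitrary X)⟩
    exact isIntegral_of_isOpenImmersion e.inv

variable {k : Type u} [Field k] (A : Type u) [CommRing A] [Algebra k A]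

theorem geomIntegral_iff_forall_isDomain :
    GeometricallyIntegral (Spec.map (CommRingCat.ofHom (algebraMap k A))) ↔
      ∀ (K : Type u) [Field K] [Algebra k K], IsDomain (K ⊗[k] A) := by
  rw [AlgebraicGeometry.geometricallyIntegral_iff, geometrically_iff_of_commRing_of_isClosedUnderIsomorphisms]
  refine forall_congr' fun K => forall_congr' fun _ => forall_congr' fun _ => ?_
  rw [ObjectProperty.prop_iff_of_iso (P := fun X : Scheme.{u} => IsIntegral X)
    (pullbackSpecIso k A K), affine_isIntegral_iff]
  exact (Algebra.TensorProduct.comm k A K).toMulEquiv.isDomain_iff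

end geo

section dom
variable {σ : Type*} {k : Type*} [Field k] (K : Type*) [Field K] [Algebra k K]

theorem isDomain_tensor_quot_iff (F : MvPolynomial σ k) (hF : F ≠ 0) :
    IsDomain (K ⊗[k] (MvPolynomial σ k ⧸ Ideal.span ({F} : Set (MvPolynomial σ k)))) ↔
      Irreducible (map (algebraMap k K) F) := by
  have hFK : map (algebraMap k K) F ≠ 0 := fun h =>
    hF (map_injective _ (algebraMap k K).injective (by rw [h, map_zero]))
  let e1 := Algebra.TensorProduct.tensorQuotientEquiv (R := k) K (MvPolynomial σ k) K
    (Ideal.span ({F} : Set (MvPolynomial σ k)))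
  let e2 := algebraTensorAlgEquiv (σ := σ) k K
  have hJ : Ideal.span ({map (algebraMap k K) F} : Set (MvPolynomial σ K)) =
      ((Ideal.span ({F} : Set (MvPolynomial σ k))).map
        (Algebra.TensorProduct.includeRight (R := k) (A := K) (B := MvPolynomial σ k))).map
        (e2 : (K ⊗[k] MvPolynomial σ k) ≃+* MvPolynomial σ K) := by
    rw [Ideal.map_span, Ideal.map_span, Set.image_singleton, Set.image_singleton]
    congr 2
    simp [e2, algebraTensorAlgEquiv_tmul]
  let e3 := Ideal.quotientEquiv _ _ (e2 : (K ⊗[k] MvPolynomial σ k) ≃+* MvPolynomial σ K) hJ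
  rw [(e1.toRingEquiv.trans e3).toMulEquiv.isDomain_iff, Ideal.Quotient.isDomain_iff_prime,
    Ideal.span_singleton_prime hFK, irreducible_iff_prime]

end dom

end Groth.Agent.Helper2.GeoIrr
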