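import Mathlib
import Groth.Prelude
import Groth.Agent.Helper2.FracCpl
import Groth.Agent.Helper2.SemiCpl
import Groth.Agent.Helper8.GeomIrrA

set_option autoImplicit false
set_option linter.style.haveILetI false

namespace Groth.Agent.Helper2.GeomInt

universe u

open TensorProduct IsLocalRing

/-- integrality passes from `C ⊗ K'` to `Frac(C) ⊗ K'` -/
theorem isDomain_tensor_localization {A : Type u} [CommRing A]
    {C : Type u} [CommRing C] [Algebra A C]
    {R : Type u} [CommRing R] [Algebra C R] (M : Submonoid C) [IsLocalization M R] [Algebra A R]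
    [IsScalarTower A C R]
    {K' : Type u} [CommRing K'] [Algebra A K'] [IsDomain (C ⊗[A] K')]
    (hM : ∀ c ∈ M, (c ⊗ₜ[A] (1 : K') : C ⊗[A] K') ≠ 0) :
    IsDomain (R ⊗[A] K') := by
  have hle : Algebra.algebraMapSubmonoid (C ⊗[A] K') M ≤ nonZeroDivisors (C ⊗[A] K') := by
    rintro _ ⟨c, hc, rfl⟩
    exact mem_nonZeroDivisors_of_ne_zero (hM c hc)
  haveI h1 : IsDomain ((C ⊗[A] K') ⊗[C] R) :=
    IsLocalization.isDomain_of_le_nonZeroDivisors (R := C ⊗[A] K')
      (M := Algebra.algebraMapSubmonoid (C ⊗[A] K') M) _ hle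
  let e1 : R ⊗[C] (C ⊗[A] K') ≃ₐ[C] R ⊗[A] K' := Algebra.TensorProduct.cancelBaseChange A C C R K'
  let e2 : R ⊗[C] (C ⊗[A] K') ≃ₐ[C] (C ⊗[A] K') ⊗[C] R := Algebra.TensorProduct.comm C R _
  exact (e1.symm.trans e2).toRingEquiv.toMulEquiv.isDomain

/-- finite extensions of the residue fields tensored with the completion are domains -/
theorem isDomain_finite_ext (A : Type u) [CommRing A] [IsNoetherianRing A] [HenselianLocalRing A]
    (h : EGA4.HasGeomNormalFormalFibres A)
    (p : Ideal A) [p.IsPrime] (κ' : Type u) [Field κ'] [Algebra p.ResidueField κ']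
    [FiniteDimensional p.ResidueField κ'] [Algebra A κ'] [IsScalarTower A p.ResidueField κ'] :
    IsDomain (κ' ⊗[A] EGA4.Cpl A) := by
  have hNag : CAlg.IsNagata A := Groth.Agent.Helper2.AnUnr6.s2657 A
    (fun p hp => Groth.Agent.Helper2.AnUnr7.isGeometricallyReduced_of_isGeomNormal _ _ (h p))
  let κ := p.ResidueField
  have hN2 : CAlg.IsN2 (A ⧸ p) := hNag.2 p
  letI : Algebra (A ⧸ p) κ' := ((algebraMap κ κ').comp (algebraMap (A ⧸ p) κ)).toAlgebra
  haveI : IsScalarTower (A ⧸ p) κ κ' := IsScalarTower.of_algebraMap_eq (fun _ => rfl)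
  haveI : IsScalarTower A (A ⧸ p) κ' := IsScalarTower.of_algebraMap_eq (fun a => by
    change algebraMap A κ' a = algebraMap κ κ' (algebraMap (A ⧸ p) κ _)
    rw [IsScalarTower.algebraMap_apply A κ κ', IsScalarTower.algebraMap_apply A (A ⧸ p) κ])
  haveI hfin' : Module.Finite (A ⧸ p) (integralClosure (A ⧸ p) κ') :=
    Groth.Agent.Helper4.Japanese.IsN2.finite hN2 κ κ'
  haveI : IsFractionRing (integralClosure (A ⧸ p) κ') κ' :=
    integralClosure.isFractionRing_of_finite_extension κ κ'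
  haveI : IsScalarTower A (A ⧸ p) (integralClosure (A ⧸ p) κ') :=
    IsScalarTower.of_algebraMap_eq (fun a =>
      Subtype.ext (IsScalarTower.algebraMap_apply A (A ⧸ p) κ' a))
  haveI : Module.Finite A (integralClosure (A ⧸ p) κ') := Module.Finite.trans (A ⧸ p) _
  haveI : IsIntegrallyClosed (integralClosure (A ⧸ p) κ') :=
    integralClosure.isIntegrallyClosedOfFiniteExtension κ
  haveI : Algebra.IsIntegral A (integralClosure (A ⧸ p) κ') := Algebra.IsIntegral.of_finite A _
  haveI : IsLocalRing (integralClosure (A ⧸ p) κ') :=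
    Groth.Agent.Helper2.Unibr1.isLocalRing_of_isIntegral_of_isDomain A _
  haveI : IsLocalHom (algebraMap A (integralClosure (A ⧸ p) κ')) := by
    refine ⟨fun a ha => ?_⟩
    by_contra hna
    have ham : a ∈ maximalIdeal A := hna
    have h1 : algebraMap A (integralClosure (A ⧸ p) κ') a ∈
        (⊥ : Ideal (integralClosure (A ⧸ p) κ')).jacobson :=
      Groth.Agent.Helper2.SemiCpl.map_le_jacobson A _ (Ideal.mem_map_of_mem _ ham)
    rw [IsLocalRing.jacobson_eq_maximalIdeal ⊥ bot_ne_top] at h1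
    exact h1 ha
  haveI h1 : IsDomain (integralClosure (A ⧸ p) κ' ⊗[A] EGA4.Cpl A) :=
    Groth.Agent.Helper2.FracCpl.isDomain_tensor A h _
  haveI : Module.FaithfullyFlat A (EGA4.Cpl A) := Module.FaithfullyFlat.of_flat_of_isLocalHom
  refine isDomain_tensor_localization (C := integralClosure (A ⧸ p) κ') (R := κ')
    (nonZeroDivisors (integralClosure (A ⧸ p) κ')) ?_
  intro c hc h0
  have h2 : ((1 : EGA4.Cpl A) ⊗ₜ[A] c : EGA4.Cpl A ⊗[A] integralClosure (A ⧸ p) κ') = 0 := by
    have := congrArg (TensorProduct.comm A _ _) h0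
    rw [TensorProduct.comm_tmul, map_zero] at this
    exact this
  have h3 : c = 0 := by
    apply Module.FaithfullyFlat.tensorProduct_mk_injective (A := A) (B := EGA4.Cpl A)
    rw [map_zero]
    exact h2
  exact nonZeroDivisors.ne_zero hc h3

/-- from the algebraic closure to arbitrary field extensions -/
theorem isDomain_of_algebraicClosure (κ : Type u) [Field κ] (F : Type u) [CommRing F] [Algebra κ F]
    (h : IsDomain (AlgebraicClosure κ ⊗[κ] F)) (K : Type u) [Field K] [Algebra κ K] :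
    IsDomain (K ⊗[κ] F) := by
  let Ω := AlgebraicClosure K
  let φ : AlgebraicClosure κ →ₐ[κ] Ω := IsAlgClosed.lift
  letI : Algebra (AlgebraicClosure κ) Ω := φ.toRingHom.toAlgebra
  haveI : IsScalarTower κ (AlgebraicClosure κ) Ω :=
    IsScalarTower.of_algebraMap_eq (fun x => (φ.commutes x).symm)
  haveI h3 : IsDomain (Ω ⊗[AlgebraicClosure κ] (AlgebraicClosure κ ⊗[κ] F)) :=
    Groth.Agent.Helper8.GeomIrr.isDomain_tensor
  let e3 : Ω ⊗[AlgebraicClosure κ] (AlgebraicClosure κ ⊗[κ] F) ≃ₐ[AlgebraicClosure κ] Ω ⊗[κ] F :=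
    Algebra.TensorProduct.cancelBaseChange κ (AlgebraicClosure κ) (AlgebraicClosure κ) Ω F
  haveI h3' : IsDomain (Ω ⊗[κ] F) := e3.symm.toRingEquiv.toMulEquiv.isDomain
  let ψ : K ⊗[κ] F →ₐ[κ] Ω ⊗[κ] F :=
    Algebra.TensorProduct.map (IsScalarTower.toAlgHom κ K Ω) (AlgHom.id κ F)
  have hψ : Function.Injective ψ :=
    Module.Flat.rTensor_preserves_injective_linearMap (M := F)
      (IsScalarTower.toAlgHom κ K Ω).toLinearMap (algebraMap K Ω).injective
  exact hψ.isDomain ψ.toRingHom

/-- S3831 -/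
theorem s3831 (A : Type u) [CommRing A] [HenselianLocalRing A]
    [IsNoetherianRing A] (hA : EGA4.HasGeomNormalFormalFibres A) (p : Ideal A) [p.IsPrime]
    (K : Type u) [Field K] [Algebra p.ResidueField K] :
    IsDomain (TensorProduct p.ResidueField K (EGA4.formalFibre A p)) := by
  apply isDomain_of_algebraicClosure
  apply Groth.Agent.Helper8.GeomIrr.isDomain_of_forall_fd
  intro E hE
  haveI : IsScalarTower A p.ResidueField E := inferInstance
  haveI := isDomain_finite_ext A hA p E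
  let e1 : E ⊗[p.ResidueField] (p.ResidueField ⊗[A] EGA4.Cpl A) ≃ₐ[p.ResidueField]
      E ⊗[A] EGA4.Cpl A :=
    Algebra.TensorProduct.cancelBaseChange A p.ResidueField p.ResidueField E (EGA4.Cpl A)
  exact e1.toRingEquiv.toMulEquiv.isDomain

end Groth.Agent.Helper2.GeomInt
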