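import Mathlib
import Groth.Prelude
import Groth.Agent.Helper1.HensElts
import Groth.Agent.Helper1.HensIsHens
import Groth.Agent.Helper1.HensStrictTransfer
set_option autoImplicit false
universe u
open CategoryTheory CategoryTheory.Limits TensorProduct

namespace Groth.Agent.Helper2.HensInd

open Groth.Agent.Helper1.Hens

/-- wrapper around the small index type of pointed étale algebras (to avoid the preorder category) -/
structure PIdx (R : Type u) [CommRing R] (Ω : Type u) [Field Ω] [Algebra R Ω] where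
  i : Idx R Ω

variable {R : Type u} [CommRing R] {Ω : Type u} [Field Ω] [Algebra R Ω]

noncomputable instance : SmallCategory (PIdx R Ω) where
  Hom a b := {φ : a.i.C →ₐ[R] b.i.C // ∀ c, b.i.γ (φ c) = a.i.γ c}
  id a := ⟨AlgHom.id R _, fun _ => rfl⟩
  comp f g := ⟨g.1.comp f.1, fun c => by rw [AlgHom.comp_apply, g.2, f.2]⟩

theorem exists_kill {C : Type u} [CommRing C] [Algebra R C] [Algebra.Etale R C] (γ : C →ₐ[R] Ω)
    (s : Finset C) (hs : ∀ c ∈ s, Hens.ι γ c = 0) :
    ∃ (D : Type u) (_ : CommRing D) (_ : Algebra R D) (_ : Algebra.Etale R D) (δ : D →ₐ[R] Ω)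
      (φ : C →ₐ[R] D), (∀ c, δ (φ c) = γ c) ∧ ∀ c ∈ s, φ c = 0 := by
  classical
  induction s using Finset.induction_on with
  | empty =>
    exact ⟨C, inferInstance, inferInstance, inferInstance, γ, AlgHom.id R C, fun _ => rfl, by simp⟩
  | insert a t _ ih =>
    obtain ⟨D₁, _, _, _, δ₁, φ₁, h₁, hk₁⟩ := ih (fun c hc => hs c (Finset.mem_insert_of_mem hc))
    have ha : Hens.ι δ₁ (φ₁ a) = 0 := by
      rw [Hens.ι_comp γ δ₁ φ₁ h₁]
      exact hs a (Finset.mem_insert_self _ _)
    obtain ⟨D₂, _, _, _, δ₂, φ₂, h₂, hk₂⟩ := Hens.exists_of_ι_eq_zero δ₁ (φ₁ a) ha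
    refine ⟨D₂, inferInstance, inferInstance, inferInstance, δ₂, φ₂.comp φ₁,
      fun c => by rw [AlgHom.comp_apply, h₂, h₁], ?_⟩
    intro c hc
    rw [Finset.mem_insert] at hc
    rcases hc with rfl | hc
    · exact hk₂
    · rw [AlgHom.comp_apply, hk₁ c hc, map_zero]

instance : IsFilteredOrEmpty (PIdx R Ω) where
  cocone_objs a b := by
    haveI : Algebra.Etale a.i.C (a.i.C ⊗[R] b.i.C) := inferInstance
    haveI : Algebra.Etale R (a.i.C ⊗[R] b.i.C) := Algebra.Etale.comp R a.i.C _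
    obtain ⟨k, e, he⟩ := Idx.exists_equiv (a.i.C ⊗[R] b.i.C)
      (Algebra.TensorProduct.productMap a.i.γ b.i.γ)
    exact ⟨⟨k⟩, ⟨e.toAlgHom.comp Algebra.TensorProduct.includeLeft, fun c => by
        show k.γ (e (c ⊗ₜ 1)) = _
        rw [he]; simp⟩,
      ⟨e.toAlgHom.comp Algebra.TensorProduct.includeRight, fun c => by
        show k.γ (e (1 ⊗ₜ c)) = _
        rw [he]; simp⟩, trivial⟩
  cocone_maps a b f g := by
    classical
    let s : Finset b.i.C := Finset.univ.image (fun m : Fin a.i.n =>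
      f.1 (Ideal.Quotient.mk _ (MvPolynomial.X m)) - g.1 (Ideal.Quotient.mk _ (MvPolynomial.X m)))
    have hs : ∀ c ∈ s, Hens.ι b.i.γ c = 0 := by
      intro c hc
      obtain ⟨m, -, rfl⟩ := Finset.mem_image.mp hc
      rw [map_sub, Hens.ι_comp a.i.γ b.i.γ f.1 f.2, Hens.ι_comp a.i.γ b.i.γ g.1 g.2, sub_self]
    obtain ⟨D, _, _, _, δ, φ, hφ, hk⟩ := exists_kill b.i.γ s hs
    obtain ⟨k, e, he⟩ := Idx.exists_equiv D δ
    refine ⟨⟨k⟩, ⟨e.toAlgHom.comp φ, fun c => by
      show k.γ (e (φ c)) = _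
      rw [he, hφ]⟩, ?_⟩
    apply Subtype.ext
    show (e.toAlgHom.comp φ).comp f.1 = (e.toAlgHom.comp φ).comp g.1
    apply Ideal.Quotient.algHom_ext
    apply MvPolynomial.algHom_ext
    intro m
    have h1 := hk _ (Finset.mem_image_of_mem _ (Finset.mem_univ m))
    rw [map_sub, sub_eq_zero] at h1
    show e (φ (f.1 (Ideal.Quotient.mk _ (MvPolynomial.X m)))) =
      e (φ (g.1 (Ideal.Quotient.mk _ (MvPolynomial.X m))))
    rw [h1]

instance : Nonempty (PIdx R Ω) := ⟨⟨Classical.arbitrary _⟩⟩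

instance : IsFiltered (PIdx R Ω) := {}

/-- the diagram of pointed étale algebras -/
noncomputable def D : PIdx R Ω ⥤ Under (CommRingCat.of R) where
  obj a := Under.mk (CommRingCat.ofHom (algebraMap R a.i.C))
  map {a b} f := Under.homMk (CommRingCat.ofHom f.1.toRingHom) (by
    ext r
    exact f.1.commutes r)
  map_id a := by ext; rfl
  map_comp f g := by ext; rfl

/-- the cocone with vertex `Hens R Ω` -/
noncomputable def cc : Cocone (D (R := R) (Ω := Ω)) where
  pt := Under.mk (CommRingCat.ofHom (algebraMap R (Hens R Ω)))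
  ι :=
    { app := fun a => Under.homMk (CommRingCat.ofHom (Hens.ι a.i.γ).toRingHom) (by
        ext r
        exact (Hens.ι a.i.γ).commutes r)
      naturality := fun a b f => by
        ext x
        exact Hens.ι_comp a.i.γ b.i.γ f.1 f.2 x }

/-- the forgetful functor to types -/
abbrev G (R : Type u) [CommRing R] : Under (CommRingCat.of R) ⥤ Type u :=
  Under.forget _ ⋙ forget CommRingCat

noncomputable def ccIsColimit : IsColimit (cc (R := R) (Ω := Ω)) := by
  haveI : PreservesColimitsOfShape (PIdx R Ω) (Under.forget (CommRingCat.of R)) :=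
    PreservesFilteredColimitsOfSize.preserves_filtered_colimits _
  haveI : PreservesColimitsOfShape (PIdx R Ω) (forget CommRingCat.{u}) :=
    PreservesFilteredColimitsOfSize.preserves_filtered_colimits _
  haveI : ReflectsColimit (D (R := R) (Ω := Ω)) (G R) := reflectsColimit_of_reflectsIsomorphisms _ _
  apply isColimitOfReflects (G R)
  apply Types.FilteredColimit.isColimitOf'
  · intro (z : Hens R Ω)
    obtain ⟨C, _, _, _, γ, c, rfl⟩ := Hens.exists_ι_eq z
    obtain ⟨i, e, he⟩ := Idx.exists_equiv C γ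
    refine ⟨⟨i⟩, (e c : i.C), ?_⟩
    exact (Hens.ι_comp γ i.γ e.toAlgHom he c).symm
  · intro a (x : a.i.C) (y : a.i.C) hxy
    have hxy' : Hens.ι a.i.γ x = Hens.ι a.i.γ y := hxy
    have h0 : Hens.ι a.i.γ (x - y) = 0 := by rw [map_sub, sub_eq_zero]; exact hxy'
    obtain ⟨D', _, _, _, δ, φ, hφ, hk⟩ := Hens.exists_of_ι_eq_zero a.i.γ (x - y) h0
    obtain ⟨k, e, he⟩ := Idx.exists_equiv D' δ
    refine ⟨⟨k⟩, ⟨e.toAlgHom.comp φ, fun c => by
      show k.γ (e (φ c)) = _
      rw [he, hφ]⟩, ?_⟩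
    show e (φ x) = e (φ y)
    rw [map_sub, sub_eq_zero] at hk
    rw [hk]

variable (R Ω) in
/-- `Hens R Ω` is ind-étale over `R`, and so is anything isomorphic to it. -/
theorem isIndEtale_of_algEquiv (S : Type u) [CommRing S] [Algebra R S] (e : S ≃ₐ[R] Hens R Ω) :
    EtPBC.IsIndEtale R S := by
  refine ⟨PIdx R Ω, inferInstance, inferInstance, D, cc, ccIsColimit, ?_, ⟨?_⟩⟩
  · intro a
    have halg : (algebraMap R a.i.C).toAlgebra = (inferInstance : Algebra R a.i.C) :=
      Algebra.algebra_ext _ _ (fun r => rfl)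
    show @Algebra.Etale R a.i.C _ _ (algebraMap R a.i.C).toAlgebra
    rw [halg]
    infer_instance
  · exact Under.isoMk (e.symm.toRingEquiv.toCommRingCatIso) (by
      ext r
      exact e.symm.commutes r)

/-- the statement S12236 -/
theorem s12236 (R : Type u) [CommRing R] [IsLocalRing R]
    (Rh : Type u) [CommRing Rh] [IsLocalRing Rh] [Algebra R Rh] [IsLocalHom (algebraMap R Rh)]
    [Hensel.IsHenselization R Rh] : EtPBC.IsIndEtale R Rh :=
  isIndEtale_of_algEquiv R (IsLocalRing.ResidueField R) Rh (equivOfIsHenselization (R := R) Rh)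

/-- the statement S12237 -/
theorem s12237 (R : Type u) [CommRing R] [IsLocalRing R]
    (Rsh : Type u) [CommRing Rsh] [IsLocalRing Rsh] [Algebra R Rsh] [IsLocalHom (algebraMap R Rsh)]
    [Hensel.IsStrictHenselization R Rsh] : EtPBC.IsIndEtale R Rsh :=
  isIndEtale_of_algEquiv R (IsLocalRing.ResidueField Rsh) Rsh (equivOfIsStrictHenselization R Rsh)

end Groth.Agent.Helper2.HensInd
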