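import Mathlib
import Groth.Prelude
import Groth.Agent.Helper2.IndEtFib
import Groth.Agent.Helper1.EtRed
import Groth.Agent.S0733
import Groth.Agent.S0539
import Groth.Agent.S12237
set_option autoImplicit false
universe u
open TensorProduct

namespace Groth.Agent.Helper2.GeomRedSh

open Groth.Agent.Helper2.IndEtFib

/-- an ind-étale algebra over a reduced ring is reduced. -/
theorem isReduced_of_isIndEtale (T B : Type u) [CommRing T] [CommRing B] [Algebra T B]
    [IsReduced T] (h : EtPBC.IsIndEtale T B) : IsReduced B := by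
  obtain ⟨S⟩ := nonempty_sys h
  constructor
  intro x hx
  obtain ⟨n, hn⟩ := hx
  obtain ⟨j, y, rfl⟩ := S.hsurj x
  have h0 : S.φ j (y ^ n) = S.φ j 0 := by rw [map_pow, hn, map_zero]
  obtain ⟨k, f, hf⟩ := S.hinj j _ _ h0
  rw [map_pow, map_zero] at hf
  haveI : IsReduced (S.R k) := Groth.Agent.Helper1.EtRed.isReduced_of_etale T (S.R k)
  have h1 : S.t f y = 0 := IsReduced.eq_zero _ ⟨n, hf⟩
  rw [← S.hφ f y, h1, map_zero]

/-- statement S10498 -/
theorem main (k : Type u) [Field k]
    (A : Type u) [CommRing A] [IsLocalRing A] [Algebra k A]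
    (R : Type u) [CommRing R] [IsLocalRing R] [Algebra A R] [IsLocalHom (algebraMap A R)]
    [Hensel.IsStrictHenselization A R] [Algebra k R] [IsScalarTower k A R] :
    (∀ (K : Type u) [Field K] [Algebra k K], IsReduced (TensorProduct k K A)) ↔
      ∀ (K : Type u) [Field K] [Algebra k K], IsReduced (TensorProduct k K R) := by
  constructor
  · intro h K _ _
    haveI : IsReduced (A ⊗[k] K) :=
      isReduced_of_injective (Algebra.TensorProduct.comm k A K).toRingHom
        (Algebra.TensorProduct.comm k A K).injective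
    have hind : EtPBC.IsIndEtale (A ⊗[k] K) ((A ⊗[k] K) ⊗[A] R) :=
      Groth.Agent.S0733.result A R (A ⊗[k] K) (Groth.Agent.S12237.result A R)
    haveI := isReduced_of_isIndEtale _ _ hind
    let e1 : ((A ⊗[k] K) ⊗[A] R) ≃ₐ[A] R ⊗[A] (A ⊗[k] K) := Algebra.TensorProduct.comm A _ _
    let e2 : R ⊗[A] (A ⊗[k] K) ≃ₐ[R] R ⊗[k] K :=
      Algebra.TensorProduct.cancelBaseChange k A R R K
    let e3 : R ⊗[k] K ≃ₐ[k] K ⊗[k] R := Algebra.TensorProduct.comm k R K
    let e : K ⊗[k] R ≃+* ((A ⊗[k] K) ⊗[A] R) :=
      (e1.toRingEquiv.trans (e2.toRingEquiv.trans e3.toRingEquiv)).symm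
    exact isReduced_of_injective e.toRingHom e.injective
  · intro h K _ _
    haveI := h K
    haveI : Module.FaithfullyFlat A R := Groth.Agent.S0539.result A R
    have hinj : Function.Injective (algebraMap A R) :=
      FaithfulSMul.algebraMap_injective A R
    let g : K ⊗[k] A →ₐ[k] K ⊗[k] R :=
      Algebra.TensorProduct.map (AlgHom.id k K) (IsScalarTower.toAlgHom k A R)
    have hg : Function.Injective g := by
      have := Module.Flat.lTensor_preserves_injective_linearMap (M := K)
        (IsScalarTower.toAlgHom k A R).toLinearMap hinj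
      exact this
    exact isReduced_of_injective g.toRingHom hg

end Groth.Agent.Helper2.GeomRedSh
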