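import Mathlib
set_option autoImplicit false
universe u
open CategoryTheory Abelian

namespace Groth.Agent.Helper2.HomDim


variable {A : Type u} [CommRing A]

/-- Baer's criterion via `Ext¹`. -/
lemma injective_of_ext_one (M : Type u) [AddCommGroup M] [Module A M]
    (h : ∀ I : Ideal A, Subsingleton (Ext (ModuleCat.of A (A ⧸ I)) (ModuleCat.of A M) 1)) :
    Module.Injective A M := by
  apply Module.Baer.injective
  intro I g
  let S : ShortComplex (ModuleCat.{u} A) :=
    ModuleCat.shortComplexOfCompEqZero I.subtype I.mkQ (by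
      ext x
      show I.mkQ (I.subtype x) = 0
      rw [Submodule.mkQ_apply, Submodule.Quotient.mk_eq_zero]
      exact x.2)
  have hS : S.ShortExact := ModuleCat.shortComplex_shortExact S
    (by
      intro x
      show I.mkQ x = 0 ↔ x ∈ Set.range I.subtype
      rw [Submodule.mkQ_apply, Submodule.Quotient.mk_eq_zero]
      simp)
    I.injective_subtype I.mkQ_surjective
  have := h I
  obtain ⟨x₂, hx₂⟩ := Ext.contravariant_sequence_exact₁ hS (ModuleCat.of A M)
    (Ext.mk₀ (ModuleCat.ofHom g)) (n₁ := 1) rfl (Subsingleton.elim _ _)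
  obtain ⟨g', rfl⟩ := (Ext.mk₀_bijective _ _).2 x₂
  rw [Ext.mk₀_comp_mk₀] at hx₂
  have h2 := (Ext.mk₀_bijective _ _).1 hx₂
  refine ⟨g'.hom, fun x hx => ?_⟩
  have h3 := congrArg (fun φ => φ.hom ⟨x, hx⟩) h2
  exact h3

lemma main : ∀ (n : ℕ) (M : ModuleCat.{u} A),
    (∀ I : Ideal A, Subsingleton (Ext (ModuleCat.of A (A ⧸ I)) M (n + 1))) →
    HasInjectiveDimensionLT M (n + 1) := by
  intro n
  induction n with
  | zero =>
    intro M h
    have : Module.Injective A M := injective_of_ext_one M h
    have : Injective (ModuleCat.of A M) := Module.injective_object_of_injective_module A M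
    exact injective_iff_hasInjectiveDimensionLT_one.1 this
  | succ n ih =>
    intro M h
    let ⟨J, _, f, _⟩ := EnoughInjectives.presentation M
    have injf : Function.Injective f.hom := (ModuleCat.mono_iff_injective f).mp ‹_›
    let S : ShortComplex (ModuleCat.{u} A) :=
      ModuleCat.shortComplexOfCompEqZero _ _ f.hom.exact_map_mkQ_range.linearMap_comp_eq_zero
    have hS := ModuleCat.shortComplex_shortExact S
      f.hom.exact_map_mkQ_range injf (Submodule.mkQ_surjective _)
    have hJ : Injective S.X₂ := ‹Injective J›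
    rw [← hS.hasInjectiveDimensionLT_X₃_iff n hJ]
    apply ih
    intro I
    have := h I
    refine ⟨fun x y => ?_⟩
    have hx : ∀ x : Ext (ModuleCat.of A (A ⧸ I)) S.X₃ (n + 1), x = 0 := by
      intro x
      obtain ⟨x₂, rfl⟩ := Ext.covariant_sequence_exact₃ _ hS x (n₁ := n + 1 + 1) rfl
        (Subsingleton.elim _ _)
      rw [Ext.eq_zero_of_injective x₂, Ext.zero_comp]
    rw [hx x, hx y]




lemma subsingleton_ext_of_iso (M : ModuleCat.{u} A) {X Y : ModuleCat.{u} A} (e : X ≅ Y) (n : ℕ)
    (h : Subsingleton (Ext M X n)) : Subsingleton (Ext M Y n) := by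
  refine ⟨fun x y => ?_⟩
  have hx : ∀ x : Ext M Y n, x = 0 := by
    intro x
    have h1 : x = (x.comp (Ext.mk₀ e.inv) (add_zero n)).comp (Ext.mk₀ e.hom) (add_zero n) := by
      rw [Ext.comp_assoc_of_third_deg_zero, Ext.mk₀_comp_mk₀, e.inv_hom_id, Ext.comp_mk₀_id]
    rw [h1, Subsingleton.elim (x.comp (Ext.mk₀ e.inv) (add_zero n)) 0, Ext.zero_comp]
  rw [hx x, hx y]

lemma subsingleton_ext_of_subsingleton (M : ModuleCat.{u} A) (L : ModuleCat.{u} A)
    [Subsingleton L] (n : ℕ) : Subsingleton (Ext M L n) := by
  refine ⟨fun x y => ?_⟩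
  have hx : ∀ x : Ext M L n, x = 0 := by
    intro x
    have h0 : (𝟙 L : L ⟶ L) = 0 := by
      ext z
      exact Subsingleton.elim _ _
    rw [← Ext.comp_mk₀_id x, h0, Ext.mk₀_zero, Ext.comp_zero]
  rw [hx x, hx y]

lemma finite_of_cyclic (M : ModuleCat.{u} A) (n : ℕ)
    (h : ∀ I : Ideal A, Subsingleton (Ext M (ModuleCat.of A (A ⧸ I)) n)) :
    ∀ (k : ℕ) (L : Type u) [AddCommGroup L] [Module A L] (x : Fin k → L),
      Submodule.span A (Set.range x) = ⊤ → Subsingleton (Ext M (ModuleCat.of A L) n) := by
  intro k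
  induction k with
  | zero =>
    intro L _ _ x hx
    have hsub : Subsingleton L := by
      rw [← Submodule.subsingleton_iff A, ← subsingleton_iff_bot_eq_top, ← hx]
      have : Set.range x = ∅ := Set.range_eq_empty x
      rw [this, Submodule.span_empty]
    exact subsingleton_ext_of_subsingleton M (ModuleCat.of A L) n
  | succ k ih =>
    intro L _ _ x hx
    let g : A →ₗ[A] L := LinearMap.toSpanSingleton A L (x 0)
    let N : Submodule A L := LinearMap.range g
    have hspan : Submodule.span A (Set.range (fun i : Fin k => N.mkQ (x i.succ))) = ⊤ := by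
      rw [eq_top_iff]
      rintro y -
      obtain ⟨y, rfl⟩ := N.mkQ_surjective y
      have hy : y ∈ Submodule.span A (Set.range x) := by rw [hx]; trivial
      induction hy using Submodule.span_induction with
      | mem z hz =>
        obtain ⟨i, rfl⟩ := hz
        refine Fin.cases ?_ (fun j => ?_) i
        · have : N.mkQ (x 0) = 0 := by
            rw [Submodule.mkQ_apply, Submodule.Quotient.mk_eq_zero]
            exact ⟨1, by simp [g]⟩
          rw [this]
          exact Submodule.zero_mem _
        · exact Submodule.subset_span ⟨j, rfl⟩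
      | zero => rw [map_zero]; exact Submodule.zero_mem _
      | add a b _ _ ha hb => rw [map_add]; exact Submodule.add_mem _ ha hb
      | smul c a _ ha => rw [map_smul]; exact Submodule.smul_mem _ c ha
    have h3 : Subsingleton (Ext M (ModuleCat.of A (L ⧸ N)) n) := ih (L ⧸ N) _ hspan
    have h1 : Subsingleton (Ext M (ModuleCat.of A N) n) :=
      subsingleton_ext_of_iso M (g.quotKerEquivRange.toModuleIso) n (h (LinearMap.ker g))
    let S : ShortComplex (ModuleCat.{u} A) :=
      ModuleCat.shortComplexOfCompEqZero N.subtype N.mkQ (by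
        ext z
        show N.mkQ (N.subtype z) = 0
        rw [Submodule.mkQ_apply, Submodule.Quotient.mk_eq_zero]
        exact z.2)
    have hS : S.ShortExact := ModuleCat.shortComplex_shortExact S
      (by
        intro z
        show N.mkQ z = 0 ↔ z ∈ Set.range N.subtype
        rw [Submodule.mkQ_apply, Submodule.Quotient.mk_eq_zero]
        simp)
      N.injective_subtype N.mkQ_surjective
    refine ⟨fun y z => ?_⟩
    have hx0 : ∀ y : Ext M (ModuleCat.of A L) n, y = 0 := by
      intro y
      obtain ⟨y₁, rfl⟩ := Ext.covariant_sequence_exact₂ M hS y (Subsingleton.elim _ _)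
      rw [Subsingleton.elim y₁ 0, Ext.zero_comp]
    rw [hx0 y, hx0 z]


end Groth.Agent.Helper2.HomDim
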