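import Mathlib
import Groth.Agent.S5804

set_option autoImplicit false
open CategoryTheory Abelian TensorProduct
universe u

namespace Groth.Agent.Helper2.GlDimFlat
variable (A B : Type u) [CommRing A] [CommRing B] [IsLocalRing A] [IsLocalRing B]
  [IsNoetherianRing A] [Algebra A B] [IsLocalHom (algebraMap A B)] [Module.Flat A B]

lemma key : ∀ (n : ℕ) (M : Type u) [AddCommGroup M] [Module A M] [Module.Finite A M],
    HasProjectiveDimensionLT (ModuleCat.of B (B ⊗[A] M)) (n + 1) →
    HasProjectiveDimensionLT (ModuleCat.of A M) (n + 1) := by
  intro n
  induction n with
  | zero =>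
    intro M _ _ _ h
    rw [zero_add, ← projective_iff_hasProjectiveDimensionLT_one] at h ⊢
    have hp : Module.Projective B (B ⊗[A] M) := (IsProjective.iff_projective _).2 h
    have : Module.FaithfullyFlat A B := Module.FaithfullyFlat.of_flat_of_isLocalHom
    have : Module.Flat B (B ⊗[A] M) := inferInstance
    have : Module.Flat A M := Module.Flat.of_flat_tensorProduct A M B
    have : Module.Free A M := Module.free_of_flat_of_isLocalRing
    exact (IsProjective.iff_projective _).1 inferInstance
  | succ n ih =>
    intro M _ _ _ h
    obtain ⟨k, f, hf⟩ := Module.Finite.exists_fin' A M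
    have hSA := LinearMap.shortExact_shortComplexKer hf
    have hex : Function.Exact ((LinearMap.ker f).subtype.baseChange B) (f.baseChange B) := by
      have := lTensor_exact B (LinearMap.exact_subtype_ker_map f) hf
      intro x
      simpa [LinearMap.baseChange_eq_ltensor] using this x
    have hinj : Function.Injective ((LinearMap.ker f).subtype.baseChange B) := by
      have := Module.Flat.lTensor_preserves_injective_linearMap (M := B) (LinearMap.ker f).subtype
        (LinearMap.ker f).injective_subtype
      simpa [LinearMap.baseChange_eq_ltensor] using this
    have hsurj : Function.Surjective (f.baseChange B) := by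
      have := LinearMap.lTensor_surjective B hf
      simpa [LinearMap.baseChange_eq_ltensor] using this
    let SB := ModuleCat.shortComplexOfCompEqZero ((LinearMap.ker f).subtype.baseChange B)
      (f.baseChange B) hex.linearMap_comp_eq_zero
    have hSB : SB.ShortExact := ModuleCat.shortComplex_shortExact SB hex hinj hsurj
    have hP2 : Projective SB.X₂ := by
      change Projective (ModuleCat.of B (B ⊗[A] (Fin k → A)))
      exact (IsProjective.iff_projective _).1 inferInstance
    have h1 : HasProjectiveDimensionLT (ModuleCat.of B (B ⊗[A] (LinearMap.ker f))) (n + 1) :=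
      (hSB.hasProjectiveDimensionLT_X₃_iff n hP2).1 h
    have h2 := ih (LinearMap.ker f) h1
    have hP2' : Projective (f.shortComplexKer).X₂ := by
      change Projective (ModuleCat.of A (Fin k → A))
      exact (IsProjective.iff_projective _).1 inferInstance
    exact (hSA.hasProjectiveDimensionLT_X₃_iff n hP2').2 h2

end Groth.Agent.Helper2.GlDimFlat
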