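import Mathlib

set_option autoImplicit false
universe u

namespace Groth.Agent.Helper2.JacobsonTFAE

/-- If every nonzero prime of a domain `D` contains `g`, then `D_g` is a field. -/
theorem isField_away_of_forall_mem {D : Type u} [CommRing D] [IsDomain D] (g : D) (hg : g ≠ 0)
    (h : ∀ q : Ideal D, q.IsPrime → q ≠ ⊥ → g ∈ q) : IsField (Localization.Away g) := by
  have hle : Submonoid.powers g ≤ nonZeroDivisors D :=
    Submonoid.powers_le.mpr (mem_nonZeroDivisors_of_ne_zero hg)
  haveI : IsDomain (Localization.Away g) := IsLocalization.isDomain_localization hle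
  by_contra hnf
  obtain ⟨P, hP0, hPp⟩ := Ring.not_isField_iff_exists_prime.mp hnf
  have hq : (P.comap (algebraMap D (Localization.Away g))).IsPrime := Ideal.comap_isPrime _ _
  have hq0 : P.comap (algebraMap D (Localization.Away g)) ≠ ⊥ := by
    intro h0
    apply hP0
    have := IsLocalization.map_comap (Submonoid.powers g) (Localization.Away g) P
    have h0' : Ideal.under D P = ⊥ := h0
    rw [h0', Ideal.map_bot] at this
    exact this.symm
  have hgq := h _ hq hq0
  rw [Ideal.mem_comap] at hgq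
  have hu : IsUnit (algebraMap D (Localization.Away g) g) :=
    IsLocalization.map_units (Localization.Away g) (⟨g, Submonoid.mem_powers g⟩ : Submonoid.powers g)
  exact hPp.ne_top (Ideal.eq_top_of_isUnit_mem _ hgq hu)

/-- the step (b) ⇒ (a) -/
theorem jacobson_of_b (A : Type u) [CommRing A]
    (hb : ∀ (p : Ideal A) [p.IsPrime], ¬ p.IsMaximal → ∀ f : A ⧸ p, f ≠ 0 →
      ¬ IsField (Localization.Away f)) : IsJacobsonRing A := by
  rw [isJacobsonRing_iff_prime_eq]
  intro P hP
  refine le_antisymm ?_ Ideal.le_jacobson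
  intro a ha
  by_contra haP
  -- an ideal maximal among those containing `P` and avoiding the powers of `a`
  have hdisj : Disjoint (P : Set A) (Submonoid.powers a) := by
    rw [Set.disjoint_right]
    rintro _ ⟨n, rfl⟩ hn
    exact haP (hP.mem_of_pow_mem n hn)
  have ⟨q₀, hPq₀, hq₀⟩ := zorn_le_nonempty₀ {p : Ideal A | Disjoint (p : Set A) (Submonoid.powers a)}
    (fun c hc hc' x hx ↦ by
      cases isEmpty_or_nonempty c
      · exact ⟨P, hdisj, fun J hJ ↦ isEmptyElim (⟨J, hJ⟩ : c)⟩
      refine ⟨sSup c, Set.disjoint_left.mpr fun x hx ↦ ?_, fun _ ↦ le_sSup⟩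
      have ⟨p, hp⟩ := (Submodule.mem_iSup_of_directed _ hc'.directed).mp (sSup_eq_iSup' c ▸ hx)
      exact Set.disjoint_left.mp (hc p.2) hp) P hdisj
  have hq₀p : q₀.IsPrime :=
    Ideal.isPrime_of_maximally_disjoint _ _ hq₀.1 (fun _ ↦ hq₀.not_prop_of_gt)
  have haq₀ : a ∉ q₀ := fun h => Set.disjoint_left.mp hq₀.1 h (Submonoid.mem_powers a)
  have hnotmax : ¬ q₀.IsMaximal := by
    intro hmax
    apply haq₀
    exact (Ideal.mem_sInf.mp ha) ⟨hPq₀, hmax⟩
  have hf0 : (Ideal.Quotient.mk q₀ a) ≠ 0 := fun h => haq₀ (Ideal.Quotient.eq_zero_iff_mem.mp h)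
  have hnf := hb q₀ hnotmax (Ideal.Quotient.mk q₀ a) hf0
  haveI : IsDomain (A ⧸ q₀) := Ideal.Quotient.isDomain q₀
  apply hnf
  apply isField_away_of_forall_mem _ hf0
  intro q hq hq0
  by_contra hfq
  set q' : Ideal A := q.comap (Ideal.Quotient.mk q₀) with hq'
  have hlt : q₀ < q' := by
    refine lt_of_le_of_ne ?_ ?_
    · intro x hx
      rw [hq', Ideal.mem_comap, Ideal.Quotient.eq_zero_iff_mem.mpr hx]
      exact q.zero_mem
    · intro heq
      apply hq0
      rw [eq_bot_iff]
      intro y hy
      obtain ⟨x, rfl⟩ := Ideal.Quotient.mk_surjective y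
      have : x ∈ q' := hy
      rw [← heq] at this
      rw [Ideal.mem_bot]
      exact Ideal.Quotient.eq_zero_iff_mem.mpr this
  have hnd := hq₀.not_prop_of_gt hlt
  apply hnd
  rw [Set.mem_setOf_eq, Set.disjoint_right]
  rintro _ ⟨n, rfl⟩ hn
  apply hfq
  have : (Ideal.Quotient.mk q₀ a) ^ n ∈ q := by
    rw [← map_pow]
    exact hn
  exact hq.mem_of_pow_mem n this

/-- the step (b') ⇒ (b) -/
theorem b_of_b' (A : Type u) [CommRing A]
    (hb' : ∀ (K : Type u) [Field K] [Algebra A K], Algebra.FiniteType A K → Module.Finite A K)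
    (p : Ideal A) [p.IsPrime] (hp : ¬ p.IsMaximal) (f : A ⧸ p) (hf : f ≠ 0) :
    ¬ IsField (Localization.Away f) := by
  intro hK
  apply hp
  apply Ideal.Quotient.maximal_of_isField
  letI := hK.toField
  have hft : Algebra.FiniteType A (Localization.Away f) := inferInstance
  haveI : Module.Finite A (Localization.Away f) := hb' (Localization.Away f) hft
  haveI : Algebra.IsIntegral A (Localization.Away f) := inferInstance
  haveI : Algebra.IsIntegral (A ⧸ p) (Localization.Away f) :=
    Algebra.IsIntegral.tower_top (R := A)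
  have hle : Submonoid.powers f ≤ nonZeroDivisors (A ⧸ p) :=
    Submonoid.powers_le.mpr (mem_nonZeroDivisors_of_ne_zero hf)
  exact isField_of_isIntegral_of_isField (IsLocalization.injective (Localization.Away f) hle) hK

end Groth.Agent.Helper2.JacobsonTFAE
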