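import Mathlib
import Groth.Agent.Helper2.JacobsonTFAE

set_option autoImplicit false
universe u
open Groth.Agent.Helper2.JacobsonTFAE

namespace Groth.Agent.Helper2.GoldmanDomain

/-- If `B_f` is a field then every nonzero prime contains `f`. -/
theorem mem_of_isField_away {B : Type u} [CommRing B] [IsDomain B] (f : B) (hf : f ≠ 0)
    (hK : IsField (Localization.Away f)) (q : Ideal B) (hq : q.IsPrime) (hq0 : q ≠ ⊥) : f ∈ q := by
  by_contra hfq
  apply hq0
  letI := hK.toField
  have hle : Submonoid.powers f ≤ nonZeroDivisors B :=
    Submonoid.powers_le.mpr (mem_nonZeroDivisors_of_ne_zero hf)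
  have hinj : Function.Injective (algebraMap B (Localization.Away f)) :=
    IsLocalization.injective (Localization.Away f) hle
  have hd : Disjoint ((Submonoid.powers f : Submonoid B) : Set B) (q : Set B) := by
    rw [Set.disjoint_left]
    rintro _ ⟨n, rfl⟩ hn
    exact hfq (hq.mem_of_pow_mem n hn)
  have hp := IsLocalization.isPrime_of_isPrime_disjoint (Submonoid.powers f)
    (Localization.Away f) q hq hd
  have hc := IsLocalization.comap_map_of_isPrime_disjoint (Submonoid.powers f)
    (Localization.Away f) hq hd
  rcases Ideal.eq_bot_or_top (Ideal.map (algebraMap B (Localization.Away f)) q) with h | h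
  · rw [h] at hc
    rw [← hc, eq_bot_iff]
    intro x hx
    rw [Ideal.mem_comap, Ideal.mem_bot] at hx
    rw [Ideal.mem_bot]
    exact hinj (by rw [hx, map_zero])
  · exact absurd h hp.ne_top

theorem a_to_b {B : Type u} [CommRing B] [IsDomain B] (f : B) (hf : f ≠ 0)
    (hK : IsField (Localization.Away f)) : Algebra.FiniteType B (FractionRing B) := by
  letI := hK.toField
  have hle : Submonoid.powers f ≤ nonZeroDivisors B :=
    Submonoid.powers_le.mpr (mem_nonZeroDivisors_of_ne_zero hf)
  have hinj : Function.Injective (algebraMap B (Localization.Away f)) :=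
    IsLocalization.injective (Localization.Away f) hle
  haveI : IsFractionRing B (Localization.Away f) := by
    refine IsLocalization.of_le (M := Submonoid.powers f) (nonZeroDivisors B) hle ?_
    intro r hr
    have : algebraMap B (Localization.Away f) r ≠ 0 := by
      intro h0
      exact nonZeroDivisors.ne_zero hr (hinj (by rw [h0, map_zero]))
    exact this.isUnit
  have e : FractionRing B ≃ₐ[B] Localization.Away f := FractionRing.algEquiv B _
  have hft : Algebra.FiniteType B (Localization.Away f) := inferInstance
  exact hft.equiv e.symm

theorem c_to_a {B : Type u} [CommRing B] [IsDomain B] (K : Type u) [Field K] [Algebra B K]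
    (hinj : Function.Injective (algebraMap B K)) (hft : Algebra.FiniteType B K) :
    ∃ f : B, f ≠ 0 ∧ IsField (Localization.Away f) := by
  classical
  haveI : FaithfulSMul B K := (faithfulSMul_iff_algebraMap_injective B K).mpr hinj
  -- `K` is algebraic over `B`
  have halg : Algebra.IsAlgebraic B K := by
    letI : Algebra (FractionRing B) K := FractionRing.liftAlgebra B K
    haveI : IsScalarTower B (FractionRing B) K := FractionRing.isScalarTower_liftAlgebra B K
    haveI : Algebra.FiniteType (FractionRing B) K :=
      Algebra.FiniteType.of_restrictScalars_finiteType B (FractionRing B) K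
    haveI : Module.Finite (FractionRing B) K :=
      finite_of_finite_type_of_isJacobsonRing (FractionRing B) K
    haveI : Algebra.IsAlgebraic (FractionRing B) K := Algebra.IsAlgebraic.of_finite _ _
    exact (IsFractionRing.comap_isAlgebraic_iff (A := B) (K := FractionRing B) (C := K)).mpr
      inferInstance
  obtain ⟨s, hs⟩ := hft.out
  choose a ha0 ha using fun x : K => (halg.isAlgebraic x).exists_integral_multiple
  set f : B := ∏ x ∈ s, a x with hfdef
  have hf0 : f ≠ 0 := Finset.prod_ne_zero_iff.mpr fun x _ => ha0 x
  refine ⟨f, hf0, ?_⟩
  have hunit : IsUnit (algebraMap B K f) := by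
    have : algebraMap B K f ≠ 0 := fun h => hf0 (hinj (by rw [h, map_zero]))
    exact this.isUnit
  letI : Algebra (Localization.Away f) K := (IsLocalization.Away.lift f hunit).toAlgebra
  haveI : IsScalarTower B (Localization.Away f) K :=
    IsScalarTower.of_algebraMap_eq fun x => (IsLocalization.Away.lift_eq f hunit x).symm
  have hinj' : Function.Injective (algebraMap (Localization.Away f) K) := by
    rw [IsLocalization.injective_iff_map_algebraMap_eq (Submonoid.powers f)]
    intro x y
    rw [← IsScalarTower.algebraMap_apply, ← IsScalarTower.algebraMap_apply]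
    have hle : Submonoid.powers f ≤ nonZeroDivisors B :=
      Submonoid.powers_le.mpr (mem_nonZeroDivisors_of_ne_zero hf0)
    rw [(IsLocalization.injective (Localization.Away f) hle).eq_iff, hinj.eq_iff]
  have hint : Algebra.IsIntegral (Localization.Away f) K := by
    have hsint : ∀ x ∈ s, IsIntegral (Localization.Away f) x := by
      intro x hx
      have hdvd : a x ∣ f := Finset.dvd_prod_of_mem a hx
      have hu : IsUnit (algebraMap B (Localization.Away f) (a x)) :=
        IsLocalization.Away.isUnit_of_dvd f hdvd
      obtain ⟨u, hu⟩ := hu
      have h1 : IsIntegral (Localization.Away f) (a x • x) := (ha x).tower_top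
      have h2 : IsIntegral (Localization.Away f)
          (algebraMap (Localization.Away f) K (↑u⁻¹ : Localization.Away f)) := isIntegral_algebraMap
      have h3 := h2.mul h1
      have : algebraMap (Localization.Away f) K (↑u⁻¹ : Localization.Away f) * (a x • x) = x := by
        rw [Algebra.smul_def, IsScalarTower.algebraMap_apply B (Localization.Away f) K, ← hu,
          ← mul_assoc, ← map_mul, Units.inv_mul, map_one, one_mul]
      rwa [this] at h3
    have htop : Algebra.adjoin (Localization.Away f) (s : Set K) = ⊤ := by
      rw [eq_top_iff]
      intro y _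
      have hy : y ∈ Algebra.adjoin B (s : Set K) := by rw [hs]; trivial
      have hle : Algebra.adjoin B (s : Set K) ≤
          (Algebra.adjoin (Localization.Away f) (s : Set K)).restrictScalars B :=
        Algebra.adjoin_le fun z hz => Algebra.subset_adjoin hz
      exact hle hy
    have hle : Algebra.adjoin (Localization.Away f) (s : Set K) ≤
        integralClosure (Localization.Away f) K := Algebra.adjoin_le fun z hz => hsint z hz
    constructor
    intro y
    have : y ∈ Algebra.adjoin (Localization.Away f) (s : Set K) := by rw [htop]; trivial
    exact hle this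
  exact isField_of_isIntegral_of_isField hinj' (Field.toIsField K)

theorem a_iff_d (B : Type u) [CommRing B] [IsDomain B] :
    (∃ f : B, f ≠ 0 ∧ IsField (Localization.Away f)) ↔
      IsOpen ({⟨⊥, Ideal.bot_prime⟩} : Set (PrimeSpectrum B)) := by
  constructor
  · rintro ⟨f, hf, hK⟩
    have : ({⟨⊥, Ideal.bot_prime⟩} : Set (PrimeSpectrum B)) = PrimeSpectrum.basicOpen f := by
      ext q
      simp only [Set.mem_singleton_iff, SetLike.mem_coe, PrimeSpectrum.mem_basicOpen]
      constructor
      · rintro rfl
        simpa using hf
      · intro hfq
        by_contra hq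
        apply hfq
        apply mem_of_isField_away f hf hK q.asIdeal q.isPrime
        intro h0
        apply hq
        ext1
        exact h0
    rw [this]
    exact (PrimeSpectrum.basicOpen f).isOpen
  · intro ho
    obtain ⟨U, ⟨f, rfl⟩, hmem, hsub⟩ :=
      PrimeSpectrum.isTopologicalBasis_basic_opens.exists_subset_of_mem_open
        (Set.mem_singleton (⟨⊥, Ideal.bot_prime⟩ : PrimeSpectrum B)) ho
    have hf : f ≠ 0 := by
      intro h0
      apply hmem
      simp [h0]
    refine ⟨f, hf, isField_away_of_forall_mem f hf ?_⟩
    intro q hq hq0
    by_contra hfq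
    have : (⟨q, hq⟩ : PrimeSpectrum B) ∈ ({⟨⊥, Ideal.bot_prime⟩} : Set (PrimeSpectrum B)) :=
      hsub hfq
    rw [Set.mem_singleton_iff, PrimeSpectrum.ext_iff] at this
    exact hq0 this

end Groth.Agent.Helper2.GoldmanDomain
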