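import Mathlib
import Groth.Prelude
import Groth.Agent.Helper2.NilpCrit

set_option autoImplicit false
open Function TensorProduct LinearMap
open Groth.Agent.Helper2.TorReg
universe u

namespace Groth.Agent.Helper2.GrFlat

variable {A : Type u} [CommRing A] (I : Ideal A) (M : Type u) [AddCommGroup M] [Module A M]

local notation "𝓕" => FiltBl.IdealFiltration.adic I

/-- the map `I^j ⊗ M → gr_j ⊗ M/IM` -/
noncomputable def phi (j : ℕ) :
    ↥((𝓕).F j) ⊗[A] M →ₗ[A]
      ↥(AssocGr.gr (𝓕) j) ⊗[A] (M ⧸ (I • (⊤ : Submodule A M))) :=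
  TensorProduct.map (AssocGr.inDeg (𝓕) j)
    (I • (⊤ : Submodule A M)).mkQ

lemma F_succ_le (j : ℕ) : (𝓕).F (j+1) ≤ (𝓕).F j := (𝓕).antitone (Nat.le_succ j)

lemma ker_phi_le (j : ℕ) :
    LinearMap.ker (phi I M j) ≤
      LinearMap.range (rTensor M (Submodule.inclusion (F_succ_le I j))) := by
  have hg : Surjective (AssocGr.inDeg (𝓕) j) :=
    AssocGr.inDeg_surjective _ j
  have hg' : Surjective (I • (⊤ : Submodule A M)).mkQ := Submodule.mkQ_surjective _
  have hfg := LinearMap.exact_subtype_ker_map (AssocGr.inDeg (𝓕) j)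
  have hfg' := LinearMap.exact_subtype_mkQ (I • (⊤ : Submodule A M))
  have hk := TensorProduct.map_ker hfg hg hfg' hg'
  unfold phi
  rw [hk]
  apply sup_le
  · rintro _ ⟨y, rfl⟩
    induction y using TensorProduct.induction_on with
    | zero => simp
    | add a b ha hb => rw [map_add]; exact Submodule.add_mem _ ha hb
    | tmul a n =>
      obtain ⟨n, hn⟩ := n
      rw [lTensor_tmul]
      change a ⊗ₜ[A] n ∈ _
      refine Submodule.smul_induction_on hn ?_ ?_
      · intro b hb m _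
        refine ⟨(⟨b * a, ?_⟩ : ↥((𝓕).F (j+1))) ⊗ₜ m, ?_⟩
        · change b * (a : A) ∈ I ^ (j+1)
          rw [pow_succ']; exact Ideal.mul_mem_mul hb (show (a : A) ∈ I ^ j from a.2)
        · rw [rTensor_tmul]
          have h1 : (Submodule.inclusion (F_succ_le I j) ⟨b * a, by
              change b * (a : A) ∈ I ^ (j+1)
              rw [pow_succ']; exact Ideal.mul_mem_mul hb (show (a : A) ∈ I ^ j from a.2)⟩ :
                ↥((𝓕).F j)) = b • a := rfl
          rw [h1]
          simp only [TensorProduct.tmul_smul, TensorProduct.smul_tmul']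
      · intro x y hx hy
        rw [TensorProduct.tmul_add]; exact Submodule.add_mem _ hx hy
  · rintro _ ⟨y, rfl⟩
    induction y using TensorProduct.induction_on with
    | zero => simp
    | add a b ha hb => rw [map_add]; exact Submodule.add_mem _ ha hb
    | tmul k m =>
      obtain ⟨k, hk⟩ := k
      have hk' : (k : A) ∈ (𝓕).F (j+1) :=
        (AssocGr.inDeg_eq_zero_iff (𝓕) j k).1 (LinearMap.mem_ker.1 hk)
      exact ⟨(⟨k, hk'⟩ : ↥((𝓕).F (j+1))) ⊗ₜ m, by rw [rTensor_tmul]; rfl⟩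


/-- the hypothesis of the statement, in packaged form -/
def GrInj : Prop :=
  ∀ (n k : ℕ) (a : Fin k → ↥((𝓕).F n)) (x : Fin k → ↥((Rees.powFilt I M).N 0)),
      (∑ i, (AssocGr.inDeg (𝓕) n (a i) : AssocGr.GrRing (𝓕)) •
        (AssocGr.inDegM (Rees.powFilt I M) 0 (x i) : AssocGr.GrMod (Rees.powFilt I M))) = 0 →
      (∑ i, (AssocGr.inDeg (𝓕) n (a i)) ⊗ₜ[A] (Submodule.Quotient.mk (x i : M)) :
        ↥(AssocGr.gr (𝓕) n) ⊗[A] (M ⧸ (I • (⊤ : Submodule A M)))) = 0

variable {I M}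

lemma phi_eq_zero (hinj : GrInj I M) (j : ℕ) (t : ↥((𝓕).F j) ⊗[A] M)
    (ht : muI ((𝓕).F j) t ∈ (I ^ (j+1) • ⊤ : Submodule A M)) : phi I M j t = 0 := by
  classical
  obtain ⟨S, hS⟩ := TensorProduct.exists_finset t
  let e : Fin S.card ≃ S := S.equivFin.symm
  have hmem0 : ∀ m : M, m ∈ (Rees.powFilt I M).N 0 := by
    intro m
    change m ∈ I ^ 0 • (⊤ : Submodule A M)
    simp
  let a : Fin S.card → ↥((𝓕).F j) := fun i => (e i).1.1
  let x : Fin S.card → ↥((Rees.powFilt I M).N 0) := fun i => ⟨(e i).1.2, hmem0 _⟩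
  have ht' : t = ∑ i, a i ⊗ₜ[A] (x i : M) := by
    rw [hS, ← Finset.sum_coe_sort S, ← Equiv.sum_comp e]
  have key := hinj j S.card a x ?_
  · rw [ht']
    unfold phi
    rw [map_sum]
    simpa only [TensorProduct.map_tmul, Submodule.mkQ_apply] using key
  · have h1 : ∀ i, (AssocGr.inDeg (𝓕) j (a i) : AssocGr.GrRing (𝓕)) •
        (AssocGr.inDegM (Rees.powFilt I M) 0 (x i) : AssocGr.GrMod (Rees.powFilt I M)) =
        (AssocGr.inDegM (Rees.powFilt I M) (j + 0) ⟨((a i : ↥((𝓕).F j)) : A) • (x i : M),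
          (Rees.powFilt I M).pow_smul_le j 0
            (Submodule.smul_mem_smul (show ((a i : ↥((𝓕).F j)) : A) ∈ I ^ j from (a i).2) (x i).2)⟩ :
          AssocGr.GrMod (Rees.powFilt I M)) := fun i =>
      AssocGr.inDeg_smul_inDegM (Rees.powFilt I M) j 0 (a i) (x i)
    simp only [h1]
    rw [← AddSubmonoidClass.coe_finsetSum, ← map_sum, ZeroMemClass.coe_eq_zero,
      AssocGr.inDegM_eq_zero_iff]
    rw [Submodule.coe_sum]
    change (∑ i, ((a i : ↥((𝓕).F j)) : A) • (x i : M)) ∈ (I ^ (j + 0 + 1) • ⊤ : Submodule A M)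
    have h2 : muI ((𝓕).F j) t = ∑ i, ((a i : ↥((𝓕).F j)) : A) • (x i : M) := by
      rw [ht', map_sum]
      simp only [muI_tmul]
    rw [← h2]
    exact ht


lemma injective_step (hinj : GrInj I M) (j : ℕ)
    (h : Injective (rTensor M ((𝓕).F (j+1)).subtype)) :
    Injective (rTensor M ((𝓕).F j).subtype) := by
  rw [← muI_injective_iff] at h ⊢
  rw [injective_iff_map_eq_zero] at h ⊢
  intro t ht
  have h1 : phi I M j t = 0 := phi_eq_zero hinj j t (by rw [ht]; exact Submodule.zero_mem _)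
  obtain ⟨y, rfl⟩ := ker_phi_le I M j (LinearMap.mem_ker.2 h1)
  have h2 := Groth.Agent.Helper2.NilpCrit.muI_inclusion (M := M) (F_succ_le I j) y
  rw [ht] at h2
  rw [h _ h2.symm, map_zero]

lemma all_injective (hI : IsNilpotent I) (hinj : GrInj I M) (j : ℕ) :
    Injective (rTensor M (I ^ j).subtype) := by
  obtain ⟨N, hN⟩ := hI
  suffices H : ∀ d j : ℕ, N ≤ j + d → Injective (rTensor M ((𝓕).F j).subtype) from
    H N j (Nat.le_add_left _ _)
  intro d
  induction d with
  | zero =>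
    intro j hj
    have h0 : I ^ j = ⊥ := by
      rw [eq_bot_iff, ← Ideal.zero_eq_bot, ← hN]
      exact Ideal.pow_le_pow_right (by simpa using hj)
    have hs : Subsingleton ↥((𝓕).F j) := by
      refine ⟨fun a b => Subtype.ext ?_⟩
      have ha : (a : A) ∈ I ^ j := a.2
      have hb : (b : A) ∈ I ^ j := b.2
      rw [h0, Ideal.mem_bot] at ha hb
      rw [ha, hb]
    intro t t' _
    exact Subsingleton.elim _ _
  | succ d ih =>
    intro j hj
    exact injective_step hinj j (ih (j+1) (by omega))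

theorem flat_of_grInj (hI : IsNilpotent I)
    (hflat : Module.Flat (A ⧸ I) (M ⧸ (I • (⊤ : Submodule A M)))) (hinj : GrInj I M) :
    Module.Flat A M := by
  have e : ((A ⧸ I) ⊗[A] M) ≃ₗ[A ⧸ I] (M ⧸ (I • (⊤ : Submodule A M))) :=
    (TensorProduct.quotTensorEquivQuotSMul M I).extendScalarsOfSurjective
      Ideal.Quotient.mk_surjective
  haveI : Module.Flat (A ⧸ I) ((A ⧸ I) ⊗[A] M) := Module.Flat.of_linearEquiv e
  exact Groth.Agent.Helper2.NilpCrit.flat_of_nilpotent I hI (all_injective hI hinj)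

end Groth.Agent.Helper2.GrFlat
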