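import Mathlib

set_option autoImplicit false
universe u

namespace Groth.Agent.Helper2.GradedShift

open DirectSum

section comp

variable {R A : Type u} [CommRing R] [CommRing A] [Algebra R A] (𝒜 : ℕ → Submodule R A)
  [GradedAlgebra 𝒜]
  {M : Type u} [AddCommGroup M] [Module R M] [Module A M] [IsScalarTower R A M]
  (ℳ : ℕ → Submodule R M) [DirectSum.Decomposition ℳ] [SetLike.GradedSMul 𝒜 ℳ]

/-- the component of `g • v` in degree `n + h` for `g` of degree `h` -/
theorem decompose_smul_of_mem {h : ℕ} {g : A} (hg : g ∈ 𝒜 h) (v : M) (n : ℕ) :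
    (decompose ℳ (g • v) (n + h) : M) = g • (decompose ℳ v n : M) := by
  induction v using DirectSum.Decomposition.inductionOn ℳ with
  | zero => simp
  | @homogeneous k m =>
    have hmem : g • (m : M) ∈ ℳ (h + k) := SetLike.GradedSMul.smul_mem hg m.2
    by_cases hk : k = n
    · subst hk
      rw [decompose_of_mem_same ℳ m.2]
      have : g • (m : M) ∈ ℳ (k + h) := by rwa [add_comm] at hmem
      rw [decompose_of_mem_same ℳ this]
    · rw [decompose_of_mem_ne ℳ m.2 hk, smul_zero]
      exact decompose_of_mem_ne ℳ hmem (by omega)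
  | add m m' hm hm' =>
    rw [smul_add, decompose_add, decompose_add, DirectSum.add_apply, DirectSum.add_apply,
      Submodule.coe_add, Submodule.coe_add, hm, hm', smul_add]

end comp

theorem main {R A : Type u} [CommRing R] [CommRing A] [Algebra R A] (𝒜 : ℕ → Submodule R A)
    [GradedAlgebra 𝒜] [Algebra.FiniteType (𝒜 0) A]
    {M : Type u} [AddCommGroup M] [Module R M] [Module A M] [IsScalarTower R A M]
    (ℳ : ℕ → Submodule R M) [DirectSum.Decomposition ℳ] [SetLike.GradedSMul 𝒜 ℳ]
    [Module.Finite A M] :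
    ∃ (n₁ h : ℕ), 0 < h ∧ ∀ n : ℕ, n₁ ≤ n →
      ℳ (n + h) = (𝒜 h : Submodule R A) • (ℳ n : Submodule R M) := by
  classical
  obtain ⟨s, hs, hs'⟩ := GradedAlgebra.exists_finset_adjoin_eq_top_and_homogeneous_ne_zero 𝒜
  choose! δ hδ0 hδ using hs'
  -- the common degree
  set h : ℕ := ∏ f ∈ s, δ f with hh
  have hhpos : 0 < h := Finset.prod_pos fun f hf => Nat.pos_of_ne_zero (hδ0 f hf)
  -- the powers `g_f = f ^ (h / δ f) ∈ 𝒜 h`
  let γ : A → A := fun f => f ^ (h / δ f)
  have hγ : ∀ f ∈ s, γ f ∈ 𝒜 h := by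
    intro f hf
    have hdvd : δ f ∣ h := Finset.dvd_prod_of_mem δ hf
    have := SetLike.pow_mem_graded (h / δ f) (hδ f hf)
    rwa [smul_eq_mul, Nat.div_mul_cancel hdvd] at this
  have hmpos : ∀ f ∈ s, 0 < h / δ f := by
    intro f hf
    exact Nat.div_pos (Nat.le_of_dvd hhpos (Finset.dvd_prod_of_mem δ hf))
      (Nat.pos_of_ne_zero (hδ0 f hf))
  -- the subalgebra `C`
  let C : Subalgebra (𝒜 0) A := Algebra.adjoin (𝒜 0) ((s.image γ : Finset A) : Set A)
  have hγC : ∀ f ∈ s, γ f ∈ C := fun f hf => Algebra.subset_adjoin (by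
    simp only [Finset.coe_image, Set.mem_image, Finset.mem_coe]
    exact ⟨f, hf, rfl⟩)
  -- `A` is finite over `C`
  have hint : ∀ f ∈ (s : Set A), IsIntegral C f := by
    intro f hf
    have hmonic : Polynomial.Monic
        ((Polynomial.X ^ (h / δ f) - Polynomial.C (⟨γ f, hγC f hf⟩ : C) : Polynomial C)) :=
      Polynomial.monic_X_pow_sub_C (R := C) ⟨γ f, hγC f hf⟩ (hmpos f hf).ne'
    refine ⟨_, hmonic, ?_⟩
    rw [Polynomial.eval₂_sub, Polynomial.eval₂_pow, Polynomial.eval₂_X, Polynomial.eval₂_C]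
    exact sub_self _
  have htop : Algebra.adjoin C (s : Set A) = ⊤ := by
    rw [eq_top_iff]
    intro x _
    have hx : x ∈ Algebra.adjoin (𝒜 0) (s : Set A) := by rw [hs]; trivial
    induction hx using Algebra.adjoin_induction with
    | mem x hx => exact Algebra.subset_adjoin hx
    | algebraMap r =>
      have : algebraMap (𝒜 0) A r = algebraMap C A (algebraMap (𝒜 0) C r) := rfl
      rw [this]
      exact Subalgebra.algebraMap_mem _ _
    | add x y _ _ hx hy => exact Subalgebra.add_mem _ (hx trivial) (hy trivial)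
    | mul x y _ _ hx hy => exact Subalgebra.mul_mem _ (hx trivial) (hy trivial)
  haveI hfinA : Module.Finite C A := by
    have := fg_adjoin_of_finite s.finite_toSet hint
    rw [htop] at this
    exact ⟨by simpa using this⟩
  haveI hfinM : Module.Finite C M := Module.Finite.trans A M
  -- structure of `C`: `c = a + ∑ g_f c_f`
  have hC : ∀ c ∈ C, ∃ a ∈ 𝒜 0, ∃ t : A → A, c = a + ∑ f ∈ s, γ f * t f := by
    intro c hc
    induction hc using Algebra.adjoin_induction with
    | mem x hx =>
      simp only [Finset.coe_image, Set.mem_image, Finset.mem_coe] at hx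
      obtain ⟨f, hf, rfl⟩ := hx
      refine ⟨0, Submodule.zero_mem _, fun f' => if f' = f then 1 else 0, ?_⟩
      rw [zero_add, Finset.sum_eq_single f]
      · simp
      · intro b _ hb; simp [hb]
      · intro hf'; exact absurd hf hf'
    | algebraMap r =>
      exact ⟨r, r.2, fun _ => 0, by simp⟩
    | add x y _ _ hx hy =>
      obtain ⟨a, ha, t, rfl⟩ := hx
      obtain ⟨a', ha', t', rfl⟩ := hy
      refine ⟨a + a', Submodule.add_mem _ ha ha', fun f => t f + t' f, ?_⟩
      simp only [mul_add, Finset.sum_add_distrib]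
      ring
    | mul x y _ _ hx hy =>
      obtain ⟨a, ha, t, rfl⟩ := hx
      obtain ⟨a', ha', t', rfl⟩ := hy
      refine ⟨a * a', by simpa using SetLike.mul_mem_graded ha ha',
        fun f => t f * (a' + ∑ f' ∈ s, γ f' * t' f') + a * t' f, ?_⟩
      have e : ∑ f ∈ s, γ f * (t f * (a' + ∑ f' ∈ s, γ f' * t' f') + a * t' f) =
          (∑ f ∈ s, γ f * t f) * (a' + ∑ f' ∈ s, γ f' * t' f') + a * ∑ f ∈ s, γ f * t' f := by
        rw [Finset.sum_mul, Finset.mul_sum, ← Finset.sum_add_distrib]
        exact Finset.sum_congr rfl (fun f _ => by ring)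
      rw [e]
      ring
  -- homogeneous generators of `M` over `C`
  obtain ⟨T, hT⟩ := hfinM.fg_top
  let Y : Finset M :=
    T.biUnion fun y => (decompose ℳ y).support.image fun i => ((decompose ℳ y i : ℳ i) : M)
  set n₁ : ℕ := T.sup fun y => (decompose ℳ y).support.sup id with hn₁
  have hYspan : Submodule.span C (Y : Set M) = ⊤ := by
    rw [eq_top_iff, ← hT, Submodule.span_le]
    intro y hy
    rw [SetLike.mem_coe, ← DirectSum.sum_support_decompose ℳ y]
    refine Submodule.sum_mem _ fun i hi => Submodule.subset_span ?_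
    simp only [Y, Finset.coe_biUnion, Finset.coe_image, Set.mem_iUnion, Set.mem_image,
      Finset.mem_coe, exists_prop]
    exact ⟨y, hy, i, hi, rfl⟩
  have hYdeg : ∀ y ∈ Y, ∃ e, e ≤ n₁ ∧ y ∈ ℳ e := by
    intro y hy
    simp only [Y, Finset.mem_biUnion, Finset.mem_image] at hy
    obtain ⟨y', hy', i, hi, rfl⟩ := hy
    refine ⟨i, ?_, SetLike.coe_mem _⟩
    refine le_trans ?_ (Finset.le_sup (f := fun y => (decompose ℳ y).support.sup id) hy')
    exact Finset.le_sup (f := id) hi
  refine ⟨n₁, h, hhpos, fun n hn => le_antisymm ?_ ?_⟩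
  · intro z hz
    have hzspan : z ∈ Submodule.span C (Y : Set M) := by rw [hYspan]; trivial
    obtain ⟨c, -, hcz⟩ := Submodule.mem_span_finset.mp hzspan
    have hc' : ∀ y : M, ∃ a ∈ 𝒜 0, ∃ t : A → A, ((c y : C) : A) = a + ∑ f ∈ s, γ f * t f :=
      fun y => hC _ (c y).2
    choose a ha t hat using hc'
    set v : A → M := fun f => ∑ y ∈ Y, t y f • y with hv
    have hzw : z = ∑ y ∈ Y, a y • y + ∑ f ∈ s, γ f • v f := by
      rw [← hcz]
      have : ∀ y ∈ Y, c y • y = a y • y + ∑ f ∈ s, γ f • (t y f • y) := by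
        intro y _
        have : c y • y = ((c y : C) : A) • y := rfl
        rw [this, hat y, add_smul, Finset.sum_smul]
        congr 1
        exact Finset.sum_congr rfl fun f _ => mul_smul _ _ _
      rw [Finset.sum_congr rfl this, Finset.sum_add_distrib, Finset.sum_comm]
      congr 1
      exact Finset.sum_congr rfl fun f _ => by rw [hv, Finset.smul_sum]
    have hcomp : (decompose ℳ z (n + h) : M) = ∑ f ∈ s, γ f • (decompose ℳ (v f) n : M) := by
      rw [hzw, decompose_add, DirectSum.add_apply, Submodule.coe_add, decompose_sum,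
        decompose_sum, DFinsupp.finsetSum_apply, DFinsupp.finsetSum_apply,
        AddSubmonoidClass.coe_finsetSum, AddSubmonoidClass.coe_finsetSum]
      have h0 : ∑ y ∈ Y, ((decompose ℳ (a y • y) (n + h) : ℳ (n + h)) : M) = 0 := by
        refine Finset.sum_eq_zero fun y hy => ?_
        obtain ⟨e, he, hye⟩ := hYdeg y hy
        have hmem : a y • y ∈ ℳ (0 + e) := SetLike.GradedSMul.smul_mem (ha y) hye
        exact decompose_of_mem_ne ℳ hmem (by omega)
      rw [h0, zero_add]
      exact Finset.sum_congr rfl fun f hf => decompose_smul_of_mem 𝒜 ℳ (hγ f hf) (v f) n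
    rw [← decompose_of_mem_same ℳ hz, hcomp]
    refine Submodule.sum_mem _ fun f hf => ?_
    exact Submodule.smul_mem_smul (hγ f hf) (SetLike.coe_mem _)
  · rw [Submodule.smul_le]
    intro g hg m hm
    have := SetLike.GradedSMul.smul_mem (A := 𝒜) (B := ℳ) hg hm
    rwa [vadd_eq_add, add_comm] at this

end Groth.Agent.Helper2.GradedShift
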