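import Mathlib
import Groth.Agent.Helper2.GradedShift

set_option autoImplicit false
universe u
open Groth.Agent.Helper2.GradedShift

namespace Groth.Agent.Helper2.GradedPow

open DirectSum

variable {R A : Type u} [CommRing R] [CommRing A] [Algebra R A] (𝒜 : ℕ → Submodule R A)
  [GradedAlgebra 𝒜]

theorem mul_le_graded (i j : ℕ) : 𝒜 i * 𝒜 j ≤ 𝒜 (i + j) := by
  rw [Submodule.mul_le]
  intro a ha b hb
  exact SetLike.mul_mem_graded ha hb

theorem pow_le_graded (i k : ℕ) : (𝒜 i) ^ k ≤ 𝒜 (k * i) := by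
  induction k with
  | zero =>
    rw [pow_zero, zero_mul, Submodule.one_le]
    exact SetLike.one_mem_graded 𝒜
  | succ k ih =>
    rw [pow_succ]
    refine le_trans (mul_le_mul' ih le_rfl) ?_
    have : (k + 1) * i = k * i + i := by ring
    rw [this]
    exact mul_le_graded 𝒜 _ _

theorem main [Algebra.FiniteType (𝒜 0) A] :
    ∃ h : ℕ, 0 < h ∧ ∀ m : ℕ, 0 < m → 𝒜 (m * h) = (𝒜 h : Submodule R A) ^ m := by
  obtain ⟨n₁, h, hpos, hshift⟩ := Groth.Agent.Helper2.GradedShift.main 𝒜 𝒜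
  have hshift' : ∀ n, n₁ ≤ n → 𝒜 (n + h) = 𝒜 h * 𝒜 n := fun n hn => hshift n hn
  -- iterate
  have hiter : ∀ n, n₁ ≤ n → ∀ j : ℕ, 𝒜 (n + j * h) = (𝒜 h) ^ j * 𝒜 n := by
    intro n hn j
    induction j with
    | zero => simp
    | succ j ih =>
      have : n + (j + 1) * h = (n + j * h) + h := by ring
      rw [this, hshift' _ (le_trans hn (Nat.le_add_right _ _)), ih, pow_succ', mul_assoc]
  set k := n₁ + 1 with hk
  set h' := k * h with hh'
  have hh'pos : 0 < h' := Nat.mul_pos (Nat.succ_pos _) hpos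
  have hn₁h' : n₁ ≤ h' := by
    calc n₁ ≤ n₁ + 1 := Nat.le_succ _
      _ = k * 1 := by rw [mul_one]
      _ ≤ k * h := Nat.mul_le_mul_left _ hpos
  refine ⟨h', hh'pos, fun m hm => ?_⟩
  induction m with
  | zero => exact absurd hm (lt_irrefl _)
  | succ m ih =>
    rcases Nat.eq_zero_or_pos m with rfl | hmpos
    · simp
    · have ih' := ih hmpos
      apply le_antisymm
      · have e : (m + 1) * h' = m * h' + k * h := by ring
        have hle : n₁ ≤ m * h' := le_trans hn₁h' (Nat.le_mul_of_pos_left _ hmpos)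
        rw [e, hiter _ hle k, ih', pow_succ' (𝒜 h') m]
        exact mul_le_mul' (pow_le_graded 𝒜 h k) le_rfl
      · exact pow_le_graded 𝒜 h' (m + 1)

end Groth.Agent.Helper2.GradedPow
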