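import Mathlib
import Groth.Agent.Helper2.GrpTrans
import Groth.Agent.Helper2.HS2

set_option autoImplicit false
universe u
open CategoryTheory CategoryTheory.Limits MonoidalCategory CartesianMonoidalCategory MonObj GrpObj AlgebraicGeometry
open Groth.Agent.Helper2

namespace Groth.Agent.Helper2.GrpClopen

open Groth.Agent.Helper2.GrpTrans Groth.Agent.Helper2.HS2

variable {k : Type u} [Field k] (G : Over (Spec (CommRingCat.of k))) [GrpObj G]

instance : Subsingleton ↥(𝟙_ (Over (Spec (CommRingCat.of k)))).left :=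
  inferInstanceAs (Subsingleton ↥(Spec (CommRingCat.of k)))

lemma isOpenMap_mul : IsOpenMap μ[G].left := by
  have h := universallyOpen_translate (selfAction G) (𝟙 G) inferInstance
  have h2 : (𝟙 G ▷ G) ≫ (selfAction G).act = μ[G] := by
    rw [id_whiskerRight, Category.id_comp]; rfl
  rw [h2] at h
  exact μ[G].left.isOpenMap

/-- `W · U0` -/
noncomputable def step (U0 W : G.left.Opens) : G.left.Opens :=
  ⟨μ[G].left '' ((fst G G).left ⁻¹' (W : Set G.left) ∩ (snd G G).left ⁻¹' (U0 : Set G.left)),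
    isOpenMap_mul G _ ((W.2.preimage (fst G G).left.continuous).inter
      (U0.2.preimage (snd G G).left.continuous))⟩

lemma isCompact_step (U0 W : G.left.Opens) (hU0 : IsAffineOpen U0)
    (hW : IsCompact (W : Set G.left)) : IsCompact (step G U0 W : Set G.left) := by
  haveI : IsAffine (U0 : Scheme) := hU0
  haveI : CompactSpace ↥(W : Scheme) := isCompact_iff_compactSpace.mp hW
  haveI : QuasiCompact (U0.ι ≫ G.hom) := inferInstance
  haveI : CompactSpace ↥(pullback (W.ι ≫ G.hom) (U0.ι ≫ G.hom)) := inferInstance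
  let j := pullback.map (W.ι ≫ G.hom) (U0.ι ≫ G.hom) G.hom G.hom W.ι U0.ι (𝟙 _)
    (by simp) (by simp)
  have hr : Set.range j =
      (fst G G).left ⁻¹' (W : Set G.left) ∩ (snd G G).left ⁻¹' (U0 : Set G.left) := by
    have := Scheme.Pullback.range_map (W.ι ≫ G.hom) (U0.ι ≫ G.hom) G.hom G.hom W.ι U0.ι (𝟙 _)
      (by simp) (by simp)
    rw [Scheme.Opens.range_ι, Scheme.Opens.range_ι] at this
    exact this
  change IsCompact (μ[G].left '' _)
  rw [← hr]
  exact (isCompact_range j.continuous).image μ[G].left.continuous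

/-- the increasing sequence of compact opens -/
noncomputable def W (U0 : G.left.Opens) : ℕ → G.left.Opens
  | 0 => U0
  | n + 1 => step G U0 (W U0 n)

lemma isCompact_W (U0 : G.left.Opens) (hU0 : IsAffineOpen U0) (n : ℕ) :
    IsCompact (W G U0 n : Set G.left) := by
  induction n with
  | zero => exact hU0.isCompact
  | succ n ih => exact isCompact_step G U0 _ hU0 ih

/-- the union of the `W n` is closed -/
lemma isClosed_iUnion (U0 : G.left.Opens) (pt : ↥(𝟙_ (Over (Spec (CommRingCat.of k)))).left)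
    (heU0 : η[G].left pt ∈ U0) : IsClosed (⋃ n, (W G U0 n : Set G.left)) := by
  rw [← closure_subset_iff_isClosed]
  intro g hg
  -- the map (h, t) ↦ g(t) h⁻¹
  let B'' : G ⊗ T G g ⟶ G := (snd _ _ ≫ gT G g) * (fst _ _)⁻¹
  have hB'' : B'' = τinv G g ≫ fst _ _ := by rw [τinv, lift_fst]
  haveI : IsIso (τinv G g) := ⟨τ G g, τinv_τ G g, τ_τinv G g⟩
  haveI : IsIso (τinv G g).left := (Over.forget _).map_isIso (τinv G g)
  have hopen : IsOpenMap B''.left := by
    rw [hB'', Over.comp_left]
    haveI : UniversallyOpen (fst G (T G g)).left := univOpen_A G g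
    exact ((τinv G g).left ≫ (fst G (T G g)).left).isOpenMap
  let ψ'' : G ⊗ T G g ⟶ G ⊗ G := lift B'' (A G g)
  have hψ'' : ψ'' ≫ μ[G] = snd _ _ ≫ gT G g := by
    have : ψ'' ≫ μ[G] = B'' * A G g := by rw [Hom.mul_def]
    rw [this, A, _root_.mul_assoc, inv_mul_cancel, _root_.mul_one]
  -- the unit point of G ⊗ T
  let eT : T G g ⟶ G ⊗ T G g := lift (toUnit _ ≫ η[G]) (𝟙 _)
  let p0 : ↥(T G g).left := IsLocalRing.closedPoint _
  have heA : (A G g).left (eT.left p0) = η[G].left pt := by
    rw [← Scheme.Hom.comp_apply, ← Over.comp_left, A, lift_fst, Over.comp_left,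
      Scheme.Hom.comp_apply]
    congr 1
    exact Subsingleton.elim _ _
  have heB : B''.left (eT.left p0) = g := by
    have h1 : eT ≫ B'' = gT G g := by
      rw [MonObj.comp_mul, GrpObj.comp_inv, ← Category.assoc, lift_snd, lift_fst, Category.id_comp,
        ← Hom.one_def, inv_one, _root_.mul_one]
    rw [← Scheme.Hom.comp_apply, ← Over.comp_left, h1, gT_apply]
  -- the open neighbourhood of g
  have hN : IsOpen (B''.left '' ((A G g).left ⁻¹' (U0 : Set G.left))) :=
    hopen _ (U0.2.preimage (A G g).left.continuous)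
  have hgN : g ∈ B''.left '' ((A G g).left ⁻¹' (U0 : Set G.left)) :=
    ⟨eT.left p0, by rw [Set.mem_preimage, heA]; exact heU0, heB⟩
  obtain ⟨y, ⟨z0, hz0, rfl⟩, hy⟩ := mem_closure_iff.mp hg _ hN hgN
  obtain ⟨n, hn⟩ := Set.mem_iUnion.mp hy
  refine Set.mem_iUnion.mpr ⟨n + 1, ?_⟩
  change g ∈ μ[G].left '' _
  refine ⟨ψ''.left z0, ⟨?_, ?_⟩, ?_⟩
  · rw [Set.mem_preimage, ← Scheme.Hom.comp_apply, ← Over.comp_left, lift_fst]; exact hn
  · rw [Set.mem_preimage, ← Scheme.Hom.comp_apply, ← Over.comp_left, lift_snd]; exact hz0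
  · rw [← Scheme.Hom.comp_apply, ← Over.comp_left, hψ'', Over.comp_left, Scheme.Hom.comp_apply,
      gT_apply]

end Groth.Agent.Helper2.GrpClopen
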