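import Mathlib

set_option autoImplicit false
universe u v
open CategoryTheory CategoryTheory.Limits MonoidalCategory CartesianMonoidalCategory MonObj GrpObj AlgebraicGeometry

namespace Groth.Agent.Helper2.GrpShear

variable {S : Scheme.{u}} (G : Over S) [GrpObj G]

lemma translate_eq {T : Over S} (ψ : T ⟶ G) :
    ψ ▷ G ≫ μ[G] = (fst T G ≫ ψ) * snd T G := by
  rw [Hom.mul_def]
  congr 1

/-- the shear map `(t, g) ↦ (t, ψ(t) g)` -/
noncomputable def shear {T : Over S} (ψ : T ⟶ G) : T ⊗ G ⟶ T ⊗ G :=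
  lift (fst T G) ((fst T G ≫ ψ) * snd T G)

noncomputable def shearInv {T : Over S} (ψ : T ⟶ G) : T ⊗ G ⟶ T ⊗ G :=
  lift (fst T G) ((fst T G ≫ ψ)⁻¹ * snd T G)

lemma shear_shearInv {T : Over S} (ψ : T ⟶ G) : shear G ψ ≫ shearInv G ψ = 𝟙 _ := by
  apply CartesianMonoidalCategory.hom_ext
  · simp [shear, shearInv]
  · simp only [shear, shearInv, Category.assoc, lift_snd, Category.id_comp]
    rw [MonObj.comp_mul, GrpObj.comp_inv, ← Category.assoc, lift_fst, lift_snd]
    simp

lemma shearInv_shear {T : Over S} (ψ : T ⟶ G) : shearInv G ψ ≫ shear G ψ = 𝟙 _ := by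
  apply CartesianMonoidalCategory.hom_ext
  · simp [shear, shearInv]
  · simp only [shear, shearInv, Category.assoc, lift_snd, Category.id_comp]
    rw [MonObj.comp_mul, ← Category.assoc, lift_fst, lift_snd]
    simp

theorem flat_translate {T : Over S} (ψ : T ⟶ G) (hT : Flat T.hom) : Flat (ψ ▷ G ≫ μ[G]).left := by
  have h1 : ψ ▷ G ≫ μ[G] = shear G ψ ≫ snd T G := by
    rw [translate_eq, shear, lift_snd]
  have hiso : IsIso (shear G ψ) := ⟨shearInv G ψ, shear_shearInv G ψ, shearInv_shear G ψ⟩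
  have hiso' : IsIso (shear G ψ).left := (Over.forget S).map_isIso (shear G ψ)
  rw [h1, Over.comp_left]
  have : Flat (snd T G).left := by
    rw [Over.snd_left]
    exact MorphismProperty.pullback_snd _ _ hT
  infer_instance

end Groth.Agent.Helper2.GrpShear
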