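import Mathlib
import Groth.Prelude.Def_Grpd
import Groth.Agent.Helper2.Grpd2
import Groth.Agent.Helper2.Grpd3

set_option autoImplicit false
universe u
open CategoryTheory CategoryTheory.Limits AlgebraicGeometry
open Grpd Groth.Agent.Helper2.Grpd2 Groth.Agent.Helper2.Grpd3

namespace Groth.Agent.Helper2.Grpd10

lemma isIso_fromSpecResidueField {U : Scheme.{u}} (hU : IsIntegral U) (hU' : Subsingleton U)
    (x : U) : IsIso (U.fromSpecResidueField x) := by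
  have hcl : IsClosed ({x} : Set U) := by
    have : ({x} : Set U) = Set.univ := Set.eq_univ_of_forall fun y => Subsingleton.elim x y ▸ rfl
    rw [this]; exact isClosed_univ
  have h1 : IsClosedImmersion (U.fromSpecResidueField x) :=
    isClosed_singleton_iff_isClosedImmersion.mp hcl
  have h2 : Surjective (U.fromSpecResidueField x) := by
    refine ⟨fun y => ?_⟩
    have : y ∈ Set.range ⇑(U.fromSpecResidueField x) := by
      rw [Scheme.range_fromSpecResidueField]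
      exact Subsingleton.elim y x
    exact this
  exact isIso_of_isClosedImmersion_of_surjective _

variable {S : Scheme.{u}} (G : Grpd.GroupoidScheme S)

/-- translation by a section `ρ` of `s` whose target map `τ` is invertible -/
theorem exists_translate_iso (ρ : G.U ⟶ G.R) (hρ : ρ ≫ G.s = 𝟙 _) [IsIso (ρ ≫ G.t)] :
    ∃ φ : G.R ≅ G.R, G.e ≫ φ.hom = ρ := by
  set τ := ρ ≫ G.t with hτ
  have h1 : (G.t ≫ ρ) ≫ G.s = 𝟙 G.R ≫ G.t := by
    rw [Category.assoc, hρ, Category.comp_id, Category.id_comp]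
  let φ : G.R ⟶ G.R := mul G (G.t ≫ ρ) (𝟙 _) h1
  have h2 : ((G.t ≫ inv τ ≫ ρ) ≫ G.i) ≫ G.s = 𝟙 G.R ≫ G.t := by
    rw [i_s', Category.assoc, Category.assoc, ← hτ, IsIso.inv_hom_id, Category.comp_id,
      Category.id_comp]
  let ψ : G.R ⟶ G.R := mul G ((G.t ≫ inv τ ≫ ρ) ≫ G.i) (𝟙 _) h2
  have hφt : φ ≫ G.t = G.t ≫ τ := by
    rw [mul_t, Category.assoc]
  have hψt : ψ ≫ G.t = G.t ≫ inv τ := by
    rw [mul_t, i_t', Category.assoc, Category.assoc, hρ, Category.comp_id]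
  have hφψ : φ ≫ ψ = 𝟙 _ := by
    have h3 : (φ ≫ (G.t ≫ inv τ ≫ ρ) ≫ G.i) ≫ G.s = (φ ≫ 𝟙 G.R) ≫ G.t := by
      rw [Category.assoc, h2, Category.id_comp, Category.comp_id]
    rw [comp_mul G φ _ _ h2 h3]
    have h4 : ((G.t ≫ ρ) ≫ G.i) ≫ G.s = mul G (G.t ≫ ρ) (𝟙 _) h1 ≫ G.t := by
      rw [mul_t, i_s']
    have e1 : φ ≫ (G.t ≫ inv τ ≫ ρ) ≫ G.i = (G.t ≫ ρ) ≫ G.i := by
      rw [← Category.assoc φ, ← Category.assoc φ, hφt, Category.assoc G.t, IsIso.hom_inv_id_assoc]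
    rw [mul_congr G h3 h4 e1 (Category.comp_id _)]
    exact i_mul_mul G _ _ h1 h4
  have hψφ : ψ ≫ φ = 𝟙 _ := by
    have h3 : (ψ ≫ G.t ≫ ρ) ≫ G.s = (ψ ≫ 𝟙 G.R) ≫ G.t := by
      rw [Category.assoc, h1, Category.id_comp, Category.comp_id]
    rw [comp_mul G ψ _ _ h1 h3]
    have h4 : (G.t ≫ inv τ ≫ ρ) ≫ G.s = mul G ((G.t ≫ inv τ ≫ ρ) ≫ G.i) (𝟙 _) h2 ≫ G.t := by
      rw [mul_t, i_t']
    have e1 : ψ ≫ G.t ≫ ρ = G.t ≫ inv τ ≫ ρ := by
      rw [← Category.assoc, hψt, Category.assoc]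
    rw [mul_congr G h3 h4 e1 (Category.comp_id _)]
    exact mul_i_mul G _ _ h2 h4
  refine ⟨⟨φ, ψ, hφψ, hψφ⟩, ?_⟩
  change G.e ≫ φ = ρ
  have h5 : (G.e ≫ G.t ≫ ρ) ≫ G.s = (G.e ≫ 𝟙 G.R) ≫ G.t := by
    rw [Category.assoc, h1, Category.id_comp, Category.comp_id]
  rw [comp_mul G G.e _ _ h1 h5]
  have h6 : ρ ≫ G.s = (ρ ≫ G.s ≫ G.e) ≫ G.t := by
    rw [Category.assoc, Category.assoc, G.e_t, Category.comp_id]
  rw [mul_congr G h5 h6 (by rw [← Category.assoc, G.e_t, Category.id_comp])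
    (by rw [Category.comp_id, ← Category.assoc, hρ, Category.id_comp])]
  exact mul_e G ρ h6

theorem exists_auto (hU : IsIntegral G.U) (hU' : Subsingleton G.U) (r : G.R)
    (hs : IsIso (G.s.residueFieldMap r)) (ht : IsIso (G.t.residueFieldMap r)) (u : G.U) :
    ∃ φ : G.R ≅ G.R, φ.hom (G.e u) = r := by
  let ρ₀ := G.R.fromSpecResidueField r
  have hs' : IsIso (ρ₀ ≫ G.s) := by
    rw [← Scheme.Hom.SpecMap_residueFieldMap_fromSpecResidueField]
    have := isIso_fromSpecResidueField hU hU' (G.s r)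
    infer_instance
  have ht' : IsIso (ρ₀ ≫ G.t) := by
    rw [← Scheme.Hom.SpecMap_residueFieldMap_fromSpecResidueField]
    have := isIso_fromSpecResidueField hU hU' (G.t r)
    infer_instance
  let ρ : G.U ⟶ G.R := inv (ρ₀ ≫ G.s) ≫ ρ₀
  have hρ : ρ ≫ G.s = 𝟙 _ := by
    rw [Category.assoc, IsIso.inv_hom_id]
  have hρt : IsIso (ρ ≫ G.t) := by
    rw [Category.assoc]; infer_instance
  obtain ⟨φ, hφ⟩ := exists_translate_iso G ρ hρ
  refine ⟨φ, ?_⟩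
  rw [← Scheme.Hom.comp_apply, hφ]
  have : ρ u ∈ Set.range ⇑ρ₀ := ⟨inv (ρ₀ ≫ G.s) u, by rw [← Scheme.Hom.comp_apply]⟩
  rw [Scheme.range_fromSpecResidueField] at this
  exact this

end Groth.Agent.Helper2.Grpd10
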