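import Mathlib
import Groth.Prelude.Def_Grpd
import Groth.Agent.Helper2.Grpd2

set_option autoImplicit false
universe u
open CategoryTheory CategoryTheory.Limits AlgebraicGeometry
open Grpd Groth.Agent.Helper2.Grpd2

namespace Groth.Agent.Helper2.Grpd9

variable {S : Scheme.{u}} (G : Grpd.GroupoidScheme S)

lemma j_fst : G.j ≫ pullback.fst G.pU G.pU = G.t := pullback.lift_fst _ _ _
lemma j_snd : G.j ≫ pullback.snd G.pU G.pU = G.s := pullback.lift_snd _ _ _
lemma diag_fst : G.diag ≫ pullback.fst G.pU G.pU = 𝟙 _ := pullback.lift_fst _ _ _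
lemma diag_snd : G.diag ≫ pullback.snd G.pU G.pU = 𝟙 _ := pullback.lift_snd _ _ _

lemma jj_t : pullback.fst G.j G.j ≫ G.t = pullback.snd G.j G.j ≫ G.t := by
  rw [← j_fst, ← Category.assoc, pullback.condition, Category.assoc]

lemma jj_s : pullback.fst G.j G.j ≫ G.s = pullback.snd G.j G.j ≫ G.s := by
  rw [← j_snd, ← Category.assoc, pullback.condition, Category.assoc]

lemma hμ : pullback.fst G.j G.j ≫ G.s = (pullback.snd G.j G.j ≫ G.i) ≫ G.t := by
  rw [i_t', jj_s]

/-- `(x, y) ↦ x y⁻¹` on `R ×_{j,j} R` -/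
noncomputable def μ : pullback G.j G.j ⟶ G.R :=
  mul G (pullback.fst G.j G.j) (pullback.snd G.j G.j ≫ G.i) (hμ G)

lemma μ_j : μ G ≫ G.j = (pullback.fst G.j G.j ≫ G.t) ≫ G.diag := by
  apply pullback.hom_ext
  · rw [Category.assoc, j_fst, Category.assoc, diag_fst, Category.comp_id]
    exact mul_t G _ _ _
  · rw [Category.assoc, j_snd, Category.assoc, diag_snd, Category.comp_id]
    unfold μ
    rw [mul_s, i_s', jj_t]

/-- `(x, y) ↦ x y⁻¹` as a map to the stabilizer -/
noncomputable def δ' : pullback G.j G.j ⟶ pullback G.j G.diag :=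
  pullback.lift (μ G) (pullback.fst G.j G.j ≫ G.t) (μ_j G)

/-- `eStab` with its target unfolded -/
noncomputable def eS : G.U ⟶ pullback G.j G.diag := G.eStab

lemma δ'_fst : δ' G ≫ pullback.fst G.j G.diag = μ G := pullback.lift_fst _ _ _
lemma δ'_snd : δ' G ≫ pullback.snd G.j G.diag = pullback.fst G.j G.j ≫ G.t := pullback.lift_snd _ _ _
lemma eStab_fst : eS G ≫ pullback.fst G.j G.diag = G.e := pullback.lift_fst _ _ _
lemma eStab_snd : eS G ≫ pullback.snd G.j G.diag = 𝟙 _ := pullback.lift_snd _ _ _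

lemma eStab_toU : G.eStab ≫ G.stabilizerToU = 𝟙 _ := eStab_snd G

theorem isPullback_diag : IsPullback (pullback.diagonal G.j) G.t (δ' G) (eS G) := by
  have hw : pullback.diagonal G.j ≫ δ' G = G.t ≫ eS G := by
    apply pullback.hom_ext
    · rw [Category.assoc, δ'_fst, Category.assoc, eStab_fst]
      unfold μ
      have h1 : (pullback.diagonal G.j ≫ pullback.fst G.j G.j) ≫ G.s =
          (pullback.diagonal G.j ≫ pullback.snd G.j G.j ≫ G.i) ≫ G.t := by
        rw [pullback.diagonal_fst, ← Category.assoc, pullback.diagonal_snd, Category.id_comp,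
          Category.id_comp, G.i_t]
      rw [comp_mul G _ _ _ (hμ G) h1]
      have h2 : 𝟙 G.R ≫ G.s = (𝟙 G.R ≫ G.i) ≫ G.t := by
        rw [Category.id_comp, Category.id_comp, G.i_t]
      rw [mul_congr G h1 h2 (pullback.diagonal_fst _)
        (by rw [← Category.assoc, pullback.diagonal_snd])]
      rw [mul_i G (𝟙 G.R) h2, Category.id_comp]
    · rw [Category.assoc, δ'_snd, Category.assoc, eStab_snd, Category.comp_id, ← Category.assoc,
        pullback.diagonal_fst, Category.id_comp]
  have key : ∀ c : PullbackCone (δ' G) (eS G),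
      c.fst ≫ pullback.fst G.j G.j = c.fst ≫ pullback.snd G.j G.j ∧
        c.snd = (c.fst ≫ pullback.fst G.j G.j) ≫ G.t := by
    intro c
    set x := c.fst ≫ pullback.fst G.j G.j with hx
    set y := c.fst ≫ pullback.snd G.j G.j with hy
    have hxy : x ≫ G.s = y ≫ G.s := by
      rw [hx, hy, Category.assoc, jj_s, Category.assoc]
    have h1 : x ≫ G.s = (y ≫ G.i) ≫ G.t := by rw [i_t', hxy]
    have hcond : mul G x (y ≫ G.i) h1 = c.snd ≫ G.e := by
      have := congrArg (· ≫ pullback.fst G.j G.diag) c.condition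
      simp only [Category.assoc, δ'_fst, eStab_fst] at this
      unfold μ at this
      have h0 : (c.fst ≫ pullback.fst G.j G.j) ≫ G.s = (c.fst ≫ pullback.snd G.j G.j ≫ G.i) ≫ G.t := by
        rw [← Category.assoc]; exact h1
      rw [comp_mul G _ _ _ (hμ G) h0] at this
      rw [← this]
      exact mul_congr G h1 h0 rfl (by rw [hy, Category.assoc])
    have hu : c.snd = y ≫ G.t := by
      have := congrArg (· ≫ G.s) hcond
      simp only [mul_s, i_s', e_s'] at this
      exact this.symm
    have hu' : c.snd = x ≫ G.t := by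
      have := congrArg (· ≫ G.t) hcond
      simp only [mul_t, e_t'] at this
      exact this.symm
    have h2 : mul G x (y ≫ G.i) h1 ≫ G.s = y ≫ G.t := by rw [mul_s, i_s']
    have hxeq : x = y := by
      have h3 := mul_i_mul' G x y h1 h2
      have h4 : (y ≫ G.t ≫ G.e) ≫ G.s = y ≫ G.t := by rw [← Category.assoc]; exact e_s' G _
      rw [mul_congr G h2 h4 (by rw [hcond, hu, Category.assoc]) rfl, e_mul G y h4] at h3
      exact h3.symm
    exact ⟨hxeq, hu'⟩
  refine ⟨⟨hw⟩, ⟨PullbackCone.IsLimit.mk hw (fun c => c.fst ≫ pullback.fst G.j G.j)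
    (fun c => ?_) (fun c => ?_) (fun c m hm1 hm2 => ?_)⟩⟩
  · apply pullback.hom_ext
    · rw [Category.assoc, pullback.diagonal_fst, Category.comp_id]
    · rw [Category.assoc, pullback.diagonal_snd, Category.comp_id]
      exact (key c).1
  · exact (key c).2.symm
  · rw [← hm1, Category.assoc, pullback.diagonal_fst, Category.comp_id]

theorem diagonal_of_eStab (P : MorphismProperty Scheme.{u}) [P.IsStableUnderBaseChange]
    (h : P G.eStab) : P (pullback.diagonal G.j) :=
  MorphismProperty.of_isPullback (isPullback_diag G).flip (show P (eS G) from h)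

end Groth.Agent.Helper2.Grpd9
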