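import Mathlib
import Groth.Prelude.Def_Grpd
import Groth.Agent.Helper2.Grpd2
import Groth.Agent.Helper2.Grpd9

set_option autoImplicit false
universe u
open CategoryTheory CategoryTheory.Limits AlgebraicGeometry
open Grpd Groth.Agent.Helper2.Grpd2 Groth.Agent.Helper2.Grpd9

namespace Groth.Agent.Helper2.Grpd11

variable {S : Scheme.{u}} (G : Grpd.GroupoidScheme S)

lemma stab_t : pullback.fst G.j G.diag ≫ G.t = pullback.snd G.j G.diag := by
  have := congrArg (· ≫ pullback.fst G.pU G.pU) (pullback.condition (f := G.j) (g := G.diag))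
  simp only [Category.assoc, j_fst, diag_fst, Category.comp_id] at this
  exact this

lemma stab_s : pullback.fst G.j G.diag ≫ G.s = pullback.snd G.j G.diag := by
  have := congrArg (· ≫ pullback.snd G.pU G.pU) (pullback.condition (f := G.j) (g := G.diag))
  simp only [Category.assoc, j_snd, diag_snd, Category.comp_id] at this
  exact this

theorem isIso_β (α : pullback (pullback.snd G.j G.diag) G.t ⟶ pullback G.s G.t)
    (hα₁ : α ≫ pullback.fst G.s G.t = pullback.fst (pullback.snd G.j G.diag) G.t ≫ pullback.fst G.j G.diag)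
    (hα₂ : α ≫ pullback.snd G.s G.t = pullback.snd (pullback.snd G.j G.diag) G.t)
    (β : pullback (pullback.snd G.j G.diag) G.t ⟶ pullback G.j G.j)
    (hβ₁ : β ≫ pullback.fst G.j G.j = α ≫ G.c)
    (hβ₂ : β ≫ pullback.snd G.j G.j = pullback.snd (pullback.snd G.j G.diag) G.t) : IsIso β := by
  set γ := pullback.fst (pullback.snd G.j G.diag) G.t ≫ pullback.fst G.j G.diag with hγ
  set r := pullback.snd (pullback.snd G.j G.diag) G.t with hr
  have hγr : γ ≫ G.s = r ≫ G.t := by
    rw [hγ, Category.assoc, stab_s, pullback.condition]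
  have hαc : α ≫ G.c = mul G γ r hγr := by
    have h0 : (α ≫ pullback.fst G.s G.t) ≫ G.s = (α ≫ pullback.snd G.s G.t) ≫ G.t := by
      rw [Category.assoc, pullback.condition, Category.assoc]
    rw [c_eq G, comp_mul G α _ _ pullback.condition h0]
    exact mul_congr G h0 hγr hα₁ hα₂
  have hinvcond : δ' G ≫ pullback.snd G.j G.diag = pullback.snd G.j G.j ≫ G.t := by
    rw [δ'_snd, jj_t]
  let βi : pullback G.j G.j ⟶ pullback (pullback.snd G.j G.diag) G.t :=
    pullback.lift (δ' G) (pullback.snd G.j G.j) hinvcond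
  have hβi1 : βi ≫ pullback.fst (pullback.snd G.j G.diag) G.t = δ' G := pullback.lift_fst _ _ _
  have hβi2 : βi ≫ r = pullback.snd G.j G.j := pullback.lift_snd _ _ _
  refine ⟨βi, ?_, ?_⟩
  · apply pullback.hom_ext
    · rw [Category.assoc, hβi1, Category.id_comp]
      apply pullback.hom_ext
      · rw [Category.assoc, δ'_fst]
        unfold μ
        have h1 : (β ≫ pullback.fst G.j G.j) ≫ G.s = (β ≫ pullback.snd G.j G.j ≫ G.i) ≫ G.t := by
          rw [Category.assoc, hμ]; simp only [Category.assoc]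
        rw [comp_mul G β _ _ (hμ G) h1]
        have h2 : mul G γ r hγr ≫ G.s = (r ≫ G.i) ≫ G.t := by rw [mul_s, i_t']
        rw [mul_congr G h1 h2 (hβ₁.trans hαc) (by rw [← Category.assoc, hβ₂])]
        exact mul_mul_i G γ r hγr h2
      · rw [Category.assoc, δ'_snd, ← Category.assoc, hβ₁, hαc, mul_t, hγ, Category.assoc, stab_t]
    · rw [Category.assoc, Category.id_comp]
      change β ≫ βi ≫ r = r
      rw [hβi2, hβ₂]
  · apply pullback.hom_ext
    · rw [Category.assoc, hβ₁, Category.id_comp, hαc]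
      have h1 : (βi ≫ γ) ≫ G.s = (βi ≫ r) ≫ G.t := by rw [Category.assoc, hγr, Category.assoc]
      rw [comp_mul G βi _ _ hγr h1]
      have hβiγ : βi ≫ γ = μ G := by
        rw [hγ, ← Category.assoc, hβi1, δ'_fst]
      have h2 : mul G (pullback.fst G.j G.j) (pullback.snd G.j G.j ≫ G.i) (hμ G) ≫ G.s =
          pullback.snd G.j G.j ≫ G.t := by rw [mul_s, i_s']
      rw [mul_congr G h1 h2 hβiγ hβi2]
      exact mul_i_mul' G _ _ (hμ G) h2
    · rw [Category.assoc, hβ₂, Category.id_comp]
      exact hβi2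

end Groth.Agent.Helper2.Grpd11
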