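import Mathlib
import Groth.Prelude.Def_Grpd
import Groth.Agent.Helper2.Grpd2
import Groth.Agent.Helper2.Grpd3
import Groth.Agent.Helper2.Grpd5

set_option autoImplicit false
universe u
open CategoryTheory CategoryTheory.Limits AlgebraicGeometry
open Grpd Groth.Agent.Helper2.Grpd2 Groth.Agent.Helper2.Grpd3 Groth.Agent.Helper2.Grpd5

namespace Groth.Agent.Helper2.Grpd6

variable {S : Scheme.{u}} (G : Grpd.GroupoidScheme S) {T : Scheme.{u}}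

/-- An idempotent `T`-point is an identity. -/
lemma idem_eq (x : T ⟶ G.R) (h : x ≫ G.s = x ≫ G.t) (hx : mul G x x h = x) :
    x = x ≫ G.t ≫ G.e := by
  have h1 : mul G x x h ≫ G.s = (x ≫ G.i) ≫ G.t := by rw [mul_s, i_t']
  have h2 := mul_mul_i G x x h h1
  have h3 : x ≫ G.s = (x ≫ G.i) ≫ G.t := (i_t' G x).symm
  rw [mul_congr G h1 h3 hx rfl, mul_i G x h3] at h2
  exact h2.symm

lemma e_mul_e : mul G G.e G.e (by rw [G.e_s, G.e_t]) = G.e := by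
  have h0 : (G.e ≫ G.t ≫ G.e) ≫ G.s = G.e ≫ G.t := by rw [← Category.assoc]; exact e_s' G _
  have h := e_mul G G.e h0
  have h1 : G.e ≫ G.t ≫ G.e = G.e := by rw [← Category.assoc, G.e_t, Category.id_comp]
  rwa [mul_congr G h0 (by rw [G.e_s, G.e_t]) h1 rfl] at h

variable {G₁ G₂ : Grpd.GroupoidScheme S} (f : Grpd.GroupoidScheme.Hom G₁ G₂)

lemma hom_mul (α β : T ⟶ G₁.R) (h : α ≫ G₁.s = β ≫ G₁.t)
    (h' : (α ≫ f.fR) ≫ G₂.s = (β ≫ f.fR) ≫ G₂.t) :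
    mul G₁ α β h ≫ f.fR = mul G₂ (α ≫ f.fR) (β ≫ f.fR) h' :=
  f.comm_c α β h

lemma hom_e : G₁.e ≫ f.fR = f.fU ≫ G₂.e := by
  have hs : (G₁.e ≫ f.fR) ≫ G₂.s = f.fU := by
    rw [Category.assoc, f.comm_s, ← Category.assoc, G₁.e_s, Category.id_comp]
  have ht : (G₁.e ≫ f.fR) ≫ G₂.t = f.fU := by
    rw [Category.assoc, f.comm_t, ← Category.assoc, G₁.e_t, Category.id_comp]
  have h : (G₁.e ≫ f.fR) ≫ G₂.s = (G₁.e ≫ f.fR) ≫ G₂.t := hs.trans ht.symm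
  have hx : mul G₂ (G₁.e ≫ f.fR) (G₁.e ≫ f.fR) h = G₁.e ≫ f.fR := by
    rw [← hom_mul f G₁.e G₁.e (by rw [G₁.e_s, G₁.e_t]) h, e_mul_e]
  have := idem_eq G₂ _ h hx
  rw [this, ← Category.assoc, ht]

lemma hom_i : G₁.i ≫ f.fR = f.fR ≫ G₂.i := by
  have hBA : (G₁.i ≫ f.fR) ≫ G₂.s = f.fR ≫ G₂.t := by
    rw [Category.assoc, f.comm_s, ← Category.assoc, G₁.i_s, f.comm_t]
  have h0 : (𝟙 G₁.R ≫ G₁.i) ≫ G₁.s = 𝟙 G₁.R ≫ G₁.t := by
    rw [Category.id_comp, Category.id_comp, G₁.i_s]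
  have h1 : mul G₂ (G₁.i ≫ f.fR) f.fR hBA = f.fR ≫ G₂.s ≫ G₂.e := by
    have h0' : ((𝟙 G₁.R ≫ G₁.i) ≫ f.fR) ≫ G₂.s = (𝟙 G₁.R ≫ f.fR) ≫ G₂.t := by
      rw [Category.id_comp, Category.id_comp]; exact hBA
    have := hom_mul f (𝟙 G₁.R ≫ G₁.i) (𝟙 G₁.R) h0 h0'
    rw [i_mul G₁ (𝟙 G₁.R) h0] at this
    rw [mul_congr G₂ hBA h0' (by rw [Category.id_comp]) (by rw [Category.id_comp]), ← this]
    rw [Category.id_comp, Category.assoc, hom_e, ← Category.assoc, ← f.comm_s, Category.assoc]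
  have h2 : mul G₂ (G₁.i ≫ f.fR) f.fR hBA ≫ G₂.s = (f.fR ≫ G₂.i) ≫ G₂.t := by
    rw [mul_s, i_t']
  have h3 := mul_mul_i G₂ (G₁.i ≫ f.fR) f.fR hBA h2
  have h4 : ((f.fR ≫ G₂.i) ≫ G₂.t ≫ G₂.e) ≫ G₂.s = (f.fR ≫ G₂.i) ≫ G₂.t := by
    rw [← Category.assoc]; exact e_s' G₂ _
  rw [mul_congr G₂ h2 h4 (by rw [h1, ← Category.assoc ((f.fR ≫ G₂.i)), i_t', Category.assoc]) rfl,
    e_mul G₂ _ h4] at h3
  exact h3.symm

lemma map_c : pullback.map G₁.s G₁.t G₂.s G₂.t f.fR f.fR f.fU f.comm_s.symm f.comm_t.symm ≫ G₂.c =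
    G₁.c ≫ f.fR := by
  have h' : (pullback.fst G₁.s G₁.t ≫ f.fR) ≫ G₂.s = (pullback.snd G₁.s G₁.t ≫ f.fR) ≫ G₂.t := by
    rw [Category.assoc, Category.assoc, f.comm_s, f.comm_t, ← Category.assoc, pullback.condition,
      Category.assoc]
  rw [c_eq G₁, hom_mul f _ _ pullback.condition h']
  unfold mul
  congr 1

lemma mem_range_c [IsIso f.fU] (q : ↑(pullback G₂.s G₂.t))
    (h1 : pullback.fst G₂.s G₂.t q ∈ Set.range ⇑f.fR)
    (h2 : pullback.snd G₂.s G₂.t q ∈ Set.range ⇑f.fR) : G₂.c q ∈ Set.range ⇑f.fR := by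
  have hq : q ∈ Set.range ⇑(pullback.map G₁.s G₁.t G₂.s G₂.t f.fR f.fR f.fU f.comm_s.symm f.comm_t.symm) := by
    rw [Scheme.Pullback.range_map]
    exact ⟨h1, h2⟩
  obtain ⟨y, rfl⟩ := hq
  refine ⟨G₁.c y, ?_⟩
  rw [← Scheme.Hom.comp_apply, ← map_c f, Scheme.Hom.comp_apply]

lemma mem_range_i (w : G₂.R) (hw : w ∈ Set.range ⇑f.fR) : G₂.i w ∈ Set.range ⇑f.fR := by
  obtain ⟨x, rfl⟩ := hw
  exact ⟨G₁.i x, by rw [← Scheme.Hom.comp_apply, hom_i f, Scheme.Hom.comp_apply]⟩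

lemma mem_range_e [IsIso f.fU] (u : G₂.U) : G₂.e u ∈ Set.range ⇑f.fR := by
  obtain ⟨u', rfl⟩ := f.fU.surjective u
  exact ⟨G₁.e u', by rw [← Scheme.Hom.comp_apply, hom_e f, Scheme.Hom.comp_apply]⟩

lemma shift_c : pullback.lift G₂.c (pullback.snd G₂.s G₂.t ≫ G₂.i)
      (by rw [c_eq G₂, mul_s, i_t']) ≫ G₂.c = pullback.fst G₂.s G₂.t := by
  have h1 : mul G₂ (pullback.fst G₂.s G₂.t) (pullback.snd G₂.s G₂.t) pullback.condition ≫ G₂.s =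
      (pullback.snd G₂.s G₂.t ≫ G₂.i) ≫ G₂.t := by rw [mul_s, i_t']
  have := mul_mul_i G₂ (pullback.fst G₂.s G₂.t) (pullback.snd G₂.s G₂.t) pullback.condition h1
  refine Eq.trans ?_ this
  unfold mul
  congr 1
  apply pullback.hom_ext
  · rw [pullback.lift_fst, pullback.lift_fst]
    have h1' : pullback.lift (pullback.fst G₂.s G₂.t) (pullback.snd G₂.s G₂.t) pullback.condition = 𝟙 _ := by
      apply pullback.hom_ext
      · rw [pullback.lift_fst, Category.id_comp]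
      · rw [pullback.lift_snd, Category.id_comp]
    rw [h1', Category.id_comp]
  · rw [pullback.lift_snd, pullback.lift_snd]

theorem isClosed_range_of_isOpen [IsIso f.fU] (hU : IsIntegral G₂.U) (hU' : Subsingleton G₂.U)
    (hopen : IsOpen (Set.range ⇑f.fR)) : IsClosed (Set.range ⇑f.fR) := by
  refine isClosed_of_closure_subset fun r hr => ?_
  let ρ := G₂.R.fromSpecResidueField r
  let Wo : G₂.R.Opens := ⟨Set.range ⇑f.fR, hopen⟩
  have hsub : Set.range ⇑(ρ ≫ G₂.s ≫ G₂.e) ⊆ Set.range ⇑Wo.ι := by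
    rw [Scheme.Opens.range_ι]
    rintro _ ⟨z, rfl⟩
    rw [Scheme.Hom.comp_apply, Scheme.Hom.comp_apply]
    exact mem_range_e f _
  let ℓ := IsOpenImmersion.lift Wo.ι (ρ ≫ G₂.s ≫ G₂.e) hsub
  have hℓ : ℓ ≫ Wo.ι = ρ ≫ G₂.s ≫ G₂.e := IsOpenImmersion.lift_fac _ _ _
  have hcond : 𝟙 _ ≫ ρ ≫ G₂.s = ℓ ≫ Wo.ι ≫ G₂.t := by
    rw [Category.id_comp, ← Category.assoc ℓ, hℓ, Category.assoc, Category.assoc, G₂.e_t,
      Category.comp_id]
  let σ := pullback.lift (𝟙 _) ℓ hcond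
  let m := pullback.lift (pullback.fst (ρ ≫ G₂.s) (Wo.ι ≫ G₂.t) ≫ ρ) (pullback.snd (ρ ≫ G₂.s) (Wo.ι ≫ G₂.t) ≫ Wo.ι) ((Category.assoc _ _ _).trans (pullback.condition.trans (Category.assoc _ _ _).symm)) ≫ G₂.c
  have hm : IsOpen (Set.range ⇑m) := isOpen_range_translate G₂ ρ hU hU' Wo
  have hσm : σ ≫ m = ρ := by
    have h0 : ρ ≫ G₂.s = (ρ ≫ G₂.s ≫ G₂.e) ≫ G₂.t := by
      rw [Category.assoc, Category.assoc, G₂.e_t, Category.comp_id]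
    refine Eq.trans ?_ (mul_e G₂ ρ h0)
    unfold mul
    rw [← Category.assoc]
    congr 1
    apply pullback.hom_ext
    · rw [Category.assoc, pullback.lift_fst, pullback.lift_fst, ← Category.assoc, pullback.lift_fst,
        Category.id_comp]
    · rw [Category.assoc, pullback.lift_snd, pullback.lift_snd, ← Category.assoc, pullback.lift_snd, hℓ]
  have hrρ : r ∈ Set.range ⇑ρ := by
    rw [Scheme.range_fromSpecResidueField]; rfl
  have hrm : r ∈ Set.range ⇑m := by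
    obtain ⟨z, hz⟩ := hrρ
    exact ⟨σ z, by rw [← Scheme.Hom.comp_apply, hσm, hz]⟩
  obtain ⟨x, hxm, hxW⟩ := mem_closure_iff.mp hr _ hm hrm
  obtain ⟨p, rfl⟩ := hxm
  let q := pullback.lift (pullback.fst (ρ ≫ G₂.s) (Wo.ι ≫ G₂.t) ≫ ρ) (pullback.snd (ρ ≫ G₂.s) (Wo.ι ≫ G₂.t) ≫ Wo.ι) ((Category.assoc _ _ _).trans (pullback.condition.trans (Category.assoc _ _ _).symm)) p
  have hq1 : pullback.fst G₂.s G₂.t q = r := by
    have : pullback.fst G₂.s G₂.t q ∈ Set.range ⇑ρ := by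
      refine ⟨pullback.fst (ρ ≫ G₂.s) (Wo.ι ≫ G₂.t) p, ?_⟩
      rw [← Scheme.Hom.comp_apply, ← Scheme.Hom.comp_apply, pullback.lift_fst]
    rw [Scheme.range_fromSpecResidueField] at this
    exact this
  have hq2 : pullback.snd G₂.s G₂.t q ∈ Set.range ⇑f.fR := by
    have : pullback.snd G₂.s G₂.t q = Wo.ι (pullback.snd (ρ ≫ G₂.s) (Wo.ι ≫ G₂.t) p) := by
      rw [← Scheme.Hom.comp_apply, ← Scheme.Hom.comp_apply, pullback.lift_snd]
    rw [this]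
    exact (pullback.snd (ρ ≫ G₂.s) (Wo.ι ≫ G₂.t) p).2
  have hq3 : G₂.c q ∈ Set.range ⇑f.fR := by
    have : G₂.c q = m p := by rw [← Scheme.Hom.comp_apply]
    rw [this]; exact hxW
  let q' := pullback.lift G₂.c (pullback.snd G₂.s G₂.t ≫ G₂.i) (by rw [c_eq G₂, mul_s, i_t']) q
  have hq'1 : pullback.fst G₂.s G₂.t q' = G₂.c q := by
    rw [← Scheme.Hom.comp_apply, pullback.lift_fst]
  have hq'2 : pullback.snd G₂.s G₂.t q' = G₂.i (pullback.snd G₂.s G₂.t q) := by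
    rw [← Scheme.Hom.comp_apply, pullback.lift_snd, Scheme.Hom.comp_apply]
  have hq'3 : G₂.c q' = r := by
    rw [← Scheme.Hom.comp_apply, shift_c, hq1]
  rw [← hq'3]
  apply mem_range_c f
  · rw [hq'1]; exact hq3
  · rw [hq'2]; exact mem_range_i f _ hq2

end Groth.Agent.Helper2.Grpd6
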