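import Mathlib
import Groth.Prelude.Def_Grpd
import Groth.Agent.Helper2.Grpd2
import Groth.Agent.Helper2.Grpd3
import Groth.Agent.Helper2.Grpd5
import Groth.Agent.Helper2.Grpd6

set_option autoImplicit false
universe u
open CategoryTheory CategoryTheory.Limits AlgebraicGeometry
open Grpd Groth.Agent.Helper2.Grpd2 Groth.Agent.Helper2.Grpd3 Groth.Agent.Helper2.Grpd5 Groth.Agent.Helper2.Grpd6

namespace Groth.Agent.Helper2.Grpd7

lemma dense_step {Y Q R : Type*} [TopologicalSpace Y] [TopologicalSpace Q] [TopologicalSpace R]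
    (b : Y → Q) (hb : Continuous b) (π : Y → R) (hπ : IsOpenMap π) (W : Set R) (y : Y)
    (hq : π y ∈ closure W) : b y ∈ closure (b '' (π ⁻¹' W)) := by
  rw [mem_closure_iff]
  intro N hN hyN
  have h1 : IsOpen (π '' (b ⁻¹' N)) := hπ _ (hN.preimage hb)
  obtain ⟨w, ⟨y', hy'N, rfl⟩, hwW⟩ := mem_closure_iff.mp hq _ h1 ⟨y, hyN, rfl⟩
  exact ⟨b y', hy'N, y', hwW, rfl⟩

variable {S : Scheme.{u}} {G₁ G₂ : Grpd.GroupoidScheme S} (f : Grpd.GroupoidScheme.Hom G₁ G₂)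

theorem mem_closure_inter [IsIso f.fU] (hU : IsIntegral G₂.U) (hU' : Subsingleton G₂.U)
    (p : ↑(pullback G₂.s G₂.t))
    (h₁ : pullback.fst G₂.s G₂.t p ∈ closure (Set.range ⇑f.fR))
    (h₂ : pullback.snd G₂.s G₂.t p ∈ closure (Set.range ⇑f.fR)) :
    p ∈ closure (⇑(pullback.fst G₂.s G₂.t) ⁻¹' Set.range ⇑f.fR ∩
      ⇑(pullback.snd G₂.s G₂.t) ⁻¹' Set.range ⇑f.fR) := by
  set W := Set.range ⇑f.fR with hW
  -- step (ii)
  have step2 : ∀ q : ↑(pullback G₂.s G₂.t), pullback.fst G₂.s G₂.t q ∈ W →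
      pullback.snd G₂.s G₂.t q ∈ closure W →
      q ∈ closure (⇑(pullback.fst G₂.s G₂.t) ⁻¹' W ∩ ⇑(pullback.snd G₂.s G₂.t) ⁻¹' W) := by
    intro q hq1 hq2
    let b : pullback (f.fR ≫ G₂.s) G₂.t ⟶ pullback G₂.s G₂.t :=
      pullback.map (f.fR ≫ G₂.s) G₂.t G₂.s G₂.t f.fR (𝟙 _) (𝟙 _)
        (by rw [Category.comp_id]) (by rw [Category.comp_id, Category.id_comp])
    have hb1 : b ≫ pullback.fst G₂.s G₂.t = pullback.fst (f.fR ≫ G₂.s) G₂.t ≫ f.fR :=
      pullback.lift_fst _ _ _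
    have hb2 : b ≫ pullback.snd G₂.s G₂.t = pullback.snd (f.fR ≫ G₂.s) G₂.t := by
      have := pullback.lift_snd (pullback.fst (f.fR ≫ G₂.s) G₂.t ≫ f.fR)
        (pullback.snd (f.fR ≫ G₂.s) G₂.t ≫ 𝟙 _) (f := G₂.s) (g := G₂.t)
      rw [Category.comp_id] at this
      exact this _
    have hrange : q ∈ Set.range ⇑b := by
      rw [Scheme.Pullback.range_map]
      refine ⟨hq1, ?_⟩
      simp
    obtain ⟨x, rfl⟩ := hrange
    have ho : UniversallyOpen (f.fR ≫ G₂.s) := inferInstance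
    have ho' : UniversallyOpen (pullback.snd (f.fR ≫ G₂.s) G₂.t) := inferInstance
    have hopen : IsOpenMap ⇑(pullback.snd (f.fR ≫ G₂.s) G₂.t) := Scheme.Hom.isOpenMap _
    have hx2 : pullback.snd (f.fR ≫ G₂.s) G₂.t x ∈ closure W := by
      rw [← hb2, Scheme.Hom.comp_apply]; exact hq2
    have := dense_step ⇑b b.continuous _ hopen W x hx2
    refine closure_mono ?_ this
    rintro _ ⟨x', hx'W, rfl⟩
    refine ⟨?_, ?_⟩
    · change pullback.fst G₂.s G₂.t (b x') ∈ W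
      rw [← Scheme.Hom.comp_apply, hb1, Scheme.Hom.comp_apply]
      exact ⟨_, rfl⟩
    · change pullback.snd G₂.s G₂.t (b x') ∈ W
      rw [← Scheme.Hom.comp_apply, hb2]
      exact hx'W
  -- step (i)
  let Cc : TopologicalSpace.Closeds G₂.R := ⟨closure W, isClosed_closure⟩
  let I := Scheme.IdealSheafData.vanishingIdeal Cc
  let ι := I.subschemeι
  have hι : Set.range ⇑ι = closure W := by
    rw [Scheme.IdealSheafData.range_subschemeι, Scheme.IdealSheafData.coe_support_vanishingIdeal]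
    rfl
  let b' : pullback G₂.s (ι ≫ G₂.t) ⟶ pullback G₂.s G₂.t :=
    pullback.map G₂.s (ι ≫ G₂.t) G₂.s G₂.t (𝟙 _) ι (𝟙 _)
      (by rw [Category.comp_id, Category.id_comp]) (by rw [Category.comp_id])
  have hb1 : b' ≫ pullback.fst G₂.s G₂.t = pullback.fst G₂.s (ι ≫ G₂.t) := by
    have := pullback.lift_fst (pullback.fst G₂.s (ι ≫ G₂.t) ≫ 𝟙 _)
      (pullback.snd G₂.s (ι ≫ G₂.t) ≫ ι) (f := G₂.s) (g := G₂.t)
    rw [Category.comp_id] at this
    exact this _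
  have hb2 : b' ≫ pullback.snd G₂.s G₂.t = pullback.snd G₂.s (ι ≫ G₂.t) ≫ ι :=
    pullback.lift_snd _ _ _
  have hrange : p ∈ Set.range ⇑b' := by
    rw [Scheme.Pullback.range_map]
    refine ⟨by simp, ?_⟩
    change pullback.snd G₂.s G₂.t p ∈ Set.range ⇑ι
    rw [hι]; exact h₂
  obtain ⟨y, rfl⟩ := hrange
  have ho : UniversallyOpen (ι ≫ G₂.t) := inferInstance
  have ho' : UniversallyOpen (pullback.fst G₂.s (ι ≫ G₂.t)) := inferInstance
  have hopen : IsOpenMap ⇑(pullback.fst G₂.s (ι ≫ G₂.t)) := Scheme.Hom.isOpenMap _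
  have hy1 : pullback.fst G₂.s (ι ≫ G₂.t) y ∈ closure W := by
    rw [← hb1, Scheme.Hom.comp_apply]; exact h₁
  have := dense_step ⇑b' b'.continuous _ hopen W y hy1
  have hsub : ⇑b' '' (⇑(pullback.fst G₂.s (ι ≫ G₂.t)) ⁻¹' W) ⊆
      closure (⇑(pullback.fst G₂.s G₂.t) ⁻¹' W ∩ ⇑(pullback.snd G₂.s G₂.t) ⁻¹' W) := by
    rintro _ ⟨y', hy'W, rfl⟩
    apply step2
    · rw [← Scheme.Hom.comp_apply, hb1]; exact hy'W
    · rw [← Scheme.Hom.comp_apply, hb2, Scheme.Hom.comp_apply, ← hι]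
      exact ⟨_, rfl⟩
  exact closure_minimal hsub isClosed_closure this

theorem c_mem_closure [IsIso f.fU] (hU : IsIntegral G₂.U) (hU' : Subsingleton G₂.U)
    (p : ↑(pullback G₂.s G₂.t))
    (h₁ : pullback.fst G₂.s G₂.t p ∈ closure (Set.range ⇑f.fR))
    (h₂ : pullback.snd G₂.s G₂.t p ∈ closure (Set.range ⇑f.fR)) :
    G₂.c p ∈ closure (Set.range ⇑f.fR) := by
  have h := mem_closure_inter f hU hU' p h₁ h₂
  have h1 := image_closure_subset_closure_image G₂.c.continuous ⟨p, h, rfl⟩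
  refine closure_mono ?_ h1
  rintro _ ⟨q, ⟨hq1, hq2⟩, rfl⟩
  exact mem_range_c f q hq1 hq2

end Groth.Agent.Helper2.Grpd7
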