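import Mathlib
import Groth.Prelude.Def_Grpd
import Groth.Agent.Helper2.Grpd2
import Groth.Agent.Helper2.Grpd3
import Groth.Agent.Helper2.Grpd7

set_option autoImplicit false
universe u
open CategoryTheory CategoryTheory.Limits AlgebraicGeometry
open Grpd Groth.Agent.Helper2.Grpd2 Groth.Agent.Helper2.Grpd3 Groth.Agent.Helper2.Grpd7

namespace Groth.Agent.Helper2.Grpd12

variable {S : Scheme.{u}} {U : Scheme.{u}} (pU : U ⟶ S)

/-- composition of the pair groupoid -/
noncomputable def pairC : pullback (pullback.snd pU pU) (pullback.fst pU pU) ⟶ pullback pU pU :=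
  pullback.lift (pullback.fst _ _ ≫ pullback.fst pU pU) (pullback.snd _ _ ≫ pullback.snd pU pU)
    (by rw [Category.assoc, Category.assoc, pullback.condition, ← Category.assoc,
      pullback.condition, Category.assoc, pullback.condition])

lemma pairC_fst : pairC pU ≫ pullback.fst pU pU =
    pullback.fst (pullback.snd pU pU) (pullback.fst pU pU) ≫ pullback.fst pU pU :=
  pullback.lift_fst _ _ _

lemma pairC_snd : pairC pU ≫ pullback.snd pU pU =
    pullback.snd (pullback.snd pU pU) (pullback.fst pU pU) ≫ pullback.snd pU pU :=
  pullback.lift_snd _ _ _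

lemma lift_pairC_fst {T : Scheme.{u}} (α β : T ⟶ pullback pU pU)
    (h : α ≫ pullback.snd pU pU = β ≫ pullback.fst pU pU) :
    (pullback.lift α β h ≫ pairC pU) ≫ pullback.fst pU pU = α ≫ pullback.fst pU pU := by
  rw [Category.assoc, pairC_fst, ← Category.assoc, pullback.lift_fst]

lemma lift_pairC_snd {T : Scheme.{u}} (α β : T ⟶ pullback pU pU)
    (h : α ≫ pullback.snd pU pU = β ≫ pullback.fst pU pU) :
    (pullback.lift α β h ≫ pairC pU) ≫ pullback.snd pU pU = β ≫ pullback.snd pU pU := by
  rw [Category.assoc, pairC_snd, ← Category.assoc, pullback.lift_snd]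

/-- the pair groupoid `U ×_S U ⇉ U` -/
noncomputable def pairGrpd : Grpd.GroupoidScheme S where
  U := U
  R := pullback pU pU
  pU := pU
  pR := pullback.fst pU pU ≫ pU
  s := pullback.snd pU pU
  t := pullback.fst pU pU
  e := pullback.lift (𝟙 U) (𝟙 U) rfl
  i := pullback.lift (pullback.snd pU pU) (pullback.fst pU pU) pullback.condition.symm
  c := pairC pU
  s_over := pullback.condition.symm
  t_over := rfl
  comp_s := fun α β h => lift_pairC_snd pU α β h
  comp_t := fun α β h => lift_pairC_fst pU α β h
  assoc := fun α β γ h₁ h₂ => by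
    apply pullback.hom_ext
    · rw [lift_pairC_fst, lift_pairC_fst, lift_pairC_fst]
    · rw [lift_pairC_snd, lift_pairC_snd, lift_pairC_snd]
  e_s := pullback.lift_snd _ _ _
  e_t := pullback.lift_fst _ _ _
  comp_e := fun α => by
    apply pullback.hom_ext
    · rw [lift_pairC_fst]
    · rw [lift_pairC_snd, Category.assoc, Category.assoc, pullback.lift_snd, Category.comp_id]
  e_comp := fun α => by
    apply pullback.hom_ext
    · rw [lift_pairC_fst, Category.assoc, Category.assoc, pullback.lift_fst, Category.comp_id]
    · rw [lift_pairC_snd]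
  i_s := pullback.lift_snd _ _ _
  i_t := pullback.lift_fst _ _ _
  comp_i := fun α => by
    apply pullback.hom_ext
    · rw [lift_pairC_fst, Category.assoc, Category.assoc, pullback.lift_fst, Category.comp_id]
    · rw [lift_pairC_snd, Category.assoc, pullback.lift_snd, Category.assoc, Category.assoc,
        pullback.lift_snd, Category.comp_id]
  i_comp := fun α => by
    apply pullback.hom_ext
    · rw [lift_pairC_fst, Category.assoc, pullback.lift_fst, Category.assoc, Category.assoc,
        pullback.lift_fst, Category.comp_id]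
    · rw [lift_pairC_snd, Category.assoc, Category.assoc, pullback.lift_snd, Category.comp_id]

variable (G : Grpd.GroupoidScheme S)

/-- `j` as a morphism of groupoid schemes to the pair groupoid -/
noncomputable def jHom : Grpd.GroupoidScheme.Hom G (pairGrpd G.pU) where
  fU := 𝟙 _
  fR := G.j
  fU_over := Category.id_comp _
  comm_s := by
    change G.j ≫ pullback.snd G.pU G.pU = G.s ≫ 𝟙 _
    rw [Category.comp_id]; exact pullback.lift_snd _ _ _
  comm_t := by
    change G.j ≫ pullback.fst G.pU G.pU = G.t ≫ 𝟙 _
    rw [Category.comp_id]; exact pullback.lift_fst _ _ _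
  comm_c := fun α β h => by
    have hjf : G.j ≫ pullback.fst G.pU G.pU = G.t := pullback.lift_fst _ _ _
    have hjs : G.j ≫ pullback.snd G.pU G.pU = G.s := pullback.lift_snd _ _ _
    change (pullback.lift α β h ≫ G.c) ≫ G.j = pullback.lift (α ≫ G.j) (β ≫ G.j) _ ≫ pairC G.pU
    apply pullback.hom_ext
    · have := G.comp_t α β h
      rw [lift_pairC_fst]
      simp only [Category.assoc, hjf]
      simpa only [Category.assoc] using this
    · have := G.comp_s α β h
      rw [lift_pairC_snd]
      simp only [Category.assoc, hjs]
      simpa only [Category.assoc] using this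

end Groth.Agent.Helper2.Grpd12
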