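import Mathlib
import Groth.Prelude.Def_Grpd
import Groth.Agent.Helper2.Grpd2

set_option autoImplicit false
universe u
open CategoryTheory CategoryTheory.Limits AlgebraicGeometry
open Grpd Groth.Agent.Helper2.Grpd2

namespace Groth.Agent.Helper2.Grpd13

variable {S : Scheme.{u}} (G : Grpd.GroupoidScheme S) {K : Scheme.{u}}

/-- right translation by `g` between fibres of `s` -/
theorem fibre_translate (a b : K ⟶ G.U) (g : K ⟶ G.R) (hgt : g ≫ G.t = a) (hgs : g ≫ G.s = b) :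
    ∃ φ : pullback G.s a ⟶ pullback G.s b,
      φ ≫ pullback.snd G.s b = pullback.snd G.s a ∧
      ∀ h : pullback.fst G.s a ≫ G.s = (pullback.snd G.s a ≫ g) ≫ G.t,
        φ ≫ pullback.fst G.s b = mul G (pullback.fst G.s a) (pullback.snd G.s a ≫ g) h := by
  have h : pullback.fst G.s a ≫ G.s = (pullback.snd G.s a ≫ g) ≫ G.t := by
    rw [Category.assoc, hgt, pullback.condition]
  refine ⟨pullback.lift (mul G (pullback.fst G.s a) (pullback.snd G.s a ≫ g) h)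
    (pullback.snd G.s a) (by rw [mul_s, Category.assoc, hgs]), pullback.lift_snd _ _ _, fun _ => ?_⟩
  exact pullback.lift_fst _ _ _

theorem fibre_iso (r₁ r₂ : K ⟶ G.R) (h : r₁ ≫ G.t = r₂ ≫ G.t) :
    ∃ (φ : pullback G.s (r₁ ≫ G.s) ≅ pullback G.s (r₂ ≫ G.s))
      (σ : K ⟶ pullback G.s (r₁ ≫ G.s)),
      φ.hom ≫ pullback.snd G.s (r₂ ≫ G.s) = pullback.snd G.s (r₁ ≫ G.s) ∧
      σ ≫ pullback.fst G.s (r₁ ≫ G.s) = r₁ ∧
      σ ≫ φ.hom ≫ pullback.fst G.s (r₂ ≫ G.s) = r₂ := by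
  set a := r₁ ≫ G.s with ha
  set b := r₂ ≫ G.s with hb
  have hg0 : (r₁ ≫ G.i) ≫ G.s = r₂ ≫ G.t := by rw [i_s', h]
  let g : K ⟶ G.R := mul G (r₁ ≫ G.i) r₂ hg0
  have hgt : g ≫ G.t = a := by rw [mul_t, i_t']
  have hgs : g ≫ G.s = b := by rw [mul_s]
  have hgit : (g ≫ G.i) ≫ G.t = b := by rw [i_t', hgs]
  have hgis : (g ≫ G.i) ≫ G.s = a := by rw [i_s', hgt]
  obtain ⟨φ, hφ2, hφ1⟩ := fibre_translate G a b g hgt hgs
  obtain ⟨ψ, hψ2, hψ1⟩ := fibre_translate G b a (g ≫ G.i) hgit hgis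
  have h1 : pullback.fst G.s a ≫ G.s = (pullback.snd G.s a ≫ g) ≫ G.t := by
    rw [Category.assoc, hgt, pullback.condition]
  have h2 : pullback.fst G.s b ≫ G.s = (pullback.snd G.s b ≫ g ≫ G.i) ≫ G.t := by
    rw [Category.assoc, hgit, pullback.condition]
  have hφψ : φ ≫ ψ = 𝟙 _ := by
    apply pullback.hom_ext
    · rw [Category.assoc, hψ1 h2, Category.id_comp]
      have h3 : (φ ≫ pullback.fst G.s b) ≫ G.s = (φ ≫ pullback.snd G.s b ≫ g ≫ G.i) ≫ G.t := by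
        rw [Category.assoc, h2]; simp only [Category.assoc]
      rw [comp_mul G φ _ _ h2 h3]
      have h4 : mul G (pullback.fst G.s a) (pullback.snd G.s a ≫ g) h1 ≫ G.s =
          ((pullback.snd G.s a ≫ g) ≫ G.i) ≫ G.t := by rw [mul_s, i_t']
      rw [mul_congr G h3 h4 (hφ1 h1) (by rw [← Category.assoc, hφ2, Category.assoc])]
      exact mul_mul_i G _ _ h1 h4
    · rw [Category.assoc, hψ2, hφ2, Category.id_comp]
  have hψφ : ψ ≫ φ = 𝟙 _ := by
    apply pullback.hom_ext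
    · rw [Category.assoc, hφ1 h1, Category.id_comp]
      have h3 : (ψ ≫ pullback.fst G.s a) ≫ G.s = (ψ ≫ pullback.snd G.s a ≫ g) ≫ G.t := by
        rw [Category.assoc, h1]; simp only [Category.assoc]
      rw [comp_mul G ψ _ _ h1 h3]
      have h2' : pullback.fst G.s b ≫ G.s = ((pullback.snd G.s b ≫ g) ≫ G.i) ≫ G.t := by
        rw [Category.assoc]; exact h2
      have h5 : mul G (pullback.fst G.s b) (pullback.snd G.s b ≫ g ≫ G.i) h2 =
          mul G (pullback.fst G.s b) ((pullback.snd G.s b ≫ g) ≫ G.i) h2' :=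
        mul_congr G h2 h2' rfl (by rw [Category.assoc])
      have h4' : mul G (pullback.fst G.s b) ((pullback.snd G.s b ≫ g) ≫ G.i) h2' ≫ G.s =
          (pullback.snd G.s b ≫ g) ≫ G.t := by
        rw [mul_s, i_s']
      rw [mul_congr G h3 h4' ((hψ1 h2).trans h5) (by rw [← Category.assoc, hψ2])]
      exact mul_i_mul' G (pullback.fst G.s b) (pullback.snd G.s b ≫ g) h2' h4'
    · rw [Category.assoc, hφ2, hψ2, Category.id_comp]
  let σ : K ⟶ pullback G.s a := pullback.lift r₁ (𝟙 K) (by rw [Category.id_comp])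
  have hσ1 : σ ≫ pullback.fst G.s a = r₁ := pullback.lift_fst _ _ _
  have hσ2 : σ ≫ pullback.snd G.s a = 𝟙 K := pullback.lift_snd _ _ _
  refine ⟨⟨φ, ψ, hφψ, hψφ⟩, σ, hφ2, hσ1, ?_⟩
  change σ ≫ φ ≫ pullback.fst G.s b = r₂
  rw [hφ1 h1]
  have h6 : (σ ≫ pullback.fst G.s a) ≫ G.s = (σ ≫ pullback.snd G.s a ≫ g) ≫ G.t := by
    rw [Category.assoc, h1]; simp only [Category.assoc]
  rw [comp_mul G σ _ _ h1 h6]
  have h7 : r₁ ≫ G.s = mul G (r₁ ≫ G.i) r₂ hg0 ≫ G.t := by rw [mul_t, i_t']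
  rw [mul_congr G h6 h7 hσ1 (by rw [← Category.assoc, hσ2, Category.id_comp])]
  exact mul_i_mul G r₁ r₂ hg0 h7

end Groth.Agent.Helper2.Grpd13
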