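import Mathlib
import Groth.Prelude.Def_Grpd
import Groth.Agent.Helper2.Grpd1

set_option autoImplicit false
universe u
open CategoryTheory CategoryTheory.Limits AlgebraicGeometry
open Grpd Groth.Agent.Helper2.Grpd1

namespace Groth.Agent.Helper2.Grpd14

lemma eq_of_specializes_of_fibre {X Y : Scheme.{u}} (f : X ⟶ Y) [LocallyQuasiFinite f] {a b : X}
    (h : a ⤳ b) (hf : f a = f b) : a = b := by
  have hd : _root_.IsDiscrete (⇑f ⁻¹' {f b}) := f.isDiscrete_preimage_singleton (f b)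
  have hd' : DiscreteTopology ↥(⇑f ⁻¹' {f b}) := isDiscrete_iff_discreteTopology.mp hd
  have ha : a ∈ ⇑f ⁻¹' {f b} := hf
  have hb : b ∈ ⇑f ⁻¹' {f b} := rfl
  have h' : (⟨a, ha⟩ : ↥(⇑f ⁻¹' {f b})) ⤳ ⟨b, hb⟩ := (subtype_specializes_iff _ _).mpr h
  exact congrArg Subtype.val h'.eq

variable {S : Scheme.{u}} (G : Grpd.GroupoidScheme S)

/-- the step relation -/
def P (x y : G.U) : Prop := (∃ ρ : G.R, G.s ρ = x ∧ G.t ρ = y) ∧ x ⤳ y ∧ x ≠ y

lemma step [IsFinite G.s] [IsFinite G.t] {x y : G.U} (h : P G x y) : ∃ z, P G y z := by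
  obtain ⟨⟨ρ, rfl, rfl⟩, hsp, hne⟩ := h
  have hcl : IsClosedMap ⇑G.s := G.s.isClosedMap
  obtain ⟨ρ', hρρ', hρ'⟩ := hcl.specializingMap hsp
  refine ⟨G.t ρ', ⟨ρ', hρ', rfl⟩, hρρ'.map G.t.continuous, fun heq => hne ?_⟩
  have : ρ = ρ' := eq_of_specializes_of_fibre G.t hρρ' heq
  rw [← hρ', ← this]

theorem not_specializes [IsFinite G.s] [IsFinite G.t] (r : G.R) (hne : G.s r ≠ G.t r) :
    ¬ (G.s r ⤳ G.t r) := by
  intro hsp
  have h0 : P G (G.s r) (G.t r) := ⟨⟨r, rfl, rfl⟩, hsp, hne⟩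
  choose! nxt hnxt using fun (x y : G.U) (h : P G x y) => step G h
  let F : {p : G.U × G.U // P G p.1 p.2} → {p : G.U × G.U // P G p.1 p.2} :=
    fun p => ⟨(p.1.2, nxt p.1.1 p.1.2), hnxt _ _ p.2⟩
  let seq : ℕ → {p : G.U × G.U // P G p.1 p.2} := fun n => F^[n] ⟨(G.s r, G.t r), h0⟩
  let y : ℕ → G.U := fun n => (seq n).1.1
  have hy0 : y 0 = G.s r := rfl
  have hy_succ : ∀ n, y (n + 1) = (seq n).1.2 := fun n => by
    change (F^[n + 1] _).1.1 = _
    rw [Function.iterate_succ_apply']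
  have hP : ∀ n, P G (y n) (y (n + 1)) := fun n => by
    rw [hy_succ]; exact (seq n).2
  -- all `y n` lie in the orbit of `s r`
  have horb : ∀ n, ∃ a : G.R, G.s a = G.s r ∧ G.t a = y n := by
    intro n
    induction n with
    | zero => exact ⟨G.e (G.s r), by rw [← Scheme.Hom.comp_apply, G.e_s]; rfl,
        by rw [← Scheme.Hom.comp_apply, G.e_t]; rfl⟩
    | succ n ih =>
      obtain ⟨a, ha1, ha2⟩ := ih
      obtain ⟨⟨b, hb1, hb2⟩, -, -⟩ := hP n
      obtain ⟨c, hc1, hc2⟩ := exists_comp G b a (by rw [hb1, ha2])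
      exact ⟨c, by rw [hc1, ha1], by rw [hc2, hb2]⟩
  have hfin : (⇑G.t '' (⇑G.s ⁻¹' {G.s r})).Finite :=
    (G.s.finite_preimage_singleton (G.s r)).image _
  have hmono : ∀ i j, i ≤ j → y i ⤳ y j := by
    intro i j hij
    induction hij with
    | refl => exact specializes_rfl
    | step _ ih => exact ih.trans (hP _).2.1
  have hinj : Function.Injective y := by
    intro i j hij
    by_contra hne'
    wlog hlt : i < j generalizing i j
    · exact this hij.symm (Ne.symm hne') (lt_of_le_of_ne (not_lt.mp hlt) (Ne.symm hne'))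
    have h1 : y (i + 1) ⤳ y i := by
      rw [hij]; exact hmono _ _ hlt
    have h2 : y i ⤳ y (i + 1) := (hP i).2.1
    exact (hP i).2.2 (h2.antisymm h1).eq
  have hinf : (Set.range y).Infinite := Set.infinite_range_of_injective hinj
  refine hinf (hfin.subset ?_)
  rintro _ ⟨n, rfl⟩
  obtain ⟨a, ha1, ha2⟩ := horb n
  exact ⟨a, ha1, ha2⟩

end Groth.Agent.Helper2.Grpd14
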