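import Mathlib
import Groth.Prelude.Def_Grpd

set_option autoImplicit false
universe u
open CategoryTheory CategoryTheory.Limits AlgebraicGeometry
open Grpd

namespace Groth.Agent.Helper2.Grpd15

/-- a compact subset of a scheme, each of whose points has an open neighbourhood avoiding `x`,
lies in a quasi-compact open avoiding `x`. -/
theorem exists_qc_open_of_compact {X : Scheme.{u}} {T : Set X} (hT : IsCompact T) (P : X → Prop)
    (h : ∀ y ∈ T, ∃ O : Set X, IsOpen O ∧ y ∈ O ∧ ∀ z ∈ O, P z) :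
    ∃ V : X.Opens, IsCompact (V : Set X) ∧ T ⊆ V ∧ ∀ z ∈ V, P z := by
  classical
  have key : ∀ y : T, ∃ N : X.Opens, IsCompact (N : Set X) ∧ (y : X) ∈ N ∧ ∀ z ∈ N, P z := by
    intro y
    obtain ⟨O, hO, hyO, hP⟩ := h y.1 y.2
    obtain ⟨N, hN, hyN, hNO⟩ := exists_isAffineOpen_mem_and_subset (x := y.1) (U := ⟨O, hO⟩) hyO
    exact ⟨N, hN.isCompact, hyN, fun z hz => hP z (hNO hz)⟩
  choose N hN1 hN2 hN3 using key
  obtain ⟨J, hJ⟩ := hT.elim_finite_subcover (fun y : T => (N y : Set X)) (fun y => (N y).2)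
    (fun y hy => Set.mem_iUnion.mpr ⟨⟨y, hy⟩, hN2 ⟨y, hy⟩⟩)
  refine ⟨⨆ y ∈ J, N y, ?_, ?_, ?_⟩
  · rw [TopologicalSpace.Opens.coe_iSup]
    simp only [TopologicalSpace.Opens.coe_iSup]
    exact J.isCompact_biUnion (fun y _ => hN1 y)
  · intro y hy
    have := hJ hy
    simp only [Set.mem_iUnion, exists_prop] at this
    obtain ⟨i, hi, hyi⟩ := this
    simp only [TopologicalSpace.Opens.coe_iSup, Set.mem_iUnion, exists_prop]
    exact ⟨i, hi, hyi⟩
  · intro z hz
    simp only [TopologicalSpace.Opens.mem_iSup, exists_prop] at hz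
    obtain ⟨i, _, hzi⟩ := hz
    exact hN3 i z hzi

theorem sat_eq_iInter {R U : Scheme.{u}} (s t : R ⟶ U) [QuasiCompact s] (ht : GeneralizingMap t)
    (W : U.Opens) (hW : IsCompact (W : Set U)) :
    ∃ (ι : Type u) (_ : Nonempty ι) (V : ι → U.Opens), (∀ i, IsCompact (V i : Set U)) ∧
      ⇑t '' (⇑s ⁻¹' (W : Set U)) = ⋂ i, (V i : Set U) := by
  set K : Set R := ⇑s ⁻¹' (W : Set U) with hKdef
  have hKo : IsOpen K := W.2.preimage s.continuous
  have hK : IsCompact K := QuasiCompact.isCompact_preimage (f := s) _ W.2 hW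
  set T : Set U := ⇑t '' K with hTdef
  have hT : IsCompact T := hK.image t.continuous
  have hgen : ∀ x y : U, y ∈ T → x ⤳ y → x ∈ T := by
    rintro x y ⟨r, hr, rfl⟩ hxy
    obtain ⟨r', hr', rfl⟩ := ht hxy
    exact ⟨r', hr'.mem_open hKo hr, rfl⟩
  refine ⟨{V : U.Opens // IsCompact (V : Set U) ∧ T ⊆ V}, ?_, fun V => V.1, fun V => V.2.1, ?_⟩
  · obtain ⟨V, hV1, hV2, -⟩ := exists_qc_open_of_compact hT (fun _ => True)
      (fun y _ => ⟨Set.univ, isOpen_univ, trivial, fun _ _ => trivial⟩)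
    exact ⟨⟨V, hV1, hV2⟩⟩
  · apply Set.Subset.antisymm
    · intro y hy
      simp only [Set.mem_iInter]
      intro V
      exact V.2.2 hy
    · intro x hx
      by_contra hxT
      obtain ⟨V, hV1, hV2, hV3⟩ := exists_qc_open_of_compact hT (fun z => z ≠ x) (by
        intro y hy
        have hns : ¬ x ⤳ y := fun hxy => hxT (hgen x y hy hxy)
        rw [specializes_iff_forall_open] at hns
        push_neg at hns
        obtain ⟨O, hO, hyO, hxO⟩ := hns
        exact ⟨O, hO, hyO, fun z hz hzx => hxO (hzx ▸ hz)⟩)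
      simp only [Set.mem_iInter] at hx
      exact hV3 x (hx ⟨V, hV1, hV2⟩) rfl

end Groth.Agent.Helper2.Grpd15
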