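import Mathlib
import Groth.Prelude.Def_Grpd
import Groth.Agent.Helper2.Grpd1
import Groth.Agent.Lead.ProConsLib8

set_option autoImplicit false
universe u
open CategoryTheory CategoryTheory.Limits AlgebraicGeometry
open Grpd

namespace Groth.Agent.Helper2.Grpd16

open Groth.Agent.Helper2 Groth.Agent.Lead.ProConsLib Topology

/-- a compact subset of a scheme lies in a quasi-compact open. -/
theorem exists_qc_open_of_compact {X : Scheme.{u}} {T : Set X} (hT : IsCompact T) :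
    ∃ V : X.Opens, IsCompact (V : Set X) ∧ T ⊆ V := by
  classical
  have key : ∀ y : T, ∃ N : X.Opens, IsCompact (N : Set X) ∧ (y : X) ∈ N := by
    intro y
    obtain ⟨N, hN, hyN, -⟩ := exists_isAffineOpen_mem_and_subset (x := y.1) (U := ⊤) trivial
    exact ⟨N, hN.isCompact, hyN⟩
  choose N hN1 hN2 using key
  obtain ⟨J, hJ⟩ := hT.elim_finite_subcover (fun y : T => (N y : Set X)) (fun y => (N y).2)
    (fun y hy => Set.mem_iUnion.mpr ⟨⟨y, hy⟩, hN2 ⟨y, hy⟩⟩)
  refine ⟨⨆ y ∈ J, N y, ?_, ?_⟩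
  · simp only [TopologicalSpace.Opens.coe_iSup]
    exact J.isCompact_biUnion (fun y _ => hN1 y)
  · intro y hy
    have := hJ hy
    simp only [Set.mem_iUnion, exists_prop] at this
    obtain ⟨i, hi, hyi⟩ := this
    simp only [TopologicalSpace.Opens.coe_iSup, Set.mem_iUnion, exists_prop]
    exact ⟨i, hi, hyi⟩

variable {S : Scheme.{u}} (G : Grpd.GroupoidScheme S)

lemma subset_sat (Z : Set G.U) : Z ⊆ ⇑G.t '' (⇑G.s ⁻¹' Z) := by
  intro z hz
  refine ⟨G.e z, ?_, ?_⟩
  · change G.s (G.e z) ∈ Z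
    rw [← Scheme.Hom.comp_apply, G.e_s]; exact hz
  · rw [← Scheme.Hom.comp_apply, G.e_t]; rfl

theorem main [QuasiCompact G.s] [Flat G.s] [QuasiCompact G.t] [Flat G.t]
    [QuasiSeparatedSpace G.U] (W : G.U.Opens) (hW : IsCompact (W : Set G.U)) :
    ∃ V W' : G.U.Opens, G.s ⁻¹ᵁ V = G.t ⁻¹ᵁ V ∧ IsCompact (W' : Set G.U) ∧ W ≤ V ∧ V ≤ W' := by
  set E : Set G.U := ⇑G.t '' (⇑G.s ⁻¹' (W : Set G.U)) with hE
  have hEc : IsCompact E :=
    (QuasiCompact.isCompact_preimage (f := G.s) _ W.2 hW).image G.t.continuous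
  obtain ⟨W', hW'c, hEW'⟩ := exists_qc_open_of_compact hEc
  set Z : Set G.U := (W' : Set G.U)ᶜ with hZ
  set T : Set G.U := ⇑G.t '' (⇑G.s ⁻¹' Z) with hT
  have hTE : Disjoint T E := by
    rw [Set.disjoint_left]
    rintro _ ⟨r, hr, rfl⟩ htE
    have h1 : r ∈ ⇑G.t ⁻¹' E := htE
    rw [hE, ← Grpd1.invariant G (W : Set G.U)] at h1
    exact hr (hEW' h1)
  have hTpro : ProCons.IsProConstructible T := by
    have h1 : IsConstructible (W' : Set G.U) := hW'c.isConstructible W'.2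
    have h2 : ProCons.IsProConstructible Z :=
      pro_of_isLocallyConstructible h1.compl.isLocallyConstructible
    exact pro_image G.t (Groth.Agent.Helper7.PC.pro_preimage G.s Z h2)
  have hTinv : ⇑G.s ⁻¹' T = ⇑G.t ⁻¹' T := Grpd1.invariant G Z
  have hcl : ⇑G.s ⁻¹' (closure T) = ⇑G.t ⁻¹' (closure T) := by
    ext r
    simp only [Set.mem_preimage]
    constructor
    · intro h
      obtain ⟨z, hzT, hz⟩ := exists_specializes_of_mem_closure hTpro h
      obtain ⟨r', hr', rfl⟩ := (Flat.generalizingMap G.s) hz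
      have h1 : r' ∈ ⇑G.t ⁻¹' T := hTinv ▸ hzT
      exact (hr'.map G.t.continuous).mem_closed isClosed_closure (subset_closure h1)
    · intro h
      obtain ⟨z, hzT, hz⟩ := exists_specializes_of_mem_closure hTpro h
      obtain ⟨r', hr', rfl⟩ := (Flat.generalizingMap G.t) hz
      have h1 : r' ∈ ⇑G.s ⁻¹' T := hTinv.symm ▸ hzT
      exact (hr'.map G.s.continuous).mem_closed isClosed_closure (subset_closure h1)
  refine ⟨⟨(closure T)ᶜ, isClosed_closure.isOpen_compl⟩, W', ?_, hW'c, ?_, ?_⟩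
  · ext r
    change r ∈ ⇑G.s ⁻¹' (closure T)ᶜ ↔ r ∈ ⇑G.t ⁻¹' (closure T)ᶜ
    rw [Set.preimage_compl, Set.preimage_compl, hcl]
  · intro w hw hwT
    obtain ⟨z, hzT, hz⟩ := exists_specializes_of_mem_closure hTpro hwT
    have hzW : z ∈ (W : Set G.U) := hz.mem_open W.2 hw
    exact Set.disjoint_left.mp hTE hzT (subset_sat G _ hzW)
  · intro v hv
    by_contra hvW'
    exact hv (subset_closure (subset_sat G Z hvW'))

end Groth.Agent.Helper2.Grpd16
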