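import Mathlib
import Groth.Prelude.Def_Grpd
import Groth.Agent.Helper2.Grpd1
import Groth.Agent.Helper2.Grpd2

set_option autoImplicit false
universe u
open CategoryTheory CategoryTheory.Limits AlgebraicGeometry
open Grpd

namespace Groth.Agent.Helper2.Grpd17

open TensorProduct

/-- base change of the norm along a pushout square of commutative rings -/
theorem norm_of_isPushout {A B A' P : Type u} [CommRing A] [CommRing B] [CommRing A'] [CommRing P]
    (f : A →+* B) (g : A →+* A') (f' : A' →+* P) (g' : B →+* P)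
    (h : IsPushout (CommRingCat.ofHom g) (CommRingCat.ofHom f) (CommRingCat.ofHom f')
      (CommRingCat.ofHom g'))
    (hfree : letI := f.toAlgebra; Module.Free A B) (hfin : letI := f.toAlgebra; Module.Finite A B)
    (b : B) :
    (letI := f'.toAlgebra; Algebra.norm A' (g' b)) = g (letI := f.toAlgebra; Algebra.norm A b) := by
  letI := f.toAlgebra
  letI := g.toAlgebra
  letI := f'.toAlgebra
  letI := g'.toAlgebra
  letI : Algebra A P := (f'.comp g).toAlgebra
  haveI : IsScalarTower A A' P := .of_algebraMap_eq' rfl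
  haveI : IsScalarTower A B P := .of_algebraMap_eq' (by
    have := h.w
    change f'.comp g = g'.comp f
    have h2 := congrArg CommRingCat.Hom.hom this
    simpa using h2)
  have hp : Algebra.IsPushout A A' B P := CommRingCat.isPushout_iff_isPushout.mp h
  have e := Algebra.IsPushout.equiv A A' B P
  have h1 : Algebra.norm A' (g' b) = Algebra.norm A' ((1 : A') ⊗ₜ[A] b) := by
    rw [← Algebra.norm_eq_of_algEquiv (Algebra.IsPushout.equiv A A' B P) ((1 : A') ⊗ₜ[A] b)]
    congr 1
    rw [Algebra.IsPushout.equiv_tmul, map_one, one_mul]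
    rfl
  rw [h1, Algebra.norm_apply, ← Algebra.baseChange_lmul, LinearMap.det_baseChange]
  rfl

variable {S : Scheme.{u}} (G : Grpd.GroupoidScheme S)

open Groth.Agent.Helper2 in
theorem main [IsAffine G.U] [IsAffine G.R] (f : Γ(G.U, ⊤)) : G.normST f ∈ G.invariants := by
  letI algS : Algebra Γ(G.U, ⊤) Γ(G.R, ⊤) := G.s.appTop.hom.toAlgebra
  by_cases hb : ∃ s : Finset Γ(G.R, ⊤), Nonempty (Module.Basis s Γ(G.U, ⊤) Γ(G.R, ⊤))
  · obtain ⟨s, ⟨bs⟩⟩ := hb
    have hfree : Module.Free Γ(G.U, ⊤) Γ(G.R, ⊤) := Module.Free.of_basis bs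
    have hfin : Module.Finite Γ(G.U, ⊤) Γ(G.R, ⊤) := Module.Finite.of_basis bs
    haveI : IsAffine (pullback G.s G.t) := inferInstance
    have hp1 : IsPushout G.s.appTop G.t.appTop (pullback.fst G.s G.t).appTop
        (pullback.snd G.s G.t).appTop := isPushout_appTop_of_isPullback (IsPullback.of_hasPullback _ _)
    have hp2 : IsPushout G.s.appTop G.s.appTop G.c.appTop (pullback.snd G.s G.t).appTop :=
      isPushout_appTop_of_isPullback (Grpd2.isPullback_c G)
    have e1 := norm_of_isPushout G.s.appTop.hom G.t.appTop.hom (pullback.snd G.s G.t).appTop.hom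
      (pullback.fst G.s G.t).appTop.hom hp1.flip hfree hfin (G.t.appTop.hom f)
    have e2 := norm_of_isPushout G.s.appTop.hom G.s.appTop.hom (pullback.snd G.s G.t).appTop.hom
      G.c.appTop.hom hp2.flip hfree hfin (G.t.appTop.hom f)
    have e3 : G.c.appTop.hom (G.t.appTop.hom f) = (pullback.fst G.s G.t).appTop.hom (G.t.appTop.hom f) := by
      have := Grpd1.c_t G
      have h2 := congrArg (fun φ => φ.appTop.hom f) this
      simpa using h2
    change G.s.appTop.hom (G.normST f) = G.t.appTop.hom (G.normST f)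
    unfold GroupoidScheme.normST
    rw [← e1, ← e2, e3]
  · change G.s.appTop.hom (G.normST f) = G.t.appTop.hom (G.normST f)
    unfold GroupoidScheme.normST
    rw [Algebra.norm_eq_one_of_not_exists_basis _ hb, map_one, map_one]

end Groth.Agent.Helper2.Grpd17
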