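import Mathlib
import Groth.Prelude.Def_Grpd
import Groth.Agent.Helper2.Grpd1
import Groth.Agent.Helper2.Grpd2

set_option autoImplicit false
universe u
open CategoryTheory CategoryTheory.Limits AlgebraicGeometry
open Grpd

namespace Groth.Agent.Helper2.Grpd18

open TensorProduct

/-- base change of a basis along a pushout square of commutative rings -/
theorem basis_of_isPushout {A B A' P : Type u} [CommRing A] [CommRing B] [CommRing A'] [CommRing P]
    (f : A →+* B) (g : A →+* A') (f' : A' →+* P) (g' : B →+* P)
    (h : IsPushout (CommRingCat.ofHom g) (CommRingCat.ofHom f) (CommRingCat.ofHom f')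
      (CommRingCat.ofHom g'))
    (I : Type u) (b : letI := f.toAlgebra; Module.Basis I A B) :
    letI := f'.toAlgebra; ∃ b' : Module.Basis I A' P, ∀ i, b' i = g' (b i) := by
  letI := f.toAlgebra
  letI := g.toAlgebra
  letI := f'.toAlgebra
  letI := g'.toAlgebra
  letI : Algebra A P := (f'.comp g).toAlgebra
  haveI : IsScalarTower A A' P := .of_algebraMap_eq' rfl
  haveI : IsScalarTower A B P := .of_algebraMap_eq' (by
    have := h.w
    change f'.comp g = g'.comp f
    have h2 := congrArg CommRingCat.Hom.hom this
    simpa using h2)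
  have hp : Algebra.IsPushout A A' B P := CommRingCat.isPushout_iff_isPushout.mp h
  refine ⟨(b.baseChange A').map (Algebra.IsPushout.equiv A A' B P).toLinearEquiv, fun i => ?_⟩
  rw [Module.Basis.map_apply, Module.Basis.baseChange_apply]
  change Algebra.IsPushout.equiv A A' B P (1 ⊗ₜ[A] b i) = g' (b i)
  rw [Algebra.IsPushout.equiv_tmul, map_one, one_mul]
  rfl

section Alg

variable {A B P : Type u} [CommRing A] [CommRing B] [CommRing P]
  (s t : A →+* B) (e : B →+* A) (p0 p1 c : B →+* P)

/-- key step: the coordinates of `t a` in a basis `t (x i)` of `B` over `A` (through `s`) are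
invariant. -/
theorem coord_mem (hcs : c.comp s = p1.comp s) (hct : c.comp t = p0.comp t)
    (hw : p1.comp t = p0.comp s) (I : Type u) (x : I → A)
    (b : letI := s.toAlgebra; Module.Basis I A B) (hb : ∀ i, b i = t (x i))
    (b' : letI := p1.toAlgebra; Module.Basis I B P) (hb' : ∀ i, b' i = p0 (b i)) (a : A) (i : I) :
    s ((letI := s.toAlgebra; b.repr (t a)) i) = t ((letI := s.toAlgebra; b.repr (t a)) i) := by
  letI := s.toAlgebra
  letI := p1.toAlgebra
  set r := b.repr (t a) with hr
  have h0 : t a = r.sum fun i u => s u * t (x i) := by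
    have := b.linearCombination_repr (t a)
    rw [Finsupp.linearCombination_apply] at this
    rw [← this]
    apply Finsupp.sum_congr
    intro i _
    rw [hb i]
    rfl
  have h1 : c (t a) = Finsupp.linearCombination B b' (r.mapRange s (map_zero s)) := by
    rw [Finsupp.linearCombination_apply, Finsupp.sum_mapRange_index (by intro i; simp)]
    conv_lhs => rw [h0]
    rw [map_finsuppSum]
    apply Finsupp.sum_congr
    intro i _
    rw [map_mul, hb' i, hb i]
    have e1 : c (s (r i)) = p1 (s (r i)) := congrArg (fun φ => φ (r i)) hcs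
    have e2 : c (t (x i)) = p0 (t (x i)) := congrArg (fun φ => φ (x i)) hct
    rw [e1, e2]
    rfl
  have h2 : p0 (t a) = Finsupp.linearCombination B b' (r.mapRange t (map_zero t)) := by
    rw [Finsupp.linearCombination_apply, Finsupp.sum_mapRange_index (by intro i; simp)]
    conv_lhs => rw [h0]
    rw [map_finsuppSum]
    apply Finsupp.sum_congr
    intro i _
    rw [map_mul, hb' i, hb i]
    have e1 : p0 (s (r i)) = p1 (t (r i)) := (congrArg (fun φ => φ (r i)) hw).symm
    rw [e1]
    rfl
  have h3 : c (t a) = p0 (t a) := congrArg (fun φ => φ a) hct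
  rw [h1, h2] at h3
  have h4 := congrArg b'.repr h3
  rw [Module.Basis.repr_linearCombination, Module.Basis.repr_linearCombination] at h4
  have h5 := DFunLike.congr_fun h4 i
  simpa using h5

end Alg

section Alg2

variable {A B : Type u} [CommRing A] [CommRing B] (s t : A →+* B) (e : B →+* A)

theorem expand (hes : e.comp s = RingHom.id A) (het : e.comp t = RingHom.id A)
    (I : Type u) (x : I → A)
    (b : letI := s.toAlgebra; Module.Basis I A B) (hb : ∀ i, b i = t (x i)) (a : A) :
    a = (letI := s.toAlgebra; b.repr (t a)).sum fun i u => u * x i := by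
  letI := s.toAlgebra
  have h0 : t a = (b.repr (t a)).sum fun i u => s u * t (x i) := by
    have := b.linearCombination_repr (t a)
    rw [Finsupp.linearCombination_apply] at this
    conv_lhs => rw [← this]
    apply Finsupp.sum_congr
    intro i _
    rw [hb i]
    rfl
  have h1 := congrArg e h0
  rw [map_finsuppSum] at h1
  have e1 : ∀ a, e (t a) = a := fun a => congrArg (fun φ => φ a) het
  have e2 : ∀ a, e (s a) = a := fun a => congrArg (fun φ => φ a) hes
  rw [e1] at h1
  conv_lhs => rw [h1]
  apply Finsupp.sum_congr
  intro i _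
  rw [map_mul, e1, e2]

theorem alg_main (hes : e.comp s = RingHom.id A) (het : e.comp t = RingHom.id A)
    (I : Type u) (x : I → A)
    (b : letI := s.toAlgebra; Module.Basis I A B) (hb : ∀ i, b i = t (x i))
    (hC : ∀ (a : A) (i : I), s ((letI := s.toAlgebra; b.repr (t a)) i) =
      t ((letI := s.toAlgebra; b.repr (t a)) i)) :
    (∃ bC : Module.Basis I (RingHom.eqLocus s t) A, ∀ i, bC i = x i) ∧
    (letI := (s.comp (RingHom.eqLocus s t).subtype).toAlgebra;
      ∀ φ : TensorProduct (RingHom.eqLocus s t) A A →ₗ[RingHom.eqLocus s t] B,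
      (∀ a a' : A, φ (a ⊗ₜ[RingHom.eqLocus s t] a') = t a * s a') → Function.Bijective φ) := by
  letI algS : Algebra A B := s.toAlgebra
  set C := RingHom.eqLocus s t with hCdef
  have hst : ∀ c : C, s c.1 = t c.1 := fun c => c.2
  -- linear independence
  have hli : LinearIndependent C x := by
    rw [linearIndependent_iff]
    intro l hl
    rw [Finsupp.linearCombination_apply] at hl
    have h1 := congrArg t hl
    rw [map_finsuppSum, map_zero] at h1
    have h2 : Finsupp.linearCombination A b (l.mapRange C.subtype (map_zero _)) = 0 := by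
      rw [Finsupp.linearCombination_apply, Finsupp.sum_mapRange_index (by intro i; simp)]
      rw [← h1]
      apply Finsupp.sum_congr
      intro i _
      rw [hb i]
      change s (l i).1 * t (x i) = t ((l i).1 * x i)
      rw [map_mul, hst]
    have h3 := congrArg b.repr h2
    rw [Module.Basis.repr_linearCombination, map_zero] at h3
    ext i
    have h4 := DFunLike.congr_fun h3 i
    simpa using h4
  have hsp : ⊤ ≤ Submodule.span C (Set.range x) := by
    intro a _
    rw [expand s t e hes het I x b hb a]
    apply Submodule.sum_mem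
    intro i _
    have : (b.repr (t a)) i * x i = (⟨(b.repr (t a)) i, hC a i⟩ : C) • x i := rfl
    change (b.repr (t a)) i * x i ∈ _
    rw [this]
    exact Submodule.smul_mem _ _ (Submodule.subset_span ⟨i, rfl⟩)
  refine ⟨⟨Module.Basis.mk hli hsp, fun i => Module.Basis.mk_apply hli hsp i⟩, ?_⟩
  letI algC : Algebra C B := (s.comp C.subtype).toAlgebra
  intro φ hφ
  constructor
  · -- injective: build a left inverse
    let ψ : B →+ TensorProduct C A A :=
      (Finsupp.liftAddHom fun i => (TensorProduct.mk C A A (x i)).toAddMonoidHom).comp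
        b.repr.toAddMonoidHom
    have hψ : ∀ z, ψ (φ z) = z := by
      intro z
      induction z using TensorProduct.induction_on with
      | zero => simp
      | tmul a a' =>
        rw [hφ]
        have h1 : b.repr (t a * s a') = a' • b.repr (t a) := by
          rw [← map_smul]
          congr 1
          change t a * s a' = s a' * t a
          ring
        change (Finsupp.liftAddHom fun i => (TensorProduct.mk C A A (x i)).toAddMonoidHom)
          (b.repr (t a * s a')) = _
        rw [h1, Finsupp.liftAddHom_apply, Finsupp.sum_smul_index (by intro i; simp)]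
        conv_rhs => rw [expand s t e hes het I x b hb a]
        rw [Finsupp.sum, Finsupp.sum, TensorProduct.sum_tmul]
        apply Finset.sum_congr rfl
        intro i _
        change x i ⊗ₜ[C] (a' * (b.repr (t a)) i) = ((b.repr (t a)) i * x i) ⊗ₜ[C] a'
        have e1 : (b.repr (t a)) i * x i = (⟨(b.repr (t a)) i, hC a i⟩ : C) • x i := rfl
        have e2 : a' * (b.repr (t a)) i = (⟨(b.repr (t a)) i, hC a i⟩ : C) • a' := by
          change _ = (b.repr (t a)) i * a'
          ring
        rw [e1, e2, TensorProduct.smul_tmul]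
      | add z1 z2 h1 h2 => rw [map_add, map_add, h1, h2]
    intro z1 z2 h
    rw [← hψ z1, ← hψ z2, h]
  · intro y
    refine ⟨(b.repr y).sum fun i u => x i ⊗ₜ[C] u, ?_⟩
    rw [map_finsuppSum]
    have := b.linearCombination_repr y
    rw [Finsupp.linearCombination_apply] at this
    conv_rhs => rw [← this]
    apply Finsupp.sum_congr
    intro i _
    rw [hφ, hb i]
    change t (x i) * s _ = s _ * t (x i)
    ring

end Alg2

section Sch

variable {S : Scheme.{u}} (G : Grpd.GroupoidScheme S)

open Groth.Agent.Helper2 in
theorem main [IsAffine G.U] [IsAffine G.R] (I : Type u) (x : I → Γ(G.U, ⊤))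
    (hB : letI := G.s.appTop.hom.toAlgebra; ∃ b : Module.Basis I Γ(G.U, ⊤) Γ(G.R, ⊤),
      ∀ i, b i = G.t.appTop.hom (x i)) :
    (∃ b : Module.Basis I G.invariants Γ(G.U, ⊤), ∀ i, b i = x i) ∧
    (letI := (G.s.appTop.hom.comp G.invariants.subtype).toAlgebra;
      ∀ φ : TensorProduct G.invariants Γ(G.U, ⊤) Γ(G.U, ⊤) →ₗ[G.invariants] Γ(G.R, ⊤),
      (∀ a a' : Γ(G.U, ⊤), φ (a ⊗ₜ[G.invariants] a') = G.t.appTop.hom a * G.s.appTop.hom a') →
        Function.Bijective φ) := by
  obtain ⟨b, hb⟩ := hB
  haveI : IsAffine (pullback G.s G.t) := inferInstance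
  have hp1 : IsPushout G.s.appTop G.t.appTop (pullback.fst G.s G.t).appTop
      (pullback.snd G.s G.t).appTop := isPushout_appTop_of_isPullback (IsPullback.of_hasPullback _ _)
  obtain ⟨b', hb'⟩ := basis_of_isPushout G.s.appTop.hom G.t.appTop.hom
    (pullback.snd G.s G.t).appTop.hom (pullback.fst G.s G.t).appTop.hom hp1.flip I b
  have hes : G.e.appTop.hom.comp G.s.appTop.hom = RingHom.id _ := by
    have h2 := congrArg (fun φ => φ.appTop.hom) G.e_s
    simpa using h2
  have het : G.e.appTop.hom.comp G.t.appTop.hom = RingHom.id _ := by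
    have h2 := congrArg (fun φ => φ.appTop.hom) G.e_t
    simpa using h2
  have hcs : G.c.appTop.hom.comp G.s.appTop.hom =
      (pullback.snd G.s G.t).appTop.hom.comp G.s.appTop.hom := by
    have h2 := congrArg (fun φ => φ.appTop.hom) (Grpd1.c_s G)
    simpa using h2
  have hct : G.c.appTop.hom.comp G.t.appTop.hom =
      (pullback.fst G.s G.t).appTop.hom.comp G.t.appTop.hom := by
    have h2 := congrArg (fun φ => φ.appTop.hom) (Grpd1.c_t G)
    simpa using h2
  have hw : (pullback.snd G.s G.t).appTop.hom.comp G.t.appTop.hom =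
      (pullback.fst G.s G.t).appTop.hom.comp G.s.appTop.hom := by
    have h2 := congrArg (fun φ => φ.appTop.hom) (pullback.condition (f := G.s) (g := G.t))
    simpa using h2.symm
  have hC := coord_mem G.s.appTop.hom G.t.appTop.hom (pullback.fst G.s G.t).appTop.hom
    (pullback.snd G.s G.t).appTop.hom G.c.appTop.hom hcs hct hw I x b hb b' hb'
  exact alg_main G.s.appTop.hom G.t.appTop.hom G.e.appTop.hom hes het I x b hb hC

end Sch

end Groth.Agent.Helper2.Grpd18
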