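import Mathlib
import Groth.Prelude.Def_Grpd
import Groth.Agent.Helper2.Grpd2

set_option autoImplicit false
universe u
open CategoryTheory CategoryTheory.Limits AlgebraicGeometry
open Grpd Groth.Agent.Helper2.Grpd2

namespace Groth.Agent.Helper2.Grpd23

variable {S : Scheme.{u}} (G : Grpd.GroupoidScheme S) {U' : Scheme.{u}} (g : U' ⟶ G.U)

/-- arrows of the restricted groupoid: `(U' ×_{g,U,t} R) ×_{s, U, g} U'` -/
noncomputable abbrev R' : Scheme.{u} := pullback (pullback.snd g G.t ≫ G.s) g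

noncomputable def t' : R' G g ⟶ U' :=
  pullback.fst (pullback.snd g G.t ≫ G.s) g ≫ pullback.fst g G.t

noncomputable def s' : R' G g ⟶ U' := pullback.snd (pullback.snd g G.t ≫ G.s) g

noncomputable def π : R' G g ⟶ G.R :=
  pullback.fst (pullback.snd g G.t ≫ G.s) g ≫ pullback.snd g G.t

lemma π_t : π G g ≫ G.t = t' G g ≫ g := by
  unfold π t'
  rw [Category.assoc, Category.assoc, pullback.condition]

lemma π_s : π G g ≫ G.s = s' G g ≫ g := by
  unfold π s'
  rw [Category.assoc]; exact pullback.condition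

variable {G g}

/-- constructor for points of `R'` -/
noncomputable def mk {T : Scheme.{u}} (a : T ⟶ U') (ρ : T ⟶ G.R) (b : T ⟶ U')
    (h1 : a ≫ g = ρ ≫ G.t) (h2 : ρ ≫ G.s = b ≫ g) : T ⟶ R' G g :=
  pullback.lift (pullback.lift a ρ h1) b (by rw [← Category.assoc, pullback.lift_snd, h2])

@[simp] lemma mk_t {T : Scheme.{u}} (a : T ⟶ U') (ρ : T ⟶ G.R) (b : T ⟶ U')
    (h1 : a ≫ g = ρ ≫ G.t) (h2 : ρ ≫ G.s = b ≫ g) : mk a ρ b h1 h2 ≫ t' G g = a := by
  unfold mk t'; rw [← Category.assoc, pullback.lift_fst, pullback.lift_fst]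

@[simp] lemma mk_s {T : Scheme.{u}} (a : T ⟶ U') (ρ : T ⟶ G.R) (b : T ⟶ U')
    (h1 : a ≫ g = ρ ≫ G.t) (h2 : ρ ≫ G.s = b ≫ g) : mk a ρ b h1 h2 ≫ s' G g = b := by
  unfold mk s'; rw [pullback.lift_snd]

@[simp] lemma mk_π {T : Scheme.{u}} (a : T ⟶ U') (ρ : T ⟶ G.R) (b : T ⟶ U')
    (h1 : a ≫ g = ρ ≫ G.t) (h2 : ρ ≫ G.s = b ≫ g) : mk a ρ b h1 h2 ≫ π G g = ρ := by
  unfold mk π; rw [← Category.assoc, pullback.lift_fst, pullback.lift_snd]

lemma hom_ext' {T : Scheme.{u}} {α β : T ⟶ R' G g} (ht : α ≫ t' G g = β ≫ t' G g)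
    (hπ : α ≫ π G g = β ≫ π G g) (hs : α ≫ s' G g = β ≫ s' G g) : α = β := by
  unfold t' at ht
  unfold π at hπ
  unfold s' at hs
  apply pullback.hom_ext
  · apply pullback.hom_ext
    · rw [Category.assoc, Category.assoc]; exact ht
    · rw [Category.assoc, Category.assoc]; exact hπ
  · exact hs

lemma mk_congr {T : Scheme.{u}} {a a' : T ⟶ U'} {ρ ρ' : T ⟶ G.R} {b b' : T ⟶ U'}
    (h1 : a ≫ g = ρ ≫ G.t) (h2 : ρ ≫ G.s = b ≫ g) (h1' : a' ≫ g = ρ' ≫ G.t)
    (h2' : ρ' ≫ G.s = b' ≫ g) (ha : a = a') (hρ : ρ = ρ') (hb : b = b') :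
    mk a ρ b h1 h2 = mk a' ρ' b' h1' h2' := by
  subst ha hρ hb; rfl

lemma comp_mk {T T' : Scheme.{u}} (f : T' ⟶ T) (a : T ⟶ U') (ρ : T ⟶ G.R) (b : T ⟶ U')
    (h1 : a ≫ g = ρ ≫ G.t) (h2 : ρ ≫ G.s = b ≫ g) :
    f ≫ mk a ρ b h1 h2 = mk (f ≫ a) (f ≫ ρ) (f ≫ b) (by rw [Category.assoc, h1, Category.assoc])
      (by rw [Category.assoc, h2, Category.assoc]) := by
  apply hom_ext' <;> simp

variable (G g)

lemma hc : (pullback.fst (s' G g) (t' G g) ≫ π G g) ≫ G.s =
    (pullback.snd (s' G g) (t' G g) ≫ π G g) ≫ G.t := by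
  rw [Category.assoc, π_s, Category.assoc, π_t, ← Category.assoc, pullback.condition,
    Category.assoc]

lemma hαβ {T : Scheme.{u}} (α β : T ⟶ R' G g) (h : α ≫ s' G g = β ≫ t' G g) :
    (α ≫ π G g) ≫ G.s = (β ≫ π G g) ≫ G.t := by
  rw [Category.assoc, π_s, Category.assoc, π_t, ← Category.assoc, h, Category.assoc]

noncomputable def e' : U' ⟶ R' G g :=
  mk (𝟙 U') (g ≫ G.e) (𝟙 U') (by rw [Category.id_comp, Category.assoc, G.e_t, Category.comp_id])
    (by rw [Category.id_comp, Category.assoc, G.e_s, Category.comp_id])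

noncomputable def i' : R' G g ⟶ R' G g :=
  mk (s' G g) (π G g ≫ G.i) (t' G g) (by rw [Category.assoc, G.i_t, π_s])
    (by rw [Category.assoc, G.i_s, π_t])

noncomputable def c' : pullback (s' G g) (t' G g) ⟶ R' G g :=
  mk (pullback.fst (s' G g) (t' G g) ≫ t' G g)
    (mul G (pullback.fst (s' G g) (t' G g) ≫ π G g) (pullback.snd (s' G g) (t' G g) ≫ π G g)
      (hc G g))
    (pullback.snd (s' G g) (t' G g) ≫ s' G g)
    (by rw [mul_t, Category.assoc, Category.assoc, π_t])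
    (by rw [mul_s, Category.assoc, Category.assoc, π_s])

lemma mul_eq_of {T : Scheme.{u}} {α α' β β' : T ⟶ G.R} (h : α ≫ G.s = β ≫ G.t)
    (hα : α = α') (hβ : β = β') :
    mul G α β h = mul G α' β' (by rw [← hα, ← hβ]; exact h) := by
  subst hα hβ; rfl

lemma lift_c' {T : Scheme.{u}} (α β : T ⟶ R' G g) (h : α ≫ s' G g = β ≫ t' G g) :
    pullback.lift α β h ≫ c' G g = mk (α ≫ t' G g) (mul G (α ≫ π G g) (β ≫ π G g) (hαβ G g α β h))
      (β ≫ s' G g) (by rw [mul_t, Category.assoc, Category.assoc, π_t])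
      (by rw [mul_s, Category.assoc, Category.assoc, π_s]) := by
  unfold c'
  rw [comp_mk]
  apply mk_congr
  · rw [← Category.assoc, pullback.lift_fst]
  · have h0 : (pullback.lift α β h ≫ pullback.fst (s' G g) (t' G g) ≫ π G g) ≫ G.s =
        (pullback.lift α β h ≫ pullback.snd (s' G g) (t' G g) ≫ π G g) ≫ G.t := by
      rw [Category.assoc, Category.assoc, ← Category.assoc _ _ G.s, hc, Category.assoc,
        Category.assoc, Category.assoc]
    rw [comp_mul G _ _ _ (hc G g) h0]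
    exact mul_congr G h0 (hαβ G g α β h) (by rw [← Category.assoc, pullback.lift_fst])
      (by rw [← Category.assoc, pullback.lift_snd])
  · rw [← Category.assoc, pullback.lift_snd]

lemma lift_c'_t {T : Scheme.{u}} (α β : T ⟶ R' G g) (h : α ≫ s' G g = β ≫ t' G g) :
    (pullback.lift α β h ≫ c' G g) ≫ t' G g = α ≫ t' G g := by rw [lift_c', mk_t]

lemma lift_c'_s {T : Scheme.{u}} (α β : T ⟶ R' G g) (h : α ≫ s' G g = β ≫ t' G g) :
    (pullback.lift α β h ≫ c' G g) ≫ s' G g = β ≫ s' G g := by rw [lift_c', mk_s]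

lemma lift_c'_π {T : Scheme.{u}} (α β : T ⟶ R' G g) (h : α ≫ s' G g = β ≫ t' G g) :
    (pullback.lift α β h ≫ c' G g) ≫ π G g = mul G (α ≫ π G g) (β ≫ π G g) (hαβ G g α β h) := by
  rw [lift_c', mk_π]

@[reassoc] lemma e'_π : e' G g ≫ π G g = g ≫ G.e := mk_π _ _ _ _ _
@[reassoc] lemma e'_t : e' G g ≫ t' G g = 𝟙 _ := mk_t _ _ _ _ _
@[reassoc] lemma e'_s : e' G g ≫ s' G g = 𝟙 _ := mk_s _ _ _ _ _
@[reassoc] lemma i'_π : i' G g ≫ π G g = π G g ≫ G.i := mk_π _ _ _ _ _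
@[reassoc] lemma i'_t : i' G g ≫ t' G g = s' G g := mk_t _ _ _ _ _
@[reassoc] lemma i'_s : i' G g ≫ s' G g = t' G g := mk_s _ _ _ _ _

lemma pt_e_s {T : Scheme.{u}} (α : T ⟶ R' G g) :
    (α ≫ s' G g ≫ e' G g) ≫ π G g = (α ≫ π G g) ≫ G.s ≫ G.e := by
  simp only [Category.assoc, e'_π]
  rw [← Category.assoc (π G g), π_s, Category.assoc]

lemma pt_e_t {T : Scheme.{u}} (α : T ⟶ R' G g) :
    (α ≫ t' G g ≫ e' G g) ≫ π G g = (α ≫ π G g) ≫ G.t ≫ G.e := by
  simp only [Category.assoc, e'_π]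
  rw [← Category.assoc (π G g), π_t, Category.assoc]

lemma pt_i {T : Scheme.{u}} (α : T ⟶ R' G g) :
    (α ≫ i' G g) ≫ π G g = (α ≫ π G g) ≫ G.i := by
  simp only [Category.assoc, i'_π]

/-- the restriction of a groupoid scheme along `g : U' ⟶ U` -/
noncomputable def restrict : Grpd.GroupoidScheme S where
  U := U'
  R := R' G g
  pU := g ≫ G.pU
  pR := s' G g ≫ g ≫ G.pU
  s := s' G g
  t := t' G g
  e := e' G g
  i := i' G g
  c := c' G g
  s_over := rfl
  t_over := by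
    rw [← Category.assoc, ← π_t, Category.assoc, G.t_over, ← G.s_over, ← Category.assoc, π_s,
      Category.assoc]
  comp_s := fun α β h => lift_c'_s G g α β h
  comp_t := fun α β h => lift_c'_t G g α β h
  assoc := by
    intro T α β δ h₁ h₂
    apply hom_ext'
    · rw [lift_c'_t, lift_c'_t, lift_c'_t]
    · refine (lift_c'_π G g _ _ _).trans (Eq.trans ?_ (lift_c'_π G g _ _ _).symm)
      rw [mul_eq_of G _ (lift_c'_π G g α β h₁) rfl]
      rw [mul_eq_of G (hαβ G g α _ (by rw [lift_c'_t]; exact h₁)) rfl (lift_c'_π G g β δ h₂)]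
      exact mul_assoc G _ _ _ _ _ _ _
    · rw [lift_c'_s, lift_c'_s, lift_c'_s]
  e_s := e'_s G g
  e_t := e'_t G g
  comp_e := by
    intro T α
    apply hom_ext'
    · rw [lift_c'_t]
    · rw [lift_c'_π, mul_eq_of G _ rfl (pt_e_s G g α)]
      exact mul_e G _ _
    · rw [lift_c'_s]
      simp only [Category.assoc, e'_s, Category.comp_id]
  e_comp := by
    intro T α
    apply hom_ext'
    · rw [lift_c'_t]
      simp only [Category.assoc, e'_t, Category.comp_id]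
    · rw [lift_c'_π, mul_eq_of G _ (pt_e_t G g α) rfl]
      exact e_mul G _ _
    · rw [lift_c'_s]
  i_s := i'_s G g
  i_t := i'_t G g
  comp_i := by
    intro T α
    apply hom_ext'
    · rw [lift_c'_t]
      simp only [Category.assoc, e'_t, Category.comp_id]
    · rw [lift_c'_π, mul_eq_of G _ rfl (pt_i G g α), pt_e_t]
      exact mul_i G _ _
    · rw [lift_c'_s]
      simp only [Category.assoc, e'_s, i'_s, Category.comp_id]
  i_comp := by
    intro T α
    apply hom_ext'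
    · rw [lift_c'_t]
      simp only [Category.assoc, e'_t, i'_t, Category.comp_id]
    · rw [lift_c'_π, mul_eq_of G _ (pt_i G g α) rfl, pt_e_s]
      exact i_mul G _ _
    · rw [lift_c'_s]
      simp only [Category.assoc, e'_s, Category.comp_id]

end Groth.Agent.Helper2.Grpd23
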