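import Mathlib
import Groth.Prelude.Def_Grpd
import Groth.Agent.Helper2.Grpd20
import Groth.Agent.Helper2.Grpd21
import Groth.Agent.Helper2.Grpd22
import Groth.Agent.Helper2.Grpd23

set_option autoImplicit false
universe u
open CategoryTheory CategoryTheory.Limits AlgebraicGeometry
open Grpd

namespace Groth.Agent.Helper2.Grpd24

open Groth.Agent.Helper2 Groth.Agent.Helper2.Grpd20 Groth.Agent.Helper2.Grpd23

variable {S : Scheme.{u}} (G : Grpd.GroupoidScheme S)

instance π_flat {U' : Scheme.{u}} (g : U' ⟶ G.U) [Flat g] : Flat (π G g) := by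
  unfold π
  infer_instance

instance π_surjective {U' : Scheme.{u}} (g : U' ⟶ G.U) [Surjective g] : Surjective (π G g) := by
  unfold π
  infer_instance

/-- every point of the arrows of a groupoid scheme over a field has at most one maximal
generization -/
theorem oneGen_grpd (k : Type u) [Field k] (eU : G.U ≅ Spec (CommRingCat.of k)) (r : G.R) :
    OneGen r := by
  obtain ⟨hU, hU'⟩ := Grpd3.isIntegral_subsingleton_of_iso k eU
  let f := Spec.map (CommRingCat.ofHom <| algebraMap k (AlgebraicClosure k))
  let g : Spec (CommRingCat.of (AlgebraicClosure k)) ⟶ G.U := f ≫ eU.inv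
  have h' : ∀ r' : (restrict G g).R, OneGen r' := fun r' =>
    Grpd21.oneGen (restrict G g) (AlgebraicClosure k) (Iso.refl _) r'
  haveI : Surjective g := ⟨fun y => ⟨default, Subsingleton.elim _ _⟩⟩
  haveI : Flat g := inferInstance
  exact Grpd22.oneGen_of_surjective (π G g) (π G g).surjective (Flat.generalizingMap _) h' r

end Groth.Agent.Helper2.Grpd24
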