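import Mathlib
import Groth.Agent.Helper2.Grpd20
import Groth.Agent.Helper2.Grpd21
import Groth.Agent.Helper2.Grpd22
import Groth.Agent.Helper2.HS3

set_option autoImplicit false
universe u
open CategoryTheory CategoryTheory.Limits AlgebraicGeometry TensorProduct

namespace Groth.Agent.Helper2.HS3b

open Groth.Agent.Helper2 Groth.Agent.Helper2.Grpd20 Groth.Agent.Helper2.HS3

variable {k : Type u} [Field k]

variable {X : Scheme.{u}} (f : X ⟶ Spec (CommRingCat.of k)) (σ : Spec (CommRingCat.of k) ⟶ X)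
  (hσ : σ ≫ f = 𝟙 _)

include hσ in
/-- general version of `HS3.geomIrr_algClosure` -/
lemma geomIrr_algClosure_gen
    (hone : ∀ x' : ↥(pullback f
      (Spec.map (CommRingCat.ofHom (algebraMap k (AlgebraicClosure k))))), OneGen x')
    (Z : Set X) (hZ : Z ∈ irreducibleComponents X)
    (pt : ↥(Spec (CommRingCat.of k))) (he : σ pt ∈ Z) :
    IsIrreducible ((pullback.fst f
      (Spec.map (CommRingCat.ofHom (algebraMap k (AlgebraicClosure k))))) ⁻¹' Z) := by
  let kb := AlgebraicClosure k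
  let tb := Spec.map (CommRingCat.ofHom (algebraMap k kb))
  let q : pullback f tb ⟶ X := pullback.fst f tb
  haveI : IsIntegralHom tb := by
    rw [IsIntegralHom.SpecMap_iff]
    exact algebraMap_isIntegral_iff.mpr inferInstance
  haveI : IsIntegralHom q := inferInstanceAs (IsIntegralHom (pullback.fst f tb))
  haveI : Flat q := inferInstanceAs (Flat (pullback.fst f tb))
  haveI : Surjective tb := ⟨fun y => ⟨default, Subsingleton.elim _ _⟩⟩
  haveI : Surjective q := inferInstanceAs (Surjective (pullback.fst f tb))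
  have hclosed : IsClosedMap q := q.isClosedMap
  have hgen : GeneralizingMap q := Flat.generalizingMap q
  have hZirr : IsIrreducible Z := hZ.1
  have hZcl : IsClosed Z := isClosed_of_mem_irreducibleComponents Z hZ
  have hξ : IsGenericPoint hZirr.genericPoint Z := by
    have := hZirr.isGenericPoint_genericPoint_closure
    rwa [hZcl.closure_eq] at this
  set ξ := hZirr.genericPoint with hξdef
  have hξmax : IsMaxPt ξ := Grpd22.isMaxPt_genericPoint hZ hξ
  have hfib : (q ⁻¹' {σ pt}).Subsingleton := by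
    have h1 := subsingleton_fibre_rational f σ hσ tb
    have h2 : Set.range σ = {σ pt} := by
      ext y
      constructor
      · rintro ⟨x, rfl⟩
        rw [Subsingleton.elim x pt]; rfl
      · rintro rfl
        exact ⟨pt, rfl⟩
    rwa [h2] at h1
  have key : ∀ ζ : ↥(pullback f tb), IsMaxPt ζ → q ζ ∈ Z →
      ∃ e' : ↥(pullback f tb), ζ ⤳ e' ∧ q e' = σ pt := by
    intro ζ hζ hζZ
    have h1 : IsMaxPt (q ζ) := isMaxPt_map _ hgen hζ
    have h2 : ξ ⤳ q ζ := hξ.specializes hζZ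
    have h3 : ξ = q ζ := h1 _ h2
    have h4 : IsClosed (q '' closure {ζ}) := hclosed _ isClosed_closure
    have h5 : Z ⊆ q '' closure {ζ} := by
      rw [← hξ.def]
      apply closure_minimal _ h4
      rw [Set.singleton_subset_iff, h3]
      exact ⟨ζ, subset_closure rfl, rfl⟩
    obtain ⟨e', he', he''⟩ := h5 he
    exact ⟨e', specializes_iff_mem_closure.mpr he', he''⟩
  have uniq : ∀ ζ₁ ζ₂ : ↥(pullback f tb), IsMaxPt ζ₁ → IsMaxPt ζ₂ → q ζ₁ ∈ Z → q ζ₂ ∈ Z →
      ζ₁ = ζ₂ := by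
    intro ζ₁ ζ₂ m₁ m₂ z₁ z₂
    obtain ⟨e₁, s₁, f₁⟩ := key ζ₁ m₁ z₁
    obtain ⟨e₂, s₂, f₂⟩ := key ζ₂ m₂ z₂
    have : e₁ = e₂ := hfib f₁ f₂
    subst this
    exact hone e₁ ζ₁ ζ₂ m₁ m₂ s₁ s₂
  have ex : ∀ y : ↥(pullback f tb), q y ∈ Z →
      ∃ ζ : ↥(pullback f tb), IsMaxPt ζ ∧ q ζ ∈ Z ∧ ζ ⤳ y := by
    intro y hy
    have h2 : ξ ⤳ q y := hξ.specializes hy
    obtain ⟨y', hy', hy''⟩ := hgen h2
    obtain ⟨ζ, hζ, hζy⟩ := Grpd21.exists_isMaxPt y'
    refine ⟨ζ, hζ, ?_, hζy.trans hy'⟩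
    have h3 : q ζ ⤳ ξ := hy'' ▸ hζy.map q.continuous
    rw [hξmax _ h3]
    exact hξ.mem
  obtain ⟨y0, hy0⟩ := q.surjective (σ pt)
  obtain ⟨ζ0, m0, z0, -⟩ := ex y0 (by rw [hy0]; exact he)
  have hC : (q ⁻¹' Z) = closure {ζ0} := by
    apply Set.Subset.antisymm
    · intro y hy
      obtain ⟨ζ, m, z, s⟩ := ex y hy
      rw [uniq ζ ζ0 m m0 z z0] at s
      exact specializes_iff_mem_closure.mp s
    · exact closure_minimal (Set.singleton_subset_iff.mpr z0) (hZcl.preimage q.continuous)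
  change IsIrreducible (q ⁻¹' Z)
  rw [hC]
  exact isIrreducible_singleton.closure

include hσ in
/-- general version of `HS3.geomIrr` -/
theorem geomIrr_gen
    (hone : ∀ x' : ↥(pullback f
      (Spec.map (CommRingCat.ofHom (algebraMap k (AlgebraicClosure k))))), OneGen x')
    (Z : Set X) (hZ : Z ∈ irreducibleComponents X)
    (pt : ↥(Spec (CommRingCat.of k))) (he : σ pt ∈ Z)
    {K : Type u} [Field K] (t : Spec (CommRingCat.of K) ⟶ Spec (CommRingCat.of k)) :
    IsIrreducible ((pullback.fst f t) ⁻¹' Z) := by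
  obtain ⟨ψ, rfl⟩ := Spec.map_surjective t
  letI : Algebra k K := ψ.hom.toAlgebra
  let kb := AlgebraicClosure k
  let R := K ⊗[k] kb
  obtain ⟨m, hm⟩ := Ideal.exists_maximal R
  letI : Field (R ⧸ m) := Ideal.Quotient.field m
  let Ω := AlgebraicClosure (R ⧸ m)
  let φ2 : K →+* Ω := (algebraMap (R ⧸ m) Ω).comp ((Ideal.Quotient.mk m).comp
    (Algebra.TensorProduct.includeLeft : K →ₐ[k] R).toRingHom)
  let φ1 : kb →+* Ω := (algebraMap (R ⧸ m) Ω).comp ((Ideal.Quotient.mk m).comp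
    (Algebra.TensorProduct.includeRight : kb →ₐ[k] R).toRingHom)
  let s2 := Spec.map (CommRingCat.ofHom φ2)
  let s1 := Spec.map (CommRingCat.ofHom φ1)
  let tb := Spec.map (CommRingCat.ofHom (algebraMap k kb))
  have hcomm : s1 ≫ tb = s2 ≫ Spec.map ψ := by
    rw [← Spec.map_comp, ← Spec.map_comp]
    congr 1
    ext x
    change φ1 (algebraMap k kb x) = φ2 (ψ.hom x)
    have h1 : (Algebra.TensorProduct.includeRight : kb →ₐ[k] R) (algebraMap k kb x) =
        algebraMap k R x := AlgHom.commutes _ x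
    have h2 : (Algebra.TensorProduct.includeLeft : K →ₐ[k] R) (algebraMap k K x) =
        algebraMap k R x := AlgHom.commutes _ x
    have h3 : ψ.hom x = algebraMap k K x := rfl
    simp only [φ1, φ2, RingHom.comp_apply, AlgHom.toRingHom_eq_coe, RingHom.coe_coe, h1, h3, h2]
  have hb := geomIrr_algClosure_gen f σ hσ hone Z hZ pt he
  have h1 := isIrreducible_ascend f tb s1 Z hb
  rw [hcomm] at h1
  exact isIrreducible_descend f (Spec.map ψ) s2 Z h1

end Groth.Agent.Helper2.HS3b
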