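import Mathlib
import Groth.Agent.Helper2.HS3b
import Groth.Agent.Helper2.HS5
import Groth.Agent.Helper2.Grpd19
import Groth.Agent.Helper2.Grpd23
import Groth.Agent.Helper2.Grpd24

set_option autoImplicit false
universe u
open CategoryTheory CategoryTheory.Limits AlgebraicGeometry

namespace Groth.Agent.Helper2.Grpd25

open Groth.Agent.Helper2 Groth.Agent.Helper2.Grpd2 Groth.Agent.Helper2.Grpd20
  Groth.Agent.Helper2.Grpd23

variable {S : Scheme.{u}} (G : Grpd.GroupoidScheme S)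

lemma e_i : G.e ≫ G.i = G.e := by
  have h0 : G.e ≫ G.s = (G.e ≫ G.i) ≫ G.t := by rw [i_t']
  have h1 : mul G G.e (G.e ≫ G.i) h0 = G.e ≫ G.t ≫ G.e := mul_i G G.e h0
  have h2 : ((G.e ≫ G.i) ≫ G.t ≫ G.e) = G.e := by
    rw [← Category.assoc, i_t', G.e_s, Category.id_comp]
  have h3 := e_mul G (G.e ≫ G.i) (by rw [h2, G.e_s, i_t', G.e_s])
  rw [← h3, mul_congr G _ h0 h2 rfl, h1, ← Category.assoc, G.e_t, Category.id_comp]

variable {k : Type u} [Field k] (eU : G.U ≅ Spec (CommRingCat.of k))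

lemma hσ : (eU.inv ≫ G.e) ≫ G.s ≫ eU.hom = 𝟙 _ := by
  rw [Category.assoc, ← Category.assoc G.e, G.e_s, Category.id_comp, Iso.inv_hom_id]

lemma hone (x' : ↥(pullback (G.s ≫ eU.hom)
      (Spec.map (CommRingCat.ofHom (algebraMap k (AlgebraicClosure k)))))) : OneGen x' := by
  let kb := AlgebraicClosure k
  let tb := Spec.map (CommRingCat.ofHom (algebraMap k kb))
  let g : Spec (CommRingCat.of kb) ⟶ G.U := tb ≫ eU.inv
  haveI : Flat tb := by
    rw [Flat.SpecMap_iff]  -- may need adjusting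
    exact (RingHom.flat_algebraMap_iff.mpr inferInstance)
  haveI : Surjective tb := ⟨fun y => ⟨default, Subsingleton.elim _ _⟩⟩
  haveI : Flat g := inferInstanceAs (Flat (tb ≫ eU.inv))
  haveI : Surjective g := inferInstanceAs (Surjective (tb ≫ eU.inv))
  have h' : ∀ r' : (restrict G g).R, OneGen r' := fun r' =>
    Grpd24.oneGen_grpd (restrict G g) kb (Iso.refl _) r'
  let p1 : pullback g G.t ⟶ G.R := pullback.snd g G.t
  haveI : Flat p1 := inferInstanceAs (Flat (pullback.snd g G.t))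
  haveI : Surjective p1 := inferInstanceAs (Surjective (pullback.snd g G.t))
  let m1 : R' G g ⟶ pullback ((p1 ≫ G.s) ≫ eU.hom) tb :=
    pullback.map (p1 ≫ G.s) g ((p1 ≫ G.s) ≫ eU.hom) tb (𝟙 _) (𝟙 _) eU.hom
      (by rw [Category.id_comp]) (by rw [Category.id_comp, Category.assoc, Iso.inv_hom_id,
        Category.comp_id])
  haveI : IsIso m1 := by unfold m1; infer_instance
  let m2 : pullback ((p1 ≫ G.s) ≫ eU.hom) tb ⟶ pullback (G.s ≫ eU.hom) tb :=
    pullback.map ((p1 ≫ G.s) ≫ eU.hom) tb (G.s ≫ eU.hom) tb p1 (𝟙 _) (𝟙 _)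
      (by rw [Category.comp_id, Category.assoc]) (by rw [Category.comp_id, Category.id_comp])
  haveI : Flat m2 := by
    have := MorphismProperty.pullbackMap (P := @Flat) (f := (p1 ≫ G.s) ≫ eU.hom) (g := tb)
      (f' := G.s ≫ eU.hom) (g' := tb) (i₁ := p1) (i₂ := 𝟙 _) inferInstance inferInstance
      (by rw [Category.assoc]) (by rw [Category.id_comp])
    exact this
  haveI : Surjective m2 := by
    have := MorphismProperty.pullbackMap (P := @Surjective) (f := (p1 ≫ G.s) ≫ eU.hom) (g := tb)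
      (f' := G.s ≫ eU.hom) (g' := tb) (i₁ := p1) (i₂ := 𝟙 _) inferInstance inferInstance
      (by rw [Category.assoc]) (by rw [Category.id_comp])
    exact this
  let ρ : R' G g ⟶ pullback (G.s ≫ eU.hom) tb := m1 ≫ m2
  haveI : Flat ρ := inferInstanceAs (Flat (m1 ≫ m2))
  haveI : Surjective ρ := inferInstanceAs (Surjective (m1 ≫ m2))
  exact Grpd22.oneGen_of_surjective ρ ρ.surjective (Flat.generalizingMap ρ) h' x'


/-- the `s`-version -/
theorem main_s (Z : Scheme.{u}) (ι : Z ⟶ G.R) [IsClosedImmersion ι] [IrreducibleSpace Z]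
    (hZ : Set.range ⇑ι ∈ irreducibleComponents ↥G.R)
    (he : G.e (eU.inv (IsLocalRing.closedPoint k)) ∈ Set.range ⇑ι) :
    GeometricallyIrreducible (ι ≫ G.s ≫ eU.hom) := by
  let pt : ↥(Spec (CommRingCat.of k)) := IsLocalRing.closedPoint k
  refine ⟨geometrically_iff_of_isClosedUnderIsomorphisms.mpr fun L _ y ↦ ?_⟩
  change IrreducibleSpace ↥(pullback (ι ≫ G.s ≫ eU.hom) y)
  let e := pullbackRightPullbackFstIso (G.s ≫ eU.hom) y ι
  rw [← e.hom.homeomorph.irreducibleSpace_iff]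
  let j := pullback.snd ι (pullback.fst (G.s ≫ eU.hom) y)
  haveI : IsClosedImmersion j := inferInstance
  apply HS5.irreducibleSpace_of_isEmbedding j j.isEmbedding
  rw [Scheme.Pullback.range_snd]
  exact HS3b.geomIrr_gen (G.s ≫ eU.hom) (eU.inv ≫ G.e) (hσ G eU) (hone G eU) _ hZ pt he y

theorem main_t (Z : Scheme.{u}) (ι : Z ⟶ G.R) [IsClosedImmersion ι] [IrreducibleSpace Z]
    (hZ : Set.range ⇑ι ∈ irreducibleComponents ↥G.R)
    (he : G.e (eU.inv (IsLocalRing.closedPoint k)) ∈ Set.range ⇑ι) :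
    GeometricallyIrreducible (ι ≫ G.t ≫ eU.hom) := by
  haveI : IsIso G.i := inferInstance
  have hi : IsHomeomorph G.i := G.i.homeomorph.isHomeomorph
  have hr : Set.range ⇑(ι ≫ G.i) = G.i '' Set.range ⇑ι := by
    rw [Scheme.Hom.comp_base, TopCat.coe_comp, Set.range_comp]
  have hZ' : Set.range ⇑(ι ≫ G.i) ∈ irreducibleComponents ↥G.R := by
    rw [hr]
    exact image_mem_irreducibleComponents_of_isPreirreducible_fiber G.i G.i.continuous
      hi.isOpenMap (fun x => (Set.subsingleton_singleton.preimage hi.injective).isPreirreducible)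
      hi.surjective hZ
  have he' : G.e (eU.inv (IsLocalRing.closedPoint k)) ∈ Set.range ⇑(ι ≫ G.i) := by
    rw [hr]
    refine ⟨_, he, ?_⟩
    rw [← Scheme.Hom.comp_apply, e_i]
  have := main_s G eU Z (ι ≫ G.i) hZ' he'
  rwa [Category.assoc, ← Category.assoc G.i, G.i_s] at this

end Groth.Agent.Helper2.Grpd25
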