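import Mathlib
import Groth.Prelude.Def_Grpd
import Groth.Agent.Helper2.Grpd2

set_option autoImplicit false
universe u
open CategoryTheory CategoryTheory.Limits AlgebraicGeometry
open Grpd Groth.Agent.Helper2.Grpd2

namespace Groth.Agent.Helper2.Grpd4

variable {S : Scheme.{u}} (G : Grpd.GroupoidScheme S)

lemma hδ : pullback.fst G.s G.s ≫ G.s = (pullback.snd G.s G.s ≫ G.i) ≫ G.t := by
  rw [i_t', pullback.condition]

/-- the map `(x, y) ↦ x y⁻¹` -/
noncomputable def δ : pullback G.s G.s ⟶ G.R :=
  mul G (pullback.fst G.s G.s) (pullback.snd G.s G.s ≫ G.i) (hδ G)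

theorem isPullback_diag : IsPullback (pullback.diagonal G.s) G.t (δ G) G.e := by
  have hw : pullback.diagonal G.s ≫ δ G = G.t ≫ G.e := by
    unfold δ
    have h1 : (pullback.diagonal G.s ≫ pullback.fst G.s G.s) ≫ G.s =
        (pullback.diagonal G.s ≫ pullback.snd G.s G.s ≫ G.i) ≫ G.t := by
      rw [pullback.diagonal_fst, ← Category.assoc, pullback.diagonal_snd, Category.id_comp, Category.id_comp, G.i_t]
    rw [comp_mul G _ _ _ (hδ G) h1]
    have h2 : 𝟙 G.R ≫ G.s = (𝟙 G.R ≫ G.i) ≫ G.t := by rw [Category.id_comp, Category.id_comp, G.i_t]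
    rw [mul_congr G h1 h2 (pullback.diagonal_fst _) (by rw [← Category.assoc, pullback.diagonal_snd])]
    rw [mul_i G (𝟙 G.R) h2, Category.id_comp]
  refine ⟨⟨hw⟩, ⟨PullbackCone.IsLimit.mk hw (fun c => c.fst ≫ pullback.fst G.s G.s)
    (fun c => ?_) (fun c => ?_) (fun c m hm1 hm2 => ?_)⟩⟩
  · -- x = y
    set x := c.fst ≫ pullback.fst G.s G.s with hx
    set y := c.fst ≫ pullback.snd G.s G.s with hy
    have hxy : x ≫ G.s = y ≫ G.s := by
      rw [hx, hy, Category.assoc, pullback.condition, Category.assoc]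
    have h1 : x ≫ G.s = (y ≫ G.i) ≫ G.t := by rw [i_t', hxy]
    have hcond : mul G x (y ≫ G.i) h1 = c.snd ≫ G.e := by
      have := c.condition
      unfold δ at this
      have h0 : (c.fst ≫ pullback.fst G.s G.s) ≫ G.s = (c.fst ≫ pullback.snd G.s G.s ≫ G.i) ≫ G.t := by
        rw [← Category.assoc]; exact h1
      rw [comp_mul G _ _ _ (hδ G) h0] at this
      rw [← this]
      exact mul_congr G h1 h0 rfl (by rw [hy, Category.assoc])
    have hu : c.snd = y ≫ G.t := by
      have := congrArg (· ≫ G.s) hcond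
      simp only [mul_s, i_s', e_s'] at this
      exact this.symm
    have h2 : mul G x (y ≫ G.i) h1 ≫ G.s = y ≫ G.t := by rw [mul_s, i_s']
    have hxeq : x = y := by
      have h3 := mul_i_mul' G x y h1 h2
      have h4 : (y ≫ G.t ≫ G.e) ≫ G.s = y ≫ G.t := by rw [← Category.assoc]; exact e_s' G _
      rw [mul_congr G h2 h4 (by rw [hcond, hu, Category.assoc]) rfl, e_mul G y h4] at h3
      exact h3.symm
    apply pullback.hom_ext
    · rw [Category.assoc, pullback.diagonal_fst, Category.comp_id]
    · rw [Category.assoc, pullback.diagonal_snd, Category.comp_id]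
      exact hxeq
  · set x := c.fst ≫ pullback.fst G.s G.s with hx
    set y := c.fst ≫ pullback.snd G.s G.s with hy
    have hxy : x ≫ G.s = y ≫ G.s := by
      rw [hx, hy, Category.assoc, pullback.condition, Category.assoc]
    have h1 : x ≫ G.s = (y ≫ G.i) ≫ G.t := by rw [i_t', hxy]
    have hcond : mul G x (y ≫ G.i) h1 = c.snd ≫ G.e := by
      have := c.condition
      unfold δ at this
      have h0 : (c.fst ≫ pullback.fst G.s G.s) ≫ G.s = (c.fst ≫ pullback.snd G.s G.s ≫ G.i) ≫ G.t := by
        rw [← Category.assoc]; exact h1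
      rw [comp_mul G _ _ _ (hδ G) h0] at this
      rw [← this]
      exact mul_congr G h1 h0 rfl (by rw [hy, Category.assoc])
    have hu : c.snd = x ≫ G.t := by
      have := congrArg (· ≫ G.t) hcond
      simp only [mul_t, e_t'] at this
      exact this.symm
    exact hu.symm
  · rw [← hm1, Category.assoc, pullback.diagonal_fst, Category.comp_id]

theorem isSeparated_s (hU : Subsingleton G.U) : IsSeparated G.s := by
  have he : IsClosedImmersion G.e := isClosedImmersion_of_comp_eq_id G.s G.e G.e_s
  exact ⟨MorphismProperty.of_isPullback (isPullback_diag G).flip he⟩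

end Groth.Agent.Helper2.Grpd4
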