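import Mathlib
import Groth.Prelude.Def_Grpd
import Groth.Agent.Helper2.Grpd2

set_option autoImplicit false
universe u
open CategoryTheory CategoryTheory.Limits AlgebraicGeometry
open Grpd

namespace Groth.Agent.Helper2.GrpdWOpen

open Groth.Agent.Helper2 Groth.Agent.Helper2.Grpd2

variable {S : Scheme.{u}} (G : Grpd.GroupoidScheme S) {U' : Scheme.{u}} (g : U' ⟶ G.U)

noncomputable abbrev H : Scheme.{u} := pullback g G.t
noncomputable abbrev h : H G g ⟶ G.U := pullback.snd g G.t ≫ G.s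
noncomputable abbrev H₂ : Scheme.{u} := pullback (h G g) G.t
noncomputable abbrev pr : H₂ G g ⟶ H G g := pullback.fst (h G g) G.t
noncomputable abbrev h₂ : H₂ G g ⟶ G.R := pullback.snd (h G g) G.t
noncomputable abbrev H₃ : Scheme.{u} := pullback (h G g) G.s

lemma hcomp : (pr G g ≫ pullback.snd g G.t) ≫ G.s = h₂ G g ≫ G.t := by
  rw [Category.assoc]; exact pullback.condition

/-- `(u', r, r') ↦ (u', r r')` -/
noncomputable def m : H₂ G g ⟶ H G g :=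
  pullback.lift (pr G g ≫ pullback.fst g G.t)
    (mul G (pr G g ≫ pullback.snd g G.t) (h₂ G g) (hcomp G g))
    (by rw [mul_t, Category.assoc, Category.assoc, pullback.condition])

lemma m_fst : m G g ≫ pullback.fst g G.t = pr G g ≫ pullback.fst g G.t := pullback.lift_fst _ _ _
lemma m_snd : m G g ≫ pullback.snd g G.t =
    mul G (pr G g ≫ pullback.snd g G.t) (h₂ G g) (hcomp G g) := pullback.lift_snd _ _ _

lemma m_h : m G g ≫ h G g = h₂ G g ≫ G.s := by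
  change m G g ≫ pullback.snd g G.t ≫ G.s = _
  rw [← Category.assoc, m_snd, mul_s]

/-- comparison `H₂ ⟶ H₃`, `(u', r, r') ↦ ((u', r r'), r')` -/
noncomputable def Φ : H₂ G g ⟶ H₃ G g := pullback.lift (m G g) (h₂ G g) (m_h G g)

lemma hΨ1 : (pullback.fst (h G g) G.s ≫ pullback.snd g G.t) ≫ G.s =
    (pullback.snd (h G g) G.s ≫ G.i) ≫ G.t := by
  rw [i_t', Category.assoc]; exact pullback.condition

/-- `((u', ρ), r') ↦ (u', ρ r'⁻¹)` -/
noncomputable def Ψ₁ : H₃ G g ⟶ H G g :=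
  pullback.lift (pullback.fst (h G g) G.s ≫ pullback.fst g G.t)
    (mul G (pullback.fst (h G g) G.s ≫ pullback.snd g G.t) (pullback.snd (h G g) G.s ≫ G.i)
      (hΨ1 G g))
    (by rw [mul_t, Category.assoc, Category.assoc, pullback.condition])

lemma Ψ₁_snd : Ψ₁ G g ≫ pullback.snd g G.t =
    mul G (pullback.fst (h G g) G.s ≫ pullback.snd g G.t) (pullback.snd (h G g) G.s ≫ G.i)
      (hΨ1 G g) := pullback.lift_snd _ _ _

lemma Ψ₁_fst : Ψ₁ G g ≫ pullback.fst g G.t = pullback.fst (h G g) G.s ≫ pullback.fst g G.t :=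
  pullback.lift_fst _ _ _

lemma Ψ₁_h : Ψ₁ G g ≫ h G g = pullback.snd (h G g) G.s ≫ G.t := by
  change Ψ₁ G g ≫ pullback.snd g G.t ≫ G.s = _
  rw [← Category.assoc, Ψ₁_snd, mul_s, i_s']

/-- `((u', ρ), r') ↦ (u', ρ r'⁻¹, r')` -/
noncomputable def Ψ : H₃ G g ⟶ H₂ G g :=
  pullback.lift (Ψ₁ G g) (pullback.snd (h G g) G.s) (Ψ₁_h G g)

lemma Ψ_pr : Ψ G g ≫ pr G g = Ψ₁ G g := pullback.lift_fst _ _ _
lemma Ψ_h₂ : Ψ G g ≫ h₂ G g = pullback.snd (h G g) G.s := pullback.lift_snd _ _ _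
lemma Φ_fst : Φ G g ≫ pullback.fst (h G g) G.s = m G g := pullback.lift_fst _ _ _
lemma Φ_snd : Φ G g ≫ pullback.snd (h G g) G.s = h₂ G g := pullback.lift_snd _ _ _

lemma Φ_Ψ : Φ G g ≫ Ψ G g = 𝟙 _ := by
  apply pullback.hom_ext
  · rw [Category.id_comp, Category.assoc]
    change Φ G g ≫ Ψ G g ≫ pr G g = pr G g
    rw [Ψ_pr]
    apply pullback.hom_ext
    · rw [Category.assoc, Ψ₁_fst, ← Category.assoc, Φ_fst, m_fst]
    · rw [Category.assoc, Ψ₁_snd]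
      rw [comp_mul G (Φ G g) _ _ _ (by
        rw [← Category.assoc, ← Category.assoc, Φ_fst, m_snd, mul_s, Φ_snd, i_t'])]
      have e1 : Φ G g ≫ pullback.fst (h G g) G.s ≫ pullback.snd g G.t =
          mul G (pr G g ≫ pullback.snd g G.t) (h₂ G g) (hcomp G g) := by
        rw [← Category.assoc, Φ_fst, m_snd]
      have e2 : Φ G g ≫ pullback.snd (h G g) G.s ≫ G.i = h₂ G g ≫ G.i := by
        rw [← Category.assoc, Φ_snd]
      rw [mul_congr G _ (by rw [mul_s, i_t']) e1 e2]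
      exact mul_mul_i G _ _ _ _
  · rw [Category.id_comp, Category.assoc]
    change Φ G g ≫ Ψ G g ≫ h₂ G g = h₂ G g
    rw [Ψ_h₂, Φ_snd]

lemma Ψ_Φ : Ψ G g ≫ Φ G g = 𝟙 _ := by
  apply pullback.hom_ext
  · rw [Category.id_comp, Category.assoc, Φ_fst]
    apply pullback.hom_ext
    · rw [Category.assoc, m_fst, ← Category.assoc, Ψ_pr, Ψ₁_fst]
    · rw [Category.assoc, m_snd]
      rw [comp_mul G (Ψ G g) _ _ _ (by
        rw [← Category.assoc, Ψ_pr, Ψ₁_snd, mul_s, Ψ_h₂, i_s'])]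
      have e1 : Ψ G g ≫ pr G g ≫ pullback.snd g G.t =
          mul G (pullback.fst (h G g) G.s ≫ pullback.snd g G.t)
            (pullback.snd (h G g) G.s ≫ G.i) (hΨ1 G g) := by
        rw [← Category.assoc, Ψ_pr, Ψ₁_snd]
      rw [mul_congr G _ (by rw [mul_s, i_s']) e1 (Ψ_h₂ G g)]
      exact mul_i_mul' G _ _ _ _
  · rw [Category.id_comp, Category.assoc, Φ_snd, Ψ_h₂]

noncomputable def θ : H₂ G g ≅ H₃ G g := ⟨Φ G g, Ψ G g, Φ_Ψ G g, Ψ_Φ G g⟩

/-- `(u', r) ↦ (u', r, r⁻¹)` -/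
noncomputable def κ : H G g ⟶ H₂ G g :=
  pullback.lift (𝟙 _) (pullback.snd g G.t ≫ G.i) (by rw [Category.id_comp, i_t'])

lemma κ_pr : κ G g ≫ pr G g = 𝟙 _ := pullback.lift_fst _ _ _
lemma κ_h₂ : κ G g ≫ h₂ G g = pullback.snd g G.t ≫ G.i := pullback.lift_snd _ _ _

/-- `u' ↦ (u', e (g u'))` -/
noncomputable def ε : U' ⟶ H G g :=
  pullback.lift (𝟙 _) (g ≫ G.e) (by rw [Category.id_comp, e_t'])

lemma κ_m : κ G g ≫ m G g = pullback.fst g G.t ≫ ε G g := by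
  apply pullback.hom_ext
  · rw [Category.assoc, m_fst, ← Category.assoc, κ_pr, Category.id_comp, Category.assoc, ε,
      pullback.lift_fst, Category.comp_id]
  · rw [Category.assoc, m_snd, Category.assoc, ε, pullback.lift_snd]
    rw [comp_mul G (κ G g) _ _ _ (by
      rw [← Category.assoc, κ_pr, Category.id_comp, κ_h₂, i_t'])]
    have e1 : κ G g ≫ pr G g ≫ pullback.snd g G.t = pullback.snd g G.t := by
      rw [← Category.assoc, κ_pr, Category.id_comp]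
    rw [mul_congr G _ (by rw [i_t']) e1 (κ_h₂ G g), mul_i, ← Category.assoc,
      ← pullback.condition, Category.assoc]

end Groth.Agent.Helper2.GrpdWOpen

namespace Groth.Agent.Helper2.GrpdWOpen

section W

variable {P Q : MorphismProperty Scheme.{u}} [P.RespectsIso]
  (W : ∀ {X Y : Scheme.{u}} (f : X ⟶ Y), Q f → X.Opens)
  (hWP : ∀ {X Y : Scheme.{u}} (f : X ⟶ Y) (hf : Q f), P ((W f hf).ι ≫ f))
  (hWmax : ∀ {X Y : Scheme.{u}} (f : X ⟶ Y) (hf : Q f) (V : X.Opens), P (V.ι ≫ f) → V ≤ W f hf)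

include hWP hWmax in
lemma W_iso {X₁ X₂ Y : Scheme.{u}} (θ : X₁ ≅ X₂) (f₂ : X₂ ⟶ Y) (f₁ : X₁ ⟶ Y)
    (e : θ.hom ≫ f₂ = f₁) (hf₁ : Q f₁) (hf₂ : Q f₂) :
    θ.hom ⁻¹ᵁ W f₂ hf₂ = W f₁ hf₁ := by
  subst e
  apply le_antisymm
  · apply hWmax
    have : (θ.hom ⁻¹ᵁ W f₂ hf₂).ι ≫ θ.hom ≫ f₂ =
        (θ.hom ∣_ (W f₂ hf₂)) ≫ (W f₂ hf₂).ι ≫ f₂ := by
      rw [← Category.assoc, ← Category.assoc, morphismRestrict_ι]
    rw [this, P.cancel_left_of_respectsIso]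
    exact hWP f₂ hf₂
  · have hV : θ.inv ⁻¹ᵁ W (θ.hom ≫ f₂) hf₁ ≤ W f₂ hf₂ := by
      apply hWmax
      have : (θ.inv ⁻¹ᵁ W (θ.hom ≫ f₂) hf₁).ι ≫ f₂ =
          (θ.inv ∣_ (W (θ.hom ≫ f₂) hf₁)) ≫ (W (θ.hom ≫ f₂) hf₁).ι ≫ θ.hom ≫ f₂ := by
        rw [← Category.assoc (W (θ.hom ≫ f₂) hf₁).ι, ← Category.assoc, ← Category.assoc,
          morphismRestrict_ι, Category.assoc, Category.assoc, Iso.inv_hom_id_assoc]
      rw [this, P.cancel_left_of_respectsIso]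
      exact hWP (θ.hom ≫ f₂) hf₁
    intro x hx
    apply hV
    change θ.inv (θ.hom x) ∈ W (θ.hom ≫ f₂) hf₁
    rw [← Scheme.Hom.comp_apply, Iso.hom_inv_id]
    exact hx

end W

end Groth.Agent.Helper2.GrpdWOpen
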