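import Mathlib
import Groth.Agent.Helper2.GLike
import Groth.Agent.Helper2.NilSplit

/-!
# Lifting idempotents and group-like elements of monoid algebras along a Henselian pair
-/

set_option autoImplicit false

namespace Groth.Agent.Helper2.HD
open Groth.Agent.Helper2.GLike Groth.Agent.Helper2.NilSplit

section idem
variable {T : Type*} [CommRing T] (J : Ideal T) [HenselianRing T J]

include J in
lemma idem_eq_zero_of_mem {e : T} (he : IsIdempotentElem e) (h : e ∈ J) : e = 0 := by
  have hjac : e ∈ Ideal.jacobson (⊥ : Ideal T) := HenselianRing.jac h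
  have hu : IsUnit (e * (-1) + 1) := Ideal.mem_jacobson_bot.mp hjac (-1)
  have h0 : e * (e * (-1) + 1) = 0 := by
    have : e * (e * (-1) + 1) = e - e * e := by ring
    rw [this, he.eq, sub_self]
  exact (hu.mul_left_eq_zero).mp h0

include J in
lemma idem_eq_of_sub_mem {e e' : T} (he : IsIdempotentElem e) (he' : IsIdempotentElem e')
    (h : e - e' ∈ J) : e = e' := by
  have h1 : e * (1 - e') = 0 := by
    apply idem_eq_zero_of_mem J (he.mul he'.one_sub)
    have : e * (1 - e') = e * (e - e') := by
      have := he.eq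
      calc e * (1 - e') = e - e * e' := by ring
        _ = e * e - e * e' := by rw [he.eq]
        _ = e * (e - e') := by ring
    rw [this]
    exact J.mul_mem_left _ h
  have h2 : e' * (1 - e) = 0 := by
    apply idem_eq_zero_of_mem J (he'.mul he.one_sub)
    have : e' * (1 - e) = -(e' * (e - e')) := by
      calc e' * (1 - e) = e' - e' * e := by ring
        _ = e' * e' - e' * e := by rw [he'.eq]
        _ = -(e' * (e - e')) := by ring
    rw [this]
    exact J.neg_mem (J.mul_mem_left _ h)
  have h3 : e = e * e' := by linear_combination h1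
  have h4 : e' = e * e' := by linear_combination h2
  rw [h3]; exact h4.symm

lemma exists_idem_lift (a₀ : T) (h : a₀ * a₀ - a₀ ∈ J) :
    ∃ e : T, IsIdempotentElem e ∧ e - a₀ ∈ J := by
  open Polynomial in
  have hmon : (X ^ 2 - X : T[X]).Monic := by
    nontriviality T
    apply Polynomial.monic_X_pow_sub
    rw [Polynomial.degree_X]
    norm_num
  have hev : (X ^ 2 - X : T[X]).eval a₀ ∈ J := by
    simpa [pow_two] using h
  have hder : IsUnit (Ideal.Quotient.mk J ((X ^ 2 - X : T[X]).derivative.eval a₀)) := by
    have h1 : (X ^ 2 - X : T[X]).derivative.eval a₀ = 2 * a₀ - 1 := by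
      simp
      ring
    rw [h1]
    apply IsUnit.of_mul_eq_one (Ideal.Quotient.mk J (2 * a₀ - 1))
    rw [← map_mul, ← map_one (Ideal.Quotient.mk J), ← sub_eq_zero, ← map_sub,
      Ideal.Quotient.eq_zero_iff_mem]
    have : (2 * a₀ - 1) * (2 * a₀ - 1) - 1 = 4 * (a₀ * a₀ - a₀) := by ring
    rw [this]
    exact J.mul_mem_left _ h
  obtain ⟨a, ha, haJ⟩ := HenselianRing.is_henselian (X ^ 2 - X : T[X]) hmon a₀ hev hder
  refine ⟨a, ?_, haJ⟩
  have : a ^ 2 - a = 0 := by simpa [Polynomial.IsRoot] using ha
  show a * a = a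
  linear_combination this

end idem

section gl
variable {T T' : Type*} [CommRing T] [CommRing T'] (π : T →+* T') {N : Type*} [CommMonoid N]

/-- change of coefficients preserves group-like elements -/
lemma isGroupLikeElem_mapRingHom {y : MonoidAlgebra T N} (hy : IsGroupLikeElem T y) :
    IsGroupLikeElem T' (MonoidAlgebra.mapRingHom N π y) := by
  classical
  apply isGroupLikeElem_of_coeff' y.coeff.support
  · intro n hn
    rw [Finsupp.mem_support_iff] at hn ⊢
    intro h0
    apply hn
    rw [MonoidAlgebra.coeff_mapRingHom, h0, map_zero]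
  · intro m n
    rw [MonoidAlgebra.coeff_mapRingHom, MonoidAlgebra.coeff_mapRingHom, ← map_mul]
    by_cases hmn : m = n
    · subst hmn
      rw [if_pos rfl, coeff_idem hy m]
    · rw [if_neg hmn, coeff_orth hy hmn, map_zero]
  · simp_rw [MonoidAlgebra.coeff_mapRingHom]
    rw [← map_sum, sum_coeff hy _ subset_rfl, map_one]

variable (J : Ideal T) [HenselianRing T J]

include J in
lemma groupLike_eq_of_map_eq (hker : RingHom.ker π ≤ J)
    {y y' : MonoidAlgebra T N} (hy : IsGroupLikeElem T y) (hy' : IsGroupLikeElem T y')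
    (h : MonoidAlgebra.mapRingHom N π y = MonoidAlgebra.mapRingHom N π y') : y = y' := by
  apply MonoidAlgebra.coeff_injective
  ext n
  apply idem_eq_of_sub_mem J (coeff_idem hy n) (coeff_idem hy' n)
  apply hker
  rw [RingHom.mem_ker, map_sub, ← MonoidAlgebra.coeff_mapRingHom, ← MonoidAlgebra.coeff_mapRingHom,
    h, sub_self]

include J in
lemma exists_lift_groupLike' (hsurj : Function.Surjective π) (hker : RingHom.ker π = J)
    {ybar : MonoidAlgebra T' N} (hybar : IsGroupLikeElem T' ybar) :
    ∃ y : MonoidAlgebra T N, IsGroupLikeElem T y ∧ MonoidAlgebra.mapRingHom N π y = ybar := by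
  classical
  set F := ybar.coeff.support with hFdef
  -- lift each coefficient to an idempotent
  have hex : ∀ n : N, ∃ c : T, IsIdempotentElem c ∧ π c = ybar.coeff n := by
    intro n
    obtain ⟨a₀, ha₀⟩ := hsurj (ybar.coeff n)
    have h1 : a₀ * a₀ - a₀ ∈ J := by
      rw [← hker, RingHom.mem_ker, map_sub, map_mul, ha₀, coeff_idem hybar n, sub_self]
    obtain ⟨c, hc, hcJ⟩ := exists_idem_lift J a₀ h1
    refine ⟨c, hc, ?_⟩
    rw [← hker, RingHom.mem_ker, map_sub, sub_eq_zero] at hcJ
    rw [hcJ, ha₀]
  choose c0 hc0 hπc0 using hex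
  let c : N → T := fun n => if n ∈ F then c0 n else 0
  have hcF : ∀ n, n ∈ F → c n = c0 n := fun n hn => by simp [c, hn]
  have hcN : ∀ n, n ∉ F → c n = 0 := fun n hn => by simp [c, hn]
  have hcid : ∀ n, IsIdempotentElem (c n) := by
    intro n
    by_cases hn : n ∈ F
    · rw [hcF n hn]; exact hc0 n
    · rw [hcN n hn]; exact IsIdempotentElem.zero
  have hπc : ∀ n, π (c n) = ybar.coeff n := by
    intro n
    by_cases hn : n ∈ F
    · rw [hcF n hn]; exact hπc0 n
    · rw [hcN n hn, map_zero]
      symm
      simpa [hFdef] using hn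
  have horth : ∀ m n, m ≠ n → c m * c n = 0 := by
    intro m n hmn
    apply idem_eq_zero_of_mem J ((hcid m).mul (hcid n))
    rw [← hker, RingHom.mem_ker, map_mul, hπc, hπc, coeff_orth hybar hmn]
  have hsum : ∑ n ∈ F, c n = 1 := by
    have hid : IsIdempotentElem (∑ n ∈ F, c n) := by
      show (∑ n ∈ F, c n) * (∑ n ∈ F, c n) = ∑ n ∈ F, c n
      rw [Finset.sum_mul]
      apply Finset.sum_congr rfl
      intro n hn
      rw [Finset.mul_sum, Finset.sum_eq_single n]
      · exact (hcid n).eq
      · intro k _ hk
        exact horth n k (fun h => hk h.symm)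
      · intro h; exact absurd hn h
    have h1 : 1 - ∑ n ∈ F, c n = 0 := by
      apply idem_eq_zero_of_mem J hid.one_sub
      rw [← hker, RingHom.mem_ker, map_sub, map_one, map_sum]
      simp_rw [hπc]
      rw [sum_coeff hybar F subset_rfl, sub_self]
    exact (sub_eq_zero.mp h1).symm
  let y : MonoidAlgebra T N := ∑ n ∈ F, MonoidAlgebra.single n (c n)
  have hy : ∀ n, y.coeff n = c n := by
    intro n
    simp only [y, MonoidAlgebra.coeff_sum, MonoidAlgebra.coeff_single, Finsupp.coe_finsetSum,
      Finset.sum_apply, Finsupp.single_apply]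
    rw [Finset.sum_ite_eq' F n (fun k => c k)]
    split_ifs with h
    · rfl
    · exact (hcN n h).symm
  refine ⟨y, ?_, ?_⟩
  · apply isGroupLikeElem_of_coeff' F
    · intro n hn
      by_contra h
      rw [Finsupp.mem_support_iff, hy, hcN n h] at hn
      exact hn rfl
    · intro m n
      rw [hy, hy]
      by_cases hmn : m = n
      · subst hmn
        rw [if_pos rfl]
        exact (hcid m).eq
      · rw [if_neg hmn]
        exact horth m n hmn
    · rw [Finset.sum_congr rfl (fun n _ => hy n)]
      exact hsum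
  · apply MonoidAlgebra.coeff_injective
    ext n
    rw [MonoidAlgebra.coeff_mapRingHom, hy, hπc]

end gl

end Groth.Agent.Helper2.HD
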