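import Mathlib
import Groth.Agent.Helper2.NilSplit
import Groth.Agent.Helper2.HDLift

/-!
# Semilinear maps along an explicit ring map: tensor squares, base change of endomorphisms of
monoid algebras
-/

set_option autoImplicit false

namespace Groth.Agent.Helper2.HD
open TensorProduct Groth.Agent.Helper2.GLike Groth.Agent.Helper2.NilSplit

section sq
variable {B T : Type*} [CommRing B] [CommRing T] (f : B →+* T)
  {C K : Type*} [CommRing C] [Algebra B C] [CommRing K] [Algebra T K]
  (ψ : C →+* K) (hψ : ∀ (b : B) (c : C), ψ (b • c) = f b • ψ c)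

/-- the semilinear tensor square of a ring map which is semilinear along `f` -/
noncomputable def sq : C ⊗[B] C →+ K ⊗[T] K :=
  TensorProduct.liftAddHom
    { toFun := fun c =>
        { toFun := fun c' => ψ c ⊗ₜ[T] ψ c'
          map_zero' := by simp
          map_add' := fun x y => by simp [tmul_add] }
      map_zero' := by ext; simp
      map_add' := fun x y => by ext; simp [add_tmul] }
    (fun b c c' => by
      show ψ (b • c) ⊗ₜ[T] ψ c' = ψ c ⊗ₜ[T] ψ (b • c')
      rw [hψ, hψ, smul_tmul])

@[simp] lemma sq_tmul (c c' : C) : sq f ψ hψ (c ⊗ₜ[B] c') = ψ c ⊗ₜ[T] ψ c' := rfl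

lemma sq_smul (b : B) (z : C ⊗[B] C) : sq f ψ hψ (b • z) = f b • sq f ψ hψ z := by
  induction z using TensorProduct.induction_on with
  | zero => simp
  | add x y hx hy => rw [smul_add, map_add, map_add, hx, hy, smul_add]
  | tmul c c' => rw [smul_tmul', sq_tmul, sq_tmul, hψ, smul_tmul']

end sq

section co
variable {B T : Type*} [CommRing B] [CommRing T] (f : B →+* T)
  {C K : Type*} [CommRing C] [Bialgebra B C] [CommRing K] [Bialgebra T K]
  (ψ : C →+* K) (hψ : ∀ (b : B) (c : C), ψ (b • c) = f b • ψ c)

/-- compatibility of a semilinear ring map with the coalgebra structures -/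
structure IsCo : Prop where
  counit : ∀ c, Coalgebra.counit (R := T) (ψ c) = f (Coalgebra.counit (R := B) c)
  comul : ∀ c, Coalgebra.comul (R := T) (ψ c) = sq f ψ hψ (Coalgebra.comul (R := B) c)

end co

section cmap
variable {B T : Type*} [CommRing B] [CommRing T] (f : B →+* T) (M : Type*) [CommMonoid M]

lemma mapRingHom_smul (b : B) (x : MonoidAlgebra B M) :
    MonoidAlgebra.mapRingHom M f (b • x) = f b • MonoidAlgebra.mapRingHom M f x := by
  apply MonoidAlgebra.coeff_injective
  ext m
  simp

lemma isCo_mapRingHom : IsCo f (MonoidAlgebra.mapRingHom M f) (mapRingHom_smul f M) := by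
  constructor
  · intro c
    induction c using MonoidAlgebra.induction_linear with
    | zero => simp
    | add x y hx hy => simp only [map_add, hx, hy]
    | single m b => simp
  · intro c
    induction c using MonoidAlgebra.induction_linear with
    | zero => simp
    | add x y hx hy => simp only [map_add, hx, hy]
    | single m b =>
      simp only [MonoidAlgebra.mapRingHom_single, MonoidAlgebra.comul_single,
        CommSemiring.comul_apply, TensorProduct.map_tmul, MonoidAlgebra.lsingle_apply, sq_tmul,
        map_one]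

end cmap

section cocomp
variable {B T : Type*} [CommRing B] [CommRing T] (f : B →+* T)
  {C K K' : Type*} [CommRing C] [Bialgebra B C] [CommRing K] [Bialgebra T K]
  [CommRing K'] [Bialgebra T K']
  (ψ : C →+* K) (hψ : ∀ (b : B) (c : C), ψ (b • c) = f b • ψ c) (Θ : K →ₐc[T] K')

include hψ in
lemma comp_semilinear (b : B) (c : C) :
    ((Θ : K →+* K').comp ψ) (b • c) = f b • ((Θ : K →+* K').comp ψ) c := by
  show Θ (ψ (b • c)) = f b • Θ (ψ c)
  rw [hψ, map_smul]

lemma sq_comp (z : C ⊗[B] C) :
    sq f ((Θ : K →+* K').comp ψ) (comp_semilinear f ψ hψ Θ) z =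
      TensorProduct.map (Θ : K →ₗ[T] K') (Θ : K →ₗ[T] K') (sq f ψ hψ z) := by
  induction z using TensorProduct.induction_on with
  | zero => simp
  | add x y hx hy => rw [map_add, map_add, hx, hy, map_add]
  | tmul c c' => rfl

lemma IsCo.comp (h : IsCo f ψ hψ) :
    IsCo f ((Θ : K →+* K').comp ψ) (comp_semilinear f ψ hψ Θ) := by
  constructor
  · intro c
    show Coalgebra.counit (R := T) (Θ (ψ c)) = _
    rw [CoalgHomClass.counit_comp_apply, h.counit]
  · intro c
    show Coalgebra.comul (R := T) (Θ (ψ c)) = _
    rw [sq_comp f ψ hψ Θ, ← h.comul, ← CoalgHomClass.map_comp_comul_apply]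

end cocomp

section bc
variable {T T' : Type*} [CommRing T] [CommRing T'] (g : T →+* T') {M : Type*} [CommMonoid M]
  (Θ : MonoidAlgebra T M →ₐ[T] MonoidAlgebra T M)

/-- base change of an endomorphism of a monoid algebra along a ring map -/
noncomputable def bc : MonoidAlgebra T' M →ₐ[T'] MonoidAlgebra T' M :=
  MonoidAlgebra.lift T' (MonoidAlgebra T' M) M
    { toFun := fun m => MonoidAlgebra.mapRingHom M g (Θ (MonoidAlgebra.single m 1))
      map_one' := by
        rw [← MonoidAlgebra.one_def, map_one, map_one]
      map_mul' := fun m n => by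
        rw [← map_mul, ← map_mul, MonoidAlgebra.single_mul_single, mul_one] }

@[simp] lemma bc_single (m : M) (t : T') :
    bc g Θ (MonoidAlgebra.single m t) =
      t • MonoidAlgebra.mapRingHom M g (Θ (MonoidAlgebra.single m 1)) := by
  simp [bc, MonoidAlgebra.lift_single]

lemma bc_map (x : MonoidAlgebra T M) :
    bc g Θ (MonoidAlgebra.mapRingHom M g x) = MonoidAlgebra.mapRingHom M g (Θ x) := by
  induction x using MonoidAlgebra.induction_linear with
  | zero => simp
  | add x y hx hy => simp only [map_add, hx, hy]
  | single m t =>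
    rw [MonoidAlgebra.mapRingHom_single, bc_single]
    have : (MonoidAlgebra.single m t : MonoidAlgebra T M) = t • MonoidAlgebra.single m 1 := by
      rw [MonoidAlgebra.smul_single, smul_eq_mul, mul_one]
    rw [this, map_smul, mapRingHom_smul]

end bc

section tobialg
variable {T : Type*} [CommRing T] {M : Type*} [CommMonoid M]
  (Ψ : MonoidAlgebra T M →ₐ[T] MonoidAlgebra T M)
  (hΨ : ∀ m, IsGroupLikeElem T (Ψ (MonoidAlgebra.single m 1)))

/-- an algebra endomorphism of a monoid algebra sending the monomials to group-like elements is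
a bialgebra map -/
noncomputable def toBialg : MonoidAlgebra T M →ₐc[T] MonoidAlgebra T M :=
  ofGL (fun m => Ψ (MonoidAlgebra.single m 1)) hΨ
    (by rw [← MonoidAlgebra.one_def, map_one])
    (fun m n => by rw [← map_mul, MonoidAlgebra.single_mul_single, mul_one])

lemma toBialg_apply (x : MonoidAlgebra T M) : toBialg Ψ hΨ x = Ψ x := by
  induction x using MonoidAlgebra.induction_linear with
  | zero => simp
  | add x y hx hy => simp only [map_add, hx, hy]
  | single m t =>
    rw [toBialg, ofGL_single]
    have : (MonoidAlgebra.single m t : MonoidAlgebra T M) = t • MonoidAlgebra.single m 1 := by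
      rw [MonoidAlgebra.smul_single, smul_eq_mul, mul_one]
    rw [this, map_smul]

include hΨ in
lemma isGroupLikeElem_apply {y : MonoidAlgebra T M} (hy : IsGroupLikeElem T y) :
    IsGroupLikeElem T (Ψ y) := by
  rw [← toBialg_apply Ψ hΨ]
  exact hy.map (toBialg Ψ hΨ)

end tobialg

section bcgl
variable {T T' : Type*} [CommRing T] [CommRing T'] (g : T →+* T') {M : Type*} [CommMonoid M]
  (Θ : MonoidAlgebra T M →ₐ[T] MonoidAlgebra T M)
  (hΘ : ∀ m, IsGroupLikeElem T (Θ (MonoidAlgebra.single m 1)))

include hΘ in
lemma bc_groupLike (m : M) : IsGroupLikeElem T' (bc g Θ (MonoidAlgebra.single m 1)) := by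
  rw [bc_single, one_smul]
  exact isGroupLikeElem_mapRingHom g (hΘ m)

end bcgl

end Groth.Agent.Helper2.HD
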