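import Mathlib
import Groth.Agent.Helper2.NilLift
import Groth.Agent.Helper2.HDSemi

/-!
# Reductions: maps inducing isomorphisms after base change
-/

set_option autoImplicit false

namespace Groth.Agent.Helper2.HD
open TensorProduct Groth.Agent.Helper2.MultTypeSemi Groth.Agent.Helper2.SemiIso
  Groth.Agent.Helper2.NilSplit Groth.Agent.Helper2.NilLift

section mix
variable (R k : Type*) [CommRing R] [CommRing k] [Algebra R k]
variable {X Y X₀ Y₀ : Type*} [CommRing X] [CommRing Y] [Algebra R X] [Algebra R Y]
  [CommRing X₀] [CommRing Y₀] [Algebra k X₀] [Algebra k Y₀] [Algebra R X₀] [Algebra R Y₀]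
  [IsScalarTower R k X₀] [IsScalarTower R k Y₀]

/-- the mixed tensor product of two semilinear algebra maps -/
noncomputable def mix (p : X →ₐ[R] X₀) (q : Y →ₐ[R] Y₀) : X ⊗[R] Y →ₐ[R] X₀ ⊗[k] Y₀ :=
  Algebra.TensorProduct.lift
    (((Algebra.TensorProduct.includeLeft : X₀ →ₐ[k] X₀ ⊗[k] Y₀).restrictScalars R).comp p)
    (((Algebra.TensorProduct.includeRight : Y₀ →ₐ[k] X₀ ⊗[k] Y₀).restrictScalars R).comp q)
    (fun _ _ => Commute.all _ _)

@[simp] lemma mix_tmul (p : X →ₐ[R] X₀) (q : Y →ₐ[R] Y₀) (x : X) (y : Y) :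
    mix R k p q (x ⊗ₜ y) = p x ⊗ₜ[k] q y := by
  simp [mix]

/-- a map is a reduction if it induces an isomorphism after base change -/
def IsRed {X X₀ : Type*} [AddCommGroup X] [Module R X] [AddCommGroup X₀] [Module k X₀] [Module R X₀]
    [IsScalarTower R k X₀] (χ : X →ₗ[R] X₀) : Prop :=
  Function.Bijective (LinearMap.liftBaseChange k χ)

lemma isRed_mix {p : X →ₐ[R] X₀} {q : Y →ₐ[R] Y₀} (hp : IsRed R k p.toLinearMap)
    (hq : IsRed R k q.toLinearMap) : IsRed R k (mix R k p q).toLinearMap := by
  let e : k ⊗[R] X ≃ₗ[k] X₀ := LinearEquiv.ofBijective _ hp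
  let e' : k ⊗[R] Y ≃ₗ[k] Y₀ := LinearEquiv.ofBijective _ hq
  have he : ∀ (s : k) (a : X), e (s ⊗ₜ[R] a) = s • p a := fun s a => by simp [e]
  have he' : ∀ (s : k) (a : Y), e' (s ⊗ₜ[R] a) = s • q a := fun s a => by simp [e']
  have key : LinearMap.liftBaseChange k (mix R k p q).toLinearMap =
      (TensorProduct.congr e e').toLinearMap ∘ₗ
        (TensorProduct.AlgebraTensorModule.distribBaseChange R k X Y).toLinearMap := by
    apply LinearMap.ext
    intro z
    induction z using TensorProduct.induction_on with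
    | zero => simp
    | add x y hx hy => rw [map_add, map_add, hx, hy]
    | tmul s x =>
      induction x using TensorProduct.induction_on with
      | zero => simp
      | add x y hx hy => rw [TensorProduct.tmul_add, map_add, map_add, hx, hy]
      | tmul a a' =>
        simp only [LinearMap.liftBaseChange_tmul, AlgHom.toLinearMap_apply, mix_tmul,
          LinearMap.comp_apply, LinearEquiv.coe_coe,
          TensorProduct.AlgebraTensorModule.distribBaseChange_tmul, TensorProduct.congr_tmul, he, he',
          one_smul, TensorProduct.smul_tmul']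
  unfold IsRed
  rw [key]
  exact (TensorProduct.congr e e').bijective.comp
    (TensorProduct.AlgebraTensorModule.distribBaseChange R k X Y).bijective

lemma isRed_ofId : IsRed R k (Algebra.ofId R k).toLinearMap := by
  have : LinearMap.liftBaseChange k (Algebra.ofId R k).toLinearMap =
      (TensorProduct.AlgebraTensorModule.rid R k k).toLinearMap := by
    apply LinearMap.ext
    intro z
    induction z using TensorProduct.induction_on with
    | zero => simp
    | add x y hx hy => rw [map_add, map_add, hx, hy]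
    | tmul s r => simp [Algebra.ofId_apply, Algebra.smul_def, mul_comm]
  unfold IsRed
  rw [this]
  exact (TensorProduct.AlgebraTensorModule.rid R k k).bijective

/-- a reduction along a faithfully flat map is injective -/
lemma IsRed.injective [Module.FaithfullyFlat R k] {X X₀ : Type*} [AddCommGroup X] [Module R X]
    [AddCommGroup X₀] [Module k X₀] [Module R X₀] [IsScalarTower R k X₀] {χ : X →ₗ[R] X₀}
    (h : IsRed R k χ) : Function.Injective χ := by
  intro x y hxy
  apply Module.FaithfullyFlat.tensorProduct_mk_injective (A := R) (B := k) X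
  apply h.1
  show LinearMap.liftBaseChange k χ ((1 : k) ⊗ₜ[R] x) = LinearMap.liftBaseChange k χ ((1 : k) ⊗ₜ[R] y)
  rw [LinearMap.liftBaseChange_tmul, LinearMap.liftBaseChange_tmul, hxy]

end mix

section comp
variable (R S T : Type*) [CommRing R] [CommRing S] [CommRing T] [Algebra R S] [Algebra S T]
  [Algebra R T] [IsScalarTower R S T]
variable {X Y Z : Type*} [AddCommGroup X] [Module R X] [AddCommGroup Y] [Module S Y] [Module R Y]
  [IsScalarTower R S Y] [AddCommGroup Z] [Module T Z] [Module S Z] [IsScalarTower S T Z]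
  [Module R Z] [IsScalarTower R T Z] [IsScalarTower R S Z]

lemma IsRed.comp {θ₁ : X →ₗ[R] Y} {θ₂ : Y →ₗ[S] Z} (h₁ : IsRed R S θ₁) (h₂ : IsRed S T θ₂) :
    IsRed R T ((θ₂.restrictScalars R) ∘ₗ θ₁) := by
  let e₁ : S ⊗[R] X ≃ₗ[S] Y := LinearEquiv.ofBijective _ h₁
  let e₂ : T ⊗[S] Y ≃ₗ[T] Z := LinearEquiv.ofBijective _ h₂
  let c : T ⊗[S] (S ⊗[R] X) ≃ₗ[T] T ⊗[R] X := AlgebraTensorModule.cancelBaseChange R S T T X
  have : LinearMap.liftBaseChange T ((θ₂.restrictScalars R) ∘ₗ θ₁) =
      (e₂.toLinearMap ∘ₗ (LinearEquiv.baseChange S T _ _ e₁).toLinearMap) ∘ₗ c.symm.toLinearMap := by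
    apply TensorProduct.AlgebraTensorModule.ext
    intro t a
    simp [c, e₁, e₂]
  unfold IsRed
  rw [this]
  exact (e₂.bijective.comp (LinearEquiv.baseChange S T _ _ e₁).bijective).comp c.symm.bijective

end comp

section cmap
variable {R B U : Type*} [CommRing R] [CommRing B] [CommRing U] [Algebra R B] [Algebra R U]
  (f : B →ₐ[R] U) {M : Type*} [CommMonoid M]

/-- base change of a reduction into a monoid algebra along a map of coefficient rings -/
lemma isRed_map_comp {X : Type*} [AddCommGroup X] [Module R X]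
    {θ : X →ₗ[R] MonoidAlgebra B M} (hθ : IsRed R B θ) :
    IsRed R U ((MonoidAlgebra.mapAlgHom M f).toLinearMap ∘ₗ θ) := by
  letI : Algebra B U := f.toRingHom.toAlgebra
  haveI : IsScalarTower R B U := IsScalarTower.of_algebraMap_eq (fun r => (f.commutes r).symm)
  have h2 : IsRed B U (rho B U M).toLinearMap := (isSemiIso_rho B U M).2
  have h3 := IsRed.comp R B U hθ h2
  have : ((rho B U M).toLinearMap.restrictScalars R) ∘ₗ θ =
      (MonoidAlgebra.mapAlgHom M f).toLinearMap ∘ₗ θ := by
    apply LinearMap.ext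
    intro x
    apply MonoidAlgebra.coeff_injective
    ext m
    simp [rho]
    rfl
  rw [this] at h3
  exact h3

variable {H : Type*} [CommRing H] [Bialgebra R H]

/-- base change of a chart along a map of coefficient rings -/
lemma isSemiIso_map_comp {θ : H →ₐ[R] MonoidAlgebra B M} (hθ : IsSemiIso R B θ) :
    IsSemiIso R U ((MonoidAlgebra.mapAlgHom M f).comp θ) := by
  letI : Algebra B U := f.toRingHom.toAlgebra
  haveI : IsScalarTower R B U := IsScalarTower.of_algebraMap_eq (fun r => (f.commutes r).symm)
  have h3 : IsSemiIso R U (((rho B U M).restrictScalars R).comp θ) := isSemiIso_rho_comp hθ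
  have : ((rho B U M).restrictScalars R).comp θ = (MonoidAlgebra.mapAlgHom M f).comp θ := by
    apply AlgHom.ext
    intro x
    apply MonoidAlgebra.coeff_injective
    ext m
    simp [rho]
    rfl
  rw [this] at h3
  exact h3

end cmap

end Groth.Agent.Helper2.HD
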