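import Mathlib
import Groth.Agent.Helper8.DescAlgA
import Groth.Agent.Helper2.HDRed

/-!
# The descended algebra of a monoid algebra with a group-like cocycle
-/

set_option autoImplicit false

namespace Groth.Agent.Helper2.HD
open TensorProduct Groth.Agent.Helper8.DescAlg

universe u

section alg
variable (R : Type u) [CommRing R] (B : Type u) [CommRing B] [Algebra R B]
variable (M : Type u) [CommMonoid M]

/-- coefficientwise left inclusion -/
noncomputable abbrev c₁ : MonoidAlgebra B M →ₐ[R] MonoidAlgebra (B ⊗[R] B) M :=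
  MonoidAlgebra.mapAlgHom M (Algebra.TensorProduct.includeLeft : B →ₐ[R] B ⊗[R] B)

/-- coefficientwise right inclusion -/
noncomputable abbrev c₂ : MonoidAlgebra B M →ₐ[R] MonoidAlgebra (B ⊗[R] B) M :=
  MonoidAlgebra.mapAlgHom M (Algebra.TensorProduct.includeRight : B →ₐ[R] B ⊗[R] B)

/-- the identification `B ⊗ B[M] = (B ⊗ B)[M]` -/
noncomputable abbrev Xi : B ⊗[R] MonoidAlgebra B M ≃ₐ[R] MonoidAlgebra (B ⊗[R] B) M :=
  MonoidAlgebra.rTensorEquivAlgEquiv R R B B

/-- multiplication of the coefficients -/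
noncomputable abbrev muB : B ⊗[R] B →ₐ[R] B := Algebra.TensorProduct.lmul' R

/-- `x ⊗ y ↦ x ⊗ (y ⊗ 1)` -/
noncomputable abbrev d₁₂ : B ⊗[R] B →ₐ[R] B ⊗[R] (B ⊗[R] B) :=
  Algebra.TensorProduct.map (AlgHom.id R B) Algebra.TensorProduct.includeLeft

/-- `x ⊗ y ↦ x ⊗ (1 ⊗ y)` -/
noncomputable abbrev d₁₃ : B ⊗[R] B →ₐ[R] B ⊗[R] (B ⊗[R] B) :=
  Algebra.TensorProduct.map (AlgHom.id R B) Algebra.TensorProduct.includeRight

/-- `t ↦ 1 ⊗ t` -/
noncomputable abbrev d₂₃ : B ⊗[R] B →ₐ[R] B ⊗[R] (B ⊗[R] B) :=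
  Algebra.TensorProduct.includeRight

variable {R B M}
variable (Θ : MonoidAlgebra (B ⊗[R] B) M →ₐ[B ⊗[R] B] MonoidAlgebra (B ⊗[R] B) M)

/-- the coaction attached to a descent datum -/
noncomputable def coact : MonoidAlgebra B M →ₐ[R] B ⊗[R] MonoidAlgebra B M :=
  ((Xi R B M).symm : _ →ₐ[R] _).comp ((Θ.restrictScalars R).comp (c₁ R B M))

lemma Xi_coact (c : MonoidAlgebra B M) : Xi R B M (coact Θ c) = Θ (c₁ R B M c) := by
  simp [coact]

lemma single_eq_smul {S : Type*} [CommRing S] (m : M) (s : S) :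
    (MonoidAlgebra.single m s : MonoidAlgebra S M) = s • MonoidAlgebra.single m 1 := by
  rw [MonoidAlgebra.smul_single, smul_eq_mul, mul_one]

lemma Theta_single (m : M) (t : B ⊗[R] B) :
    Θ (MonoidAlgebra.single m t) = t • Θ (MonoidAlgebra.single m 1) := by
  rw [single_eq_smul m t, map_smul]

lemma coact_algebraMap (b : B) :
    coact Θ (algebraMap B (MonoidAlgebra B M) b) = b ⊗ₜ[R] 1 := by
  apply (Xi R B M).injective
  rw [Xi_coact]
  have h1 : c₁ R B M (algebraMap B (MonoidAlgebra B M) b) =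
      algebraMap (B ⊗[R] B) (MonoidAlgebra (B ⊗[R] B) M) (b ⊗ₜ[R] 1) := by
    simp [MonoidAlgebra.coe_algebraMap]
  rw [h1, AlgHom.commutes]
  simp [MonoidAlgebra.coe_algebraMap, MonoidAlgebra.one_def]
  rw [TensorProduct.smul_tmul', smul_eq_mul, mul_one]

lemma mu_Xi_symm (y : MonoidAlgebra (B ⊗[R] B) M) :
    mu R B (MonoidAlgebra B M) ((Xi R B M).symm y) = MonoidAlgebra.mapAlgHom M (muB R B) y := by
  induction y using MonoidAlgebra.induction_linear with
  | zero => simp
  | add x y hx hy => simp only [map_add, hx, hy]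
  | single m t =>
    induction t using TensorProduct.induction_on with
    | zero => simp
    | add x y hx hy => simp only [MonoidAlgebra.single_add, map_add, hx, hy]
    | tmul x y =>
      rw [MonoidAlgebra.rTensorEquiv_symm_singleAlgEquiv, mu_tmul, MonoidAlgebra.mapAlgHom_single]
      simp [MonoidAlgebra.coe_algebraMap, MonoidAlgebra.single_mul_single]

lemma mu_coact (hU : ∀ m, MonoidAlgebra.mapAlgHom M (muB R B) (Θ (MonoidAlgebra.single m 1)) =
      MonoidAlgebra.single m 1) (c : MonoidAlgebra B M) :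
    mu R B (MonoidAlgebra B M) (coact Θ c) = c := by
  have h0 : coact Θ c = (Xi R B M).symm (Θ (c₁ R B M c)) := by
    rw [← Xi_coact, AlgEquiv.symm_apply_apply]
  rw [h0, mu_Xi_symm]
  clear h0
  induction c using MonoidAlgebra.induction_linear with
  | zero => simp
  | add x y hx hy => simp only [map_add, hx, hy]
  | single m b =>
    rw [MonoidAlgebra.mapAlgHom_single, Theta_single]
    have h2 : MonoidAlgebra.mapAlgHom M (muB R B)
        ((Algebra.TensorProduct.includeLeft (R := R) (S := R) (A := B) (B := B) b) •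
          Θ (MonoidAlgebra.single m 1)) =
        b • MonoidAlgebra.mapAlgHom M (muB R B) (Θ (MonoidAlgebra.single m 1)) := by
      have := mapRingHom_smul (muB R B).toRingHom M
        (Algebra.TensorProduct.includeLeft (R := R) (S := R) (A := B) (B := B) b)
        (Θ (MonoidAlgebra.single m 1))
      have hb : (muB R B).toRingHom
          (Algebra.TensorProduct.includeLeft (R := R) (S := R) (A := B) (B := B) b) = b := by
        simp
      rw [hb] at this
      exact this
    rw [h2, hU, ← single_eq_smul]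

end alg

end Groth.Agent.Helper2.HD
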