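import Mathlib
import Groth.Agent.Helper2.HDAlg

/-!
# The cocycle condition gives coassociativity of the coaction
-/

set_option autoImplicit false

namespace Groth.Agent.Helper2.HD
open TensorProduct Groth.Agent.Helper8.DescAlg

universe u

section h3
variable {R : Type u} [CommRing R] {B : Type u} [CommRing B] [Algebra R B]
variable {M : Type u} [CommMonoid M]
variable (Θ : MonoidAlgebra (B ⊗[R] B) M →ₐ[B ⊗[R] B] MonoidAlgebra (B ⊗[R] B) M)

variable (R B M) in
/-- the three-fold identification -/
noncomputable def Xi₃ : B ⊗[R] (B ⊗[R] MonoidAlgebra B M) ≃ₐ[R]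
    MonoidAlgebra (B ⊗[R] (B ⊗[R] B)) M :=
  (Algebra.TensorProduct.congr (AlgEquiv.refl : B ≃ₐ[R] B) (Xi R B M)).trans
    (MonoidAlgebra.rTensorEquivAlgEquiv R R B (B ⊗[R] B))

lemma Xi₃_tmul (x : B) (z : B ⊗[R] MonoidAlgebra B M) :
    Xi₃ R B M (x ⊗ₜ[R] z) = x • MonoidAlgebra.mapAlgHom M (d₂₃ R B) (Xi R B M z) := by
  simp [Xi₃]

lemma claimA (y : MonoidAlgebra (B ⊗[R] B) M) :
    Xi₃ R B M (Algebra.TensorProduct.map (AlgHom.id R B)
      (Algebra.TensorProduct.includeRight : MonoidAlgebra B M →ₐ[R] B ⊗[R] MonoidAlgebra B M)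
      ((Xi R B M).symm y)) = MonoidAlgebra.mapAlgHom M (d₁₃ R B) y := by
  induction y using MonoidAlgebra.induction_linear with
  | zero => simp
  | add x y hx hy => simp only [map_add, hx, hy]
  | single m t =>
    induction t using TensorProduct.induction_on with
    | zero => simp
    | add x y hx hy => simp only [MonoidAlgebra.single_add, map_add, hx, hy]
    | tmul x y =>
      rw [MonoidAlgebra.rTensorEquiv_symm_singleAlgEquiv, Algebra.TensorProduct.map_tmul,
        Xi₃_tmul]
      simp [TensorProduct.smul_tmul']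

lemma claimB (y : MonoidAlgebra (B ⊗[R] B) M) :
    Xi₃ R B M (Algebra.TensorProduct.map (AlgHom.id R B) (coact Θ) ((Xi R B M).symm y)) =
      bc (d₂₃ R B).toRingHom Θ (MonoidAlgebra.mapAlgHom M (d₁₂ R B) y) := by
  induction y using MonoidAlgebra.induction_linear with
  | zero => simp
  | add x y hx hy => simp only [map_add, hx, hy]
  | single m t =>
    induction t using TensorProduct.induction_on with
    | zero => simp
    | add x y hx hy => simp only [MonoidAlgebra.single_add, map_add, hx, hy]
    | tmul x y =>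
      rw [MonoidAlgebra.rTensorEquiv_symm_singleAlgEquiv, Algebra.TensorProduct.map_tmul,
        Xi₃_tmul, Xi_coact, MonoidAlgebra.mapAlgHom_single, MonoidAlgebra.mapAlgHom_single,
        bc_single, Theta_single]
      have h1 := mapRingHom_smul (d₂₃ R B).toRingHom M
        (Algebra.TensorProduct.includeLeft (R := R) (S := R) (A := B) (B := B) y)
        (Θ (MonoidAlgebra.single m 1))
      have h2 : MonoidAlgebra.mapAlgHom M (d₂₃ R B)
          (Algebra.TensorProduct.includeLeft (R := R) (S := R) (A := B) (B := B) y •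
            Θ (MonoidAlgebra.single m 1)) =
          (d₂₃ R B) (Algebra.TensorProduct.includeLeft (R := R) (S := R) (A := B) (B := B) y) •
            MonoidAlgebra.mapRingHom M (d₂₃ R B).toRingHom (Θ (MonoidAlgebra.single m 1)) := h1
      rw [h2, AlgHom.coe_id, id_eq, ← algebraMap_smul (B ⊗[R] (B ⊗[R] B)) x]
      apply MonoidAlgebra.coeff_injective
      ext n
      rw [MonoidAlgebra.coeff_smul_apply, MonoidAlgebra.coeff_smul_apply,
        MonoidAlgebra.coeff_smul_apply, smul_eq_mul, smul_eq_mul, smul_eq_mul, ← mul_assoc]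
      congr 1
      simp [Algebra.TensorProduct.algebraMap_apply]

include Θ in
lemma coact_coassoc
    (hZ : ∀ m, bc (d₂₃ R B).toRingHom Θ
        (MonoidAlgebra.mapAlgHom M (d₁₂ R B) (Θ (MonoidAlgebra.single m 1))) =
      MonoidAlgebra.mapAlgHom M (d₁₃ R B) (Θ (MonoidAlgebra.single m 1)))
    (c : MonoidAlgebra B M) :
    Algebra.TensorProduct.map (AlgHom.id R B) (coact Θ) (coact Θ c) =
      Algebra.TensorProduct.map (AlgHom.id R B)
        (Algebra.TensorProduct.includeRight :
          MonoidAlgebra B M →ₐ[R] B ⊗[R] MonoidAlgebra B M) (coact Θ c) := by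
  apply (Xi₃ R B M).injective
  have h0 : coact Θ c = (Xi R B M).symm (Θ (c₁ R B M c)) := by
    rw [← Xi_coact, AlgEquiv.symm_apply_apply]
  rw [h0, claimA, claimB]
  clear h0
  induction c using MonoidAlgebra.induction_linear with
  | zero => simp
  | add x y hx hy => simp only [map_add, hx, hy]
  | single m b =>
    rw [MonoidAlgebra.mapAlgHom_single, Theta_single]
    have h1 := mapRingHom_smul (d₁₂ R B).toRingHom M
      (Algebra.TensorProduct.includeLeft (R := R) (S := R) (A := B) (B := B) b)
      (Θ (MonoidAlgebra.single m 1))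
    have h1' : MonoidAlgebra.mapAlgHom M (d₁₂ R B)
        (Algebra.TensorProduct.includeLeft (R := R) (S := R) (A := B) (B := B) b •
          Θ (MonoidAlgebra.single m 1)) =
        (d₁₂ R B) (Algebra.TensorProduct.includeLeft (R := R) (S := R) (A := B) (B := B) b) •
          MonoidAlgebra.mapAlgHom M (d₁₂ R B) (Θ (MonoidAlgebra.single m 1)) := h1
    have h2 := mapRingHom_smul (d₁₃ R B).toRingHom M
      (Algebra.TensorProduct.includeLeft (R := R) (S := R) (A := B) (B := B) b)
      (Θ (MonoidAlgebra.single m 1))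
    have h2' : MonoidAlgebra.mapAlgHom M (d₁₃ R B)
        (Algebra.TensorProduct.includeLeft (R := R) (S := R) (A := B) (B := B) b •
          Θ (MonoidAlgebra.single m 1)) =
        (d₁₃ R B) (Algebra.TensorProduct.includeLeft (R := R) (S := R) (A := B) (B := B) b) •
          MonoidAlgebra.mapAlgHom M (d₁₃ R B) (Θ (MonoidAlgebra.single m 1)) := h2
    rw [h1', h2', map_smul, hZ]
    congr 1

end h3

end Groth.Agent.Helper2.HD
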