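import Mathlib
import Groth.Agent.Helper7.ModAmitsur
import Groth.Agent.Helper2.HDRed

/-!
# Full faithfulness of descent: the image of a reduction is the equalizer of the two pullbacks
-/

set_option autoImplicit false

namespace Groth.Agent.Helper2.HD
open TensorProduct Groth.Agent.Helper7.ModAmitsur

section ff
variable {R B : Type*} [CommRing R] [CommRing B] [Algebra R B] [Module.FaithfullyFlat R B]
variable {P : Type*} [AddCommGroup P] [Module R P]
  {N : Type*} [AddCommGroup N] [Module B N] [Module R N] [IsScalarTower R B N]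
  {N₂ : Type*} [AddCommGroup N₂] [Module (B ⊗[R] B) N₂] [Module R N₂]
  [IsScalarTower R (B ⊗[R] B) N₂]

theorem mem_range_of_eq (θ : P →ₗ[R] N) (hθ : IsRed R B θ)
    (j₁ j₂ : N →+ N₂)
    (hj₁ : ∀ (b : B) (n : N), j₁ (b • n) = (b ⊗ₜ[R] (1 : B)) • j₁ n)
    (hj₂ : ∀ (b : B) (n : N), j₂ (b • n) = ((1 : B) ⊗ₜ[R] b) • j₂ n)
    (ω : (B ⊗[R] B) ⊗[R] P →ₗ[B ⊗[R] B] N₂) (hω : Function.Injective ω)
    (hω₂ : ∀ p, ω (1 ⊗ₜ p) = j₂ (θ p))
    (hc : ∀ p, j₁ (θ p) = j₂ (θ p))
    (x : N) (hx : j₁ x = j₂ x) : x ∈ LinearMap.range θ := by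
  obtain ⟨z, rfl⟩ := hθ.2 x
  have h1 : ∀ z : B ⊗[R] P,
      ω (LinearMap.rTensor P
        (Algebra.TensorProduct.includeLeft : B →ₐ[R] B ⊗[R] B).toLinearMap z) =
      j₁ (LinearMap.liftBaseChange B θ z) := by
    intro z
    induction z using TensorProduct.induction_on with
    | zero => simp
    | add x y hx hy => simp only [map_add, hx, hy]
    | tmul b p =>
      rw [LinearMap.rTensor_tmul, LinearMap.liftBaseChange_tmul, hj₁, hc, ← hω₂, ← map_smul,
        TensorProduct.smul_tmul', smul_eq_mul, mul_one]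
      rfl
  have h2 : ∀ z : B ⊗[R] P,
      ω (LinearMap.rTensor P
        (Algebra.TensorProduct.includeRight : B →ₐ[R] B ⊗[R] B).toLinearMap z) =
      j₂ (LinearMap.liftBaseChange B θ z) := by
    intro z
    induction z using TensorProduct.induction_on with
    | zero => simp
    | add x y hx hy => simp only [map_add, hx, hy]
    | tmul b p =>
      rw [LinearMap.rTensor_tmul, LinearMap.liftBaseChange_tmul, hj₂, ← hω₂, ← map_smul,
        TensorProduct.smul_tmul', smul_eq_mul, mul_one]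
      rfl
  have hd : d R B P z = 0 := by
    apply hω
    rw [map_zero, d, LinearMap.rTensor_sub, LinearMap.sub_apply, map_sub, h1, h2, hx, sub_self]
  obtain ⟨p, hp⟩ := (amitsur_exact R B P z).1 hd
  refine ⟨p, ?_⟩
  rw [← hp]
  show θ p = LinearMap.liftBaseChange B θ ((1 : B) ⊗ₜ[R] p)
  rw [LinearMap.liftBaseChange_tmul, one_smul]

theorem mem_range_algebraMap_of_tmul_eq (b : B) (h : b ⊗ₜ[R] (1 : B) = (1 : B) ⊗ₜ[R] b) :
    b ∈ Set.range (algebraMap R B) := by
  have hd : d R B R (b ⊗ₜ[R] (1 : R)) = 0 := by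
    rw [d_tmul, h, sub_self, TensorProduct.zero_tmul]
  obtain ⟨r, hr⟩ := (amitsur_exact R B R (b ⊗ₜ[R] (1 : R))).1 hd
  refine ⟨r, ?_⟩
  have := congrArg (TensorProduct.rid R B) hr
  simp only [ι, TensorProduct.mk_apply, TensorProduct.rid_tmul, one_smul] at this
  rw [Algebra.algebraMap_eq_smul_one]
  exact this

end ff

end Groth.Agent.Helper2.HD
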