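import Mathlib
import Groth.Prelude.Def_SGA3b
import Groth.Agent.Helper2.MultTypeSemi
import Groth.Agent.Helper2.MultTypeChart

namespace Groth.Agent.Helper2.MultTypeMono
open TensorProduct Groth.Agent.Helper2.MultTypeSemi Groth.Agent.Helper2.MultTypeChart

universe u

section antipode
variable {R S : Type*} [CommRing R] [CommRing S] [Algebra R S]
variable {A B : Type*} [CommRing A] [HopfAlgebra R A] [CommRing B] [HopfAlgebra S B] [Algebra R B]
  [IsScalarTower R S B]

lemma semi_antipode {θ : A →ₐ[R] B} (h : IsSemiCoalg R S θ) (a : A) :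
    θ (HopfAlgebra.antipode R a) = HopfAlgebra.antipode S (θ a) := by
  set f : WithConv (A →ₗ[R] B) := WithConv.toConv θ.toLinearMap with hf
  set g : WithConv (A →ₗ[R] B) := WithConv.toConv (θ.toLinearMap ∘ₗ HopfAlgebra.antipode R) with hg
  set g' : WithConv (A →ₗ[R] B) :=
    WithConv.toConv (((HopfAlgebra.antipode S (A := B)).restrictScalars R) ∘ₗ θ.toLinearMap) with hg'
  have h1 : g * f = 1 := by
    have := LinearMap.algHom_comp_convMul_distrib θ (WithConv.toConv (HopfAlgebra.antipode R (A := A)))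
      (WithConv.toConv (LinearMap.id))
    rw [LinearMap.antipode_mul_id] at this
    simp only [WithConv.ofConv_toConv, LinearMap.comp_id] at this
    apply WithConv.ofConv_injective
    rw [hg, hf, ← this]
    ext a
    simp
  have h2 : f * g' = 1 := by
    ext a
    rw [LinearMap.convMul_apply]
    have key : ∀ t : A ⊗[R] A, LinearMap.mul' R B (TensorProduct.map f.ofConv g'.ofConv t) =
        LinearMap.mul' S B ((HopfAlgebra.antipode S (A := B)).lTensor B (semiMap R S θ.toLinearMap t)) := by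
      intro t
      induction t using TensorProduct.induction_on with
      | zero => simp
      | add x y hx hy => simp only [map_add, hx, hy]
      | tmul x y => simp [hf, hg']
    rw [key, ← h.comul, HopfAlgebra.mul_antipode_lTensor_comul_apply, h.counit,
      ← IsScalarTower.algebraMap_apply]
    simp
  have h3 : g = g' := by
    calc g = g * (f * g') := by rw [h2, mul_one]
      _ = (g * f) * g' := by rw [mul_assoc]
      _ = g' := by rw [h1, one_mul]
  have := congrArg (fun k => k.ofConv a) h3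
  simpa [hg, hg'] using this

end antipode

section core
open Classical
variable {R : Type u} [CommRing R] {R' : Type u} [CommRing R'] [Algebra R R'] {M : Type u} [CommGroup M]
variable {C : Type u} [CommRing C] [HopfAlgebra R C]
variable (ψ : C →ₐ[R] MonoidAlgebra R' M)

/-- the `R'`-span of the image -/
noncomputable def Nspan : Submodule R' (MonoidAlgebra R' M) := Submodule.span R' (Set.range ψ)

lemma Nspan_mul {x y : MonoidAlgebra R' M} (hx : x ∈ Nspan ψ) (hy : y ∈ Nspan ψ) :
    x * y ∈ Nspan ψ := by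
  refine Submodule.span_induction₂ (p := fun x y _ _ => x * y ∈ Nspan ψ) ?_ ?_ ?_ ?_ ?_ ?_ ?_ hx hy
  · rintro x y ⟨c, rfl⟩ ⟨d, rfl⟩
    rw [← map_mul]
    exact Submodule.subset_span ⟨_, rfl⟩
  · intro y _; simp
  · intro x _; simp
  · intro x y z _ _ _ h1 h2; rw [add_mul]; exact Submodule.add_mem _ h1 h2
  · intro x y z _ _ _ h1 h2; rw [mul_add]; exact Submodule.add_mem _ h1 h2
  · intro r x y _ _ h; rw [smul_mul_assoc]; exact Submodule.smul_mem _ _ h
  · intro r x y _ _ h; rw [mul_smul_comm]; exact Submodule.smul_mem _ _ h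

lemma Nspan_one : (1 : MonoidAlgebra R' M) ∈ Nspan ψ :=
  Submodule.subset_span ⟨1, map_one ψ⟩

variable {ψ}

lemma Nspan_antipode (hψ : IsSemiCoalg R R' ψ) {x : MonoidAlgebra R' M} (hx : x ∈ Nspan ψ) :
    HopfAlgebra.antipode R' x ∈ Nspan ψ := by
  induction hx using Submodule.span_induction with
  | mem x hx =>
    obtain ⟨c, rfl⟩ := hx
    rw [← semi_antipode hψ]
    exact Submodule.subset_span ⟨_, rfl⟩
  | zero => simp
  | add x y _ _ hx hy => rw [map_add]; exact Submodule.add_mem _ hx hy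
  | smul r x _ hx => rw [map_smul]; exact Submodule.smul_mem _ _ hx

variable (ψ)

/-- the ideal of coefficients allowed at `m` -/
noncomputable def Jm (m : M) : Ideal R' := (Nspan ψ).comap (MonoidAlgebra.lsingle m)

lemma mem_Jm {m : M} {r : R'} : r ∈ Jm ψ m ↔ MonoidAlgebra.single m r ∈ Nspan ψ := Iff.rfl

lemma Jm_mul {a b : M} {r r' : R'} (hr : r ∈ Jm ψ a) (hr' : r' ∈ Jm ψ b) : r * r' ∈ Jm ψ (a * b) := by
  rw [mem_Jm] at *
  have := Nspan_mul ψ hr hr'
  rwa [MonoidAlgebra.single_mul_single] at this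

lemma Jm_one : (1 : R') ∈ Jm ψ 1 := by
  rw [mem_Jm]
  exact Nspan_one ψ

variable {ψ}

lemma Jm_inv (hψ : IsSemiCoalg R R' ψ) {a : M} {r : R'} (hr : r ∈ Jm ψ a) : r ∈ Jm ψ a⁻¹ := by
  rw [mem_Jm] at *
  have := Nspan_antipode hψ hr
  rwa [MonoidAlgebra.antipode_single] at this

/-- the key element: `single m (ψ_m c)` lies in the span -/
lemma single_cmp_mem (hψ : IsSemiCoalg R R' ψ) (m : M) (c : C) :
    MonoidAlgebra.single m (cmp ψ m c) ∈ Nspan ψ := by
  let G : C ⊗[R] C →ₗ[R] MonoidAlgebra R' M := TensorProduct.lift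
    (LinearMap.mk₂ R (fun x y => cmp ψ m x • ψ y)
      (fun x x' y => by rw [map_add, add_smul])
      (fun r x y => by rw [map_smul, smul_assoc])
      (fun x y y' => by rw [map_add, smul_add])
      (fun r x y => by rw [map_smul, smul_comm]))
  have hG1 : ∀ t, G t ∈ Nspan ψ := by
    intro t
    induction t using TensorProduct.induction_on with
    | zero => simp
    | add x y hx hy => rw [map_add]; exact Submodule.add_mem _ hx hy
    | tmul x y =>
      simp only [G, TensorProduct.lift.tmul, LinearMap.mk₂_apply]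
      exact Submodule.smul_mem _ _ (Submodule.subset_span ⟨_, rfl⟩)
  have hG2 : ∀ (n : M) (t : C ⊗[R] C), (G t).coeff n =
      LinearMap.mul' R R' (TensorProduct.map (cmp ψ m) (cmp ψ n) t) := by
    intro n t
    induction t using TensorProduct.induction_on with
    | zero => simp
    | add x y hx hy => simp only [map_add, MonoidAlgebra.coeff_add, Finsupp.add_apply, hx, hy]
    | tmul x y =>
      simp [G]
  have hG3 : G (Coalgebra.comul (R := R) c) = MonoidAlgebra.single m (cmp ψ m c) := by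
    ext n
    rw [hG2, ← LinearMap.convMul_apply, cmp_mul hψ]
    by_cases hmn : m = n
    · subst hmn; simp
    · simp [hmn, Finsupp.single_apply]
  rw [← hG3]
  exact hG1 _

lemma coeff_mem_Jm (hψ : IsSemiCoalg R R' ψ) {x : MonoidAlgebra R' M} (hx : x ∈ Nspan ψ) (m : M) :
    x.coeff m ∈ Jm ψ m := by
  induction hx using Submodule.span_induction with
  | mem x hx =>
    obtain ⟨c, rfl⟩ := hx
    exact single_cmp_mem hψ m c
  | zero => simp
  | add x y _ _ hx hy =>
    rw [MonoidAlgebra.coeff_add, Finsupp.add_apply]; exact Ideal.add_mem _ hx hy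
  | smul r x _ hx =>
    rw [MonoidAlgebra.coeff_smul, Finsupp.smul_apply]; exact Ideal.mul_mem_left _ _ hx

theorem Jm_eq_top (hψ : IsSemiCoalg R R' ψ)
    (hmono : ∀ (T : Type u) [CommRing T] [Algebra R' T] (y₁ y₂ : MonoidAlgebra R' M →ₐ[R'] T),
      (∀ c, y₁ (ψ c) = y₂ (ψ c)) → y₁ = y₂) (m₀ : M) : Jm ψ m₀ = ⊤ := by
  by_contra hne
  obtain ⟨𝔭, h𝔭, hle⟩ := Ideal.exists_le_maximal _ hne
  haveI := h𝔭.isPrime
  let H : Subgroup M :=
    { carrier := {m | ¬ Jm ψ m ≤ 𝔭}
      mul_mem' := by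
        intro a b ha hb
        simp only [Set.mem_ofPred_eq, SetLike.not_le_iff_exists] at ha hb ⊢
        obtain ⟨r, hr, hr'⟩ := ha
        obtain ⟨t, ht, ht'⟩ := hb
        refine ⟨r * t, Jm_mul ψ hr ht, ?_⟩
        intro hmem
        rcases h𝔭.isPrime.mem_or_mem hmem with h | h
        · exact hr' h
        · exact ht' h
      one_mem' := by
        simp only [Set.mem_ofPred_eq, SetLike.not_le_iff_exists]
        exact ⟨1, Jm_one ψ, (Ideal.ne_top_iff_one 𝔭).mp h𝔭.ne_top⟩
      inv_mem' := by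
        intro a ha
        simp only [Set.mem_ofPred_eq, SetLike.not_le_iff_exists] at ha ⊢
        obtain ⟨r, hr, hr'⟩ := ha
        exact ⟨r, Jm_inv hψ hr, hr'⟩ }
  have hH : ∀ m, m ∈ H ↔ ¬ Jm ψ m ≤ 𝔭 := fun m => Iff.rfl
  let F₁ : M →* MonoidAlgebra (R' ⧸ 𝔭) (M ⧸ H) :=
    (MonoidAlgebra.of (R' ⧸ 𝔭) (M ⧸ H)).comp (QuotientGroup.mk' H)
  let F₂ : M →* MonoidAlgebra (R' ⧸ 𝔭) (M ⧸ H) := 1
  have hagree : ∀ x ∈ Nspan ψ, MonoidAlgebra.lift R' (MonoidAlgebra (R' ⧸ 𝔭) (M ⧸ H)) M F₁ x =
      MonoidAlgebra.lift R' (MonoidAlgebra (R' ⧸ 𝔭) (M ⧸ H)) M F₂ x := by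
    intro x hx
    rw [MonoidAlgebra.lift_apply, MonoidAlgebra.lift_apply]
    apply Finsupp.sum_congr
    intro m _
    by_cases hm : m ∈ H
    · have : F₁ m = F₂ m := by
        simp only [F₁, F₂, MonoidHom.comp_apply, QuotientGroup.mk'_apply, MonoidHom.one_apply]
        rw [(QuotientGroup.eq_one_iff m).mpr hm]
        rfl
      rw [this]
    · rw [hH, not_not] at hm
      have hmem : x.coeff m ∈ 𝔭 := hm (coeff_mem_Jm hψ hx m)
      have h0 : algebraMap R' (MonoidAlgebra (R' ⧸ 𝔭) (M ⧸ H)) (x.coeff m) = 0 := by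
        rw [MonoidAlgebra.coe_algebraMap, Function.comp_apply, Ideal.Quotient.algebraMap_eq,
          Ideal.Quotient.eq_zero_iff_mem.mpr hmem]
        simp
      rw [Algebra.smul_def, Algebra.smul_def, h0, zero_mul, zero_mul]
  have heq := hmono _ _ _ (fun c => hagree _ (Submodule.subset_span ⟨c, rfl⟩))
  have h1 := congrArg (fun y => y (MonoidAlgebra.single m₀ 1)) heq
  simp only [MonoidAlgebra.lift_single, one_smul] at h1
  have h2 : (QuotientGroup.mk' H m₀) = 1 := by
    apply MonoidAlgebra.of_injective (R := R' ⧸ 𝔭)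
    rw [map_one]
    simpa [F₁, F₂] using h1
  have h3 : m₀ ∈ H := (QuotientGroup.eq_one_iff m₀).mp h2
  exact (hH m₀).mp h3 hle

theorem Nspan_eq_top (hψ : IsSemiCoalg R R' ψ)
    (hmono : ∀ (T : Type u) [CommRing T] [Algebra R' T] (y₁ y₂ : MonoidAlgebra R' M →ₐ[R'] T),
      (∀ c, y₁ (ψ c) = y₂ (ψ c)) → y₁ = y₂) : Nspan ψ = ⊤ := by
  rw [eq_top_iff]
  rintro x -
  rw [← MonoidAlgebra.sum_coeff_single x]
  apply Submodule.sum_mem
  intro m _
  have := Jm_eq_top hψ hmono m
  rw [← mem_Jm, this]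
  exact Submodule.mem_top

end core

end Groth.Agent.Helper2.MultTypeMono
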