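import Mathlib
import Groth.Agent.Helper2.HDAlg2
import Groth.Agent.Helper2.HDFF
import Groth.Agent.Helper2.HDHopf
import Groth.Agent.Helper2.MultTypeMono

/-!
# Descent of the Hopf algebra structure of a monoid algebra along a group-like cocycle
-/

set_option autoImplicit false

namespace Groth.Agent.Helper2.HD
open TensorProduct Groth.Agent.Helper8.DescAlg Groth.Agent.Helper2.MultTypeSemi
  Groth.Agent.Helper2.SemiIso

universe u

section main
variable {R : Type u} [CommRing R] {B : Type u} [CommRing B] [Algebra R B]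
  [Module.FaithfullyFlat R B]
variable {M : Type u} [CommGroup M]
variable (Θ : MonoidAlgebra (B ⊗[R] B) M →ₐc[B ⊗[R] B] MonoidAlgebra (B ⊗[R] B) M)
variable (hU : ∀ m, MonoidAlgebra.mapAlgHom M (muB R B)
    ((Θ : MonoidAlgebra (B ⊗[R] B) M →ₐ[B ⊗[R] B] MonoidAlgebra (B ⊗[R] B) M)
      (MonoidAlgebra.single m 1)) = MonoidAlgebra.single m 1)
variable (hZ : ∀ m, bc (d₂₃ R B).toRingHom
    (Θ : MonoidAlgebra (B ⊗[R] B) M →ₐ[B ⊗[R] B] MonoidAlgebra (B ⊗[R] B) M)
      (MonoidAlgebra.mapAlgHom M (d₁₂ R B)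
        ((Θ : MonoidAlgebra (B ⊗[R] B) M →ₐ[B ⊗[R] B] MonoidAlgebra (B ⊗[R] B) M)
          (MonoidAlgebra.single m 1))) =
    MonoidAlgebra.mapAlgHom M (d₁₃ R B)
      ((Θ : MonoidAlgebra (B ⊗[R] B) M →ₐ[B ⊗[R] B] MonoidAlgebra (B ⊗[R] B) M)
        (MonoidAlgebra.single m 1)))

/-- the coaction -/
noncomputable abbrev rhoΘ : MonoidAlgebra B M →ₐ[R] B ⊗[R] MonoidAlgebra B M :=
  coact (Θ : MonoidAlgebra (B ⊗[R] B) M →ₐ[B ⊗[R] B] MonoidAlgebra (B ⊗[R] B) M)

/-- the descended algebra -/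
noncomputable abbrev descAlg : Subalgebra R (MonoidAlgebra B M) := inv (rhoΘ Θ)

/-- the inclusion of the descended algebra -/
noncomputable abbrev descIncl : descAlg Θ →ₐ[R] MonoidAlgebra B M := (descAlg Θ).val

lemma mem_descAlg_iff (x : MonoidAlgebra B M) :
    x ∈ descAlg Θ ↔ Θ (c₁ R B M x) = c₂ R B M x := by
  have h1 : x ∈ descAlg Θ ↔ rhoΘ Θ x = (1 : B) ⊗ₜ[R] x := Iff.rfl
  rw [h1, ← (Xi R B M).injective.eq_iff, Xi_coact]
  have h2 : Xi R B M ((1 : B) ⊗ₜ[R] x) = c₂ R B M x := by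
    simp
  rw [h2]
  rfl

lemma descIncl_mem (a : descAlg Θ) :
    Θ (c₁ R B M (descIncl Θ a)) = c₂ R B M (descIncl Θ a) :=
  (mem_descAlg_iff Θ a.1).mp a.2

include hU hZ in
lemma isRed_descIncl : IsRed R B (descIncl Θ).toLinearMap := by
  have hb := kappa_bijective (rhoΘ Θ) (coact_algebraMap _) (mu_coact _ hU)
    (coact_coassoc _ hZ)
  have : ⇑(LinearMap.liftBaseChange B (descIncl Θ).toLinearMap) = ⇑(kappa (rhoΘ Θ)) := by
    funext z
    induction z using TensorProduct.induction_on with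
    | zero => simp
    | add x y hx hy => simp only [map_add, hx, hy]
    | tmul b c =>
      rw [LinearMap.liftBaseChange_tmul, kappa_tmul, Algebra.smul_def]
      rfl
  unfold IsRed
  rw [this]
  exact hb

end main

end Groth.Agent.Helper2.HD
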