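import Mathlib
import Groth.Agent.Helper2.HDMain

/-!
# Descent of the Hopf algebra structure: closure of the descended algebra under the operations
-/

set_option autoImplicit false

namespace Groth.Agent.Helper2.HD
open TensorProduct Groth.Agent.Helper8.DescAlg Groth.Agent.Helper2.MultTypeSemi
  Groth.Agent.Helper2.SemiIso

universe u

section antip
variable {S S' : Type*} [CommRing S] [CommRing S'] (f : S →+* S') {M : Type*} [CommGroup M]

lemma mapRingHom_antipode (x : MonoidAlgebra S M) :
    MonoidAlgebra.mapRingHom M f (HopfAlgebra.antipode S x) =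
      HopfAlgebra.antipode S' (MonoidAlgebra.mapRingHom M f x) := by
  induction x using MonoidAlgebra.induction_linear with
  | zero => simp
  | add x y hx hy => simp only [map_add, hx, hy]
  | single m b => simp [MonoidAlgebra.antipode_single]

end antip

section main
variable {R : Type u} [CommRing R] {B : Type u} [CommRing B] [Algebra R B]
  [Module.FaithfullyFlat R B]
variable {M : Type u} [CommGroup M]
variable (Θ : MonoidAlgebra (B ⊗[R] B) M →ₐc[B ⊗[R] B] MonoidAlgebra (B ⊗[R] B) M)

lemma desc_counit (a : descAlg Θ) :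
    Coalgebra.counit (R := B) (descIncl Θ a) ∈ Set.range (algebraMap R B) := by
  apply mem_range_algebraMap_of_tmul_eq
  have h := congrArg (Coalgebra.counit (R := B ⊗[R] B)) (descIncl_mem Θ a)
  rw [CoalgHomClass.counit_comp_apply] at h
  have h1 := (isCo_mapRingHom
    (Algebra.TensorProduct.includeLeft (R := R) (S := R) (A := B) (B := B)).toRingHom M).counit
    (descIncl Θ a)
  have h2 := (isCo_mapRingHom
    (Algebra.TensorProduct.includeRight (R := R) (A := B) (B := B)).toRingHom M).counit
    (descIncl Θ a)
  exact h1.symm.trans (h.trans h2)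

lemma desc_antipode (a : descAlg Θ) :
    HopfAlgebra.antipode B (descIncl Θ a) ∈ Set.range (descIncl Θ) := by
  have hmem : HopfAlgebra.antipode B (descIncl Θ a) ∈ descAlg Θ := by
    rw [mem_descAlg_iff]
    have h1 := mapRingHom_antipode
      (Algebra.TensorProduct.includeLeft (R := R) (S := R) (A := B) (B := B)).toRingHom
      (M := M) (descIncl Θ a)
    have h2 := mapRingHom_antipode
      (Algebra.TensorProduct.includeRight (R := R) (A := B) (B := B)).toRingHom
      (M := M) (descIncl Θ a)
    have h3 := Groth.Agent.Helper2.MultTypeMono.semi_antipode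
      (isSemiCoalg_bialgHom (B ⊗[R] B) Θ) (c₁ R B M (descIncl Θ a))
    calc Θ (c₁ R B M (HopfAlgebra.antipode B (descIncl Θ a)))
        = Θ (HopfAlgebra.antipode (B ⊗[R] B) (c₁ R B M (descIncl Θ a))) := by
          congr 1
      _ = HopfAlgebra.antipode (B ⊗[R] B) (Θ (c₁ R B M (descIncl Θ a))) := h3
      _ = HopfAlgebra.antipode (B ⊗[R] B) (c₂ R B M (descIncl Θ a)) := by
          rw [descIncl_mem]
      _ = c₂ R B M (HopfAlgebra.antipode B (descIncl Θ a)) := h2.symm
  exact ⟨⟨_, hmem⟩, rfl⟩

end main

end Groth.Agent.Helper2.HD
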