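import Mathlib
import Groth.Agent.Helper2.HDMain2

/-!
# Descent of the Hopf algebra structure: the comultiplication, and the main theorem
-/

set_option autoImplicit false

namespace Groth.Agent.Helper2.HD
open TensorProduct Groth.Agent.Helper8.DescAlg Groth.Agent.Helper2.MultTypeSemi
  Groth.Agent.Helper2.SemiIso

universe u

section cmap'
variable {R B U : Type*} [CommRing R] [CommRing B] [CommRing U] [Algebra R B] [Algebra R U]
  (f : B →ₐ[R] U) {M : Type*} [CommMonoid M]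

lemma isRed_map_comp' {X : Type*} [CommRing X] [Algebra R X]
    {θ : X →ₐ[R] MonoidAlgebra B M} (hθ : IsRed R B θ.toLinearMap) :
    IsRed R U ((MonoidAlgebra.mapAlgHom M f).comp θ).toLinearMap := by
  rw [AlgHom.comp_toLinearMap]
  exact isRed_map_comp f hθ

end cmap'

section main
variable {R : Type u} [CommRing R] {B : Type u} [CommRing B] [Algebra R B]
  [Module.FaithfullyFlat R B]
variable {M : Type u} [CommGroup M]
variable (Θ : MonoidAlgebra (B ⊗[R] B) M →ₐc[B ⊗[R] B] MonoidAlgebra (B ⊗[R] B) M)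

lemma desc_comul (hθ : IsRed R B (descIncl Θ).toLinearMap) (a : descAlg Θ) :
    Coalgebra.comul (R := B) (descIncl Θ a) ∈
      Set.range (mix R B (descIncl Θ) (descIncl Θ)) := by
  let ι₁ : B →+* B ⊗[R] B :=
    (Algebra.TensorProduct.includeLeft (R := R) (S := R) (A := B) (B := B)).toRingHom
  let ι₂ : B →+* B ⊗[R] B :=
    (Algebra.TensorProduct.includeRight (R := R) (A := B) (B := B)).toRingHom
  let ψ₂ : MonoidAlgebra B M →+* MonoidAlgebra (B ⊗[R] B) M := MonoidAlgebra.mapRingHom M ι₂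
  let ψ₁ : MonoidAlgebra B M →+* MonoidAlgebra (B ⊗[R] B) M :=
    (Θ : MonoidAlgebra (B ⊗[R] B) M →+* MonoidAlgebra (B ⊗[R] B) M).comp
      (MonoidAlgebra.mapRingHom M ι₁)
  have hψ₂ : ∀ (b : B) (c : MonoidAlgebra B M), ψ₂ (b • c) = ι₂ b • ψ₂ c :=
    mapRingHom_smul ι₂ M
  have hψ₁ : ∀ (b : B) (c : MonoidAlgebra B M), ψ₁ (b • c) = ι₁ b • ψ₁ c :=
    comp_semilinear ι₁ (MonoidAlgebra.mapRingHom M ι₁) (mapRingHom_smul ι₁ M) Θ
  have hco₂ : IsCo ι₂ ψ₂ hψ₂ := isCo_mapRingHom ι₂ M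
  have hco₁ : IsCo ι₁ ψ₁ hψ₁ :=
    IsCo.comp ι₁ (MonoidAlgebra.mapRingHom M ι₁) (mapRingHom_smul ι₁ M) Θ (isCo_mapRingHom ι₁ M)
  have hθ₂ : IsRed R B (mix R B (descIncl Θ) (descIncl Θ)).toLinearMap := isRed_mix R B hθ hθ
  have hθT : IsRed R (B ⊗[R] B) ((c₂ R B M).comp (descIncl Θ)).toLinearMap :=
    isRed_map_comp' (Algebra.TensorProduct.includeRight (R := R) (A := B) (B := B)) hθ
  have hω := isRed_mix R (B ⊗[R] B) hθT hθT
  have key := mem_range_of_eq (R := R) (B := B) (mix R B (descIncl Θ) (descIncl Θ)).toLinearMap hθ₂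
    (sq ι₁ ψ₁ hψ₁) (sq ι₂ ψ₂ hψ₂)
    (fun b n => sq_smul ι₁ ψ₁ hψ₁ b n) (fun b n => sq_smul ι₂ ψ₂ hψ₂ b n)
    (LinearMap.liftBaseChange (B ⊗[R] B)
      (mix R (B ⊗[R] B) ((c₂ R B M).comp (descIncl Θ))
        ((c₂ R B M).comp (descIncl Θ))).toLinearMap) hω.1
    (by
      intro p
      rw [LinearMap.liftBaseChange_tmul, one_smul]
      induction p using TensorProduct.induction_on with
      | zero => simp
      | add x y hx hy => simp only [map_add, hx, hy]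
      | tmul a a' =>
        rw [AlgHom.toLinearMap_apply, mix_tmul, AlgHom.toLinearMap_apply, mix_tmul, sq_tmul]
        rfl)
    (by
      intro p
      induction p using TensorProduct.induction_on with
      | zero => simp
      | add x y hx hy => simp only [map_add, hx, hy]
      | tmul a a' =>
        rw [AlgHom.toLinearMap_apply, mix_tmul, sq_tmul, sq_tmul]
        show (Θ (c₁ R B M (descIncl Θ a))) ⊗ₜ[B ⊗[R] B] (Θ (c₁ R B M (descIncl Θ a'))) =
          (c₂ R B M (descIncl Θ a)) ⊗ₜ[B ⊗[R] B] (c₂ R B M (descIncl Θ a'))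
        rw [descIncl_mem, descIncl_mem])
    (Coalgebra.comul (R := B) (descIncl Θ a))
    (by
      rw [← hco₁.comul, ← hco₂.comul]
      show Coalgebra.comul (R := B ⊗[R] B) (Θ (c₁ R B M (descIncl Θ a))) =
        Coalgebra.comul (R := B ⊗[R] B) (c₂ R B M (descIncl Θ a))
      rw [descIncl_mem])
  obtain ⟨p, hp⟩ := key
  exact ⟨p, hp⟩

variable (hU : ∀ m, MonoidAlgebra.mapAlgHom M (muB R B)
    ((Θ : MonoidAlgebra (B ⊗[R] B) M →ₐ[B ⊗[R] B] MonoidAlgebra (B ⊗[R] B) M)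
      (MonoidAlgebra.single m 1)) = MonoidAlgebra.single m 1)
variable (hZ : ∀ m, bc (d₂₃ R B).toRingHom
    (Θ : MonoidAlgebra (B ⊗[R] B) M →ₐ[B ⊗[R] B] MonoidAlgebra (B ⊗[R] B) M)
      (MonoidAlgebra.mapAlgHom M (d₁₂ R B)
        ((Θ : MonoidAlgebra (B ⊗[R] B) M →ₐ[B ⊗[R] B] MonoidAlgebra (B ⊗[R] B) M)
          (MonoidAlgebra.single m 1))) =
    MonoidAlgebra.mapAlgHom M (d₁₃ R B)
      ((Θ : MonoidAlgebra (B ⊗[R] B) M →ₐ[B ⊗[R] B] MonoidAlgebra (B ⊗[R] B) M)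
        (MonoidAlgebra.single m 1)))

include hU hZ in
/-- **Descent of a monoid Hopf algebra along a group-like cocycle.** -/
theorem exists_descent :
    ∃ (A : Type u) (_ : CommRing A) (_ : HopfAlgebra R A) (θ : A →ₐ[R] MonoidAlgebra B M),
      IsSemiIso R B θ ∧ ∀ a, Θ (c₁ R B M (θ a)) = c₂ R B M (θ a) := by
  have hθ := isRed_descIncl Θ hU hZ
  obtain ⟨L⟩ := exists_hopfData hθ (desc_comul Θ hθ) (desc_counit Θ) (desc_antipode Θ)
  exact ⟨descAlg Θ, inferInstance, L.hopf hθ, descIncl Θ, L.isSemiIso hθ, descIncl_mem Θ⟩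

end main

end Groth.Agent.Helper2.HD
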