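import Mathlib
import Groth.Agent.Helper2.ADiag2
import Groth.Agent.Helper2.HDUniq

/-!
# The transition cocycle of a chart
-/

set_option autoImplicit false

namespace Groth.Agent.Helper2.HD
open TensorProduct Groth.Agent.Helper2.MultTypeSemi Groth.Agent.Helper2.SemiIso
  Groth.Agent.Helper2.NilLift Groth.Agent.Helper2.ADiag

universe u

section tr
variable {k : Type*} [CommRing k] {L : Type*} [CommRing L] [Algebra k L]
variable {H : Type*} [CommRing H] [Bialgebra k H] {M : Type*} [CommMonoid M]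
variable (θ₀ : H →ₐ[k] MonoidAlgebra L M) (hθ₀ : IsSemiIso k L θ₀)
variable {U : Type*} [CommRing U] [Algebra k U] (u v w : L →ₐ[k] U)

/-- the chart with coefficients moved along `u` -/
noncomputable def chartAt : H →ₐ[k] MonoidAlgebra U M := (MonoidAlgebra.mapAlgHom M u).comp θ₀

lemma chartAt_apply (h : H) : chartAt θ₀ u h = MonoidAlgebra.mapAlgHom M u (θ₀ h) := rfl

include hθ₀ in
lemma chartAt_iso : IsSemiIso k U (chartAt θ₀ u) := isSemiIso_map_comp u hθ₀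

/-- the transition map between two translates of a chart -/
noncomputable def tr : MonoidAlgebra U M →ₐ[U] MonoidAlgebra U M :=
  trans (chartAt θ₀ u) (chartAt_iso θ₀ hθ₀ u) (chartAt θ₀ v)

lemma tr_chart (h : H) : tr θ₀ hθ₀ u v (chartAt θ₀ u h) = chartAt θ₀ v h :=
  trans_chart _ _ _ h

lemma tr_groupLike (m : M) : IsGroupLikeElem U (tr θ₀ hθ₀ u v (MonoidAlgebra.single m 1)) :=
  isGroupLikeElem_trans _ _ _ (chartAt_iso θ₀ hθ₀ v).1 m

lemma eq_tr (Ψ : MonoidAlgebra U M →ₐ[U] MonoidAlgebra U M)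
    (hΨ : ∀ h, Ψ (chartAt θ₀ u h) = chartAt θ₀ v h) : Ψ = tr θ₀ hθ₀ u v := by
  apply AlgHom.ext
  intro x
  obtain ⟨z, rfl⟩ := (liftMap_bijective (chartAt_iso θ₀ hθ₀ u)).2 x
  rw [tr, trans_liftMap]
  induction z using TensorProduct.induction_on with
  | zero => simp
  | add x y hx hy => simp only [map_add, hx, hy]
  | tmul s h => rw [liftMap_tmul, liftMap_tmul, map_smul, hΨ]

lemma tr_comp (x : MonoidAlgebra U M) :
    tr θ₀ hθ₀ v w (tr θ₀ hθ₀ u v x) = tr θ₀ hθ₀ u w x := by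
  have := eq_tr θ₀ hθ₀ u w ((tr θ₀ hθ₀ v w).comp (tr θ₀ hθ₀ u v)) (fun h => by
    rw [AlgHom.comp_apply, tr_chart, tr_chart])
  rw [← this]
  rfl

lemma tr_self : tr θ₀ hθ₀ u u = AlgHom.id U _ :=
  (eq_tr θ₀ hθ₀ u u (AlgHom.id U _) (fun _ => rfl)).symm

variable {U' : Type*} [CommRing U'] [Algebra k U'] (g : U →ₐ[k] U')

lemma chartAt_comp (h : H) :
    chartAt θ₀ (g.comp u) h = MonoidAlgebra.mapRingHom M g.toRingHom (chartAt θ₀ u h) := by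
  apply MonoidAlgebra.coeff_injective
  ext m
  simp [chartAt]

lemma bc_tr {u' v' : L →ₐ[k] U'} (hu : g.comp u = u') (hv : g.comp v = v') :
    bc g.toRingHom (tr θ₀ hθ₀ u v) = tr θ₀ hθ₀ u' v' := by
  apply eq_tr
  intro h
  rw [← hu, ← hv, chartAt_comp, bc_map, tr_chart, chartAt_comp]

end tr

section cocycle
variable {k : Type u} [CommRing k] {L : Type u} [CommRing L] [Algebra k L]
variable {H : Type u} [CommRing H] [Bialgebra k H] {M : Type u} [CommMonoid M]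
variable (θ₀ : H →ₐ[k] MonoidAlgebra L M) (hθ₀ : IsSemiIso k L θ₀)

/-- the transition cocycle of a chart -/
noncomputable def tau : MonoidAlgebra (L ⊗[k] L) M →ₐ[L ⊗[k] L] MonoidAlgebra (L ⊗[k] L) M :=
  tr θ₀ hθ₀ (Algebra.TensorProduct.includeLeft : L →ₐ[k] L ⊗[k] L)
    (Algebra.TensorProduct.includeRight : L →ₐ[k] L ⊗[k] L)

lemma tau_chart (h : H) : tau θ₀ hθ₀ (c₁ k L M (θ₀ h)) = c₂ k L M (θ₀ h) :=
  tr_chart θ₀ hθ₀ _ _ h

lemma tau_groupLike (m : M) :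
    IsGroupLikeElem (L ⊗[k] L) (tau θ₀ hθ₀ (MonoidAlgebra.single m 1)) :=
  tr_groupLike θ₀ hθ₀ _ _ m

lemma tau_unit (m : M) :
    MonoidAlgebra.mapAlgHom M (muB k L) (tau θ₀ hθ₀ (MonoidAlgebra.single m 1)) =
      MonoidAlgebra.single m 1 := by
  have h1 : bc (muB k L).toRingHom (tau θ₀ hθ₀) = tr θ₀ hθ₀ (AlgHom.id k L) (AlgHom.id k L) :=
    bc_tr θ₀ hθ₀ _ _ (muB k L) (by ext; simp) (by ext; simp)
  rw [tr_self] at h1
  have h2 := congrArg (fun F => F (MonoidAlgebra.single m (1 : L))) h1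
  simp only [bc_single, one_smul, AlgHom.coe_id, id_eq] at h2
  exact h2

lemma tau_cocycle (m : M) :
    bc (d₂₃ k L).toRingHom (tau θ₀ hθ₀)
      (MonoidAlgebra.mapAlgHom M (d₁₂ k L) (tau θ₀ hθ₀ (MonoidAlgebra.single m 1))) =
    MonoidAlgebra.mapAlgHom M (d₁₃ k L) (tau θ₀ hθ₀ (MonoidAlgebra.single m 1)) := by
  let v₁ : L →ₐ[k] L ⊗[k] (L ⊗[k] L) := Algebra.TensorProduct.includeLeft
  let v₂ : L →ₐ[k] L ⊗[k] (L ⊗[k] L) :=
    (Algebra.TensorProduct.includeRight : L ⊗[k] L →ₐ[k] L ⊗[k] (L ⊗[k] L)).comp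
      (Algebra.TensorProduct.includeLeft : L →ₐ[k] L ⊗[k] L)
  let v₃ : L →ₐ[k] L ⊗[k] (L ⊗[k] L) :=
    (Algebra.TensorProduct.includeRight : L ⊗[k] L →ₐ[k] L ⊗[k] (L ⊗[k] L)).comp
      (Algebra.TensorProduct.includeRight : L →ₐ[k] L ⊗[k] L)
  have h12 : bc (d₁₂ k L).toRingHom (tau θ₀ hθ₀) = tr θ₀ hθ₀ v₁ v₂ :=
    bc_tr θ₀ hθ₀ _ _ (d₁₂ k L) (by ext; simp [v₁]) (by ext; simp [v₂])
  have h13 : bc (d₁₃ k L).toRingHom (tau θ₀ hθ₀) = tr θ₀ hθ₀ v₁ v₃ :=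
    bc_tr θ₀ hθ₀ _ _ (d₁₃ k L) (by ext; simp [v₁]) (by ext; simp [v₃])
  have h23 : bc (d₂₃ k L).toRingHom (tau θ₀ hθ₀) = tr θ₀ hθ₀ v₂ v₃ :=
    bc_tr θ₀ hθ₀ _ _ (d₂₃ k L) rfl rfl
  have e12 : MonoidAlgebra.mapAlgHom M (d₁₂ k L) (tau θ₀ hθ₀ (MonoidAlgebra.single m 1)) =
      tr θ₀ hθ₀ v₁ v₂ (MonoidAlgebra.single m 1) := by
    rw [← h12, bc_single, one_smul]
    rfl
  have e13 : MonoidAlgebra.mapAlgHom M (d₁₃ k L) (tau θ₀ hθ₀ (MonoidAlgebra.single m 1)) =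
      tr θ₀ hθ₀ v₁ v₃ (MonoidAlgebra.single m 1) := by
    rw [← h13, bc_single, one_smul]
    rfl
  rw [e12, e13, h23, tr_comp]

end cocycle

end Groth.Agent.Helper2.HD
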