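import Mathlib
import Groth.Agent.Helper2.HDAdic1

/-!
# Lifting a group-like cocycle along a Henselian thickening
-/

set_option autoImplicit false

namespace Groth.Agent.Helper2.HD
open TensorProduct Groth.Agent.Helper2.MultTypeSemi Groth.Agent.Helper2.SemiIso
  Groth.Agent.Helper2.NilSplit

universe u

section compat
variable {R : Type u} [CommRing R] {B : Type u} [CommRing B] [Algebra R B]
variable {k : Type u} [CommRing k] [Algebra R k] {L : Type u} [CommRing L] [Algebra k L]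
  [Algebra R L] [IsScalarTower R k L]
variable (π : B →ₐ[R] L)

/-- the reduction map on the tensor square -/
noncomputable abbrev pi₂ : B ⊗[R] B →ₐ[R] L ⊗[k] L := mix R k π π

/-- the reduction map on the tensor cube -/
noncomputable abbrev pi₃ : B ⊗[R] (B ⊗[R] B) →ₐ[R] L ⊗[k] (L ⊗[k] L) := mix R k π (pi₂ (k := k) π)

lemma pi_mu (t : B ⊗[R] B) : π (muB R B t) = muB k L (pi₂ (k := k) π t) := by
  induction t using TensorProduct.induction_on with
  | zero => simp
  | add x y hx hy => simp only [map_add, hx, hy]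
  | tmul x y => simp

lemma pi₃_d₁₂ (t : B ⊗[R] B) : pi₃ (k := k) π (d₁₂ R B t) = d₁₂ k L (pi₂ (k := k) π t) := by
  induction t using TensorProduct.induction_on with
  | zero => simp
  | add x y hx hy => simp only [map_add, hx, hy]
  | tmul x y => simp

lemma pi₃_d₁₃ (t : B ⊗[R] B) : pi₃ (k := k) π (d₁₃ R B t) = d₁₃ k L (pi₂ (k := k) π t) := by
  induction t using TensorProduct.induction_on with
  | zero => simp
  | add x y hx hy => simp only [map_add, hx, hy]
  | tmul x y => simp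

lemma pi₃_d₂₃ (t : B ⊗[R] B) : pi₃ (k := k) π (d₂₃ R B t) = d₂₃ k L (pi₂ (k := k) π t) := by
  induction t using TensorProduct.induction_on with
  | zero => simp
  | add x y hx hy => simp only [map_add, hx, hy]
  | tmul x y => simp

lemma pi₂_left (b : B) :
    pi₂ (k := k) π (Algebra.TensorProduct.includeLeft (R := R) (S := R) (A := B) (B := B) b) =
      Algebra.TensorProduct.includeLeft (R := k) (S := k) (A := L) (B := L) (π b) := by
  simp

lemma pi₂_right (b : B) :
    pi₂ (k := k) π (Algebra.TensorProduct.includeRight (R := R) (A := B) (B := B) b) =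
      Algebra.TensorProduct.includeRight (R := k) (A := L) (B := L) (π b) := by
  simp

end compat

section lift
variable {R : Type u} [CommRing R] {B : Type u} [CommRing B] [Algebra R B]
variable {k : Type u} [CommRing k] [Algebra R k] {L : Type u} [CommRing L] [Algebra k L]
  [Algebra R L] [IsScalarTower R k L]
variable (π : B →ₐ[R] L) {M : Type u} [CommMonoid M]
variable (J₁ : Ideal B) [HenselianRing B J₁] (hk₁ : RingHom.ker (π : B →+* L) ≤ J₁)
variable (J₂ : Ideal (B ⊗[R] B)) [HenselianRing (B ⊗[R] B) J₂]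
  (hs₂ : Function.Surjective (pi₂ (k := k) π))
  (hk₂ : RingHom.ker (pi₂ (k := k) π : B ⊗[R] B →+* L ⊗[k] L) = J₂)
variable (J₃ : Ideal (B ⊗[R] (B ⊗[R] B))) [HenselianRing (B ⊗[R] (B ⊗[R] B)) J₃]
  (hk₃ : RingHom.ker (pi₃ (k := k) π : B ⊗[R] (B ⊗[R] B) →+* L ⊗[k] (L ⊗[k] L)) ≤ J₃)
variable (τ : MonoidAlgebra (L ⊗[k] L) M →ₐ[L ⊗[k] L] MonoidAlgebra (L ⊗[k] L) M)
  (hτgl : ∀ m, IsGroupLikeElem (L ⊗[k] L) (τ (MonoidAlgebra.single m 1)))
  (hτU : ∀ m, MonoidAlgebra.mapAlgHom M (muB k L) (τ (MonoidAlgebra.single m 1)) =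
    MonoidAlgebra.single m 1)
  (hτZ : ∀ m, bc (d₂₃ k L).toRingHom τ
      (MonoidAlgebra.mapAlgHom M (d₁₂ k L) (τ (MonoidAlgebra.single m 1))) =
    MonoidAlgebra.mapAlgHom M (d₁₃ k L) (τ (MonoidAlgebra.single m 1)))

include J₁ hk₁ J₂ hs₂ hk₂ J₃ hk₃ hτgl hτU hτZ in
theorem exists_lift_cocycle :
    ∃ Θ : MonoidAlgebra (B ⊗[R] B) M →ₐc[B ⊗[R] B] MonoidAlgebra (B ⊗[R] B) M,
      (∀ x, MonoidAlgebra.mapRingHom M (pi₂ (k := k) π : B ⊗[R] B →+* L ⊗[k] L) (Θ x) =
        τ (MonoidAlgebra.mapRingHom M (pi₂ (k := k) π : B ⊗[R] B →+* L ⊗[k] L) x)) ∧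
      (∀ m, MonoidAlgebra.mapAlgHom M (muB R B)
        ((Θ : MonoidAlgebra (B ⊗[R] B) M →ₐ[B ⊗[R] B] MonoidAlgebra (B ⊗[R] B) M)
          (MonoidAlgebra.single m 1)) = MonoidAlgebra.single m 1) ∧
      (∀ m, bc (d₂₃ R B).toRingHom
        (Θ : MonoidAlgebra (B ⊗[R] B) M →ₐ[B ⊗[R] B] MonoidAlgebra (B ⊗[R] B) M)
          (MonoidAlgebra.mapAlgHom M (d₁₂ R B)
            ((Θ : MonoidAlgebra (B ⊗[R] B) M →ₐ[B ⊗[R] B] MonoidAlgebra (B ⊗[R] B) M)
              (MonoidAlgebra.single m 1))) =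
        MonoidAlgebra.mapAlgHom M (d₁₃ R B)
          ((Θ : MonoidAlgebra (B ⊗[R] B) M →ₐ[B ⊗[R] B] MonoidAlgebra (B ⊗[R] B) M)
            (MonoidAlgebra.single m 1))) := by
  set p₂ : B ⊗[R] B →+* L ⊗[k] L := (pi₂ (k := k) π : B ⊗[R] B →+* L ⊗[k] L) with hp₂
  set p₃ : B ⊗[R] (B ⊗[R] B) →+* L ⊗[k] (L ⊗[k] L) :=
    (pi₃ (k := k) π : B ⊗[R] (B ⊗[R] B) →+* L ⊗[k] (L ⊗[k] L)) with hp₃
  have hs₂' : Function.Surjective p₂ := hs₂
  -- the lifted group-like family
  have hex : ∀ m, ∃ y : MonoidAlgebra (B ⊗[R] B) M, IsGroupLikeElem (B ⊗[R] B) y ∧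
      MonoidAlgebra.mapRingHom M p₂ y = τ (MonoidAlgebra.single m 1) :=
    fun m => exists_lift_groupLike' p₂ J₂ hs₂' hk₂ (hτgl m)
  choose g hgl hg using hex
  have hone : g 1 = 1 := by
    apply groupLike_eq_of_map_eq p₂ J₂ hk₂.le (hgl 1) IsGroupLikeElem.one
    rw [hg, ← MonoidAlgebra.one_def, map_one, map_one]
  have hmul : ∀ m n, g (m * n) = g m * g n := by
    intro m n
    apply groupLike_eq_of_map_eq p₂ J₂ hk₂.le (hgl (m * n)) ((hgl m).mul (hgl n))
    rw [hg, map_mul, hg, hg, ← map_mul, MonoidAlgebra.single_mul_single, mul_one]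
  let Θ : MonoidAlgebra (B ⊗[R] B) M →ₐc[B ⊗[R] B] MonoidAlgebra (B ⊗[R] B) M :=
    ofGL g hgl hone hmul
  have hΘ1 : ∀ m, (Θ : MonoidAlgebra (B ⊗[R] B) M →ₐ[B ⊗[R] B] MonoidAlgebra (B ⊗[R] B) M)
      (MonoidAlgebra.single m 1) = g m := by
    intro m
    show Θ (MonoidAlgebra.single m 1) = g m
    rw [ofGL_single, one_smul]
  have hΘgl : ∀ m, IsGroupLikeElem (B ⊗[R] B)
      ((Θ : MonoidAlgebra (B ⊗[R] B) M →ₐ[B ⊗[R] B] MonoidAlgebra (B ⊗[R] B) M)
        (MonoidAlgebra.single m 1)) := by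
    intro m; rw [hΘ1]; exact hgl m
  refine ⟨Θ, ?_, ?_, ?_⟩
  · intro x
    induction x using MonoidAlgebra.induction_linear with
    | zero => simp
    | add x y hx hy => simp only [map_add, hx, hy]
    | single m t =>
      rw [ofGL_single, mapRingHom_smul, hg, MonoidAlgebra.mapRingHom_single, ← map_smul,
        ← single_eq_smul]
  · intro m
    rw [hΘ1]
    apply groupLike_eq_of_map_eq (π : B →+* L) J₁ hk₁
      (isGroupLikeElem_mapRingHom (muB R B).toRingHom (hgl m))
      (MonoidAlgebra.isGroupLikeElem_single_one (R := B) (A := B) m)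
    have hcomp : (π : B →+* L).comp (muB R B).toRingHom = (muB k L).toRingHom.comp p₂ := by
      apply RingHom.ext
      intro t
      exact pi_mu π t
    have h1 : MonoidAlgebra.mapRingHom M (π : B →+* L)
        (MonoidAlgebra.mapRingHom M (muB R B).toRingHom (g m)) =
        MonoidAlgebra.mapRingHom M ((π : B →+* L).comp (muB R B).toRingHom) (g m) := by
      rw [MonoidAlgebra.mapRingHom_comp]; rfl
    rw [h1, hcomp, MonoidAlgebra.mapRingHom_comp, RingHom.comp_apply, hg]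
    have h2 := hτU m
    rw [MonoidAlgebra.mapRingHom_single, map_one]
    exact h2
  · intro m
    rw [hΘ1]
    have hbcgl := bc_groupLike (d₂₃ R B).toRingHom
      (Θ : MonoidAlgebra (B ⊗[R] B) M →ₐ[B ⊗[R] B] MonoidAlgebra (B ⊗[R] B) M) hΘgl
    apply groupLike_eq_of_map_eq p₃ J₃ hk₃
      (isGroupLikeElem_apply _ hbcgl (isGroupLikeElem_mapRingHom (d₁₂ R B).toRingHom (hgl m)))
      (isGroupLikeElem_mapRingHom (d₁₃ R B).toRingHom (hgl m))
    -- compatibility of the base-changed endomorphisms with the reductions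
    have hstar : ∀ y : MonoidAlgebra (B ⊗[R] (B ⊗[R] B)) M,
        MonoidAlgebra.mapRingHom M p₃ (bc (d₂₃ R B).toRingHom
          (Θ : MonoidAlgebra (B ⊗[R] B) M →ₐ[B ⊗[R] B] MonoidAlgebra (B ⊗[R] B) M) y) =
        bc (d₂₃ k L).toRingHom τ (MonoidAlgebra.mapRingHom M p₃ y) := by
      intro y
      induction y using MonoidAlgebra.induction_linear with
      | zero => simp
      | add x y hx hy => simp only [map_add, hx, hy]
      | single m' t =>
        rw [bc_single, mapRingHom_smul, MonoidAlgebra.mapRingHom_single, bc_single, hΘ1]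
        congr 1
        have hc : p₃.comp (d₂₃ R B).toRingHom = (d₂₃ k L).toRingHom.comp p₂ := by
          apply RingHom.ext
          intro t
          exact pi₃_d₂₃ π t
        have h1 : MonoidAlgebra.mapRingHom M p₃
            (MonoidAlgebra.mapRingHom M (d₂₃ R B).toRingHom (g m')) =
            MonoidAlgebra.mapRingHom M (p₃.comp (d₂₃ R B).toRingHom) (g m') := by
          rw [MonoidAlgebra.mapRingHom_comp]; rfl
        rw [h1, hc, MonoidAlgebra.mapRingHom_comp, RingHom.comp_apply, hg]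
    have hc12 : p₃.comp (d₁₂ R B).toRingHom = (d₁₂ k L).toRingHom.comp p₂ := by
      apply RingHom.ext
      intro t
      exact pi₃_d₁₂ π t
    have hc13 : p₃.comp (d₁₃ R B).toRingHom = (d₁₃ k L).toRingHom.comp p₂ := by
      apply RingHom.ext
      intro t
      exact pi₃_d₁₃ π t
    have e12 : MonoidAlgebra.mapRingHom M p₃
        (MonoidAlgebra.mapRingHom M (d₁₂ R B).toRingHom (g m)) =
        MonoidAlgebra.mapAlgHom M (d₁₂ k L) (τ (MonoidAlgebra.single m 1)) := by
      have h1 : MonoidAlgebra.mapRingHom M p₃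
          (MonoidAlgebra.mapRingHom M (d₁₂ R B).toRingHom (g m)) =
          MonoidAlgebra.mapRingHom M (p₃.comp (d₁₂ R B).toRingHom) (g m) := by
        rw [MonoidAlgebra.mapRingHom_comp]; rfl
      rw [h1, hc12, MonoidAlgebra.mapRingHom_comp, RingHom.comp_apply, hg]
      rfl
    have e13 : MonoidAlgebra.mapRingHom M p₃
        (MonoidAlgebra.mapRingHom M (d₁₃ R B).toRingHom (g m)) =
        MonoidAlgebra.mapAlgHom M (d₁₃ k L) (τ (MonoidAlgebra.single m 1)) := by
      have h1 : MonoidAlgebra.mapRingHom M p₃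
          (MonoidAlgebra.mapRingHom M (d₁₃ R B).toRingHom (g m)) =
          MonoidAlgebra.mapRingHom M (p₃.comp (d₁₃ R B).toRingHom) (g m) := by
        rw [MonoidAlgebra.mapRingHom_comp]; rfl
      rw [h1, hc13, MonoidAlgebra.mapRingHom_comp, RingHom.comp_apply, hg]
      rfl
    rw [hstar, e12, e13, hτZ]

end lift

end Groth.Agent.Helper2.HD
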