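import Mathlib
import Groth.Agent.Helper2.ADiag8
import Groth.Agent.Helper2.HDAdic2

/-!
# Reductions of finite algebras over an adically complete Noetherian ring are Henselian pairs
-/

set_option autoImplicit false

namespace Groth.Agent.Helper2.HD
open TensorProduct Groth.Agent.Helper2.ADiag

universe u

section hens
variable {R : Type u} [CommRing R] (I : Ideal R)
variable {X : Type u} [CommRing X] [Algebra R X]
variable {X₀ : Type u} [CommRing X₀] [Algebra (R ⧸ I) X₀] [Algebra R X₀]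
  [IsScalarTower R (R ⧸ I) X₀]
variable (χ : X →ₐ[R] X₀)

lemma isRed_of_surjective_of_ker (hs : Function.Surjective χ)
    (hk : RingHom.ker (χ : X →+* X₀) = I.map (algebraMap R X)) :
    IsRed R (R ⧸ I) χ.toLinearMap := by
  have hmk : Function.Surjective (TensorProduct.mk R (R ⧸ I) X 1) :=
    TensorProduct.mk_surjective R X (R ⧸ I) Ideal.Quotient.mk_surjective
  constructor
  · rw [injective_iff_map_eq_zero]
    intro z hz
    obtain ⟨x, rfl⟩ := hmk z
    have h1 : χ x = 0 := by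
      have : LinearMap.liftBaseChange (R ⧸ I) χ.toLinearMap ((1 : R ⧸ I) ⊗ₜ[R] x) = χ x := by
        rw [LinearMap.liftBaseChange_tmul, one_smul]; rfl
      rw [← this]
      exact hz
    have h2 : x ∈ RingHom.ker (χ : X →+* X₀) := h1
    rw [hk] at h2
    have h3 : x ∈ LinearMap.ker (TensorProduct.mk R (R ⧸ I) X 1) := by
      rw [LinearMap.ker_tensorProductMk, Ideal.smul_top_eq_map, Submodule.restrictScalars_mem]
      exact h2
    exact h3
  · intro y
    obtain ⟨x, rfl⟩ := hs y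
    refine ⟨(1 : R ⧸ I) ⊗ₜ[R] x, ?_⟩
    rw [LinearMap.liftBaseChange_tmul, one_smul]
    rfl

variable {χ}

lemma surjective_of_isRed (hχ : IsRed R (R ⧸ I) χ.toLinearMap) : Function.Surjective χ := by
  have hmk : Function.Surjective (TensorProduct.mk R (R ⧸ I) X 1) :=
    TensorProduct.mk_surjective R X (R ⧸ I) Ideal.Quotient.mk_surjective
  intro y
  obtain ⟨z, rfl⟩ := hχ.2 y
  obtain ⟨x, rfl⟩ := hmk z
  refine ⟨x, ?_⟩
  show χ x = LinearMap.liftBaseChange (R ⧸ I) χ.toLinearMap ((1 : R ⧸ I) ⊗ₜ[R] x)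
  rw [LinearMap.liftBaseChange_tmul, one_smul]
  rfl

lemma ker_of_isRed (hχ : IsRed R (R ⧸ I) χ.toLinearMap) :
    RingHom.ker (χ : X →+* X₀) = I.map (algebraMap R X) := by
  ext x
  rw [RingHom.mem_ker]
  have h0 : (χ : X →+* X₀) x =
      LinearMap.liftBaseChange (R ⧸ I) χ.toLinearMap ((1 : R ⧸ I) ⊗ₜ[R] x) := by
    rw [LinearMap.liftBaseChange_tmul, one_smul]
    rfl
  rw [h0, map_eq_zero_iff _ hχ.1]
  have h1 : (1 : R ⧸ I) ⊗ₜ[R] x = 0 ↔ x ∈ LinearMap.ker (TensorProduct.mk R (R ⧸ I) X 1) := by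
    rw [LinearMap.mem_ker]; rfl
  rw [h1, LinearMap.ker_tensorProductMk, Ideal.smul_top_eq_map, Submodule.restrictScalars_mem]

lemma henselian_of_isRed [IsNoetherianRing R] [IsAdicComplete I R] [Module.Finite R X]
    (hχ : IsRed R (R ⧸ I) χ.toLinearMap) :
    HenselianRing X (RingHom.ker (χ : X →+* X₀)) := by
  haveI hc1 : IsAdicComplete I X := isAdicComplete_of_finite' I X
  haveI hc2 : IsAdicComplete (I.map (algebraMap R X)) X :=
    (IsAdicComplete.map_algebraMap_iff (I := I) (M := X) (S := X)).mpr hc1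
  rw [ker_of_isRed I hχ]
  infer_instance

end hens

end Groth.Agent.Helper2.HD
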