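import Mathlib
import Groth.Prelude.Def_SGA3b
import Groth.Agent.Helper2.ConvGrp

/-!
# The shear map of a homomorphism of affine groups

For a bialgebra map `φ : H → D` of commutative Hopf algebras (the group `Spec D` maps to `Spec H`),
the map `μ : H → H ⊗ D`, `h ↦ ∑ h₁ ⊗ φ h₂` (translation of `Spec H` by `Spec D`) and the shear
automorphism `σ` of `H ⊗ D`.  Consequence: an element annihilating `ker φ` has all its translates
annihilating `ker φ`.
-/

set_option autoImplicit false

namespace Groth.Agent.Helper2.OC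
open TensorProduct WithConv Bialgebra Coalgebra Groth.Agent.Helper2.ConvGrp

section shear
variable {B : Type*} [CommRing B] {H : Type*} [CommRing H] [HopfAlgebra B H]
  {D : Type*} [CommRing D] [HopfAlgebra B D] (φ : H →ₐc[B] D)

/-- `h ↦ 1 ⊗ φ h` as a convolution element -/
noncomputable def bet : WithConv (H →ₐ[B] H ⊗[B] D) :=
  toConv ((Algebra.TensorProduct.includeRight : D →ₐ[B] H ⊗[B] D).comp (φ : H →ₐ[B] D))

/-- the translation map `h ↦ ∑ h₁ ⊗ φ h₂` -/
noncomputable def mu : H →ₐ[B] H ⊗[B] D :=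
  (toConv (Algebra.TensorProduct.includeLeft : H →ₐ[B] H ⊗[B] D) * bet φ).ofConv

/-- the inverse translation map `h ↦ ∑ h₁ ⊗ S (φ h₂)` -/
noncomputable def lam : H →ₐ[B] H ⊗[B] D :=
  (toConv (Algebra.TensorProduct.includeLeft : H →ₐ[B] H ⊗[B] D) * (bet φ)⁻¹).ofConv

/-- the shear map -/
noncomputable def sig : H ⊗[B] D →ₐ[B] H ⊗[B] D :=
  Algebra.TensorProduct.productMap (mu φ) (Algebra.TensorProduct.includeRight : D →ₐ[B] H ⊗[B] D)

lemma sig_comp_includeLeft :
    (sig φ).comp (Algebra.TensorProduct.includeLeft : H →ₐ[B] H ⊗[B] D) = mu φ := by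
  ext h
  simp [sig]

lemma sig_comp_includeRight :
    (sig φ).comp (Algebra.TensorProduct.includeRight : D →ₐ[B] H ⊗[B] D) =
      Algebra.TensorProduct.includeRight := by
  ext d
  simp [sig]

theorem sig_comp_lam : (sig φ).comp (lam φ) = Algebra.TensorProduct.includeLeft := by
  have h1 : pushHom (C := H) (sig φ)
      (toConv (Algebra.TensorProduct.includeLeft : H →ₐ[B] H ⊗[B] D) * (bet φ)⁻¹) =
      toConv (Algebra.TensorProduct.includeLeft : H →ₐ[B] H ⊗[B] D) := by
    rw [map_mul, map_inv]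
    have e1 : pushHom (C := H) (sig φ)
        (toConv (Algebra.TensorProduct.includeLeft : H →ₐ[B] H ⊗[B] D)) =
        toConv (Algebra.TensorProduct.includeLeft : H →ₐ[B] H ⊗[B] D) * bet φ := by
      rw [pushHom_apply, ofConv_toConv, sig_comp_includeLeft]
      rfl
    have e2 : pushHom (C := H) (sig φ) (bet φ) = bet φ := by
      rw [pushHom_apply, bet, ofConv_toConv, ← AlgHom.comp_assoc, sig_comp_includeRight]
    rw [e1, e2, mul_inv_cancel_right]
  have h2 := congrArg WithConv.ofConv h1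
  rw [pushHom_apply, ofConv_toConv, ofConv_toConv] at h2
  exact h2


/-- pull-back along a bialgebra map, as a monoid hom of convolution groups -/
noncomputable def pullHom {X : Type*} [CommRing X] [Algebra B X] :
    WithConv (D →ₐ[B] X) →* WithConv (H →ₐ[B] X) where
  toFun f := toConv (f.ofConv.comp (φ : H →ₐ[B] D))
  map_one' := by
    rw [AlgHom.convOne_def, ofConv_toConv, AlgHom.convOne_def]
    congr 1
    ext h
    simp
  map_mul' f g := by
    rw [AlgHom.convMul_comp_bialgHom_distrib]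

@[simp] lemma pullHom_apply {X : Type*} [CommRing X] [Algebra B X] (f : WithConv (D →ₐ[B] X)) :
    pullHom φ f = toConv (f.ofConv.comp (φ : H →ₐ[B] D)) := rfl

/-- `φ ⊗ id : H ⊗ D → D ⊗ D` -/
noncomputable def psi : H ⊗[B] D →ₐ[B] D ⊗[B] D :=
  Algebra.TensorProduct.map (φ : H →ₐ[B] D) (AlgHom.id B D)

lemma psi_comp_includeLeft :
    (psi φ).comp (Algebra.TensorProduct.includeLeft : H →ₐ[B] H ⊗[B] D) =
      (Algebra.TensorProduct.includeLeft : D →ₐ[B] D ⊗[B] D).comp (φ : H →ₐ[B] D) := by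
  ext h
  simp [psi]

lemma psi_comp_includeRight :
    (psi φ).comp (Algebra.TensorProduct.includeRight : D →ₐ[B] H ⊗[B] D) =
      (Algebra.TensorProduct.includeRight : D →ₐ[B] D ⊗[B] D) := by
  ext d
  simp [psi]

lemma push_psi_includeLeft :
    pushHom (C := H) (psi φ) (toConv (Algebra.TensorProduct.includeLeft : H →ₐ[B] H ⊗[B] D)) =
      pullHom φ (toConv (Algebra.TensorProduct.includeLeft : D →ₐ[B] D ⊗[B] D)) := by
  rw [pushHom_apply, pullHom_apply, ofConv_toConv, ofConv_toConv, psi_comp_includeLeft]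

lemma push_psi_bet :
    pushHom (C := H) (psi φ) (bet φ) =
      pullHom φ (toConv (Algebra.TensorProduct.includeRight : D →ₐ[B] D ⊗[B] D)) := by
  rw [pushHom_apply, pullHom_apply, bet, ofConv_toConv, ofConv_toConv, ← AlgHom.comp_assoc,
    psi_comp_includeRight]

lemma includeLeft_mul_includeRight :
    toConv (Algebra.TensorProduct.includeLeft : D →ₐ[B] D ⊗[B] D) *
      toConv (Algebra.TensorProduct.includeRight : D →ₐ[B] D ⊗[B] D) =
      toConv (comulAlgHom B D) := by
  have h := push_mul_eq (C := D) (A := D) (toConv (AlgHom.id B D))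
  rw [pushHom_apply, pushHom_apply, ofConv_toConv, AlgHom.comp_id, AlgHom.comp_id,
    Algebra.TensorProduct.map_id, AlgHom.id_comp] at h
  exact h

theorem psi_mu (h : H) : psi φ (mu φ h) = Coalgebra.comul (R := B) (φ h) := by
  have h1 : pushHom (C := H) (psi φ)
      (toConv (Algebra.TensorProduct.includeLeft : H →ₐ[B] H ⊗[B] D) * bet φ) =
      pullHom φ (toConv (comulAlgHom B D)) := by
    rw [map_mul, push_psi_includeLeft, push_psi_bet, ← map_mul, includeLeft_mul_includeRight]
  have h2 := congrArg (fun f => f.ofConv h) h1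
  simp only [pushHom_apply, pullHom_apply, ofConv_toConv, AlgHom.comp_apply] at h2
  exact h2

theorem psi_lam_eq_zero (h : H) (hh : φ h = 0) : psi φ (lam φ h) = 0 := by
  have h1 : pushHom (C := H) (psi φ)
      (toConv (Algebra.TensorProduct.includeLeft : H →ₐ[B] H ⊗[B] D) * (bet φ)⁻¹) =
      pullHom φ (toConv (Algebra.TensorProduct.includeLeft : D →ₐ[B] D ⊗[B] D) *
        (toConv (Algebra.TensorProduct.includeRight : D →ₐ[B] D ⊗[B] D))⁻¹) := by
    rw [map_mul, map_inv, push_psi_includeLeft, push_psi_bet, ← map_inv, ← map_mul]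
  have h2 := congrArg (fun f => f.ofConv h) h1
  simp only [pushHom_apply, pullHom_apply, ofConv_toConv, AlgHom.comp_apply] at h2
  have h3 : (φ : H →ₐ[B] D) h = 0 := hh
  rw [h3, map_zero] at h2
  exact h2


include φ in
/-- translates of an element annihilating `ker φ` annihilate `ker φ ⊗ 1` -/
theorem mu_mul_tmul_eq_zero (hφ : Function.Surjective φ) (y : H)
    (hy : ∀ j, φ j = 0 → y * j = 0) (j : H) (hj : φ j = 0) :
    mu φ y * (j ⊗ₜ[B] (1 : D)) = 0 := by
  set 𝔎 : Ideal H := RingHom.ker (φ : H →ₐ[B] D) with h𝔎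
  have hker : RingHom.ker (psi φ) =
      𝔎.map (Algebra.TensorProduct.includeLeft : H →ₐ[B] H ⊗[B] D) :=
    Algebra.TensorProduct.rTensor_ker (R := B) (S := B) (C := D) (φ : H →ₐ[B] D) hφ
  have h1 : lam φ j ∈ 𝔎.map (Algebra.TensorProduct.includeLeft : H →ₐ[B] H ⊗[B] D) := by
    rw [← hker, RingHom.mem_ker]
    exact psi_lam_eq_zero φ j hj
  have h2 : sig φ (lam φ j) ∈ 𝔎.map (mu φ) := by
    have hle : 𝔎.map (Algebra.TensorProduct.includeLeft : H →ₐ[B] H ⊗[B] D) ≤
        (𝔎.map (mu φ)).comap (sig φ) := by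
      rw [Ideal.map_le_iff_le_comap]
      intro k hk
      rw [Ideal.mem_comap, Ideal.mem_comap]
      have : sig φ ((Algebra.TensorProduct.includeLeft : H →ₐ[B] H ⊗[B] D) k) = mu φ k :=
        congrArg (fun f => f k) (sig_comp_includeLeft φ)
      rw [this]
      exact Ideal.mem_map_of_mem _ hk
    exact hle h1
  have h3 : sig φ (lam φ j) = j ⊗ₜ[B] (1 : D) :=
    congrArg (fun f => f j) (sig_comp_lam φ)
  rw [h3] at h2
  -- the annihilator of `μ y` contains `μ(𝔎)`
  have h4 : ∀ e ∈ 𝔎.map (mu φ), mu φ y * e = 0 := by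
    intro e he
    refine Submodule.span_induction (p := fun e _ => mu φ y * e = 0) ?_ ?_ ?_ ?_ he
    · rintro _ ⟨j', hj', rfl⟩
      have : φ j' = 0 := hj'
      show mu φ y * mu φ j' = 0
      rw [← map_mul, hy j' this, map_zero]
    · exact mul_zero _
    · intro a b _ _ ha hb
      rw [mul_add, ha, hb, add_zero]
    · intro a b _ hb
      rw [smul_eq_mul, mul_left_comm, hb, mul_zero]
  exact h4 _ h2

end shear

end Groth.Agent.Helper2.OC
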