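import Mathlib
import Groth.Prelude.Def_SGA3b
import Groth.Agent.Helper2.OCShear
import Groth.Agent.Helper2.MultTypeSemi

/-!
# Homogeneous components with respect to a homomorphism from a diagonalisable group
-/

set_option autoImplicit false

namespace Groth.Agent.Helper2.OC
open TensorProduct WithConv Bialgebra Coalgebra Groth.Agent.Helper2.ConvGrp
  Groth.Agent.Helper2.MultTypeSemi

section comp
variable {B : Type*} [CommRing B] {H : Type*} [CommRing H] [Algebra B H]
  {M : Type*} [CommGroup M]

/-- the `m`-th coefficient `H ⊗ B[M] → H` -/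
noncomputable def pim (m : M) : H ⊗[B] MonoidAlgebra B M →ₗ[H] H :=
  (AlgebraTensorModule.rid B H H).toLinearMap ∘ₗ
    AlgebraTensorModule.lTensor H H (cf (R' := B) m)

@[simp] lemma pim_tmul (m : M) (h : H) (d : MonoidAlgebra B M) :
    pim m (h ⊗ₜ[B] d) = d.coeff m • h := by
  simp [pim]

lemma pim_tmul_mul (m : M) (j : H) (e : H ⊗[B] MonoidAlgebra B M) :
    pim m ((j ⊗ₜ[B] (1 : MonoidAlgebra B M)) * e) = j * pim m e := by
  have : (j ⊗ₜ[B] (1 : MonoidAlgebra B M)) * e = j • e := by
    induction e using TensorProduct.induction_on with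
    | zero => simp
    | add x y hx hy => rw [mul_add, hx, hy, smul_add]
    | tmul h d =>
      rw [Algebra.TensorProduct.tmul_mul_tmul, one_mul, TensorProduct.smul_tmul', smul_eq_mul]
  rw [this, map_smul, smul_eq_mul]

lemma pim_comul (m : M) (f : MonoidAlgebra B M) :
    pim m (Coalgebra.comul (R := B) f) = MonoidAlgebra.single m (f.coeff m) := by
  classical
  induction f using MonoidAlgebra.induction_linear with
  | zero => simp
  | add f g hf hg => simp only [map_add, hf, hg, MonoidAlgebra.coeff_add, Finsupp.coe_add,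
      Pi.add_apply, MonoidAlgebra.single_add]
  | single p r =>
    simp only [MonoidAlgebra.comul_single, CommSemiring.comul_apply, TensorProduct.map_tmul,
      MonoidAlgebra.lsingle_apply, pim_tmul, MonoidAlgebra.coeff_single, Finsupp.single_apply]
    by_cases hpm : p = m
    · subst hpm; simp [MonoidAlgebra.smul_single]
    · have : ¬ m = p := fun h => hpm h.symm
      simp [hpm]

end comp

section T
variable {B : Type*} [CommRing B] {H : Type*} [CommRing H] [HopfAlgebra B H]
  {M : Type*} [CommGroup M] (φ : H →ₐc[B] MonoidAlgebra B M)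

lemma phi_pim (m : M) (e : H ⊗[B] MonoidAlgebra B M) :
    φ (pim m e) = pim m (psi φ e) := by
  induction e using TensorProduct.induction_on with
  | zero => simp
  | add x y hx hy => simp only [map_add, hx, hy]
  | tmul h d =>
    simp only [pim_tmul, psi, Algebra.TensorProduct.map_tmul, AlgHom.coe_id, id_eq, map_smul]
    rfl

/-- the `m`-th homogeneous component -/
noncomputable def Tm (m : M) (h : H) : H := pim m (mu φ h)

theorem phi_Tm (m : M) (h : H) : φ (Tm φ m h) = MonoidAlgebra.single m ((φ h).coeff m) := by
  rw [Tm, phi_pim, psi_mu, pim_comul]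

theorem Tm_mul_eq_zero (hφ : Function.Surjective φ) (y : H)
    (hy : ∀ j, φ j = 0 → y * j = 0) (m : M) (j : H) (hj : φ j = 0) :
    j * Tm φ m y = 0 := by
  have h1 := mu_mul_tmul_eq_zero φ hφ y hy j hj
  rw [mul_comm] at h1
  have h2 := congrArg (pim m) h1
  rw [pim_tmul_mul, map_zero] at h2
  exact h2

end T

end Groth.Agent.Helper2.OC
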