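import Mathlib
import Groth.Prelude.Def_SGA3b
import Groth.Agent.Helper2.OCComp

/-!
# Surjectivity and the kernel of an algebraised diagonalisation
-/

set_option autoImplicit false

namespace Groth.Agent.Helper2.OC
open TensorProduct WithConv Bialgebra Coalgebra Groth.Agent.Helper2.MultTypeSemi

universe u

section aux
variable {B : Type*} [CommRing B] {M : Type*} [CommGroup M]

lemma counit_eq_sum (f : MonoidAlgebra B M) :
    Coalgebra.counit (R := B) f = f.coeff.sum (fun _ r => r) := by
  classical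
  induction f using MonoidAlgebra.induction_linear with
  | zero => simp
  | add f g hf hg =>
    rw [map_add, hf, hg, MonoidAlgebra.coeff_add, Finsupp.sum_add_index'] <;> simp
  | single p r =>
    rw [MonoidAlgebra.counit_single, CommSemiring.counit_apply, MonoidAlgebra.coeff_single,
      Finsupp.sum_single_index rfl]

end aux

section main
variable {B : Type u} [CommRing B] (J : Ideal B) (hJ : J ≤ Ideal.jacobson ⊥)
variable {H : Type u} [CommRing H] [HopfAlgebra B H]
variable {M : Type u} [CommGroup M] (φ : H →ₐc[B] MonoidAlgebra B M)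

include hJ in
/-- surjectivity of the algebraised map -/
theorem surjective_of_mod
    (h0 : ∀ m : M, ∃ c : H, (φ c).coeff m - 1 ∈ J) : Function.Surjective φ := by
  classical
  have hex : ∀ m : M, ∃ c : H, φ c = MonoidAlgebra.single m 1 := by
    intro m
    obtain ⟨c₀, hc₀⟩ := h0 m
    have hu : IsUnit ((φ c₀).coeff m) := by
      have := Ideal.isUnit_of_sub_one_mem_jacobson_bot ((φ c₀).coeff m) (hJ hc₀)
      exact this
    obtain ⟨u, hu⟩ := hu
    refine ⟨(↑u⁻¹ : B) • Tm φ m c₀, ?_⟩
    rw [map_smul, phi_Tm, MonoidAlgebra.smul_single, ← hu, smul_eq_mul, Units.inv_mul]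
  choose g hg using hex
  intro f
  induction f using MonoidAlgebra.induction_linear with
  | zero => exact ⟨0, map_zero _⟩
  | add f f' hf hf' =>
    obtain ⟨a, ha⟩ := hf
    obtain ⟨b, hb⟩ := hf'
    exact ⟨a + b, by rw [map_add, ha, hb]⟩
  | single p r =>
    refine ⟨r • g p, ?_⟩
    rw [map_smul, hg, MonoidAlgebra.smul_single, smul_eq_mul, mul_one]

include hJ in
/-- the kernel of the algebraised map is generated by an idempotent -/
theorem ker_eq_span_idempotent [IsNoetherianRing H]
    (hφ : Function.Surjective φ)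
    (hker : ∀ c, φ c = 0 → ∀ n : ℕ, c ∈ (J.map (algebraMap B H)) ^ n) :
    ∃ e : H, IsIdempotentElem e ∧ e ∈ J.map (algebraMap B H) ∧
      RingHom.ker (φ : H →ₐ[B] MonoidAlgebra B M) = Ideal.span {e} := by
  classical
  set 𝔞 : Ideal H := J.map (algebraMap B H) with h𝔞
  set 𝔎 : Ideal H := RingHom.ker (φ : H →ₐ[B] MonoidAlgebra B M) with h𝔎
  have hmem : ∀ x, x ∈ 𝔎 ↔ φ x = 0 := fun x => Iff.rfl
  -- Krull
  have h1 : 𝔎 ≤ 𝔞 • 𝔎 := by
    intro x hx
    have hx' : x ∈ (⨅ i : ℕ, 𝔞 ^ i • ⊤ : Submodule H H) := by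
      rw [Submodule.mem_iInf]
      intro i
      rw [smul_eq_mul, Ideal.mul_top]
      exact hker x ((hmem x).mp hx) i
    obtain ⟨r, hr⟩ := (Ideal.mem_iInf_smul_pow_eq_bot_iff 𝔞 x).mp hx'
    rw [← hr]
    exact Submodule.smul_mem_smul r.2 hx
  obtain ⟨r, hr1, hr2⟩ := Submodule.exists_sub_one_mem_and_smul_eq_zero_of_fg_of_le_smul 𝔞 𝔎
    (IsNoetherian.noetherian 𝔎) h1
  -- normalise the counit
  have hε𝔞 : ∀ a ∈ 𝔞, Coalgebra.counit (R := B) a ∈ J := by
    have : 𝔞 ≤ J.comap (counitAlgHom B H : H →+* B) := by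
      rw [h𝔞, Ideal.map_le_iff_le_comap]
      intro j hj
      rw [Ideal.mem_comap, Ideal.mem_comap]
      show counitAlgHom B H (algebraMap B H j) ∈ J
      rw [AlgHom.commutes]
      exact hj
    intro a ha
    exact this ha
  have hu : IsUnit (Coalgebra.counit (R := B) r) := by
    apply Ideal.isUnit_of_sub_one_mem_jacobson_bot
    have := hε𝔞 _ hr1
    rw [map_sub, Bialgebra.counit_one] at this
    exact hJ this
  obtain ⟨u, hu⟩ := hu
  set y : H := (↑u⁻¹ : B) • r with hy
  have hyε : Coalgebra.counit (R := B) y = 1 := by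
    rw [hy, map_smul, ← hu, smul_eq_mul, Units.inv_mul]
  have hykill : ∀ j, φ j = 0 → y * j = 0 := by
    intro j hj
    have := hr2 j ((hmem j).mpr hj)
    rw [smul_eq_mul] at this
    rw [hy, smul_mul_assoc, this, smul_zero]
  have hF1 : ∀ m j, φ j = 0 → j * Tm φ m y = 0 := fun m j hj =>
    Tm_mul_eq_zero φ hφ y hykill m j hj
  choose g hg using fun p : M => hφ (MonoidAlgebra.single p 1)
  set f := φ y with hf
  have hfε : Coalgebra.counit (R := B) f = 1 := by
    rw [hf, ← hyε]
    exact CoalgHomClass.counit_comp_apply φ y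
  set z : H := ∑ m ∈ f.coeff.support, Tm φ m y * g m⁻¹ with hz
  have hzφ : φ z = 1 := by
    rw [hz, map_sum]
    have : ∀ m ∈ f.coeff.support, φ (Tm φ m y * g m⁻¹) =
        MonoidAlgebra.single (1 : M) (f.coeff m) := by
      intro m _
      rw [map_mul, phi_Tm, hg, MonoidAlgebra.single_mul_single, mul_inv_cancel, mul_one]
    rw [Finset.sum_congr rfl this]
    have h2 : ∑ m ∈ f.coeff.support, MonoidAlgebra.single (1 : M) (f.coeff m) =
        MonoidAlgebra.single (1 : M) (∑ m ∈ f.coeff.support, f.coeff m) := by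
      rw [← MonoidAlgebra.singleAddHom_apply, map_sum]
      rfl
    rw [h2]
    have h3 : ∑ m ∈ f.coeff.support, f.coeff m = Coalgebra.counit (R := B) f := by
      rw [counit_eq_sum]; rfl
    rw [h3, hfε]
    rfl
  have hzkill : ∀ j, φ j = 0 → j * z = 0 := by
    intro j hj
    rw [hz, Finset.mul_sum]
    apply Finset.sum_eq_zero
    intro m _
    rw [← mul_assoc, hF1 m j hj, zero_mul]
  refine ⟨1 - z, ?_, ?_, ?_⟩
  · have he : φ (1 - z) = 0 := by rw [map_sub, map_one, hzφ, sub_self]
    have := hzkill _ he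
    show (1 - z) * (1 - z) = 1 - z
    rw [mul_sub, mul_one, this, sub_zero]
  · have he : φ (1 - z) = 0 := by rw [map_sub, map_one, hzφ, sub_self]
    have := hker _ he 1
    rwa [pow_one] at this
  · have he : φ (1 - z) = 0 := by rw [map_sub, map_one, hzφ, sub_self]
    apply le_antisymm
    · intro j hj
      have hj' := (hmem j).mp hj
      rw [Ideal.mem_span_singleton']
      refine ⟨j, ?_⟩
      rw [mul_sub, mul_one, hzkill j hj', sub_zero]
    · rw [Ideal.span_singleton_le_iff_mem]
      exact (hmem _).mpr he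

end main

end Groth.Agent.Helper2.OC
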