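import Mathlib
import Groth.Prelude.Def_SGA3b
import Groth.Agent.Helper2.ADiag4

/-!
# Algebraisation of a compatible system of maps to group algebras: finiteness of the support

`B` noetherian, `K n` a decreasing sequence of ideals for which `B` is separated and complete,
`θ n : H → (B ⧸ K n)[M]` a compatible system of semi-coalgebra maps.  Then for every `h : H` the
coefficients of all the `θ n h` vanish outside of a finite subset of `M`.
-/

set_option autoImplicit false

namespace Groth.Agent.Helper2.OC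
open TensorProduct Groth.Agent.Helper2.MultTypeSemi Groth.Agent.Helper2.SemiIso
  Groth.Agent.Helper2.ADiag

section limit
variable {B : Type*} [CommRing B] (K : ℕ → Ideal B) (hK : Antitone K)
  (hsep : ∀ b : B, (∀ n, b ∈ K n) → b = 0)
  (hcpl : ∀ f : ℕ → B, (∀ n, f (n + 1) - f n ∈ K n) → ∃ b, ∀ n, b - f n ∈ K n)
variable {H : Type*} [CommRing H] [Bialgebra B H] {M : Type*} [CommMonoid M]
  (θ : ∀ n, H →ₐ[B] MonoidAlgebra (B ⧸ K n) M)
  (hθ : ∀ n, IsSemiCoalg B (B ⧸ K n) (θ n))
  (hcompat : ∀ n h m, Ideal.Quotient.factor (hK (Nat.le_succ n)) ((θ (n + 1) h).coeff m) =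
    (θ n h).coeff m)

include hcpl hcompat in
lemma exists_coef (h : H) (m : M) :
    ∃ b : B, ∀ n, Ideal.Quotient.mk (K n) b = (θ n h).coeff m := by
  have hs : ∀ n, ∃ b : B, Ideal.Quotient.mk (K n) b = (θ n h).coeff m :=
    fun n => Ideal.Quotient.mk_surjective _
  choose f hf using hs
  obtain ⟨b, hb⟩ := hcpl f (fun n => by
    rw [← Ideal.Quotient.eq, hf n, ← hcompat n h m, ← hf (n + 1), Ideal.Quotient.factor_mk])
  refine ⟨b, fun n => ?_⟩
  rw [← hf n]
  exact Ideal.Quotient.eq.mpr (hb n)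

/-- the limit coefficient -/
noncomputable def coef (h : H) (m : M) : B :=
  Classical.choose (exists_coef K hK hcpl θ hcompat h m)

lemma coef_spec (h : H) (m : M) (n : ℕ) :
    Ideal.Quotient.mk (K n) (coef K hK hcpl θ hcompat h m) = (θ n h).coeff m :=
  Classical.choose_spec (exists_coef K hK hcpl θ hcompat h m) n

include hsep hθ in
open Classical in
/-- the orthogonality relations of the limit coefficients -/
lemma coef_rel (h : H) (S : Finset (H × H))
    (hS : Coalgebra.comul (R := B) h = ∑ i ∈ S, i.1 ⊗ₜ[B] i.2) (m m' : M) :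
    ∑ i ∈ S, coef K hK hcpl θ hcompat i.1 m * coef K hK hcpl θ hcompat i.2 m' =
      if m = m' then coef K hK hcpl θ hcompat h m else 0 := by
  rw [← sub_eq_zero]
  apply hsep
  intro n
  rw [← Ideal.Quotient.eq]
  have h1 := congrArg (fun F => F.ofConv h) (cmp_mul (hθ n) m m')
  simp only [LinearMap.convMul_apply] at h1
  rw [hS, map_sum, map_sum] at h1
  simp only [TensorProduct.map_tmul, LinearMap.mul'_apply, cmp_apply] at h1
  rw [map_sum]
  simp only [map_mul, coef_spec]
  rw [h1]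
  split_ifs with hm
  · simp [coef_spec]
  · simp

end limit

section rank
variable {B : Type*} [CommRing B] {H : Type*} {M : Type*}
  (a : H → M → B)

open Classical in
/-- the rank argument: modulo a prime, at most `#S` coefficients are nonzero -/
lemma card_le_of_rel (𝔭 : Ideal B) [𝔭.IsPrime] (h : H) (S : Finset (H × H))
    (hrel : ∀ m m' : M, ∑ i ∈ S, a i.1 m * a i.2 m' = if m = m' then a h m else 0)
    (F : Finset M) (hF : ∀ m ∈ F, a h m ∉ 𝔭) : F.card ≤ S.card := by
  let Kf := FractionRing (B ⧸ 𝔭)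
  let ψ : B →+* Kf := (algebraMap (B ⧸ 𝔭) Kf).comp (Ideal.Quotient.mk 𝔭)
  have hψ : ∀ b, ψ b = 0 ↔ b ∈ 𝔭 := by
    intro b
    show algebraMap (B ⧸ 𝔭) Kf (Ideal.Quotient.mk 𝔭 b) = 0 ↔ _
    rw [map_eq_zero_iff _ (IsFractionRing.injective (B ⧸ 𝔭) Kf), Ideal.Quotient.eq_zero_iff_mem]
  let X : Matrix F S Kf := fun m i => ψ (a i.1.1 m.1)
  let Y : Matrix S F Kf := fun i m' => ψ (a i.1.2 m'.1)
  have hXY : X * Y = Matrix.diagonal (fun m : F => ψ (a h m.1)) := by
    ext m m'
    rw [Matrix.mul_apply, Matrix.diagonal_apply]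
    have h1 := congrArg ψ (hrel m.1 m'.1)
    rw [map_sum] at h1
    simp only [map_mul] at h1
    rw [← Finset.sum_coe_sort S] at h1
    rw [show (∑ j : S, X m j * Y j m') = ∑ i : S, ψ (a i.1.1 m.1) * ψ (a i.1.2 m'.1) from rfl, h1]
    by_cases hmm : m = m'
    · subst hmm; simp
    · have : m.1 ≠ m'.1 := fun h => hmm (Subtype.ext h)
      simp [hmm, this]
  have hr1 : (X * Y).rank ≤ Fintype.card S :=
    (Matrix.rank_mul_le_left X Y).trans (Matrix.rank_le_card_width X)
  rw [hXY, Matrix.rank_diagonal] at hr1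
  have hcard : Fintype.card {i : F // ψ (a h i.1) ≠ 0} = F.card := by
    have : ∀ i : F, ψ (a h i.1) ≠ 0 := fun i hi => hF i.1 i.2 ((hψ _).mp hi)
    rw [Fintype.card_subtype, Finset.filter_true_of_mem (fun i _ => this i), Finset.card_univ,
      Fintype.card_coe]
  rw [hcard, Fintype.card_coe] at hr1
  exact hr1

open Classical in
lemma finite_not_mem_prime (𝔭 : Ideal B) [𝔭.IsPrime] (h : H) (S : Finset (H × H))
    (hrel : ∀ m m' : M, ∑ i ∈ S, a i.1 m * a i.2 m' = if m = m' then a h m else 0) :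
    {m : M | a h m ∉ 𝔭}.Finite := by
  by_contra hinf
  obtain ⟨F, hFs, hFc⟩ := Set.Infinite.exists_subset_card_eq hinf (S.card + 1)
  have := card_le_of_rel a 𝔭 h S hrel F (fun m hm => hFs hm)
  omega

end rank


section nil
variable {B : Type*} [CommRing B] [IsNoetherianRing B] {H : Type*} {M : Type*} (a : H → M → B)

open Classical in
lemma finite_not_mem_nilradical
    (hex : ∀ h : H, ∃ S : Finset (H × H), ∀ m m' : M,
      ∑ i ∈ S, a i.1 m * a i.2 m' = if m = m' then a h m else 0) (h : H) :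
    {m : M | a h m ∉ nilradical B}.Finite := by
  obtain ⟨S, hS⟩ := hex h
  have hfin : (minimalPrimes B).Finite := minimalPrimes.finite_of_isNoetherianRing (R := B)
  have hsub : {m : M | a h m ∉ nilradical B} ⊆ ⋃ 𝔭 ∈ minimalPrimes B, {m : M | a h m ∉ 𝔭} := by
    intro m hm
    by_contra hcon
    apply hm
    have h1 : ∀ 𝔭 ∈ minimalPrimes B, a h m ∈ 𝔭 := by
      intro 𝔭 h𝔭
      by_contra h2
      exact hcon (Set.mem_biUnion h𝔭 h2)
    have h2 : a h m ∈ sInf (minimalPrimes B) := by
      rw [Ideal.mem_sInf]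
      intro 𝔭 h𝔭
      exact h1 𝔭 h𝔭
    have h3 : sInf (minimalPrimes B) = nilradical B := Ideal.sInf_minimalPrimes (I := (⊥ : Ideal B))
    rwa [h3] at h2
  refine Set.Finite.subset (Set.Finite.biUnion hfin (fun 𝔭 h𝔭 => ?_)) hsub
  haveI : 𝔭.IsPrime := h𝔭.1.1
  exact finite_not_mem_prime a 𝔭 h S hS

open Classical in
lemma finite_not_mem_pow
    (hex : ∀ h : H, ∃ S : Finset (H × H), ∀ m m' : M,
      ∑ i ∈ S, a i.1 m * a i.2 m' = if m = m' then a h m else 0) (k : ℕ) :
    ∀ h : H, {m : M | a h m ∉ (nilradical B) ^ (2 ^ k)}.Finite := by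
  induction k with
  | zero =>
    intro h
    simpa using finite_not_mem_nilradical a hex h
  | succ k ih =>
    intro h
    obtain ⟨S, hS⟩ := hex h
    have hsub : {m : M | a h m ∉ (nilradical B) ^ (2 ^ (k + 1))} ⊆
        ⋃ i ∈ (S : Set (H × H)), ({m : M | a i.1 m ∉ (nilradical B) ^ (2 ^ k)} ∪
          {m : M | a i.2 m ∉ (nilradical B) ^ (2 ^ k)}) := by
      intro m hm
      by_contra hcon
      apply hm
      have h1 : ∀ i ∈ S, a i.1 m ∈ (nilradical B) ^ (2 ^ k) ∧
          a i.2 m ∈ (nilradical B) ^ (2 ^ k) := by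
        intro i hi
        constructor
        · by_contra h2
          exact hcon (Set.mem_biUnion (Finset.mem_coe.mpr hi) (Or.inl h2))
        · by_contra h2
          exact hcon (Set.mem_biUnion (Finset.mem_coe.mpr hi) (Or.inr h2))
      have h2 := hS m m
      rw [if_pos rfl] at h2
      rw [← h2, pow_succ, pow_mul, pow_two]
      exact Ideal.sum_mem _ (fun i hi => Ideal.mul_mem_mul (h1 i hi).1 (h1 i hi).2)
    refine Set.Finite.subset (Set.Finite.biUnion S.finite_toSet (fun i _ => ?_)) hsub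
    exact (ih i.1).union (ih i.2)

open Classical in
lemma finite_ne_zero
    (hex : ∀ h : H, ∃ S : Finset (H × H), ∀ m m' : M,
      ∑ i ∈ S, a i.1 m * a i.2 m' = if m = m' then a h m else 0) (h : H) :
    {m : M | a h m ≠ 0}.Finite := by
  obtain ⟨n, hn⟩ := IsNoetherianRing.isNilpotent_nilradical B
  have h1 := finite_not_mem_pow a hex n h
  refine h1.subset (fun m hm hcon => hm ?_)
  have h2 : (nilradical B) ^ (2 ^ n) ≤ (nilradical B) ^ n :=
    Ideal.pow_le_pow_right (Nat.lt_two_pow_self).le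
  have h3 := h2 hcon
  rw [hn] at h3
  exact h3

end nil

section main
variable {B : Type*} [CommRing B] [IsNoetherianRing B] (K : ℕ → Ideal B) (hK : Antitone K)
  (hsep : ∀ b : B, (∀ n, b ∈ K n) → b = 0)
  (hcpl : ∀ f : ℕ → B, (∀ n, f (n + 1) - f n ∈ K n) → ∃ b, ∀ n, b - f n ∈ K n)
variable {H : Type*} [CommRing H] [Bialgebra B H] {M : Type*} [CommMonoid M]
  (θ : ∀ n, H →ₐ[B] MonoidAlgebra (B ⧸ K n) M)
  (hθ : ∀ n, IsSemiCoalg B (B ⧸ K n) (θ n))
  (hcompat : ∀ n h m, Ideal.Quotient.factor (hK (Nat.le_succ n)) ((θ (n + 1) h).coeff m) =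
    (θ n h).coeff m)

include hsep hcpl hθ hcompat in
/-- **finiteness of the support**: a compatible system of semi-coalgebra maps to the group algebras
`(B ⧸ K n)[M]` over a noetherian complete base has uniformly finite supports -/
theorem fin_of_semiCoalg (h : H) :
    ∃ F : Finset M, ∀ n, ∀ m ∉ F, (θ n h).coeff m = 0 := by
  classical
  have hex : ∀ h : H, ∃ S : Finset (H × H), ∀ m m' : M,
      ∑ i ∈ S, coef K hK hcpl θ hcompat i.1 m * coef K hK hcpl θ hcompat i.2 m' =
        if m = m' then coef K hK hcpl θ hcompat h m else 0 := by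
    intro h
    obtain ⟨S, hS⟩ := TensorProduct.exists_finset (Coalgebra.comul (R := B) h)
    exact ⟨S, fun m m' => coef_rel K hK hsep hcpl θ hθ hcompat h S hS m m'⟩
  have hfin := finite_ne_zero (coef K hK hcpl θ hcompat) hex h
  refine ⟨hfin.toFinset, fun n m hm => ?_⟩
  rw [Set.Finite.mem_toFinset, Set.mem_setOf_eq, not_not] at hm
  rw [← coef_spec K hK hcpl θ hcompat h m n, hm, map_zero]

end main

end Groth.Agent.Helper2.OC
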