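import Mathlib
import Groth.Prelude.Def_SGA3b
import Groth.Agent.Helper2.DefLem
import Groth.Agent.Helper2.ADiag1

/-!
# The deformation lemma for flat Hopf algebras, explicit form, and levels
-/

set_option autoImplicit false

namespace Groth.Agent.Helper2.OC
open TensorProduct Groth.Agent.Helper2.MultTypeSemi Groth.Agent.Helper2.DefIter
  Groth.Agent.Helper2.DefBasis Groth.Agent.Helper2.DefLem Groth.Agent.Helper2.SemiIso
  Groth.Agent.Helper2.ADiag Groth.Agent.Helper2.NilLift Groth.Agent.Helper2.NilSplit

universe u

section main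
variable {B : Type u} [CommRing B] {Bb : Type u} [CommRing Bb] [Algebra B Bb]
variable {H : Type u} [CommRing H] [HopfAlgebra B H] [Module.Flat B H]
variable {M : Type u} [CommGroup M]

/-- strong form of `DefLem.isDiag_of_semi`: the diagonalisation lifts the given one -/
theorem exists_iso_of_semi (θ : H →ₐ[B] MonoidAlgebra Bb M) (hθ : IsSemiCoalg B Bb θ)
    (hsurj : Function.Surjective (algebraMap B Bb))
    (hnil : IsNilpotent (RingHom.ker (algebraMap B Bb)))
    (hker : ∀ h, θ h = 0 → h ∈ (RingHom.ker (algebraMap B Bb)) • (⊤ : Submodule B H))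
    (hlift : ∀ m : M, ∃ h, θ h = MonoidAlgebra.single m 1) :
    ∃ ψ : MonoidAlgebra B M ≃ₐc[B] H,
      ∀ m, θ (ψ (MonoidAlgebra.single m 1)) = MonoidAlgebra.single m 1 := by
  classical
  set J := RingHom.ker (algebraMap B Bb) with hJ
  -- first basis
  choose g₀ hg₀ using hlift
  obtain ⟨hli₀, hsp₀⟩ := basis_of_lift hsurj hnil θ.toLinearMap hker g₀ hg₀
  let b₀ : Module.Basis M B H := Module.Basis.mk hli₀ (ge_of_eq hsp₀)
  have hb₀ : ∀ m, θ (b₀ m) = MonoidAlgebra.single m 1 := by
    intro m; rw [Module.Basis.mk_apply]; exact hg₀ m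
  have hO := orth_of_semi θ hθ b₀ hb₀
  -- group-like lifts
  have hex : ∀ m : M, ∃ a : H, θ a = MonoidAlgebra.single m 1 ∧
      Coalgebra.comul (R := B) a = a ⊗ₜ[B] a := by
    intro m
    obtain ⟨a, ha1, ha2⟩ := exists_groupLike_lift b₀ J hO hnil m
    refine ⟨a, ?_, ha2⟩
    apply MonoidAlgebra.coeff_injective
    ext p
    have hc : algebraMap B Bb (b₀.coord p a) = (θ a).coeff p :=
      algebraMap_coord θ.toLinearMap b₀ hb₀ p a
    rw [← hc]
    have h1 := ha1 p
    rw [hJ, RingHom.mem_ker, map_sub, sub_eq_zero] at h1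
    rw [h1, MonoidAlgebra.coeff_single, Finsupp.single_apply]
    by_cases hpm : p = m
    · subst hpm; simp [kd]
    · have : ¬ m = p := fun h => hpm h.symm
      simp [kd, hpm, this]
  choose g hg hgΔ using hex
  obtain ⟨hli, hsp⟩ := basis_of_lift hsurj hnil θ.toLinearMap hker g hg
  let b : Module.Basis M B H := Module.Basis.mk hli (ge_of_eq hsp)
  have hbg : ∀ m, b m = g m := fun m => Module.Basis.mk_apply _ _ m
  have hb : ∀ m, θ (b m) = MonoidAlgebra.single m 1 := by
    intro m; rw [hbg]; exact hg m
  have hbΔ : ∀ m, Coalgebra.comul (R := B) (b m) = b m ⊗ₜ[B] b m := by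
    intro m; rw [hbg]; exact hgΔ m
  have hgl : ∀ m, IsGroupLikeElem B (g m) := by
    intro m
    refine ⟨?_, hgΔ m⟩
    rw [← hbg]
    exact counit_eq_one_of_basis b m (hbΔ m)
  -- uniqueness
  have huniq : ∀ (m : M) (a : H), IsGroupLikeElem B a → θ a = MonoidAlgebra.single m 1 →
      a = g m := by
    intro m a ha hθa
    have hrr : ∀ p q, b.coord p a * b.coord q a = kd p q * b.coord p a := by
      intro p q
      have h1 := congrArg (fun F => F a) (cv_coord_of_diag b hbΔ p q)
      simp only [cv_apply, ha.comul_eq_tmul_self, pair_tmul, LinearMap.smul_apply,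
        smul_eq_mul] at h1
      exact h1
    have hzero : ∀ p, p ≠ m → b.coord p a = 0 := by
      intro p hp
      have hmem : b.coord p a ∈ J := by
        rw [hJ, RingHom.mem_ker, algebraMap_coord θ.toLinearMap b hb p a]
        show (θ a).coeff p = 0
        rw [hθa, MonoidAlgebra.coeff_single, Finsupp.single_apply]
        have : ¬ m = p := fun h => hp h.symm
        simp [this]
      have hid : IsIdempotentElem (b.coord p a) := by
        have := hrr p p
        simpa [kd, IsIdempotentElem] using this
      obtain ⟨n, hn⟩ := hnil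
      have h1 : (b.coord p a) ^ n ∈ J ^ n := Ideal.pow_mem_pow hmem n
      rw [hn] at h1
      have h2 : (b.coord p a) ^ n = 0 := by simpa using h1
      have h3 := hid.pow_succ_eq n
      rw [pow_succ, h2, zero_mul] at h3
      exact h3.symm
    have hrepr : b.repr a = Finsupp.single m (b.coord m a) := by
      ext p
      rw [Finsupp.single_apply]
      by_cases hp : m = p
      · subst hp; simp
      · have := hzero p (fun h => hp h.symm)
        simp only [Module.Basis.coord_apply] at this
        simp [hp, this]
    have ha_eq : a = b.coord m a • g m := by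
      have := b.linearCombination_repr a
      rw [hrepr, Finsupp.linearCombination_single, hbg] at this
      exact this.symm
    have h1 := ha.counit_eq_one
    rw [ha_eq, map_smul, (hgl m).counit_eq_one, smul_eq_mul, mul_one] at h1
    rw [ha_eq, h1, one_smul]
  -- multiplicativity
  have hone : g 1 = 1 := by
    symm
    apply huniq 1 1 IsGroupLikeElem.one
    rw [map_one]; rfl
  have hmul : ∀ m n, g (m * n) = g m * g n := by
    intro m n
    symm
    apply huniq (m * n) _ ((hgl m).mul (hgl n))
    rw [map_mul, hg, hg, MonoidAlgebra.single_mul_single, mul_one]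
  let G : M →* GroupLike B H :=
    { toFun := fun m => ⟨g m, hgl m⟩
      map_one' := by ext; exact hone
      map_mul' := fun m n => by ext; exact hmul m n }
  let ψ : MonoidAlgebra B M →ₐc[B] H :=
    (MonoidAlgebra.liftGroupLikeBialgHom (R := B) (A := H)).comp
      (MonoidAlgebra.mapDomainBialgHom B G)
  have key : ∀ x : MonoidAlgebra B M, ψ x = Finsupp.linearCombination B g x.coeff := by
    intro x
    induction x using MonoidAlgebra.induction_linear with
    | zero => simp
    | add f g' hf hg' => rw [map_add, hf, hg', MonoidAlgebra.coeff_add, map_add]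
    | single m r =>
      simp [ψ, G, MonoidAlgebra.liftGroupLikeBialgHom, Algebra.smul_def]
  have hψm : ∀ m, ψ (MonoidAlgebra.single m 1) = g m := by
    intro m
    rw [key]
    simp
  have hbij : Function.Bijective ψ := by
    refine ⟨?_, ?_⟩
    · rw [injective_iff_map_eq_zero]
      intro x hx
      rw [key] at hx
      have := (linearIndependent_iff.mp hli) x.coeff hx
      exact MonoidAlgebra.coeff_injective this
    · intro y
      have hy : y ∈ Submodule.span B (Set.range g) := by rw [hsp]; trivial
      rw [Finsupp.mem_span_range_iff_exists_finsupp] at hy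
      obtain ⟨c, hc⟩ := hy
      refine ⟨MonoidAlgebra.ofCoeff c, ?_⟩
      rw [key]
      rw [← hc, Finsupp.linearCombination_apply]
  refine ⟨BialgEquiv.ofBijective ψ hbij, fun m => ?_⟩
  show θ (ψ (MonoidAlgebra.single m 1)) = _
  rw [hψm, hg]

end main


section level
variable {B : Type u} [CommRing B] {H : Type u} [CommRing H] [HopfAlgebra B H]
variable {S : Type u} [CommRing S] [Algebra B S]
variable {Bb : Type u} [CommRing Bb] [Algebra B Bb] [Algebra S Bb] [IsScalarTower B S Bb]
variable {M : Type u} [CommGroup M]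

/-- existence of the diagonalisation at a nilpotent level, lifting the given one: flat case -/
theorem exists_level_flat [Module.Flat S (S ⊗[B] H)]
    (hs : Function.Surjective (algebraMap S Bb))
    (hnil : IsNilpotent (RingHom.ker (algebraMap S Bb)))
    (θ₀ : H →ₐ[B] MonoidAlgebra Bb M) (hθ₀ : IsSemiIso B Bb θ₀) :
    ∃ θ : H →ₐ[B] MonoidAlgebra S M, IsSemiIso B S θ ∧ ∀ h, rho S Bb M (θ h) = θ₀ h := by
  have hθ₀' : IsSemiIso S Bb (liftMap B S θ₀) := hθ₀.lift B S Bb
  obtain ⟨ψ, hψ⟩ := exists_iso_of_semi (liftMap B S θ₀) hθ₀'.1 hs hnil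
    (hθ₀'.mem_of_eq_zero S Bb hs) (fun _ => hθ₀'.surjective S Bb hs _)
  have h1 := (isSemiIso_includeRight B S H).comp B S S (isSemiIso_bialgEquiv S ψ.symm)
  refine ⟨_, h1, fun h => ?_⟩
  have hcomp : ∀ x : MonoidAlgebra S M, liftMap B S θ₀ (ψ x) = rho S Bb M x := by
    intro x
    induction x using MonoidAlgebra.induction_linear with
    | zero => simp
    | add f g hf hg => simp only [map_add, hf, hg]
    | single m r =>
      have : (MonoidAlgebra.single m r : MonoidAlgebra S M) = r • MonoidAlgebra.single m 1 := by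
        rw [MonoidAlgebra.smul_single, smul_eq_mul, mul_one]
      rw [this, map_smul, map_smul, hψ, map_smul, rho_single, map_one]
  show rho S Bb M (ψ.symm ((1 : S) ⊗ₜ[B] h)) = θ₀ h
  rw [← hcomp, BialgEquiv.apply_symm_apply, liftMap_tmul, one_smul]

end level

end Groth.Agent.Helper2.OC
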