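import Mathlib
import Groth.Prelude.Def_SGA3b
import Groth.Agent.Helper2.ADiag7
import Groth.Agent.Helper2.OCAlg
import Groth.Agent.Helper2.OCFlat

/-!
# Levels and algebraisation for a Hopf algebra flat at all levels, diagonalisable modulo `J`
-/

set_option autoImplicit false

namespace Groth.Agent.Helper2.OC
open TensorProduct Groth.Agent.Helper2.MultTypeSemi Groth.Agent.Helper2.SemiIso
  Groth.Agent.Helper2.NilSplit Groth.Agent.Helper2.NilLift Groth.Agent.Helper2.ADiag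

universe u

section kernil
variable {B : Type u} [CommRing B] (J : Ideal B)

lemma isNilpotent_ker_factor (n : ℕ) :
    letI := factorAlg (pow_succ_le J n)
    IsNilpotent (RingHom.ker (algebraMap (B ⧸ Kp J n) (B ⧸ J))) := by
  letI := factorAlg (pow_succ_le J n)
  refine ⟨n + 1, ?_⟩
  have hk : RingHom.ker (algebraMap (B ⧸ Kp J n) (B ⧸ J)) = J.map (Ideal.Quotient.mk (Kp J n)) := by
    ext x
    obtain ⟨x, rfl⟩ := Ideal.Quotient.mk_surjective x
    rw [RingHom.mem_ker]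
    show Ideal.Quotient.factor (pow_succ_le J n) (Ideal.Quotient.mk _ x) = 0 ↔ _
    rw [Ideal.Quotient.factor_mk, Ideal.Quotient.eq_zero_iff_mem]
    constructor
    · intro hx
      exact Ideal.mem_map_of_mem _ hx
    · intro hx
      rw [Ideal.mem_map_iff_of_surjective _ Ideal.Quotient.mk_surjective] at hx
      obtain ⟨y, hy, hxy⟩ := hx
      have h1 : y - x ∈ Kp J n := Ideal.Quotient.eq.mp hxy
      have h2 : x = y - (y - x) := by ring
      rw [h2]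
      exact sub_mem hy (pow_succ_le J n h1)
  rw [hk, ← Ideal.map_pow, Ideal.zero_eq_bot, Ideal.map_eq_bot_iff_le_ker, Ideal.mk_ker]
  exact le_rfl

end kernil

section levels
variable {B : Type u} [CommRing B] (J : Ideal B)
variable {H : Type u} [CommRing H] [HopfAlgebra B H]
  (hflat : ∀ n, Module.Flat (B ⧸ Kp J n) ((B ⧸ Kp J n) ⊗[B] H))
variable {M : Type u} [CommGroup M] (θ₀ : H →ₐ[B] MonoidAlgebra (B ⧸ J) M)
  (hθ₀ : IsSemiIso B (B ⧸ J) θ₀)

include hflat hθ₀ in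
lemma exists_lvf (n : ℕ) :
    letI := factorAlg (pow_succ_le J n)
    ∃ θ : H →ₐ[B] MonoidAlgebra (B ⧸ Kp J n) M, IsSemiIso B (B ⧸ Kp J n) θ ∧
      ∀ h, rho (B ⧸ Kp J n) (B ⧸ J) M (θ h) = θ₀ h := by
  letI := factorAlg (pow_succ_le J n)
  haveI : IsScalarTower B (B ⧸ Kp J n) (B ⧸ J) := factorAlg_tower (pow_succ_le J n)
  haveI := hflat n
  exact exists_level_flat (factorAlg_surjective (pow_succ_le J n))
    (isNilpotent_ker_factor J n) θ₀ hθ₀

/-- the chosen diagonalisation at level `n` -/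
noncomputable def lvf (n : ℕ) : H →ₐ[B] MonoidAlgebra (B ⧸ Kp J n) M :=
  Classical.choose (exists_lvf J hflat θ₀ hθ₀ n)

lemma lvf_iso (n : ℕ) : IsSemiIso B (B ⧸ Kp J n) (lvf J hflat θ₀ hθ₀ n) :=
  (Classical.choose_spec (exists_lvf J hflat θ₀ hθ₀ n)).1

lemma lvf_rho (n : ℕ) (h : H) :
    letI := factorAlg (pow_succ_le J n)
    rho (B ⧸ Kp J n) (B ⧸ J) M (lvf J hflat θ₀ hθ₀ n h) = θ₀ h :=
  (Classical.choose_spec (exists_lvf J hflat θ₀ hθ₀ n)).2 h

lemma lvf_compat (n : ℕ) (h : H) (m : M) :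
    Ideal.Quotient.factor (pow_succ_anti J n) ((lvf J hflat θ₀ hθ₀ (n + 1) h).coeff m) =
      (lvf J hflat θ₀ hθ₀ n h).coeff m := by
  letI a1 := factorAlg (pow_succ_le J n)
  letI a2 := factorAlg (pow_succ_le J (n + 1))
  letI a3 := factorAlg (pow_succ_anti J n)
  haveI t1 : IsScalarTower B (B ⧸ Kp J n) (B ⧸ J) := factorAlg_tower (pow_succ_le J n)
  haveI t2 : IsScalarTower B (B ⧸ Kp J (n + 1)) (B ⧸ J) :=
    factorAlg_tower (pow_succ_le J (n + 1))
  haveI t3 : IsScalarTower B (B ⧸ Kp J (n + 1)) (B ⧸ Kp J n) :=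
    factorAlg_tower (pow_succ_anti J n)
  haveI t4 : IsScalarTower (B ⧸ Kp J (n + 1)) (B ⧸ Kp J n) (B ⧸ J) :=
    factorAlg_tower' (pow_succ_anti J n) (pow_succ_le J n)
  have h' : IsSemiIso B (B ⧸ Kp J n)
      (((rho (B ⧸ Kp J (n + 1)) (B ⧸ Kp J n) M).restrictScalars B).comp
        (lvf J hflat θ₀ hθ₀ (n + 1))) :=
    isSemiIso_rho_comp (T₂ := B ⧸ Kp J n) (lvf_iso J hflat θ₀ hθ₀ (n + 1))
  have key := unique_level (S := B ⧸ Kp J n) (Bb := B ⧸ J)
    (factorAlg_nil (pow_succ_le J n) (n + 1) (pow_le_Kp J n)) (lvf J hflat θ₀ hθ₀ n) _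
    (lvf_iso J hflat θ₀ hθ₀ n) h'
    (fun x => by
      simp only [AlgHom.coe_comp, AlgHom.coe_restrictScalars', Function.comp_apply]
      rw [rho_rho, lvf_rho, lvf_rho])
  have := congrArg (fun φ => (φ h).coeff m) key
  simp only [AlgHom.coe_comp, AlgHom.coe_restrictScalars', Function.comp_apply, coeff_rho] at this
  exact this.symm

end levels

section phi
variable {B : Type u} [CommRing B] [IsNoetherianRing B] (J : Ideal B) [IsAdicComplete J B]
variable {H : Type u} [CommRing H] [HopfAlgebra B H]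
  (hflat : ∀ n, Module.Flat (B ⧸ Kp J n) ((B ⧸ Kp J n) ⊗[B] H))
variable {M : Type u} [CommGroup M] (θ₀ : H →ₐ[B] MonoidAlgebra (B ⧸ J) M)
  (hθ₀ : IsSemiIso B (B ⧸ J) θ₀)

omit [IsNoetherianRing B] [IsAdicComplete J B] in
lemma lvf_compat' : ∀ n h m, Ideal.Quotient.factor ((Kp_antitone J) (Nat.le_succ n))
    ((lvf J hflat θ₀ hθ₀ (n + 1) h).coeff m) = (lvf J hflat θ₀ hθ₀ n h).coeff m :=
  lvf_compat J hflat θ₀ hθ₀

lemma lvf_fin : ∀ h : H, ∃ F : Finset M, ∀ n, ∀ m ∉ F, (lvf J hflat θ₀ hθ₀ n h).coeff m = 0 := by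
  intro h
  have hθ : ∀ n, IsSemiCoalg B (B ⧸ Kp J n) (lvf J hflat θ₀ hθ₀ n) :=
    fun n => (lvf_iso J hflat θ₀ hθ₀ n).1
  exact fin_of_semiCoalg (B := B) (H := H) (M := M) (Kp J) (Kp_antitone J) (sep_of_complete J)
    (cpl_of_complete J) (lvf J hflat θ₀ hθ₀) hθ (lvf_compat' J hflat θ₀ hθ₀) h

/-- the algebraisation of the compatible system of level diagonalisations -/
noncomputable def phif : H →ₐ[B] MonoidAlgebra B M :=
  limMap (H := H) (M := M) (Kp J) (Kp_antitone J) (sep_of_complete J) (cpl_of_complete J)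
    (lvf J hflat θ₀ hθ₀) (lvf_compat' J hflat θ₀ hθ₀) (lvf_fin J hflat θ₀ hθ₀)

lemma rho_phif (n : ℕ) (h : H) :
    rho B (B ⧸ Kp J n) M (phif J hflat θ₀ hθ₀ h) = lvf J hflat θ₀ hθ₀ n h :=
  rho_limMap (H := H) (M := M) (Kp J) (Kp_antitone J) (sep_of_complete J) (cpl_of_complete J)
    (lvf J hflat θ₀ hθ₀) (lvf_compat' J hflat θ₀ hθ₀) (lvf_fin J hflat θ₀ hθ₀) h n

lemma isSemiCoalg_phif : IsSemiCoalg B B (phif J hflat θ₀ hθ₀) :=
  isSemiCoalg_lim (H := H) (M := M) (Kp J) (sep_of_complete J) (lvf J hflat θ₀ hθ₀)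
    (fun n => (lvf_iso J hflat θ₀ hθ₀ n).1) _ (fun n h => rho_phif J hflat θ₀ hθ₀ n h)

lemma rho_phif_zero (h : H) : rho B (B ⧸ J) M (phif J hflat θ₀ hθ₀ h) = θ₀ h := by
  letI a1 := factorAlg (pow_succ_le J 0)
  haveI t1 : IsScalarTower B (B ⧸ Kp J 0) (B ⧸ J) := factorAlg_tower (pow_succ_le J 0)
  rw [← lvf_rho J hflat θ₀ hθ₀ 0 h, ← rho_phif J hflat θ₀ hθ₀ 0 h, rho_rho]

/-- the algebraisation as a bialgebra map -/
noncomputable def phiBi : H →ₐc[B] MonoidAlgebra B M :=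
  bialgOfSemi (phif J hflat θ₀ hθ₀) (isSemiCoalg_phif J hflat θ₀ hθ₀)

lemma phiBi_apply (h : H) : phiBi J hflat θ₀ hθ₀ h = phif J hflat θ₀ hθ₀ h := rfl

end phi

end Groth.Agent.Helper2.OC
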