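import Mathlib
import Groth.Prelude.Def_SGA3b
import Groth.Agent.Helper2.OCLev
import Groth.Agent.Helper2.OCKer

/-!
# The open and closed diagonalisable subgroup over a complete base: core theorem
-/

set_option autoImplicit false

namespace Groth.Agent.Helper2.OC
open TensorProduct Groth.Agent.Helper2.MultTypeSemi Groth.Agent.Helper2.SemiIso
  Groth.Agent.Helper2.NilSplit Groth.Agent.Helper2.NilLift Groth.Agent.Helper2.ADiag

universe u

section core
variable {B : Type u} [CommRing B] [IsNoetherianRing B] (J : Ideal B) [IsAdicComplete J B]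
variable {H : Type u} [CommRing H] [HopfAlgebra B H]
  (hflat : ∀ n, Module.Flat (B ⧸ Kp J n) ((B ⧸ Kp J n) ⊗[B] H))
variable {M : Type u} [CommGroup M] (θ₀ : H →ₐ[B] MonoidAlgebra (B ⧸ J) M)
  (hθ₀ : IsSemiIso B (B ⧸ J) θ₀)

include hflat hθ₀ in
theorem core_quot (hft : Algebra.FiniteType B H) :
    ∃ (φ : H →ₐc[B] MonoidAlgebra B M) (e : H), Function.Surjective φ ∧
      IsIdempotentElem e ∧ e ∈ J.map (algebraMap B H) ∧
      RingHom.ker (φ : H →ₐ[B] MonoidAlgebra B M) = Ideal.span {e} := by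
  haveI : IsNoetherianRing H := Algebra.FiniteType.isNoetherianRing B H
  have hJ : J ≤ Ideal.jacobson ⊥ := IsAdicComplete.le_jacobson_bot J
  have hs : Function.Surjective (algebraMap B (B ⧸ J)) := Ideal.Quotient.mk_surjective
  set φ := phiBi J hflat θ₀ hθ₀ with hφdef
  have h0 : ∀ m : M, ∃ c : H, (φ c).coeff m - 1 ∈ J := by
    intro m
    obtain ⟨c, hc⟩ := hθ₀.surjective B (B ⧸ J) hs (MonoidAlgebra.single m 1)
    refine ⟨c, ?_⟩
    have h1 := rho_phif_zero J hflat θ₀ hθ₀ c
    rw [hc] at h1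
    have h2 := congrArg (fun x => x.coeff m) h1
    simp only [coeff_rho, MonoidAlgebra.coeff_single, Finsupp.single_eq_same] at h2
    rw [← Ideal.Quotient.eq_zero_iff_mem, map_sub, map_one, sub_eq_zero]
    exact h2
  have hsurj : Function.Surjective φ := surjective_of_mod J hJ φ h0
  have hker : ∀ c, φ c = 0 → ∀ n : ℕ, c ∈ (J.map (algebraMap B H)) ^ n := by
    intro c hc n
    have h1 : lvf J hflat θ₀ hθ₀ n c = 0 := by
      rw [← rho_phif J hflat θ₀ hθ₀ n c]
      have : phif J hflat θ₀ hθ₀ c = 0 := hc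
      rw [this, map_zero]
    have h2 := (lvf_iso J hflat θ₀ hθ₀ n).mem_of_eq_zero B (B ⧸ Kp J n)
      Ideal.Quotient.mk_surjective c h1
    have hk : RingHom.ker (algebraMap B (B ⧸ Kp J n)) = Kp J n := Ideal.mk_ker
    rw [hk, Ideal.smul_top_eq_map, Submodule.restrictScalars_mem, Kp_def, Ideal.map_pow] at h2
    exact Ideal.pow_le_pow_right (Nat.le_succ n) h2
  obtain ⟨e, he1, he2, he3⟩ := ker_eq_span_idempotent J hJ φ hsurj hker
  exact ⟨φ, e, hsurj, he1, he2, he3⟩

end core

section wrapper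
variable {B : Type u} [CommRing B] [IsNoetherianRing B]
variable {H : Type u} [CommRing H] [HopfAlgebra B H]
variable {Bb : Type u} [CommRing Bb] [Algebra B Bb] {M : Type u} [CommGroup M]

/-- the core theorem for a surjection with adically complete kernel -/
theorem core (hs : Function.Surjective (algebraMap B Bb))
    [IsAdicComplete (RingHom.ker (algebraMap B Bb)) B]
    (hflat : ∀ n, Module.Flat (B ⧸ Kp (RingHom.ker (algebraMap B Bb)) n)
      ((B ⧸ Kp (RingHom.ker (algebraMap B Bb)) n) ⊗[B] H))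
    (hft : Algebra.FiniteType B H)
    (θ₀ : H →ₐ[B] MonoidAlgebra Bb M) (hθ₀ : IsSemiIso B Bb θ₀) :
    ∃ (φ : H →ₐc[B] MonoidAlgebra B M) (e : H), Function.Surjective φ ∧
      IsIdempotentElem e ∧ e ∈ (RingHom.ker (algebraMap B Bb)).map (algebraMap B H) ∧
      RingHom.ker (φ : H →ₐ[B] MonoidAlgebra B M) = Ideal.span {e} := by
  set J : Ideal B := RingHom.ker (algebraMap B Bb) with hJ
  let φ : B →ₐ[B] Bb := Algebra.ofId B Bb
  have hφ : Function.Surjective φ := hs
  let e : (B ⧸ RingHom.ker φ) ≃ₐ[B] Bb := Ideal.quotientKerAlgEquivOfSurjective hφ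
  letI : Algebra Bb (B ⧸ J) := (e.symm : Bb →+* (B ⧸ RingHom.ker φ)).toAlgebra
  haveI : IsScalarTower B Bb (B ⧸ J) := IsScalarTower.of_algebraMap_eq (fun b => by
    show algebraMap B (B ⧸ J) b = e.symm (algebraMap B Bb b)
    rw [e.symm.commutes]
    rfl)
  have h1 : IsSemiIso B (B ⧸ J) (((rho Bb (B ⧸ J) M).restrictScalars B).comp θ₀) :=
    isSemiIso_rho_comp (T₂ := B ⧸ J) hθ₀
  exact core_quot J hflat _ h1 hft

end wrapper

end Groth.Agent.Helper2.OC
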