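import Mathlib
import Groth.Prelude.Def_SGA3b
import Groth.Agent.Helper2.ADiag8
import Groth.Agent.Helper2.OCCore

/-!
# Lifting the splitting finite étale cover over a complete base
-/

set_option autoImplicit false

namespace Groth.Agent.Helper2.OC
open TensorProduct Groth.Agent.Helper2.MultTypeSemi Groth.Agent.Helper2.SemiIso
  Groth.Agent.Helper2.NilSplit Groth.Agent.Helper2.NilLift Groth.Agent.Helper2.ADiag

universe u

section setup
variable (A : Type u) [CommRing A] [IsNoetherianRing A] (I : Ideal A) [IsAdicComplete I A]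
variable (Rb' : Type u) [CommRing Rb'] [Algebra (A ⧸ I) Rb'] [Algebra A Rb']
  [IsScalarTower A (A ⧸ I) Rb'] [Algebra.Etale (A ⧸ I) Rb'] [Module.Finite (A ⧸ I) Rb']
  [Module.FaithfullyFlat (A ⧸ I) Rb']

theorem exists_cover :
    ∃ (B : Type u) (_ : CommRing B) (_ : Algebra A B) (_ : Algebra B Rb')
      (_ : IsScalarTower A B Rb'),
      Module.Finite A B ∧ Algebra.Etale A B ∧ Module.FaithfullyFlat A B ∧ IsNoetherianRing B ∧
      Function.Surjective (algebraMap B Rb') ∧
      RingHom.ker (algebraMap B Rb') = I.map (algebraMap A B) ∧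
      IsAdicComplete (RingHom.ker (algebraMap B Rb')) B := by
  obtain ⟨B, _, _, hBfin, hBet, ⟨eB⟩⟩ :=
    Groth.Agent.Helper3.FinPart.exists_finite_etale_lift A I Rb'
  let π : B →ₐ[A] Rb' :=
    ((eB : (A ⧸ I) ⊗[A] B →ₐ[A ⧸ I] Rb').restrictScalars A).comp
      (Algebra.TensorProduct.includeRight : B →ₐ[A] (A ⧸ I) ⊗[A] B)
  have hπs : Function.Surjective π := by
    intro y
    obtain ⟨z, rfl⟩ := eB.surjective y
    induction z using TensorProduct.induction_on with
    | zero => exact ⟨0, by simp⟩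
    | add x y hx hy =>
      obtain ⟨a, ha⟩ := hx
      obtain ⟨b, hb⟩ := hy
      exact ⟨a + b, by rw [map_add, ha, hb, map_add]⟩
    | tmul r b =>
      obtain ⟨r, rfl⟩ := Ideal.Quotient.mk_surjective r
      refine ⟨r • b, ?_⟩
      show eB ((1 : A ⧸ I) ⊗ₜ[A] (r • b)) = eB (Ideal.Quotient.mk I r ⊗ₜ[A] b)
      rw [← TensorProduct.smul_tmul, ← Ideal.Quotient.algebraMap_eq, Algebra.algebraMap_eq_smul_one]
  have hπk : RingHom.ker π = I.map (algebraMap A B) := by
    ext b
    rw [RingHom.mem_ker]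
    show eB ((1 : A ⧸ I) ⊗ₜ[A] b) = 0 ↔ _
    rw [map_eq_zero_iff _ eB.injective]
    have h1 : (1 : A ⧸ I) ⊗ₜ[A] b = 0 ↔ b ∈ LinearMap.ker (TensorProduct.mk A (A ⧸ I) B 1) := by
      rw [LinearMap.mem_ker]; rfl
    rw [h1, LinearMap.ker_tensorProductMk, Ideal.smul_top_eq_map, Submodule.restrictScalars_mem]
  letI : Algebra B Rb' := π.toRingHom.toAlgebra
  haveI : IsScalarTower A B Rb' := IsScalarTower.of_algebraMap_eq (fun r => (π.commutes r).symm)
  have hker : RingHom.ker (algebraMap B Rb') = I.map (algebraMap A B) := hπk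
  haveI hc1 : IsAdicComplete I B := isAdicComplete_of_finite' I B
  haveI hc2 : IsAdicComplete (I.map (algebraMap A B)) B :=
    (IsAdicComplete.map_algebraMap_iff (I := I) (M := B) (S := B)).mpr hc1
  have hc3 : IsAdicComplete (RingHom.ker (algebraMap B Rb')) B := by rw [hker]; exact hc2
  haveI : Module.Flat A B := inferInstance
  have hFF : Module.FaithfullyFlat A B := by
    refine ⟨fun 𝔮 h𝔮 htop => ?_⟩
    have hI𝔮 : I ≤ 𝔮 := le_of_isMaximal I 𝔮 h𝔮
    rw [Ideal.smul_top_eq_map] at htop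
    have h1 : Ideal.map (algebraMap A B) 𝔮 = ⊤ := by
      apply Submodule.restrictScalars_injective A
      rw [htop]; rfl
    have h2 : Ideal.map (algebraMap A Rb') 𝔮 = ⊤ := by
      rw [IsScalarTower.algebraMap_eq A B Rb', ← Ideal.map_map, h1, Ideal.map_top]
    have hkerq : RingHom.ker (Ideal.Quotient.mk I) ≤ 𝔮 := by rwa [Ideal.mk_ker]
    have h𝔮b : (Ideal.map (Ideal.Quotient.mk I) 𝔮).IsPrime :=
      Ideal.map_isPrime_of_surjective Ideal.Quotient.mk_surjective hkerq
    have h3 : Ideal.map (algebraMap A Rb') 𝔮 =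
        Ideal.map (algebraMap (A ⧸ I) Rb') (Ideal.map (Ideal.Quotient.mk I) 𝔮) := by
      rw [Ideal.map_map]
      rw [IsScalarTower.algebraMap_eq A (A ⧸ I) Rb']
      rfl
    rw [h3] at h2
    have h4 := Ideal.comap_map_eq_self_of_faithfullyFlat
      (B := Rb') (Ideal.map (Ideal.Quotient.mk I) 𝔮)
    rw [h2, Ideal.comap_top] at h4
    exact h𝔮b.ne_top h4.symm
  have hnoeth : IsNoetherianRing B := IsNoetherianRing.of_finite A B
  exact ⟨B, inferInstance, inferInstance, inferInstance, inferInstance, hBfin, hBet, hFF, hnoeth,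
    hπs, hker, hc3⟩

end setup

end Groth.Agent.Helper2.OC
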