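import Mathlib
import Groth.Prelude.Def_SGA3b
import Groth.Agent.Helper2.TorsDense

set_option autoImplicit false

namespace Groth.Agent.Helper2.TorsDens
open TensorProduct Groth.Agent.Helper2.MultTypeSemi Groth.Agent.Helper2.MultTypeChart

section defs
variable (Λ : Type*) [CommRing Λ] (M : Type*) [CommGroup M]

/-- the group of classes modulo `n`-th powers -/
abbrev Qn (n : ℕ) := M ⧸ (powMonoidHom n : M →* M).range

/-- the map of group algebras killing the `n`-th powers -/
noncomputable def pi (n : ℕ) : MonoidAlgebra Λ M →+* MonoidAlgebra Λ (Qn M n) :=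
  MonoidAlgebra.mapDomainRingHom Λ (QuotientGroup.mk' _)

@[simp] lemma pi_single (n : ℕ) (m : M) (r : Λ) :
    pi Λ M n (MonoidAlgebra.single m r) = MonoidAlgebra.single (QuotientGroup.mk m) r := by
  simp [pi, MonoidAlgebra.mapDomain_single]

/-- the density property: an element which vanishes on the `n`-torsion over `D(a)` for all `n`
vanishes on `D(a)` -/
def Dens : Prop :=
  ∀ a y : MonoidAlgebra Λ M, (∀ n, 0 < n → ∃ j, pi Λ M n (a ^ j * y) = 0) → ∃ j, a ^ j * y = 0

lemma mk_pow_eq_one (n : ℕ) (m : M) : ((m : Qn M n)) ^ n = 1 := by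
  rw [← QuotientGroup.mk_pow]
  exact (QuotientGroup.eq_one_iff _).mpr ⟨m, rfl⟩

lemma pi_lpow (n : ℕ) (y : MonoidAlgebra Λ M) :
    pi Λ M n (lpow Λ (MonoidAlgebra Λ M) n y) = algebraMap Λ _ (Coalgebra.counit y) := by
  induction y using MonoidAlgebra.induction_linear with
  | zero => simp
  | add x y hx hy => simp only [map_add, hx, hy]
  | single m r =>
    have h1 : ((m ^ n : M) : Qn M n) = 1 :=
      (QuotientGroup.eq_one_iff _).mpr ⟨m, rfl⟩
    rw [lpow_single, pi_single, h1]
    simp [MonoidAlgebra.coe_algebraMap]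

end defs

section tors
universe u
variable (Λ : Type u) [CommRing Λ] (M : Type u) [CommGroup M]

lemma torsionIdeal_le_ker (n : ℕ) :
    SGA3b.torsionIdeal Λ (MonoidAlgebra Λ M) n ≤ RingHom.ker (pi Λ M n) := by
  rw [SGA3b.torsionIdeal, Ideal.map_le_iff_le_comap]
  intro y hy
  rw [RingHom.mem_ker] at hy
  rw [Ideal.mem_comap, RingHom.mem_ker]
  have h1 : pi Λ M n (SGA3b.powConv Λ (MonoidAlgebra Λ M) n y) = 0 := by
    rw [powConv_eq_lpow, pi_lpow]
    have : Coalgebra.counit (R := Λ) y = 0 := hy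
    rw [this, map_zero]
  exact h1

end tors

section transfer
variable {Λ Λ' : Type*} [CommRing Λ] [CommRing Λ'] {M : Type*} [CommGroup M]

lemma mapRingHom_injective (N : Type*) [Monoid N] (f : Λ →+* Λ') (hf : Function.Injective f) :
    Function.Injective (MonoidAlgebra.mapRingHom N f) := by
  intro x y h
  apply MonoidAlgebra.coeff_injective
  ext m
  apply hf
  rw [← MonoidAlgebra.coeff_mapRingHom, ← MonoidAlgebra.coeff_mapRingHom, h]

lemma pi_mapRingHom (f : Λ →+* Λ') (n : ℕ) (x : MonoidAlgebra Λ M) :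
    pi Λ' M n (MonoidAlgebra.mapRingHom M f x) = MonoidAlgebra.mapRingHom _ f (pi Λ M n x) := by
  have := MonoidAlgebra.mapRingHom_comp_mapDomainRingHom f
    (QuotientGroup.mk' (powMonoidHom n : M →* M).range)
  exact (RingHom.congr_fun this x).symm

/-- the hypothesis of density passes to a coefficient extension -/
lemma hyp_map (f : Λ →+* Λ') {a y : MonoidAlgebra Λ M}
    (h : ∀ n, 0 < n → ∃ j, pi Λ M n (a ^ j * y) = 0) :
    ∀ n, 0 < n → ∃ j, pi Λ' M n ((MonoidAlgebra.mapRingHom M f a) ^ j *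
      MonoidAlgebra.mapRingHom M f y) = 0 := by
  intro n hn
  obtain ⟨j, hj⟩ := h n hn
  refine ⟨j, ?_⟩
  rw [← map_pow, ← map_mul, pi_mapRingHom, hj, map_zero]

lemma Dens.of_injective (f : Λ →+* Λ') (hf : Function.Injective f) (h : Dens Λ' M) :
    Dens Λ M := by
  intro a y hay
  obtain ⟨j, hj⟩ := h _ _ (hyp_map f hay)
  refine ⟨j, ?_⟩
  apply mapRingHom_injective M f hf
  rw [map_mul, map_pow, hj, map_zero]

/-- descent of one instance of the density property to a subring of coefficients -/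
lemma dens_instance_of_injective (f : Λ →+* Λ') (hf : Function.Injective f) (h : Dens Λ M)
    (a₀ y₀ : MonoidAlgebra Λ M)
    (hay : ∀ n, 0 < n → ∃ j, pi Λ' M n ((MonoidAlgebra.mapRingHom M f a₀) ^ j *
      MonoidAlgebra.mapRingHom M f y₀) = 0) :
    ∃ j, (MonoidAlgebra.mapRingHom M f a₀) ^ j * MonoidAlgebra.mapRingHom M f y₀ = 0 := by
  have h0 : ∀ n, 0 < n → ∃ j, pi Λ M n (a₀ ^ j * y₀) = 0 := by
    intro n hn
    obtain ⟨j, hj⟩ := hay n hn
    refine ⟨j, ?_⟩
    apply mapRingHom_injective _ f hf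
    rw [← pi_mapRingHom, map_mul, map_pow, hj, map_zero]
  obtain ⟨j, hj⟩ := h a₀ y₀ h0
  exact ⟨j, by rw [← map_pow, ← map_mul, hj, map_zero]⟩

end transfer

end Groth.Agent.Helper2.TorsDens
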