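import Mathlib
import Groth.Prelude.Def_SGA3b
import Groth.Agent.Helper2.TorsDens1

set_option autoImplicit false

namespace Groth.Agent.Helper2.TorsDens
open TensorProduct

section sep
variable {Λ : Type*} [CommRing Λ] {M : Type*} [CommGroup M]

/-- an element whose support is separated modulo `n`-th powers and which dies modulo `n`-th powers
is zero -/
lemma eq_zero_of_pi_eq_zero (w : MonoidAlgebra Λ M) (n : ℕ)
    (hinj : ∀ s ∈ w.coeff.support, ∀ t ∈ w.coeff.support, (∃ h : M, h ^ n = s * t⁻¹) → s = t)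
    (h1 : pi Λ M n w = 0) : w = 0 := by
  classical
  have hf : Set.InjOn (QuotientGroup.mk' (powMonoidHom n : M →* M).range)
      (w.coeff.support : Set M) := by
    intro s hs t ht hst
    have h2 : s⁻¹ * t ∈ (powMonoidHom n : M →* M).range := QuotientGroup.eq.mp hst
    obtain ⟨h, hh⟩ := h2
    have h3 : t = s := hinj t ht s hs ⟨h, by rw [mul_comm]; exact hh⟩
    exact h3.symm
  have h2 := Finsupp.mapDomain_injOn (M := Λ) (w.coeff.support : Set M) hf
  have h3 : Finsupp.mapDomain (QuotientGroup.mk' (powMonoidHom n : M →* M).range) w.coeff =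
      Finsupp.mapDomain (QuotientGroup.mk' (powMonoidHom n : M →* M).range) (0 : M →₀ Λ) := by
    rw [Finsupp.mapDomain_zero]
    have := congrArg MonoidAlgebra.coeff h1
    simpa [pi] using this
  have h4 := h2 (show w.coeff ∈ {v : M →₀ Λ | (v.support : Set M) ⊆ w.coeff.support} from
    Set.Subset.refl _) (show (0 : M →₀ Λ) ∈ {v : M →₀ Λ | (v.support : Set M) ⊆ w.coeff.support} by
    simp) h3
  exact MonoidAlgebra.coeff_injective (by simpa using h4)

end sep

section field
variable (K : Type*) [Field K] (M : Type*) [CommGroup M] [Group.FG M]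

lemma finite_Qn (n : ℕ) (hn : 0 < n) : Finite (Qn M n) := by
  haveI : Group.FG (Qn M n) := inferInstance
  apply CommGroup.finite_of_fg_torsion
  intro g
  obtain ⟨m, rfl⟩ := QuotientGroup.mk_surjective g
  exact isOfFinOrder_iff_pow_eq_one.mpr ⟨n, hn, mk_pow_eq_one M n m⟩

lemma card_ne_zero (p : ℕ) [CharP K p] (n : ℕ) (hn : 0 < n) (hpn : ¬ p ∣ n) :
    ((Nat.card (Qn M n) : ℕ) : K) ≠ 0 := by
  haveI := finite_Qn M n hn
  rw [Ne, CharP.cast_eq_zero_iff K p]
  intro hdvd
  rcases (CharP.char_is_prime_or_zero K p) with hp | hp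
  · haveI : Fact p.Prime := ⟨hp⟩
    obtain ⟨x, hx⟩ := exists_prime_orderOf_dvd_card' p hdvd
    obtain ⟨m, rfl⟩ := QuotientGroup.mk_surjective x
    apply hpn
    rw [← hx]
    exact orderOf_dvd_of_pow_eq_one (mk_pow_eq_one M n m)
  · subst hp
    rw [zero_dvd_iff] at hdvd
    exact (Nat.card_pos (α := Qn M n)).ne' hdvd

lemma isReduced_Qn (p : ℕ) [CharP K p] (n : ℕ) (hn : 0 < n) (hpn : ¬ p ∣ n) :
    IsReduced (MonoidAlgebra K (Qn M n)) := by
  haveI := finite_Qn M n hn
  haveI : NeZero ((Nat.card (Qn M n) : ℕ) : K) := ⟨card_ne_zero K M p n hn hpn⟩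
  haveI : IsSemisimpleRing (MonoidAlgebra K (Qn M n)) :=
    (inferInstance : IsSemisimpleModule (MonoidAlgebra K (Qn M n)) (MonoidAlgebra K (Qn M n)))
  infer_instance

theorem dens_field (htf : ∀ (m : M) (n : ℕ), 0 < n → m ^ n = 1 → m = 1) : Dens K M := by
  intro a y hay
  refine ⟨1, ?_⟩
  rw [pow_one]
  haveI : CharP K (ringChar K) := ringChar.charP K
  have hp : ringChar K = 0 ∨ (ringChar K).Prime :=
    (CharP.char_is_prime_or_zero K (ringChar K)).symm
  have key : ∀ n, 0 < n → ¬ ringChar K ∣ n → pi K M n (a * y) = 0 := by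
    intro n hn hpn
    haveI := isReduced_Qn K M (ringChar K) n hn hpn
    obtain ⟨j, hj⟩ := hay n hn
    apply IsReduced.eq_zero
    refine ⟨j + 1, ?_⟩
    have h1 : (a * y) ^ (j + 1) = (a ^ j * y) * (y ^ j * a) := by ring
    rw [← map_pow, h1, map_mul, hj, zero_mul]
  obtain ⟨n, hn, hpn, hinj⟩ := Groth.Agent.Helper2.AbResFin.exists_pow_injOn M (ringChar K) hp
    (fun hp0 m hm => htf m _ (Nat.pos_of_ne_zero hp0) hm) (a * y).coeff.support
  exact eq_zero_of_pi_eq_zero _ n hinj (key n hn hpn)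

end field

end Groth.Agent.Helper2.TorsDens
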