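import Mathlib
import Groth.Prelude.Def_SGA3b
import Groth.Agent.Helper2.TorsDens2

set_option autoImplicit false

namespace Groth.Agent.Helper2.TorsDens
open TensorProduct

section ker
variable {Λ : Type*} [CommRing Λ] {N : Type*} [Monoid N]

lemma coeff_mem_of_map_eq_zero (I : Ideal Λ) (w : MonoidAlgebra Λ N)
    (h : MonoidAlgebra.mapRingHom N (Ideal.Quotient.mk I) w = 0) (m : N) : w.coeff m ∈ I := by
  rw [← Ideal.Quotient.eq_zero_iff_mem, ← MonoidAlgebra.coeff_mapRingHom, h]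
  simp

lemma map_eq_zero_of_coeff_mem (I : Ideal Λ) (w : MonoidAlgebra Λ N)
    (h : ∀ m, w.coeff m ∈ I) : MonoidAlgebra.mapRingHom N (Ideal.Quotient.mk I) w = 0 := by
  apply MonoidAlgebra.coeff_injective
  ext m
  rw [MonoidAlgebra.coeff_mapRingHom, Ideal.Quotient.eq_zero_iff_mem.mpr (h m)]
  simp

lemma exists_smul_of_map_eq_zero (x : Λ) (w : MonoidAlgebra Λ N)
    (h : MonoidAlgebra.mapRingHom N (Ideal.Quotient.mk (Ideal.span {x})) w = 0) :
    ∃ z : MonoidAlgebra Λ N, w = x • z := by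
  classical
  have hc : ∀ m, ∃ c, w.coeff m = x * c := fun m => by
    have := coeff_mem_of_map_eq_zero _ w h m
    obtain ⟨c, hc⟩ := Ideal.mem_span_singleton'.mp this
    exact ⟨c, by rw [← hc, mul_comm]⟩
  choose g hg using hc
  refine ⟨∑ m ∈ w.coeff.support, MonoidAlgebra.single m (g m), ?_⟩
  rw [Finset.smul_sum]
  conv_lhs => rw [← MonoidAlgebra.sum_coeff_single w, Finsupp.sum]
  refine Finset.sum_congr rfl (fun m _ => ?_)
  rw [MonoidAlgebra.smul_single, smul_eq_mul, ← hg]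

end ker

section noeth
universe u
variable (M : Type*) [CommGroup M] [Group.FG M]

theorem dens_domain (htf : ∀ (m : M) (n : ℕ), 0 < n → m ^ n = 1 → m = 1)
    (Λ : Type*) [CommRing Λ] [IsDomain Λ] : Dens Λ M :=
  Dens.of_injective (algebraMap Λ (FractionRing Λ)) (IsFractionRing.injective _ _)
    (dens_field (FractionRing Λ) M htf)

lemma pi_smul {Λ : Type*} [CommRing Λ] (n : ℕ) (x : Λ) (w : MonoidAlgebra Λ M) :
    pi Λ M n (x • w) = x • pi Λ M n w := by
  induction w using MonoidAlgebra.induction_linear with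
  | zero => simp
  | add a b ha hb => simp only [smul_add, map_add, ha, hb]
  | single m r => simp [MonoidAlgebra.smul_single]

theorem dens_step (htf : ∀ (m : M) (n : ℕ), 0 < n → m ^ n = 1 → m = 1)
    (Λ : Type u) [CommRing Λ] [IsNoetherianRing Λ]
    (IH : ∀ J : Ideal Λ, J ≠ ⊥ → Dens (Λ ⧸ J) M) : Dens Λ M := by
  by_cases hsub : Subsingleton Λ
  · intro a y _
    refine ⟨0, ?_⟩
    apply MonoidAlgebra.coeff_injective
    ext m
    exact Subsingleton.elim _ _
  haveI : Nontrivial Λ := not_subsingleton_iff_nontrivial.mp hsub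
  by_cases hdom : (⊥ : Ideal Λ).IsPrime
  · haveI : IsDomain Λ := IsDomain.of_bot_isPrime Λ
    exact dens_domain M htf Λ
  obtain ⟨𝔭, h𝔭⟩ := associatedPrimes.nonempty Λ Λ
  obtain ⟨hprime, x, hx⟩ := isAssociatedPrime_iff.mp h𝔭
  have hmem : ∀ r : Λ, r ∈ 𝔭 ↔ x * r = 0 := by
    intro r
    rw [hx, Submodule.mem_colon_singleton, Submodule.mem_bot, smul_eq_mul, mul_comm]
  have h𝔭0 : 𝔭 ≠ ⊥ := fun h => hdom (h ▸ hprime)
  have hx0 : x ≠ 0 := by
    rintro rfl
    apply hprime.ne_top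
    rw [eq_top_iff]
    intro r _
    rw [hmem, zero_mul]
  have hxs : Ideal.span {x} ≠ ⊥ := by
    rw [Ne, Ideal.span_singleton_eq_bot]
    exact hx0
  intro a y hay
  -- step 1: modulo `x`
  obtain ⟨j₁, hj₁⟩ := IH _ hxs _ _ (hyp_map (Ideal.Quotient.mk (Ideal.span {x})) hay)
  rw [← map_pow, ← map_mul] at hj₁
  obtain ⟨z, hz⟩ := exists_smul_of_map_eq_zero x _ hj₁
  -- step 2: modulo `𝔭`
  have hz' : ∀ n, 0 < n → ∃ j, pi (Λ ⧸ 𝔭) M n
      ((MonoidAlgebra.mapRingHom M (Ideal.Quotient.mk 𝔭) a) ^ j *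
        MonoidAlgebra.mapRingHom M (Ideal.Quotient.mk 𝔭) z) = 0 := by
    intro n hn
    obtain ⟨j, hj⟩ := hay n hn
    refine ⟨j, ?_⟩
    have h1 : pi Λ M n (a ^ j * (a ^ j₁ * y)) = 0 := by
      have : a ^ j * (a ^ j₁ * y) = a ^ j₁ * (a ^ j * y) := by ring
      rw [this, map_mul, hj, mul_zero]
    rw [hz, mul_smul_comm, pi_smul] at h1
    rw [← map_pow, ← map_mul, pi_mapRingHom]
    apply map_eq_zero_of_coeff_mem
    intro m
    rw [hmem]
    have := congrArg (fun v => v.coeff m) h1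
    simpa using this
  obtain ⟨j₂, hj₂⟩ := IH _ h𝔭0 _ _ hz'
  rw [← map_pow, ← map_mul] at hj₂
  refine ⟨j₂ + j₁, ?_⟩
  have h2 : x • (a ^ j₂ * z) = 0 := by
    apply MonoidAlgebra.coeff_injective
    ext m
    have := (hmem _).mp (coeff_mem_of_map_eq_zero 𝔭 _ hj₂ m)
    simpa using this
  rw [pow_add, mul_assoc, hz, mul_smul_comm, h2]

end noeth

end Groth.Agent.Helper2.TorsDens
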