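import Mathlib
import Groth.Prelude.Def_SGA3b
import Groth.Agent.Helper2.TorsDens3

set_option autoImplicit false

namespace Groth.Agent.Helper2.TorsDens
open TensorProduct

section general
universe u
variable (M : Type*) [CommGroup M] [Group.FG M]

theorem dens_noeth_aux (htf : ∀ (m : M) (n : ℕ), 0 < n → m ^ n = 1 → m = 1)
    (Λ₀ : Type u) [CommRing Λ₀] [IsNoetherianRing Λ₀] (I : Ideal Λ₀) :
    ∀ (Λ : Type u) [CommRing Λ] (f : Λ₀ →+* Λ), Function.Surjective f → RingHom.ker f = I →
      Dens Λ M := by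
  induction I using IsNoetherian.induction with
  | hgt I IH =>
    intro Λ _ f hf hker
    haveI : IsNoetherianRing Λ := isNoetherianRing_of_surjective Λ₀ Λ f hf
    apply dens_step M htf Λ
    intro J' hJ'
    refine IH (RingHom.ker ((Ideal.Quotient.mk J').comp f)) ?_ (Λ ⧸ J')
      ((Ideal.Quotient.mk J').comp f) (Ideal.Quotient.mk_surjective.comp hf) rfl
    rw [gt_iff_lt, SetLike.lt_iff_le_and_exists]
    constructor
    · intro r hr
      rw [← hker, RingHom.mem_ker] at hr
      rw [RingHom.mem_ker, RingHom.comp_apply, hr, map_zero]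
    · obtain ⟨r, hr, hr0⟩ := Submodule.exists_mem_ne_zero_of_ne_bot hJ'
      obtain ⟨r₀, rfl⟩ := hf r
      refine ⟨r₀, ?_, ?_⟩
      · rw [RingHom.mem_ker, RingHom.comp_apply]
        exact Ideal.Quotient.eq_zero_iff_mem.mpr hr
      · rw [← hker, RingHom.mem_ker]
        exact hr0

theorem dens_noeth (htf : ∀ (m : M) (n : ℕ), 0 < n → m ^ n = 1 → m = 1)
    (Λ : Type u) [CommRing Λ] [IsNoetherianRing Λ] : Dens Λ M :=
  dens_noeth_aux M htf Λ ⊥ Λ (RingHom.id Λ) Function.surjective_id
    (by ext r; simp [RingHom.mem_ker])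

lemma exists_preimage {Λ₀ Λ : Type*} [CommRing Λ₀] [CommRing Λ] (f : Λ₀ →+* Λ)
    (w : MonoidAlgebra Λ M) (h : ∀ m, ∃ c, f c = w.coeff m) :
    ∃ w₀ : MonoidAlgebra Λ₀ M, MonoidAlgebra.mapRingHom M f w₀ = w := by
  classical
  choose g hg using h
  refine ⟨∑ m ∈ w.coeff.support, MonoidAlgebra.single m (g m), ?_⟩
  rw [map_sum]
  conv_rhs => rw [← MonoidAlgebra.sum_coeff_single w, Finsupp.sum]
  refine Finset.sum_congr rfl (fun m _ => ?_)
  rw [MonoidAlgebra.mapRingHom_single, hg]

/-- density of the torsion for a finitely generated torsion-free group, over any ring -/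
theorem dens_tf (htf : ∀ (m : M) (n : ℕ), 0 < n → m ^ n = 1 → m = 1)
    (Λ : Type u) [CommRing Λ] : Dens Λ M := by
  classical
  intro a y hay
  let S : Finset Λ := a.coeff.support.image a.coeff ∪ y.coeff.support.image y.coeff
  let Λ₀ : Subalgebra ℤ Λ := Algebra.adjoin ℤ (S : Set Λ)
  haveI : Algebra.FiniteType ℤ Λ₀ :=
    (Subalgebra.fg_iff_finiteType Λ₀).mp (Subalgebra.fg_adjoin_finset S)
  haveI : IsNoetherianRing Λ₀ := Algebra.FiniteType.isNoetherianRing ℤ _
  let f : Λ₀ →+* Λ := Λ₀.val.toRingHom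
  have hf : Function.Injective f := Subtype.val_injective
  have hmem : ∀ (w : MonoidAlgebra Λ M), w.coeff.support.image w.coeff ⊆ S →
      ∀ m, ∃ c, f c = w.coeff m := by
    intro w hw m
    by_cases hm : m ∈ w.coeff.support
    · have : w.coeff m ∈ (S : Set Λ) := hw (Finset.mem_image_of_mem _ hm)
      exact ⟨⟨w.coeff m, Algebra.subset_adjoin this⟩, rfl⟩
    · rw [Finsupp.notMem_support_iff] at hm
      exact ⟨0, by rw [map_zero, hm]⟩
  obtain ⟨a₀, ha₀⟩ := exists_preimage M f a (hmem a Finset.subset_union_left)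
  obtain ⟨y₀, hy₀⟩ := exists_preimage M f y (hmem y Finset.subset_union_right)
  have := dens_instance_of_injective f hf (dens_noeth M htf Λ₀) a₀ y₀
    (by rw [ha₀, hy₀]; exact hay)
  rw [ha₀, hy₀] at this
  exact this

end general

end Groth.Agent.Helper2.TorsDens
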