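import Mathlib
import Groth.Prelude.Def_SGA3b
import Groth.Agent.Helper2.TorsDens4

set_option autoImplicit false

namespace Groth.Agent.Helper2.TorsDens
open TensorProduct

section equiv
variable {Λ : Type*} [CommRing Λ] {M M₂ : Type*} [CommGroup M] [CommGroup M₂]

/-- the map induced on classes modulo `n`-th powers -/
def qmap (e : M →* M₂) (n : ℕ) : Qn M n →* Qn M₂ n :=
  QuotientGroup.map _ _ e (by
    rintro x ⟨h, rfl⟩
    exact ⟨e h, by simp⟩)

lemma pi_mapDomain (e : M →* M₂) (n : ℕ) (x : MonoidAlgebra Λ M) :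
    pi Λ M₂ n (MonoidAlgebra.mapDomainRingHom Λ e x) =
      MonoidAlgebra.mapDomainRingHom Λ (qmap e n) (pi Λ M n x) := by
  have h : (pi Λ M₂ n).comp (MonoidAlgebra.mapDomainRingHom Λ e) =
      (MonoidAlgebra.mapDomainRingHom Λ (qmap e n)).comp (pi Λ M n) := by
    rw [pi, pi, ← MonoidAlgebra.mapDomainRingHom_comp, ← MonoidAlgebra.mapDomainRingHom_comp]
    congr 1
  exact RingHom.congr_fun h x

lemma Dens.of_mulEquiv (e : M ≃* M₂) (h : Dens Λ M₂) : Dens Λ M := by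
  intro a y hay
  have hinj : Function.Injective (MonoidAlgebra.mapDomainRingHom Λ e.toMonoidHom) :=
    MonoidAlgebra.mapDomain_injective e.injective
  have h1 : ∀ n, 0 < n → ∃ j, pi Λ M₂ n
      ((MonoidAlgebra.mapDomainRingHom Λ e.toMonoidHom a) ^ j *
        MonoidAlgebra.mapDomainRingHom Λ e.toMonoidHom y) = 0 := by
    intro n hn
    obtain ⟨j, hj⟩ := hay n hn
    exact ⟨j, by rw [← map_pow, ← map_mul, pi_mapDomain, hj, map_zero]⟩
  obtain ⟨j, hj⟩ := h _ _ h1
  refine ⟨j, hinj ?_⟩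
  rw [map_mul, map_pow, hj, map_zero]

end equiv

section prod
variable (Λ : Type*) [CommRing Λ] (M' Φ : Type*) [CommGroup M'] [CommGroup Φ]

/-- the comparison of classes of the product -/
def psi (n e : ℕ) (hΦ : ∀ φ : Φ, φ ^ e = 1) : Qn (M' × Φ) (n * e) →* Qn M' n × Φ :=
  QuotientGroup.lift _ ((QuotientGroup.mk' _).prodMap (MonoidHom.id Φ)) (by
    rintro x ⟨⟨m, φ⟩, rfl⟩
    rw [MonoidHom.mem_ker]
    refine Prod.ext ?_ ?_
    · show ((QuotientGroup.mk' (powMonoidHom n : M' →* M').range) ((m ^ (n * e))) = 1)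
      rw [QuotientGroup.mk'_apply, QuotientGroup.eq_one_iff]
      exact ⟨m ^ e, by simp [← pow_mul, mul_comm]⟩
    · show φ ^ (n * e) = 1
      rw [mul_comm, pow_mul, hΦ, one_pow])

lemma psi_mk (n e : ℕ) (hΦ : ∀ φ : Φ, φ ^ e = 1) (m : M') (φ : Φ) :
    psi M' Φ n e hΦ (QuotientGroup.mk (m, φ)) = (QuotientGroup.mk m, φ) := rfl

theorem dens_prod (e : ℕ) (he : 0 < e) (hΦ : ∀ φ : Φ, φ ^ e = 1)
    (h : Dens (MonoidAlgebra Λ Φ) M') : Dens Λ (M' × Φ) := by
  intro a y hay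
  have hcomm : ∀ n : ℕ, (((MonoidAlgebra.curryRingEquiv :
        MonoidAlgebra Λ (Qn M' n × Φ) ≃+* _) : _ →+* _).comp
      (MonoidAlgebra.mapDomainRingHom Λ (psi M' Φ n e hΦ))).comp (pi Λ (M' × Φ) (n * e)) =
      (pi (MonoidAlgebra Λ Φ) M' n).comp
        ((MonoidAlgebra.curryRingEquiv : MonoidAlgebra Λ (M' × Φ) ≃+* _) : _ →+* _) := by
    intro n
    apply MonoidAlgebra.ringHom_ext
    · intro r
      have h1 : (1 : M' × Φ) = ((1 : M'), (1 : Φ)) := rfl
      simp only [RingHom.comp_apply, RingHom.coe_coe, h1, pi_single,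
        MonoidAlgebra.mapDomainRingHom_apply, MonoidAlgebra.mapDomain_single, psi_mk,
        MonoidAlgebra.curryRingEquiv_single]
    · rintro ⟨m, φ⟩
      simp only [RingHom.comp_apply, RingHom.coe_coe, pi_single,
        MonoidAlgebra.mapDomainRingHom_apply, MonoidAlgebra.mapDomain_single, psi_mk,
        MonoidAlgebra.curryRingEquiv_single]
  have h1 : ∀ n, 0 < n → ∃ j, pi (MonoidAlgebra Λ Φ) M' n
      ((MonoidAlgebra.curryRingEquiv a) ^ j * MonoidAlgebra.curryRingEquiv y) = 0 := by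
    intro n hn
    obtain ⟨j, hj⟩ := hay (n * e) (Nat.mul_pos hn he)
    refine ⟨j, ?_⟩
    have := RingHom.congr_fun (hcomm n) (a ^ j * y)
    rw [RingHom.comp_apply, hj, map_zero, RingHom.comp_apply] at this
    rw [← map_pow, ← map_mul]
    exact this.symm
  obtain ⟨j, hj⟩ := h _ _ h1
  refine ⟨j, ?_⟩
  rw [← map_pow, ← map_mul] at hj
  exact (MonoidAlgebra.curryRingEquiv (R := Λ) (M := M') (N := Φ)).injective (by rw [hj, map_zero])

end prod

end Groth.Agent.Helper2.TorsDens
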