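import Mathlib
import Groth.Prelude.Def_SGA3b
import Groth.Agent.Helper2.TorsDens5

set_option autoImplicit false

namespace Groth.Agent.Helper2.TorsDens
open TensorProduct

universe u

/-- density of the torsion in a group algebra of a finitely generated commutative group, over any
ring -/
theorem dens_fg (Λ : Type u) [CommRing Λ] (M : Type*) [CommGroup M] [Group.FG M] : Dens Λ M := by
  classical
  obtain ⟨ι, j, _, _, p, hp, e, ⟨φ⟩⟩ := CommGroup.equiv_free_prod_prod_multiplicative_zmod M
  apply Dens.of_mulEquiv φ
  haveI : ∀ i, NeZero (p i ^ e i) := fun i => ⟨pow_ne_zero _ (hp i).ne_zero⟩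
  haveI : ∀ i, Fintype (Multiplicative (ZMod (p i ^ e i))) := fun i =>
    inferInstanceAs (Fintype (ZMod (p i ^ e i)))
  apply dens_prod Λ (j → Multiplicative ℤ) ((i : ι) → Multiplicative (ZMod (p i ^ e i)))
    (Fintype.card ((i : ι) → Multiplicative (ZMod (p i ^ e i)))) Fintype.card_pos
    (fun x => pow_card_eq_one)
  haveI : Group.FG (j → Multiplicative ℤ) := by
    have hs : Function.Surjective ((MonoidHom.fst (j → Multiplicative ℤ)
        ((i : ι) → Multiplicative (ZMod (p i ^ e i)))).comp φ.toMonoidHom) := by
      intro x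
      obtain ⟨m, hm⟩ := φ.surjective (x, 1)
      exact ⟨m, by simp [hm]⟩
    exact Group.fg_of_surjective hs
  apply dens_tf
  intro m n hn hm
  funext i
  have h1 : (m i) ^ n = 1 := congrFun hm i
  have h2 : n • Multiplicative.toAdd (m i) = 0 := by
    have := congrArg Multiplicative.toAdd h1
    simpa using this
  rw [nsmul_eq_mul, mul_eq_zero] at h2
  rcases h2 with h2 | h2
  · exact absurd (by exact_mod_cast h2) hn.ne'
  · exact Multiplicative.toAdd.injective h2

end Groth.Agent.Helper2.TorsDens
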