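import Mathlib
import Groth.Prelude.Def_SGA3b
import Groth.Agent.Helper2.TorsDens6
import Groth.Agent.Helper2.NilApp

set_option autoImplicit false

namespace Groth.Agent.Helper2.TorsDens
open TensorProduct Groth.Agent.Helper2.MultTypeSemi Groth.Agent.Helper2.SemiIso
  Groth.Agent.Helper2.NilLift Groth.Agent.Helper2.FamDesc

universe u

section assembly
variable {R : Type u} [CommRing R] {A : Type u} [CommRing A] [HopfAlgebra R A]

lemma group_fg_of_chart (hft : Algebra.FiniteType R A) {T : Type u} [CommRing T] [Algebra R T]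
    [Nontrivial T] {N : Type u} [CommGroup N] {θ : A →ₐ[R] MonoidAlgebra T N}
    (hθ : IsSemiIso R T θ) : Group.FG N := by
  haveI := hft
  haveI : Algebra.FiniteType T (T ⊗[R] A) := inferInstance
  have hs : Function.Surjective (liftMap R T θ) := (liftMap_bijective hθ).2
  haveI : Algebra.FiniteType T (MonoidAlgebra T N) :=
    Algebra.FiniteType.of_surjective (liftMap R T θ) hs
  exact (MonoidAlgebra.finiteType_iff_group_fg (R := T)).mp inferInstance

lemma chart_kill {T : Type u} [CommRing T] [Algebra R T] {N : Type u} [CommGroup N]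
    {θ : A →ₐ[R] MonoidAlgebra T N} (hθ : IsSemiIso R T θ) (hfg : Nontrivial T → Group.FG N)
    (a y : A) (h : ∀ n, 0 < n → ∃ j, a ^ j * y ∈ SGA3b.torsionIdeal R A n) :
    ∃ j, θ (a ^ j * y) = 0 := by
  by_cases hT : Nontrivial T
  · haveI := hfg hT
    obtain ⟨j, hj⟩ := dens_fg T N (θ a) (θ y) (fun n hn => by
      obtain ⟨j, hj⟩ := h n hn
      refine ⟨j, ?_⟩
      rw [← map_pow, ← map_mul]
      exact torsionIdeal_le_ker T N n
        (Groth.Agent.Helper2.TorsDense.map_mem_torsionIdeal hθ.1 n hj))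
    exact ⟨j, by rw [map_mul, map_pow]; exact hj⟩
  · haveI : Subsingleton T := not_nontrivial_iff_subsingleton.mp hT
    refine ⟨0, ?_⟩
    apply MonoidAlgebra.coeff_injective
    ext m
    exact Subsingleton.elim _ _

theorem iInf_eq_bot_of_fam (F : Type u) [Fintype F] [DecidableEq F] (T : F → Type u)
    [∀ f, CommRing (T f)]
    [∀ f, Algebra R (T f)] [Module.FaithfullyFlat R (Π f, T f)] (N : F → Type u)
    [∀ f, CommGroup (N f)] (θ : ∀ f, A →ₐ[R] MonoidAlgebra (T f) (N f))
    (hθ : ∀ f, IsSemiIso R (T f) (θ f)) (hfg : ∀ f, Nontrivial (T f) → Group.FG (N f)) (a : A) :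
    ⨅ n : {n : ℕ // 0 < n}, Ideal.map (algebraMap A (Localization.Away a))
      (SGA3b.torsionIdeal R A n.1) = ⊥ := by
  rw [eq_bot_iff]
  intro x hx
  rw [Ideal.mem_iInf] at hx
  obtain ⟨⟨y, s⟩, hys⟩ := IsLocalization.surj (Submonoid.powers a) x
  have h1 : ∀ n, 0 < n → ∃ j, a ^ j * y ∈ SGA3b.torsionIdeal R A n := by
    intro n hn
    have h2 : algebraMap A (Localization.Away a) y ∈
        Ideal.map (algebraMap A (Localization.Away a)) (SGA3b.torsionIdeal R A n) := by
      rw [← hys]
      exact Ideal.mul_mem_right _ _ (hx ⟨n, hn⟩)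
    rw [IsLocalization.algebraMap_mem_map_algebraMap_iff (Submonoid.powers a)] at h2
    obtain ⟨m, ⟨j, rfl⟩, hm⟩ := h2
    exact ⟨j, hm⟩
  choose j hj using fun f => chart_kill (hθ f) (hfg f) a y h1
  have h3 : a ^ (∑ f, j f) * y = 0 := by
    apply joint_inj (B := R) T A
    intro f
    apply (hθ f).2.1
    rw [map_zero, LinearMap.liftBaseChange_tmul, one_smul]
    have h4 : ∑ f', j f' = (∑ f' ∈ Finset.univ.erase f, j f') + j f :=
      (Finset.sum_erase_add _ _ (Finset.mem_univ f)).symm
    show θ f (a ^ (∑ f', j f') * y) = 0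
    rw [h4, pow_add, mul_assoc, map_mul, hj f, mul_zero]
  have h5 : algebraMap A (Localization.Away a) y = 0 := by
    have h6 := congrArg (algebraMap A (Localization.Away a)) h3
    rw [map_mul, map_pow, map_zero] at h6
    have hu : IsUnit (algebraMap A (Localization.Away a) a) :=
      IsLocalization.map_units (Localization.Away a) (⟨a, Submonoid.mem_powers a⟩ : Submonoid.powers a)
    exact (hu.pow _).mul_right_eq_zero.mp h6
  rw [h5] at hys
  have hu : IsUnit (algebraMap A (Localization.Away a) s) := IsLocalization.map_units _ s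
  rw [Ideal.mem_bot]
  exact hu.mul_left_eq_zero.mp hys

end assembly

section main
variable (R : Type u) [CommRing R] (A : Type u) [CommRing A] [HopfAlgebra R A]

theorem s2981 (hft : Algebra.FiniteType R A) (h : SGA3b.IsMultType R A) (a : A) :
    ⨅ n : {n : ℕ // 0 < n}, Ideal.map (algebraMap A (Localization.Away a))
      (SGA3b.torsionIdeal R A n.1) = ⊥ := by
  classical
  obtain ⟨s, hs, hf⟩ := h
  obtain ⟨s₀, hs₀, hspan⟩ := (Ideal.span_eq_top_iff_finite s).mp hs
  have hch : ∀ f : (s₀ : Set R), ∃ (R' : Type u) (_ : CommRing R')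
      (_ : Algebra (Localization.Away f.1) R') (_ : Algebra R R')
      (_ : IsScalarTower R (Localization.Away f.1) R'),
      Module.FaithfullyFlat (Localization.Away f.1) R' ∧ Module.Flat R R' ∧
      ∃ (N : Type u) (_ : CommGroup N) (θ : A →ₐ[R] MonoidAlgebra R' N), IsSemiIso R R' θ :=
    fun f => GLikeLI.exists_chart (R := R) (Q := A) f.1 (hf f.1 (hs₀ f.2))
  choose T cr algf alg tower hff hfl N grp θ hθ using hch
  haveI : ∀ f, Module.FaithfullyFlat (Localization.Away f.1) (T f) := hff
  haveI : Module.FaithfullyFlat R (Π f : (s₀ : Set R), T f) :=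
    faithfullyFlat_pi_of_away (fun f : (s₀ : Set R) => T f) (fun f => f.1)
      (by rw [Subtype.range_coe]; exact hspan)
  exact iInf_eq_bot_of_fam (s₀ : Set R) T N θ hθ
    (fun f hnt => by haveI := hnt; exact group_fg_of_chart hft (hθ f)) a

end main

end Groth.Agent.Helper2.TorsDens
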