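import Mathlib
import Groth.Prelude.Def_SGA3b
import Groth.Agent.Helper2.TorsDens7

set_option autoImplicit false

namespace Groth.Agent.Helper2.TorsFin
open TensorProduct Groth.Agent.Helper2.MultTypeSemi Groth.Agent.Helper2.MultTypeChart
  Groth.Agent.Helper2.SemiIso Groth.Agent.Helper2.TorsDens Groth.Agent.Helper2.NilLift

universe u

section kerpi
variable (Λ : Type u) [CommRing Λ] (M : Type u) [CommGroup M]

/-- the ideal generated by the `h ^ n - 1` -/
noncomputable def K0 (n : ℕ) : Ideal (MonoidAlgebra Λ M) :=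
  Ideal.span (Set.range fun h : M => MonoidAlgebra.single (h ^ n) (1 : Λ) - 1)

lemma K0_le_torsionIdeal (n : ℕ) : K0 Λ M n ≤ SGA3b.torsionIdeal Λ (MonoidAlgebra Λ M) n := by
  rw [K0, Ideal.span_le]
  rintro _ ⟨h, rfl⟩
  have h1 : MonoidAlgebra.single h (1 : Λ) - 1 ∈
      RingHom.ker (Bialgebra.counitAlgHom Λ (MonoidAlgebra Λ M)) := by
    rw [RingHom.mem_ker, map_sub, map_one]
    simp
  have h2 : SGA3b.powConv Λ (MonoidAlgebra Λ M) n (MonoidAlgebra.single h (1 : Λ) - 1) =
      MonoidAlgebra.single (h ^ n) (1 : Λ) - 1 := by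
    rw [map_sub, map_one, powConv_eq_lpow, lpow_single]
  show MonoidAlgebra.single (h ^ n) (1 : Λ) - 1 ∈ _
  rw [← h2]
  exact Ideal.mem_map_of_mem _ h1

/-- the class of a group element modulo `K0` -/
noncomputable def cls (n : ℕ) : M →* (MonoidAlgebra Λ M ⧸ K0 Λ M n) :=
  ((Ideal.Quotient.mk (K0 Λ M n) : MonoidAlgebra Λ M →+* _) : MonoidAlgebra Λ M →* _).comp
    (MonoidAlgebra.of Λ M)

lemma cls_pow (n : ℕ) (h : M) : cls Λ M n (h ^ n) = 1 := by
  have : MonoidAlgebra.single (h ^ n) (1 : Λ) - 1 ∈ K0 Λ M n :=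
    Ideal.subset_span ⟨h, rfl⟩
  have h2 := Ideal.Quotient.eq.mpr this
  simpa [cls, MonoidAlgebra.of_apply] using h2

/-- the section of `pi` modulo `K0` -/
noncomputable def sec (n : ℕ) :
    MonoidAlgebra Λ (Qn M n) →ₐ[Λ] (MonoidAlgebra Λ M ⧸ K0 Λ M n) :=
  MonoidAlgebra.lift Λ _ (Qn M n) (QuotientGroup.lift _ (cls Λ M n) (by
    rintro x ⟨h, rfl⟩
    exact cls_pow Λ M n h))

lemma sec_comp_pi (n : ℕ) :
    (sec Λ M n : MonoidAlgebra Λ (Qn M n) →+* _).comp (pi Λ M n) = Ideal.Quotient.mk (K0 Λ M n) := by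
  apply MonoidAlgebra.ringHom_ext
  · intro r
    simp only [RingHom.comp_apply, pi_single, RingHom.coe_coe, sec, MonoidAlgebra.lift_single,
      QuotientGroup.mk_one, map_one]
    rw [Algebra.smul_def, mul_one]
    rfl
  · intro m
    simp [sec, cls, MonoidAlgebra.of_apply]

lemma ker_pi_le_K0 (n : ℕ) : RingHom.ker (pi Λ M n) ≤ K0 Λ M n := by
  intro x hx
  rw [RingHom.mem_ker] at hx
  have := RingHom.congr_fun (sec_comp_pi Λ M n) x
  rw [RingHom.comp_apply, hx, map_zero] at this
  exact Ideal.Quotient.eq_zero_iff_mem.mp this.symm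

theorem ker_pi_eq_torsionIdeal (n : ℕ) :
    RingHom.ker (pi Λ M n) = SGA3b.torsionIdeal Λ (MonoidAlgebra Λ M) n :=
  le_antisymm ((ker_pi_le_K0 Λ M n).trans (K0_le_torsionIdeal Λ M n)) (torsionIdeal_le_ker Λ M n)

end kerpi

section ext
variable {R : Type u} [CommRing R] {A : Type u} [CommRing A] [HopfAlgebra R A]
variable {T : Type u} [CommRing T] [Algebra R T] {N : Type u} [CommGroup N]
  {θ : A →ₐ[R] MonoidAlgebra T N}

omit [CommRing T] [Algebra R T] [CommGroup N] in
lemma lpow_algebraMap (n : ℕ) (r : R) : lpow R A n (algebraMap R A r) = algebraMap R A r := by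
  rw [← powConv_eq_lpow, AlgHom.commutes]

omit [CommRing T] [Algebra R T] [CommGroup N] in
lemma sub_counit_mem_ker (a : A) :
    a - algebraMap R A (Coalgebra.counit (R := R) a) ∈
      RingHom.ker (Bialgebra.counitAlgHom R A) := by
  rw [RingHom.mem_ker, map_sub, AlgHom.commutes]
  simp

lemma lpow_sub_mem (hθ : IsSemiIso R T θ) (n : ℕ) (z : T ⊗[R] A) :
    lpow T (MonoidAlgebra T N) n (LinearMap.liftBaseChange T θ.toLinearMap z) -
      algebraMap T (MonoidAlgebra T N)
        (Coalgebra.counit (R := T) (LinearMap.liftBaseChange T θ.toLinearMap z)) ∈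
      Ideal.map (θ : A →+* MonoidAlgebra T N) (SGA3b.torsionIdeal R A n) := by
  induction z using TensorProduct.induction_on with
  | zero => simp
  | add x y hx hy =>
    simp only [map_add]
    rw [add_sub_add_comm]
    exact add_mem hx hy
  | tmul t a =>
    have h1 : lpow T (MonoidAlgebra T N) n (t • θ a) -
        algebraMap T (MonoidAlgebra T N) (Coalgebra.counit (R := T) (t • θ a)) =
        algebraMap T (MonoidAlgebra T N) t *
          θ (SGA3b.powConv R A n (a - algebraMap R A (Coalgebra.counit (R := R) a))) := by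
      rw [powConv_eq_lpow, map_sub, lpow_algebraMap, map_sub, lpow_semi hθ.1, map_smul, map_smul,
        hθ.1.counit, AlgHom.commutes, mul_sub, ← Algebra.smul_def, smul_eq_mul, map_mul,
        ← IsScalarTower.algebraMap_apply R T (MonoidAlgebra T N)]
    rw [LinearMap.liftBaseChange_tmul, AlgHom.toLinearMap_apply, h1]
    apply Ideal.mul_mem_left
    apply Ideal.mem_map_of_mem
    exact Ideal.mem_map_of_mem _ (sub_counit_mem_ker _)

theorem torsionIdeal_le_map (hθ : IsSemiIso R T θ) (n : ℕ) :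
    SGA3b.torsionIdeal T (MonoidAlgebra T N) n ≤
      Ideal.map (θ : A →+* MonoidAlgebra T N) (SGA3b.torsionIdeal R A n) := by
  rw [SGA3b.torsionIdeal, Ideal.map_le_iff_le_comap]
  intro y hy
  rw [Ideal.mem_comap]
  obtain ⟨z, rfl⟩ := hθ.2.2 y
  have h := lpow_sub_mem hθ n z
  have hy' : Coalgebra.counit (R := T) (LinearMap.liftBaseChange T θ.toLinearMap z) = 0 := hy
  rw [hy', map_zero, sub_zero, ← powConv_eq_lpow] at h
  exact h

theorem map_torsionIdeal_eq_ker (hθ : IsSemiIso R T θ) (n : ℕ) :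
    Ideal.map (θ : A →+* MonoidAlgebra T N) (SGA3b.torsionIdeal R A n) =
      RingHom.ker (pi T N n) := by
  rw [ker_pi_eq_torsionIdeal]
  apply le_antisymm
  · rw [Ideal.map_le_iff_le_comap]
    intro x hx
    exact Groth.Agent.Helper2.TorsDense.map_mem_torsionIdeal hθ.1 n hx
  · exact torsionIdeal_le_map hθ n

end ext

end Groth.Agent.Helper2.TorsFin
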