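import Mathlib
import Groth.Prelude.Def_SGA3b
import Groth.Agent.Helper2.TorsFin1

set_option autoImplicit false

namespace Groth.Agent.Helper2.TorsFin
open TensorProduct Groth.Agent.Helper2.MultTypeSemi Groth.Agent.Helper2.MultTypeChart
  Groth.Agent.Helper2.SemiIso Groth.Agent.Helper2.TorsDens Groth.Agent.Helper2.NilLift

universe u

section quot
variable {R : Type*} [CommRing R] {S : Type*} [CommRing S] [Algebra R S]
variable {A : Type*} [CommRing A] [HopfAlgebra R A] {D : Type*} [CommRing D] [Bialgebra S D]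
  [Algebra R D] [IsScalarTower R S D]

/-- a semilinear coalgebra map killing a Hopf ideal descends to the quotient -/
lemma isSemiCoalg_lift (J : Ideal A) [J.IsHopfIdeal R] {g : A →ₐ[R] D} (hg : IsSemiCoalg R S g)
    (h : ∀ a ∈ J, g a = 0) : IsSemiCoalg R S (Ideal.Quotient.liftₐ J g h) := by
  constructor
  · intro x
    obtain ⟨a, rfl⟩ := Ideal.Quotient.mk_surjective x
    rw [Bialgebra.Quotient.counit_mk]
    exact hg.counit a
  · intro x
    obtain ⟨a, rfl⟩ := Ideal.Quotient.mk_surjective x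
    rw [Bialgebra.Quotient.comul_mk]
    have h1 : Ideal.Quotient.liftₐ J g h (Ideal.Quotient.mk J a) = g a := rfl
    rw [h1, hg.comul]
    generalize Coalgebra.comul (R := R) a = t
    induction t using TensorProduct.induction_on with
    | zero => simp
    | add x y hx hy => simp only [map_add, hx, hy]
    | tmul x y => rfl

end quot

section chart
variable {R : Type u} [CommRing R] {A : Type u} [CommRing A] [HopfAlgebra R A]
variable {T : Type u} [CommRing T] [Algebra R T] {N : Type u} [CommGroup N]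
  {θ : A →ₐ[R] MonoidAlgebra T N}

/-- `pi` as a bialgebra map -/
noncomputable def piB (n : ℕ) : MonoidAlgebra T N →ₐc[T] MonoidAlgebra T (Qn N n) :=
  MonoidAlgebra.mapDomainBialgHom T (QuotientGroup.mk' _)

lemma piB_apply (n : ℕ) (x : MonoidAlgebra T N) : piB n x = pi T N n x := rfl

lemma piB_surjective (n : ℕ) : Function.Surjective (piB (T := T) (N := N) n) := by
  intro y
  induction y using MonoidAlgebra.induction_linear with
  | zero => exact ⟨0, map_zero _⟩
  | add a b ha hb =>
    obtain ⟨a', rfl⟩ := ha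
    obtain ⟨b', rfl⟩ := hb
    exact ⟨a' + b', map_add _ _ _⟩
  | single q r =>
    obtain ⟨m, rfl⟩ := QuotientGroup.mk_surjective q
    exact ⟨MonoidAlgebra.single m r, by simp [piB]⟩

/-- the chart of the `n`-torsion subgroup before passing to the quotient -/
noncomputable def preChart (θ : A →ₐ[R] MonoidAlgebra T N) (n : ℕ) :
    A →ₐ[R] MonoidAlgebra T (Qn N n) :=
  (((piB n : MonoidAlgebra T N →ₐc[T] MonoidAlgebra T (Qn N n)) :
    MonoidAlgebra T N →ₐ[T] MonoidAlgebra T (Qn N n)).restrictScalars R).comp θ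

lemma preChart_apply (n : ℕ) (a : A) : preChart θ n a = pi T N n (θ a) := rfl

lemma isSemiCoalg_preChart (hθ : IsSemiIso R T θ) (n : ℕ) : IsSemiCoalg R T (preChart θ n) := by
  have h := isSemiCoalg_bialgHom T (piB (T := T) (N := N) n)
  exact hθ.1.comp R T T h

lemma preChart_eq_zero (hθ : IsSemiIso R T θ) (n : ℕ) (a : A)
    (ha : a ∈ SGA3b.torsionIdeal R A n) : preChart θ n a = 0 := by
  rw [preChart_apply]
  exact torsionIdeal_le_ker T N n
    (Groth.Agent.Helper2.TorsDense.map_mem_torsionIdeal hθ.1 n ha)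

variable (J : Ideal A) [J.IsHopfIdeal R]

/-- the chart of the `n`-torsion subgroup -/
noncomputable def torsChart (hθ : IsSemiIso R T θ) (n : ℕ) (hJ : J = SGA3b.torsionIdeal R A n) :
    (A ⧸ J) →ₐ[R] MonoidAlgebra T (Qn N n) :=
  Ideal.Quotient.liftₐ J (preChart θ n) (fun a ha => preChart_eq_zero hθ n a (hJ ▸ ha))

lemma torsChart_mk (hθ : IsSemiIso R T θ) (n : ℕ) (hJ : J = SGA3b.torsionIdeal R A n) (a : A) :
    torsChart J hθ n hJ (Ideal.Quotient.mk J a) = pi T N n (θ a) := rfl

theorem isSemiIso_torsChart (hθ : IsSemiIso R T θ) (n : ℕ) (hJ : J = SGA3b.torsionIdeal R A n) :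
    IsSemiIso R T (torsChart J hθ n hJ) := by
  refine ⟨isSemiCoalg_lift J (isSemiCoalg_preChart hθ n) _, ?_⟩
  -- the algebra maps
  let Θ : T ⊗[R] A →ₐ[T] MonoidAlgebra T N := liftMap R T θ
  have hΘ : Function.Bijective Θ := liftMap_bijective hθ
  let q : T ⊗[R] A →ₐ[T] T ⊗[R] (A ⧸ J) :=
    Algebra.TensorProduct.map (AlgHom.id T T) (Ideal.Quotient.mkₐ R J)
  have hq : Function.Surjective q := by
    have : ⇑q = ⇑(LinearMap.lTensor T (Ideal.Quotient.mkₐ R J).toLinearMap) := by
      ext z
      induction z using TensorProduct.induction_on with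
      | zero => simp
      | add x y hx hy => simp only [map_add, hx, hy]
      | tmul t a => rfl
    rw [this]
    exact LinearMap.lTensor_surjective T (Ideal.Quotient.mkₐ_surjective R J)
  set X := LinearMap.liftBaseChange T (torsChart J hθ n hJ).toLinearMap with hX
  have hcomm : ∀ z, X (q z) = pi T N n (Θ z) := by
    intro z
    induction z using TensorProduct.induction_on with
    | zero => simp
    | add x y hx hy => simp only [map_add, hx, hy]
    | tmul t a =>
      have h1 : q (t ⊗ₜ[R] a) = t ⊗ₜ[R] (Ideal.Quotient.mk J a) := rfl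
      rw [h1, hX, LinearMap.liftBaseChange_tmul, AlgHom.toLinearMap_apply, torsChart_mk]
      show t • pi T N n (θ a) = pi T N n (liftMap R T θ (t ⊗ₜ[R] a))
      rw [liftMap_tmul, ← piB_apply, ← piB_apply, map_smul]
  constructor
  · -- injective
    rw [injective_iff_map_eq_zero]
    intro zb hzb
    obtain ⟨z, rfl⟩ := hq zb
    rw [hcomm] at hzb
    have h1 : Θ z ∈ Ideal.map (θ : A →+* MonoidAlgebra T N) (SGA3b.torsionIdeal R A n) := by
      rw [map_torsionIdeal_eq_ker hθ n, RingHom.mem_ker]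
      exact hzb
    have h2 : (θ : A →+* MonoidAlgebra T N) = (Θ : T ⊗[R] A →+* MonoidAlgebra T N).comp
        (Algebra.TensorProduct.includeRight : A →ₐ[R] T ⊗[R] A) := by
      ext a
      simp [Θ]
    rw [h2, ← Ideal.map_map] at h1
    have h3 : z ∈ Ideal.map ((Algebra.TensorProduct.includeRight : A →ₐ[R] T ⊗[R] A) : A →+* _)
        (SGA3b.torsionIdeal R A n) := by
      obtain ⟨w, hw, hwz⟩ := (Ideal.mem_map_iff_of_surjective _ hΘ.2).mp h1
      rw [← hΘ.1 hwz]
      exact hw
    have h4 : Ideal.map ((Algebra.TensorProduct.includeRight : A →ₐ[R] T ⊗[R] A) : A →+* _)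
        (SGA3b.torsionIdeal R A n) ≤ RingHom.ker (q : T ⊗[R] A →+* T ⊗[R] (A ⧸ J)) := by
      rw [Ideal.map_le_iff_le_comap]
      intro a ha
      rw [Ideal.mem_comap, RingHom.mem_ker]
      show q ((1 : T) ⊗ₜ[R] a) = 0
      have : q ((1 : T) ⊗ₜ[R] a) = (1 : T) ⊗ₜ[R] (Ideal.Quotient.mk J a) := rfl
      rw [this, Ideal.Quotient.eq_zero_iff_mem.mpr (hJ ▸ ha), TensorProduct.tmul_zero]
    exact h4 h3
  · -- surjective
    intro y
    obtain ⟨x, rfl⟩ := piB_surjective (T := T) (N := N) n y
    obtain ⟨z, rfl⟩ := hΘ.2 x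
    exact ⟨q z, by rw [hcomm, piB_apply]⟩

end chart

end Groth.Agent.Helper2.TorsFin
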