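import Mathlib
import Groth.Prelude.Def_SGA3b
import Groth.Agent.Helper2.TorsFin2

set_option autoImplicit false

namespace Groth.Agent.Helper2.TorsFin
open TensorProduct Groth.Agent.Helper2.MultTypeSemi Groth.Agent.Helper2.MultTypeChart
  Groth.Agent.Helper2.SemiIso Groth.Agent.Helper2.TorsDens Groth.Agent.Helper2.NilLift
  Groth.Agent.Helper2.FamDesc

universe u

section finfam
variable {B : Type*} [CommRing B] {F : Type*} [Fintype F] [DecidableEq F] (T : F → Type*)
  [∀ f, CommRing (T f)] [∀ f, Algebra B (T f)] [Module.FaithfullyFlat B (Π f, T f)]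
  (X : Type*) [AddCommGroup X] [Module B X]

/-- descent of finiteness along a finite jointly faithfully flat family -/
theorem finite_of_fam (h : ∀ f, Module.Finite (T f) (T f ⊗[B] X)) : Module.Finite B X := by
  classical
  have key : ∀ f, ∃ S : Finset X, ∀ w : T f ⊗[B] X,
      (Submodule.mkQ (Submodule.span B (S : Set X))).baseChange (T f) w = 0 := by
    intro f
    obtain ⟨n, s, hs⟩ := Module.Finite.exists_fin (R := T f) (M := T f ⊗[B] X)
    choose k t m hm using fun i : Fin n => TensorProduct.exists_sum_tmul_eq (s i)
    refine ⟨Finset.univ.biUnion fun i : Fin n => Finset.univ.image (m i), ?_⟩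
    intro w
    have hw : w ∈ Submodule.span (T f) (Set.range s) := by rw [hs]; trivial
    induction hw using Submodule.span_induction with
    | mem x hx =>
      obtain ⟨i, rfl⟩ := hx
      rw [hm i, map_sum]
      refine Finset.sum_eq_zero (fun j _ => ?_)
      rw [LinearMap.baseChange_tmul, Submodule.mkQ_apply,
        (Submodule.Quotient.mk_eq_zero _).mpr, TensorProduct.tmul_zero]
      apply Submodule.subset_span
      rw [Finset.mem_coe, Finset.mem_biUnion]
      exact ⟨i, Finset.mem_univ _, Finset.mem_image_of_mem _ (Finset.mem_univ _)⟩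
    | zero => exact map_zero _
    | add x y _ _ hx hy => rw [map_add, hx, hy, add_zero]
    | smul c x _ hx => rw [map_smul, hx, smul_zero]
  choose S hS using key
  let S' : Finset X := Finset.univ.biUnion S
  have hle : ∀ f, Submodule.span B (S f : Set X) ≤ Submodule.span B (S' : Set X) := by
    intro f
    apply Submodule.span_mono
    intro x hx
    rw [Finset.mem_coe, Finset.mem_biUnion]
    exact ⟨f, Finset.mem_univ _, hx⟩
  refine ⟨⟨S', ?_⟩⟩
  rw [eq_top_iff]
  intro x _
  have h0 : Submodule.mkQ (Submodule.span B (S' : Set X)) x = 0 := by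
    apply joint_inj (B := B) T (X ⧸ Submodule.span B (S' : Set X))
    intro f
    have h1 := hS f ((1 : T f) ⊗ₜ[B] x)
    rw [LinearMap.baseChange_tmul, Submodule.mkQ_apply] at h1
    -- pass from the quotient by `span (S f)` to the quotient by `span S'`
    have h2 := congrArg (LinearMap.lTensor (T f)
      (Submodule.mapQ _ _ LinearMap.id (by simpa using hle f))) h1
    rw [LinearMap.lTensor_tmul, map_zero] at h2
    exact h2
  exact (Submodule.Quotient.mk_eq_zero _).mp h0

end finfam

end Groth.Agent.Helper2.TorsFin
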