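import Mathlib
import Groth.Prelude.Def_SGA3b
import Groth.Agent.Helper2.TorsFin3

set_option autoImplicit false

namespace Groth.Agent.Helper2.TorsFin
open TensorProduct Groth.Agent.Helper2.MultTypeSemi Groth.Agent.Helper2.MultTypeChart
  Groth.Agent.Helper2.SemiIso Groth.Agent.Helper2.TorsDens Groth.Agent.Helper2.NilLift
  Groth.Agent.Helper2.FamDesc

universe u

section selfiso
variable {S : Type*} [CommRing S] {X Y : Type*} [CommRing X] [Bialgebra S X] [CommRing Y]
  [Bialgebra S Y]

lemma semiMap_self (ψ : X →ₐ[S] Y) (t : X ⊗[S] X) :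
    semiMap S S ψ.toLinearMap t = Algebra.TensorProduct.map ψ ψ t := by
  induction t using TensorProduct.induction_on with
  | zero => simp
  | add x y hx hy => simp only [map_add, hx, hy]
  | tmul x y => rfl

/-- a semilinear coalgebra map over one ring is a bialgebra map -/
noncomputable def bialgHomOfSemi (ψ : X →ₐ[S] Y) (h : IsSemiCoalg S S ψ) : X →ₐc[S] Y :=
  BialgHom.ofAlgHom ψ
    (AlgHom.ext fun x => by
      have := h.counit x
      simpa using this)
    (AlgHom.ext fun x => by
      have := h.comul x
      rw [semiMap_self] at this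
      simpa using this.symm)

@[simp] lemma bialgHomOfSemi_apply (ψ : X →ₐ[S] Y) (h : IsSemiCoalg S S ψ) (x : X) :
    bialgHomOfSemi ψ h x = ψ x := rfl

end selfiso

section diag
variable {S : Type u} [CommRing S] {X : Type u} [CommRing X] [HopfAlgebra S X]
  {M : Type u} [CommGroup M]

theorem isDiag_of_isSemiIso_self (ψ : X →ₐ[S] MonoidAlgebra S M) (h : IsSemiIso S S ψ) :
    SGA3b.IsDiag S X := by
  have hb : Function.Bijective ψ := by
    have h1 : ⇑ψ = ⇑(LinearMap.liftBaseChange S ψ.toLinearMap) ∘ ⇑(TensorProduct.lid S X).symm := by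
      funext x
      simp
    rw [h1]
    exact h.2.comp (TensorProduct.lid S X).symm.bijective
  exact ⟨M, inferInstance, ⟨BialgEquiv.ofBijective (bialgHomOfSemi ψ h.1) hb⟩⟩

end diag

section mtc
variable {R : Type u} [CommRing R] {B : Type u} [CommRing B] [HopfAlgebra R B]

theorem isMultTypeConst_of_chart (f : R) {T : Type u} [CommRing T]
    [Algebra (Localization.Away f) T] [Algebra R T] [IsScalarTower R (Localization.Away f) T]
    [Module.FaithfullyFlat (Localization.Away f) T] {Q : Type u} [CommGroup Q]
    (χ : B →ₐ[R] MonoidAlgebra T Q) (hχ : IsSemiIso R T χ) :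
    SGA3b.IsMultTypeConst (Localization.Away f) (Localization.Away f ⊗[R] B) := by
  have h1 : IsSemiIso (Localization.Away f) T (liftMap R (Localization.Away f) χ) :=
    hχ.lift R (Localization.Away f) T
  have h2 : IsSemiIso T T (liftMap (Localization.Away f) T (liftMap R (Localization.Away f) χ)) :=
    h1.lift (Localization.Away f) T T
  exact ⟨T, inferInstance, inferInstance, inferInstance, isDiag_of_isSemiIso_self _ h2⟩

end mtc

end Groth.Agent.Helper2.TorsFin
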