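import Mathlib
import Groth.Prelude.Def_SGA3b
import Groth.Agent.Helper2.TorsFin4
import Groth.Agent.Helper2.NilLift
import Groth.Agent.Helper2.MultTypeChart
import Groth.Agent.Helper2.DefApp

/-!
# Tori via charts
-/

set_option autoImplicit false

namespace Groth.Agent.Helper2.OC
open TensorProduct Groth.Agent.Helper2.MultTypeSemi Groth.Agent.Helper2.SemiIso
  Groth.Agent.Helper2.NilSplit Groth.Agent.Helper2.NilLift Groth.Agent.Helper2.TorsFin
  Groth.Agent.Helper2.MultTypeChart Groth.Agent.Helper2.DefApp SGA3b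

universe u

section L1
variable {S : Type*} [CommRing S] {X : Type*} [CommRing X] [Bialgebra S X]
  {M : Type*} [CommMonoid M]

lemma bijective_of_isSemiIso_self (ψ : X →ₐ[S] MonoidAlgebra S M) (h : IsSemiIso S S ψ) :
    Function.Bijective ψ := by
  have h1 : ⇑ψ = ⇑(LinearMap.liftBaseChange S ψ.toLinearMap) ∘ ⇑(TensorProduct.lid S X).symm := by
    funext x
    simp
  rw [h1]
  exact h.2.comp (TensorProduct.lid S X).symm.bijective

/-- the bialgebra isomorphism given by a chart over the same ring -/
noncomputable def bialgEquivOfSelf (ψ : X →ₐ[S] MonoidAlgebra S M) (h : IsSemiIso S S ψ) :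
    X ≃ₐc[S] MonoidAlgebra S M :=
  BialgEquiv.ofBijective (bialgHomOfSemi ψ h.1) (bijective_of_isSemiIso_self ψ h)

end L1

section L1b
variable {R : Type*} [CommRing R] {S : Type*} [CommRing S] [Algebra R S]
  {Q : Type*} [CommRing Q] [Bialgebra R Q] {M : Type*} [CommMonoid M]

/-- the bialgebra isomorphism given by a chart -/
noncomputable def bialgEquivOfChart (χ : Q →ₐ[R] MonoidAlgebra S M) (hχ : IsSemiIso R S χ) :
    S ⊗[R] Q ≃ₐc[S] MonoidAlgebra S M :=
  bialgEquivOfSelf (liftMap R S χ) (hχ.lift R S S)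

end L1b

section L2
variable {R : Type*} [CommRing R] {K : Type*} [Field K] [Algebra R K]
  {Q : Type*} [CommRing Q] [Bialgebra R Q] {M N : Type*} [CommGroup M] [CommGroup N]

/-- two charts of the same bialgebra with values in group algebras over a field have isomorphic
groups -/
theorem mulEquiv_of_charts (χ₁ : Q →ₐ[R] MonoidAlgebra K M) (h₁ : IsSemiIso R K χ₁)
    (χ₂ : Q →ₐ[R] MonoidAlgebra K N) (h₂ : IsSemiIso R K χ₂) : Nonempty (M ≃* N) := by
  let e₁ := bialgEquivOfChart χ₁ h₁
  let e₂ := bialgEquivOfChart χ₂ h₂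
  let e : MonoidAlgebra K M ≃ₐc[K] MonoidAlgebra K N := e₁.symm.trans e₂
  let f : M →* N := MonoidAlgebra.mapDomainOfBialgHom (e.toBialgHom)
  let g : N →* M := MonoidAlgebra.mapDomainOfBialgHom (e.symm.toBialgHom)
  have hgf : g.comp f = MonoidHom.id M := by
    rw [← MonoidAlgebra.mapDomainOfBialgHom_comp, ← MonoidAlgebra.mapDomainOfBialgHom_id (R := K)]
    congr 1
    ext x
    simp
  have hfg : f.comp g = MonoidHom.id N := by
    rw [← MonoidAlgebra.mapDomainOfBialgHom_comp, ← MonoidAlgebra.mapDomainOfBialgHom_id (R := K)]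
    congr 1
    ext x
    simp
  exact ⟨{ toFun := f, invFun := g, left_inv := fun m => DFunLike.congr_fun hgf m,
           right_inv := fun n => DFunLike.congr_fun hfg n, map_mul' := map_mul f }⟩

end L2

section L3
variable {R : Type u} [CommRing R] {B : Type u} [CommRing B] [HopfAlgebra R B]

theorem isTorusConst_of_chart (f : R) {T : Type u} [CommRing T]
    [Algebra (Localization.Away f) T] [Algebra R T] [IsScalarTower R (Localization.Away f) T]
    [Module.FaithfullyFlat (Localization.Away f) T] (n : ℕ)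
    (χ : B →ₐ[R] MonoidAlgebra T (Multiplicative (Fin n → ℤ))) (hχ : IsSemiIso R T χ) :
    SGA3b.IsTorusConst (Localization.Away f) (Localization.Away f ⊗[R] B) := by
  have h1 : IsSemiIso (Localization.Away f) T (liftMap R (Localization.Away f) χ) :=
    hχ.lift R (Localization.Away f) T
  exact ⟨T, inferInstance, inferInstance, inferInstance, n, ⟨bialgEquivOfChart _ h1⟩⟩

/-- a chart with values in a faithfully flat algebra and group `ℤ^n` makes a torus -/
theorem isTorus_of_chart {T : Type u} [CommRing T] [Algebra R T] [Module.FaithfullyFlat R T]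
    (n : ℕ) (χ : B →ₐ[R] MonoidAlgebra T (Multiplicative (Fin n → ℤ))) (hχ : IsSemiIso R T χ) :
    SGA3b.IsTorus R B := by
  refine ⟨{1}, by simp, ?_⟩
  intro f hf
  rw [Set.mem_singleton_iff] at hf
  subst hf
  let T₁ := Localization.Away (1 : R) ⊗[R] T
  letI : Algebra T T₁ := Algebra.TensorProduct.rightAlgebra
  haveI : IsScalarTower R T T₁ := Algebra.TensorProduct.right_isScalarTower
  have hχ' : IsSemiIso R T₁
      (((rho T T₁ (Multiplicative (Fin n → ℤ))).restrictScalars R).comp χ) :=
    isSemiIso_rho_comp (T₂ := T₁) hχ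
  exact isTorusConst_of_chart (1 : R) (T := T₁) n _ hχ'

end L3

end Groth.Agent.Helper2.OC
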