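import Mathlib
import Groth.Prelude.Def_SGA3b
import Groth.Agent.Helper2.OCSetup
import Groth.Agent.Helper2.OCTorus
import Groth.Agent.Helper2.HDAdic3

/-!
# S2980: isotrivial groups of multiplicative type lift along an adically complete Noetherian base
-/

set_option autoImplicit false
set_option linter.style.haveILetI false

namespace Groth.Agent.Helper2.HD
open TensorProduct Groth.Agent.Helper2.MultTypeSemi Groth.Agent.Helper2.SemiIso
  Groth.Agent.Helper2.NilSplit Groth.Agent.Helper2.NilLift Groth.Agent.Helper2.OC SGA3b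

universe u

section coeff
variable {R : Type u} [CommRing R] {B : Type u} [CommRing B] [Algebra R B]
variable {k : Type u} [CommRing k] [Algebra R k] {L : Type u} [CommRing L] [Algebra k L]
  [Algebra R L] [IsScalarTower R k L]
variable (π : B →ₐ[R] L) {M : Type u} [CommMonoid M]

lemma c₁_map (y : MonoidAlgebra B M) :
    c₁ k L M (MonoidAlgebra.mapAlgHom M π y) =
      MonoidAlgebra.mapRingHom M (pi₂ (k := k) π : B ⊗[R] B →+* L ⊗[k] L) (c₁ R B M y) := by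
  apply MonoidAlgebra.coeff_injective
  ext m
  simp

lemma c₂_map (y : MonoidAlgebra B M) :
    c₂ k L M (MonoidAlgebra.mapAlgHom M π y) =
      MonoidAlgebra.mapRingHom M (pi₂ (k := k) π : B ⊗[R] B →+* L ⊗[k] L) (c₂ R B M y) := by
  apply MonoidAlgebra.coeff_injective
  ext m
  simp

end coeff

theorem s2980 (R : Type u) [CommRing R] [IsNoetherianRing R] (I : Ideal R) [IsAdicComplete I R]
    (A₀ : Type u) [CommRing A₀] [HopfAlgebra (R ⧸ I) A₀] (h0 : IsIsotrivial (R ⧸ I) A₀) :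
    ∃ (A : Type u) (_ : CommRing A) (_ : HopfAlgebra R A),
      IsIsotrivial R A ∧ Nonempty (((R ⧸ I) ⊗[R] A) ≃ₐc[R ⧸ I] A₀) := by
  obtain ⟨Rb', _, _, hEt, hFin, hFF, M, _, ⟨e⟩⟩ := h0
  letI : Algebra R Rb' := ((algebraMap (R ⧸ I) Rb').comp (algebraMap R (R ⧸ I))).toAlgebra
  haveI : IsScalarTower R (R ⧸ I) Rb' := IsScalarTower.of_algebraMap_eq (fun _ => rfl)
  haveI := hEt
  haveI := hFin
  haveI := hFF
  obtain ⟨B, _, _, _, _, hBfin, hBet, hBff, hBn, hπs, hker, hcpl⟩ := exists_cover R I Rb'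
  haveI := hBfin
  haveI := hBet
  haveI := hBff
  haveI := hBn
  -- the reduction map
  let π : B →ₐ[R] Rb' := IsScalarTower.toAlgHom R B Rb'
  have hπs' : Function.Surjective π := hπs
  have hker' : RingHom.ker (π : B →+* Rb') = I.map (algebraMap R B) := hker
  have hred : IsRed R (R ⧸ I) π.toLinearMap := isRed_of_surjective_of_ker I π hπs' hker'
  have hred₂ : IsRed R (R ⧸ I) (pi₂ (k := R ⧸ I) π).toLinearMap := isRed_mix R (R ⧸ I) hred hred
  have hred₃ : IsRed R (R ⧸ I) (pi₃ (k := R ⧸ I) π).toLinearMap :=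
    isRed_mix R (R ⧸ I) hred hred₂
  haveI h1 : HenselianRing B (RingHom.ker (π : B →+* Rb')) := henselian_of_isRed I hred
  haveI h2 : HenselianRing (B ⊗[R] B)
      (RingHom.ker (pi₂ (k := R ⧸ I) π : B ⊗[R] B →+* Rb' ⊗[R ⧸ I] Rb')) :=
    henselian_of_isRed I hred₂
  haveI h3 : HenselianRing (B ⊗[R] (B ⊗[R] B))
      (RingHom.ker (pi₃ (k := R ⧸ I) π :
        B ⊗[R] (B ⊗[R] B) →+* Rb' ⊗[R ⧸ I] (Rb' ⊗[R ⧸ I] Rb'))) :=
    henselian_of_isRed I hred₃
  have hs₂ : Function.Surjective (pi₂ (k := R ⧸ I) π) := surjective_of_isRed I hred₂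
  -- the chart of `A₀`
  let θ₀ : A₀ →ₐ[R ⧸ I] MonoidAlgebra Rb' M :=
    ((e.toBialgHom : _ →ₐ[Rb'] MonoidAlgebra Rb' M).restrictScalars (R ⧸ I)).comp
      (Algebra.TensorProduct.includeRight : A₀ →ₐ[R ⧸ I] Rb' ⊗[R ⧸ I] A₀)
  have hθ₀ : IsSemiIso (R ⧸ I) Rb' θ₀ :=
    (isSemiIso_includeRight (R ⧸ I) Rb' A₀).comp (R ⧸ I) Rb' Rb' (isSemiIso_bialgEquiv Rb' e)
  -- the lifted cocycle
  obtain ⟨Θ, hΘτ, hU, hZ⟩ := exists_lift_cocycle (k := R ⧸ I) π
    (RingHom.ker (π : B →+* Rb')) le_rfl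
    (RingHom.ker (pi₂ (k := R ⧸ I) π : B ⊗[R] B →+* Rb' ⊗[R ⧸ I] Rb')) hs₂ rfl
    (RingHom.ker (pi₃ (k := R ⧸ I) π :
        B ⊗[R] (B ⊗[R] B) →+* Rb' ⊗[R ⧸ I] (Rb' ⊗[R ⧸ I] Rb'))) le_rfl
    (tau θ₀ hθ₀) (tau_groupLike θ₀ hθ₀) (tau_unit θ₀ hθ₀) (tau_cocycle θ₀ hθ₀)
  -- the descended Hopf algebra
  obtain ⟨A, _, _, θ, hθ, hθeq⟩ := exists_descent Θ hU hZ
  refine ⟨A, inferInstance, inferInstance, ?_, ?_⟩
  · exact ⟨B, inferInstance, inferInstance, hBet, hBfin, hBff,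
      ⟨M, inferInstance, ⟨bialgEquivOfChart θ hθ⟩⟩⟩
  · -- the chart of the reduction
    have hθπ : IsSemiIso R Rb' ((MonoidAlgebra.mapAlgHom M π).comp θ) := isSemiIso_map_comp π hθ
    have hθ' : IsSemiIso (R ⧸ I) Rb' (liftMap R (R ⧸ I) ((MonoidAlgebra.mapAlgHom M π).comp θ)) :=
      hθπ.lift R (R ⧸ I) Rb'
    apply nonempty_bialgEquiv_of_equivariant (tau θ₀ hθ₀)
      (liftMap R (R ⧸ I) ((MonoidAlgebra.mapAlgHom M π).comp θ)) θ₀ hθ' hθ₀
    · intro x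
      induction x using TensorProduct.induction_on with
      | zero => simp
      | add x y hx hy => simp only [map_add, hx, hy]
      | tmul r a =>
        rw [liftMap_tmul]
        have hc₁ : ∀ y : MonoidAlgebra Rb' M, c₁ (R ⧸ I) Rb' M (r • y) =
            algebraMap (R ⧸ I) (Rb' ⊗[R ⧸ I] Rb') r • c₁ (R ⧸ I) Rb' M y := by
          intro y
          rw [map_smul, algebraMap_smul]
        have hc₂ : ∀ y : MonoidAlgebra Rb' M, c₂ (R ⧸ I) Rb' M (r • y) =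
            algebraMap (R ⧸ I) (Rb' ⊗[R ⧸ I] Rb') r • c₂ (R ⧸ I) Rb' M y := by
          intro y
          rw [map_smul, algebraMap_smul]
        rw [hc₁, hc₂, map_smul]
        congr 1
        rw [AlgHom.comp_apply, c₁_map, c₂_map, ← hΘτ, hθeq]
    · intro h
      exact tau_chart θ₀ hθ₀ h

end Groth.Agent.Helper2.HD
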