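import Mathlib
import Groth.Prelude
import Groth.Agent.Helper2.BrnchG
import Groth.Agent.Helper2.BrnchE
import Groth.Agent.Helper2.HensIntS
import Groth.Agent.Helper5.BrOne2
import Groth.Agent.Helper5.BrAlg4
import Groth.Agent.Helper1.HensReg
import Groth.Agent.Helper1.HensStrictNoeth
import Groth.Agent.Helper1.HensRed

set_option autoImplicit false
set_option linter.style.haveILetI false
set_option linter.unusedSectionVars false

/-!
# S16431: purely inseparable residue fields of the normalization ⟺ minimal primes of `A^sh`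
are extended from `A^h`
-/

namespace Groth.Agent.Helper2.HensMinExt

universe u

open TensorProduct IsLocalRing Groth.Agent.Helper1.Hens

section comb

theorem card_sigma_eq_iff {ι : Type u} [Finite ι] (α : ι → Type u) [∀ i, Nonempty (α i)] :
    ENat.card ι = ENat.card (Σ i, α i) ↔ ∀ i, Subsingleton (α i) := by
  constructor
  · intro h i
    haveI : Finite (Σ i, α i) := by
      rw [← ENat.card_lt_top, ← h, ENat.card_lt_top]; infer_instance
    have hsurj : Function.Surjective (Sigma.fst : (Σ i, α i) → ι) :=
      fun i => ⟨⟨i, Classical.choice inferInstance⟩, rfl⟩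
    have hbij := hsurj.bijective_of_nat_card_le (by
      have : (Nat.card (Σ i, α i) : ℕ∞) = Nat.card ι := by
        rw [← ENat.card_eq_coe_natCard, ← ENat.card_eq_coe_natCard, h]
      exact (Nat.cast_inj.mp this).le)
    refine ⟨fun a b => ?_⟩
    have h1 : (⟨i, a⟩ : Σ i, α i) = ⟨i, b⟩ := hbij.1 rfl
    exact eq_of_heq (Sigma.mk.inj h1).2
  · intro h
    haveI : ∀ i, Unique (α i) := fun i => uniqueOfSubsingleton (Classical.choice inferInstance)
    exact (ENat.card_congr (Equiv.sigmaUnique ι α)).symm

end comb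

section red

variable (O : Type u) [CommRing O] [IsReduced O]

theorem mk_bijective : Function.Bijective (Ideal.Quotient.mk (nilradical O)) := by
  refine ⟨?_, Ideal.Quotient.mk_surjective⟩
  rw [RingHom.injective_iff_ker_eq_bot, Ideal.mk_ker]
  exact nilradical_eq_zero O

noncomputable def redEquiv : O ≃+* CAlg2.red O :=
  RingEquiv.ofBijective (Ideal.Quotient.mk (nilradical O)) (mk_bijective O)

noncomputable def fracEquiv : FractionRing O ≃+* FractionRing (CAlg2.red O) :=
  IsFractionRing.ringEquivOfRingEquiv (redEquiv O)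

theorem fracEquiv_algebraMap (o : O) :
    fracEquiv O (algebraMap O (FractionRing O) o) =
      algebraMap (CAlg2.red O) (FractionRing (CAlg2.red O)) (Ideal.Quotient.mk (nilradical O) o) :=
  IsFractionRing.ringEquivOfRingEquiv_algebraMap (redEquiv O) o

theorem isIntegral_fracEquiv (y : FractionRing O) (hy : IsIntegral O y) :
    IsIntegral (CAlg2.red O) (fracEquiv O y) := by
  refine IsIntegral.map_of_comp_eq (redEquiv O).toRingHom (fracEquiv O).toRingHom ?_ hy
  ext o
  exact (fracEquiv_algebraMap O o).symm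

theorem isIntegral_fracEquiv_symm (z : FractionRing (CAlg2.red O))
    (hz : IsIntegral (CAlg2.red O) z) : IsIntegral O ((fracEquiv O).symm z) := by
  refine IsIntegral.map_of_comp_eq (redEquiv O).symm.toRingHom (fracEquiv O).symm.toRingHom ?_ hz
  ext o
  show algebraMap O (FractionRing O) ((redEquiv O).symm ((redEquiv O) o)) =
    (fracEquiv O).symm (algebraMap _ _ ((redEquiv O) o))
  rw [RingEquiv.symm_apply_apply, RingEquiv.eq_symm_apply]
  exact fracEquiv_algebraMap O o

noncomputable def normRedEquiv : CAlg2.normRed O ≃+* integralClosure O (FractionRing O) where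
  toFun n := ⟨(fracEquiv O).symm n.1, isIntegral_fracEquiv_symm O n.1 n.2⟩
  invFun y := ⟨fracEquiv O y.1, isIntegral_fracEquiv O y.1 y.2⟩
  left_inv n := Subtype.ext ((fracEquiv O).apply_symm_apply n.1)
  right_inv y := Subtype.ext ((fracEquiv O).symm_apply_apply y.1)
  map_mul' a b := Subtype.ext (map_mul (fracEquiv O).symm a.1 b.1)
  map_add' a b := Subtype.ext (map_add (fracEquiv O).symm a.1 b.1)

theorem normRedEquiv_algebraMap (o : O) :
    normRedEquiv O (algebraMap (CAlg2.red O) (CAlg2.normRed O)
      (Ideal.Quotient.mk (nilradical O) o)) =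
        algebraMap O (integralClosure O (FractionRing O)) o := by
  apply Subtype.ext
  show (fracEquiv O).symm (algebraMap (CAlg2.red O) (FractionRing (CAlg2.red O))
    (Ideal.Quotient.mk (nilradical O) o)) = algebraMap O (FractionRing O) o
  rw [RingEquiv.symm_apply_eq]
  exact (fracEquiv_algebraMap O o).symm

end red

section tower

variable (A Ah Ash : Type u) [CommRing A] [IsLocalRing A]
    [CommRing Ah] [IsLocalRing Ah] [Algebra A Ah] [IsLocalHom (algebraMap A Ah)]
    [Hensel.IsHenselization A Ah]
    [CommRing Ash] [IsLocalRing Ash] [Algebra A Ash] [IsLocalHom (algebraMap A Ash)]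
    [hS : Hensel.IsStrictHenselization A Ash] [Algebra Ah Ash] [IsScalarTower A Ah Ash]

include A in
theorem isLocalHom_tower : IsLocalHom (algebraMap Ah Ash) := by
  refine ((local_hom_TFAE (algebraMap Ah Ash)).out 0 2 rfl rfl).mpr ?_
  rw [← map_maximalIdeal_of_isHenselization A Ah, Ideal.map_map,
    ← IsScalarTower.algebraMap_eq A Ah Ash]
  exact ((local_hom_TFAE (algebraMap A Ash)).out 0 2 rfl rfl).mp inferInstance

include A in
theorem isStrictHenselization_tower :
    ∃ (_ : IsLocalHom (algebraMap Ah Ash)), Hensel.IsStrictHenselization Ah Ash := by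
  haveI hloc := isLocalHom_tower A Ah Ash
  refine ⟨hloc, ?_⟩
  haveI : IsSepClosure (ResidueField A) (ResidueField Ash) := hS.isSepClosure
  haveI : IsScalarTower (ResidueField A) (ResidueField Ah) (ResidueField Ash) := by
    refine IsScalarTower.of_algebraMap_eq (fun x => ?_)
    obtain ⟨a, rfl⟩ := residue_surjective x
    show residue Ash (algebraMap A Ash a) = residue Ash (algebraMap Ah Ash (algebraMap A Ah a))
    rw [← IsScalarTower.algebraMap_apply]
  haveI : Algebra.IsSeparable (ResidueField A) (ResidueField Ash) :=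
    (hS.isSepClosure).separable
  refine ⟨hS.henselian, ⟨(hS.isSepClosure).sep_closed,
    Algebra.isSeparable_tower_top_of_isSeparable (ResidueField A) (ResidueField Ah)
      (ResidueField Ash)⟩, ?_⟩
  intro T _ _ f hf τ hτ
  haveI : IsLocalHom (f.comp (algebraMap A Ah)) := RingHom.isLocalHom_comp _ _
  have hτ0 : τ.comp (ResidueField.map (algebraMap A Ash)) =
      ResidueField.map (f.comp (algebraMap A Ah)) := by
    ext x
    obtain ⟨a, rfl⟩ := residue_surjective x
    show τ (residue Ash (algebraMap A Ash a)) = residue T (f (algebraMap A Ah a))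
    rw [IsScalarTower.algebraMap_apply A Ah Ash]
    exact RingHom.congr_fun hτ (residue Ah (algebraMap A Ah a))
  obtain ⟨g, ⟨hg1, hg2⟩, huniq⟩ := hS.universal T (f.comp (algebraMap A Ah)) τ hτ0
  obtain ⟨g', -, hg'uniq⟩ := Hensel.IsHenselization.universal (R := A) (S := Ah) T
    (f.comp (algebraMap A Ah)) inferInstance
  have hgf : g.comp (algebraMap Ah Ash) = f := by
    have e1 : g.comp (algebraMap Ah Ash) = g' := by
      apply hg'uniq
      rw [RingHom.comp_assoc, ← IsScalarTower.algebraMap_eq A Ah Ash]
      exact hg1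
    have e2 : f = g' := hg'uniq f rfl
    rw [e1, e2]
  refine ⟨g, ⟨hgf, hg2⟩, ?_⟩
  rintro g₂ ⟨hg₂1, hg₂2⟩
  apply huniq
  refine ⟨?_, hg₂2⟩
  rw [IsScalarTower.algebraMap_eq A Ah Ash, ← RingHom.comp_assoc, hg₂1]

end tower

section quot

variable (H S : Type u) [CommRing H] [IsLocalRing H]
    [CommRing S] [IsLocalRing S] [Algebra H S] [IsLocalHom (algebraMap H S)]
    [Hensel.IsStrictHenselization H S]

theorem isPurelyInseparable_quotient (q : Ideal H) [q.IsPrime]
    [IsLocalHom (algebraMap H (H ⧸ q))] :
    IsPurelyInseparable (ResidueField H) (ResidueField (H ⧸ q)) := by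
  rw [isPurelyInseparable_iff_pow_mem (ResidueField H) (ringExpChar (ResidueField H))]
  intro x
  refine ⟨0, ?_⟩
  obtain ⟨c, rfl⟩ := residue_surjective x
  obtain ⟨a, rfl⟩ := Ideal.Quotient.mk_surjective c
  exact ⟨residue H a, by simp⟩

/-- extensions of prime ideals to the strict henselization are radical -/
theorem isReduced_quotient_map (q : Ideal H) [q.IsPrime] :
    IsReduced (S ⧸ q.map (algebraMap H S)) := by
  haveI : IsLocalHom (algebraMap H (H ⧸ q)) :=
    IsLocalHom.of_surjective _ Ideal.Quotient.mk_surjective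
  haveI := isPurelyInseparable_quotient H q
  obtain ⟨hloc, hlh, hH⟩ := Groth.Agent.Helper2.HensIntS.main H (H ⧸ q) S
  haveI := hloc
  haveI := hlh
  haveI := hH
  haveI : IsDomain (H ⧸ q) := Ideal.Quotient.isDomain q
  have hred : IsReduced ((H ⧸ q) ⊗[H] S) :=
    (isReduced_iff_of_isStrictHenselization (H ⧸ q) ((H ⧸ q) ⊗[H] S)).1 inferInstance
  let e' : (S ⧸ q.map (algebraMap H S)) ≃+* (H ⧸ q) ⊗[H] S :=
    (Algebra.TensorProduct.quotIdealMapEquivTensorQuot S q).toRingEquiv.trans
      (Algebra.TensorProduct.comm H S (H ⧸ q)).toRingEquiv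
  exact isReduced_of_injective e'.toRingHom e'.injective

end quot

section main

variable (A Ah Ash : Type u) [CommRing A] [IsLocalRing A] [IsNoetherianRing A]
    [CommRing Ah] [IsLocalRing Ah] [Algebra A Ah] [IsLocalHom (algebraMap A Ah)]
    [Hensel.IsHenselization A Ah]
    [CommRing Ash] [IsLocalRing Ash] [Algebra A Ash] [IsLocalHom (algebraMap A Ash)]
    [hS : Hensel.IsStrictHenselization A Ash] [Algebra Ah Ash] [IsScalarTower A Ah Ash]

include A in
theorem extended_iff_card :
    (∀ Q ∈ minimalPrimes Ash, Q = Ideal.map (algebraMap Ah Ash) (Q.comap (algebraMap Ah Ash))) ↔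
      ENat.card (minimalPrimes Ah) = ENat.card (minimalPrimes Ash) := by
  obtain ⟨hloc, hSH⟩ := isStrictHenselization_tower A Ah Ash
  haveI := hloc
  haveI := hSH
  haveI : IsNoetherianRing Ash := isNoetherianRing_of_isStrictHenselization A Ash
  haveI : Module.FaithfullyFlat Ah Ash := faithfullyFlat_of_isStrictHenselization Ah Ash
  rw [Groth.Agent.Helper2.Brnch.card_eq_iff (R := Ah) (T := Ash)
    (minimalPrimes.finite_of_isNoetherianRing Ash)]
  have hrad : ∀ q : Ideal Ah, q.IsPrime → (q.map (algebraMap Ah Ash)).IsRadical := by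
    intro q hq
    haveI := hq
    exact (Ideal.isRadical_iff_quotient_reduced _).mpr (isReduced_quotient_map Ah Ash q)
  constructor
  · intro h q hq
    haveI : q.IsPrime := hq.1.1
    obtain ⟨Q, hQ, hQq⟩ := Groth.Agent.Helper2.Brnch.exists_minimalPrimes_comap_eq' Ah Ash q hq
    rw [(hrad q inferInstance).radical, ← hQq, ← h Q hQ]
    exact hQ.1.1
  · intro h Q hQ
    haveI : Q.IsPrime := hQ.1.1
    have hq := Groth.Agent.Helper2.Brnch.comap_mem_minimalPrimes (R := Ah) Q hQ
    have h1 := h _ hq
    rw [(hrad _ hq.1.1).radical] at h1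
    exact le_antisymm (hQ.2 ⟨h1, bot_le⟩ Ideal.map_comap_le) Ideal.map_comap_le

theorem s16431 [IsReduced A] :
    (∀ (M : Ideal (integralClosure A (FractionRing A))) [M.IsMaximal],
      ∀ x : (integralClosure A (FractionRing A)) ⧸ M, ∃ n : ℕ,
        x ^ (ringExpChar ((integralClosure A (FractionRing A)) ⧸ M)) ^ n ∈
          ((Ideal.Quotient.mk M).comp (algebraMap A (integralClosure A (FractionRing A)))).range) ↔
      (∀ Q ∈ minimalPrimes Ash,
        Q = Ideal.map (algebraMap Ah Ash) (Q.comap (algebraMap Ah Ash))) := by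
  classical
  haveI : IsNoetherianRing Ah := isNoetherianRing_of_isHenselization A Ah
  have hfin : (minimalPrimes A).Finite := minimalPrimes.finite_of_isNoetherianRing A
  have h1 : ENat.card (minimalPrimes Ah) = ENat.card (MaximalSpectrum (CAlg2.normRed A)) := by
    rw [Groth.Agent.Helper2.Brnch.s9237 A Ah]
    unfold _root_.Brnch.numBranches
    rw [if_pos hfin]
  have h2 : ENat.card (minimalPrimes Ash) =
      ENat.card (Σ m' : MaximalSpectrum (CAlg2.normRed A), _root_.Brnch.Emb A m') := by
    rw [Groth.Agent.Helper2.Brnch.s9238 A Ash]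
    unfold _root_.Brnch.numGeomBranches
    rw [if_pos hfin]
  haveI : Finite (MaximalSpectrum (CAlg2.normRed A)) := by
    rw [← ENat.card_lt_top, ← h1, ENat.card_lt_top]
    exact (minimalPrimes.finite_of_isNoetherianRing Ah).to_subtype
  haveI : ∀ m', Nonempty (_root_.Brnch.Emb A m') := Groth.Agent.Helper5.BrOne.emb_nonempty A
  rw [extended_iff_card A Ah Ash, h1, h2, card_sigma_eq_iff]
  constructor
  · intro h m'
    rw [(Groth.Agent.Helper5.BrOne.emb_subsingleton_iff A m').trans
      (Groth.Agent.Helper5.BrOne.pi_iff A m')]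
    haveI := m'.isMaximal
    exact Groth.Agent.Helper5.BrAlg.transfer (normRedEquiv A).symm
      (algebraMap A (integralClosure A (FractionRing A)))
      ((algebraMap (CAlg2.red A) (CAlg2.normRed A)).comp (Ideal.Quotient.mk (nilradical A)))
      (fun o => by
        rw [RingEquiv.symm_apply_eq]
        exact (normRedEquiv_algebraMap A o).symm) h m'.asIdeal
  · intro h
    refine Groth.Agent.Helper5.BrAlg.transfer (normRedEquiv A)
      ((algebraMap (CAlg2.red A) (CAlg2.normRed A)).comp (Ideal.Quotient.mk (nilradical A)))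
      (algebraMap A (integralClosure A (FractionRing A)))
      (fun o => normRedEquiv_algebraMap A o) ?_
    intro m' hm' x
    have := (Groth.Agent.Helper5.BrOne.emb_subsingleton_iff A ⟨m', hm'⟩).trans
      (Groth.Agent.Helper5.BrOne.pi_iff A ⟨m', hm'⟩)
    exact this.mp (h ⟨m', hm'⟩) x

end main

end Groth.Agent.Helper2.HensMinExt
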