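import Mathlib
import Groth.Prelude
import Groth.Agent.Helper2.EssEtSub4
import Groth.Agent.Helper2.HensQFin
import Groth.Agent.Helper2.HensInt

set_option autoImplicit false
set_option linter.style.haveILetI false
set_option linter.unusedSectionVars false

/-! Stages of a strict henselization of a henselian local ring: finiteness, henselianity,
a residue map, Hensel roots, stages attached to a simple residual root. -/

universe u

namespace Groth.Agent.Helper2.SubfSt

open Polynomial IsLocalRing Groth.Agent.Helper1.Hens Groth.Agent.Helper1 Groth.Agent.Helper2.EssEtSub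

/-- Hensel's lemma with an abstract residue map -/
theorem hensel_root {B Ω : Type*} [CommRing B] [HenselianLocalRing B] [Field Ω] (ρ : B →+* Ω)
    (hρ : ∀ b, ρ b = 0 ↔ b ∈ maximalIdeal B) (f : B[X]) (hf : f.Monic) (b₀ : B)
    (h0 : (f.map ρ).eval (ρ b₀) = 0) (h1 : (f.map ρ).derivative.eval (ρ b₀) ≠ 0) :
    ∃ b, f.eval b = 0 ∧ ρ b = ρ b₀ := by
  have e0 : f.eval b₀ ∈ maximalIdeal B := by
    rw [← hρ, ← eval₂_at_apply, ← eval_map]; exact h0
  have e1 : IsUnit (f.derivative.eval b₀) := by
    by_contra hnu
    have : f.derivative.eval b₀ ∈ maximalIdeal B := hnu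
    rw [← hρ, ← eval₂_at_apply, ← eval_map, ← derivative_map] at this
    exact h1 this
  obtain ⟨b, hb, hbb⟩ := HenselianLocalRing.is_henselian f hf b₀ e0 e1
  refine ⟨b, hb, ?_⟩
  rw [← hρ, map_sub, sub_eq_zero] at hbb
  exact hbb

section

variable (A S : Type u) [CommRing A] [IsLocalRing A] [CommRing S] [IsLocalRing S] [Algebra A S]
  [IsLocalHom (algebraMap A S)] [Hensel.IsStrictHenselization A S]

/-- a residue map of `S` compatible with the stage structure -/
noncomputable def rho : S →ₐ[A] ResidueField S :=
  (Hens.γ (R := A) (Ω := ResidueField S)).comp (equivOfIsStrictHenselization A S).toAlgHom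

theorem rho_stageHom (i : Idx A (ResidueField S)) (z : i.L) :
    rho A S (stageHom A S i z) = γLoc i.γ z := by
  show Hens.γ (equivOfIsStrictHenselization A S (stageHom A S i z)) = _
  rw [stageHom_apply, Hens.ofAlg_apply, Hens.γ_of]

theorem isUnit_iff_rho_ne_zero (s : S) : IsUnit s ↔ rho A S s ≠ 0 := by
  rw [← isUnit_algEquiv_iff (equivOfIsStrictHenselization A S), Hens.isUnit_iff]
  rfl

theorem rho_eq_zero_iff (s : S) : rho A S s = 0 ↔ s ∈ maximalIdeal S := by
  rw [mem_maximalIdeal, mem_nonunits_iff, isUnit_iff_rho_ne_zero A S, not_not]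

theorem rho_surjective : Function.Surjective (rho A S) := by
  haveI : Algebra.IsSeparable (ResidueField A) (ResidueField S) := IsSepClosure.separable
  intro ω
  obtain ⟨z, hz⟩ := Hens.γ_surjective (R := A) (Ω := ResidueField S) ω
  refine ⟨(equivOfIsStrictHenselization A S).symm z, ?_⟩
  show Hens.γ (equivOfIsStrictHenselization A S ((equivOfIsStrictHenselization A S).symm z)) = _
  rw [AlgEquiv.apply_symm_apply, hz]

end

section hens

variable (A S : Type u) [CommRing A] [HenselianLocalRing A] [CommRing S] [IsLocalRing S]
  [Algebra A S] [IsLocalHom (algebraMap A S)] [Hensel.IsStrictHenselization A S]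

theorem finite_stage (i : Idx A (ResidueField S)) : Module.Finite A i.L := by
  haveI : (pt i.γ).LiesOver (maximalIdeal A) := ⟨(comap_ker_eq A S i.γ).symm⟩
  exact (Groth.Agent.Helper2.HensQFin.qf_local_factor A i.C (pt i.γ)).2

theorem henselian_stage (i : Idx A (ResidueField S)) : HenselianLocalRing i.L := by
  haveI := finite_stage A S i
  haveI : Algebra.IsIntegral A i.L := Algebra.IsIntegral.of_finite A i.L
  exact Groth.Agent.Helper2.HensInt.henselianLocalRing_of_isIntegral A i.L

theorem finite_range (i : Idx A (ResidueField S)) : Module.Finite A (stageHom A S i).range := by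
  haveI := finite_stage A S i
  exact Module.Finite.of_surjective (stageHom A S i).rangeRestrict.toLinearMap
    (stageHom A S i).rangeRestrict_surjective

end hens

end Groth.Agent.Helper2.SubfSt
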