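import Mathlib
import Groth.Prelude
import Groth.Agent.Helper2.HensMinExt
import Groth.Agent.Helper2.EssEtSub4
import Groth.Agent.Helper2.SubfSt3
import Groth.Agent.Helper1.EssEtHensel

set_option autoImplicit false
set_option linter.style.haveILetI false
set_option linter.unusedSectionVars false
set_option linter.unusedVariables false

universe u

/-!
# Preparations for S16436
-/

namespace Groth.Agent.Helper2.HExt

open IsLocalRing TensorProduct Groth.Agent.Helper1.Hens Groth.Agent.Helper1

/-- A henselian local ring is its own henselization. -/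
theorem isHenselization_self (D : Type u) [CommRing D] [HenselianLocalRing D]
    [IsLocalHom (algebraMap D D)] : Hensel.IsHenselization D D where
  henselian := inferInstance
  universal := by
    intro T _ _ f hf
    refine ⟨f, ?_, ?_⟩
    · ext x; rfl
    · intro g hg
      rw [← hg]
      ext x; rfl

section sh

variable (A E S : Type u) [CommRing A] [IsLocalRing A] [CommRing E] [IsLocalRing E]
  [CommRing S] [IsLocalRing S] [Algebra A E] [Algebra E S] [Algebra A S] [IsScalarTower A E S]
  [IsLocalHom (algebraMap A E)] [IsLocalHom (algebraMap E S)] [IsLocalHom (algebraMap A S)]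

/-- A strict henselization of `A` is a strict henselization of every essentially étale local
`A`-algebra mapping locally to it. -/
theorem isStrictHenselization_of_essEtale (hE : EGA4loc.IsEssentiallyEtale A E)
    [hS : Hensel.IsStrictHenselization A S] : Hensel.IsStrictHenselization E S := by
  haveI : IsSepClosure (ResidueField A) (ResidueField S) := hS.isSepClosure
  haveI : Algebra.IsSeparable (ResidueField A) (ResidueField S) := (hS.isSepClosure).separable
  refine ⟨hS.henselian, ⟨(hS.isSepClosure).sep_closed,
    Algebra.isSeparable_tower_top_of_isSeparable (ResidueField A) (ResidueField E)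
      (ResidueField S)⟩, ?_⟩
  intro T _ _ f hf τ hτ
  haveI : IsLocalHom (f.comp (algebraMap A E)) := RingHom.isLocalHom_comp _ _
  have hτ0 : τ.comp (ResidueField.map (algebraMap A S)) =
      ResidueField.map (f.comp (algebraMap A E)) := by
    ext x
    obtain ⟨a, rfl⟩ := residue_surjective x
    show τ (residue S (algebraMap A S a)) = residue T (f (algebraMap A E a))
    rw [IsScalarTower.algebraMap_apply A E S]
    exact RingHom.congr_fun hτ (residue E (algebraMap A E a))
  obtain ⟨g, ⟨hg1, hg2⟩, huniq⟩ := hS.universal T (f.comp (algebraMap A E)) τ hτ0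
  obtain ⟨ψ', -, hψ'uniq⟩ := EssEt.existsUnique_lift hE (f.comp (algebraMap A E))
    (ResidueField.map f) (by
      ext x
      obtain ⟨a, rfl⟩ := residue_surjective x
      rfl)
  have hgf : g.comp (algebraMap E S) = f := by
    have e1 : g.comp (algebraMap E S) = ψ' := by
      apply hψ'uniq
      refine ⟨⟨fun x hx => ?_⟩, ?_, ?_⟩
      · have h1 : residue T (g (algebraMap E S x)) ≠ 0 := by
          intro h0
          rw [residue_eq_zero_iff] at h0
          exact ((mem_maximalIdeal _).mp h0) hx
        rw [hg2] at h1
        have h2 : residue S (algebraMap E S x) ≠ 0 := fun h0 => h1 (by rw [h0, map_zero])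
        have h3 : IsUnit (algebraMap E S x) := by
          by_contra hnu
          exact h2 ((residue_eq_zero_iff _).mpr ((mem_maximalIdeal _).mpr hnu))
        exact isUnit_of_map_unit (algebraMap E S) x h3
      · rw [RingHom.comp_assoc, ← IsScalarTower.algebraMap_eq A E S]
        exact hg1
      · intro x
        show residue T (g (algebraMap E S x)) = ResidueField.map f (residue E x)
        rw [hg2]
        exact RingHom.congr_fun hτ (residue E x)
    have e2 : f = ψ' := hψ'uniq f ⟨hf, rfl, fun x => rfl⟩
    rw [e1, e2]
  refine ⟨g, ⟨hgf, hg2⟩, ?_⟩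
  rintro g₂ ⟨hg₂1, hg₂2⟩
  apply huniq
  refine ⟨?_, hg₂2⟩
  rw [IsScalarTower.algebraMap_eq A E S, ← RingHom.comp_assoc, hg₂1]

end sh

section integral

variable (A S : Type u) [CommRing A] [HenselianLocalRing A] [CommRing S] [IsLocalRing S]
  [Algebra A S] [IsLocalHom (algebraMap A S)] [Hensel.IsStrictHenselization A S]

/-- The strict henselization of a henselian local ring is integral over it. -/
theorem isIntegral_of_henselian : Algebra.IsIntegral A S := by
  refine ⟨fun s => ?_⟩
  obtain ⟨i, hi⟩ := Groth.Agent.Helper2.EssEtSub.exists_stage_of_finset A S {s}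
  have hs : s ∈ (Groth.Agent.Helper2.EssEtSub.stageHom A S i).range :=
    hi (by simp)
  obtain ⟨x, hx⟩ := hs
  haveI := Groth.Agent.Helper2.SubfSt.finite_stage A S i
  have h1 := (Algebra.IsIntegral.isIntegral (R := A) x).map
    (Groth.Agent.Helper2.EssEtSub.stageHom A S i)
  have hx' : (Groth.Agent.Helper2.EssEtSub.stageHom A S i) x = s := hx
  rwa [hx'] at h1

end integral

section sub

variable {A S : Type u} [CommRing A] [CommRing S] [IsLocalRing S] [Algebra A S]
  [Algebra.IsIntegral A S]

/-- A subalgebra of a local ring integral over the base is local. -/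
theorem isLocalRing_sub (D : Subalgebra A S) : IsLocalRing D := by
  haveI : Algebra.IsIntegral D S := Algebra.IsIntegral.tower_top (R := A)
  have hinj : Function.Injective (algebraMap D S) := Subtype.val_injective
  apply IsLocalRing.of_unique_max_ideal
  refine ⟨(maximalIdeal S).comap (algebraMap D S),
    Ideal.isMaximal_comap_of_isIntegral_of_isMaximal _, ?_⟩
  intro n hn
  obtain ⟨P, hPmax, hPn⟩ := Ideal.exists_ideal_over_maximal_of_isIntegral (S := S) n (by
    rw [(RingHom.injective_iff_ker_eq_bot _).mp hinj]; exact bot_le)
  rw [← hPn, IsLocalRing.eq_maximalIdeal hPmax]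

theorem isLocalHom_sub (D : Subalgebra A S) [IsLocalRing D] : IsLocalHom (algebraMap D S) := by
  haveI : Algebra.IsIntegral D S := Algebra.IsIntegral.tower_top (R := A)
  have hmax : ((maximalIdeal S).comap (algebraMap D S)).IsMaximal :=
    Ideal.isMaximal_comap_of_isIntegral_of_isMaximal _
  have heq := IsLocalRing.eq_maximalIdeal hmax
  refine ⟨fun d hd => ?_⟩
  by_contra hnu
  have h1 : d ∈ maximalIdeal D := (mem_maximalIdeal _).mpr hnu
  rw [← heq] at h1
  exact ((mem_maximalIdeal _).mp h1) hd

end sub

end Groth.Agent.Helper2.HExt
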