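import Mathlib
import Groth.Prelude

set_option autoImplicit false
set_option linter.style.haveILetI false
set_option linter.unusedSectionVars false
set_option linter.unusedVariables false

universe u

/-!
# Translation between the `p`-power condition and the separable closure condition
-/

namespace Groth.Agent.Helper2.HExt

open IsLocalRing

section trans

variable (D D' : Type u) [CommRing D] [CommRing D'] [Algebra D D'] [Algebra.IsIntegral D D']
  (M : Ideal D') [M.IsMaximal]

set_option maxHeartbeats 800000 in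
theorem pi_iff_sepClosure_eq_bot :
    (∀ x : D' ⧸ M, ∃ n : ℕ, x ^ (ringExpChar (D' ⧸ M)) ^ n ∈
        ((Ideal.Quotient.mk M).comp (algebraMap D D')).range) ↔
      separableClosure (Subfield.closure (Set.range
        ((algebraMap D' M.ResidueField).comp (algebraMap D D')))) M.ResidueField = ⊥ := by
  classical
  set l := M.ResidueField with hl
  set ψ : D →+* l := (algebraMap D' l).comp (algebraMap D D') with hψ
  set ψ₀ : D →+* D' ⧸ M := (Ideal.Quotient.mk M).comp (algebraMap D D') with hψ₀
  let ι : D' ⧸ M →+* l := algebraMap (D' ⧸ M) l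
  have hιbij : Function.Bijective ι := M.bijective_algebraMap_quotient_residueField
  have hιψ : ∀ d, ι (ψ₀ d) = ψ d := fun d => rfl
  set K : Subfield l := Subfield.closure (Set.range ψ) with hK
  -- the kernel of `ψ` is maximal
  have hnmax : (M.comap (algebraMap D D')).IsMaximal :=
    Ideal.isMaximal_comap_of_isIntegral_of_isMaximal M
  have hker : ∀ d, ψ d = 0 ↔ d ∈ M.comap (algebraMap D D') := by
    intro d
    show algebraMap D' l (algebraMap D D' d) = 0 ↔ _
    rw [Ideal.algebraMap_residueField_eq_zero]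
    rfl
  -- the range of `ψ` is closed under inverses
  have hinv : ∀ y ∈ ψ.range, y⁻¹ ∈ ψ.range := by
    rintro _ ⟨d, rfl⟩
    by_cases h0 : ψ d = 0
    · rw [h0, inv_zero]; exact zero_mem _
    · have hd : d ∉ M.comap (algebraMap D D') := fun h => h0 ((hker d).mpr h)
      obtain ⟨e, i, hi, hei⟩ := hnmax.exists_inv hd
      refine ⟨e, ?_⟩
      have h0' : ψ i = 0 := (hker i).mpr hi
      have h1 : ψ (e * d + i) = 1 := by rw [hei, map_one]
      rw [map_add, map_mul, h0', add_zero] at h1
      exact eq_inv_of_mul_eq_one_left h1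
  -- `K` is the range of `ψ`
  have hKR : ∀ y : l, y ∈ K ↔ y ∈ ψ.range := by
    intro y
    constructor
    · intro hy
      rw [hK, Subfield.mem_closure_iff] at hy
      obtain ⟨a, ha, b, hb, rfl⟩ := hy
      have hcl : Subring.closure (Set.range ψ) = ψ.range := by
        rw [← RingHom.coe_range]
        exact Subring.closure_eq _
      rw [hcl] at ha hb
      rw [div_eq_mul_inv]
      exact mul_mem ha (hinv b hb)
    · rintro ⟨d, rfl⟩
      exact Subfield.subset_closure ⟨d, rfl⟩
  -- `l` is algebraic over `K`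
  haveI halg : Algebra.IsAlgebraic K l := by
    refine ⟨fun y => ?_⟩
    obtain ⟨x, rfl⟩ := M.algebraMap_residueField_surjective y
    obtain ⟨p, hpm, hp⟩ := Algebra.IsIntegral.isIntegral (R := D) x
    have hψK : ∀ d, ψ d ∈ K := fun d => Subfield.subset_closure ⟨d, rfl⟩
    let ψK : D →+* K := ψ.codRestrict K hψK
    refine ⟨p.map ψK, (Polynomial.Monic.map ψK hpm).ne_zero, ?_⟩
    rw [Polynomial.aeval_def, Polynomial.eval₂_map]
    have h1 : (algebraMap K l).comp ψK = (algebraMap D' l).comp (algebraMap D D') := by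
      ext d; rfl
    rw [h1, ← Polynomial.hom_eval₂, hp, map_zero]
  -- exponential characteristics
  haveI : IsDomain (D' ⧸ M) := Ideal.Quotient.isDomain M
  haveI hp₀ : ExpChar (D' ⧸ M) (ringExpChar (D' ⧸ M)) := ringExpChar.expChar _
  haveI hp₁ : ExpChar l (ringExpChar (D' ⧸ M)) :=
    expChar_of_injective_ringHom hιbij.1 (ringExpChar (D' ⧸ M))
  haveI hp₂ : ExpChar K (ringExpChar (D' ⧸ M)) :=
    RingHom.expChar (algebraMap K l) (algebraMap K l).injective (ringExpChar (D' ⧸ M))
  rw [separableClosure.eq_bot_iff,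
    isPurelyInseparable_iff_pow_mem K (ringExpChar (D' ⧸ M))]
  constructor
  · intro h y
    obtain ⟨x, rfl⟩ := hιbij.2 y
    obtain ⟨n, d, hd⟩ := h x
    refine ⟨n, ⟨ψ d, Subfield.subset_closure ⟨d, rfl⟩⟩, ?_⟩
    show ψ d = ι x ^ _
    rw [← map_pow, ← hd]
    rfl
  · intro h x
    obtain ⟨n, ⟨k, hk⟩, hkn⟩ := h (ι x)
    obtain ⟨d, hd⟩ := (hKR k).mp hk
    refine ⟨n, d, ?_⟩
    apply hιbij.1
    rw [map_pow]
    have : (algebraMap K l) ⟨k, hk⟩ = k := rfl
    rw [← hkn, this, ← hd]
    rfl

end trans

end Groth.Agent.Helper2.HExt
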