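import Mathlib
import Groth.Prelude
import Groth.Agent.Helper2.HExt1
import Groth.Agent.Helper2.HExt2
import Groth.Agent.Helper2.HensIntS
import Groth.Agent.Helper2.EssEtSub2
import Groth.Agent.Helper8.FEtRes

set_option autoImplicit false
set_option linter.style.haveILetI false
set_option linter.unusedSectionVars false
set_option linter.unusedVariables false

universe u

/-!
# S16436
-/

namespace Groth.Agent.Helper2.HExt

open IsLocalRing TensorProduct Groth.Agent.Helper1.Hens Groth.Agent.Helper1

/-- An étale local algebra with local structure map is essentially étale. -/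
theorem isEssentiallyEtale_of_etale_local (A E : Type u) [CommRing A] [IsLocalRing A] [CommRing E]
    [IsLocalRing E] [Algebra A E] [IsLocalHom (algebraMap A E)] [Algebra.Etale A E] :
    EGA4loc.IsEssentiallyEtale A E := by
  refine ⟨E, inferInstance, inferInstance, maximalIdeal E, inferInstance, inferInstance, ?_, ?_⟩
  · exact ((local_hom_TFAE (algebraMap A E)).out 0 4 rfl rfl).mp inferInstance
  · have H : (maximalIdeal E).primeCompl ≤ IsUnit.submonoid E := by
      intro x hx
      by_contra hnu
      exact hx ((mem_maximalIdeal _).mpr hnu)
    exact ⟨(IsLocalization.atUnits E (maximalIdeal E).primeCompl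
      (S := Localization.AtPrime (maximalIdeal E)) H).restrictScalars A⟩

/-- the `p`-power condition on the residue fields of the normalization -/
def PI (D : Type u) [CommRing D] : Prop :=
  ∀ (M : Ideal (integralClosure D (FractionRing D))) [M.IsMaximal],
    ∀ x : (integralClosure D (FractionRing D)) ⧸ M, ∃ n : ℕ,
      x ^ (ringExpChar ((integralClosure D (FractionRing D)) ⧸ M)) ^ n ∈
        ((Ideal.Quotient.mk M).comp (algebraMap D (integralClosure D (FractionRing D)))).range

/-- the separable closure condition of the statement -/
def SC (D : Type u) [CommRing D] : Prop :=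
  ∀ (M : Ideal (integralClosure D (FractionRing D))) [M.IsMaximal],
    separableClosure (Subfield.closure (Set.range
      ((algebraMap (integralClosure D (FractionRing D)) M.ResidueField).comp
        (algebraMap D (integralClosure D (FractionRing D)))))) M.ResidueField = ⊥

theorem pi_iff_sc (D : Type u) [CommRing D] : PI D ↔ SC D := by
  unfold PI SC
  refine forall_congr' fun M => forall_congr' fun hM => ?_
  haveI := hM
  exact pi_iff_sepClosure_eq_bot D (integralClosure D (FractionRing D)) M

section main

variable (A S : Type u) [CommRing A] [HenselianLocalRing A] [IsReduced A] [IsNoetherianRing A]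
  [CommRing S] [IsLocalRing S] [Algebra A S] [IsLocalHom (algebraMap A S)]
  [Hensel.IsStrictHenselization A S] (D : Subalgebra A S) [Module.Finite A D]

theorem ext_iff_of_etale [IsLocalRing D] [IsLocalHom (algebraMap D S)]
    [IsLocalHom (algebraMap A D)] [Algebra.Etale A D] :
    PI D ↔ ∀ Q ∈ minimalPrimes S, Q = Ideal.map (algebraMap D S) (Q.comap (algebraMap D S)) := by
  have hE := isEssentiallyEtale_of_etale_local A D
  haveI : Hensel.IsStrictHenselization D S := isStrictHenselization_of_essEtale A D S hE
  haveI : Algebra.IsIntegral A D := Algebra.IsIntegral.of_finite A D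
  haveI : HenselianLocalRing D := Groth.Agent.Helper2.HensInt.henselianLocalRing_of_isIntegral A D
  haveI : IsLocalHom (algebraMap D D) := ⟨fun a ha => ha⟩
  haveI : Hensel.IsHenselization D D := isHenselization_self D
  haveI : IsNoetherianRing D := Algebra.FiniteType.isNoetherianRing A D
  haveI : IsReduced S := (isReduced_iff_of_isStrictHenselization A S).mp inferInstance
  haveI : IsReduced D := isReduced_of_injective D.val.toRingHom Subtype.val_injective
  exact Groth.Agent.Helper2.HensMinExt.s16431 D D S

end main

end Groth.Agent.Helper2.HExt
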