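import Mathlib
import Groth.Prelude
import Groth.Agent.Helper2.HExt3

set_option autoImplicit false
set_option linter.style.haveILetI false
set_option linter.unusedSectionVars false
set_option linter.unusedVariables false

universe u

/-!
# S16436: the core descent step
-/

namespace Groth.Agent.Helper2.HExt

open IsLocalRing TensorProduct Groth.Agent.Helper1.Hens Groth.Agent.Helper1

section core

variable (E D S : Type u) [CommRing E] [IsLocalRing E] [CommRing D] [HenselianLocalRing D]
  [CommRing S] [IsLocalRing S]
  [Algebra E D] [Algebra D S] [Algebra E S] [IsScalarTower E D S]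
  [IsLocalHom (algebraMap E D)] [IsLocalHom (algebraMap D S)] [IsLocalHom (algebraMap E S)]
  [Hensel.IsStrictHenselization E S] [Algebra.IsIntegral E D] [Algebra.IsIntegral E S]
  [IsPurelyInseparable (ResidueField E) (ResidueField D)]
  [IsNoetherianRing D] [IsReduced D]

attribute [local instance] Algebra.TensorProduct.rightAlgebra

/-- the multiplication map `D ⊗[E] S → S` -/
noncomputable def mu : D ⊗[E] S →ₐ[E] S :=
  Algebra.TensorProduct.productMap (IsScalarTower.toAlgHom E D S) (AlgHom.id E S)

theorem mu_tmul (d : D) (s : S) : mu E D S (d ⊗ₜ[E] s) = algebraMap D S d * s := by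
  simp [mu]

theorem mu_injective (hinj : Function.Injective (algebraMap D S)) (hPI : PI D) :
    Function.Injective (mu E D S) := by
  obtain ⟨hloc, hlh, hH⟩ := Groth.Agent.Helper2.HensIntS.main E D S
  haveI := hloc
  haveI := hlh
  haveI := hH
  haveI : IsLocalHom (algebraMap D D) := ⟨fun a ha => ha⟩
  haveI : Hensel.IsHenselization D D := isHenselization_self D
  have hext := (Groth.Agent.Helper2.HensMinExt.s16431 D D (D ⊗[E] S)).mp hPI
  haveI : IsReduced (D ⊗[E] S) :=
    (isReduced_iff_of_isStrictHenselization D (D ⊗[E] S)).mp inferInstance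
  haveI : Module.FaithfullyFlat D (D ⊗[E] S) := faithfullyFlat_of_isStrictHenselization D _
  haveI : Algebra.IsIntegral D (D ⊗[E] S) := Algebra.IsIntegral.tensorProduct E D S
  have hcomp : ∀ d : D, mu E D S (algebraMap D (D ⊗[E] S) d) = algebraMap D S d := by
    intro d
    rw [Algebra.TensorProduct.algebraMap_apply, mu_tmul]
    simp
  have hker : RingHom.ker (mu E D S).toRingHom ≤ sInf (minimalPrimes (D ⊗[E] S)) := by
    refine le_sInf fun Q hQ => ?_
    haveI : Q.IsPrime := hQ.1.1
    have hQ' := hext Q hQ
    have hq := Groth.Agent.Helper2.Brnch.comap_mem_minimalPrimes (R := D) Q hQ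
    obtain ⟨P, hPprime, hPq⟩ :=
      Ideal.exists_comap_eq_of_mem_minimalPrimes_of_injective hinj _ hq
    haveI := hPprime
    set Pt : Ideal (D ⊗[E] S) := P.comap (mu E D S).toRingHom with hPt
    have hcomapPt : Pt.comap (algebraMap D (D ⊗[E] S)) = Q.comap (algebraMap D (D ⊗[E] S)) := by
      rw [← hPq]
      ext d
      simp only [Ideal.mem_comap, hPt]
      show (mu E D S) (algebraMap D (D ⊗[E] S) d) ∈ P ↔ _
      rw [hcomp]
    have hQle : Q ≤ Pt := by
      rw [hQ', Ideal.map_le_iff_le_comap, hcomapPt]
    have hkerle : RingHom.ker (mu E D S).toRingHom ≤ Pt := by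
      intro x hx
      rw [hPt, Ideal.mem_comap]
      rw [RingHom.mem_ker] at hx
      rw [hx]
      exact zero_mem _
    have hEq : Q = Pt := by
      by_contra hne
      have hlt : Q < Pt := lt_of_le_of_ne hQle hne
      obtain ⟨x, hxP, hxQ⟩ := SetLike.exists_of_lt hlt
      have := Ideal.comap_lt_comap_of_integral_mem_sdiff (R := D) hQle ⟨hxP, hxQ⟩
        (Algebra.IsIntegral.isIntegral x)
      rw [hcomapPt] at this
      exact lt_irrefl _ this
    rw [hEq]
    exact hkerle
  have hnil : sInf (minimalPrimes (D ⊗[E] S)) = ⊥ := by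
    have h1 : sInf (minimalPrimes (D ⊗[E] S)) = (⊥ : Ideal (D ⊗[E] S)).radical :=
      Ideal.sInf_minimalPrimes
    rw [h1]
    exact nilradical_eq_zero _
  rw [hnil, le_bot_iff] at hker
  exact (RingHom.injective_iff_ker_eq_bot _).mpr hker

theorem bijective_of_pi (hinj : Function.Injective (algebraMap D S)) (hPI : PI D) :
    Function.Bijective (algebraMap E D) := by
  haveI : Module.FaithfullyFlat E S := faithfullyFlat_of_isStrictHenselization E S
  have hmu := mu_injective E D S hinj hPI
  refine ⟨?_, ?_⟩
  · have h1 : Function.Injective (algebraMap E S) := FaithfulSMul.algebraMap_injective E S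
    rw [IsScalarTower.algebraMap_eq E D S] at h1
    exact Function.Injective.of_comp h1
  · apply Module.FaithfullyFlat.surjective_of_tensorProduct (S := S)
    intro x
    set y : D ⊗[E] S := Algebra.TensorProduct.comm E S D x with hy
    have h1 : y = (1 : D) ⊗ₜ[E] (mu E D S y) := by
      apply hmu
      rw [mu_tmul, map_one, one_mul]
    obtain ⟨z, hz⟩ : ∃ z : S, y = (1 : D) ⊗ₜ[E] z := ⟨_, h1⟩
    refine ⟨z, ?_⟩
    have h2 : x = (Algebra.TensorProduct.comm E S D).symm y := by
      rw [hy, AlgEquiv.symm_apply_apply]
    rw [h2, hz]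
    rw [Algebra.TensorProduct.algebraMap_apply]
    simp

end core

section main

variable (A S : Type u) [CommRing A] [HenselianLocalRing A] [IsReduced A] [IsNoetherianRing A]
  [CommRing S] [IsLocalRing S] [Algebra A S] [IsLocalHom (algebraMap A S)]
  [hS : Hensel.IsStrictHenselization A S] (D : Subalgebra A S) [Module.Finite A D]

theorem etale_of_pi (hPI : PI D) : Algebra.Etale A D := by
  haveI hint : Algebra.IsIntegral A S := isIntegral_of_henselian A S
  haveI : IsLocalRing D := isLocalRing_sub D
  haveI : IsLocalHom (algebraMap D S) := isLocalHom_sub D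
  haveI : IsLocalHom (algebraMap A D) :=
    Groth.Agent.Helper2.EssEtSub.isLocalHom_algebraMap_sub A S D
  haveI : Algebra.IsIntegral A D := Algebra.IsIntegral.of_finite A D
  haveI : HenselianLocalRing D := Groth.Agent.Helper2.HensInt.henselianLocalRing_of_isIntegral A D
  haveI : IsNoetherianRing D := Algebra.FiniteType.isNoetherianRing A D
  haveI : IsReduced S := (isReduced_iff_of_isStrictHenselization A S).mp inferInstance
  haveI : IsReduced D := isReduced_of_injective D.val.toRingHom Subtype.val_injective
  haveI : IsSepClosure (ResidueField A) (ResidueField S) := hS.isSepClosure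
  haveI : Algebra.IsSeparable (ResidueField A) (ResidueField S) := (hS.isSepClosure).separable
  haveI : Algebra.IsSeparable (ResidueField A) (ResidueField D) :=
    Algebra.isSeparable_tower_bot_of_isSeparable (ResidueField A) (ResidueField D)
      (ResidueField S)
  haveI : FiniteDimensional (ResidueField A) (ResidueField D) := inferInstance
  obtain ⟨E, _, hEloc, _, hElh, hEfin, hEet, ⟨α⟩⟩ :=
    Groth.Agent.Helper8.FEtRes.main A (ResidueField D)
  haveI := hEloc
  haveI := hElh
  haveI := hEfin
  haveI := hEet
  have hE := isEssentiallyEtale_of_etale_local A E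
  have hα : (α.toAlgHom.toRingHom).comp (ResidueField.map (algebraMap A E)) =
      ResidueField.map (algebraMap A D) := by
    ext x
    obtain ⟨a, rfl⟩ := residue_surjective x
    exact α.commutes (residue A a)
  obtain ⟨φ, ⟨hφloc, hφcomp, hφres⟩, -⟩ :=
    EssEt.existsUnique_lift hE (algebraMap A D) α.toAlgHom.toRingHom hα
  letI algED : Algebra E D := φ.toAlgebra
  letI algES : Algebra E S := ((algebraMap D S).comp φ).toAlgebra
  haveI : IsScalarTower A E D :=
    IsScalarTower.of_algebraMap_eq (fun a => (RingHom.congr_fun hφcomp a).symm)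
  haveI : IsScalarTower E D S := IsScalarTower.of_algebraMap_eq (fun _ => rfl)
  haveI : IsScalarTower A E S := IsScalarTower.of_algebraMap_eq (fun a => by
    show algebraMap A S a = algebraMap D S (φ (algebraMap A E a))
    rw [← RingHom.comp_apply φ, hφcomp]
    rfl)
  haveI : IsLocalHom (algebraMap E D) := hφloc
  haveI : IsLocalHom (algebraMap E S) := by
    show IsLocalHom ((algebraMap D S).comp φ)
    exact RingHom.isLocalHom_comp _ _
  haveI : Hensel.IsStrictHenselization E S := isStrictHenselization_of_essEtale A E S hE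
  haveI : Module.Finite E D := Module.Finite.of_restrictScalars_finite A E D
  haveI : Algebra.IsIntegral E D := Algebra.IsIntegral.of_finite E D
  haveI : Algebra.IsIntegral E S := Algebra.IsIntegral.tower_top (R := A)
  haveI : IsPurelyInseparable (ResidueField E) (ResidueField D) := by
    rw [isPurelyInseparable_iff_pow_mem (ResidueField E) (ringExpChar (ResidueField E))]
    intro x
    refine ⟨0, ?_⟩
    obtain ⟨y, rfl⟩ := α.surjective x
    obtain ⟨e, rfl⟩ := residue_surjective y
    refine ⟨residue E e, ?_⟩
    rw [pow_zero, pow_one]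
    exact hφres e
  have hbij := bijective_of_pi E D S Subtype.val_injective hPI
  let e : E ≃ₐ[A] D := AlgEquiv.ofBijective (IsScalarTower.toAlgHom A E D) hbij
  exact Algebra.Etale.of_equiv e

theorem main :
    (Algebra.Etale A D ∧ ∀ Q ∈ minimalPrimes S,
      Q = Ideal.map (algebraMap D S) (Q.comap (algebraMap D S))) ↔ SC D := by
  haveI hint : Algebra.IsIntegral A S := isIntegral_of_henselian A S
  haveI : IsLocalRing D := isLocalRing_sub D
  haveI : IsLocalHom (algebraMap D S) := isLocalHom_sub D
  haveI : IsLocalHom (algebraMap A D) :=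
    Groth.Agent.Helper2.EssEtSub.isLocalHom_algebraMap_sub A S D
  rw [← pi_iff_sc]
  constructor
  · rintro ⟨het, hext⟩
    haveI := het
    exact (ext_iff_of_etale A S D).mpr hext
  · intro hPI
    have het := etale_of_pi A S D hPI
    haveI := het
    exact ⟨het, (ext_iff_of_etale A S D).mp hPI⟩

end main

end Groth.Agent.Helper2.HExt
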