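import Mathlib
import Groth.Agent.Helper2.HS6

set_option autoImplicit false
universe u
open CategoryTheory CategoryTheory.Limits MonoidalCategory CartesianMonoidalCategory MonObj GrpObj AlgebraicGeometry
open Groth.Agent.Helper2

namespace Groth.Agent.Helper2.HS7

open Groth.Agent.Helper2.HS5

variable {k : Type u} [Field k] {G X : Over (Spec (CommRingCat.of k))} [GrpObj G]

lemma compactSpace_of_isEmbedding {A B : Type*} [TopologicalSpace A] [TopologicalSpace B]
    (f : A → B) (hf : Topology.IsEmbedding f) (h : IsCompact (Set.range f)) : CompactSpace A := by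
  haveI : CompactSpace (Set.range f) := isCompact_iff_compactSpace.mp h
  exact hf.toHomeomorph.symm.compactSpace

/-- the product of a compact closed subset of `G` with an affine open of `X` is compact -/
lemma isCompact_prod (C0 : Set G.left) (hcl : IsClosed C0) (hc : IsCompact C0) (U : X.left.Opens)
    (hU : IsAffineOpen U) :
    IsCompact ((fst G X).left ⁻¹' C0 ∩ (snd G X).left ⁻¹' (U : Set X.left)) := by
  haveI : IsAffine (U : Scheme) := hU
  haveI : CompactSpace ↥(redSub G.left C0 hcl) :=
    compactSpace_of_isEmbedding _ (redSubι G.left C0 hcl).isEmbedding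
      (by rw [range_redSubι]; exact hc)
  let f1 := redSubι G.left C0 hcl ≫ G.hom
  let f2 := U.ι ≫ X.hom
  haveI : QuasiCompact f2 := inferInstance
  haveI : CompactSpace ↥(pullback f1 f2) := inferInstance
  let m := pullback.map f1 f2 G.hom X.hom (redSubι G.left C0 hcl) U.ι (𝟙 _)
    (by simp [f1]) (by simp [f2])
  have hr : Set.range m = (fst G X).left ⁻¹' C0 ∩ (snd G X).left ⁻¹' (U : Set X.left) := by
    have := Scheme.Pullback.range_map f1 f2 G.hom X.hom (redSubι G.left C0 hcl) U.ι (𝟙 _)
      (by simp [f1]) (by simp [f2])
    rw [range_redSubι, Scheme.Opens.range_ι] at this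
    exact this
  rw [← hr]
  exact isCompact_range m.continuous

end Groth.Agent.Helper2.HS7
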