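import Mathlib
import Groth.Prelude.Def_AlgGrp
import Groth.Agent.Helper2.Grpd20
import Groth.Agent.Helper2.Grpd21
import Groth.Agent.Helper2.Grpd22
import Groth.Agent.Helper2.GrpOneGen
import Groth.Agent.Helper2.GrpTrans
import Groth.Agent.Helper2.HS2
import Groth.Agent.Helper2.HS3
import Groth.Agent.Helper2.HS4
import Groth.Agent.Helper2.HS5
import Groth.Agent.Helper2.HS6

set_option autoImplicit false
universe u
open CategoryTheory CategoryTheory.Limits MonoidalCategory CartesianMonoidalCategory MonObj GrpObj AlgebraicGeometry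

namespace Groth.Agent.Helper2.HS8

open Groth.Agent.Helper2 Groth.Agent.Helper2.Grpd20 Groth.Agent.Helper2.HS2

/-- points of a fibre product over a rational point are determined by their first projection -/
lemma inj_fibre_rational {S X Y : Scheme.{u}} (f : X ⟶ S) (σ : S ⟶ X) (hσ : σ ≫ f = 𝟙 _)
    (g : Y ⟶ S) (w₁ w₂ : ↥(pullback g f)) (h₁ : pullback.snd g f w₁ ∈ Set.range σ)
    (h₂ : pullback.snd g f w₂ ∈ Set.range σ)
    (h : pullback.fst g f w₁ = pullback.fst g f w₂) : w₁ = w₂ := by
  let e := pullbackLeftPullbackSndIso g f σ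
  have he : e.hom ≫ pullback.fst g (σ ≫ f) =
      pullback.fst (pullback.snd g f) σ ≫ pullback.fst g f :=
    pullbackLeftPullbackSndIso_hom_fst _ _ _
  haveI : IsIso (σ ≫ f) := by rw [hσ]; infer_instance
  haveI : IsIso (pullback.fst g (σ ≫ f)) := inferInstance
  haveI : IsIso (pullback.fst (pullback.snd g f) σ ≫ pullback.fst g f) := by
    rw [← he]; infer_instance
  have hinj : Function.Injective (pullback.fst (pullback.snd g f) σ ≫ pullback.fst g f) :=
    (asIso (pullback.fst (pullback.snd g f) σ ≫ pullback.fst g f)).hom.homeomorph.injective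
  have hr := Scheme.Pullback.range_fst (f := pullback.snd g f) (g := σ)
  have h₁' : w₁ ∈ Set.range (pullback.fst (pullback.snd g f) σ) := by rw [hr]; exact h₁
  have h₂' : w₂ ∈ Set.range (pullback.fst (pullback.snd g f) σ) := by rw [hr]; exact h₂
  obtain ⟨q₁, rfl⟩ := h₁'
  obtain ⟨q₂, rfl⟩ := h₂'
  have : q₁ = q₂ := hinj (by rw [Scheme.Hom.comp_apply, Scheme.Hom.comp_apply]; exact h)
  rw [this]

variable {k : Type u} [Field k] {G X : Over (Spec (CommRingCat.of k))} [GrpObj G]
  (a : AlgGrp.Action G X)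

section main

variable (C0 : Set G.left) (hC0 : C0 ∈ irreducibleComponents G.left)
  (pt : ↥(𝟙_ (Over (Spec (CommRingCat.of k)))).left) (he : η[G].left pt ∈ C0)
  (hΦ : Surjective (lift a.act (snd G X)).left)

include hC0 he hΦ in
/-- every point of a homogeneous space lies on a unique irreducible component -/
theorem unique_comp (x₁ : X.left) (Y₁ Y₂ : Set X.left) (hY₁ : Y₁ ∈ irreducibleComponents X.left)
    (hY₂ : Y₂ ∈ irreducibleComponents X.left) (h₁ : x₁ ∈ Y₁) (h₂ : x₁ ∈ Y₂) : Y₁ = Y₂ := by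
  by_contra hne
  have hcl₁ : IsClosed Y₁ := isClosed_of_mem_irreducibleComponents Y₁ hY₁
  have hcl₂ : IsClosed Y₂ := isClosed_of_mem_irreducibleComponents Y₂ hY₂
  have hgen : IsGenericPoint hY₁.1.genericPoint Y₁ := by
    have := hY₁.1.isGenericPoint_genericPoint_closure
    rwa [hcl₁.closure_eq] at this
  set y₁ := hY₁.1.genericPoint
  let U : X.left.Opens := ⟨Y₂ᶜ, hcl₂.isOpen_compl⟩
  have hy₁U : y₁ ∈ U := by
    intro hy
    apply hne
    have hsub : Y₁ ⊆ Y₂ := by
      rw [← hgen.def]
      exact closure_minimal (Set.singleton_subset_iff.mpr hy) hcl₂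
    exact (hY₁.2 hY₂.1 hsub).antisymm hsub |>.symm ▸ rfl
  have hV := HS5.mul_eq_sUnion a C0 hC0 pt he hΦ U
  have hx₁ : x₁ ∈ ⋃₀ {Z : Set X.left | Z ∈ irreducibleComponents ↥X.left ∧
      ∃ ξ ∈ U, closure {ξ} = Z} := ⟨Y₁, ⟨hY₁, y₁, hy₁U, hgen.def⟩, h₁⟩
  rw [← hV] at hx₁
  obtain ⟨w, ⟨hw1, hw2⟩, hw3⟩ := hx₁
  have hu : (snd G X).left w ∈ Y₂ := by
    have := HS5.stable a C0 hC0 pt he Y₂ hY₂ (show a.act.left ((σ a).left w) ∈ _ from
      ⟨(σ a).left w, ⟨?_, ?_⟩, rfl⟩)
    · rwa [← Scheme.Hom.comp_apply, ← Over.comp_left, σ_act] at this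
    · rw [Set.mem_preimage, ← Scheme.Hom.comp_apply, ← Over.comp_left, σ_fst, Hom.inv_def,
        Over.comp_left, Scheme.Hom.comp_apply]
      exact HS6.inv_mem G C0 hC0 pt he hw1
    · rw [Set.mem_preimage, ← Scheme.Hom.comp_apply, ← Over.comp_left, σ_snd, hw3]
      exact h₂
  exact hw2 hu

end main

instance : Subsingleton ↥(𝟙_ (Over (Spec (CommRingCat.of k)))).left :=
  inferInstanceAs (Subsingleton ↥(Spec (CommRingCat.of k)))

/-- "division" of two points of `G × X` with the same image under the action -/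
lemma exists_div (u : ↥(pullback a.act.left a.act.left)) :
    ∃ (w : ↥(G ⊗ X).left) (v : ↥(G ⊗ G).left),
      (snd G X).left w = (snd G X).left (pullback.fst a.act.left a.act.left u) ∧
      a.act.left w = (snd G X).left (pullback.snd a.act.left a.act.left u) ∧
      (fst G G).left v = ι[G].left ((fst G X).left (pullback.snd a.act.left a.act.left u)) ∧
      (snd G G).left v = (fst G X).left (pullback.fst a.act.left a.act.left u) ∧
      μ[G].left v = (fst G X).left w := by
  let T : Over (Spec (CommRingCat.of k)) :=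
    Over.mk (pullback.fst a.act.left a.act.left ≫ (G ⊗ X).hom)
  let p_1 : T ⟶ G ⊗ X := Over.homMk (pullback.fst a.act.left a.act.left) rfl
  let p_2 : T ⟶ G ⊗ X := Over.homMk (pullback.snd a.act.left a.act.left) (by
    have h1 : (G ⊗ X).hom = a.act.left ≫ X.hom := (Over.w a.act).symm
    change pullback.snd a.act.left a.act.left ≫ (G ⊗ X).hom =
      pullback.fst a.act.left a.act.left ≫ (G ⊗ X).hom
    rw [h1, ← Category.assoc, ← Category.assoc, pullback.condition])
  have hp12 : p_1 ≫ a.act = p_2 ≫ a.act := by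
    apply Over.OverMorphism.ext
    exact pullback.condition
  let g := p_1 ≫ fst G X
  let z := p_1 ≫ snd G X
  let g' := p_2 ≫ fst G X
  let z' := p_2 ≫ snd G X
  have h : smul a g z = smul a g' z' := by
    have e1 : smul a g z = p_1 ≫ a.act := by
      conv_rhs => rw [act_eq a, comp_smul]
    have e2 : smul a g' z' = p_2 ≫ a.act := by
      conv_rhs => rw [act_eq a, comp_smul]
    rw [e1, e2, hp12]
  let θ : T ⟶ G ⊗ X := lift (g'⁻¹ * g) z
  let θ' : T ⟶ G ⊗ G := lift (g'⁻¹) g
  have hθact : θ ≫ a.act = z' := smul_inv_mul_eq a g g' z z' h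
  have hθsnd : θ ≫ snd G X = z := lift_snd _ _
  have hθfst : θ ≫ fst G X = θ' ≫ μ[G] := by
    rw [lift_fst, Hom.mul_def]
  have hθ'fst : θ' ≫ fst G G = p_2 ≫ fst G X ≫ ι[G] := by
    rw [lift_fst, Hom.inv_def, Category.assoc]
  have hθ'snd : θ' ≫ snd G G = g := lift_snd _ _
  refine ⟨θ.left u, θ'.left u, ?_, ?_, ?_, ?_, ?_⟩
  · rw [← Scheme.Hom.comp_apply, ← Over.comp_left, hθsnd]; rfl
  · rw [← Scheme.Hom.comp_apply, ← Over.comp_left, hθact]; rfl
  · rw [← Scheme.Hom.comp_apply, ← Over.comp_left, hθ'fst]; rfl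
  · rw [← Scheme.Hom.comp_apply, ← Over.comp_left, hθ'snd]; rfl
  · rw [← Scheme.Hom.comp_apply, ← Over.comp_left, ← hθfst]; rfl

section orbit

variable (C0 : Set G.left) (hC0 : C0 ∈ irreducibleComponents G.left)
  (pt : ↥(𝟙_ (Over (Spec (CommRingCat.of k)))).left) (he : η[G].left pt ∈ C0)
  (hΦ : Surjective (lift a.act (snd G X)).left)
  (x : 𝟙_ (Over (Spec (CommRingCat.of k))) ⟶ X)

/-- `g ↦ (g, x)` -/
noncomputable def sx : G ⟶ G ⊗ X := lift (𝟙 G) (toUnit G ≫ x)

omit [GrpObj G] in
lemma sx_fst : sx (G := G) x ≫ fst G X = 𝟙 G := lift_fst _ _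

omit [GrpObj G] in
lemma sx_snd : sx (G := G) x ≫ snd G X = toUnit G ≫ x := lift_snd _ _

lemma orbitMap_eq : a.orbitMap x = sx x ≫ a.act := rfl

omit [GrpObj G] in
lemma sx_snd_apply (g : G.left) : (snd G X).left ((sx (G := G) x).left g) = x.left pt := by
  rw [← Scheme.Hom.comp_apply, ← Over.comp_left, sx_snd, Over.comp_left, Scheme.Hom.comp_apply]
  congr 1
  exact Subsingleton.elim _ _

omit [GrpObj G] in
lemma sx_fst_apply (g : G.left) : (fst G X).left ((sx (G := G) x).left g) = g := by
  rw [← Scheme.Hom.comp_apply, ← Over.comp_left, sx_fst]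
  rfl

omit [GrpObj G] in
/-- points of `G × X` over the rational point `x` come from `G` -/
lemma eq_sx_of_snd (w : ↥(G ⊗ X).left) (hw : (snd G X).left w = x.left pt) :
    w = (sx (G := G) x).left ((fst G X).left w) := by
  have hσ : x.left ≫ X.hom = 𝟙 _ := by
    simp
  refine inj_fibre_rational X.hom x.left hσ G.hom w _ ?_ ?_ ?_
  · exact ⟨pt, hw.symm⟩
  · exact ⟨pt, (sx_snd_apply pt x _).symm⟩
  · exact (sx_fst_apply x _).symm

include hC0 he hΦ in
/-- the orbit map of a rational point maps the identity component onto the irreducible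
component of the point -/
theorem orbit_image (Y : Set X.left) (hY : Y ∈ irreducibleComponents X.left)
    (hxY : x.left pt ∈ Y) : (a.orbitMap x).left '' C0 = Y := by
  have hcl : IsClosed Y := isClosed_of_mem_irreducibleComponents Y hY
  apply Set.Subset.antisymm
  · rintro _ ⟨g, hg, rfl⟩
    rw [orbitMap_eq, Over.comp_left, Scheme.Hom.comp_apply]
    apply HS5.stable a C0 hC0 pt he Y hY
    refine ⟨_, ⟨?_, ?_⟩, rfl⟩
    · rw [Set.mem_preimage, sx_fst_apply]; exact hg
    · rw [Set.mem_preimage, sx_snd_apply pt]; exact hxY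
  · intro y' hy'
    have hgen : IsGenericPoint hY.1.genericPoint Y := by
      have := hY.1.isGenericPoint_genericPoint_closure
      rwa [hcl.closure_eq] at this
    set ξ := hY.1.genericPoint
    have hmax : IsMaxPt ξ := Grpd22.isMaxPt_genericPoint hY hgen
    obtain ⟨w1, hw1s, hw1a, hw1f⟩ := HS4.key a hΦ (x.left pt) ξ hmax (hgen.specializes hxY) pt
    obtain ⟨w2, hw2s, hw2a, hw2f⟩ := HS4.key a hΦ y' ξ hmax (hgen.specializes hy') pt
    obtain ⟨u, hu1, hu2⟩ := Scheme.Pullback.exists_preimage_pullback (f := a.act.left)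
      (g := a.act.left) w1 w2 (hw1a.trans hw2a.symm)
    obtain ⟨w, v, h1, h2, h3, h4, h5⟩ := exists_div a u
    rw [hu1] at h1 h4
    rw [hu2] at h2 h3
    have hfw : (fst G X).left w ∈ C0 := by
      rw [← h5]
      apply HS6.mul_mem G C0 hC0 pt he
      · rw [h3]
        exact HS6.inv_mem G C0 hC0 pt he (HS5.mem_of_specializes C0 hC0 pt he hw2f)
      · rw [h4]
        exact HS5.mem_of_specializes C0 hC0 pt he hw1f
    refine ⟨(fst G X).left w, hfw, ?_⟩
    rw [orbitMap_eq, Over.comp_left, Scheme.Hom.comp_apply, ← eq_sx_of_snd pt x w (h1.trans hw1s),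
      h2, hw2s]

include hC0 he hΦ in
/-- in a quasi-separated homogeneous space, the connected component of a rational point is its
irreducible component -/
theorem connectedComponent_eq [QuasiSeparatedSpace X.left] (Y : Set X.left)
    (hY : Y ∈ irreducibleComponents X.left) (hxY : x.left pt ∈ Y) :
    connectedComponent (x.left pt) = Y := by
  have hcl : IsClosed Y := isClosed_of_mem_irreducibleComponents Y hY
  apply Set.Subset.antisymm
  · intro g hg
    by_contra hgY
    have hdisj : ∀ p, p ∈ irreducibleComponent g → p ∉ Y := by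
      intro p hp hpY
      have := unique_comp a C0 hC0 pt he hΦ p _ _
        (irreducibleComponent_mem_irreducibleComponents g) hY hp hpY
      exact hgY (this ▸ mem_irreducibleComponent)
    have hcomp : IsCompact Y := by
      rw [← orbit_image a C0 hC0 pt he hΦ x Y hY hxY]
      exact (HS6.isCompact_C0 G C0 hC0 pt he).image (a.orbitMap x).left.continuous
    have hcov : ∀ p : Y, ∃ V : X.left.Opens, IsAffineOpen V ∧ p.1 ∈ V ∧
        (V : Set X.left) ⊆ (irreducibleComponent g)ᶜ := by
      intro p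
      obtain ⟨_, ⟨V, hV, rfl⟩, hpV, hsub⟩ := X.left.isBasis_affineOpens.exists_subset_of_mem_open
        (show p.1 ∈ (irreducibleComponent g)ᶜ from fun h => hdisj _ h p.2)
        isClosed_irreducibleComponent.isOpen_compl
      exact ⟨V, hV, hpV, hsub⟩
    choose V hV1 hV2 hV3 using hcov
    obtain ⟨t, ht⟩ := hcomp.elim_finite_subcover (fun p => (V p : Set X.left))
      (fun p => (V p).2) (fun y hy => Set.mem_iUnion.mpr ⟨⟨y, hy⟩, hV2 ⟨y, hy⟩⟩)
    let U : X.left.Opens := ⨆ p ∈ t, V p
    have hUc : IsCompact (U : Set X.left) := by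
      have : (U : Set X.left) = ⋃ p ∈ t, (V p : Set X.left) := by
        simp [U]
      rw [this]
      exact t.isCompact_biUnion fun p _ => (hV1 p).isCompact
    have hYU : Y ⊆ (U : Set X.left) := by
      intro y hy
      have := ht hy
      simpa [U] using this
    have hUg : (U : Set X.left) ⊆ (irreducibleComponent g)ᶜ := by
      intro y hy
      have : y ∈ ⋃ p ∈ t, (V p : Set X.left) := by simpa [U] using hy
      obtain ⟨p, hp⟩ := Set.mem_iUnion.mp this
      obtain ⟨-, hp'⟩ := Set.mem_iUnion.mp hp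
      exact hV3 p hp'
    have hretro : IsRetrocompact (U : Set X.left) := fun W hW hWo =>
      QuasiSeparatedSpace.inter_isCompact _ _ U.2 hUc hWo hW
    set W := a.act.left '' ((fst G X).left ⁻¹' C0 ∩ (snd G X).left ⁻¹' (U : Set X.left))
      with hWdef
    have hWo : IsOpen W := HS5.isOpen_mul a C0 hC0 U
    have hWc : W = closure (U : Set X.left) :=
      HS5.mul_eq_closure a C0 hC0 pt he hΦ U hretro
    have hWu := HS5.mul_eq_sUnion a C0 hC0 pt he hΦ U
    have hclopen : IsClopen W := ⟨hWc ▸ isClosed_closure, hWo⟩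
    have heW : x.left pt ∈ W := by
      rw [hWc]; exact subset_closure (hYU hxY)
    have hgW : g ∈ W := hclopen.connectedComponent_subset heW hg
    rw [hWdef, hWu] at hgW
    obtain ⟨Z, ⟨hZ, ξ, hξU, rfl⟩, hgZ⟩ := hgW
    have h1 := unique_comp a C0 hC0 pt he hΦ g _ _
      (irreducibleComponent_mem_irreducibleComponents g) hZ mem_irreducibleComponent hgZ
    have h3 : ξ ∈ irreducibleComponent g := by
      rw [h1]; exact subset_closure rfl
    exact hUg hξU h3
  · exact hY.1.isConnected.isPreconnected.subset_connectedComponent hxY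

include hC0 he hΦ in
/-- the irreducible component of a rational point of a homogeneous space is geometrically
irreducible -/
theorem geomIrr_X (Y : Set X.left) (hY : Y ∈ irreducibleComponents X.left)
    (hxY : x.left pt ∈ Y) {K : Type u} [Field K]
    (t : Spec (CommRingCat.of K) ⟶ Spec (CommRingCat.of k)) :
    IsIrreducible ((pullback.fst X.hom t) ⁻¹' Y) := by
  have hcl : IsClosed Y := isClosed_of_mem_irreducibleComponents Y hY
  let φ := a.orbitMap x
  let q := pullback.fst X.hom t
  haveI : Flat q := inferInstance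
  have hqgen : GeneralizingMap q := Flat.generalizingMap q
  have himg := orbit_image a C0 hC0 pt he hΦ x Y hY hxY
  -- the base change of the orbit map
  let D := pullback φ.left q
  let d1 : D ⟶ G.left := pullback.fst φ.left q
  let d2 : D ⟶ pullback X.hom t := pullback.snd φ.left q
  let e1 := pullbackRightPullbackFstIso X.hom t φ.left
  let e2 := pullback.congrHom (Over.w φ) (rfl : t = t)
  have he12 : (e1 ≪≫ e2).hom ≫ pullback.fst G.hom t = d1 := by
    have h2 : e2.hom ≫ pullback.fst G.hom t = pullback.fst (φ.left ≫ X.hom) t := by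
      rw [pullback.congrHom_hom, pullback.lift_fst, Category.comp_id]
    rw [Iso.trans_hom, Category.assoc, h2]
    exact pullbackRightPullbackFstIso_hom_fst _ _ _
  have hI : IsIrreducible (d1 ⁻¹' C0) := by
    have h1 := HS3.geomIrr G C0 hC0 pt he t
    have : d1 ⁻¹' C0 = (e1 ≪≫ e2).inv '' ((pullback.fst G.hom t) ⁻¹' C0) := by
      ext p
      constructor
      · intro hp
        refine ⟨(e1 ≪≫ e2).hom p, ?_, ?_⟩
        · rw [Set.mem_preimage, ← Scheme.Hom.comp_apply, he12]; exact hp
        · rw [← Scheme.Hom.comp_apply, Iso.hom_inv_id]; rfl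
      · rintro ⟨p', hp', rfl⟩
        rw [Set.mem_preimage, ← he12, ← Scheme.Hom.comp_apply, Iso.inv_hom_id_assoc]
        exact hp'
    rw [this]
    exact h1.image _ (e1 ≪≫ e2).inv.continuous.continuousOn
  have hIK : IsIrreducible (d2 '' (d1 ⁻¹' C0)) := hI.image _ d2.continuous.continuousOn
  have hsub : d2 '' (d1 ⁻¹' C0) ⊆ q ⁻¹' Y := by
    rintro _ ⟨p, hp, rfl⟩
    rw [Set.mem_preimage, ← Scheme.Hom.comp_apply, ← pullback.condition, Scheme.Hom.comp_apply,
      ← himg]
    exact ⟨d1 p, hp, rfl⟩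
  -- generic point of Y
  have hgen : IsGenericPoint hY.1.genericPoint Y := by
    have := hY.1.isGenericPoint_genericPoint_closure
    rwa [hcl.closure_eq] at this
  set ξ := hY.1.genericPoint
  have hmax : IsMaxPt ξ := Grpd22.isMaxPt_genericPoint hY hgen
  have hξ : ξ ∈ (a.orbitMap x).left '' C0 := by rw [himg]; exact hgen.mem
  obtain ⟨gam, hgam, hgamξ⟩ := hξ
  have hclosure : q ⁻¹' Y = closure (d2 '' (d1 ⁻¹' C0)) := by
    apply Set.Subset.antisymm
    · intro y hy
      obtain ⟨y', hy', hy''⟩ := hqgen (hgen.specializes hy)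
      obtain ⟨ζ, hζ, hζy⟩ := Grpd21.exists_isMaxPt y'
      have h3 : q ζ = ξ := hmax _ (hy'' ▸ hζy.map q.continuous)
      obtain ⟨p, hp1, hp2⟩ := Scheme.Pullback.exists_preimage_pullback (f := φ.left) (g := q)
        gam ζ (hgamξ.trans h3.symm)
      have hζI : ζ ∈ d2 '' (d1 ⁻¹' C0) := ⟨p, by rw [Set.mem_preimage]; exact hp1 ▸ hgam, hp2⟩
      exact (hζy.trans hy').mem_closed isClosed_closure (subset_closure hζI)
    · exact closure_minimal hsub (hcl.preimage q.continuous)
  change IsIrreducible (q ⁻¹' Y)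
  rw [hclosure]
  exact hIK.closure

end orbit

end Groth.Agent.Helper2.HS8
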