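import Mathlib
import Groth.Agent.Helper2.HS7
import Groth.Agent.Helper2.HS8

set_option autoImplicit false
universe u
open CategoryTheory CategoryTheory.Limits MonoidalCategory CartesianMonoidalCategory MonObj GrpObj AlgebraicGeometry
open Groth.Agent.Helper2

namespace Groth.Agent.Helper2.HS10

open Groth.Agent.Helper2.Grpd20

variable {k : Type u} [Field k] {G X : Over (Spec (CommRingCat.of k))} [GrpObj G]
  (a : AlgGrp.Action G X)
  (C0 : Set G.left) (hC0 : C0 ∈ irreducibleComponents G.left)
  (pt : ↥(𝟙_ (Over (Spec (CommRingCat.of k)))).left) (he : η[G].left pt ∈ C0)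
  (hΦ : Surjective (lift a.act (snd G X)).left)

include hC0 he hΦ in
/-- irreducible components of a homogeneous space are quasi-compact -/
theorem isCompact_comp (Y : Set X.left) (hY : Y ∈ irreducibleComponents X.left) : IsCompact Y := by
  have hcl : IsClosed Y := isClosed_of_mem_irreducibleComponents Y hY
  have hgen : IsGenericPoint hY.1.genericPoint Y := by
    have := hY.1.isGenericPoint_genericPoint_closure
    rwa [hcl.closure_eq] at this
  set ξ := hY.1.genericPoint
  obtain ⟨U, hU, hξU⟩ : ∃ U : X.left.Opens, IsAffineOpen U ∧ ξ ∈ U := by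
    obtain ⟨_, ⟨U, hU, rfl⟩, hx, -⟩ := X.left.isBasis_affineOpens.exists_subset_of_mem_open
      (Set.mem_univ ξ) isOpen_univ
    exact ⟨U, hU, hx⟩
  have hV := HS5.mul_eq_sUnion a C0 hC0 pt he hΦ U
  have hc := HS7.isCompact_prod (X := X) C0 (isClosed_of_mem_irreducibleComponents C0 hC0)
    (HS6.isCompact_C0 G C0 hC0 pt he) U hU
  have hc2 := hc.image a.act.left.continuous
  rw [hV] at hc2
  have hsub : Y ⊆ ⋃₀ {Z : Set X.left | Z ∈ irreducibleComponents ↥X.left ∧
      ∃ ξ ∈ U, closure {ξ} = Z} := fun y hy => ⟨Y, ⟨hY, ξ, hξU, hgen.def⟩, hy⟩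
  exact hc2.of_isClosed_subset hcl hsub

include hC0 he hΦ in
/-- in a quasi-separated homogeneous space, connected components are irreducible components -/
theorem connectedComponent_eq [QuasiSeparatedSpace X.left] (x : X.left) :
    connectedComponent x = irreducibleComponent x := by
  set Y := irreducibleComponent x with hYdef
  have hY : Y ∈ irreducibleComponents X.left := irreducibleComponent_mem_irreducibleComponents x
  have hxY : x ∈ Y := mem_irreducibleComponent
  have hcl : IsClosed Y := isClosed_of_mem_irreducibleComponents Y hY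
  apply Set.Subset.antisymm
  · intro g hg
    by_contra hgY
    have hdisj : ∀ p, p ∈ irreducibleComponent g → p ∉ Y := by
      intro p hp hpY
      have := HS8.unique_comp a C0 hC0 pt he hΦ p _ _
        (irreducibleComponent_mem_irreducibleComponents g) hY hp hpY
      exact hgY (this ▸ mem_irreducibleComponent)
    have hcomp : IsCompact Y := isCompact_comp a C0 hC0 pt he hΦ Y hY
    have hcov : ∀ p : Y, ∃ V : X.left.Opens, IsAffineOpen V ∧ p.1 ∈ V ∧
        (V : Set X.left) ⊆ (irreducibleComponent g)ᶜ := by
      intro p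
      obtain ⟨_, ⟨V, hV, rfl⟩, hpV, hsub⟩ := X.left.isBasis_affineOpens.exists_subset_of_mem_open
        (show p.1 ∈ (irreducibleComponent g)ᶜ from fun h => hdisj _ h p.2)
        isClosed_irreducibleComponent.isOpen_compl
      exact ⟨V, hV, hpV, hsub⟩
    choose V hV1 hV2 hV3 using hcov
    obtain ⟨t, ht⟩ := hcomp.elim_finite_subcover (fun p => (V p : Set X.left))
      (fun p => (V p).2) (fun y hy => Set.mem_iUnion.mpr ⟨⟨y, hy⟩, hV2 ⟨y, hy⟩⟩)
    let U : X.left.Opens := ⨆ p ∈ t, V p
    have hUc : IsCompact (U : Set X.left) := by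
      have : (U : Set X.left) = ⋃ p ∈ t, (V p : Set X.left) := by
        simp [U]
      rw [this]
      exact t.isCompact_biUnion fun p _ => (hV1 p).isCompact
    have hYU : Y ⊆ (U : Set X.left) := by
      intro y hy
      have := ht hy
      simpa [U] using this
    have hUg : (U : Set X.left) ⊆ (irreducibleComponent g)ᶜ := by
      intro y hy
      have : y ∈ ⋃ p ∈ t, (V p : Set X.left) := by simpa [U] using hy
      obtain ⟨p, hp⟩ := Set.mem_iUnion.mp this
      obtain ⟨-, hp'⟩ := Set.mem_iUnion.mp hp
      exact hV3 p hp'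
    have hretro : IsRetrocompact (U : Set X.left) := fun W hW hWo =>
      QuasiSeparatedSpace.inter_isCompact _ _ U.2 hUc hWo hW
    set W := a.act.left '' ((fst G X).left ⁻¹' C0 ∩ (snd G X).left ⁻¹' (U : Set X.left))
      with hWdef
    have hWo : IsOpen W := HS5.isOpen_mul a C0 hC0 U
    have hWc : W = closure (U : Set X.left) :=
      HS5.mul_eq_closure a C0 hC0 pt he hΦ U hretro
    have hWu := HS5.mul_eq_sUnion a C0 hC0 pt he hΦ U
    have hclopen : IsClopen W := ⟨hWc ▸ isClosed_closure, hWo⟩
    have heW : x ∈ W := by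
      rw [hWc]; exact subset_closure (hYU hxY)
    have hgW : g ∈ W := hclopen.connectedComponent_subset heW hg
    rw [hWdef, hWu] at hgW
    obtain ⟨Z, ⟨hZ, ξ, hξU, rfl⟩, hgZ⟩ := hgW
    have h1 := HS8.unique_comp a C0 hC0 pt he hΦ g _ _
      (irreducibleComponent_mem_irreducibleComponents g) hZ mem_irreducibleComponent hgZ
    have h3 : ξ ∈ irreducibleComponent g := by
      rw [h1]; exact subset_closure rfl
    exact hUg hξU h3
  · exact hY.1.isConnected.isPreconnected.subset_connectedComponent hxY

end Groth.Agent.Helper2.HS10
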