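import Mathlib
import Groth.Prelude.Def_AlgGrp
import Groth.Prelude.Def_Red

set_option autoImplicit false
universe u
open CategoryTheory CategoryTheory.Limits MonoidalCategory CartesianMonoidalCategory AlgebraicGeometry

namespace Groth.Agent.Helper2.HS9

open Functor.LaxMonoidal Functor.OplaxMonoidal Functor.Monoidal

variable {S S' : Scheme.{u}} (f : S' ⟶ S) {G X : Over S} [GrpObj G] (a : AlgGrp.Action G X)

/-- base change of an action -/
noncomputable def bcAction : AlgGrp.Action (Red.bc f G) (Red.bc f X) where
  act := μ (Over.pullback f) G X ≫ (Over.pullback f).map a.act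
  one_act := by
    change ((ε (Over.pullback f) ≫ (Over.pullback f).map MonObj.one) ▷ (Over.pullback f).obj X) ≫
      μ (Over.pullback f) G X ≫ (Over.pullback f).map a.act = (λ_ ((Over.pullback f).obj X)).hom
    rw [comp_whiskerRight, Category.assoc, μ_natural_left_assoc, ← Functor.map_comp, a.one_act]
    simp
  mul_act := by
    change ((μ (Over.pullback f) G G ≫ (Over.pullback f).map MonObj.mul) ▷
        (Over.pullback f).obj X) ≫
      μ (Over.pullback f) G X ≫ (Over.pullback f).map a.act =
      (α_ _ _ _).hom ≫ ((Over.pullback f).obj G ◁ (μ (Over.pullback f) G X ≫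
        (Over.pullback f).map a.act)) ≫ μ (Over.pullback f) G X ≫ (Over.pullback f).map a.act
    simp_rw [comp_whiskerRight, Category.assoc, μ_natural_left_assoc,
      MonoidalCategory.whiskerLeft_comp, Category.assoc, μ_natural_right_assoc]
    slice_lhs 3 4 => rw [← Functor.map_comp, a.mul_act]
    simp

omit [GrpObj G] in
lemma surjective_pullback_map {A B : Over S} (k : A ⟶ B) (hk : Surjective k.left) :
    Surjective ((Over.pullback f).map k).left := by
  have h1 : ((Over.pullback f).map k).left =
      pullback.map A.hom f B.hom f k.left (𝟙 _) (𝟙 _) (by simp) (by simp) := by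
    apply pullback.hom_ext
    · erw [pullback.lift_fst]
    · erw [pullback.lift_snd]
  have h2 := Scheme.Pullback.range_map A.hom f B.hom f k.left (𝟙 _) (𝟙 _) (by simp) (by simp)
  have h3 : Set.range k.left = Set.univ := Set.range_eq_univ.mpr k.left.surjective
  have h4 : Set.range (𝟙 S' : S' ⟶ S') = Set.univ := Set.range_eq_univ.mpr fun y => ⟨y, by simp⟩
  rw [h3, h4, Set.preimage_univ, Set.preimage_univ, Set.inter_univ] at h2
  refine ⟨fun y => ?_⟩
  rw [h1]
  exact Set.range_eq_univ.mp h2 y

/-- the base change of a homogeneous action is homogeneous -/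
theorem surjective_bc (hΦ : Surjective (lift a.act (snd G X)).left) :
    Surjective (lift (bcAction f a).act (snd (Red.bc f G) (Red.bc f X))).left := by
  have key : lift (bcAction f a).act (snd (Red.bc f G) (Red.bc f X)) =
      μ (Over.pullback f) G X ≫ (Over.pullback f).map (lift a.act (snd G X)) ≫
        δ (Over.pullback f) X X := by
    apply CartesianMonoidalCategory.hom_ext
    · rw [lift_fst, Category.assoc, Category.assoc, δ_fst, ← Functor.map_comp, lift_fst]
      rfl
    · rw [lift_snd, Category.assoc, Category.assoc, δ_snd, ← Functor.map_comp, lift_snd, μ_snd]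
  rw [key, Over.comp_left, Over.comp_left]
  haveI : IsIso (μ (Over.pullback f) G X).left :=
    (Over.forget _).map_isIso (μ (Over.pullback f) G X)
  haveI : IsIso (δ (Over.pullback f) X X).left :=
    (Over.forget _).map_isIso (δ (Over.pullback f) X X)
  haveI := surjective_pullback_map f (lift a.act (snd G X)) hΦ
  infer_instance

end Groth.Agent.Helper2.HS9
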