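import Mathlib

set_option autoImplicit false
open RingTheory.Sequence Pointwise Function
universe u v

namespace Groth.Agent.Helper2.RegPow
variable {A : Type u} [CommRing A]

/-- regular sequences on the outer terms of a short exact sequence are regular on the middle. -/
lemma isWeaklyRegular_of_exact : ∀ (rs : List A) {M' M M'' : Type v} [AddCommGroup M'] [Module A M']
    [AddCommGroup M] [Module A M] [AddCommGroup M''] [Module A M'']
    (f : M' →ₗ[A] M) (g : M →ₗ[A] M'') (_ : Injective f) (_ : Exact f g) (_ : Surjective g),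
    IsWeaklyRegular M' rs → IsWeaklyRegular M'' rs → IsWeaklyRegular M rs := by
  intro rs
  induction rs with
  | nil => intro M' M M'' _ _ _ _ _ _ f g _ _ _ _ _; exact IsWeaklyRegular.nil A M
  | cons r rs ih =>
    intro M' M M'' _ _ _ _ _ _ f g hf hfg hg h1 h2
    rw [isWeaklyRegular_cons_iff] at h1 h2 ⊢
    refine ⟨isSMulRegular_of_range_eq_ker hf hfg.linearMap_ker_eq.symm h1.1 h2.1, ?_⟩
    refine ih (QuotSMulTop.map r f) (QuotSMulTop.map r g) ?_ (QuotSMulTop.map_exact r hfg hg)
      (QuotSMulTop.map_surjective r hg) h1.2 h2.2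
    have h0 : Exact (0 : PUnit.{v+1} →ₗ[A] M') f := by
      intro x
      constructor
      · intro hx
        exact ⟨0, by simpa using (hf (by simpa using hx : f x = f 0)).symm⟩
      · rintro ⟨y, rfl⟩
        simp
    have := QuotSMulTop.map_first_exact_on_four_term_exact_of_isSMulRegular_last (r := r)
      h0 hfg h2.1
    rw [injective_iff_map_eq_zero]
    intro x hx
    obtain ⟨y, rfl⟩ := (this x).1 hx
    obtain ⟨y, rfl⟩ := Submodule.Quotient.mk_surjective _ y
    simp

/-- `M/bM --a--> M/(ab)M → M/aM`. -/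
lemma isWeaklyRegular_quot_mul {M : Type v} [AddCommGroup M] [Module A M] (a b : A)
    (ha : IsSMulRegular M a) (rs : List A) (h1 : IsWeaklyRegular (QuotSMulTop a M) rs)
    (h2 : IsWeaklyRegular (QuotSMulTop b M) rs) : IsWeaklyRegular (QuotSMulTop (a * b) M) rs := by
  have hle1 : b • (⊤ : Submodule A M) ≤
      ((a * b) • (⊤ : Submodule A M)).comap (LinearMap.lsmul A M a) := by
    intro x hx
    rw [Submodule.mem_smul_pointwise_iff_exists] at hx
    obtain ⟨y, -, rfl⟩ := hx
    rw [Submodule.mem_comap, Submodule.mem_smul_pointwise_iff_exists]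
    exact ⟨y, trivial, by simp [mul_smul]; rw [smul_comm]⟩
  have hle2 : (a * b) • (⊤ : Submodule A M) ≤ a • (⊤ : Submodule A M) := by
    intro x hx
    rw [Submodule.mem_smul_pointwise_iff_exists] at hx ⊢
    obtain ⟨y, -, rfl⟩ := hx
    exact ⟨b • y, trivial, by simp [mul_smul]⟩
  let φ : QuotSMulTop b M →ₗ[A] QuotSMulTop (a * b) M :=
    Submodule.mapQ _ _ (LinearMap.lsmul A M a) hle1
  let π : QuotSMulTop (a * b) M →ₗ[A] QuotSMulTop a M := Submodule.factor hle2
  refine isWeaklyRegular_of_exact rs φ π ?_ ?_ ?_ h2 h1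
  · rw [injective_iff_map_eq_zero]
    intro x hx
    obtain ⟨x, rfl⟩ := Submodule.Quotient.mk_surjective _ x
    change Submodule.Quotient.mk (a • x) = 0 at hx
    rw [Submodule.Quotient.mk_eq_zero, Submodule.mem_smul_pointwise_iff_exists] at hx ⊢
    obtain ⟨y, -, hy⟩ := hx
    refine ⟨y, trivial, ?_⟩
    apply ha
    simpa [mul_smul] using hy
  · intro x
    obtain ⟨x, rfl⟩ := Submodule.Quotient.mk_surjective _ x
    constructor
    · intro hx
      change Submodule.Quotient.mk x = 0 at hx
      rw [Submodule.Quotient.mk_eq_zero, Submodule.mem_smul_pointwise_iff_exists] at hx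
      obtain ⟨y, -, rfl⟩ := hx
      exact ⟨Submodule.Quotient.mk y, rfl⟩
    · rintro ⟨y, hy⟩
      obtain ⟨y, rfl⟩ := Submodule.Quotient.mk_surjective _ y
      rw [← hy]
      change Submodule.Quotient.mk (a • y) = 0
      rw [Submodule.Quotient.mk_eq_zero, Submodule.mem_smul_pointwise_iff_exists]
      exact ⟨y, trivial, rfl⟩
  · intro x
    obtain ⟨x, rfl⟩ := Submodule.Quotient.mk_surjective _ x
    exact ⟨Submodule.Quotient.mk x, rfl⟩

lemma isWeaklyRegular_quot_pow {M : Type v} [AddCommGroup M] [Module A M] (a : A)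
    (ha : IsSMulRegular M a) (rs : List A) (h1 : IsWeaklyRegular (QuotSMulTop a M) rs) :
    ∀ k : ℕ, 1 ≤ k → IsWeaklyRegular (QuotSMulTop (a ^ k) M) rs := by
  intro k hk
  induction k, hk using Nat.le_induction with
  | base => rw [pow_one]; exact h1
  | succ k hk ih =>
    rw [pow_succ']
    exact isWeaklyRegular_quot_mul a (a ^ k) ha rs h1 ih

lemma main : ∀ (n : ℕ) (M : Type v) [AddCommGroup M] [Module A M] (f : Fin n → A) (v : Fin n → ℕ),
    (∀ i, 1 ≤ v i) → IsWeaklyRegular M (List.ofFn f) →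
    IsWeaklyRegular M (List.ofFn fun i => f i ^ v i) := by
  intro n
  induction n with
  | zero => intro M _ _ f v _ _; simpa using IsWeaklyRegular.nil A M
  | succ n ih =>
    intro M _ _ f v hv hf
    rw [List.ofFn_succ, isWeaklyRegular_cons_iff] at hf ⊢
    refine ⟨hf.1.pow _, ?_⟩
    have := isWeaklyRegular_quot_pow (f 0) hf.1 _ hf.2 (v 0) (hv 0)
    exact ih (QuotSMulTop (f 0 ^ v 0) M) (fun i => f i.succ) (fun i => v i.succ)
      (fun i => hv _) this

end Groth.Agent.Helper2.RegPow
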