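import Mathlib
import Groth.Prelude.Def_CAlg
import Groth.Agent.Helper9.DepthKer
import Groth.Agent.Helper2.RegPow

set_option linter.style.haveILetI false
set_option linter.unusedSectionVars false
set_option autoImplicit false

/-! Hartogs-type statement for duals: a map of modules which is an isomorphism off `V(I)`,
where the ring has `I`-depth at least 2, induces a bijection on duals. -/

namespace Groth.Agent.Helper2.HartogsDual

open Module RingTheory.Sequence

universe u

variable (R : Type u) [CommRing R] (I : Ideal R)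
  {M1 M2 : Type u} [AddCommGroup M1] [Module R M1] [AddCommGroup M2] [Module R M2]
  (ψ : M1 →ₗ[R] M2)

/-- the ideal of elements killing kernel and cokernel -/
def killIdeal : Ideal R where
  carrier := {s | (∀ x, ψ x = 0 → s • x = 0) ∧ ∀ y, s • y ∈ LinearMap.range ψ}
  add_mem' := by
    rintro s t ⟨hs1, hs2⟩ ⟨ht1, ht2⟩
    refine ⟨fun x hx => ?_, fun y => ?_⟩
    · rw [add_smul, hs1 x hx, ht1 x hx, add_zero]
    · rw [add_smul]; exact add_mem (hs2 y) (ht2 y)
  zero_mem' := ⟨fun x _ => zero_smul _ _, fun y => by rw [zero_smul]; exact zero_mem _⟩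
  smul_mem' := by
    rintro c s ⟨hs1, hs2⟩
    refine ⟨fun x hx => ?_, fun y => ?_⟩
    · rw [smul_eq_mul, mul_smul, hs1 x hx, smul_zero]
    · rw [smul_eq_mul, mul_smul]; exact Submodule.smul_mem _ _ (hs2 y)

theorem mem_killIdeal (s : R) :
    s ∈ killIdeal R ψ ↔ (∀ x, ψ x = 0 → s • x = 0) ∧ ∀ y, s • y ∈ LinearMap.range ψ := Iff.rfl

theorem le_radical_killIdeal
    (hloc : ∀ q : PrimeSpectrum R, ¬ I ≤ q.asIdeal → ∃ s : R, s ∉ q.asIdeal ∧
      (∀ x, ψ x = 0 → s • x = 0) ∧ (∀ y, s • y ∈ LinearMap.range ψ)) :
    I ≤ (killIdeal R ψ).radical := by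
  intro r hr
  by_contra hcon
  rw [Ideal.radical_eq_sInf, Submodule.mem_sInf] at hcon
  push Not at hcon
  obtain ⟨q, ⟨hbq, hqp⟩, hrq⟩ := hcon
  obtain ⟨s, hs, h1, h2⟩ := hloc ⟨q, hqp⟩ (fun hle => hrq (hle hr))
  exact hs (hbq ⟨h1, h2⟩)

theorem bijective_of_one_mem (h : (1 : R) ∈ killIdeal R ψ) : Function.Bijective ψ := by
  obtain ⟨h1, h2⟩ := h
  constructor
  · rw [injective_iff_map_eq_zero]
    intro x hx
    simpa using h1 x hx
  · intro y
    simpa using h2 y

variable [IsNoetherianRing R]

theorem dualMap_bijective (hI : 2 ≤ LocCoh.idealDepth I R)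
    (hloc : ∀ q : PrimeSpectrum R, ¬ I ≤ q.asIdeal → ∃ s : R, s ∉ q.asIdeal ∧
      (∀ x, ψ x = 0 → s • x = 0) ∧ (∀ y, s • y ∈ LinearMap.range ψ)) :
    Function.Bijective ψ.dualMap := by
  have hrad := le_radical_killIdeal R I ψ hloc
  by_cases htop : I • (⊤ : Submodule R R) = ⊤
  · -- `I = ⊤`
    have h1 : (1 : R) ∈ I := by
      have : (1 : R) ∈ I • (⊤ : Submodule R R) := by rw [htop]; trivial
      rw [smul_eq_mul, Ideal.mul_top] at this
      exact this
    obtain ⟨k, hk⟩ := hrad h1
    rw [one_pow] at hk
    have hb := bijective_of_one_mem R ψ hk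
    exact (LinearEquiv.ofBijective ψ hb).dualMap.bijective
  · obtain ⟨rs, hreg, hmem, hlen⟩ := Groth.Agent.Helper9.DepthKer.exists_of_le_idealDepth I R 2
      (by norm_num) (by exact_mod_cast hI) htop
    match rs, hreg, hmem, hlen with
    | a :: b :: rest, hreg, hmem, _ =>
      obtain ⟨ka, hka⟩ := hrad (hmem a (by simp))
      obtain ⟨kb, hkb⟩ := hrad (hmem b (by simp))
      have hreg2 : IsWeaklyRegular R [a, b] := by
        rw [isWeaklyRegular_cons_iff, isWeaklyRegular_cons_iff] at hreg ⊢
        exact ⟨hreg.1, hreg.2.1, IsWeaklyRegular.nil _ _⟩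
      have hpow : IsWeaklyRegular R [a ^ (ka + 1), b ^ (kb + 1)] := by
        have := Groth.Agent.Helper2.RegPow.main 2 R ![a, b] ![ka + 1, kb + 1]
          (by intro i; fin_cases i <;> simp) (by simpa using hreg2)
        simpa using this
      set a' := a ^ (ka + 1) with ha'
      set b' := b ^ (kb + 1) with hb'
      have ha'k : a' ∈ killIdeal R ψ := by
        rw [ha', pow_succ]; exact Ideal.mul_mem_right _ _ hka
      have hb'k : b' ∈ killIdeal R ψ := by
        rw [hb', pow_succ]; exact Ideal.mul_mem_right _ _ hkb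
      rw [isWeaklyRegular_cons_iff, isWeaklyRegular_cons_iff] at hpow
      obtain ⟨hareg, hbreg, -⟩ := hpow
      have hbreg' := (Groth.Agent.Helper9.DepthKer.quot_regular_iff a' b').1 hbreg
      have hacancel : ∀ c d : R, a' * c = a' * d → c = d := fun c d h => hareg h
      constructor
      · -- injectivity
        rw [injective_iff_map_eq_zero]
        intro l hl
        ext y
        obtain ⟨x, hx⟩ := ha'k.2 y
        have h0 : l (ψ x) = 0 := by
          have := LinearMap.congr_fun hl x
          simpa using this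
        rw [hx, map_smul, smul_eq_mul] at h0
        rw [LinearMap.zero_apply]
        exact hacancel _ _ (by rw [h0, mul_zero])
      · -- surjectivity
        intro μ
        have hμker : ∀ x, ψ x = 0 → μ x = 0 := by
          intro x hx
          have h0 := ha'k.1 x hx
          have h1 : a' * μ x = 0 := by rw [← smul_eq_mul, ← map_smul, h0, map_zero]
          exact hacancel _ _ (by rw [h1, mul_zero])
        -- well defined value on the range
        have hwd : ∀ x1 x2, ψ x1 = ψ x2 → μ x1 = μ x2 := by
          intro x1 x2 h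
          have := hμker (x1 - x2) (by rw [map_sub, h, sub_self])
          rw [map_sub, sub_eq_zero] at this
          exact this
        -- `g y = μ x` for `ψ x = a' y`
        have hex : ∀ y : M2, ∃ c : R, ∀ x, ψ x = a' • y → μ x = a' * c := by
          intro y
          obtain ⟨xa, hxa⟩ := ha'k.2 y
          obtain ⟨xb, hxb⟩ := hb'k.2 y
          have h1 : b' * μ xa = a' * μ xb := by
            rw [← smul_eq_mul, ← smul_eq_mul, ← map_smul, ← map_smul]
            apply hwd
            rw [map_smul, map_smul, hxa, hxb, smul_comm]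
          obtain ⟨c, hc⟩ := hbreg' (μ xa) ⟨μ xb, by simpa [smul_eq_mul] using h1⟩
          refine ⟨c, fun x hx => ?_⟩
          rw [hwd x xa (by rw [hx, hxa]), hc, smul_eq_mul]
        choose lam hlam using hex
        have hlam' : ∀ y x, ψ x = a' • y → a' * lam y = μ x := fun y x h => (hlam y x h).symm
        let l : M2 →ₗ[R] R :=
          { toFun := lam
            map_add' := by
              intro y1 y2
              obtain ⟨x1, hx1⟩ := ha'k.2 y1
              obtain ⟨x2, hx2⟩ := ha'k.2 y2
              apply hacancel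
              rw [hlam' (y1 + y2) (x1 + x2) (by rw [map_add, hx1, hx2, smul_add]), mul_add,
                hlam' y1 x1 hx1, hlam' y2 x2 hx2, map_add]
            map_smul' := by
              intro r y
              obtain ⟨x, hx⟩ := ha'k.2 y
              apply hacancel
              rw [RingHom.id_apply, hlam' (r • y) (r • x) (by rw [map_smul, hx, smul_comm]),
                smul_eq_mul, mul_left_comm, hlam' y x hx, map_smul, smul_eq_mul] }
        refine ⟨l, ?_⟩
        ext x
        rw [LinearMap.dualMap_apply]
        show lam (ψ x) = μ x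
        apply hacancel
        rw [hlam' (ψ x) (a' • x) (by rw [map_smul]), map_smul, smul_eq_mul]

end Groth.Agent.Helper2.HartogsDual
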