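import Mathlib
import Groth.Agent.S16685

namespace Groth.Agent.Helper2.HeightOneLocal
open MvPolynomial TensorProduct

universe u

section trunc
variable {k : Type u} [CommRing k] {r : ℕ}

/-- the ideal `(X_i^{n_i})` -/
noncomputable def I (k : Type u) [CommRing k] {r : ℕ} (n : Fin r → ℕ) : Ideal (MvPolynomial (Fin r) k) :=
  Ideal.span (Set.range fun i => (X i : MvPolynomial (Fin r) k) ^ n i)

theorem mem_I_iff (n : Fin r → ℕ) (P : MvPolynomial (Fin r) k) :
    P ∈ I k n ↔ ∀ a ∈ P.support, ∃ i, n i ≤ a i := by
  have h1 : (Set.range fun i => (X i : MvPolynomial (Fin r) k) ^ n i) =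
      (fun s => monomial s (1 : k)) '' (Set.range fun i => Finsupp.single i (n i)) := by
    ext Q
    simp only [Set.mem_range, Set.mem_image, exists_exists_eq_and, X_pow_eq_monomial]
  rw [I, h1, mem_ideal_span_monomial_image]
  constructor
  · intro h a ha
    obtain ⟨s, ⟨i, rfl⟩, hs⟩ := h a ha
    exact ⟨i, Finsupp.single_le_iff.1 hs⟩
  · intro h a ha
    obtain ⟨i, hi⟩ := h a ha
    exact ⟨_, ⟨i, rfl⟩, Finsupp.single_le_iff.2 hi⟩

/-- exponent vector attached to a point of the box -/
noncomputable def tf (n : Fin r → ℕ) (b : ∀ i, Fin (n i)) : Fin r →₀ ℕ :=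
  Finsupp.equivFunOnFinite.symm (fun i => (b i : ℕ))

theorem tf_apply (n : Fin r → ℕ) (b : ∀ i, Fin (n i)) (i : Fin r) : tf n b i = (b i : ℕ) := rfl

theorem tf_injective (n : Fin r → ℕ) : Function.Injective (tf n) := by
  intro b b' h
  funext i
  apply Fin.ext
  have := congrArg (fun f => f i) h
  simpa [tf_apply] using this

/-- coefficient map to the box -/
noncomputable def Φ (k : Type u) [CommRing k] {r : ℕ} (n : Fin r → ℕ) :
    MvPolynomial (Fin r) k →ₗ[k] ((∀ i, Fin (n i)) → k) where
  toFun P b := coeff (tf n b) P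
  map_add' P Q := by funext b; simp
  map_smul' c P := by funext b; simp

theorem Φ_apply (n : Fin r → ℕ) (P : MvPolynomial (Fin r) k) (b : ∀ i, Fin (n i)) :
    Φ k n P b = coeff (tf n b) P := rfl

theorem ker_Φ (n : Fin r → ℕ) : LinearMap.ker (Φ k n) = (I k n).restrictScalars k := by
  ext P
  rw [LinearMap.mem_ker, Submodule.restrictScalars_mem, mem_I_iff]
  constructor
  · intro h a ha
    by_contra hcon
    push Not at hcon
    have : a = tf n (fun i => ⟨a i, hcon i⟩) := by
      ext i
      rfl
    have h2 := congrFun h (fun i => ⟨a i, hcon i⟩)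
    rw [Φ_apply, ← this] at h2
    exact (mem_support_iff.1 ha) h2
  · intro h
    funext b
    rw [Φ_apply]
    by_contra hcon
    obtain ⟨i, hi⟩ := h (tf n b) (mem_support_iff.2 hcon)
    rw [tf_apply] at hi
    exact absurd (b i).2 (not_lt.2 hi)

theorem Φ_surjective (n : Fin r → ℕ) : Function.Surjective (Φ k n) := by
  classical
  intro g
  refine ⟨∑ b, monomial (tf n b) (g b), ?_⟩
  funext b'
  rw [Φ_apply, coeff_sum]
  simp only [coeff_monomial]
  rw [Finset.sum_eq_single b']
  · simp
  · intro b _ hb
    rw [if_neg]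
    intro h
    exact hb (tf_injective n h)
  · intro h
    exact absurd (Finset.mem_univ b') h

/-- the quotient is the function space on the box -/
noncomputable def quotEquiv (n : Fin r → ℕ) :
    (MvPolynomial (Fin r) k ⧸ I k n) ≃ₗ[k] ((∀ i, Fin (n i)) → k) :=
  (Submodule.Quotient.restrictScalarsEquiv k (I k n)).symm ≪≫ₗ
    (Submodule.quotEquivOfEq _ _ (ker_Φ n).symm) ≪≫ₗ
    (Φ k n).quotKerEquivOfSurjective (Φ_surjective n)

theorem finrank_quot [Nontrivial k] (n : Fin r → ℕ) :
    Module.finrank k (MvPolynomial (Fin r) k ⧸ I k n) = ∏ i, n i := by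
  rw [(quotEquiv n).finrank_eq, Module.finrank_fintype_fun_eq_card, Fintype.card_pi]
  simp

instance finite_quot (n : Fin r → ℕ) : Module.Finite k (MvPolynomial (Fin r) k ⧸ I k n) :=
  Module.Finite.equiv (quotEquiv n).symm

instance free_quot (n : Fin r → ℕ) : Module.Free k (MvPolynomial (Fin r) k ⧸ I k n) :=
  Module.Free.of_equiv (quotEquiv n).symm

end trunc

section fin
variable {p : ℕ} [Fact p.Prime] {R : Type u} [CommRing R] {A : Type u} [CommRing A] [HopfAlgebra R A]

lemma isIntegral_of_height (h1 : ∀ a : A, Bialgebra.counitAlgHom R A a = 0 → a ^ p = 0) (a : A) :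
    IsIntegral R a := by
  have h2 : (a - algebraMap R A (Bialgebra.counitAlgHom R A a)) ^ p = 0 := by
    apply h1
    rw [map_sub, AlgHom.commutes]
    simp
  have h3 : IsIntegral R (a - algebraMap R A (Bialgebra.counitAlgHom R A a)) :=
    IsIntegral.of_pow (Fact.out : p.Prime).pos (by rw [h2]; exact isIntegral_zero)
  have := h3.add (isIntegral_algebraMap (x := Bialgebra.counitAlgHom R A a))
  simpa using this

end fin

section bc
variable {p : ℕ} [hp : Fact p.Prime] {R : Type u} [CommRing R] [IsLocalRing R] [CharP R p]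
  {A : Type u} [CommRing A] [HopfAlgebra R A]

lemma charP_residue : CharP (IsLocalRing.ResidueField R) p := by
  rw [CharP.charP_iff_prime_eq_zero hp.out]
  have h2 : (algebraMap R (IsLocalRing.ResidueField R)) (p : R) = 0 := by
    rw [CharP.cast_eq_zero R p, map_zero]
  rw [map_natCast] at h2
  exact h2

lemma nontrivial_bc : Nontrivial (IsLocalRing.ResidueField R ⊗[R] A) := by
  refine ⟨⟨0, 1, fun h => ?_⟩⟩
  have := congrArg (Coalgebra.counit (R := IsLocalRing.ResidueField R)) h
  simp at this

lemma height_bc (h1 : ∀ a : A, Bialgebra.counitAlgHom R A a = 0 → a ^ p = 0)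
    (x : IsLocalRing.ResidueField R ⊗[R] A)
    (hx : Coalgebra.counit (R := IsLocalRing.ResidueField R) x = 0) : x ^ p = 0 := by
  haveI := nontrivial_bc (R := R) (A := A)
  haveI : CharP (IsLocalRing.ResidueField R) p := charP_residue
  haveI : CharP (IsLocalRing.ResidueField R ⊗[R] A) p :=
    charP_of_injective_algebraMap
      (algebraMap (IsLocalRing.ResidueField R) (IsLocalRing.ResidueField R ⊗[R] A)).injective p
  have key : ∀ x : IsLocalRing.ResidueField R ⊗[R] A,
      (x - algebraMap (IsLocalRing.ResidueField R) _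
        (Coalgebra.counit (R := IsLocalRing.ResidueField R) x)) ^ p = 0 := by
    intro x
    induction x using TensorProduct.induction_on with
    | zero => simp [(Fact.out : p.Prime).ne_zero]
    | add x y hx hy =>
      rw [map_add, map_add, show x + y - (algebraMap (IsLocalRing.ResidueField R) _
        (Coalgebra.counit (R := IsLocalRing.ResidueField R) x) +
        algebraMap (IsLocalRing.ResidueField R) _
        (Coalgebra.counit (R := IsLocalRing.ResidueField R) y)) =
        (x - algebraMap (IsLocalRing.ResidueField R) _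
        (Coalgebra.counit (R := IsLocalRing.ResidueField R) x)) +
        (y - algebraMap (IsLocalRing.ResidueField R) _
        (Coalgebra.counit (R := IsLocalRing.ResidueField R) y)) by ring, add_pow_char, hx, hy,
        add_zero]
    | tmul c a =>
      have h2 : (a - algebraMap R A (Bialgebra.counitAlgHom R A a)) ^ p = 0 := by
        apply h1
        rw [map_sub, AlgHom.commutes]
        simp
      have h3 : c ⊗ₜ[R] a - algebraMap (IsLocalRing.ResidueField R) _
          (Coalgebra.counit (R := IsLocalRing.ResidueField R) (c ⊗ₜ[R] a)) =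
          c ⊗ₜ[R] (a - algebraMap R A (Bialgebra.counitAlgHom R A a)) := by
        rw [TensorProduct.tmul_sub, Algebra.TensorProduct.algebraMap_apply]
        congr 1
        rw [TensorProduct.counit_tmul, Algebra.algebraMap_self, RingHom.id_apply,
          Algebra.algebraMap_eq_smul_one (R := R) (A := A), ← TensorProduct.smul_tmul,
          Bialgebra.counitAlgHom_apply]
        rfl
      rw [h3, Algebra.TensorProduct.tmul_pow, h2, TensorProduct.tmul_zero]
  have := key x
  rwa [hx, map_zero, sub_zero] at this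


lemma isLocalRing_bc (h1 : ∀ a : A, Bialgebra.counitAlgHom R A a = 0 → a ^ p = 0) :
    IsLocalRing (IsLocalRing.ResidueField R ⊗[R] A) := by
  haveI := nontrivial_bc (R := R) (A := A)
  have hunit : ∀ x : IsLocalRing.ResidueField R ⊗[R] A,
      Coalgebra.counit (R := IsLocalRing.ResidueField R) x ≠ 0 → IsUnit x := by
    intro x hx
    have h2 : IsNilpotent (x - algebraMap (IsLocalRing.ResidueField R) _
        (Coalgebra.counit (R := IsLocalRing.ResidueField R) x)) := by
      refine ⟨p, height_bc h1 _ ?_⟩
      rw [map_sub]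
      simp [Algebra.TensorProduct.algebraMap_apply]
    have h3 : IsUnit (algebraMap (IsLocalRing.ResidueField R) (IsLocalRing.ResidueField R ⊗[R] A)
        (Coalgebra.counit (R := IsLocalRing.ResidueField R) x)) :=
      (IsUnit.mk0 _ hx).map _
    have := h2.isUnit_add_right_of_commute h3 (Commute.all _ _)
    simpa using this
  apply IsLocalRing.of_isUnit_or_isUnit_one_sub_self
  intro x
  by_cases hx : Coalgebra.counit (R := IsLocalRing.ResidueField R) x = 0
  · right
    apply hunit
    rw [map_sub, hx, sub_zero]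
    simp
  · left
    exact hunit x hx

end bc

section main
variable {p : ℕ} [hp : Fact p.Prime] {R : Type u} [CommRing R] [IsLocalRing R] [CharP R p]
  {A : Type u} [CommRing A] [HopfAlgebra R A]

lemma inc_surj : Function.Surjective
    (Algebra.TensorProduct.includeRight : A →ₐ[R] IsLocalRing.ResidueField R ⊗[R] A) := by
  intro x
  induction x using TensorProduct.induction_on with
  | zero => exact ⟨0, map_zero _⟩
  | add x y hx hy =>
    obtain ⟨a, rfl⟩ := hx
    obtain ⟨b, rfl⟩ := hy
    exact ⟨a + b, map_add _ _ _⟩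
  | tmul c a =>
    obtain ⟨r, rfl⟩ := IsLocalRing.residue_surjective c
    refine ⟨r • a, ?_⟩
    rw [Algebra.TensorProduct.includeRight_apply, TensorProduct.tmul_smul,
      TensorProduct.smul_tmul', Algebra.smul_def, mul_one]
    rfl

lemma mem_of_inc_eq_zero (z : A)
    (hz : (Algebra.TensorProduct.includeRight : A →ₐ[R] IsLocalRing.ResidueField R ⊗[R] A) z = 0) :
    z ∈ (IsLocalRing.maximalIdeal R • ⊤ : Submodule R A) := by
  have h := TensorProduct.quotTensorEquivQuotSMul_mk_one_tmul (M := A) (IsLocalRing.maximalIdeal R) z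
  rw [Algebra.TensorProduct.includeRight_apply] at hz
  have hz' : (1 : R ⧸ IsLocalRing.maximalIdeal R) ⊗ₜ[R] z = 0 := hz
  rw [hz', map_zero] at h
  exact (Submodule.Quotient.mk_eq_zero _).1 h.symm


theorem main (h1 : ∀ a : A, Bialgebra.counitAlgHom R A a = 0 → a ^ p = 0)
    [Algebra.FinitePresentation R A] [Module.Flat R A] :
    ∃ n : ℕ, Nonempty (A ≃ₐ[R] (MvPolynomial (Fin n) R ⧸
      Ideal.span (Set.range fun i : Fin n => (MvPolynomial.X i : MvPolynomial (Fin n) R) ^ p))) := by
  haveI : Algebra.IsIntegral R A := ⟨isIntegral_of_height h1⟩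
  haveI : Module.Finite R A := Algebra.IsIntegral.finite
  haveI : Module.FinitePresentation R A :=
    Module.FinitePresentation.of_finite_of_finitePresentation R A
  haveI : Module.Free R A := Module.free_of_flat_of_isLocalRing
  haveI : CharP (IsLocalRing.ResidueField R) p := charP_residue
  haveI : IsLocalRing (IsLocalRing.ResidueField R ⊗[R] A) := isLocalRing_bc h1
  obtain ⟨e⟩ := Groth.Agent.S16685.result (IsLocalRing.ResidueField R) p
    (IsLocalRing.ResidueField R ⊗[R] A) _ rfl
  set d := Module.finrank (IsLocalRing.ResidueField R) (RingHom.ker (Bialgebra.counitAlgHom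
    (IsLocalRing.ResidueField R) (IsLocalRing.ResidueField R ⊗[R] A)).toRingHom).Cotangent with hd
  have hJ : Ideal.span ((fun a : IsLocalRing.ResidueField R ⊗[R] A => a ^ p) ''
      (RingHom.ker (Bialgebra.counitAlgHom (IsLocalRing.ResidueField R)
        (IsLocalRing.ResidueField R ⊗[R] A)).toRingHom : Set _)) = ⊥ := by
    rw [Ideal.span_eq_bot]
    rintro _ ⟨a, ha, rfl⟩
    exact height_bc h1 a ha
  let e' : (IsLocalRing.ResidueField R ⊗[R] A) ≃ₐ[IsLocalRing.ResidueField R]
      (MvPolynomial (Fin d) (IsLocalRing.ResidueField R) ⧸ I (IsLocalRing.ResidueField R) (fun _ : Fin d => p)) :=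
    ((AlgEquiv.quotientBot (IsLocalRing.ResidueField R) _).symm.trans
      (Ideal.quotientEquivAlgOfEq (IsLocalRing.ResidueField R) hJ.symm)).trans e
  -- the generators in the special fibre
  let y : Fin d → IsLocalRing.ResidueField R ⊗[R] A := fun i =>
    e'.symm (Ideal.Quotient.mk _ (MvPolynomial.X i))
  have hyp : ∀ i, y i ^ p = 0 := by
    intro i
    show (e'.symm (Ideal.Quotient.mk _ (MvPolynomial.X i))) ^ p = 0
    have hX : (Ideal.Quotient.mk (I (IsLocalRing.ResidueField R) (fun _ : Fin d => p))
        ((MvPolynomial.X i : MvPolynomial (Fin d) (IsLocalRing.ResidueField R)) ^ p)) = 0 :=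
      Ideal.Quotient.eq_zero_iff_mem.2 (Ideal.subset_span ⟨i, rfl⟩)
    rw [← map_pow, ← map_pow, hX, map_zero]
  have hyc : ∀ i, Coalgebra.counit (R := IsLocalRing.ResidueField R) (y i) = 0 := by
    intro i
    have := congrArg (Bialgebra.counitAlgHom (IsLocalRing.ResidueField R)
      (IsLocalRing.ResidueField R ⊗[R] A)) (hyp i)
    rw [map_pow, map_zero] at this
    exact pow_eq_zero_iff (Fact.out : p.Prime).ne_zero |>.1 this
  choose x' hx' using fun i => inc_surj (R := R) (A := A) (y i)
  let x : Fin d → A := fun i => x' i - algebraMap R A (Bialgebra.counitAlgHom R A (x' i))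
  have hxc : ∀ i, Bialgebra.counitAlgHom R A (x i) = 0 := by
    intro i
    show Bialgebra.counitAlgHom R A (x' i - algebraMap R A (Bialgebra.counitAlgHom R A (x' i))) = 0
    rw [map_sub, AlgHom.commutes]
    simp
  have hxp : ∀ i, x i ^ p = 0 := fun i => h1 _ (hxc i)
  have hxy : ∀ i, (Algebra.TensorProduct.includeRight :
      A →ₐ[R] IsLocalRing.ResidueField R ⊗[R] A) (x i) = y i := by
    intro i
    show (Algebra.TensorProduct.includeRight : A →ₐ[R] IsLocalRing.ResidueField R ⊗[R] A)
      (x' i - algebraMap R A (Bialgebra.counitAlgHom R A (x' i))) = y i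
    rw [map_sub, hx', AlgHom.commutes]
    have h2 := hyc i
    rw [← hx' i, Algebra.TensorProduct.includeRight_apply, TensorProduct.counit_tmul] at h2
    have h3 : algebraMap R (IsLocalRing.ResidueField R ⊗[R] A)
        (Bialgebra.counitAlgHom R A (x' i)) = 0 := by
      rw [IsScalarTower.algebraMap_apply R (IsLocalRing.ResidueField R)
        (IsLocalRing.ResidueField R ⊗[R] A), Algebra.algebraMap_eq_smul_one
        (R := R) (A := IsLocalRing.ResidueField R)]
      have : Bialgebra.counitAlgHom R A (x' i) • (1 : IsLocalRing.ResidueField R) = 0 := by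
        simpa using h2
      rw [this, map_zero]
    rw [h3, sub_zero]
  -- the comparison map
  let φ₀ : MvPolynomial (Fin d) R →ₐ[R] A := MvPolynomial.aeval x
  have hφ₀ : ∀ f ∈ I R (fun _ : Fin d => p), φ₀ f = 0 := by
    intro f hf
    have : I R (fun _ : Fin d => p) ≤ RingHom.ker φ₀ := by
      rw [I, Ideal.span_le]
      rintro _ ⟨i, rfl⟩
      show φ₀ (MvPolynomial.X i ^ p) = 0
      rw [map_pow, MvPolynomial.aeval_X, hxp]
    exact this hf
  let φ : (MvPolynomial (Fin d) R ⧸ I R (fun _ : Fin d => p)) →ₐ[R] A :=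
    Ideal.Quotient.liftₐ _ φ₀ hφ₀
  let ψ : MvPolynomial (Fin d) R →ₐ[R] IsLocalRing.ResidueField R ⊗[R] A :=
    ((e'.symm.toAlgHom.comp (Ideal.Quotient.mkₐ (IsLocalRing.ResidueField R)
      (I (IsLocalRing.ResidueField R) (fun _ : Fin d => p)))).restrictScalars R).comp
      (MvPolynomial.mapAlgHom (Algebra.ofId R (IsLocalRing.ResidueField R)))
  have hsq : (Algebra.TensorProduct.includeRight :
      A →ₐ[R] IsLocalRing.ResidueField R ⊗[R] A).comp φ₀ = ψ := by
    apply MvPolynomial.algHom_ext
    intro i
    show (Algebra.TensorProduct.includeRight : A →ₐ[R] _) (MvPolynomial.aeval x (MvPolynomial.X i)) =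
      e'.symm (Ideal.Quotient.mk _ (MvPolynomial.map _ (MvPolynomial.X i)))
    rw [MvPolynomial.aeval_X, hxy, MvPolynomial.map_X]
  have hsurj : Function.Surjective φ := by
    have hle : (⊤ : Submodule R A) ≤ LinearMap.range φ.toLinearMap ⊔
        (IsLocalRing.maximalIdeal R • ⊤ : Submodule R A) := by
      intro a _
      obtain ⟨gbar, hgbar⟩ := Ideal.Quotient.mk_surjective
        (e' ((Algebra.TensorProduct.includeRight : A →ₐ[R] _) a))
      obtain ⟨g, rfl⟩ := MvPolynomial.map_surjective (algebraMap R (IsLocalRing.ResidueField R))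
        IsLocalRing.residue_surjective gbar
      have h2 : (Algebra.TensorProduct.includeRight : A →ₐ[R] _) (φ₀ g) =
          (Algebra.TensorProduct.includeRight : A →ₐ[R] IsLocalRing.ResidueField R ⊗[R] A) a := by
        have := AlgHom.congr_fun hsq g
        rw [AlgHom.comp_apply] at this
        rw [this]
        show e'.symm (Ideal.Quotient.mk _ (MvPolynomial.map
          (algebraMap R (IsLocalRing.ResidueField R)) g)) = _
        rw [hgbar, AlgEquiv.symm_apply_apply]
      have h3 : a - φ₀ g ∈ (IsLocalRing.maximalIdeal R • ⊤ : Submodule R A) := by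
        apply mem_of_inc_eq_zero
        rw [map_sub, h2, sub_self]
      have h4 : a = φ₀ g + (a - φ₀ g) := by ring
      rw [h4]
      exact Submodule.add_mem_sup ⟨Ideal.Quotient.mk _ g, rfl⟩ h3
    have := Submodule.le_of_le_smul_of_le_jacobson_bot (Module.Finite.fg_top (R := R) (M := A))
      (IsLocalRing.maximalIdeal_le_jacobson ⊥) hle
    intro a
    exact this Submodule.mem_top
  -- ranks
  have hr1 : Module.finrank R (MvPolynomial (Fin d) R ⧸ I R (fun _ : Fin d => p)) = p ^ d := by
    rw [finrank_quot]; simp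
  have hr2 : Module.finrank (IsLocalRing.ResidueField R) (MvPolynomial (Fin d)
      (IsLocalRing.ResidueField R) ⧸ I (IsLocalRing.ResidueField R) (fun _ : Fin d => p)) = p ^ d := by
    rw [finrank_quot]; simp
  have hr3 : Module.finrank (IsLocalRing.ResidueField R) (IsLocalRing.ResidueField R ⊗[R] A) =
      p ^ d := by
    rw [e'.toLinearEquiv.finrank_eq, hr2]
  have hr4 : Module.finrank R A = p ^ d := by
    rw [← hr3, Module.finrank_baseChange]
  let l : (MvPolynomial (Fin d) R ⧸ I R (fun _ : Fin d => p)) ≃ₗ[R] A :=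
    LinearEquiv.ofFinrankEq _ _ (hr1.trans hr4.symm)
  have hinj : Function.Injective φ := by
    have h5 : Function.Surjective (l.symm.toLinearMap ∘ₗ φ.toLinearMap) :=
      l.symm.surjective.comp hsurj
    have h6 := OrzechProperty.injective_of_surjective_endomorphism _ h5
    intro a b hab
    apply h6
    show l.symm (φ a) = l.symm (φ b)
    rw [hab]
  exact ⟨d, ⟨(AlgEquiv.ofBijective φ ⟨hinj, hsurj⟩).symm⟩⟩

end main
end Groth.Agent.Helper2.HeightOneLocal
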