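import Mathlib
import Groth.Prelude
import Groth.Agent.Helper2.PairHensLocal
import Groth.Agent.Helper2.DirLimHens

/-!
# A henselian local ring is the direct limit of the henselizations of the localizations of its
finitely generated subalgebras.
-/

set_option autoImplicit false
set_option linter.unusedSectionVars false
set_option linter.style.haveILetI false

universe u

namespace Groth.Agent.Helper2.HensColim

open IsLocalRing Groth.Agent.Helper2.PairHens

section Setup

variable (Z : Type u) [CommRing Z] (A : Type u) [CommRing A] [IsLocalRing A] [Algebra Z A]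

/-- the finitely generated subalgebra attached to a finite set -/
abbrev P (s : Finset A) : Subalgebra Z A := Algebra.adjoin Z (s : Set A)

/-- the prime of `P s` under the maximal ideal -/
abbrev pp (s : Finset A) : Ideal (P Z A s) := (maximalIdeal A).comap (algebraMap (P Z A s) A)

instance (s : Finset A) : (pp Z A s).IsPrime := Ideal.comap_isPrime _ _

/-- the localization -/
abbrev L (s : Finset A) : Type u := Localization.AtPrime (pp Z A s)

/-- its henselization -/
abbrev G (s : Finset A) : Type u := Hens (maximalIdeal (L Z A s))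

theorem hG (s : Finset A) :
    Hens2.IsPairHenselization (L Z A s) (maximalIdeal (L Z A s)) (G Z A s) :=
  Hens.isPairHenselization _ _

variable {Z A}

/-- inclusion of subalgebras -/
noncomputable def incl {s t : Finset A} (h : s ≤ t) : P Z A s →+* P Z A t :=
  (Subalgebra.inclusion (Algebra.adjoin_mono (Finset.coe_subset.mpr h)) :
    P Z A s →ₐ[Z] P Z A t).toRingHom

theorem incl_coe {s t : Finset A} (h : s ≤ t) (a : P Z A s) :
    ((incl (Z := Z) h a : P Z A t) : A) = a :=
  Subalgebra.coe_inclusion _ a

theorem hcomap {s t : Finset A} (h : s ≤ t) :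
    pp Z A s = (pp Z A t).comap (incl (Z := Z) h) := by
  ext a
  rw [Ideal.mem_comap, Ideal.mem_comap, Ideal.mem_comap, Subalgebra.algebraMap_apply,
    Subalgebra.algebraMap_apply, incl_coe]

/-- transition maps of the localizations -/
noncomputable def lmap {s t : Finset A} (h : s ≤ t) : L Z A s →+* L Z A t :=
  Localization.localRingHom (pp Z A s) (pp Z A t) (incl (Z := Z) h) (hcomap h)

instance {s t : Finset A} (h : s ≤ t) : IsLocalHom (lmap (Z := Z) h) :=
  Localization.isLocalHom_localRingHom _ _ _ _

theorem lmap_algebraMap {s t : Finset A} (h : s ≤ t) (a : P Z A s) :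
    lmap (Z := Z) h (algebraMap (P Z A s) (L Z A s) a) =
      algebraMap (P Z A t) (L Z A t) (incl h a) :=
  Localization.localRingHom_to_map _ _ _ _ _

theorem isUnit_of_not_mem (s : Finset A) (y : (pp Z A s).primeCompl) :
    IsUnit (algebraMap (P Z A s) A y) := by
  have h1 : (y : P Z A s) ∉ pp Z A s := y.2
  rw [Ideal.mem_comap, mem_maximalIdeal, mem_nonunits_iff, not_not] at h1
  exact h1

/-- the map to `A` -/
noncomputable def toA (s : Finset A) : L Z A s →+* A :=
  IsLocalization.lift (M := (pp Z A s).primeCompl) (g := algebraMap (P Z A s) A)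
    (isUnit_of_not_mem s)

theorem toA_algebraMap (s : Finset A) (a : P Z A s) :
    toA s (algebraMap (P Z A s) (L Z A s) a) = (a : A) :=
  IsLocalization.lift_eq _ _

theorem toA_lmap {s t : Finset A} (h : s ≤ t) : (toA t).comp (lmap (Z := Z) h) = toA s := by
  refine IsLocalization.ringHom_ext (pp Z A s).primeCompl ?_
  refine RingHom.ext fun a => ?_
  rw [RingHom.comp_apply, RingHom.comp_apply, RingHom.comp_apply, lmap_algebraMap, toA_algebraMap,
    toA_algebraMap, incl_coe]

instance (s : Finset A) : IsLocalHom (toA (Z := Z) s) := by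
  constructor
  intro x hx
  obtain ⟨a, y, rfl⟩ := IsLocalization.exists_mk'_eq (pp Z A s).primeCompl x
  rw [IsLocalization.AtPrime.isUnit_mk'_iff (L Z A s) (pp Z A s)]
  intro ha
  have h1 : toA s (IsLocalization.mk' (L Z A s) a y) * algebraMap (P Z A s) A y =
      algebraMap (P Z A s) A a := by
    have h2 := IsLocalization.mk'_spec (L Z A s) a y
    have h3 := congrArg (toA s) h2
    rw [map_mul, toA_algebraMap, toA_algebraMap] at h3
    exact h3
  have h4 : IsUnit (algebraMap (P Z A s) A a) := by
    rw [← h1]
    exact hx.mul (isUnit_of_not_mem s y)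
  have ha' : a ∈ pp Z A s := ha
  rw [Ideal.mem_comap, mem_maximalIdeal, mem_nonunits_iff] at ha'
  exact ha' h4

theorem map_max_le {s t : Finset A} (h : s ≤ t) :
    (maximalIdeal (L Z A s)).map ((algebraMap (L Z A t) (G Z A t)).comp (lmap (Z := Z) h)) ≤
      (maximalIdeal (L Z A t)).map (algebraMap (L Z A t) (G Z A t)) := by
  rw [← Ideal.map_map]
  refine Ideal.map_mono ?_
  exact ((local_hom_TFAE (lmap (Z := Z) h)).out 0 2 rfl rfl).mp inferInstance

theorem gmapEx {s t : Finset A} (h : s ≤ t) :
    ∃! g : G Z A s →+* G Z A t, g.comp (algebraMap (L Z A s) (G Z A s)) =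
      (algebraMap (L Z A t) (G Z A t)).comp (lmap (Z := Z) h) :=
  (hG Z A s).2 (G Z A t) _ _ (hG Z A t).1 (map_max_le h)

/-- transition maps of the henselizations -/
noncomputable def gmap {s t : Finset A} (h : s ≤ t) : G Z A s →+* G Z A t :=
  (gmapEx (Z := Z) h).choose

theorem gmap_comp {s t : Finset A} (h : s ≤ t) :
    (gmap (Z := Z) h).comp (algebraMap (L Z A s) (G Z A s)) =
      (algebraMap (L Z A t) (G Z A t)).comp (lmap (Z := Z) h) :=
  (gmapEx (Z := Z) h).choose_spec.1

theorem gmap_unique {s t : Finset A} (h : s ≤ t) (g : G Z A s →+* G Z A t)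
    (hg : g.comp (algebraMap (L Z A s) (G Z A s)) =
      (algebraMap (L Z A t) (G Z A t)).comp (lmap (Z := Z) h)) : g = gmap h :=
  (gmapEx (Z := Z) h).unique hg (gmap_comp h)

theorem lmap_self (s : Finset A) : lmap (Z := Z) (le_refl s) = RingHom.id _ := by
  refine IsLocalization.ringHom_ext (pp Z A s).primeCompl ?_
  refine RingHom.ext fun a => ?_
  rw [RingHom.comp_apply, lmap_algebraMap, RingHom.comp_apply, RingHom.id_apply]
  have h1 : incl (Z := Z) (le_refl s) a = a := Subtype.ext (incl_coe _ a)
  rw [h1]

theorem lmap_trans {s t v : Finset A} (h : s ≤ t) (h' : t ≤ v) :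
    (lmap (Z := Z) h').comp (lmap h) = lmap (h.trans h') := by
  refine IsLocalization.ringHom_ext (pp Z A s).primeCompl ?_
  refine RingHom.ext fun a => ?_
  rw [RingHom.comp_apply, RingHom.comp_apply, lmap_algebraMap, lmap_algebraMap, RingHom.comp_apply,
    lmap_algebraMap]
  have h1 : incl (Z := Z) h' (incl (Z := Z) h a) = incl (Z := Z) (h.trans h') a :=
    Subtype.ext (by rw [incl_coe, incl_coe, incl_coe])
  rw [h1]

theorem gmap_self (s : Finset A) : gmap (Z := Z) (le_refl s) = RingHom.id _ := by
  symm
  apply gmap_unique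
  rw [lmap_self, RingHom.id_comp, RingHom.comp_id]

theorem gmap_trans {s t v : Finset A} (h : s ≤ t) (h' : t ≤ v) :
    (gmap (Z := Z) h').comp (gmap h) = gmap (h.trans h') := by
  apply gmap_unique
  rw [RingHom.comp_assoc, gmap_comp, ← RingHom.comp_assoc, gmap_comp, RingHom.comp_assoc, lmap_trans]

instance : DirectedSystem (G Z A) (fun s t h => gmap (Z := Z) h) where
  map_self := fun s x => by
    show gmap (Z := Z) (le_refl s) x = x
    rw [gmap_self]; rfl
  map_map := fun k j i hij hjk x => by
    have := congr($(gmap_trans (Z := Z) hij hjk) x)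
    exact this

theorem max_G (s : Finset A) :
    (maximalIdeal (L Z A s)).map (algebraMap (L Z A s) (G Z A s)) = maximalIdeal (G Z A s) :=
  map_maximalIdeal_eq_of_isPairHenselization _ _ (hG Z A s)

instance {s t : Finset A} (h : s ≤ t) : IsLocalHom (gmap (Z := Z) h) := by
  refine ((local_hom_TFAE (gmap (Z := Z) h)).out 0 2 rfl rfl).mpr ?_
  rw [← max_G, Ideal.map_map, gmap_comp, ← max_G]
  exact map_max_le h

instance (s : Finset A) : HenselianRing (G Z A s) (maximalIdeal (G Z A s)) := by
  rw [← max_G]
  exact (hG Z A s).1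

end Setup

end Groth.Agent.Helper2.HensColim
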