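import Mathlib
import Groth.Prelude
import Groth.Agent.Helper2.HensColimA

/-!
# A henselian local ring is the direct limit of the henselizations of the localizations of its
finitely generated subalgebras: the comparison isomorphism.
-/

set_option autoImplicit false
set_option linter.unusedSectionVars false
set_option linter.unusedVariables false
set_option linter.style.haveILetI false

universe u

namespace Groth.Agent.Helper2.HensColim

open IsLocalRing Groth.Agent.Helper2.PairHens

section Compare

variable (Z : Type u) [CommRing Z] (A : Type u) [CommRing A] [HenselianLocalRing A] [Algebra Z A]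
  [DecidableEq A]

local notation "DL" => DirectLimit (G Z A) (fun s t h => gmap (Z := Z) (A := A) h)
local notation "ofDL" => DirectLimit.Ring.of (G Z A) (fun s t h => gmap (Z := Z) (A := A) h)

theorem map_max_toA_le (s : Finset A) :
    (maximalIdeal (L Z A s)).map (toA (Z := Z) s) ≤ maximalIdeal A :=
  ((local_hom_TFAE (toA (Z := Z) s)).out 0 2 rfl rfl).mp inferInstance

theorem rhoEx (s : Finset A) :
    ∃! g : G Z A s →+* A, g.comp (algebraMap (L Z A s) (G Z A s)) = toA (Z := Z) s :=
  (hG Z A s).2 A (maximalIdeal A) _ inferInstance (map_max_toA_le Z A s)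

/-- the maps to `A` -/
noncomputable def rho (s : Finset A) : G Z A s →+* A := (rhoEx Z A s).choose

theorem rho_comp (s : Finset A) :
    (rho Z A s).comp (algebraMap (L Z A s) (G Z A s)) = toA (Z := Z) s :=
  (rhoEx Z A s).choose_spec.1

theorem rho_gmap {s t : Finset A} (h : s ≤ t) :
    (rho Z A t).comp (gmap h) = rho Z A s := by
  refine (rhoEx Z A s).unique ?_ (rho_comp Z A s)
  rw [RingHom.comp_assoc, gmap_comp, ← RingHom.comp_assoc, rho_comp, toA_lmap]

/-- the comparison map -/
noncomputable def piMap : DL →+* A :=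
  DirectLimit.Ring.lift (G Z A) (fun s t h => gmap (Z := Z) (A := A) h) A (fun s => rho Z A s)
    (fun s t h x => congr($(rho_gmap Z A h) x))

theorem piMap_of (s : Finset A) (y : G Z A s) :
    piMap Z A (ofDL s y) = rho Z A s y :=
  rfl

/-- the element of the direct limit attached to `x ∈ P s` -/
noncomputable def key (s : Finset A) (x : A) (hx : x ∈ P Z A s) : DL :=
  ofDL s (algebraMap (L Z A s) (G Z A s) (algebraMap (P Z A s) (L Z A s) ⟨x, hx⟩))

theorem mem_mono {s t : Finset A} (h : s ≤ t) {x : A} (hx : x ∈ P Z A s) : x ∈ P Z A t :=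
  Algebra.adjoin_mono (Finset.coe_subset.mpr h) hx

theorem ofDL_gmap {s t : Finset A} (h : s ≤ t) (y : G Z A s) :
    ofDL t (gmap (Z := Z) h y) = ofDL s y :=
  DirectLimit.Ring.of_f (G := G Z A) (f := fun s t h => gmap (Z := Z) (A := A) h) h y

theorem key_mono {s t : Finset A} (h : s ≤ t) (x : A) (hx : x ∈ P Z A s) :
    key Z A s x hx = key Z A t x (mem_mono Z A h hx) := by
  unfold key
  rw [← ofDL_gmap Z A h]
  have h1 := congr($(gmap_comp (Z := Z) h) (algebraMap (P Z A s) (L Z A s) ⟨x, hx⟩))
  rw [RingHom.comp_apply, RingHom.comp_apply, lmap_algebraMap] at h1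
  rw [h1]
  have h2 : incl (Z := Z) h ⟨x, hx⟩ = ⟨x, mem_mono Z A h hx⟩ := Subtype.ext (incl_coe h _)
  rw [h2]

theorem key_eq {s t : Finset A} (x : A) (hs : x ∈ P Z A s) (ht : x ∈ P Z A t) :
    key Z A s x hs = key Z A t x ht := by
  rw [key_mono Z A (Finset.subset_union_left : s ≤ s ∪ t) x hs,
    key_mono Z A (Finset.subset_union_right : t ≤ s ∪ t) x ht]

theorem mem_singleton (x : A) : x ∈ P Z A {x} :=
  Algebra.subset_adjoin (by rw [Finset.coe_singleton]; exact Set.mem_singleton x)

/-- the section, as a function -/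
noncomputable def sigmaFun (x : A) : DL :=
  key Z A {x} x (mem_singleton Z A x)

theorem sigmaFun_eq (s : Finset A) (x : A) (hx : x ∈ P Z A s) :
    sigmaFun Z A x = key Z A s x hx := key_eq Z A x _ _

theorem key_add (s : Finset A) (x y : A) (hx : x ∈ P Z A s) (hy : y ∈ P Z A s) :
    key Z A s (x + y) (add_mem hx hy) = key Z A s x hx + key Z A s y hy := by
  unfold key
  rw [← map_add, ← map_add, ← map_add]
  rfl

theorem key_mul (s : Finset A) (x y : A) (hx : x ∈ P Z A s) (hy : y ∈ P Z A s) :
    key Z A s (x * y) (mul_mem hx hy) = key Z A s x hx * key Z A s y hy := by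
  unfold key
  rw [← map_mul, ← map_mul, ← map_mul]
  rfl

theorem mem_pair_left (x y : A) : x ∈ P Z A {x, y} :=
  Algebra.subset_adjoin (by rw [Finset.coe_insert]; exact Set.mem_insert x _)

theorem mem_pair_right (x y : A) : y ∈ P Z A {x, y} :=
  Algebra.subset_adjoin (by
    rw [Finset.coe_insert, Finset.coe_singleton]
    exact Set.mem_insert_of_mem x (Set.mem_singleton y))

/-- the section -/
noncomputable def sigma : A →+* DL where
  toFun := sigmaFun Z A
  map_one' := by
    rw [sigmaFun_eq Z A ∅ 1 (one_mem _)]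
    unfold key
    have : (⟨1, one_mem _⟩ : P Z A ∅) = 1 := rfl
    rw [this, map_one, map_one, map_one]
  map_zero' := by
    rw [sigmaFun_eq Z A ∅ 0 (zero_mem _)]
    unfold key
    have : (⟨0, zero_mem _⟩ : P Z A ∅) = 0 := rfl
    rw [this, map_zero, map_zero, map_zero]
  map_add' x y := by
    rw [sigmaFun_eq Z A {x, y} (x + y) (add_mem (mem_pair_left Z A x y) (mem_pair_right Z A x y)),
      sigmaFun_eq Z A {x, y} x (mem_pair_left Z A x y),
      sigmaFun_eq Z A {x, y} y (mem_pair_right Z A x y), key_add]
  map_mul' x y := by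
    rw [sigmaFun_eq Z A {x, y} (x * y) (mul_mem (mem_pair_left Z A x y) (mem_pair_right Z A x y)),
      sigmaFun_eq Z A {x, y} x (mem_pair_left Z A x y),
      sigmaFun_eq Z A {x, y} y (mem_pair_right Z A x y), key_mul]

theorem sigma_apply (s : Finset A) (x : A) (hx : x ∈ P Z A s) :
    sigma Z A x = key Z A s x hx := sigmaFun_eq Z A s x hx

theorem piMap_sigma (x : A) : piMap Z A (sigma Z A x) = x := by
  rw [sigma_apply Z A {x} x (mem_singleton Z A x)]
  unfold key
  rw [piMap_of]
  have h1 := congr($(rho_comp Z A {x})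
    (algebraMap (P Z A {x}) (L Z A {x}) ⟨x, mem_singleton Z A x⟩))
  rw [RingHom.comp_apply] at h1
  rw [h1, toA_algebraMap]

theorem map_max_of_le {s t : Finset A} (h : s ≤ t) :
    (maximalIdeal (G Z A s)).map (gmap (Z := Z) h) ≤ maximalIdeal (G Z A t) :=
  ((local_hom_TFAE (gmap (Z := Z) h)).out 0 2 rfl rfl).mp inferInstance

theorem sigma_rho (s : Finset A) :
    (sigma Z A).comp (rho Z A s) = ofDL s := by
  have hJ := Groth.Agent.Helper2.DirLimHens.henselianRing_directLimit (G Z A) (fun s t h => gmap (Z := Z) (A := A) h)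
    (fun s => maximalIdeal (G Z A s)) (fun s t h => map_max_of_le Z A h)
  have hle : (maximalIdeal (L Z A s)).map ((ofDL s).comp (algebraMap (L Z A s) (G Z A s))) ≤
      ⨆ i, (maximalIdeal (G Z A i)).map (ofDL i) := by
    rw [← Ideal.map_map, max_G]
    exact le_iSup (fun i => (maximalIdeal (G Z A i)).map (ofDL i)) s
  refine ((hG Z A s).2 _ _ _ hJ hle).unique ?_ rfl
  rw [RingHom.comp_assoc, rho_comp]
  refine IsLocalization.ringHom_ext (pp Z A s).primeCompl ?_
  refine RingHom.ext fun a => ?_
  rw [RingHom.comp_apply, RingHom.comp_apply, toA_algebraMap, sigma_apply Z A s (a : A) a.2]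
  rfl

theorem sigma_piMap (z : DL) : sigma Z A (piMap Z A z) = z := by
  induction z using DirectLimit.induction with
  | _ s y =>
    show sigma Z A (piMap Z A (ofDL s y)) = ofDL s y
    rw [piMap_of]
    exact congr($(sigma_rho Z A s) y)

/-- the comparison isomorphism -/
noncomputable def equiv : A ≃+* DL :=
  { sigma Z A with
    invFun := piMap Z A
    left_inv := piMap_sigma Z A
    right_inv := sigma_piMap Z A }

end Compare

end Groth.Agent.Helper2.HensColim
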