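import Mathlib
import Groth.Prelude
import Groth.Agent.Helper2.HensColimB
import Groth.Agent.Helper7.DedExcB
import Groth.Agent.Helper7.CKv6
import Groth.Agent.S9276

/-!
# S9309: every henselian local ring is a direct limit of henselian local G-rings.
-/

set_option autoImplicit false
set_option linter.unusedSectionVars false
set_option linter.unusedVariables false
set_option linter.style.haveILetI false

universe u

namespace Groth.Agent.Helper2.HensColim

open IsLocalRing Groth.Agent.Helper2.PairHens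

section ZZ

instance : IsDomain (ULift.{u} ℤ) :=
  (ULift.ringEquiv : ULift.{u} ℤ ≃+* ℤ).toMulEquiv.isDomain ℤ

instance : IsPrincipalIdealRing (ULift.{u} ℤ) :=
  IsPrincipalIdealRing.of_surjective (ULift.ringEquiv : ULift.{u} ℤ ≃+* ℤ).symm.toRingHom
    (ULift.ringEquiv : ULift.{u} ℤ ≃+* ℤ).symm.surjective

instance : CharZero (ULift.{u} ℤ) :=
  charZero_of_injective_ringHom (f := (ULift.ringEquiv : ULift.{u} ℤ ≃+* ℤ).symm.toRingHom)
    (ULift.ringEquiv : ULift.{u} ℤ ≃+* ℤ).symm.injective

theorem isGRing_ulift_int : CAlg.IsGRing (ULift.{u} ℤ) :=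
  Groth.Agent.Helper7.DedExc.isGRing _

end ZZ

section GR

variable (Z : Type u) [CommRing Z] (hZ : CAlg.IsGRing Z) (A : Type u) [CommRing A]
  [HenselianLocalRing A] [Algebra Z A]

include hZ in
theorem isGRing_L (s : Finset A) : CAlg.IsGRing (L Z A s) := by
  haveI : Algebra.FiniteType Z (P Z A s) := Algebra.FiniteType.adjoin_of_finite s.finite_toSet
  exact Groth.Agent.Helper7.CKd.isGRing_of_essFiniteType Z hZ (L Z A s)

include hZ in
theorem isGRing_G (s : Finset A) : CAlg.IsGRing (G Z A s) :=
  Groth.Agent.S9276.result (L Z A s) (isGRing_L Z hZ A s) (maximalIdeal (L Z A s)) (G Z A s)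
    (hG Z A s)

theorem henselianLocalRing_G (s : Finset A) : HenselianLocalRing (G Z A s) :=
  (isHenselization_of_isPairHenselization (L Z A s) (G Z A s) (hG Z A s)).henselian

end GR

/-- S9309 -/
theorem s9309 (A : Type u) [CommRing A] [HenselianLocalRing A] :
    ∃ (ι : Type u) (_ : Preorder ι) (_ : IsDirectedOrder ι) (_ : Nonempty ι) (G : ι → Type u)
      (_ : ∀ i, CommRing (G i)) (f : ∀ i j : ι, i ≤ j → (G i →+* G j))
      (_ : DirectedSystem G (fun i j h => f i j h)),
      (∀ i, HenselianLocalRing (G i) ∧ CAlg.IsGRing (G i)) ∧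
      (∀ (i j : ι) (h : i ≤ j), IsLocalHom (f i j h)) ∧
      Nonempty (A ≃+* DirectLimit G f) := by
  classical
  letI : Algebra (ULift.{u} ℤ) A :=
    ((algebraMap ℤ A).comp (ULift.ringEquiv : ULift.{u} ℤ ≃+* ℤ).toRingHom).toAlgebra
  refine ⟨Finset A, inferInstance, inferInstance, inferInstance, G (ULift.{u} ℤ) A, inferInstance,
    fun s t h => gmap (Z := ULift.{u} ℤ) (A := A) h, inferInstance, ?_, ?_, ?_⟩
  · intro s
    exact ⟨henselianLocalRing_G _ A s, isGRing_G _ isGRing_ulift_int A s⟩
  · intro s t h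
    infer_instance
  · exact ⟨equiv (ULift.{u} ℤ) A⟩

end Groth.Agent.Helper2.HensColim
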