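import Mathlib
import Groth.Prelude
import Groth.Agent.Lead.LimExist
import Groth.Agent.Lead.SubalgSys
import Groth.Agent.Helper1.HensIsHens
import Groth.Agent.Helper1.HensNoeth

set_option autoImplicit false
open CategoryTheory CategoryTheory.Limits AlgebraicGeometry IsLocalRing
universe u

namespace Groth.Agent.Helper2.HensDesc

open Groth.Agent.Helper1.Hens

/-- a henselian local ring receives a local homomorphism from a Noetherian henselian local ring
through which a given finitely generated subring factors. -/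
theorem exists_noeth_hens (A : Type u) [CommRing A] [HenselianLocalRing A]
    (A₁ : Subalgebra ℤ A) (h₁ : A₁.FG) :
    ∃ (A₀ : Type u) (_ : CommRing A₀) (_ : HenselianLocalRing A₀) (_ : IsNoetherianRing A₀)
      (φ : A₀ →+* A) (_ : IsLocalHom φ) (ι : A₁ →+* A₀), φ.comp ι = A₁.val.toRingHom := by
  classical
  haveI : Algebra.FiniteType ℤ A₁ := (Subalgebra.fg_iff_finiteType A₁).1 h₁
  haveI : IsNoetherianRing A₁ := Algebra.FiniteType.isNoetherianRing ℤ A₁
  set 𝔭 : Ideal A₁ := (maximalIdeal A).comap A₁.val.toRingHom with h𝔭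
  haveI : 𝔭.IsPrime := Ideal.comap_isPrime _ _
  set R₁ := Localization.AtPrime 𝔭 with hR₁
  haveI : IsNoetherianRing R₁ := IsLocalization.isNoetherianRing 𝔭.primeCompl R₁ inferInstance
  have hunit : ∀ y : 𝔭.primeCompl, IsUnit (A₁.val.toRingHom (y : A₁)) := by
    intro y
    have hy : (y : A₁) ∉ 𝔭 := y.2
    by_contra hnu
    exact hy (Ideal.mem_comap.2 ((IsLocalRing.mem_maximalIdeal _).2 hnu))
  let ρ : R₁ →+* A := IsLocalization.lift (M := 𝔭.primeCompl) hunit
  have hρ : ∀ a : A₁, ρ (algebraMap A₁ R₁ a) = (a : A) := fun a => IsLocalization.lift_eq hunit a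
  haveI hρloc : IsLocalHom ρ := by
    constructor
    intro x hx
    obtain ⟨a, s, rfl⟩ := IsLocalization.exists_mk'_eq 𝔭.primeCompl x
    have h1 : ρ (IsLocalization.mk' R₁ a s) * (s : A₁).1 = (a : A) := by
      rw [← hρ (s : A₁), ← map_mul, IsLocalization.mk'_spec, hρ]
    have h2 : IsUnit (a : A) := by
      rw [← h1]
      exact hx.mul (hunit s)
    have h3 : a ∈ 𝔭.primeCompl := by
      intro hmem
      exact (IsLocalRing.mem_maximalIdeal _).1 (Ideal.mem_comap.1 hmem) h2
    have h4 : IsUnit (algebraMap A₁ R₁ a) := IsLocalization.map_units R₁ ⟨a, h3⟩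
    rw [← IsLocalization.mk'_spec R₁ a s] at h4
    exact isUnit_of_mul_isUnit_left h4
  obtain ⟨g, hg, -⟩ := (isHenselization (R := R₁)).universal A ρ hρloc
  haveI : IsNoetherianRing (Hh R₁) := Hh.isNoetherianRing R₁
  refine ⟨Hh R₁, inferInstance, inferInstance, inferInstance, g, ?_,
    (algebraMap R₁ (Hh R₁)).comp (algebraMap A₁ R₁), ?_⟩
  · -- g is local
    refine ((local_hom_TFAE g).out 0 2 rfl rfl).mpr ?_
    rw [← Hens.map_maximalIdeal, Ideal.map_map, hg]
    exact ((local_hom_TFAE ρ).out 0 2 rfl rfl).mp hρloc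
  · ext a
    change g (algebraMap R₁ (Hh R₁) (algebraMap A₁ R₁ a)) = (a : A)
    rw [← hρ a, ← hg]
    rfl

open Groth.Agent.Lead in
theorem main (A : Type u) [CommRing A] [HenselianLocalRing A] {X : Scheme.{u}}
    (f : X ⟶ Spec (CommRingCat.of A)) [LocallyOfFinitePresentation f] [QuasiCompact f]
    [QuasiSeparated f] :
    ∃ (A₀ : Type u) (_ : CommRing A₀) (_ : HenselianLocalRing A₀) (_ : IsNoetherianRing A₀)
      (φ : A₀ →+* A) (_ : IsLocalHom φ)
      (X₀ : Scheme.{u}) (f₀ : X₀ ⟶ Spec (CommRingCat.of A₀)) (g : X ⟶ X₀),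
      LocallyOfFiniteType f₀ ∧ QuasiCompact f₀ ∧
        IsPullback g f f₀ (Spec.map (CommRingCat.ofHom φ)) := by
  classical
  have hbot : (⊥ : Subalgebra ℤ A).FG := Subalgebra.fg_bot
  haveI := SubalgSys.isCofiltered (A := A) hbot
  have hc : IsLimit (SubalgSys.cone A ⊥) := SubalgSys.coneIsLimit hbot
  haveI : CompactSpace X := QuasiCompact.compactSpace_of_compactSpace f
  haveI : QuasiSeparatedSpace X := quasiSeparatedSpace_of_quasiSeparated f
  let f' : X ⟶ (SubalgSys.cone A ⊥).pt := f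
  haveI : LocallyOfFinitePresentation f' := ‹LocallyOfFinitePresentation f›
  obtain ⟨j, ⟨M⟩⟩ := LimExist.exists_model hc f'
  obtain ⟨A₀, _, _, _, φ, hφ, ι, hι⟩ := exists_noeth_hens A j.unop.1 j.unop.2.1
  let b : Spec (CommRingCat.of A₀) ⟶ (SubalgSys.D A ⊥).obj j :=
    Spec.map (CommRingCat.ofHom ι)
  have hb : Spec.map (CommRingCat.ofHom φ) ≫ b = (SubalgSys.cone A ⊥).π.app j := by
    rw [SubalgSys.cone_π]
    change Spec.map (CommRingCat.ofHom φ) ≫ Spec.map (CommRingCat.ofHom ι) = _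
    rw [← Spec.map_comp, ← CommRingCat.ofHom_comp, hι]
  have hw : M.g ≫ M.fi = (f ≫ Spec.map (CommRingCat.ofHom φ)) ≫ b := by
    rw [Category.assoc, hb]
    exact M.sq.w
  haveI : QuasiCompact M.fi := by
    haveI : IsAffine ((SubalgSys.D A ⊥).obj j) := inferInstance
    exact (HasAffineProperty.iff_of_isAffine (P := @QuasiCompact)).2 M.cpt
  refine ⟨A₀, inferInstance, inferInstance, inferInstance, φ, hφ, pullback M.fi b, pullback.snd M.fi b,
    pullback.lift M.g (f ≫ Spec.map (CommRingCat.ofHom φ)) hw, ?_, ?_, ?_⟩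
  · exact MorphismProperty.pullback_snd (P := @LocallyOfFiniteType) _ _ inferInstance
  · exact MorphismProperty.pullback_snd (P := @QuasiCompact) _ _ inferInstance
  · refine IsPullback.of_right ?_ (pullback.lift_snd _ _ _) (IsPullback.of_hasPullback M.fi b)
    rw [pullback.lift_fst, hb]
    exact M.sq

end Groth.Agent.Helper2.HensDesc
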