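import Mathlib
import Groth.Prelude
import Groth.Agent.Helper2.PairHensProps
import Groth.Agent.Helper2.PairHensUniv
set_option autoImplicit false

universe u

noncomputable section

namespace Groth.Agent.Helper2.PairHens

open TensorProduct

theorem s17617 (A : Type u) [CommRing A]
    (I : Ideal A) [HenselianRing A I]
    (M' M M'' : Type u) [AddCommGroup M'] [Module A M'] [AddCommGroup M] [Module A M]
    [AddCommGroup M''] [Module A M''] (f : M' →ₗ[A] M) (g : M →ₗ[A] M'') (hfg : g.comp f = 0) :
    Function.Exact f g ↔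
    ∀ (p : Ideal A) [p.IsPrime], I ≤ p →
      ∀ (H : Type u) [CommRing H] [Algebra (Localization.AtPrime p) H] [Algebra A H]
        [IsScalarTower A (Localization.AtPrime p) H],
        Hens2.IsPairHenselization (Localization.AtPrime p)
          (I.map (algebraMap A (Localization.AtPrime p))) H →
        Function.Exact (f.baseChange H) (g.baseChange H) := by
  constructor
  · intro hex p _ _ H _ _ _ _ hH
    haveI : Module.Flat (Localization.AtPrime p) H := flat_of_isPairHenselization hH
    haveI : Module.Flat A H := Module.Flat.trans A (Localization.AtPrime p) H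
    have := Module.Flat.lTensor_exact H hex
    rw [← LinearMap.baseChange_eq_ltensor, ← LinearMap.baseChange_eq_ltensor] at this
    exact this
  · intro hloc
    intro y
    constructor
    swap
    · rintro ⟨z, rfl⟩
      exact congr($hfg z)
    intro hy
    -- the ideal of `a` with `a • y ∈ range f`
    let 𝔞 : Ideal A := (LinearMap.range f).comap (LinearMap.toSpanSingleton A M y)
    have h𝔞 : ∀ a, a ∈ 𝔞 ↔ a • y ∈ LinearMap.range f := fun a => Iff.rfl
    by_cases htop : 𝔞 = ⊤
    · have : (1 : A) ∈ 𝔞 := htop ▸ Submodule.mem_top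
      rw [h𝔞, one_smul] at this
      exact this
    exfalso
    obtain ⟨m, hm, h𝔞m⟩ := Ideal.exists_le_maximal 𝔞 htop
    haveI := hm.isPrime
    have hIm : I ≤ m := by
      have h1 : I ≤ Ideal.jacobson ⊥ := HenselianRing.jac
      refine h1.trans ?_
      rw [Ideal.jacobson, sInf_le_iff]
      intro b hb
      exact hb ⟨bot_le, hm⟩
    let J : Ideal (Localization.AtPrime m) := I.map (algebraMap A (Localization.AtPrime m))
    letI algAH : Algebra A (Hens J) :=
      ((algebraMap (Localization.AtPrime m) (Hens J)).comp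
        (algebraMap A (Localization.AtPrime m))).toAlgebra
    haveI towerH : IsScalarTower A (Localization.AtPrime m) (Hens J) :=
      IsScalarTower.of_algebraMap_eq (fun _ => rfl)
    have hex := hloc m hIm (Hens J) (Hens.isPairHenselization _ J)
    haveI : Module.Flat A (Hens J) := Module.Flat.trans A (Localization.AtPrime m) (Hens J)
    -- `1 ⊗ y` is in the image
    have h1 : (g.baseChange (Hens J)) ((1 : Hens J) ⊗ₜ y) = 0 := by
      rw [LinearMap.baseChange_tmul, hy, tmul_zero]
    obtain ⟨z, hz⟩ := (hex _).mp h1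
    let Q := M ⧸ LinearMap.range f
    let π : M →ₗ[A] Q := (LinearMap.range f).mkQ
    have hπf : π.comp f = 0 := by
      ext x
      exact (Submodule.Quotient.mk_eq_zero _).mpr ⟨x, rfl⟩
    have h2 : (π.baseChange (Hens J)) ((1 : Hens J) ⊗ₜ y) = 0 := by
      rw [← hz, ← LinearMap.comp_apply, ← LinearMap.baseChange_comp, hπf, LinearMap.baseChange_zero,
        LinearMap.zero_apply]
    rw [LinearMap.baseChange_tmul] at h2
    -- the injection `A ⧸ 𝔞 → Q`
    let ι : A ⧸ 𝔞 →ₗ[A] Q := Submodule.liftQ 𝔞 (LinearMap.toSpanSingleton A Q (π y)) (by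
      intro a ha
      rw [LinearMap.mem_ker, LinearMap.toSpanSingleton_apply, ← map_smul]
      exact (Submodule.Quotient.mk_eq_zero _).mpr ((h𝔞 a).mp ha))
    have hιinj : Function.Injective ι := by
      rw [← LinearMap.ker_eq_bot, LinearMap.ker_eq_bot']
      intro x hx
      obtain ⟨a, rfl⟩ := Submodule.Quotient.mk_surjective _ x
      have h3 : a • π y = 0 := hx
      rw [← map_smul] at h3
      have h4 : a • y ∈ LinearMap.range f := (Submodule.Quotient.mk_eq_zero _).mp h3
      exact (Submodule.Quotient.mk_eq_zero _).mpr ((h𝔞 a).mpr h4)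
    have hinjT : Function.Injective (ι.lTensor (Hens J)) :=
      Module.Flat.lTensor_preserves_injective_linearMap ι hιinj
    have h5 : (ι.lTensor (Hens J)) ((1 : Hens J) ⊗ₜ (Submodule.Quotient.mk 1 : A ⧸ 𝔞)) = 0 := by
      rw [LinearMap.lTensor_tmul]
      have : ι (Submodule.Quotient.mk 1) = π y := by
        show (1 : A) • π y = π y
        rw [one_smul]
      rw [this, h2]
    have h6 : (1 : Hens J) ⊗ₜ[A] (Submodule.Quotient.mk 1 : A ⧸ 𝔞) = 0 :=
      hinjT (h5.trans (map_zero _).symm)
    -- map to the residue field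
    let κ := Localization.AtPrime m ⧸ IsLocalRing.maximalIdeal (Localization.AtPrime m)
    have hJle : J ≤ IsLocalRing.maximalIdeal (Localization.AtPrime m) := by
      rw [Ideal.map_le_iff_le_comap]
      intro a ha
      rw [Ideal.mem_comap]
      exact (IsLocalization.AtPrime.to_map_mem_maximal_iff _ m a).mpr (hIm ha)
    let ρ₀ : Hens J →ₐ[Localization.AtPrime m] κ :=
      (Ideal.Quotient.factorₐ (Localization.AtPrime m) hJle).comp Hens.γ
    let ρ : Hens J →ₐ[A] κ := ρ₀.restrictScalars A
    let θ₂ : A ⧸ 𝔞 →ₐ[A] κ := Ideal.Quotient.liftₐ 𝔞 (Algebra.ofId A κ) (by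
      intro a ha
      show algebraMap A κ a = 0
      rw [IsScalarTower.algebraMap_apply A (Localization.AtPrime m) κ, Ideal.Quotient.algebraMap_eq,
        Ideal.Quotient.eq_zero_iff_mem]
      exact (IsLocalization.AtPrime.to_map_mem_maximal_iff _ m a).mpr (h𝔞m ha))
    let θ : Hens J ⊗[A] (A ⧸ 𝔞) →ₐ[A] κ := Algebra.TensorProduct.productMap ρ θ₂
    have h7 : θ ((1 : Hens J) ⊗ₜ[A] (Submodule.Quotient.mk 1 : A ⧸ 𝔞)) = 1 := by
      have : ((1 : Hens J) ⊗ₜ[A] (Submodule.Quotient.mk 1 : A ⧸ 𝔞)) = 1 := rfl
      rw [this, map_one]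
    rw [h6, map_zero] at h7
    exact zero_ne_one h7

end Groth.Agent.Helper2.PairHens
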