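import Mathlib
import Groth.Prelude
import Groth.Agent.Helper2.HensGReg
import Groth.Agent.Helper2.NorBC

set_option autoImplicit false
set_option linter.style.haveILetI false
set_option linter.unusedSectionVars false

/-!
# Geometrically normal formal fibres pass to the henselization
-/

universe u
open IsLocalRing TensorProduct

namespace Groth.Agent.Helper2.HensGNor

open Groth.Agent.Helper1.Hens Groth.Agent.Helper2.HensFib Groth.Agent.Helper2.HensGReg

section Cancel
variable (R H C : Type u) [CommRing R] [CommRing H] [CommRing C] [Algebra R H] [Algebra H C]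
  [Algebra R C] [IsScalarTower R H C]

theorem isNormalHom_cancel [IsNoetherianRing R] [IsNoetherianRing C] [Module.Flat H C]
    (hRC : EGA4.IsNormalHom R C)
    (hv : ∀ (p : Ideal R) [p.IsPrime], IsVNR (p.ResidueField ⊗[R] H))
    (hsep : ∀ (Q : Ideal H) [Q.IsPrime],
      letI := Localization.AtPrime.algebraOfLiesOver (Q.under R) Q
      Algebra.IsSeparable (Q.under R).ResidueField Q.ResidueField) :
    EGA4.IsNormalHom H C := by
  refine ⟨inferInstance, fun Q hQ => ?_⟩
  letI := Localization.AtPrime.algebraOfLiesOver (Q.under R) Q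
  haveI i0' : IsScalarTower R (Localization.AtPrime (Q.under R)) (Localization.AtPrime Q) := by
    refine IsScalarTower.of_algebraMap_eq (fun r => ?_)
    rw [Localization.AtPrime.IsLiesOverAlgebra.algebraMap_eq (p := Q.under R) (P := Q)]
    rw [Localization.localRingHom_to_map, ← IsScalarTower.algebraMap_apply]
  haveI := hsep Q
  haveI : IsScalarTower (Q.under R).ResidueField Q.ResidueField (Q.Fiber C) :=
    IsScalarTower.of_algebraMap_eq (fun z => by
      rw [Algebra.TensorProduct.algebraMap_apply, Algebra.TensorProduct.algebraMap_apply,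
        Algebra.algebraMap_self, RingHom.id_apply])
  apply Groth.Agent.Helper2.SepAlg.geomNormal_of_geomNormal_bot (Q.under R).ResidueField
    Q.ResidueField (Q.Fiber C)
  obtain ⟨e, he⟩ := exists_fiber_equiv (C := C) Q (Q.under R) rfl
    (fun x hx => factU Q (Q.under R) rfl (hv (Q.under R)) hx)
  haveI : IsNoetherianRing (Localization (Algebra.algebraMapSubmonoid C Q.primeCompl)) :=
    IsLocalization.isNoetherianRing (Algebra.algebraMapSubmonoid C Q.primeCompl) _ inferInstance
  have hRCT : EGA4.IsNormalHom R (Localization (Algebra.algebraMapSubmonoid C Q.primeCompl)) :=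
    Groth.Agent.Helper2.NorComp.isNormalHom_comp R C _ hRC
      (Groth.Agent.Helper2.LocHom.isNormalHom_localization_self C
        (Algebra.algebraMapSubmonoid C Q.primeCompl) _)
  have hY := hRCT.2 (Q.under R)
  have hlin : ∀ z : (Q.under R).ResidueField,
      e (algebraMap (Q.under R).ResidueField (Q.Fiber C) z) =
        algebraMap (Q.under R).ResidueField
          ((Q.under R).Fiber (Localization (Algebra.algebraMapSubmonoid C Q.primeCompl))) z := by
    have h1 : (e : Q.Fiber C →+* _).comp (algebraMap (Q.under R).ResidueField (Q.Fiber C)) =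
        algebraMap (Q.under R).ResidueField
          ((Q.under R).Fiber (Localization (Algebra.algebraMapSubmonoid C Q.primeCompl))) := by
      apply Ideal.ResidueField.ringHom_ext
      ext r
      simp only [RingHom.comp_apply]
      have e1 : algebraMap (Q.under R).ResidueField (Q.Fiber C)
          (algebraMap R (Q.under R).ResidueField r) =
          (1 : Q.ResidueField) ⊗ₜ[H] (algebraMap R C r) := by
        rw [Algebra.TensorProduct.algebraMap_apply,
          ← IsScalarTower.algebraMap_apply R (Q.under R).ResidueField Q.ResidueField,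
          IsScalarTower.algebraMap_apply R H Q.ResidueField,
          Algebra.algebraMap_eq_smul_one, TensorProduct.smul_tmul, ← Algebra.algebraMap_eq_smul_one,
          ← IsScalarTower.algebraMap_apply]
      rw [e1]
      show e ((1 : Q.ResidueField) ⊗ₜ[H] (algebraMap R C r)) = _
      rw [he, ← IsScalarTower.algebraMap_apply, Algebra.TensorProduct.algebraMap_apply,
        Algebra.algebraMap_self, RingHom.id_apply, Algebra.algebraMap_eq_smul_one (A := Localization _),
        ← TensorProduct.smul_tmul, ← Algebra.algebraMap_eq_smul_one]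
    exact fun z => RingHom.congr_fun h1 z
  let e' : Q.Fiber C ≃ₐ[(Q.under R).ResidueField]
      (Q.under R).Fiber (Localization (Algebra.algebraMapSubmonoid C Q.primeCompl)) :=
    AlgEquiv.ofRingEquiv (f := e) hlin
  exact Groth.Agent.Helper2.NorBC.geomNormal_of_algEquiv e'.symm hY

end Cancel

section Final
variable (R : Type u) [CommRing R] [IsLocalRing R] [IsNoetherianRing R]

theorem hasGeomNormalFormalFibres_hh [IsNoetherianRing (Hh R)]
    (h : EGA4.HasGeomNormalFormalFibres R) : EGA4.HasGeomNormalFormalFibres (Hh R) := by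
  have hm : (maximalIdeal R).map (algebraMap R (Hh R)) = maximalIdeal (Hh R) :=
    map_maximalIdeal_of_isHenselization R (Hh R)
  have hk : Function.Surjective (ResidueField.map (algebraMap R (Hh R))) :=
    (residueField_map_bijective_of_isHenselization R (Hh R)).2
  obtain ⟨e⟩ := Groth.Agent.Helper2.AdicHom.nonempty_cpl_algEquiv R (Hh R) hm hk
  haveI : IsScalarTower R (Hh R) (EGA4.Cpl (Hh R)) := IsScalarTower.of_algebraMap_eq (fun a => rfl)
  haveI := Groth.Agent.Helper2.CplIff.noeth (Hh R)
  haveI := Groth.Agent.Helper2.CplIff.ff (Hh R)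
  haveI := Groth.Agent.Helper2.CplIff.ff R
  have h0 : EGA4.IsNormalHom R (EGA4.Cpl R) := ⟨inferInstance, h⟩
  have h1 : EGA4.IsNormalHom R (EGA4.Cpl (Hh R)) :=
    Groth.Agent.Helper2.RegBC2.isNormalHom_of_algEquiv R _ _ e h0
  exact (isNormalHom_cancel R (Hh R) (EGA4.Cpl (Hh R)) h1
    (fun p _ => isVNR_fibre p.ResidueField) (fun Q _ => isSeparable_hens R _ Q)).2

end Final

end Groth.Agent.Helper2.HensGNor
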