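import Mathlib
import Groth.Agent.Helper2.HensQFin

/-!
# A finite type subalgebra of a local extension of a henselian local ring with trivial cotangent
space at the closed point over the base is trivial
-/

set_option autoImplicit false

namespace Groth.Agent.Helper2.HensHom
open IsLocalRing

universe u

theorem range_of_cotangent (A : Type u) [CommRing A] [IsNoetherianRing A] [HenselianLocalRing A]
    (A' : Type u) [CommRing A'] [Algebra A A'] [IsLocalRing A'] [IsLocalHom (algebraMap A A')]
    (E : Type u) [CommRing E] [Algebra A E] [Algebra.FiniteType A E] (j : E →ₐ[A] A')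
    (hres : ∀ x : E, ∃ a : A, j x - algebraMap A A' a ∈ maximalIdeal A')
    (hcot : (maximalIdeal A').comap j.toRingHom ≤
      ((maximalIdeal A').comap j.toRingHom) ^ 2 ⊔ (maximalIdeal A).map (algebraMap A E)) :
    ∀ x : E, ∃ a : A, j x = algebraMap A A' a := by
  classical
  set n : Ideal E := (maximalIdeal A').comap j.toRingHom with hn
  have hmem : ∀ x : E, x ∈ n ↔ j x ∈ maximalIdeal A' := fun x => Iff.rfl
  have hmemA : ∀ a : A, algebraMap A E a ∈ n ↔ a ∈ maximalIdeal A := by
    intro a
    rw [hmem, j.commutes, mem_maximalIdeal, mem_maximalIdeal, map_mem_nonunits_iff]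
  have hres' : ∀ x : E, ∃ a : A, x - algebraMap A E a ∈ n := by
    intro x
    obtain ⟨a, ha⟩ := hres x
    exact ⟨a, by rw [hmem, map_sub, j.commutes]; exact ha⟩
  haveI hnp : n.IsPrime := Ideal.comap_isPrime _ _
  have hunder : n.under A = maximalIdeal A := by
    ext a
    rw [Ideal.under, Ideal.mem_comap]
    exact hmemA a
  haveI : n.LiesOver (maximalIdeal A) := ⟨hunder.symm⟩
  haveI hnmax : n.IsMaximal := by
    rw [Ideal.isMaximal_iff]
    refine ⟨fun h1 => hnp.ne_top ((Ideal.eq_top_iff_one _).2 h1), fun J x hJ hx hxJ => ?_⟩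
    obtain ⟨a, ha⟩ := hres' x
    have haJ : algebraMap A E a ∈ J := by
      have : algebraMap A E a = x - (x - algebraMap A E a) := by ring
      rw [this]
      exact J.sub_mem hxJ (hJ ha)
    have hau : IsUnit a := by
      by_contra hau
      have ham : a ∈ maximalIdeal A := (mem_maximalIdeal a).2 hau
      have : x ∈ n := by
        have h2 : x = (x - algebraMap A E a) + algebraMap A E a := by ring
        rw [h2]
        exact n.add_mem ha ((hmemA a).2 ham)
      exact hx this
    have := (hau.map (algebraMap A E))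
    exact (Ideal.eq_top_of_isUnit_mem _ haJ this) ▸ Submodule.mem_top
  haveI hEN : IsNoetherianRing E := Algebra.FiniteType.isNoetherianRing A E
  let L := Localization.AtPrime n
  haveI hLN : IsNoetherianRing L := IsLocalization.isNoetherianRing n.primeCompl L hEN
  set mL : Ideal L := (maximalIdeal A).map (algebraMap A L) with hmL
  -- step 1: the maximal ideal of `L` is `mL`
  have h1 : maximalIdeal L ≤ mL := by
    have hmax : maximalIdeal L = n.map (algebraMap E L) :=
      (Localization.AtPrime.map_eq_maximalIdeal).symm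
    have h2 : n.map (algebraMap E L) ≤
        mL ⊔ (maximalIdeal L) • (maximalIdeal L) := by
      calc n.map (algebraMap E L) ≤ (n ^ 2 ⊔ (maximalIdeal A).map (algebraMap A E)).map
            (algebraMap E L) := Ideal.map_mono hcot
        _ = mL ⊔ (maximalIdeal L) • (maximalIdeal L) := by
            rw [Ideal.map_sup, Ideal.map_pow, ← hmax, Ideal.map_map,
              ← IsScalarTower.algebraMap_eq, sup_comm, pow_two, smul_eq_mul]
    rw [← hmax] at h2
    exact Submodule.le_of_le_smul_of_le_jacobson_bot (R := L) (M := L)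
      (I := maximalIdeal L) (N := mL) (N' := maximalIdeal L)
      ((isNoetherianRing_iff_ideal_fg L).1 hLN _)
      (by rw [IsLocalRing.jacobson_eq_maximalIdeal ⊥ bot_ne_top]) h2
  -- step 2: every element of `L` is congruent to an element of `A`
  have h2 : ∀ y : L, ∃ a : A, y - algebraMap A L a ∈ mL := by
    intro y
    obtain ⟨x, hx⟩ := (IsLocalization.AtPrime.equivQuotMaximalIdeal n L).surjective
      (Ideal.Quotient.mk _ y)
    obtain ⟨x, rfl⟩ := Ideal.Quotient.mk_surjective x
    rw [IsLocalization.AtPrime.equivQuotMaximalIdeal_apply_mk, Ideal.Quotient.eq] at hx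
    obtain ⟨a, ha⟩ := hres' x
    refine ⟨a, h1 ?_⟩
    have h3 : algebraMap E L (x - algebraMap A E a) ∈ maximalIdeal L := by
      rw [← Localization.AtPrime.map_eq_maximalIdeal]
      exact Ideal.mem_map_of_mem _ ha
    have h4 : y - algebraMap A L a =
        algebraMap E L (x - algebraMap A E a) - (algebraMap E L x - y) := by
      rw [map_sub, ← IsScalarTower.algebraMap_apply]
      ring
    rw [h4]
    exact (maximalIdeal L).sub_mem h3 hx
  -- step 3: quasi-finiteness
  have hsurjq : Function.Surjective (Algebra.linearMap A (L ⧸ mL)) := by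
    intro z
    obtain ⟨y, rfl⟩ := Ideal.Quotient.mk_surjective z
    obtain ⟨a, ha⟩ := h2 y
    refine ⟨a, ?_⟩
    rw [Algebra.linearMap_apply, IsScalarTower.algebraMap_apply A L (L ⧸ mL),
      Ideal.Quotient.algebraMap_eq, eq_comm, Ideal.Quotient.eq]
    exact ha
  haveI hfinq : Module.Finite A (L ⧸ mL) := Module.Finite.of_surjective _ hsurjq
  haveI hwq : Algebra.WeaklyQuasiFiniteAt A n := by
    rw [Algebra.weaklyQuasiFiniteAt_iff, hunder]
    infer_instance
  haveI hq : Algebra.QuasiFiniteAt A n := Algebra.QuasiFiniteAt.of_weaklyQuasiFiniteAt n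
  obtain ⟨hsurjL, hfinL⟩ := Groth.Agent.Helper2.HensQFin.qf_local_factor A E n
  haveI := hfinL
  -- step 4: Nakayama
  have h4 : (⊤ : Submodule A L) ≤ LinearMap.range (Algebra.linearMap A L) := by
    apply Submodule.le_of_le_smul_of_le_jacobson_bot (R := A) (M := L)
      (I := maximalIdeal A) (N := LinearMap.range (Algebra.linearMap A L)) (N' := ⊤)
      Module.Finite.fg_top
      (by rw [IsLocalRing.jacobson_eq_maximalIdeal ⊥ bot_ne_top])
    intro y _
    obtain ⟨a, ha⟩ := h2 y
    have h5 : y = algebraMap A L a + (y - algebraMap A L a) := by ring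
    rw [h5]
    refine Submodule.add_mem_sup ⟨a, rfl⟩ ?_
    rw [Ideal.smul_top_eq_map]
    exact ha
  -- step 5: the map to `A'`
  have hunit : ∀ s : n.primeCompl, IsUnit (j.toRingHom s) := by
    intro s
    by_contra hs
    exact s.2 ((hmem s.1).2 ((mem_maximalIdeal _).2 hs))
  let ιL : L →+* A' := IsLocalization.lift (M := n.primeCompl) (g := j.toRingHom) hunit
  intro x
  obtain ⟨a, ha⟩ := h4 (Submodule.mem_top (x := algebraMap E L x))
  refine ⟨a, ?_⟩
  have h6 := congrArg ιL ha
  rw [Algebra.linearMap_apply, IsScalarTower.algebraMap_apply A E L] at h6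
  simp only [ιL, IsLocalization.lift_eq] at h6
  have h7 : j x = j (algebraMap A E a) := h6.symm
  rw [h7, j.commutes]
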