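import Mathlib
import Groth.Prelude.Def_SGA3b
import Groth.Prelude.Def_CartDual2
import Groth.Agent.Helper2.CDBC1

set_option autoImplicit false
universe u
open TensorProduct

namespace Groth.Agent.Helper2.IsoConn

section basis
variable {K : Type*} [CommRing K] {H : Type*} [CommRing H] [Bialgebra K H]
variable {ι : Type*} (b : Module.Basis ι K H)

open Classical in
/-- coefficients of a group-like element in a basis of group-likes: products -/
lemma repr_mul_repr (hb : ∀ i, IsGroupLikeElem K (b i)) {g : H} (hg : IsGroupLikeElem K g)
    (i j : ι) : b.repr g i * b.repr g j = if i = j then b.repr g i else 0 := by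
  classical
  have h1 : (b.tensorProduct b).repr (Coalgebra.comul (R := K) g) (i, j) =
      b.repr g j * b.repr g i := by
    rw [hg.comul_eq_tmul_self, Module.Basis.tensorProduct_repr_tmul_apply, smul_eq_mul]
  have h2 : (b.tensorProduct b).repr (Coalgebra.comul (R := K) g) (i, j) =
      if i = j then b.repr g i else 0 := by
    conv_lhs => rw [← b.linearCombination_repr g]
    rw [Finsupp.linearCombination_apply, Finsupp.sum, map_sum, map_sum, Finsupp.finsetSum_apply]
    simp_rw [map_smul, (hb _).comul_eq_tmul_self, Finsupp.smul_apply,
      Module.Basis.tensorProduct_repr_tmul_apply, Module.Basis.repr_self, smul_eq_mul]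
    by_cases hij : i = j
    · subst hij
      rw [if_pos rfl]
      rw [Finset.sum_eq_single i]
      · simp
      · intro k _ hk
        simp [Finsupp.single_apply, hk]
      · intro hi
        simp [Finsupp.notMem_support_iff.mp hi]
    · rw [if_neg hij]
      apply Finset.sum_eq_zero
      intro k _
      by_cases hki : k = i
      · subst hki
        simp [Finsupp.single_apply, hij]
      · simp [Finsupp.single_apply, hki]
  rw [mul_comm, ← h1, h2]

lemma sum_repr (hb : ∀ i, IsGroupLikeElem K (b i)) {g : H} (hg : IsGroupLikeElem K g) :
    (b.repr g).sum (fun _ c => c) = 1 := by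
  have := hg.counit_eq_one
  conv_lhs at this => rw [← b.linearCombination_repr g]
  rw [Finsupp.linearCombination_apply, Finsupp.sum, map_sum] at this
  simp_rw [map_smul, (hb _).counit_eq_one, smul_eq_mul, mul_one] at this
  exact this

/-- over a ring with only trivial idempotents, a group-like element is a member of any basis of
group-likes -/
theorem exists_eq_basis (hconn : ∀ e : K, IsIdempotentElem e → e = 0 ∨ e = 1) [Nontrivial K]
    (hb : ∀ i, IsGroupLikeElem K (b i)) {g : H} (hg : IsGroupLikeElem K g) : ∃ i, g = b i := by
  classical
  have hidem : ∀ i, b.repr g i = 0 ∨ b.repr g i = 1 := fun i =>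
    hconn _ (by have := repr_mul_repr b hb hg i i; rwa [if_pos rfl] at this)
  have hex : ∃ i, b.repr g i = 1 := by
    by_contra hne
    push Not at hne
    have h0 : ∀ i, b.repr g i = 0 := fun i => (hidem i).resolve_right (hne i)
    have := sum_repr b hb hg
    rw [Finsupp.sum] at this
    simp [h0] at this
  obtain ⟨i, hi⟩ := hex
  refine ⟨i, ?_⟩
  apply b.repr.injective
  ext j
  rw [Module.Basis.repr_self, Finsupp.single_apply]
  by_cases hij : i = j
  · subst hij; rw [if_pos rfl, hi]
  · rw [if_neg hij]
    have := repr_mul_repr b hb hg i j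
    rwa [if_neg hij, hi, one_mul] at this

end basis

section diag
variable (K : Type u) [CommRing K] (H : Type u) [CommRing H] [HopfAlgebra K H]

/-- a commutative Hopf algebra over a connected ring with a basis of group-like elements is
diagonalisable -/
theorem isDiag_of_basis_groupLike (hconn : ∀ e : K, IsIdempotentElem e → e = 0 ∨ e = 1)
    [Nontrivial K] {ι : Type*} (b : Module.Basis ι K H) (hb : ∀ i, IsGroupLikeElem K (b i)) :
    SGA3b.IsDiag K H := by
  classical
  have hex : ∀ g : GroupLike K H, ∃ i, g.val = b i := fun g => exists_eq_basis b hconn hb g.2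
  choose σ hσ using hex
  have hσinj : Function.Injective σ := by
    intro g g' h
    apply GroupLike.val_injective
    rw [hσ g, hσ g', h]
  have hval : (GroupLike.val (R := K) (A := H)) = b ∘ σ := funext hσ
  have hli : LinearIndependent K (GroupLike.val (R := K) (A := H)) := by
    rw [hval]; exact b.linearIndependent.comp σ hσinj
  refine ⟨GroupLike K H, inferInstance, ⟨(BialgEquiv.ofBijective
    (MonoidAlgebra.liftGroupLikeBialgHom (R := K) (A := H)) ⟨?_, ?_⟩).symm⟩⟩
  · have key : ∀ x : MonoidAlgebra K (GroupLike K H),
        (MonoidAlgebra.liftGroupLikeBialgHom (R := K) (A := H)) x =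
        Finsupp.linearCombination K (GroupLike.val (R := K) (A := H)) x.coeff := by
      intro x
      induction x using MonoidAlgebra.induction_linear with
      | zero => simp
      | add f g hf hg => rw [map_add, hf, hg, MonoidAlgebra.coeff_add, map_add]
      | single m r => simp [MonoidAlgebra.liftGroupLikeBialgHom, Algebra.smul_def]
    rw [injective_iff_map_eq_zero]
    intro x hx
    rw [key] at hx
    have := (linearIndependent_iff.mp hli) x.coeff hx
    exact MonoidAlgebra.coeff_injective this
  · intro y
    have hy : y ∈ Submodule.span K (Set.range b) := by rw [b.span_eq]; trivial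
    induction hy using Submodule.span_induction with
    | mem a ha =>
      obtain ⟨i, rfl⟩ := ha
      exact ⟨MonoidAlgebra.single ⟨b i, hb i⟩ 1, by simp [MonoidAlgebra.liftGroupLikeBialgHom]⟩
    | zero => exact ⟨0, map_zero _⟩
    | add a b _ _ ha hb =>
      obtain ⟨a', rfl⟩ := ha
      obtain ⟨b', rfl⟩ := hb
      exact ⟨a' + b', map_add _ _ _⟩
    | smul r a _ ha =>
      obtain ⟨a', rfl⟩ := ha
      exact ⟨r • a', map_smul _ _ _⟩

end diag

end Groth.Agent.Helper2.IsoConn
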