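import Mathlib
import Groth.Prelude.Def_SGA3b
import Groth.Prelude.Def_CartDual2
import Groth.Agent.Helper2.CDBC1
import Groth.Agent.Helper2.IsoConn1

set_option autoImplicit false
universe u
open TensorProduct CartDual

namespace Groth.Agent.Helper2.IsoConn

section glike
variable (R : Type u) [CommRing R] (X : Type u) [Ring X] [Algebra R X]
  [Module.Finite R X] [Module.Projective R X]

/-- an algebra map `X → R` is a group-like element of the dual coalgebra -/
theorem isGroupLikeElem_of_algHom (π : X →ₐ[R] R) :
    IsGroupLikeElem R (WithConv.toConv π.toLinearMap : D R X) := by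
  constructor
  · rw [CartDual.counit_def, CartDual.counit_apply]
    exact map_one π
  · rw [CartDual.comul_def]
    apply (ev₂ R X).injective
    apply TensorProduct.ext'
    intro a b
    rw [ev₂_comul_tmul, ev₂_tmul]
    exact map_mul π a b

end glike

section split
variable (K : Type u) [CommRing K] (H : Type u) [CommRing H] [HopfAlgebra K H]
  [Coalgebra.IsCocomm K H] [Module.Finite K H] [Module.Projective K H]

/-- a finite locally free commutative group scheme over a connected base whose Cartier dual is
a split finite étale cover is diagonalisable -/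
theorem isDiag_of_dual_split (hconn : ∀ e : K, IsIdempotentElem e → e = 0 ∨ e = 1)
    [Nontrivial K] {m : ℕ} (e : D K H ≃ₐ[K] (Fin m → K)) : SGA3b.IsDiag K H := by
  classical
  -- basis of the dual given by the splitting
  let b : Module.Basis (Fin m) K (D K H) := Module.Basis.ofEquivFun e.toLinearEquiv
  let π : Fin m → (D K H →ₐ[K] K) := fun i => (Pi.evalAlgHom K (fun _ => K) i).comp e.toAlgHom
  have hπ : ∀ i, (π i).toLinearMap = b.coord i := by
    intro i
    ext x
    simp [π, b, Module.Basis.coord_apply, Module.Basis.ofEquivFun_repr_apply]
  -- dual basis, in `D K (D K H)`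
  let ψ : Module.Basis (Fin m) K (D K (D K H)) := b.dualBasis.map (toDual K (D K H)).symm
  have hψ : ∀ i, IsGroupLikeElem K (ψ i) := by
    intro i
    have : ψ i = WithConv.toConv (π i).toLinearMap := by
      rw [hπ]
      simp [ψ, Module.Basis.map_apply]
    rw [this]
    exact isGroupLikeElem_of_algHom K (D K H) (π i)
  -- transport to `H`
  let E : H ≃ₐc[K] D K (D K H) := CDBC.evalEquiv K H
  let g : Module.Basis (Fin m) K H := ψ.map E.symm.toLinearEquiv
  have hg : ∀ i, IsGroupLikeElem K (g i) := by
    intro i
    have : g i = E.symm (ψ i) := by simp [g, Module.Basis.map_apply]; rfl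
    rw [this]
    exact (hψ i).map E.symm
  exact isDiag_of_basis_groupLike K H hconn g hg

end split

end Groth.Agent.Helper2.IsoConn
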