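import Mathlib
import Groth.Agent.Helper4.SpecConnIdem

set_option autoImplicit false
universe u
open TensorProduct

namespace Groth.Agent.Helper2.IsoConn

section rank
variable (R : Type u) [CommRing R] [ConnectedSpace (PrimeSpectrum R)]
variable (T : Type u) [CommRing T] [Algebra R T] [Algebra.Etale R T] [Module.Finite R T]

/-- a finite étale algebra over a connected ring has constant rank -/
lemma exists_rank_const : ∃ n : ℕ, Module.rankAtStalk (R := R) T = n := by
  obtain ⟨p₀⟩ := (inferInstance : Nonempty (PrimeSpectrum R))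
  refine ⟨Module.rankAtStalk (R := R) T p₀, ?_⟩
  ext p
  haveI : Module.FinitePresentation R T :=
    Module.FinitePresentation.of_finite_of_finitePresentation R T
  have h : IsLocallyConstant (Module.rankAtStalk (R := R) T) := Module.isLocallyConstant_rankAtStalk
  simpa using h.apply_eq_of_preconnectedSpace p p₀

lemma faithfullyFlat_of_nontrivial [Nontrivial T] : Module.FaithfullyFlat R T := by
  obtain ⟨n, hn⟩ := exists_rank_const R T
  apply Module.FaithfullyFlat.of_comap_surjective
  rw [← PrimeSpectrum.rankAtStalk_pos_iff_comap_surjective]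
  intro p
  rw [hn]
  have : n ≠ 0 := by
    rintro rfl
    rw [Nat.cast_zero, Module.rankAtStalk_eq_zero_iff_subsingleton] at hn
    exact not_subsingleton T hn
  simpa using Nat.pos_of_ne_zero this

end rank

section quot
variable (R : Type u) [CommRing R]
variable (T : Type u) [CommRing T] [Algebra R T] [Algebra.Etale R T] [Module.Finite R T]

lemma finite_quot (I : Ideal T) : Module.Finite R (T ⧸ I) := by
  haveI : Module.Finite T (T ⧸ I) :=
    Module.Finite.of_surjective (Algebra.linearMap T (T ⧸ I)) Ideal.Quotient.mk_surjective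
  exact Module.Finite.trans T (T ⧸ I)

lemma etale_quot {x : T} (hx : IsIdempotentElem x) : Algebra.Etale R (T ⧸ Ideal.span {1 - x}) := by
  haveI : IsLocalization.Away x (T ⧸ Ideal.span {1 - x}) :=
    IsLocalization.Away.quotient_of_isIdempotentElem hx
  haveI : Algebra.Etale T (T ⧸ Ideal.span {1 - x}) := Algebra.Etale.of_isLocalizationAway x
  exact Algebra.Etale.comp R T (T ⧸ Ideal.span {1 - x})

lemma nontrivial_quot {x : T} (hx : IsIdempotentElem x) (h0 : x ≠ 0) :
    Nontrivial (T ⧸ Ideal.span {1 - x}) := by
  rw [Ideal.Quotient.nontrivial_iff, Ne, Ideal.span_singleton_eq_top]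
  intro hu
  have : 1 - x = 1 := (IsIdempotentElem.iff_eq_one_of_isUnit hu).mp hx.one_sub
  apply h0
  have h2 : x = 1 - (1 - x) := by ring
  rw [h2, this, sub_self]

end quot

section main
variable (R : Type u) [CommRing R] [ConnectedSpace (PrimeSpectrum R)]
variable (S : Type u) [CommRing S] [Algebra R S]

theorem exists_connected_aux : ∀ n : ℕ, ∀ (T : Type u) [CommRing T] [Algebra R T]
    [Algebra.Etale R T] [Module.Finite R T] [Nontrivial T],
    Module.rankAtStalk (R := R) T = n → Algebra.IsFiniteSplit T (T ⊗[R] S) →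
    ∃ (T' : Type u) (_ : CommRing T') (_ : Algebra R T'), ConnectedSpace (PrimeSpectrum T') ∧
      Module.FaithfullyFlat R T' ∧ Module.Finite R T' ∧ Algebra.Etale R T' ∧
      Algebra.IsFiniteSplit T' (T' ⊗[R] S) := by
  intro n
  induction n using Nat.strong_induction_on with
  | _ n ih =>
    intro T _ _ _ _ _ hn hsplit
    by_cases hT : ∀ e : T, IsIdempotentElem e → e = 0 ∨ e = 1
    · refine ⟨T, inferInstance, inferInstance, ?_, faithfullyFlat_of_nontrivial R T,
        inferInstance, inferInstance, hsplit⟩
      exact Groth.Agent.Helper4.connectedSpace_primeSpectrum_iff.mpr ⟨inferInstance, hT⟩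
    · push Not at hT
      obtain ⟨e, he, he0, he1⟩ := hT
      have he' : IsIdempotentElem (1 - e) := he.one_sub
      have he'0 : 1 - e ≠ 0 := fun h => he1 (by rw [sub_eq_zero] at h; exact h.symm)
      let T₁ := T ⧸ Ideal.span {1 - e}
      let T₂ := T ⧸ Ideal.span {1 - (1 - e)}
      haveI : Module.Finite R T₁ := finite_quot R T _
      haveI : Module.Finite R T₂ := finite_quot R T _
      haveI : Algebra.Etale R T₁ := etale_quot R T he
      haveI : Algebra.Etale R T₂ := etale_quot R T he'
      haveI : Nontrivial T₁ := nontrivial_quot T he he0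
      haveI : Nontrivial T₂ := nontrivial_quot T he' he'0
      let E : T ≃ₐ[R] T₁ × T₂ := AlgEquiv.prodQuotientOfIsIdempotentElem (R := R) he' he'.one_sub
        (by ring) (by rw [sub_sub_cancel, mul_comm, mul_sub, mul_one, he.eq, sub_self])
      obtain ⟨n₁, hn₁⟩ := exists_rank_const R T₁
      obtain ⟨n₂, hn₂⟩ := exists_rank_const R T₂
      have hsum : n = n₁ + n₂ := by
        have h1 := Module.rankAtStalk_eq_of_equiv (R := R) E.toLinearEquiv
        rw [Module.rankAtStalk_prod, hn, hn₁, hn₂] at h1
        obtain ⟨p₀⟩ := (inferInstance : Nonempty (PrimeSpectrum R))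
        simpa using congrFun h1 p₀
      have hn₂0 : n₂ ≠ 0 := by
        rintro rfl
        rw [Nat.cast_zero, Module.rankAtStalk_eq_zero_iff_subsingleton] at hn₂
        exact not_subsingleton T₂ hn₂
      have hlt : n₁ < n := by omega
      have hsplit₁ : Algebra.IsFiniteSplit T₁ (T₁ ⊗[R] S) := by
        haveI := hsplit
        exact Algebra.IsFiniteSplit.of_algEquiv
          (Algebra.TensorProduct.cancelBaseChange R T T₁ T₁ S)
      exact ih n₁ hlt T₁ hn₁ hsplit₁

theorem exists_connected_split [Algebra.Etale R S] [Module.Finite R S] :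
    ∃ (T : Type u) (_ : CommRing T) (_ : Algebra R T), ConnectedSpace (PrimeSpectrum T) ∧
      Module.FaithfullyFlat R T ∧ Module.Finite R T ∧ Algebra.Etale R T ∧
      Algebra.IsFiniteSplit T (T ⊗[R] S) := by
  obtain ⟨n, hn⟩ := exists_rank_const R S
  obtain ⟨T, _, _, hff, hfin, het, hsplit⟩ := Algebra.IsFiniteSplit.exists_tensorProduct_of_etale hn
  haveI : Nontrivial R := PrimeSpectrum.nonempty_iff_nontrivial.mp inferInstance
  haveI : Nontrivial T := (TensorProduct.rid R T).symm.toEquiv.nontrivial
  obtain ⟨m, hm⟩ := exists_rank_const R T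
  exact exists_connected_aux R S m T hm hsplit

end main

end Groth.Agent.Helper2.IsoConn
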