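import Mathlib
import Groth.Prelude.Def_SGA3b
import Groth.Prelude.Def_CartDual2
import Groth.Agent.Helper2.CDBC2
import Groth.Agent.Helper2.IsoConn2
import Groth.Agent.Helper2.IsoConn3

set_option autoImplicit false
universe u
open TensorProduct CartDual

namespace Groth.Agent.Helper2.IsoConn

section
variable (R : Type u) [CommRing R] [ConnectedSpace (PrimeSpectrum R)]
  (A : Type u) [CommRing A] [HopfAlgebra R A] [Coalgebra.IsCocomm R A]
  [Module.Finite R A] [Module.Projective R A]

theorem isIsotrivial_of_etale_dual (h : Algebra.Etale R (D R A)) : SGA3b.IsIsotrivial R A := by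
  obtain ⟨T, _, _, hconn, hff, hfin, het, hsplit⟩ := exists_connected_split R (D R A)
  obtain ⟨m, ⟨e₀⟩⟩ := hsplit.nonempty_algEquiv_fun
  have hc : ∀ e : T, IsIdempotentElem e → e = 0 ∨ e = 1 :=
    (Groth.Agent.Helper4.connectedSpace_primeSpectrum_iff.mp hconn).2
  haveI : Nontrivial T := (Groth.Agent.Helper4.connectedSpace_primeSpectrum_iff.mp hconn).1
  let e1 : T ⊗[R] D R A ≃ₐc[T] D T (T ⊗[R] A) := CDBC.bcEquiv R T A
  let e : D T (T ⊗[R] A) ≃ₐ[T] (Fin m → T) := (AlgEquivClass.toAlgEquiv e1).symm.trans e₀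
  exact ⟨T, inferInstance, inferInstance, het, hfin, hff, isDiag_of_dual_split T (T ⊗[R] A) hc e⟩

theorem etale_dual_of_isIsotrivial (h : SGA3b.IsIsotrivial R A) : Algebra.Etale R (D R A) := by
  obtain ⟨R', _, _, het, hfin, hff, M, _, ⟨e⟩⟩ := h
  haveI : Nontrivial R := PrimeSpectrum.nonempty_iff_nontrivial.mp inferInstance
  exact CDBC.etale_dual_of_chart R A R' M e

theorem s15898 : Algebra.Etale R (D R A) ↔ SGA3b.IsIsotrivial R A :=
  ⟨isIsotrivial_of_etale_dual R A, etale_dual_of_isIsotrivial R A⟩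

end

end Groth.Agent.Helper2.IsoConn
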