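import Mathlib
import Groth.Agent.Helper2.CDBC2
import Groth.Agent.Helper2.FamDesc

set_option autoImplicit false
universe u
open TensorProduct

namespace Groth.Agent.Helper2.IsoConn
open Groth.Agent.Helper2.MultTypeSemi Groth.Agent.Helper2.SemiIso Groth.Agent.Helper2.DefLemNil
  Groth.Agent.Helper2.CDBC

section comm
variable (R : Type u) [CommRing R] (A : Type u) [CommRing A] [Bialgebra R A]
variable (R' : Type u) [CommRing R'] [Algebra R R']

lemma semiMap_comm' (x : A ⊗[R] A) :
    semiMap R R' (Algebra.TensorProduct.includeRight : A →ₐ[R] R' ⊗[R] A).toLinearMap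
      (TensorProduct.comm R A A x) =
    TensorProduct.comm R' (R' ⊗[R] A) (R' ⊗[R] A)
      (semiMap R R' (Algebra.TensorProduct.includeRight : A →ₐ[R] R' ⊗[R] A).toLinearMap x) := by
  induction x using TensorProduct.induction_on with
  | zero => simp
  | add x y hx hy => simp only [map_add, hx, hy]
  | tmul a b => simp

end comm

section fam
variable (R : Type u) [CommRing R] {F : Type u} [Fintype F] [DecidableEq F] (T : F → Type u)
  [∀ f, CommRing (T f)] [∀ f, Algebra R (T f)] [Module.FaithfullyFlat R (Π f, T f)]

/-- cocommutativity descends along a jointly faithfully flat finite family of base changes -/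
theorem isCocomm_of_fam (A : Type u) [CommRing A] [Bialgebra R A]
    (h : ∀ f, Coalgebra.IsCocomm (T f) (T f ⊗[R] A)) : Coalgebra.IsCocomm R A := by
  refine ⟨?_⟩
  apply LinearMap.ext
  intro a
  rw [← sub_eq_zero]
  apply FamDesc.joint_inj (B := R) T (A ⊗[R] A)
  intro f
  haveI := h f
  have h1 := liftBaseChange_semiMap_bijective R (T f) (isSemiIso_includeRight R (T f) A)
  apply h1.1
  rw [map_zero, LinearMap.liftBaseChange_tmul, one_smul, map_sub, sub_eq_zero]
  have hc := (isSemiCoalg_includeRight R (T f) A).comul a
  rw [LinearMap.comp_apply, LinearEquiv.coe_coe, semiMap_comm', ← hc, Coalgebra.comm_comul]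

/-- formal unramifiedness descends along a jointly faithfully flat finite family -/
theorem formallyUnramified_of_fam (S : Type u) [CommRing S] [Algebra R S]
    (h : ∀ f, Algebra.FormallyUnramified (T f) (T f ⊗[R] S)) : Algebra.FormallyUnramified R S := by
  constructor
  refine ⟨fun x y => ?_⟩
  rw [← sub_eq_zero]
  apply FamDesc.joint_inj (B := R) T (Ω[S⁄R])
  intro f
  haveI := h f
  let _ : Algebra S (T f ⊗[R] S) := Algebra.TensorProduct.rightAlgebra
  have : Subsingleton (T f ⊗[R] Ω[S⁄R]) :=
    (KaehlerDifferential.tensorKaehlerEquivBase R (T f) S (T f ⊗[R] S)).subsingleton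
  exact Subsingleton.elim _ _

end fam

end Groth.Agent.Helper2.IsoConn
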