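import Mathlib
import Groth.Prelude.Def_SGA3b
import Groth.Prelude.Def_CartDual2
import Groth.Agent.Helper2.CDBC2
import Groth.Agent.Helper2.IsoConn4
import Groth.Agent.Helper2.IsoConn5
import Groth.Agent.S0585

set_option autoImplicit false
universe u
open TensorProduct CartDual

namespace Groth.Agent.Helper2.IsoConn
open Groth.Agent.Helper2.CDBC

section local_
variable (L : Type u) [CommRing L] (B : Type u) [CommRing B] [HopfAlgebra L B]

theorem facts_of_const (h : SGA3b.IsMultTypeConst L B) :
    Module.Flat L B ∧ Module.Projective L B ∧ Coalgebra.IsCocomm L B := by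
  obtain ⟨R', _, _, hff, N, _, ⟨e⟩⟩ := h
  refine ⟨flat_of_chart L B R' N e, ?_, isCocomm_of_chart L B R' N e⟩
  haveI : Module.Projective R' (R' ⊗[L] B) := Module.Projective.of_equiv e.symm.toLinearEquiv
  exact Groth.Agent.S0585.result L R' B

theorem etale_dual_of_const [Nontrivial L] [Module.Finite L B] [Module.Projective L B]
    [Coalgebra.IsCocomm L B] (h : SGA3b.IsMultTypeConst L B) : Algebra.Etale L (D L B) := by
  obtain ⟨R', _, _, hff, N, _, ⟨e⟩⟩ := h
  exact etale_dual_of_chart L B R' N e

end local_

section global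
variable (R : Type u) [CommRing R] (A : Type u) [CommRing A] [HopfAlgebra R A] [Module.Finite R A]

/-- a finite group of multiplicative type is locally free, commutative, with étale Cartier dual -/
theorem facts_of_isMultType (hA : SGA3b.IsMultType R A) :
    ∃ (_ : Module.Projective R A) (_ : Coalgebra.IsCocomm R A), Algebra.Etale R (D R A) := by
  classical
  obtain ⟨s, hs, hf⟩ := hA
  obtain ⟨s₀, hs₀, hspan⟩ := (Ideal.span_eq_top_iff_finite s).mp hs
  let T : ↥(s₀ : Set R) → Type u := fun f => Localization.Away f.1
  have hloc : ∀ f : ↥(s₀ : Set R), Module.Flat (T f) (T f ⊗[R] A) ∧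
      Module.Projective (T f) (T f ⊗[R] A) ∧ Coalgebra.IsCocomm (T f) (T f ⊗[R] A) :=
    fun f => facts_of_const _ _ (hf f.1 (hs₀ f.2))
  haveI : Module.FaithfullyFlat R (Π f : ↥(s₀ : Set R), T f) :=
    FamDesc.faithfullyFlat_pi_of_away T (fun f => f.1) (by rw [Subtype.range_coe]; exact hspan)
  haveI hcc : Coalgebra.IsCocomm R A := isCocomm_of_fam R T A (fun f => (hloc f).2.2)
  haveI hflat : Module.Flat R A := by
    refine Module.flat_of_isLocalized_span (R := R) (S := R) (M := A) (s₀ : Set R) hspan
      (fun r => T r ⊗[R] A) (fun r => TensorProduct.mk R (T r) A 1) (fun r => ?_)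
    haveI := (hloc r).1
    haveI : Module.Flat R (T r) := IsLocalization.flat _ (Submonoid.powers r.1)
    exact Module.Flat.trans R (T r) (T r ⊗[R] A)
  haveI hfp : Module.FinitePresentation R A := by
    refine Module.FinitePresentation.of_localizationSpan' (s₀ : Set R) hspan
      (Rₚ := T) (fun g => TensorProduct.mk R (T g) A 1) (fun g => ?_)
    haveI := (hloc g).2.1
    exact Module.finitePresentation_of_projective _ _
  haveI hproj : Module.Projective R A := Module.Flat.projective_of_finitePresentation
  refine ⟨hproj, hcc, ?_⟩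
  haveI : Algebra.FormallyUnramified R (D R A) := by
    refine formallyUnramified_of_fam R T (D R A) (fun f => ?_)
    rcases subsingleton_or_nontrivial (T f) with hsub | hnt
    · haveI : Subsingleton (T f ⊗[R] D R A) := Module.subsingleton (T f) _
      let E : T f ≃ₐ[T f] T f ⊗[R] D R A :=
        AlgEquiv.ofBijective (Algebra.ofId (T f) (T f ⊗[R] D R A))
          ⟨Function.injective_of_subsingleton _, Function.surjective_to_subsingleton _⟩
      exact Algebra.FormallyUnramified.of_equiv E
    · haveI := (hloc f).2.1
      haveI := (hloc f).2.2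
      haveI : Algebra.Etale (T f) (D (T f) (T f ⊗[R] A)) :=
        etale_dual_of_const (T f) (T f ⊗[R] A) (hf f.1 (hs₀ f.2))
      let E : D (T f) (T f ⊗[R] A) ≃ₐ[T f] T f ⊗[R] D R A :=
        (AlgEquivClass.toAlgEquiv (bcEquiv R (T f) A)).symm
      haveI : Algebra.Etale (T f) (T f ⊗[R] D R A) :=
        Algebra.Etale.of_equiv (A := D (T f) (T f ⊗[R] A)) (B := T f ⊗[R] D R A) E
      infer_instance
  haveI : Module.FinitePresentation R (D R A) := Module.finitePresentation_of_projective _ _
  exact Algebra.Etale.of_formallyUnramified_of_flat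

theorem s17846 [ConnectedSpace (PrimeSpectrum R)] (hA : SGA3b.IsMultType R A) :
    SGA3b.IsIsotrivial R A := by
  obtain ⟨hproj, hcc, het⟩ := facts_of_isMultType R A hA
  exact isIsotrivial_of_etale_dual R A het

end global

end Groth.Agent.Helper2.IsoConn
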