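import Mathlib
import Groth.Prelude.Def_SGA3b
import Groth.Agent.Helper2.CDBC2
import Groth.Agent.Helper2.IsoConn6
import Groth.Agent.Helper2.NilLift

set_option autoImplicit false
universe u
open TensorProduct IsLocalRing

namespace Groth.Agent.Helper2.HopfTors
open Groth.Agent.Helper2.MultTypeSemi Groth.Agent.Helper2.SemiIso Groth.Agent.Helper2.NilSplit
  Groth.Agent.Helper2.NilLift Groth.Agent.Helper2.CDBC Groth.Agent.Helper2.IsoConn

section cocomm
variable (R : Type u) [CommRing R] (A : Type u) [CommRing A] [HopfAlgebra R A]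

/-- a group of multiplicative type is commutative -/
theorem isCocomm_of_isMultType (hA : SGA3b.IsMultType R A) : Coalgebra.IsCocomm R A := by
  classical
  obtain ⟨s, hs, hf⟩ := hA
  obtain ⟨s₀, hs₀, hspan⟩ := (Ideal.span_eq_top_iff_finite s).mp hs
  let T : ↥(s₀ : Set R) → Type u := fun f => Localization.Away f.1
  have hloc : ∀ f : ↥(s₀ : Set R), Coalgebra.IsCocomm (T f) (T f ⊗[R] A) :=
    fun f => (facts_of_const _ _ (hf f.1 (hs₀ f.2))).2.2
  haveI : Module.FaithfullyFlat R (Π f : ↥(s₀ : Set R), T f) :=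
    FamDesc.faithfullyFlat_pi_of_away T (fun f => f.1) (by rw [Subtype.range_coe]; exact hspan)
  exact isCocomm_of_fam R T A hloc

end cocomm

section chart
variable (R : Type u) [CommRing R] [IsLocalRing R] (H : Type u) [CommRing H] [HopfAlgebra R H]

/-- over a local ring, a group of multiplicative type has a faithfully flat chart with local
(hence connected) base -/
theorem exists_local_chart (h : SGA3b.IsMultType R H) :
    ∃ (R' : Type u) (_ : CommRing R') (_ : Algebra R R') (_ : IsLocalRing R'),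
      Module.FaithfullyFlat R R' ∧ ∃ (N : Type u) (_ : CommGroup N)
        (θ : H →ₐ[R] MonoidAlgebra R' N), IsSemiIso R R' θ := by
  obtain ⟨R₁, _, _, hff, N, _, ⟨e⟩⟩ := exists_chart_of_isLocalRing R H h
  have hne : Ideal.map (algebraMap R R₁) (maximalIdeal R) ≠ ⊤ := by
    have h1 := Module.FaithfullyFlat.submodule_ne_top (R := R) (M := R₁)
      (IsLocalRing.maximalIdeal.isMaximal R)
    rw [Ideal.smul_top_eq_map] at h1
    intro h2
    apply h1
    rw [h2]
    rfl
  obtain ⟨𝔮, h𝔮max, h𝔮le⟩ := Ideal.exists_le_maximal _ hne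
  haveI := h𝔮max
  haveI : 𝔮.IsPrime := h𝔮max.isPrime
  let R' := Localization.AtPrime 𝔮
  haveI : Module.Flat R₁ R' := IsLocalization.flat R' 𝔮.primeCompl
  haveI : Module.Flat R R' := Module.Flat.trans R R₁ R'
  haveI : IsLocalHom (algebraMap R R') := by
    refine ⟨fun a ha => ?_⟩
    by_contra hna
    have h1 : a ∈ maximalIdeal R := (IsLocalRing.mem_maximalIdeal a).mpr hna
    have h2 : algebraMap R R₁ a ∈ 𝔮 := h𝔮le (Ideal.mem_map_of_mem _ h1)
    have h3 : algebraMap R₁ R' (algebraMap R R₁ a) ∈ maximalIdeal R' :=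
      (IsLocalization.AtPrime.to_map_mem_maximal_iff R' 𝔮 _).mpr h2
    rw [← IsScalarTower.algebraMap_apply R R₁ R'] at h3
    exact (IsLocalRing.mem_maximalIdeal _).mp h3 ha
  haveI : Module.FaithfullyFlat R R' := Module.FaithfullyFlat.of_flat_of_isLocalHom
  let θ₀ : H →ₐ[R] MonoidAlgebra R₁ N :=
    ((e.toBialgHom : R₁ ⊗[R] H →ₐ[R₁] MonoidAlgebra R₁ N).restrictScalars R).comp
      (Algebra.TensorProduct.includeRight : H →ₐ[R] R₁ ⊗[R] H)
  have hθ₀ : IsSemiIso R R₁ θ₀ :=
    (isSemiIso_includeRight R R₁ H).comp R R₁ R₁ (isSemiIso_bialgEquiv R₁ e)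
  exact ⟨R', inferInstance, inferInstance, inferInstance, inferInstance, N, inferInstance,
    ((rho R₁ R' N).restrictScalars R).comp θ₀, isSemiIso_rho_comp (T₂ := R') hθ₀⟩

end chart

end Groth.Agent.Helper2.HopfTors
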