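import Mathlib
import Groth.Prelude.Def_SGA3b
import Groth.Agent.Helper2.HopfTors2
import Groth.Agent.Helper2.TorsFin4

set_option autoImplicit false
universe u
open TensorProduct IsLocalRing

namespace Groth.Agent.Helper2.HopfTors
open Groth.Agent.Helper2.MultTypeSemi Groth.Agent.Helper2.SemiIso Groth.Agent.Helper2.NilSplit
  Groth.Agent.Helper2.NilLift Groth.Agent.Helper2.CDBC Groth.Agent.Helper2.TorsFin

section mt1
variable (S : Type u) [CommRing S] (B : Type u) [CommRing B] [HopfAlgebra S B]
variable (T : Type u) [CommRing T] [Algebra S T] [Module.FaithfullyFlat S T]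
variable (N : Type u) [CommGroup N]

attribute [local instance] Algebra.TensorProduct.rightAlgebra in
/-- a Hopf algebra with a global faithfully flat chart is of multiplicative type -/
theorem isMultType_of_chart (χ : B →ₐ[S] MonoidAlgebra T N) (hχ : IsSemiIso S T χ) :
    SGA3b.IsMultType S B := by
  refine ⟨{1}, by simp, ?_⟩
  intro f hf
  obtain rfl : f = 1 := hf
  let L := Localization.Away (1 : S)
  let T' := L ⊗[S] T
  let χ' : B →ₐ[S] MonoidAlgebra T' N := ((rho T T' N).restrictScalars S).comp χ
  have hχ' : IsSemiIso S T' (((rho T T' N).restrictScalars S).comp χ) :=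
    isSemiIso_rho_comp (T₂ := T') hχ
  exact isMultTypeConst_of_chart (1 : S) χ' hχ'

end mt1

section mt3
variable (R : Type u) [CommRing R] [IsLocalRing R] (A : Type u) [CommRing A] [HopfAlgebra R A]
variable (S : Type u) [CommRing S] [Algebra R S]

attribute [local instance] Algebra.TensorProduct.rightAlgebra in
/-- over a local base, multiplicative type is stable under arbitrary base change -/
theorem isMultType_baseChange_of_isLocalRing (h : SGA3b.IsMultType R A) :
    SGA3b.IsMultType S (S ⊗[R] A) := by
  obtain ⟨R₁, _, _, _, hff, N, _, θ₀, hθ₀⟩ := exists_local_chart R A h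
  haveI := hff
  let T := S ⊗[R] R₁
  let θ₂ : A →ₐ[R] MonoidAlgebra T N := ((rho R₁ T N).restrictScalars R).comp θ₀
  have hθ₂ : IsSemiIso R T θ₂ := isSemiIso_rho_comp (T₂ := T) hθ₀
  have hχ : IsSemiIso S T (liftMap R S θ₂) := hθ₂.lift R S T
  exact isMultType_of_chart S (S ⊗[R] A) T N (liftMap R S θ₂) hχ

end mt3

end Groth.Agent.Helper2.HopfTors
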