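import Mathlib
import Groth.Prelude.Def_SGA3b
import Groth.Agent.Helper7.TakF

set_option autoImplicit false
universe u
open TensorProduct WithConv

namespace Groth.Agent.Helper2.HopfTors

section pow
variable (R : Type u) [CommRing R] (A : Type u) [CommRing A] [HopfAlgebra R A]
  [Coalgebra.IsCocomm R A]

/-- the `n`-th power map of a commutative cocommutative Hopf algebra as a bialgebra map -/
noncomputable def powConvB (n : ℕ) : A →ₐc[R] A :=
  ((toConv (BialgHom.id R A)) ^ n).ofConv

lemma powConvB_toAlgHom (n : ℕ) : ((powConvB R A n : A →ₐc[R] A) : A →ₐ[R] A) =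
    SGA3b.powConv R A n := by
  have h := BialgHom.toAlgHom_convPow (toConv (BialgHom.id R A)) n
  exact congrArg ofConv h

lemma powConvB_apply (n : ℕ) (a : A) : powConvB R A n a = SGA3b.powConv R A n a := by
  rw [← powConvB_toAlgHom]; rfl

end pow

section ideal
variable (R : Type u) [CommRing R] {C A : Type u} [CommRing C] [HopfAlgebra R C]
  [CommRing A] [HopfAlgebra R A] (φ : C →ₐc[R] A)

/-- the ideal generated by the image of the augmentation ideal -/
def augMap : Ideal A :=
  Ideal.map (φ : C →ₐ[R] A) (RingHom.ker (Bialgebra.counitAlgHom R C))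

lemma mk_comp (c : C) : Ideal.Quotient.mk (augMap R φ) (φ c) =
    algebraMap R (A ⧸ augMap R φ) (Coalgebra.counit (R := R) c) := by
  have h1 : c - algebraMap R C (Coalgebra.counit (R := R) c) ∈
      RingHom.ker (Bialgebra.counitAlgHom R C) := by
    rw [RingHom.mem_ker, map_sub, AlgHom.commutes]
    simp
  have h2 : φ (c - algebraMap R C (Coalgebra.counit (R := R) c)) ∈ augMap R φ :=
    Ideal.mem_map_of_mem _ h1
  rw [map_sub, ← Ideal.Quotient.eq] at h2
  rw [h2]
  have : φ (algebraMap R C (Coalgebra.counit (R := R) c)) =
      algebraMap R A (Coalgebra.counit (R := R) c) := AlgHomClass.commutes φ _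
  rw [this]
  rfl

lemma augMap_le_ker_counit : augMap R φ ≤ RingHom.ker (Bialgebra.counitAlgHom R A) := by
  rw [augMap, Ideal.map_le_iff_le_comap]
  intro h hh
  rw [Ideal.mem_comap, RingHom.mem_ker]
  have : (Bialgebra.counitAlgHom R A).comp (φ : C →ₐ[R] A) = Bialgebra.counitAlgHom R C :=
    BialgHom.counitAlgHom_comp φ
  rw [← this] at hh
  exact hh

theorem augMap_isHopfIdeal : (augMap R φ).IsHopfIdeal R := by
  have hco : ((augMap R φ).restrictScalars R).IsCoideal := by
    refine Submodule.IsCoideal.mk ?_ ?_
    · intro x hx
      exact augMap_le_ker_counit R φ hx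
    · intro x hx
      have hmk : (Submodule.restrictScalars R (augMap R φ)).mkQ =
          (Ideal.Quotient.mkₐ R (augMap R φ)).toLinearMap := rfl
      rw [hmk]
      set q := Ideal.Quotient.mkₐ R (augMap R φ) with hq
      change (Algebra.TensorProduct.map q q).comp (Bialgebra.comulAlgHom R A) x = 0
      set D := (Algebra.TensorProduct.map q q).comp (Bialgebra.comulAlgHom R A) with hD
      have hle : augMap R φ ≤ RingHom.ker D := by
        refine (Ideal.map_le_iff_le_comap (f := (φ : C →ₐ[R] A))
          (I := RingHom.ker (Bialgebra.counitAlgHom R C))).2 ?_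
        intro c hc
        rw [Ideal.mem_comap, RingHom.mem_ker]
        rw [RingHom.mem_ker] at hc
        have hc' : Coalgebra.counit (R := R) c = 0 := hc
        -- D (φ c) = (q ⊗ q) (φ ⊗ φ) (Δ c)
        have h1 : D (φ c) = TensorProduct.map q.toLinearMap q.toLinearMap
            (TensorProduct.map (φ : C →ₗ[R] A) (φ : C →ₗ[R] A) (Coalgebra.comul (R := R) c)) := by
          rw [hD, AlgHom.comp_apply, Bialgebra.comulAlgHom_apply]
          have := CoalgHomClass.map_comp_comul_apply φ c
          rw [← this]
          rfl
        have h2 : ∀ t : C ⊗[R] C, TensorProduct.map q.toLinearMap q.toLinearMap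
            (TensorProduct.map (φ : C →ₗ[R] A) (φ : C →ₗ[R] A) t) =
            algebraMap R _ (Coalgebra.counit (R := R) t) := by
          intro t
          induction t using TensorProduct.induction_on with
          | zero => simp
          | add x y hx hy => simp only [map_add, hx, hy]
          | tmul x y =>
            simp only [TensorProduct.map_tmul, AlgHom.toLinearMap_apply]
            have e1 : q ((φ : C →ₗ[R] A) x) =
                algebraMap R _ (Coalgebra.counit (R := R) x) := mk_comp R φ x
            have e2 : q ((φ : C →ₗ[R] A) y) =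
                algebraMap R _ (Coalgebra.counit (R := R) y) := mk_comp R φ y
            rw [e1, e2, TensorProduct.counit_tmul, Algebra.TensorProduct.algebraMap_apply,
              Algebra.algebraMap_eq_smul_one, Algebra.algebraMap_eq_smul_one,
              Algebra.algebraMap_eq_smul_one, TensorProduct.smul_tmul_smul, smul_eq_mul,
              TensorProduct.smul_tmul', mul_comm]
        show D (φ c) = 0
        rw [h1, h2]
        have h3 : Coalgebra.counit (R := R) (Coalgebra.comul (R := R) c) =
            Coalgebra.counit (R := R) c := by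
          have hr := Coalgebra.sum_counit_smul (R := R) (Coalgebra.Repr.arbitrary R c)
          have h4 := congrArg (Coalgebra.counit (R := R)) hr
          rw [← (Coalgebra.Repr.arbitrary R c).eq, map_sum]
          rw [map_sum] at h4
          simp only [TensorProduct.counit_tmul, smul_eq_mul, map_smul] at h4 ⊢
          rw [← h4]
          exact Finset.sum_congr rfl (fun i _ => mul_comm _ _)
        rw [h3, hc', map_zero]
      exact hle hx
  refine { toIsCoideal := hco, antipode_mem := ?_ }
  have hle : augMap R φ ≤ Ideal.comap (HopfAlgebra.antipodeAlgHom R A) (augMap R φ) := by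
    rw [augMap, Ideal.map_le_iff_le_comap]
    intro c hc
    rw [Ideal.mem_comap, Ideal.mem_comap]
    have h1 : HopfAlgebra.antipodeAlgHom R A (φ c) = φ (HopfAlgebra.antipode R c) :=
      (Groth.Agent.Helper7.Takeuchi.map_antipode φ c).symm
    show (HopfAlgebra.antipodeAlgHom R A) (φ c) ∈ _
    rw [h1]
    apply Ideal.mem_map_of_mem
    rw [RingHom.mem_ker] at hc ⊢
    have h2 : Coalgebra.counit (R := R) (HopfAlgebra.antipode R c) = Coalgebra.counit (R := R) c :=
      HopfAlgebra.counit_antipode c
    exact h2.trans hc
  intro x hx
  exact hle hx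

end ideal

section tors
variable (R : Type u) [CommRing R] (A : Type u) [CommRing A] [HopfAlgebra R A]
  [Coalgebra.IsCocomm R A]

lemma torsionIdeal_eq_augMap (n : ℕ) : SGA3b.torsionIdeal R A n = augMap R (powConvB R A n) := by
  unfold SGA3b.torsionIdeal augMap
  rw [powConvB_toAlgHom]

/-- the torsion ideals of a commutative cocommutative Hopf algebra are Hopf ideals -/
theorem torsionIdeal_isHopfIdeal (n : ℕ) : (SGA3b.torsionIdeal R A n).IsHopfIdeal R := by
  rw [torsionIdeal_eq_augMap]
  exact augMap_isHopfIdeal R (powConvB R A n)

end tors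

end Groth.Agent.Helper2.HopfTors
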