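import Mathlib
import Groth.Prelude.Def_SGA3b
import Groth.Agent.Helper2.HopfTors3
import Groth.Agent.Helper2.IsoConn1
import Groth.Agent.Helper2.DiagSpan

set_option autoImplicit false
universe u
open TensorProduct

namespace Groth.Agent.Helper2.HopfTors
open Groth.Agent.Helper2.MultTypeSemi Groth.Agent.Helper2.SemiIso Groth.Agent.Helper2.NilSplit
  Groth.Agent.Helper2.NilLift Groth.Agent.Helper2.TorsFin Groth.Agent.Helper2.IsoConn
  Groth.Agent.Helper2.DiagSpan

section FL
variable (R : Type u) [CommRing R] (R' : Type u) [CommRing R'] [Algebra R R'] [Nontrivial R']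
variable (B : Type u) [CommRing B] [HopfAlgebra R B] (Q : Type u) [CommGroup Q]

/-- for a diagonalisable group with a chart over a connected ring, the characters of the chart
are defined over the base -/
theorem exists_preimage_single (hconn : ∀ e : R', IsIdempotentElem e → e = 0 ∨ e = 1)
    (hB : SGA3b.IsDiag R B) (χ : B →ₐ[R] MonoidAlgebra R' Q) (hχ : IsSemiIso R R' χ) (q : Q) :
    ∃ b : B, χ b = MonoidAlgebra.single q 1 := by
  obtain ⟨M, _, ⟨E⟩⟩ := hB
  let Λ : R' ⊗[R] B →ₐ[R'] MonoidAlgebra R' Q := liftMap R R' χ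
  have hΛb : Function.Bijective Λ := liftMap_bijective hχ
  have hΛc : IsSemiCoalg R' R' Λ := isSemiCoalg_liftMap R R' R' hχ.1
  let ΛB : R' ⊗[R] B →ₐc[R'] MonoidAlgebra R' Q := bialgHomOfSemi Λ hΛc
  let e : R' ⊗[R] B ≃ₐc[R'] MonoidAlgebra R' Q :=
    { (ΛB : R' ⊗[R] B →ₐc[R'] MonoidAlgebra R' Q), Equiv.ofBijective ΛB hΛb with }
  have he : ∀ z, e z = Λ z := fun z => rfl
  let y : R' ⊗[R] B := e.symm (MonoidAlgebra.single q 1)
  have hy : IsGroupLikeElem R' y :=
    (MonoidAlgebra.isGroupLikeElem_single_one (R := R') (A := R') q).map e.symm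
  -- basis of group-likes
  let b₀ : Module.Basis M R B := (MonoidAlgebra.basis M R).map E.symm.toLinearEquiv
  have hb₀ : ∀ m, IsGroupLikeElem R (b₀ m) := by
    intro m
    have : b₀ m = E.symm (MonoidAlgebra.single m 1) := by
      simp [b₀, Module.Basis.map_apply]; rfl
    rw [this]
    exact (MonoidAlgebra.isGroupLikeElem_single_one (R := R) (A := R) m).map E.symm
  let b : Module.Basis M R' (R' ⊗[R] B) := Algebra.TensorProduct.basis R' b₀
  have hb : ∀ m, IsGroupLikeElem R' (b m) := by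
    intro m
    have : b m = (Algebra.TensorProduct.includeRight : B →ₐ[R] R' ⊗[R] B) (b₀ m) := by
      simp [b, Algebra.TensorProduct.basis_apply]
    rw [this]
    exact isGroupLikeElem_of_isSemiCoalg R R' (isSemiCoalg_includeRight R R' B) (hb₀ m)
  obtain ⟨m, hm⟩ := exists_eq_basis b hconn hb hy
  refine ⟨b₀ m, ?_⟩
  have h1 : e y = MonoidAlgebra.single q 1 := e.apply_symm_apply _
  rw [hm, he] at h1
  have h2 : b m = (1 : R') ⊗ₜ[R] b₀ m := by simp [b, Algebra.TensorProduct.basis_apply]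
  rw [h2] at h1
  have h3 : Λ ((1 : R') ⊗ₜ[R] b₀ m) = χ (b₀ m) := by
    simp [Λ]
  rw [h3] at h1
  exact h1

end FL

end Groth.Agent.Helper2.HopfTors
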