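import Mathlib
import Groth.Prelude.Def_SGA3b
import Groth.Agent.Helper2.HopfTors4
import Groth.Agent.Helper2.TorsFin1
import Groth.Agent.Helper2.TorsDens6
import Groth.Agent.Helper7.ModAmitsur

set_option autoImplicit false
universe u
open TensorProduct

namespace Groth.Agent.Helper2.HopfTors
open Groth.Agent.Helper2.MultTypeSemi Groth.Agent.Helper2.SemiIso Groth.Agent.Helper2.NilSplit
  Groth.Agent.Helper2.NilLift Groth.Agent.Helper2.TorsFin Groth.Agent.Helper2.TorsDens
  Groth.Agent.Helper7.ModAmitsur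

section rho
variable (S S' : Type*) [CommRing S] [CommRing S'] [Algebra S S'] (N : Type*) [CommGroup N]

lemma rho_eq_mapRingHom (x : MonoidAlgebra S N) :
    rho S S' N x = MonoidAlgebra.mapRingHom N (algebraMap S S') x := by
  apply MonoidAlgebra.coeff_injective
  ext m
  rw [coeff_rho, MonoidAlgebra.coeff_mapRingHom]

lemma pi_rho (n : ℕ) (x : MonoidAlgebra S N) :
    pi S' N n (rho S S' N x) = rho S S' (Qn N n) (pi S N n x) := by
  rw [rho_eq_mapRingHom, rho_eq_mapRingHom, pi_mapRingHom]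

end rho

section DS
variable (R : Type u) [CommRing R] (R' : Type u) [CommRing R'] [Algebra R R']
  [Module.FaithfullyFlat R R']
variable (H : Type u) [CommRing H] [HopfAlgebra R H]
variable (N : Type u) [CommGroup N] [Group.FG N]
variable (θ' : H →ₐ[R] MonoidAlgebra R' N) (hθ' : IsSemiIso R R' θ')

include hθ' in
/-- descent of a character of the chart to the base, given its descent on all torsion levels -/
theorem exists_descent (ν : N)
    (hfin : ∀ n : ℕ, 0 < n → ∃ a : H, pi R' N n (θ' a) = pi R' N n (MonoidAlgebra.single ν 1)) :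
    ∃ h : H, θ' h = MonoidAlgebra.single ν 1 := by
  let R'' := R' ⊗[R] R'
  let Θ : R' ⊗[R] H →ₐ[R'] MonoidAlgebra R' N := liftMap R R' θ'
  have hΘ : Function.Bijective Θ := liftMap_bijective hθ'
  obtain ⟨g', hg'⟩ := hΘ.2 (MonoidAlgebra.single ν 1)
  let θ'' : H →ₐ[R] MonoidAlgebra R'' N := ((rho R' R'' N).restrictScalars R).comp θ'
  have hθ'' : IsSemiIso R R'' θ'' := isSemiIso_rho_comp (T₂ := R'') hθ'
  let F : R'' ⊗[R] H →ₐ[R''] MonoidAlgebra R'' N := liftMap R R'' θ''
  have hF : Function.Bijective F := liftMap_bijective hθ''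
  let i₁ : R' ⊗[R] H →ₐ[R] R'' ⊗[R] H :=
    Algebra.TensorProduct.map (Algebra.TensorProduct.includeLeft : R' →ₐ[R] R'') (AlgHom.id R H)
  let i₂ : R' ⊗[R] H →ₐ[R] R'' ⊗[R] H :=
    Algebra.TensorProduct.map (Algebra.TensorProduct.includeRight : R' →ₐ[R] R'') (AlgHom.id R H)
  -- `F ∘ i₁ = rho ∘ Θ`
  have hFi₁ : ∀ z, F (i₁ z) = rho R' R'' N (Θ z) := by
    intro z
    induction z using TensorProduct.induction_on with
    | zero => simp
    | add x y hx hy => simp only [map_add, hx, hy]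
    | tmul r a =>
      simp only [i₁, F, Θ, θ'', Algebra.TensorProduct.map_tmul, liftMap_tmul, AlgHom.id_apply,
        AlgHom.comp_apply, AlgHom.restrictScalars_apply, map_smul,
        Algebra.TensorProduct.includeLeft_apply]
      rw [← algebraMap_smul R'' r (rho R' R'' N (θ' a))]
      rfl
  have hFi_one : ∀ a : H, F ((1 : R'') ⊗ₜ[R] a) = rho R' R'' N (θ' a) := by
    intro a
    simp [F, θ'']
  have hi₁_one : ∀ a : H, i₁ ((1 : R') ⊗ₜ[R] a) = (1 : R'') ⊗ₜ[R] a := by
    intro a; simp [i₁]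
  have hi₂_one : ∀ a : H, i₂ ((1 : R') ⊗ₜ[R] a) = (1 : R'') ⊗ₜ[R] a := by
    intro a; simp [i₂]
  -- the two images
  have hy₁ : F (i₁ g') = MonoidAlgebra.single ν 1 := by
    rw [hFi₁, hg']; simp
  -- equality at each level
  have hlev : ∀ n : ℕ, 0 < n → pi R'' N n (F (i₁ g') - F (i₂ g')) = 0 := by
    intro n hn
    obtain ⟨a, ha⟩ := hfin n hn
    -- the ring hom `G`
    let Θe : R' ⊗[R] H ≃ₐ[R'] MonoidAlgebra R' N := AlgEquiv.ofBijective Θ hΘ
    let G₂ : MonoidAlgebra R' N →+* MonoidAlgebra R'' (Qn N n) :=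
      (pi R'' N n).comp ((F : R'' ⊗[R] H →+* MonoidAlgebra R'' N).comp
        ((i₂ : R' ⊗[R] H →+* R'' ⊗[R] H).comp (Θe.symm : MonoidAlgebra R' N →+* R' ⊗[R] H)))
    have hG₂ : Ideal.map (θ' : H →+* MonoidAlgebra R' N) (SGA3b.torsionIdeal R H n) ≤
        RingHom.ker G₂ := by
      rw [Ideal.map_le_iff_le_comap]
      intro t ht
      rw [Ideal.mem_comap, RingHom.mem_ker]
      have h1 : Θe.symm (θ' t) = (1 : R') ⊗ₜ[R] t := by
        apply Θe.injective
        rw [AlgEquiv.apply_symm_apply]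
        show θ' t = Θ ((1 : R') ⊗ₜ[R] t)
        simp [Θ]
      show pi R'' N n (F (i₂ (Θe.symm (θ' t)))) = 0
      rw [h1, hi₂_one, hFi_one, pi_rho]
      have h2 : pi R' N n (θ' t) = 0 :=
        torsionIdeal_le_ker R' N n
          (Groth.Agent.Helper2.TorsDense.map_mem_torsionIdeal hθ'.1 n ht)
      rw [h2, map_zero]
    rw [map_torsionIdeal_eq_ker hθ' n] at hG₂
    -- decompose `g'`
    set z := g' - (1 : R') ⊗ₜ[R] a with hz
    have hw : Θ z ∈ RingHom.ker (pi R' N n) := by
      rw [RingHom.mem_ker, hz, map_sub, map_sub, hg']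
      have : Θ ((1 : R') ⊗ₜ[R] a) = θ' a := by simp [Θ]
      rw [this, ha, sub_self]
    have h3 : pi R'' N n (F (i₂ z)) = 0 := by
      have := hG₂ hw
      rw [RingHom.mem_ker] at this
      have h4 : Θe.symm (Θ z) = z := Θe.symm_apply_apply z
      have h5 : G₂ (Θ z) = pi R'' N n (F (i₂ (Θe.symm (Θ z)))) := rfl
      rw [h5, h4] at this
      exact this
    have h4 : pi R'' N n (F (i₁ z)) = 0 := by
      rw [hFi₁, pi_rho]
      rw [RingHom.mem_ker] at hw
      rw [hw, map_zero]
    have hg'' : g' = z + (1 : R') ⊗ₜ[R] a := by rw [hz]; ring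
    rw [hg'', map_add, map_add, map_add, map_add, hi₁_one, hi₂_one]
    rw [add_sub_add_right_eq_sub, map_sub, h3, h4, sub_self]
  -- density
  have hdens := dens_fg R'' N 1 (F (i₁ g') - F (i₂ g')) (fun n hn => ⟨0, by
    rw [pow_zero, one_mul]; exact hlev n hn⟩)
  obtain ⟨j, hj⟩ := hdens
  rw [one_pow, one_mul, sub_eq_zero] at hj
  have heq : i₁ g' = i₂ g' := hF.1 hj
  -- Amitsur
  have hd : d R R' H g' = 0 := by
    have h1 : ∀ z : R' ⊗[R] H, d R R' H z = i₁ z - i₂ z := by
      intro z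
      induction z using TensorProduct.induction_on with
      | zero => simp
      | add x y hx hy => rw [map_add, hx, hy, map_add, map_add]; abel
      | tmul r a =>
        rw [d_tmul]
        simp only [i₁, i₂, Algebra.TensorProduct.map_tmul, AlgHom.id_apply,
          Algebra.TensorProduct.includeLeft_apply, Algebra.TensorProduct.includeRight_apply,
          TensorProduct.sub_tmul]
        rfl
    rw [h1, heq, sub_self]
  obtain ⟨h, hh⟩ := (amitsur_exact R R' H g').1 hd
  refine ⟨h, ?_⟩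
  have : Θ (ι R R' H h) = θ' h := by
    simp [ι, Θ]
  rw [← this, hh, hg']

end DS

end Groth.Agent.Helper2.HopfTors
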