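import Mathlib
import Groth.Prelude.Def_SGA3b
import Groth.Agent.Helper2.TorsFin4

set_option autoImplicit false

namespace Groth.Agent.Helper2.TorsFin
open TensorProduct Groth.Agent.Helper2.MultTypeSemi Groth.Agent.Helper2.MultTypeChart
  Groth.Agent.Helper2.SemiIso Groth.Agent.Helper2.TorsDens Groth.Agent.Helper2.NilLift
  Groth.Agent.Helper2.FamDesc

universe u

section fin
variable {R : Type u} [CommRing R] {A : Type u} [CommRing A] [HopfAlgebra R A]
variable {T : Type u} [CommRing T] [Algebra R T] {N : Type u} [CommGroup N]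
  {θ : A →ₐ[R] MonoidAlgebra T N}

lemma finite_torsion_chart (hft : Algebra.FiniteType R A) (hθ : IsSemiIso R T θ) (n : ℕ)
    (hn : 0 < n) (J : Ideal A) [J.IsHopfIdeal R] (hJ : J = SGA3b.torsionIdeal R A n) :
    Module.Finite T (T ⊗[R] (A ⧸ J)) := by
  by_cases hT : Nontrivial T
  · haveI := hT
    haveI : Group.FG N := group_fg_of_chart hft hθ
    haveI : Finite (Qn N n) := finite_Qn N n hn
    let e : T ⊗[R] (A ⧸ J) ≃ₗ[T] MonoidAlgebra T (Qn N n) :=
      LinearEquiv.ofBijective _ (isSemiIso_torsChart J hθ n hJ).2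
    exact Module.Finite.equiv e.symm
  · haveI : Subsingleton T := not_nontrivial_iff_subsingleton.mp hT
    haveI : Subsingleton (T ⊗[R] (A ⧸ J)) := by
      refine ⟨fun x y => ?_⟩
      rw [← one_smul T x, ← one_smul T y, Subsingleton.elim (1 : T) 0, zero_smul, zero_smul]
    infer_instance

end fin

section main
variable (R : Type u) [CommRing R] (A : Type u) [CommRing A] [HopfAlgebra R A]

theorem s5242 (hft : Algebra.FiniteType R A) (h : SGA3b.IsMultType R A) (n : ℕ) (hn : 0 < n)
    (J : Ideal A) [J.IsHopfIdeal R] (hJ : J = SGA3b.torsionIdeal R A n) :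
    SGA3b.IsMultType R (A ⧸ J) ∧ Module.Finite R (A ⧸ J) := by
  classical
  obtain ⟨s, hs, hf⟩ := h
  obtain ⟨s₀, hs₀, hspan⟩ := (Ideal.span_eq_top_iff_finite s).mp hs
  have hch : ∀ f : (s₀ : Set R), ∃ (R' : Type u) (_ : CommRing R')
      (_ : Algebra (Localization.Away f.1) R') (_ : Algebra R R')
      (_ : IsScalarTower R (Localization.Away f.1) R'),
      Module.FaithfullyFlat (Localization.Away f.1) R' ∧ Module.Flat R R' ∧
      ∃ (N : Type u) (_ : CommGroup N) (θ : A →ₐ[R] MonoidAlgebra R' N), IsSemiIso R R' θ :=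
    fun f => GLikeLI.exists_chart (R := R) (Q := A) f.1 (hf f.1 (hs₀ f.2))
  choose T cr algf alg tower hff hfl N grp θ hθ using hch
  haveI : ∀ f, Module.FaithfullyFlat (Localization.Away f.1) (T f) := hff
  haveI : Module.FaithfullyFlat R (Π f : (s₀ : Set R), T f) :=
    faithfullyFlat_pi_of_away (fun f : (s₀ : Set R) => T f) (fun f => f.1)
      (by rw [Subtype.range_coe]; exact hspan)
  constructor
  · have key : ∀ g : (s₀ : Set R), SGA3b.IsMultTypeConst (Localization.Away g.1)
        (Localization.Away g.1 ⊗[R] (A ⧸ J)) := fun g =>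
      isMultTypeConst_of_chart g.1 (torsChart J (hθ g) n hJ) (isSemiIso_torsChart J (hθ g) n hJ)
    exact ⟨(s₀ : Set R), hspan, fun f hfs => key ⟨f, hfs⟩⟩
  · exact finite_of_fam T (A ⧸ J) (fun f => finite_torsion_chart hft (hθ f) n hn J hJ)

end main

end Groth.Agent.Helper2.TorsFin
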