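import Mathlib
import Groth.Prelude.Def_SGA3b
import Groth.Agent.Helper2.HopfTors1
import Groth.Agent.Helper2.HopfTors5
import Groth.Agent.Helper2.TorsFin5
import Groth.Agent.Helper2.TorsDens7
import Groth.Agent.Helper2.CDBC7
import Groth.Agent.Helper2.FFConn

set_option autoImplicit false
universe u
open TensorProduct IsLocalRing

namespace Groth.Agent.Helper2.HopfTors
open Groth.Agent.Helper2.MultTypeSemi Groth.Agent.Helper2.SemiIso Groth.Agent.Helper2.NilSplit
  Groth.Agent.Helper2.NilLift Groth.Agent.Helper2.TorsFin Groth.Agent.Helper2.TorsDens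
  Groth.Agent.Helper2.DefLemNil Groth.Agent.Helper2.IsoConn Groth.Agent.Helper2.CDBC

section glift
variable (R : Type u) [CommRing R] (R' : Type u) [CommRing R'] [Algebra R R']
  [Module.FaithfullyFlat R R']
variable (H : Type u) [CommRing H] [HopfAlgebra R H]
variable (N : Type u) [CommGroup N]
variable (θ' : H →ₐ[R] MonoidAlgebra R' N) (hθ' : IsSemiIso R R' θ')

include hθ' in
lemma chart_injective : Function.Injective θ' := by
  have hΘ : Function.Bijective (liftMap R R' θ') := liftMap_bijective hθ'
  intro a b hab
  apply Module.FaithfullyFlat.tensorProduct_mk_injective (A := R) (B := R') H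
  apply hΘ.1
  simp only [TensorProduct.mk_apply, liftMap_tmul, one_smul]
  exact hab

include hθ' in
lemma semiMap_chart_injective : Function.Injective (semiMap R R' θ'.toLinearMap) := by
  have h1 := liftBaseChange_semiMap_bijective R R' hθ'
  intro x y hxy
  apply Module.FaithfullyFlat.tensorProduct_mk_injective (A := R) (B := R') (H ⊗[R] H)
  apply h1.1
  simp only [TensorProduct.mk_apply, LinearMap.liftBaseChange_tmul, one_smul]
  exact hxy

include hθ' in
/-- an element whose image under a chart is a character is group-like -/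
lemma isGroupLikeElem_of_chart {h : H} {ν : N} (hh : θ' h = MonoidAlgebra.single ν 1) :
    IsGroupLikeElem R h := by
  constructor
  · have h1 := hθ'.1.counit h
    rw [hh] at h1
    have h2 : Coalgebra.counit (R := R') (MonoidAlgebra.single ν (1 : R')) = 1 :=
      (MonoidAlgebra.isGroupLikeElem_single_one (R := R') (A := R') ν).counit_eq_one
    rw [h2] at h1
    have hinj : Function.Injective (algebraMap R R') := FaithfulSMul.algebraMap_injective _ _
    apply hinj
    rw [map_one]
    exact h1.symm
  · apply semiMap_chart_injective R R' H N θ' hθ'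
    rw [← hθ'.1.comul h, hh, semiMap_tmul]
    simp only [AlgHom.toLinearMap_apply, hh]
    exact (MonoidAlgebra.isGroupLikeElem_single_one (R := R') (A := R') ν).comul_eq_tmul_self

include hθ' in
/-- if every character of the chart descends, the group is diagonalisable -/
theorem isDiag_of_forall_descent (hd : ∀ ν : N, ∃ h : H, θ' h = MonoidAlgebra.single ν 1) :
    SGA3b.IsDiag R H := by
  choose s hs using hd
  have hinj := chart_injective R R' H N θ' hθ'
  have hgl : ∀ ν, IsGroupLikeElem R (s ν) := fun ν =>
    isGroupLikeElem_of_chart R R' H N θ' hθ' (hs ν)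
  let σ : N →* GroupLike R H :=
    { toFun := fun ν => ⟨s ν, hgl ν⟩
      map_one' := by
        apply GroupLike.val_injective
        apply hinj
        show θ' (s 1) = θ' 1
        rw [hs, map_one]; rfl
      map_mul' := fun ν μ => by
        apply GroupLike.val_injective
        apply hinj
        show θ' (s (ν * μ)) = θ' (s ν * s μ)
        rw [map_mul, hs, hs, hs, MonoidAlgebra.single_mul_single, mul_one] }
  let φ : MonoidAlgebra R N →ₐc[R] H :=
    (MonoidAlgebra.liftGroupLikeBialgHom (R := R) (A := H)).comp
      (MonoidAlgebra.mapDomainBialgHom R σ)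
  have hφ : ∀ (ν : N) (r : R), φ (MonoidAlgebra.single ν r) = r • s ν := by
    intro ν r
    simp [φ, σ, MonoidAlgebra.liftGroupLikeBialgHom, Algebra.smul_def]
  have hcomp : ∀ x : MonoidAlgebra R N, θ' (φ x) = rho R R' N x := by
    intro x
    induction x using MonoidAlgebra.induction_linear with
    | zero => simp
    | add f g hf hg => simp only [map_add, hf, hg]
    | single ν r =>
      rw [hφ, map_smul, hs, rho_single, MonoidAlgebra.smul_single, Algebra.smul_def, mul_one]
  -- bijectivity after base change
  have hLB : LinearMap.liftBaseChange R' (rho R R' N).toLinearMap =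
      (LinearMap.liftBaseChange R' θ'.toLinearMap) ∘ₗ
        (LinearMap.baseChange R' (φ : MonoidAlgebra R N →ₗ[R] H)) := by
    apply TensorProduct.AlgebraTensorModule.ext
    intro r x
    simp only [LinearMap.liftBaseChange_tmul, LinearMap.comp_apply, LinearMap.baseChange_tmul,
      AlgHom.toLinearMap_apply]
    congr 1
    exact (hcomp x).symm
  have hb1 : Function.Bijective (LinearMap.liftBaseChange R' (rho R R' N).toLinearMap) :=
    (isSemiIso_rho R R' N).2
  have hb2 : Function.Bijective (LinearMap.liftBaseChange R' θ'.toLinearMap) := hθ'.2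
  have hb3 : Function.Bijective (LinearMap.baseChange R' (φ : MonoidAlgebra R N →ₗ[R] H)) := by
    have h4 : ⇑(LinearMap.baseChange R' (φ : MonoidAlgebra R N →ₗ[R] H)) =
        ⇑(LinearEquiv.ofBijective _ hb2).symm ∘
          ⇑(LinearMap.liftBaseChange R' (rho R R' N).toLinearMap) := by
      funext z
      rw [Function.comp_apply, hLB, LinearMap.comp_apply]
      exact ((LinearEquiv.ofBijective _ hb2).symm_apply_apply _).symm
    rw [h4]
    exact (LinearEquiv.ofBijective _ hb2).symm.bijective.comp hb1
  have hb : Function.Bijective φ := by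
    have h5 : Function.Bijective ((φ : MonoidAlgebra R N →ₗ[R] H).lTensor R') := by
      have : ⇑((φ : MonoidAlgebra R N →ₗ[R] H).lTensor R') =
          ⇑(LinearMap.baseChange R' (φ : MonoidAlgebra R N →ₗ[R] H)) := rfl
      rw [this]; exact hb3
    exact (Module.FaithfullyFlat.lTensor_bijective_iff_bijective R R'
      (φ : MonoidAlgebra R N →ₗ[R] H)).mp h5
  exact ⟨N, inferInstance, ⟨(BialgEquiv.ofBijective φ hb).symm⟩⟩

end glift

section core
variable (R : Type u) [CommRing R] [HenselianLocalRing R]
variable (H : Type u) [CommRing H] [HopfAlgebra R H]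
variable (M : Type u) [CommGroup M]

/-- over a henselian local ring, a group of multiplicative type and of finite type whose closed
fibre is diagonalisable is diagonalisable -/
theorem isDiag_of_closed_fibre (hft : Algebra.FiniteType R H) (hH : SGA3b.IsMultType R H)
    (θ : H →ₐ[R] MonoidAlgebra (ResidueField R) M) (hθ : IsSemiIso R (ResidueField R) θ) :
    SGA3b.IsDiag R H := by
  haveI : Coalgebra.IsCocomm R H := isCocomm_of_isMultType R H hH
  obtain ⟨R', _, _, _, hff, N, _, θ', hθ'⟩ := exists_local_chart R H hH
  haveI := hff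
  haveI : Group.FG N := group_fg_of_chart hft hθ'
  have hconn : ∀ e : R', IsIdempotentElem e → e = 0 ∨ e = 1 :=
    fun e he => Groth.Agent.Helper2.FFConn.idem_of_isLocalRing R' e he
  have hlev : ∀ (ν : N) (n : ℕ), 0 < n →
      ∃ a : H, pi R' N n (θ' a) = pi R' N n (MonoidAlgebra.single ν 1) := by
    intro ν n hn
    haveI : (SGA3b.torsionIdeal R H n).IsHopfIdeal R := torsionIdeal_isHopfIdeal R H n
    obtain ⟨hmt, hfin⟩ := s5242 R H hft hH n hn (SGA3b.torsionIdeal R H n) rfl
    haveI := hfin
    obtain ⟨hproj, hcc, het⟩ := facts_of_isMultType R (H ⧸ SGA3b.torsionIdeal R H n) hmt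
    haveI := hproj
    haveI := hcc
    haveI := het
    have hd : SGA3b.IsDiag R (H ⧸ SGA3b.torsionIdeal R H n) :=
      isDiag_of_split R (H ⧸ SGA3b.torsionIdeal R H n) (Qn M n)
        (torsChart (SGA3b.torsionIdeal R H n) hθ n rfl)
        (isSemiIso_torsChart (SGA3b.torsionIdeal R H n) hθ n rfl)
    obtain ⟨b, hb⟩ := exists_preimage_single R R' (H ⧸ SGA3b.torsionIdeal R H n) (Qn N n) hconn hd
      (torsChart (SGA3b.torsionIdeal R H n) hθ' n rfl)
      (isSemiIso_torsChart (SGA3b.torsionIdeal R H n) hθ' n rfl) (ν : Qn N n)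
    obtain ⟨a, rfl⟩ := Ideal.Quotient.mk_surjective b
    refine ⟨a, ?_⟩
    rw [torsChart_mk] at hb
    rw [hb, pi_single]
  exact isDiag_of_forall_descent R R' H N θ' hθ'
    (fun ν => exists_descent R R' H N θ' hθ' ν (hlev ν))

end core

end Groth.Agent.Helper2.HopfTors
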