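import Mathlib
import Groth.Agent.Helper2.TorsDens7

set_option autoImplicit false
universe u
open TensorProduct

namespace Groth.Agent.Helper2.QIso
open Groth.Agent.Helper2.MultTypeSemi Groth.Agent.Helper2.SemiIso Groth.Agent.Helper2.NilSplit
  Groth.Agent.Helper2.NilLift Groth.Agent.Helper2.TorsDens

section fp
variable (R : Type u) [CommRing R]

/-- group algebras of finitely generated commutative monoids are finitely presented -/
theorem finitePresentation_monoidAlgebra (M : Type u) [CommMonoid M] [Monoid.FG M] :
    Algebra.FinitePresentation R (MonoidAlgebra R M) := by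
  haveI : Algebra.FiniteType ℤ (MonoidAlgebra ℤ M) := inferInstance
  haveI : Algebra.FinitePresentation ℤ (MonoidAlgebra ℤ M) :=
    Algebra.FinitePresentation.of_finiteType.mp inferInstance
  haveI : Algebra.FinitePresentation R (R ⊗[ℤ] MonoidAlgebra ℤ M) := inferInstance
  exact Algebra.FinitePresentation.equiv (MonoidAlgebra.scalarTensorEquiv ℤ R (M := M))

theorem finitePresentation_groupAlgebra (M : Type u) [CommGroup M] [Group.FG M] :
    Algebra.FinitePresentation R (MonoidAlgebra R M) := by
  haveI : Monoid.FG M := Group.fg_iff_monoid_fg.mp inferInstance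
  exact finitePresentation_monoidAlgebra R M

variable (A : Type u) [CommRing A] [HopfAlgebra R A]

/-- a finitely generated Hopf algebra with a faithfully flat chart is finitely presented -/
theorem finitePresentation_of_chart (hft : Algebra.FiniteType R A) (R' : Type u) [CommRing R']
    [Algebra R R'] [Module.FaithfullyFlat R R'] [Nontrivial R'] (N : Type u) [CommGroup N]
    (χ : A →ₐ[R] MonoidAlgebra R' N) (hχ : IsSemiIso R R' χ) :
    Algebra.FinitePresentation R A := by
  haveI : Group.FG N := group_fg_of_chart hft hχ
  haveI : Algebra.FinitePresentation R' (MonoidAlgebra R' N) := finitePresentation_groupAlgebra R' N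
  let E : R' ⊗[R] A ≃ₐ[R'] MonoidAlgebra R' N :=
    AlgEquiv.ofBijective (liftMap R R' χ) (liftMap_bijective hχ)
  haveI : Algebra.FinitePresentation R' (R' ⊗[R] A) := Algebra.FinitePresentation.equiv E.symm
  exact Algebra.FinitePresentation.of_finitePresentation_tensorProduct_of_faithfullyFlat R'

end fp

end Groth.Agent.Helper2.QIso
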