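import Mathlib
import Groth.Agent.Helper1.HensProps
import Groth.Agent.Helper1.HensElts

set_option autoImplicit false
universe u
open TensorProduct

namespace Groth.Agent.Helper2.QIso
open Groth.Agent.Helper1.Hens

/-- a pointed étale algebra -/
structure Stage (R : Type u) [CommRing R] (Ω : Type u) [Field Ω] [Algebra R Ω] where
  C : Type u
  [cr : CommRing C]
  [alg : Algebra R C]
  [et : Algebra.Etale R C]
  γ : C →ₐ[R] Ω

attribute [instance] Stage.cr Stage.alg Stage.et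

variable {R : Type u} [CommRing R] {Ω : Type u} [Field Ω] [Algebra R Ω]

/-- morphisms of stages -/
structure Stage.Hom (P Q : Stage R Ω) where
  φ : P.C →ₐ[R] Q.C
  comm : ∀ c, Q.γ (φ c) = P.γ c

/-- the canonical map of a stage -/
noncomputable def Stage.ι (P : Stage R Ω) : P.C →ₐ[R] Hens R Ω := Hens.ι P.γ

lemma Stage.Hom.ι_comp {P Q : Stage R Ω} (f : P.Hom Q) (c : P.C) : Q.ι (f.φ c) = P.ι c :=
  Hens.ι_comp P.γ Q.γ f.φ f.comm c

/-- identity -/
def Stage.Hom.id (P : Stage R Ω) : P.Hom P := ⟨AlgHom.id R _, fun _ => rfl⟩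

/-- composition -/
def Stage.Hom.comp {P Q T : Stage R Ω} (g : Q.Hom T) (f : P.Hom Q) : P.Hom T :=
  ⟨g.φ.comp f.φ, fun c => by rw [AlgHom.comp_apply, g.comm, f.comm]⟩

@[simp] lemma Stage.Hom.comp_φ {P Q T : Stage R Ω} (g : Q.Hom T) (f : P.Hom Q) (c : P.C) :
    (g.comp f).φ c = g.φ (f.φ c) := rfl

/-- the base stage -/
def Stage.base (R : Type u) [CommRing R] (Ω : Type u) [Field Ω] [Algebra R Ω] : Stage R Ω :=
  ⟨R, Algebra.ofId R Ω⟩

theorem Stage.exists_ge_mem (P : Stage R Ω) (t : Finset (Hens R Ω)) :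
    ∃ (Q : Stage R Ω) (f : P.Hom Q), ∀ z ∈ t, ∃ d : Q.C, Q.ι d = z := by
  obtain ⟨C₂, _, _, _, γ₂, h₂⟩ := Hens.exists_ι_eq_finset t
  haveI : Algebra.Etale P.C (P.C ⊗[R] C₂) := inferInstance
  haveI : Algebra.Etale R (P.C ⊗[R] C₂) := Algebra.Etale.comp R P.C _
  let δ : P.C ⊗[R] C₂ →ₐ[R] Ω := Algebra.TensorProduct.productMap P.γ γ₂
  have hδ₂ : ∀ c, δ ((Algebra.TensorProduct.includeRight : C₂ →ₐ[R] P.C ⊗[R] C₂) c) = γ₂ c := by
    intro c; simp [δ]
  refine ⟨⟨P.C ⊗[R] C₂, δ⟩, ⟨Algebra.TensorProduct.includeLeft, fun c => by simp [δ]⟩, ?_⟩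
  intro z hz
  obtain ⟨c, rfl⟩ := h₂ z hz
  exact ⟨1 ⊗ₜ c, Hens.ι_comp γ₂ δ Algebra.TensorProduct.includeRight hδ₂ c⟩

theorem Stage.exists_ge_kill (P : Stage R Ω) (t : Finset P.C) (h : ∀ c ∈ t, P.ι c = 0) :
    ∃ (Q : Stage R Ω) (f : P.Hom Q), ∀ c ∈ t, f.φ c = 0 := by
  classical
  induction t using Finset.induction_on with
  | empty => exact ⟨P, Stage.Hom.id P, by simp⟩
  | insert a t _ ih =>
    obtain ⟨Q, f, hf⟩ := ih (fun c hc => h c (Finset.mem_insert_of_mem hc))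
    have ha : Q.ι (f.φ a) = 0 := by rw [f.ι_comp]; exact h a (Finset.mem_insert_self _ _)
    obtain ⟨D, _, _, _, δ, φ, hφ, h0⟩ := Hens.exists_of_ι_eq_zero Q.γ (f.φ a) ha
    refine ⟨⟨D, δ⟩, (⟨φ, hφ⟩ : Q.Hom ⟨D, δ⟩).comp f, ?_⟩
    intro c hc
    rw [Finset.mem_insert] at hc
    rcases hc with rfl | hc
    · exact h0
    · show φ (f.φ c) = 0
      rw [hf c hc, map_zero]

/-- family version -/
theorem Stage.exists_ge_mem' (P : Stage R Ω) {κ : Type*} [Finite κ] (z : κ → Hens R Ω) :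
    ∃ (Q : Stage R Ω) (f : P.Hom Q) (d : κ → Q.C), ∀ k, Q.ι (d k) = z k := by
  classical
  haveI := Fintype.ofFinite κ
  obtain ⟨Q, f, h⟩ := P.exists_ge_mem (Finset.univ.image z)
  choose d hd using fun k => h (z k) (Finset.mem_image_of_mem _ (Finset.mem_univ k))
  exact ⟨Q, f, d, hd⟩

/-- family version -/
theorem Stage.exists_ge_kill' (P : Stage R Ω) {κ : Type*} [Finite κ] (c : κ → P.C)
    (h : ∀ k, P.ι (c k) = 0) : ∃ (Q : Stage R Ω) (f : P.Hom Q), ∀ k, f.φ (c k) = 0 := by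
  classical
  haveI := Fintype.ofFinite κ
  obtain ⟨Q, f, hf⟩ := P.exists_ge_kill (Finset.univ.image c) (fun x hx => by
    obtain ⟨k, -, rfl⟩ := Finset.mem_image.mp hx
    exact h k)
  exact ⟨Q, f, fun k => hf _ (Finset.mem_image_of_mem _ (Finset.mem_univ k))⟩

/-- two families agreeing in the limit agree at a later stage -/
theorem Stage.exists_ge_eq (P : Stage R Ω) {κ : Type*} [Finite κ] (c c' : κ → P.C)
    (h : ∀ k, P.ι (c k) = P.ι (c' k)) :
    ∃ (Q : Stage R Ω) (f : P.Hom Q), ∀ k, f.φ (c k) = f.φ (c' k) := by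
  obtain ⟨Q, f, hf⟩ := P.exists_ge_kill' (fun k => c k - c' k) (fun k => by
    rw [map_sub, h k, sub_self])
  exact ⟨Q, f, fun k => by have := hf k; rwa [map_sub, sub_eq_zero] at this⟩

end Groth.Agent.Helper2.QIso
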