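import Mathlib
import Groth.Agent.Helper2.QIso1

set_option autoImplicit false
universe u
open TensorProduct

namespace Groth.Agent.Helper2.QIso
open Groth.Agent.Helper1.Hens

variable {R : Type u} [CommRing R] {Ω : Type u} [Field Ω] [Algebra R Ω]

section coef
variable (M : Type*) [Monoid M]

/-- coefficientwise map of a stage morphism -/
noncomputable def Stage.Hom.cmap {P Q : Stage R Ω} (f : P.Hom Q) :
    MonoidAlgebra P.C M →ₐ[R] MonoidAlgebra Q.C M := MonoidAlgebra.mapAlgHom M f.φ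

/-- coefficientwise map to the limit -/
noncomputable def Stage.cι (P : Stage R Ω) :
    MonoidAlgebra P.C M →ₐ[R] MonoidAlgebra (Hens R Ω) M := MonoidAlgebra.mapAlgHom M P.ι

@[simp] lemma Stage.Hom.coeff_cmap {P Q : Stage R Ω} (f : P.Hom Q) (x : MonoidAlgebra P.C M) (m : M) :
    (f.cmap M x).coeff m = f.φ (x.coeff m) := MonoidAlgebra.coeff_mapAlgHom _ _ _

@[simp] lemma Stage.coeff_cι (P : Stage R Ω) (x : MonoidAlgebra P.C M) (m : M) :
    (P.cι M x).coeff m = P.ι (x.coeff m) := MonoidAlgebra.coeff_mapAlgHom _ _ _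

lemma Stage.Hom.cι_cmap {P Q : Stage R Ω} (f : P.Hom Q) (x : MonoidAlgebra P.C M) :
    Q.cι M (f.cmap M x) = P.cι M x := by
  apply MonoidAlgebra.coeff_injective
  ext m
  simp [f.ι_comp]

lemma Stage.Hom.cmap_comp {P Q T : Stage R Ω} (g : Q.Hom T) (f : P.Hom Q) (x : MonoidAlgebra P.C M) :
    (g.comp f).cmap M x = g.cmap M (f.cmap M x) := by
  apply MonoidAlgebra.coeff_injective
  ext m
  simp

theorem Stage.exists_ge_cmem (P : Stage R Ω) {κ : Type*} [Finite κ]
    (x : κ → MonoidAlgebra (Hens R Ω) M) :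
    ∃ (Q : Stage R Ω) (f : P.Hom Q) (y : κ → MonoidAlgebra Q.C M), ∀ k, Q.cι M (y k) = x k := by
  classical
  haveI := Fintype.ofFinite κ
  let t : Finset (Hens R Ω) := Finset.univ.biUnion (fun k => (x k).coeff.support.image (x k).coeff)
  obtain ⟨Q, f, h⟩ := P.exists_ge_mem t
  let g : Hens R Ω → Q.C := fun z => if hz : z ∈ t then (h z hz).choose else 0
  have hg : ∀ z ∈ t, Q.ι (g z) = z := fun z hz => by
    simp only [g, dif_pos hz]
    exact (h z hz).choose_spec
  refine ⟨Q, f, fun k => ∑ m ∈ (x k).coeff.support, MonoidAlgebra.single m (g ((x k).coeff m)), ?_⟩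
  intro k
  have hx : x k = ∑ m ∈ (x k).coeff.support, MonoidAlgebra.single m ((x k).coeff m) := by
    conv_lhs => rw [← MonoidAlgebra.sum_coeff_single (x k)]
    rfl
  conv_rhs => rw [hx]
  rw [map_sum]
  apply Finset.sum_congr rfl
  intro m hm
  have hmem : (x k).coeff m ∈ t := by
    simp only [t, Finset.mem_biUnion, Finset.mem_univ, true_and]
    exact ⟨k, Finset.mem_image_of_mem _ hm⟩
  simp only [Stage.cι, MonoidAlgebra.mapAlgHom_single]
  rw [hg _ hmem]

theorem Stage.exists_ge_ckill (P : Stage R Ω) {κ : Type*} [Finite κ]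
    (y : κ → MonoidAlgebra P.C M) (h : ∀ k, P.cι M (y k) = 0) :
    ∃ (Q : Stage R Ω) (f : P.Hom Q), ∀ k, f.cmap M (y k) = 0 := by
  classical
  haveI := Fintype.ofFinite κ
  obtain ⟨Q, f, hf⟩ := P.exists_ge_kill' (κ := Σ k : κ, ↥(y k).coeff.support)
    (fun p => (y p.1).coeff p.2.1) (fun p => by
      have := congrArg (fun z => z.coeff p.2.1) (h p.1)
      simpa using this)
  refine ⟨Q, f, fun k => ?_⟩
  apply MonoidAlgebra.coeff_injective
  ext m
  simp only [Stage.Hom.coeff_cmap, MonoidAlgebra.coeff_zero, Finsupp.coe_zero, Pi.zero_apply]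
  by_cases hm : m ∈ (y k).coeff.support
  · exact hf ⟨k, ⟨m, hm⟩⟩
  · rw [Finsupp.notMem_support_iff.mp hm, map_zero]

theorem Stage.exists_ge_ceq (P : Stage R Ω) {κ : Type*} [Finite κ]
    (y y' : κ → MonoidAlgebra P.C M) (h : ∀ k, P.cι M (y k) = P.cι M (y' k)) :
    ∃ (Q : Stage R Ω) (f : P.Hom Q), ∀ k, f.cmap M (y k) = f.cmap M (y' k) := by
  obtain ⟨Q, f, hf⟩ := P.exists_ge_ckill M (fun k => y k - y' k) (fun k => by
    rw [map_sub, h k, sub_self])
  exact ⟨Q, f, fun k => by have := hf k; rwa [map_sub, sub_eq_zero] at this⟩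

end coef

end Groth.Agent.Helper2.QIso
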