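import Mathlib
import Groth.Agent.Helper2.QIso2

set_option autoImplicit false
universe u
open TensorProduct

namespace Groth.Agent.Helper2.QIso
open Groth.Agent.Helper1.Hens

variable {R : Type u} [CommRing R] {Ω : Type u} [Field Ω] [Algebra R Ω]

section tens
variable (B : Type*) [CommRing B] [Algebra R B]

/-- tensor map of a stage morphism -/
noncomputable def Stage.Hom.tmap {P Q : Stage R Ω} (f : P.Hom Q) :
    P.C ⊗[R] B →ₐ[R] Q.C ⊗[R] B := Algebra.TensorProduct.map f.φ (AlgHom.id R B)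

/-- tensor map to the limit -/
noncomputable def Stage.tι (P : Stage R Ω) :
    P.C ⊗[R] B →ₐ[R] Hens R Ω ⊗[R] B := Algebra.TensorProduct.map P.ι (AlgHom.id R B)

@[simp] lemma Stage.Hom.tmap_tmul {P Q : Stage R Ω} (f : P.Hom Q) (c : P.C) (b : B) :
    f.tmap B (c ⊗ₜ b) = f.φ c ⊗ₜ b := by simp [Stage.Hom.tmap]

@[simp] lemma Stage.tι_tmul (P : Stage R Ω) (c : P.C) (b : B) :
    P.tι B (c ⊗ₜ b) = P.ι c ⊗ₜ b := by simp [Stage.tι]

variable {B} in
lemma Stage.Hom.tι_tmap {P Q : Stage R Ω} (f : P.Hom Q) (x : P.C ⊗[R] B) :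
    Q.tι B (f.tmap B x) = P.tι B x := by
  induction x using TensorProduct.induction_on with
  | zero => simp
  | add x y hx hy => simp only [map_add, hx, hy]
  | tmul c b => simp [f.ι_comp]

variable {B} in
lemma Stage.Hom.tmap_comp {P Q T : Stage R Ω} (g : Q.Hom T) (f : P.Hom Q) (x : P.C ⊗[R] B) :
    (g.comp f).tmap B x = g.tmap B (f.tmap B x) := by
  induction x using TensorProduct.induction_on with
  | zero => simp
  | add x y hx hy => simp only [map_add, hx, hy]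
  | tmul c b => simp

theorem Stage.exists_ge_tmem₁ (z : Hens R Ω ⊗[R] B) : ∀ (P : Stage R Ω),
    ∃ (Q : Stage R Ω) (f : P.Hom Q) (w : Q.C ⊗[R] B), Q.tι B w = z := by
  induction z using TensorProduct.induction_on with
  | zero => exact fun P => ⟨P, Stage.Hom.id P, 0, by simp⟩
  | tmul s b =>
    intro P
    obtain ⟨Q, f, d, hd⟩ := P.exists_ge_mem' (fun _ : Unit => s)
    exact ⟨Q, f, d () ⊗ₜ b, by rw [Stage.tι_tmul, hd]⟩
  | add x y hx hy =>
    intro P
    obtain ⟨Q₁, f₁, w₁, h₁⟩ := hx P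
    obtain ⟨Q₂, f₂, w₂, h₂⟩ := hy Q₁
    exact ⟨Q₂, f₂.comp f₁, f₂.tmap B w₁ + w₂, by rw [map_add, f₂.tι_tmap, h₁, h₂]⟩

theorem Stage.exists_ge_tmem {n : ℕ} (z : Fin n → Hens R Ω ⊗[R] B) (P : Stage R Ω) :
    ∃ (Q : Stage R Ω) (f : P.Hom Q) (w : Fin n → Q.C ⊗[R] B), ∀ k, Q.tι B (w k) = z k := by
  induction n generalizing P with
  | zero => exact ⟨P, Stage.Hom.id P, Fin.elim0, fun k => k.elim0⟩
  | succ n ih =>
    obtain ⟨Q₁, f₁, w₁, h₁⟩ := ih (fun k => z k.succ) P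
    obtain ⟨Q₂, f₂, w₂, h₂⟩ := Stage.exists_ge_tmem₁ B (z 0) Q₁
    refine ⟨Q₂, f₂.comp f₁, Fin.cons w₂ (fun k => f₂.tmap B (w₁ k)), fun k => ?_⟩
    refine Fin.cases ?_ (fun k => ?_) k
    · simpa using h₂
    · simp only [Fin.cons_succ]
      rw [f₂.tι_tmap, h₁]

theorem Stage.exists_ge_tkill₁ (P : Stage R Ω) (x : P.C ⊗[R] B) (hx : P.tι B x = 0) :
    ∃ (Q : Stage R Ω) (f : P.Hom Q), f.tmap B x = 0 := by
  classical
  obtain ⟨s, rfl⟩ := TensorProduct.exists_finset x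
  let c : ↥s → P.C := fun p => p.1.1
  let b : ↥s → B := fun p => p.1.2
  have hsum : ∑ p : ↥s, b p ⊗ₜ[R] P.ι (c p) = 0 := by
    have h1 := congrArg (TensorProduct.comm R (Hens R Ω) B) hx
    rw [map_zero, ← Finset.sum_coe_sort s, map_sum, map_sum] at h1
    rw [← h1]
    apply Finset.sum_congr rfl
    intro p _
    simp [b, c]
  have hinj : Function.Injective
      (LinearMap.rTensor (Hens R Ω) (Submodule.span R (Set.range b)).subtype) :=
    Module.Flat.rTensor_preserves_injective_linearMap _ Subtype.val_injective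
  obtain ⟨k, α, y, hy, hα⟩ :=
    TensorProduct.vanishesTrivially_of_sum_tmul_eq_zero_of_rTensor_injective R hinj hsum
  have hy' : ∀ p, P.ι (c p) = ∑ j, α p j • y j := hy
  obtain ⟨Q₁, f₁, d, hd⟩ := P.exists_ge_mem' y
  obtain ⟨Q₂, f₂, h₂⟩ := Q₁.exists_ge_eq (fun p : ↥s => f₁.φ (c p))
    (fun p => ∑ j, α p j • d j) (fun p => by
      rw [f₁.ι_comp, hy' p, map_sum]
      apply Finset.sum_congr rfl
      intro j _
      rw [map_smul, hd])
  refine ⟨Q₂, f₂.comp f₁, ?_⟩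
  have hv : TensorProduct.VanishesTrivially R b (fun p => (f₂.comp f₁).φ (c p)) := by
    refine ⟨k, α, fun j => f₂.φ (d j), fun p => ?_, hα⟩
    show f₂.φ (f₁.φ (c p)) = _
    rw [h₂ p, map_sum]
    apply Finset.sum_congr rfl
    intro j _
    rw [map_smul]
  have h3 := TensorProduct.sum_tmul_eq_zero_of_vanishesTrivially R hv
  have h4 := congrArg (TensorProduct.comm R B Q₂.C) h3
  rw [map_zero, map_sum] at h4
  rw [← Finset.sum_coe_sort s, map_sum, ← h4]
  apply Finset.sum_congr rfl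
  intro p _
  simp [b, c]

theorem Stage.exists_ge_tkill {n : ℕ} (P : Stage R Ω) (x : Fin n → P.C ⊗[R] B)
    (hx : ∀ k, P.tι B (x k) = 0) :
    ∃ (Q : Stage R Ω) (f : P.Hom Q), ∀ k, f.tmap B (x k) = 0 := by
  induction n with
  | zero => exact ⟨P, Stage.Hom.id P, fun k => k.elim0⟩
  | succ n ih =>
    obtain ⟨Q₁, f₁, h₁⟩ := ih (fun k => x k.succ) (fun k => hx k.succ)
    obtain ⟨Q₂, f₂, h₂⟩ := Q₁.exists_ge_tkill₁ B (f₁.tmap B (x 0)) (by rw [f₁.tι_tmap, hx 0])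
    refine ⟨Q₂, f₂.comp f₁, fun k => ?_⟩
    rw [Stage.Hom.tmap_comp]
    refine Fin.cases h₂ (fun k => ?_) k
    rw [h₁ k, map_zero]

theorem Stage.exists_ge_teq {n : ℕ} (P : Stage R Ω) (x x' : Fin n → P.C ⊗[R] B)
    (hx : ∀ k, P.tι B (x k) = P.tι B (x' k)) :
    ∃ (Q : Stage R Ω) (f : P.Hom Q), ∀ k, f.tmap B (x k) = f.tmap B (x' k) := by
  obtain ⟨Q, f, hf⟩ := P.exists_ge_tkill B (fun k => x k - x' k) (fun k => by
    rw [map_sub, hx k, sub_self])
  exact ⟨Q, f, fun k => by have := hf k; rwa [map_sub, sub_eq_zero] at this⟩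

end tens

end Groth.Agent.Helper2.QIso
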