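import Mathlib
import Groth.Agent.Helper2.QIso3

set_option autoImplicit false
universe u
open TensorProduct

namespace Groth.Agent.Helper2.QIso
open Groth.Agent.Helper1.Hens

/-- a system of algebras over the stages, with a limit -/
structure Sys (R : Type u) [CommRing R] (Ω : Type u) [Field Ω] [Algebra R Ω] where
  F : Stage R Ω → Type u
  [cr : ∀ P, CommRing (F P)]
  [alg : ∀ P, Algebra R (F P)]
  L : Type u
  [crL : CommRing L]
  [algL : Algebra R L]
  map : ∀ {P Q : Stage R Ω}, P.Hom Q → F P →ₐ[R] F Q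
  toL : ∀ P, F P →ₐ[R] L
  toL_map : ∀ {P Q : Stage R Ω} (f : P.Hom Q) (x : F P), toL Q (map f x) = toL P x
  map_comp : ∀ {P Q T : Stage R Ω} (g : Q.Hom T) (f : P.Hom Q) (x : F P),
    map (g.comp f) x = map g (map f x)
  mem : ∀ (P : Stage R Ω) {n : ℕ} (z : Fin n → L),
    ∃ (Q : Stage R Ω) (_ : P.Hom Q) (w : Fin n → F Q), ∀ k, toL Q (w k) = z k
  eq : ∀ (P : Stage R Ω) {n : ℕ} (x x' : Fin n → F P), (∀ k, toL P (x k) = toL P (x' k)) →
    ∃ (Q : Stage R Ω) (f : P.Hom Q), ∀ k, map f (x k) = map f (x' k)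

attribute [instance] Sys.cr Sys.alg Sys.crL Sys.algL

variable {R : Type u} [CommRing R] {Ω : Type u} [Field Ω] [Algebra R Ω]

/-- the coefficient system -/
noncomputable def Sys.coef (R : Type u) [CommRing R] (Ω : Type u) [Field Ω] [Algebra R Ω]
    (M : Type u) [CommMonoid M] : Sys R Ω where
  F := fun P => MonoidAlgebra P.C M
  L := MonoidAlgebra (Hens R Ω) M
  map := fun f => f.cmap M
  toL := fun P => P.cι M
  toL_map := fun f x => f.cι_cmap M x
  map_comp := fun g f x => Stage.Hom.cmap_comp M g f x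
  mem := fun P _ z => P.exists_ge_cmem M z
  eq := fun P _ x x' h => P.exists_ge_ceq M x x' h

/-- the tensor system -/
noncomputable def Sys.tens (R : Type u) [CommRing R] (Ω : Type u) [Field Ω] [Algebra R Ω]
    (B : Type u) [CommRing B] [Algebra R B] : Sys R Ω where
  F := fun P => P.C ⊗[R] B
  L := Hens R Ω ⊗[R] B
  map := fun f => f.tmap B
  toL := fun P => P.tι B
  toL_map := fun f x => f.tι_tmap x
  map_comp := fun g f x => Stage.Hom.tmap_comp g f x
  mem := fun P _ z => Stage.exists_ge_tmem B z P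
  eq := fun P _ x x' h => P.exists_ge_teq B x x' h

section hom
variable (𝒮 : Sys R Ω) (B₁ : Type u) [CommRing B₁] [Algebra R B₁]

/-- maps from a finitely presented algebra to the limit factor through a stage -/
theorem Sys.exists_factor [Algebra.FinitePresentation R B₁] (P : Stage R Ω) (g : B₁ →ₐ[R] 𝒮.L) :
    ∃ (Q : Stage R Ω) (_ : P.Hom Q) (g' : B₁ →ₐ[R] 𝒮.F Q), (𝒮.toL Q).comp g' = g := by
  classical
  obtain ⟨n, π, hπ, hker⟩ := Algebra.FinitePresentation.out (R := R) (A := B₁)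
  obtain ⟨s, hs⟩ := hker
  obtain ⟨Q₁, f₁, w, hw⟩ := 𝒮.mem P (fun i : Fin n => g (π (MvPolynomial.X i)))
  let g₀ : MvPolynomial (Fin n) R →ₐ[R] 𝒮.F Q₁ := MvPolynomial.aeval w
  have hg₀ : (𝒮.toL Q₁).comp g₀ = g.comp π := by
    apply MvPolynomial.algHom_ext
    intro i
    simp [g₀, hw]
  let e := s.equivFin
  obtain ⟨Q₂, f₂, h₂⟩ := 𝒮.eq Q₁ (fun k : Fin s.card => g₀ (e.symm k).1) (fun _ => 0) (fun k => by
    have h1 : 𝒮.toL Q₁ (g₀ (e.symm k).1) = g (π (e.symm k).1) := congr($hg₀ (e.symm k).1)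
    rw [h1, map_zero]
    have h2 : ((e.symm k).1 : MvPolynomial (Fin n) R) ∈ RingHom.ker π.toRingHom := by
      rw [← hs]
      exact Ideal.subset_span (e.symm k).2
    have h3 : π (e.symm k).1 = 0 := h2
    rw [h3, map_zero])
  let g₁ : MvPolynomial (Fin n) R →ₐ[R] 𝒮.F Q₂ := (𝒮.map f₂).comp g₀
  have hle : RingHom.ker π.toRingHom ≤ RingHom.ker g₁.toRingHom := by
    rw [← hs, Ideal.span_le]
    intro p hp
    have := h₂ (e ⟨p, hp⟩)
    simp only [Equiv.symm_apply_apply, map_zero] at this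
    exact this
  have hI : ∀ a ∈ RingHom.ker π.toRingHom, g₁ a = 0 := fun a ha => hle ha
  let g' : B₁ →ₐ[R] 𝒮.F Q₂ :=
    (Ideal.Quotient.liftₐ (RingHom.ker π.toRingHom) g₁ hI).comp
      (Ideal.quotientKerAlgEquivOfSurjective hπ).symm.toAlgHom
  have hg' : ∀ x, g' (π x) = g₁ x := by
    intro x
    have h1 : (Ideal.quotientKerAlgEquivOfSurjective hπ).symm (π x) =
        Ideal.Quotient.mk (RingHom.ker π.toRingHom) x := by
      rw [AlgEquiv.symm_apply_eq]
      rfl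
    show Ideal.Quotient.liftₐ _ g₁ hI ((Ideal.quotientKerAlgEquivOfSurjective hπ).symm (π x)) = _
    rw [h1]
    rfl
  refine ⟨Q₂, f₂.comp f₁, g', ?_⟩
  ext b
  obtain ⟨x, rfl⟩ := hπ b
  rw [AlgHom.comp_apply, hg']
  show 𝒮.toL Q₂ (𝒮.map f₂ (g₀ x)) = _
  rw [𝒮.toL_map]
  exact congr($hg₀ x)

/-- maps from a finitely generated algebra agreeing in the limit agree at a later stage -/
theorem Sys.exists_eq [Algebra.FiniteType R B₁] (P : Stage R Ω) (g g' : B₁ →ₐ[R] 𝒮.F P)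
    (h : (𝒮.toL P).comp g = (𝒮.toL P).comp g') :
    ∃ (Q : Stage R Ω) (f : P.Hom Q), (𝒮.map f).comp g = (𝒮.map f).comp g' := by
  classical
  obtain ⟨s, hs⟩ := (Algebra.FiniteType.out : (⊤ : Subalgebra R B₁).FG)
  let e := s.equivFin
  obtain ⟨Q, f, hf⟩ := 𝒮.eq P (fun k : Fin s.card => g (e.symm k).1) (fun k => g' (e.symm k).1)
    (fun k => congr($h (e.symm k).1))
  refine ⟨Q, f, ?_⟩
  apply AlgHom.ext_of_adjoin_eq_top hs
  intro b hb
  have := hf (e ⟨b, hb⟩)
  simp only [Equiv.symm_apply_apply] at this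
  exact this

end hom

end Groth.Agent.Helper2.QIso
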