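import Mathlib
import Groth.Agent.Helper2.SemiIso

set_option autoImplicit false
open TensorProduct

namespace Groth.Agent.Helper2.QIso
open Groth.Agent.Helper2.MultTypeSemi Groth.Agent.Helper2.SemiIso

section phi
variable (R : Type*) [CommRing R] (D : Type*) [CommRing D] [Algebra R D] (M : Type*) [CommMonoid M]

/-- diagonal -/
noncomputable def diagAlg : MonoidAlgebra D M →ₐ[R] MonoidAlgebra D (M × M) :=
  MonoidAlgebra.mapDomainAlgHom R D ((MonoidHom.id M).prod (MonoidHom.id M))

/-- left inclusion -/
noncomputable def inlAlg : MonoidAlgebra D M →ₐ[R] MonoidAlgebra D (M × M) :=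
  MonoidAlgebra.mapDomainAlgHom R D (MonoidHom.inl M M)

/-- right inclusion -/
noncomputable def inrAlg : MonoidAlgebra D M →ₐ[R] MonoidAlgebra D (M × M) :=
  MonoidAlgebra.mapDomainAlgHom R D (MonoidHom.inr M M)

@[simp] lemma diagAlg_single (m : M) (d : D) :
    diagAlg R D M (MonoidAlgebra.single m d) = MonoidAlgebra.single (m, m) d := by
  simp [diagAlg]

@[simp] lemma inlAlg_single (m : M) (d : D) :
    inlAlg R D M (MonoidAlgebra.single m d) = MonoidAlgebra.single (m, 1) d := by
  simp [inlAlg]

@[simp] lemma inrAlg_single (m : M) (d : D) :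
    inrAlg R D M (MonoidAlgebra.single m d) = MonoidAlgebra.single (1, m) d := by
  simp [inrAlg]

/-- comparison with the group algebra of the product -/
noncomputable def TD : MonoidAlgebra D M ⊗[D] MonoidAlgebra D M →ₐ[D] MonoidAlgebra D (M × M) :=
  Algebra.TensorProduct.productMap (inlAlg D D M) (inrAlg D D M)

lemma TD_apply (t : MonoidAlgebra D M ⊗[D] MonoidAlgebra D M) :
    TD D M t = MonoidAlgebra.tensorEquiv D t := by
  induction t using TensorProduct.induction_on with
  | zero => simp
  | add x y hx hy => simp only [map_add, hx, hy]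
  | tmul x y =>
    induction x using MonoidAlgebra.induction_linear with
    | zero => simp
    | add f g hf hg => simp only [add_tmul, map_add, hf, hg]
    | single m r =>
      induction y using MonoidAlgebra.induction_linear with
      | zero => simp
      | add f g hf hg => simp only [tmul_add, map_add, hf, hg]
      | single n s => simp [TD, MonoidAlgebra.single_mul_single]

lemma TD_injective : Function.Injective (TD D M) := by
  intro x y h
  rw [TD_apply, TD_apply] at h
  exact (MonoidAlgebra.tensorEquiv D).injective h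

lemma inlAlg_coe (y : MonoidAlgebra D M) : inlAlg D D M y = inlAlg R D M y := rfl
lemma inrAlg_coe (y : MonoidAlgebra D M) : inrAlg D D M y = inrAlg R D M y := rfl

lemma TD_comul (y : MonoidAlgebra D M) :
    TD D M (Coalgebra.comul (R := D) y) = diagAlg R D M y := by
  induction y using MonoidAlgebra.induction_linear with
  | zero => simp
  | add f g hf hg => simp only [map_add, hf, hg]
  | single m r =>
    simp only [MonoidAlgebra.comul_single, CommSemiring.comul_apply, TensorProduct.map_tmul,
      MonoidAlgebra.lsingle_apply, TD, Algebra.TensorProduct.productMap_apply_tmul, inlAlg_single,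
      inrAlg_single, MonoidAlgebra.single_mul_single, diagAlg_single]
    simp

variable {A : Type*} [CommRing A] [Bialgebra R A]

lemma TD_semiMap (θ : A →ₐ[R] MonoidAlgebra D M) (t : A ⊗[R] A) :
    TD D M (semiMap R D θ.toLinearMap t) =
      Algebra.TensorProduct.productMap ((inlAlg R D M).comp θ) ((inrAlg R D M).comp θ) t := by
  induction t using TensorProduct.induction_on with
  | zero => simp
  | add x y hx hy => simp only [map_add, hx, hy]
  | tmul x y =>
    simp only [semiMap_tmul, AlgHom.toLinearMap_apply, TD,
      Algebra.TensorProduct.productMap_apply_tmul, AlgHom.comp_apply]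
    rfl

/-- first comultiplication composite -/
noncomputable def Phi1 (θ : A →ₐ[R] MonoidAlgebra D M) : A →ₐ[R] MonoidAlgebra D (M × M) :=
  (diagAlg R D M).comp θ

/-- second comultiplication composite -/
noncomputable def Phi2 (θ : A →ₐ[R] MonoidAlgebra D M) : A →ₐ[R] MonoidAlgebra D (M × M) :=
  (Algebra.TensorProduct.productMap ((inlAlg R D M).comp θ) ((inrAlg R D M).comp θ)).comp
    (Bialgebra.comulAlgHom R A)

/-- first counit composite -/
noncomputable def Psi1 (θ : A →ₐ[R] MonoidAlgebra D M) : A →ₐ[R] D :=
  ((Bialgebra.counitAlgHom D (MonoidAlgebra D M)).restrictScalars R).comp θ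

/-- second counit composite -/
noncomputable def Psi2 : A →ₐ[R] D :=
  (Algebra.ofId R D).comp (Bialgebra.counitAlgHom R A)

lemma isSemiCoalg_iff (θ : A →ₐ[R] MonoidAlgebra D M) :
    IsSemiCoalg R D θ ↔ (Phi1 R D M θ = Phi2 R D M θ ∧ Psi1 R D M θ = Psi2 R D (A := A)) := by
  constructor
  · intro h
    constructor
    · apply AlgHom.ext
      intro a
      show diagAlg R D M (θ a) = _
      rw [← TD_comul, h.comul]
      exact TD_semiMap R D M θ _
    · apply AlgHom.ext
      intro a
      exact h.counit a
  · rintro ⟨h1, h2⟩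
    constructor
    · intro a
      exact congr($h2 a)
    · intro a
      apply TD_injective D M
      rw [TD_comul R, TD_semiMap]
      exact congr($h1 a)

end phi

section nat
variable (R : Type*) [CommRing R] {D D' : Type*} [CommRing D] [Algebra R D] [CommRing D']
  [Algebra R D'] (M : Type*) [CommMonoid M] (φ : D →ₐ[R] D')
variable {A : Type*} [CommRing A] [Bialgebra R A]

lemma mapAlgHom_mapDomain {N : Type*} [CommMonoid N] (g : M →* N) (y : MonoidAlgebra D M) :
    MonoidAlgebra.mapAlgHom N φ (MonoidAlgebra.mapDomainAlgHom R D g y) =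
      MonoidAlgebra.mapDomainAlgHom R D' g (MonoidAlgebra.mapAlgHom M φ y) := by
  induction y using MonoidAlgebra.induction_linear with
  | zero => simp
  | add f g hf hg => simp only [map_add, hf, hg]
  | single m r => simp

lemma Phi1_nat (θ : A →ₐ[R] MonoidAlgebra D M) :
    (MonoidAlgebra.mapAlgHom (M × M) φ).comp (Phi1 R D M θ) =
      Phi1 R D' M ((MonoidAlgebra.mapAlgHom M φ).comp θ) := by
  apply AlgHom.ext
  intro a
  exact mapAlgHom_mapDomain R M φ (N := M × M) _ (θ a)

lemma Phi2_nat (θ : A →ₐ[R] MonoidAlgebra D M) :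
    (MonoidAlgebra.mapAlgHom (M × M) φ).comp (Phi2 R D M θ) =
      Phi2 R D' M ((MonoidAlgebra.mapAlgHom M φ).comp θ) := by
  have key : (MonoidAlgebra.mapAlgHom (M × M) φ).comp
      (Algebra.TensorProduct.productMap ((inlAlg R D M).comp θ) ((inrAlg R D M).comp θ)) =
      Algebra.TensorProduct.productMap
        ((inlAlg R D' M).comp ((MonoidAlgebra.mapAlgHom M φ).comp θ))
        ((inrAlg R D' M).comp ((MonoidAlgebra.mapAlgHom M φ).comp θ)) := by
    apply Algebra.TensorProduct.ext'
    intro x y
    simp only [AlgHom.comp_apply, Algebra.TensorProduct.productMap_apply_tmul, map_mul]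
    congr 1
    · exact mapAlgHom_mapDomain R M φ (N := M × M) _ (θ x)
    · exact mapAlgHom_mapDomain R M φ (N := M × M) _ (θ y)
  apply AlgHom.ext
  intro a
  exact congr($key (Coalgebra.comul (R := R) a))

lemma counit_mapAlgHom (y : MonoidAlgebra D M) :
    Coalgebra.counit (R := D') (MonoidAlgebra.mapAlgHom M φ y) = φ (Coalgebra.counit (R := D) y) := by
  induction y using MonoidAlgebra.induction_linear with
  | zero => simp
  | add f g hf hg => simp only [map_add, hf, hg]
  | single m r => simp

lemma Psi1_nat (θ : A →ₐ[R] MonoidAlgebra D M) :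
    φ.comp (Psi1 R D M θ) = Psi1 R D' M ((MonoidAlgebra.mapAlgHom M φ).comp θ) := by
  apply AlgHom.ext
  intro a
  exact (counit_mapAlgHom R M φ (θ a)).symm

lemma Psi2_nat : φ.comp (Psi2 R D (A := A)) = Psi2 R D' := by
  apply AlgHom.ext
  intro a
  simp [Psi2, Algebra.ofId_apply]

end nat

end Groth.Agent.Helper2.QIso
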