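import Mathlib
import Groth.Agent.Helper2.NilLift

set_option autoImplicit false
open TensorProduct

namespace Groth.Agent.Helper2.QIso
open Groth.Agent.Helper2.MultTypeSemi Groth.Agent.Helper2.SemiIso Groth.Agent.Helper2.NilSplit
  Groth.Agent.Helper2.NilLift

section gen
variable (R : Type*) [CommRing R] {D D' : Type*} [CommRing D] [Algebra R D] [CommRing D']
  [Algebra R D'] (M : Type*) [CommMonoid M] (φ : D →ₐ[R] D')
variable {A : Type*} [CommRing A] [Algebra R A]

lemma mapAlgHom_smul (d : D) (y : MonoidAlgebra D M) :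
    MonoidAlgebra.mapAlgHom M φ (d • y) = φ d • MonoidAlgebra.mapAlgHom M φ y := by
  apply MonoidAlgebra.coeff_injective
  ext m
  simp

lemma tmap_smul (d : D) (x : D ⊗[R] A) :
    Algebra.TensorProduct.map φ (AlgHom.id R A) (d • x) =
      φ d • Algebra.TensorProduct.map φ (AlgHom.id R A) x := by
  induction x using TensorProduct.induction_on with
  | zero => simp
  | add x y hx hy => simp only [smul_add, map_add, hx, hy]
  | tmul c a => simp [TensorProduct.smul_tmul']

lemma mapAlgHom_rho (y : MonoidAlgebra R M) :
    MonoidAlgebra.mapAlgHom M φ (rho R D M y) = rho R D' M y := by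
  apply MonoidAlgebra.coeff_injective
  ext m
  simp

end gen

section lift
variable (R : Type*) [CommRing R] {D D' : Type*} [CommRing D] [Algebra R D] [CommRing D']
  [Algebra R D'] (M : Type*) [CommMonoid M] (φ : D →ₐ[R] D')
variable {A : Type*} [CommRing A] [Bialgebra R A]

lemma liftMap_nat (θ : A →ₐ[R] MonoidAlgebra D M) (x : D ⊗[R] A) :
    MonoidAlgebra.mapAlgHom M φ (liftMap R D θ x) =
      liftMap R D' ((MonoidAlgebra.mapAlgHom M φ).comp θ)
        (Algebra.TensorProduct.map φ (AlgHom.id R A) x) := by
  induction x using TensorProduct.induction_on with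
  | zero => simp
  | add x y hx hy => simp only [map_add, hx, hy]
  | tmul d a => simp [mapAlgHom_smul]

/-- the linear extension of a map from the group algebra of the base -/
noncomputable def extP (p : MonoidAlgebra R M →ₐ[R] D ⊗[R] A) :
    MonoidAlgebra D M →ₐ[D] D ⊗[R] A :=
  MonoidAlgebra.lift D (D ⊗[R] A) M ((p : MonoidAlgebra R M →* D ⊗[R] A).comp (MonoidAlgebra.of R M))

@[simp] lemma extP_single (p : MonoidAlgebra R M →ₐ[R] D ⊗[R] A) (m : M) (d : D) :
    extP R M p (MonoidAlgebra.single m d) = d • p (MonoidAlgebra.single m 1) := by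
  simp [extP, MonoidAlgebra.lift_single]

lemma extP_nat (p : MonoidAlgebra R M →ₐ[R] D ⊗[R] A) (y : MonoidAlgebra D M) :
    Algebra.TensorProduct.map φ (AlgHom.id R A) (extP R M p y) =
      extP R M ((Algebra.TensorProduct.map φ (AlgHom.id R A)).comp p)
        (MonoidAlgebra.mapAlgHom M φ y) := by
  induction y using MonoidAlgebra.induction_linear with
  | zero => simp
  | add f g hf hg => simp only [map_add, hf, hg]
  | single m d => simp [tmap_smul]

/-- bijectivity from a two-sided inverse on generators -/
lemma isSemiIso_of_inverse (θ : A →ₐ[R] MonoidAlgebra D M) (hθ : IsSemiCoalg R D θ)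
    (p : MonoidAlgebra R M →ₐ[R] D ⊗[R] A)
    (h1 : ∀ y, liftMap R D θ (p y) = rho R D M y)
    (h2 : ∀ a, extP R M p (θ a) = 1 ⊗ₜ a) : IsSemiIso R D θ := by
  refine ⟨hθ, ?_⟩
  have h : (liftMap R D θ).toLinearMap = LinearMap.liftBaseChange D θ.toLinearMap := by
    apply TensorProduct.AlgebraTensorModule.ext
    intro t h
    simp
  have h2' : ⇑(LinearMap.liftBaseChange D θ.toLinearMap) = ⇑(liftMap R D θ) := by
    rw [← h]; rfl
  rw [h2']
  constructor
  · have hid : ∀ x, extP R M p (liftMap R D θ x) = x := by
      intro x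
      induction x using TensorProduct.induction_on with
      | zero => simp
      | add x y hx hy => simp only [map_add, hx, hy]
      | tmul d a =>
        rw [liftMap_tmul, map_smul, h2, TensorProduct.smul_tmul', smul_eq_mul, mul_one]
    intro x y hxy
    rw [← hid x, ← hid y, hxy]
  · intro z
    induction z using MonoidAlgebra.induction_linear with
    | zero => exact ⟨0, map_zero _⟩
    | add f g hf hg =>
      obtain ⟨x, hx⟩ := hf
      obtain ⟨y, hy⟩ := hg
      exact ⟨x + y, by rw [map_add, hx, hy]⟩
    | single m d =>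
      refine ⟨d • p (MonoidAlgebra.single m 1), ?_⟩
      rw [map_smul, h1]
      simp

end lift

end Groth.Agent.Helper2.QIso
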