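import Mathlib
import Groth.Agent.Helper2.QIso4
import Groth.Agent.Helper2.QIso5
import Groth.Agent.Helper2.QIso6

set_option autoImplicit false
universe u
open TensorProduct

namespace Groth.Agent.Helper2.QIso
open Groth.Agent.Helper1.Hens
open Groth.Agent.Helper2.MultTypeSemi Groth.Agent.Helper2.SemiIso Groth.Agent.Helper2.NilSplit
  Groth.Agent.Helper2.NilLift

/-- the plain system -/
noncomputable def Sys.plain (R : Type u) [CommRing R] (Ω : Type u) [Field Ω] [Algebra R Ω] :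
    Sys R Ω where
  F := fun P => P.C
  L := Hens R Ω
  map := fun f => f.φ
  toL := fun P => P.ι
  toL_map := fun f x => f.ι_comp x
  map_comp := fun _ _ _ => rfl
  mem := fun P _ z => P.exists_ge_mem' z
  eq := fun P _ x x' h => P.exists_ge_eq x x' h

variable {R : Type u} [CommRing R] {Ω : Type u} [Field Ω] [Algebra R Ω]
variable (A : Type u) [CommRing A] [Bialgebra R A] [Algebra.FiniteType R A]
variable (M : Type u) [CommMonoid M]

variable {A M} in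
lemma isSemiCoalg_push {P Q : Stage R Ω} (f : P.Hom Q) {θ : A →ₐ[R] MonoidAlgebra P.C M}
    (h : IsSemiCoalg R P.C θ) : IsSemiCoalg R Q.C ((f.cmap M).comp θ) := by
  rw [isSemiCoalg_iff] at h ⊢
  obtain ⟨h1, h2⟩ := h
  refine ⟨?_, ?_⟩
  · have e1 := Phi1_nat R M f.φ θ
    have e2 := Phi2_nat R M f.φ θ
    show Phi1 R Q.C M ((MonoidAlgebra.mapAlgHom M f.φ).comp θ) = Phi2 R Q.C M ((MonoidAlgebra.mapAlgHom M f.φ).comp θ)
    rw [← e1, ← e2, h1]
  · have e1 := Psi1_nat R M f.φ θ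
    have e2 := Psi2_nat R f.φ (A := A)
    show Psi1 R Q.C M ((MonoidAlgebra.mapAlgHom M f.φ).comp θ) = _
    rw [← e1, ← e2, h2]

/-- the semi-coalgebra property descends to a stage -/
theorem exists_isSemiCoalg (P : Stage R Ω) (θ : A →ₐ[R] MonoidAlgebra P.C M)
    (h : IsSemiCoalg R (Hens R Ω) ((P.cι M).comp θ)) :
    ∃ (Q : Stage R Ω) (f : P.Hom Q), IsSemiCoalg R Q.C ((f.cmap M).comp θ) := by
  rw [isSemiCoalg_iff] at h
  obtain ⟨h1, h2⟩ := h
  have e1 := Phi1_nat R M P.ι θ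
  have e2 := Phi2_nat R M P.ι θ
  obtain ⟨Q₁, f₁, hf₁⟩ := (Sys.coef R Ω (M × M)).exists_eq A P (Phi1 R P.C M θ) (Phi2 R P.C M θ)
    (by
      show (MonoidAlgebra.mapAlgHom (M × M) P.ι).comp _ = (MonoidAlgebra.mapAlgHom (M × M) P.ι).comp _
      rw [e1, e2]
      exact h1)
  have e3 := Psi1_nat R M P.ι θ
  have e4 := Psi2_nat R P.ι (A := A)
  obtain ⟨Q₂, f₂, hf₂⟩ := (Sys.plain R Ω).exists_eq A Q₁ (Psi1 R Q₁.C M ((f₁.cmap M).comp θ))
    (Psi2 R Q₁.C) (by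
      show Q₁.ι.comp _ = Q₁.ι.comp _
      rw [Psi1_nat R M Q₁.ι, Psi2_nat R Q₁.ι]
      have : (MonoidAlgebra.mapAlgHom M Q₁.ι).comp ((f₁.cmap M).comp θ) =
          (MonoidAlgebra.mapAlgHom M P.ι).comp θ := by
        apply AlgHom.ext
        intro a
        exact f₁.cι_cmap M (θ a)
      rw [this]
      exact h2)
  refine ⟨Q₂, f₂.comp f₁, ?_⟩
  rw [isSemiCoalg_iff]
  have hcomp : ((f₂.comp f₁).cmap M).comp θ = (f₂.cmap M).comp ((f₁.cmap M).comp θ) := by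
    apply AlgHom.ext
    intro a
    exact Stage.Hom.cmap_comp M f₂ f₁ (θ a)
  rw [hcomp]
  refine ⟨?_, ?_⟩
  · have e5 := Phi1_nat R M f₂.φ ((f₁.cmap M).comp θ)
    have e6 := Phi2_nat R M f₂.φ ((f₁.cmap M).comp θ)
    have e7 := Phi1_nat R M f₁.φ θ
    have e8 := Phi2_nat R M f₁.φ θ
    show Phi1 R Q₂.C M ((MonoidAlgebra.mapAlgHom M f₂.φ).comp ((f₁.cmap M).comp θ)) =
      Phi2 R Q₂.C M ((MonoidAlgebra.mapAlgHom M f₂.φ).comp ((f₁.cmap M).comp θ))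
    rw [← e5, ← e6]
    have : Phi1 R Q₁.C M ((f₁.cmap M).comp θ) = Phi2 R Q₁.C M ((f₁.cmap M).comp θ) := by
      show Phi1 R Q₁.C M ((MonoidAlgebra.mapAlgHom M f₁.φ).comp θ) =
        Phi2 R Q₁.C M ((MonoidAlgebra.mapAlgHom M f₁.φ).comp θ)
      rw [← e7, ← e8]
      exact hf₁
    rw [this]
  · have e5 := Psi1_nat R M f₂.φ ((f₁.cmap M).comp θ)
    have e6 := Psi2_nat R f₂.φ (A := A)
    show Psi1 R Q₂.C M ((MonoidAlgebra.mapAlgHom M f₂.φ).comp ((f₁.cmap M).comp θ)) = _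
    rw [← e5, ← e6]
    exact hf₂

end Groth.Agent.Helper2.QIso
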