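import Mathlib
import Groth.Agent.Helper2.QIso7

set_option autoImplicit false
universe u
open TensorProduct

namespace Groth.Agent.Helper2.QIso
open Groth.Agent.Helper1.Hens
open Groth.Agent.Helper2.MultTypeSemi Groth.Agent.Helper2.SemiIso Groth.Agent.Helper2.NilSplit
  Groth.Agent.Helper2.NilLift

variable {R : Type u} [CommRing R] {Ω : Type u} [Field Ω] [Algebra R Ω]
variable (A : Type u) [CommRing A] [Bialgebra R A] [Algebra.FinitePresentation R A]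
variable (M : Type u) [CommMonoid M] [Algebra.FinitePresentation R (MonoidAlgebra R M)]

variable {A M} in
lemma cι_push {P Q : Stage R Ω} (f : P.Hom Q) (θ : A →ₐ[R] MonoidAlgebra P.C M) :
    (Q.cι M).comp ((f.cmap M).comp θ) = (P.cι M).comp θ := by
  apply AlgHom.ext
  intro a
  exact f.cι_cmap M (θ a)

variable {A} in
lemma tι_push {B₁ : Type u} [CommRing B₁] [Algebra R B₁] {P Q : Stage R Ω} (f : P.Hom Q)
    (p : B₁ →ₐ[R] P.C ⊗[R] A) :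
    (Q.tι A).comp ((f.tmap A).comp p) = (P.tι A).comp p := by
  apply AlgHom.ext
  intro a
  exact f.tι_tmap (p a)

/-- a chart over the limit descends to a stage -/
theorem exists_stage_chart (Θ : A →ₐ[R] MonoidAlgebra (Hens R Ω) M)
    (hΘ : IsSemiIso R (Hens R Ω) Θ) :
    ∃ (Q : Stage R Ω) (θ : A →ₐ[R] MonoidAlgebra Q.C M), IsSemiIso R Q.C θ := by
  -- step 1
  obtain ⟨Q₁, -, θ₁, h₁⟩ := (Sys.coef R Ω M).exists_factor A (Stage.base R Ω) Θ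
  replace h₁ : (Q₁.cι M).comp θ₁ = Θ := h₁
  -- step 2
  obtain ⟨Q₂, f₂, hsc₂⟩ := exists_isSemiCoalg A M Q₁ θ₁ (by rw [h₁]; exact hΘ.1)
  set θ₂ := (f₂.cmap M).comp θ₁ with hθ₂
  have h₂ : (Q₂.cι M).comp θ₂ = Θ := by rw [hθ₂, cι_push, h₁]
  -- step 3
  let E : Hens R Ω ⊗[R] A ≃ₐ[Hens R Ω] MonoidAlgebra (Hens R Ω) M :=
    AlgEquiv.ofBijective (liftMap R (Hens R Ω) Θ) (liftMap_bijective hΘ)
  have hE : ∀ x, E x = liftMap R (Hens R Ω) Θ x := fun _ => rfl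
  let pS : MonoidAlgebra R M →ₐ[R] Hens R Ω ⊗[R] A :=
    ((E.symm : MonoidAlgebra (Hens R Ω) M →ₐ[Hens R Ω] Hens R Ω ⊗[R] A).restrictScalars R).comp
      (rho R (Hens R Ω) M)
  have hpS : ∀ y, pS y = E.symm (rho R (Hens R Ω) M y) := fun _ => rfl
  obtain ⟨Q₃, f₃, p₃, hp₃⟩ := (Sys.tens R Ω A).exists_factor (MonoidAlgebra R M) Q₂ pS
  replace hp₃ : (Q₃.tι A).comp p₃ = pS := hp₃
  set θ₃ := (f₃.cmap M).comp θ₂ with hθ₃
  have h₃ : (Q₃.cι M).comp θ₃ = Θ := by rw [hθ₃, cι_push, h₂]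
  have hsc₃ : IsSemiCoalg R Q₃.C θ₃ := isSemiCoalg_push f₃ hsc₂
  -- step 4
  obtain ⟨Q₄, f₄, h₄'⟩ := (Sys.coef R Ω M).exists_eq (MonoidAlgebra R M) Q₃
    (((liftMap R Q₃.C θ₃).restrictScalars R).comp p₃) (rho R Q₃.C M) (by
      apply AlgHom.ext
      intro y
      show MonoidAlgebra.mapAlgHom M Q₃.ι (liftMap R Q₃.C θ₃ (p₃ y)) =
        MonoidAlgebra.mapAlgHom M Q₃.ι (rho R Q₃.C M y)
      rw [liftMap_nat R M Q₃.ι θ₃ (p₃ y), mapAlgHom_rho]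
      have e1 : (MonoidAlgebra.mapAlgHom M Q₃.ι).comp θ₃ = Θ := h₃
      have e2 : Algebra.TensorProduct.map Q₃.ι (AlgHom.id R A) (p₃ y) = pS y := congr($hp₃ y)
      rw [e1, e2, hpS, ← hE, E.apply_symm_apply])
  replace h₄' : ∀ y, f₄.cmap M (liftMap R Q₃.C θ₃ (p₃ y)) = f₄.cmap M (rho R Q₃.C M y) :=
    fun y => congr($h₄' y)
  set θ₄ := (f₄.cmap M).comp θ₃ with hθ₄
  set p₄ := (f₄.tmap A).comp p₃ with hp₄d
  have h₄ : (Q₄.cι M).comp θ₄ = Θ := by rw [hθ₄, cι_push, h₃]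
  have hp₄ : (Q₄.tι A).comp p₄ = pS := by rw [hp₄d, tι_push, hp₃]
  have hsc₄ : IsSemiCoalg R Q₄.C θ₄ := isSemiCoalg_push f₄ hsc₃
  have hα₄ : ∀ y, liftMap R Q₄.C θ₄ (p₄ y) = rho R Q₄.C M y := by
    intro y
    have := liftMap_nat R M f₄.φ θ₃ (p₃ y)
    show liftMap R Q₄.C ((MonoidAlgebra.mapAlgHom M f₄.φ).comp θ₃)
      (Algebra.TensorProduct.map f₄.φ (AlgHom.id R A) (p₃ y)) = _
    rw [← this]
    have h5 := h₄' y
    show f₄.cmap M (liftMap R Q₃.C θ₃ (p₃ y)) = _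
    rw [h5]
    exact mapAlgHom_rho R M f₄.φ y
  -- step 5
  have hextS : ∀ z, extP R M pS z = E.symm z := by
    intro z
    induction z using MonoidAlgebra.induction_linear with
    | zero => simp
    | add f g hf hg => simp only [map_add, hf, hg]
    | single m s =>
      rw [extP_single, hpS, rho_single, map_one, ← map_smul]
      congr 1
      simp
  obtain ⟨Q₅, f₅, h₅'⟩ := (Sys.tens R Ω A).exists_eq A Q₄
    (((extP R M p₄).restrictScalars R).comp θ₄) Algebra.TensorProduct.includeRight (by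
      apply AlgHom.ext
      intro a
      show Algebra.TensorProduct.map Q₄.ι (AlgHom.id R A) (extP R M p₄ (θ₄ a)) =
        Algebra.TensorProduct.map Q₄.ι (AlgHom.id R A) (1 ⊗ₜ a)
      rw [extP_nat R M Q₄.ι p₄ (θ₄ a)]
      have e1 : (Algebra.TensorProduct.map Q₄.ι (AlgHom.id R A)).comp p₄ = pS := hp₄
      have e2 : MonoidAlgebra.mapAlgHom M Q₄.ι (θ₄ a) = Θ a := congr($h₄ a)
      rw [e1, e2, hextS, AlgEquiv.symm_apply_eq, hE]
      simp)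
  replace h₅' : ∀ a, f₅.tmap A (extP R M p₄ (θ₄ a)) = f₅.tmap A (1 ⊗ₜ a) := fun a => congr($h₅' a)
  set θ₅ := (f₅.cmap M).comp θ₄ with hθ₅
  set p₅ := (f₅.tmap A).comp p₄ with hp₅d
  have hsc₅ : IsSemiCoalg R Q₅.C θ₅ := isSemiCoalg_push f₅ hsc₄
  refine ⟨Q₅, θ₅, isSemiIso_of_inverse R M θ₅ hsc₅ p₅ ?_ ?_⟩
  · intro y
    have := liftMap_nat R M f₅.φ θ₄ (p₄ y)
    show liftMap R Q₅.C ((MonoidAlgebra.mapAlgHom M f₅.φ).comp θ₄)
      (Algebra.TensorProduct.map f₅.φ (AlgHom.id R A) (p₄ y)) = _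
    rw [← this, hα₄ y]
    exact mapAlgHom_rho R M f₅.φ y
  · intro a
    have := extP_nat R M f₅.φ p₄ (θ₄ a)
    show extP R M ((Algebra.TensorProduct.map f₅.φ (AlgHom.id R A)).comp p₄)
      (MonoidAlgebra.mapAlgHom M f₅.φ (θ₄ a)) = _
    rw [← this]
    have h6 := h₅' a
    show f₅.tmap A (extP R M p₄ (θ₄ a)) = _
    rw [h6]
    simp

end Groth.Agent.Helper2.QIso
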