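import Mathlib
import Groth.Agent.Helper1.HensProps

set_option autoImplicit false
universe u
open TensorProduct Polynomial

namespace Groth.Agent.Helper2.QIso
open Groth.Agent.Helper1.Hens

section surj

theorem gamma_surjective (R : Type u) [CommRing R] (𝔭 : Ideal R) [𝔭.IsPrime] (K : Type u) [Field K]
    [Algebra 𝔭.ResidueField K] [Algebra R K] [IsScalarTower R 𝔭.ResidueField K]
    [Algebra.IsSeparable 𝔭.ResidueField K] :
    Function.Surjective (Hens.γ : Hens R K →ₐ[R] K) := by
  intro ω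
  let k := 𝔭.ResidueField
  have hint : IsIntegral k ω := Algebra.IsSeparable.isIntegral k ω
  set f : k[X] := minpoly k ω with hf
  have hfm : f.Monic := minpoly.monic hint
  let d := IsLocalization.commonDenom (nonZeroDivisors (R ⧸ 𝔭)) f.support f.coeff
  have hl : f.scaleRoots (algebraMap (R ⧸ 𝔭) k d) ∈ Polynomial.lifts (algebraMap (R ⧸ 𝔭) k) :=
    IsLocalization.scaleRoots_commonDenom_mem_lifts (nonZeroDivisors (R ⧸ 𝔭)) f (by
      rw [hfm.leadingCoeff]; exact ⟨1, map_one _⟩)
  obtain ⟨b, hb⟩ := Ideal.Quotient.mk_surjective (d : R ⧸ 𝔭)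
  set δ : k := algebraMap R k b with hδ
  have hδd : algebraMap (R ⧸ 𝔭) k d = δ := by
    rw [← hb, hδ]
    exact (IsScalarTower.algebraMap_apply R (R ⧸ 𝔭) k b).symm
  have hδ0 : δ ≠ 0 := by
    rw [← hδd]
    intro h0
    have hinj : Function.Injective (algebraMap (R ⧸ 𝔭) k) := IsFractionRing.injective _ _
    have : (d : R ⧸ 𝔭) = 0 := hinj (by rw [h0, map_zero])
    exact nonZeroDivisors.coe_ne_zero d this
  rw [hδd] at hl
  set g : k[X] := f.scaleRoots δ with hg
  have hgm : g.Monic := (monic_scaleRoots_iff δ).mpr hfm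
  have hl' : g ∈ Polynomial.lifts (algebraMap R k) := by
    obtain ⟨G₁, hG₁⟩ := (Polynomial.mem_lifts _).mp hl
    obtain ⟨G₀, rfl⟩ := Polynomial.map_surjective _ Ideal.Quotient.mk_surjective G₁
    rw [Polynomial.mem_lifts]
    refine ⟨G₀, ?_⟩
    rw [← hG₁, Polynomial.map_map]
    have : (algebraMap (R ⧸ 𝔭) k).comp (Ideal.Quotient.mk 𝔭) = algebraMap R k :=
      (IsScalarTower.algebraMap_eq R (R ⧸ 𝔭) k).symm
    rw [this]
  obtain ⟨F, hF, -, hFm⟩ := Polynomial.lifts_and_degree_eq_and_monic hl' hgm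
  set ω' : K := algebraMap k K δ * ω with hω'
  have hroot : aeval ω' g = 0 := scaleRoots_aeval_eq_zero (minpoly.aeval k ω)
  -- g is the minimal polynomial of ω'
  have hint' : IsIntegral k ω' := Algebra.IsSeparable.isIntegral k ω'
  set h : k[X] := minpoly k ω' with hh
  have hhm : h.Monic := minpoly.monic hint'
  have hdvd : h ∣ g := minpoly.dvd k ω' hroot
  have hdeg : g.natDegree ≤ h.natDegree := by
    rw [hg, natDegree_scaleRoots]
    have h1 : (h.scaleRoots δ⁻¹).Monic := (monic_scaleRoots_iff δ⁻¹).mpr hhm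
    have h2 : aeval ω (h.scaleRoots δ⁻¹) = 0 := by
      have := scaleRoots_aeval_eq_zero (r := δ⁻¹) (minpoly.aeval k ω')
      rw [hω', ← mul_assoc, ← map_mul, inv_mul_cancel₀ hδ0, map_one, one_mul] at this
      exact this
    have h3 := minpoly.min k ω h1 h2
    rw [degree_scaleRoots] at h3
    exact natDegree_le_natDegree h3
  have hgh : g = h := Polynomial.eq_of_monic_of_dvd_of_natDegree_le hhm hgm hdvd hdeg
  have hsep : g.Separable := by
    rw [hgh]
    exact Algebra.IsSeparable.isSeparable k ω'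
  have hder : aeval ω' (derivative g) ≠ 0 := hsep.aeval_derivative_ne_zero hroot
  have e1 : ∀ q : R[X], aeval ω' q = aeval ω' (q.map (algebraMap R k)) := fun q =>
    (Polynomial.aeval_map_algebraMap (A := k) ω' q).symm
  have h0 : aeval ω' F = 0 := by rw [e1, hF]; exact hroot
  have h1 : aeval ω' (derivative F) ≠ 0 := by
    rw [e1, ← Polynomial.derivative_map, hF]; exact hder
  obtain ⟨s', hs'⟩ := Hens.exists_γ_eq ω' F hFm h0 h1
  have hbK : algebraMap R K b = algebraMap k K δ := IsScalarTower.algebraMap_apply R k K b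
  have hne : Hens.γ (algebraMap R (Hens R K) b) ≠ 0 := by
    rw [Hens.γ_algebraMap, hbK]
    exact (_root_.map_ne_zero _).mpr hδ0
  obtain ⟨u, hu⟩ := (Hens.isUnit_iff _).mpr hne
  refine ⟨s' * ↑u⁻¹, ?_⟩
  have h2 : Hens.γ (↑u⁻¹ : Hens R K) * algebraMap k K δ = 1 := by
    rw [← hbK, ← Hens.γ_algebraMap, ← hu, ← map_mul, Units.inv_mul, map_one]
  rw [map_mul, hs', hω', mul_comm (algebraMap k K δ) ω, mul_assoc, mul_comm (algebraMap k K δ), h2,
    mul_one]

end surj

end Groth.Agent.Helper2.QIso
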