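import Mathlib
import Groth.Prelude.Def_SGA3b
import Groth.Agent.Helper2.QIso8
import Groth.Agent.Helper2.QIso9
import Groth.Agent.Helper2.QIso10
import Groth.Agent.Helper2.HopfTors6
import Groth.Agent.Helper2.HopfTors3
import Groth.Agent.Helper2.GLSep3

set_option autoImplicit false
universe u
open TensorProduct IsLocalRing

namespace Groth.Agent.Helper2.QIso
open Groth.Agent.Helper1.Hens
open Groth.Agent.Helper2.MultTypeSemi Groth.Agent.Helper2.SemiIso Groth.Agent.Helper2.NilSplit
  Groth.Agent.Helper2.NilLift Groth.Agent.Helper2.TorsDens Groth.Agent.Helper2.HopfTors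
  Groth.Agent.Helper2.MultTypeChart Groth.Agent.Helper2.DefApp

section bc
variable (R : Type u) [CommRing R] (A : Type u) [CommRing A] [HopfAlgebra R A]
variable (R' : Type u) [CommRing R'] [Algebra R R'] [Module.FaithfullyFlat R R']
variable (N : Type u) [CommGroup N] (χ : A →ₐ[R] MonoidAlgebra R' N) (hχ : IsSemiIso R R' χ)
variable (T : Type u) [CommRing T] [Algebra R T]

include hχ in
attribute [local instance] Algebra.TensorProduct.rightAlgebra in
/-- a Hopf algebra with a global faithfully flat chart stays of multiplicative type after any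
base change -/
theorem isMultType_baseChange_of_chart : SGA3b.IsMultType T (T ⊗[R] A) := by
  let T' := T ⊗[R] R'
  let θ₂ : A →ₐ[R] MonoidAlgebra T' N := ((rho R' T' N).restrictScalars R).comp χ
  have hθ₂ : IsSemiIso R T' θ₂ := isSemiIso_rho_comp (T₂ := T') hχ
  have hχ' : IsSemiIso T T' (liftMap R T θ₂) := hθ₂.lift R T T'
  exact isMultType_of_chart T (T ⊗[R] A) T' N (liftMap R T θ₂) hχ'

end bc

end Groth.Agent.Helper2.QIso
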