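import Mathlib
import Groth.Prelude.Def_SGA3b
import Groth.Agent.Helper2.QIso11

set_option autoImplicit false
universe u
open TensorProduct IsLocalRing

namespace Groth.Agent.Helper2.QIso
open Groth.Agent.Helper1.Hens
open Groth.Agent.Helper2.MultTypeSemi Groth.Agent.Helper2.SemiIso Groth.Agent.Helper2.NilSplit
  Groth.Agent.Helper2.NilLift Groth.Agent.Helper2.TorsDens Groth.Agent.Helper2.HopfTors
  Groth.Agent.Helper2.MultTypeChart Groth.Agent.Helper2.DefApp

section core
variable (R : Type u) [CommRing R] (A : Type u) [CommRing A] [HopfAlgebra R A]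
variable (R' : Type u) [CommRing R'] [Algebra R R'] [Module.FaithfullyFlat R R']
variable (N : Type u) [CommGroup N] (χ : A →ₐ[R] MonoidAlgebra R' N) (hχ : IsSemiIso R R' χ)

include hχ in
/-- around every prime, a group of multiplicative type and of finite type with a global chart
is split by a pointed étale algebra -/
theorem exists_etale_chart (hft : Algebra.FiniteType R A) (𝔭 : Ideal R) [𝔭.IsPrime] :
    ∃ (C : Type u) (_ : CommRing C) (_ : Algebra R C) (_ : Algebra.Etale R C) (𝔮 : Ideal C)
      (_ : 𝔮.IsPrime) (M : Type u) (_ : CommGroup M) (θ : A →ₐ[R] MonoidAlgebra C M),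
      𝔮.comap (algebraMap R C) = 𝔭 ∧ IsSemiIso R C θ := by
  haveI := hft
  haveI : Nontrivial R := ⟨⟨0, 1, fun h => (Ideal.IsPrime.ne_top ‹_›)
    ((Ideal.eq_top_iff_one 𝔭).mpr (h ▸ 𝔭.zero_mem))⟩⟩
  haveI : Nontrivial R' := (FaithfulSMul.algebraMap_injective R R').nontrivial
  haveI hfp : Algebra.FinitePresentation R A := finitePresentation_of_chart R A hft R' N χ hχ
  let k := 𝔭.ResidueField
  have hk : SGA3b.IsMultType k (k ⊗[R] A) := isMultType_baseChange_of_chart R A R' N χ hχ k
  have hftk : Algebra.FiniteType k (k ⊗[R] A) := inferInstance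
  obtain ⟨K, _, _, hfin, hsep, M₀, _, hfg, ⟨e₀⟩⟩ :=
    Groth.Agent.Helper2.GLSep.s2969 k (k ⊗[R] A) hftk hk
  letI : Algebra R K := ((algebraMap k K).comp (algebraMap R k)).toAlgebra
  haveI : IsScalarTower R k K := IsScalarTower.of_algebraMap_eq (fun _ => rfl)
  have hγ : Function.Surjective (Hens.γ : Hens R K →ₐ[R] K) := gamma_surjective R 𝔭 K
  -- chart over K
  let θK : A →ₐ[R] MonoidAlgebra K M₀ := chart R A k K M₀ e₀
  have hθK : IsSemiIso R K θK := chart_isSemiIso R A k K M₀ e₀
  -- the residue field of the henselisation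
  let S := Hens R K
  haveI : IsLocalHom (Hens.γ : S →ₐ[R] K).toRingHom := by
    constructor
    intro z hz
    rw [Hens.isUnit_iff]
    exact hz.ne_zero
  let τ : ResidueField S →+* K := IsLocalRing.ResidueField.lift (Hens.γ : S →ₐ[R] K).toRingHom
  have hτ : ∀ z : S, τ (residue S z) = Hens.γ z := fun z =>
    IsLocalRing.ResidueField.lift_residue_apply (Hens.γ : S →ₐ[R] K).toRingHom z
  have hτb : Function.Bijective τ := ⟨RingHom.injective _, fun ω => by
    obtain ⟨z, rfl⟩ := hγ ω
    exact ⟨residue S z, hτ z⟩⟩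
  let σ : K ≃+* ResidueField S := (RingEquiv.ofBijective τ hτb).symm
  have hσ : ∀ z : S, σ (Hens.γ z) = residue S z := by
    intro z
    rw [RingEquiv.symm_apply_eq]
    exact (hτ z).symm
  letI : Algebra K (ResidueField S) := σ.toRingHom.toAlgebra
  haveI : IsScalarTower R K (ResidueField S) := IsScalarTower.of_algebraMap_eq (fun r => by
    show algebraMap R (ResidueField S) r = σ (algebraMap R K r)
    have h1 : algebraMap R K r = Hens.γ (algebraMap R S r) := (Hens.γ_algebraMap (Ω := K) r).symm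
    rw [h1, hσ]
    rfl)
  let θκ : A →ₐ[R] MonoidAlgebra (ResidueField S) M₀ :=
    ((rho K (ResidueField S) M₀).restrictScalars R).comp θK
  have hθκ : IsSemiIso R (ResidueField S) θκ := isSemiIso_rho_comp (T₂ := ResidueField S) hθK
  have hθcl : IsSemiIso S (ResidueField S) (liftMap R S θκ) := hθκ.lift R S (ResidueField S)
  have hS : SGA3b.IsMultType S (S ⊗[R] A) := isMultType_baseChange_of_chart R A R' N χ hχ S
  have hftS : Algebra.FiniteType S (S ⊗[R] A) := inferInstance
  obtain ⟨M₁, _, ⟨E⟩⟩ := isDiag_of_closed_fibre S (S ⊗[R] A) M₀ hftS hS (liftMap R S θκ) hθcl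
  -- the chart over the henselisation
  let Θ : A →ₐ[R] MonoidAlgebra S M₁ :=
    ((E.toBialgHom : S ⊗[R] A →ₐ[S] MonoidAlgebra S M₁).restrictScalars R).comp
      (Algebra.TensorProduct.includeRight : A →ₐ[R] S ⊗[R] A)
  have hΘ : IsSemiIso R S Θ :=
    (isSemiIso_includeRight R S A).comp R S S (isSemiIso_bialgEquiv S E)
  haveI : Group.FG M₁ := group_fg_of_chart hft hΘ
  haveI : Algebra.FinitePresentation R (MonoidAlgebra R M₁) := finitePresentation_groupAlgebra R M₁
  obtain ⟨Q, θ, hθ⟩ := exists_stage_chart A M₁ Θ hΘ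
  refine ⟨Q.C, inferInstance, inferInstance, inferInstance, RingHom.ker Q.γ,
    RingHom.ker_isPrime _, M₁, inferInstance, θ, ?_, hθ⟩
  ext x
  rw [Ideal.mem_comap, RingHom.mem_ker, AlgHom.commutes]
  show algebraMap k K (algebraMap R k x) = 0 ↔ _
  rw [map_eq_zero, Ideal.algebraMap_residueField_eq_zero]

end core

end Groth.Agent.Helper2.QIso
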