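import Mathlib
import Groth.Prelude.Def_SGA3b
import Groth.Agent.Helper2.QIso12

set_option autoImplicit false
universe u
open TensorProduct IsLocalRing

namespace Groth.Agent.Helper2.QIso
open Groth.Agent.Helper2.MultTypeSemi Groth.Agent.Helper2.SemiIso Groth.Agent.Helper2.NilSplit
  Groth.Agent.Helper2.NilLift

section gen
variable (R : Type u) [CommRing R] (A : Type u) [CommRing A] [HopfAlgebra R A]

/-- around every prime, a group of multiplicative type and of finite type is split by a pointed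
étale algebra -/
theorem exists_etale_chart_of_isMultType (hft : Algebra.FiniteType R A)
    (h : SGA3b.IsMultType R A) (𝔭 : Ideal R) [𝔭.IsPrime] :
    ∃ (C : Type u) (_ : CommRing C) (_ : Algebra R C) (_ : Algebra.Etale R C) (𝔮 : Ideal C)
      (_ : 𝔮.IsPrime) (M : Type u) (_ : CommGroup M) (θ : A →ₐ[R] MonoidAlgebra C M),
      𝔮.comap (algebraMap R C) = 𝔭 ∧ IsSemiIso R C θ := by
  haveI := hft
  obtain ⟨s, hs, hf⟩ := h
  obtain ⟨f, hfs, hf𝔭⟩ : ∃ f ∈ s, f ∉ 𝔭 := by
    by_contra hcon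
    push Not at hcon
    have : Ideal.span s ≤ 𝔭 := Ideal.span_le.mpr hcon
    rw [hs] at this
    exact (Ideal.IsPrime.ne_top ‹_›) (top_le_iff.mp this)
  let L := Localization.Away f
  obtain ⟨R', _, _, hff, N, _, ⟨e⟩⟩ := hf f hfs
  haveI := hff
  let χ : L ⊗[R] A →ₐ[L] MonoidAlgebra R' N :=
    ((e.toBialgHom : R' ⊗[L] (L ⊗[R] A) →ₐ[R'] MonoidAlgebra R' N).restrictScalars L).comp
      (Algebra.TensorProduct.includeRight : L ⊗[R] A →ₐ[L] R' ⊗[L] (L ⊗[R] A))
  have hχ : IsSemiIso L R' χ :=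
    (isSemiIso_includeRight L R' (L ⊗[R] A)).comp L R' R' (isSemiIso_bialgEquiv R' e)
  have hdisj : Disjoint (Submonoid.powers f : Set R) (𝔭 : Set R) :=
    (Ideal.disjoint_powers_iff_notMem_of_isPrime f).mpr hf𝔭
  let 𝔭L : Ideal L := 𝔭.map (algebraMap R L)
  haveI : 𝔭L.IsPrime := IsLocalization.isPrime_of_isPrime_disjoint (Submonoid.powers f) L 𝔭 ‹_› hdisj
  have h𝔭L : 𝔭L.comap (algebraMap R L) = 𝔭 :=
    IsLocalization.comap_map_of_isPrime_disjoint (Submonoid.powers f) L ‹_› hdisj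
  have hftL : Algebra.FiniteType L (L ⊗[R] A) := inferInstance
  obtain ⟨C, _, _, het, 𝔮, h𝔮, M, _, θ, hcomap, hθ⟩ :=
    exists_etale_chart L (L ⊗[R] A) R' N χ hχ hftL 𝔭L
  letI : Algebra R C := ((algebraMap L C).comp (algebraMap R L)).toAlgebra
  haveI : IsScalarTower R L C := IsScalarTower.of_algebraMap_eq (fun _ => rfl)
  haveI : Algebra.Etale R L := Algebra.Etale.of_isLocalizationAway f
  haveI : Algebra.Etale R C := Algebra.Etale.comp R L C
  refine ⟨C, inferInstance, inferInstance, inferInstance, 𝔮, h𝔮, M, inferInstance,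
    (θ.restrictScalars R).comp (Algebra.TensorProduct.includeRight : A →ₐ[R] L ⊗[R] A), ?_, ?_⟩
  · rw [IsScalarTower.algebraMap_eq R L C, ← Ideal.comap_comap, hcomap, h𝔭L]
  · exact (isSemiIso_includeRight R L A).comp R L C hθ

end gen

end Groth.Agent.Helper2.QIso
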