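import Mathlib

set_option autoImplicit false
universe u
open TensorProduct

namespace Groth.Agent.Helper2.QIso

section ff
variable (R : Type*) [CommRing R] (C : Type*) [CommRing C] [Algebra R C] [Module.Flat R C]

attribute [local instance] Algebra.TensorProduct.rightAlgebra in
/-- the base change of a flat algebra to a basic open contained in its image is faithfully flat -/
theorem faithfullyFlat_away_tensor (f : R)
    (hU : (PrimeSpectrum.basicOpen f : Set (PrimeSpectrum R)) ⊆
      Set.range (PrimeSpectrum.comap (algebraMap R C))) :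
    Module.FaithfullyFlat (Localization.Away f) (Localization.Away f ⊗[R] C) := by
  let L := Localization.Away f
  let T := L ⊗[R] C
  apply Module.FaithfullyFlat.of_comap_surjective
  intro P
  let P₀ : PrimeSpectrum R := PrimeSpectrum.comap (algebraMap R L) P
  have hfP : f ∉ P₀.asIdeal := by
    intro hf
    have h1 : algebraMap R L f ∈ P.asIdeal := hf
    have hu : IsUnit (algebraMap R L f) := IsLocalization.Away.algebraMap_isUnit f
    exact P.isPrime.ne_top (Ideal.eq_top_of_isUnit_mem _ h1 hu)
  obtain ⟨𝔮', h𝔮'⟩ := hU (show P₀ ∈ (PrimeSpectrum.basicOpen f : Set (PrimeSpectrum R)) from hfP)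
  have hfq : algebraMap R C f ∉ 𝔮'.asIdeal := by
    intro hmem
    apply hfP
    rw [← h𝔮']
    exact hmem
  haveI : IsLocalization.Away (algebraMap R C f) T := inferInstance
  have hdisj : Disjoint (Submonoid.powers (algebraMap R C f) : Set C) (𝔮'.asIdeal : Set C) :=
    (Ideal.disjoint_powers_iff_notMem_of_isPrime _).mpr hfq
  have hprime : (𝔮'.asIdeal.map (algebraMap C T)).IsPrime :=
    IsLocalization.isPrime_of_isPrime_disjoint (Submonoid.powers (algebraMap R C f)) T _
      𝔮'.isPrime hdisj
  have hcm : (𝔮'.asIdeal.map (algebraMap C T)).comap (algebraMap C T) = 𝔮'.asIdeal :=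
    IsLocalization.comap_map_of_isPrime_disjoint (Submonoid.powers (algebraMap R C f)) T
      𝔮'.isPrime hdisj
  refine ⟨⟨_, hprime⟩, ?_⟩
  apply PrimeSpectrum.localization_comap_injective L (Submonoid.powers f)
  apply PrimeSpectrum.ext
  show ((𝔮'.asIdeal.map (algebraMap C T)).comap (algebraMap L T)).comap (algebraMap R L) =
    P₀.asIdeal
  rw [Ideal.comap_comap, ← IsScalarTower.algebraMap_eq R L T, IsScalarTower.algebraMap_eq R C T,
    ← Ideal.comap_comap, hcm, ← h𝔮']
  rfl

end ff

end Groth.Agent.Helper2.QIso
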