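import Mathlib
import Groth.Prelude.Def_SGA3b
import Groth.Agent.Helper2.QIso13
import Groth.Agent.Helper2.QIso14
import Groth.Agent.Helper2.TorsFin4

set_option autoImplicit false
universe u
open TensorProduct

namespace Groth.Agent.Helper2.QIso
open Groth.Agent.Helper2.MultTypeSemi Groth.Agent.Helper2.SemiIso Groth.Agent.Helper2.NilSplit
  Groth.Agent.Helper2.NilLift Groth.Agent.Helper2.TorsFin

section fin
variable (R : Type u) [CommRing R] (A : Type u) [CommRing A] [HopfAlgebra R A]

/-- an étale faithfully flat chart over a basic open gives quasi-isotriviality there -/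
theorem isQuasiIsotrivialConst_of_chart (f : R) {C : Type u} [CommRing C] [Algebra R C]
    {T : Type u} [CommRing T]
    [Algebra (Localization.Away f) T] [Algebra R T] [IsScalarTower R (Localization.Away f) T]
    [Algebra C T] [IsScalarTower R C T]
    [Module.FaithfullyFlat (Localization.Away f) T] [Algebra.Etale (Localization.Away f) T]
    {M : Type u} [CommGroup M] (θ : A →ₐ[R] MonoidAlgebra C M) (hθ : IsSemiIso R C θ) :
    SGA3b.IsQuasiIsotrivialConst (Localization.Away f) (Localization.Away f ⊗[R] A) := by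
  have hθ' : IsSemiIso R T (((rho C T M).restrictScalars R).comp θ) :=
    isSemiIso_rho_comp (T₂ := T) hθ
  have h1 := hθ'.lift R (Localization.Away f) T
  have h2 := h1.lift (Localization.Away f) T T
  exact ⟨T, inferInstance, inferInstance, inferInstance, inferInstance,
    isDiag_of_isSemiIso_self _ h2⟩

attribute [local instance] Algebra.TensorProduct.rightAlgebra in
theorem exists_quasiIsotrivialConst (hft : Algebra.FiniteType R A) (h : SGA3b.IsMultType R A)
    (𝔭 : Ideal R) [𝔭.IsPrime] :
    ∃ f : R, f ∉ 𝔭 ∧ SGA3b.IsQuasiIsotrivialConst (Localization.Away f)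
      (Localization.Away f ⊗[R] A) := by
  obtain ⟨C, _, _, het, 𝔮, h𝔮, M, _, θ, hcomap, hθ⟩ :=
    exists_etale_chart_of_isMultType R A hft h 𝔭
  haveI := het
  have hopen : IsOpen (Set.range (PrimeSpectrum.comap (algebraMap R C))) :=
    (PrimeSpectrum.isOpenMap_comap_of_hasGoingDown_of_finitePresentation (R := R) (S := C)).isOpen_range
  have hmem : (⟨𝔭, inferInstance⟩ : PrimeSpectrum R) ∈
      Set.range (PrimeSpectrum.comap (algebraMap R C)) :=
    ⟨⟨𝔮, h𝔮⟩, PrimeSpectrum.ext hcomap⟩
  obtain ⟨_, ⟨f, rfl⟩, hf𝔭, hfU⟩ :=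
    PrimeSpectrum.isTopologicalBasis_basic_opens.exists_subset_of_mem_open hmem hopen
  refine ⟨f, hf𝔭, ?_⟩
  haveI : Module.FaithfullyFlat (Localization.Away f) (Localization.Away f ⊗[R] C) :=
    faithfullyFlat_away_tensor R C f hfU
  exact isQuasiIsotrivialConst_of_chart R A f (T := Localization.Away f ⊗[R] C) θ hθ

theorem s2973 (hft : Algebra.FiniteType R A) (h : SGA3b.IsMultType R A) :
    SGA3b.IsQuasiIsotrivial R A := by
  refine ⟨{f | SGA3b.IsQuasiIsotrivialConst (Localization.Away f) (Localization.Away f ⊗[R] A)},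
    ?_, fun f hf => hf⟩
  by_contra hne
  obtain ⟨𝔪, h𝔪, hle⟩ := Ideal.exists_le_maximal _ hne
  haveI := h𝔪.isPrime
  obtain ⟨f, hf𝔪, hf⟩ := exists_quasiIsotrivialConst R A hft h 𝔪
  exact hf𝔪 (hle (Ideal.subset_span hf))

end fin

end Groth.Agent.Helper2.QIso
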