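import Mathlib
import Groth.Agent.Helper2.SemiIso
import Groth.Agent.Helper2.TorsFin2

/-!
# The chart of a quotient by a Hopf ideal, for general targets
-/

set_option autoImplicit false

namespace Groth.Agent.Helper2.QL
open TensorProduct Groth.Agent.Helper2.MultTypeSemi Groth.Agent.Helper2.SemiIso
  Groth.Agent.Helper2.TorsFin

section quotchart
variable {R : Type*} [CommRing R] {A : Type*} [CommRing A] [HopfAlgebra R A]
variable {T : Type*} [CommRing T] [Algebra R T]
variable {D Q : Type*} [CommRing D] [Bialgebra T D] [Algebra R D] [IsScalarTower R T D]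
  [CommRing Q] [Bialgebra T Q] [Algebra R Q] [IsScalarTower R T Q]
  {θ : A →ₐ[R] D} (π : D →ₐ[T] Q)
variable (J : Ideal A) [J.IsHopfIdeal R]

lemma liftMap_bijective' (hθ : IsSemiIso R T θ) : Function.Bijective (liftMap R T θ) := by
  have h : (liftMap R T θ).toLinearMap = LinearMap.liftBaseChange T θ.toLinearMap := by
    apply TensorProduct.AlgebraTensorModule.ext
    intro t h
    simp
  have h2 : ⇑(liftMap R T θ) = ⇑(LinearMap.liftBaseChange T θ.toLinearMap) := by
    rw [← h]; rfl
  rw [h2]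
  exact hθ.2

/-- the chart of a closed subgroup cut out, in a chart, by the kernel of a surjective
semilinear coalgebra map -/
theorem exists_quotChart' (hθ : IsSemiIso R T θ) (hπ : IsSemiCoalg T T π)
    (hsurj : Function.Surjective π)
    (hmap : Ideal.map (θ : A →+* D) J = RingHom.ker (π : D →+* Q)) :
    ∃ χ : (A ⧸ J) →ₐ[R] Q, IsSemiIso R T χ ∧ ∀ a, χ (Ideal.Quotient.mk J a) = π (θ a) := by
  let pre : A →ₐ[R] Q := (π.restrictScalars R).comp θ
  have hpre : IsSemiCoalg R T pre := hθ.1.comp R T T hπ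
  have hpre0 : ∀ a ∈ J, pre a = 0 := by
    intro a ha
    have h1 : (θ : A →+* D) a ∈ Ideal.map (θ : A →+* D) J := Ideal.mem_map_of_mem _ ha
    rw [hmap, RingHom.mem_ker] at h1
    exact h1
  let χ : (A ⧸ J) →ₐ[R] Q := Ideal.Quotient.liftₐ J pre hpre0
  have hχmk : ∀ a, χ (Ideal.Quotient.mk J a) = π (θ a) := fun a => rfl
  refine ⟨χ, ⟨isSemiCoalg_lift J hpre _, ?_⟩, hχmk⟩
  let Θ : T ⊗[R] A →ₐ[T] D := liftMap R T θ
  have hΘ : Function.Bijective Θ := liftMap_bijective' hθ
  let qq : T ⊗[R] A →ₐ[T] T ⊗[R] (A ⧸ J) :=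
    Algebra.TensorProduct.map (AlgHom.id T T) (Ideal.Quotient.mkₐ R J)
  have hq : Function.Surjective qq := by
    have : ⇑qq = ⇑(LinearMap.lTensor T (Ideal.Quotient.mkₐ R J).toLinearMap) := by
      ext z
      induction z using TensorProduct.induction_on with
      | zero => simp
      | add x y hx hy => simp only [map_add, hx, hy]
      | tmul t a => rfl
    rw [this]
    exact LinearMap.lTensor_surjective T (Ideal.Quotient.mkₐ_surjective R J)
  set X := LinearMap.liftBaseChange T χ.toLinearMap with hX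
  have hcomm : ∀ z, X (qq z) = π (Θ z) := by
    intro z
    induction z using TensorProduct.induction_on with
    | zero => simp
    | add x y hx hy => simp only [map_add, hx, hy]
    | tmul t a =>
      have h1 : qq (t ⊗ₜ[R] a) = t ⊗ₜ[R] (Ideal.Quotient.mk J a) := rfl
      rw [h1, hX, LinearMap.liftBaseChange_tmul, AlgHom.toLinearMap_apply, hχmk]
      show t • π (θ a) = π (liftMap R T θ (t ⊗ₜ[R] a))
      rw [liftMap_tmul, map_smul]
  constructor
  · rw [injective_iff_map_eq_zero]
    intro zb hzb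
    obtain ⟨z, rfl⟩ := hq zb
    rw [hcomm] at hzb
    have h1 : Θ z ∈ Ideal.map (θ : A →+* D) J := by
      rw [hmap, RingHom.mem_ker]
      exact hzb
    have h2 : (θ : A →+* D) = (Θ : T ⊗[R] A →+* D).comp
        (Algebra.TensorProduct.includeRight : A →ₐ[R] T ⊗[R] A) := by
      ext a
      simp [Θ]
    rw [h2, ← Ideal.map_map] at h1
    have h3 : z ∈ Ideal.map ((Algebra.TensorProduct.includeRight : A →ₐ[R] T ⊗[R] A) : A →+* _)
        J := by
      obtain ⟨w, hw, hwz⟩ := (Ideal.mem_map_iff_of_surjective _ hΘ.2).mp h1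
      rw [← hΘ.1 hwz]
      exact hw
    have h4 : Ideal.map ((Algebra.TensorProduct.includeRight : A →ₐ[R] T ⊗[R] A) : A →+* _)
        J ≤ RingHom.ker (qq : T ⊗[R] A →+* T ⊗[R] (A ⧸ J)) := by
      rw [Ideal.map_le_iff_le_comap]
      intro a ha
      rw [Ideal.mem_comap, RingHom.mem_ker]
      show qq ((1 : T) ⊗ₜ[R] a) = 0
      have : qq ((1 : T) ⊗ₜ[R] a) = (1 : T) ⊗ₜ[R] (Ideal.Quotient.mk J a) := rfl
      rw [this, Ideal.Quotient.eq_zero_iff_mem.mpr ha, TensorProduct.tmul_zero]
    exact h4 h3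
  · intro y
    obtain ⟨x, rfl⟩ := hsurj y
    obtain ⟨z, rfl⟩ := hΘ.2 x
    exact ⟨qq z, by rw [hcomm]⟩

end quotchart

end Groth.Agent.Helper2.QL
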