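import Mathlib
import Groth.Prelude.Def_SGA3b
import Groth.Agent.Helper2.QIso15
import Groth.Agent.Helper2.HDUniq
import Groth.Agent.Helper2.QLQuot

/-!
# From a jointly faithfully flat finite family of étale charts to quasi-isotriviality
-/

set_option autoImplicit false
set_option linter.style.haveILetI false

namespace Groth.Agent.Helper2.QL
open TensorProduct Groth.Agent.Helper2.MultTypeSemi Groth.Agent.Helper2.SemiIso
  Groth.Agent.Helper2.QIso Groth.Agent.Helper2.HD

universe u

section equiv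
variable {R : Type*} [CommRing R] {S : Type*} [CommRing S] [Algebra R S]
  {A : Type*} [CommRing A] [HopfAlgebra R A] {D : Type*} [CommRing D] [Bialgebra S D]
  [Algebra R D] [IsScalarTower R S D]

/-- the bialgebra isomorphism given by a semilinear isomorphism -/
noncomputable def bialgEquivOfSemiIso (χ : A →ₐ[R] D) (hχ : IsSemiIso R S χ) :
    S ⊗[R] A ≃ₐc[S] D :=
  BialgEquiv.ofBijective (bialgHomOfSemi' (liftMap R S χ) (isSemiCoalg_liftMap R S S hχ.1))
    (liftMap_bijective' hχ)

end equiv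

section charts
variable (R : Type u) [CommRing R] (A : Type u) [CommRing A] [HopfAlgebra R A]
variable {F : Type u} [Finite F] (B : F → Type u) [∀ f, CommRing (B f)] [∀ f, Algebra R (B f)]
  [∀ f, Algebra.Etale R (B f)] [Module.FaithfullyFlat R (∀ f, B f)]
  (M : F → Type u) [∀ f, CommGroup (M f)]

attribute [local instance] Algebra.TensorProduct.rightAlgebra in
theorem isQuasiIsotrivial_of_charts (χ : ∀ f, A →ₐ[R] MonoidAlgebra (B f) (M f))
    (hχ : ∀ f, IsSemiIso R (B f) (χ f)) : SGA3b.IsQuasiIsotrivial R A := by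
  refine ⟨{r | SGA3b.IsQuasiIsotrivialConst (Localization.Away r) (Localization.Away r ⊗[R] A)},
    ?_, fun r hr => hr⟩
  by_contra hne
  obtain ⟨𝔪, h𝔪, hle⟩ := Ideal.exists_le_maximal _ hne
  haveI := h𝔪.isPrime
  obtain ⟨𝔔, h𝔔⟩ := PrimeSpectrum.comap_surjective_of_faithfullyFlat (A := R) (B := ∀ f, B f)
    ⟨𝔪, inferInstance⟩
  obtain ⟨⟨f, 𝔮⟩, rfl⟩ := (PrimeSpectrum.sigmaToPi_bijective B).surjective 𝔔
  have hopen : IsOpen (Set.range (PrimeSpectrum.comap (algebraMap R (B f)))) :=
    (PrimeSpectrum.isOpenMap_comap_of_hasGoingDown_of_finitePresentation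
      (R := R) (S := B f)).isOpen_range
  have hmem : (⟨𝔪, inferInstance⟩ : PrimeSpectrum R) ∈
      Set.range (PrimeSpectrum.comap (algebraMap R (B f))) := by
    refine ⟨𝔮, ?_⟩
    rw [← h𝔔, PrimeSpectrum.sigmaToPi_apply]
    rfl
  obtain ⟨_, ⟨r, rfl⟩, hr𝔪, hrU⟩ :=
    PrimeSpectrum.isTopologicalBasis_basic_opens.exists_subset_of_mem_open hmem hopen
  haveI : Module.FaithfullyFlat (Localization.Away r) (Localization.Away r ⊗[R] B f) :=
    faithfullyFlat_away_tensor R (B f) r hrU
  have hr := isQuasiIsotrivialConst_of_chart R A r (T := Localization.Away r ⊗[R] B f)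
    (χ f) (hχ f)
  exact hr𝔪 (hle (Ideal.subset_span hr))

end charts

end Groth.Agent.Helper2.QL
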