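import Mathlib
import Groth.Prelude.Def_SGA3b
import Groth.Agent.Helper2.NilLift
import Groth.Agent.Helper2.QLLoc

/-!
# Lifting homomorphisms between diagonalisable groups along a nil thickening (local form)
-/

set_option autoImplicit false

namespace Groth.Agent.Helper2.HomLift
open TensorProduct Groth.Agent.Helper2.MultTypeSemi Groth.Agent.Helper2.SemiIso
  Groth.Agent.Helper2.GLike Groth.Agent.Helper2.DiagSpan Groth.Agent.Helper2.NilSplit
  Groth.Agent.Helper2.NilLift

section localU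
variable {R : Type*} [CommRing R] (K : Ideal R) (hK : ∀ x ∈ K, IsNilpotent x)
variable {T : Type*} [CommRing T] [Algebra R T]
variable {C B : Type*} [CommRing C] [Bialgebra R C] [CommRing B] [Bialgebra R B]
variable {N M : Type*} [CommMonoid N] [CommMonoid M]

/-- a `T`-algebra map out of `T ⊗ C` is determined by its values on the group-likes given by a chart -/
lemma liftMap_ext_of_chart {D : Type*} [CommRing D] [Algebra T D]
    {χC : C →ₐ[R] MonoidAlgebra T N} (hχC : IsSemiIso R T χC)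
    (L₁ L₂ : T ⊗[R] C →ₐ[T] D)
    (h : ∀ (n : N) (x : T ⊗[R] C), liftMap R T χC x = MonoidAlgebra.single n 1 → L₁ x = L₂ x) :
    L₁ = L₂ := by
  have hb := liftMap_bijective hχC
  let e : T ⊗[R] C ≃ₐ[T] MonoidAlgebra T N := AlgEquiv.ofBijective (liftMap R T χC) hb
  have h2 : L₁.comp (e.symm : MonoidAlgebra T N →ₐ[T] T ⊗[R] C) =
      L₂.comp (e.symm : MonoidAlgebra T N →ₐ[T] T ⊗[R] C) := by
    refine MonoidAlgebra.algHom_ext ?_ (Subsingleton.elim _ _)
    intro n
    simp only [AlgHom.comp_apply, AlgEquiv.coe_algHom]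
    apply h n
    exact e.apply_symm_apply _
  ext x
  have := congrArg (fun f => f (e x)) h2
  simpa using this

include hK in
theorem local_uniq {χC : C →ₐ[R] MonoidAlgebra T N} (hχC : IsSemiIso R T χC)
    {χB : B →ₐ[R] MonoidAlgebra T M} (hχB : IsSemiIso R T χB)
    (Ψ₁ Ψ₂ : C →ₐ[R] T ⊗[R] B) (h₁ : IsSemiCoalg R T Ψ₁) (h₂ : IsSemiCoalg R T Ψ₂)
    (h : ∀ c, Ψ₁ c - Ψ₂ c ∈ K • (⊤ : Submodule R (T ⊗[R] B))) : Ψ₁ = Ψ₂ := by
  have hU : LiftU R K T (T ⊗[R] B) := liftU_of_chart K hK hχB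
  have hL₁ : IsSemiCoalg T T (liftMap R T Ψ₁) := isSemiCoalg_liftMap R T T h₁
  have hL₂ : IsSemiCoalg T T (liftMap R T Ψ₂) := isSemiCoalg_liftMap R T T h₂
  have hlam : IsSemiCoalg T T (liftMap R T χC) := isSemiCoalg_liftMap R T T hχC.1
  have hb := liftMap_bijective hχC
  have hd : ∀ x : T ⊗[R] C, liftMap R T Ψ₁ x - liftMap R T Ψ₂ x ∈
      K • (⊤ : Submodule R (T ⊗[R] B)) := by
    intro x
    induction x using TensorProduct.induction_on with
    | zero => simp
    | add x y hx hy =>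
      have : liftMap R T Ψ₁ (x + y) - liftMap R T Ψ₂ (x + y) =
          (liftMap R T Ψ₁ x - liftMap R T Ψ₂ x) + (liftMap R T Ψ₁ y - liftMap R T Ψ₂ y) := by
        rw [map_add, map_add]; abel
      rw [this]
      exact add_mem hx hy
    | tmul t c =>
      rw [liftMap_tmul, liftMap_tmul, ← smul_sub]
      exact map_mem_smul_top K
        ((LinearMap.lsmul T (T ⊗[R] B) t : T ⊗[R] B →ₗ[T] T ⊗[R] B) : T ⊗[R] B →+ T ⊗[R] B)
        (fun b x => by
          show t • (b • x) = b • (t • x)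
          rw [smul_comm]) (h c)
  have hL : liftMap R T Ψ₁ = liftMap R T Ψ₂ := by
    apply liftMap_ext_of_chart hχC
    intro n x hx
    have hgx : IsGroupLikeElem T x := by
      apply isGroupLikeElem_of_map hlam hb
      rw [hx]
      exact MonoidAlgebra.isGroupLikeElem_single_one n
    exact hU _ _ (isGroupLikeElem_of_isSemiCoalg T T hL₁ hgx)
      (isGroupLikeElem_of_isSemiCoalg T T hL₂ hgx) (hd x)
  ext c
  have := congrArg (fun f => f ((1 : T) ⊗ₜ[R] c)) hL
  simpa using this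

end localU

section localE
variable {R : Type*} [CommRing R]
variable {T : Type*} [CommRing T] [Algebra R T]
variable {C : Type*} [CommRing C] [Bialgebra R C]
variable {N M : Type*} [CommMonoid N] [CommMonoid M]
variable {T' : Type*} [CommRing T'] [Algebra T T'] [Algebra R T'] [IsScalarTower R T T']

/-- lifting a semilinear coalgebra map into a group algebra along a nil thickening of the
coefficients, the source having a chart -/
theorem local_exists' (hsurj : Function.Surjective (algebraMap T T'))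
    (hnil : ∀ x ∈ RingHom.ker (algebraMap T T'), IsNilpotent x)
    {χC : C →ₐ[R] MonoidAlgebra T N} (hχC : IsSemiIso R T χC)
    (Ψb : C →ₐ[R] MonoidAlgebra T' M) (hΨb : IsSemiCoalg R T' Ψb) :
    ∃ Ψ : C →ₐ[R] MonoidAlgebra T M, IsSemiCoalg R T Ψ ∧ ∀ c, rho T T' M (Ψ c) = Ψb c := by
  -- the reduced chart
  set χb : C →ₐ[R] MonoidAlgebra T' N := ((rho T T' N).restrictScalars R).comp χC with hχb
  have hχbI : IsSemiIso R T' χb := isSemiIso_rho_comp (T₂ := T') hχC
  have hbb := liftMap_bijective hχbI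
  have hlamb : IsSemiCoalg T' T' (liftMap R T' χb) := isSemiCoalg_liftMap R T' T' hχbI.1
  have hLb : IsSemiCoalg T' T' (liftMap R T' Ψb) := isSemiCoalg_liftMap R T' T' hΨb
  let eb : T' ⊗[R] C ≃ₐ[T'] MonoidAlgebra T' N := AlgEquiv.ofBijective (liftMap R T' χb) hbb
  let Γb : MonoidAlgebra T' N →ₐ[T'] MonoidAlgebra T' M :=
    (liftMap R T' Ψb).comp (eb.symm : MonoidAlgebra T' N →ₐ[T'] T' ⊗[R] C)
  have hΓb : ∀ c, Γb (χb c) = Ψb c := by
    intro c
    have h1 : eb ((1 : T') ⊗ₜ[R] c) = χb c := by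
      show liftMap R T' χb ((1 : T') ⊗ₜ[R] c) = χb c
      rw [liftMap_tmul, one_smul]
    show liftMap R T' Ψb (eb.symm (χb c)) = Ψb c
    rw [← h1, AlgEquiv.symm_apply_apply, liftMap_tmul, one_smul]
  have hgb : ∀ n : N, IsGroupLikeElem T' (Γb (MonoidAlgebra.single n 1)) := by
    intro n
    show IsGroupLikeElem T' (liftMap R T' Ψb (eb.symm (MonoidAlgebra.single n 1)))
    apply isGroupLikeElem_of_isSemiCoalg T' T' hLb
    apply isGroupLikeElem_of_map hlamb hbb
    have h3 : liftMap R T' χb (eb.symm (MonoidAlgebra.single n 1)) = MonoidAlgebra.single n 1 :=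
      eb.apply_symm_apply _
    rw [h3]
    exact MonoidAlgebra.isGroupLikeElem_single_one n
  have hex : ∀ n : N, ∃ y : MonoidAlgebra T M, IsGroupLikeElem T y ∧
      rho T T' M y = Γb (MonoidAlgebra.single n 1) :=
    fun n => exists_lift_groupLike hsurj hnil (hgb n)
  choose g hg hgΓ using hex
  have hone : g 1 = 1 := by
    apply groupLike_eq_of_rho_eq hnil (hg 1) IsGroupLikeElem.one
    rw [hgΓ, map_one, ← MonoidAlgebra.one_def, map_one]
  have hmul : ∀ n n', g (n * n') = g n * g n' := by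
    intro n n'
    apply groupLike_eq_of_rho_eq hnil (hg _) ((hg n).mul (hg n'))
    rw [hgΓ, map_mul, hgΓ, hgΓ, ← map_mul, MonoidAlgebra.single_mul_single, mul_one]
  let Γ : MonoidAlgebra T N →ₐc[T] MonoidAlgebra T M := ofGL g hg hone hmul
  have hΓρ : ∀ y : MonoidAlgebra T N, rho T T' M (Γ y) = Γb (rho T T' N y) := by
    intro y
    induction y using MonoidAlgebra.induction_linear with
    | zero => simp
    | add f g hf hg => simp only [map_add, hf, hg]
    | single n r =>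
      have h1 : Γ (MonoidAlgebra.single n r) = r • g n := by simp [Γ]
      have h2 : (MonoidAlgebra.single n (algebraMap T T' r) : MonoidAlgebra T' N) =
          algebraMap T T' r • MonoidAlgebra.single n 1 := by
        rw [MonoidAlgebra.smul_single, smul_eq_mul, mul_one]
      rw [h1, rho_single, h2, map_smul Γb, ← hgΓ, map_smul, algebraMap_smul]
  refine ⟨((Γ : MonoidAlgebra T N →ₐ[T] MonoidAlgebra T M).restrictScalars R).comp χC,
    hχC.1.comp R T T (isSemiCoalg_bialgHom T Γ), fun c => ?_⟩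
  show rho T T' M (Γ (χC c)) = Ψb c
  rw [hΓρ, ← hΓb]
  rfl

end localE

section localE2
variable {R : Type*} [CommRing R]
variable {T : Type*} [CommRing T] [Algebra R T]
variable {C B : Type*} [CommRing C] [Bialgebra R C] [CommRing B] [HopfAlgebra R B]
variable {N M : Type*} [CommMonoid N] [CommMonoid M]
variable (Sb : Type*) [CommRing Sb] [Algebra R Sb]

lemma exists_tmul_eq_of_surjective (hsurj : Function.Surjective (algebraMap R Sb))
    {X : Type*} [AddCommGroup X] [Module R X] (y : Sb ⊗[R] X) : ∃ x : X, (1 : Sb) ⊗ₜ[R] x = y := by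
  induction y using TensorProduct.induction_on with
  | zero => exact ⟨0, by simp⟩
  | add x y hx hy =>
    obtain ⟨a, rfl⟩ := hx
    obtain ⟨b, rfl⟩ := hy
    exact ⟨a + b, by rw [tmul_add]⟩
  | tmul s x =>
    obtain ⟨r, rfl⟩ := hsurj s
    refine ⟨r • x, ?_⟩
    rw [TensorProduct.tmul_smul, TensorProduct.smul_tmul', Algebra.smul_def, mul_one]

attribute [local instance] Algebra.TensorProduct.rightAlgebra in
/-- lifting a semilinear coalgebra map `C → Sb ⊗ B` to `C → T ⊗ B` when `C` and `B` have charts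
over `T` -/
theorem local_exists (hsurj : Function.Surjective (algebraMap R Sb))
    (hnil : ∀ x ∈ RingHom.ker (algebraMap R Sb), IsNilpotent x)
    {χC : C →ₐ[R] MonoidAlgebra T N} (hχC : IsSemiIso R T χC)
    {χB : B →ₐ[R] MonoidAlgebra T M} (hχB : IsSemiIso R T χB)
    (Ψb : C →ₐ[R] Sb ⊗[R] B) (hΨb : IsSemiCoalg R Sb Ψb) :
    ∃ Ψ : C →ₐ[R] T ⊗[R] B, IsSemiCoalg R T Ψ ∧
      ∀ c b, (1 : Sb) ⊗ₜ[R] b = Ψb c →
        Ψ c - (1 : T) ⊗ₜ[R] b ∈ (RingHom.ker (algebraMap R Sb)) • (⊤ : Submodule R (T ⊗[R] B)) := by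
  set K := RingHom.ker (algebraMap R Sb) with hK
  -- the thickening `T → Sb ⊗ T`
  have hsurjT : Function.Surjective (algebraMap T (Sb ⊗[R] T)) := by
    intro y
    obtain ⟨t, rfl⟩ := exists_tmul_eq_of_surjective Sb hsurj y
    exact ⟨t, rfl⟩
  have hkerT : ∀ x ∈ RingHom.ker (algebraMap T (Sb ⊗[R] T)), x ∈ K • (⊤ : Submodule R T) := by
    intro x hx
    apply mem_smul_top_of_tmul_eq_zero R Sb hsurj
    exact hx
  have hnilT : ∀ x ∈ RingHom.ker (algebraMap T (Sb ⊗[R] T)), IsNilpotent x :=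
    fun x hx => isNilpotent_of_mem_smul_top K hnil (hkerT x hx)
  -- the reduced chart of `B`
  set χBb : B →ₐ[R] MonoidAlgebra (Sb ⊗[R] T) M :=
    ((rho T (Sb ⊗[R] T) M).restrictScalars R).comp χB with hχBb
  have hχBbI : IsSemiIso R (Sb ⊗[R] T) χBb := isSemiIso_rho_comp (T₂ := Sb ⊗[R] T) hχB
  have hβ : IsSemiCoalg Sb (Sb ⊗[R] T) (liftMap R Sb χBb) :=
    isSemiCoalg_liftMap R Sb (Sb ⊗[R] T) hχBbI.1
  set Ψb' : C →ₐ[R] MonoidAlgebra (Sb ⊗[R] T) M :=
    ((liftMap R Sb χBb).restrictScalars R).comp Ψb with hΨb'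
  have hΨb'S : IsSemiCoalg R (Sb ⊗[R] T) Ψb' := hΨb.comp R Sb (Sb ⊗[R] T) hβ
  obtain ⟨Ψ₀, hΨ₀, hred⟩ := local_exists' hsurjT hnilT hχC Ψb' hΨb'S
  -- back to `T ⊗ B`
  let E : T ⊗[R] B ≃ₐc[T] MonoidAlgebra T M := Groth.Agent.Helper2.QL.bialgEquivOfSemiIso χB hχB
  have hE : ∀ x, E x = liftMap R T χB x := fun x => rfl
  refine ⟨((E.symm.toBialgHom : MonoidAlgebra T M →ₐ[T] T ⊗[R] B).restrictScalars R).comp Ψ₀,
    hΨ₀.comp R T T (isSemiCoalg_bialgHom T E.symm.toBialgHom), fun c b hb => ?_⟩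
  show E.symm (Ψ₀ c) - (1 : T) ⊗ₜ[R] b ∈ K • (⊤ : Submodule R (T ⊗[R] B))
  have h1 : (1 : T) ⊗ₜ[R] b = E.symm (χB b) := by
    have h4 : E ((1 : T) ⊗ₜ[R] b) = χB b := by rw [hE, liftMap_tmul, one_smul]
    rw [← h4, BialgEquiv.symm_apply_apply]
  rw [h1, ← map_sub]
  have h0 : rho T (Sb ⊗[R] T) M (Ψ₀ c - χB b) = 0 := by
    rw [map_sub, hred, sub_eq_zero]
    show liftMap R Sb χBb (Ψb c) = χBb b
    rw [← hb, liftMap_tmul, one_smul]
  have h2 := (isSemiIso_rho T (Sb ⊗[R] T) M).mem_of_eq_zero T (Sb ⊗[R] T) hsurjT _ h0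
  have h3 : Ψ₀ c - χB b ∈ K • (⊤ : Submodule R (MonoidAlgebra T M)) := by
    refine mem_smul_top_of_mem_map_smul_top (T := T) (X := MonoidAlgebra T M) K
      (x := Ψ₀ c - χB b) ?_
    refine Submodule.smul_mono_left ?_ h2
    intro x hx
    have := hkerT x hx
    rw [Ideal.smul_top_eq_map] at this
    exact this
  exact map_mem_smul_top' K
    ((E.symm.toBialgHom : MonoidAlgebra T M →ₐ[T] T ⊗[R] B).toLinearMap.restrictScalars R) h3

end localE2

end Groth.Agent.Helper2.HomLift
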