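import Mathlib
import Groth.Prelude.Def_SGA3b
import Groth.Agent.Helper2.HomLiftA
import Groth.Agent.Helper2.FamDesc
import Groth.Agent.Helper7.MTAvgV

/-!
# Lifting homomorphisms of groups of multiplicative type along a nil thickening: descent
-/

set_option autoImplicit false

namespace Groth.Agent.Helper2.HomLift
open TensorProduct Groth.Agent.Helper2.MultTypeSemi Groth.Agent.Helper2.SemiIso
  Groth.Agent.Helper2.NilSplit Groth.Agent.Helper2.NilLift Groth.Agent.Helper7.MTAvg WithConv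

section bc
variable {k : Type*} [CommRing k] {T T₂ : Type*} [CommRing T] [CommRing T₂] [Algebra k T]
  [Algebra k T₂]
variable {C B : Type*} [CommRing C] [Bialgebra k C] [CommRing B] [Bialgebra k B]

/-- base change of a semilinear coalgebra map along a map of coefficient rings -/
lemma exists_semiCoalg_rTensor (Ψ : C →ₐ[k] T ⊗[k] B) (hΨ : IsSemiCoalg k T Ψ) (g : T →ₐ[k] T₂) :
    ∃ Ψ' : C →ₐ[k] T₂ ⊗[k] B, IsSemiCoalg k T₂ Ψ' ∧
      ∀ c, Ψ' c = g.toLinearMap.rTensor B (Ψ c) := by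
  letI : Algebra T T₂ := g.toRingHom.toAlgebra
  haveI : IsScalarTower k T T₂ := IsScalarTower.of_algebraMap_eq (fun r => (g.commutes r).symm)
  have h1 : IsSemiCoalg T T₂
      (liftMap k T (Algebra.TensorProduct.includeRight : B →ₐ[k] T₂ ⊗[k] B)) :=
    isSemiCoalg_liftMap k T T₂ (isSemiCoalg_includeRight k T₂ B)
  refine ⟨((liftMap k T (Algebra.TensorProduct.includeRight : B →ₐ[k] T₂ ⊗[k] B)).restrictScalars
    k).comp Ψ, hΨ.comp k T T₂ h1, fun c => ?_⟩
  show liftMap k T (Algebra.TensorProduct.includeRight : B →ₐ[k] T₂ ⊗[k] B) (Ψ c) = _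
  generalize Ψ c = x
  induction x using TensorProduct.induction_on with
  | zero => simp
  | add x y hx hy => simp only [map_add, hx, hy]
  | tmul t b =>
    rw [liftMap_tmul, LinearMap.rTensor_tmul, Algebra.TensorProduct.includeRight_apply,
      TensorProduct.smul_tmul', Algebra.smul_def, mul_one]
    rfl

end bc

section famhom
variable {k : Type*} [CommRing k] {C B : Type*} [CommRing C] [HopfAlgebra k C] [CommRing B]
  [HopfAlgebra k B]
variable {F : Type*} [Fintype F] [DecidableEq F] (T : F → Type*) [∀ f, CommRing (T f)]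
  [∀ f, Algebra k (T f)] [Module.FaithfullyFlat k (Π f, T f)]

/-- descent of a compatible family of semilinear coalgebra maps to a bialgebra map -/
theorem fam_descent_hom (Ψ : ∀ f, C →ₐ[k] T f ⊗[k] B) (hΨ : ∀ f, IsSemiCoalg k (T f) (Ψ f))
    (hcomp : ∀ f f' c,
      (Algebra.TensorProduct.includeLeft : T f →ₐ[k] T f ⊗[k] T f').toLinearMap.rTensor B (Ψ f c) =
      (Algebra.TensorProduct.includeRight : T f' →ₐ[k] T f ⊗[k] T f').toLinearMap.rTensor B
        (Ψ f' c)) :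
    ∃ Φ : C →ₐc[k] B, ∀ f c, Ψ f c = (1 : T f) ⊗ₜ[k] Φ c := by
  have hex : ∀ c, ∃ b : B, ∀ f, (1 : T f) ⊗ₜ[k] b = Ψ f c := fun c =>
    FamDesc.fam_descent (B := k) T B (fun f => Ψ f c) (fun f f' => hcomp f f' c)
  choose φ hφ0 using hex
  have hφ : ∀ f c, (1 : T f) ⊗ₜ[k] φ c = Ψ f c := fun f c => hφ0 c f
  have hinj : ∀ b b' : B, (∀ f, (1 : T f) ⊗ₜ[k] b = (1 : T f) ⊗ₜ[k] b') → b = b' := by
    intro b b' h
    rw [← sub_eq_zero]
    apply FamDesc.joint_inj (B := k) T B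
    intro f
    rw [TensorProduct.tmul_sub, h f, sub_self]
  let φl : C →ₗ[k] B :=
    { toFun := φ
      map_add' := fun x y => hinj _ _ (fun f => by
        rw [hφ, map_add, TensorProduct.tmul_add, hφ, hφ])
      map_smul' := fun r x => hinj _ _ (fun f => by
        rw [hφ, map_smul, RingHom.id_apply, TensorProduct.tmul_smul, hφ]) }
  have hφl : ∀ c, φl c = φ c := fun c => rfl
  have hone : φl 1 = 1 := hinj _ _ (fun f => by
    rw [hφl, hφ, map_one, Algebra.TensorProduct.one_def])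
  have hmul : ∀ x y, φl (x * y) = φl x * φl y := fun x y => hinj _ _ (fun f => by
    rw [hφl, hφl, hφl, hφ, map_mul, ← hφ f x, ← hφ f y, Algebra.TensorProduct.tmul_mul_tmul,
      one_mul])
  let φa : C →ₐ[k] B := AlgHom.ofLinearMap φl hone hmul
  have hφa : ∀ c, φa c = φ c := fun c => rfl
  have hcomul : ∀ c, Coalgebra.comul (R := k) (φa c) =
      TensorProduct.map φa.toLinearMap φa.toLinearMap (Coalgebra.comul (R := k) c) := by
    intro c
    rw [← sub_eq_zero]
    apply FamDesc.joint_inj (B := k) T (B ⊗[k] B)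
    intro f
    rw [TensorProduct.tmul_sub, sub_eq_zero]
    exact tmul_comul_eq (T f) φa.toLinearMap (Ψ f) (hΨ f) (fun c => hφ f c) c
  have hdef : defect (lin (toConv φa)) = 0 := by
    ext c
    rw [defect_apply]
    show _ - _ = (0 : B ⊗[k] B)
    rw [sub_eq_zero]
    exact hcomul c
  obtain ⟨Φ, hΦ⟩ := exists_bialgHom_of_defect_eq_zero φa hdef
  exact ⟨Φ, fun f c => by rw [hΦ, hφa, hφ]⟩

end famhom

section lcore
variable {k : Type*} [CommRing k] {C B : Type*} [CommRing C] [HopfAlgebra k C] [CommRing B]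
  [HopfAlgebra k B]
variable {F : Type*} [Fintype F] [DecidableEq F] (T : F → Type*) [∀ f, CommRing (T f)]
  [∀ f, Algebra k (T f)] [Module.FaithfullyFlat k (Π f, T f)]
variable {N M : F → Type*} [∀ f, CommMonoid (N f)] [∀ f, CommMonoid (M f)]
variable (χC : ∀ f, C →ₐ[k] MonoidAlgebra (T f) (N f)) (hχC : ∀ f, IsSemiIso k (T f) (χC f))
variable (χB : ∀ f, B →ₐ[k] MonoidAlgebra (T f) (M f)) (hχB : ∀ f, IsSemiIso k (T f) (χB f))

include hχC hχB in
/-- uniqueness of liftings of homomorphisms between groups with a jointly faithfully flat family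
of charts, along a nil ideal -/
theorem lcore_uniq (K : Ideal k) (hK : ∀ x ∈ K, IsNilpotent x) (Φ₁ Φ₂ : C →ₐc[k] B)
    (h : ∀ c, Φ₁ c - Φ₂ c ∈ K • (⊤ : Submodule k B)) : Φ₁ = Φ₂ := by
  ext c
  rw [← sub_eq_zero]
  apply FamDesc.joint_inj (B := k) T B
  intro f
  have h1 : IsSemiCoalg k (T f) (((Algebra.TensorProduct.includeRight :
      B →ₐ[k] T f ⊗[k] B)).comp (Φ₁ : C →ₐ[k] B)) :=
    (isSemiCoalg_bialgHom k Φ₁).comp k k (T f) (isSemiCoalg_includeRight k (T f) B)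
  have h2 : IsSemiCoalg k (T f) (((Algebra.TensorProduct.includeRight :
      B →ₐ[k] T f ⊗[k] B)).comp (Φ₂ : C →ₐ[k] B)) :=
    (isSemiCoalg_bialgHom k Φ₂).comp k k (T f) (isSemiCoalg_includeRight k (T f) B)
  have h3 := local_uniq K hK (hχC f) (hχB f) _ _ h1 h2 (fun c => by
    show (1 : T f) ⊗ₜ[k] Φ₁ c - (1 : T f) ⊗ₜ[k] Φ₂ c ∈ K • (⊤ : Submodule k (T f ⊗[k] B))
    rw [← TensorProduct.tmul_sub]
    exact map_mem_smul_top' K (TensorProduct.mk k (T f) B 1) (h c))
  have h4 := congrArg (fun g => g c) h3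
  rw [TensorProduct.tmul_sub, sub_eq_zero]
  exact h4

include hχC hχB in
/-- existence of liftings of homomorphisms between groups with a jointly faithfully flat family
of charts, along a nil thickening -/
theorem lcore_exists (Sb : Type*) [CommRing Sb] [Algebra k Sb]
    (hsurj : Function.Surjective (algebraMap k Sb))
    (hnil : ∀ x ∈ RingHom.ker (algebraMap k Sb), IsNilpotent x)
    (Ψb : C →ₐ[k] Sb ⊗[k] B) (hΨb : IsSemiCoalg k Sb Ψb) :
    ∃ Φ : C →ₐc[k] B, ∀ c, Ψb c = (1 : Sb) ⊗ₜ[k] Φ c := by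
  set K := RingHom.ker (algebraMap k Sb) with hKdef
  have hloc := fun f => local_exists (T := T f) Sb hsurj hnil (hχC f) (hχB f) Ψb hΨb
  choose Ψ hΨ hΨK using hloc
  have hcomp : ∀ f f' c,
      (Algebra.TensorProduct.includeLeft : T f →ₐ[k] T f ⊗[k] T f').toLinearMap.rTensor B (Ψ f c) =
      (Algebra.TensorProduct.includeRight : T f' →ₐ[k] T f ⊗[k] T f').toLinearMap.rTensor B
        (Ψ f' c) := by
    intro f f' c
    obtain ⟨Ψ₁, hΨ₁, h₁⟩ := exists_semiCoalg_rTensor (Ψ f) (hΨ f)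
      (Algebra.TensorProduct.includeLeft : T f →ₐ[k] T f ⊗[k] T f')
    obtain ⟨Ψ₂, hΨ₂, h₂⟩ := exists_semiCoalg_rTensor (Ψ f') (hΨ f')
      (Algebra.TensorProduct.includeRight : T f' →ₐ[k] T f ⊗[k] T f')
    have hC₂ : IsSemiIso k (T f ⊗[k] T f')
        (((rho (T f) (T f ⊗[k] T f') (N f)).restrictScalars k).comp (χC f)) :=
      isSemiIso_rho_comp (T₂ := T f ⊗[k] T f') (hχC f)
    have hB₂ : IsSemiIso k (T f ⊗[k] T f')
        (((rho (T f) (T f ⊗[k] T f') (M f)).restrictScalars k).comp (χB f)) :=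
      isSemiIso_rho_comp (T₂ := T f ⊗[k] T f') (hχB f)
    have heq : Ψ₁ = Ψ₂ := by
      apply local_uniq K hnil hC₂ hB₂ Ψ₁ Ψ₂ hΨ₁ hΨ₂
      intro c
      obtain ⟨b, hb⟩ := exists_tmul_eq_of_surjective Sb hsurj (Ψb c)
      have e1 : Ψ₁ c - (1 : T f ⊗[k] T f') ⊗ₜ[k] b ∈
          K • (⊤ : Submodule k ((T f ⊗[k] T f') ⊗[k] B)) := by
        have := map_mem_smul_top' K ((Algebra.TensorProduct.includeLeft :
          T f →ₐ[k] T f ⊗[k] T f').toLinearMap.rTensor B) (hΨK f c b hb)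
        rw [map_sub, ← h₁] at this
        simpa [Algebra.TensorProduct.one_def] using this
      have e2 : Ψ₂ c - (1 : T f ⊗[k] T f') ⊗ₜ[k] b ∈
          K • (⊤ : Submodule k ((T f ⊗[k] T f') ⊗[k] B)) := by
        have := map_mem_smul_top' K ((Algebra.TensorProduct.includeRight :
          T f' →ₐ[k] T f ⊗[k] T f').toLinearMap.rTensor B) (hΨK f' c b hb)
        rw [map_sub, ← h₂] at this
        simpa [Algebra.TensorProduct.one_def] using this
      have : Ψ₁ c - Ψ₂ c = (Ψ₁ c - (1 : T f ⊗[k] T f') ⊗ₜ[k] b) -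
          (Ψ₂ c - (1 : T f ⊗[k] T f') ⊗ₜ[k] b) := by abel
      rw [this]
      exact sub_mem e1 e2
    rw [← h₁, ← h₂, heq]
  obtain ⟨Φ, hΦ⟩ := fam_descent_hom T Ψ hΨ hcomp
  refine ⟨Φ, fun c => ?_⟩
  obtain ⟨b, hb⟩ := exists_tmul_eq_of_surjective Sb hsurj (Ψb c)
  rw [← hb, eq_comm, ← sub_eq_zero, ← TensorProduct.tmul_sub]
  apply FamDesc.joint_inj (B := k) T (Sb ⊗[k] B)
  intro f
  have h1 : (1 : T f) ⊗ₜ[k] (Φ c - b) ∈ K • (⊤ : Submodule k (T f ⊗[k] B)) := by
    have := hΨK f c b hb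
    rw [hΦ, ← TensorProduct.tmul_sub] at this
    exact this
  have h2 := map_mem_smul_top' K (TensorProduct.mk k Sb (T f ⊗[k] B) 1) h1
  have h3 : (1 : Sb) ⊗ₜ[k] ((1 : T f) ⊗ₜ[k] (Φ c - b)) = 0 :=
    eq_zero_of_mem_smul_top (T' := Sb) K (le_of_eq hKdef) h2
  have h4 := congrArg (TensorProduct.leftComm k Sb (T f) B) h3
  rw [TensorProduct.leftComm_tmul, map_zero] at h4
  exact h4

end lcore

end Groth.Agent.Helper2.HomLift
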