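import Mathlib
import Groth.Prelude.Def_SGA3b
import Groth.Agent.Helper2.HomLiftB

/-!
# Lifting homomorphisms of groups of multiplicative type along a nil thickening:
separate covers for source and target
-/

set_option autoImplicit false
set_option linter.style.haveILetI false

namespace Groth.Agent.Helper2.HomLift
open TensorProduct Groth.Agent.Helper2.MultTypeSemi Groth.Agent.Helper2.SemiIso
  Groth.Agent.Helper2.NilSplit Groth.Agent.Helper2.NilLift

section ffpi
variable {k : Type*} [CommRing k] {F : Type*} [Fintype F] [DecidableEq F] (T : F → Type*)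
  [∀ f, CommRing (T f)] [∀ f, Algebra k (T f)] [Module.FaithfullyFlat k (Π f, T f)]
variable (A'' : Type*) [CommRing A''] [Algebra k A''] [Module.FaithfullyFlat k A'']

lemma ff_pi_tensor : Module.FaithfullyFlat k (Π f, T f ⊗[k] A'') := by
  haveI : Module.FaithfullyFlat k ((Π f, T f) ⊗[k] A'') :=
    Module.FaithfullyFlat.trans k (Π f, T f) ((Π f, T f) ⊗[k] A'')
  let e : (Π f, T f ⊗[k] A'') ≃ₗ[k] (Π f, T f) ⊗[k] A'' :=
    ((TensorProduct.comm k (Π f, T f) A'').trans ((TensorProduct.piRight k k A'' T).trans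
      (LinearEquiv.piCongrRight (fun f => TensorProduct.comm k A'' (T f))))).symm
  exact Module.FaithfullyFlat.of_linearEquiv (R := k) (M := (Π f, T f) ⊗[k] A'') e

end ffpi

section lcore2
variable {k : Type*} [CommRing k] {C B : Type*} [CommRing C] [HopfAlgebra k C] [CommRing B]
  [HopfAlgebra k B]
variable {F : Type*} [Fintype F] [DecidableEq F] (T : F → Type*) [∀ f, CommRing (T f)]
  [∀ f, Algebra k (T f)] [Module.FaithfullyFlat k (Π f, T f)]
variable {N : F → Type*} [∀ f, CommMonoid (N f)]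
variable (χC : ∀ f, C →ₐ[k] MonoidAlgebra (T f) (N f)) (hχC : ∀ f, IsSemiIso k (T f) (χC f))
variable (A'' : Type*) [CommRing A''] [Algebra k A''] [Module.FaithfullyFlat k A'']
  {M : Type*} [CommMonoid M] (χB : B →ₐ[k] MonoidAlgebra A'' M) (hχB : IsSemiIso k A'' χB)

include hχC hχB in
attribute [local instance] Algebra.TensorProduct.rightAlgebra in
theorem lcore_exists' (Sb : Type*) [CommRing Sb] [Algebra k Sb]
    (hsurj : Function.Surjective (algebraMap k Sb))
    (hnil : ∀ x ∈ RingHom.ker (algebraMap k Sb), IsNilpotent x)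
    (Ψb : C →ₐ[k] Sb ⊗[k] B) (hΨb : IsSemiCoalg k Sb Ψb) :
    ∃ Φ : C →ₐc[k] B, ∀ c, Ψb c = (1 : Sb) ⊗ₜ[k] Φ c := by
  haveI : Module.FaithfullyFlat k (Π f, T f ⊗[k] A'') := ff_pi_tensor T A''
  exact lcore_exists (fun f => T f ⊗[k] A'') (N := N) (M := fun _ => M)
    (fun f => ((rho (T f) (T f ⊗[k] A'') (N f)).restrictScalars k).comp (χC f))
    (fun f => isSemiIso_rho_comp (T₂ := T f ⊗[k] A'') (hχC f))
    (fun f => ((rho A'' (T f ⊗[k] A'') M).restrictScalars k).comp χB)
    (fun f => isSemiIso_rho_comp (T₂ := T f ⊗[k] A'') hχB) Sb hsurj hnil Ψb hΨb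

include hχC hχB in
attribute [local instance] Algebra.TensorProduct.rightAlgebra in
theorem lcore_uniq' (K : Ideal k) (hK : ∀ x ∈ K, IsNilpotent x) (Φ₁ Φ₂ : C →ₐc[k] B)
    (h : ∀ c, Φ₁ c - Φ₂ c ∈ K • (⊤ : Submodule k B)) : Φ₁ = Φ₂ := by
  haveI : Module.FaithfullyFlat k (Π f, T f ⊗[k] A'') := ff_pi_tensor T A''
  exact lcore_uniq (fun f => T f ⊗[k] A'') (N := N) (M := fun _ => M)
    (fun f => ((rho (T f) (T f ⊗[k] A'') (N f)).restrictScalars k).comp (χC f))
    (fun f => isSemiIso_rho_comp (T₂ := T f ⊗[k] A'') (hχC f))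
    (fun f => ((rho A'' (T f ⊗[k] A'') M).restrictScalars k).comp χB)
    (fun f => isSemiIso_rho_comp (T₂ := T f ⊗[k] A'') hχB) K hK Φ₁ Φ₂ h

end lcore2

end Groth.Agent.Helper2.HomLift
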