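import Mathlib
import Groth.Prelude.Def_SGA3b
import Groth.Agent.Helper2.HomLiftC
import Groth.Agent.Helper7.MTAvgP

/-!
# One step up a tower of thickenings, in semilinear form
-/

set_option autoImplicit false
set_option linter.style.haveILetI false

namespace Groth.Agent.Helper2.HomLift
open TensorProduct Groth.Agent.Helper2.MultTypeSemi Groth.Agent.Helper2.SemiIso
  Groth.Agent.Helper2.NilSplit Groth.Agent.Helper2.NilLift Groth.Agent.Helper7.MTAvg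
  Groth.Agent.Helper2.HD

section tower
variable {R : Type*} [CommRing R] (S : Type*) [CommRing S] [Algebra R S]
variable {C B : Type*} [CommRing C] [HopfAlgebra R C] [CommRing B] [HopfAlgebra R B]
variable {F : Type*} [Fintype F] [DecidableEq F] (T : F → Type*) [∀ f, CommRing (T f)]
  [∀ f, Algebra S (T f)] [Module.FaithfullyFlat S (Π f, T f)]
variable {N : F → Type*} [∀ f, CommMonoid (N f)]
variable (χC : ∀ f, S ⊗[R] C →ₐ[S] MonoidAlgebra (T f) (N f))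
  (hχC : ∀ f, IsSemiIso S (T f) (χC f))
variable (A'' : Type*) [CommRing A''] [Algebra S A''] [Module.FaithfullyFlat S A'']
  {M : Type*} [CommMonoid M] (χB : S ⊗[R] B →ₐ[S] MonoidAlgebra A'' M)
  (hχB : IsSemiIso S A'' χB)

include hχC hχB in
theorem tower_exists (Sb : Type*) [CommRing Sb] [Algebra R Sb] [Algebra S Sb]
    [IsScalarTower R S Sb] (hsurj : Function.Surjective (algebraMap S Sb))
    (hnil : ∀ x ∈ RingHom.ker (algebraMap S Sb), IsNilpotent x)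
    (ψb : C →ₐ[R] Sb ⊗[R] B) (hψb : IsSemiCoalg R Sb ψb) :
    ∃ ψ : C →ₐ[R] S ⊗[R] B, IsSemiCoalg R S ψ ∧
      ∀ c, Algebra.TensorProduct.map (IsScalarTower.toAlgHom R S Sb) (AlgHom.id R B) (ψ c) =
        ψb c := by
  let θ : Sb ⊗[R] B ≃ₐ[Sb] Sb ⊗[S] (S ⊗[R] B) :=
    (Algebra.TensorProduct.cancelBaseChange R S Sb Sb B).symm
  have hθ : IsSemiCoalg Sb Sb (θ : Sb ⊗[R] B →ₐ[Sb] Sb ⊗[S] (S ⊗[R] B)) := by
    apply semiCoalg_of_restrict R Sb Sb
    have h1 := isSemiCoalg_includeRight R S B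
    have h2 := isSemiCoalg_includeRight S Sb (S ⊗[R] B)
    have h12 := h1.comp R S Sb h2
    convert h12 using 1
    ext a
    simp [θ]
  let Ψ₀ : S ⊗[R] C →ₐ[S] Sb ⊗[R] B :=
    Algebra.TensorProduct.lift (Algebra.ofId S (Sb ⊗[R] B)) ψb (fun _ _ => Commute.all _ _)
  let Ψb : S ⊗[R] C →ₐ[S] Sb ⊗[S] (S ⊗[R] B) :=
    ((θ : Sb ⊗[R] B →ₐ[Sb] Sb ⊗[S] (S ⊗[R] B)).restrictScalars S).comp Ψ₀
  have hΨb1 : ∀ c, Ψb ((1 : S) ⊗ₜ[R] c) = θ (ψb c) := by
    intro c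
    simp [Ψb, Ψ₀, ← Algebra.TensorProduct.one_def]
  have hΨb : IsSemiCoalg S Sb Ψb := by
    apply semiCoalg_of_restrict R S Sb
    have h12 := hψb.comp R Sb Sb hθ
    convert h12 using 1
    ext c
    simp [hΨb1]
  obtain ⟨Φ, hΦ⟩ := lcore_exists' (k := S) T χC hχC A'' χB hχB Sb hsurj hnil Ψb hΨb
  let ψ : C →ₐ[R] S ⊗[R] B :=
    ((Φ : S ⊗[R] C →ₐ[S] S ⊗[R] B).restrictScalars R).comp
      (Algebra.TensorProduct.includeRight : C →ₐ[R] S ⊗[R] C)
  refine ⟨ψ, ?_, fun c => ?_⟩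
  · exact (isSemiCoalg_includeRight R S C).comp R S S (isSemiCoalg_bialgHom S Φ)
  · have h1 : θ (ψb c) = (1 : Sb) ⊗ₜ[S] ψ c := by
      rw [← hΨb1, hΦ]
      rfl
    have h2 : ∀ z : S ⊗[R] B, Algebra.TensorProduct.cancelBaseChange R S Sb Sb B
        ((1 : Sb) ⊗ₜ[S] z) =
        Algebra.TensorProduct.map (IsScalarTower.toAlgHom R S Sb) (AlgHom.id R B) z := by
      intro z
      induction z using TensorProduct.induction_on with
      | zero => simp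
      | add x y hx hy => simp only [tmul_add, map_add, hx, hy]
      | tmul s a => simp [Algebra.smul_def]
    rw [← h2, ← h1]
    simp [θ]

include hχC hχB in
theorem tower_uniq (K : Ideal S) (hK : ∀ x ∈ K, IsNilpotent x)
    (ψ₁ ψ₂ : C →ₐ[R] S ⊗[R] B) (h₁ : IsSemiCoalg R S ψ₁) (h₂ : IsSemiCoalg R S ψ₂)
    (h : ∀ c, ψ₁ c - ψ₂ c ∈ K • (⊤ : Submodule S (S ⊗[R] B))) : ψ₁ = ψ₂ := by
  let Φ₁ : S ⊗[R] C →ₐc[S] S ⊗[R] B :=
    bialgHomOfSemi' (liftMap R S ψ₁) (isSemiCoalg_liftMap R S S h₁)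
  let Φ₂ : S ⊗[R] C →ₐc[S] S ⊗[R] B :=
    bialgHomOfSemi' (liftMap R S ψ₂) (isSemiCoalg_liftMap R S S h₂)
  have hd : ∀ x : S ⊗[R] C, Φ₁ x - Φ₂ x ∈ K • (⊤ : Submodule S (S ⊗[R] B)) := by
    intro x
    induction x using TensorProduct.induction_on with
    | zero => simp
    | add x y hx hy =>
      have : Φ₁ (x + y) - Φ₂ (x + y) = (Φ₁ x - Φ₂ x) + (Φ₁ y - Φ₂ y) := by
        rw [map_add, map_add]; abel
      rw [this]
      exact add_mem hx hy
    | tmul s c =>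
      show liftMap R S ψ₁ (s ⊗ₜ[R] c) - liftMap R S ψ₂ (s ⊗ₜ[R] c) ∈ _
      rw [liftMap_tmul, liftMap_tmul, ← smul_sub]
      exact Submodule.smul_mem _ s (h c)
  have hΦ := lcore_uniq' (k := S) T χC hχC A'' χB hχB K hK Φ₁ Φ₂ hd
  ext c
  have := congrArg (fun g => g ((1 : S) ⊗ₜ[R] c)) hΦ
  simpa [Φ₁, Φ₂] using this

end tower

end Groth.Agent.Helper2.HomLift
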