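import Mathlib
import Groth.Prelude.Def_SGA3b
import Groth.Agent.Helper2.HomLiftD

/-!
# Rigidity at the first order thickening of a point of the closed fibre
-/

set_option autoImplicit false
set_option linter.style.haveILetI false

namespace Groth.Agent.Helper2.HensHom
open TensorProduct Groth.Agent.Helper2.MultTypeSemi Groth.Agent.Helper2.SemiIso
  Groth.Agent.Helper2.NilSplit Groth.Agent.Helper2.NilLift Groth.Agent.Helper2.HomLift

section rigid
variable {A : Type*} [CommRing A] (κ : Type*) [CommRing κ] [Algebra A κ]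
variable {E : Type*} [CommRing E] [Algebra A E] (res : E →ₐ[A] κ)

/-- the first order thickening of the point `res` in its fibre -/
abbrev Qr : Type _ := κ ⊗[A] (E ⧸ (RingHom.ker res) ^ 2)

/-- the tautological point of the thickening -/
noncomputable def q1 : E →ₐ[A] Qr κ res :=
  (Algebra.TensorProduct.includeRight : (E ⧸ (RingHom.ker res) ^ 2) →ₐ[A] Qr κ res).comp
    (Ideal.Quotient.mkₐ A _)

/-- the constant point of the thickening -/
noncomputable def q2 : E →ₐ[A] Qr κ res :=
  (Algebra.TensorProduct.includeLeft : κ →ₐ[A] Qr κ res).comp res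

lemma q1_apply (e : E) : q1 κ res e = (1 : κ) ⊗ₜ[A] (Ideal.Quotient.mk _ e) := rfl

lemma q2_apply (e : E) : q2 κ res e = (res e) ⊗ₜ[A] (1 : E ⧸ (RingHom.ker res) ^ 2) := rfl

/-- the nilpotent ideal of the thickening -/
noncomputable def Kr : Ideal (Qr κ res) :=
  Ideal.map (Algebra.TensorProduct.includeRight :
      (E ⧸ (RingHom.ker res) ^ 2) →ₐ[A] Qr κ res).toRingHom
    ((RingHom.ker res).map (Ideal.Quotient.mk ((RingHom.ker res) ^ 2)))

lemma Kr_nil : ∀ x ∈ Kr κ res, IsNilpotent x := by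
  intro x hx
  refine ⟨2, ?_⟩
  have h1 : x ^ 2 ∈ (Kr κ res) ^ 2 := Ideal.pow_mem_pow hx 2
  rw [Kr, ← Ideal.map_pow, ← Ideal.map_pow, Ideal.map_quotient_self, Ideal.map_bot] at h1
  exact h1

variable {κ res} in
lemma q_sub_mem (hκ : Function.Surjective (algebraMap A κ)) (e : E) :
    q1 κ res e - q2 κ res e ∈ Kr κ res := by
  obtain ⟨a, ha⟩ := hκ (res e)
  have h1 : q2 κ res e = (1 : κ) ⊗ₜ[A] (Ideal.Quotient.mk ((RingHom.ker res) ^ 2)
      (algebraMap A E a)) := by
    rw [q2_apply, ← ha, Algebra.algebraMap_eq_smul_one, TensorProduct.smul_tmul,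
      Algebra.algebraMap_eq_smul_one]
    rfl
  rw [h1, q1_apply, ← TensorProduct.tmul_sub, ← map_sub]
  apply Ideal.mem_map_of_mem
  apply Ideal.mem_map_of_mem
  rw [RingHom.mem_ker, map_sub, AlgHom.commutes, ha, sub_self]

end rigid

section main
variable {A : Type*} [CommRing A] (κ : Type*) [CommRing κ] [Algebra A κ]
  (hκ : Function.Surjective (algebraMap A κ))
variable {C B : Type*} [CommRing C] [HopfAlgebra A C] [CommRing B] [HopfAlgebra A B]
variable (k' : Type*) [CommRing k'] [Algebra κ k'] [Algebra A k'] [IsScalarTower A κ k']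
  [Module.FaithfullyFlat κ k'] {N : Type*} [CommMonoid N]
  (θC : C →ₐ[A] MonoidAlgebra k' N) (hθC : IsSemiIso A k' θC)
variable (A1 : Type*) [CommRing A1] [Algebra A A1] [Module.FaithfullyFlat A A1]
  {M : Type*} [CommMonoid M] (θB : B →ₐ[A] MonoidAlgebra A1 M) (hθB : IsSemiIso A A1 θB)
variable {E : Type*} [CommRing E] [Algebra A E] (res : E →ₐ[A] κ)

include hκ hθC hθB in
attribute [local instance] Algebra.TensorProduct.rightAlgebra in
theorem rigid (u : C →ₐ[A] E ⊗[A] B) (hu : IsSemiCoalg A E u) (c : C) :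
    (q1 κ res).toLinearMap.rTensor B (u c) = (q2 κ res).toLinearMap.rTensor B (u c) := by
  classical
  obtain ⟨ψ₁, hψ₁, h₁⟩ := exists_semiCoalg_rTensor u hu (q1 κ res)
  obtain ⟨ψ₂, hψ₂, h₂⟩ := exists_semiCoalg_rTensor u hu (q2 κ res)
  rw [← h₁, ← h₂]
  -- the chart of `C` over the thickening
  let T : Type _ := Qr κ res ⊗[κ] k'
  haveI hT1 : IsScalarTower A k' T := ⟨fun a x t => by
    rw [← algebraMap_smul κ a x, smul_assoc, algebraMap_smul]⟩
  have hχC : IsSemiIso (Qr κ res) T
      (liftMap A (Qr κ res) (((rho k' T N).restrictScalars A).comp θC)) :=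
    (isSemiIso_rho_comp (T₂ := T) hθC).lift A (Qr κ res) T
  let A'' : Type _ := Qr κ res ⊗[A] A1
  have hχB : IsSemiIso (Qr κ res) A''
      (liftMap A (Qr κ res) (((rho A1 A'' M).restrictScalars A).comp θB)) :=
    (isSemiIso_rho_comp (T₂ := A'') hθB).lift A (Qr κ res) A''
  haveI : Module.FaithfullyFlat (Qr κ res) (Π _ : Unit, T) :=
    Module.FaithfullyFlat.of_linearEquiv (R := Qr κ res) (M := T)
      (LinearEquiv.funUnique Unit (Qr κ res) T)
  have h := tower_uniq (R := A) (Qr κ res) (fun _ : Unit => T) (N := fun _ => N)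
    (fun _ => _) (fun _ => hχC) A'' _ hχB (Kr κ res) (Kr_nil κ res) ψ₁ ψ₂ hψ₁ hψ₂ (by
      intro c
      rw [h₁, h₂, ← LinearMap.sub_apply, ← LinearMap.rTensor_sub]
      generalize u c = z
      induction z using TensorProduct.induction_on with
      | zero => simp
      | add x y hx hy => rw [map_add]; exact Submodule.add_mem _ hx hy
      | tmul e b =>
        rw [LinearMap.rTensor_tmul, LinearMap.sub_apply]
        have h3 : (q1 κ res e - q2 κ res e) ⊗ₜ[A] b =
            (q1 κ res e - q2 κ res e) • ((1 : Qr κ res) ⊗ₜ[A] b) := by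
          rw [TensorProduct.smul_tmul', smul_eq_mul, mul_one]
        show (q1 κ res e - q2 κ res e) ⊗ₜ[A] b ∈ _
        rw [h3]
        exact Submodule.smul_mem_smul (q_sub_mem hκ e) Submodule.mem_top)
  exact congrArg (fun g => g c) h

end main

end Groth.Agent.Helper2.HensHom
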