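import Mathlib
import Groth.Prelude.Def_SGA3b
import Groth.Agent.Helper2.HomLiftB

/-!
# Coefficients of elements of a base change of a projective module, and descent of the semilinear
coalgebra property along an injective map of coefficient rings
-/

set_option autoImplicit false
set_option linter.style.haveILetI false

namespace Groth.Agent.Helper2.HensHom
open TensorProduct Groth.Agent.Helper2.MultTypeSemi Groth.Agent.Helper2.SemiIso

section coef
open Classical
variable {A : Type*} [CommRing A] {B : Type*} [AddCommGroup B] [Module A B]
  (s : B →ₗ[A] (B →₀ A)) (hs : ∀ b, Finsupp.linearCombination A id (s b) = b)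
variable (T : Type*) [CommRing T] [Algebra A T]

/-- the coefficients of an element of `T ⊗ B` in a projective coordinate system of `B` -/
noncomputable def coef : T ⊗[A] B →ₗ[A] (B →₀ T) :=
  (TensorProduct.finsuppScalarRight A A T B).toLinearMap ∘ₗ (LinearMap.lTensor T s)

lemma coef_tmul_apply (t : T) (b p : B) : coef s T (t ⊗ₜ[A] b) p = (s b p) • t := by
  simp [coef]

/-- reconstruction from the coefficients -/
noncomputable def recon : (B →₀ T) →ₗ[A] T ⊗[A] B :=
  Finsupp.lsum A (fun p => (TensorProduct.mk A T B).flip p)

lemma recon_apply (ζ : B →₀ T) : recon (A := A) T ζ = ζ.sum (fun p t => t ⊗ₜ[A] p) := by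
  rw [recon, Finsupp.lsum_apply]
  rfl

include hs in
lemma recon_coef (z : T ⊗[A] B) : recon T (coef s T z) = z := by
  induction z using TensorProduct.induction_on with
  | zero => simp
  | add x y hx hy => rw [map_add, map_add, hx, hy]
  | tmul t b =>
    rw [coef, LinearMap.comp_apply, LinearMap.lTensor_tmul, LinearEquiv.coe_coe,
      TensorProduct.finsuppScalarRight_apply_tmul, Finsupp.sum, map_sum]
    conv_rhs => rw [← hs b, Finsupp.linearCombination_apply, Finsupp.sum, TensorProduct.tmul_sum]
    refine Finset.sum_congr rfl (fun p _ => ?_)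
    rw [recon_apply, Finsupp.sum_single_index (by simp), TensorProduct.smul_tmul, id]

variable {T} in
lemma coef_rTensor {T₂ : Type*} [CommRing T₂] [Algebra A T₂] (g : T →ₐ[A] T₂) (z : T ⊗[A] B)
    (p : B) : coef s T₂ (g.toLinearMap.rTensor B z) p = g (coef s T z p) := by
  induction z using TensorProduct.induction_on with
  | zero => simp
  | add x y hx hy => simp only [map_add, Finsupp.add_apply, hx, hy]
  | tmul t b =>
    rw [LinearMap.rTensor_tmul, coef_tmul_apply, coef_tmul_apply, AlgHom.toLinearMap_apply,
      map_smul]

include hs in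
variable {T} in
lemma mem_range_of_coef {E : Type*} [CommRing E] [Algebra A E] (g : E →ₐ[A] T) (z : T ⊗[A] B)
    (h : ∀ p, coef s T z p ∈ g.range) : z ∈ LinearMap.range (g.toLinearMap.rTensor B) := by
  rw [← recon_coef s hs T z, recon_apply, Finsupp.sum]
  refine Submodule.sum_mem _ (fun p _ => ?_)
  obtain ⟨e, he⟩ := h p
  have he' : g e = coef s T z p := he
  exact ⟨e ⊗ₜ p, by rw [LinearMap.rTensor_tmul, AlgHom.toLinearMap_apply, he']⟩

end coef

section transfer
variable {A : Type*} [CommRing A] {E T : Type*} [CommRing E] [CommRing T] [Algebra A E]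
  [Algebra A T] (g : E →ₐ[A] T) (hg : Function.Injective g)
variable {C B : Type*} [CommRing C] [Bialgebra A C] [CommRing B] [Bialgebra A B] [Module.Flat A B]

include hg in
/-- descent of the semilinear coalgebra property along an injective map of coefficient rings -/
theorem isSemiCoalg_of_injective (Ψ : C →ₐ[A] E ⊗[A] B) (Ψ' : C →ₐ[A] T ⊗[A] B)
    (hΨ' : IsSemiCoalg A T Ψ') (h : ∀ c, Ψ' c = g.toLinearMap.rTensor B (Ψ c)) :
    IsSemiCoalg A E Ψ := by
  letI : Algebra E T := g.toRingHom.toAlgebra
  haveI : IsScalarTower A E T := IsScalarTower.of_algebraMap_eq (fun r => (g.commutes r).symm)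
  have hgalg : ∀ e : E, algebraMap E T e = g e := fun e => rfl
  let θ : E ⊗[A] B →ₐ[E] T ⊗[A] B :=
    liftMap A E (Algebra.TensorProduct.includeRight : B →ₐ[A] T ⊗[A] B)
  have h1 : IsSemiCoalg E T θ :=
    isSemiCoalg_liftMap A E T (isSemiCoalg_includeRight A T B)
  have hθ : ∀ z, θ z = g.toLinearMap.rTensor B z := by
    intro z
    induction z using TensorProduct.induction_on with
    | zero => simp
    | add x y hx hy => simp only [map_add, hx, hy]
    | tmul t b =>
      rw [liftMap_tmul, LinearMap.rTensor_tmul, Algebra.TensorProduct.includeRight_apply,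
        TensorProduct.smul_tmul', Algebra.smul_def, mul_one]
      rfl
  have hθΨ : ∀ c, θ (Ψ c) = Ψ' c := fun c => by rw [hθ, h]
  constructor
  · intro c
    apply hg
    rw [← hgalg, ← h1.counit, hθΨ, hΨ'.counit, AlgHom.commutes]
  · intro c
    let G : (E ⊗[A] B) ⊗[E] (E ⊗[A] B) →ₗ[E] (T ⊗[A] B) ⊗[T] (T ⊗[A] B) :=
      semiMap E T θ.toLinearMap
    have hG1 : ∀ z, G (Coalgebra.comul (R := E) z) = Coalgebra.comul (R := T) (θ z) :=
      fun z => (h1.comul z).symm
    have hG2 : ∀ t : C ⊗[A] C, G (semiMap A E Ψ.toLinearMap t) = semiMap A T Ψ'.toLinearMap t := by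
      intro t
      induction t using TensorProduct.induction_on with
      | zero => simp
      | add x y hx hy => simp only [map_add, hx, hy]
      | tmul x y => simp [G, hθΨ]
    have hGinj : Function.Injective G := by
      have hsq : ∀ w : E ⊗[A] (B ⊗[A] B),
          G (AlgebraTensorModule.distribBaseChange A E B B w) =
            AlgebraTensorModule.distribBaseChange A T B B
              (g.toLinearMap.rTensor (B ⊗[A] B) w) := by
        intro w
        induction w using TensorProduct.induction_on with
        | zero => simp
        | add x y hx hy => simp only [map_add, hx, hy]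
        | tmul e t =>
          induction t using TensorProduct.induction_on with
          | zero => simp
          | add x y hx hy => simp only [tmul_add, map_add, hx, hy]
          | tmul b b' =>
            rw [AlgebraTensorModule.distribBaseChange_tmul, LinearMap.rTensor_tmul,
              AlgebraTensorModule.distribBaseChange_tmul]
            simp [G, hθ]
      intro x y hxy
      obtain ⟨x', rfl⟩ := (AlgebraTensorModule.distribBaseChange A E B B).surjective x
      obtain ⟨y', rfl⟩ := (AlgebraTensorModule.distribBaseChange A E B B).surjective y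
      rw [hsq, hsq] at hxy
      have h2 := (AlgebraTensorModule.distribBaseChange A T B B).injective hxy
      have hinj := Module.Flat.rTensor_preserves_injective_linearMap (M := B ⊗[A] B)
        g.toLinearMap hg
      rw [hinj h2]
    apply hGinj
    rw [hG1, hG2, hθΨ, hΨ'.comul]

end transfer

end Groth.Agent.Helper2.HensHom
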