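import Mathlib
import Groth.Prelude.Def_SGA3b
import Groth.Agent.Helper2.HensHomA
import Groth.Agent.Helper2.HensHomB
import Groth.Agent.Helper2.HensHomC

/-!
# Homomorphisms from a group of multiplicative type over a local extension of a henselian local
ring, with the same residue field, are defined over the henselian ring
-/

set_option autoImplicit false
set_option linter.style.haveILetI false

namespace Groth.Agent.Helper2.HensHom
open TensorProduct IsLocalRing Groth.Agent.Helper2.MultTypeSemi Groth.Agent.Helper2.SemiIso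

universe u

section main
variable (A : Type u) [CommRing A] [IsNoetherianRing A] [HenselianLocalRing A]
  (A' : Type u) [CommRing A'] [Algebra A A'] [IsLocalRing A'] [IsLocalHom (algebraMap A A')]
  (hresf : ∀ x : A', ∃ a : A, x - algebraMap A A' a ∈ maximalIdeal A')
variable {B : Type u} [CommRing B] [HopfAlgebra A B] [Module.Projective A B]
  (A1 : Type u) [CommRing A1] [Algebra A A1] [Module.FaithfullyFlat A A1]
  {M : Type u} [CommMonoid M] (θB : B →ₐ[A] MonoidAlgebra A1 M) (hθB : IsSemiIso A A1 θB)
variable {C : Type u} [CommRing C] [HopfAlgebra A C] [Algebra.FiniteType A C]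
  (k' : Type u) [CommRing k'] [Algebra (ResidueField A) k'] [Algebra A k']
  [IsScalarTower A (ResidueField A) k'] [Module.FaithfullyFlat (ResidueField A) k']
  {N : Type u} [CommMonoid N] (θC : C →ₐ[A] MonoidAlgebra k' N) (hθC : IsSemiIso A k' θC)

include hresf hθB hθC in
theorem hens_descend (u' : C →ₐ[A] A' ⊗[A] B) (hu' : IsSemiCoalg A A' u') (c : C) :
    ∃ b : B, u' c = (1 : A') ⊗ₜ[A] b := by
  classical
  obtain ⟨s, hs⟩ := (Module.projective_def' (R := A) (P := B)).1 inferInstance
  have hs' : ∀ b, Finsupp.linearCombination A id (s b) = b := fun b => LinearMap.congr_fun hs b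
  obtain ⟨X, hX⟩ := (Algebra.FiniteType.out : (⊤ : Subalgebra A C).FG)
  let G : Finset A' := X.biUnion (fun x =>
    (coef s A' (u' x)).support.image (fun p => coef s A' (u' x) p))
  let E : Subalgebra A A' := Algebra.adjoin A (G : Set A')
  haveI : Algebra.FiniteType A E :=
    (Subalgebra.fg_iff_finiteType E).1 (Subalgebra.fg_adjoin_finset G)
  let j : E →ₐ[A] A' := E.val
  have hcoefE : ∀ x ∈ X, ∀ p, coef s A' (u' x) p ∈ j.range := by
    intro x hx p
    rw [Subalgebra.range_val]
    by_cases hp : p ∈ (coef s A' (u' x)).support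
    · apply Algebra.subset_adjoin
      exact Finset.mem_coe.2 (Finset.mem_biUnion.2 ⟨x, hx, Finset.mem_image.2 ⟨p, hp, rfl⟩⟩)
    · rw [Finsupp.notMem_support_iff.1 hp]
      exact E.zero_mem
  let fE : E ⊗[A] B →ₐ[A] A' ⊗[A] B := Algebra.TensorProduct.map j (AlgHom.id A B)
  have hfE : ∀ z, fE z = j.toLinearMap.rTensor B z := fun z => rfl
  have hfEinj : Function.Injective fE := by
    have h1 := Module.Flat.rTensor_preserves_injective_linearMap (M := B) j.toLinearMap
      Subtype.val_injective
    intro x y hxy
    apply h1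
    rw [← hfE, ← hfE]
    exact hxy
  have hrange : ∀ c, u' c ∈ fE.range := by
    have h1 : Algebra.adjoin A (X : Set C) ≤ fE.range.comap u' := by
      apply Algebra.adjoin_le
      intro x hx
      obtain ⟨z, hz⟩ := mem_range_of_coef s hs' j (u' x) (hcoefE x hx)
      exact ⟨z, hz⟩
    intro c
    have h2 : c ∈ Algebra.adjoin A (X : Set C) := by rw [hX]; trivial
    exact h1 h2
  let u'' : C →ₐ[A] E ⊗[A] B :=
    ((AlgEquiv.ofInjective fE hfEinj).symm : fE.range →ₐ[A] E ⊗[A] B).comp
      (u'.codRestrict fE.range hrange)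
  have hu''1 : ∀ c, fE (u'' c) = u' c := by
    intro c
    have h1 := (AlgEquiv.ofInjective fE hfEinj).apply_symm_apply (u'.codRestrict fE.range hrange c)
    exact congrArg Subtype.val h1
  have hu'' : IsSemiCoalg A E u'' :=
    isSemiCoalg_of_injective j Subtype.val_injective u'' u' hu'
      (fun c => by rw [← hfE, hu''1])
  -- the residue map
  let ρ : ResidueField A →+* ResidueField A' := ResidueField.map (algebraMap A A')
  have hρ : Function.Bijective ρ := by
    refine ⟨ρ.injective, fun y => ?_⟩
    obtain ⟨x, rfl⟩ := residue_surjective y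
    obtain ⟨a, ha⟩ := hresf x
    refine ⟨residue A a, ?_⟩
    show ResidueField.map (algebraMap A A') (residue A a) = _
    rw [ResidueField.map_residue, eq_comm, ← sub_eq_zero, ← map_sub, residue_eq_zero_iff]
    exact ha
  let eρ : ResidueField A ≃+* ResidueField A' := RingEquiv.ofBijective ρ hρ
  let res : E →ₐ[A] ResidueField A :=
    { toRingHom := (eρ.symm.toRingHom.comp (residue A')).comp j.toRingHom
      commutes' := fun a => by
        show eρ.symm (residue A' (j (algebraMap A E a))) = _
        rw [j.commutes, RingEquiv.symm_apply_eq]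
        show _ = ResidueField.map (algebraMap A A') (residue A a)
        rw [ResidueField.map_residue] }
  have hres_apply : ∀ x : E, res x = eρ.symm (residue A' (j x)) := fun x => rfl
  have hker : RingHom.ker res = (maximalIdeal A').comap j.toRingHom := by
    ext x
    rw [RingHom.mem_ker, Ideal.mem_comap, hres_apply, map_eq_zero_iff _ eρ.symm.injective,
      residue_eq_zero_iff]
    rfl
  have hκ : Function.Surjective (algebraMap A (ResidueField A)) := residue_surjective
  have hkerκ : RingHom.ker (algebraMap A (ResidueField A)) = maximalIdeal A := ker_residue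
  have hrig := fun c => rigid (ResidueField A) hκ k' θC hθC A1 θB hθB res u'' hu'' c
  have hq : q1 (ResidueField A) res = q2 (ResidueField A) res := by
    apply AlgHom.ext_of_adjoin_eq_top (s := ((↑) : E → A') ⁻¹' (G : Set A'))
      Algebra.adjoin_adjoin_coe_preimage
    intro y hy
    obtain ⟨x, hx, hy'⟩ := Finset.mem_biUnion.1 (Finset.mem_coe.1 hy)
    obtain ⟨p, hp, hyp⟩ := Finset.mem_image.1 hy'
    have h1 : y = coef s E (u'' x) p := by
      apply Subtype.val_injective
      rw [← hyp, ← hu''1 x, hfE]
      exact coef_rTensor s j (u'' x) p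
    rw [h1, ← coef_rTensor s (q1 (ResidueField A) res) (u'' x) p,
      ← coef_rTensor s (q2 (ResidueField A) res) (u'' x) p, hrig x]
  have hcot : (maximalIdeal A').comap j.toRingHom ≤
      ((maximalIdeal A').comap j.toRingHom) ^ 2 ⊔ (maximalIdeal A).map (algebraMap A E) := by
    rw [← hker]
    intro x hx
    have h1 : q1 (ResidueField A) res x = 0 := by
      rw [hq, q2_apply, (RingHom.mem_ker).1 hx, TensorProduct.zero_tmul]
    rw [q1_apply] at h1
    have h2 := mem_smul_top_of_tmul_eq_zero A (ResidueField A) hκ _ h1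
    rw [hkerκ] at h2
    have h3 : (maximalIdeal A • (⊤ : Submodule A (E ⧸ (RingHom.ker res) ^ 2))) =
        Submodule.map (Ideal.Quotient.mkₐ A ((RingHom.ker res) ^ 2)).toLinearMap
          (maximalIdeal A • (⊤ : Submodule A E)) := by
      rw [Submodule.map_smul'', Submodule.map_top,
        LinearMap.range_eq_top.2 (Ideal.Quotient.mkₐ_surjective A _)]
    rw [h3] at h2
    obtain ⟨y, hy, hyx⟩ := h2
    rw [Ideal.smul_top_eq_map] at hy
    have h4 : x - y ∈ (RingHom.ker res) ^ 2 := by
      rw [← Ideal.Quotient.eq]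
      exact hyx.symm
    have h5 : x = (x - y) + y := by ring
    rw [h5]
    exact Ideal.add_mem _ (Ideal.mem_sup_left h4) (Ideal.mem_sup_right hy)
  have hfin := range_of_cotangent A A' E j (fun x => hresf (j x)) hcot
  have hfinal : ∀ z : E ⊗[A] B, ∃ b : B, fE z = (1 : A') ⊗ₜ[A] b := by
    intro z
    induction z using TensorProduct.induction_on with
    | zero => exact ⟨0, by simp⟩
    | add x y hx hy =>
      obtain ⟨b1, h1⟩ := hx
      obtain ⟨b2, h2⟩ := hy
      exact ⟨b1 + b2, by rw [map_add, h1, h2, TensorProduct.tmul_add]⟩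
    | tmul e b =>
      obtain ⟨a, ha⟩ := hfin e
      refine ⟨a • b, ?_⟩
      show (Algebra.TensorProduct.map j (AlgHom.id A B)) (e ⊗ₜ b) = _
      rw [Algebra.TensorProduct.map_tmul, ha, AlgHom.id_apply,
        Algebra.algebraMap_eq_smul_one, TensorProduct.smul_tmul]
  obtain ⟨b, hb⟩ := hfinal (u'' c)
  exact ⟨b, by rw [← hu''1, hb]⟩

end main

end Groth.Agent.Helper2.HensHom
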