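import Mathlib
import Groth.Prelude.Def_SGA3b
import Groth.Agent.Helper2.HopfTors6
import Groth.Agent.Helper2.CDBC8
import Groth.Agent.Helper2.GLSep3

set_option autoImplicit false
universe u
open TensorProduct IsLocalRing

namespace Groth.Agent.Helper2.HopfTors
open Groth.Agent.Helper2.MultTypeSemi Groth.Agent.Helper2.SemiIso Groth.Agent.Helper2.NilSplit
  Groth.Agent.Helper2.NilLift Groth.Agent.Helper2.CDBC SGA3b

section iso
variable (R : Type u) [CommRing R] [HenselianLocalRing R]
variable (C : Type u) [CommRing C] [HopfAlgebra R C]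
variable (K : Type u) [Field K] [Algebra (ResidueField R) K] [Module.Finite (ResidueField R) K]
  [Algebra.IsSeparable (ResidueField R) K] [Algebra R K] [IsScalarTower R (ResidueField R) K]
variable (M : Type u) [CommGroup M] (θ : C →ₐ[R] MonoidAlgebra K M) (hθ : IsSemiIso R K θ)

include hθ in
/-- over a henselian local ring, a group of multiplicative type and of finite type whose closed
fibre is split by a finite separable extension is isotrivial -/
theorem isIsotrivial_of_chart_ft (hft : Algebra.FiniteType R C) (hC : IsMultType R C) :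
    IsIsotrivial R C := by
  let k := ResidueField R
  haveI : Algebra.Etale k K :=
    { formallyEtale := Algebra.FormallyEtale.of_isSeparable k K
      finitePresentation := Algebra.FinitePresentation.of_finiteType.mp inferInstance }
  obtain ⟨R', _, _, hfin, het, ⟨ψ⟩⟩ := Groth.Agent.S0518.result R K
  haveI := hfin
  haveI := het
  haveI : IsLocalRing R' := isLocalRing_of_field R R' K ψ
  haveI : IsLocalHom (algebraMap R R') := isLocalHom_of_field R R' K ψ
  haveI : HenselianLocalRing R' := Groth.Agent.S0505.result R R'
  haveI : Module.Flat R R' := inferInstance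
  haveI : Module.FaithfullyFlat R R' := Module.FaithfullyFlat.of_flat_of_isLocalHom
  let K' := ResidueField R'
  let ι : K →ₐ[k] K' :=
    (Algebra.TensorProduct.lift (Algebra.ofId k K') (IsScalarTower.toAlgHom R R' K')
      (fun _ _ => Commute.all _ _)).comp (ψ.symm : K →ₐ[k] k ⊗[R] R')
  letI : Algebra K K' := ι.toRingHom.toAlgebra
  haveI : IsScalarTower k K K' := IsScalarTower.of_algebraMap_eq (fun x => (ι.commutes x).symm)
  haveI : IsScalarTower R K K' := IsScalarTower.of_algebraMap_eq (fun r => by
    rw [IsScalarTower.algebraMap_apply R k K', IsScalarTower.algebraMap_apply R k K,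
      ← IsScalarTower.algebraMap_apply k K K'])
  let θ' : C →ₐ[R] MonoidAlgebra K' M := ((rho K K' M).restrictScalars R).comp θ
  have hθ' : IsSemiIso R K' θ' := isSemiIso_rho_comp (T₂ := K') hθ
  let θH : R' ⊗[R] C →ₐ[R'] MonoidAlgebra K' M := liftMap R R' θ'
  have hθH : IsSemiIso R' K' θH := hθ'.lift R R' K'
  haveI := hft
  have hft' : Algebra.FiniteType R' (R' ⊗[R] C) := inferInstance
  have hmt' : IsMultType R' (R' ⊗[R] C) := isMultType_baseChange_of_isLocalRing R C R' hC
  have hd := isDiag_of_closed_fibre R' (R' ⊗[R] C) M hft' hmt' θH hθH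
  exact ⟨R', inferInstance, inferInstance, het, hfin, inferInstance, hd⟩

end iso

theorem s2974 (R : Type u) [CommRing R] (A : Type u) [CommRing A] [HopfAlgebra R A]
    [HenselianLocalRing R] (hft : Algebra.FiniteType R A) (h : IsMultType R A) :
    IsIsotrivial R A := by
  let k := ResidueField R
  haveI := hft
  have hftk : Algebra.FiniteType k (k ⊗[R] A) := inferInstance
  have hmtk : IsMultType k (k ⊗[R] A) := isMultType_baseChange_of_isLocalRing R A k h
  obtain ⟨K, _, _, hKfin, hKsep, M, _, -, ⟨e'⟩⟩ :=
    Groth.Agent.Helper2.GLSep.s2969 k (k ⊗[R] A) hftk hmtk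
  haveI := hKfin
  haveI := hKsep
  letI : Algebra R K := ((algebraMap k K).comp (algebraMap R k)).toAlgebra
  haveI : IsScalarTower R k K := IsScalarTower.of_algebraMap_eq (fun _ => rfl)
  have h2 := (isSemiIso_includeRight k K (k ⊗[R] A)).comp k K K (isSemiIso_bialgEquiv K e')
  have h3 := (isSemiIso_includeRight R k A).comp R k K h2
  exact isIsotrivial_of_chart_ft R A K M _ h3 hft h

end Groth.Agent.Helper2.HopfTors
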