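import Mathlib
import Groth.Prelude.Def_SGA3b
import Groth.Agent.Helper2.HensHomD
import Groth.Agent.Helper2.HopfTors7
import Groth.Agent.Helper2.GLSep3

/-!
# SGA3 X: homomorphisms from a group of multiplicative type over a henselian local ring and over
its completion
-/

set_option autoImplicit false
set_option linter.style.haveILetI false

namespace Groth.Agent.Helper2.HensHom
open TensorProduct IsLocalRing Groth.Agent.Helper2.MultTypeSemi Groth.Agent.Helper2.SemiIso SGA3b

universe u

/-- a faithfully flat finite free algebra over a local ring has a linear retraction -/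
lemma exists_retraction (A : Type u) [CommRing A] [IsLocalRing A] (A1 : Type u) [CommRing A1]
    [Algebra A A1] [Module.Finite A A1] [Module.FaithfullyFlat A A1] :
    ∃ ρ : A1 →ₗ[A] A, ρ 1 = 1 := by
  classical
  haveI : Module.Free A A1 := Module.free_of_flat_of_isLocalRing
  let w := Module.Free.chooseBasis A A1
  by_cases h : ∃ i, IsUnit (w.repr 1 i)
  · obtain ⟨i, hi⟩ := h
    obtain ⟨v, hv⟩ := hi
    refine ⟨(↑v⁻¹ : A) • w.coord i, ?_⟩
    rw [LinearMap.smul_apply, Module.Basis.coord_apply, ← hv, smul_eq_mul, Units.inv_mul]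
  · exfalso
    push_neg at h
    have h1 : (1 : A1) ∈ (maximalIdeal A) • (⊤ : Submodule A A1) := by
      rw [← w.linearCombination_repr 1, Finsupp.linearCombination_apply, Finsupp.sum]
      refine Submodule.sum_mem _ (fun i _ => ?_)
      exact Submodule.smul_mem_smul ((mem_maximalIdeal _).2 (h i)) Submodule.mem_top
    have h2 : (maximalIdeal A) • (⊤ : Submodule A A1) = ⊤ := by
      rw [Ideal.smul_top_eq_map] at h1 ⊢
      have h3 : (maximalIdeal A).map (algebraMap A A1) = ⊤ := (Ideal.eq_top_iff_one _).2 h1
      rw [h3]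
      rfl
    exact Module.FaithfullyFlat.submodule_ne_top (maximalIdeal.isMaximal A) h2

/-- an isotrivial group of multiplicative type over a local ring has a projective coordinate
ring -/
lemma projective_of_chart (A : Type u) [CommRing A] [IsLocalRing A] (A1 : Type u) [CommRing A1]
    [Algebra A A1] [Module.Finite A A1] [Module.FaithfullyFlat A A1]
    (B : Type u) [CommRing B] [Algebra A B] (M : Type u) [CommMonoid M]
    (e : A1 ⊗[A] B ≃ₗ[A1] MonoidAlgebra A1 M) : Module.Projective A B := by
  haveI : Module.Free A A1 := Module.free_of_flat_of_isLocalRing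
  haveI : Module.Free A1 (A1 ⊗[A] B) := Module.Free.of_equiv e.symm
  haveI : Module.Free A (A1 ⊗[A] B) := Module.Free.trans (R := A) (S := A1)
  obtain ⟨ρ, hρ⟩ := exists_retraction A A1
  refine Module.Projective.of_split (M := A1 ⊗[A] B) (TensorProduct.mk A A1 B 1)
    ((TensorProduct.lid A B).toLinearMap ∘ₗ ρ.rTensor B) ?_
  ext b
  simp [hρ]

theorem s5288 (A : Type u) [CommRing A] [IsNoetherianRing A] [HenselianLocalRing A]
    (B : Type u) [CommRing B] [HopfAlgebra A B] (hGft : Algebra.FiniteType A B)
    (hG : IsMultType A B)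
    (C : Type u) [CommRing C] [HopfAlgebra A C] (hHft : Algebra.FiniteType A C)
    (hs : IsMultType (IsLocalRing.ResidueField A) (IsLocalRing.ResidueField A ⊗[A] C)) :
    (∀ φ ψ : C →ₐc[A] B, (∀ c : C, (1 : AdicCompletion (IsLocalRing.maximalIdeal A) A) ⊗ₜ[A] (φ c) = (1 : AdicCompletion (IsLocalRing.maximalIdeal A) A) ⊗ₜ[A] (ψ c)) → φ = ψ) ∧
    (∀ φ' : (AdicCompletion (IsLocalRing.maximalIdeal A) A ⊗[A] C) →ₐc[AdicCompletion (IsLocalRing.maximalIdeal A) A] (AdicCompletion (IsLocalRing.maximalIdeal A) A ⊗[A] B),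
      ∃ φ : C →ₐc[A] B, ∀ c : C, φ' ((1 : AdicCompletion (IsLocalRing.maximalIdeal A) A) ⊗ₜ[A] c) = (1 : AdicCompletion (IsLocalRing.maximalIdeal A) A) ⊗ₜ[A] (φ c)) := by
  classical
  haveI hffA' : Module.FaithfullyFlat A (AdicCompletion (maximalIdeal A) A) :=
    Module.FaithfullyFlat.of_flat_of_isLocalHom
  refine ⟨fun φ ψ h => ?_, fun φ' => ?_⟩
  · ext c
    exact Module.FaithfullyFlat.tensorProduct_mk_injective (A := A)
      (B := AdicCompletion (maximalIdeal A) A) B (h c)
  · -- the chart of `B`
    obtain ⟨A1, _, _, het, hfin, hff, M, _, ⟨e⟩⟩ := Groth.Agent.Helper2.HopfTors.s2974 A B hGft hG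
    haveI := hfin
    haveI := hff
    set θB : B →ₐ[A] MonoidAlgebra A1 M :=
      ((e.toBialgHom : A1 ⊗[A] B →ₐ[A1] MonoidAlgebra A1 M).restrictScalars A).comp
        (Algebra.TensorProduct.includeRight : B →ₐ[A] A1 ⊗[A] B) with hθBdef
    have hθB : IsSemiIso A A1 θB :=
      (isSemiIso_includeRight A A1 B).comp A A1 A1 (isSemiIso_bialgEquiv A1 e)
    haveI : Module.Projective A B := projective_of_chart A A1 B M e.toLinearEquiv
    -- the chart of `C` on the closed fibre
    haveI := hHft
    obtain ⟨k', _, _, hk'fin, hk'sep, N, _, hNfg, ⟨e'⟩⟩ :=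
      Groth.Agent.Helper2.GLSep.s2969 (ResidueField A) (ResidueField A ⊗[A] C) inferInstance hs
    letI : Algebra A k' := ((algebraMap (ResidueField A) k').comp
      (algebraMap A (ResidueField A))).toAlgebra
    haveI : IsScalarTower A (ResidueField A) k' := IsScalarTower.of_algebraMap_eq (fun _ => rfl)
    have h1 := isSemiIso_includeRight A (ResidueField A) C
    have h2 := isSemiIso_includeRight (ResidueField A) k' (ResidueField A ⊗[A] C)
    have h12 := h1.comp A (ResidueField A) k' h2
    have h3 := isSemiIso_bialgEquiv k' e'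
    have hθC := h12.comp A k' k' h3
    -- the semilinear map
    let u' : C →ₐ[A] AdicCompletion (maximalIdeal A) A ⊗[A] B :=
      ((φ' : AdicCompletion (maximalIdeal A) A ⊗[A] C →ₐ[AdicCompletion (maximalIdeal A) A]
        AdicCompletion (maximalIdeal A) A ⊗[A] B).restrictScalars A).comp
        (Algebra.TensorProduct.includeRight : C →ₐ[A] AdicCompletion (maximalIdeal A) A ⊗[A] C)
    have hu' : IsSemiCoalg A (AdicCompletion (maximalIdeal A) A) u' :=
      (isSemiCoalg_includeRight A (AdicCompletion (maximalIdeal A) A) C).comp A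
        (AdicCompletion (maximalIdeal A) A) (AdicCompletion (maximalIdeal A) A)
        (isSemiCoalg_bialgHom (AdicCompletion (maximalIdeal A) A) φ')
    have hresf : ∀ x : AdicCompletion (maximalIdeal A) A, ∃ a : A,
        x - algebraMap A (AdicCompletion (maximalIdeal A) A) a ∈
          maximalIdeal (AdicCompletion (maximalIdeal A) A) := by
      intro x
      obtain ⟨y, hy⟩ := (AdicCompletion.residueField_map_bijective A).2 (residue _ x)
      obtain ⟨a, rfl⟩ := residue_surjective y
      refine ⟨a, ?_⟩
      rw [ResidueField.map_residue] at hy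
      rw [← residue_eq_zero_iff, map_sub, hy, sub_self]
    have hdesc := hens_descend A (AdicCompletion (maximalIdeal A) A) hresf A1 θB hθB k' _ hθC
      u' hu'
    -- descent to a bialgebra map
    haveI : Module.FaithfullyFlat A (Π _ : Unit, AdicCompletion (maximalIdeal A) A) :=
      Module.FaithfullyFlat.of_linearEquiv (R := A) (M := AdicCompletion (maximalIdeal A) A)
        (LinearEquiv.funUnique Unit A (AdicCompletion (maximalIdeal A) A))
    obtain ⟨Φ, hΦ⟩ := Groth.Agent.Helper2.HomLift.fam_descent_hom (k := A)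
      (fun _ : Unit => AdicCompletion (maximalIdeal A) A) (fun _ => u') (fun _ => hu') (by
        intro f f' c
        obtain ⟨b, hb⟩ := hdesc c
        rw [hb, LinearMap.rTensor_tmul, LinearMap.rTensor_tmul, AlgHom.toLinearMap_apply,
          AlgHom.toLinearMap_apply, map_one, map_one])
    exact ⟨Φ, fun c => hΦ () c⟩

end Groth.Agent.Helper2.HensHom
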