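import Mathlib
import Groth.Prelude
import Groth.Agent.Helper2.HensQFin
set_option autoImplicit false
universe u
open IsLocalRing TensorProduct

namespace Groth.Agent.Helper2.HensQFin2

open Groth.Agent.Helper2.HensQFin

/-- statement S9458 -/
theorem s9458 (R : Type u) [CommRing R] (S : Type u)
    [CommRing S] [Algebra R S] [Algebra.FiniteType R S] (p : Ideal R) [p.IsPrime] (q : Ideal S)
    [q.IsPrime] [q.LiesOver p] [Algebra.QuasiFiniteAt R q]
    (Rh : Type u) [CommRing Rh] [IsLocalRing Rh] [Algebra (Localization.AtPrime p) Rh]
    [IsLocalHom (algebraMap (Localization.AtPrime p) Rh)]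
    [Hensel.IsHenselization (Localization.AtPrime p) Rh]
    (Sh : Type u) [CommRing Sh] [IsLocalRing Sh] [Algebra (Localization.AtPrime q) Sh]
    [IsLocalHom (algebraMap (Localization.AtPrime q) Sh)]
    [Hensel.IsHenselization (Localization.AtPrime q) Sh]
    [Algebra (Localization.AtPrime p) (Localization.AtPrime q)]
    [IsScalarTower R (Localization.AtPrime p) (Localization.AtPrime q)]
    [Algebra Rh Sh] [Algebra (Localization.AtPrime p) Sh]
    [IsScalarTower (Localization.AtPrime p) Rh Sh]
    [IsScalarTower (Localization.AtPrime p) (Localization.AtPrime q) Sh] :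
    Module.Finite Rh Sh := by
  letI aRRh : Algebra R Rh :=
    ((algebraMap (Localization.AtPrime p) Rh).comp (algebraMap R (Localization.AtPrime p))).toAlgebra
  haveI : IsScalarTower R (Localization.AtPrime p) Rh :=
    IsScalarTower.of_algebraMap_eq (fun _ => rfl)
  letI aSSh : Algebra S Sh :=
    ((algebraMap (Localization.AtPrime q) Sh).comp (algebraMap S (Localization.AtPrime q))).toAlgebra
  haveI : IsScalarTower S (Localization.AtPrime q) Sh :=
    IsScalarTower.of_algebraMap_eq (fun _ => rfl)
  letI aRSh : Algebra R Sh := ((algebraMap S Sh).comp (algebraMap R S)).toAlgebra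
  haveI : IsScalarTower R S Sh := IsScalarTower.of_algebraMap_eq (fun _ => rfl)
  haveI : IsScalarTower R Rh Sh := by
    refine IsScalarTower.of_algebraMap_eq fun r => ?_
    show algebraMap (Localization.AtPrime q) Sh (algebraMap S (Localization.AtPrime q)
        (algebraMap R S r)) =
      algebraMap Rh Sh (algebraMap (Localization.AtPrime p) Rh
        (algebraMap R (Localization.AtPrime p) r))
    rw [← IsScalarTower.algebraMap_apply (Localization.AtPrime p) Rh Sh,
      IsScalarTower.algebraMap_apply (Localization.AtPrime p) (Localization.AtPrime q) Sh,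
      ← IsScalarTower.algebraMap_apply R (Localization.AtPrime p) (Localization.AtPrime q),
      ← IsScalarTower.algebraMap_apply R S (Localization.AtPrime q)]
  -- the map `R_p → S_q` is the canonical one, hence local
  have hpq : algebraMap (Localization.AtPrime p) (Localization.AtPrime q) =
      Localization.localRingHom p q (algebraMap R S) Ideal.LiesOver.over := by
    apply IsLocalization.ringHom_ext p.primeCompl
    refine RingHom.ext fun r => ?_
    simp only [RingHom.comp_apply]
    rw [Localization.localRingHom_to_map,
      ← IsScalarTower.algebraMap_apply R (Localization.AtPrime p) (Localization.AtPrime q),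
      ← IsScalarTower.algebraMap_apply R S (Localization.AtPrime q)]
  haveI hlocpq : IsLocalHom (algebraMap (Localization.AtPrime p) (Localization.AtPrime q)) := by
    rw [hpq]
    exact Localization.isLocalHom_localRingHom _ _ _ _
  haveI hlocRhSh : IsLocalHom (algebraMap Rh Sh) := by
    have h1 : (maximalIdeal Rh).map (algebraMap Rh Sh) ≤ maximalIdeal Sh := by
      rw [← Groth.Agent.S0507.result (Localization.AtPrime p) Rh, Ideal.map_map,
        ← IsScalarTower.algebraMap_eq (Localization.AtPrime p) Rh Sh,
        IsScalarTower.algebraMap_eq (Localization.AtPrime p) (Localization.AtPrime q) Sh]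
      have hloc : IsLocalHom ((algebraMap (Localization.AtPrime q) Sh).comp
          (algebraMap (Localization.AtPrime p) (Localization.AtPrime q))) :=
        RingHom.isLocalHom_comp _ _
      have h2 := (local_hom_TFAE ((algebraMap (Localization.AtPrime q) Sh).comp
          (algebraMap (Localization.AtPrime p) (Localization.AtPrime q)))).out 0 2
      exact h2.mp hloc
    have h3 := (local_hom_TFAE (algebraMap Rh Sh)).out 0 2
    exact h3.mpr h1
  haveI hRh : HenselianLocalRing Rh := Hensel.IsHenselization.henselian (Localization.AtPrime p)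
  let φ : Rh ⊗[R] S →ₐ[R] Sh := Algebra.TensorProduct.lift (IsScalarTower.toAlgHom R Rh Sh)
    (IsScalarTower.toAlgHom R S Sh) (fun _ _ => Commute.all _ _)
  have hφl : ∀ x : Rh, φ (x ⊗ₜ 1) = algebraMap Rh Sh x := fun x => by simp [φ]
  have hφr : ∀ y : S, φ (1 ⊗ₜ y) = algebraMap S Sh y := fun y => by simp [φ]
  obtain ⟨hsurj, hfin, hloc⟩ := common R S p q Rh Sh φ hφl hφr
  haveI := hfin
  haveI := hloc
  haveI : HenselianLocalRing (Localization.AtPrime (Ideal.comap φ (maximalIdeal Sh))) :=
    Groth.Agent.Helper3.HensLocal.finite_local Rh _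
  haveI := isHenselization_self (Localization.AtPrime (Ideal.comap φ (maximalIdeal Sh)))
  obtain ⟨e, he⟩ := Groth.Agent.Helper2.HensTens.concrete R S p q Rh Sh φ hφl hφr
    (Localization.AtPrime (Ideal.comap φ (maximalIdeal Sh)))
  exact finite_of_equiv R S p q Rh Sh φ hφl hfin e he

end Groth.Agent.Helper2.HensQFin2
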