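import Mathlib
import Groth.Prelude
import Groth.Agent.Helper2.HensQFin
import Groth.Agent.Helper2.HensTensBij
set_option autoImplicit false
universe u
open IsLocalRing TensorProduct

namespace Groth.Agent.Helper2.HensTensInt

open Groth.Agent.Helper2.HensQFin

theorem exists_inv_of_surjective {C : Type u} [CommRing C] (Q : Ideal C) [Q.IsPrime]
    (h : Function.Surjective (algebraMap C (Localization.AtPrime Q))) (s : C) (hs : s ∉ Q) :
    ∃ t u : C, u ∉ Q ∧ u * (s * t - 1) = 0 := by
  obtain ⟨t, ht⟩ := h (IsLocalization.mk' (Localization.AtPrime Q) (1 : C) (⟨s, hs⟩ : Q.primeCompl))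
  have h1 : algebraMap C (Localization.AtPrime Q) (s * t) = algebraMap C _ 1 := by
    rw [map_mul, ht, map_one]
    exact (IsLocalization.mk'_spec' (Localization.AtPrime Q) (1 : C) (⟨s, hs⟩ : Q.primeCompl)).trans
      (map_one _)
  obtain ⟨u, hu⟩ := (IsLocalization.eq_iff_exists Q.primeCompl (Localization.AtPrime Q)).mp h1
  exact ⟨t, u, u.2, by rw [mul_sub, mul_one, hu, mul_one, sub_self]⟩

/-- local factors of an integral algebra over a henselian local ring -/
theorem exists_inv_integral (H C : Type u) [CommRing H] [HenselianLocalRing H] [CommRing C]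
    [Algebra H C] [Algebra.IsIntegral H C] (Q : Ideal C) [hQ : Q.IsMaximal] (s : C) (hs : s ∉ Q) :
    ∃ t u : C, u ∉ Q ∧ u * (s * t - 1) = 0 := by
  let C₀ : Subalgebra H C := Algebra.adjoin H {s}
  haveI : Module.Finite H C₀ :=
    Module.Finite.iff_fg.mpr (Algebra.IsIntegral.isIntegral (R := H) s).fg_adjoin_singleton
  haveI : Algebra.IsIntegral C₀ C := Algebra.IsIntegral.tower_top (R := H)
  let Q₀ : Ideal C₀ := Q.comap (algebraMap C₀ C)
  haveI : Q₀.IsMaximal := Ideal.isMaximal_comap_of_isIntegral_of_isMaximal Q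
  let s₀ : C₀ := ⟨s, Algebra.subset_adjoin (Set.mem_singleton s)⟩
  have hs₀ : s₀ ∉ Q₀ := fun h => hs h
  obtain ⟨t₀, u₀, hu₀, hut⟩ := Groth.Agent.Helper2.HensFactor.exists_inv H C₀ Q₀ s₀ hs₀
  refine ⟨t₀, u₀, fun h => hu₀ h, ?_⟩
  have := congrArg (algebraMap C₀ C) hut
  simpa [s₀] using this

section Setup

variable (A B : Type u) [CommRing A] [CommRing B] [Algebra A B]
    (pA : Ideal A) [pA.IsPrime] (pB : Ideal B) [pB.IsPrime] [pB.LiesOver pA]
    (Ash : Type u) [CommRing Ash] [IsLocalRing Ash] [Algebra (Localization.AtPrime pA) Ash]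
    [IsLocalHom (algebraMap (Localization.AtPrime pA) Ash)]
    [Hensel.IsStrictHenselization (Localization.AtPrime pA) Ash] [Algebra A Ash]
    [IsScalarTower A (Localization.AtPrime pA) Ash]
    (Bsh : Type u) [CommRing Bsh] [IsLocalRing Bsh] [Algebra (Localization.AtPrime pB) Bsh]
    [IsLocalHom (algebraMap (Localization.AtPrime pB) Bsh)]
    [Hensel.IsStrictHenselization (Localization.AtPrime pB) Bsh] [Algebra B Bsh]
    [IsScalarTower B (Localization.AtPrime pB) Bsh] [Algebra A Bsh] [IsScalarTower A B Bsh]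
    [Algebra Ash Bsh] [IsScalarTower A Ash Bsh] [IsLocalHom (algebraMap Ash Bsh)]

/-- the comparison map `Ash ⊗ B → Bsh` -/
noncomputable def phi : Ash ⊗[A] B →ₐ[A] Bsh :=
  Algebra.TensorProduct.lift (IsScalarTower.toAlgHom A Ash Bsh)
    (IsScalarTower.toAlgHom A B Bsh) (fun _ _ => Commute.all _ _)

omit [IsLocalRing Ash] [IsLocalRing Bsh] [IsLocalHom (algebraMap Ash Bsh)] in
theorem phi_left (x : Ash) : phi A B Ash Bsh (x ⊗ₜ 1) = algebraMap Ash Bsh x := by simp [phi]

omit [IsLocalRing Ash] [IsLocalRing Bsh] [IsLocalHom (algebraMap Ash Bsh)] in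
theorem phi_right (y : B) : phi A B Ash Bsh (1 ⊗ₜ y) = algebraMap B Bsh y := by simp [phi]

omit [IsLocalHom (algebraMap Ash Bsh)] in
theorem mem_iff (x : Ash) [IsLocalHom (algebraMap Ash Bsh)] :
    algebraMap Ash (Ash ⊗[A] B) x ∈ Ideal.comap (phi A B Ash Bsh) (maximalIdeal Bsh) ↔
      x ∈ maximalIdeal Ash := by
  change phi A B Ash Bsh (x ⊗ₜ 1) ∈ maximalIdeal Bsh ↔ _
  rw [phi_left]
  constructor
  · intro h hx
    exact h (hx.map _)
  · intro h hx
    exact h (isUnit_of_map_unit (algebraMap Ash Bsh) x hx)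

theorem isMaximal_Q [Algebra.IsIntegral Ash (Ash ⊗[A] B)] :
    (Ideal.comap (phi A B Ash Bsh) (maximalIdeal Bsh)).IsMaximal := by
  refine Ideal.isMaximal_of_isIntegral_of_isMaximal_comap (R := Ash) _ ?_
  have : (Ideal.comap (phi A B Ash Bsh) (maximalIdeal Bsh)).comap
      (algebraMap Ash (Ash ⊗[A] B)) = maximalIdeal Ash := by
    ext x
    exact mem_iff A B Ash Bsh x
  rw [this]
  exact maximalIdeal.isMaximal Ash

include pA pB in
/-- if the local ring of `Ash ⊗ B` is an integral quotient, then `Bsh` is integral over `Ash`. -/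
theorem isIntegral_of_quotient
    (hint : Algebra.IsIntegral Ash
      (Localization.AtPrime (Ideal.comap (phi A B Ash Bsh) (maximalIdeal Bsh)))) :
    Algebra.IsIntegral Ash Bsh := by
  haveI hAsh : HenselianLocalRing Ash :=
    Hensel.IsStrictHenselization.henselian (Localization.AtPrime pA)
  haveI : IsSepClosed (ResidueField Ash) :=
    (Hensel.IsStrictHenselization.isSepClosure (R := Localization.AtPrime pA) (S := Ash)).sep_closed
  haveI hloc : IsLocalHom (algebraMap Ash
      (Localization.AtPrime (Ideal.comap (phi A B Ash Bsh) (maximalIdeal Bsh)))) := by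
    refine ⟨fun x hx => ?_⟩
    by_contra hnu
    have h1 : x ∈ maximalIdeal Ash := (mem_maximalIdeal x).mpr hnu
    have h2 := (mem_iff A B Ash Bsh x).mpr h1
    rw [IsScalarTower.algebraMap_apply Ash (Ash ⊗[A] B)
      (Localization.AtPrime (Ideal.comap (phi A B Ash Bsh) (maximalIdeal Bsh)))] at hx
    have h3 := (IsLocalization.AtPrime.to_map_mem_maximal_iff
      (Localization.AtPrime (Ideal.comap (phi A B Ash Bsh) (maximalIdeal Bsh)))
      (Ideal.comap (phi A B Ash Bsh) (maximalIdeal Bsh)) (algebraMap Ash (Ash ⊗[A] B) x)).mpr h2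
    exact h3 hx
  haveI hTh : HenselianLocalRing
      (Localization.AtPrime (Ideal.comap (phi A B Ash Bsh) (maximalIdeal Bsh))) :=
    Groth.Agent.Helper2.HensInt.henselianLocalRing_of_isIntegral Ash _
  haveI : Algebra.IsIntegral (ResidueField Ash) (ResidueField
      (Localization.AtPrime (Ideal.comap (phi A B Ash Bsh) (maximalIdeal Bsh)))) := by
    refine ⟨fun z => ?_⟩
    obtain ⟨x, rfl⟩ := residue_surjective z
    refine (Algebra.IsIntegral.isIntegral (R := Ash) x).map_of_comp_eq (residue Ash)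
      (residue _) ?_
    ext a
    rfl
  haveI : Algebra.IsAlgebraic (ResidueField Ash) (ResidueField
      (Localization.AtPrime (Ideal.comap (phi A B Ash Bsh) (maximalIdeal Bsh)))) := inferInstance
  haveI : IsSepClosed (ResidueField
      (Localization.AtPrime (Ideal.comap (phi A B Ash Bsh) (maximalIdeal Bsh)))) :=
    Groth.Agent.Helper3.StrictHensFinite.isSepClosed_of_isAlgebraic (ResidueField Ash) _
  haveI := isStrictHenselization_self
    (Localization.AtPrime (Ideal.comap (phi A B Ash Bsh) (maximalIdeal Bsh)))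
  obtain ⟨e, he⟩ := Groth.Agent.Helper2.HensTensS.concrete A B pA pB Ash Bsh (phi A B Ash Bsh)
    (phi_left A B Ash Bsh) (phi_right A B Ash Bsh)
    (Localization.AtPrime (Ideal.comap (phi A B Ash Bsh) (maximalIdeal Bsh)))
  refine ⟨fun y => ?_⟩
  obtain ⟨t, rfl⟩ := e.surjective y
  refine (Algebra.IsIntegral.isIntegral (R := Ash) t).map_of_comp_eq (RingHom.id Ash)
    (e : _ →+* Bsh) ?_
  ext x
  simp only [RingHom.comp_apply, RingHom.id_apply]
  rw [IsScalarTower.algebraMap_apply Ash (Ash ⊗[A] B)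
    (Localization.AtPrime (Ideal.comap (phi A B Ash Bsh) (maximalIdeal Bsh)))]
  exact (phi_left A B Ash Bsh x).symm.trans (he _).symm

include pA pB in
/-- integral case -/
theorem isIntegral_of_isIntegral [Algebra.IsIntegral A B] : Algebra.IsIntegral Ash Bsh := by
  haveI hAsh : HenselianLocalRing Ash :=
    Hensel.IsStrictHenselization.henselian (Localization.AtPrime pA)
  haveI hQ := isMaximal_Q A B Ash Bsh
  apply isIntegral_of_quotient A B pA pB Ash Bsh
  have hsurj : Function.Surjective (algebraMap (Ash ⊗[A] B)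
      (Localization.AtPrime (Ideal.comap (phi A B Ash Bsh) (maximalIdeal Bsh)))) :=
    surjective_of_exists_inv _ (fun s hs => exists_inv_integral Ash (Ash ⊗[A] B) _ s hs)
  exact Algebra.IsIntegral.of_surjective
    (IsScalarTower.toAlgHom Ash (Ash ⊗[A] B)
      (Localization.AtPrime (Ideal.comap (phi A B Ash Bsh) (maximalIdeal Bsh)))) hsurj

end Setup

end Groth.Agent.Helper2.HensTensInt
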