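import Mathlib
import Groth.Prelude
import Groth.Agent.Helper2.HensTensInt
set_option autoImplicit false
universe u
open IsLocalRing TensorProduct

namespace Groth.Agent.Helper2.HensTensInt

open Groth.Agent.Helper2.HensQFin

section Setup

variable (A B : Type u) [CommRing A] [CommRing B] [Algebra A B]
    (pA : Ideal A) [pA.IsPrime] (pB : Ideal B) [pB.IsPrime] [pB.LiesOver pA]
    (Ash : Type u) [CommRing Ash] [IsLocalRing Ash] [Algebra (Localization.AtPrime pA) Ash]
    [IsLocalHom (algebraMap (Localization.AtPrime pA) Ash)]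
    [Hensel.IsStrictHenselization (Localization.AtPrime pA) Ash] [Algebra A Ash]
    [IsScalarTower A (Localization.AtPrime pA) Ash]
    (Bsh : Type u) [CommRing Bsh] [IsLocalRing Bsh] [Algebra (Localization.AtPrime pB) Bsh]
    [IsLocalHom (algebraMap (Localization.AtPrime pB) Bsh)]
    [Hensel.IsStrictHenselization (Localization.AtPrime pB) Bsh] [Algebra B Bsh]
    [IsScalarTower B (Localization.AtPrime pB) Bsh] [Algebra A Bsh] [IsScalarTower A B Bsh]
    [Algebra Ash Bsh] [IsScalarTower A Ash Bsh] [IsLocalHom (algebraMap Ash Bsh)]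

/-- the transition map `Ash ⊗ B₀ → Ash ⊗ B` -/
noncomputable def incl (B₀ : Subalgebra A B) : Ash ⊗[A] B₀ →ₐ[Ash] Ash ⊗[A] B :=
  Algebra.TensorProduct.map (AlgHom.id Ash Ash) B₀.val

omit [IsLocalRing Ash] in
theorem exists_mem_range (hB : ∀ s : Finset B, ∃ B₀ : Subalgebra A B, (↑s : Set B) ⊆ ↑B₀ ∧
      Algebra.FiniteType A ↥B₀ ∧ Algebra.QuasiFinite A ↥B₀) (c : Ash ⊗[A] B) :
    ∃ B₀ : Subalgebra A B, Algebra.FiniteType A ↥B₀ ∧ Algebra.QuasiFinite A ↥B₀ ∧
      ∃ c₀ : Ash ⊗[A] B₀, incl A B Ash B₀ c₀ = c := by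
  classical
  obtain ⟨S, rfl⟩ := TensorProduct.exists_finset c
  obtain ⟨B₀, hsub, hft, hqf⟩ := hB (S.image Prod.snd)
  refine ⟨B₀, hft, hqf, ?_⟩
  have hmem : ∀ i ∈ S, i.2 ∈ B₀ := fun i hi =>
    hsub (Finset.mem_coe.mpr (Finset.mem_image_of_mem Prod.snd hi))
  refine ⟨∑ i ∈ S.attach, i.1.1 ⊗ₜ[A] (⟨i.1.2, hmem i.1 i.2⟩ : B₀), ?_⟩
  rw [map_sum]
  conv_rhs => rw [← Finset.sum_attach]
  refine Finset.sum_congr rfl fun i _ => ?_
  simp [incl]

omit [IsLocalRing Bsh] [IsLocalHom (algebraMap Ash Bsh)] [IsLocalRing Ash] in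
theorem phi_incl (B₀ : Subalgebra A B) (x : Ash ⊗[A] B₀) :
    phi A B Ash Bsh (incl A B Ash B₀ x) =
      Algebra.TensorProduct.lift (IsScalarTower.toAlgHom A Ash Bsh)
        ((IsScalarTower.toAlgHom A B Bsh).comp B₀.val) (fun _ _ => Commute.all _ _) x := by
  induction x using TensorProduct.induction_on with
  | zero => simp
  | tmul a b => simp [phi, incl]
  | add x y hx hy => simp only [map_add, hx, hy]

include pA pB in
/-- the directed-union-of-quasi-finite case -/
theorem isIntegral_of_indQF (hB : ∀ s : Finset B, ∃ B₀ : Subalgebra A B, (↑s : Set B) ⊆ ↑B₀ ∧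
      Algebra.FiniteType A ↥B₀ ∧ Algebra.QuasiFinite A ↥B₀) : Algebra.IsIntegral Ash Bsh := by
  haveI hAsh : HenselianLocalRing Ash :=
    Hensel.IsStrictHenselization.henselian (Localization.AtPrime pA)
  apply isIntegral_of_quotient A B pA pB Ash Bsh
  -- local data for each `B₀`
  have key : ∀ (B₀ : Subalgebra A B), Algebra.FiniteType A ↥B₀ → Algebra.QuasiFinite A ↥B₀ →
      Function.Surjective (algebraMap (Ash ⊗[A] B₀) (Localization.AtPrime
        (Ideal.comap (incl A B Ash B₀) (Ideal.comap (phi A B Ash Bsh) (maximalIdeal Bsh))))) ∧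
      Module.Finite Ash (Localization.AtPrime
        (Ideal.comap (incl A B Ash B₀) (Ideal.comap (phi A B Ash Bsh) (maximalIdeal Bsh)))) := by
    intro B₀ hft hqf
    haveI := hft
    haveI := hqf
    haveI : (Ideal.comap (incl A B Ash B₀)
        (Ideal.comap (phi A B Ash Bsh) (maximalIdeal Bsh))).LiesOver (maximalIdeal Ash) := by
      refine ⟨?_⟩
      ext x
      rw [Ideal.under, Ideal.mem_comap, Ideal.mem_comap, AlgHom.commutes]
      exact (mem_iff A B Ash Bsh x).symm
    exact qf_local_factor Ash (Ash ⊗[A] B₀) _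
  have hsurj : Function.Surjective (algebraMap (Ash ⊗[A] B)
      (Localization.AtPrime (Ideal.comap (phi A B Ash Bsh) (maximalIdeal Bsh)))) := by
    refine surjective_of_exists_inv _ (fun s hs => ?_)
    obtain ⟨B₀, hft, hqf, s₀, rfl⟩ := exists_mem_range A B Ash hB s
    obtain ⟨t₀, u₀, hu₀, hut⟩ := exists_inv_of_surjective _ (key B₀ hft hqf).1 s₀ hs
    refine ⟨incl A B Ash B₀ t₀, incl A B Ash B₀ u₀, hu₀, ?_⟩
    have := congrArg (incl A B Ash B₀) hut
    simpa using this
  refine ⟨fun x => ?_⟩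
  obtain ⟨c, rfl⟩ := hsurj x
  obtain ⟨B₀, hft, hqf, c₀, rfl⟩ := exists_mem_range A B Ash hB c
  haveI := (key B₀ hft hqf).2
  have hunit : ∀ y : (Ideal.comap (incl A B Ash B₀)
      (Ideal.comap (phi A B Ash Bsh) (maximalIdeal Bsh))).primeCompl,
      IsUnit (((algebraMap (Ash ⊗[A] B) (Localization.AtPrime
        (Ideal.comap (phi A B Ash Bsh) (maximalIdeal Bsh)))).comp
          (incl A B Ash B₀ : Ash ⊗[A] B₀ →+* Ash ⊗[A] B)) y) := by
    intro y
    exact IsLocalization.map_units (M := (Ideal.comap (phi A B Ash Bsh) (maximalIdeal Bsh)).primeCompl)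
      (Localization.AtPrime (Ideal.comap (phi A B Ash Bsh) (maximalIdeal Bsh)))
      ⟨incl A B Ash B₀ y, y.2⟩
  have hint : IsIntegral Ash (algebraMap (Ash ⊗[A] B₀) (Localization.AtPrime
        (Ideal.comap (incl A B Ash B₀) (Ideal.comap (phi A B Ash Bsh) (maximalIdeal Bsh)))) c₀) :=
    Algebra.IsIntegral.isIntegral _
  have := hint.map_of_comp_eq (RingHom.id Ash) (IsLocalization.lift hunit) (by
    ext a
    simp only [RingHom.comp_apply, RingHom.id_apply]
    rw [IsScalarTower.algebraMap_apply Ash (Ash ⊗[A] B₀) (Localization.AtPrime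
        (Ideal.comap (incl A B Ash B₀) (Ideal.comap (phi A B Ash Bsh) (maximalIdeal Bsh)))),
      IsLocalization.lift_eq]
    simp only [RingHom.comp_apply, RingHom.coe_coe, AlgHom.commutes]
    exact (IsScalarTower.algebraMap_apply Ash (Ash ⊗[A] B) _ a).symm)
  rw [IsLocalization.lift_eq] at this
  exact this

end Setup

end Groth.Agent.Helper2.HensTensInt
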