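import Mathlib
import Groth.Prelude
import Groth.Agent.Helper2.HensTensInt2
set_option autoImplicit false
universe u
open IsLocalRing TensorProduct

namespace Groth.Agent.Helper2.HensTensInt

open Groth.Agent.Helper2.HensQFin

/-- abstract local factor lemma: an algebra over a henselian local ring which is "covered" by
quasi-finite algebras of finite type has integral local factors at primes over the closed point. -/
theorem integral_local_factor (H C : Type u) [CommRing H] [HenselianLocalRing H] [CommRing C]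
    [Algebra H C] (Q : Ideal C) [Q.IsPrime] [hQ : Q.LiesOver (maximalIdeal H)]
    (hC : ∀ c : C, ∃ (C₀ : Type u) (_ : CommRing C₀) (_ : Algebra H C₀)
      (_ : Algebra.FiniteType H C₀) (_ : Algebra.QuasiFinite H C₀) (ι : C₀ →ₐ[H] C),
      ∃ c₀, ι c₀ = c) :
    Function.Surjective (algebraMap C (Localization.AtPrime Q)) ∧
      Algebra.IsIntegral H (Localization.AtPrime Q) := by
  have key : ∀ (C₀ : Type u) [CommRing C₀] [Algebra H C₀]
      [Algebra.FiniteType H C₀] [Algebra.QuasiFinite H C₀] (ι : C₀ →ₐ[H] C),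
      Function.Surjective (algebraMap C₀ (Localization.AtPrime (Ideal.comap ι Q))) ∧
      Module.Finite H (Localization.AtPrime (Ideal.comap ι Q)) := by
    intro C₀ _ _ _ _ ι
    haveI : (Ideal.comap ι Q).LiesOver (maximalIdeal H) := by
      refine ⟨?_⟩
      ext x
      rw [Ideal.under, Ideal.mem_comap, Ideal.mem_comap, AlgHom.commutes, hQ.over]
      rfl
    exact qf_local_factor H C₀ _
  have hsurj : Function.Surjective (algebraMap C (Localization.AtPrime Q)) := by
    refine surjective_of_exists_inv _ (fun s hs => ?_)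
    obtain ⟨C₀, _, _, _, _, ι, s₀, rfl⟩ := hC s
    obtain ⟨t₀, u₀, hu₀, hut⟩ := exists_inv_of_surjective _ (key C₀ ι).1 s₀ hs
    refine ⟨ι t₀, ι u₀, hu₀, ?_⟩
    have := congrArg ι hut
    simpa using this
  refine ⟨hsurj, ⟨fun x => ?_⟩⟩
  obtain ⟨c, rfl⟩ := hsurj x
  obtain ⟨C₀, _, _, _, _, ι, c₀, rfl⟩ := hC c
  haveI := (key C₀ ι).2
  have hunit : ∀ y : (Ideal.comap ι Q).primeCompl,
      IsUnit (((algebraMap C (Localization.AtPrime Q)).comp (ι : C₀ →+* C)) y) := by
    intro y
    exact IsLocalization.map_units (M := Q.primeCompl) (Localization.AtPrime Q) ⟨ι y, y.2⟩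
  have hint : IsIntegral H (algebraMap C₀ (Localization.AtPrime (Ideal.comap ι Q)) c₀) :=
    Algebra.IsIntegral.isIntegral _
  have := hint.map_of_comp_eq (RingHom.id H) (IsLocalization.lift hunit) (by
    ext a
    simp only [RingHom.comp_apply, RingHom.id_apply]
    rw [IsScalarTower.algebraMap_apply H C₀ (Localization.AtPrime (Ideal.comap ι Q)),
      IsLocalization.lift_eq]
    simp only [RingHom.comp_apply, RingHom.coe_coe, AlgHom.commutes]
    exact (IsScalarTower.algebraMap_apply H C _ a).symm)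
  rw [IsLocalization.lift_eq] at this
  exact this

section Local

variable (P L : Type u) [CommRing P] [CommRing L] [IsLocalRing P] [IsLocalRing L] [Algebra P L]
    [IsLocalHom (algebraMap P L)]
    (Rh : Type u) [CommRing Rh] [IsLocalRing Rh] [Algebra P Rh] [IsLocalHom (algebraMap P Rh)]
    [Hensel.IsStrictHenselization P Rh]
    (Sh : Type u) [CommRing Sh] [IsLocalRing Sh] [Algebra L Sh] [IsLocalHom (algebraMap L Sh)]
    [Hensel.IsStrictHenselization L Sh]
    [Algebra P Sh] [IsScalarTower P L Sh] [Algebra Rh Sh] [IsScalarTower P Rh Sh]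

/-- local version of `HensTensS.concrete`. -/
theorem concrete_local (φ : Rh ⊗[P] L →ₐ[P] Sh)
    (hφr : ∀ y : L, φ (1 ⊗ₜ y) = algebraMap L Sh y)
    (E : Type u) [CommRing E] [IsLocalRing E]
    [Algebra (Localization.AtPrime (Ideal.comap φ (IsLocalRing.maximalIdeal Sh))) E]
    [IsLocalHom (algebraMap (Localization.AtPrime (Ideal.comap φ (IsLocalRing.maximalIdeal Sh))) E)]
    [Hensel.IsStrictHenselization (Localization.AtPrime (Ideal.comap φ (IsLocalRing.maximalIdeal Sh))) E] :
    ∃ e : E ≃+* Sh, ∀ d : Rh ⊗[P] L,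
      e (algebraMap (Localization.AtPrime (Ideal.comap φ (IsLocalRing.maximalIdeal Sh))) E
        (algebraMap (Rh ⊗[P] L) _ d)) = φ d := by
  let incR : L →+* Rh ⊗[P] L := (Algebra.TensorProduct.includeRight : L →ₐ[P] Rh ⊗[P] L).toRingHom
  let incL : Rh →+* Rh ⊗[P] L := (Algebra.TensorProduct.includeLeft : Rh →ₐ[P] Rh ⊗[P] L).toRingHom
  let a : P →+* L := algebraMap P L
  haveI : IsLocalHom a := inferInstanceAs (IsLocalHom (algebraMap P L))
  let σ : L →+* Localization.AtPrime (Ideal.comap φ (IsLocalRing.maximalIdeal Sh)) :=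
    (algebraMap (Rh ⊗[P] L)
      (Localization.AtPrime (Ideal.comap φ (IsLocalRing.maximalIdeal Sh)))).comp incR
  haveI : IsLocalHom σ := by
    refine ⟨fun y hy => ?_⟩
    by_contra hnu
    have h1 : algebraMap L Sh y ∈ maximalIdeal Sh := by
      rw [mem_maximalIdeal]
      intro hu
      exact hnu (isUnit_of_map_unit (algebraMap L Sh) y hu)
    have h2 : incR y ∈ Ideal.comap φ (IsLocalRing.maximalIdeal Sh) := by
      change φ (1 ⊗ₜ y) ∈ maximalIdeal Sh
      rw [hφr]
      exact h1
    have h3 := (IsLocalization.AtPrime.to_map_mem_maximal_iff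
      (Localization.AtPrime (Ideal.comap φ (maximalIdeal Sh)))
      (Ideal.comap φ (maximalIdeal Sh)) (incR y)).mpr h2
    exact h3 hy
  let ρ : Rh →+* Localization.AtPrime (Ideal.comap φ (IsLocalRing.maximalIdeal Sh)) :=
    (algebraMap (Rh ⊗[P] L)
      (Localization.AtPrime (Ideal.comap φ (IsLocalRing.maximalIdeal Sh)))).comp incL
  have hunits : ∀ y : (Ideal.comap φ (IsLocalRing.maximalIdeal Sh)).primeCompl,
      IsUnit (φ.toRingHom y) := by
    intro y
    have hy : φ (y : Rh ⊗[P] L) ∉ maximalIdeal Sh := y.2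
    by_contra hnu
    exact hy hnu
  let ψ : Localization.AtPrime (Ideal.comap φ (IsLocalRing.maximalIdeal Sh)) →+* Sh :=
    IsLocalization.lift (M := (Ideal.comap φ (IsLocalRing.maximalIdeal Sh)).primeCompl) hunits
  have hψeq : ∀ d, ψ (algebraMap (Rh ⊗[P] L)
      (Localization.AtPrime (Ideal.comap φ (IsLocalRing.maximalIdeal Sh))) d) = φ d := fun d =>
    IsLocalization.lift_eq hunits d
  haveI : IsLocalHom ψ := by
    constructor
    intro x hx
    obtain ⟨d, s, rfl⟩ := IsLocalization.exists_mk'_eq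
      (Ideal.comap φ (IsLocalRing.maximalIdeal Sh)).primeCompl x
    have h1 : ψ (IsLocalization.mk' (Localization.AtPrime
        (Ideal.comap φ (IsLocalRing.maximalIdeal Sh))) d s) * φ s = φ d := by
      rw [← hψeq s, ← map_mul, IsLocalization.mk'_spec, hψeq]
    have h2 : IsUnit (φ d) := by
      rw [← h1]
      exact hx.mul (hunits s)
    have hd : d ∉ (Ideal.comap φ (IsLocalRing.maximalIdeal Sh)) := by
      intro hm
      have hm' : φ d ∈ maximalIdeal Sh := hm
      exact hm' h2
    have h3 : IsUnit (algebraMap (Rh ⊗[P] L)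
        (Localization.AtPrime (Ideal.comap φ (IsLocalRing.maximalIdeal Sh))) d) :=
      IsLocalization.map_units _
        (⟨d, hd⟩ : (Ideal.comap φ (IsLocalRing.maximalIdeal Sh)).primeCompl)
    rw [← IsLocalization.mk'_spec (Localization.AtPrime
      (Ideal.comap φ (IsLocalRing.maximalIdeal Sh))) d s] at h3
    exact isUnit_of_mul_isUnit_left h3
  have hσeq : ∀ y : L, σ y =
      algebraMap (Rh ⊗[P] L) (Localization.AtPrime
        (Ideal.comap φ (IsLocalRing.maximalIdeal Sh))) (1 ⊗ₜ y) := fun y => rfl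
  have hρ : ρ.comp (algebraMap P Rh) = σ.comp a := by
    refine RingHom.ext fun r => ?_
    simp only [RingHom.comp_apply]
    rw [hσeq]
    have key : (algebraMap P Rh r) ⊗ₜ[P] (1 : L) = (1 : Rh) ⊗ₜ[P] (algebraMap P L r) := by
      rw [Algebra.algebraMap_eq_smul_one, Algebra.algebraMap_eq_smul_one, TensorProduct.smul_tmul]
    show algebraMap (Rh ⊗[P] L) _ ((algebraMap P Rh r) ⊗ₜ[P] (1 : L)) = _
    rw [key]
  haveI : IsLocalHom ρ := by
    have h1 : (maximalIdeal Rh).map ρ ≤
        maximalIdeal (Localization.AtPrime (Ideal.comap φ (IsLocalRing.maximalIdeal Sh))) := by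
      rw [← Groth.Agent.S0538.result P Rh, Ideal.map_map, hρ]
      have hloc : IsLocalHom (σ.comp a) := RingHom.isLocalHom_comp _ _
      have h2 := (local_hom_TFAE (σ.comp a)).out 0 2
      exact h2.mp hloc
    have h3 := (local_hom_TFAE ρ).out 0 2
    exact h3.mpr h1
  have hψ : ψ.comp σ = algebraMap L Sh := by
    refine RingHom.ext fun y => ?_
    simp only [RingHom.comp_apply]
    rw [hσeq, hψeq, hφr]
  have hepi : ∀ (u v : Localization.AtPrime (Ideal.comap φ (IsLocalRing.maximalIdeal Sh)) →+* E),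
      u.comp ρ = v.comp ρ → u.comp σ = v.comp σ → u = v := by
    intro u v h1 h2
    apply IsLocalization.ringHom_ext (Ideal.comap φ (IsLocalRing.maximalIdeal Sh)).primeCompl
    refine RingHom.ext fun d => ?_
    simp only [RingHom.comp_apply]
    induction d using TensorProduct.induction_on with
    | zero => simp
    | tmul x y =>
      have hxy : x ⊗ₜ[P] y = (x ⊗ₜ[P] (1 : L)) * ((1 : Rh) ⊗ₜ[P] y) := by
        rw [Algebra.TensorProduct.tmul_mul_tmul, mul_one, one_mul]
      rw [hxy, map_mul, map_mul, map_mul]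
      have e1 : u (algebraMap (Rh ⊗[P] L) _ (x ⊗ₜ 1)) = v (algebraMap (Rh ⊗[P] L) _ (x ⊗ₜ 1)) :=
        congrArg (fun k => k x) h1
      have e2 : u (algebraMap (Rh ⊗[P] L) _ (1 ⊗ₜ y)) = v (algebraMap (Rh ⊗[P] L) _ (1 ⊗ₜ y)) :=
        congrArg (fun k => k y) h2
      rw [e1, e2]
    | add d₁ d₂ hd₁ hd₂ => rw [map_add, map_add, map_add, hd₁, hd₂]
  obtain ⟨e, he⟩ := Groth.Agent.Helper2.HensTensS.abstract_equiv (P := P) (L := L)
    (T := Localization.AtPrime (Ideal.comap φ (IsLocalRing.maximalIdeal Sh)))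
    (Rh := Rh) (Sh := Sh) (E := E) a σ ρ hρ ψ hψ hepi
  exact ⟨e, fun d => by rw [he, hψeq]⟩

/-- local version of `isIntegral_of_quotient`. -/
theorem isIntegral_of_quotient_local [IsLocalHom (algebraMap Rh Sh)]
    (hint : Algebra.IsIntegral Rh
      (Localization.AtPrime (Ideal.comap (phi P L Rh Sh) (maximalIdeal Sh)))) :
    Algebra.IsIntegral Rh Sh := by
  haveI hRh : HenselianLocalRing Rh := Hensel.IsStrictHenselization.henselian P
  haveI : IsSepClosed (ResidueField Rh) :=
    (Hensel.IsStrictHenselization.isSepClosure (R := P) (S := Rh)).sep_closed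
  haveI hloc : IsLocalHom (algebraMap Rh
      (Localization.AtPrime (Ideal.comap (phi P L Rh Sh) (maximalIdeal Sh)))) := by
    refine ⟨fun x hx => ?_⟩
    by_contra hnu
    have h1 : x ∈ maximalIdeal Rh := (mem_maximalIdeal x).mpr hnu
    have h2 := (mem_iff P L Rh Sh x).mpr h1
    rw [IsScalarTower.algebraMap_apply Rh (Rh ⊗[P] L)
      (Localization.AtPrime (Ideal.comap (phi P L Rh Sh) (maximalIdeal Sh)))] at hx
    have h3 := (IsLocalization.AtPrime.to_map_mem_maximal_iff
      (Localization.AtPrime (Ideal.comap (phi P L Rh Sh) (maximalIdeal Sh)))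
      (Ideal.comap (phi P L Rh Sh) (maximalIdeal Sh)) (algebraMap Rh (Rh ⊗[P] L) x)).mpr h2
    exact h3 hx
  haveI hTh : HenselianLocalRing
      (Localization.AtPrime (Ideal.comap (phi P L Rh Sh) (maximalIdeal Sh))) :=
    Groth.Agent.Helper2.HensInt.henselianLocalRing_of_isIntegral Rh _
  haveI : Algebra.IsIntegral (ResidueField Rh) (ResidueField
      (Localization.AtPrime (Ideal.comap (phi P L Rh Sh) (maximalIdeal Sh)))) := by
    refine ⟨fun z => ?_⟩
    obtain ⟨x, rfl⟩ := residue_surjective z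
    refine (Algebra.IsIntegral.isIntegral (R := Rh) x).map_of_comp_eq (residue Rh)
      (residue _) ?_
    ext a
    rfl
  haveI : Algebra.IsAlgebraic (ResidueField Rh) (ResidueField
      (Localization.AtPrime (Ideal.comap (phi P L Rh Sh) (maximalIdeal Sh)))) := inferInstance
  haveI : IsSepClosed (ResidueField
      (Localization.AtPrime (Ideal.comap (phi P L Rh Sh) (maximalIdeal Sh)))) :=
    Groth.Agent.Helper3.StrictHensFinite.isSepClosed_of_isAlgebraic (ResidueField Rh) _
  haveI := isStrictHenselization_self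
    (Localization.AtPrime (Ideal.comap (phi P L Rh Sh) (maximalIdeal Sh)))
  obtain ⟨e, he⟩ := concrete_local P L Rh Sh (phi P L Rh Sh) (phi_right P L Rh Sh)
    (Localization.AtPrime (Ideal.comap (phi P L Rh Sh) (maximalIdeal Sh)))
  refine ⟨fun y => ?_⟩
  obtain ⟨t, rfl⟩ := e.surjective y
  refine (Algebra.IsIntegral.isIntegral (R := Rh) t).map_of_comp_eq (RingHom.id Rh)
    (e : _ →+* Sh) ?_
  ext x
  simp only [RingHom.comp_apply, RingHom.id_apply]
  rw [IsScalarTower.algebraMap_apply Rh (Rh ⊗[P] L)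
    (Localization.AtPrime (Ideal.comap (phi P L Rh Sh) (maximalIdeal Sh)))]
  exact (phi_left P L Rh Sh x).symm.trans (he _).symm

/-- local version of `isIntegral_of_indQF`. -/
theorem isIntegral_of_indQF_local [IsLocalHom (algebraMap Rh Sh)]
    (hL : ∀ s : Finset L, ∃ L₀ : Subalgebra P L, (↑s : Set L) ⊆ ↑L₀ ∧
      Algebra.FiniteType P ↥L₀ ∧ Algebra.QuasiFinite P ↥L₀) : Algebra.IsIntegral Rh Sh := by
  haveI hRh : HenselianLocalRing Rh := Hensel.IsStrictHenselization.henselian P
  apply isIntegral_of_quotient_local P L Rh Sh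
  haveI : (Ideal.comap (phi P L Rh Sh) (maximalIdeal Sh)).LiesOver (maximalIdeal Rh) := by
    refine ⟨?_⟩
    ext x
    rw [Ideal.under, Ideal.mem_comap]
    exact (mem_iff P L Rh Sh x).symm
  refine (integral_local_factor Rh (Rh ⊗[P] L) _ (fun c => ?_)).2
  obtain ⟨L₀, hft, hqf, c₀, hc₀⟩ := exists_mem_range P L Rh hL c
  haveI := hft
  haveI := hqf
  exact ⟨Rh ⊗[P] L₀, inferInstance, inferInstance, inferInstance, inferInstance,
    incl P L Rh L₀, c₀, hc₀⟩

end Local

section S9473

theorem isLocalHom_loc (A B : Type u) [CommRing A] [CommRing B] [Algebra A B]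
    (pA : Ideal A) [pA.IsPrime] (pB : Ideal B) [pB.IsPrime] [pB.LiesOver pA]
    [Algebra (Localization.AtPrime pA) (Localization.AtPrime pB)]
    [IsScalarTower A (Localization.AtPrime pA) (Localization.AtPrime pB)] :
    IsLocalHom (algebraMap (Localization.AtPrime pA) (Localization.AtPrime pB)) := by
  have h3 := (local_hom_TFAE (algebraMap (Localization.AtPrime pA) (Localization.AtPrime pB))).out 0 2
  refine h3.mpr ?_
  rw [← Localization.AtPrime.map_eq_maximalIdeal, Ideal.map_map,
    ← IsScalarTower.algebraMap_eq A (Localization.AtPrime pA) (Localization.AtPrime pB),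
    Ideal.map_le_iff_le_comap]
  intro a ha
  rw [Ideal.mem_comap, IsScalarTower.algebraMap_apply A B (Localization.AtPrime pB)]
  refine (IsLocalization.AtPrime.to_map_mem_maximal_iff (Localization.AtPrime pB) pB _).mpr ?_
  have := Ideal.LiesOver.over (p := pA) (P := pB)
  rw [this] at ha
  exact ha

theorem s9473 (A B C : Type u) [CommRing A] [CommRing B]
    [CommRing C] [Algebra A B] [Algebra A C]
    (pA : Ideal A) [pA.IsPrime] (pB : Ideal B) [pB.IsPrime] [pB.LiesOver pA]
    (pC : Ideal C) [pC.IsPrime] [pC.LiesOver pA]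
    (pD : Ideal (B ⊗[A] C)) [pD.IsPrime] [pD.LiesOver pB]
    (hDC : pD.comap (Algebra.TensorProduct.includeRight : C →ₐ[A] B ⊗[A] C).toRingHom = pC)
    (Ash : Type u) [CommRing Ash] [IsLocalRing Ash] [Algebra (Localization.AtPrime pA) Ash]
    [IsLocalHom (algebraMap (Localization.AtPrime pA) Ash)]
    [Hensel.IsStrictHenselization (Localization.AtPrime pA) Ash] [Algebra A Ash]
    [IsScalarTower A (Localization.AtPrime pA) Ash]
    (Bsh : Type u) [CommRing Bsh] [IsLocalRing Bsh] [Algebra (Localization.AtPrime pB) Bsh]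
    [IsLocalHom (algebraMap (Localization.AtPrime pB) Bsh)]
    [Hensel.IsStrictHenselization (Localization.AtPrime pB) Bsh] [Algebra B Bsh]
    [IsScalarTower B (Localization.AtPrime pB) Bsh] [Algebra A Bsh] [IsScalarTower A B Bsh]
    [Algebra Ash Bsh] [IsScalarTower A Ash Bsh] [IsLocalHom (algebraMap Ash Bsh)]
    (Csh : Type u) [CommRing Csh] [IsLocalRing Csh] [Algebra (Localization.AtPrime pC) Csh]
    [IsLocalHom (algebraMap (Localization.AtPrime pC) Csh)]
    [Hensel.IsStrictHenselization (Localization.AtPrime pC) Csh] [Algebra C Csh]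
    [IsScalarTower C (Localization.AtPrime pC) Csh] [Algebra A Csh] [IsScalarTower A C Csh]
    [Algebra Ash Csh] [IsScalarTower A Ash Csh] [IsLocalHom (algebraMap Ash Csh)]
    (Dsh : Type u) [CommRing Dsh] [IsLocalRing Dsh] [Algebra (Localization.AtPrime pD) Dsh]
    [IsLocalHom (algebraMap (Localization.AtPrime pD) Dsh)]
    [Hensel.IsStrictHenselization (Localization.AtPrime pD) Dsh] [Algebra (B ⊗[A] C) Dsh]
    [IsScalarTower (B ⊗[A] C) (Localization.AtPrime pD) Dsh]
    [Algebra Bsh Dsh] [IsLocalHom (algebraMap Bsh Dsh)] [Algebra B Dsh] [IsScalarTower B Bsh Dsh]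
    [IsScalarTower B (B ⊗[A] C) Dsh]
    [Algebra Csh Dsh] [IsLocalHom (algebraMap Csh Dsh)]
    (hC : ∀ c : C, algebraMap Csh Dsh (algebraMap C Csh c) = algebraMap (B ⊗[A] C) Dsh (1 ⊗ₜ[A] c))
    [Algebra Ash Dsh] [IsScalarTower Ash Bsh Dsh] [IsScalarTower Ash Csh Dsh]
    [Algebra (Localization.AtPrime pA) (Localization.AtPrime pB)]
    [IsScalarTower A (Localization.AtPrime pA) (Localization.AtPrime pB)]
    (hB : ∀ s : Finset (Localization.AtPrime pB),
      ∃ B₀ : Subalgebra (Localization.AtPrime pA) (Localization.AtPrime pB),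
        (↑s : Set (Localization.AtPrime pB)) ⊆ ↑B₀ ∧
          Algebra.FiniteType (Localization.AtPrime pA) ↥B₀ ∧
            Algebra.QuasiFinite (Localization.AtPrime pA) ↥B₀) :
    Function.Bijective (Algebra.TensorProduct.lift (IsScalarTower.toAlgHom Ash Bsh Dsh)
      (IsScalarTower.toAlgHom Ash Csh Dsh) (fun _ _ => Commute.all _ _)) := by
  haveI := isLocalHom_loc A B pA pB
  letI : Algebra (Localization.AtPrime pA) Bsh :=
    ((algebraMap Ash Bsh).comp (algebraMap (Localization.AtPrime pA) Ash)).toAlgebra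
  haveI : IsScalarTower (Localization.AtPrime pA) Ash Bsh := IsScalarTower.of_algebraMap_eq (fun _ => rfl)
  haveI : IsScalarTower (Localization.AtPrime pA) (Localization.AtPrime pB) Bsh := by
    refine IsScalarTower.of_algebraMap_eq' ?_
    apply IsLocalization.ringHom_ext pA.primeCompl
    refine RingHom.ext fun a => ?_
    change algebraMap Ash Bsh (algebraMap (Localization.AtPrime pA) Ash
      (algebraMap A (Localization.AtPrime pA) a)) =
      algebraMap (Localization.AtPrime pB) Bsh (algebraMap (Localization.AtPrime pA)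
        (Localization.AtPrime pB) (algebraMap A (Localization.AtPrime pA) a))
    rw [← IsScalarTower.algebraMap_apply A (Localization.AtPrime pA) Ash,
      ← IsScalarTower.algebraMap_apply A Ash Bsh,
      ← IsScalarTower.algebraMap_apply A (Localization.AtPrime pA) (Localization.AtPrime pB),
      IsScalarTower.algebraMap_apply A B (Localization.AtPrime pB),
      ← IsScalarTower.algebraMap_apply B (Localization.AtPrime pB) Bsh,
      ← IsScalarTower.algebraMap_apply A B Bsh]
  haveI := isIntegral_of_indQF_local (Localization.AtPrime pA) (Localization.AtPrime pB) Ash Bsh hB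
  exact Groth.Agent.Helper2.HensTensBij.general A B C pA pB pC pD hDC Ash Bsh Csh Dsh hC

end S9473

end Groth.Agent.Helper2.HensTensInt
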