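import Mathlib
import Groth.Prelude
import Groth.Agent.Helper2.HensGNor
import Groth.Agent.Helper2.BrnchM
import Groth.Agent.Helper2.CplQuot2
import Groth.Agent.Helper2.HensInt
import Groth.Agent.S2811
import Groth.Agent.S2636

set_option autoImplicit false
set_option linter.style.haveILetI false
set_option linter.unusedSectionVars false

/-!
# S9230: the henselization of a local ring with geometrically normal formal fibres is
universally catenary
-/

universe u
open IsLocalRing TensorProduct

namespace Groth.Agent.Helper2.HensUCat

open Groth.Agent.Helper1.Hens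

theorem isUniversallyCatenary_of_ringEquiv {R R' : Type u} [CommRing R] [CommRing R']
    (e : R ≃+* R') (h : CAlg.IsUniversallyCatenary R') : CAlg.IsUniversallyCatenary R := by
  haveI := h.1
  refine ⟨isNoetherianRing_of_ringEquiv R' e.symm, fun S _ _ hS => ?_⟩
  letI : Algebra R' R := e.symm.toRingHom.toAlgebra
  letI : Algebra R' S := ((algebraMap R S).comp e.symm.toRingHom).toAlgebra
  haveI : IsScalarTower R' R S := IsScalarTower.of_algebraMap_eq (fun _ => rfl)
  haveI : Algebra.FiniteType R' R :=
    Algebra.FiniteType.of_surjective (Algebra.ofId R' R) e.symm.surjective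
  exact h.2 S (Algebra.FiniteType.trans ‹Algebra.FiniteType R' R› hS)

theorem isUniversallyCatenary_of_henselian (S : Type u) [CommRing S] [IsNoetherianRing S]
    [HenselianLocalRing S] (h : EGA4.HasGeomNormalFormalFibres S) :
    CAlg.IsUniversallyCatenary S := by
  apply Groth.Agent.S2636.result S
  intro P hP
  haveI : IsDomain (S ⧸ P) := Ideal.Quotient.isDomain P
  haveI : HenselianLocalRing (S ⧸ P) :=
    Groth.Agent.Helper2.HensInt.henselianLocalRing_of_isIntegral S (S ⧸ P)
  have h1 := Groth.Agent.Helper2.CplQuot2.hasGeomNormalFormalFibres_quotient S P h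
  haveI := Groth.Agent.S2811.result (S ⧸ P) h1
  exact Groth.Agent.Helper2.Brnch.isEquidim_of_isDomain _

theorem s9230 (A S : Type u) [CommRing A]
    [IsLocalRing A] [IsNoetherianRing A] [CommRing S] [IsLocalRing S] [Algebra A S]
    [IsLocalHom (algebraMap A S)] [Hensel.IsHenselization A S]
    (hA : EGA4.HasGeomNormalFormalFibres A) : CAlg.IsUniversallyCatenary S := by
  haveI := Hh.isNoetherianRing A
  have h1 := Groth.Agent.Helper2.HensGNor.hasGeomNormalFormalFibres_hh A hA
  exact isUniversallyCatenary_of_ringEquiv (equivOfIsHenselization (R := A) S).toRingEquiv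
    (isUniversallyCatenary_of_henselian (Hh A) h1)

end Groth.Agent.Helper2.HensUCat
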