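import Mathlib
import Groth.Prelude
import Groth.Agent.Helper2.HfpLim0
set_option autoImplicit false

universe u

noncomputable section

namespace Groth.Agent.Helper2.HfpLim

open Groth.Agent.Helper2.PairHens

section Retract

variable {A : Type u} [CommRing A] (I : Ideal A) {B : Type u} [CommRing B] [Algebra A B]
  {σ : Type u} (P : Type u) [CommRing P] [Algebra (MvPolynomial σ A) P] [Algebra A P]
  [IsScalarTower A (MvPolynomial σ A) P]
  (hP : Hens2.IsPairHenselization (MvPolynomial σ A) (I.map (algebraMap A (MvPolynomial σ A))) P)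

include hP in
theorem henselianRing_P : HenselianRing P (I.map (algebraMap A P)) := by
  have h1 := hP.1
  rwa [Ideal.map_map, ← IsScalarTower.algebraMap_eq] at h1

include hP in
/-- if a quotient `P ⧸ J` of the henselized polynomial ring retracts onto `B`, the kernel of the
retraction is generated by the `xᵢ - e(xᵢ)`. -/
theorem ker_retract_le (J : Ideal P) (π : P ⧸ J →ₐ[A] B) (φ : B →ₐ[A] P ⧸ J)
    (hπφ : ∀ b, π (φ b) = b) :
    RingHom.ker (π : P ⧸ J →+* B) ≤ Ideal.span (Set.range fun i : σ =>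
      Ideal.Quotient.mk J (algebraMap (MvPolynomial σ A) P (MvPolynomial.X i)) -
        φ (π (Ideal.Quotient.mk J (algebraMap (MvPolynomial σ A) P (MvPolynomial.X i))))) := by
  set K₀ : Ideal (P ⧸ J) := Ideal.span (Set.range fun i : σ =>
      Ideal.Quotient.mk J (algebraMap (MvPolynomial σ A) P (MvPolynomial.X i)) -
        φ (π (Ideal.Quotient.mk J (algebraMap (MvPolynomial σ A) P (MvPolynomial.X i))))) with hK₀
  haveI hPh : HenselianRing P (I.map (algebraMap A P)) := henselianRing_P I P hP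
  -- the quotient `(P ⧸ J) ⧸ K₀` is henselian along `I`
  let q : P →ₐ[A] (P ⧸ J) ⧸ K₀ := (Ideal.Quotient.mkₐ A K₀).comp (Ideal.Quotient.mkₐ A J)
  have hqsurj : Function.Surjective q :=
    (Ideal.Quotient.mkₐ_surjective A K₀).comp (Ideal.Quotient.mkₐ_surjective A J)
  haveI hQh : HenselianRing ((P ⧸ J) ⧸ K₀) (I.map (algebraMap A ((P ⧸ J) ⧸ K₀))) :=
    henselianRing_of_surjective I q hqsurj
  let e : P ⧸ J →ₐ[A] P ⧸ J := φ.comp π
  let q₁ : P →ₐ[A] (P ⧸ J) ⧸ K₀ := q
  let q₂ : P →ₐ[A] (P ⧸ J) ⧸ K₀ :=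
    ((Ideal.Quotient.mkₐ A K₀).comp e).comp (Ideal.Quotient.mkₐ A J)
  -- they agree on the polynomial ring
  have hagree : (q₁.comp (IsScalarTower.toAlgHom A (MvPolynomial σ A) P)) =
      (q₂.comp (IsScalarTower.toAlgHom A (MvPolynomial σ A) P)) := by
    apply MvPolynomial.algHom_ext
    intro i
    show Ideal.Quotient.mk K₀ (Ideal.Quotient.mk J (algebraMap _ P (MvPolynomial.X i))) =
      Ideal.Quotient.mk K₀ (φ (π (Ideal.Quotient.mk J (algebraMap _ P (MvPolynomial.X i)))))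
    rw [Ideal.Quotient.eq]
    exact Ideal.subset_span ⟨i, rfl⟩
  have hle : (I.map (algebraMap A (MvPolynomial σ A))).map
      ((q₁ : P →+* (P ⧸ J) ⧸ K₀).comp (algebraMap (MvPolynomial σ A) P)) ≤
      I.map (algebraMap A ((P ⧸ J) ⧸ K₀)) := by
    rw [Ideal.map_map]
    apply le_of_eq
    congr 1
    ext a
    simp only [RingHom.comp_apply]
    rw [← IsScalarTower.algebraMap_apply A (MvPolynomial σ A) P]
    exact q₁.commutes a
  obtain ⟨g, -, hgu⟩ := hP.2 ((P ⧸ J) ⧸ K₀) _
    ((q₁ : P →+* (P ⧸ J) ⧸ K₀).comp (algebraMap (MvPolynomial σ A) P)) hQh hle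
  have h1 : (q₁ : P →+* (P ⧸ J) ⧸ K₀) = g := hgu _ rfl
  have h2 : (q₂ : P →+* (P ⧸ J) ⧸ K₀) = g := by
    apply hgu
    refine RingHom.ext fun x => ?_
    exact congr($hagree x).symm
  have h12 : ∀ p : P, q₁ p = q₂ p := fun p => congr($(h1.trans h2.symm) p)
  intro z hz
  obtain ⟨p, rfl⟩ := Ideal.Quotient.mk_surjective z
  have hz' : π (Ideal.Quotient.mk J p) = 0 := hz
  have h3 := h12 p
  have h4 : q₂ p = 0 := by
    show Ideal.Quotient.mk K₀ (φ (π (Ideal.Quotient.mk J p))) = 0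
    rw [hz', map_zero, map_zero]
  rw [h4] at h3
  exact Ideal.Quotient.eq_zero_iff_mem.mp h3

end Retract

end Groth.Agent.Helper2.HfpLim
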