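import Mathlib
import Groth.Prelude
import Groth.Agent.Helper2.HfpLim1
set_option autoImplicit false

universe u

noncomputable section

namespace Groth.Agent.Helper2.HfpLim

open Groth.Agent.Helper2.PairHens

/-- the compactness hypothesis of S17618 (existence part only) -/
def Compact (A : Type u) [CommRing A] (I : Ideal A) (B : Type u) [CommRing B] [Algebra A B] : Prop :=
  ∀ (κ : Type u) [Preorder κ] [IsDirectedOrder κ] [Nonempty κ]
      (Ra : κ → Type u) [∀ a, CommRing (Ra a)] [∀ a, Algebra A (Ra a)]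
      [∀ a, HenselianRing (Ra a) (I.map (algebraMap A (Ra a)))]
      (t : ∀ a b : κ, a ≤ b → (Ra a →+* Ra b)) [DirectedSystem Ra (fun a b hab => t a b hab)],
      (∀ (a b : κ) (hab : a ≤ b), (t a b hab).comp (algebraMap A (Ra a)) = algebraMap A (Ra b)) →
      ∀ [Algebra A (DirectLimit Ra t)],
      (∀ (a : κ) (x : A), algebraMap A (DirectLimit Ra t) x =
        DirectLimit.Ring.of Ra t a (algebraMap A (Ra a) x)) →
      ∀ χ : B →ₐ[A] DirectLimit Ra t, ∃ (a : κ) (φ : B →ₐ[A] Ra a),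
          ∀ x : B, DirectLimit.Ring.of Ra t a (φ x) = χ x

section Sys2

variable {A : Type u} [CommRing A] (I : Ideal A) {B : Type u} [CommRing B] [Algebra A B]
  {σ : Type u} [Finite σ] (P : Type u) [CommRing P] [Algebra (MvPolynomial σ A) P] [Algebra A P]
  [IsScalarTower A (MvPolynomial σ A) P]
  (hP : Hens2.IsPairHenselization (MvPolynomial σ A) (I.map (algebraMap A (MvPolynomial σ A))) P)
  (ψ : P →ₐ[A] B) (hψ : Function.Surjective ψ)

/-- index set: finitely generated subideals of the kernel -/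
abbrev Idx2 : Type u := {J : Ideal P // J.FG ∧ J ≤ RingHom.ker (ψ : P →+* B)}

instance : IsDirectedOrder (Idx2 P ψ) where
  directed J₁ J₂ := ⟨⟨J₁.1 ⊔ J₂.1, Submodule.FG.sup J₁.2.1 J₂.2.1, sup_le J₁.2.2 J₂.2.2⟩,
    (le_sup_left : J₁.1 ≤ J₁.1 ⊔ J₂.1), (le_sup_right : J₂.1 ≤ J₁.1 ⊔ J₂.1)⟩

instance : Nonempty (Idx2 P ψ) := ⟨⟨⊥, Submodule.fg_bot, bot_le⟩⟩

instance : DirectedSystem (fun J : Idx2 P ψ => P ⧸ J.1)
    (fun _ _ h => (Ideal.Quotient.factor (Subtype.coe_le_coe.mpr h) : _ → _)) where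
  map_self J x := by
    obtain ⟨p, rfl⟩ := Ideal.Quotient.mk_surjective x
    rfl
  map_map J₁ J₂ J₃ h₁ h₂ x := by
    obtain ⟨p, rfl⟩ := Ideal.Quotient.mk_surjective x
    rfl

include hP hψ in
theorem ker_fg (hc : Compact A I B) : (RingHom.ker (ψ : P →+* B)).FG := by
  classical
  haveI hPh : HenselianRing P (I.map (algebraMap A P)) := henselianRing_P I P hP
  haveI : ∀ J : Idx2 P ψ, HenselianRing (P ⧸ J.1) (I.map (algebraMap A (P ⧸ J.1))) := fun J =>
    henselianRing_of_surjective I (Ideal.Quotient.mkₐ A J.1) (Ideal.Quotient.mkₐ_surjective A J.1)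
  let lam : ∀ J : Idx2 P ψ, (P ⧸ J.1) →ₐ[A] B := fun J =>
    Ideal.Quotient.liftₐ J.1 ψ (fun p hp => J.2.2 hp)
  have hlam_mk : ∀ (J : Idx2 P ψ) (p : P), lam J (Ideal.Quotient.mk J.1 p) = ψ p := fun _ _ => rfl
  have key := exists_section (A := A) (B := B) (fun J : Idx2 P ψ => P ⧸ J.1)
    (fun _ _ h => Ideal.Quotient.factor (Subtype.coe_le_coe.mpr h))
    (by
      intro J₁ J₂ h
      refine RingHom.ext fun a => ?_
      rfl)
    lam
    (by
      intro J₁ J₂ h x
      obtain ⟨p, rfl⟩ := Ideal.Quotient.mk_surjective x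
      rfl)
    (by
      intro b
      obtain ⟨p, rfl⟩ := hψ b
      exact ⟨⟨⊥, Submodule.fg_bot, bot_le⟩, Ideal.Quotient.mk _ p, rfl⟩)
    (by
      intro J y hy
      obtain ⟨p, rfl⟩ := Ideal.Quotient.mk_surjective y
      rw [hlam_mk] at hy
      have hpk : p ∈ RingHom.ker (ψ : P →+* B) := hy
      refine ⟨⟨J.1 ⊔ Ideal.span {p}, Submodule.FG.sup J.2.1 (Submodule.fg_span_singleton p),
        sup_le J.2.2 ((Ideal.span_singleton_le_iff_mem _).mpr hpk)⟩,
        (le_sup_left : J.1 ≤ J.1 ⊔ Ideal.span {p}), ?_⟩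
      show Ideal.Quotient.mk _ p = 0
      rw [Ideal.Quotient.eq_zero_iff_mem]
      exact Ideal.mem_sup_right (Ideal.subset_span rfl))
    (fun halg χ => hc _ _ _ (by
      intro J₁ J₂ h
      refine RingHom.ext fun a => ?_
      rfl) halg χ)
  obtain ⟨J, φ, hφ⟩ := key
  -- the kernel of `lam J` is finitely generated
  have hle := ker_retract_le I P hP J.1 (lam J) φ hφ
  have hfgK : (RingHom.ker (lam J : P ⧸ J.1 →+* B)).FG := by
    have heq : RingHom.ker (lam J : P ⧸ J.1 →+* B) = Ideal.span (Set.range fun i : σ =>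
        Ideal.Quotient.mk J.1 (algebraMap (MvPolynomial σ A) P (MvPolynomial.X i)) -
          φ (lam J (Ideal.Quotient.mk J.1 (algebraMap (MvPolynomial σ A) P (MvPolynomial.X i))))) := by
      apply le_antisymm hle
      rw [Ideal.span_le]
      rintro _ ⟨i, rfl⟩
      show lam J (_ - _) = 0
      rw [map_sub, hφ, sub_self]
    rw [heq]
    exact ⟨(Set.finite_range _).toFinset, by rw [Set.Finite.coe_toFinset]⟩
  have hcomp : (ψ : P →+* B) = (lam J : P ⧸ J.1 →+* B).comp (Ideal.Quotient.mk J.1) := rfl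
  rw [hcomp]
  apply Ideal.fg_ker_comp _ _ _ hfgK Ideal.Quotient.mk_surjective
  rw [Ideal.mk_ker]
  exact J.2.1

end Sys2

end Groth.Agent.Helper2.HfpLim
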