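import Mathlib
import Groth.Prelude
import Groth.Agent.Helper2.HfpLim2
set_option autoImplicit false

universe u

noncomputable section

namespace Groth.Agent.Helper2.HfpLim

open Groth.Agent.Helper2.PairHens

section Sys1

variable {A : Type u} [CommRing A] (I : Ideal A) (B : Type u) [CommRing B] [Algebra A B]
  [hBh : HenselianRing B (I.map (algebraMap A B))]

/-- the polynomial ring on a finite subset of `B` -/
abbrev Sx (A : Type u) [CommRing A] (B : Type u) (s : Finset B) : Type u := MvPolynomial (↥s) A

/-- the ideal `I·A[X_s]` -/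
abbrev Jx (s : Finset B) : Ideal (Sx A B s) := I.map (algebraMap A (Sx A B s))

/-- the henselized polynomial ring on a finite subset of `B` -/
abbrev Px (s : Finset B) : Type u := Hens (Jx I B s)

instance algPx (s : Finset B) : Algebra A (Px I B s) :=
  ((algebraMap (Sx A B s) (Px I B s)).comp (algebraMap A (Sx A B s))).toAlgebra

instance towerPx (s : Finset B) : IsScalarTower A (Sx A B s) (Px I B s) :=
  IsScalarTower.of_algebraMap_eq (fun _ => rfl)

/-- evaluation at the elements of `s` -/
def ev (A : Type u) [CommRing A] (B : Type u) [CommRing B] [Algebra A B] (s : Finset B) :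
    Sx A B s →ₐ[A] B := MvPolynomial.aeval (fun b : ↥s => (b : B))

theorem hPx (s : Finset B) :
    Hens2.IsPairHenselization (Sx A B s) (Jx I B s) (Px I B s) :=
  Hens.isPairHenselization _ _

theorem ev_le (s : Finset B) :
    (Jx I B s).map (ev A B s : Sx A B s →+* B) ≤ I.map (algebraMap A B) := by
  rw [Ideal.map_map]
  apply le_of_eq
  congr 1
  ext a
  exact (ev A B s).commutes a

theorem exists_psi (s : Finset B) :
    ∃ ψ : Px I B s →ₐ[A] B, ∀ x, ψ (algebraMap (Sx A B s) (Px I B s) x) = ev A B s x := by
  obtain ⟨g, hg, -⟩ := (hPx I B s).2 B (I.map (algebraMap A B)) (ev A B s : Sx A B s →+* B)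
    hBh (ev_le I B s)
  have hg' : ∀ x, g (algebraMap (Sx A B s) (Px I B s) x) = ev A B s x := fun x => congr($hg x)
  refine ⟨{ g with commutes' := fun a => ?_ }, hg'⟩
  show g (algebraMap (Sx A B s) (Px I B s) (algebraMap A _ a)) = _
  rw [hg', AlgHom.commutes]

/-- the canonical map from the henselized polynomial ring -/
def psi (s : Finset B) : Px I B s →ₐ[A] B := (exists_psi I B s).choose

theorem psi_spec (s : Finset B) (x : Sx A B s) :
    psi I B s (algebraMap (Sx A B s) (Px I B s) x) = ev A B s x :=
  (exists_psi I B s).choose_spec x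

theorem range_mono {s s' : Finset B} (h : s ≤ s') : (psi I B s).range ≤ (psi I B s').range := by
  let r : Sx A B s →ₐ[A] Sx A B s' :=
    MvPolynomial.rename (fun b : ↥s => (⟨b.1, h b.2⟩ : ↥s'))
  have hr : ∀ x, ev A B s' (r x) = ev A B s x := by
    intro x
    have : (ev A B s').comp r = ev A B s := by
      apply MvPolynomial.algHom_ext
      intro b
      simp [ev, r]
    exact congr($this x)
  -- the map `P_s → P_s'`
  have hle : (Jx I B s).map ((algebraMap (Sx A B s') (Px I B s')).comp
      (r : Sx A B s →+* Sx A B s')) ≤ (Jx I B s').map (algebraMap _ (Px I B s')) := by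
    rw [← Ideal.map_map]
    apply Ideal.map_mono
    rw [Ideal.map_map]
    apply le_of_eq
    congr 1
    refine RingHom.ext fun a => ?_
    exact r.commutes a
  obtain ⟨ρ, hρ, -⟩ := (hPx I B s).2 (Px I B s') _ ((algebraMap (Sx A B s') (Px I B s')).comp
      (r : Sx A B s →+* Sx A B s')) (hPx I B s').1 hle
  have hρ' : ∀ x, ρ (algebraMap _ (Px I B s) x) = algebraMap _ (Px I B s') (r x) :=
    fun x => congr($hρ x)
  obtain ⟨g, -, hgu⟩ := (hPx I B s).2 B (I.map (algebraMap A B)) (ev A B s : Sx A B s →+* B)
    hBh (ev_le I B s)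
  have h1 : (psi I B s : Px I B s →+* B) = g := by
    apply hgu
    refine RingHom.ext fun x => ?_
    exact psi_spec I B s x
  have h2 : (psi I B s' : Px I B s' →+* B).comp ρ = g := by
    apply hgu
    refine RingHom.ext fun x => ?_
    rw [RingHom.comp_apply, RingHom.comp_apply, hρ']
    show psi I B s' (algebraMap _ _ (r x)) = _
    rw [psi_spec, hr]
    rfl
  rintro _ ⟨p, rfl⟩
  have : psi I B s p = psi I B s' (ρ p) := congr($(h1.trans h2.symm) p)
  exact ⟨ρ p, this.symm⟩

end Sys1

end Groth.Agent.Helper2.HfpLim
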