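import Mathlib
import Groth.Prelude
import Groth.Agent.Helper2.HfpLim3
set_option autoImplicit false

universe u

noncomputable section

namespace Groth.Agent.Helper2.HfpLim

open Groth.Agent.Helper2.PairHens

section Sys1

open scoped Classical in
theorem exists_surjective_psi {A : Type u} [CommRing A] (I : Ideal A) (B : Type u) [CommRing B]
    [Algebra A B] [hBh : HenselianRing B (I.map (algebraMap A B))] (hc : Compact A I B) :
    ∃ s : Finset B, Function.Surjective (psi I B s) := by
  let t : ∀ s s' : Finset B, s ≤ s' → (↥(psi I B s).range →+* ↥(psi I B s').range) :=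
    fun _ _ h => (Subalgebra.inclusion (range_mono I B h)).toRingHom
  haveI : DirectedSystem (fun s : Finset B => ↥(psi I B s).range)
      (fun s s' h => t s s' h) :=
    { map_self := fun s x => rfl
      map_map := fun s₁ s₂ s₃ h₁ h₂ x => rfl }
  have hPh : ∀ s : Finset B, HenselianRing (Px I B s) (I.map (algebraMap A (Px I B s))) := fun s =>
    henselianRing_P I (Px I B s) (hPx I B s)
  haveI : ∀ s : Finset B, HenselianRing (↥(psi I B s).range)
      (I.map (algebraMap A (↥(psi I B s).range))) := fun s =>
    haveI := hPh s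
    henselianRing_of_surjective I (psi I B s).rangeRestrict (psi I B s).rangeRestrict_surjective
  have key := exists_section (A := A) (B := B) (fun s : Finset B => ↥(psi I B s).range)
    t
    (by
      intro s₁ s₂ h
      refine RingHom.ext fun a => ?_
      rfl)
    (fun s => (psi I B s).range.val)
    (by
      intro s₁ s₂ h x
      rfl)
    (by
      intro b
      refine ⟨{b}, ⟨b, ?_⟩, rfl⟩
      refine ⟨algebraMap (Sx A B {b}) (Px I B {b})
        (MvPolynomial.X ⟨b, Finset.mem_singleton_self b⟩), ?_⟩
      show psi I B {b} (algebraMap (Sx A B {b}) (Px I B {b})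
        (MvPolynomial.X ⟨b, Finset.mem_singleton_self b⟩)) = b
      rw [psi_spec]
      simp [ev])
    (by
      intro s y hy
      refine ⟨s, le_rfl, ?_⟩
      apply Subtype.ext
      exact hy)
    (fun halg χ => hc _ _ _ (by
      intro s₁ s₂ h
      refine RingHom.ext fun a => ?_
      rfl) halg χ)
  obtain ⟨s, φ, hφ⟩ := key
  refine ⟨s, fun b => ?_⟩
  obtain ⟨p, hp⟩ := (φ b).2
  refine ⟨p, ?_⟩
  have := hφ b
  rw [← this]
  exact hp

end Sys1

theorem hfp_of_compact {A : Type u} [CommRing A] (I : Ideal A) (B : Type u) [CommRing B]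
    [Algebra A B] [hBh : HenselianRing B (I.map (algebraMap A B))] (hc : Compact A I B) :
    ∃ (R : Type u) (_ : CommRing R) (_ : Algebra A R) (_ : Algebra R B) (_ : IsScalarTower A R B),
      Algebra.FinitePresentation A R ∧ Hens2.IsPairHenselization R (I.map (algebraMap A R)) B := by
  obtain ⟨s, hs⟩ := exists_surjective_psi I B hc
  have hfg := ker_fg I (Px I B s) (hPx I B s) (psi I B s) hs hc
  exact fp_of_hfp_aux A I B (Sx A B s) (Px I B s) (hPx I B s) (psi I B s) hs hfg

end Groth.Agent.Helper2.HfpLim
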