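import Mathlib
import Groth.Prelude
import Groth.Agent.Helper2.Hiro3

set_option autoImplicit false
set_option linter.unusedVariables false
set_option linter.unusedSectionVars false
open Function Pointwise
universe u v

/-!
# Hironaka's normal flatness lemma: translation of the local condition and the final statement
-/

namespace Groth.Agent.Helper2.Hiro

section FlatLoc
variable {A : Type*} [CommRing A] (S : Submonoid A) (A' : Type*) [CommRing A'] [Algebra A A']
  [IsLocalization S A'] (I : Ideal A)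
  {P P' : Type*} [AddCommGroup P] [Module A P] [Module (A ⧸ I) P] [IsScalarTower A (A ⧸ I) P]
  [AddCommGroup P'] [Module A P'] [Module A' P'] [IsScalarTower A A' P']
  [Module (A' ⧸ I.map (algebraMap A A')) P'] [IsScalarTower A' (A' ⧸ I.map (algebraMap A A')) P']

/-- flatness of a localized piece over the localized quotient ring, from flatness of the
localization over `A/I` -/
theorem flat_quot_of_flat_localizedModule (φ : P →ₗ[A] P') [hφ : IsLocalizedModule S φ]
    (hfl : Module.Flat (A ⧸ I)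
      (LocalizedModule (Algebra.algebraMapSubmonoid (A ⧸ I) S) P)) :
    Module.Flat (A' ⧸ I.map (algebraMap A A')) P' := by
  letI inst1 : Module (A ⧸ I) P' :=
    Module.compHom P' (algebraMap (A ⧸ I) (A' ⧸ I.map (algebraMap A A')))
  have hsm : ∀ (b : A ⧸ I) (y : P'),
      b • y = (algebraMap (A ⧸ I) (A' ⧸ I.map (algebraMap A A')) b) • y := fun _ _ => rfl
  haveI inst2 : IsScalarTower (A ⧸ I) (A' ⧸ I.map (algebraMap A A')) P' :=
    ⟨fun b b' y => by rw [hsm b (b' • y), Algebra.smul_def, mul_smul]⟩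
  have hmk : ∀ (a : A) (y : P'), (Ideal.Quotient.mk I a) • y = a • y := by
    intro a y
    rw [hsm]
    have h1 : algebraMap (A ⧸ I) (A' ⧸ I.map (algebraMap A A')) (Ideal.Quotient.mk I a) =
        Ideal.Quotient.mk (I.map (algebraMap A A')) (algebraMap A A' a) := rfl
    rw [h1]
    have h2 : (Ideal.Quotient.mk (I.map (algebraMap A A')) (algebraMap A A' a)) • y =
        (algebraMap A A' a) • y := by
      rw [← Ideal.Quotient.algebraMap_eq, algebraMap_smul]
    rw [h2, algebraMap_smul]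
  have hmkP : ∀ (a : A) (x : P), (Ideal.Quotient.mk I a) • x = a • x := by
    intro a x
    rw [← Ideal.Quotient.algebraMap_eq, algebraMap_smul]
  let φ' : P →ₗ[A ⧸ I] P' :=
    { toFun := φ
      map_add' := φ.map_add
      map_smul' := by
        intro b x
        obtain ⟨a, rfl⟩ := Ideal.Quotient.mk_surjective b
        simp only [RingHom.id_apply]
        rw [hmkP, hmk, φ.map_smul] }
  haveI : IsLocalizedModule (Algebra.algebraMapSubmonoid (A ⧸ I) S) φ' := by
    refine ⟨?_, ?_, ?_⟩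
    · rintro ⟨x, s, hs, rfl⟩
      rw [Module.End.isUnit_iff]
      have h1 := hφ.map_units ⟨s, hs⟩
      rw [Module.End.isUnit_iff] at h1
      have h2 : ⇑((algebraMap (A ⧸ I) (Module.End (A ⧸ I) P')) ((algebraMap A (A ⧸ I)) s)) =
          ⇑((algebraMap A (Module.End A P')) s) := by
        funext y
        show (algebraMap A (A ⧸ I) s) • y = s • y
        rw [Ideal.Quotient.algebraMap_eq, hmk]
      rw [h2]; exact h1
    · intro y
      obtain ⟨⟨x, s⟩, hx⟩ := hφ.surj y
      refine ⟨(x, ⟨algebraMap A (A ⧸ I) s.1, s.1, s.2, rfl⟩), ?_⟩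
      show (algebraMap A (A ⧸ I) s.1) • y = φ x
      rw [Ideal.Quotient.algebraMap_eq, hmk]
      exact hx
    · intro x₁ x₂ h
      obtain ⟨c, hc⟩ := hφ.exists_of_eq (show φ x₁ = φ x₂ from h)
      refine ⟨⟨algebraMap A (A ⧸ I) c.1, c.1, c.2, rfl⟩, ?_⟩
      show (algebraMap A (A ⧸ I) c.1) • x₁ = (algebraMap A (A ⧸ I) c.1) • x₂
      rw [Ideal.Quotient.algebraMap_eq, hmkP, hmkP]
      exact hc
  let e := IsLocalizedModule.linearEquiv (Algebra.algebraMapSubmonoid (A ⧸ I) S)
    (LocalizedModule.mkLinearMap (Algebra.algebraMapSubmonoid (A ⧸ I) S) P) φ'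
  haveI : Module.Flat (A ⧸ I) P' := Module.Flat.of_linearEquiv e.symm
  exact (Module.flat_iff_of_isLocalization (A' ⧸ I.map (algebraMap A A'))
    (Algebra.algebraMapSubmonoid (A ⧸ I) S) P').2 inferInstance

end FlatLoc

section Conv
variable {A : Type u} [CommRing A] (R : Ideal A) (M : Type u) [AddCommGroup M] [Module A M]

lemma algebraMapSubmonoid_primeCompl (𝔭 : Ideal A) [𝔭.IsPrime] (p : Ideal (A ⧸ R)) [p.IsPrime]
    (hp : p.comap (Ideal.Quotient.mk R) = 𝔭) :
    Algebra.algebraMapSubmonoid (A ⧸ R) 𝔭.primeCompl = p.primeCompl := by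
  ext x
  constructor
  · rintro ⟨a, ha, rfl⟩
    intro hx
    apply ha
    rw [← hp]
    exact hx
  · intro hx
    obtain ⟨a, rfl⟩ := Ideal.Quotient.mk_surjective x
    refine ⟨a, ?_, rfl⟩
    intro ha
    apply hx
    rw [← hp] at ha
    exact ha

/-- the local condition of the statement gives normal flatness of the localization -/
theorem flat_localized_piece (𝔭 : Ideal A) [𝔭.IsPrime] (p : Ideal (A ⧸ R)) [p.IsPrime]
    (hp : p.comap (Ideal.Quotient.mk R) = 𝔭) (k : ℕ)
    (h : Module.Flat (Localization.AtPrime p) (LocalizedModule p.primeCompl (Gr M R k))) :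
    Module.Flat (Localization.AtPrime 𝔭 ⧸ R.map (algebraMap A (Localization.AtPrime 𝔭)))
      (Gr (LocalizedModule 𝔭.primeCompl M) (R.map (algebraMap A (Localization.AtPrime 𝔭))) k) := by
  obtain ⟨φ, hφ⟩ := NormFlatLoc.exists_isLocalizedModule_piece 𝔭.primeCompl
    (Localization.AtPrime 𝔭) (LocalizedModule.mkLinearMap 𝔭.primeCompl M) R k
  refine flat_quot_of_flat_localizedModule 𝔭.primeCompl (Localization.AtPrime 𝔭) R φ ?_
  rw [algebraMapSubmonoid_primeCompl R 𝔭 p hp]
  exact (Module.flat_iff_of_isLocalization (Localization.AtPrime p) p.primeCompl _).1 h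

end Conv

section Final
variable {A : Type u} [CommRing A] [IsNoetherianRing A]

/-- associated primes of `A/Q` give associated primes of `(A/R)/(Q/R)` -/
theorem exists_mem_ass_quot (R Q : Ideal A) (hRQ : R ≤ Q) (𝔭 : Ideal A)
    (h𝔭 : 𝔭 ∈ associatedPrimes A (A ⧸ Q)) :
    ∃ (p : Ideal (A ⧸ R)) (_ : p.IsPrime), p.comap (Ideal.Quotient.mk R) = 𝔭 ∧
      p ∈ associatedPrimes (A ⧸ R) ((A ⧸ R) ⧸ Ideal.map (Ideal.Quotient.mk R) Q) := by
  rw [AssociatedPrimes.mem_iff, isAssociatedPrime_iff] at h𝔭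
  obtain ⟨hprime, xb, hx⟩ := h𝔭
  obtain ⟨x, rfl⟩ := Ideal.Quotient.mk_surjective xb
  have hmem : ∀ a, a ∈ 𝔭 ↔ a * x ∈ Q := by
    intro a
    rw [hx, Submodule.mem_colon_singleton, Submodule.mem_bot]
    have : a • (Ideal.Quotient.mk Q x) = Ideal.Quotient.mk Q (a * x) := rfl
    rw [this, Ideal.Quotient.eq_zero_iff_mem]
  have hR𝔭 : R ≤ 𝔭 := by
    intro r hr
    rw [hmem]
    exact hRQ (Ideal.mul_mem_right _ _ hr)
  have hsurj : Function.Surjective (Ideal.Quotient.mk R) := Ideal.Quotient.mk_surjective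
  have hpp : (𝔭.map (Ideal.Quotient.mk R)).IsPrime :=
    Ideal.map_isPrime_of_surjective hsurj (by rw [Ideal.mk_ker]; exact hR𝔭)
  refine ⟨𝔭.map (Ideal.Quotient.mk R), hpp, ?_, ?_⟩
  · rw [Ideal.comap_map_of_surjective _ hsurj, ← RingHom.ker_eq_comap_bot, Ideal.mk_ker]
    exact sup_eq_left.2 hR𝔭
  · rw [AssociatedPrimes.mem_iff, isAssociatedPrime_iff]
    refine ⟨hpp, Ideal.Quotient.mk _ (Ideal.Quotient.mk R x), ?_⟩
    ext b
    obtain ⟨a, rfl⟩ := hsurj b
    rw [Submodule.mem_colon_singleton, Submodule.mem_bot, Ideal.mem_quotient_iff_mem hR𝔭, hmem]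
    have : (Ideal.Quotient.mk R a) • (Ideal.Quotient.mk (Ideal.map (Ideal.Quotient.mk R) Q)
        (Ideal.Quotient.mk R x)) =
        Ideal.Quotient.mk (Ideal.map (Ideal.Quotient.mk R) Q) (Ideal.Quotient.mk R (a * x)) := by
      rw [map_mul]; rfl
    rw [this, Ideal.Quotient.eq_zero_iff_mem, Ideal.mem_quotient_iff_mem hRQ]

/-- Hironaka: a) ⟺ d) -/
theorem main (R : Ideal A) (fs : List A) (hrad : ∀ x ∈ fs, x ∈ (⊥ : Ideal A).jacobson)
    (hreg : RingTheory.Sequence.IsWeaklyRegular (A ⧸ R) fs)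
    (M : Type u) [AddCommGroup M] [Module A M] [Module.Finite A M] :
    EGA4.IsNormallyFlat R M ↔
      EGA4.IsNormallyFlat (R ⊔ Ideal.ofList fs) M ∧
        ∀ (p : Ideal (A ⧸ R)) [p.IsPrime],
          p ∈ associatedPrimes (A ⧸ R)
            ((A ⧸ R) ⧸ Ideal.map (Ideal.Quotient.mk R) (R ⊔ Ideal.ofList fs)) →
            ∀ k : ℕ, Module.Flat (Localization.AtPrime p)
              (LocalizedModule p.primeCompl
                (↥(R ^ k • (⊤ : Submodule A M)) ⧸
                  (R • (⊤ : Submodule A ↥(R ^ k • (⊤ : Submodule A M)))))) := by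
  constructor
  · intro h
    refine ⟨main_imp M fs R hreg h, ?_⟩
    intro p _ _ k
    haveI : Module.Flat (A ⧸ R) (↥(R ^ k • (⊤ : Submodule A M)) ⧸
        (R • (⊤ : Submodule A ↥(R ^ k • (⊤ : Submodule A M))))) := h k
    infer_instance
  · rintro ⟨h1, h2⟩
    apply main_conv M fs R hrad hreg h1
    intro 𝔭 _ h𝔭
    obtain ⟨p, hp, hcomap, hpass⟩ := exists_mem_ass_quot R _ le_sup_left 𝔭 h𝔭
    intro k
    haveI := hp
    exact flat_localized_piece R M 𝔭 p hcomap k (h2 p hpass k)

end Final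

end Groth.Agent.Helper2.Hiro
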