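import Mathlib
import Groth.Agent.Helper2.HDRed

/-!
# A Hopf algebra structure on a flat algebra from a reduction map into a Hopf algebra over an
injective extension of the base ring (variant of `HDHopf` without faithful flatness)
-/

set_option autoImplicit false

namespace Groth.Agent.Helper2.HopfInj
open TensorProduct Groth.Agent.Helper2.MultTypeSemi Groth.Agent.Helper2.SemiIso
  Groth.Agent.Helper2.HD

universe u

section inj
variable (R k : Type*) [CommRing R] [CommRing k] [Algebra R k]

/-- a reduction of a flat module along an injective ring map is injective -/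
lemma injective_of_flat {X X₀ : Type*} [AddCommGroup X] [Module R X] [Module.Flat R X]
    [AddCommGroup X₀] [Module k X₀] [Module R X₀] [IsScalarTower R k X₀] {χ : X →ₗ[R] X₀}
    (hk : Function.Injective (algebraMap R k)) (h : IsRed R k χ) : Function.Injective χ := by
  have h0 : Function.Injective ((Algebra.linearMap R k).rTensor X) :=
    Module.Flat.rTensor_preserves_injective_linearMap _ hk
  have h1 : Function.Injective (TensorProduct.mk R k X 1) := by
    intro x y hxy
    apply (TensorProduct.lid R X).symm.injective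
    apply h0
    simpa using hxy
  intro x y hxy
  apply h1
  apply h.1
  show LinearMap.liftBaseChange k χ ((1 : k) ⊗ₜ[R] x) = LinearMap.liftBaseChange k χ ((1 : k) ⊗ₜ[R] y)
  rw [LinearMap.liftBaseChange_tmul, LinearMap.liftBaseChange_tmul, hxy]

end inj

section verify
variable (R : Type u) [CommRing R] (B : Type u) [CommRing B] [Algebra R B]
  (hB : Function.Injective (algebraMap R B))
variable {A : Type u} [CommRing A] [Algebra R A] [Module.Flat R A]
variable {C : Type u} [CommRing C] [HopfAlgebra B C] [Algebra R C] [IsScalarTower R B C]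
variable (θ : A →ₐ[R] C) (hθ : IsRed R B θ.toLinearMap)
variable (Δ : A →ₐ[R] A ⊗[R] A) (ε : A →ₐ[R] R) (S : A →ₐ[R] A)
variable (hΔ : ∀ a, mix R B θ θ (Δ a) = Coalgebra.comul (R := B) (θ a))
variable (hε : ∀ a, algebraMap R B (ε a) = Coalgebra.counit (R := B) (θ a))
variable (hS : ∀ a, θ (S a) = HopfAlgebra.antipode B (θ a))

include hB hθ hΔ in
lemma desc_coassoc :
    (Algebra.TensorProduct.assoc R R R A A A).toAlgHom.comp
      ((Algebra.TensorProduct.map Δ (.id R A)).comp Δ) =
    (Algebra.TensorProduct.map (.id R A) Δ).comp Δ := by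
  have hχ₂ := isRed_mix R B hθ hθ
  have hχ₃ := isRed_mix R B hθ hχ₂
  have hinj := injective_of_flat R B hB hχ₃
  have ha' : ∀ (z : A ⊗[R] A) (b : A),
      mix R B θ (mix R B θ θ) (Algebra.TensorProduct.assoc R R R A A A (z ⊗ₜ b)) =
      TensorProduct.assoc B C C C (mix R B θ θ z ⊗ₜ θ b) := by
    intro z b
    induction z using TensorProduct.induction_on with
    | zero => simp
    | add x y hx hy => simp only [add_tmul, map_add, hx, hy]
    | tmul p q => simp
  have ha : ∀ y : A ⊗[R] A,
      mix R B θ (mix R B θ θ) (Algebra.TensorProduct.assoc R R R A A A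
        (Algebra.TensorProduct.map Δ (.id R A) y)) =
      TensorProduct.assoc B C C C
        ((Coalgebra.comul (R := B) (A := C)).rTensor C (mix R B θ θ y)) := by
    intro y
    induction y using TensorProduct.induction_on with
    | zero => simp
    | add x y hx hy => simp only [map_add, hx, hy]
    | tmul a b =>
      rw [Algebra.TensorProduct.map_tmul, AlgHom.coe_id, id_eq, ha', hΔ, mix_tmul,
        LinearMap.rTensor_tmul]
  have hb : ∀ y : A ⊗[R] A,
      mix R B θ (mix R B θ θ) (Algebra.TensorProduct.map (.id R A) Δ y) =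
      (Coalgebra.comul (R := B) (A := C)).lTensor C (mix R B θ θ y) := by
    intro y
    induction y using TensorProduct.induction_on with
    | zero => simp
    | add x y hx hy => simp only [map_add, hx, hy]
    | tmul a b =>
      rw [Algebra.TensorProduct.map_tmul, AlgHom.coe_id, id_eq, mix_tmul, hΔ, mix_tmul,
        LinearMap.lTensor_tmul]
  apply AlgHom.ext
  intro e
  apply hinj
  show mix R B θ (mix R B θ θ) (Algebra.TensorProduct.assoc R R R A A A
      (Algebra.TensorProduct.map Δ (.id R A) (Δ e))) =
    mix R B θ (mix R B θ θ) (Algebra.TensorProduct.map (.id R A) Δ (Δ e))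
  rw [ha, hb, hΔ, Coalgebra.coassoc_apply]

include hB hθ hΔ hε in
lemma desc_rTensor :
    (Algebra.TensorProduct.map ε (.id R A)).comp Δ = (Algebra.TensorProduct.lid R A).symm := by
  have hχ' := isRed_mix R B (isRed_ofId R B) hθ
  have hinj := injective_of_flat R B hB hχ'
  have hc : ∀ y : A ⊗[R] A,
      mix R B (Algebra.ofId R B) θ (Algebra.TensorProduct.map ε (.id R A) y) =
      (Coalgebra.counit (R := B) (A := C)).rTensor C (mix R B θ θ y) := by
    intro y
    induction y using TensorProduct.induction_on with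
    | zero => simp
    | add x y hx hy => simp only [map_add, hx, hy]
    | tmul a b =>
      rw [Algebra.TensorProduct.map_tmul, AlgHom.coe_id, id_eq, mix_tmul, mix_tmul,
        LinearMap.rTensor_tmul, ← hε]
      rfl
  apply AlgHom.ext
  intro e
  apply hinj
  show mix R B (Algebra.ofId R B) θ (Algebra.TensorProduct.map ε (.id R A) (Δ e)) =
    mix R B (Algebra.ofId R B) θ ((Algebra.TensorProduct.lid R A).symm e)
  rw [hc, hΔ, Coalgebra.rTensor_counit_comul]
  simp [Algebra.ofId_apply]

include hB hθ hΔ hε in
lemma desc_lTensor :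
    (Algebra.TensorProduct.map (.id R A) ε).comp Δ = (Algebra.TensorProduct.rid R R A).symm := by
  have hχ' := isRed_mix R B hθ (isRed_ofId R B)
  have hinj := injective_of_flat R B hB hχ'
  have hc : ∀ y : A ⊗[R] A,
      mix R B θ (Algebra.ofId R B) (Algebra.TensorProduct.map (.id R A) ε y) =
      (Coalgebra.counit (R := B) (A := C)).lTensor C (mix R B θ θ y) := by
    intro y
    induction y using TensorProduct.induction_on with
    | zero => simp
    | add x y hx hy => simp only [map_add, hx, hy]
    | tmul a b =>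
      rw [Algebra.TensorProduct.map_tmul, AlgHom.coe_id, id_eq, mix_tmul, mix_tmul,
        LinearMap.lTensor_tmul, ← hε]
      rfl
  apply AlgHom.ext
  intro e
  apply hinj
  show mix R B θ (Algebra.ofId R B) (Algebra.TensorProduct.map (.id R A) ε (Δ e)) =
    mix R B θ (Algebra.ofId R B) ((Algebra.TensorProduct.rid R R A).symm e)
  rw [hc, hΔ, Coalgebra.lTensor_counit_comul]
  simp [Algebra.ofId_apply]

include hB hθ hΔ hε hS in
lemma desc_antipode_r :
    (Algebra.TensorProduct.lift S (.id R A) fun _ _ ↦ Commute.all _ _).comp Δ =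
      (Algebra.ofId R A).comp ε := by
  have hinj := injective_of_flat R B hB hθ
  have hd : ∀ y : A ⊗[R] A,
      θ (Algebra.TensorProduct.lift S (.id R A) (fun _ _ ↦ Commute.all _ _) y) =
      LinearMap.mul' B C ((HopfAlgebra.antipode B (A := C)).rTensor C (mix R B θ θ y)) := by
    intro y
    induction y using TensorProduct.induction_on with
    | zero => simp
    | add x y hx hy => simp only [map_add, hx, hy]
    | tmul a b =>
      rw [Algebra.TensorProduct.lift_tmul, mix_tmul, LinearMap.rTensor_tmul, LinearMap.mul'_apply,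
        map_mul, hS]
      rfl
  apply AlgHom.ext
  intro e
  apply hinj
  show θ (Algebra.TensorProduct.lift S (.id R A) (fun _ _ ↦ Commute.all _ _) (Δ e)) =
    θ (Algebra.ofId R A (ε e))
  rw [hd, hΔ, HopfAlgebra.mul_antipode_rTensor_comul_apply, ← hε, Algebra.ofId_apply,
    AlgHom.commutes, ← IsScalarTower.algebraMap_apply]

include hB hθ hΔ hε hS in
lemma desc_antipode_l :
    (Algebra.TensorProduct.lift (.id R A) S fun _ _ ↦ Commute.all _ _).comp Δ =
      (Algebra.ofId R A).comp ε := by
  have hinj := injective_of_flat R B hB hθ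
  have hd : ∀ y : A ⊗[R] A,
      θ (Algebra.TensorProduct.lift (.id R A) S (fun _ _ ↦ Commute.all _ _) y) =
      LinearMap.mul' B C ((HopfAlgebra.antipode B (A := C)).lTensor C (mix R B θ θ y)) := by
    intro y
    induction y using TensorProduct.induction_on with
    | zero => simp
    | add x y hx hy => simp only [map_add, hx, hy]
    | tmul a b =>
      rw [Algebra.TensorProduct.lift_tmul, mix_tmul, LinearMap.lTensor_tmul, LinearMap.mul'_apply,
        map_mul, hS]
      rfl
  apply AlgHom.ext
  intro e
  apply hinj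
  show θ (Algebra.TensorProduct.lift (.id R A) S (fun _ _ ↦ Commute.all _ _) (Δ e)) =
    θ (Algebra.ofId R A (ε e))
  rw [hd, hΔ, HopfAlgebra.mul_antipode_lTensor_comul_apply, ← hε, Algebra.ofId_apply,
    AlgHom.commutes, ← IsScalarTower.algebraMap_apply]

end verify

section data
variable (R : Type u) [CommRing R] (B : Type u) [CommRing B] [Algebra R B]
variable {A : Type u} [CommRing A] [Algebra R A] [Module.Flat R A]
variable {C : Type u} [CommRing C] [HopfAlgebra B C] [Algebra R C] [IsScalarTower R B C]
variable (θ : A →ₐ[R] C)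

/-- the data of a descended Hopf structure -/
structure HopfData where
  Δ : A →ₐ[R] A ⊗[R] A
  ε : A →ₐ[R] R
  S : A →ₐ[R] A
  hΔ : ∀ a, mix R B θ θ (Δ a) = Coalgebra.comul (R := B) (θ a)
  hε : ∀ a, algebraMap R B (ε a) = Coalgebra.counit (R := B) (θ a)
  hS : ∀ a, θ (S a) = HopfAlgebra.antipode B (θ a)

variable {R B θ}

theorem exists_hopfData (hB : Function.Injective (algebraMap R B)) (hθ : IsRed R B θ.toLinearMap)
    (hΔ : ∀ a, Coalgebra.comul (R := B) (θ a) ∈ Set.range (mix R B θ θ))
    (hε : ∀ a, Coalgebra.counit (R := B) (θ a) ∈ Set.range (algebraMap R B))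
    (hS : ∀ a, HopfAlgebra.antipode B (θ a) ∈ Set.range θ) : Nonempty (HopfData R B θ) := by
  have hinj₂ : Function.Injective (mix R B θ θ) :=
    injective_of_flat R B hB (isRed_mix R B hθ hθ)
  have hinj₁ : Function.Injective θ := injective_of_flat R B hB hθ
  have hinj₀ : Function.Injective (Algebra.ofId R B) := hB
  let e₂ := AlgEquiv.ofInjective (mix R B θ θ) hinj₂
  let e₁ := AlgEquiv.ofInjective θ hinj₁
  let e₀ := AlgEquiv.ofInjective (Algebra.ofId R B) hinj₀
  let Δ' : A →ₐ[R] (mix R B θ θ).range :=
    AlgHom.codRestrict (((Bialgebra.comulAlgHom B C).restrictScalars R).comp θ) _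
      (fun a => by
        obtain ⟨y, hy⟩ := hΔ a
        exact ⟨y, hy⟩)
  let ε' : A →ₐ[R] (Algebra.ofId R B).range :=
    AlgHom.codRestrict (((Bialgebra.counitAlgHom B C).restrictScalars R).comp θ) _
      (fun a => by
        obtain ⟨y, hy⟩ := hε a
        exact ⟨y, hy⟩)
  let S' : A →ₐ[R] θ.range :=
    AlgHom.codRestrict (((HopfAlgebra.antipodeAlgHom B C).restrictScalars R).comp θ) _
      (fun a => by
        obtain ⟨y, hy⟩ := hS a
        exact ⟨y, hy⟩)
  refine ⟨{ Δ := (e₂.symm : _ →ₐ[R] _).comp Δ'
            ε := (e₀.symm : _ →ₐ[R] _).comp ε'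
            S := (e₁.symm : _ →ₐ[R] _).comp S'
            hΔ := ?_, hε := ?_, hS := ?_ }⟩
  · intro a
    have h1 : (e₂ (e₂.symm (Δ' a)) : C ⊗[B] C) = (Δ' a : C ⊗[B] C) := by
      rw [AlgEquiv.apply_symm_apply]
    exact h1
  · intro a
    have h1 : (e₀ (e₀.symm (ε' a)) : B) = (ε' a : B) := by
      rw [AlgEquiv.apply_symm_apply]
    exact h1
  · intro a
    have h1 : (e₁ (e₁.symm (S' a)) : C) = (S' a : C) := by
      rw [AlgEquiv.apply_symm_apply]
    exact h1

namespace HopfData
variable (L : HopfData R B θ) (hB : Function.Injective (algebraMap R B))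
  (hθ : IsRed R B θ.toLinearMap)

/-- the descended bialgebra structure -/
@[reducible] noncomputable def bialgebra : Bialgebra R A :=
  Bialgebra.ofAlgHom L.Δ L.ε (desc_coassoc R B hB θ hθ L.Δ L.hΔ)
    (desc_rTensor R B hB θ hθ L.Δ L.ε L.hΔ L.hε) (desc_lTensor R B hB θ hθ L.Δ L.ε L.hΔ L.hε)

/-- the descended Hopf algebra structure -/
@[reducible] noncomputable def hopf : HopfAlgebra R A :=
  letI := L.bialgebra hB hθ
  HopfAlgebra.ofAlgHom L.S (desc_antipode_r R B hB θ hθ L.Δ L.ε L.S L.hΔ L.hε L.hS)
    (desc_antipode_l R B hB θ hθ L.Δ L.ε L.S L.hΔ L.hε L.hS)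

lemma mix_eq_semiMap (y : A ⊗[R] A) : letI := L.hopf hB hθ;
    mix R B θ θ y = semiMap R B θ.toLinearMap y := by
  letI := L.hopf hB hθ
  induction y using TensorProduct.induction_on with
  | zero => simp
  | add x y hx hy => simp only [map_add, hx, hy]
  | tmul a b => simp

lemma isSemiCoalg : letI := L.hopf hB hθ; IsSemiCoalg R B θ := by
  letI := L.hopf hB hθ
  refine ⟨fun a => (L.hε a).symm, fun a => ?_⟩
  rw [← L.mix_eq_semiMap hB hθ, ← L.hΔ a]
  rfl

lemma isSemiIso : letI := L.hopf hB hθ; IsSemiIso R B θ := by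
  letI := L.hopf hB hθ
  exact ⟨L.isSemiCoalg hB hθ, hθ⟩

end HopfData

end data

end Groth.Agent.Helper2.HopfInj
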