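import Mathlib
import Groth.Prelude.Def_SGA3b
import Groth.Agent.Lead.FD7
import Groth.Agent.Helper2.HopfInj

/-!
# Noetherian models of flat finitely presented Hopf algebras
-/

set_option autoImplicit false

namespace Groth.Agent.Helper2.HopfModel
open TensorProduct Groth.Agent.Helper2.MultTypeSemi Groth.Agent.Helper2.SemiIso
  Groth.Agent.Helper2.HD Groth.Agent.Helper2.HopfInj

universe u

section family
variable {A₀ R : Type u} [CommRing A₀] [CommRing R] [Algebra A₀ R]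
  {B₀ : Type u} [CommRing B₀] [Algebra A₀ B₀]
  {C : Type u} [CommRing C] [Algebra R C] [Algebra A₀ C] [IsScalarTower A₀ R C]
  (χ₀ : B₀ →ₐ[A₀] C)

/-- the stage map -/
noncomputable def stageMap (R' : Subalgebra A₀ R) : ↥R' ⊗[A₀] B₀ →ₐ[↥R'] C :=
  Algebra.TensorProduct.lift (Algebra.ofId ↥R' C) χ₀ (fun _ _ => Commute.all _ _)

@[simp] lemma stageMap_tmul (R' : Subalgebra A₀ R) (r : R') (b : B₀) :
    stageMap χ₀ R' (r ⊗ₜ b) = (r : R) • χ₀ b := by
  simp only [stageMap, Algebra.TensorProduct.lift_tmul, Algebra.ofId_apply, Algebra.smul_def]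
  rfl

lemma isRed_stageMap (h : IsRed A₀ R χ₀.toLinearMap) (R' : Subalgebra A₀ R) :
    IsRed ↥R' R (stageMap χ₀ R').toLinearMap := by
  let e : R ⊗[A₀] B₀ ≃ₗ[R] C := LinearEquiv.ofBijective _ h
  let c : R ⊗[↥R'] (↥R' ⊗[A₀] B₀) ≃ₗ[R] R ⊗[A₀] B₀ :=
    AlgebraTensorModule.cancelBaseChange A₀ ↥R' R R B₀
  have : LinearMap.liftBaseChange R (stageMap χ₀ R').toLinearMap =
      e.toLinearMap ∘ₗ c.toLinearMap := by
    apply TensorProduct.AlgebraTensorModule.ext
    intro s x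
    induction x using TensorProduct.induction_on with
    | zero => simp
    | add x y hx hy => simp only [tmul_add, map_add, hx, hy]
    | tmul r a =>
      simp only [AlgHom.toLinearMap_apply, LinearMap.liftBaseChange_tmul, stageMap_tmul,
        LinearMap.coe_comp, LinearEquiv.coe_coe, Function.comp_apply, c, e,
        AlgebraTensorModule.cancelBaseChange_tmul, LinearEquiv.ofBijective_apply]
      rw [smul_smul, mul_comm]
      rfl
  unfold IsRed
  rw [this]
  exact e.bijective.comp c.bijective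

/-- every element of `C` lies in the range of every large enough stage -/
lemma exists_mem_range (h : IsRed A₀ R χ₀.toLinearMap) (c : C) :
    ∃ T : Finset R, ∀ R' : Subalgebra A₀ R, (↑T : Set R) ⊆ R' →
      c ∈ Set.range (stageMap χ₀ R') := by
  classical
  obtain ⟨y, rfl⟩ := h.2 c
  induction y using TensorProduct.induction_on with
  | zero => exact ⟨∅, fun R' _ => ⟨0, by simp⟩⟩
  | add x y hx hy =>
    obtain ⟨T₁, h₁⟩ := hx
    obtain ⟨T₂, h₂⟩ := hy
    refine ⟨T₁ ∪ T₂, fun R' hR' => ?_⟩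
    rw [Finset.coe_union, Set.union_subset_iff] at hR'
    obtain ⟨a, ha⟩ := h₁ R' hR'.1
    obtain ⟨b, hb⟩ := h₂ R' hR'.2
    exact ⟨a + b, by rw [map_add, map_add, ha, hb]⟩
  | tmul r b =>
    refine ⟨{r}, fun R' hR' => ?_⟩
    have hr : r ∈ R' := hR' (by simp)
    exact ⟨(⟨r, hr⟩ : R') ⊗ₜ b, by simp⟩

end family

section hopf
variable {A₀ R : Type u} [CommRing A₀] [CommRing R] [Algebra A₀ R]
  {B₀ : Type u} [CommRing B₀] [Algebra A₀ B₀]
  {C : Type u} [CommRing C] [HopfAlgebra R C] [Algebra A₀ C] [IsScalarTower A₀ R C]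
  (χ₀ : B₀ →ₐ[A₀] C)

/-- every element of `C ⊗ C` lies in the range of the tensor square of every large enough stage -/
lemma exists_mem_range_mix (h : IsRed A₀ R χ₀.toLinearMap) (z : C ⊗[R] C) :
    ∃ T : Finset R, ∀ R' : Subalgebra A₀ R, (↑T : Set R) ⊆ R' →
      z ∈ Set.range (mix ↥R' R (stageMap χ₀ R') (stageMap χ₀ R')) := by
  classical
  induction z using TensorProduct.induction_on with
  | zero => exact ⟨∅, fun R' _ => ⟨0, by simp⟩⟩
  | add x y hx hy =>
    obtain ⟨T₁, h₁⟩ := hx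
    obtain ⟨T₂, h₂⟩ := hy
    refine ⟨T₁ ∪ T₂, fun R' hR' => ?_⟩
    rw [Finset.coe_union, Set.union_subset_iff] at hR'
    obtain ⟨a, ha⟩ := h₁ R' hR'.1
    obtain ⟨b, hb⟩ := h₂ R' hR'.2
    exact ⟨a + b, by rw [map_add, ha, hb]⟩
  | tmul c c' =>
    obtain ⟨T₁, h₁⟩ := exists_mem_range χ₀ h c
    obtain ⟨T₂, h₂⟩ := exists_mem_range χ₀ h c'
    refine ⟨T₁ ∪ T₂, fun R' hR' => ?_⟩
    rw [Finset.coe_union, Set.union_subset_iff] at hR'
    obtain ⟨a, ha⟩ := h₁ R' hR'.1
    obtain ⟨b, hb⟩ := h₂ R' hR'.2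
    exact ⟨a ⊗ₜ b, by rw [mix_tmul, ha, hb]⟩

/-- a property of algebra maps out of a stage can be checked on generators of `B₀` -/
lemma stage_induction {s : Set B₀} (hs : Algebra.adjoin A₀ s = ⊤) (R' : Subalgebra A₀ R)
    {D : Type u} [CommRing D] [Algebra ↥R' D] (Φ : ↥R' ⊗[A₀] B₀ →ₐ[↥R'] D)
    (U : Subalgebra ↥R' D) (hU : ∀ b ∈ s, Φ ((1 : R') ⊗ₜ b) ∈ U) (a : ↥R' ⊗[A₀] B₀) : Φ a ∈ U := by
  have key : ∀ b : B₀, Φ ((1 : R') ⊗ₜ b) ∈ U := by
    intro b
    have hb : b ∈ Algebra.adjoin A₀ s := by rw [hs]; trivial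
    induction hb using Algebra.adjoin_induction with
    | mem x hx => exact hU x hx
    | algebraMap r =>
      have : ((1 : R') ⊗ₜ[A₀] (algebraMap A₀ B₀ r) : ↥R' ⊗[A₀] B₀) =
          algebraMap ↥R' _ (algebraMap A₀ ↥R' r) := by
        calc ((1 : R') ⊗ₜ[A₀] (algebraMap A₀ B₀ r) : ↥R' ⊗[A₀] B₀)
            = (1 : R') ⊗ₜ[A₀] (r • (1 : B₀)) := by rw [Algebra.algebraMap_eq_smul_one]
          _ = (r • (1 : R')) ⊗ₜ[A₀] (1 : B₀) := by
            rw [TensorProduct.tmul_smul, TensorProduct.smul_tmul']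
          _ = (algebraMap A₀ ↥R' r) ⊗ₜ[A₀] (1 : B₀) := by rw [Algebra.algebraMap_eq_smul_one]
          _ = algebraMap ↥R' _ (algebraMap A₀ ↥R' r) := by
            rw [Algebra.TensorProduct.algebraMap_apply]; rfl
      rw [this, AlgHom.commutes]
      exact U.algebraMap_mem _
    | add x y _ _ hx hy =>
      rw [TensorProduct.tmul_add, map_add]
      exact U.add_mem hx hy
    | mul x y _ _ hx hy =>
      have : ((1 : R') ⊗ₜ[A₀] (x * y) : ↥R' ⊗[A₀] B₀) = (1 ⊗ₜ x) * (1 ⊗ₜ y) := by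
        simp
      rw [this, map_mul]
      exact U.mul_mem hx hy
  induction a using TensorProduct.induction_on with
  | zero => rw [map_zero]; exact U.zero_mem
  | add x y hx hy => rw [map_add]; exact U.add_mem hx hy
  | tmul r b =>
    have : (r ⊗ₜ[A₀] b : ↥R' ⊗[A₀] B₀) = r • ((1 : R') ⊗ₜ b) := by
      rw [TensorProduct.smul_tmul', smul_eq_mul, mul_one]
    rw [this, map_smul]
    exact U.smul_mem (key b) r

end hopf

section main
variable {A₀ R : Type u} [CommRing A₀] [IsNoetherianRing A₀] [CommRing R] [Algebra A₀ R]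
  {B₀ : Type u} [CommRing B₀] [Algebra A₀ B₀] [Algebra.FiniteType A₀ B₀]
  {C : Type u} [CommRing C] [HopfAlgebra R C] [Module.Flat R C] [Algebra A₀ C]
  [IsScalarTower A₀ R C] (χ₀ : B₀ →ₐ[A₀] C)

theorem exists_stage (h : IsRed A₀ R χ₀.toLinearMap) :
    ∃ T : Finset R, ∀ R' : Subalgebra A₀ R, (↑T : Set R) ⊆ R' →
      Module.Flat ↥R' (↥R' ⊗[A₀] B₀) ∧
      (∀ a, Coalgebra.comul (R := R) (stageMap χ₀ R' a) ∈
        Set.range (mix ↥R' R (stageMap χ₀ R') (stageMap χ₀ R'))) ∧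
      (∀ a, Coalgebra.counit (R := R) (stageMap χ₀ R' a) ∈ Set.range (algebraMap ↥R' R)) ∧
      (∀ a, HopfAlgebra.antipode R (stageMap χ₀ R' a) ∈ Set.range (stageMap χ₀ R')) := by
  classical
  haveI : Module.Flat R (R ⊗[A₀] B₀) :=
    Module.Flat.of_linearEquiv (LinearEquiv.ofBijective _ h)
  obtain ⟨T₀, hT₀⟩ := Groth.Agent.Lead.FD7.core_ft' (A₀ := A₀) B₀ B₀ R
  obtain ⟨s, hs⟩ := (Algebra.FiniteType.out : (⊤ : Subalgebra A₀ B₀).FG)
  have hΔ : ∀ b : B₀, ∃ T : Finset R, ∀ R' : Subalgebra A₀ R, (↑T : Set R) ⊆ R' →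
      Coalgebra.comul (R := R) (χ₀ b) ∈
        Set.range (mix ↥R' R (stageMap χ₀ R') (stageMap χ₀ R')) :=
    fun b => exists_mem_range_mix χ₀ h _
  have hε : ∀ b : B₀, ∃ T : Finset R, ∀ R' : Subalgebra A₀ R, (↑T : Set R) ⊆ R' →
      Coalgebra.counit (R := R) (χ₀ b) ∈ Set.range (algebraMap ↥R' R) :=
    fun b => ⟨{Coalgebra.counit (R := R) (χ₀ b)}, fun R' hR' => ⟨⟨_, hR' (by simp)⟩, rfl⟩⟩
  have hS : ∀ b : B₀, ∃ T : Finset R, ∀ R' : Subalgebra A₀ R, (↑T : Set R) ⊆ R' →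
      HopfAlgebra.antipode R (χ₀ b) ∈ Set.range (stageMap χ₀ R') :=
    fun b => exists_mem_range χ₀ h _
  choose TΔ hTΔ using hΔ
  choose Tε hTε using hε
  choose TS hTS using hS
  refine ⟨T₀ ∪ s.biUnion (fun b => TΔ b ∪ Tε b ∪ TS b), fun R' hR' => ?_⟩
  rw [Finset.coe_union, Set.union_subset_iff] at hR'
  obtain ⟨h0, h1⟩ := hR'
  have hsub : ∀ b ∈ s, (↑(TΔ b) : Set R) ⊆ R' ∧ (↑(Tε b) : Set R) ⊆ R' ∧
      (↑(TS b) : Set R) ⊆ R' := by
    intro b hb
    have h2 : (↑(TΔ b ∪ Tε b ∪ TS b) : Set R) ⊆ R' := by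
      refine subset_trans ?_ h1
      intro x hx
      rw [Finset.mem_coe, Finset.mem_biUnion]
      exact ⟨b, hb, hx⟩
    rw [Finset.coe_union, Finset.coe_union, Set.union_subset_iff, Set.union_subset_iff] at h2
    exact ⟨h2.1.1, h2.1.2, h2.2⟩
  have h1b : ∀ b : B₀, stageMap χ₀ R' ((1 : R') ⊗ₜ b) = χ₀ b := by
    intro b
    rw [stageMap_tmul]
    simp
  refine ⟨hT₀ R' h0, ?_, ?_, ?_⟩
  · intro a
    exact stage_induction hs R'
      (((Bialgebra.comulAlgHom R C).restrictScalars ↥R').comp (stageMap χ₀ R'))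
      (mix ↥R' R (stageMap χ₀ R') (stageMap χ₀ R')).range
      (fun b hb => by
        show Coalgebra.comul (R := R) (stageMap χ₀ R' ((1 : R') ⊗ₜ b)) ∈ _
        rw [h1b]
        exact hTΔ b R' (hsub b hb).1) a
  · intro a
    exact stage_induction hs R'
      (((Bialgebra.counitAlgHom R C).restrictScalars ↥R').comp (stageMap χ₀ R'))
      (Algebra.ofId ↥R' R).range
      (fun b hb => by
        show Coalgebra.counit (R := R) (stageMap χ₀ R' ((1 : R') ⊗ₜ b)) ∈ _
        rw [h1b]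
        exact hTε b R' (hsub b hb).2.1) a
  · intro a
    exact stage_induction hs R'
      (((HopfAlgebra.antipodeAlgHom R C).restrictScalars ↥R').comp (stageMap χ₀ R'))
      (stageMap χ₀ R').range
      (fun b hb => by
        show HopfAlgebra.antipode R (stageMap χ₀ R' ((1 : R') ⊗ₜ b)) ∈ _
        rw [h1b]
        exact hTS b R' (hsub b hb).2.2) a

end main

section final

/-- **Noetherian model of a flat finitely presented Hopf algebra**: a flat Hopf algebra of finite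
presentation over `R` is the base change of a flat Hopf algebra of finite type over a finitely
generated subring of `R`. -/
theorem exists_hopf_model (R : Type u) [CommRing R] (C : Type u) [CommRing C] [HopfAlgebra R C]
    [Module.Flat R C] (hfp : Algebra.FinitePresentation R C) :
    ∃ (R₀ : Type u) (_ : CommRing R₀) (_ : Algebra R₀ R) (C₀ : Type u) (_ : CommRing C₀)
      (_ : HopfAlgebra R₀ C₀) (_ : Algebra R₀ C) (_ : IsScalarTower R₀ R C) (θ : C₀ →ₐ[R₀] C),
      Function.Injective (algebraMap R₀ R) ∧ Algebra.FiniteType ℤ R₀ ∧ Module.Flat R₀ C₀ ∧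
        Algebra.FiniteType R₀ C₀ ∧ IsSemiIso R₀ R θ := by
  classical
  let P := Algebra.Presentation.ofFinitePresentation R C
  let e₀ : R ⊗[P.Core] P.ModelOfHasCoeffs P.Core ≃ₐ[R] C := P.tensorModelOfHasCoeffsEquiv P.Core
  haveI : IsNoetherianRing P.Core := Algebra.FiniteType.isNoetherianRing ℤ P.Core
  let χ₀ : P.ModelOfHasCoeffs P.Core →ₐ[P.Core] C :=
    (e₀.toAlgHom.restrictScalars P.Core).comp Algebra.TensorProduct.includeRight
  have hχ₀ : IsRed P.Core R χ₀.toLinearMap := by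
    have : LinearMap.liftBaseChange R χ₀.toLinearMap = e₀.toLinearEquiv.toLinearMap := by
      apply TensorProduct.AlgebraTensorModule.ext
      intro r b
      simp only [LinearMap.liftBaseChange_tmul, AlgHom.toLinearMap_apply, χ₀, AlgHom.comp_apply,
        AlgHom.restrictScalars_apply, Algebra.TensorProduct.includeRight_apply,
        AlgEquiv.toLinearEquiv_toLinearMap, AlgEquiv.toLinearMap_apply]
      rw [← map_smul, TensorProduct.smul_tmul', smul_eq_mul, mul_one]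
      rfl
    unfold IsRed
    rw [this]
    exact e₀.bijective
  obtain ⟨T, hT⟩ := exists_stage χ₀ hχ₀
  let R' : Subalgebra P.Core R := Algebra.adjoin P.Core (↑T : Set R)
  obtain ⟨hflat, hΔ, hε, hS⟩ := hT R' Algebra.subset_adjoin
  haveI := hflat
  have hB : Function.Injective (algebraMap ↥R' R) := Subtype.val_injective
  have hred := isRed_stageMap χ₀ hχ₀ R'
  obtain ⟨L⟩ := exists_hopfData (R := ↥R') (B := R) (θ := stageMap χ₀ R') hB hred hΔ hε hS
  haveI hft1 : Algebra.FiniteType P.Core ↥R' := (Subalgebra.fg_iff_finiteType R').mp ⟨T, rfl⟩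
  have hftZ : Algebra.FiniteType ℤ ↥R' := Algebra.FiniteType.trans (R := ℤ) (S := P.Core) inferInstance hft1
  refine ⟨↥R', inferInstance, inferInstance, ↥R' ⊗[P.Core] P.ModelOfHasCoeffs P.Core,
    inferInstance, L.hopf hB hred, inferInstance, inferInstance, stageMap χ₀ R', hB, hftZ, hflat,
    ?_, L.isSemiIso hB hred⟩
  exact Algebra.FiniteType.baseChange ↥R'

end final

end Groth.Agent.Helper2.HopfModel
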