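import Mathlib
import Groth.Prelude.Def_SGA3b
import Groth.Agent.Helper2.HDRed

/-!
# Non-flat Hopf models I: vanishing at a finite stage, maps out of finitely presented algebras
-/

set_option autoImplicit false

namespace Groth.Agent.Helper2.HopfNF
open TensorProduct Groth.Agent.Helper2.HD

universe u

section van
variable {A₁ R : Type u} [CommRing A₁] [CommRing R] [Algebra A₁ R]
  {X : Type u} [AddCommGroup X] [Module A₁ X]

/-- an element whose image in `R ⊗ X` vanishes already dies in `R'' ⊗ X` for all large enough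
subalgebras `R''` of `R` -/
theorem van (z : X) (hz : (1 : R) ⊗ₜ[A₁] z = 0) :
    ∃ T : Finset R, ∀ R'' : Subalgebra A₁ R, (↑T : Set R) ⊆ R'' →
      (1 : R'') ⊗ₜ[A₁] z = 0 := by
  classical
  let N : Submodule A₁ R := Submodule.span A₁ {(1 : R)}
  have hN : N.FG := ⟨{1}, by simp [N]⟩
  let x : N ⊗[A₁] X := (⟨1, Submodule.subset_span rfl⟩ : N) ⊗ₜ[A₁] z
  have hx : N.subtype.rTensor X x = N.subtype.rTensor X 0 := by
    rw [map_zero]
    exact hz
  obtain ⟨N', hfg, hle, heq⟩ := hN.exists_rTensor_fg_inclusion_eq hx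
  obtain ⟨S', hS'⟩ := hfg
  refine ⟨S', fun R'' hR'' => ?_⟩
  have hN' : N' ≤ Subalgebra.toSubmodule R'' := by
    rw [← hS', Submodule.span_le]
    exact hR''
  let ι : N' →ₗ[A₁] R'' :=
    LinearMap.codRestrict (Subalgebra.toSubmodule R'') N'.subtype (fun n => hN' n.2)
  have h1 := congrArg (ι.rTensor X) heq
  rw [map_zero, map_zero] at h1
  rw [← h1]
  rfl

/-- in particular any linear map into an `R''`-module kills it -/
theorem van_map {Y : Type u} [AddCommGroup Y] [Module R Y] [Module A₁ Y] [IsScalarTower A₁ R Y]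
    (θ : X →ₗ[A₁] Y) (hθ : IsRed A₁ R θ) (z : X) (hz : θ z = 0) :
    ∃ T : Finset R, ∀ R'' : Subalgebra A₁ R, (↑T : Set R) ⊆ R'' →
      (1 : R'') ⊗ₜ[A₁] z = 0 := by
  apply van
  apply hθ.1
  rw [map_zero, LinearMap.liftBaseChange_tmul, one_smul]
  exact hz

lemma map_eq_zero_of_tmul_eq_zero {R'' : Type u} [CommRing R''] [Algebra A₁ R'']
    {Y : Type u} [AddCommGroup Y] [Module R'' Y] [Module A₁ Y] [IsScalarTower A₁ R'' Y]
    (σ : X →ₗ[A₁] Y) (z : X) (hz : (1 : R'') ⊗ₜ[A₁] z = 0) : σ z = 0 := by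
  have := congrArg (LinearMap.liftBaseChange R'' σ) hz
  rwa [LinearMap.liftBaseChange_tmul, one_smul, map_zero] at this

end van

section lift
variable {A₁ : Type u} [CommRing A₁] {B₁ : Type u} [CommRing B₁] [Algebra A₁ B₁]
  {n : ℕ} (π : MvPolynomial (Fin n) A₁ →ₐ[A₁] B₁) (hπ : Function.Surjective π)
  (G : Set (MvPolynomial (Fin n) A₁)) (hG : RingHom.ker π.toRingHom = Ideal.span G)

include hπ hG in
/-- algebra maps out of a presented algebra -/
theorem exists_algHom_of_presentation {Y : Type u} [CommRing Y] [Algebra A₁ Y] (v : Fin n → Y)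
    (hv : ∀ g ∈ G, MvPolynomial.aeval v g = 0) :
    ∃ ψ : B₁ →ₐ[A₁] Y, ∀ p, ψ (π p) = MvPolynomial.aeval v p := by
  have hker : ∀ p, π p = 0 → MvPolynomial.aeval v p = 0 := by
    intro p hp
    have h1 : p ∈ RingHom.ker π.toRingHom := hp
    rw [hG] at h1
    have h2 : Ideal.span G ≤ RingHom.ker (MvPolynomial.aeval v : MvPolynomial (Fin n) A₁ →ₐ[A₁] Y) := by
      rw [Ideal.span_le]
      intro g hg
      exact hv g hg
    exact h2 h1
  let ψ₀ : MvPolynomial (Fin n) A₁ ⧸ RingHom.ker π →ₐ[A₁] Y :=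
    Ideal.Quotient.liftₐ (RingHom.ker π) (MvPolynomial.aeval v) (fun p hp => hker p hp)
  let e : (MvPolynomial (Fin n) A₁ ⧸ RingHom.ker π) ≃ₐ[A₁] B₁ :=
    Ideal.quotientKerAlgEquivOfSurjective hπ
  refine ⟨ψ₀.comp e.symm.toAlgHom, fun p => ?_⟩
  have h1 : e.symm (π p) = Ideal.Quotient.mk (RingHom.ker π) p := by
    rw [AlgEquiv.symm_apply_eq]
    rfl
  show ψ₀ (e.symm (π p)) = _
  rw [h1]
  rfl

end lift

end Groth.Agent.Helper2.HopfNF
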