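import Mathlib
import Groth.Prelude.Def_SGA3b
import Groth.Agent.Helper2.HopfInj
import Groth.Agent.Helper2.HopfNF1

/-!
# Non-flat Hopf models II: compatibility squares for semilinear maps of "Hopf data"
-/

set_option autoImplicit false

namespace Groth.Agent.Helper2.HopfNF
open TensorProduct Groth.Agent.Helper2.HD Groth.Agent.Helper2.MultTypeSemi
  Groth.Agent.Helper2.SemiIso

universe u

section squares
variable (R : Type u) [CommRing R] (B : Type u) [CommRing B] [Algebra R B]
variable {A : Type u} [CommRing A] [Algebra R A]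
variable {C : Type u} [CommRing C] [Algebra B C] [Algebra R C] [IsScalarTower R B C]
variable (θ : A →ₐ[R] C)
variable (Δ : A →ₐ[R] A ⊗[R] A) (ε : A →ₐ[R] R) (S : A →ₐ[R] A)
variable (Δ' : C →ₐ[B] C ⊗[B] C) (ε' : C →ₐ[B] B) (S' : C →ₐ[B] C)
variable (hΔ : ∀ a, mix R B θ θ (Δ a) = Δ' (θ a))
variable (hε : ∀ a, algebraMap R B (ε a) = ε' (θ a))
variable (hS : ∀ a, θ (S a) = S' (θ a))

include hΔ in
lemma sq_coassoc_l (e : A) :
    mix R B θ (mix R B θ θ) (Algebra.TensorProduct.assoc R R R A A A
      (Algebra.TensorProduct.map Δ (.id R A) (Δ e))) =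
    Algebra.TensorProduct.assoc B B B C C C
      (Algebra.TensorProduct.map Δ' (.id B C) (Δ' (θ e))) := by
  have ha' : ∀ (z : A ⊗[R] A) (b : A),
      mix R B θ (mix R B θ θ) (Algebra.TensorProduct.assoc R R R A A A (z ⊗ₜ b)) =
      Algebra.TensorProduct.assoc B B B C C C (mix R B θ θ z ⊗ₜ θ b) := by
    intro z b
    induction z using TensorProduct.induction_on with
    | zero => simp
    | add x y hx hy => simp only [add_tmul, map_add, hx, hy]
    | tmul p q => simp
  have ha : ∀ y : A ⊗[R] A,
      mix R B θ (mix R B θ θ) (Algebra.TensorProduct.assoc R R R A A A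
        (Algebra.TensorProduct.map Δ (.id R A) y)) =
      Algebra.TensorProduct.assoc B B B C C C
        (Algebra.TensorProduct.map Δ' (.id B C) (mix R B θ θ y)) := by
    intro y
    induction y using TensorProduct.induction_on with
    | zero => simp
    | add x y hx hy => simp only [map_add, hx, hy]
    | tmul a b =>
      rw [Algebra.TensorProduct.map_tmul, AlgHom.coe_id, id_eq, ha', hΔ, mix_tmul,
        Algebra.TensorProduct.map_tmul, AlgHom.coe_id, id_eq]
  rw [ha, hΔ]

include hΔ in
lemma sq_coassoc_r (e : A) :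
    mix R B θ (mix R B θ θ) (Algebra.TensorProduct.map (.id R A) Δ (Δ e)) =
    Algebra.TensorProduct.map (.id B C) Δ' (Δ' (θ e)) := by
  have hb : ∀ y : A ⊗[R] A,
      mix R B θ (mix R B θ θ) (Algebra.TensorProduct.map (.id R A) Δ y) =
      Algebra.TensorProduct.map (.id B C) Δ' (mix R B θ θ y) := by
    intro y
    induction y using TensorProduct.induction_on with
    | zero => simp
    | add x y hx hy => simp only [map_add, hx, hy]
    | tmul a b =>
      rw [Algebra.TensorProduct.map_tmul, AlgHom.coe_id, id_eq, mix_tmul, hΔ, mix_tmul,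
        Algebra.TensorProduct.map_tmul, AlgHom.coe_id, id_eq]
  rw [hb, hΔ]

include hΔ hε in
lemma sq_rTensor (e : A) :
    mix R B (Algebra.ofId R B) θ (Algebra.TensorProduct.map ε (.id R A) (Δ e)) =
    Algebra.TensorProduct.map ε' (.id B C) (Δ' (θ e)) := by
  have hc : ∀ y : A ⊗[R] A,
      mix R B (Algebra.ofId R B) θ (Algebra.TensorProduct.map ε (.id R A) y) =
      Algebra.TensorProduct.map ε' (.id B C) (mix R B θ θ y) := by
    intro y
    induction y using TensorProduct.induction_on with
    | zero => simp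
    | add x y hx hy => simp only [map_add, hx, hy]
    | tmul a b =>
      rw [Algebra.TensorProduct.map_tmul, AlgHom.coe_id, id_eq, mix_tmul, mix_tmul,
        Algebra.TensorProduct.map_tmul, AlgHom.coe_id, id_eq, ← hε]
      rfl
  rw [hc, hΔ]

include hΔ hε in
lemma sq_lTensor (e : A) :
    mix R B θ (Algebra.ofId R B) (Algebra.TensorProduct.map (.id R A) ε (Δ e)) =
    Algebra.TensorProduct.map (.id B C) ε' (Δ' (θ e)) := by
  have hc : ∀ y : A ⊗[R] A,
      mix R B θ (Algebra.ofId R B) (Algebra.TensorProduct.map (.id R A) ε y) =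
      Algebra.TensorProduct.map (.id B C) ε' (mix R B θ θ y) := by
    intro y
    induction y using TensorProduct.induction_on with
    | zero => simp
    | add x y hx hy => simp only [map_add, hx, hy]
    | tmul a b =>
      rw [Algebra.TensorProduct.map_tmul, AlgHom.coe_id, id_eq, mix_tmul, mix_tmul,
        Algebra.TensorProduct.map_tmul, AlgHom.coe_id, id_eq, ← hε]
      rfl
  rw [hc, hΔ]

omit [IsScalarTower R B C] in
lemma sq_lid (e : A) [IsScalarTower R B C] :
    mix R B (Algebra.ofId R B) θ ((Algebra.TensorProduct.lid R A).symm e) =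
    (Algebra.TensorProduct.lid B C).symm (θ e) := by
  simp [Algebra.ofId_apply]

omit [IsScalarTower R B C] in
lemma sq_rid (e : A) [IsScalarTower R B C] :
    mix R B θ (Algebra.ofId R B) ((Algebra.TensorProduct.rid R R A).symm e) =
    (Algebra.TensorProduct.rid B B C).symm (θ e) := by
  simp [Algebra.ofId_apply]

include hΔ hS in
lemma sq_antipode_r (e : A) :
    θ (Algebra.TensorProduct.lift S (.id R A) (fun _ _ ↦ Commute.all _ _) (Δ e)) =
    Algebra.TensorProduct.lift S' (.id B C) (fun _ _ ↦ Commute.all _ _) (Δ' (θ e)) := by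
  have hd : ∀ y : A ⊗[R] A,
      θ (Algebra.TensorProduct.lift S (.id R A) (fun _ _ ↦ Commute.all _ _) y) =
      Algebra.TensorProduct.lift S' (.id B C) (fun _ _ ↦ Commute.all _ _) (mix R B θ θ y) := by
    intro y
    induction y using TensorProduct.induction_on with
    | zero => simp
    | add x y hx hy => simp only [map_add, hx, hy]
    | tmul a b =>
      rw [Algebra.TensorProduct.lift_tmul, mix_tmul, Algebra.TensorProduct.lift_tmul,
        map_mul, hS]
      rfl
  rw [hd, hΔ]

include hΔ hS in
lemma sq_antipode_l (e : A) :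
    θ (Algebra.TensorProduct.lift (.id R A) S (fun _ _ ↦ Commute.all _ _) (Δ e)) =
    Algebra.TensorProduct.lift (.id B C) S' (fun _ _ ↦ Commute.all _ _) (Δ' (θ e)) := by
  have hd : ∀ y : A ⊗[R] A,
      θ (Algebra.TensorProduct.lift (.id R A) S (fun _ _ ↦ Commute.all _ _) y) =
      Algebra.TensorProduct.lift (.id B C) S' (fun _ _ ↦ Commute.all _ _) (mix R B θ θ y) := by
    intro y
    induction y using TensorProduct.induction_on with
    | zero => simp
    | add x y hx hy => simp only [map_add, hx, hy]
    | tmul a b =>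
      rw [Algebra.TensorProduct.lift_tmul, mix_tmul, Algebra.TensorProduct.lift_tmul,
        map_mul, hS]
      rfl
  rw [hd, hΔ]

include hε in
lemma sq_unit (e : A) :
    θ (Algebra.ofId R A (ε e)) = Algebra.ofId B C (ε' (θ e)) := by
  rw [Algebra.ofId_apply, AlgHom.commutes, Algebra.ofId_apply, ← hε,
    ← IsScalarTower.algebraMap_apply]

end squares

end Groth.Agent.Helper2.HopfNF
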