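import Mathlib
import Groth.Prelude.Def_SGA3b
import Groth.Agent.Helper2.HopfNF2
import Groth.Agent.Helper2.HopfModel

/-!
# Non-flat Hopf models III: Hopf data with axioms; descending the structure maps to a stage
-/

set_option autoImplicit false

namespace Groth.Agent.Helper2.HopfNF
open TensorProduct Groth.Agent.Helper2.HD Groth.Agent.Helper2.MultTypeSemi
  Groth.Agent.Helper2.SemiIso Groth.Agent.Helper2.HopfModel

universe u

section data
variable (R : Type u) [CommRing R] (B : Type u) [CommRing B] [Algebra R B]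
variable {A : Type u} [CommRing A] [Algebra R A]
variable {C : Type u} [CommRing C] [HopfAlgebra B C] [Algebra R C] [IsScalarTower R B C]
variable (θ : A →ₐ[R] C)

/-- the data of a descended Hopf structure, with the axioms -/
structure HopfData' where
  Δ : A →ₐ[R] A ⊗[R] A
  ε : A →ₐ[R] R
  S : A →ₐ[R] A
  hΔ : ∀ a, mix R B θ θ (Δ a) = Coalgebra.comul (R := B) (θ a)
  hε : ∀ a, algebraMap R B (ε a) = Coalgebra.counit (R := B) (θ a)
  hS : ∀ a, θ (S a) = HopfAlgebra.antipode B (θ a)
  coassoc : (Algebra.TensorProduct.assoc R R R A A A).toAlgHom.comp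
      ((Algebra.TensorProduct.map Δ (.id R A)).comp Δ) =
    (Algebra.TensorProduct.map (.id R A) Δ).comp Δ
  rTensor : (Algebra.TensorProduct.map ε (.id R A)).comp Δ = (Algebra.TensorProduct.lid R A).symm
  lTensor : (Algebra.TensorProduct.map (.id R A) ε).comp Δ =
    (Algebra.TensorProduct.rid R R A).symm
  antipode_r : (Algebra.TensorProduct.lift S (.id R A) fun _ _ ↦ Commute.all _ _).comp Δ =
      (Algebra.ofId R A).comp ε
  antipode_l : (Algebra.TensorProduct.lift (.id R A) S fun _ _ ↦ Commute.all _ _).comp Δ =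
      (Algebra.ofId R A).comp ε

variable {R B θ}

namespace HopfData'
variable (L : HopfData' R B θ) (hθ : IsRed R B θ.toLinearMap)

/-- the descended bialgebra structure -/
@[reducible] noncomputable def bialgebra : Bialgebra R A :=
  Bialgebra.ofAlgHom L.Δ L.ε L.coassoc L.rTensor L.lTensor

/-- the descended Hopf algebra structure -/
@[reducible] noncomputable def hopf : HopfAlgebra R A :=
  letI := L.bialgebra
  HopfAlgebra.ofAlgHom L.S L.antipode_r L.antipode_l

lemma mix_eq_semiMap (y : A ⊗[R] A) : letI := L.hopf;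
    mix R B θ θ y = semiMap R B θ.toLinearMap y := by
  letI := L.hopf
  induction y using TensorProduct.induction_on with
  | zero => simp
  | add x y hx hy => simp only [map_add, hx, hy]
  | tmul a b => simp

lemma isSemiCoalg : letI := L.hopf; IsSemiCoalg R B θ := by
  letI := L.hopf
  refine ⟨fun a => (L.hε a).symm, fun a => ?_⟩
  rw [← L.mix_eq_semiMap, ← L.hΔ a]
  rfl

include hθ in
lemma isSemiIso : letI := L.hopf; IsSemiIso R B θ := by
  letI := L.hopf
  exact ⟨L.isSemiCoalg, hθ⟩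

end HopfData'

end data

section genlift
variable {A₁ R : Type u} [CommRing A₁] [CommRing R] [Algebra A₁ R]
  {B₁ : Type u} [CommRing B₁] [Algebra A₁ B₁]
  {n : ℕ} (π : MvPolynomial (Fin n) A₁ →ₐ[A₁] B₁) (hπ : Function.Surjective π)
  (G : Finset (MvPolynomial (Fin n) A₁)) (hG : RingHom.ker π.toRingHom = Ideal.span (G : Set _))
  {C : Type u} [CommRing C] [Algebra A₁ C]
  (θ₁ : B₁ →ₐ[A₁] C)
  {Y₁ YC : Type u} [CommRing Y₁] [Algebra A₁ Y₁] [CommRing YC] [Algebra R YC] [Algebra A₁ YC]
  [IsScalarTower A₁ R YC] (Θ : Y₁ →ₐ[A₁] YC) (hΘ : IsRed A₁ R Θ.toLinearMap)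
  (F : C →ₐ[A₁] YC)

include hπ hG hΘ in
/-- descending an algebra map out of a presented algebra to all large enough stages -/
theorem gen_lift (hF : ∀ i, F (θ₁ (π (MvPolynomial.X i))) ∈ Set.range Θ) :
    ∃ T : Finset R, ∀ R'' : Subalgebra A₁ R, (↑T : Set R) ⊆ R'' →
      ∀ (Y'' : Type u) [CommRing Y''] [Algebra R'' Y''] [Algebra A₁ Y''] [IsScalarTower A₁ R'' Y'']
        (σ : Y₁ →ₐ[A₁] Y'') (Θ'' : Y'' →ₐ[A₁] YC), Θ''.comp σ = Θ →
        ∃ ψ : B₁ →ₐ[A₁] Y'', Θ''.comp ψ = F.comp θ₁ := by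
  classical
  choose y hy using hF
  have hz : ∀ g ∈ G, Θ (MvPolynomial.aeval y g) = 0 := by
    intro g hg
    have h1 : Θ (MvPolynomial.aeval y g) = MvPolynomial.aeval (fun i => Θ (y i)) g := by
      rw [← MvPolynomial.comp_aeval]
      rfl
    have h2 : (F.comp (θ₁.comp π)) = MvPolynomial.aeval (fun i => Θ (y i)) := by
      rw [MvPolynomial.aeval_unique (F.comp (θ₁.comp π))]
      congr 1
      funext i
      exact (hy i).symm
    rw [h1, ← h2]
    have h3 : π g = 0 := by
      have : g ∈ RingHom.ker π.toRingHom := by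
        rw [hG]
        exact Ideal.subset_span hg
      exact this
    show F (θ₁ (π g)) = 0
    rw [h3, map_zero, map_zero]
  have hT : ∀ g ∈ G, ∃ T : Finset R, ∀ R'' : Subalgebra A₁ R, (↑T : Set R) ⊆ R'' →
      (1 : R'') ⊗ₜ[A₁] (MvPolynomial.aeval y g) = 0 :=
    fun g hg => van_map Θ.toLinearMap hΘ _ (hz g hg)
  choose! T hT using hT
  refine ⟨G.biUnion T, fun R'' hR'' Y'' _ _ _ _ σ Θ'' hσ => ?_⟩
  have hv : ∀ g ∈ (G : Set (MvPolynomial (Fin n) A₁)),
      MvPolynomial.aeval (fun i => σ (y i)) g = 0 := by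
    intro g hg
    have h1 : MvPolynomial.aeval (fun i => σ (y i)) g = σ (MvPolynomial.aeval y g) := by
      rw [← MvPolynomial.comp_aeval]
      rfl
    rw [h1]
    have hsub : (↑(T g) : Set R) ⊆ R'' := by
      refine subset_trans ?_ hR''
      intro x hx
      rw [Finset.mem_coe, Finset.mem_biUnion]
      exact ⟨g, hg, hx⟩
    exact map_eq_zero_of_tmul_eq_zero (R'' := ↥R'') σ.toLinearMap _ (hT g hg R'' hsub)
  obtain ⟨ψ, hψ⟩ := exists_algHom_of_presentation π hπ (G : Set _) hG (fun i => σ (y i)) hv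
  refine ⟨ψ, ?_⟩
  -- both sides agree after composing with the surjection `π`
  have h1 : (Θ''.comp ψ).comp π = (F.comp θ₁).comp π := by
    apply MvPolynomial.algHom_ext
    intro i
    show Θ'' (ψ (π (MvPolynomial.X i))) = F (θ₁ (π (MvPolynomial.X i)))
    rw [hψ, MvPolynomial.aeval_X, ← hy i, ← hσ]
    rfl
  apply AlgHom.ext
  intro b
  obtain ⟨p, rfl⟩ := hπ b
  exact congrArg (fun f => f p) h1

end genlift

end Groth.Agent.Helper2.HopfNF
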