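import Mathlib
import Groth.Prelude.Def_SGA3b
import Groth.Agent.Helper2.HopfNF3

/-!
# Non-flat Hopf models IV: the structure maps at a finite stage
-/

set_option autoImplicit false

namespace Groth.Agent.Helper2.HopfNF
open TensorProduct Groth.Agent.Helper2.HD Groth.Agent.Helper2.MultTypeSemi
  Groth.Agent.Helper2.SemiIso Groth.Agent.Helper2.HopfModel

universe u

section lft
variable (A₁ R₂ : Type u) [CommRing A₁] [CommRing R₂] [Algebra A₁ R₂]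
  {B₁ : Type u} [CommRing B₁] [Algebra A₁ B₁]
  {Y : Type u} [CommRing Y] [Algebra R₂ Y] [Algebra A₁ Y] [IsScalarTower A₁ R₂ Y]

/-- the lift of an algebra map to a base change -/
noncomputable def lft (ψ : B₁ →ₐ[A₁] Y) : R₂ ⊗[A₁] B₁ →ₐ[R₂] Y :=
  Algebra.TensorProduct.lift (Algebra.ofId R₂ Y) ψ (fun _ _ => Commute.all _ _)

@[simp] lemma lft_tmul (ψ : B₁ →ₐ[A₁] Y) (r : R₂) (b : B₁) :
    lft A₁ R₂ ψ (r ⊗ₜ b) = r • ψ b := by
  simp [lft, Algebra.smul_def, Algebra.ofId_apply]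

lemma lft_tmul' (ψ : B₁ →ₐ[A₁] Y) (r : R₂) (b : B₁) :
    lft A₁ R₂ ψ (r ⊗ₜ b) = algebraMap R₂ Y r * ψ b := by
  simp [lft, Algebra.ofId_apply]

end lft

section compat
variable {A₁ R : Type u} [CommRing A₁] [CommRing R] [Algebra A₁ R]
  {B₁ : Type u} [CommRing B₁] [Algebra A₁ B₁]
  {C : Type u} [CommRing C] [Algebra R C] [Algebra A₁ C] [IsScalarTower A₁ R C]
  (θ₁ : B₁ →ₐ[A₁] C) (R'' : Subalgebra A₁ R)
  {Y'' YC : Type u} [CommRing Y''] [Algebra R'' Y''] [Algebra A₁ Y''] [IsScalarTower A₁ R'' Y'']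
  [CommRing YC] [Algebra R YC] [Algebra R'' YC]

/-- compatibility of a lifted map with the stage map -/
lemma lft_compat (ψ : B₁ →ₐ[A₁] Y'') (Θ'' : Y'' →ₐ[R''] YC) (F : C →ₐ[R] YC)
    (hYC : ∀ r : R'', algebraMap ↥R'' YC r = algebraMap R YC (r : R))
    (h : ∀ b, Θ'' (ψ b) = F (θ₁ b)) (a : ↥R'' ⊗[A₁] B₁) :
    Θ'' (lft A₁ ↥R'' ψ a) = F (stageMap θ₁ R'' a) := by
  induction a using TensorProduct.induction_on with
  | zero => simp
  | add x y hx hy => simp only [map_add, hx, hy]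
  | tmul r b =>
    rw [lft_tmul', stageMap_tmul, Algebra.smul_def, map_mul, map_mul, AlgHom.commutes,
      AlgHom.commutes, h]
    rw [hYC]

lemma stageMap_one_tmul (b : B₁) : stageMap θ₁ R'' ((1 : R'') ⊗ₜ b) = θ₁ b := by
  rw [stageMap_tmul]
  simp

end compat

section step2
variable {A₁ R : Type u} [CommRing A₁] [CommRing R] [Algebra A₁ R]
  {B₁ : Type u} [CommRing B₁] [Algebra A₁ B₁]
  {n : ℕ} (π : MvPolynomial (Fin n) A₁ →ₐ[A₁] B₁) (hπ : Function.Surjective π)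
  (G : Finset (MvPolynomial (Fin n) A₁)) (hG : RingHom.ker π.toRingHom = Ideal.span (G : Set _))
  {C : Type u} [CommRing C] [HopfAlgebra R C] [Algebra A₁ C] [IsScalarTower A₁ R C]
  (θ₁ : B₁ →ₐ[A₁] C) (h₁ : IsRed A₁ R θ₁.toLinearMap)

include hπ hG h₁ in
/-- the structure maps exist at all large enough stages, compatibly with the Hopf algebra -/
theorem exists_structure_maps
    (hΔr : ∀ a, Coalgebra.comul (R := R) (θ₁ a) ∈ Set.range (mix A₁ R θ₁ θ₁))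
    (hεr : ∀ a, Coalgebra.counit (R := R) (θ₁ a) ∈ Set.range (algebraMap A₁ R))
    (hSr : ∀ a, HopfAlgebra.antipode R (θ₁ a) ∈ Set.range θ₁) :
    ∃ T : Finset R, ∀ R'' : Subalgebra A₁ R, (↑T : Set R) ⊆ R'' →
      ∃ (Δ'' : ↥R'' ⊗[A₁] B₁ →ₐ[↥R''] (↥R'' ⊗[A₁] B₁) ⊗[↥R''] (↥R'' ⊗[A₁] B₁))
        (ε'' : ↥R'' ⊗[A₁] B₁ →ₐ[↥R''] ↥R'') (S'' : ↥R'' ⊗[A₁] B₁ →ₐ[↥R''] ↥R'' ⊗[A₁] B₁),
        (∀ a, mix ↥R'' R (stageMap θ₁ R'') (stageMap θ₁ R'') (Δ'' a) =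
          Coalgebra.comul (R := R) (stageMap θ₁ R'' a)) ∧
        (∀ a, algebraMap ↥R'' R (ε'' a) = Coalgebra.counit (R := R) (stageMap θ₁ R'' a)) ∧
        (∀ a, stageMap θ₁ R'' (S'' a) = HopfAlgebra.antipode R (stageMap θ₁ R'' a)) := by
  classical
  obtain ⟨TΔ, hTΔ⟩ := gen_lift π hπ G hG θ₁ (mix A₁ R θ₁ θ₁) (isRed_mix A₁ R h₁ h₁)
    ((Bialgebra.comulAlgHom R C).restrictScalars A₁) (fun i => hΔr _)
  obtain ⟨Tε, hTε⟩ := gen_lift π hπ G hG θ₁ (Algebra.ofId A₁ R) (isRed_ofId A₁ R)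
    ((Bialgebra.counitAlgHom R C).restrictScalars A₁) (fun i => hεr _)
  obtain ⟨TS, hTS⟩ := gen_lift π hπ G hG θ₁ θ₁ h₁
    ((HopfAlgebra.antipodeAlgHom R C).restrictScalars A₁) (fun i => hSr _)
  refine ⟨TΔ ∪ Tε ∪ TS, fun R'' hR'' => ?_⟩
  rw [Finset.coe_union, Finset.coe_union, Set.union_subset_iff, Set.union_subset_iff] at hR''
  obtain ⟨⟨h1, h2⟩, h3⟩ := hR''
  let τ : B₁ →ₐ[A₁] ↥R'' ⊗[A₁] B₁ := Algebra.TensorProduct.includeRight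
  have hτ : ∀ b, stageMap θ₁ R'' (τ b) = θ₁ b := fun b => stageMap_one_tmul θ₁ R'' b
  -- comultiplication
  have hcΔ : ((mix ↥R'' R (stageMap θ₁ R'') (stageMap θ₁ R'')).restrictScalars A₁).comp
      (mix A₁ ↥R'' τ τ) = mix A₁ R θ₁ θ₁ := by
    apply Algebra.TensorProduct.ext'
    intro b b'
    show mix ↥R'' R (stageMap θ₁ R'') (stageMap θ₁ R'') (mix A₁ ↥R'' τ τ (b ⊗ₜ b')) =
      mix A₁ R θ₁ θ₁ (b ⊗ₜ b')
    rw [mix_tmul, mix_tmul, mix_tmul, hτ, hτ]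
  obtain ⟨ψΔ, hψΔ⟩ := hTΔ R'' h1 ((↥R'' ⊗[A₁] B₁) ⊗[↥R''] (↥R'' ⊗[A₁] B₁))
    (mix A₁ ↥R'' τ τ)
    ((mix ↥R'' R (stageMap θ₁ R'') (stageMap θ₁ R'')).restrictScalars A₁) hcΔ
  -- counit
  obtain ⟨ψε, hψε⟩ := hTε R'' h2 ↥R'' (Algebra.ofId A₁ ↥R'')
    ((Algebra.ofId ↥R'' R).restrictScalars A₁)
    (by
      apply AlgHom.ext
      intro a
      rfl)
  -- antipode
  obtain ⟨ψS, hψS⟩ := hTS R'' h3 (↥R'' ⊗[A₁] B₁) τ ((stageMap θ₁ R'').restrictScalars A₁)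
    (by
      apply AlgHom.ext
      intro b
      exact hτ b)
  refine ⟨lft A₁ ↥R'' (Y := (↥R'' ⊗[A₁] B₁) ⊗[↥R''] (↥R'' ⊗[A₁] B₁)) ψΔ,
    lft A₁ ↥R'' (Y := ↥R'') ψε, lft A₁ ↥R'' (Y := ↥R'' ⊗[A₁] B₁) ψS, ?_, ?_, ?_⟩
  · intro a
    have hY : ∀ r : R'', algebraMap ↥R'' (C ⊗[R] C) r = algebraMap R (C ⊗[R] C) (r : R) := by
      intro r
      rfl
    have := lft_compat θ₁ R'' ψΔ (mix ↥R'' R (stageMap θ₁ R'') (stageMap θ₁ R''))
      (Bialgebra.comulAlgHom R C) hY (fun b => congrArg (fun f => f b) hψΔ) a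
    exact this
  · intro a
    have hY : ∀ r : R'', algebraMap ↥R'' R r = algebraMap R R (r : R) := by
      intro r
      rfl
    have := lft_compat θ₁ R'' ψε (Algebra.ofId ↥R'' R)
      (Bialgebra.counitAlgHom R C) hY (fun b => congrArg (fun f => f b) hψε) a
    exact this
  · intro a
    have hY : ∀ r : R'', algebraMap ↥R'' C r = algebraMap R C (r : R) := by
      intro r
      rfl
    have := lft_compat θ₁ R'' ψS (stageMap θ₁ R'')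
      (HopfAlgebra.antipodeAlgHom R C) hY (fun b => congrArg (fun f => f b) hψS) a
    exact this

end step2

end Groth.Agent.Helper2.HopfNF
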