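import Mathlib
import Groth.Prelude.Def_SGA3b
import Groth.Agent.Helper2.HopfNF4

/-!
# Non-flat Hopf models V: the Hopf axioms at a finite stage
-/

set_option autoImplicit false

namespace Groth.Agent.Helper2.HopfNF
open TensorProduct Groth.Agent.Helper2.HD Groth.Agent.Helper2.MultTypeSemi
  Groth.Agent.Helper2.SemiIso Groth.Agent.Helper2.HopfModel

universe u

section ext
variable {A₁ R₂ : Type u} [CommRing A₁] [CommRing R₂] [Algebra A₁ R₂]
  {B₁ : Type u} [CommRing B₁] [Algebra A₁ B₁]
  {Y : Type u} [CommRing Y] [Algebra R₂ Y] [Algebra A₁ Y] [IsScalarTower A₁ R₂ Y]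

/-- algebra maps out of a base change agree if they agree on generators -/
lemma algHom_ext_gen {s : Set B₁} (hs : Algebra.adjoin A₁ s = ⊤) (f g : R₂ ⊗[A₁] B₁ →ₐ[R₂] Y)
    (h : ∀ b ∈ s, f (1 ⊗ₜ b) = g (1 ⊗ₜ b)) : f = g := by
  have h1 : (f.restrictScalars A₁).comp Algebra.TensorProduct.includeRight =
      (g.restrictScalars A₁).comp Algebra.TensorProduct.includeRight :=
    AlgHom.ext_of_adjoin_eq_top hs (fun b hb => h b hb)
  apply Algebra.TensorProduct.ext'
  intro a b
  have h2 : f (1 ⊗ₜ b) = g (1 ⊗ₜ b) := congrArg (fun k => k b) h1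
  have h3 : a ⊗ₜ[A₁] b = a • ((1 : R₂) ⊗ₜ[A₁] b) := by
    rw [TensorProduct.smul_tmul', smul_eq_mul, mul_one]
  rw [h3, map_smul, map_smul, h2]

end ext

section van2
variable {A₂ R : Type u} [CommRing A₂] [CommRing R] [Algebra A₂ R]
  {X : Type u} [AddCommGroup X] [Module A₂ X]
  {YC : Type u} [AddCommGroup YC] [Module R YC] [Module A₂ YC] [IsScalarTower A₂ R YC]

/-- two elements with the same image under a reduction have the same image under every map
to a module over a large enough stage -/
theorem eq_at_stage (Θ : X →ₗ[A₂] YC) (hΘ : IsRed A₂ R Θ) (x y : X) (h : Θ x = Θ y) :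
    ∃ T : Finset R, ∀ R'' : Subalgebra A₂ R, (↑T : Set R) ⊆ R'' →
      ∀ (Y'' : Type u) [AddCommGroup Y''] [Module R'' Y''] [Module A₂ Y'']
        [IsScalarTower A₂ R'' Y''] (σ : X →ₗ[A₂] Y''), σ x = σ y := by
  obtain ⟨T, hT⟩ := van_map Θ hΘ (x - y) (by rw [map_sub, h, sub_self])
  refine ⟨T, fun R'' hR'' Y'' _ _ _ _ σ => ?_⟩
  have := map_eq_zero_of_tmul_eq_zero (R'' := ↥R'') σ (x - y) (hT R'' hR'')
  rwa [map_sub, sub_eq_zero] at this

end van2

section cside
variable (R : Type u) [CommRing R] (B : Type u) [CommRing B] [Algebra R B]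
variable {A : Type u} [CommRing A] [Algebra R A]
variable {C : Type u} [CommRing C] [HopfAlgebra B C] [Algebra R C] [IsScalarTower R B C]
variable (θ : A →ₐ[R] C)
variable (Δ : A →ₐ[R] A ⊗[R] A) (ε : A →ₐ[R] R) (S : A →ₐ[R] A)
variable (hΔ : ∀ a, mix R B θ θ (Δ a) = Coalgebra.comul (R := B) (θ a))
variable (hε : ∀ a, algebraMap R B (ε a) = Coalgebra.counit (R := B) (θ a))
variable (hS : ∀ a, θ (S a) = HopfAlgebra.antipode B (θ a))

include hΔ in
lemma cside_coassoc (e : A) :
    mix R B θ (mix R B θ θ) (Algebra.TensorProduct.assoc R R R A A A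
      (Algebra.TensorProduct.map Δ (.id R A) (Δ e))) =
    mix R B θ (mix R B θ θ) (Algebra.TensorProduct.map (.id R A) Δ (Δ e)) := by
  have ha' : ∀ (z : A ⊗[R] A) (b : A),
      mix R B θ (mix R B θ θ) (Algebra.TensorProduct.assoc R R R A A A (z ⊗ₜ b)) =
      TensorProduct.assoc B C C C (mix R B θ θ z ⊗ₜ θ b) := by
    intro z b
    induction z using TensorProduct.induction_on with
    | zero => simp
    | add x y hx hy => simp only [add_tmul, map_add, hx, hy]
    | tmul p q => simp
  have ha : ∀ y : A ⊗[R] A,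
      mix R B θ (mix R B θ θ) (Algebra.TensorProduct.assoc R R R A A A
        (Algebra.TensorProduct.map Δ (.id R A) y)) =
      TensorProduct.assoc B C C C
        ((Coalgebra.comul (R := B) (A := C)).rTensor C (mix R B θ θ y)) := by
    intro y
    induction y using TensorProduct.induction_on with
    | zero => simp
    | add x y hx hy => simp only [map_add, hx, hy]
    | tmul a b =>
      rw [Algebra.TensorProduct.map_tmul, AlgHom.coe_id, id_eq, ha', hΔ, mix_tmul,
        LinearMap.rTensor_tmul]
  have hb : ∀ y : A ⊗[R] A,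
      mix R B θ (mix R B θ θ) (Algebra.TensorProduct.map (.id R A) Δ y) =
      (Coalgebra.comul (R := B) (A := C)).lTensor C (mix R B θ θ y) := by
    intro y
    induction y using TensorProduct.induction_on with
    | zero => simp
    | add x y hx hy => simp only [map_add, hx, hy]
    | tmul a b =>
      rw [Algebra.TensorProduct.map_tmul, AlgHom.coe_id, id_eq, mix_tmul, hΔ, mix_tmul,
        LinearMap.lTensor_tmul]
  rw [ha, hb, hΔ, Coalgebra.coassoc_apply]

include hΔ hε in
lemma cside_rTensor (e : A) :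
    mix R B (Algebra.ofId R B) θ (Algebra.TensorProduct.map ε (.id R A) (Δ e)) =
    mix R B (Algebra.ofId R B) θ ((Algebra.TensorProduct.lid R A).symm e) := by
  have hc : ∀ y : A ⊗[R] A,
      mix R B (Algebra.ofId R B) θ (Algebra.TensorProduct.map ε (.id R A) y) =
      (Coalgebra.counit (R := B) (A := C)).rTensor C (mix R B θ θ y) := by
    intro y
    induction y using TensorProduct.induction_on with
    | zero => simp
    | add x y hx hy => simp only [map_add, hx, hy]
    | tmul a b =>
      rw [Algebra.TensorProduct.map_tmul, AlgHom.coe_id, id_eq, mix_tmul, mix_tmul,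
        LinearMap.rTensor_tmul, ← hε]
      rfl
  rw [hc, hΔ, Coalgebra.rTensor_counit_comul]
  simp [Algebra.ofId_apply]

include hΔ hε in
lemma cside_lTensor (e : A) :
    mix R B θ (Algebra.ofId R B) (Algebra.TensorProduct.map (.id R A) ε (Δ e)) =
    mix R B θ (Algebra.ofId R B) ((Algebra.TensorProduct.rid R R A).symm e) := by
  have hc : ∀ y : A ⊗[R] A,
      mix R B θ (Algebra.ofId R B) (Algebra.TensorProduct.map (.id R A) ε y) =
      (Coalgebra.counit (R := B) (A := C)).lTensor C (mix R B θ θ y) := by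
    intro y
    induction y using TensorProduct.induction_on with
    | zero => simp
    | add x y hx hy => simp only [map_add, hx, hy]
    | tmul a b =>
      rw [Algebra.TensorProduct.map_tmul, AlgHom.coe_id, id_eq, mix_tmul, mix_tmul,
        LinearMap.lTensor_tmul, ← hε]
      rfl
  rw [hc, hΔ, Coalgebra.lTensor_counit_comul]
  simp [Algebra.ofId_apply]

include hΔ hε hS in
lemma cside_antipode_r (e : A) :
    θ (Algebra.TensorProduct.lift S (.id R A) (fun _ _ ↦ Commute.all _ _) (Δ e)) =
    θ (Algebra.ofId R A (ε e)) := by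
  have hd : ∀ y : A ⊗[R] A,
      θ (Algebra.TensorProduct.lift S (.id R A) (fun _ _ ↦ Commute.all _ _) y) =
      LinearMap.mul' B C ((HopfAlgebra.antipode B (A := C)).rTensor C (mix R B θ θ y)) := by
    intro y
    induction y using TensorProduct.induction_on with
    | zero => simp
    | add x y hx hy => simp only [map_add, hx, hy]
    | tmul a b =>
      rw [Algebra.TensorProduct.lift_tmul, mix_tmul, LinearMap.rTensor_tmul, LinearMap.mul'_apply,
        map_mul, hS]
      rfl
  rw [hd, hΔ, HopfAlgebra.mul_antipode_rTensor_comul_apply, ← hε, Algebra.ofId_apply,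
    AlgHom.commutes, ← IsScalarTower.algebraMap_apply]

include hΔ hε hS in
lemma cside_antipode_l (e : A) :
    θ (Algebra.TensorProduct.lift (.id R A) S (fun _ _ ↦ Commute.all _ _) (Δ e)) =
    θ (Algebra.ofId R A (ε e)) := by
  have hd : ∀ y : A ⊗[R] A,
      θ (Algebra.TensorProduct.lift (.id R A) S (fun _ _ ↦ Commute.all _ _) y) =
      LinearMap.mul' B C ((HopfAlgebra.antipode B (A := C)).lTensor C (mix R B θ θ y)) := by
    intro y
    induction y using TensorProduct.induction_on with
    | zero => simp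
    | add x y hx hy => simp only [map_add, hx, hy]
    | tmul a b =>
      rw [Algebra.TensorProduct.lift_tmul, mix_tmul, LinearMap.lTensor_tmul, LinearMap.mul'_apply,
        map_mul, hS]
      rfl
  rw [hd, hΔ, HopfAlgebra.mul_antipode_lTensor_comul_apply, ← hε, Algebra.ofId_apply,
    AlgHom.commutes, ← IsScalarTower.algebraMap_apply]

end cside

end Groth.Agent.Helper2.HopfNF
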