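import Mathlib
import Groth.Prelude.Def_SGA3b
import Groth.Agent.Helper2.HopfNF5

/-!
# Non-flat Hopf models VI: Hopf data at all large enough stages
-/

set_option autoImplicit false

namespace Groth.Agent.Helper2.HopfNF
open TensorProduct Groth.Agent.Helper2.HD Groth.Agent.Helper2.MultTypeSemi
  Groth.Agent.Helper2.SemiIso Groth.Agent.Helper2.HopfModel

universe u

section step3
variable {A₂ R : Type u} [CommRing A₂] [CommRing R] [Algebra A₂ R]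
  {B₂ : Type u} [CommRing B₂] [Algebra A₂ B₂]
  {C : Type u} [CommRing C] [HopfAlgebra R C] [Algebra A₂ C] [IsScalarTower A₂ R C]
  (θ₂ : B₂ →ₐ[A₂] C)
  (Δ₂ : B₂ →ₐ[A₂] B₂ ⊗[A₂] B₂) (ε₂ : B₂ →ₐ[A₂] A₂) (S₂ : B₂ →ₐ[A₂] B₂)
  (hΔ₂ : ∀ a, mix A₂ R θ₂ θ₂ (Δ₂ a) = Coalgebra.comul (R := R) (θ₂ a))
  (hε₂ : ∀ a, algebraMap A₂ R (ε₂ a) = Coalgebra.counit (R := R) (θ₂ a))
  (hS₂ : ∀ a, θ₂ (S₂ a) = HopfAlgebra.antipode R (θ₂ a))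

include hΔ₂ hε₂ hS₂ in
/-- the base changed structure maps at any stage -/
theorem stage_maps (R'' : Subalgebra A₂ R) :
    ∃ (Δ'' : ↥R'' ⊗[A₂] B₂ →ₐ[↥R''] (↥R'' ⊗[A₂] B₂) ⊗[↥R''] (↥R'' ⊗[A₂] B₂))
      (ε'' : ↥R'' ⊗[A₂] B₂ →ₐ[↥R''] ↥R'') (S'' : ↥R'' ⊗[A₂] B₂ →ₐ[↥R''] ↥R'' ⊗[A₂] B₂),
      (∀ b : B₂, mix A₂ ↥R'' (Algebra.TensorProduct.includeRight : B₂ →ₐ[A₂] ↥R'' ⊗[A₂] B₂)
        (Algebra.TensorProduct.includeRight : B₂ →ₐ[A₂] ↥R'' ⊗[A₂] B₂) (Δ₂ b) =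
          Δ'' ((1 : ↥R'') ⊗ₜ[A₂] b)) ∧
      (∀ b : B₂, algebraMap A₂ ↥R'' (ε₂ b) = ε'' ((1 : ↥R'') ⊗ₜ[A₂] b)) ∧
      (∀ b : B₂, (1 : ↥R'') ⊗ₜ[A₂] (S₂ b) = S'' ((1 : ↥R'') ⊗ₜ[A₂] b)) ∧
      (∀ a, mix ↥R'' R (stageMap θ₂ R'') (stageMap θ₂ R'') (Δ'' a) =
          Coalgebra.comul (R := R) (stageMap θ₂ R'' a)) ∧
      (∀ a, algebraMap ↥R'' R (ε'' a) = Coalgebra.counit (R := R) (stageMap θ₂ R'' a)) ∧
      (∀ a, stageMap θ₂ R'' (S'' a) = HopfAlgebra.antipode R (stageMap θ₂ R'' a)) := by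
  let τ : B₂ →ₐ[A₂] ↥R'' ⊗[A₂] B₂ := Algebra.TensorProduct.includeRight
  have hτ : ∀ b, stageMap θ₂ R'' (τ b) = θ₂ b := fun b => stageMap_one_tmul θ₂ R'' b
  have hcΔ : ∀ z : B₂ ⊗[A₂] B₂,
      mix ↥R'' R (stageMap θ₂ R'') (stageMap θ₂ R'') (mix A₂ ↥R'' τ τ z) = mix A₂ R θ₂ θ₂ z := by
    intro z
    induction z using TensorProduct.induction_on with
    | zero => simp
    | add x y hx hy => simp only [map_add, hx, hy]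
    | tmul b b' => rw [mix_tmul, mix_tmul, mix_tmul, hτ, hτ]
  refine ⟨lft A₂ ↥R'' (Y := (↥R'' ⊗[A₂] B₂) ⊗[↥R''] (↥R'' ⊗[A₂] B₂)) ((mix A₂ ↥R'' τ τ).comp Δ₂),
    lft A₂ ↥R'' (Y := ↥R'') ((Algebra.ofId A₂ ↥R'').comp ε₂),
    lft A₂ ↥R'' (Y := ↥R'' ⊗[A₂] B₂) (τ.comp S₂), ?_, ?_, ?_, ?_, ?_, ?_⟩
  · intro b
    rw [lft_tmul', map_one]
    exact (one_mul _).symm
  · intro b
    rw [lft_tmul', map_one]
    exact (one_mul _).symm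
  · intro b
    rw [lft_tmul', map_one]
    exact (one_mul _).symm
  · intro a
    have hY : ∀ r : R'', algebraMap ↥R'' (C ⊗[R] C) r = algebraMap R (C ⊗[R] C) (r : R) := by
      intro r
      rfl
    have := lft_compat θ₂ R'' ((mix A₂ ↥R'' τ τ).comp Δ₂)
      (mix ↥R'' R (stageMap θ₂ R'') (stageMap θ₂ R''))
      (Bialgebra.comulAlgHom R C) hY (fun b => by
        show mix ↥R'' R (stageMap θ₂ R'') (stageMap θ₂ R'') (mix A₂ ↥R'' τ τ (Δ₂ b)) = _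
        rw [hcΔ, hΔ₂]
        rfl) a
    exact this
  · intro a
    have hY : ∀ r : R'', algebraMap ↥R'' R r = algebraMap R R (r : R) := by
      intro r
      rfl
    have := lft_compat θ₂ R'' ((Algebra.ofId A₂ ↥R'').comp ε₂) (Algebra.ofId ↥R'' R)
      (Bialgebra.counitAlgHom R C) hY (fun b => by
        show algebraMap ↥R'' R (algebraMap A₂ ↥R'' (ε₂ b)) = _
        rw [← IsScalarTower.algebraMap_apply, hε₂]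
        rfl) a
    exact this
  · intro a
    have hY : ∀ r : R'', algebraMap ↥R'' C r = algebraMap R C (r : R) := by
      intro r
      rfl
    have := lft_compat θ₂ R'' (τ.comp S₂) (stageMap θ₂ R'')
      (HopfAlgebra.antipodeAlgHom R C) hY (fun b => by
        show stageMap θ₂ R'' (τ (S₂ b)) = _
        rw [hτ, hS₂]
        rfl) a
    exact this

end step3

section main3
variable {A₂ R : Type u} [CommRing A₂] [CommRing R] [Algebra A₂ R]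
  {B₂ : Type u} [CommRing B₂] [Algebra A₂ B₂]
  {C : Type u} [CommRing C] [HopfAlgebra R C] [Algebra A₂ C] [IsScalarTower A₂ R C]
  (θ₂ : B₂ →ₐ[A₂] C) (h₂ : IsRed A₂ R θ₂.toLinearMap)
  (Δ₂ : B₂ →ₐ[A₂] B₂ ⊗[A₂] B₂) (ε₂ : B₂ →ₐ[A₂] A₂) (S₂ : B₂ →ₐ[A₂] B₂)
  (hΔ₂ : ∀ a, mix A₂ R θ₂ θ₂ (Δ₂ a) = Coalgebra.comul (R := R) (θ₂ a))
  (hε₂ : ∀ a, algebraMap A₂ R (ε₂ a) = Coalgebra.counit (R := R) (θ₂ a))
  (hS₂ : ∀ a, θ₂ (S₂ a) = HopfAlgebra.antipode R (θ₂ a))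

include h₂ hΔ₂ hε₂ hS₂ in
/-- **Step 3**: the Hopf axioms hold at all large enough stages -/
theorem exists_hopfData' {s : Finset B₂} (hs : Algebra.adjoin A₂ (s : Set B₂) = ⊤) :
    ∃ T : Finset R, ∀ R'' : Subalgebra A₂ R, (↑T : Set R) ⊆ R'' →
      Nonempty (HopfData' ↥R'' R (stageMap θ₂ R'')) := by
  classical
  have H1 : ∀ b : B₂, ∃ T : Finset R, ∀ R'' : Subalgebra A₂ R, (↑T : Set R) ⊆ R'' →
      ∀ (Y'' : Type u) [AddCommGroup Y''] [Module R'' Y''] [Module A₂ Y'']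
        [IsScalarTower A₂ R'' Y''] (σ : B₂ ⊗[A₂] (B₂ ⊗[A₂] B₂) →ₗ[A₂] Y''),
        σ (Algebra.TensorProduct.assoc A₂ A₂ A₂ B₂ B₂ B₂
          (Algebra.TensorProduct.map Δ₂ (.id A₂ B₂) (Δ₂ b))) =
        σ (Algebra.TensorProduct.map (.id A₂ B₂) Δ₂ (Δ₂ b)) := fun b =>
    eq_at_stage (mix A₂ R θ₂ (mix A₂ R θ₂ θ₂)).toLinearMap
      (isRed_mix A₂ R h₂ (isRed_mix A₂ R h₂ h₂)) _ _ (cside_coassoc A₂ R θ₂ Δ₂ hΔ₂ b)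
  have H2 : ∀ b : B₂, ∃ T : Finset R, ∀ R'' : Subalgebra A₂ R, (↑T : Set R) ⊆ R'' →
      ∀ (Y'' : Type u) [AddCommGroup Y''] [Module R'' Y''] [Module A₂ Y'']
        [IsScalarTower A₂ R'' Y''] (σ : A₂ ⊗[A₂] B₂ →ₗ[A₂] Y''),
        σ (Algebra.TensorProduct.map ε₂ (.id A₂ B₂) (Δ₂ b)) =
        σ ((Algebra.TensorProduct.lid A₂ B₂).symm b) := fun b =>
    eq_at_stage (mix A₂ R (Algebra.ofId A₂ R) θ₂).toLinearMap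
      (isRed_mix A₂ R (isRed_ofId A₂ R) h₂) _ _ (cside_rTensor A₂ R θ₂ Δ₂ ε₂ hΔ₂ hε₂ b)
  have H3 : ∀ b : B₂, ∃ T : Finset R, ∀ R'' : Subalgebra A₂ R, (↑T : Set R) ⊆ R'' →
      ∀ (Y'' : Type u) [AddCommGroup Y''] [Module R'' Y''] [Module A₂ Y'']
        [IsScalarTower A₂ R'' Y''] (σ : B₂ ⊗[A₂] A₂ →ₗ[A₂] Y''),
        σ (Algebra.TensorProduct.map (.id A₂ B₂) ε₂ (Δ₂ b)) =
        σ ((Algebra.TensorProduct.rid A₂ A₂ B₂).symm b) := fun b =>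
    eq_at_stage (mix A₂ R θ₂ (Algebra.ofId A₂ R)).toLinearMap
      (isRed_mix A₂ R h₂ (isRed_ofId A₂ R)) _ _ (cside_lTensor A₂ R θ₂ Δ₂ ε₂ hΔ₂ hε₂ b)
  have H4 : ∀ b : B₂, ∃ T : Finset R, ∀ R'' : Subalgebra A₂ R, (↑T : Set R) ⊆ R'' →
      ∀ (Y'' : Type u) [AddCommGroup Y''] [Module R'' Y''] [Module A₂ Y'']
        [IsScalarTower A₂ R'' Y''] (σ : B₂ →ₗ[A₂] Y''),
        σ (Algebra.TensorProduct.lift S₂ (.id A₂ B₂) (fun _ _ ↦ Commute.all _ _) (Δ₂ b)) =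
        σ (Algebra.ofId A₂ B₂ (ε₂ b)) := fun b =>
    eq_at_stage θ₂.toLinearMap h₂ _ _ (cside_antipode_r A₂ R θ₂ Δ₂ ε₂ S₂ hΔ₂ hε₂ hS₂ b)
  have H5 : ∀ b : B₂, ∃ T : Finset R, ∀ R'' : Subalgebra A₂ R, (↑T : Set R) ⊆ R'' →
      ∀ (Y'' : Type u) [AddCommGroup Y''] [Module R'' Y''] [Module A₂ Y'']
        [IsScalarTower A₂ R'' Y''] (σ : B₂ →ₗ[A₂] Y''),
        σ (Algebra.TensorProduct.lift (.id A₂ B₂) S₂ (fun _ _ ↦ Commute.all _ _) (Δ₂ b)) =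
        σ (Algebra.ofId A₂ B₂ (ε₂ b)) := fun b =>
    eq_at_stage θ₂.toLinearMap h₂ _ _ (cside_antipode_l A₂ R θ₂ Δ₂ ε₂ S₂ hΔ₂ hε₂ hS₂ b)
  choose T1 hT1 using H1
  choose T2 hT2 using H2
  choose T3 hT3 using H3
  choose T4 hT4 using H4
  choose T5 hT5 using H5
  refine ⟨s.biUnion (fun b => T1 b ∪ T2 b ∪ T3 b ∪ T4 b ∪ T5 b), fun R'' hR'' => ?_⟩
  have hsub : ∀ b ∈ s, (↑(T1 b) : Set R) ⊆ R'' ∧ (↑(T2 b) : Set R) ⊆ R'' ∧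
      (↑(T3 b) : Set R) ⊆ R'' ∧ (↑(T4 b) : Set R) ⊆ R'' ∧ (↑(T5 b) : Set R) ⊆ R'' := by
    intro b hb
    have h2 : (↑(T1 b ∪ T2 b ∪ T3 b ∪ T4 b ∪ T5 b) : Set R) ⊆ R'' := by
      refine subset_trans ?_ hR''
      intro x hx
      rw [Finset.mem_coe, Finset.mem_biUnion]
      exact ⟨b, hb, hx⟩
    simp only [Finset.coe_union, Set.union_subset_iff] at h2
    exact ⟨h2.1.1.1.1, h2.1.1.1.2, h2.1.1.2, h2.1.2, h2.2⟩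
  obtain ⟨Δ'', ε'', S'', hτΔ, hτε, hτS, hΔ'', hε'', hS''⟩ :=
    stage_maps θ₂ Δ₂ ε₂ S₂ hΔ₂ hε₂ hS₂ R''
  let τ : B₂ →ₐ[A₂] ↥R'' ⊗[A₂] B₂ := Algebra.TensorProduct.includeRight
  refine ⟨⟨Δ'', ε'', S'', hΔ'', hε'', hS'', ?_, ?_, ?_, ?_, ?_⟩⟩
  · apply algHom_ext_gen (A₁ := A₂) hs
    intro b hb
    show Algebra.TensorProduct.assoc ↥R'' ↥R'' ↥R'' _ _ _
      (Algebra.TensorProduct.map Δ'' (.id ↥R'' _) (Δ'' (τ b))) =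
      Algebra.TensorProduct.map (.id ↥R'' _) Δ'' (Δ'' (τ b))
    rw [← sq_coassoc_l A₂ ↥R'' τ Δ₂ Δ'' hτΔ b, ← sq_coassoc_r A₂ ↥R'' τ Δ₂ Δ'' hτΔ b]
    exact hT1 b R'' (hsub b hb).1 _ (mix A₂ ↥R'' τ (mix A₂ ↥R'' τ τ)).toLinearMap
  · apply algHom_ext_gen (A₁ := A₂) hs
    intro b hb
    show Algebra.TensorProduct.map ε'' (.id ↥R'' _) (Δ'' (τ b)) =
      (Algebra.TensorProduct.lid ↥R'' _).symm (τ b)
    rw [← sq_rTensor A₂ ↥R'' τ Δ₂ ε₂ Δ'' ε'' hτΔ hτε b, ← sq_lid A₂ ↥R'' τ b]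
    exact hT2 b R'' (hsub b hb).2.1 _ (mix A₂ ↥R'' (Algebra.ofId A₂ ↥R'') τ).toLinearMap
  · apply algHom_ext_gen (A₁ := A₂) hs
    intro b hb
    show Algebra.TensorProduct.map (.id ↥R'' _) ε'' (Δ'' (τ b)) =
      (Algebra.TensorProduct.rid ↥R'' ↥R'' _).symm (τ b)
    rw [← sq_lTensor A₂ ↥R'' τ Δ₂ ε₂ Δ'' ε'' hτΔ hτε b, ← sq_rid A₂ ↥R'' τ b]
    exact hT3 b R'' (hsub b hb).2.2.1 _ (mix A₂ ↥R'' τ (Algebra.ofId A₂ ↥R'')).toLinearMap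
  · apply algHom_ext_gen (A₁ := A₂) hs
    intro b hb
    show Algebra.TensorProduct.lift S'' (.id ↥R'' _) (fun _ _ ↦ Commute.all _ _) (Δ'' (τ b)) =
      Algebra.ofId ↥R'' _ (ε'' (τ b))
    rw [← sq_antipode_r A₂ ↥R'' τ Δ₂ S₂ Δ'' S'' hτΔ hτS b, ← sq_unit A₂ ↥R'' τ ε₂ ε'' hτε b]
    exact hT4 b R'' (hsub b hb).2.2.2.1 _ τ.toLinearMap
  · apply algHom_ext_gen (A₁ := A₂) hs
    intro b hb
    show Algebra.TensorProduct.lift (.id ↥R'' _) S'' (fun _ _ ↦ Commute.all _ _) (Δ'' (τ b)) =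
      Algebra.ofId ↥R'' _ (ε'' (τ b))
    rw [← sq_antipode_l A₂ ↥R'' τ Δ₂ S₂ Δ'' S'' hτΔ hτS b, ← sq_unit A₂ ↥R'' τ ε₂ ε'' hτε b]
    exact hT5 b R'' (hsub b hb).2.2.2.2 _ τ.toLinearMap

end main3

end Groth.Agent.Helper2.HopfNF
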