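import Mathlib
import Groth.Prelude.Def_SGA3b
import Groth.Agent.Helper2.HopfNF6

/-!
# Non-flat Hopf models VII: ranges at a finite stage, elements of the extended ideal
-/

set_option autoImplicit false

namespace Groth.Agent.Helper2.HopfNF
open TensorProduct Groth.Agent.Helper2.HD Groth.Agent.Helper2.MultTypeSemi
  Groth.Agent.Helper2.SemiIso Groth.Agent.Helper2.HopfModel

universe u

section step1
variable {A₀ R : Type u} [CommRing A₀] [CommRing R] [Algebra A₀ R]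
  {B₀ : Type u} [CommRing B₀] [Algebra A₀ B₀]
  {C : Type u} [CommRing C] [HopfAlgebra R C] [Algebra A₀ C]
  [IsScalarTower A₀ R C] (χ₀ : B₀ →ₐ[A₀] C)

/-- **Step 1**: the structure maps of `C` preserve the image of all large enough stages
(no flatness needed) -/
theorem exists_stage_nf (h : IsRed A₀ R χ₀.toLinearMap) {s : Finset B₀}
    (hs : Algebra.adjoin A₀ (s : Set B₀) = ⊤) :
    ∃ T : Finset R, ∀ R' : Subalgebra A₀ R, (↑T : Set R) ⊆ R' →
      (∀ a, Coalgebra.comul (R := R) (stageMap χ₀ R' a) ∈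
        Set.range (mix ↥R' R (stageMap χ₀ R') (stageMap χ₀ R'))) ∧
      (∀ a, Coalgebra.counit (R := R) (stageMap χ₀ R' a) ∈ Set.range (algebraMap ↥R' R)) ∧
      (∀ a, HopfAlgebra.antipode R (stageMap χ₀ R' a) ∈ Set.range (stageMap χ₀ R')) := by
  classical
  have hΔ : ∀ b : B₀, ∃ T : Finset R, ∀ R' : Subalgebra A₀ R, (↑T : Set R) ⊆ R' →
      Coalgebra.comul (R := R) (χ₀ b) ∈
        Set.range (mix ↥R' R (stageMap χ₀ R') (stageMap χ₀ R')) :=
    fun b => exists_mem_range_mix χ₀ h _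
  have hε : ∀ b : B₀, ∃ T : Finset R, ∀ R' : Subalgebra A₀ R, (↑T : Set R) ⊆ R' →
      Coalgebra.counit (R := R) (χ₀ b) ∈ Set.range (algebraMap ↥R' R) :=
    fun b => ⟨{Coalgebra.counit (R := R) (χ₀ b)}, fun R' hR' => ⟨⟨_, hR' (by simp)⟩, rfl⟩⟩
  have hS : ∀ b : B₀, ∃ T : Finset R, ∀ R' : Subalgebra A₀ R, (↑T : Set R) ⊆ R' →
      HopfAlgebra.antipode R (χ₀ b) ∈ Set.range (stageMap χ₀ R') :=
    fun b => exists_mem_range χ₀ h _
  choose TΔ hTΔ using hΔ
  choose Tε hTε using hε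
  choose TS hTS using hS
  refine ⟨s.biUnion (fun b => TΔ b ∪ Tε b ∪ TS b), fun R' h1 => ?_⟩
  have hsub : ∀ b ∈ s, (↑(TΔ b) : Set R) ⊆ R' ∧ (↑(Tε b) : Set R) ⊆ R' ∧
      (↑(TS b) : Set R) ⊆ R' := by
    intro b hb
    have h2 : (↑(TΔ b ∪ Tε b ∪ TS b) : Set R) ⊆ R' := by
      refine subset_trans ?_ h1
      intro x hx
      rw [Finset.mem_coe, Finset.mem_biUnion]
      exact ⟨b, hb, hx⟩
    rw [Finset.coe_union, Finset.coe_union, Set.union_subset_iff, Set.union_subset_iff] at h2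
    exact ⟨h2.1.1, h2.1.2, h2.2⟩
  have h1b : ∀ b : B₀, stageMap χ₀ R' ((1 : R') ⊗ₜ b) = χ₀ b := by
    intro b
    rw [stageMap_tmul]
    simp
  refine ⟨?_, ?_, ?_⟩
  · intro a
    exact stage_induction hs R'
      (((Bialgebra.comulAlgHom R C).restrictScalars ↥R').comp (stageMap χ₀ R'))
      (mix ↥R' R (stageMap χ₀ R') (stageMap χ₀ R')).range
      (fun b hb => by
        show Coalgebra.comul (R := R) (stageMap χ₀ R' ((1 : R') ⊗ₜ b)) ∈ _
        rw [h1b]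
        exact hTΔ b R' (hsub b hb).1) a
  · intro a
    exact stage_induction hs R'
      (((Bialgebra.counitAlgHom R C).restrictScalars ↥R').comp (stageMap χ₀ R'))
      (Algebra.ofId ↥R' R).range
      (fun b hb => by
        show Coalgebra.counit (R := R) (stageMap χ₀ R' ((1 : R') ⊗ₜ b)) ∈ _
        rw [h1b]
        exact hTε b R' (hsub b hb).2.1) a
  · intro a
    exact stage_induction hs R'
      (((HopfAlgebra.antipodeAlgHom R C).restrictScalars ↥R').comp (stageMap χ₀ R'))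
      (stageMap χ₀ R').range
      (fun b hb => by
        show HopfAlgebra.antipode R (stageMap χ₀ R' ((1 : R') ⊗ₜ b)) ∈ _
        rw [h1b]
        exact hTS b R' (hsub b hb).2.2) a

end step1

section ideal
variable {A₀ R : Type u} [CommRing A₀] [CommRing R] [Algebra A₀ R]
  {B₀ : Type u} [CommRing B₀] [Algebra A₀ B₀]
  {C : Type u} [CommRing C] [Algebra R C] [Algebra A₀ C]
  [IsScalarTower A₀ R C] (χ₀ : B₀ →ₐ[A₀] C) (𝔪 : Ideal R)

/-- elements of the extended ideal `𝔪C` come from the extended ideal at all large enough stages -/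
theorem exists_mem_map_ideal (h : IsRed A₀ R χ₀.toLinearMap) (b : C)
    (hb : b ∈ Ideal.map (algebraMap R C) 𝔪) :
    ∃ T : Finset R, ∀ R' : Subalgebra A₀ R, (↑T : Set R) ⊆ R' →
      ∃ y ∈ Ideal.map (algebraMap ↥R' (↥R' ⊗[A₀] B₀)) (𝔪.comap (algebraMap ↥R' R)),
        stageMap χ₀ R' y = b := by
  classical
  unfold Ideal.map at hb
  induction hb using Submodule.span_induction with
  | mem x hx =>
    obtain ⟨m, hm, rfl⟩ := hx
    refine ⟨{m}, fun R' hR' => ?_⟩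
    have hmR : m ∈ R' := hR' (by simp)
    refine ⟨algebraMap ↥R' (↥R' ⊗[A₀] B₀) ⟨m, hmR⟩, Ideal.mem_map_of_mem _ ?_, ?_⟩
    · show algebraMap ↥R' R ⟨m, hmR⟩ ∈ 𝔪
      exact hm
    · rw [AlgHom.commutes]
      rfl
  | zero => exact ⟨∅, fun R' _ => ⟨0, Ideal.zero_mem _, map_zero _⟩⟩
  | add x y _ _ hx hy =>
    obtain ⟨T₁, h₁⟩ := hx
    obtain ⟨T₂, h₂⟩ := hy
    refine ⟨T₁ ∪ T₂, fun R' hR' => ?_⟩
    rw [Finset.coe_union, Set.union_subset_iff] at hR'
    obtain ⟨a, ha, ha'⟩ := h₁ R' hR'.1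
    obtain ⟨b, hb, hb'⟩ := h₂ R' hR'.2
    exact ⟨a + b, Ideal.add_mem _ ha hb, by rw [map_add, ha', hb']⟩
  | smul c x _ hx =>
    obtain ⟨T₁, h₁⟩ := hx
    obtain ⟨T₂, h₂⟩ := exists_mem_range χ₀ h c
    refine ⟨T₁ ∪ T₂, fun R' hR' => ?_⟩
    rw [Finset.coe_union, Set.union_subset_iff] at hR'
    obtain ⟨a, ha, ha'⟩ := h₁ R' hR'.1
    obtain ⟨b, hb'⟩ := h₂ R' hR'.2
    exact ⟨b * a, Ideal.mul_mem_left _ _ ha, by rw [map_mul, ha', hb', smul_eq_mul]⟩

omit [IsScalarTower A₀ R C] [Algebra A₀ C] [Algebra R C] in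
/-- the extended ideal is compatible with passing to a stage -/
theorem map_includeRight_le (R'' : Subalgebra A₀ R) :
    Ideal.map (Algebra.TensorProduct.includeRight : B₀ →ₐ[A₀] ↥R'' ⊗[A₀] B₀)
      (Ideal.map (algebraMap A₀ B₀) (𝔪.comap (algebraMap A₀ R))) ≤
    Ideal.map (algebraMap ↥R'' (↥R'' ⊗[A₀] B₀)) (𝔪.comap (algebraMap ↥R'' R)) := by
  rw [Ideal.map_le_iff_le_comap, Ideal.map_le_iff_le_comap]
  intro a ha
  rw [Ideal.mem_comap, Ideal.mem_comap]
  have h1 : (Algebra.TensorProduct.includeRight : B₀ →ₐ[A₀] ↥R'' ⊗[A₀] B₀) (algebraMap A₀ B₀ a) =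
      algebraMap ↥R'' (↥R'' ⊗[A₀] B₀) (algebraMap A₀ ↥R'' a) := by
    rw [AlgHom.commutes]
    rfl
  rw [h1]
  apply Ideal.mem_map_of_mem
  rw [Ideal.mem_comap] at ha ⊢
  exact ha

end ideal

end Groth.Agent.Helper2.HopfNF
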