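import Mathlib
import Groth.Prelude.Def_SGA3b
import Groth.Agent.Helper2.HopfNF7
import Groth.Agent.Helper2.FLoc1
import Groth.Agent.Helper2.FlatDescGlob

/-!
# Non-flat Hopf models VIII: flatness near the closed fibre at a finite stage
-/

set_option autoImplicit false

namespace Groth.Agent.Helper2.HopfNF
open TensorProduct Groth.Agent.Helper2.HD Groth.Agent.Helper2.MultTypeSemi
  Groth.Agent.Helper2.SemiIso Groth.Agent.Helper2.HopfModel Groth.Agent.Helper2.FlatAtElem
  Groth.Agent.Helper2.FLoc

universe u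

section away
variable {A E : Type u} [CommRing A] [CommRing E] [Algebra A E] (g : E)

/-- flatness of a basic open from flatness at its points -/
theorem flat_powers_of_forall
    (h : ∀ (q : Ideal E) [q.IsPrime], g ∉ q → Module.Flat A (LocalizedModule q.primeCompl E)) :
    Module.Flat A (LocalizedModule (Submonoid.powers g) E) := by
  rw [flat_localized_iff]
  intro X' X _ _ _ _ ι hι v hv
  let J : Ideal E := (Submodule.span E {v}).annihilator
  have hg : g ∈ J.radical := by
    rw [Ideal.radical_eq_sInf, Ideal.mem_sInf]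
    rintro q ⟨hJq, hq⟩
    by_contra hgq
    haveI := hq
    obtain ⟨s, hs⟩ := (flat_localized_iff E q.primeCompl).1 (h q hgq) X' X ι hι v hv
    have : (s : E) ∈ J := (Submodule.mem_annihilator_span_singleton v (s : E)).2 hs
    exact s.2 (hJq this)
  obtain ⟨k, hk⟩ := hg
  refine ⟨⟨g ^ k, k, rfl⟩, ?_⟩
  exact (Submodule.mem_annihilator_span_singleton v (g ^ k)).1 hk

/-- the localization away from an element as a localized module -/
theorem flat_away_iff :
    Module.Flat A (Localization.Away g) ↔ Module.Flat A (LocalizedModule (Submonoid.powers g) E) := by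
  let e : LocalizedModule (Submonoid.powers g) E ≃ₗ[E] Localization.Away g :=
    IsLocalizedModule.iso (Submonoid.powers g) (Algebra.linearMap E (Localization.Away g))
  constructor
  · intro h
    exact Module.Flat.of_linearEquiv (e.restrictScalars A)
  · intro h
    exact Module.Flat.of_linearEquiv (e.symm.restrictScalars A)

/-- flatness at the points of a flat basic open -/
theorem flat_at_of_flat_away (h : Module.Flat A (Localization.Away g))
    (q : Ideal E) [q.IsPrime] (hq : g ∉ q) :
    Module.Flat A (LocalizedModule q.primeCompl E) := by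
  rw [flat_away_iff] at h
  refine flat_localized_mono E ?_ h
  rintro x ⟨k, rfl⟩
  exact fun hx => hq (Ideal.IsPrime.mem_of_pow_mem inferInstance k hx)

end away

section transport
variable {A₂ R : Type u} [CommRing A₂] [CommRing R] [Algebra A₂ R]
  {B₂ : Type u} [CommRing B₂] [Algebra A₂ B₂]
  {C : Type u} [CommRing C] [Algebra R C] [Algebra A₂ C] [IsScalarTower A₂ R C]
  (θ₂ : B₂ →ₐ[A₂] C)

/-- the base change of a reduction, as an algebra map -/
noncomputable def redMap : R ⊗[A₂] B₂ →ₐ[R] C :=
  Algebra.TensorProduct.lift (Algebra.ofId R C) θ₂ (fun _ _ => Commute.all _ _)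

lemma redMap_tmul (r : R) (b : B₂) : redMap θ₂ (r ⊗ₜ b) = r • θ₂ b := by
  simp [redMap, Algebra.smul_def, Algebra.ofId_apply]

lemma redMap_bijective (h₂ : IsRed A₂ R θ₂.toLinearMap) :
    Function.Bijective (redMap (R := R) θ₂) := by
  have : (redMap (R := R) θ₂ : R ⊗[A₂] B₂ → C) = LinearMap.liftBaseChange R θ₂.toLinearMap := by
    funext z
    induction z using TensorProduct.induction_on with
    | zero => simp
    | add x y hx hy => simp only [map_add, hx, hy]
    | tmul r b => rw [redMap_tmul, LinearMap.liftBaseChange_tmul, AlgHom.toLinearMap_apply]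
  rw [this]
  exact h₂

/-- flatness of the base change of a basic open of the model -/
theorem flat_tensor_away (h₂ : IsRed A₂ R θ₂.toLinearMap) (f₂ : B₂)
    (hfl : ∀ (q : Ideal C) [q.IsPrime], θ₂ f₂ ∉ q →
      Module.Flat R (LocalizedModule q.primeCompl C)) :
    Module.Flat R (R ⊗[A₂] Localization.Away f₂) := by
  let e : R ⊗[A₂] B₂ ≃ₐ[R] C := AlgEquiv.ofBijective (redMap θ₂) (redMap_bijective θ₂ h₂)
  have he : e ((1 : R) ⊗ₜ f₂) = θ₂ f₂ := by
    show redMap θ₂ ((1 : R) ⊗ₜ f₂) = θ₂ f₂
    rw [redMap_tmul, one_smul]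
  have h1 : Module.Flat R (Localization.Away ((1 : R) ⊗ₜ[A₂] f₂)) := by
    rw [flat_away_iff]
    apply flat_powers_of_forall
    intro q _ hq
    let q' : Ideal C := q.comap (e.symm : C →ₐ[R] R ⊗[A₂] B₂)
    haveI : q'.IsPrime := Ideal.comap_isPrime _ _
    have hq' : θ₂ f₂ ∉ q' := by
      intro hmem
      apply hq
      have : e.symm (θ₂ f₂) ∈ q := hmem
      rwa [← he, AlgEquiv.symm_apply_apply] at this
    have h3 : FlatAt R q' := (flatAt_iff R q').2 (hfl q' hq')
    have h4 := flatAt_comap_equiv e q' h3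
    have h5 : q'.comap (e : R ⊗[A₂] B₂ →ₐ[R] C) = q := by
      ext x
      show e.symm (e x) ∈ q ↔ x ∈ q
      rw [AlgEquiv.symm_apply_apply]
    rw [h5] at h4
    exact (flatAt_iff R q).1 h4
  exact Module.Flat.of_linearEquiv
    (IsLocalization.Away.tensorProductEquivTMulRight A₂ R f₂ (Localization.Away f₂)).toLinearEquiv

end transport

section stage
variable {A₂ R : Type u} [CommRing A₂] [IsNoetherianRing A₂] [CommRing R] [Algebra A₂ R]
  {B₂ : Type u} [CommRing B₂] [Algebra A₂ B₂] [Algebra.FiniteType A₂ B₂]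
  {C : Type u} [CommRing C] [Algebra R C] [Algebra A₂ C] [IsScalarTower A₂ R C]
  (θ₂ : B₂ →ₐ[A₂] C)

/-- **flatness near the closed fibre at all large enough stages** -/
theorem exists_flat_stage (h₂ : IsRed A₂ R θ₂.toLinearMap) (f₂ : B₂)
    (hfl : ∀ (q : Ideal C) [q.IsPrime], θ₂ f₂ ∉ q →
      Module.Flat R (LocalizedModule q.primeCompl C)) :
    ∃ T : Finset R, ∀ R'' : Subalgebra A₂ R, (↑T : Set R) ⊆ R'' →
      ∀ (q : Ideal (↥R'' ⊗[A₂] B₂)) [q.IsPrime], (1 : ↥R'') ⊗ₜ[A₂] f₂ ∉ q →
        Module.Flat ↥R'' (LocalizedModule q.primeCompl (↥R'' ⊗[A₂] B₂)) := by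
  have hflat := flat_tensor_away θ₂ h₂ f₂ hfl
  haveI : Algebra.FiniteType B₂ (Localization.Away f₂) := IsLocalization.finiteType_of_monoid_fg
    (Submonoid.powers f₂) _
  haveI : Algebra.FiniteType A₂ (Localization.Away f₂) :=
    Algebra.FiniteType.trans (R := A₂) (S := B₂) inferInstance inferInstance
  obtain ⟨T, hT⟩ := Groth.Agent.Lead.FD7.core_ft' (A₀ := A₂) (Localization.Away f₂)
    (Localization.Away f₂) R
  refine ⟨T, fun R'' hR'' q _ hq => ?_⟩
  haveI := hT R'' hR''
  have h1 : Module.Flat ↥R'' (Localization.Away ((1 : ↥R'') ⊗ₜ[A₂] f₂)) :=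
    Module.Flat.of_linearEquiv
      (IsLocalization.Away.tensorProductEquivTMulRight A₂ ↥R'' f₂
        (Localization.Away f₂)).symm.toLinearEquiv
  exact flat_at_of_flat_away _ h1 q hq

end stage

end Groth.Agent.Helper2.HopfNF
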