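import Mathlib
import Groth.Prelude.Def_SGA3b
import Groth.Agent.Helper2.HopfNF8
import Groth.Agent.Helper2.FlatDescApp

/-!
# Non-flat Hopf models IX: the model theorem
-/

set_option autoImplicit false

namespace Groth.Agent.Helper2.HopfNF
open TensorProduct Groth.Agent.Helper2.HD Groth.Agent.Helper2.MultTypeSemi
  Groth.Agent.Helper2.SemiIso Groth.Agent.Helper2.HopfModel Groth.Agent.Helper2.FlatAtElem
  Groth.Agent.Helper2.FLoc

universe u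

section basicOpen

/-- a flat basic open neighbourhood of the closed fibre -/
theorem exists_flat_basicOpen (R : Type u) [CommRing R] (𝔪 : Ideal R) (C : Type u) [CommRing C]
    [Algebra R C] [Algebra.FinitePresentation R C]
    (hfl : ∀ (q : Ideal C) [q.IsPrime], Ideal.map (algebraMap R C) 𝔪 ≤ q →
      Module.Flat R (Localization.AtPrime q)) :
    ∃ f : C, 1 - f ∈ Ideal.map (algebraMap R C) 𝔪 ∧
      ∀ (q : Ideal C) [q.IsPrime], f ∉ q → Module.Flat R (LocalizedModule q.primeCompl C) := by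
  have hopen := Groth.Agent.Helper2.FlatDescApp.isOpen_flatLocus_fp (R := R) (S := C) (M := C)
  obtain ⟨𝔞, h𝔞⟩ := (PrimeSpectrum.isClosed_iff_zeroLocus_ideal _).1 hopen.isClosed_compl
  have hsup : 𝔞 ⊔ Ideal.map (algebraMap R C) 𝔪 = ⊤ := by
    by_contra hne
    obtain ⟨q, hq, hle⟩ := Ideal.exists_le_maximal _ hne
    haveI := hq.isPrime
    have h1 : (⟨q, inferInstance⟩ : PrimeSpectrum C) ∈ PrimeSpectrum.zeroLocus (𝔞 : Set C) := by
      rw [PrimeSpectrum.mem_zeroLocus]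
      have h0 : 𝔞 ≤ q := le_trans le_sup_left hle
      exact h0
    rw [← h𝔞] at h1
    apply h1
    show Module.Flat R (LocalizedModule q.primeCompl C)
    haveI := hfl q (le_trans le_sup_right hle)
    let e : LocalizedModule q.primeCompl C ≃ₗ[C] Localization.AtPrime q :=
      IsLocalizedModule.iso q.primeCompl (Algebra.linearMap C (Localization.AtPrime q))
    exact Module.Flat.of_linearEquiv (e.restrictScalars R)
  have h1 : (1 : C) ∈ 𝔞 ⊔ Ideal.map (algebraMap R C) 𝔪 := by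
    rw [hsup]
    trivial
  obtain ⟨a, ha, b, hb, hab⟩ := Submodule.mem_sup.1 h1
  refine ⟨a, ?_, ?_⟩
  · have : 1 - a = b := by rw [← hab]; ring
    rw [this]
    exact hb
  · intro q _ hq
    by_contra hnf
    have h2 : (⟨q, inferInstance⟩ : PrimeSpectrum C) ∈
        {q : PrimeSpectrum C | Module.Flat R (LocalizedModule q.asIdeal.primeCompl C)}ᶜ := hnf
    rw [h𝔞, PrimeSpectrum.mem_zeroLocus] at h2
    exact hq (h2 ha)

end basicOpen

section persist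
variable {A₁ R : Type u} [CommRing A₁] [CommRing R] [Algebra A₁ R]
  {B₁ : Type u} [CommRing B₁] [Algebra A₁ B₁] (𝔪 : Ideal R)

/-- the condition `1 - f ∈ 𝔭B` persists to every stage -/
theorem one_sub_tmul_mem (R'' : Subalgebra A₁ R) (f₁ : B₁)
    (h : 1 - f₁ ∈ Ideal.map (algebraMap A₁ B₁) (𝔪.comap (algebraMap A₁ R))) :
    1 - (1 : ↥R'') ⊗ₜ[A₁] f₁ ∈
      Ideal.map (algebraMap ↥R'' (↥R'' ⊗[A₁] B₁)) (𝔪.comap (algebraMap ↥R'' R)) := by
  apply map_includeRight_le 𝔪 R''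
  have : 1 - (1 : ↥R'') ⊗ₜ[A₁] f₁ =
      (Algebra.TensorProduct.includeRight : B₁ →ₐ[A₁] ↥R'' ⊗[A₁] B₁) (1 - f₁) := by
    rw [map_sub, map_one]
    rfl
  rw [this]
  exact Ideal.mem_map_of_mem _ h

end persist

section model

/-- the conclusion of the model theorem -/
def ModelConcl (R : Type u) [CommRing R] (𝔪 : Ideal R) (C : Type u) [CommRing C]
    [HopfAlgebra R C] : Prop :=
  ∃ (R₀ : Type u) (_ : CommRing R₀) (_ : Algebra R₀ R) (C₀ : Type u) (_ : CommRing C₀)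
    (_ : HopfAlgebra R₀ C₀) (_ : Algebra R₀ C) (_ : IsScalarTower R₀ R C) (θ : C₀ →ₐ[R₀] C),
    Algebra.FiniteType ℤ R₀ ∧ Algebra.FiniteType R₀ C₀ ∧ IsSemiIso R₀ R θ ∧
    ∀ (q₀ : Ideal C₀) [q₀.IsPrime],
      Ideal.map (algebraMap R₀ C₀) (𝔪.comap (algebraMap R₀ R)) ≤ q₀ →
        Module.Flat R₀ (LocalizedModule q₀.primeCompl C₀)

/-- the last stage: the Hopf axioms and flatness -/
theorem model_stage3 {R : Type u} [CommRing R] (𝔪 : Ideal R) {C : Type u} [CommRing C]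
    [HopfAlgebra R C]
    {A₂ : Type u} [CommRing A₂] [Algebra A₂ R] [Algebra A₂ C] [IsScalarTower A₂ R C]
    (hftZ2 : Algebra.FiniteType ℤ A₂)
    {B₂ : Type u} [CommRing B₂] [Algebra A₂ B₂] [Algebra.FiniteType A₂ B₂]
    (θ₂ : B₂ →ₐ[A₂] C) (h₂ : IsRed A₂ R θ₂.toLinearMap)
    (Δ₂ : B₂ →ₐ[A₂] B₂ ⊗[A₂] B₂) (ε₂ : B₂ →ₐ[A₂] A₂) (S₂ : B₂ →ₐ[A₂] B₂)
    (hΔ₂ : ∀ a, mix A₂ R θ₂ θ₂ (Δ₂ a) = Coalgebra.comul (R := R) (θ₂ a))
    (hε₂ : ∀ a, algebraMap A₂ R (ε₂ a) = Coalgebra.counit (R := R) (θ₂ a))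
    (hS₂ : ∀ a, θ₂ (S₂ a) = HopfAlgebra.antipode R (θ₂ a))
    (f₂ : B₂)
    (hf₂' : 1 - f₂ ∈ Ideal.map (algebraMap A₂ B₂) (𝔪.comap (algebraMap A₂ R)))
    (hfflat : ∀ (q : Ideal C) [q.IsPrime], θ₂ f₂ ∉ q →
      Module.Flat R (LocalizedModule q.primeCompl C)) :
    ModelConcl R 𝔪 C := by
  classical
  haveI : IsNoetherianRing A₂ := Algebra.FiniteType.isNoetherianRing ℤ A₂
  obtain ⟨s₂, hs₂⟩ := (Algebra.FiniteType.out : (⊤ : Subalgebra A₂ B₂).FG)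
  obtain ⟨T₃, hT₃⟩ := exists_hopfData' θ₂ h₂ Δ₂ ε₂ S₂ hΔ₂ hε₂ hS₂ hs₂
  obtain ⟨T₃', hT₃'⟩ := exists_flat_stage θ₂ h₂ f₂ hfflat
  let R₃ : Subalgebra A₂ R := Algebra.adjoin A₂ (↑(T₃ ∪ T₃') : Set R)
  have hR₃ : (↑T₃ : Set R) ⊆ R₃ ∧ (↑T₃' : Set R) ⊆ R₃ := by
    constructor
    · intro x hx
      exact Algebra.subset_adjoin (Finset.mem_coe.2 (Finset.mem_union_left _ (Finset.mem_coe.1 hx)))
    · intro x hx
      exact Algebra.subset_adjoin (Finset.mem_coe.2 (Finset.mem_union_right _ (Finset.mem_coe.1 hx)))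
  obtain ⟨L⟩ := hT₃ R₃ hR₃.1
  have hflat₃ := hT₃' R₃ hR₃.2
  have h₃ := isRed_stageMap θ₂ h₂ R₃
  haveI hft3 : Algebra.FiniteType A₂ ↥R₃ := (Subalgebra.fg_iff_finiteType R₃).mp ⟨_, rfl⟩
  have hftZ3 : Algebra.FiniteType ℤ ↥R₃ :=
    Algebra.FiniteType.trans (R := ℤ) (S := A₂) hftZ2 hft3
  refine ⟨↥R₃, inferInstance, inferInstance, ↥R₃ ⊗[A₂] B₂, inferInstance, L.hopf, inferInstance,
    inferInstance, stageMap θ₂ R₃, hftZ3, ?_, L.isSemiIso h₃, ?_⟩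
  · exact Algebra.FiniteType.baseChange ↥R₃
  · intro q₀ _ hq₀
    apply hflat₃ q₀
    intro hmem
    have h1 := one_sub_tmul_mem 𝔪 R₃ f₂ hf₂'
    have h2 : (1 : ↥R₃ ⊗[A₂] B₂) ∈ q₀ := by
      have := q₀.add_mem (hq₀ h1) hmem
      rwa [sub_add_cancel] at this
    exact (Ideal.ne_top_iff_one q₀).1 (Ideal.IsPrime.ne_top inferInstance) h2

/-- the middle stage: the structure maps -/
theorem model_stage2 {R : Type u} [CommRing R] (𝔪 : Ideal R) {C : Type u} [CommRing C]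
    [HopfAlgebra R C]
    {A₁ : Type u} [CommRing A₁] [Algebra A₁ R] [Algebra A₁ C] [IsScalarTower A₁ R C]
    (hftZ1 : Algebra.FiniteType ℤ A₁)
    {B₁ : Type u} [CommRing B₁] [Algebra A₁ B₁] [Algebra.FiniteType A₁ B₁]
    (θ₁ : B₁ →ₐ[A₁] C) (h₁ : IsRed A₁ R θ₁.toLinearMap)
    (hΔr : ∀ a, Coalgebra.comul (R := R) (θ₁ a) ∈ Set.range (mix A₁ R θ₁ θ₁))
    (hεr : ∀ a, Coalgebra.counit (R := R) (θ₁ a) ∈ Set.range (algebraMap A₁ R))
    (hSr : ∀ a, HopfAlgebra.antipode R (θ₁ a) ∈ Set.range θ₁)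
    (f₁ : B₁) (hf₁' : 1 - f₁ ∈ Ideal.map (algebraMap A₁ B₁) (𝔪.comap (algebraMap A₁ R)))
    (hfflat : ∀ (q : Ideal C) [q.IsPrime], θ₁ f₁ ∉ q →
      Module.Flat R (LocalizedModule q.primeCompl C)) :
    ModelConcl R 𝔪 C := by
  classical
  haveI : IsNoetherianRing A₁ := Algebra.FiniteType.isNoetherianRing ℤ A₁
  have hfpB1 : Algebra.FinitePresentation A₁ B₁ :=
    Algebra.FinitePresentation.of_finiteType.mp inferInstance
  obtain ⟨n, π, hπ, hker⟩ := hfpB1.out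
  obtain ⟨G, hG⟩ := hker
  obtain ⟨T₂, hT₂⟩ := exists_structure_maps π hπ G hG.symm θ₁ h₁ hΔr hεr hSr
  let R₂ : Subalgebra A₁ R := Algebra.adjoin A₁ (↑T₂ : Set R)
  obtain ⟨Δ₂, ε₂, S₂, hΔ₂, hε₂, hS₂⟩ := hT₂ R₂ Algebra.subset_adjoin
  have h₂ := isRed_stageMap θ₁ h₁ R₂
  haveI hft2 : Algebra.FiniteType A₁ ↥R₂ := (Subalgebra.fg_iff_finiteType R₂).mp ⟨_, rfl⟩
  have hftZ2 : Algebra.FiniteType ℤ ↥R₂ :=
    Algebra.FiniteType.trans (R := ℤ) (S := A₁) hftZ1 hft2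
  haveI : Algebra.FiniteType ↥R₂ (↥R₂ ⊗[A₁] B₁) := Algebra.FiniteType.baseChange ↥R₂
  refine model_stage3 𝔪 hftZ2 (stageMap θ₁ R₂) h₂ Δ₂ ε₂ S₂ hΔ₂ hε₂ hS₂ ((1 : ↥R₂) ⊗ₜ f₁)
    (one_sub_tmul_mem 𝔪 R₂ f₁ hf₁') ?_
  intro q _ hq
  apply hfflat q
  rwa [stageMap_one_tmul] at hq

/-- **Model theorem, non-flat case**: a finitely presented Hopf algebra over `R` which is flat
along `V(𝔪C)` is the base change of a Hopf algebra of finite type over a finitely generated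
ℤ-subalgebra of `R`, flat along the corresponding closed subset. -/
theorem exists_hopf_model_nf (R : Type u) [CommRing R] (𝔪 : Ideal R) (C : Type u) [CommRing C]
    [HopfAlgebra R C] (hfp : Algebra.FinitePresentation R C)
    (hfl : ∀ (q : Ideal C) [q.IsPrime], Ideal.map (algebraMap R C) 𝔪 ≤ q →
      Module.Flat R (Localization.AtPrime q)) :
    ModelConcl R 𝔪 C := by
  classical
  haveI := hfp
  obtain ⟨f, hf1, hfflat⟩ := exists_flat_basicOpen R 𝔪 C hfl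
  -- stage 0
  let P := Algebra.Presentation.ofFinitePresentation R C
  let e₀ : R ⊗[P.Core] P.ModelOfHasCoeffs P.Core ≃ₐ[R] C := P.tensorModelOfHasCoeffsEquiv P.Core
  haveI : IsNoetherianRing P.Core := Algebra.FiniteType.isNoetherianRing ℤ P.Core
  let χ₀ : P.ModelOfHasCoeffs P.Core →ₐ[P.Core] C :=
    (e₀.toAlgHom.restrictScalars P.Core).comp Algebra.TensorProduct.includeRight
  have hχ₀ : IsRed P.Core R χ₀.toLinearMap := by
    have : LinearMap.liftBaseChange R χ₀.toLinearMap = e₀.toLinearEquiv.toLinearMap := by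
      apply TensorProduct.AlgebraTensorModule.ext
      intro r b
      simp only [LinearMap.liftBaseChange_tmul, AlgHom.toLinearMap_apply, χ₀, AlgHom.comp_apply,
        AlgHom.restrictScalars_apply, Algebra.TensorProduct.includeRight_apply,
        AlgEquiv.toLinearEquiv_toLinearMap, AlgEquiv.toLinearMap_apply]
      rw [← map_smul, TensorProduct.smul_tmul', smul_eq_mul, mul_one]
      rfl
    unfold IsRed
    rw [this]
    exact e₀.bijective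
  obtain ⟨s₀, hs₀⟩ :=
    (Algebra.FiniteType.out : (⊤ : Subalgebra P.Core (P.ModelOfHasCoeffs P.Core)).FG)
  -- stage 1
  obtain ⟨T₁, hT₁⟩ := exists_stage_nf χ₀ hχ₀ hs₀
  obtain ⟨T₁', hT₁'⟩ := exists_mem_map_ideal χ₀ 𝔪 hχ₀ (1 - f) hf1
  let R₁ : Subalgebra P.Core R := Algebra.adjoin P.Core (↑(T₁ ∪ T₁') : Set R)
  have hR₁ : (↑T₁ : Set R) ⊆ R₁ ∧ (↑T₁' : Set R) ⊆ R₁ := by
    constructor
    · intro x hx
      exact Algebra.subset_adjoin (Finset.mem_coe.2 (Finset.mem_union_left _ (Finset.mem_coe.1 hx)))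
    · intro x hx
      exact Algebra.subset_adjoin (Finset.mem_coe.2 (Finset.mem_union_right _ (Finset.mem_coe.1 hx)))
  obtain ⟨hΔr, hεr, hSr⟩ := hT₁ R₁ hR₁.1
  obtain ⟨y₁, hy₁, hy₁'⟩ := hT₁' R₁ hR₁.2
  have h₁ := isRed_stageMap χ₀ hχ₀ R₁
  haveI hft1 : Algebra.FiniteType P.Core ↥R₁ := (Subalgebra.fg_iff_finiteType R₁).mp ⟨_, rfl⟩
  have hftZ1 : Algebra.FiniteType ℤ ↥R₁ :=
    Algebra.FiniteType.trans (R := ℤ) (S := P.Core) inferInstance hft1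
  haveI : Algebra.FiniteType ↥R₁ (↥R₁ ⊗[P.Core] P.ModelOfHasCoeffs P.Core) :=
    Algebra.FiniteType.baseChange ↥R₁
  refine model_stage2 𝔪 hftZ1 (stageMap χ₀ R₁) h₁ hΔr hεr hSr (1 - y₁) ?_ ?_
  · have : (1 : ↥R₁ ⊗[P.Core] P.ModelOfHasCoeffs P.Core) - (1 - y₁) = y₁ := sub_sub_cancel 1 y₁
    rw [this]
    exact hy₁
  · intro q _ hq
    apply hfflat q
    rwa [map_sub, map_one, hy₁', sub_sub_cancel] at hq

end model

end Groth.Agent.Helper2.HopfNF
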