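import Mathlib
import Groth.Prelude.Def_SGA3b
import Groth.Agent.Helper2.TorsFin5
import Groth.Agent.Helper2.ConvGrp

set_option autoImplicit false

namespace Groth.Agent.Helper2.TrivSub
open TensorProduct Groth.Agent.Helper2.MultTypeSemi Groth.Agent.Helper2.MultTypeChart
  Groth.Agent.Helper2.SemiIso Groth.Agent.Helper2.TorsDens Groth.Agent.Helper2.NilLift
  Groth.Agent.Helper2.FamDesc Groth.Agent.Helper2.TorsFin

universe u

section chart
variable {R : Type u} [CommRing R] {A : Type u} [CommRing A] [HopfAlgebra R A]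
variable {T : Type u} [CommRing T] [Algebra R T] {N : Type u} [CommGroup N]
  {θ : A →ₐ[R] MonoidAlgebra T N}

/-- the chart of the quotient by the torsion ideal, without the coalgebra structure -/
noncomputable def torsChart₀ (hθ : IsSemiIso R T θ) (n : ℕ) :
    (A ⧸ SGA3b.torsionIdeal R A n) →ₐ[R] MonoidAlgebra T (Qn N n) :=
  Ideal.Quotient.liftₐ _ (preChart θ n) (fun a ha => preChart_eq_zero hθ n a ha)

lemma torsChart₀_mk (hθ : IsSemiIso R T θ) (n : ℕ) (a : A) :
    torsChart₀ hθ n (Ideal.Quotient.mk _ a) = pi T N n (θ a) := rfl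

theorem torsChart₀_bijective (hθ : IsSemiIso R T θ) (n : ℕ) :
    Function.Bijective (LinearMap.liftBaseChange T (torsChart₀ hθ n).toLinearMap) := by
  set J := SGA3b.torsionIdeal R A n with hJ
  let Θ : T ⊗[R] A →ₐ[T] MonoidAlgebra T N := liftMap R T θ
  have hΘ : Function.Bijective Θ := liftMap_bijective hθ
  let q : T ⊗[R] A →ₐ[T] T ⊗[R] (A ⧸ J) :=
    Algebra.TensorProduct.map (AlgHom.id T T) (Ideal.Quotient.mkₐ R J)
  have hq : Function.Surjective q := by
    have : ⇑q = ⇑(LinearMap.lTensor T (Ideal.Quotient.mkₐ R J).toLinearMap) := by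
      ext z
      induction z using TensorProduct.induction_on with
      | zero => simp
      | add x y hx hy => simp only [map_add, hx, hy]
      | tmul t a => rfl
    rw [this]
    exact LinearMap.lTensor_surjective T (Ideal.Quotient.mkₐ_surjective R J)
  set X := LinearMap.liftBaseChange T (torsChart₀ hθ n).toLinearMap with hX
  have hcomm : ∀ z, X (q z) = pi T N n (Θ z) := by
    intro z
    induction z using TensorProduct.induction_on with
    | zero => simp
    | add x y hx hy => simp only [map_add, hx, hy]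
    | tmul t a =>
      have h1 : q (t ⊗ₜ[R] a) = t ⊗ₜ[R] (Ideal.Quotient.mk J a) := rfl
      rw [h1, hX, LinearMap.liftBaseChange_tmul, AlgHom.toLinearMap_apply, torsChart₀_mk]
      show t • pi T N n (θ a) = pi T N n (liftMap R T θ (t ⊗ₜ[R] a))
      rw [liftMap_tmul, ← piB_apply, ← piB_apply, map_smul]
  constructor
  · rw [injective_iff_map_eq_zero]
    intro zb hzb
    obtain ⟨z, rfl⟩ := hq zb
    rw [hcomm] at hzb
    have h1 : Θ z ∈ Ideal.map (θ : A →+* MonoidAlgebra T N) (SGA3b.torsionIdeal R A n) := by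
      rw [map_torsionIdeal_eq_ker hθ n, RingHom.mem_ker]
      exact hzb
    have h2 : (θ : A →+* MonoidAlgebra T N) = (Θ : T ⊗[R] A →+* MonoidAlgebra T N).comp
        (Algebra.TensorProduct.includeRight : A →ₐ[R] T ⊗[R] A) := by
      ext a
      simp [Θ]
    rw [h2, ← Ideal.map_map] at h1
    have h3 : z ∈ Ideal.map ((Algebra.TensorProduct.includeRight : A →ₐ[R] T ⊗[R] A) : A →+* _)
        (SGA3b.torsionIdeal R A n) := by
      obtain ⟨w, hw, hwz⟩ := (Ideal.mem_map_iff_of_surjective _ hΘ.2).mp h1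
      rw [← hΘ.1 hwz]
      exact hw
    have h4 : Ideal.map ((Algebra.TensorProduct.includeRight : A →ₐ[R] T ⊗[R] A) : A →+* _)
        (SGA3b.torsionIdeal R A n) ≤ RingHom.ker (q : T ⊗[R] A →+* T ⊗[R] (A ⧸ J)) := by
      rw [Ideal.map_le_iff_le_comap]
      intro a ha
      rw [Ideal.mem_comap, RingHom.mem_ker]
      show q ((1 : T) ⊗ₜ[R] a) = 0
      have : q ((1 : T) ⊗ₜ[R] a) = (1 : T) ⊗ₜ[R] (Ideal.Quotient.mk J a) := rfl
      rw [this, Ideal.Quotient.eq_zero_iff_mem.mpr ha, TensorProduct.tmul_zero]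
    exact h4 h3
  · intro y
    obtain ⟨x, rfl⟩ := piB_surjective (T := T) (N := N) n y
    obtain ⟨z, rfl⟩ := hΘ.2 x
    exact ⟨q z, by rw [hcomm, piB_apply]⟩

lemma finite_torsion_chart₀ (hft : Algebra.FiniteType R A) (hθ : IsSemiIso R T θ) (n : ℕ)
    (hn : 0 < n) : Module.Finite T (T ⊗[R] (A ⧸ SGA3b.torsionIdeal R A n)) := by
  by_cases hT : Nontrivial T
  · haveI := hT
    haveI : Group.FG N := group_fg_of_chart hft hθ
    haveI : Finite (Qn N n) := finite_Qn N n hn
    let e : T ⊗[R] (A ⧸ SGA3b.torsionIdeal R A n) ≃ₗ[T] MonoidAlgebra T (Qn N n) :=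
      LinearEquiv.ofBijective _ (torsChart₀_bijective hθ n)
    exact Module.Finite.equiv e.symm
  · haveI : Subsingleton T := not_nontrivial_iff_subsingleton.mp hT
    haveI : Subsingleton (T ⊗[R] (A ⧸ SGA3b.torsionIdeal R A n)) := by
      refine ⟨fun x y => ?_⟩
      rw [← one_smul T x, ← one_smul T y, Subsingleton.elim (1 : T) 0, zero_smul, zero_smul]
    infer_instance

end chart

section fam
variable (R : Type u) [CommRing R] (A : Type u) [CommRing A] [HopfAlgebra R A]

/-- a family of charts with the group structures, jointly faithfully flat -/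
theorem exists_fam_grp (h : SGA3b.IsMultType R A) :
    ∃ (F : Type u) (_ : Fintype F) (_ : DecidableEq F) (T : F → Type u)
      (_ : ∀ f, CommRing (T f)) (_ : ∀ f, Algebra R (T f))
      (_ : Module.FaithfullyFlat R (Π f, T f)) (N : F → Type u) (_ : ∀ f, CommGroup (N f))
      (θ : ∀ f, A →ₐ[R] MonoidAlgebra (T f) (N f)), ∀ f, IsSemiIso R (T f) (θ f) := by
  classical
  obtain ⟨s, hs, hf⟩ := h
  obtain ⟨s₀, hs₀, hspan⟩ := (Ideal.span_eq_top_iff_finite s).mp hs
  have hch : ∀ f : (s₀ : Set R), ∃ (R' : Type u) (_ : CommRing R')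
      (_ : Algebra (Localization.Away f.1) R') (_ : Algebra R R')
      (_ : IsScalarTower R (Localization.Away f.1) R'),
      Module.FaithfullyFlat (Localization.Away f.1) R' ∧ Module.Flat R R' ∧
      ∃ (N : Type u) (_ : CommGroup N) (θ : A →ₐ[R] MonoidAlgebra R' N), IsSemiIso R R' θ :=
    fun f => GLikeLI.exists_chart (R := R) (Q := A) f.1 (hf f.1 (hs₀ f.2))
  choose T cr algf alg tower hff hfl N grp θ hθ using hch
  haveI : ∀ f, Module.FaithfullyFlat (Localization.Away f.1) (T f) := hff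
  have hpi : Module.FaithfullyFlat R (Π f : (s₀ : Set R), T f) :=
    faithfullyFlat_pi_of_away (fun f : (s₀ : Set R) => T f) (fun f => f.1)
      (by rw [Subtype.range_coe]; exact hspan)
  exact ⟨(s₀ : Set R), inferInstance, inferInstance, T, cr, alg, hpi, N, grp, θ, hθ⟩

theorem finite_quot_torsionIdeal (hft : Algebra.FiniteType R A) (h : SGA3b.IsMultType R A)
    (n : ℕ) (hn : 0 < n) : Module.Finite R (A ⧸ SGA3b.torsionIdeal R A n) := by
  obtain ⟨F, _, _, T, _, _, _, N, _, θ, hθ⟩ := exists_fam_grp R A h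
  exact finite_of_fam T _ (fun f => finite_torsion_chart₀ hft (hθ f) n hn)

end fam

end Groth.Agent.Helper2.TrivSub
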