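import Mathlib
import Groth.Prelude.Def_SGA3b
import Groth.Agent.Helper2.TrivSub1

set_option autoImplicit false

namespace Groth.Agent.Helper2.TrivSub
open TensorProduct Groth.Agent.Helper2.MultTypeSemi Groth.Agent.Helper2.MultTypeChart
  Groth.Agent.Helper2.SemiIso Groth.Agent.Helper2.TorsDens Groth.Agent.Helper2.NilLift
  Groth.Agent.Helper2.FamDesc Groth.Agent.Helper2.TorsFin Groth.Agent.Helper2.ConvGrp WithConv

universe u

section counit
variable (R : Type u) [CommRing R] (A : Type u) [CommRing A] [HopfAlgebra R A]

lemma counit_powConv (n : ℕ) (x : A) :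
    Coalgebra.counit (R := R) (SGA3b.powConv R A n x) = Coalgebra.counit (R := R) x := by
  have h1 : toConv (Bialgebra.counitAlgHom R A) = (1 : WithConv (A →ₐ[R] R)) := by
    rw [AlgHom.convOne_def]
    congr 1
  have h2 : pushHom (Bialgebra.counitAlgHom R A) (toConv (AlgHom.id R A) ^ n) = 1 := by
    rw [map_pow, pushHom_apply, ofConv_toConv, AlgHom.comp_id, h1, one_pow]
  have h3 : (Bialgebra.counitAlgHom R A).comp (SGA3b.powConv R A n) =
      Bialgebra.counitAlgHom R A := by
    have := congrArg ofConv (h2.trans h1.symm)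
    rw [pushHom_apply, ofConv_toConv, ofConv_toConv] at this
    exact this
  exact congrArg (fun g : A →ₐ[R] R => g x) h3

lemma torsionIdeal_le_ker_counit (n : ℕ) :
    SGA3b.torsionIdeal R A n ≤ RingHom.ker (Bialgebra.counitAlgHom R A) := by
  rw [SGA3b.torsionIdeal, Ideal.map_le_iff_le_comap]
  intro x hx
  rw [Ideal.mem_comap, RingHom.mem_ker]
  rw [RingHom.mem_ker] at hx
  show Coalgebra.counit (R := R) (SGA3b.powConv R A n x) = 0
  rw [counit_powConv]
  exact hx

end counit

section fg
variable {R : Type*} [CommRing R] {B : Type*} [CommRing B] [Algebra R B] (ε : B →ₐ[R] R)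

/-- the augmentation ideal of a finitely generated augmented algebra is finitely generated -/
lemma ker_fg_of_finiteType (hft : Algebra.FiniteType R B) : (RingHom.ker ε).FG := by
  classical
  obtain ⟨S, hS⟩ := hft.out
  let I₀ : Ideal B := Ideal.span ((fun s => s - algebraMap R B (ε s)) '' (S : Set B))
  have hle : I₀ ≤ RingHom.ker ε := by
    rw [Ideal.span_le]
    rintro _ ⟨s, -, rfl⟩
    rw [SetLike.mem_coe, RingHom.mem_ker, map_sub, AlgHom.commutes]
    simp
  have key : ∀ b : B, b - algebraMap R B (ε b) ∈ I₀ := by
    intro b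
    have hb : b ∈ Algebra.adjoin R (S : Set B) := by rw [hS]; trivial
    induction hb using Algebra.adjoin_induction with
    | mem x hx => exact Ideal.subset_span ⟨x, hx, rfl⟩
    | algebraMap r => simp
    | add x y _ _ hx hy =>
      have : x + y - algebraMap R B (ε (x + y)) =
          (x - algebraMap R B (ε x)) + (y - algebraMap R B (ε y)) := by
        rw [map_add, map_add]; ring
      rw [this]
      exact add_mem hx hy
    | mul x y _ _ hx hy =>
      have : x * y - algebraMap R B (ε (x * y)) =
          (x - algebraMap R B (ε x)) * y + algebraMap R B (ε x) * (y - algebraMap R B (ε y)) := by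
        rw [map_mul, map_mul]; ring
      rw [this]
      exact add_mem (Ideal.mul_mem_right _ _ hx) (Ideal.mul_mem_left _ _ hy)
  have heq : RingHom.ker ε = I₀ := by
    apply le_antisymm _ hle
    intro b hb
    have := key b
    rw [RingHom.mem_ker] at hb
    rwa [hb, map_zero, sub_zero] at this
  rw [heq]
  exact ⟨S.image (fun s => s - algebraMap R B (ε s)), by rw [Finset.coe_image]⟩

end fg

end Groth.Agent.Helper2.TrivSub
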