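import Mathlib
import Groth.Prelude.Def_SGA3b
import Groth.Agent.Helper2.ConvGrp
import Groth.Agent.Helper2.HopfTors1
import Groth.Agent.Helper2.TrivSub2

set_option autoImplicit false

namespace Groth.Agent.Helper2.OpenDens
open TensorProduct WithConv Bialgebra Coalgebra Groth.Agent.Helper2.ConvGrp
  Groth.Agent.Helper2.HopfTors Groth.Agent.Helper2.TrivSub

universe u

section pull
variable {R : Type*} [CommRing R] {C : Type*} [CommRing C] [HopfAlgebra R C]
  {D : Type*} [CommRing D] [HopfAlgebra R D] {A : Type*} [CommRing A] [Algebra R A]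

/-- pull-back along a bialgebra map, as a monoid hom of convolution groups -/
noncomputable def pullHom (h : C →ₐc[R] D) :
    WithConv (D →ₐ[R] A) →* WithConv (C →ₐ[R] A) where
  toFun f := toConv (f.ofConv.comp (h : C →ₐ[R] D))
  map_one' := by
    rw [AlgHom.convOne_def, ofConv_toConv, AlgHom.convOne_def, AlgHom.comp_assoc,
      BialgHom.counitAlgHom_comp]
  map_mul' f g := by
    rw [AlgHom.convMul_comp_bialgHom_distrib]

@[simp] lemma pullHom_apply (h : C →ₐc[R] D) (f : WithConv (D →ₐ[R] A)) :
    pullHom h f = toConv (f.ofConv.comp (h : C →ₐ[R] D)) := rfl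

end pull

section pw
variable (R : Type u) [CommRing R] (C : Type u) [CommRing C] [HopfAlgebra R C]
  [Coalgebra.IsCocomm R C]

/-- the power maps compose multiplicatively -/
theorem powConv_mul (a b : ℕ) :
    SGA3b.powConv R C (a * b) = (SGA3b.powConv R C a).comp (SGA3b.powConv R C b) := by
  have h1 : pullHom (A := C) (powConvB R C b) (toConv (AlgHom.id R C) ^ a) =
      (toConv (SGA3b.powConv R C b)) ^ a := by
    rw [map_pow, pullHom_apply, ofConv_toConv, AlgHom.id_comp, powConvB_toAlgHom]
  have h2 : toConv (SGA3b.powConv R C b) = toConv (AlgHom.id R C) ^ b := rfl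
  rw [h2, ← pow_mul, mul_comm b a] at h1
  have h3 := congrArg ofConv h1
  rw [pullHom_apply, ofConv_toConv, powConvB_toAlgHom] at h3
  exact h3.symm

end pw

section tau
variable {R : Type u} [CommRing R] {C : Type u} [CommRing C] [HopfAlgebra R C]
  [Coalgebra.IsCocomm R C]

/-- translation by a point -/
noncomputable def tau (g : WithConv (C →ₐ[R] R)) : C →ₐ[R] C :=
  (pushHom (Algebra.ofId R C) g * toConv (AlgHom.id R C)).ofConv

lemma tau_one : tau (1 : WithConv (C →ₐ[R] R)) = AlgHom.id R C := by
  rw [tau, map_one, one_mul, ofConv_toConv]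

lemma tau_comp (g g' : WithConv (C →ₐ[R] R)) : (tau g).comp (tau g') = tau (g' * g) := by
  have h1 : pushHom (tau g) (pushHom (Algebra.ofId R C) g' * toConv (AlgHom.id R C)) =
      pushHom (Algebra.ofId R C) g' * toConv (tau g) := by
    rw [map_mul, pushHom_apply, pushHom_apply, pushHom_apply, ofConv_toConv, ofConv_toConv,
      AlgHom.comp_id, ← AlgHom.comp_assoc]
    congr 3
    ext
  have h2 := congrArg ofConv h1
  rw [pushHom_apply, ofConv_toConv] at h2
  change (tau g).comp (tau g') = _ at h2
  rw [h2, tau, tau, toConv_ofConv, ← mul_assoc, ← map_mul]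

lemma point_tau (z g : WithConv (C →ₐ[R] R)) : z.ofConv.comp (tau g) = (g * z).ofConv := by
  have h1 : pushHom z.ofConv (pushHom (Algebra.ofId R C) g * toConv (AlgHom.id R C)) = g * z := by
    rw [map_mul, pushHom_apply, pushHom_apply, pushHom_apply, ofConv_toConv, ofConv_toConv,
      AlgHom.comp_id, ← AlgHom.comp_assoc, toConv_ofConv]
    congr 2
    have : z.ofConv.comp (Algebra.ofId R C) = AlgHom.id R R := by ext
    rw [this, AlgHom.id_comp]
  have h2 := congrArg ofConv h1
  rw [pushHom_apply, ofConv_toConv] at h2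
  exact h2

lemma point_tau_apply (z g : WithConv (C →ₐ[R] R)) (c : C) :
    z.ofConv (tau g c) = (g * z).ofConv c :=
  congrArg (fun f : C →ₐ[R] R => f c) (point_tau z g)

/-- translation by an `N`-torsion point fixes the image of the `N`-th power map -/
lemma tau_comp_powConv (g : WithConv (C →ₐ[R] R)) (N : ℕ) (hg : g ^ N = 1) :
    (tau g).comp (SGA3b.powConv R C N) = SGA3b.powConv R C N := by
  have h1 : pushHom (tau g) (toConv (AlgHom.id R C) ^ N) = toConv (AlgHom.id R C) ^ N := by
    rw [map_pow, pushHom_apply, ofConv_toConv, AlgHom.comp_id, tau, toConv_ofConv, mul_pow,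
      ← map_pow, hg, map_one, one_mul]
  have h2 := congrArg ofConv h1
  rw [pushHom_apply, ofConv_toConv] at h2
  exact h2

lemma tau_powConv_apply (g : WithConv (C →ₐ[R] R)) (N : ℕ) (hg : g ^ N = 1) (c : C) :
    tau g (SGA3b.powConv R C N c) = SGA3b.powConv R C N c :=
  congrArg (fun f : C →ₐ[R] C => f c) (tau_comp_powConv g N hg)

/-- translation by an `N`-torsion point maps the ideal of the `nN`-torsion into the ideal of the
`n`-torsion -/
theorem tau_mem_torsionIdeal (g : WithConv (C →ₐ[R] R)) (N : ℕ) (hg : g ^ N = 1) (n : ℕ)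
    {x : C} (hx : x ∈ SGA3b.torsionIdeal R C (n * N)) : tau g x ∈ SGA3b.torsionIdeal R C n := by
  rw [SGA3b.torsionIdeal, Ideal.map] at hx
  induction hx using Submodule.span_induction with
  | mem y hy =>
    obtain ⟨c, hc, rfl⟩ := hy
    have h1 : SGA3b.powConv R C (n * N) c = SGA3b.powConv R C N (SGA3b.powConv R C n c) := by
      rw [mul_comm, powConv_mul]; rfl
    have h2 : SGA3b.powConv R C (n * N) c = SGA3b.powConv R C n (SGA3b.powConv R C N c) := by
      rw [powConv_mul]; rfl
    show tau g (SGA3b.powConv R C (n * N) c) ∈ _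
    rw [h1, tau_powConv_apply g N hg, ← h1, h2]
    apply Ideal.mem_map_of_mem
    rw [RingHom.mem_ker]
    show Coalgebra.counit (R := R) (SGA3b.powConv R C N c) = 0
    rw [counit_powConv]
    exact hc
  | zero => rw [map_zero]; exact zero_mem _
  | add a b _ _ ha hb => rw [map_add]; exact add_mem ha hb
  | smul r y _ hy =>
    rw [smul_eq_mul, map_mul]
    exact Ideal.mul_mem_left _ _ hy

end tau

end Groth.Agent.Helper2.OpenDens
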