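import Mathlib
import Groth.Prelude.Def_SGA3b
import Groth.Agent.Helper2.OpenDens1

set_option autoImplicit false

namespace Groth.Agent.Helper2.OpenDens
open TensorProduct WithConv Bialgebra Coalgebra Groth.Agent.Helper2.ConvGrp

universe u

section root
variable {M : Type*} [CommGroup M] {Q : Type*} [CommGroup Q]

lemma subgroup_fg' [Group.FG M] (H : Subgroup M) : H.FG := by
  rw [Subgroup.fg_iff_add_fg]
  haveI : AddGroup.FG (Additive M) := GroupFG.iff_add_fg.1 ‹_›
  haveI : Module.Finite ℤ (Additive M) := Module.Finite.iff_addGroup_fg.mpr inferInstance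
  have h := IsNoetherian.noetherian (AddSubgroup.toIntSubmodule H.toAddSubgroup)
  rw [Submodule.fg_iff_addSubgroup_fg, AddSubgroup.toIntSubmodule_toAddSubgroup] at h
  exact h

/-- homomorphisms from a finitely generated commutative group to a divisible group have roots up
to torsion -/
theorem exists_root_hom [Group.FG M]
    (hQ : ∀ (q : Q) (n : ℕ), n ≠ 0 → ∃ r : Q, r ^ n = q) (χ : M →* Q) (d : ℕ) (hd : 0 < d) :
    ∃ (N : ℕ) (ψ : M →* Q), 0 < N ∧ ψ ^ (d * N) = χ ^ N := by
  classical
  set T := CommGroup.torsion M with hT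
  haveI : Group.FG ↥T := (Group.fg_iff_subgroup_fg T).mpr (subgroup_fg' T)
  have htors : IsMulTorsion ↥T := by
    intro t
    have h1 : IsOfFinOrder (t : M) := t.2
    exact (Submonoid.isOfFinOrder_coe (H := T.toSubmonoid) (x := t)).mp h1
  haveI : Finite ↥T := CommGroup.finite_of_fg_isMulTorsion _ htors
  set N := Nat.card ↥T with hN
  have hNpos : 0 < N := Nat.card_pos
  have hkill : ∀ t ∈ T, (χ ^ N) t = 1 := by
    intro t ht
    have h1 : (⟨t, ht⟩ : ↥T) ^ N = 1 := pow_card_eq_one'
    have h2 : t ^ N = 1 := by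
      have := congrArg Subtype.val h1
      simpa using this
    rw [MonoidHom.pow_apply, ← map_pow, h2, map_one]
  let χb : M ⧸ T →* Q := QuotientGroup.lift T (χ ^ N) (fun t ht => hkill t ht)
  let f : M ⧸ T →* M ⧸ T := powMonoidHom (d * N)
  have hdN : d * N ≠ 0 := Nat.mul_ne_zero hd.ne' hNpos.ne'
  have hf : Function.Injective f := pow_left_injective hdN
  letI : DivisibleBy (Additive Q) ℕ := divisibleByOfSMulRightSurj (Additive Q) ℕ (by
    intro n hn q
    obtain ⟨r, hr⟩ := hQ (Additive.toMul q) n hn
    exact ⟨Additive.ofMul r, by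
      show Additive.ofMul (r ^ n) = q
      rw [hr]; rfl⟩)
  letI : DivisibleBy (Additive Q) ℤ := AddGroup.divisibleByIntOfDivisibleByNat (Additive Q)
  obtain ⟨h, hh⟩ := (Module.Baer.of_divisible (Additive Q)).extension_property_addMonoidHom
    (MonoidHom.toAdditive f) hf (MonoidHom.toAdditive χb)
  let ψb : M ⧸ T →* Q := MonoidHom.toAdditive.symm h
  refine ⟨N, ψb.comp (QuotientGroup.mk' T), hNpos, ?_⟩
  ext m
  rw [MonoidHom.pow_apply, MonoidHom.comp_apply, ← map_pow]
  have h1 := congrArg (fun g : Additive (M ⧸ T) →+ Additive Q =>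
    g (Additive.ofMul (QuotientGroup.mk' T m))) hh
  have h2 : ψb (f (QuotientGroup.mk' T m)) = χb (QuotientGroup.mk' T m) := h1
  have h3 : f (QuotientGroup.mk' T m) = (QuotientGroup.mk' T m) ^ (d * N) := rfl
  rw [← h3, h2]
  rfl

end root

section pts
variable (L : Type*) [Field L] (M : Type*) [CommGroup M]

/-- the point of the diagonalisable group given by a character -/
noncomputable def pt : (M →* Lˣ) →* WithConv (MonoidAlgebra L M →ₐ[L] L) where
  toFun χ := toConv (MonoidAlgebra.lift L L M ((Units.coeHom L).comp χ))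
  map_one' := by
    apply ofConv_injective
    refine MonoidAlgebra.algHom_ext ?_ (Subsingleton.elim _ _)
    intro m
    rw [ofConv_toConv, MonoidAlgebra.lift_single]
    simp
  map_mul' χ₁ χ₂ := by
    apply ofConv_injective
    refine MonoidAlgebra.algHom_ext ?_ (Subsingleton.elim _ _)
    intro m
    have h := AlgHom.convMul_apply
      (toConv (MonoidAlgebra.lift L L M ((Units.coeHom L).comp χ₁)))
      (toConv (MonoidAlgebra.lift L L M ((Units.coeHom L).comp χ₂))) (MonoidAlgebra.single m 1)
    change (toConv (MonoidAlgebra.lift L L M ((Units.coeHom L).comp χ₁)) *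
      toConv (MonoidAlgebra.lift L L M ((Units.coeHom L).comp χ₂))).ofConv
        (MonoidAlgebra.single m 1) = _ at h
    rw [h, ofConv_toConv, MonoidAlgebra.lift_single, MonoidAlgebra.comul_single]
    simp

lemma pt_surjective : Function.Surjective (pt L M) := by
  intro γ
  let χ₀ : M →* L := (γ.ofConv : MonoidAlgebra L M →* L).comp (MonoidAlgebra.of L M)
  refine ⟨χ₀.toHomUnits, ?_⟩
  apply ofConv_injective
  refine MonoidAlgebra.algHom_ext ?_ (Subsingleton.elim _ _)
  intro m
  show (MonoidAlgebra.lift L L M ((Units.coeHom L).comp χ₀.toHomUnits))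
    (MonoidAlgebra.single m 1) = γ.ofConv (MonoidAlgebra.single m 1)
  rw [MonoidAlgebra.lift_single, one_smul]
  rfl

end pts

end Groth.Agent.Helper2.OpenDens
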