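import Mathlib
import Groth.Prelude.Def_SGA3b
import Groth.Agent.Helper2.OpenDens2
import Groth.Agent.Helper2.TorsDens7

set_option autoImplicit false

namespace Groth.Agent.Helper2.OpenDens
open TensorProduct WithConv Bialgebra Coalgebra Groth.Agent.Helper2.ConvGrp
  Groth.Agent.Helper2.MultTypeSemi Groth.Agent.Helper2.TorsDens

universe u

section null
variable (L : Type*) [Field L] [IsAlgClosed L] (C : Type*) [CommRing C] [Algebra L C]
  [Algebra.FiniteType L C]

/-- Nullstellensatz: a maximal ideal of a finitely generated algebra over an algebraically closed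
field is the kernel of a point -/
lemma exists_point_of_isMaximal (𝔫 : Ideal C) [h𝔫 : 𝔫.IsMaximal] :
    ∃ z : C →ₐ[L] L, RingHom.ker z = 𝔫 := by
  letI : Field (C ⧸ 𝔫) := Ideal.Quotient.field 𝔫
  haveI : Algebra.FiniteType L (C ⧸ 𝔫) :=
    Algebra.FiniteType.of_surjective (Ideal.Quotient.mkₐ L 𝔫) (Ideal.Quotient.mkₐ_surjective L 𝔫)
  haveI : Module.Finite L (C ⧸ 𝔫) := finite_of_finite_type_of_isJacobsonRing L (C ⧸ 𝔫)
  haveI : Algebra.IsIntegral L (C ⧸ 𝔫) := Algebra.IsIntegral.of_finite L (C ⧸ 𝔫)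
  let e₀ : L ≃ₐ[L] (C ⧸ 𝔫) :=
    AlgEquiv.ofBijective (Algebra.ofId L (C ⧸ 𝔫)) IsAlgClosed.algebraMap_bijective_of_isIntegral
  refine ⟨(e₀.symm : (C ⧸ 𝔫) →ₐ[L] L).comp (Ideal.Quotient.mkₐ L 𝔫), ?_⟩
  ext c
  rw [RingHom.mem_ker]
  show e₀.symm (Ideal.Quotient.mk 𝔫 c) = 0 ↔ c ∈ 𝔫
  rw [EmbeddingLike.map_eq_zero_iff, Ideal.Quotient.eq_zero_iff_mem]

end null

section core
variable {L : Type u} [Field L] [IsAlgClosed L] {C : Type u} [CommRing C] [HopfAlgebra L C]
  [Coalgebra.IsCocomm L C] [Algebra.FiniteType L C] {M : Type u} [CommGroup M] [Group.FG M]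
  (π : C →ₐc[L] MonoidAlgebra L M) (hπ : Function.Surjective π) (e : C)
  (he : IsIdempotentElem e) (hker : RingHom.ker (π : C →ₐ[L] MonoidAlgebra L M) = Ideal.span {e})

include he in
omit [IsAlgClosed L] [Coalgebra.IsCocomm L C] [Algebra.FiniteType L C] in
lemma point_e (z : WithConv (C →ₐ[L] L)) : z.ofConv e = 0 ∨ z.ofConv e = 1 := by
  have h1 : z.ofConv e * z.ofConv e = z.ofConv e := by
    rw [← map_mul, he.eq]
  have h2 : z.ofConv e * (z.ofConv e - 1) = 0 := by
    rw [mul_sub, h1, mul_one, sub_self]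
  rcases mul_eq_zero.mp h2 with h | h
  · exact Or.inl h
  · exact Or.inr (sub_eq_zero.mp h)

include hker in
omit [IsAlgClosed L] [Coalgebra.IsCocomm L C] [Algebra.FiniteType L C] [Group.FG M] in
lemma pi_e : π e = 0 := by
  have : e ∈ RingHom.ker (π : C →ₐ[L] MonoidAlgebra L M) := by
    rw [hker]; exact Ideal.mem_span_singleton_self e
  exact this

include hker in
omit [IsAlgClosed L] [Coalgebra.IsCocomm L C] [Algebra.FiniteType L C] [Group.FG M] in
lemma pull_e (γ : WithConv (MonoidAlgebra L M →ₐ[L] L)) : (pullHom π γ).ofConv e = 0 := by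
  rw [pullHom_apply, ofConv_toConv]
  show γ.ofConv (π e) = 0
  rw [pi_e π e hker, map_zero]

include hker in
omit [IsAlgClosed L] [Coalgebra.IsCocomm L C] [Algebra.FiniteType L C] [Group.FG M] in
lemma counit_e : Coalgebra.counit (R := L) e = 0 := by
  have h := pull_e π e hker 1
  rw [map_one] at h
  simpa using h

include hπ hker in
omit [IsAlgClosed L] [Coalgebra.IsCocomm L C] [Algebra.FiniteType L C] [Group.FG M] in
lemma factor (z : WithConv (C →ₐ[L] L)) (hz : z.ofConv e = 0) :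
    ∃ γ : WithConv (MonoidAlgebra L M →ₐ[L] L), z = pullHom π γ := by
  have hle : RingHom.ker (π : C →ₐ[L] MonoidAlgebra L M) ≤ RingHom.ker z.ofConv := by
    rw [hker, Ideal.span_le]
    intro x hx
    rw [Set.mem_singleton_iff] at hx
    rw [hx]
    exact hz
  let γ₀ : MonoidAlgebra L M →ₐ[L] L :=
    (Ideal.Quotient.liftₐ (RingHom.ker (π : C →ₐ[L] MonoidAlgebra L M)) z.ofConv
      (fun a ha => hle ha)).comp
      (Ideal.quotientKerAlgEquivOfSurjective (f := (π : C →ₐ[L] MonoidAlgebra L M)) hπ).symm.toAlgHom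
  have hγ₀ : ∀ c, γ₀ (π c) = z.ofConv c := by
    intro c
    have h1 : (Ideal.quotientKerAlgEquivOfSurjective
        (f := (π : C →ₐ[L] MonoidAlgebra L M)) hπ).symm (π c) =
        Ideal.Quotient.mk _ c := by
      rw [AlgEquiv.symm_apply_eq]
      rfl
    show Ideal.Quotient.liftₐ (RingHom.ker (π : C →ₐ[L] MonoidAlgebra L M)) z.ofConv
      (fun a ha => hle ha)
      ((Ideal.quotientKerAlgEquivOfSurjective (f := (π : C →ₐ[L] MonoidAlgebra L M)) hπ).symm
        (π c)) = _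
    rw [h1]
    rfl
  refine ⟨toConv γ₀, ?_⟩
  apply ofConv_injective
  rw [pullHom_apply, ofConv_toConv, ofConv_toConv]
  ext c
  exact (hγ₀ c).symm

include hπ he hker in
/-- the open subgroup has finite index: some positive power of any point lies in it -/
theorem exists_pow_mem (y : WithConv (C →ₐ[L] L)) : ∃ d : ℕ, 0 < d ∧ (y ^ d).ofConv e = 0 := by
  classical
  let S : Set C := {s | ∃ g : WithConv (C →ₐ[L] L), s = tau g (1 - e)}
  have hS : Ideal.span S = ⊤ := by
    by_contra hne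
    obtain ⟨𝔫, h𝔫, hle⟩ := Ideal.exists_le_maximal _ hne
    haveI := h𝔫
    obtain ⟨z₀, hz₀⟩ := exists_point_of_isMaximal L C 𝔫
    set z : WithConv (C →ₐ[L] L) := toConv z₀ with hz
    have h1 : tau z⁻¹ (1 - e) ∈ 𝔫 := hle (Ideal.subset_span ⟨z⁻¹, rfl⟩)
    rw [← hz₀, RingHom.mem_ker] at h1
    have h2 : z.ofConv (tau z⁻¹ (1 - e)) = 0 := h1
    rw [point_tau_apply, inv_mul_cancel] at h2
    have h3 : (1 : WithConv (C →ₐ[L] L)).ofConv (1 - e) = 1 := by
      show (1 : WithConv (C →ₐ[L] L)) (1 - e) = 1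
      rw [AlgHom.convOne_apply, map_sub, counit_e π e hker]
      simp
    rw [h3] at h2
    exact one_ne_zero h2
  have h1 : (1 : C) ∈ Submodule.span C S := by
    have : (1 : C) ∈ Ideal.span S := by rw [hS]; trivial
    exact this
  obtain ⟨T, hTS, hT1⟩ := Submodule.mem_span_finite_of_mem_span h1
  have hex : ∀ z : WithConv (C →ₐ[L] L), ∃ s : ↥(T : Set C), z.ofConv s.1 ≠ 0 := by
    intro z
    by_contra hcon
    push Not at hcon
    have hle : Submodule.span C (T : Set C) ≤ RingHom.ker z.ofConv := by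
      rw [Submodule.span_le]
      intro s hs
      exact hcon ⟨s, hs⟩
    have := hle hT1
    rw [RingHom.mem_ker, map_one] at this
    exact one_ne_zero this
  choose c hc using fun i : ℕ => hex (y ^ i)
  obtain ⟨i, j, hij, hcij⟩ := Finite.exists_ne_map_eq_of_infinite c
  have key : ∀ i j : ℕ, i < j → c i = c j → ∃ d : ℕ, 0 < d ∧ (y ^ d).ofConv e = 0 := by
    intro i j hlt hcij
    obtain ⟨g, hg⟩ := hTS (c i).2
    have hi := hc i
    have hj := hc j
    rw [← hcij] at hj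
    rw [hg, point_tau_apply] at hi hj
    have hi' : (g * y ^ i).ofConv e = 0 := by
      rcases point_e e he (g * y ^ i) with h | h
      · exact h
      · exfalso; apply hi; rw [map_sub, map_one, h, sub_self]
    have hj' : (g * y ^ j).ofConv e = 0 := by
      rcases point_e e he (g * y ^ j) with h | h
      · exact h
      · exfalso; apply hj; rw [map_sub, map_one, h, sub_self]
    obtain ⟨γi, hγi⟩ := factor π hπ e hker _ hi'
    obtain ⟨γj, hγj⟩ := factor π hπ e hker _ hj'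
    refine ⟨j - i, Nat.sub_pos_of_lt hlt, ?_⟩
    have h2 : y ^ (j - i) = pullHom π (γj * γi⁻¹) := by
      rw [map_mul, map_inv, ← hγi, ← hγj]
      have : y ^ j = y ^ (j - i) * y ^ i := by
        rw [← pow_add, Nat.sub_add_cancel hlt.le]
      rw [eq_mul_inv_iff_mul_eq, this, mul_left_comm]
    rw [h2]
    exact pull_e π e hker _
  rcases Nat.lt_or_gt_of_ne hij with h | h
  · exact key i j h hcij
  · exact key j i h hcij.symm

include hπ he hker in
/-- every coset of the open subgroup contains a torsion point -/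
theorem exists_torsion_point (z : WithConv (C →ₐ[L] L)) :
    ∃ (g : WithConv (C →ₐ[L] L)) (N : ℕ), 0 < N ∧ g ^ N = 1 ∧ (g * z).ofConv e = 0 := by
  obtain ⟨d, hd, hyd⟩ := exists_pow_mem π hπ e he hker z⁻¹
  obtain ⟨γ, hγ⟩ := factor π hπ e hker _ hyd
  obtain ⟨χ, hχ⟩ := pt_surjective L M γ
  have hQ : ∀ (q : Lˣ) (n : ℕ), n ≠ 0 → ∃ r : Lˣ, r ^ n = q := by
    intro q n hn
    obtain ⟨r, hr⟩ := IsAlgClosed.exists_pow_nat_eq (q : L) (Nat.pos_of_ne_zero hn)
    have hr0 : r ≠ 0 := by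
      rintro rfl
      rw [zero_pow hn] at hr
      exact q.ne_zero hr.symm
    refine ⟨Units.mk0 r hr0, ?_⟩
    ext
    simpa using hr
  obtain ⟨N', ψ, hN', hψ⟩ := exists_root_hom hQ χ d hd
  refine ⟨z⁻¹ * (pullHom π (pt L M ψ))⁻¹, d * N', Nat.mul_pos hd hN', ?_, ?_⟩
  · have e1 : (pullHom π (pt L M ψ)) ^ (d * N') = (pullHom π γ) ^ N' := by
      rw [← map_pow, ← map_pow, hψ, map_pow (pt L M), map_pow (pullHom π), hχ]
    rw [mul_pow, inv_pow (pullHom π (pt L M ψ)), e1, pow_mul, hγ]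
    exact mul_inv_cancel _
  · have h1 : z⁻¹ * (pullHom π (pt L M ψ))⁻¹ * z = pullHom π (pt L M ψ)⁻¹ := by
      rw [map_inv, mul_comm z⁻¹, mul_assoc, inv_mul_cancel, mul_one]
    rw [h1]
    exact pull_e π e hker _

include hπ he hker in
/-- translating by a torsion point and using the density of the torsion in the open subgroup -/
theorem exists_tau_mul_eq_zero (g : WithConv (C →ₐ[L] L)) (N : ℕ) (hN : 0 < N) (hg : g ^ N = 1)
    (a y : C) (H : ∀ n, 0 < n → ∃ j, a ^ j * y ∈ SGA3b.torsionIdeal L C n) :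
    ∃ j, tau g (1 - e) * (a ^ j * y) = 0 := by
  have hg' : g⁻¹ ^ N = 1 := by rw [inv_pow, hg, inv_one]
  have H' : ∀ n, 0 < n → ∃ j, (tau g⁻¹ a) ^ j * tau g⁻¹ y ∈ SGA3b.torsionIdeal L C n := by
    intro n hn
    obtain ⟨j, hj⟩ := H (n * N) (Nat.mul_pos hn hN)
    refine ⟨j, ?_⟩
    have := tau_mem_torsionIdeal g⁻¹ N hg' n hj
    rwa [map_mul, map_pow] at this
  obtain ⟨j, hj⟩ := dens_fg L M (π (tau g⁻¹ a)) (π (tau g⁻¹ y)) (fun n hn => by
    obtain ⟨j, hj⟩ := H' n hn
    refine ⟨j, ?_⟩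
    have h1 := torsionIdeal_le_ker L M n
      (Groth.Agent.Helper2.TorsDense.map_mem_torsionIdeal
        (isSemiCoalg_bialgHom L π) n hj)
    rw [RingHom.mem_ker] at h1
    have h2 : (π : C →ₐ[L] MonoidAlgebra L M) ((tau g⁻¹ a) ^ j * tau g⁻¹ y) =
        π (tau g⁻¹ a) ^ j * π (tau g⁻¹ y) := by
      rw [map_mul, map_pow]; rfl
    rw [← h2]
    exact h1)
  refine ⟨j, ?_⟩
  have h1 : (tau g⁻¹ a) ^ j * tau g⁻¹ y ∈ Ideal.span {e} := by
    rw [← hker, RingHom.mem_ker]
    show π ((tau g⁻¹ a) ^ j * tau g⁻¹ y) = 0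
    rw [map_mul, map_pow]
    exact hj
  obtain ⟨w, hw⟩ := Ideal.mem_span_singleton'.mp h1
  have h2 : (1 - e) * ((tau g⁻¹ a) ^ j * tau g⁻¹ y) = 0 := by
    rw [← hw, sub_mul, one_mul, mul_comm w e, ← mul_assoc, he.eq, sub_self]
  have h5 : (tau g⁻¹ a) ^ j * tau g⁻¹ y = tau g⁻¹ (a ^ j * y) := by rw [map_mul, map_pow]
  rw [h5] at h2
  have h3 := congrArg (tau g) h2
  have h4 : tau g (tau g⁻¹ (a ^ j * y)) = a ^ j * y := by
    have := congrArg (fun f : C →ₐ[L] C => f (a ^ j * y)) (tau_comp g g⁻¹)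
    simp only [AlgHom.comp_apply] at this
    rw [this, inv_mul_cancel, tau_one]
    rfl
  rw [map_mul, h4, map_zero] at h3
  exact h3

/-- annihilator of an element -/
noncomputable def annEl (y : C) : Ideal C := LinearMap.ker (LinearMap.mulRight C y)

omit [IsAlgClosed L] [HopfAlgebra L C] [Coalgebra.IsCocomm L C] [Algebra.FiniteType L C] in
lemma mem_annEl (y b : C) : b ∈ annEl y ↔ b * y = 0 := by
  rw [annEl, LinearMap.mem_ker, LinearMap.mulRight_apply]

include hπ he hker in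
/-- **density of the torsion** for a commutative group over an algebraically closed field with an
open diagonalisable subgroup -/
theorem densH (a y : C) (H : ∀ n, 0 < n → ∃ j, a ^ j * y ∈ SGA3b.torsionIdeal L C n) :
    ∃ j, a ^ j * y = 0 := by
  haveI : IsJacobsonRing C := isJacobsonRing_of_finiteType (A := L)
  have hrad : a ∈ (annEl y).radical := by
    rw [Ideal.radical_eq_jacobson, Ideal.jacobson, Ideal.mem_sInf]
    rintro 𝔫 ⟨hle, h𝔫⟩
    haveI := h𝔫
    by_contra ha
    obtain ⟨z₀, hz₀⟩ := exists_point_of_isMaximal L C 𝔫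
    set z : WithConv (C →ₐ[L] L) := toConv z₀ with hz
    obtain ⟨g, N, hN, hg, hgz⟩ := exists_torsion_point π hπ e he hker z
    obtain ⟨j, hj⟩ := exists_tau_mul_eq_zero π hπ e he hker g N hN hg a y H
    have hb : tau g (1 - e) * a ^ j ∈ 𝔫 := by
      apply hle
      rw [mem_annEl, mul_assoc]
      exact hj
    rw [← hz₀, RingHom.mem_ker, map_mul, map_pow] at hb
    have h1 : z₀ (tau g (1 - e)) = 1 := by
      have := point_tau_apply z g (1 - e)
      rw [hz, ofConv_toConv] at this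
      rw [this, ← hz, map_sub, map_one, hgz, sub_zero]
    rw [h1, one_mul] at hb
    have h2 : z₀ a = 0 := pow_eq_zero_iff (n := j) (by
      rintro rfl
      rw [pow_zero] at hb
      exact one_ne_zero hb) |>.mp hb
    apply ha
    rw [← hz₀, RingHom.mem_ker]
    exact h2
  obtain ⟨i, hi⟩ := hrad
  exact ⟨i, (mem_annEl y _).mp hi⟩

end core

end Groth.Agent.Helper2.OpenDens
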