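import Mathlib
import Groth.Prelude.Def_SGA3b
import Groth.Agent.Helper2.OpenDens3
import Groth.Agent.Helper2.HopfTors2
import Groth.Agent.Helper2.TorsFin4

set_option autoImplicit false

namespace Groth.Agent.Helper2.OpenDens
open TensorProduct WithConv Bialgebra Coalgebra Groth.Agent.Helper2.ConvGrp
  Groth.Agent.Helper2.MultTypeSemi Groth.Agent.Helper2.TorsDens Groth.Agent.Helper2.SemiIso
  Groth.Agent.Helper2.NilLift Groth.Agent.Helper2.NilSplit Groth.Agent.Helper2.TorsFin
  Groth.Agent.Helper2.HopfTors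

universe u

section red
variable (k : Type u) [Field k] (C : Type u) [CommRing C] [HopfAlgebra k C]
  [Coalgebra.IsCocomm k C]

/-- the density of the torsion, in elementwise form -/
theorem densH_field (hft : Algebra.FiniteType k C)
    (e : C) (he : IsIdempotentElem e) [(Ideal.span {e}).IsHopfIdeal k]
    (hG : SGA3b.IsMultType k (C ⧸ Ideal.span {e})) (a y : C)
    (H : ∀ n, 0 < n → ∃ j, a ^ j * y ∈ SGA3b.torsionIdeal k C n) : ∃ j, a ^ j * y = 0 := by
  haveI := hft
  set I : Ideal C := Ideal.span {e} with hI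
  have hftB : Algebra.FiniteType k (C ⧸ I) :=
    Algebra.FiniteType.of_surjective (Ideal.Quotient.mkₐ k I) (Ideal.Quotient.mkₐ_surjective k I)
  obtain ⟨R', _, _, _, hff, N, _, θ, hθ⟩ := exists_local_chart k (C ⧸ I) hG
  let L := AlgebraicClosure (IsLocalRing.ResidueField R')
  let θL : (C ⧸ I) →ₐ[k] MonoidAlgebra L N := ((rho R' L N).restrictScalars k).comp θ
  have hθL : IsSemiIso k L θL := isSemiIso_rho_comp (T₂ := L) hθ
  haveI : Group.FG N := group_fg_of_chart hftB hθL
  let θC : C →ₐ[k] MonoidAlgebra L N :=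
    (θL.restrictScalars k).comp ((Bialgebra.Quotient.mkBialgHom (R := k) I : C →ₐc[k] C ⧸ I) :
      C →ₐ[k] C ⧸ I)
  have hθC : IsSemiCoalg k L θC :=
    (isSemiCoalg_bialgHom k (Bialgebra.Quotient.mkBialgHom (R := k) I)).comp k k L hθL.1
  have hθCa : ∀ c, θC c = θL (Ideal.Quotient.mk I c) := fun c => rfl
  have hl : IsSemiCoalg L L (liftMap k L θC) := isSemiCoalg_liftMap k L L hθC
  let πL : L ⊗[k] C →ₐc[L] MonoidAlgebra L N := bialgHomOfSemi (liftMap k L θC) hl
  have hπL : ∀ z, πL z = liftMap k L θC z := fun z => rfl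
  let mkL : L ⊗[k] C →ₐ[k] L ⊗[k] (C ⧸ I) :=
    Algebra.TensorProduct.map (AlgHom.id k L) (Ideal.Quotient.mkₐ k I)
  have hfac : ∀ z, liftMap k L θC z = liftMap k L θL (mkL z) := by
    intro z
    induction z using TensorProduct.induction_on with
    | zero => simp
    | add x y hx hy => simp only [map_add, hx, hy]
    | tmul t c =>
      rw [liftMap_tmul, hθCa]
      show _ = liftMap k L θL (t ⊗ₜ[k] (Ideal.Quotient.mk I c))
      rw [liftMap_tmul]
  have hbij := liftMap_bijective hθL
  have hmkL : Function.Surjective mkL := by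
    intro w
    induction w using TensorProduct.induction_on with
    | zero => exact ⟨0, map_zero _⟩
    | add x y hx hy =>
      obtain ⟨x', rfl⟩ := hx
      obtain ⟨y', rfl⟩ := hy
      exact ⟨x' + y', map_add _ _ _⟩
    | tmul t b =>
      obtain ⟨c, rfl⟩ := Ideal.Quotient.mk_surjective b
      exact ⟨t ⊗ₜ[k] c, rfl⟩
  have hsurj : Function.Surjective πL := by
    intro x
    obtain ⟨w, rfl⟩ := hbij.2 x
    obtain ⟨z, rfl⟩ := hmkL w
    exact ⟨z, by rw [hπL, hfac]⟩
  set eL : L ⊗[k] C := (1 : L) ⊗ₜ[k] e with heL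
  have heLi : IsIdempotentElem eL := by
    show eL * eL = eL
    rw [heL, Algebra.TensorProduct.tmul_mul_tmul, one_mul, he.eq]
  have hker : RingHom.ker (πL : L ⊗[k] C →ₐ[L] MonoidAlgebra L N) = Ideal.span {eL} := by
    have h1 : RingHom.ker (πL : L ⊗[k] C →ₐ[L] MonoidAlgebra L N) = RingHom.ker mkL := by
      ext z
      rw [RingHom.mem_ker, RingHom.mem_ker]
      show πL z = 0 ↔ mkL z = 0
      rw [hπL, hfac]
      constructor
      · intro h
        apply hbij.1
        rw [h, map_zero]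
      · intro h
        rw [h, map_zero]
    rw [h1]
    have h2 := Algebra.TensorProduct.lTensor_ker (A := L) (Ideal.Quotient.mkₐ k I)
      (Ideal.Quotient.mkₐ_surjective k I)
    have hk : RingHom.ker (Ideal.Quotient.mkₐ k I) = I := by
      ext x
      rw [RingHom.mem_ker]
      exact Ideal.Quotient.eq_zero_iff_mem
    rw [h2, hk, hI, Ideal.map_span, Set.image_singleton]
    rfl
  have H' : ∀ n, 0 < n → ∃ j, ((1 : L) ⊗ₜ[k] a) ^ j * ((1 : L) ⊗ₜ[k] y) ∈
      SGA3b.torsionIdeal L (L ⊗[k] C) n := by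
    intro n hn
    obtain ⟨j, hj⟩ := H n hn
    refine ⟨j, ?_⟩
    have h1 := Groth.Agent.Helper2.TorsDense.map_mem_torsionIdeal
      (isSemiCoalg_includeRight k L C) n hj
    rw [map_mul, map_pow] at h1
    exact h1
  obtain ⟨j, hj⟩ := densH πL hsurj eL heLi hker ((1 : L) ⊗ₜ[k] a) ((1 : L) ⊗ₜ[k] y) H'
  refine ⟨j, ?_⟩
  have hinj : Function.Injective (Algebra.TensorProduct.includeRight : C →ₐ[k] L ⊗[k] C) :=
    Algebra.TensorProduct.includeRight_injective (algebraMap k L).injective
  apply hinj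
  rw [map_mul, map_pow, map_zero]
  exact hj

/-- **S5300**. -/
theorem s5300 (hft : Algebra.FiniteType k C)
    (e : C) (he : IsIdempotentElem e) [(Ideal.span {e}).IsHopfIdeal k]
    (hG : SGA3b.IsMultType k (C ⧸ Ideal.span {e})) (a : C) :
    ⨅ n : {n : ℕ // 0 < n}, Ideal.map (algebraMap C (Localization.Away a))
      (SGA3b.torsionIdeal k C n.1) = ⊥ := by
  rw [eq_bot_iff]
  intro x hx
  rw [Ideal.mem_iInf] at hx
  obtain ⟨⟨y, s⟩, hys⟩ := IsLocalization.surj (Submonoid.powers a) x
  have h1 : ∀ n, 0 < n → ∃ j, a ^ j * y ∈ SGA3b.torsionIdeal k C n := by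
    intro n hn
    have h2 : algebraMap C (Localization.Away a) y ∈
        Ideal.map (algebraMap C (Localization.Away a)) (SGA3b.torsionIdeal k C n) := by
      rw [← hys]
      exact Ideal.mul_mem_right _ _ (hx ⟨n, hn⟩)
    rw [IsLocalization.algebraMap_mem_map_algebraMap_iff (Submonoid.powers a)] at h2
    obtain ⟨m, ⟨j, rfl⟩, hm⟩ := h2
    exact ⟨j, hm⟩
  obtain ⟨j, h3⟩ := densH_field k C hft e he hG a y h1
  have h5 : algebraMap C (Localization.Away a) y = 0 := by
    have h6 := congrArg (algebraMap C (Localization.Away a)) h3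
    rw [map_mul, map_pow, map_zero] at h6
    have hu : IsUnit (algebraMap C (Localization.Away a) a) :=
      IsLocalization.map_units (Localization.Away a) (⟨a, Submonoid.mem_powers a⟩ : Submonoid.powers a)
    exact (hu.pow _).mul_right_eq_zero.mp h6
  rw [h5] at hys
  have hu : IsUnit (algebraMap C (Localization.Away a) s) := IsLocalization.map_units _ s
  rw [Ideal.mem_bot]
  exact hu.mul_left_eq_zero.mp hys

end red

end Groth.Agent.Helper2.OpenDens
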