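import Mathlib
import Groth.Prelude.Def_SGA3b
import Groth.Agent.Helper2.OpenDens4
import Groth.Agent.Helper2.TorsDense

/-!
# Vanishing of an idempotent lying in all torsion ideals
-/

set_option autoImplicit false

namespace Groth.Agent.Helper2.OC
open TensorProduct WithConv Bialgebra Coalgebra Groth.Agent.Helper2.ConvGrp
  Groth.Agent.Helper2.MultTypeSemi Groth.Agent.Helper2.SemiIso
  Groth.Agent.Helper2.NilLift Groth.Agent.Helper2.NilSplit Groth.Agent.Helper2.TorsFin
  Groth.Agent.Helper2.OpenDens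

universe u

section idem
variable {B : Type*} [CommRing B] (J : Ideal B) (hJ : J ≤ Ideal.jacobson ⊥)
  {S : Type*} [CommRing S] [Algebra B S] [Module.Finite B S]

include hJ in
/-- an idempotent of a finite algebra lying in the extension of an ideal contained in the radical
vanishes -/
lemma idem_eq_zero_of_finite (e : S) (he : IsIdempotentElem e)
    (hmem : e ∈ J.map (algebraMap B S)) : e = 0 := by
  let f : S →ₗ[B] S := LinearMap.mulRight B e
  set N : Submodule B S := LinearMap.range f with hN
  have hfg : N.FG := by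
    rw [hN, LinearMap.range_eq_map]
    exact Submodule.FG.map f Module.Finite.fg_top
  have h1 : e ∈ (J • ⊤ : Submodule B S) := by
    rw [Ideal.smul_top_eq_map, Submodule.restrictScalars_mem]
    exact hmem
  have h2 : N ≤ J • N := by
    rintro _ ⟨s, rfl⟩
    have h3 : f e ∈ (J • ⊤ : Submodule B S).map f := Submodule.mem_map_of_mem h1
    rw [Submodule.map_smul'', Submodule.map_top] at h3
    have h4 : f e = e := he.eq
    rw [h4] at h3
    -- `s * e = f s`, and `f s = s * e = (s * e) * e`
    have h5 : f s = (LinearMap.mulLeft B s) e := by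
      show s * e = s * e
      rfl
    rw [h5]
    have h6 : (LinearMap.mulLeft B s) e ∈ (J • N).map (LinearMap.mulLeft B s) :=
      Submodule.mem_map_of_mem h3
    rw [Submodule.map_smul''] at h6
    refine Submodule.smul_mono le_rfl ?_ h6
    rintro _ ⟨_, ⟨t, rfl⟩, rfl⟩
    exact ⟨s * t, by show s * t * e = s * (t * e); ring⟩
  have h3 := Submodule.eq_bot_of_le_smul_of_le_jacobson_bot J N hfg h2 hJ
  have h4 : e ∈ N := ⟨e, he.eq⟩
  rw [h3] at h4
  exact h4

end idem

section fibre
variable {B : Type u} [CommRing B] {H : Type u} [CommRing H] [HopfAlgebra B H]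
  [Coalgebra.IsCocomm B H] {M : Type u} [CommGroup M] [Group.FG M]
  (φ : H →ₐc[B] MonoidAlgebra B M)

/-- an idempotent generating the kernel of a surjection onto a diagonalisable group, which lies in
all the torsion ideals, lies in every prime -/
theorem mem_prime_of_mem_torsion (hft : Algebra.FiniteType B H) (hφ : Function.Surjective φ)
    (e : H) (he : IsIdempotentElem e)
    (hker : RingHom.ker (φ : H →ₐ[B] MonoidAlgebra B M) = Ideal.span {e})
    (htors : ∀ n, 0 < n → e ∈ SGA3b.torsionIdeal B H n)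
    (𝔮 : Ideal H) [𝔮.IsPrime] : e ∈ 𝔮 := by
  classical
  let L := AlgebraicClosure (FractionRing (H ⧸ 𝔮))
  let ψ : H →+* L := algebraMap H L
  have hψ : ∀ h, ψ h = 0 ↔ h ∈ 𝔮 := by
    intro h
    show algebraMap H L h = 0 ↔ _
    rw [IsScalarTower.algebraMap_apply H (FractionRing (H ⧸ 𝔮)) L,
      IsScalarTower.algebraMap_apply H (H ⧸ 𝔮) (FractionRing (H ⧸ 𝔮)),
      map_eq_zero_iff _ (algebraMap (FractionRing (H ⧸ 𝔮)) L).injective,
      map_eq_zero_iff _ (IsFractionRing.injective (H ⧸ 𝔮) (FractionRing (H ⧸ 𝔮))),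
      Ideal.Quotient.algebraMap_eq, Ideal.Quotient.eq_zero_iff_mem]
  haveI : Algebra.FiniteType L (L ⊗[B] H) := Algebra.FiniteType.baseChange L
  let θ : H →ₐ[B] MonoidAlgebra L M :=
    ((rho B L M).restrictScalars B).comp (φ : H →ₐ[B] MonoidAlgebra B M)
  have hθ : IsSemiCoalg B L θ := (isSemiCoalg_bialgHom B φ).comp B B L (isSemiCoalg_rho B L M)
  have hl : IsSemiCoalg L L (liftMap B L θ) := isSemiCoalg_liftMap B L L hθ
  let πL : L ⊗[B] H →ₐc[L] MonoidAlgebra L M := bialgHomOfSemi (liftMap B L θ) hl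
  have hπL : ∀ z, πL z = liftMap B L θ z := fun z => rfl
  let mkL : L ⊗[B] H →ₐ[B] L ⊗[B] MonoidAlgebra B M :=
    Algebra.TensorProduct.map (AlgHom.id B L) (φ : H →ₐ[B] MonoidAlgebra B M)
  have hfac : ∀ z, liftMap B L θ z = liftMap B L (rho B L M) (mkL z) := by
    intro z
    induction z using TensorProduct.induction_on with
    | zero => simp
    | add x y hx hy => simp only [map_add, hx, hy]
    | tmul t c =>
      rw [liftMap_tmul]
      show _ = liftMap B L (rho B L M) (t ⊗ₜ[B] (φ c))
      rw [liftMap_tmul]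
      rfl
  have hbij := liftMap_bijective (isSemiIso_rho B L M)
  have hmkL : Function.Surjective mkL := by
    intro w
    induction w using TensorProduct.induction_on with
    | zero => exact ⟨0, map_zero _⟩
    | add x y hx hy =>
      obtain ⟨x', rfl⟩ := hx
      obtain ⟨y', rfl⟩ := hy
      exact ⟨x' + y', map_add _ _ _⟩
    | tmul t b =>
      obtain ⟨c, rfl⟩ := hφ b
      exact ⟨t ⊗ₜ[B] c, rfl⟩
  have hsurj : Function.Surjective πL := by
    intro x
    obtain ⟨w, rfl⟩ := hbij.2 x
    obtain ⟨z, rfl⟩ := hmkL w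
    exact ⟨z, by rw [hπL, hfac]⟩
  set eL : L ⊗[B] H := (1 : L) ⊗ₜ[B] e with heL
  have heLi : IsIdempotentElem eL := by
    show eL * eL = eL
    rw [heL, Algebra.TensorProduct.tmul_mul_tmul, one_mul, he.eq]
  have hkerL : RingHom.ker (πL : L ⊗[B] H →ₐ[L] MonoidAlgebra L M) = Ideal.span {eL} := by
    have h1 : RingHom.ker (πL : L ⊗[B] H →ₐ[L] MonoidAlgebra L M) = RingHom.ker mkL := by
      ext z
      rw [RingHom.mem_ker, RingHom.mem_ker]
      show πL z = 0 ↔ mkL z = 0
      rw [hπL, hfac]
      constructor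
      · intro h
        apply hbij.1
        rw [h, map_zero]
      · intro h
        rw [h, map_zero]
    rw [h1]
    have h2 := Algebra.TensorProduct.lTensor_ker (A := L) (φ : H →ₐ[B] MonoidAlgebra B M) hφ
    rw [h2, hker, Ideal.map_span, Set.image_singleton]
    rfl
  have H' : ∀ n, 0 < n → ∃ j, ((1 : L ⊗[B] H)) ^ j * eL ∈
      SGA3b.torsionIdeal L (L ⊗[B] H) n := by
    intro n hn
    refine ⟨0, ?_⟩
    rw [pow_zero, one_mul]
    exact Groth.Agent.Helper2.TorsDense.map_mem_torsionIdeal
      (isSemiCoalg_includeRight B L H) n (htors n hn)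
  obtain ⟨j, hj⟩ := densH πL hsurj eL heLi hkerL 1 eL H'
  rw [one_pow, one_mul] at hj
  -- evaluate
  let ev : L ⊗[B] H →ₐ[B] L :=
    Algebra.TensorProduct.productMap (AlgHom.id B L) (IsScalarTower.toAlgHom B H L)
  have h1 : ev eL = ψ e := by
    show ev ((1 : L) ⊗ₜ[B] e) = _
    rw [Algebra.TensorProduct.productMap_apply_tmul, map_one, one_mul]
    rfl
  rw [hj, map_zero] at h1
  exact (hψ e).mp h1.symm

/-- an idempotent generating the kernel of a surjection onto a diagonalisable group, which lies in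
all the torsion ideals, vanishes -/
theorem eq_zero_of_mem_torsion (hft : Algebra.FiniteType B H) (hφ : Function.Surjective φ)
    (e : H) (he : IsIdempotentElem e)
    (hker : RingHom.ker (φ : H →ₐ[B] MonoidAlgebra B M) = Ideal.span {e})
    (htors : ∀ n, 0 < n → e ∈ SGA3b.torsionIdeal B H n) : e = 0 := by
  have hnil : IsNilpotent e := by
    rw [← mem_nilradical, nilradical_eq_sInf, Ideal.mem_sInf]
    intro 𝔮 h𝔮
    haveI : 𝔮.IsPrime := h𝔮
    exact mem_prime_of_mem_torsion φ hft hφ e he hker htors 𝔮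
  obtain ⟨n, hn⟩ := hnil
  cases n with
  | zero =>
    rw [pow_zero] at hn
    rw [← mul_one e, hn, mul_zero]
  | succ n => rw [← he.pow_succ_eq n, hn]

end fibre

end Groth.Agent.Helper2.OC
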