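import Mathlib
import Groth.Prelude.Def_SGA3b
import Groth.Agent.Helper2.OCSetup
import Groth.Agent.Helper2.OCTors

/-!
# S6058: torsion-finite commutative groups over a complete base with isotrivial reduction
-/

set_option autoImplicit false

namespace Groth.Agent.Helper2.OC
open TensorProduct Groth.Agent.Helper2.MultTypeSemi Groth.Agent.Helper2.SemiIso
  Groth.Agent.Helper2.NilSplit Groth.Agent.Helper2.NilLift Groth.Agent.Helper2.ADiag
  Groth.Agent.Helper2.DefApp Groth.Agent.Helper2.MultTypeChart SGA3b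

universe u

section finite
variable (A : Type u) [CommRing A] (B : Type u) [CommRing B] [Algebra A B]
  (C : Type u) [CommRing C] [HopfAlgebra A C]

/-- finiteness of the torsion subgroups is stable under base change -/
theorem finite_quot_torsion_baseChange (n : ℕ)
    [Module.Finite A (C ⧸ torsionIdeal A C n)] :
    Module.Finite B ((B ⊗[A] C) ⧸ torsionIdeal B (B ⊗[A] C) n) := by
  set T := torsionIdeal A C n with hT
  set T' := torsionIdeal B (B ⊗[A] C) n with hT'
  let g : C →ₐ[A] (B ⊗[A] C) ⧸ T' :=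
    (Ideal.Quotient.mkₐ A T').comp (Algebra.TensorProduct.includeRight : C →ₐ[A] B ⊗[A] C)
  have hg : ∀ c ∈ T, g c = 0 := by
    intro c hc
    show Ideal.Quotient.mk T' ((1 : B) ⊗ₜ[A] c) = 0
    rw [Ideal.Quotient.eq_zero_iff_mem]
    exact Groth.Agent.Helper2.TorsDense.map_mem_torsionIdeal
      (isSemiCoalg_includeRight A B C) n hc
  let f : C ⧸ T →ₐ[A] (B ⊗[A] C) ⧸ T' := Ideal.Quotient.liftₐ T g hg
  let G : B ⊗[A] (C ⧸ T) →ₗ[B] (B ⊗[A] C) ⧸ T' := LinearMap.liftBaseChange B f.toLinearMap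
  have hG : Function.Surjective G := by
    intro y
    obtain ⟨z, rfl⟩ := Ideal.Quotient.mk_surjective y
    induction z using TensorProduct.induction_on with
    | zero => exact ⟨0, by simp⟩
    | add x y hx hy =>
      obtain ⟨a, ha⟩ := hx
      obtain ⟨b, hb⟩ := hy
      exact ⟨a + b, by rw [map_add, ha, hb, map_add]⟩
    | tmul b c =>
      refine ⟨b ⊗ₜ[A] (Ideal.Quotient.mk T c), ?_⟩
      show G (b ⊗ₜ[A] (Ideal.Quotient.mk T c)) = _
      rw [LinearMap.liftBaseChange_tmul]
      show b • (Ideal.Quotient.mk T' ((1 : B) ⊗ₜ[A] c)) = _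
      rw [← Ideal.Quotient.mkₐ_eq_mk B, ← map_smul, TensorProduct.smul_tmul', smul_eq_mul, mul_one]
  exact Module.Finite.of_surjective G hG

end finite

section main
variable (A : Type u) [CommRing A] [IsNoetherianRing A] (I : Ideal A) [IsAdicComplete I A]
  (C : Type u) [CommRing C] [HopfAlgebra A C] [Coalgebra.IsCocomm A C] [Module.Flat A C]

theorem s6058 (hft : Algebra.FiniteType A C)
    (h0 : IsIsotrivial (A ⧸ I) ((A ⧸ I) ⊗[A] C))
    (hfin : ∀ n : ℕ, 0 < n → Module.Finite A (C ⧸ torsionIdeal A C n)) :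
    IsIsotrivial A C := by
  obtain ⟨Rb', _, _, hEt, hFin, hFF, M, _, ⟨e⟩⟩ := h0
  letI : Algebra A Rb' := ((algebraMap (A ⧸ I) Rb').comp (algebraMap A (A ⧸ I))).toAlgebra
  haveI : IsScalarTower A (A ⧸ I) Rb' := IsScalarTower.of_algebraMap_eq (fun _ => rfl)
  let χ := chart A C (A ⧸ I) Rb' M e
  have hχ : IsSemiIso A Rb' χ := chart_isSemiIso _ _ _ _ _ e
  obtain ⟨B, _, _, _, _, hBfin, hBet, hBff, hBn, hπs, hker, hcpl⟩ := exists_cover A I Rb'
  haveI := hBn
  haveI := hcpl
  haveI := hft
  set J : Ideal B := RingHom.ker (algebraMap B Rb') with hJ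
  have hftH : Algebra.FiniteType B (B ⊗[A] C) := Algebra.FiniteType.baseChange B
  have hflat : ∀ n, Module.Flat (B ⧸ Kp J n) ((B ⧸ Kp J n) ⊗[B] (B ⊗[A] C)) :=
    fun n => inferInstance
  obtain ⟨φ, e', hsurj, he1, he2, he3⟩ :=
    core hπs hflat hftH (liftMap A B χ) (hχ.lift A B Rb')
  have hJjac : J ≤ Ideal.jacobson ⊥ := IsAdicComplete.le_jacobson_bot J
  have he0 : e' = 0 := by
    rcases subsingleton_or_nontrivial B with hB | hB
    · haveI : Subsingleton (B ⊗[A] C) := by
        refine ⟨fun x y => ?_⟩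
        rw [← one_smul B x, ← one_smul B y, Subsingleton.elim (1 : B) 0, zero_smul, zero_smul]
      exact Subsingleton.elim _ _
    · have hftM : Algebra.FiniteType B (MonoidAlgebra B M) :=
        Algebra.FiniteType.of_surjective (φ : B ⊗[A] C →ₐ[B] MonoidAlgebra B M) hsurj
      haveI : Group.FG M := (MonoidAlgebra.finiteType_iff_group_fg (R := B) (G := M)).mp hftM
      apply eq_zero_of_mem_torsion φ hftH hsurj e' he1 he3
      intro n hn
      haveI := hfin n hn
      haveI := finite_quot_torsion_baseChange A B C n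
      have h1 : Ideal.Quotient.mk (torsionIdeal B (B ⊗[A] C) n) e' = 0 := by
        apply idem_eq_zero_of_finite J hJjac
        · show _ * _ = _
          rw [← map_mul, he1.eq]
        · have := Ideal.mem_map_of_mem (Ideal.Quotient.mk (torsionIdeal B (B ⊗[A] C) n)) he2
          rw [Ideal.map_map] at this
          exact this
      exact Ideal.Quotient.eq_zero_iff_mem.mp h1
  have hinj : Function.Injective φ := by
    rw [injective_iff_map_eq_zero]
    intro x hx
    have : x ∈ RingHom.ker (φ : B ⊗[A] C →ₐ[B] MonoidAlgebra B M) := hx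
    rw [he3, he0, Ideal.span_singleton_eq_bot.mpr rfl] at this
    exact this
  have hdiag : IsDiag B (B ⊗[A] C) :=
    ⟨M, inferInstance, ⟨BialgEquiv.ofBijective φ ⟨hinj, hsurj⟩⟩⟩
  exact ⟨B, inferInstance, inferInstance, hBet, hBfin, hBff, hdiag⟩

end main

end Groth.Agent.Helper2.OC
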