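import Mathlib
import Groth.Prelude.Def_SGA3b
import Groth.Agent.Helper2.QLLoc
import Groth.Agent.Helper2.HopfTors3
import Groth.Agent.Helper2.NilLift

/-!
# SGA3 X.4: the core comparison argument
-/

set_option autoImplicit false

namespace Groth.Agent.Helper2.X4
open TensorProduct Groth.Agent.Helper2.MultTypeSemi Groth.Agent.Helper2.SemiIso
  Groth.Agent.Helper2.NilSplit Groth.Agent.Helper2.NilLift Groth.Agent.Helper2.QL
  Groth.Agent.Helper2.HopfTors

universe u

section factor
variable {R T : Type*} [CommRing R] [CommRing T] [Algebra R T]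
variable {A D X : Type*} [CommRing A] [Bialgebra R A] [CommRing D] [Bialgebra R D]
  [CommRing X] [Bialgebra T X] [Algebra R X] [IsScalarTower R T X]

lemma semiMap_comp_map (π : A →ₐc[R] D) (γ' : D →ₐ[R] X) (t : A ⊗[R] A) :
    semiMap R T γ'.toLinearMap
      (TensorProduct.map ((π : A →ₐ[R] D).toLinearMap) ((π : A →ₐ[R] D).toLinearMap) t) =
    semiMap R T ((γ'.comp (π : A →ₐ[R] D)).toLinearMap) t := by
  induction t using TensorProduct.induction_on with
  | zero => simp
  | add x y hx hy => simp only [map_add, hx, hy]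
  | tmul x y => simp

/-- a map whose composite with a surjective bialgebra map is a semilinear isomorphism is one -/
lemma isSemiIso_of_comp (π : A →ₐc[R] D) (hπ : Function.Surjective π) (γ' : D →ₐ[R] X)
    (h : IsSemiIso R T (γ'.comp (π : A →ₐ[R] D))) : IsSemiIso R T γ' := by
  have key : ∀ z : T ⊗[R] A, LinearMap.liftBaseChange T γ'.toLinearMap
      (LinearMap.lTensor T ((π : A →ₐ[R] D).toLinearMap) z) =
      LinearMap.liftBaseChange T (γ'.comp (π : A →ₐ[R] D)).toLinearMap z := by
    intro z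
    induction z using TensorProduct.induction_on with
    | zero => simp
    | add x y hx hy => simp only [map_add, hx, hy]
    | tmul t a => simp
  have hs : Function.Surjective (LinearMap.lTensor T ((π : A →ₐ[R] D).toLinearMap)) :=
    LinearMap.lTensor_surjective _ hπ
  refine ⟨⟨?_, ?_⟩, ?_, ?_⟩
  · intro d
    obtain ⟨a, rfl⟩ := hπ d
    have h1 := h.1.counit a
    rw [AlgHom.comp_apply] at h1
    have h2 : Coalgebra.counit (R := R) (π a) = Coalgebra.counit (R := R) a :=
      CoalgHomClass.counit_comp_apply π a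
    rw [h2]
    exact h1
  · intro d
    obtain ⟨a, rfl⟩ := hπ d
    have h1 := h.1.comul a
    rw [AlgHom.comp_apply] at h1
    have h2 : Coalgebra.comul (R := R) (π a) =
        TensorProduct.map ((π : A →ₐ[R] D).toLinearMap) ((π : A →ₐ[R] D).toLinearMap)
          (Coalgebra.comul (R := R) a) :=
      (CoalgHomClass.map_comp_comul_apply π a).symm
    rw [h2, semiMap_comp_map]
    exact h1
  · intro x y hxy
    obtain ⟨x', rfl⟩ := hs x
    obtain ⟨y', rfl⟩ := hs y
    rw [key, key] at hxy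
    rw [h.2.1 hxy]
  · intro x
    obtain ⟨z, rfl⟩ := h.2.2 x
    exact ⟨_, key z⟩

end factor

section core
variable (S : Type u) [CommRing S] (C : Type u) [CommRing C] [HopfAlgebra S C]
variable (Ah : Type u) [CommRing Ah] (Ch : Type u) [CommRing Ch] [HopfAlgebra Ah Ch]
variable (T : Type u) [CommRing T] [Algebra S T] [Algebra Ah T] [Module.FaithfullyFlat S T]

/-- **Core comparison**: if `Ch` (over `Ah`) and `C` (over `S`) become isomorphic over a common
faithfully flat `S`-algebra `T`, if `Ch` has an open and closed subgroup `Ch/(e)` which is split by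
`E → T`, and if idempotents of `T ⊗ C` killed by the counit vanish, then `C` is of multiplicative
type. -/
theorem isMultType_of_clopen
    (hCONN : ∀ e' : T ⊗[S] C, IsIdempotentElem e' → Coalgebra.counit (R := T) e' = 0 → e' = 0)
    (γ : Ch →ₐ[Ah] T ⊗[S] C) (hγ : IsSemiIso Ah T γ)
    (e : Ch) (he : IsIdempotentElem e) [hH : (Ideal.span {e}).IsHopfIdeal Ah]
    (E : Type u) [CommRing E] [Algebra Ah E] [Algebra E T] [IsScalarTower Ah E T]
    (M : Type u) [CommGroup M]
    (β : (E ⊗[Ah] (Ch ⧸ Ideal.span {e})) ≃ₐc[E] MonoidAlgebra E M) :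
    SGA3b.IsMultType S C := by
  -- the idempotent dies in `T ⊗ C`
  have hce : Coalgebra.counit (R := Ah) e = 0 :=
    Submodule.IsCoideal.counit_eq_zero (I := (Ideal.span {e}).restrictScalars Ah)
      (Ideal.mem_span_singleton_self e)
  have hγe : γ e = 0 := by
    apply hCONN _ (he.map γ)
    rw [hγ.1.counit, hce, map_zero]
  -- the factorisation through the quotient
  let π : Ch →ₐc[Ah] Ch ⧸ Ideal.span {e} := Bialgebra.Quotient.mkBialgHom (Ideal.span {e})
  have hπ : Function.Surjective π := Ideal.Quotient.mk_surjective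
  let γ' : Ch ⧸ Ideal.span {e} →ₐ[Ah] T ⊗[S] C :=
    Ideal.Quotient.liftₐ (Ideal.span {e}) γ (fun a ha => by
      obtain ⟨b, rfl⟩ := Ideal.mem_span_singleton'.mp ha
      rw [map_mul, hγe, mul_zero])
  have hγ'π : γ'.comp (π : Ch →ₐ[Ah] Ch ⧸ Ideal.span {e}) = γ := by
    apply AlgHom.ext
    intro x
    rfl
  have hγ' : IsSemiIso Ah T γ' := isSemiIso_of_comp π hπ γ' (by rw [hγ'π]; exact hγ)
  -- the chart of the quotient
  let β₀ : Ch ⧸ Ideal.span {e} →ₐ[Ah] MonoidAlgebra E M :=
    ((β.toBialgHom : E ⊗[Ah] (Ch ⧸ Ideal.span {e}) →ₐ[E] MonoidAlgebra E M).restrictScalars Ah).comp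
      (Algebra.TensorProduct.includeRight : Ch ⧸ Ideal.span {e} →ₐ[Ah] E ⊗[Ah] (Ch ⧸ Ideal.span {e}))
  have hβ₀ : IsSemiIso Ah E β₀ :=
    (isSemiIso_includeRight Ah E (Ch ⧸ Ideal.span {e})).comp Ah E E (isSemiIso_bialgEquiv E β)
  let β' : Ch ⧸ Ideal.span {e} →ₐ[Ah] MonoidAlgebra T M :=
    ((rho E T M).restrictScalars Ah).comp β₀
  have hβ' : IsSemiIso Ah T β' := isSemiIso_rho_comp (T₂ := T) hβ₀
  -- compare
  let Ψ : (T ⊗[S] C) ≃ₐc[T] MonoidAlgebra T M :=
    (bialgEquivOfSemiIso γ' hγ').symm.trans (bialgEquivOfSemiIso β' hβ')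
  let χ : C →ₐ[S] MonoidAlgebra T M :=
    ((Ψ.toBialgHom : T ⊗[S] C →ₐ[T] MonoidAlgebra T M).restrictScalars S).comp
      (Algebra.TensorProduct.includeRight : C →ₐ[S] T ⊗[S] C)
  have hχ : IsSemiIso S T χ :=
    (isSemiIso_includeRight S T C).comp S T T (isSemiIso_bialgEquiv T Ψ)
  exact isMultType_of_chart S C T M χ hχ

end core

end Groth.Agent.Helper2.X4
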