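import Mathlib
import Groth.Prelude.Def_SGA3b
import Groth.Agent.Helper2.X4Core
import Groth.Agent.Helper2.OCS6058

/-!
# SGA3 X.4 (b): the core comparison argument with finite torsion
-/

set_option autoImplicit false

namespace Groth.Agent.Helper2.X4
open TensorProduct Groth.Agent.Helper2.MultTypeSemi Groth.Agent.Helper2.SemiIso
  Groth.Agent.Helper2.NilSplit Groth.Agent.Helper2.NilLift Groth.Agent.Helper2.QL
  Groth.Agent.Helper2.HopfTors Groth.Agent.Helper2.HD

universe u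

section coreB
variable (S : Type u) [CommRing S] (C : Type u) [CommRing C] [HopfAlgebra S C]
variable (Ah : Type u) [CommRing Ah] (Ch : Type u) [CommRing Ch] [HopfAlgebra Ah Ch]
variable (T : Type u) [CommRing T] [Algebra S T] [Algebra Ah T] [Module.FaithfullyFlat S T]

/-- **Core comparison**, given that the idempotent dies in `T ⊗ C`. -/
theorem isMultType_of_clopen'
    (γ : Ch →ₐ[Ah] T ⊗[S] C) (hγ : IsSemiIso Ah T γ)
    (e : Ch) [hH : (Ideal.span {e}).IsHopfIdeal Ah] (hγe : γ e = 0)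
    (E : Type u) [CommRing E] [Algebra Ah E] [Algebra E T] [IsScalarTower Ah E T]
    (M : Type u) [CommGroup M]
    (β : (E ⊗[Ah] (Ch ⧸ Ideal.span {e})) ≃ₐc[E] MonoidAlgebra E M) :
    SGA3b.IsMultType S C := by
  let π : Ch →ₐc[Ah] Ch ⧸ Ideal.span {e} := Bialgebra.Quotient.mkBialgHom (Ideal.span {e})
  have hπ : Function.Surjective π := Ideal.Quotient.mk_surjective
  let γ' : Ch ⧸ Ideal.span {e} →ₐ[Ah] T ⊗[S] C :=
    Ideal.Quotient.liftₐ (Ideal.span {e}) γ (fun a ha => by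
      obtain ⟨b, rfl⟩ := Ideal.mem_span_singleton'.mp ha
      rw [map_mul, hγe, mul_zero])
  have hγ'π : γ'.comp (π : Ch →ₐ[Ah] Ch ⧸ Ideal.span {e}) = γ := by
    apply AlgHom.ext
    intro x
    rfl
  have hγ' : IsSemiIso Ah T γ' := isSemiIso_of_comp π hπ γ' (by rw [hγ'π]; exact hγ)
  let β₀ : Ch ⧸ Ideal.span {e} →ₐ[Ah] MonoidAlgebra E M :=
    ((β.toBialgHom : E ⊗[Ah] (Ch ⧸ Ideal.span {e}) →ₐ[E] MonoidAlgebra E M).restrictScalars Ah).comp
      (Algebra.TensorProduct.includeRight : Ch ⧸ Ideal.span {e} →ₐ[Ah] E ⊗[Ah] (Ch ⧸ Ideal.span {e}))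
  have hβ₀ : IsSemiIso Ah E β₀ :=
    (isSemiIso_includeRight Ah E (Ch ⧸ Ideal.span {e})).comp Ah E E (isSemiIso_bialgEquiv E β)
  let β' : Ch ⧸ Ideal.span {e} →ₐ[Ah] MonoidAlgebra T M :=
    ((rho E T M).restrictScalars Ah).comp β₀
  have hβ' : IsSemiIso Ah T β' := isSemiIso_rho_comp (T₂ := T) hβ₀
  let Ψ : (T ⊗[S] C) ≃ₐc[T] MonoidAlgebra T M :=
    (bialgEquivOfSemiIso γ' hγ').symm.trans (bialgEquivOfSemiIso β' hβ')
  let χ : C →ₐ[S] MonoidAlgebra T M :=
    ((Ψ.toBialgHom : T ⊗[S] C →ₐ[T] MonoidAlgebra T M).restrictScalars S).comp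
      (Algebra.TensorProduct.includeRight : C →ₐ[S] T ⊗[S] C)
  have hχ : IsSemiIso S T χ :=
    (isSemiIso_includeRight S T C).comp S T T (isSemiIso_bialgEquiv T Ψ)
  exact isMultType_of_chart S C T M χ hχ

/-- the idempotent dies in `T ⊗ C` when `T` is local, the idempotent lies over the maximal ideal
and the torsion subgroups are finite -/
theorem gamma_idem_eq_zero [IsLocalRing T] [Coalgebra.IsCocomm S C]
    (hftC : Algebra.FiniteType S C)
    (hfin : ∀ n : ℕ, 0 < n → Module.Finite S (C ⧸ SGA3b.torsionIdeal S C n))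
    (γ : Ch →ₐ[Ah] T ⊗[S] C) (hγ : IsSemiIso Ah T γ)
    (e : Ch) (he : IsIdempotentElem e) [hH : (Ideal.span {e}).IsHopfIdeal Ah]
    (hmem : γ e ∈ Ideal.map (algebraMap T (T ⊗[S] C)) (IsLocalRing.maximalIdeal T))
    (E : Type u) [CommRing E] [Algebra Ah E] [Algebra E T] [IsScalarTower Ah E T]
    (M : Type u) [CommGroup M]
    (β : (E ⊗[Ah] (Ch ⧸ Ideal.span {e})) ≃ₐc[E] MonoidAlgebra E M) :
    γ e = 0 := by
  haveI := hftC
  let π : Ch →ₐc[Ah] Ch ⧸ Ideal.span {e} := Bialgebra.Quotient.mkBialgHom (Ideal.span {e})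
  have hπ : Function.Surjective π := Ideal.Quotient.mk_surjective
  let β₀ : Ch ⧸ Ideal.span {e} →ₐ[Ah] MonoidAlgebra E M :=
    ((β.toBialgHom : E ⊗[Ah] (Ch ⧸ Ideal.span {e}) →ₐ[E] MonoidAlgebra E M).restrictScalars Ah).comp
      (Algebra.TensorProduct.includeRight : Ch ⧸ Ideal.span {e} →ₐ[Ah] E ⊗[Ah] (Ch ⧸ Ideal.span {e}))
  have hβ₀ : IsSemiIso Ah E β₀ :=
    (isSemiIso_includeRight Ah E (Ch ⧸ Ideal.span {e})).comp Ah E E (isSemiIso_bialgEquiv E β)
  let β' : Ch ⧸ Ideal.span {e} →ₐ[Ah] MonoidAlgebra T M :=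
    ((rho E T M).restrictScalars Ah).comp β₀
  have hβ' : IsSemiIso Ah T β' := isSemiIso_rho_comp (T₂ := T) hβ₀
  -- the composite chart of `Ch`
  let ψ₀ : Ch →ₐ[Ah] MonoidAlgebra T M := β'.comp (π : Ch →ₐ[Ah] Ch ⧸ Ideal.span {e})
  have hψ₀ : IsSemiCoalg Ah T ψ₀ := (isSemiCoalg_bialgHom Ah π).comp Ah Ah T hβ'.1
  let Φ₁ : T ⊗[Ah] Ch →ₐc[T] MonoidAlgebra T M :=
    bialgHomOfSemi' (liftMap Ah T ψ₀) (isSemiCoalg_liftMap Ah T T hψ₀)
  let Γ : T ⊗[Ah] Ch ≃ₐc[T] T ⊗[S] C := bialgEquivOfSemiIso γ hγ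
  have hΓ : ∀ z, Γ z = liftMap Ah T γ z := fun z => rfl
  let φ : T ⊗[S] C →ₐc[T] MonoidAlgebra T M := Φ₁.comp Γ.symm.toBialgHom
  have hφ : ∀ x, φ x = liftMap Ah T ψ₀ (Γ.symm x) := fun x => rfl
  -- factorisation of the lifted chart
  let qq : T ⊗[Ah] Ch →ₐ[T] T ⊗[Ah] (Ch ⧸ Ideal.span {e}) :=
    Algebra.TensorProduct.map (AlgHom.id T T) (π : Ch →ₐ[Ah] Ch ⧸ Ideal.span {e})
  have hfac : ∀ z, liftMap Ah T ψ₀ z = liftMap Ah T β' (qq z) := by
    intro z
    induction z using TensorProduct.induction_on with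
    | zero => simp
    | add x y hx hy => simp only [map_add, hx, hy]
    | tmul t c =>
      rw [liftMap_tmul]
      show t • β' (π c) = liftMap Ah T β' (t ⊗ₜ[Ah] π c)
      rw [liftMap_tmul]
  have hqq : Function.Surjective qq := by
    have : ⇑qq = ⇑(LinearMap.lTensor T (π : Ch →ₐ[Ah] Ch ⧸ Ideal.span {e}).toLinearMap) := by
      ext z
      induction z using TensorProduct.induction_on with
      | zero => simp
      | add x y hx hy => simp only [map_add, hx, hy]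
      | tmul t a => rfl
    rw [this]
    exact LinearMap.lTensor_surjective _ hπ
  have hβb : Function.Bijective (liftMap Ah T β') := liftMap_bijective' hβ'
  have hsurj : Function.Surjective φ := by
    intro y
    obtain ⟨w, rfl⟩ := hβb.2 y
    obtain ⟨z, rfl⟩ := hqq w
    refine ⟨Γ z, ?_⟩
    rw [hφ, BialgEquiv.symm_apply_apply, hfac]
  have hkerqq : RingHom.ker qq = (Ideal.span {e}).map
      (Algebra.TensorProduct.includeRight : Ch →ₐ[Ah] T ⊗[Ah] Ch) := by
    have h1 := Algebra.TensorProduct.lTensor_ker (A := T)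
      (π : Ch →ₐ[Ah] Ch ⧸ Ideal.span {e}) hπ
    have h2 : RingHom.ker (π : Ch →ₐ[Ah] Ch ⧸ Ideal.span {e}) = Ideal.span {e} :=
      Ideal.mk_ker
    rw [h2] at h1
    rw [← h1]
    have h3 : ∀ z, qq z = Algebra.TensorProduct.map (AlgHom.id Ah T)
        (π : Ch →ₐ[Ah] Ch ⧸ Ideal.span {e}) z := by
      intro z
      induction z using TensorProduct.induction_on with
      | zero => simp
      | add x y hx hy => simp only [map_add, hx, hy]
      | tmul t a => rfl
    ext z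
    rw [RingHom.mem_ker, RingHom.mem_ker, h3]
  have hΓe : Γ ((1 : T) ⊗ₜ[Ah] e) = γ e := by
    rw [hΓ, liftMap_tmul, one_smul]
  have hker : RingHom.ker (φ : T ⊗[S] C →ₐ[T] MonoidAlgebra T M) = Ideal.span {γ e} := by
    ext x
    rw [RingHom.mem_ker, Ideal.mem_span_singleton']
    show φ x = 0 ↔ _
    rw [hφ, hfac]
    constructor
    · intro h
      have h1 : qq (Γ.symm x) = 0 := by
        apply hβb.1
        rw [h, map_zero]
      have h2 : Γ.symm x ∈ RingHom.ker qq := h1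
      rw [hkerqq, Ideal.map_span, Set.image_singleton, Ideal.mem_span_singleton'] at h2
      obtain ⟨a, ha⟩ := h2
      refine ⟨Γ a, ?_⟩
      have h3 : Γ (Γ.symm x) = x := BialgEquiv.apply_symm_apply Γ x
      rw [← h3, ← ha, map_mul, ← hΓe]
      rfl
    · rintro ⟨a, rfl⟩
      have h1 : Γ.symm (a * γ e) = Γ.symm a * ((1 : T) ⊗ₜ[Ah] e) := by
        rw [map_mul, ← hΓe, BialgEquiv.symm_apply_apply]
      rw [h1, map_mul]
      have h2 : qq ((1 : T) ⊗ₜ[Ah] e) = 0 := by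
        show (1 : T) ⊗ₜ[Ah] (π e) = 0
        have : π e = 0 := by
          show Ideal.Quotient.mk (Ideal.span {e}) e = 0
          rw [Ideal.Quotient.eq_zero_iff_mem]
          exact Ideal.mem_span_singleton_self e
        rw [this, TensorProduct.tmul_zero]
      rw [h2, mul_zero, map_zero]
  -- finite generation
  have hftT : Algebra.FiniteType T (T ⊗[S] C) := Algebra.FiniteType.baseChange T
  have hftM : Algebra.FiniteType T (MonoidAlgebra T M) :=
    Algebra.FiniteType.of_surjective (φ : T ⊗[S] C →ₐ[T] MonoidAlgebra T M) hsurj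
  haveI : Group.FG M := (MonoidAlgebra.finiteType_iff_group_fg (R := T) (G := M)).mp hftM
  have hidem : IsIdempotentElem (γ e) := he.map γ
  apply Groth.Agent.Helper2.OC.eq_zero_of_mem_torsion φ hftT hsurj (γ e) hidem hker
  intro n hn
  haveI := hfin n hn
  haveI := Groth.Agent.Helper2.OC.finite_quot_torsion_baseChange S T C n
  have h1 : Ideal.Quotient.mk (SGA3b.torsionIdeal T (T ⊗[S] C) n) (γ e) = 0 := by
    apply Groth.Agent.Helper2.OC.idem_eq_zero_of_finite (IsLocalRing.maximalIdeal T)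
      (IsLocalRing.maximalIdeal_le_jacobson ⊥)
    · show _ * _ = _
      rw [← map_mul, hidem.eq]
    · have := Ideal.mem_map_of_mem (Ideal.Quotient.mk (SGA3b.torsionIdeal T (T ⊗[S] C) n)) hmem
      rw [Ideal.map_map] at this
      exact this
  exact Ideal.Quotient.eq_zero_iff_mem.mp h1

end coreB

end Groth.Agent.Helper2.X4
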