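import Mathlib
import Groth.Prelude.Def_SGA3b
import Groth.Agent.Helper2.X4Core
import Groth.Agent.Helper2.ArtIso
import Groth.Agent.Helper2.CDBC2
import Groth.Agent.Helper2.MultTypeChart

/-!
# SGA3 X.4: preparations for the local theorem
-/

set_option autoImplicit false

namespace Groth.Agent.Helper2.X4
open TensorProduct IsLocalRing Groth.Agent.Helper2.MultTypeSemi Groth.Agent.Helper2.SemiIso
  Groth.Agent.Helper2.NilSplit Groth.Agent.Helper2.NilLift Groth.Agent.Helper2.QL
  Groth.Agent.Helper2.HopfTors Groth.Agent.Helper2.MultTypeChart Groth.Agent.Helper2.CDBC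
  Groth.Agent.Helper2.DefApp SGA3b

universe u

section pushout

attribute [local instance] Algebra.TensorProduct.rightAlgebra in
/-- a common faithfully flat extension -/
theorem exists_pushout (S₁ S E : Type u) [CommRing S₁] [CommRing S] [CommRing E] [Algebra S₁ S]
    [Algebra S₁ E] [Module.FaithfullyFlat S₁ E] :
    ∃ (T : Type u) (_ : CommRing T) (_ : Algebra S T) (_ : Algebra E T) (_ : Algebra S₁ T)
      (_ : IsScalarTower S₁ S T) (_ : IsScalarTower S₁ E T), Module.FaithfullyFlat S T :=
  ⟨S ⊗[S₁] E, inferInstance, inferInstance, inferInstance, inferInstance, inferInstance,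
    inferInstance, inferInstance⟩

end pushout

section field

/-- a Hopf algebra of finite type over a field with a faithfully flat chart is isotrivial -/
theorem isIsotrivial_of_field_chart (k : Type u) [Field k] (D : Type u) [CommRing D]
    [HopfAlgebra k D] (hft : Algebra.FiniteType k D)
    (T : Type u) [CommRing T] [Algebra k T] [Module.FaithfullyFlat k T]
    (N : Type u) [CommGroup N] (χ : D →ₐ[k] MonoidAlgebra T N) (hχ : IsSemiIso k T χ) :
    IsIsotrivial k D := by
  have hmt : IsMultType k D := isMultType_of_chart k D T N χ hχ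
  obtain ⟨k', _, _, hfin, hsep, M, _, -, ⟨e⟩⟩ := Groth.Agent.Helper2.GLSep.s2969 k D hft hmt
  haveI := hfin
  haveI := hsep
  exact ⟨k', inferInstance, inferInstance,
    Groth.Agent.Helper2.ArtIso.etale_of_finite_separable k k', hfin, inferInstance,
    M, inferInstance, ⟨e⟩⟩

end field

section localhom

/-- the localisation of a subring at the contraction of the maximal ideal maps locally -/
theorem isLocalHom_of_lift (S₀ S S₁ : Type u) [CommRing S₀] [CommRing S] [IsLocalRing S]
    [Algebra S₀ S] [CommRing S₁] [Algebra S₀ S₁] [Algebra S₁ S] [IsScalarTower S₀ S₁ S]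
    (p₀ : Ideal S₀) [p₀.IsPrime] (hp₀ : p₀ = (maximalIdeal S).comap (algebraMap S₀ S))
    [IsLocalization.AtPrime S₁ p₀] : IsLocalHom (algebraMap S₁ S) := by
  constructor
  intro x hx
  obtain ⟨a, s, rfl⟩ := IsLocalization.exists_mk'_eq p₀.primeCompl x
  have h1 : algebraMap S₁ S (IsLocalization.mk' S₁ a s) * algebraMap S₀ S s = algebraMap S₀ S a := by
    rw [IsScalarTower.algebraMap_apply S₀ S₁ S, IsScalarTower.algebraMap_apply S₀ S₁ S, ← map_mul,
      IsLocalization.mk'_spec]
  have hmem : ∀ y : S₀, y ∈ p₀ ↔ ¬ IsUnit (algebraMap S₀ S y) := by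
    intro y
    rw [hp₀, Ideal.mem_comap, mem_maximalIdeal, mem_nonunits_iff]
  have hs : IsUnit (algebraMap S₀ S s) := by
    have : (s : S₀) ∉ p₀ := s.2
    rw [hmem, not_not] at this
    exact this
  have ha : IsUnit (algebraMap S₀ S a) := by
    rw [← h1]
    exact hx.mul hs
  have ha' : a ∈ p₀.primeCompl := by
    show a ∉ p₀
    rw [hmem, not_not]
    exact ha
  exact (IsLocalization.AtPrime.isUnit_mk'_iff S₁ p₀ a s).mpr ha'

end localhom

section closed
variable (S₁ : Type u) [CommRing S₁] [IsNoetherianRing S₁] [IsLocalRing S₁]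
  (S : Type u) [CommRing S] [IsLocalRing S] [Algebra S₁ S] [IsLocalHom (algebraMap S₁ S)]
  (C₁ : Type u) [CommRing C₁] [HopfAlgebra S₁ C₁]
  (C : Type u) [CommRing C] [HopfAlgebra S C] [Algebra S₁ C] [IsScalarTower S₁ S C]

/-- the closed fibre of the completion of a model is isotrivial -/
theorem isIsotrivial_closed_fibre (hft : Algebra.FiniteType S₁ C₁)
    (j₁ : C₁ →ₐ[S₁] C) (hj₁ : IsSemiIso S₁ S j₁)
    (hs : IsMultType (ResidueField S) (ResidueField S ⊗[S] C)) :
    IsIsotrivial (ResidueField (AdicCompletion (maximalIdeal S₁) S₁))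
      (ResidueField (AdicCompletion (maximalIdeal S₁) S₁) ⊗[AdicCompletion (maximalIdeal S₁) S₁]
        (AdicCompletion (maximalIdeal S₁) S₁ ⊗[S₁] C₁)) := by
  obtain ⟨T, _, _, hff, N, _, ⟨e⟩⟩ :=
    exists_chart_of_isLocalRing (ResidueField S) (ResidueField S ⊗[S] C) hs
  haveI := hff
  haveI := hft
  letI : Algebra S T := ((algebraMap (ResidueField S) T).comp (algebraMap S (ResidueField S))).toAlgebra
  haveI : IsScalarTower S (ResidueField S) T := IsScalarTower.of_algebraMap_eq (fun _ => rfl)
  let χC : C →ₐ[S] MonoidAlgebra T N := chart S C (ResidueField S) T N e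
  have hχC : IsSemiIso S T χC := chart_isSemiIso S C (ResidueField S) T N e
  letI : Algebra S₁ T := ((algebraMap S T).comp (algebraMap S₁ S)).toAlgebra
  haveI : IsScalarTower S₁ S T := IsScalarTower.of_algebraMap_eq (fun _ => rfl)
  let χ₁ : C₁ →ₐ[S₁] MonoidAlgebra T N := (χC.restrictScalars S₁).comp j₁
  have hχ₁ : IsSemiIso S₁ T χ₁ := hj₁.comp S₁ S T hχC
  -- the residue field of the completion
  let ρ₁ : ResidueField S₁ →+* ResidueField S := ResidueField.map (algebraMap S₁ S)
  let εh : ResidueField S₁ ≃+* ResidueField (AdicCompletion (maximalIdeal S₁) S₁) :=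
    RingEquiv.ofBijective
      (ResidueField.map (algebraMap S₁ (AdicCompletion (maximalIdeal S₁) S₁)))
      (AdicCompletion.residueField_map_bijective S₁)
  let ι : ResidueField (AdicCompletion (maximalIdeal S₁) S₁) →+* T :=
    (algebraMap (ResidueField S) T).comp (ρ₁.comp εh.symm.toRingHom)
  letI : Algebra (ResidueField (AdicCompletion (maximalIdeal S₁) S₁)) T := ι.toAlgebra
  letI : Algebra (AdicCompletion (maximalIdeal S₁) S₁) T :=
    (ι.comp (algebraMap (AdicCompletion (maximalIdeal S₁) S₁)
      (ResidueField (AdicCompletion (maximalIdeal S₁) S₁)))).toAlgebra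
  haveI : IsScalarTower (AdicCompletion (maximalIdeal S₁) S₁)
      (ResidueField (AdicCompletion (maximalIdeal S₁) S₁)) T :=
    IsScalarTower.of_algebraMap_eq (fun _ => rfl)
  haveI : IsScalarTower S₁ (AdicCompletion (maximalIdeal S₁) S₁) T :=
    IsScalarTower.of_algebraMap_eq (fun x => by
      show algebraMap (ResidueField S) T (algebraMap S (ResidueField S) (algebraMap S₁ S x)) =
        algebraMap (ResidueField S) T (ρ₁ (εh.symm (residue _ (algebraMap S₁ _ x))))
      congr 1
      have h1 : residue (AdicCompletion (maximalIdeal S₁) S₁)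
          (algebraMap S₁ (AdicCompletion (maximalIdeal S₁) S₁) x) = εh (residue S₁ x) := rfl
      rw [h1, RingEquiv.symm_apply_apply]
      rfl)
  let χh := liftMap S₁ (AdicCompletion (maximalIdeal S₁) S₁) χ₁
  have hχh : IsSemiIso (AdicCompletion (maximalIdeal S₁) S₁) T χh :=
    hχ₁.lift S₁ (AdicCompletion (maximalIdeal S₁) S₁) T
  let χ₀ := liftMap (AdicCompletion (maximalIdeal S₁) S₁)
    (ResidueField (AdicCompletion (maximalIdeal S₁) S₁)) χh
  have hχ₀ : IsSemiIso (ResidueField (AdicCompletion (maximalIdeal S₁) S₁)) T χ₀ :=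
    hχh.lift (AdicCompletion (maximalIdeal S₁) S₁)
      (ResidueField (AdicCompletion (maximalIdeal S₁) S₁)) T
  haveI : Nontrivial T := (FaithfulSMul.algebraMap_injective (ResidueField S) T).nontrivial
  haveI : Module.FaithfullyFlat (ResidueField (AdicCompletion (maximalIdeal S₁) S₁)) T :=
    inferInstance
  have hft' : Algebra.FiniteType (ResidueField (AdicCompletion (maximalIdeal S₁) S₁))
      (ResidueField (AdicCompletion (maximalIdeal S₁) S₁) ⊗[AdicCompletion (maximalIdeal S₁) S₁]
        (AdicCompletion (maximalIdeal S₁) S₁ ⊗[S₁] C₁)) := inferInstance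
  exact isIsotrivial_of_field_chart _ _ hft' T N χ₀ hχ₀

end closed

end Groth.Agent.Helper2.X4
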