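import Mathlib
import Groth.Prelude.Def_SGA3b
import Groth.Agent.Helper2.OCTors

/-!
# Base change of the open and closed subgroup: the idempotent is canonical
-/

set_option autoImplicit false

namespace Groth.Agent.Helper2.OC
open TensorProduct Groth.Agent.Helper2.MultTypeSemi Groth.Agent.Helper2.SemiIso
  Groth.Agent.Helper2.NilLift Groth.Agent.Helper2.NilSplit Groth.Agent.Helper2.TorsFin

universe u

section bc
variable {B : Type*} [CommRing B] {H : Type*} [CommRing H] [HopfAlgebra B H]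
  {M : Type*} [CommGroup M] (φ : H →ₐc[B] MonoidAlgebra B M)
  (L : Type*) [CommRing L] [Algebra B L]

/-- the base change of `φ` to `L` -/
noncomputable def phiL : L ⊗[B] H →ₐ[L] MonoidAlgebra L M :=
  liftMap B L (((rho B L M).restrictScalars B).comp (φ : H →ₐ[B] MonoidAlgebra B M))

@[simp] lemma phiL_tmul (t : L) (h : H) : phiL φ L (t ⊗ₜ[B] h) = t • rho B L M (φ h) := by
  rw [phiL, liftMap_tmul]
  rfl

theorem ker_phiL (hφ : Function.Surjective φ) (e : H)
    (hker : RingHom.ker (φ : H →ₐ[B] MonoidAlgebra B M) = Ideal.span {e}) :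
    RingHom.ker (phiL φ L) = Ideal.span {(1 : L) ⊗ₜ[B] e} := by
  let mkL : L ⊗[B] H →ₐ[B] L ⊗[B] MonoidAlgebra B M :=
    Algebra.TensorProduct.map (AlgHom.id B L) (φ : H →ₐ[B] MonoidAlgebra B M)
  have hfac : ∀ z, phiL φ L z = liftMap B L (rho B L M) (mkL z) := by
    intro z
    induction z using TensorProduct.induction_on with
    | zero => simp
    | add x y hx hy => simp only [map_add, hx, hy]
    | tmul t c =>
      rw [phiL_tmul]
      show _ = liftMap B L (rho B L M) (t ⊗ₜ[B] (φ c))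
      rw [liftMap_tmul]
  have hbij := liftMap_bijective (isSemiIso_rho B L M)
  have h1 : RingHom.ker (phiL φ L) = RingHom.ker mkL := by
    ext z
    rw [RingHom.mem_ker, RingHom.mem_ker, hfac]
    constructor
    · intro h
      apply hbij.1
      rw [h, map_zero]
    · intro h
      rw [h, map_zero]
  rw [h1]
  have h2 := Algebra.TensorProduct.lTensor_ker (A := L) (φ : H →ₐ[B] MonoidAlgebra B M) hφ
  rw [h2, hker, Ideal.map_span, Set.image_singleton]
  rfl

end bc

section sep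
variable {A : Type*} [CommRing A] (I : Ideal A) {R₂ : Type*} [CommRing R₂] [Algebra A R₂]
  {M : Type*} [CommGroup M]

/-- a group algebra over an `I`-adically separated ring is `I`-adically separated -/
lemma monoidAlgebra_sep (hsep : ∀ r : R₂, (∀ n, r ∈ (I ^ n • ⊤ : Submodule A R₂)) → r = 0)
    (z : MonoidAlgebra R₂ M) (hz : ∀ n, z ∈ (I ^ n • ⊤ : Submodule A (MonoidAlgebra R₂ M))) :
    z = 0 := by
  apply MonoidAlgebra.coeff_injective
  ext m
  apply hsep
  intro n
  exact map_mem_smul_top' (I ^ n) ((cf (R' := R₂) m).restrictScalars A) (hz n)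

end sep

section X
variable {A : Type u} [CommRing A] (I : Ideal A) {B : Type u} [CommRing B] [Algebra A B]
  {C : Type u} [CommRing C] [HopfAlgebra A C] {M : Type u} [CommGroup M]
  (φ : B ⊗[A] C →ₐc[B] MonoidAlgebra B M)
  {R₂ : Type u} [CommRing R₂] [Algebra A R₂]

section tower
variable [Algebra B R₂] [IsScalarTower A B R₂]

/-- the base change map `B ⊗ C → R₂ ⊗ C` -/
noncomputable def pmap : B ⊗[A] C →ₐ[A] R₂ ⊗[A] C :=
  Algebra.TensorProduct.map (IsScalarTower.toAlgHom A B R₂) (AlgHom.id A C)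

lemma cancel_tmul_one (x : B ⊗[A] C) :
    Algebra.TensorProduct.cancelBaseChange A B R₂ R₂ C ((1 : R₂) ⊗ₜ[B] x) = pmap (R₂ := R₂) x := by
  induction x using TensorProduct.induction_on with
  | zero => simp
  | add x y hx hy => rw [tmul_add, map_add, hx, hy, map_add]
  | tmul b c =>
    rw [Algebra.TensorProduct.cancelBaseChange_tmul]
    show (b • (1 : R₂)) ⊗ₜ[A] c = (algebraMap B R₂ b) ⊗ₜ[A] c
    rw [Algebra.smul_def, mul_one]

theorem mul_one_sub_eq_zero (hφ : Function.Surjective φ) (e : B ⊗[A] C)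
    (hidem : IsIdempotentElem e)
    (hker : RingHom.ker (φ : B ⊗[A] C →ₐ[B] MonoidAlgebra B M) = Ideal.span {e})
    (hsep : ∀ r : R₂, (∀ n, r ∈ (I ^ n • ⊤ : Submodule A R₂)) → r = 0)
    (x : R₂ ⊗[A] C) (hx : ∀ n, x ∈ (I ^ n • ⊤ : Submodule A (R₂ ⊗[A] C))) :
    x * (1 - pmap (R₂ := R₂) e) = 0 := by
  let E := Algebra.TensorProduct.cancelBaseChange A B R₂ R₂ C
  let Φ : R₂ ⊗[A] C →ₐ[R₂] MonoidAlgebra R₂ M :=
    (phiL φ R₂).comp (E.symm : R₂ ⊗[A] C →ₐ[R₂] R₂ ⊗[B] (B ⊗[A] C))
  have h2 : Φ x = 0 := by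
    apply monoidAlgebra_sep I hsep
    intro n
    exact map_mem_smul_top' (I ^ n) ((Φ.restrictScalars A).toLinearMap) (hx n)
  have h3 : E.symm x ∈ Ideal.span {(1 : R₂) ⊗ₜ[B] e} := by
    rw [← ker_phiL φ R₂ hφ e hker, RingHom.mem_ker]
    exact h2
  rw [Ideal.mem_span_singleton'] at h3
  obtain ⟨a, ha⟩ := h3
  have h4 : x = E a * pmap (R₂ := R₂) e := by
    have := congrArg E ha
    rw [map_mul, cancel_tmul_one, AlgEquiv.apply_symm_apply] at this
    exact this.symm
  have hidem' : pmap (R₂ := R₂) e * pmap (R₂ := R₂) e = pmap (R₂ := R₂) e := by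
    rw [← map_mul, hidem.eq]
  rw [h4, mul_assoc, mul_sub, mul_one, hidem', sub_self, mul_zero]

end tower

/-- the version with an explicit algebra map `f : B → R₂` -/
theorem mul_one_sub_eq_zero' (f : B →ₐ[A] R₂) (hφ : Function.Surjective φ) (e : B ⊗[A] C)
    (hidem : IsIdempotentElem e)
    (hker : RingHom.ker (φ : B ⊗[A] C →ₐ[B] MonoidAlgebra B M) = Ideal.span {e})
    (hsep : ∀ r : R₂, (∀ n, r ∈ (I ^ n • ⊤ : Submodule A R₂)) → r = 0)
    (x : R₂ ⊗[A] C) (hx : ∀ n, x ∈ (I ^ n • ⊤ : Submodule A (R₂ ⊗[A] C))) :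
    x * (1 - Algebra.TensorProduct.map f (AlgHom.id A C) e) = 0 := by
  letI : Algebra B R₂ := f.toRingHom.toAlgebra
  haveI : IsScalarTower A B R₂ := IsScalarTower.of_algebraMap_eq (fun a => (f.commutes a).symm)
  have hf : IsScalarTower.toAlgHom A B R₂ = f := by
    ext b
    rfl
  have := mul_one_sub_eq_zero I φ (R₂ := R₂) hφ e hidem hker hsep x hx
  rw [pmap, hf] at this
  exact this

/-- invariance: the two base changes of the idempotent agree -/
theorem map_eq_map (f₁ f₂ : B →ₐ[A] R₂) (hφ : Function.Surjective φ) (e : B ⊗[A] C)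
    (hidem : IsIdempotentElem e)
    (hker : RingHom.ker (φ : B ⊗[A] C →ₐ[B] MonoidAlgebra B M) = Ideal.span {e})
    (hsep : ∀ r : R₂, (∀ n, r ∈ (I ^ n • ⊤ : Submodule A R₂)) → r = 0)
    (heI : e ∈ (I • ⊤ : Submodule A (B ⊗[A] C))) :
    Algebra.TensorProduct.map f₁ (AlgHom.id A C) e =
      Algebra.TensorProduct.map f₂ (AlgHom.id A C) e := by
  have key : ∀ (f : B →ₐ[A] R₂) (n : ℕ),
      Algebra.TensorProduct.map f (AlgHom.id A C) e ∈ (I ^ n • ⊤ : Submodule A (R₂ ⊗[A] C)) := by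
    intro f n
    set p := Algebra.TensorProduct.map f (AlgHom.id A C) with hp
    have h1 : p e ∈ (I • ⊤ : Submodule A (R₂ ⊗[A] C)) :=
      map_mem_smul_top' I p.toLinearMap heI
    rcases Nat.eq_zero_or_pos n with hn | hn
    · subst hn
      rw [pow_zero, Ideal.one_eq_top, Submodule.top_smul]
      trivial
    have h2 : p e = (p e) ^ n := by
      have hid : IsIdempotentElem (p e) := by
        show p e * p e = p e
        rw [← map_mul, hidem.eq]
      exact (hid.pow_eq (Nat.pos_iff_ne_zero.mp hn)).symm ▸ rfl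
    rw [Ideal.smul_top_eq_map] at h1 ⊢
    rw [h2]
    show (p e) ^ n ∈ Ideal.map (algebraMap A (R₂ ⊗[A] C)) (I ^ n)
    rw [Ideal.map_pow]
    exact Ideal.pow_mem_pow h1 n
  have h12 := mul_one_sub_eq_zero' I φ f₂ hφ e hidem hker hsep _ (key f₁)
  have h21 := mul_one_sub_eq_zero' I φ f₁ hφ e hidem hker hsep _ (key f₂)
  rw [mul_sub, mul_one, sub_eq_zero] at h12 h21
  calc Algebra.TensorProduct.map f₁ (AlgHom.id A C) e
      = Algebra.TensorProduct.map f₁ (AlgHom.id A C) e *
          Algebra.TensorProduct.map f₂ (AlgHom.id A C) e := h12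
    _ = Algebra.TensorProduct.map f₂ (AlgHom.id A C) e *
          Algebra.TensorProduct.map f₁ (AlgHom.id A C) e := mul_comm _ _
    _ = Algebra.TensorProduct.map f₂ (AlgHom.id A C) e := h21.symm

end X

end Groth.Agent.Helper2.OC
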