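import Mathlib
import Groth.Prelude.Def_SGA3b
import Groth.Agent.Helper2.OCDesc1

/-!
# Descent of the idempotent along a finite projective faithfully flat cover
-/

set_option autoImplicit false

namespace Groth.Agent.Helper2.OC
open TensorProduct Groth.Agent.Helper2.MultTypeSemi Groth.Agent.Helper2.SemiIso
  Groth.Agent.Helper2.NilLift Groth.Agent.Helper2.NilSplit

universe u

section retr
variable (A : Type*) [CommRing A] (B : Type*) [CommRing B] [Algebra A B]

/-- a finite projective faithfully flat algebra has a linear retraction -/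
theorem exists_retraction [Module.Finite A B] [Module.Projective A B]
    [Module.FaithfullyFlat A B] : ∃ ρ : B →ₗ[A] A, ρ 1 = 1 := by
  obtain ⟨n, f, g, hf, hg, hfg⟩ := Module.Finite.exists_comp_eq_id_of_projective A B
  let T : Ideal A := LinearMap.range ((LinearMap.applyₗ (1 : B)) : (B →ₗ[A] A) →ₗ[A] A)
  have hmem : ∀ ρ : B →ₗ[A] A, ρ 1 ∈ T := fun ρ => ⟨ρ, rfl⟩
  have hT : T = ⊤ := by
    by_contra hne
    obtain ⟨𝔪, h𝔪, hle⟩ := Ideal.exists_le_maximal T hne
    apply Module.FaithfullyFlat.submodule_ne_top (R := A) (M := B) h𝔪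
    rw [eq_top_iff]
    rintro b -
    have h1 : b = ∑ i, (g b i) • f (Pi.single i 1) := by
      have h2 : g b = ∑ i, (g b i) • (Pi.single i (1 : A) : Fin n → A) := by
        ext j
        simp [Finset.sum_apply, Pi.single_apply]
      have h3 := congrArg f h2
      rw [map_sum] at h3
      simp only [map_smul] at h3
      have h4 : f (g b) = b := by
        have := LinearMap.congr_fun hfg b
        simpa using this
      rw [h4] at h3
      exact h3
    rw [h1]
    refine Submodule.sum_mem _ (fun i _ => Submodule.smul_mem_smul (hle ?_) trivial)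
    have : g b i = (((LinearMap.proj i).comp g).comp (LinearMap.mulLeft A b)) 1 := by
      simp
    rw [this]
    exact hmem _
  have h1 : (1 : A) ∈ T := by
    rw [hT]
    trivial
  obtain ⟨ρ, hρ⟩ := h1
  exact ⟨ρ, hρ⟩

end retr

section desc
variable {A : Type u} [CommRing A] {B : Type u} [CommRing B] [Algebra A B]
  {C : Type u} [CommRing C] [Algebra A C]

/-- the two maps `B ⊗ C → (B ⊗ B) ⊗ C` -/
noncomputable def p1 : B ⊗[A] C →ₐ[A] (B ⊗[A] B) ⊗[A] C :=
  Algebra.TensorProduct.map (Algebra.TensorProduct.includeLeft : B →ₐ[A] B ⊗[A] B) (AlgHom.id A C)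

noncomputable def p2 : B ⊗[A] C →ₐ[A] (B ⊗[A] B) ⊗[A] C :=
  Algebra.TensorProduct.map (Algebra.TensorProduct.includeRight : B →ₐ[A] B ⊗[A] B) (AlgHom.id A C)

variable (ρ : B →ₗ[A] A)

/-- contraction of the first factor -/
noncomputable def contr : (B ⊗[A] B) ⊗[A] C →ₗ[A] B ⊗[A] C :=
  TensorProduct.map ((TensorProduct.lid A B).toLinearMap ∘ₗ (ρ.rTensor B)) LinearMap.id

/-- contraction `B ⊗ C → C` -/
noncomputable def contr0 : B ⊗[A] C →ₗ[A] C :=
  (TensorProduct.lid A C).toLinearMap ∘ₗ (ρ.rTensor C)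

@[simp] lemma contr_tmul (b₁ b₂ : B) (c : C) :
    contr ρ ((b₁ ⊗ₜ[A] b₂) ⊗ₜ[A] c) = (ρ b₁ • b₂) ⊗ₜ[A] c := by
  simp [contr]

@[simp] lemma contr0_tmul (b : B) (c : C) : contr0 ρ (b ⊗ₜ[A] c) = ρ b • c := by
  simp [contr0]

lemma contr_p2 (hρ : ρ 1 = 1) (x : B ⊗[A] C) : contr ρ (p2 x) = x := by
  induction x using TensorProduct.induction_on with
  | zero => simp
  | add x y hx hy => rw [map_add, map_add, hx, hy]
  | tmul b c =>
    show contr ρ (((1 : B) ⊗ₜ[A] b) ⊗ₜ[A] c) = _
    rw [contr_tmul, hρ, one_smul]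

lemma contr_p1 (x : B ⊗[A] C) : contr ρ (p1 x) = (1 : B) ⊗ₜ[A] (contr0 ρ x) := by
  induction x using TensorProduct.induction_on with
  | zero => simp
  | add x y hx hy => rw [map_add, map_add, hx, hy, map_add, tmul_add]
  | tmul b c =>
    show contr ρ ((b ⊗ₜ[A] (1 : B)) ⊗ₜ[A] c) = _
    rw [contr_tmul, contr0_tmul, TensorProduct.smul_tmul]

/-- descent: an element with equal base changes comes from `C` -/
theorem eq_one_tmul_of_p1_eq_p2 (hρ : ρ 1 = 1) (x : B ⊗[A] C) (h : p1 x = p2 x) :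
    x = (1 : B) ⊗ₜ[A] (contr0 ρ x) := by
  rw [← contr_p1, h, contr_p2 ρ hρ]

end desc

end Groth.Agent.Helper2.OC
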