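import Mathlib
import Groth.Prelude.Def_SGA3b
import Groth.Agent.Helper2.SemiIso
import Groth.Agent.Helper2.MultTypeMono
import Groth.Agent.Helper2.NilLift

/-!
# The kernel of a chart whose base change is surjective with extended kernel is a Hopf ideal
-/

set_option autoImplicit false

namespace Groth.Agent.Helper2.OC
open TensorProduct Groth.Agent.Helper2.MultTypeSemi Groth.Agent.Helper2.SemiIso
  Groth.Agent.Helper2.NilLift

universe u

section liftAlg
variable {A : Type*} [CommRing A] {B : Type*} [CommRing B] [Algebra A B]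
  {D : Type*} [CommRing D] [Algebra A D] {K : Type*} [CommRing K] [Algebra B K] [Algebra A K]
  [IsScalarTower A B K]

/-- the lift of an algebra map to the base change (no coalgebra structure needed) -/
noncomputable def liftAlg (ψ : D →ₐ[A] K) : B ⊗[A] D →ₐ[B] K :=
  Algebra.TensorProduct.lift (Algebra.ofId B K) ψ (fun _ _ => Commute.all _ _)

@[simp] lemma liftAlg_tmul (ψ : D →ₐ[A] K) (b : B) (d : D) :
    liftAlg ψ (b ⊗ₜ[A] d) = b • ψ d := by
  simp [liftAlg, Algebra.smul_def, Algebra.ofId_apply]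

end liftAlg

section HI
variable {A : Type u} [CommRing A] {B : Type u} [CommRing B] [Algebra A B]
  [Module.FaithfullyFlat A B]
  {C : Type u} [CommRing C] [HopfAlgebra A C]
  {K : Type u} [CommRing K] [HopfAlgebra B K] [Algebra A K] [IsScalarTower A B K]
  (χ : C →ₐ[A] K) (hχ : IsSemiCoalg A B χ) (𝔞 : Ideal C) (h𝔞 : RingHom.ker χ = 𝔞)
  (hsurj : Function.Surjective (liftMap A B χ))
  (hker : RingHom.ker (liftMap A B χ) =
    𝔞.map (Algebra.TensorProduct.includeRight : C →ₐ[A] B ⊗[A] C))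

/-- the induced map on the quotient -/
noncomputable def chiBar : C ⧸ 𝔞 →ₐ[A] K :=
  Ideal.Quotient.liftₐ 𝔞 χ (fun a ha => by rw [← h𝔞] at ha; exact ha)

@[simp] lemma chiBar_mk (c : C) : chiBar χ 𝔞 h𝔞 (Ideal.Quotient.mk 𝔞 c) = χ c := rfl

lemma liftMap_eq (z : B ⊗[A] C) :
    liftMap A B χ z = liftAlg (B := B) (chiBar χ 𝔞 h𝔞)
      (Algebra.TensorProduct.map (AlgHom.id A B) (Ideal.Quotient.mkₐ A 𝔞) z) := by
  induction z using TensorProduct.induction_on with
  | zero => simp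
  | add x y hx hy => simp only [map_add, hx, hy]
  | tmul b c =>
    rw [liftMap_tmul, Algebra.TensorProduct.map_tmul, liftAlg_tmul]
    rfl

include hsurj hker in
theorem liftMap_chiBar_bijective :
    Function.Bijective (liftAlg (B := B) (chiBar χ 𝔞 h𝔞)) := by
  have hms : Function.Surjective
      (Algebra.TensorProduct.map (AlgHom.id A B) (Ideal.Quotient.mkₐ A 𝔞)) := by
    apply Algebra.TensorProduct.map_surjective
    · exact Function.surjective_id
    · exact Ideal.Quotient.mkₐ_surjective A 𝔞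
  constructor
  · rw [injective_iff_map_eq_zero]
    intro z hz
    obtain ⟨w, rfl⟩ := hms z
    rw [← liftMap_eq] at hz
    have hw : w ∈ RingHom.ker (liftMap A B χ) := hz
    rw [hker] at hw
    have h2 := Algebra.TensorProduct.lTensor_ker (A := B) (Ideal.Quotient.mkₐ A 𝔞)
      (Ideal.Quotient.mkₐ_surjective A 𝔞)
    have h3 : RingHom.ker (Ideal.Quotient.mkₐ A 𝔞) = 𝔞 := by
      ext x
      rw [RingHom.mem_ker, Ideal.Quotient.mkₐ_eq_mk, Ideal.Quotient.eq_zero_iff_mem]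
    rw [h3] at h2
    rw [← h2] at hw
    exact hw
  · intro y
    obtain ⟨w, rfl⟩ := hsurj y
    exact ⟨_, (liftMap_eq χ 𝔞 h𝔞 w).symm⟩

/-- the semilinear tensor square of `chiBar` -/
noncomputable def sm : (C ⧸ 𝔞) ⊗[A] (C ⧸ 𝔞) →ₗ[A] K ⊗[B] K :=
  (TensorProduct.mapOfCompatibleSMul B A A K K) ∘ₗ
    TensorProduct.map (chiBar χ 𝔞 h𝔞).toLinearMap (chiBar χ 𝔞 h𝔞).toLinearMap

@[simp] lemma sm_tmul (d₁ d₂ : C ⧸ 𝔞) :
    sm (B := B) χ 𝔞 h𝔞 (d₁ ⊗ₜ[A] d₂) = chiBar χ 𝔞 h𝔞 d₁ ⊗ₜ[B] chiBar χ 𝔞 h𝔞 d₂ := rfl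

include hsurj hker in
theorem sm_injective : Function.Injective (sm (B := B) χ 𝔞 h𝔞) := by
  have hL := liftMap_chiBar_bijective χ 𝔞 h𝔞 hsurj hker
  let Le : B ⊗[A] (C ⧸ 𝔞) ≃ₗ[B] K :=
    LinearEquiv.ofBijective (liftAlg (B := B) (chiBar χ 𝔞 h𝔞)).toLinearMap hL
  have hfac : ∀ t : (C ⧸ 𝔞) ⊗[A] (C ⧸ 𝔞), sm (B := B) χ 𝔞 h𝔞 t =
      (TensorProduct.congr Le Le)
        (AlgebraTensorModule.distribBaseChange A B (C ⧸ 𝔞) (C ⧸ 𝔞) ((1 : B) ⊗ₜ[A] t)) := by
    intro t
    induction t using TensorProduct.induction_on with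
    | zero => simp
    | add x y hx hy => simp only [map_add, tmul_add, hx, hy]
    | tmul d₁ d₂ =>
      rw [AlgebraTensorModule.distribBaseChange_tmul, TensorProduct.congr_tmul, sm_tmul]
      show _ = (liftAlg (B := B) (chiBar χ 𝔞 h𝔞) ((1 : B) ⊗ₜ[A] d₁)) ⊗ₜ[B]
        (liftAlg (B := B) (chiBar χ 𝔞 h𝔞) ((1 : B) ⊗ₜ[A] d₂))
      rw [liftAlg_tmul, liftAlg_tmul, one_smul, one_smul]
  rw [injective_iff_map_eq_zero]
  intro t ht
  rw [hfac] at ht
  have h1 := (TensorProduct.congr Le Le).injective (ht.trans (map_zero _).symm)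
  have h2 := (AlgebraTensorModule.distribBaseChange A B (C ⧸ 𝔞) (C ⧸ 𝔞)).injective
    (h1.trans (map_zero _).symm)
  apply Module.FaithfullyFlat.tensorProduct_mk_injective (A := A) (B := B)
    ((C ⧸ 𝔞) ⊗[A] (C ⧸ 𝔞))
  rw [map_zero]
  exact h2

lemma sm_map_mk (t : C ⊗[A] C) :
    sm (B := B) χ 𝔞 h𝔞 ((Algebra.TensorProduct.map (Ideal.Quotient.mkₐ A 𝔞) (Ideal.Quotient.mkₐ A 𝔞)) t) =
      semiMap A B χ.toLinearMap t := by
  induction t using TensorProduct.induction_on with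
  | zero => simp
  | add x y hx hy => simp only [map_add, hx, hy]
  | tmul c₁ c₂ => rfl

include hχ h𝔞 hsurj hker in
theorem isHopfIdeal_of_chart : 𝔞.IsHopfIdeal A := by
  have hmem : ∀ x : C, x ∈ 𝔞 ↔ χ x = 0 := by
    intro x
    rw [← h𝔞, RingHom.mem_ker]
  have hinj : Function.Injective (algebraMap A B) := FaithfulSMul.algebraMap_injective A B
  refine { counit_eq_zero := ?_, map_mkQ_comul_eq_zero := ?_, antipode_mem := ?_ }
  · intro x hx
    have hx' : χ x = 0 := (hmem x).mp hx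
    apply hinj
    rw [← hχ.counit, hx', map_zero, map_zero]
  · intro x hx
    have hx' : χ x = 0 := (hmem x).mp hx
    show (Algebra.TensorProduct.map (Ideal.Quotient.mkₐ A 𝔞) (Ideal.Quotient.mkₐ A 𝔞))
      (Coalgebra.comul (R := A) x) = 0
    apply sm_injective χ 𝔞 h𝔞 hsurj hker
    rw [sm_map_mk, ← hχ.comul, hx', map_zero, map_zero]
  · intro x hx
    have hx' : χ x = 0 := (hmem x).mp hx
    rw [hmem, Groth.Agent.Helper2.MultTypeMono.semi_antipode hχ, hx', map_zero]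

include hχ hsurj hker in
/-- the chart on the quotient Hopf algebra -/
theorem isSemiIso_chiBar [h : 𝔞.IsHopfIdeal A] : IsSemiIso A B (chiBar χ 𝔞 h𝔞) := by
  refine ⟨⟨?_, ?_⟩, ?_⟩
  · intro d
    obtain ⟨c, rfl⟩ := Ideal.Quotient.mk_surjective d
    rw [chiBar_mk, hχ.counit]
    rfl
  · intro d
    obtain ⟨c, rfl⟩ := Ideal.Quotient.mk_surjective d
    rw [chiBar_mk, hχ.comul, Bialgebra.Quotient.comul_mk]
    generalize Coalgebra.comul (R := A) c = t
    induction t using TensorProduct.induction_on with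
    | zero => simp
    | add x y hx hy => simp only [map_add, hx, hy]
    | tmul c₁ c₂ => rfl
  · have hL := liftMap_chiBar_bijective χ 𝔞 h𝔞 hsurj hker
    have h1 : (liftAlg (B := B) (chiBar χ 𝔞 h𝔞)).toLinearMap =
        LinearMap.liftBaseChange B (chiBar χ 𝔞 h𝔞).toLinearMap := by
      apply TensorProduct.AlgebraTensorModule.ext
      intro t h
      simp
    have h2 : ⇑(liftAlg (B := B) (chiBar χ 𝔞 h𝔞)) =
        ⇑(LinearMap.liftBaseChange B (chiBar χ 𝔞 h𝔞).toLinearMap) := by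
      rw [← h1]; rfl
    rw [← h2]
    exact hL

end HI

end Groth.Agent.Helper2.OC
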