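import Mathlib

/-!
# Flatness of the infinitesimal levels from flatness at the points of the special fibre
-/

set_option autoImplicit false

namespace Groth.Agent.Helper2.OC
open TensorProduct

section F1
variable {A : Type*} [CommRing A] (I : Ideal A) {C : Type*} [CommRing C] [Algebra A C]
  (hfl : ∀ (q : Ideal C) [q.IsPrime], Ideal.map (algebraMap A C) I ≤ q →
    Module.Flat A (Localization.AtPrime q))

include hfl in
/-- tensoring with `C` preserves injections of modules killed by a power of `I`, if `C` is flat
over `A` at the primes containing `IC` -/
theorem lTensor_injective_of_local_flat {N' N : Type*} [AddCommGroup N'] [Module A N']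
    [AddCommGroup N] [Module A N] (g : N' →ₗ[A] N) (hg : Function.Injective g) (m : ℕ)
    (hkill : ∀ a ∈ I ^ m, ∀ x : N', a • x = 0) : Function.Injective (g.lTensor C) := by
  rw [← AlgebraTensorModule.coe_lTensor (A := C)]
  refine injective_of_isLocalized_maximal _
    (fun P _ ↦ AlgebraTensorModule.rTensor A N' (Algebra.linearMap C (Localization.AtPrime P))) _
    (fun P _ ↦ AlgebraTensorModule.rTensor A N (Algebra.linearMap C (Localization.AtPrime P))) _
    fun P hP ↦ ?_
  rw [IsLocalizedModule.map_lTensor]
  by_cases h : I.map (algebraMap A C) ≤ P
  · haveI := hfl P h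
    exact Module.Flat.lTensor_preserves_injective_linearMap g hg
  · -- the source vanishes
    have hex : ∃ a ∈ I, algebraMap A C a ∉ P := by
      by_contra hcon
      push_neg at hcon
      apply h
      rw [Ideal.map_le_iff_le_comap]
      intro a ha
      exact hcon a ha
    obtain ⟨a, haI, haP⟩ := hex
    have hunit : IsUnit (algebraMap C (Localization.AtPrime P) (algebraMap A C a)) :=
      IsLocalization.map_units (Localization.AtPrime P)
        (⟨algebraMap A C a, haP⟩ : P.primeCompl)
    have hunit' : IsUnit (algebraMap A (Localization.AtPrime P) (a ^ m)) := by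
      rw [map_pow, IsScalarTower.algebraMap_apply A C (Localization.AtPrime P)]
      exact hunit.pow m
    obtain ⟨u, hu⟩ := hunit'
    have hsub : Subsingleton (Localization.AtPrime P ⊗[A] N') := by
      refine ⟨fun x y => ?_⟩
      have hz : ∀ z : Localization.AtPrime P ⊗[A] N', z = 0 := by
        intro z
        induction z using TensorProduct.induction_on with
        | zero => rfl
        | add x y hx hy => rw [hx, hy, add_zero]
        | tmul c n =>
          have : c = (a ^ m) • (c * ↑u⁻¹) := by
            rw [Algebra.smul_def, ← hu, mul_comm c, ← mul_assoc, Units.mul_inv, one_mul]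
          rw [this, TensorProduct.smul_tmul, hkill (a ^ m) (Ideal.pow_mem_pow haI m), tmul_zero]
      rw [hz x, hz y]
    intro x y _
    exact Subsingleton.elim x y

end F1

section F3
universe u v
variable {A : Type*} [CommRing A] (I : Ideal A) {C : Type*} [CommRing C] [Algebra A C]
  (hfl : ∀ (q : Ideal C) [q.IsPrime], Ideal.map (algebraMap A C) I ≤ q →
    Module.Flat A (Localization.AtPrime q))

include hfl in
/-- the base change of `C` to an `A`-algebra killed by a power of `I` is flat -/
theorem flat_baseChange_of_local_flat (B' : Type u) [CommRing B'] [Algebra A B'] (m : ℕ)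
    (hB' : ∀ a ∈ I ^ m, algebraMap A B' a = 0) : Module.Flat B' (B' ⊗[A] C) := by
  rw [Module.Flat.iff_rTensor_preserves_injective_linearMap'.{u, u, _}]
  intro N P _ _ _ _ f hf
  letI : Module A P := Module.compHom P (algebraMap A B')
  haveI : IsScalarTower A B' P := IsScalarTower.of_algebraMap_smul (fun r x => rfl)
  letI : Module A N := Module.compHom N (algebraMap A B')
  haveI : IsScalarTower A B' N := IsScalarTower.of_algebraMap_smul (fun r x => rfl)
  let eN := AlgebraTensorModule.cancelBaseChange A B' B' N C
  let eP := AlgebraTensorModule.cancelBaseChange A B' B' P C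
  let g : N →ₗ[A] P := f.restrictScalars A
  have hg : Function.Injective g := hf
  have hkill : ∀ a ∈ I ^ m, ∀ x : N, a • x = 0 := by
    intro a ha x
    rw [← algebraMap_smul B' a x, hB' a ha, zero_smul]
  have h1 : Function.Injective (g.lTensor C) :=
    lTensor_injective_of_local_flat I hfl g hg m hkill
  have h2 : Function.Injective (g.rTensor C) := (g.lTensor_inj_iff_rTensor_inj C).mp h1
  have hnat : ∀ z, eP (f.rTensor (B' ⊗[A] C) z) = g.rTensor C (eN z) := by
    intro z
    induction z using TensorProduct.induction_on with
    | zero => simp
    | add x y hx hy => simp only [map_add, hx, hy]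
    | tmul n x =>
      induction x using TensorProduct.induction_on with
      | zero => simp
      | add x y hx hy => simp only [tmul_add, map_add, hx, hy]
      | tmul b c =>
        simp only [LinearMap.rTensor_tmul, eP, eN,
          AlgebraTensorModule.cancelBaseChange_tmul]
        show (b • f n) ⊗ₜ[A] c = (f (b • n)) ⊗ₜ[A] c
        rw [map_smul]
  intro x y hxy
  apply eN.injective
  apply h2
  rw [← hnat, ← hnat, hxy]

end F3

end Groth.Agent.Helper2.OC
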