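import Mathlib
import Groth.Prelude.Def_SGA3b
import Groth.Agent.Helper2.OCSetup
import Groth.Agent.Helper2.OCCore
import Groth.Agent.Helper2.OCLocFlat
import Groth.Agent.Helper2.OCDesc2
import Groth.Agent.Helper2.OCHopfId
import Groth.Agent.Helper2.OCTorus

/-!
# S5285: the open and closed isotrivial subgroup over a complete base
-/

set_option autoImplicit false

namespace Groth.Agent.Helper2.OC
open TensorProduct Groth.Agent.Helper2.MultTypeSemi Groth.Agent.Helper2.SemiIso
  Groth.Agent.Helper2.NilSplit Groth.Agent.Helper2.NilLift Groth.Agent.Helper2.ADiag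
  Groth.Agent.Helper2.DefApp Groth.Agent.Helper2.MultTypeChart SGA3b

universe u

section main
variable (A : Type u) [CommRing A] [IsNoetherianRing A] (I : Ideal A) [IsAdicComplete I A]
  (C : Type u) [CommRing C] [HopfAlgebra A C]

/-- finite modules over a complete noetherian ring are separated -/
theorem sep_of_finite (R₂ : Type*) [CommRing R₂] [Algebra A R₂] [Module.Finite A R₂] :
    ∀ r : R₂, (∀ n, r ∈ (I ^ n • ⊤ : Submodule A R₂)) → r = 0 := by
  intro r hr
  have h1 := Ideal.iInf_pow_smul_eq_bot_of_le_jacobson (M := R₂) I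
    (IsAdicComplete.le_jacobson_bot I)
  have h2 : r ∈ (⨅ i : ℕ, I ^ i • ⊤ : Submodule A R₂) := by
    rw [Submodule.mem_iInf]
    exact hr
  rw [h1] at h2
  exact h2

/-- level flatness from flatness at the points of the special fibre -/
theorem level_flat
    (hfl : ∀ (q : Ideal C) [q.IsPrime], Ideal.map (algebraMap A C) I ≤ q →
      Module.Flat A (Localization.AtPrime q))
    (B : Type u) [CommRing B] [Algebra A B] (J : Ideal B) (hJ : J = I.map (algebraMap A B)) (n : ℕ) :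
    Module.Flat (B ⧸ Kp J n) ((B ⧸ Kp J n) ⊗[B] (B ⊗[A] C)) := by
  have hB' : ∀ a ∈ I ^ (n + 1), algebraMap A (B ⧸ Kp J n) a = 0 := by
    intro a ha
    rw [IsScalarTower.algebraMap_apply A B (B ⧸ Kp J n), Ideal.Quotient.algebraMap_eq,
      Ideal.Quotient.eq_zero_iff_mem, Kp_def, hJ, ← Ideal.map_pow]
    exact Ideal.mem_map_of_mem _ ha
  haveI : Module.Flat (B ⧸ Kp J n) ((B ⧸ Kp J n) ⊗[A] C) :=
    flat_baseChange_of_local_flat I hfl (B ⧸ Kp J n) (n + 1) hB'
  exact Module.Flat.of_linearEquiv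
    (AlgebraTensorModule.cancelBaseChange A B (B ⧸ Kp J n) (B ⧸ Kp J n) C)

theorem s5285 (hft : Algebra.FiniteType A C)
    (hfl : ∀ (q : Ideal C) [q.IsPrime], Ideal.map (algebraMap A C) I ≤ q →
      Module.Flat A (Localization.AtPrime q))
    (h0 : IsIsotrivial (A ⧸ I) ((A ⧸ I) ⊗[A] C)) :
    ∃ e : C, IsIdempotentElem e ∧ e ∈ Ideal.map (algebraMap A C) I ∧
      ∃ _ : (Ideal.span {e}).IsHopfIdeal A, IsIsotrivial A (C ⧸ Ideal.span {e}) := by
  obtain ⟨Rb', _, _, hEt, hFin, hFF, M, _, ⟨e₀⟩⟩ := h0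
  letI : Algebra A Rb' := ((algebraMap (A ⧸ I) Rb').comp (algebraMap A (A ⧸ I))).toAlgebra
  haveI : IsScalarTower A (A ⧸ I) Rb' := IsScalarTower.of_algebraMap_eq (fun _ => rfl)
  let χ₀ := chart A C (A ⧸ I) Rb' M e₀
  have hχ₀ : IsSemiIso A Rb' χ₀ := chart_isSemiIso _ _ _ _ _ e₀
  obtain ⟨B, _, _, _, _, hBfin, hBet, hBff, hBn, hπs, hker, hcpl⟩ := exists_cover A I Rb'
  haveI := hBn
  haveI := hcpl
  haveI := hft
  haveI := hBfin
  haveI := hBet
  haveI := hBff
  set J : Ideal B := RingHom.ker (algebraMap B Rb') with hJ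
  have hftH : Algebra.FiniteType B (B ⊗[A] C) := Algebra.FiniteType.baseChange B
  have hflat : ∀ n, Module.Flat (B ⧸ Kp J n) ((B ⧸ Kp J n) ⊗[B] (B ⊗[A] C)) :=
    fun n => level_flat A I C hfl B J hker n
  obtain ⟨φ, e', hsurj, he1, he2, he3⟩ :=
    core hπs hflat hftH (liftMap A B χ₀) (hχ₀.lift A B Rb')
  -- `e'` lies in `I (B ⊗ C)`
  have heI : e' ∈ (I • ⊤ : Submodule A (B ⊗[A] C)) := by
    rw [Ideal.smul_top_eq_map]
    show e' ∈ Ideal.map (algebraMap A (B ⊗[A] C)) I
    rw [← hJ, hker, Ideal.map_map] at he2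
    rw [IsScalarTower.algebraMap_eq A B (B ⊗[A] C)]
    exact he2
  -- separatedness of `B ⊗ B` and invariance
  have hinv : p1 e' = p2 e' :=
    map_eq_map I φ (R₂ := B ⊗[A] B) Algebra.TensorProduct.includeLeft
      Algebra.TensorProduct.includeRight hsurj e' he1 he3 (sep_of_finite A I (B ⊗[A] B)) heI
  -- the retraction
  haveI : Module.FinitePresentation A B := Module.finitePresentation_of_finite A B
  haveI : Module.Projective A B := Module.Flat.projective_of_finitePresentation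
  obtain ⟨ρ, hρ⟩ := exists_retraction A B
  set e : C := contr0 ρ e' with he
  have he' : e' = (1 : B) ⊗ₜ[A] e := eq_one_tmul_of_p1_eq_p2 ρ hρ e' hinv
  have hinj : Function.Injective (TensorProduct.mk A B C 1) :=
    Module.FaithfullyFlat.tensorProduct_mk_injective (A := A) (B := B) C
  have hidem : IsIdempotentElem e := by
    apply hinj
    show (1 : B) ⊗ₜ[A] (e * e) = (1 : B) ⊗ₜ[A] e
    have := he1.eq
    rw [he', Algebra.TensorProduct.tmul_mul_tmul, mul_one] at this
    exact this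
  have hmem : e ∈ Ideal.map (algebraMap A C) I := by
    have h1 : e ∈ (I • ⊤ : Submodule A C) := map_mem_smul_top' I (contr0 ρ) heI
    rw [Ideal.smul_top_eq_map] at h1
    exact h1
  -- the chart
  let χ : C →ₐ[A] MonoidAlgebra B M :=
    ((φ : B ⊗[A] C →ₐ[B] MonoidAlgebra B M).restrictScalars A).comp
      (Algebra.TensorProduct.includeRight : C →ₐ[A] B ⊗[A] C)
  have hχ : IsSemiCoalg A B χ :=
    (isSemiCoalg_includeRight A B C).comp A B B (isSemiCoalg_bialgHom B φ)
  have hlift : ∀ z, liftMap A B χ z = φ z := by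
    intro z
    induction z using TensorProduct.induction_on with
    | zero => simp
    | add x y hx hy => simp only [map_add, hx, hy]
    | tmul b c =>
      rw [liftMap_tmul]
      show b • φ ((1 : B) ⊗ₜ[A] c) = φ (b ⊗ₜ[A] c)
      rw [← map_smul, TensorProduct.smul_tmul', smul_eq_mul, mul_one]
  have hsurj' : Function.Surjective (liftMap A B χ) := by
    intro y
    obtain ⟨z, rfl⟩ := hsurj y
    exact ⟨z, hlift z⟩
  have hker' : RingHom.ker (liftMap A B χ) =
      (Ideal.span {e}).map (Algebra.TensorProduct.includeRight : C →ₐ[A] B ⊗[A] C) := by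
    have h1 : RingHom.ker (liftMap A B χ) =
        RingHom.ker (φ : B ⊗[A] C →ₐ[B] MonoidAlgebra B M) := by
      ext z
      rw [RingHom.mem_ker, RingHom.mem_ker, hlift]
      rfl
    rw [h1, he3, he', Ideal.map_span, Set.image_singleton]
    rfl
  have h𝔞 : RingHom.ker χ = Ideal.span {e} := by
    ext c
    rw [RingHom.mem_ker, Ideal.mem_span_singleton']
    constructor
    · intro hc
      have h1 : (1 : B) ⊗ₜ[A] c ∈ RingHom.ker (φ : B ⊗[A] C →ₐ[B] MonoidAlgebra B M) := hc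
      rw [he3, he', Ideal.mem_span_singleton'] at h1
      obtain ⟨a, ha⟩ := h1
      refine ⟨c, ?_⟩
      apply hinj
      show (1 : B) ⊗ₜ[A] (c * e) = (1 : B) ⊗ₜ[A] c
      have h2 : ((1 : B) ⊗ₜ[A] c) * ((1 : B) ⊗ₜ[A] e) = (1 : B) ⊗ₜ[A] c := by
        rw [← ha, mul_assoc, Algebra.TensorProduct.tmul_mul_tmul, mul_one, hidem.eq]
      rw [Algebra.TensorProduct.tmul_mul_tmul, mul_one] at h2
      exact h2
    · rintro ⟨a, rfl⟩
      show φ ((1 : B) ⊗ₜ[A] (a * e)) = 0
      have h1 : (1 : B) ⊗ₜ[A] (a * e) ∈ RingHom.ker (φ : B ⊗[A] C →ₐ[B] MonoidAlgebra B M) := by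
        rw [he3, he', Ideal.mem_span_singleton']
        refine ⟨(1 : B) ⊗ₜ[A] a, ?_⟩
        rw [Algebra.TensorProduct.tmul_mul_tmul, mul_one]
      exact h1
  have hHopf : (Ideal.span {e}).IsHopfIdeal A :=
    isHopfIdeal_of_chart χ hχ (Ideal.span {e}) h𝔞 hsurj' hker'
  refine ⟨e, hidem, hmem, hHopf, ?_⟩
  have hsemi : IsSemiIso A B (chiBar χ (Ideal.span {e}) h𝔞) :=
    isSemiIso_chiBar χ hχ (Ideal.span {e}) h𝔞 hsurj' hker'
  exact ⟨B, inferInstance, inferInstance, hBet, hBfin, hBff,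
    ⟨M, inferInstance, ⟨bialgEquivOfChart _ hsemi⟩⟩⟩

end main

end Groth.Agent.Helper2.OC
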