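import Mathlib
import Groth.Prelude.Def_SGA3b
import Groth.Agent.Helper2.X4Local1
import Groth.Agent.Helper2.ConnIdem2
import Groth.Agent.Helper2.HopfModel
import Groth.Agent.S5285
import Groth.Agent.S0543

/-!
# SGA3 X.4: the local theorem (flat case)
-/

set_option autoImplicit false

namespace Groth.Agent.Helper2.X4
open TensorProduct IsLocalRing Groth.Agent.Helper2.MultTypeSemi Groth.Agent.Helper2.SemiIso
  Groth.Agent.Helper2.NilSplit Groth.Agent.Helper2.NilLift Groth.Agent.Helper2.QL
  Groth.Agent.Helper2.HopfTors Groth.Agent.Helper2.MultTypeChart Groth.Agent.Helper2.CDBC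
  Groth.Agent.Helper2.DefApp SGA3b

universe u

section noeth
variable (S₁ : Type u) [CommRing S₁] [IsNoetherianRing S₁] [IsLocalRing S₁]
  (S : Type u) [CommRing S] [IsLocalRing S] [Algebra S₁ S] [IsLocalHom (algebraMap S₁ S)]
  (C₁ : Type u) [CommRing C₁] [HopfAlgebra S₁ C₁] [Module.Flat S₁ C₁]
  (C : Type u) [CommRing C] [HopfAlgebra S C] [Algebra S₁ C] [IsScalarTower S₁ S C]

/-- the local theorem, given a noetherian local model -/
theorem isMultType_of_model (hft : Algebra.FiniteType S₁ C₁)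
    (j₁ : C₁ →ₐ[S₁] C) (hj₁ : IsSemiIso S₁ S j₁)
    (hs : IsMultType (ResidueField S) (ResidueField S ⊗[S] C))
    (hconn : ∀ (p : Ideal S) [p.IsPrime], ConnectedSpace (PrimeSpectrum (p.ResidueField ⊗[S] C))) :
    IsMultType S C := by
  haveI := hft
  haveI : IsNoetherianRing (AdicCompletion (maximalIdeal S₁) S₁) :=
    Groth.Agent.S0543.result S₁ (maximalIdeal S₁)
  have h0 := isIsotrivial_closed_fibre S₁ S C₁ C hft j₁ hj₁ hs
  have hftC : Algebra.FiniteType (AdicCompletion (maximalIdeal S₁) S₁)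
      (AdicCompletion (maximalIdeal S₁) S₁ ⊗[S₁] C₁) := inferInstance
  have hfl : ∀ (q : Ideal (AdicCompletion (maximalIdeal S₁) S₁ ⊗[S₁] C₁)) [q.IsPrime],
      Ideal.map (algebraMap (AdicCompletion (maximalIdeal S₁) S₁)
        (AdicCompletion (maximalIdeal S₁) S₁ ⊗[S₁] C₁))
        (maximalIdeal (AdicCompletion (maximalIdeal S₁) S₁)) ≤ q →
      Module.Flat (AdicCompletion (maximalIdeal S₁) S₁) (Localization.AtPrime q) := by
    intro q _ _
    exact Module.Flat.trans (AdicCompletion (maximalIdeal S₁) S₁)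
      (AdicCompletion (maximalIdeal S₁) S₁ ⊗[S₁] C₁) (Localization.AtPrime q)
  obtain ⟨e, he, -, hH, E, _, _, hEt, hFin, hFF, M, _, ⟨β⟩⟩ :=
    Groth.Agent.S5285.result (AdicCompletion (maximalIdeal S₁) S₁)
      (maximalIdeal (AdicCompletion (maximalIdeal S₁) S₁))
      (AdicCompletion (maximalIdeal S₁) S₁ ⊗[S₁] C₁) hftC hfl h0
  haveI := hH
  haveI := hFF
  haveI : Module.FaithfullyFlat S₁ (AdicCompletion (maximalIdeal S₁) S₁) :=
    Module.FaithfullyFlat.of_flat_of_isLocalHom
  letI : Algebra S₁ E := ((algebraMap (AdicCompletion (maximalIdeal S₁) S₁) E).comp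
    (algebraMap S₁ (AdicCompletion (maximalIdeal S₁) S₁))).toAlgebra
  haveI : IsScalarTower S₁ (AdicCompletion (maximalIdeal S₁) S₁) E :=
    IsScalarTower.of_algebraMap_eq (fun _ => rfl)
  haveI : Module.FaithfullyFlat S₁ E :=
    Module.FaithfullyFlat.trans S₁ (AdicCompletion (maximalIdeal S₁) S₁) E
  obtain ⟨T, _, _, _, _, _, _, hffT⟩ := exists_pushout S₁ S E
  haveI := hffT
  letI : Algebra (AdicCompletion (maximalIdeal S₁) S₁) T :=
    ((algebraMap E T).comp (algebraMap (AdicCompletion (maximalIdeal S₁) S₁) E)).toAlgebra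
  haveI : IsScalarTower (AdicCompletion (maximalIdeal S₁) S₁) E T :=
    IsScalarTower.of_algebraMap_eq (fun _ => rfl)
  haveI : IsScalarTower S₁ (AdicCompletion (maximalIdeal S₁) S₁) T :=
    IsScalarTower.of_algebraMap_eq (fun x => by
      rw [IsScalarTower.algebraMap_apply S₁ E T]
      rfl)
  let γ₀ : C₁ →ₐ[S₁] T ⊗[S] C :=
    ((Algebra.TensorProduct.includeRight : C →ₐ[S] T ⊗[S] C).restrictScalars S₁).comp j₁
  have hγ₀ : IsSemiIso S₁ T γ₀ := hj₁.comp S₁ S T (isSemiIso_includeRight S T C)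
  let γ := liftMap S₁ (AdicCompletion (maximalIdeal S₁) S₁) γ₀
  have hγ : IsSemiIso (AdicCompletion (maximalIdeal S₁) S₁) T γ :=
    hγ₀.lift S₁ (AdicCompletion (maximalIdeal S₁) S₁) T
  have hCONN := Groth.Agent.Helper2.ConnIdem2.idem_eq_zero_of_conn S T C hconn
  exact isMultType_of_clopen S C (AdicCompletion (maximalIdeal S₁) S₁)
    (AdicCompletion (maximalIdeal S₁) S₁ ⊗[S₁] C₁) T hCONN γ hγ e he E M β

end noeth

section main

/-- **SGA3 X 4.8 (c), local flat form**: over a local ring, a flat finitely presented affine group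
with connected fibres whose closed fibre is of multiplicative type is of multiplicative type. -/
theorem isMultType_of_isLocalRing (S : Type u) [CommRing S] [IsLocalRing S]
    (C : Type u) [CommRing C] [HopfAlgebra S C] [Module.Flat S C]
    (hfp : Algebra.FinitePresentation S C)
    (hs : IsMultType (ResidueField S) (ResidueField S ⊗[S] C))
    (hconn : ∀ (p : Ideal S) [p.IsPrime], ConnectedSpace (PrimeSpectrum (p.ResidueField ⊗[S] C))) :
    IsMultType S C := by
  obtain ⟨S₀, _, _, C₀, _, _, _, _, θ₀, -, hftZ, hflat₀, hft₀, hθ₀⟩ :=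
    Groth.Agent.Helper2.HopfModel.exists_hopf_model S C hfp
  haveI : IsNoetherianRing S₀ := Algebra.FiniteType.isNoetherianRing ℤ S₀
  haveI := hflat₀
  haveI := hft₀
  let p₀ : Ideal S₀ := (maximalIdeal S).comap (algebraMap S₀ S)
  haveI : p₀.IsPrime := Ideal.comap_isPrime _ _
  have hunits : ∀ y : p₀.primeCompl, IsUnit (algebraMap S₀ S y) := by
    intro y
    have : (y : S₀) ∉ p₀ := y.2
    rw [Ideal.mem_comap, mem_maximalIdeal, mem_nonunits_iff, not_not] at this
    exact this
  letI : Algebra (Localization.AtPrime p₀) S :=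
    (IsLocalization.lift (M := p₀.primeCompl) (S := Localization.AtPrime p₀) hunits).toAlgebra
  haveI : IsScalarTower S₀ (Localization.AtPrime p₀) S :=
    IsScalarTower.of_algebraMap_eq (fun x => (IsLocalization.lift_eq hunits x).symm)
  haveI : IsLocalHom (algebraMap (Localization.AtPrime p₀) S) :=
    isLocalHom_of_lift S₀ S (Localization.AtPrime p₀) p₀ rfl
  letI : Algebra (Localization.AtPrime p₀) C :=
    ((algebraMap S C).comp (algebraMap (Localization.AtPrime p₀) S)).toAlgebra
  haveI : IsScalarTower (Localization.AtPrime p₀) S C :=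
    IsScalarTower.of_algebraMap_eq (fun _ => rfl)
  haveI : IsScalarTower S₀ (Localization.AtPrime p₀) C :=
    IsScalarTower.of_algebraMap_eq (fun x => by
      rw [IsScalarTower.algebraMap_apply S₀ S C,
        IsScalarTower.algebraMap_apply S₀ (Localization.AtPrime p₀) S]
      rfl)
  let j₁ := liftMap S₀ (Localization.AtPrime p₀) θ₀
  have hj₁ : IsSemiIso (Localization.AtPrime p₀) S j₁ := hθ₀.lift S₀ (Localization.AtPrime p₀) S
  exact isMultType_of_model (Localization.AtPrime p₀) S (Localization.AtPrime p₀ ⊗[S₀] C₀) C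
    inferInstance j₁ hj₁ hs hconn

end main

end Groth.Agent.Helper2.X4
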