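import Mathlib
import Groth.Prelude.Def_SGA3b
import Groth.Agent.Helper2.X4Local2
import Groth.Agent.Helper2.X4CoreB

/-!
# SGA3 X.4 (b): the local theorem (flat case, finite torsion)
-/

set_option autoImplicit false

namespace Groth.Agent.Helper2.X4
open TensorProduct IsLocalRing Groth.Agent.Helper2.MultTypeSemi Groth.Agent.Helper2.SemiIso
  Groth.Agent.Helper2.NilSplit Groth.Agent.Helper2.NilLift Groth.Agent.Helper2.QL
  Groth.Agent.Helper2.HopfTors Groth.Agent.Helper2.MultTypeChart Groth.Agent.Helper2.CDBC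
  Groth.Agent.Helper2.DefApp SGA3b

universe u

section pushoutLocal

attribute [local instance] Algebra.TensorProduct.rightAlgebra in
/-- a common faithfully flat local extension -/
theorem exists_pushout_local (S₁ S E : Type u) [CommRing S₁] [CommRing S] [IsLocalRing S]
    [CommRing E] [Algebra S₁ S] [Algebra S₁ E] [Module.FaithfullyFlat S₁ E] :
    ∃ (T : Type u) (_ : CommRing T) (_ : IsLocalRing T) (_ : Algebra S T) (_ : Algebra E T)
      (_ : Algebra S₁ T) (_ : IsScalarTower S₁ S T) (_ : IsScalarTower S₁ E T)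
      (_ : Module.FaithfullyFlat S T), IsLocalHom (algebraMap S T) := by
  let T₀ := S ⊗[S₁] E
  haveI : Module.FaithfullyFlat S T₀ := inferInstance
  have hne : Ideal.map (algebraMap S T₀) (maximalIdeal S) ≠ ⊤ := by
    intro h
    have h1 := Module.FaithfullyFlat.submodule_ne_top (R := S) (M := T₀)
      (maximalIdeal.isMaximal S)
    apply h1
    rw [Ideal.smul_top_eq_map, h]
    rfl
  obtain ⟨𝔫, h𝔫, hle⟩ := Ideal.exists_le_maximal _ hne
  haveI := h𝔫
  haveI : 𝔫.IsPrime := h𝔫.isPrime
  let T := Localization.AtPrime 𝔫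
  haveI : IsScalarTower S₁ S T := IsScalarTower.of_algebraMap_eq (fun x => by
    rw [IsScalarTower.algebraMap_apply S₁ T₀ T, IsScalarTower.algebraMap_apply S T₀ T,
      IsScalarTower.algebraMap_apply S₁ S T₀])
  haveI : IsScalarTower S₁ E T := IsScalarTower.of_algebraMap_eq (fun x => by
    rw [IsScalarTower.algebraMap_apply S₁ T₀ T, IsScalarTower.algebraMap_apply E T₀ T,
      IsScalarTower.algebraMap_apply S₁ E T₀])
  haveI : Module.Flat T₀ T := IsLocalization.flat T 𝔫.primeCompl
  haveI : Module.Flat S T := Module.Flat.trans S T₀ T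
  haveI : IsLocalHom (algebraMap S T) := by
    constructor
    intro s hs
    by_contra hns
    have h1 : s ∈ maximalIdeal S := hns
    have h2 : algebraMap S T₀ s ∈ 𝔫 := hle (Ideal.mem_map_of_mem _ h1)
    rw [IsScalarTower.algebraMap_apply S T₀ T,
      IsLocalization.AtPrime.isUnit_to_map_iff T 𝔫] at hs
    exact hs h2
  haveI : Module.FaithfullyFlat S T := Module.FaithfullyFlat.of_flat_of_isLocalHom
  exact ⟨T, inferInstance, inferInstance, inferInstance, inferInstance, inferInstance,
    inferInstance, inferInstance, inferInstance, inferInstance⟩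

end pushoutLocal

section noethB
variable (S₁ : Type u) [CommRing S₁] [IsNoetherianRing S₁] [IsLocalRing S₁]
  (S : Type u) [CommRing S] [IsLocalRing S] [Algebra S₁ S] [IsLocalHom (algebraMap S₁ S)]
  (C₁ : Type u) [CommRing C₁] [HopfAlgebra S₁ C₁] [Module.Flat S₁ C₁]
  (C : Type u) [CommRing C] [HopfAlgebra S C] [Algebra S₁ C] [IsScalarTower S₁ S C]

/-- the local theorem (b), given a noetherian local model -/
theorem isMultType_of_model_b [Coalgebra.IsCocomm S C] (hft : Algebra.FiniteType S₁ C₁)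
    (hftC : Algebra.FiniteType S C)
    (j₁ : C₁ →ₐ[S₁] C) (hj₁ : IsSemiIso S₁ S j₁)
    (hs : IsMultType (ResidueField S) (ResidueField S ⊗[S] C))
    (hfin : ∀ n : ℕ, 0 < n → Module.Finite S (C ⧸ torsionIdeal S C n)) :
    IsMultType S C := by
  haveI := hft
  haveI : IsNoetherianRing (AdicCompletion (maximalIdeal S₁) S₁) :=
    Groth.Agent.S0543.result S₁ (maximalIdeal S₁)
  have h0 := isIsotrivial_closed_fibre S₁ S C₁ C hft j₁ hj₁ hs
  have hftC' : Algebra.FiniteType (AdicCompletion (maximalIdeal S₁) S₁)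
      (AdicCompletion (maximalIdeal S₁) S₁ ⊗[S₁] C₁) := inferInstance
  have hfl : ∀ (q : Ideal (AdicCompletion (maximalIdeal S₁) S₁ ⊗[S₁] C₁)) [q.IsPrime],
      Ideal.map (algebraMap (AdicCompletion (maximalIdeal S₁) S₁)
        (AdicCompletion (maximalIdeal S₁) S₁ ⊗[S₁] C₁))
        (maximalIdeal (AdicCompletion (maximalIdeal S₁) S₁)) ≤ q →
      Module.Flat (AdicCompletion (maximalIdeal S₁) S₁) (Localization.AtPrime q) := by
    intro q _ _
    exact Module.Flat.trans (AdicCompletion (maximalIdeal S₁) S₁)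
      (AdicCompletion (maximalIdeal S₁) S₁ ⊗[S₁] C₁) (Localization.AtPrime q)
  obtain ⟨e, he, hemem, hH, E, _, _, hEt, hFin, hFF, M, _, ⟨β⟩⟩ :=
    Groth.Agent.S5285.result (AdicCompletion (maximalIdeal S₁) S₁)
      (maximalIdeal (AdicCompletion (maximalIdeal S₁) S₁))
      (AdicCompletion (maximalIdeal S₁) S₁ ⊗[S₁] C₁) hftC' hfl h0
  haveI := hH
  haveI := hFF
  haveI : Module.FaithfullyFlat S₁ (AdicCompletion (maximalIdeal S₁) S₁) :=
    Module.FaithfullyFlat.of_flat_of_isLocalHom
  letI : Algebra S₁ E := ((algebraMap (AdicCompletion (maximalIdeal S₁) S₁) E).comp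
    (algebraMap S₁ (AdicCompletion (maximalIdeal S₁) S₁))).toAlgebra
  haveI : IsScalarTower S₁ (AdicCompletion (maximalIdeal S₁) S₁) E :=
    IsScalarTower.of_algebraMap_eq (fun _ => rfl)
  haveI : Module.FaithfullyFlat S₁ E :=
    Module.FaithfullyFlat.trans S₁ (AdicCompletion (maximalIdeal S₁) S₁) E
  obtain ⟨T, _, _, _, _, _, _, _, hffT, hloc⟩ := exists_pushout_local S₁ S E
  haveI := hffT
  haveI := hloc
  letI : Algebra (AdicCompletion (maximalIdeal S₁) S₁) T :=
    ((algebraMap E T).comp (algebraMap (AdicCompletion (maximalIdeal S₁) S₁) E)).toAlgebra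
  haveI : IsScalarTower (AdicCompletion (maximalIdeal S₁) S₁) E T :=
    IsScalarTower.of_algebraMap_eq (fun _ => rfl)
  haveI : IsScalarTower S₁ (AdicCompletion (maximalIdeal S₁) S₁) T :=
    IsScalarTower.of_algebraMap_eq (fun x => by
      rw [IsScalarTower.algebraMap_apply S₁ E T]
      rfl)
  let γ₀ : C₁ →ₐ[S₁] T ⊗[S] C :=
    ((Algebra.TensorProduct.includeRight : C →ₐ[S] T ⊗[S] C).restrictScalars S₁).comp j₁
  have hγ₀ : IsSemiIso S₁ T γ₀ := hj₁.comp S₁ S T (isSemiIso_includeRight S T C)
  let γ := liftMap S₁ (AdicCompletion (maximalIdeal S₁) S₁) γ₀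
  have hγ : IsSemiIso (AdicCompletion (maximalIdeal S₁) S₁) T γ :=
    hγ₀.lift S₁ (AdicCompletion (maximalIdeal S₁) S₁) T
  -- the maximal ideal of the completion maps into the maximal ideal of `T`
  have hmax : ∀ x ∈ maximalIdeal (AdicCompletion (maximalIdeal S₁) S₁),
      algebraMap (AdicCompletion (maximalIdeal S₁) S₁) T x ∈ maximalIdeal T := by
    intro x hx
    rw [AdicCompletion.maximalIdeal_eq_map] at hx
    have hle : Ideal.map (algebraMap S₁ (AdicCompletion (maximalIdeal S₁) S₁)) (maximalIdeal S₁) ≤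
        (maximalIdeal T).comap (algebraMap (AdicCompletion (maximalIdeal S₁) S₁) T) := by
      rw [Ideal.map_le_iff_le_comap]
      intro y hy
      rw [Ideal.mem_comap, Ideal.mem_comap, ← IsScalarTower.algebraMap_apply S₁ _ T,
        IsScalarTower.algebraMap_apply S₁ S T]
      have h1 : algebraMap S₁ S y ∈ maximalIdeal S := by
        rw [mem_maximalIdeal, mem_nonunits_iff] at hy ⊢
        exact fun h => hy (isUnit_of_map_unit (algebraMap S₁ S) y h)
      rw [mem_maximalIdeal, mem_nonunits_iff] at h1 ⊢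
      exact fun h => h1 (isUnit_of_map_unit (algebraMap S T) _ h)
    exact hle hx
  have hmem : γ e ∈ Ideal.map (algebraMap T (T ⊗[S] C)) (maximalIdeal T) := by
    have h1 : Ideal.map (algebraMap (AdicCompletion (maximalIdeal S₁) S₁)
        (AdicCompletion (maximalIdeal S₁) S₁ ⊗[S₁] C₁))
        (maximalIdeal (AdicCompletion (maximalIdeal S₁) S₁)) ≤
        (Ideal.map (algebraMap T (T ⊗[S] C)) (maximalIdeal T)).comap γ := by
      rw [Ideal.map_le_iff_le_comap]
      intro x hx
      rw [Ideal.mem_comap, Ideal.mem_comap, AlgHom.commutes,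
        IsScalarTower.algebraMap_apply (AdicCompletion (maximalIdeal S₁) S₁) T (T ⊗[S] C)]
      exact Ideal.mem_map_of_mem _ (hmax x hx)
    exact h1 hemem
  have hγe : γ e = 0 :=
    gamma_idem_eq_zero S C (AdicCompletion (maximalIdeal S₁) S₁)
      (AdicCompletion (maximalIdeal S₁) S₁ ⊗[S₁] C₁) T hftC hfin γ hγ e he hmem E M β
  exact isMultType_of_clopen' S C (AdicCompletion (maximalIdeal S₁) S₁)
    (AdicCompletion (maximalIdeal S₁) S₁ ⊗[S₁] C₁) T γ hγ e hγe E M β

end noethB

section mainB

/-- **SGA3 X 4.8 (b), local flat form**: over a local ring, a flat finitely presented commutative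
affine group with finite torsion subgroups whose closed fibre is of multiplicative type is of
multiplicative type. -/
theorem isMultType_of_isLocalRing_b (S : Type u) [CommRing S] [IsLocalRing S]
    (C : Type u) [CommRing C] [HopfAlgebra S C] [Coalgebra.IsCocomm S C] [Module.Flat S C]
    (hfp : Algebra.FinitePresentation S C)
    (hs : IsMultType (ResidueField S) (ResidueField S ⊗[S] C))
    (hfin : ∀ n : ℕ, 0 < n → Module.Finite S (C ⧸ torsionIdeal S C n)) :
    IsMultType S C := by
  obtain ⟨S₀, _, _, C₀, _, _, _, _, θ₀, -, hftZ, hflat₀, hft₀, hθ₀⟩ :=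
    Groth.Agent.Helper2.HopfModel.exists_hopf_model S C hfp
  haveI : IsNoetherianRing S₀ := Algebra.FiniteType.isNoetherianRing ℤ S₀
  haveI := hflat₀
  haveI := hft₀
  haveI := hfp
  let p₀ : Ideal S₀ := (maximalIdeal S).comap (algebraMap S₀ S)
  haveI : p₀.IsPrime := Ideal.comap_isPrime _ _
  have hunits : ∀ y : p₀.primeCompl, IsUnit (algebraMap S₀ S y) := by
    intro y
    have : (y : S₀) ∉ p₀ := y.2
    rw [Ideal.mem_comap, mem_maximalIdeal, mem_nonunits_iff, not_not] at this
    exact this
  letI : Algebra (Localization.AtPrime p₀) S :=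
    (IsLocalization.lift (M := p₀.primeCompl) (S := Localization.AtPrime p₀) hunits).toAlgebra
  haveI : IsScalarTower S₀ (Localization.AtPrime p₀) S :=
    IsScalarTower.of_algebraMap_eq (fun x => (IsLocalization.lift_eq hunits x).symm)
  haveI : IsLocalHom (algebraMap (Localization.AtPrime p₀) S) :=
    isLocalHom_of_lift S₀ S (Localization.AtPrime p₀) p₀ rfl
  letI : Algebra (Localization.AtPrime p₀) C :=
    ((algebraMap S C).comp (algebraMap (Localization.AtPrime p₀) S)).toAlgebra
  haveI : IsScalarTower (Localization.AtPrime p₀) S C :=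
    IsScalarTower.of_algebraMap_eq (fun _ => rfl)
  haveI : IsScalarTower S₀ (Localization.AtPrime p₀) C :=
    IsScalarTower.of_algebraMap_eq (fun x => by
      rw [IsScalarTower.algebraMap_apply S₀ S C,
        IsScalarTower.algebraMap_apply S₀ (Localization.AtPrime p₀) S]
      rfl)
  let j₁ := liftMap S₀ (Localization.AtPrime p₀) θ₀
  have hj₁ : IsSemiIso (Localization.AtPrime p₀) S j₁ := hθ₀.lift S₀ (Localization.AtPrime p₀) S
  exact isMultType_of_model_b (Localization.AtPrime p₀) S (Localization.AtPrime p₀ ⊗[S₀] C₀) C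
    inferInstance inferInstance j₁ hj₁ hs hfin

end mainB

end Groth.Agent.Helper2.X4
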