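import Mathlib
import Groth.Prelude.Def_SGA3b
import Groth.Agent.Helper2.X4LocalB
import Groth.Agent.Helper2.HopfNF9
import Groth.Agent.Helper2.BCFlatAt

/-!
# SGA3 X.4 (b): the local theorem (flat along the closed fibre only)
-/

set_option autoImplicit false

namespace Groth.Agent.Helper2.X4
open TensorProduct IsLocalRing Groth.Agent.Helper2.MultTypeSemi Groth.Agent.Helper2.SemiIso
  Groth.Agent.Helper2.NilSplit Groth.Agent.Helper2.NilLift Groth.Agent.Helper2.QL
  Groth.Agent.Helper2.HopfTors Groth.Agent.Helper2.MultTypeChart Groth.Agent.Helper2.CDBC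
  Groth.Agent.Helper2.DefApp SGA3b

universe u

section bc

attribute [local instance] Algebra.TensorProduct.rightAlgebra in
/-- base change of flatness at a point, for a tensor product -/
theorem flat_at_tensor (R R' S : Type u) [CommRing R] [CommRing R'] [CommRing S]
    [Algebra R R'] [Algebra R S] (q' : Ideal (R' ⊗[R] S)) [q'.IsPrime]
    (h : Module.Flat R (LocalizedModule
      (q'.comap (Algebra.TensorProduct.includeRight : S →ₐ[R] R' ⊗[R] S)).primeCompl S)) :
    Module.Flat R' (LocalizedModule q'.primeCompl (R' ⊗[R] S)) :=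
  Groth.Agent.Helper2.BCFlatAt.flatAt_baseChange (R := R) (S := S) (R' := R')
    (S' := R' ⊗[R] S) (Algebra.linearMap S (R' ⊗[R] S)) (IsBaseChange.linearMap S (R' ⊗[R] S)) q' h

/-- the same for the ring localisation -/
theorem flat_atPrime_tensor (R R' S : Type u) [CommRing R] [CommRing R'] [CommRing S]
    [Algebra R R'] [Algebra R S] (q' : Ideal (R' ⊗[R] S)) [q'.IsPrime]
    (h : Module.Flat R (LocalizedModule
      (q'.comap (Algebra.TensorProduct.includeRight : S →ₐ[R] R' ⊗[R] S)).primeCompl S)) :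
    Module.Flat R' (Localization.AtPrime q') := by
  have h1 := flat_at_tensor R R' S q' h
  let e : LocalizedModule q'.primeCompl (R' ⊗[R] S) ≃ₗ[R' ⊗[R] S] Localization.AtPrime q' :=
    IsLocalizedModule.iso q'.primeCompl (Algebra.linearMap (R' ⊗[R] S) (Localization.AtPrime q'))
  exact Module.Flat.of_linearEquiv (e.symm.restrictScalars R')

end bc

section noethC
variable (S₁ : Type u) [CommRing S₁] [IsNoetherianRing S₁] [IsLocalRing S₁]
  (S : Type u) [CommRing S] [IsLocalRing S] [Algebra S₁ S] [IsLocalHom (algebraMap S₁ S)]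
  (C₁ : Type u) [CommRing C₁] [HopfAlgebra S₁ C₁]
  (C : Type u) [CommRing C] [HopfAlgebra S C] [Algebra S₁ C] [IsScalarTower S₁ S C]

/-- the local theorem (b), given a noetherian local model flat along its closed fibre -/
theorem isMultType_of_model_c [Coalgebra.IsCocomm S C] (hft : Algebra.FiniteType S₁ C₁)
    (hfl₁ : ∀ (q₁ : Ideal C₁) [q₁.IsPrime],
      Ideal.map (algebraMap S₁ C₁) (maximalIdeal S₁) ≤ q₁ →
        Module.Flat S₁ (LocalizedModule q₁.primeCompl C₁))
    (hftC : Algebra.FiniteType S C)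
    (j₁ : C₁ →ₐ[S₁] C) (hj₁ : IsSemiIso S₁ S j₁)
    (hs : IsMultType (ResidueField S) (ResidueField S ⊗[S] C))
    (hfin : ∀ n : ℕ, 0 < n → Module.Finite S (C ⧸ torsionIdeal S C n)) :
    IsMultType S C := by
  haveI := hft
  haveI : IsNoetherianRing (AdicCompletion (maximalIdeal S₁) S₁) :=
    Groth.Agent.S0543.result S₁ (maximalIdeal S₁)
  have h0 := isIsotrivial_closed_fibre S₁ S C₁ C hft j₁ hj₁ hs
  have hftC' : Algebra.FiniteType (AdicCompletion (maximalIdeal S₁) S₁)
      (AdicCompletion (maximalIdeal S₁) S₁ ⊗[S₁] C₁) := inferInstance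
  have hfl : ∀ (q : Ideal (AdicCompletion (maximalIdeal S₁) S₁ ⊗[S₁] C₁)) [q.IsPrime],
      Ideal.map (algebraMap (AdicCompletion (maximalIdeal S₁) S₁)
        (AdicCompletion (maximalIdeal S₁) S₁ ⊗[S₁] C₁))
        (maximalIdeal (AdicCompletion (maximalIdeal S₁) S₁)) ≤ q →
      Module.Flat (AdicCompletion (maximalIdeal S₁) S₁) (Localization.AtPrime q) := by
    intro q _ hq
    apply flat_atPrime_tensor S₁ (AdicCompletion (maximalIdeal S₁) S₁) C₁ q
    apply hfl₁
    rw [Ideal.map_le_iff_le_comap]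
    intro x hx
    rw [Ideal.mem_comap, Ideal.mem_comap, AlgHom.commutes,
      IsScalarTower.algebraMap_apply S₁ (AdicCompletion (maximalIdeal S₁) S₁)
        (AdicCompletion (maximalIdeal S₁) S₁ ⊗[S₁] C₁)]
    apply hq
    apply Ideal.mem_map_of_mem
    rw [AdicCompletion.maximalIdeal_eq_map]
    exact Ideal.mem_map_of_mem _ hx
  obtain ⟨e, he, hemem, hH, E, _, _, hEt, hFin, hFF, M, _, ⟨β⟩⟩ :=
    Groth.Agent.S5285.result (AdicCompletion (maximalIdeal S₁) S₁)
      (maximalIdeal (AdicCompletion (maximalIdeal S₁) S₁))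
      (AdicCompletion (maximalIdeal S₁) S₁ ⊗[S₁] C₁) hftC' hfl h0
  haveI := hH
  haveI := hFF
  haveI : Module.FaithfullyFlat S₁ (AdicCompletion (maximalIdeal S₁) S₁) :=
    Module.FaithfullyFlat.of_flat_of_isLocalHom
  letI : Algebra S₁ E := ((algebraMap (AdicCompletion (maximalIdeal S₁) S₁) E).comp
    (algebraMap S₁ (AdicCompletion (maximalIdeal S₁) S₁))).toAlgebra
  haveI : IsScalarTower S₁ (AdicCompletion (maximalIdeal S₁) S₁) E :=
    IsScalarTower.of_algebraMap_eq (fun _ => rfl)
  haveI : Module.FaithfullyFlat S₁ E :=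
    Module.FaithfullyFlat.trans S₁ (AdicCompletion (maximalIdeal S₁) S₁) E
  obtain ⟨T, _, _, _, _, _, _, _, hffT, hloc⟩ := exists_pushout_local S₁ S E
  haveI := hffT
  haveI := hloc
  letI : Algebra (AdicCompletion (maximalIdeal S₁) S₁) T :=
    ((algebraMap E T).comp (algebraMap (AdicCompletion (maximalIdeal S₁) S₁) E)).toAlgebra
  haveI : IsScalarTower (AdicCompletion (maximalIdeal S₁) S₁) E T :=
    IsScalarTower.of_algebraMap_eq (fun _ => rfl)
  haveI : IsScalarTower S₁ (AdicCompletion (maximalIdeal S₁) S₁) T :=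
    IsScalarTower.of_algebraMap_eq (fun x => by
      rw [IsScalarTower.algebraMap_apply S₁ E T]
      rfl)
  let γ₀ : C₁ →ₐ[S₁] T ⊗[S] C :=
    ((Algebra.TensorProduct.includeRight : C →ₐ[S] T ⊗[S] C).restrictScalars S₁).comp j₁
  have hγ₀ : IsSemiIso S₁ T γ₀ := hj₁.comp S₁ S T (isSemiIso_includeRight S T C)
  let γ := liftMap S₁ (AdicCompletion (maximalIdeal S₁) S₁) γ₀
  have hγ : IsSemiIso (AdicCompletion (maximalIdeal S₁) S₁) T γ :=
    hγ₀.lift S₁ (AdicCompletion (maximalIdeal S₁) S₁) T
  -- the maximal ideal of the completion maps into the maximal ideal of `T`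
  have hmax : ∀ x ∈ maximalIdeal (AdicCompletion (maximalIdeal S₁) S₁),
      algebraMap (AdicCompletion (maximalIdeal S₁) S₁) T x ∈ maximalIdeal T := by
    intro x hx
    rw [AdicCompletion.maximalIdeal_eq_map] at hx
    have hle : Ideal.map (algebraMap S₁ (AdicCompletion (maximalIdeal S₁) S₁)) (maximalIdeal S₁) ≤
        (maximalIdeal T).comap (algebraMap (AdicCompletion (maximalIdeal S₁) S₁) T) := by
      rw [Ideal.map_le_iff_le_comap]
      intro y hy
      rw [Ideal.mem_comap, Ideal.mem_comap, ← IsScalarTower.algebraMap_apply S₁ _ T,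
        IsScalarTower.algebraMap_apply S₁ S T]
      have h1 : algebraMap S₁ S y ∈ maximalIdeal S := by
        rw [mem_maximalIdeal, mem_nonunits_iff] at hy ⊢
        exact fun h => hy (isUnit_of_map_unit (algebraMap S₁ S) y h)
      rw [mem_maximalIdeal, mem_nonunits_iff] at h1 ⊢
      exact fun h => h1 (isUnit_of_map_unit (algebraMap S T) _ h)
    exact hle hx
  have hmem : γ e ∈ Ideal.map (algebraMap T (T ⊗[S] C)) (maximalIdeal T) := by
    have h1 : Ideal.map (algebraMap (AdicCompletion (maximalIdeal S₁) S₁)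
        (AdicCompletion (maximalIdeal S₁) S₁ ⊗[S₁] C₁))
        (maximalIdeal (AdicCompletion (maximalIdeal S₁) S₁)) ≤
        (Ideal.map (algebraMap T (T ⊗[S] C)) (maximalIdeal T)).comap γ := by
      rw [Ideal.map_le_iff_le_comap]
      intro x hx
      rw [Ideal.mem_comap, Ideal.mem_comap, AlgHom.commutes,
        IsScalarTower.algebraMap_apply (AdicCompletion (maximalIdeal S₁) S₁) T (T ⊗[S] C)]
      exact Ideal.mem_map_of_mem _ (hmax x hx)
    exact h1 hemem
  have hγe : γ e = 0 :=
    gamma_idem_eq_zero S C (AdicCompletion (maximalIdeal S₁) S₁)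
      (AdicCompletion (maximalIdeal S₁) S₁ ⊗[S₁] C₁) T hftC hfin γ hγ e he hmem E M β
  exact isMultType_of_clopen' S C (AdicCompletion (maximalIdeal S₁) S₁)
    (AdicCompletion (maximalIdeal S₁) S₁ ⊗[S₁] C₁) T γ hγ e hγe E M β

end noethC

section mainC

/-- **SGA3 X 4.8 (b), local form**: over a local ring, a finitely presented commutative affine
group, flat at the points of the closed fibre, with finite torsion subgroups, whose closed fibre
is of multiplicative type is of multiplicative type. -/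
theorem isMultType_of_isLocalRing_c (S : Type u) [CommRing S] [IsLocalRing S]
    (C : Type u) [CommRing C] [HopfAlgebra S C] [Coalgebra.IsCocomm S C]
    (hfp : Algebra.FinitePresentation S C)
    (hfl : ∀ (q : Ideal C) [q.IsPrime], Ideal.map (algebraMap S C) (maximalIdeal S) ≤ q →
      Module.Flat S (Localization.AtPrime q))
    (hs : IsMultType (ResidueField S) (ResidueField S ⊗[S] C))
    (hfin : ∀ n : ℕ, 0 < n → Module.Finite S (C ⧸ torsionIdeal S C n)) :
    IsMultType S C := by
  obtain ⟨S₀, _, _, C₀, _, _, _, _, θ₀, hftZ, hft₀, hθ₀, hfl₀⟩ :=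
    Groth.Agent.Helper2.HopfNF.exists_hopf_model_nf S (maximalIdeal S) C hfp hfl
  haveI : IsNoetherianRing S₀ := Algebra.FiniteType.isNoetherianRing ℤ S₀
  haveI := hft₀
  haveI := hfp
  let p₀ : Ideal S₀ := (maximalIdeal S).comap (algebraMap S₀ S)
  haveI : p₀.IsPrime := Ideal.comap_isPrime _ _
  have hunits : ∀ y : p₀.primeCompl, IsUnit (algebraMap S₀ S y) := by
    intro y
    have : (y : S₀) ∉ p₀ := y.2
    rw [Ideal.mem_comap, mem_maximalIdeal, mem_nonunits_iff, not_not] at this
    exact this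
  letI : Algebra (Localization.AtPrime p₀) S :=
    (IsLocalization.lift (M := p₀.primeCompl) (S := Localization.AtPrime p₀) hunits).toAlgebra
  haveI : IsScalarTower S₀ (Localization.AtPrime p₀) S :=
    IsScalarTower.of_algebraMap_eq (fun x => (IsLocalization.lift_eq hunits x).symm)
  haveI : IsLocalHom (algebraMap (Localization.AtPrime p₀) S) :=
    isLocalHom_of_lift S₀ S (Localization.AtPrime p₀) p₀ rfl
  letI : Algebra (Localization.AtPrime p₀) C :=
    ((algebraMap S C).comp (algebraMap (Localization.AtPrime p₀) S)).toAlgebra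
  haveI : IsScalarTower (Localization.AtPrime p₀) S C :=
    IsScalarTower.of_algebraMap_eq (fun _ => rfl)
  haveI : IsScalarTower S₀ (Localization.AtPrime p₀) C :=
    IsScalarTower.of_algebraMap_eq (fun x => by
      rw [IsScalarTower.algebraMap_apply S₀ S C,
        IsScalarTower.algebraMap_apply S₀ (Localization.AtPrime p₀) S]
      rfl)
  let j₁ := liftMap S₀ (Localization.AtPrime p₀) θ₀
  have hj₁ : IsSemiIso (Localization.AtPrime p₀) S j₁ := hθ₀.lift S₀ (Localization.AtPrime p₀) S
  have hfl₁ : ∀ (q₁ : Ideal (Localization.AtPrime p₀ ⊗[S₀] C₀)) [q₁.IsPrime],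
      Ideal.map (algebraMap (Localization.AtPrime p₀) (Localization.AtPrime p₀ ⊗[S₀] C₀))
        (maximalIdeal (Localization.AtPrime p₀)) ≤ q₁ →
      Module.Flat (Localization.AtPrime p₀)
        (LocalizedModule q₁.primeCompl (Localization.AtPrime p₀ ⊗[S₀] C₀)) := by
    intro q₁ _ hq₁
    apply flat_at_tensor S₀ (Localization.AtPrime p₀) C₀ q₁
    apply hfl₀
    rw [Ideal.map_le_iff_le_comap]
    intro x hx
    rw [Ideal.mem_comap, Ideal.mem_comap, AlgHom.commutes,
      IsScalarTower.algebraMap_apply S₀ (Localization.AtPrime p₀)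
        (Localization.AtPrime p₀ ⊗[S₀] C₀)]
    apply hq₁
    apply Ideal.mem_map_of_mem
    exact (IsLocalization.AtPrime.to_map_mem_maximal_iff (Localization.AtPrime p₀) p₀ x).mpr hx
  exact isMultType_of_model_c (Localization.AtPrime p₀) S (Localization.AtPrime p₀ ⊗[S₀] C₀) C
    inferInstance hfl₁ inferInstance j₁ hj₁ hs hfin

end mainC

end Groth.Agent.Helper2.X4
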