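import Mathlib
import Groth.Prelude.Def_SGA3b
import Groth.Agent.Helper2.X4LocalC
import Groth.Agent.Helper2.FlatDescGlob

/-!
# Flatness of the infinitesimal levels of an algebra flat along `V(I)`
-/

set_option autoImplicit false
set_option linter.style.haveILetI false

namespace Groth.Agent.Helper2.HomLift
open TensorProduct

universe u

theorem flat_level (A : Type u) [CommRing A] (I J : Ideal A) (hIJ : ∃ m, I ^ m ≤ J)
    (C : Type u) [CommRing C] [Algebra A C]
    (hfl : ∀ (q : Ideal C) [q.IsPrime], Ideal.map (algebraMap A C) I ≤ q →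
      Module.Flat A (Localization.AtPrime q)) :
    Module.Flat (A ⧸ J) ((A ⧸ J) ⊗[A] C) := by
  apply Groth.Agent.Helper2.FlatDescGlob.flat_of_forall_prime (A := A ⧸ J)
    (B := (A ⧸ J) ⊗[A] C) ((A ⧸ J) ⊗[A] C)
  intro Q hQ
  apply Groth.Agent.Helper2.X4.flat_at_tensor A (A ⧸ J) C Q
  set q := Q.comap (Algebra.TensorProduct.includeRight : C →ₐ[A] (A ⧸ J) ⊗[A] C) with hq
  have hle : Ideal.map (algebraMap A C) I ≤ q := by
    rw [Ideal.map_le_iff_le_comap]
    intro a ha
    show (Algebra.TensorProduct.includeRight : C →ₐ[A] (A ⧸ J) ⊗[A] C) (algebraMap A C a) ∈ Q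
    obtain ⟨m, hm⟩ := hIJ
    apply hQ.mem_of_pow_mem m
    rw [← map_pow, ← map_pow, AlgHom.commutes,
      IsScalarTower.algebraMap_apply A (A ⧸ J) ((A ⧸ J) ⊗[A] C)]
    have h0 : algebraMap A (A ⧸ J) (a ^ m) = 0 := by
      rw [Ideal.Quotient.algebraMap_eq, Ideal.Quotient.eq_zero_iff_mem]
      exact hm (Ideal.pow_mem_pow ha m)
    rw [h0, map_zero]
    exact Q.zero_mem
  have h1 := hfl q hle
  let e : LocalizedModule q.primeCompl C ≃ₗ[C] Localization.AtPrime q :=
    IsLocalizedModule.iso q.primeCompl (Algebra.linearMap C (Localization.AtPrime q))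
  exact Module.Flat.of_linearEquiv (e.restrictScalars A)

end Groth.Agent.Helper2.HomLift
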