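import Mathlib
import Groth.Prelude.Def_SGA3b
import Groth.Agent.Helper2.DefApp
import Groth.Agent.Helper2.FamDesc

/-!
# A finite family of étale charts of a quasi-isotrivial group
-/

set_option autoImplicit false
set_option linter.style.haveILetI false

namespace Groth.Agent.Helper2.QL
open TensorProduct Groth.Agent.Helper2.MultTypeSemi Groth.Agent.Helper2.SemiIso
  Groth.Agent.Helper2.MultTypeChart Groth.Agent.Helper2.DefApp SGA3b

universe u

/-- chart data over a member of the cover -/
structure QChart (k : Type u) [CommRing k] (A₀ : Type u) [CommRing A₀] [HopfAlgebra k A₀]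
    (f : k) where
  T : Type u
  [cr : CommRing T]
  [algf : Algebra (Localization.Away f) T]
  [alg : Algebra k T]
  [tower : IsScalarTower k (Localization.Away f) T]
  [ff : Module.FaithfullyFlat (Localization.Away f) T]
  [et : Algebra.Etale k T]
  N : Type u
  [grp : CommGroup N]
  θ : A₀ →ₐ[k] MonoidAlgebra T N
  iso : IsSemiIso k T θ

attribute [instance] QChart.cr QChart.algf QChart.alg QChart.tower QChart.ff QChart.et QChart.grp

theorem exists_qfam (k : Type u) [CommRing k] (A₀ : Type u) [CommRing A₀] [HopfAlgebra k A₀]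
    (h : IsQuasiIsotrivial k A₀) :
    ∃ (F : Type u) (_ : Fintype F) (_ : DecidableEq F) (T : F → Type u)
      (_ : ∀ f, CommRing (T f)) (_ : ∀ f, Algebra k (T f))
      (N : F → Type u) (_ : ∀ f, CommGroup (N f))
      (θ : ∀ f, A₀ →ₐ[k] MonoidAlgebra (T f) (N f)),
      (∀ f, Algebra.Etale k (T f)) ∧ Module.FaithfullyFlat k (∀ f, T f) ∧
        ∀ f, IsSemiIso k (T f) (θ f) := by
  classical
  obtain ⟨s, hs, hf⟩ := h
  obtain ⟨s₀, hs₀, hspan⟩ := (Ideal.span_eq_top_iff_finite s).mp hs
  have hch : ∀ f : (s₀ : Set k), Nonempty (QChart k A₀ f.1) := fun f => by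
    obtain ⟨R', _, _, hEt, hff, N, _, ⟨e⟩⟩ := hf f.1 (hs₀ f.2)
    letI : Algebra k R' := ((algebraMap (Localization.Away f.1) R').comp
      (algebraMap k (Localization.Away f.1))).toAlgebra
    haveI : IsScalarTower k (Localization.Away f.1) R' :=
      IsScalarTower.of_algebraMap_eq (fun _ => rfl)
    haveI := hEt
    haveI : Algebra.Etale k (Localization.Away f.1) := Algebra.Etale.of_isLocalizationAway f.1
    haveI : Algebra.Etale k R' := Algebra.Etale.comp k (Localization.Away f.1) R'
    exact ⟨{ T := R', N := N, θ := chart k A₀ (Localization.Away f.1) R' N e,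
             iso := chart_isSemiIso _ _ _ _ _ e }⟩
  let c := fun f => Classical.choice (hch f)
  haveI : Module.FaithfullyFlat k (Π f : (s₀ : Set k), (c f).T) :=
    FamDesc.faithfullyFlat_pi_of_away (fun f : (s₀ : Set k) => (c f).T) (fun f => f.1)
      (by rw [Subtype.range_coe]; exact hspan)
  exact ⟨(s₀ : Set k), inferInstance, inferInstance, fun f => (c f).T, inferInstance, inferInstance,
    fun f => (c f).N, inferInstance, fun f => (c f).θ, fun f => inferInstance, inferInstance,
    fun f => (c f).iso⟩

end Groth.Agent.Helper2.QL
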