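import Mathlib
import Groth.Prelude.Def_SGA3b
import Groth.Agent.Helper2.QLFam
import Groth.Agent.Helper2.QLLoc

/-!
# Transport of quasi-isotriviality along an isomorphism of base rings
-/

set_option autoImplicit false
set_option linter.style.haveILetI false

namespace Groth.Agent.Helper2.HomLift
open TensorProduct Groth.Agent.Helper2.MultTypeSemi Groth.Agent.Helper2.SemiIso SGA3b

universe u

section transport
variable (A : Type u) [CommRing A] (C : Type u) [CommRing C] [HopfAlgebra A C]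
variable (k₀ : Type u) [CommRing k₀] [Algebra A k₀]
variable (S : Type u) [CommRing S] [Algebra A S]
variable (Q : Type u) [CommRing Q] [Algebra S Q] [Algebra A Q] [IsScalarTower A S Q]

theorem quasiIso_transport (g : Q ≃+* k₀)
    (hg : ∀ a : A, g (algebraMap A Q a) = algebraMap A k₀ a)
    (h0 : IsQuasiIsotrivial k₀ (k₀ ⊗[A] C)) :
    IsQuasiIsotrivial Q (Q ⊗[S] (S ⊗[A] C)) := by
  classical
  obtain ⟨F, hFin, hDec, T, hCR, hAlg, N, hGrp, θ, hEt, hFF, hθ⟩ :=
    Groth.Agent.Helper2.QL.exists_qfam k₀ (k₀ ⊗[A] C) h0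
  letI : Algebra Q k₀ := g.toRingHom.toAlgebra
  have hQk : ∀ q : Q, algebraMap Q k₀ q = g q := fun q => rfl
  letI algQ : ∀ f, Algebra Q (T f) := fun f =>
    ((algebraMap k₀ (T f)).comp (algebraMap Q k₀)).toAlgebra
  haveI : ∀ f, IsScalarTower Q k₀ (T f) := fun f => IsScalarTower.of_algebraMap_eq (fun _ => rfl)
  letI algS : ∀ f, Algebra S (T f) := fun f =>
    ((algebraMap Q (T f)).comp (algebraMap S Q)).toAlgebra
  haveI : ∀ f, IsScalarTower S Q (T f) := fun f => IsScalarTower.of_algebraMap_eq (fun _ => rfl)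
  letI algA : ∀ f, Algebra A (T f) := fun f =>
    ((algebraMap k₀ (T f)).comp (algebraMap A k₀)).toAlgebra
  haveI : ∀ f, IsScalarTower A k₀ (T f) := fun f => IsScalarTower.of_algebraMap_eq (fun _ => rfl)
  haveI : ∀ f, IsScalarTower A Q (T f) := fun f => IsScalarTower.of_algebraMap_eq (fun a => by
    show algebraMap k₀ (T f) (algebraMap A k₀ a) = algebraMap k₀ (T f) (g (algebraMap A Q a))
    rw [hg])
  haveI : ∀ f, IsScalarTower A S (T f) := fun f => IsScalarTower.of_algebraMap_eq (fun a => by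
    show algebraMap k₀ (T f) (algebraMap A k₀ a) =
      algebraMap k₀ (T f) (g (algebraMap S Q (algebraMap A S a)))
    rw [← IsScalarTower.algebraMap_apply A S Q, hg])
  -- étaleness and faithful flatness over `Q`
  let gA : Q ≃ₐ[Q] k₀ := AlgEquiv.ofRingEquiv (f := g) (fun _ => rfl)
  haveI : Algebra.Etale Q k₀ := Algebra.Etale.of_equiv gA
  haveI : ∀ f, Algebra.Etale k₀ (T f) := hEt
  haveI : ∀ f, Algebra.Etale Q (T f) := fun f => Algebra.Etale.comp Q k₀ (T f)
  haveI : Module.FaithfullyFlat Q k₀ := Module.FaithfullyFlat.of_linearEquiv (R := Q) (M := Q)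
    gA.symm.toLinearEquiv
  haveI := hFF
  haveI : Module.FaithfullyFlat Q (∀ f, T f) := Module.FaithfullyFlat.trans Q k₀ (∀ f, T f)
  -- the charts
  have h1 : ∀ f, IsSemiIso A (T f)
      (((θ f).restrictScalars A).comp
        (Algebra.TensorProduct.includeRight : C →ₐ[A] k₀ ⊗[A] C)) := fun f =>
    (isSemiIso_includeRight A k₀ C).comp A k₀ (T f) (hθ f)
  have h2 := fun f => (h1 f).lift A S (T f)
  have h3 := fun f => (h2 f).lift S Q (T f)
  exact Groth.Agent.Helper2.QL.isQuasiIsotrivial_of_charts Q (Q ⊗[S] (S ⊗[A] C)) T N _ h3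

end transport

end Groth.Agent.Helper2.HomLift
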