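import Mathlib
import Groth.Prelude.Def_SGA3b
import Groth.Agent.Helper2.DefApp

set_option autoImplicit false

namespace Groth.Agent.Helper2.QIsoNil
open TensorProduct Groth.Agent.Helper2.MultTypeSemi Groth.Agent.Helper2.SemiIso
  Groth.Agent.Helper2.DefApp Groth.Agent.Helper2.MultTypeChart SGA3b

universe u

lemma span_preimage_eq_top {R : Type*} [CommRing R] (I : Ideal R) (hI : IsNilpotent I)
    (sb : Set (R ⧸ I)) (hsb : Ideal.span sb = ⊤) :
    Ideal.span ((Ideal.Quotient.mk I) ⁻¹' sb) = ⊤ := by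
  set s := (Ideal.Quotient.mk I) ⁻¹' sb with hs
  have h1 : Ideal.map (Ideal.Quotient.mk I) (Ideal.span s) = ⊤ := by
    rw [Ideal.map_span, hs, Set.image_preimage_eq _ Ideal.Quotient.mk_surjective, hsb]
  have h2 : (1 : R ⧸ I) ∈ Ideal.map (Ideal.Quotient.mk I) (Ideal.span s) := by
    rw [h1]; trivial
  rw [Ideal.mem_map_iff_of_surjective _ Ideal.Quotient.mk_surjective] at h2
  obtain ⟨a, ha, ha1⟩ := h2
  have h3 : a - 1 ∈ I := by
    rw [← Ideal.Quotient.eq_zero_iff_mem, map_sub, ha1, map_one, sub_self]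
  obtain ⟨n, hn⟩ := hI
  have h4 : IsNilpotent (a - 1) := by
    refine ⟨n, ?_⟩
    have := Ideal.pow_mem_pow h3 n
    rw [hn] at this
    simpa using this
  have h5 : IsUnit a := by
    have := h4.isUnit_add_one
    simpa using this
  exact Ideal.eq_top_of_isUnit_mem _ ha h5

theorem s2987 (R : Type u) [CommRing R] (A : Type u) [CommRing A] [HopfAlgebra R A]
    [Module.Flat R A] (I : Ideal R) (hI : IsNilpotent I)
    (h0 : IsQuasiIsotrivial (R ⧸ I) ((R ⧸ I) ⊗[R] A)) : IsQuasiIsotrivial R A := by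
  obtain ⟨sb, hsb, hfb⟩ := h0
  refine ⟨(Ideal.Quotient.mk I) ⁻¹' sb, span_preimage_eq_top I hI sb hsb, ?_⟩
  intro f hf
  obtain ⟨Rb', _, _, hEt, hFF, M, _, ⟨e⟩⟩ := hfb (Ideal.Quotient.mk I f) hf
  letI : Algebra (R ⧸ I) Rb' := ((algebraMap (Localization.Away (Ideal.Quotient.mk I f)) Rb').comp
    (algebraMap (R ⧸ I) (Localization.Away (Ideal.Quotient.mk I f)))).toAlgebra
  haveI : IsScalarTower (R ⧸ I) (Localization.Away (Ideal.Quotient.mk I f)) Rb' :=
    IsScalarTower.of_algebraMap_eq (fun _ => rfl)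
  letI : Algebra R Rb' := ((algebraMap (R ⧸ I) Rb').comp (algebraMap R (R ⧸ I))).toAlgebra
  haveI : IsScalarTower R (R ⧸ I) Rb' := IsScalarTower.of_algebraMap_eq (fun _ => rfl)
  haveI : Algebra.Etale (R ⧸ I) Rb' :=
    Algebra.Etale.comp (R ⧸ I) (Localization.Away (Ideal.Quotient.mk I f)) Rb'
  let χ₁ := chart (R ⧸ I) ((R ⧸ I) ⊗[R] A) (Localization.Away (Ideal.Quotient.mk I f)) Rb' M e
  have hχ₁ : IsSemiIso (R ⧸ I) Rb' χ₁ := chart_isSemiIso _ _ _ _ _ e
  have hχ := (isSemiIso_includeRight R (R ⧸ I) A).comp R (R ⧸ I) Rb' hχ₁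
  apply isQuasiIsotrivialConst_of_chart R A I Rb' M hI f ?_ ?_ _ hχ
  · show IsUnit (algebraMap (Localization.Away (Ideal.Quotient.mk I f)) Rb'
      (algebraMap (R ⧸ I) (Localization.Away (Ideal.Quotient.mk I f)) (Ideal.Quotient.mk I f)))
    exact (IsLocalization.Away.algebraMap_isUnit (Ideal.Quotient.mk I f)).map _
  · intro 𝔭 h𝔭 hf𝔭 htop
    have hI𝔭 : I ≤ 𝔭 := by
      obtain ⟨n, hn⟩ := hI
      apply h𝔭.le_of_pow_le (n := n)
      rw [hn]; exact bot_le
    have hker : RingHom.ker (Ideal.Quotient.mk I) ≤ 𝔭 := by rwa [Ideal.mk_ker]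
    have h𝔭b : (Ideal.map (Ideal.Quotient.mk I) 𝔭).IsPrime :=
      Ideal.map_isPrime_of_surjective Ideal.Quotient.mk_surjective hker
    have hcomap : Ideal.comap (Ideal.Quotient.mk I) (Ideal.map (Ideal.Quotient.mk I) 𝔭) = 𝔭 := by
      rw [Ideal.comap_map_of_surjective _ Ideal.Quotient.mk_surjective]
      rw [sup_eq_left]
      exact le_trans (Ideal.comap_mono bot_le) (by
        show Ideal.comap (Ideal.Quotient.mk I) ⊥ ≤ 𝔭
        rw [← RingHom.ker_eq_comap_bot]; exact hker)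
    have hfb𝔭 : Ideal.Quotient.mk I f ∉ Ideal.map (Ideal.Quotient.mk I) 𝔭 := by
      intro hmem
      apply hf𝔭
      rw [← hcomap]
      exact hmem
    have hdisj : Disjoint (Submonoid.powers (Ideal.Quotient.mk I f) : Set (R ⧸ I))
        (Ideal.map (Ideal.Quotient.mk I) 𝔭 : Set (R ⧸ I)) := by
      rw [Set.disjoint_left]
      rintro x ⟨n, rfl⟩ hx
      exact hfb𝔭 (h𝔭b.mem_of_pow_mem n hx)
    have h𝔫 := IsLocalization.isPrime_of_isPrime_disjoint
      (Submonoid.powers (Ideal.Quotient.mk I f)) (Localization.Away (Ideal.Quotient.mk I f))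
      _ h𝔭b hdisj
    have h1 : Ideal.map (algebraMap R Rb') 𝔭 =
        Ideal.map (algebraMap (Localization.Away (Ideal.Quotient.mk I f)) Rb')
          (Ideal.map (algebraMap (R ⧸ I) (Localization.Away (Ideal.Quotient.mk I f)))
            (Ideal.map (Ideal.Quotient.mk I) 𝔭)) := by
      rw [Ideal.map_map, Ideal.map_map]
      rfl
    rw [h1] at htop
    have h2 := Ideal.comap_map_eq_self_of_faithfullyFlat
      (B := Rb') (Ideal.map (algebraMap (R ⧸ I) (Localization.Away (Ideal.Quotient.mk I f)))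
            (Ideal.map (Ideal.Quotient.mk I) 𝔭))
    rw [htop, Ideal.comap_top] at h2
    exact h𝔫.ne_top h2.symm

end Groth.Agent.Helper2.QIsoNil
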