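import Mathlib
import Groth.Prelude.Def_SGA3b
import Groth.Agent.Helper2.HomLiftD
import Groth.Agent.Helper2.HomLiftE
import Groth.Agent.Helper2.HomLiftF
import Groth.Agent.Helper2.QIsoNil

/-!
# Lifting homomorphisms between the infinitesimal levels
-/

set_option autoImplicit false
set_option linter.style.haveILetI false

namespace Groth.Agent.Helper2.HomLift
open TensorProduct Groth.Agent.Helper2.MultTypeSemi Groth.Agent.Helper2.SemiIso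
  Groth.Agent.Helper2.NilSplit Groth.Agent.Helper2.NilLift SGA3b

universe u

section level
variable (A : Type u) [CommRing A] (I J : Ideal A) (hJI : J ≤ I) (hIJ : ∃ m, I ^ m ≤ J)
variable (C : Type u) [CommRing C] [HopfAlgebra A C]
  (hfl : ∀ (q : Ideal C) [q.IsPrime], Ideal.map (algebraMap A C) I ≤ q →
    Module.Flat A (Localization.AtPrime q))
  (h0 : IsQuasiIsotrivial (A ⧸ I) ((A ⧸ I) ⊗[A] C))

include hIJ in
lemma nil_level : ∀ x ∈ I.map (Ideal.Quotient.mk J), IsNilpotent x := by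
  obtain ⟨m, hm⟩ := hIJ
  intro x hx
  refine ⟨m, ?_⟩
  have h1 : x ^ m ∈ (I.map (Ideal.Quotient.mk J)) ^ m := Ideal.pow_mem_pow hx m
  rw [← Ideal.map_pow] at h1
  have h2 : Ideal.map (Ideal.Quotient.mk J) (I ^ m) ≤ ⊥ := by
    rw [Ideal.map_le_iff_le_comap]
    intro a ha
    show Ideal.Quotient.mk J a ∈ (⊥ : Ideal (A ⧸ J))
    rw [Ideal.mem_bot, Ideal.Quotient.eq_zero_iff_mem]
    exact hm ha
  exact (Ideal.mem_bot.mp (h2 h1))

include hJI hIJ hfl h0 in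
theorem isQuasiIsotrivial_level : IsQuasiIsotrivial (A ⧸ J) ((A ⧸ J) ⊗[A] C) := by
  haveI := flat_level A I J hIJ C hfl
  have hnil : IsNilpotent (I.map (Ideal.Quotient.mk J)) := by
    obtain ⟨m, hm⟩ := hIJ
    refine ⟨m, ?_⟩
    rw [← Ideal.map_pow, Ideal.zero_eq_bot, Ideal.map_eq_bot_iff_le_ker, Ideal.mk_ker]
    exact hm
  apply Groth.Agent.Helper2.QIsoNil.s2987 (A ⧸ J) ((A ⧸ J) ⊗[A] C)
    (I.map (Ideal.Quotient.mk J)) hnil
  exact quasiIso_transport A C (A ⧸ I) (A ⧸ J) ((A ⧸ J) ⧸ I.map (Ideal.Quotient.mk J))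
    (DoubleQuot.quotQuotEquivQuotOfLE hJI) (fun a => rfl) h0

variable (B : Type u) [CommRing B] [HopfAlgebra A B]
variable (A' : Type u) [CommRing A'] [Algebra A A'] [Module.FaithfullyFlat A A']
  (M : Type u) [CommGroup M] (θB : B →ₐ[A] MonoidAlgebra A' M) (hθB : IsSemiIso A A' θB)

include hJI hIJ hfl h0 hθB in
attribute [local instance] Algebra.TensorProduct.rightAlgebra in
theorem level_exists (J₁ : Ideal A) (hJ : J ≤ J₁) (hJ₁ : J₁ ≤ I)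
    (ψb : C →ₐ[A] (A ⧸ J₁) ⊗[A] B) (hψb : IsSemiCoalg A (A ⧸ J₁) ψb) :
    ∃ ψ : C →ₐ[A] (A ⧸ J) ⊗[A] B, IsSemiCoalg A (A ⧸ J) ψ ∧
      ∀ c, (Ideal.Quotient.factorₐ A hJ).toLinearMap.rTensor B (ψ c) = ψb c := by
  classical
  letI : Algebra (A ⧸ J) (A ⧸ J₁) := (Ideal.Quotient.factor hJ).toAlgebra
  haveI : IsScalarTower A (A ⧸ J) (A ⧸ J₁) := IsScalarTower.of_algebraMap_eq (fun r => rfl)
  have hsurj : Function.Surjective (algebraMap (A ⧸ J) (A ⧸ J₁)) :=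
    Ideal.Quotient.factor_surjective hJ
  have hnil : ∀ x ∈ RingHom.ker (algebraMap (A ⧸ J) (A ⧸ J₁)), IsNilpotent x := by
    intro x hx
    have hker : RingHom.ker (algebraMap (A ⧸ J) (A ⧸ J₁)) = J₁.map (Ideal.Quotient.mk J) :=
      Ideal.Quotient.factor_ker hJ
    rw [hker] at hx
    exact nil_level A I J hIJ x (Ideal.map_mono hJ₁ hx)
  obtain ⟨F, hFin, hDec, T, hCR, hAlg, N, hGrp, θ, hEt, hFF, hθ⟩ :=
    Groth.Agent.Helper2.QL.exists_qfam (A ⧸ J) ((A ⧸ J) ⊗[A] C)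
      (isQuasiIsotrivial_level A I J hJI hIJ C hfl h0)
  haveI := hFF
  have hχB : IsSemiIso (A ⧸ J) ((A ⧸ J) ⊗[A] A')
      (liftMap A (A ⧸ J) (((rho A' ((A ⧸ J) ⊗[A] A') M).restrictScalars A).comp θB)) :=
    (isSemiIso_rho_comp (T₂ := (A ⧸ J) ⊗[A] A') hθB).lift A (A ⧸ J) ((A ⧸ J) ⊗[A] A')
  obtain ⟨ψ, hψ, hc⟩ := tower_exists (R := A) (A ⧸ J) T θ hθ ((A ⧸ J) ⊗[A] A') _ hχB
    (A ⧸ J₁) hsurj hnil ψb hψb
  refine ⟨ψ, hψ, fun c => ?_⟩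
  rw [← hc c]
  generalize ψ c = z
  induction z using TensorProduct.induction_on with
  | zero => simp
  | add x y hx hy => simp only [map_add, hx, hy]
  | tmul s b => rfl

include hJI hIJ hfl h0 hθB in
attribute [local instance] Algebra.TensorProduct.rightAlgebra in
theorem level_uniq (ψ₁ ψ₂ : C →ₐ[A] (A ⧸ J) ⊗[A] B) (h₁ : IsSemiCoalg A (A ⧸ J) ψ₁)
    (h₂ : IsSemiCoalg A (A ⧸ J) ψ₂)
    (h : ∀ c, ψ₁ c - ψ₂ c ∈ I • (⊤ : Submodule A ((A ⧸ J) ⊗[A] B))) : ψ₁ = ψ₂ := by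
  classical
  obtain ⟨F, hFin, hDec, T, hCR, hAlg, N, hGrp, θ, hEt, hFF, hθ⟩ :=
    Groth.Agent.Helper2.QL.exists_qfam (A ⧸ J) ((A ⧸ J) ⊗[A] C)
      (isQuasiIsotrivial_level A I J hJI hIJ C hfl h0)
  haveI := hFF
  have hχB : IsSemiIso (A ⧸ J) ((A ⧸ J) ⊗[A] A')
      (liftMap A (A ⧸ J) (((rho A' ((A ⧸ J) ⊗[A] A') M).restrictScalars A).comp θB)) :=
    (isSemiIso_rho_comp (T₂ := (A ⧸ J) ⊗[A] A') hθB).lift A (A ⧸ J) ((A ⧸ J) ⊗[A] A')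
  apply tower_uniq (R := A) (A ⧸ J) T θ hθ ((A ⧸ J) ⊗[A] A') _ hχB
    (I.map (Ideal.Quotient.mk J)) (nil_level A I J hIJ) ψ₁ ψ₂ h₁ h₂
  intro c
  have h3 := Ideal.smul_restrictScalars (R := A) (S := A ⧸ J) (M := (A ⧸ J) ⊗[A] B) I
    (⊤ : Submodule (A ⧸ J) ((A ⧸ J) ⊗[A] B))
  rw [Submodule.restrictScalars_top] at h3
  have h4 : ψ₁ c - ψ₂ c ∈ ((I.map (algebraMap A (A ⧸ J))) •
      (⊤ : Submodule (A ⧸ J) ((A ⧸ J) ⊗[A] B))).restrictScalars A := by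
    rw [h3]; exact h c
  exact h4

end level

end Groth.Agent.Helper2.HomLift
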