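import Mathlib
import Groth.Prelude.Def_SGA3b

/-!
# Orthogonal idempotent functionals on a coalgebra over a Noetherian ring have pointwise
finite support (no flatness needed)
-/

set_option autoImplicit false
set_option linter.style.haveILetI false

namespace Groth.Agent.Helper2.HomLift
open TensorProduct WithConv Coalgebra

section fin
variable {R : Type*} [CommRing R] {C : Type*} [AddCommGroup C] [Module R C] [Coalgebra R C]
variable {R' : Type*} [CommRing R'] [Algebra R R'] {M : Type*}

lemma conv_apply_sum (f g : C →ₗ[R] R') (c : C) (P : Finset (C × C))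
    (hP : Coalgebra.comul (R := R) c = ∑ p ∈ P, p.1 ⊗ₜ[R] p.2) :
    (toConv f * toConv g).ofConv c = ∑ p ∈ P, f p.1 * g p.2 := by
  rw [LinearMap.convMul_apply, hP, map_sum, map_sum]
  simp

variable (e : M → (C →ₗ[R] R'))
  (hidem : ∀ μ, toConv (e μ) * toConv (e μ) = toConv (e μ))
  (horth : ∀ μ ν, μ ≠ ν → toConv (e μ) * toConv (e ν) = 0)

include hidem horth in
lemma card_le_of_prime (𝔭 : Ideal R') [𝔭.IsPrime] (c : C) (P : Finset (C × C))
    (hP : Coalgebra.comul (R := R) c = ∑ p ∈ P, p.1 ⊗ₜ[R] p.2)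
    (S : Finset M) (hS : ∀ μ ∈ S, e μ c ∉ 𝔭) : S.card ≤ P.card := by
  classical
  let K := 𝔭.ResidueField
  let ι : R' →+* K := algebraMap R' K
  have hι : ∀ x, ι x = 0 ↔ x ∈ 𝔭 := fun x => Ideal.algebraMap_residueField_eq_zero
  let Y : Matrix S P K := fun μ p => ι (e μ.1 p.1.1)
  let Z : Matrix P S K := fun p ν => ι (e ν.1 p.1.2)
  have hYZ : Y * Z = Matrix.diagonal (fun μ : S => ι (e μ.1 c)) := by
    ext μ ν
    rw [Matrix.mul_apply, Matrix.diagonal_apply]
    have h1 : ∑ p : P, Y μ p * Z p ν = ι ((toConv (e μ.1) * toConv (e ν.1)).ofConv c) := by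
      rw [conv_apply_sum (e μ.1) (e ν.1) c P hP, map_sum, ← Finset.sum_coe_sort P]
      simp [Y, Z]
    rw [h1]
    by_cases h : μ = ν
    · subst h
      rw [if_pos rfl, hidem]
    · rw [if_neg h, horth μ.1 ν.1 (fun h' => h (Subtype.ext h'))]
      simp
  have h2 : (Matrix.diagonal (fun μ : S => ι (e μ.1 c))).rank =
      Fintype.card {i : S // ι (e i.1 c) ≠ 0} := Matrix.rank_diagonal _
  have h3 : Fintype.card {i : S // ι (e i.1 c) ≠ 0} = S.card := by
    rw [Fintype.card_subtype_compl, ← Fintype.card_coe S]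
    have : Fintype.card {x : S // ι (e x.1 c) = 0} = 0 := by
      rw [Fintype.card_eq_zero_iff]
      exact ⟨fun ⟨x, hx⟩ => hS x.1 x.2 ((hι _).mp hx)⟩
    omega
  have h4 : (Y * Z).rank ≤ Fintype.card P :=
    (Matrix.rank_mul_le_left Y Z).trans (Matrix.rank_le_card_width Y)
  rw [hYZ, h2, h3, Fintype.card_coe] at h4
  exact h4

include hidem horth in
lemma finite_not_mem_prime (𝔭 : Ideal R') [𝔭.IsPrime] (c : C) : {μ | e μ c ∉ 𝔭}.Finite := by
  obtain ⟨P, hP⟩ := TensorProduct.exists_finset (Coalgebra.comul (R := R) c)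
  by_contra hinf
  obtain ⟨S, hS, hcard⟩ := Set.Infinite.exists_subset_card_eq hinf (P.card + 1)
  have := card_le_of_prime e hidem horth 𝔭 c P hP S (fun μ hμ => hS hμ)
  omega

variable [IsNoetherianRing R']

include hidem horth in
lemma finite_not_mem_nilradical (c : C) : {μ | e μ c ∉ nilradical R'}.Finite := by
  have hfin : (⋃ 𝔭 ∈ minimalPrimes R', {μ | e μ c ∉ 𝔭}).Finite := by
    apply Set.Finite.biUnion (minimalPrimes.finite_of_isNoetherianRing R')
    intro 𝔭 h𝔭
    haveI : 𝔭.IsPrime := h𝔭.1.1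
    exact finite_not_mem_prime e hidem horth 𝔭 c
  refine hfin.subset ?_
  intro μ hμ
  simp only [Set.mem_ofPred_eq] at hμ
  have h1 : nilradical R' = sInf (minimalPrimes R') := by
    rw [nilradical, minimalPrimes, Ideal.sInf_minimalPrimes]
    rfl
  rw [h1, Ideal.mem_sInf] at hμ
  push Not at hμ
  obtain ⟨𝔭, h𝔭, hx⟩ := hμ
  exact Set.mem_biUnion h𝔭 hx

include hidem horth in
lemma finite_not_mem_pow (j : ℕ) : ∀ c : C, {μ | e μ c ∉ nilradical R' ^ (j + 1)}.Finite := by
  induction j with
  | zero =>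
    intro c
    simpa using finite_not_mem_nilradical e hidem horth c
  | succ j ih =>
    intro c
    obtain ⟨P, hP⟩ := TensorProduct.exists_finset (Coalgebra.comul (R := R) c)
    have hfin : (⋃ p ∈ P, ({μ | e μ p.1 ∉ nilradical R' ^ (j + 1)} ∪
        {μ | e μ p.2 ∉ nilradical R'})).Finite := by
      apply Set.Finite.biUnion P.finite_toSet
      intro p _
      exact (ih p.1).union (finite_not_mem_nilradical e hidem horth p.2)
    refine hfin.subset ?_
    intro μ hμ
    by_contra hcon
    apply hμ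
    have h1 : e μ c = ∑ p ∈ P, e μ p.1 * e μ p.2 := by
      rw [← conv_apply_sum (e μ) (e μ) c P hP, hidem]
    rw [h1, pow_succ]
    apply Ideal.sum_mem
    intro p hp
    have h2 : μ ∉ ({μ | e μ p.1 ∉ nilradical R' ^ (j + 1)} ∪ {μ | e μ p.2 ∉ nilradical R'}) := by
      intro h
      exact hcon (Set.mem_biUnion hp h)
    simp only [Set.mem_union, Set.mem_ofPred_eq, not_or, not_not] at h2
    exact Ideal.mul_mem_mul h2.1 h2.2

include hidem horth in
/-- pointwise finite support of a family of orthogonal idempotent functionals -/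
theorem finite_support' (c : C) : {μ | e μ c ≠ 0}.Finite := by
  obtain ⟨n, hn⟩ := IsNoetherianRing.isNilpotent_nilradical R'
  have h0 : nilradical R' ^ (n + 1) = ⊥ := by
    rw [pow_succ, hn, Ideal.zero_eq_bot, Ideal.bot_mul]
  have := finite_not_mem_pow e hidem horth n c
  rw [h0] at this
  simpa using this

end fin

end Groth.Agent.Helper2.HomLift
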