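import Mathlib
import Groth.Prelude.Def_SGA3b
import Groth.Agent.Helper2.HomLiftG
import Groth.Agent.Helper2.HomLiftI
import Groth.Agent.Helper7.MTAvgW
import Groth.Agent.S5270

/-!
# SGA3 IX 7.?: homomorphisms from an isotrivial group of multiplicative type into an affine group
flat along `V(I)` with quasi-isotrivial reduction, over a complete Noetherian base
-/

set_option autoImplicit false
set_option linter.style.haveILetI false

namespace Groth.Agent.Helper2.HomLift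
open TensorProduct Groth.Agent.Helper2.MultTypeSemi Groth.Agent.Helper2.SemiIso
  Groth.Agent.Helper7.MTAvg SGA3b

universe u

theorem s5250 (A : Type u) [CommRing A] [IsNoetherianRing A] (I : Ideal A) [IsAdicComplete I A]
    (B : Type u) [CommRing B] [HopfAlgebra A B] (hG : IsIsotrivial A B)
    (C : Type u) [CommRing C] [HopfAlgebra A C]
    (hfl : ∀ (q : Ideal C) [q.IsPrime], Ideal.map (algebraMap A C) I ≤ q →
      Module.Flat A (Localization.AtPrime q))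
    (h0 : IsQuasiIsotrivial (A ⧸ I) ((A ⧸ I) ⊗[A] C)) :
    (∀ φ ψ : C →ₐc[A] B, (∀ c : C, (1 : A ⧸ I) ⊗ₜ[A] (φ c) = (1 : A ⧸ I) ⊗ₜ[A] (ψ c)) → φ = ψ) ∧
    (∀ φ₀ : ((A ⧸ I) ⊗[A] C) →ₐc[A ⧸ I] ((A ⧸ I) ⊗[A] B),
      ∃ φ : C →ₐc[A] B, ∀ c : C, φ₀ ((1 : A ⧸ I) ⊗ₜ[A] c) = (1 : A ⧸ I) ⊗ₜ[A] (φ c)) := by
  have hG' := hG
  obtain ⟨A', _, _, het, hfin, hff, M, _, ⟨e⟩⟩ := hG
  haveI := hfin
  haveI := hff
  -- the chart of `B`
  set θB : B →ₐ[A] MonoidAlgebra A' M :=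
    ((e.toBialgHom : A' ⊗[A] B →ₐ[A'] MonoidAlgebra A' M).restrictScalars A).comp
      (Algebra.TensorProduct.includeRight : B →ₐ[A] A' ⊗[A] B) with hθBdef
  have hθB : IsSemiIso A A' θB :=
    (isSemiIso_includeRight A A' B).comp A A' A' (isSemiIso_bialgEquiv A' e)
  have hpow : ∀ m : ℕ, I ^ (m + 1) ≤ I := fun m => Ideal.pow_le_self (Nat.succ_ne_zero m)
  refine ⟨fun φ ψ h => ?_, fun φ₀ => ?_⟩
  · apply Groth.Agent.S5270.result A I B hG' C φ ψ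
    intro n c
    have h₁ : IsSemiCoalg A (A ⧸ I ^ (n + 1)) (((Algebra.TensorProduct.includeRight :
        B →ₐ[A] (A ⧸ I ^ (n + 1)) ⊗[A] B)).comp (φ : C →ₐ[A] B)) :=
      (isSemiCoalg_bialgHom A φ).comp A A (A ⧸ I ^ (n + 1))
        (isSemiCoalg_includeRight A (A ⧸ I ^ (n + 1)) B)
    have h₂ : IsSemiCoalg A (A ⧸ I ^ (n + 1)) (((Algebra.TensorProduct.includeRight :
        B →ₐ[A] (A ⧸ I ^ (n + 1)) ⊗[A] B)).comp (ψ : C →ₐ[A] B)) :=
      (isSemiCoalg_bialgHom A ψ).comp A A (A ⧸ I ^ (n + 1))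
        (isSemiCoalg_includeRight A (A ⧸ I ^ (n + 1)) B)
    have h3 := level_uniq A I (I ^ (n + 1)) (hpow n) ⟨n + 1, le_rfl⟩ C hfl h0 B A' M θB hθB
      _ _ h₁ h₂ (fun c => by
        show (1 : A ⧸ I ^ (n + 1)) ⊗ₜ[A] φ c - (1 : A ⧸ I ^ (n + 1)) ⊗ₜ[A] ψ c ∈
          I • (⊤ : Submodule A ((A ⧸ I ^ (n + 1)) ⊗[A] B))
        rw [← TensorProduct.tmul_sub]
        have h4 : φ c - ψ c ∈ I • (⊤ : Submodule A B) := by
          have h5 := mem_smul_top_of_tmul_eq_zero A (A ⧸ I) Ideal.Quotient.mk_surjective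
            (φ c - ψ c) (by rw [TensorProduct.tmul_sub, h c, sub_self])
          rwa [Ideal.Quotient.algebraMap_eq, Ideal.mk_ker] at h5
        exact Groth.Agent.Helper2.NilLift.map_mem_smul_top' I
          (TensorProduct.mk A (A ⧸ I ^ (n + 1)) B 1) h4)
    exact congrArg (fun g => g c) h3
  · let ψb0 : C →ₐ[A] (A ⧸ I) ⊗[A] B :=
      ((φ₀ : (A ⧸ I) ⊗[A] C →ₐ[A ⧸ I] (A ⧸ I) ⊗[A] B).restrictScalars A).comp
        (Algebra.TensorProduct.includeRight : C →ₐ[A] (A ⧸ I) ⊗[A] C)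
    have hψb0 : IsSemiCoalg A (A ⧸ I) ψb0 :=
      (isSemiCoalg_includeRight A (A ⧸ I) C).comp A (A ⧸ I) (A ⧸ I)
        (isSemiCoalg_bialgHom (A ⧸ I) φ₀)
    obtain ⟨ψ0, hψ0, hc0⟩ := level_exists A I (I ^ (0 + 1)) (hpow 0) ⟨0 + 1, le_rfl⟩ C hfl h0
      B A' M θB hθB I (hpow 0) le_rfl ψb0 hψb0
    let X : ℕ → Type u := fun m =>
      {ψ : C →ₐ[A] (A ⧸ I ^ (m + 1)) ⊗[A] B // IsSemiCoalg A (A ⧸ I ^ (m + 1)) ψ}
    obtain ⟨f, hf0, hf⟩ := exists_dep_seq (X := X)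
      (fun m x y => ∀ c, (tr I m).toLinearMap.rTensor B (y.1 c) = x.1 c) ⟨ψ0, hψ0⟩ (by
        intro m x
        obtain ⟨ψ', hψ', hc'⟩ := level_exists A I (I ^ (m + 1 + 1)) (hpow (m + 1))
          ⟨m + 1 + 1, le_rfl⟩ C hfl h0 B A' M θB hθB (I ^ (m + 1))
          (Ideal.pow_le_pow_right (Nat.le_succ (m + 1))) (hpow m) x.1 x.2
        exact ⟨⟨ψ', hψ'⟩, hc'⟩)
    obtain ⟨φ, hφ⟩ := algebraize' A I B A' M e C (fun m => (f m).1) (fun m => (f m).2)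
      (fun m c => hf m c)
    refine ⟨φ, fun c => ?_⟩
    have h1 := hφ 0 c
    rw [hf0] at h1
    have h2 := hc0 c
    rw [← h1] at h2
    simpa [ψb0] using h2.symm

end Groth.Agent.Helper2.HomLift
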