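import Mathlib
set_option autoImplicit false
universe u

namespace Groth.Agent.Helper2.HomSupp


variable {A : Type u} [CommRing A]

lemma exists_hom_ne_zero (p : PrimeSpectrum A) :
    ∀ (n : ℕ) (P : Type u) [AddCommGroup P] [Module A P] (x : Fin n → P),
      Submodule.span A (Set.range x) = ⊤ → p ∈ Module.support A P →
      ∃ f : P →ₗ[A] A ⧸ p.asIdeal, f ≠ 0 := by
  intro n
  induction n with
  | zero =>
    intro P _ _ x hx hp
    exfalso
    have hsub : Subsingleton P := by
      rw [← Submodule.subsingleton_iff A, ← subsingleton_iff_bot_eq_top, ← hx]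
      have : Set.range x = ∅ := Set.range_eq_empty x
      rw [this, Submodule.span_empty]
    rw [Module.support_eq_empty] at hp
    exact hp
  | succ n ih =>
    intro P _ _ x hx hp
    have hfin : Module.Finite A P := by
      rw [Module.finite_def, ← hx]
      exact Submodule.fg_span (Set.finite_range x)
    let g : A →ₗ[A] P := LinearMap.toSpanSingleton A P (x 0)
    let N : Submodule A P := LinearMap.range g
    by_cases hp' : p ∈ Module.support A (P ⧸ N)
    · have hspan : Submodule.span A (Set.range (fun i : Fin n => N.mkQ (x i.succ))) = ⊤ := by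
        rw [eq_top_iff]
        rintro y -
        obtain ⟨y, rfl⟩ := N.mkQ_surjective y
        have hy : y ∈ Submodule.span A (Set.range x) := by rw [hx]; trivial
        induction hy using Submodule.span_induction with
        | mem z hz =>
          obtain ⟨i, rfl⟩ := hz
          refine Fin.cases ?_ (fun j => ?_) i
          · have : N.mkQ (x 0) = 0 := by
              rw [Submodule.mkQ_apply, Submodule.Quotient.mk_eq_zero]
              exact ⟨1, by simp [g]⟩
            rw [this]
            exact Submodule.zero_mem _
          · exact Submodule.subset_span ⟨j, rfl⟩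
        | zero => rw [map_zero]; exact Submodule.zero_mem _
        | add a b _ _ ha hb => rw [map_add]; exact Submodule.add_mem _ ha hb
        | smul c a _ ha => rw [map_smul]; exact Submodule.smul_mem _ c ha
      obtain ⟨f', hf'⟩ := ih (P ⧸ N) _ hspan hp'
      refine ⟨f' ∘ₗ N.mkQ, ?_⟩
      intro h
      apply hf'
      refine LinearMap.ext fun y => ?_
      obtain ⟨y, rfl⟩ := N.mkQ_surjective y
      exact LinearMap.congr_fun h y
    · rw [Module.mem_support_iff_of_finite, SetLike.not_le_iff_exists] at hp'
      obtain ⟨s, hs, hsp⟩ := hp'
      rw [Module.mem_annihilator] at hs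
      have hsN : ∀ y : P, s • y ∈ N := by
        intro y
        have := hs (N.mkQ y)
        rw [← map_smul, Submodule.mkQ_apply, Submodule.Quotient.mk_eq_zero] at this
        exact this
      have hker : LinearMap.ker g ≤ LinearMap.ker (Submodule.mkQ p.asIdeal) := by
        intro a ha
        rw [LinearMap.mem_ker] at ha
        have ha' : a • x 0 = 0 := by simpa [g] using ha
        rw [Submodule.ker_mkQ]
        have has : a * s ∈ Module.annihilator A P := by
          rw [Module.mem_annihilator]
          intro y
          obtain ⟨c, hc⟩ := hsN y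
          have hc' : c • x 0 = s • y := by simpa [g] using hc
          rw [mul_smul, ← hc', smul_comm, ha', smul_zero]
        have := Module.annihilator_le_of_mem_support hp has
        rcases p.2.mem_or_mem this with h | h
        · exact h
        · exact absurd h hsp
      let e : (A ⧸ LinearMap.ker g) ≃ₗ[A] N := g.quotKerEquivRange
      let ψ : P →ₗ[A] A ⧸ p.asIdeal :=
        (Submodule.liftQ (LinearMap.ker g) (Submodule.mkQ p.asIdeal) hker) ∘ₗ
          (e.symm : N →ₗ[A] (A ⧸ LinearMap.ker g)) ∘ₗ
          (LinearMap.codRestrict N (s • LinearMap.id) hsN)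
      refine ⟨ψ, ?_⟩
      intro h
      have h1 : ψ (x 0) = 0 := by rw [h, LinearMap.zero_apply]
      have h2 : e.symm ⟨s • x 0, hsN (x 0)⟩ = Submodule.Quotient.mk s := by
        rw [LinearEquiv.symm_apply_eq]
        apply Subtype.ext
        exact (LinearMap.quotKerEquivRange_apply_mk g s).symm
      have h3 : ψ (x 0) = Submodule.mkQ p.asIdeal s := by
        show (Submodule.liftQ (LinearMap.ker g) (Submodule.mkQ p.asIdeal) hker)
          (e.symm ⟨s • x 0, hsN (x 0)⟩) = _
        rw [h2, Submodule.liftQ_apply]
      rw [h3, Submodule.mkQ_apply, Submodule.Quotient.mk_eq_zero] at h1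
      exact hsp h1


end Groth.Agent.Helper2.HomSupp
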