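import Mathlib

namespace Groth.Agent.Helper2.HopfDiff
open TensorProduct

section act
variable {R : Type*} {A : Type*} {M : Type*} [CommRing R] [CommRing A] [Bialgebra R A]
  [AddCommGroup M] [Module R M] [Module A M] [IsScalarTower R A M]

variable (R A M) in
/-- scalar multiplication `A ⊗ M → M` -/
noncomputable def smulT : A ⊗[R] M →ₗ[R] M :=
  ((LinearMap.id (R := R) (M := M)).liftBaseChange A).restrictScalars R

@[simp] lemma smulT_tmul (a : A) (m : M) : smulT R A M (a ⊗ₜ[R] m) = a • m := by
  simp [smulT]

/-- the action of `Hom(A, A)` on `Hom(A, M)` by convolution -/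
noncomputable def act (φ : A →ₗ[R] A) (m : A →ₗ[R] M) : A →ₗ[R] M :=
  smulT R A M ∘ₗ TensorProduct.map φ m ∘ₗ Coalgebra.comul

lemma act_apply (φ : A →ₗ[R] A) (m : A →ₗ[R] M) (a : A) :
    act φ m a = smulT R A M (TensorProduct.map φ m (Coalgebra.comul (R := R) a)) := rfl

lemma act_assoc (φ ψ : A →ₗ[R] A) (m : A →ₗ[R] M) :
    act ((WithConv.toConv φ * WithConv.toConv ψ).ofConv) m = act φ (act ψ m) := by
  ext a
  have h1 : act ((WithConv.toConv φ * WithConv.toConv ψ).ofConv) m a =
      (smulT R A M ∘ₗ TensorProduct.map (LinearMap.mul' R A ∘ₗ TensorProduct.map φ ψ) m)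
        ((Coalgebra.comul (R := R)).rTensor A (Coalgebra.comul (R := R) a)) := by
    rw [act_apply]
    generalize Coalgebra.comul (R := R) a = t
    induction t using TensorProduct.induction_on with
    | zero => simp
    | add x y hx hy => simp only [map_add, hx, hy]
    | tmul x y =>
      simp [LinearMap.convMul_apply]
  have h2 : act φ (act ψ m) a =
      (smulT R A M ∘ₗ TensorProduct.map φ (smulT R A M ∘ₗ TensorProduct.map ψ m))
        ((Coalgebra.comul (R := R)).lTensor A (Coalgebra.comul (R := R) a)) := by
    rw [act_apply]
    generalize Coalgebra.comul (R := R) a = t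
    induction t using TensorProduct.induction_on with
    | zero => simp
    | add x y hx hy => simp only [map_add, hx, hy]
    | tmul x y =>
      simp [act_apply]
  rw [h1, h2, ← Coalgebra.coassoc_apply]
  generalize (Coalgebra.comul (R := R)).rTensor A (Coalgebra.comul (R := R) a) = T
  induction T using TensorProduct.induction_on with
  | zero => simp
  | add x y hx hy => simp only [map_add, hx, hy]
  | tmul s z =>
    induction s using TensorProduct.induction_on with
    | zero => simp
    | add x y hx hy => simp only [add_tmul, map_add, hx, hy]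
    | tmul x y => simp [mul_smul]

lemma act_one (m : A →ₗ[R] M) : act ((1 : WithConv (A →ₗ[R] A)).ofConv) m = m := by
  ext a
  rw [act_apply]
  have h := Coalgebra.rTensor_counit_comul (R := R) a
  have key : ∀ t : A ⊗[R] A, smulT R A M (TensorProduct.map (1 : WithConv (A →ₗ[R] A)).ofConv m t) =
      m (TensorProduct.lid R A ((Coalgebra.counit (R := R)).rTensor A t)) := by
    intro t
    induction t using TensorProduct.induction_on with
    | zero => simp
    | add x y hx hy => simp only [map_add, hx, hy]
    | tmul x y => simp [algebraMap_smul]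
  rw [key, h]
  simp

lemma act_comp {N : Type*} [AddCommGroup N] [Module R N] [Module A N] [IsScalarTower R A N]
    (g : M →ₗ[A] N) (φ : A →ₗ[R] A) (m : A →ₗ[R] M) :
    (g.restrictScalars R) ∘ₗ act φ m = act φ ((g.restrictScalars R) ∘ₗ m) := by
  ext a
  simp only [LinearMap.comp_apply, act_apply]
  generalize Coalgebra.comul (R := R) a = t
  induction t using TensorProduct.induction_on with
  | zero => simp
  | add x y hx hy => simp only [map_add, hx, hy]
  | tmul x y => simp

end act

section hopf
variable {R : Type*} {A : Type*} [CommRing R] [CommRing A] [HopfAlgebra R A]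

variable (R A) in
/-- augmentation ideal -/
abbrev augI : Ideal A := RingHom.ker (Bialgebra.counitAlgHom R A)

lemma sub_counit_mem (x : A) : x - algebraMap R A (Coalgebra.counit x) ∈ augI R A := by
  rw [RingHom.mem_ker]
  simp

variable (π : A →ₗ[R] (augI R A).Cotangent)
  (hπI : ∀ x : augI R A, π (x : A) = (augI R A).toCotangent x) (hπ1 : π 1 = 0)
include hπI hπ1

lemma pi_algebraMap (r : R) : π (algebraMap R A r) = 0 := by
  rw [Algebra.algebraMap_eq_smul_one, map_smul, hπ1, smul_zero]

lemma pi_eq (x : A) : π x = (augI R A).toCotangent ⟨_, sub_counit_mem x⟩ := by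
  rw [← hπI, map_sub, pi_algebraMap π hπI hπ1, sub_zero]

lemma pi_mul (x y : A) : π (x * y) =
    Coalgebra.counit (R := R) x • π y + Coalgebra.counit (R := R) y • π x := by
  have hx := sub_counit_mem (R := R) x
  have hy := sub_counit_mem (R := R) y
  set x' := x - algebraMap R A (Coalgebra.counit x) with hx'
  set y' := y - algebraMap R A (Coalgebra.counit y) with hy'
  have hxy : x * y = algebraMap R A (Coalgebra.counit x * Coalgebra.counit y) +
      Coalgebra.counit (R := R) x • y' + Coalgebra.counit (R := R) y • x' + x' * y' := by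
    rw [hx', hy', Algebra.smul_def, Algebra.smul_def, map_mul]
    ring
  have h0 : π (x' * y') = 0 := by
    have hmem : x' * y' ∈ augI R A := Ideal.mul_mem_left _ _ hy
    have := hπI ⟨x' * y', hmem⟩
    rw [this, Ideal.toCotangent_eq_zero, pow_two]
    exact Ideal.mul_mem_mul hx hy
  have h1 : π x' = π x := by rw [hx', map_sub, pi_algebraMap π hπI hπ1, sub_zero]
  have h2 : π y' = π y := by rw [hy', map_sub, pi_algebraMap π hπI hπ1, sub_zero]
  rw [hxy, map_add, map_add, map_add, pi_algebraMap π hπI hπ1, h0, map_smul, map_smul, h1, h2]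
  simp

lemma pi_surjective : Function.Surjective π := by
  intro c
  obtain ⟨x, rfl⟩ := Ideal.toCotangent_surjective _ c
  exact ⟨x, hπI x⟩

lemma pi_eq_zero_iff (x : A) :
    π x = 0 ↔ x - algebraMap R A (Coalgebra.counit x) ∈ (augI R A) ^ 2 := by
  rw [pi_eq π hπI hπ1, Ideal.toCotangent_eq_zero]

omit hπI hπ1 in
/-- the candidate universal derivation -/
noncomputable def dmap : A →ₗ[R] A ⊗[R] (augI R A).Cotangent := (π.lTensor A) ∘ₗ Coalgebra.comul

lemma dmap_leibniz (a b : A) : dmap π (a * b) = a • dmap π b + b • dmap π a := by
  have key : ∀ s t : A ⊗[R] A, π.lTensor A (s * t) =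
      (TensorProduct.rid R A ((Coalgebra.counit (R := R)).lTensor A s)) • π.lTensor A t +
      (TensorProduct.rid R A ((Coalgebra.counit (R := R)).lTensor A t)) • π.lTensor A s := by
    intro s t
    induction s using TensorProduct.induction_on with
    | zero => simp
    | add x y hx hy => simp only [add_mul, map_add, hx, hy, add_smul, smul_add]; abel
    | tmul x x' =>
      induction t using TensorProduct.induction_on with
      | zero => simp
      | add x y hx hy => simp only [mul_add, map_add, hx, hy, add_smul, smul_add]; abel
      | tmul y y' =>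
        simp only [Algebra.TensorProduct.tmul_mul_tmul, LinearMap.lTensor_tmul,
          pi_mul π hπI hπ1, TensorProduct.rid_tmul, tmul_add, tmul_smul, smul_tmul', smul_eq_mul]
        rw [smul_mul_assoc, smul_mul_assoc, mul_comm y x]
  simp only [dmap, LinearMap.comp_apply, Bialgebra.comul_mul, key, Coalgebra.lTensor_counit_comul,
    TensorProduct.rid_tmul, one_smul]

end hopf

section deriv
variable {R : Type*} {A : Type*} [CommRing R] [CommRing A] [HopfAlgebra R A]
variable {M : Type*} [AddCommGroup M] [Module R M] [Module A M] [IsScalarTower R A M]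

/-- the left-invariant part of a derivation -/
noncomputable def delta (D : Derivation R A M) : A →ₗ[R] M :=
  act (HopfAlgebra.antipode R) D.toLinearMap

lemma delta_mul (D : Derivation R A M) (x y : A) : delta D (x * y) =
    Coalgebra.counit (R := R) x • delta D y + Coalgebra.counit (R := R) y • delta D x := by
  have key : ∀ s t : A ⊗[R] A,
      smulT R A M (TensorProduct.map (HopfAlgebra.antipode R) D.toLinearMap (s * t)) =
      (LinearMap.mul' R A ((HopfAlgebra.antipode R).rTensor A s)) •
        smulT R A M (TensorProduct.map (HopfAlgebra.antipode R) D.toLinearMap t) +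
      (LinearMap.mul' R A ((HopfAlgebra.antipode R).rTensor A t)) •
        smulT R A M (TensorProduct.map (HopfAlgebra.antipode R) D.toLinearMap s) := by
    intro s t
    induction s using TensorProduct.induction_on with
    | zero => simp
    | add x y hx hy => simp only [add_mul, map_add, hx, hy, add_smul, smul_add]; abel
    | tmul x x' =>
      induction t using TensorProduct.induction_on with
      | zero => simp
      | add x y hx hy => simp only [mul_add, map_add, hx, hy, add_smul, smul_add]; abel
      | tmul y y' =>
        simp only [Algebra.TensorProduct.tmul_mul_tmul, TensorProduct.map_tmul, smulT_tmul,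
          LinearMap.rTensor_tmul, LinearMap.mul'_apply, HopfAlgebra.antipode_mul_distrib,
          Derivation.coeFn_coe, Derivation.leibniz]
        module
  simp only [delta, act_apply, Bialgebra.comul_mul, key,
    HopfAlgebra.mul_antipode_rTensor_comul_apply, algebraMap_smul]

lemma delta_one (D : Derivation R A M) : delta D 1 = 0 := by
  simp [delta, act_apply, Bialgebra.comul_one, Algebra.TensorProduct.one_def]

lemma delta_algebraMap (D : Derivation R A M) (r : R) : delta D (algebraMap R A r) = 0 := by
  rw [Algebra.algebraMap_eq_smul_one, map_smul, delta_one, smul_zero]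

lemma delta_sq (D : Derivation R A M) {x : A} (hx : x ∈ (augI R A) ^ 2) : delta D x = 0 := by
  rw [pow_two] at hx
  refine Submodule.mul_induction_on hx ?_ ?_
  · intro y hy z hz
    rw [RingHom.mem_ker] at hy hz
    have hy' : Coalgebra.counit (R := R) y = 0 := hy
    have hz' : Coalgebra.counit (R := R) z = 0 := hz
    rw [delta_mul, hy', hz', zero_smul, zero_smul, add_zero]
  · intro y z hy hz
    rw [map_add, hy, hz, add_zero]

variable (π : A →ₗ[R] (augI R A).Cotangent)
  (hπI : ∀ x : augI R A, π (x : A) = (augI R A).toCotangent x) (hπ1 : π 1 = 0)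
include hπI hπ1

lemma delta_eq_zero_of_pi (D : Derivation R A M) {x : A} (hx : π x = 0) : delta D x = 0 := by
  rw [pi_eq_zero_iff π hπI hπ1] at hx
  have := delta_sq D hx
  rwa [map_sub, delta_algebraMap, sub_zero] at this

/-- the linear map `I/I² → M` attached to a derivation -/
noncomputable def lmap (D : Derivation R A M) : (augI R A).Cotangent →ₗ[R] M :=
  (LinearMap.ker π).liftQ (delta D) (fun x hx => by
    rw [LinearMap.mem_ker] at hx ⊢
    exact delta_eq_zero_of_pi π hπI hπ1 D hx) ∘ₗ
    (LinearMap.quotKerEquivOfSurjective π (pi_surjective π hπI hπ1)).symm.toLinearMap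

lemma lmap_pi (D : Derivation R A M) (x : A) : lmap π hπI hπ1 D (π x) = delta D x := by
  have : (LinearMap.quotKerEquivOfSurjective π (pi_surjective π hπI hπ1)).symm (π x) =
      Submodule.Quotient.mk x := by
    rw [LinearEquiv.symm_apply_eq, LinearMap.quotKerEquivOfSurjective_apply_mk]
  simp only [lmap, LinearMap.comp_apply, LinearEquiv.coe_coe, this, Submodule.liftQ_apply]

omit hπI hπ1 in
lemma dmap_eq_act : dmap π = act LinearMap.id ((TensorProduct.mk R A (augI R A).Cotangent 1) ∘ₗ π) := by
  ext a
  simp only [dmap, LinearMap.comp_apply, act_apply]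
  generalize Coalgebra.comul (R := R) a = t
  induction t using TensorProduct.induction_on with
  | zero => simp
  | add x y hx hy => simp only [map_add, hx, hy]
  | tmul x y => simp [TensorProduct.smul_tmul']

omit hπI hπ1 in
lemma mk_pi_eq : (TensorProduct.mk R A (augI R A).Cotangent 1) ∘ₗ π =
    act (HopfAlgebra.antipode R) (dmap π) := by
  rw [dmap_eq_act, ← act_assoc, LinearMap.antipode_mul_id, act_one]

theorem exists_unique_lift (D : Derivation R A M) :
    ∃! f : A ⊗[R] (augI R A).Cotangent →ₗ[A] M, ∀ a : A, f (dmap π a) = D a := by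
  refine ⟨LinearMap.liftBaseChange A (lmap π hπI hπ1 D), ?_, ?_⟩
  · intro a
    have h1 : ∀ t : A ⊗[R] A, LinearMap.liftBaseChange A (lmap π hπI hπ1 D) (π.lTensor A t) =
        smulT R A M (TensorProduct.map LinearMap.id (delta D) t) := by
      intro t
      induction t using TensorProduct.induction_on with
      | zero => simp
      | add x y hx hy => simp only [map_add, hx, hy]
      | tmul x y => simp [lmap_pi]
    have h2 : act LinearMap.id (delta D) = D.toLinearMap := by
      rw [delta, ← act_assoc, LinearMap.id_mul_antipode, act_one]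
    simp only [dmap, LinearMap.comp_apply, h1]
    have := congrArg (fun g => g a) h2
    simpa [act_apply] using this
  · intro f hf
    have hfd : (f.restrictScalars R) ∘ₗ dmap π = D.toLinearMap := by
      ext a; exact hf a
    have h3 : ∀ x : A, f ((1 : A) ⊗ₜ[R] π x) = delta D x := by
      intro x
      have := congrArg (fun g => (f.restrictScalars R) (g x)) (mk_pi_eq π)
      simp only [LinearMap.comp_apply, TensorProduct.mk_apply, LinearMap.restrictScalars_apply] at this
      rw [this, ← LinearMap.restrictScalars_apply R f, ← LinearMap.comp_apply, act_comp, hfd]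
      rfl
    apply TensorProduct.AlgebraTensorModule.ext
    intro b c
    obtain ⟨x, rfl⟩ := pi_surjective π hπI hπ1 c
    have : b ⊗ₜ[R] π x = b • ((1 : A) ⊗ₜ[R] π x) := by
      rw [TensorProduct.smul_tmul', smul_eq_mul, mul_one]
    rw [this, map_smul, map_smul, h3]
    simp [lmap_pi]

end deriv

section kaehler
variable (R : Type*) (A : Type*) [CommRing R] [CommRing A] [HopfAlgebra R A]

/-- the canonical projection `A → I/I²` killing `1` -/
noncomputable def piCan : A →ₗ[R] (augI R A).Cotangent where
  toFun x := (augI R A).toCotangent ⟨x - algebraMap R A (Coalgebra.counit x), sub_counit_mem x⟩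
  map_add' x y := by
    rw [← map_add]
    congr 1
    apply Subtype.ext
    simp only [map_add, Submodule.coe_add]
    ring
  map_smul' r x := by
    rw [RingHom.id_apply, ← LinearMap.map_smul_of_tower]
    congr 1
    apply Subtype.ext
    show r • x - algebraMap R A (Coalgebra.counit (r • x)) =
      r • (x - algebraMap R A (Coalgebra.counit x))
    rw [map_smul, smul_sub, smul_eq_mul, map_mul, Algebra.smul_def r (algebraMap R A _)]

lemma piCan_mem (x : augI R A) : piCan R A (x : A) = (augI R A).toCotangent x := by
  have hx : Coalgebra.counit (R := R) (x : A) = 0 := x.2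
  simp only [piCan, LinearMap.coe_mk, AddHom.coe_mk]
  congr 1
  apply Subtype.ext
  simp [hx]

lemma piCan_one : piCan R A 1 = 0 := by
  simp only [piCan, LinearMap.coe_mk, AddHom.coe_mk]
  rw [Ideal.toCotangent_eq_zero]
  simp

/-- the canonical derivation `A → A ⊗ I/I²` -/
noncomputable def dCan : Derivation R A (A ⊗[R] (augI R A).Cotangent) :=
  Derivation.mk' (dmap (piCan R A)) (fun a b =>
    dmap_leibniz (piCan R A) (piCan_mem R A) (piCan_one R A) a b)

/-- Kähler differentials of a Hopf algebra -/
noncomputable def kaehlerEquiv : Ω[A⁄R] ≃ₗ[A] A ⊗[R] (augI R A).Cotangent := by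
  let F : Ω[A⁄R] →ₗ[A] A ⊗[R] (augI R A).Cotangent := (dCan R A).liftKaehlerDifferential
  have hG := exists_unique_lift (piCan R A) (piCan_mem R A) (piCan_one R A) (KaehlerDifferential.D R A)
  let G := hG.exists.choose
  have hGs : ∀ a : A, G (dmap (piCan R A) a) = KaehlerDifferential.D R A a := hG.exists.choose_spec
  have hF : ∀ a : A, F (KaehlerDifferential.D R A a) = dmap (piCan R A) a := by
    intro a
    simp only [F, Derivation.liftKaehlerDifferential_comp_D]
    rfl
  refine LinearEquiv.ofLinearMap F G ?_ ?_
  · have hu := exists_unique_lift (piCan R A) (piCan_mem R A) (piCan_one R A) (dCan R A)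
    apply hu.unique
    · intro a
      simp only [LinearMap.comp_apply, hGs, hF]
      rfl
    · intro a
      rfl
  · apply Derivation.liftKaehlerDifferential_unique
    ext a
    simp [hF, hGs]

end kaehler

end Groth.Agent.Helper2.HopfDiff
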