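import Mathlib

set_option autoImplicit false
universe u v
open TensorProduct WithConv

namespace Groth.Agent.Helper2.HopfFGv

section Slices
variable {k : Type u} [Field k] {A : Type v} [AddCommGroup A] [Module k A]

/-- right-slice criterion -/
lemma mem_range_rTensor_of_slices (W : Submodule k A) (t : A ⊗[k] A)
    (h : ∀ θ : A →ₗ[k] k, (TensorProduct.rid k A) (θ.lTensor A t) ∈ W) :
    t ∈ LinearMap.range (W.subtype.rTensor A) := by
  classical
  let e := Module.Basis.ofVectorSpace k A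
  obtain ⟨b, hb⟩ := TensorProduct.eq_repr_basis_right e t
  have hbi : ∀ i, b i ∈ W := by
    intro i
    have := h (e.coord i)
    rw [← hb] at this
    simp only [Finsupp.sum, map_sum, LinearMap.lTensor_tmul, TensorProduct.rid_tmul,
      Module.Basis.coord_apply, Module.Basis.repr_self, Finsupp.single_apply, ite_smul, one_smul,
      zero_smul, Finset.sum_ite_eq', Finsupp.mem_support_iff] at this
    by_cases hi : b i = 0
    · rw [hi]; exact W.zero_mem
    · simpa [hi] using this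
  rw [← hb]
  refine Submodule.sum_mem _ fun i _ => ?_
  exact ⟨(⟨b i, hbi i⟩ : W) ⊗ₜ e i, by simp⟩

/-- left-slice criterion -/
lemma mem_range_lTensor_of_slices (W : Submodule k A) (t : A ⊗[k] A)
    (h : ∀ θ : A →ₗ[k] k, (TensorProduct.lid k A) (θ.rTensor A t) ∈ W) :
    t ∈ LinearMap.range (W.subtype.lTensor A) := by
  classical
  let e := Module.Basis.ofVectorSpace k A
  obtain ⟨b, hb⟩ := TensorProduct.eq_repr_basis_left e t
  have hbi : ∀ i, b i ∈ W := by
    intro i
    have := h (e.coord i)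
    rw [← hb] at this
    simp only [Finsupp.sum, map_sum, LinearMap.rTensor_tmul, TensorProduct.lid_tmul,
      Module.Basis.coord_apply, Module.Basis.repr_self, Finsupp.single_apply, ite_smul, one_smul,
      zero_smul, Finset.sum_ite_eq', Finsupp.mem_support_iff] at this
    by_cases hi : b i = 0
    · rw [hi]; exact W.zero_mem
    · simpa [hi] using this
  rw [← hb]
  refine Submodule.sum_mem _ fun i _ => ?_
  exact ⟨e i ⊗ₜ (⟨b i, hbi i⟩ : W), by simp⟩

lemma mem_range_map_of_mem_both (W : Submodule k A) (t : A ⊗[k] A)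
    (h1 : t ∈ LinearMap.range (W.subtype.rTensor A))
    (h2 : t ∈ LinearMap.range (W.subtype.lTensor A)) :
    t ∈ LinearMap.range (TensorProduct.map W.subtype W.subtype) := by
  obtain ⟨π, hπ⟩ := LinearMap.exists_leftInverse_of_injective W.subtype (Submodule.ker_subtype W)
  let P : A →ₗ[k] A := W.subtype ∘ₗ π
  have hP : P ∘ₗ W.subtype = W.subtype := by
    ext w
    have := LinearMap.congr_fun hπ w
    simp only [LinearMap.comp_apply, LinearMap.id_apply] at this
    show W.subtype (π (W.subtype w)) = W.subtype w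
    rw [this]
  have e1 : P.rTensor A t = t := by
    obtain ⟨t1, rfl⟩ := h1
    rw [← LinearMap.comp_apply, ← LinearMap.rTensor_comp, hP]
  have e2 : P.lTensor A t = t := by
    obtain ⟨t2, rfl⟩ := h2
    rw [← LinearMap.comp_apply, ← LinearMap.lTensor_comp, hP]
  have : t = TensorProduct.map W.subtype W.subtype (TensorProduct.map π π t) := by
    rw [← LinearMap.comp_apply, ← TensorProduct.map_comp]
    conv_lhs => rw [← e1, ← e2]
    rw [← LinearMap.comp_apply, LinearMap.rTensor_comp_lTensor]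
  rw [this]
  exact ⟨_, rfl⟩

end Slices


section Coalg
variable {k : Type u} [Field k] {A : Type v} [AddCommGroup A] [Module k A] [Coalgebra k A]

local notation "Δ" => (Coalgebra.comul (R := k) (A := A))
local notation "ε" => (Coalgebra.counit (R := k) (A := A))

/-- left hit: `a ↦ Σ φ(a₁) a₂`. -/
noncomputable def Lop (φ : A →ₗ[k] k) : A →ₗ[k] A :=
  (TensorProduct.lid k A).toLinearMap ∘ₗ φ.rTensor A ∘ₗ Δ

/-- right hit: `a ↦ Σ a₁ ψ(a₂)`. -/
noncomputable def Rop (ψ : A →ₗ[k] k) : A →ₗ[k] A :=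
  (TensorProduct.rid k A).toLinearMap ∘ₗ ψ.lTensor A ∘ₗ Δ

/-- convolution of functionals -/
noncomputable def cv (θ ψ : A →ₗ[k] k) : A →ₗ[k] k :=
  LinearMap.mul' k k ∘ₗ TensorProduct.map θ ψ ∘ₗ Δ

lemma Lop_counit (a : A) : Lop (k := k) ε a = a := by
  simp [Lop, Coalgebra.rTensor_counit_comul]

lemma Rop_counit (a : A) : Rop (k := k) ε a = a := by
  simp [Rop, Coalgebra.lTensor_counit_comul]

lemma Lop_Rop (θ ψ : A →ₗ[k] k) (a : A) : Lop θ (Rop ψ a) = Rop ψ (Lop θ a) := by
  -- Ψ1 : (A⊗A)⊗A → A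
  let Ψ1 : (A ⊗[k] A) ⊗[k] A →ₗ[k] A :=
    (TensorProduct.rid k A).toLinearMap ∘ₗ ψ.lTensor A ∘ₗ
      ((TensorProduct.lid k A).toLinearMap ∘ₗ θ.rTensor A).rTensor A
  let Ψ2 : A ⊗[k] (A ⊗[k] A) →ₗ[k] A :=
    (TensorProduct.lid k A).toLinearMap ∘ₗ θ.rTensor A ∘ₗ
      ((TensorProduct.rid k A).toLinearMap ∘ₗ ψ.lTensor A).lTensor A
  have h1 : Lop θ ∘ₗ (TensorProduct.rid k A).toLinearMap ∘ₗ ψ.lTensor A =
      Ψ1 ∘ₗ (Δ).rTensor A := by
    ext a1 a2
    simp [Ψ1, Lop]
  have h2 : Rop ψ ∘ₗ (TensorProduct.lid k A).toLinearMap ∘ₗ θ.rTensor A =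
      Ψ2 ∘ₗ (Δ).lTensor A := by
    ext a1 a2
    simp [Ψ2, Rop]
  have h3 : Ψ1 = Ψ2 ∘ₗ (TensorProduct.assoc k A A A).toLinearMap := by
    ext b c d
    simp [Ψ1, Ψ2, smul_smul, mul_comm]
  calc Lop θ (Rop ψ a) = (Lop θ ∘ₗ (TensorProduct.rid k A).toLinearMap ∘ₗ ψ.lTensor A) (Δ a) := rfl
    _ = Ψ1 ((Δ).rTensor A (Δ a)) := by rw [h1]; rfl
    _ = Ψ2 ((Δ).lTensor A (Δ a)) := by
        rw [h3, ← Coalgebra.coassoc_apply]; rfl
    _ = (Rop ψ ∘ₗ (TensorProduct.lid k A).toLinearMap ∘ₗ θ.rTensor A) (Δ a) := by rw [h2]; rfl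
    _ = Rop ψ (Lop θ a) := rfl

lemma Rop_Rop (θ ψ : A →ₗ[k] k) (a : A) : Rop θ (Rop ψ a) = Rop (cv θ ψ) a := by
  let Ψ3 : (A ⊗[k] A) ⊗[k] A →ₗ[k] A :=
    (TensorProduct.rid k A).toLinearMap ∘ₗ ψ.lTensor A ∘ₗ
      ((TensorProduct.rid k A).toLinearMap ∘ₗ θ.lTensor A).rTensor A
  let Ψ4 : A ⊗[k] (A ⊗[k] A) →ₗ[k] A :=
    (TensorProduct.rid k A).toLinearMap ∘ₗ
      (LinearMap.mul' k k ∘ₗ TensorProduct.map θ ψ).lTensor A
  have h1 : Rop θ ∘ₗ (TensorProduct.rid k A).toLinearMap ∘ₗ ψ.lTensor A =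
      Ψ3 ∘ₗ (Δ).rTensor A := by
    ext a1 a2
    simp [Ψ3, Rop]
  have h3 : Ψ3 = Ψ4 ∘ₗ (TensorProduct.assoc k A A A).toLinearMap := by
    ext b c d
    simp [Ψ3, Ψ4, smul_smul, mul_comm]
  calc Rop θ (Rop ψ a) = (Rop θ ∘ₗ (TensorProduct.rid k A).toLinearMap ∘ₗ ψ.lTensor A) (Δ a) := rfl
    _ = Ψ3 ((Δ).rTensor A (Δ a)) := by rw [h1]; rfl
    _ = Ψ4 ((Δ).lTensor A (Δ a)) := by
        rw [h3, ← Coalgebra.coassoc_apply]; rfl
    _ = Rop (cv θ ψ) a := by
        simp only [Ψ4, Rop, cv, LinearMap.comp_apply, LinearMap.lTensor_comp]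

lemma Lop_Lop (θ φ : A →ₗ[k] k) (a : A) : Lop θ (Lop φ a) = Lop (cv φ θ) a := by
  let Ψ5 : A ⊗[k] (A ⊗[k] A) →ₗ[k] A :=
    (TensorProduct.lid k A).toLinearMap ∘ₗ φ.rTensor A ∘ₗ
      ((TensorProduct.lid k A).toLinearMap ∘ₗ θ.rTensor A).lTensor A
  let Ψ6 : (A ⊗[k] A) ⊗[k] A →ₗ[k] A :=
    (TensorProduct.lid k A).toLinearMap ∘ₗ
      (LinearMap.mul' k k ∘ₗ TensorProduct.map φ θ).rTensor A
  have h1 : Lop θ ∘ₗ (TensorProduct.lid k A).toLinearMap ∘ₗ φ.rTensor A =
      Ψ5 ∘ₗ (Δ).lTensor A := by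
    ext a1 a2
    simp [Ψ5, Lop]
  have h3 : Ψ6 = Ψ5 ∘ₗ (TensorProduct.assoc k A A A).toLinearMap := by
    ext b c d
    simp [Ψ5, Ψ6, smul_smul, mul_comm]
  calc Lop θ (Lop φ a) = (Lop θ ∘ₗ (TensorProduct.lid k A).toLinearMap ∘ₗ φ.rTensor A) (Δ a) := rfl
    _ = Ψ5 ((Δ).lTensor A (Δ a)) := by rw [h1]; rfl
    _ = Ψ6 ((Δ).rTensor A (Δ a)) := by
        rw [h3, ← Coalgebra.coassoc_apply]; rfl
    _ = Lop (cv φ θ) a := by
        simp only [Ψ6, Lop, cv, LinearMap.comp_apply, LinearMap.rTensor_comp]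


/-- the subcoalgebra generated by `x` -/
noncomputable def subco (x : A) : Submodule k A :=
  Submodule.span k {y | ∃ φ ψ : A →ₗ[k] k, y = Rop ψ (Lop φ x)}

lemma mem_subco (x : A) : x ∈ subco (k := k) x := by
  refine Submodule.subset_span ⟨ε, ε, ?_⟩
  rw [Lop_counit, Rop_counit]

lemma Rop_mem_subco (x : A) (θ : A →ₗ[k] k) {w : A} (hw : w ∈ subco (k := k) x) :
    Rop θ w ∈ subco (k := k) x := by
  have : subco (k := k) x ≤ (subco (k := k) x).comap (Rop θ) := by
    refine Submodule.span_le.2 ?_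
    rintro _ ⟨φ, ψ, rfl⟩
    show Rop θ (Rop ψ (Lop φ x)) ∈ subco x
    rw [Rop_Rop]
    exact Submodule.subset_span ⟨φ, _, rfl⟩
  exact this hw

lemma Lop_mem_subco (x : A) (θ : A →ₗ[k] k) {w : A} (hw : w ∈ subco (k := k) x) :
    Lop θ w ∈ subco (k := k) x := by
  have : subco (k := k) x ≤ (subco (k := k) x).comap (Lop θ) := by
    refine Submodule.span_le.2 ?_
    rintro _ ⟨φ, ψ, rfl⟩
    show Lop θ (Rop ψ (Lop φ x)) ∈ subco x
    rw [Lop_Rop, Lop_Lop]
    exact Submodule.subset_span ⟨_, ψ, rfl⟩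
  exact this hw

lemma comul_mem_subco (x : A) {w : A} (hw : w ∈ subco (k := k) x) :
    Δ w ∈ LinearMap.range (TensorProduct.map (subco (k := k) x).subtype (subco (k := k) x).subtype) := by
  apply mem_range_map_of_mem_both
  · apply mem_range_rTensor_of_slices
    intro θ
    exact Rop_mem_subco x θ hw
  · apply mem_range_lTensor_of_slices
    intro θ
    exact Lop_mem_subco x θ hw

/-- the two-sided hit lands in a fixed finitely generated subspace -/
lemma exists_fg_bound (T : A ⊗[k] (A ⊗[k] A)) :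
    ∃ U : Submodule k A, U.FG ∧ ∀ φ ψ : A →ₗ[k] k,
      ((TensorProduct.lid k A).toLinearMap ∘ₗ φ.rTensor A ∘ₗ
        ((TensorProduct.rid k A).toLinearMap ∘ₗ ψ.lTensor A).lTensor A) T ∈ U := by
  induction T using TensorProduct.induction_on with
  | zero => exact ⟨⊥, Submodule.fg_bot, fun φ ψ => by simp⟩
  | tmul b t =>
    induction t using TensorProduct.induction_on with
    | zero => exact ⟨⊥, Submodule.fg_bot, fun φ ψ => by simp⟩
    | tmul c d =>
      refine ⟨Submodule.span k {c}, Submodule.fg_span_singleton c, fun φ ψ => ?_⟩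
      simp only [LinearMap.comp_apply, LinearMap.lTensor_tmul, LinearMap.rTensor_tmul,
        LinearEquiv.coe_coe, TensorProduct.rid_tmul, TensorProduct.lid_tmul]
      exact Submodule.smul_mem _ _ (Submodule.smul_mem _ _ (Submodule.mem_span_singleton_self c))
    | add t1 t2 h1 h2 =>
      obtain ⟨U1, hU1, h1⟩ := h1
      obtain ⟨U2, hU2, h2⟩ := h2
      refine ⟨U1 ⊔ U2, hU1.sup hU2, fun φ ψ => ?_⟩
      rw [TensorProduct.tmul_add, map_add]
      exact Submodule.add_mem_sup (h1 φ ψ) (h2 φ ψ)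
  | add T1 T2 h1 h2 =>
    obtain ⟨U1, hU1, h1⟩ := h1
    obtain ⟨U2, hU2, h2⟩ := h2
    refine ⟨U1 ⊔ U2, hU1.sup hU2, fun φ ψ => ?_⟩
    rw [map_add]
    exact Submodule.add_mem_sup (h1 φ ψ) (h2 φ ψ)

lemma subco_fg (x : A) : (subco (k := k) x).FG := by
  obtain ⟨U, hU, h⟩ := exists_fg_bound (k := k) ((Δ).lTensor A (Δ x))
  have hle : subco (k := k) x ≤ U := by
    refine Submodule.span_le.2 ?_
    rintro _ ⟨φ, ψ, rfl⟩
    have h2 : Rop ψ ∘ₗ (TensorProduct.lid k A).toLinearMap ∘ₗ φ.rTensor A =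
        ((TensorProduct.lid k A).toLinearMap ∘ₗ φ.rTensor A ∘ₗ
          ((TensorProduct.rid k A).toLinearMap ∘ₗ ψ.lTensor A).lTensor A) ∘ₗ (Δ).lTensor A := by
      ext a1 a2
      simp [Rop]
    have : Rop ψ (Lop φ x) = (Rop ψ ∘ₗ (TensorProduct.lid k A).toLinearMap ∘ₗ φ.rTensor A) (Δ x) := rfl
    rw [SetLike.mem_coe, this, h2]
    exact h φ ψ
  haveI : Module.Finite k U := Module.Finite.iff_fg.2 hU
  haveI : IsNoetherian k U := inferInstance
  have : (Submodule.comap U.subtype (subco (k := k) x)).FG := IsNoetherian.noetherian _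
  have h3 := this.map U.subtype
  rwa [Submodule.map_comap_subtype, inf_eq_right.2 hle] at h3

end Coalg
section Hopf
variable {k : Type u} [CommRing k] {A : Type v} [CommRing A] [HopfAlgebra k A]

lemma antipode_antipode (a : A) :
    HopfAlgebra.antipode k (HopfAlgebra.antipode k a) = a := by
  have h1 : toConv (HopfAlgebra.antipodeAlgHom k A) = (toConv (AlgHom.id k A))⁻¹ :=
    eq_inv_of_mul_eq_one_left AlgHom.antipode_id_cancel
  have h2 : (toConv (HopfAlgebra.antipodeAlgHom k A))⁻¹ =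
      toConv ((HopfAlgebra.antipodeAlgHom k A).comp (HopfAlgebra.antipodeAlgHom k A)) := rfl
  rw [h1, inv_inv] at h2
  have h3 := congrArg (fun f => f.ofConv a) h2
  simpa using h3.symm

/-- `Δ ∘ S = (i₂ ∘ S) ⋆ (i₁ ∘ S)` -/
lemma comul_antipode (a : A) :
    Coalgebra.comul (R := k) (HopfAlgebra.antipode k a) =
      Algebra.TensorProduct.lift
        ((Algebra.TensorProduct.includeRight (R := k) (A := A) (B := A)).comp
          (HopfAlgebra.antipodeAlgHom k A))
        ((Algebra.TensorProduct.includeLeft (R := k) (S := k) (A := A) (B := A)).comp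
          (HopfAlgebra.antipodeAlgHom k A))
        (fun _ _ => .all ..) (Coalgebra.comul (R := k) a) := by
  let i1 : WithConv (A →ₐ[k] A ⊗[k] A) := toConv Algebra.TensorProduct.includeLeft
  let i2 : WithConv (A →ₐ[k] A ⊗[k] A) := toConv Algebra.TensorProduct.includeRight
  have h12 : i1 * i2 = toConv (Bialgebra.comulAlgHom k A) := by
    apply WithConv.ofConv_injective
    ext c
    show (i1 * i2) c = _
    rw [AlgHom.convMul_apply]
    have : Algebra.TensorProduct.lift i1.ofConv i2.ofConv (fun _ _ => .all ..) = AlgHom.id k _ := by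
      ext <;> simp [i1, i2]
    rw [this]
    rfl
  have hinv : (toConv (Bialgebra.comulAlgHom k A))⁻¹ = i2⁻¹ * i1⁻¹ := by
    rw [← h12]
    exact mul_inv_rev i1 i2
  have h3 := congrArg (fun f => f.ofConv a) hinv
  have h4 : ((toConv (Bialgebra.comulAlgHom k A))⁻¹).ofConv a =
      Coalgebra.comul (R := k) (HopfAlgebra.antipode k a) := rfl
  rw [← h4]
  refine h3.trans ?_
  show (i2⁻¹ * i1⁻¹) a = _
  rw [AlgHom.convMul_apply]
  rfl

end Hopf

section Main
variable {k : Type u} [Field k] {A : Type v} [CommRing A] [HopfAlgebra k A]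

/-- sub-Hopf-algebra predicate, universe polymorphic -/
def IsHopfSub (B : Subalgebra k A) : Prop :=
  (∀ b ∈ B, CoalgebraStruct.comul (R := k) (A := A) b ∈
      LinearMap.range (TensorProduct.map B.val.toLinearMap B.val.toLinearMap)) ∧
    ∀ b ∈ B, HopfAlgebraStruct.antipode (R := k) (A := A) b ∈ B

theorem exists_fg_hopfSub (x : A) :
    ∃ B : Subalgebra k A, x ∈ B ∧ B.FG ∧ IsHopfSub B := by
  classical
  obtain ⟨s, hs⟩ := subco_fg (k := k) x
  set W := subco (k := k) x with hW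
  let S := HopfAlgebra.antipodeAlgHom k A
  let gens : Finset A := s ∪ s.image S
  let B := Algebra.adjoin k (gens : Set A)
  have hsW : ∀ a ∈ s, a ∈ W := fun a ha => hs ▸ Submodule.subset_span ha
  have hWB : W ≤ Subalgebra.toSubmodule B := by
    rw [← hs]
    exact Submodule.span_le.2 (fun a ha => Algebra.subset_adjoin (by simp [gens]; left; exact ha))
  have hSWB : ∀ w ∈ W, S w ∈ B := by
    have : W ≤ (Subalgebra.toSubmodule B).comap S.toLinearMap := by
      rw [← hs]
      refine Submodule.span_le.2 (fun a ha => ?_)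
      exact Algebra.subset_adjoin (by simp [gens]; right; exact ⟨a, ha, rfl⟩)
    exact this
  refine ⟨B, hWB (mem_subco x), ⟨gens, rfl⟩, ?_, ?_⟩
  · let P : Subalgebra k (A ⊗[k] A) := (Algebra.TensorProduct.map B.val B.val).range
    have hP : ∀ t, t ∈ P → t ∈ LinearMap.range
        (TensorProduct.map B.val.toLinearMap B.val.toLinearMap) := by
      rintro _ ⟨t, rfl⟩
      exact ⟨t, rfl⟩
    have hWP : ∀ t : W ⊗[k] W, TensorProduct.map W.subtype W.subtype t ∈ P := by
      intro t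
      induction t using TensorProduct.induction_on with
      | zero => simp
      | tmul p q =>
        exact ⟨(⟨p.1, hWB p.2⟩ : B) ⊗ₜ (⟨q.1, hWB q.2⟩ : B), rfl⟩
      | add t1 t2 h1 h2 => rw [map_add]; exact P.add_mem h1 h2
    have hSP : ∀ t : W ⊗[k] W, Algebra.TensorProduct.lift
        ((Algebra.TensorProduct.includeRight (R := k) (A := A) (B := A)).comp S)
        ((Algebra.TensorProduct.includeLeft (R := k) (S := k) (A := A) (B := A)).comp S)
        (fun _ _ => .all ..) (TensorProduct.map W.subtype W.subtype t) ∈ P := by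
      intro t
      induction t using TensorProduct.induction_on with
      | zero => simp
      | tmul p q =>
        refine ⟨(⟨S q.1, hSWB _ q.2⟩ : B) ⊗ₜ (⟨S p.1, hSWB _ p.2⟩ : B), ?_⟩
        simp [Algebra.TensorProduct.tmul_mul_tmul]
      | add t1 t2 h1 h2 => rw [map_add, map_add]; exact P.add_mem h1 h2
    have hle : B ≤ P.comap (Bialgebra.comulAlgHom k A) := by
      refine Algebra.adjoin_le ?_
      intro a ha
      simp only [gens, Finset.coe_union, Finset.coe_image, Set.mem_union, Finset.mem_coe,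
        Set.mem_image] at ha
      rcases ha with ha | ⟨w, hw, rfl⟩
      · obtain ⟨t, ht⟩ := comul_mem_subco x (hsW a ha)
        show Coalgebra.comul (R := k) a ∈ P
        rw [← ht]
        exact hWP t
      · obtain ⟨t, ht⟩ := comul_mem_subco x (hsW w hw)
        show Coalgebra.comul (R := k) (HopfAlgebra.antipode k w) ∈ P
        rw [comul_antipode, ← ht]
        exact hSP t
    intro b hb
    exact hP _ (hle hb)
  · have hle : B ≤ B.comap S := by
      refine Algebra.adjoin_le ?_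
      intro a ha
      simp only [gens, Finset.coe_union, Finset.coe_image, Set.mem_union, Finset.mem_coe,
        Set.mem_image] at ha
      rcases ha with ha | ⟨w, hw, rfl⟩
      · exact hSWB a (hsW a ha)
      · show S (S w) ∈ B
        have : S (S w) = w := antipode_antipode w
        rw [this]
        exact hWB (hsW w hw)
    intro b hb
    exact hle hb


theorem isHopfSub_sup {B₁ B₂ : Subalgebra k A} (h₁ : IsHopfSub B₁) (h₂ : IsHopfSub B₂) :
    IsHopfSub (B₁ ⊔ B₂) := by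
  set B := B₁ ⊔ B₂ with hB
  let S := HopfAlgebra.antipodeAlgHom k A
  let P : Subalgebra k (A ⊗[k] A) := (Algebra.TensorProduct.map B.val B.val).range
  have hP : ∀ t, t ∈ P → t ∈ LinearMap.range
      (TensorProduct.map B.val.toLinearMap B.val.toLinearMap) := by
    rintro _ ⟨t, rfl⟩
    exact ⟨t, rfl⟩
  have key : ∀ (B' : Subalgebra k A) (hle : B' ≤ B), IsHopfSub B' →
      B' ≤ P.comap (Bialgebra.comulAlgHom k A) := by
    intro B' hle h b hb
    obtain ⟨z, hz⟩ := h.1 b hb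
    show Coalgebra.comul (R := k) b ∈ P
    rw [← hz]
    have hgen : ∀ z : ↥B' ⊗[k] ↥B', (Algebra.TensorProduct.map B.val B.val)
        (Algebra.TensorProduct.map (Subalgebra.inclusion hle) (Subalgebra.inclusion hle) z) =
        TensorProduct.map B'.val.toLinearMap B'.val.toLinearMap z := by
      intro z
      induction z using TensorProduct.induction_on with
      | zero => simp
      | tmul p q => simp
      | add t1 t2 h1 h2 => rw [map_add, map_add, map_add, h1, h2]
    exact ⟨_, hgen z⟩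
  refine ⟨fun b hb => hP _ ((sup_le (key B₁ le_sup_left h₁) (key B₂ le_sup_right h₂)) hb), ?_⟩
  have hle : B ≤ B.comap S := by
    refine sup_le (fun b hb => ?_) (fun b hb => ?_)
    · exact (le_sup_left : B₁ ≤ B) (h₁.2 b hb)
    · exact (le_sup_right : B₂ ≤ B) (h₂.2 b hb)
  exact fun b hb => hle hb

theorem isHopfSub_bot : IsHopfSub (⊥ : Subalgebra k A) := by
  constructor
  · rintro b hb
    obtain ⟨r, rfl⟩ := Algebra.mem_bot.mp hb
    refine ⟨(algebraMap k _ r) ⊗ₜ 1, ?_⟩
    simp [Algebra.algebraMap_eq_smul_one, Algebra.TensorProduct.one_def, TensorProduct.smul_tmul']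
  · rintro b hb
    obtain ⟨r, rfl⟩ := Algebra.mem_bot.mp hb
    have : HopfAlgebraStruct.antipode (R := k) (A := A) (algebraMap k A r) = algebraMap k A r := by
      have := (HopfAlgebra.antipodeAlgHom k A).commutes r
      exact this
    rw [this]
    exact Subalgebra.algebraMap_mem _ r

theorem exists_fg_hopfSub_finset (t : Finset A) :
    ∃ B : Subalgebra k A, (↑t : Set A) ⊆ B ∧ B.FG ∧ IsHopfSub B := by
  classical
  induction t using Finset.induction_on with
  | empty => exact ⟨⊥, by simp, Subalgebra.fg_bot, isHopfSub_bot⟩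
  | insert x t _ ih =>
    obtain ⟨B₁, h1, hfg1, hH1⟩ := ih
    obtain ⟨B₂, h2, hfg2, hH2⟩ := exists_fg_hopfSub (k := k) x
    refine ⟨B₁ ⊔ B₂, ?_, hfg1.sup hfg2, isHopfSub_sup hH1 hH2⟩
    intro y hy
    rw [Finset.coe_insert, Set.mem_insert_iff] at hy
    rcases hy with rfl | hy
    · exact (le_sup_right : B₂ ≤ B₁ ⊔ B₂) h2
    · exact (le_sup_left : B₁ ≤ B₁ ⊔ B₂) (h1 hy)

end Main

end Groth.Agent.Helper2.HopfFGv
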