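import Mathlib
import Groth.Prelude
import Groth.Agent.Helper2.HullZA

set_option autoImplicit false
universe u
open CategoryTheory CategoryTheory.Limits TensorProduct

namespace Groth.Agent.Helper2.HullWL

open Groth.Agent.Helper2.IndEtCrit Groth.Agent.Helper2.IndZarCrit Groth.Agent.Helper2.HullZ

variable (A : Type u) [CommRing A] (B₀ : Type u) [CommRing B₀] [Algebra A B₀]

/-- the counit -/
noncomputable abbrev ε : Hull A B₀ →ₐ[A] B₀ := hullCounit A B₀

/-- the kernel of the counit lies in every maximal ideal -/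
theorem ker_le_of_isMaximal (m : Ideal (Hull A B₀)) [hm : m.IsMaximal] :
    RingHom.ker (ε A B₀).toRingHom ≤ m := by
  intro k hk
  by_contra hkm
  obtain ⟨r, x, hx, hxy⟩ := hm.exists_inv hkm
  have hεx : ε A B₀ x = 1 := by
    have : x = 1 - r * k := by rw [← hxy]; ring
    rw [this, map_sub, map_one, map_mul]
    have hk0 : ε A B₀ k = 0 := hk
    rw [hk0, mul_zero, sub_zero]
  have hxu : IsUnit x := isUnit_of_isUnit_counit A B₀ x (by rw [hεx]; exact isUnit_one)
  exact hm.ne_top (Ideal.eq_top_of_isUnit_mem _ hx hxu)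

variable {A B₀}

section

variable (hsurj : Function.Surjective (ε A B₀))
  (hmax : ∀ q : Ideal B₀, q.IsPrime → q.IsMaximal)

include hsurj hmax in
theorem isMaximal_comap_ε (q : Ideal B₀) [hq : q.IsPrime] :
    (q.comap (ε A B₀).toRingHom).IsMaximal := by
  haveI := hmax q hq
  exact Ideal.comap_isMaximal_of_surjective _ hsurj

include hsurj in
theorem exists_comap_eq_of_isMaximal (m : Ideal (Hull A B₀)) [hm : m.IsMaximal] :
    ∃ q : PrimeSpectrum B₀, q.asIdeal.comap (ε A B₀).toRingHom = m := by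
  have h1 : (⟨m, hm.isPrime⟩ : PrimeSpectrum (Hull A B₀)) ∈
      PrimeSpectrum.zeroLocus (RingHom.ker (ε A B₀).toRingHom : Set (Hull A B₀)) :=
    ker_le_of_isMaximal A B₀ m
  rw [← range_comap_of_surjective _ _ hsurj] at h1
  obtain ⟨q, hq⟩ := h1
  exact ⟨q, congrArg PrimeSpectrum.asIdeal hq⟩

include hsurj hmax in
theorem closedPoints_eq :
    ProEtW.closedPoints (PrimeSpectrum (Hull A B₀)) =
      Set.range (PrimeSpectrum.comap (ε A B₀).toRingHom) := by
  ext y
  show IsClosed ({y} : Set _) ↔ _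
  rw [PrimeSpectrum.isClosed_singleton_iff_isMaximal]
  constructor
  · intro hy
    obtain ⟨q, hq⟩ := exists_comap_eq_of_isMaximal hsurj y.asIdeal
    exact ⟨q, PrimeSpectrum.ext hq⟩
  · rintro ⟨q, rfl⟩
    exact isMaximal_comap_ε hsurj hmax q.asIdeal

include hsurj hmax in
theorem closedPoints_eq_zeroLocus :
    ProEtW.closedPoints (PrimeSpectrum (Hull A B₀)) =
      PrimeSpectrum.zeroLocus (RingHom.ker (ε A B₀).toRingHom : Set (Hull A B₀)) := by
  rw [closedPoints_eq hsurj hmax, range_comap_of_surjective _ _ hsurj]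

variable (hsep : ∀ q₁ q₂ : PrimeSpectrum B₀, q₁ ≠ q₂ → ∃ t : B₀, IsIdempotentElem t ∧
    ((t ∈ q₁.asIdeal ∧ t ∉ q₂.asIdeal) ∨ (t ∈ q₂.asIdeal ∧ t ∉ q₁.asIdeal)))

include hsurj hmax hsep in
theorem isWLocal : ProEtW.IsWLocal (PrimeSpectrum (Hull A B₀)) := by
  refine ⟨inferInstance, ?_, ?_⟩
  · have h := closedPoints_eq_zeroLocus hsurj hmax
    unfold ProEtW.closedPoints at h
    rw [h]
    exact PrimeSpectrum.isClosed_zeroLocus _
  · intro x
    obtain ⟨m, hm, hle⟩ := Ideal.exists_le_maximal x.asIdeal x.2.ne_top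
    refine ⟨⟨m, hm.isPrime⟩, ⟨(PrimeSpectrum.isClosed_singleton_iff_isMaximal _).mpr hm,
      (PrimeSpectrum.le_iff_specializes x ⟨m, hm.isPrime⟩).mp hle⟩, ?_⟩
    rintro y ⟨hy, hxy⟩
    rw [PrimeSpectrum.isClosed_singleton_iff_isMaximal] at hy
    have hle' : x.asIdeal ≤ y.asIdeal := (PrimeSpectrum.le_iff_specializes x y).mpr hxy
    by_contra hne
    have hne' : y.asIdeal ≠ m := fun h => hne (PrimeSpectrum.ext h)
    obtain ⟨q₁, hq₁⟩ := exists_comap_eq_of_isMaximal hsurj m
    obtain ⟨q₂, hq₂⟩ := exists_comap_eq_of_isMaximal hsurj y.asIdeal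
    have hq : q₁ ≠ q₂ := by
      intro h
      apply hne'
      rw [← hq₁, ← hq₂, h]
    obtain ⟨t, ht, hsep'⟩ := hsep q₁ q₂ hq
    obtain ⟨c, hc, hcε⟩ := exists_counit_eq_of_isIdempotentElem A B₀ t ht
    have hcε' : ε A B₀ c = t := hcε
    have h0 : c * (1 - c) ∈ x.asIdeal := by
      have : c * (1 - c) = c - c * c := by ring
      rw [this, hc.eq, sub_self]
      exact x.asIdeal.zero_mem
    have hmem_m : ∀ z : Hull A B₀, z ∈ m ↔ ε A B₀ z ∈ q₁.asIdeal := fun z => by rw [← hq₁]; rfl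
    have hmem_y : ∀ z : Hull A B₀, z ∈ y.asIdeal ↔ ε A B₀ z ∈ q₂.asIdeal :=
      fun z => by rw [← hq₂]; rfl
    rcases hsep' with ⟨h1, h2⟩ | ⟨h1, h2⟩
    · have hcm : c ∈ m := (hmem_m c).mpr (by rw [hcε']; exact h1)
      have hcy : c ∉ y.asIdeal := fun h => h2 (by rw [← hcε']; exact (hmem_y c).mp h)
      rcases x.2.mem_or_mem h0 with h | h
      · exact hcy (hle' h)
      · apply hm.ne_top
        rw [Ideal.eq_top_iff_one]
        have := m.add_mem hcm (hle h)
        rwa [add_sub_cancel] at this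
    · have hcy : c ∈ y.asIdeal := (hmem_y c).mpr (by rw [hcε']; exact h1)
      have hcm : c ∉ m := fun h => h2 (by rw [← hcε']; exact (hmem_m c).mp h)
      rcases x.2.mem_or_mem h0 with h | h
      · exact hcm (hle h)
      · apply hy.ne_top
        rw [Ideal.eq_top_iff_one]
        have := y.asIdeal.add_mem hcy (hle' h)
        rwa [add_sub_cancel] at this

end

end Groth.Agent.Helper2.HullWL
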