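import Mathlib
import Groth.Prelude
import Groth.Agent.Helper2.HullWL

set_option autoImplicit false
universe u
open CategoryTheory CategoryTheory.Limits TensorProduct

namespace Groth.Agent.Helper2.HullQuot

open Groth.Agent.Helper2.IndEtCrit Groth.Agent.Helper2.IndZarCrit Groth.Agent.Helper2.HullZ
open Groth.Agent.Helper2.HullWL

variable {A : Type u} [CommRing A]

theorem mem_map_of_algHom (I : Ideal A) {X Y : Type u} [CommRing X] [CommRing Y] [Algebra A X]
    [Algebra A Y] (φ : X →ₐ[A] Y) {x : X} (hx : x ∈ I.map (algebraMap A X)) :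
    φ x ∈ I.map (algebraMap A Y) := by
  have h := Ideal.mem_map_of_mem φ.toRingHom hx
  rw [Ideal.map_map] at h
  have h2 : φ.toRingHom.comp (algebraMap A X) = algebraMap A Y := φ.comp_algebraMap
  rw [h2] at h
  exact h

/-- for a local isomorphism `C` with an augmentation to `A/I`, an element killed by the
augmentation lies in `IC` after multiplying with an element augmenting to `1` -/
theorem exists_mul_mem (I : Ideal A) {C : Type u} [CommRing C] [Algebra A C]
    [Algebra.IsLocalIso A C] (γ : C →ₐ[A] A ⧸ I) (c : C) (hc : γ c = 0) :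
    ∃ s : C, γ s = 1 ∧ s * c ∈ I.map (algebraMap A C) := by
  set IC : Ideal C := I.map (algebraMap A C) with hIC
  have hICγ : ∀ x ∈ IC, γ x = 0 := by
    have : IC ≤ RingHom.ker γ.toRingHom := by
      rw [hIC, Ideal.map_le_iff_le_comap]
      intro a ha
      show γ (algebraMap A C a) = 0
      rw [γ.commutes]
      exact Ideal.Quotient.eq_zero_iff_mem.mpr ha
    exact fun x hx => this hx
  let θ : A ⧸ I →+* C ⧸ IC := Ideal.Quotient.lift I ((Ideal.Quotient.mk IC).comp (algebraMap A C))
    (fun a ha => by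
      show Ideal.Quotient.mk IC (algebraMap A C a) = 0
      rw [Ideal.Quotient.eq_zero_iff_mem]
      exact Ideal.mem_map_of_mem _ ha)
  let γbar : C ⧸ IC →+* A ⧸ I := Ideal.Quotient.lift IC γ.toRingHom hICγ
  have hγθ : ∀ x : A ⧸ I, γbar (θ x) = x := by
    intro x
    obtain ⟨a, rfl⟩ := Ideal.Quotient.mk_surjective x
    show γ (algebraMap A C a) = _
    rw [γ.commutes]
    rfl
  let f : C →ₐ[A] C ⧸ IC := Ideal.Quotient.mkₐ A IC
  let g : C →ₐ[A] C ⧸ IC :=
    { θ.comp γ.toRingHom with
      commutes' := fun a => by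
        show θ (γ (algebraMap A C a)) = _
        rw [γ.commutes]
        rfl }
  have hg : ∀ x, g x = θ (γ x) := fun _ => rfl
  have hfg : ∀ x : C, f x - g x ∈ RingHom.ker γbar := by
    intro x
    rw [RingHom.mem_ker, map_sub, hg, hγθ]
    show γ x - γ x = 0
    exact sub_self _
  set d : C ⧸ IC := Ideal.Quotient.mk IC c with hd
  let Ann : Ideal (C ⧸ IC) := LinearMap.ker (LinearMap.toSpanSingleton (C ⧸ IC) (C ⧸ IC) d)
  have hAnn : ∀ x, x ∈ Ann ↔ x * d = 0 := by
    intro x
    rw [LinearMap.mem_ker, LinearMap.toSpanSingleton_apply, smul_eq_mul]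
  have htop : Ann ⊔ RingHom.ker γbar = ⊤ := by
    by_contra hne
    obtain ⟨m, hm, hle⟩ := Ideal.exists_le_maximal _ hne
    haveI := hm.isPrime
    have hJm : RingHom.ker γbar ≤ m := le_trans le_sup_right hle
    obtain ⟨u, hu, hud⟩ := exists_mul_eq_zero f g m (fun x => hJm (hfg x)) c
    have hgc : g c = 0 := by rw [hg, hc, map_zero]
    rw [hgc, sub_zero] at hud
    exact hu (hle (Ideal.mem_sup_left ((hAnn u).mpr hud)))
  have h1 : (1 : C ⧸ IC) ∈ Ann ⊔ RingHom.ker γbar := htop ▸ Submodule.mem_top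
  obtain ⟨α, hα, κ, hκ, hακ⟩ := Submodule.mem_sup.mp h1
  obtain ⟨s, rfl⟩ := Ideal.Quotient.mk_surjective α
  refine ⟨s, ?_, ?_⟩
  · have h2 : γbar (Ideal.Quotient.mk IC s) = 1 := by
      have : Ideal.Quotient.mk IC s = 1 - κ := by rw [← hακ]; ring
      rw [this, map_sub, map_one, RingHom.mem_ker.mp hκ, sub_zero]
    exact h2
  · have := (hAnn _).mp hα
    rw [hd, ← map_mul, Ideal.Quotient.eq_zero_iff_mem] at this
    exact this

/-- the kernel of the counit of the hull of `A/I` is `I · Hull` -/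
theorem ker_counit_quot (I : Ideal A) :
    RingHom.ker (ε A (A ⧸ I)).toRingHom = I.map (algebraMap A (Hull A (A ⧸ I))) := by
  apply le_antisymm
  · intro b hb
    obtain ⟨j, c, rfl⟩ := hullι_jointly_surjective A (A ⧸ I) b
    have hγ : j.γ c = 0 := by rw [← hullCounit_ι]; exact hb
    obtain ⟨s, hs1, hsc⟩ := exists_mul_mem I j.γ c hγ
    haveI : Algebra.IsLocalIso A (Localization.Away s) := Algebra.IsLocalIso.trans A j.C _
    have hsu : IsUnit (j.γ s) := by rw [hs1]; exact isUnit_one
    let γ' : Localization.Away s →ₐ[A] A ⧸ I := IsLocalization.Away.liftAlgHom s (f := j.γ) hsu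
    have hγ' : ∀ x, γ' (algebraMap j.C (Localization.Away s) x) = j.γ x := fun x =>
      IsLocalization.Away.lift_eq s (g := (j.γ : j.C →+* A ⧸ I)) hsu x
    obtain ⟨k, e, he⟩ := ZIdx.exists_equiv (Localization.Away s) γ'
    let m : j ⟶ k := ⟨e.toAlgHom.comp (IsScalarTower.toAlgHom A j.C (Localization.Away s)),
      fun x => by
        show k.γ (e (algebraMap j.C (Localization.Away s) x)) = j.γ x
        rw [he, hγ']⟩
    rw [← hullι_map A (A ⧸ I) m c]
    apply mem_map_of_algHom I (hullι A (A ⧸ I) k)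
    show e (algebraMap j.C (Localization.Away s) c) ∈ _
    apply mem_map_of_algHom I e.toAlgHom
    have h1 : algebraMap j.C (Localization.Away s) (s * c) ∈
        I.map (algebraMap A (Localization.Away s)) :=
      mem_map_of_algHom I (IsScalarTower.toAlgHom A j.C (Localization.Away s)) hsc
    have h2 : algebraMap j.C (Localization.Away s) c =
        algebraMap j.C (Localization.Away s) (s * c) * IsLocalization.Away.invSelf s := by
      rw [map_mul, mul_comm (algebraMap j.C (Localization.Away s) s), mul_assoc,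
        IsLocalization.Away.mul_invSelf, mul_one]
    rw [h2]
    exact Ideal.mul_mem_right _ _ h1
  · rw [Ideal.map_le_iff_le_comap]
    intro a ha
    show ε A (A ⧸ I) (algebraMap A _ a) = 0
    rw [AlgHom.commutes]
    exact Ideal.Quotient.eq_zero_iff_mem.mpr ha

theorem ε_surjective (I : Ideal A) : Function.Surjective (ε A (A ⧸ I)) := by
  intro x
  obtain ⟨a, rfl⟩ := Ideal.Quotient.mk_surjective x
  exact ⟨algebraMap A _ a, (ε A (A ⧸ I)).commutes a⟩

section Profinite

variable (I : Ideal A) (hI : ProEtW.IsProfinite (PrimeSpectrum.zeroLocus (R := A) I))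

/-- the map `Spec (A/I) → V(I)` -/
def toV (q : PrimeSpectrum (A ⧸ I)) : PrimeSpectrum.zeroLocus (R := A) I :=
  ⟨PrimeSpectrum.comap (Ideal.Quotient.mk I) q, by
    intro a ha
    show Ideal.Quotient.mk I a ∈ q.asIdeal
    rw [Ideal.Quotient.eq_zero_iff_mem.mpr ha]
    exact q.asIdeal.zero_mem⟩

theorem continuous_toV : Continuous (toV I) :=
  Continuous.subtype_mk (PrimeSpectrum.continuous_comap _) _

theorem toV_injective : Function.Injective (toV I) := by
  intro q₁ q₂ h
  have h' := congrArg Subtype.val h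
  exact PrimeSpectrum.comap_injective_of_surjective _ Ideal.Quotient.mk_surjective h'

include hI in
theorem isMaximal_of_isPrime (q : Ideal (A ⧸ I)) (hq : q.IsPrime) : q.IsMaximal := by
  obtain ⟨-, hT2, -⟩ := hI
  obtain ⟨M, hM, hle⟩ := Ideal.exists_le_maximal q hq.ne_top
  have hspec : (⟨q, hq⟩ : PrimeSpectrum (A ⧸ I)) ⤳ ⟨M, hM.isPrime⟩ :=
    (PrimeSpectrum.le_iff_specializes _ _).mp hle
  have h2 := hspec.map (continuous_toV I)
  have h3 := toV_injective I h2.eq
  have : q = M := congrArg PrimeSpectrum.asIdeal h3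
  rw [this]
  exact hM

include hI in
theorem exists_idem_sep (q₁ q₂ : PrimeSpectrum (A ⧸ I)) (hne : q₁ ≠ q₂) :
    ∃ t : A ⧸ I, IsIdempotentElem t ∧
      ((t ∈ q₁.asIdeal ∧ t ∉ q₂.asIdeal) ∨ (t ∈ q₂.asIdeal ∧ t ∉ q₁.asIdeal)) := by
  obtain ⟨hC, hT2, hTD⟩ := hI
  have hne' : toV I q₁ ≠ toV I q₂ := fun h => hne (toV_injective I h)
  obtain ⟨U, hU, h1, h2⟩ := exists_isClopen_of_totally_separated hne'
  have hcl : IsClopen (toV I ⁻¹' U) := hU.preimage (continuous_toV I)
  obtain ⟨e, he, hUe⟩ := PrimeSpectrum.isClopen_iff.mp hcl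
  refine ⟨e, he, Or.inr ⟨?_, ?_⟩⟩
  · by_contra h
    have : q₂ ∈ toV I ⁻¹' U := by rw [hUe]; exact h
    exact h2 this
  · have : q₁ ∈ (PrimeSpectrum.basicOpen e : Set _) := by rw [← hUe]; exact h1
    exact this

include hI in
/-- S0705 -/
theorem s0705 :
    ∃ (B : Type u) (_ : CommRing B) (_ : Algebra A B),
      EtPBC.IsIndZariski A B ∧ ProEtW.IsWLocal (PrimeSpectrum B) ∧
      ProEtW.closedPoints (PrimeSpectrum B) = PrimeSpectrum.zeroLocus (I.map (algebraMap A B)) ∧
      Function.Bijective (Ideal.quotientMap (I.map (algebraMap A B)) (algebraMap A B)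
        Ideal.le_comap_map) := by
  have hmax := isMaximal_of_isPrime I hI
  have hsep := exists_idem_sep I hI
  have hsurj := ε_surjective I
  have hker := ker_counit_quot I
  refine ⟨Hull A (A ⧸ I), inferInstance, inferInstance, isIndZariski_hull A (A ⧸ I),
    isWLocal hsurj hmax hsep, ?_, ?_, ?_⟩
  · rw [closedPoints_eq_zeroLocus hsurj hmax, hker]
  · apply Ideal.quotientMap_injective'
    intro a ha
    have h1 : algebraMap A (Hull A (A ⧸ I)) a ∈ RingHom.ker (ε A (A ⧸ I)).toRingHom := by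
      rw [hker]; exact ha
    have h2 : ε A (A ⧸ I) (algebraMap A _ a) = 0 := h1
    rw [AlgHom.commutes] at h2
    exact Ideal.Quotient.eq_zero_iff_mem.mp h2
  · intro y
    obtain ⟨b, rfl⟩ := Ideal.Quotient.mk_surjective y
    obtain ⟨a, ha⟩ := Ideal.Quotient.mk_surjective (ε A (A ⧸ I) b)
    refine ⟨Ideal.Quotient.mk I a, ?_⟩
    rw [Ideal.quotientMap_mk, Ideal.Quotient.eq, ← hker]
    show ε A (A ⧸ I) (algebraMap A _ a - b) = 0
    rw [map_sub, AlgHom.commutes, ← ha]
    exact sub_self _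

end Profinite

end Groth.Agent.Helper2.HullQuot
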