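import Mathlib
import Groth.Prelude
import Groth.Agent.Helper2.HullQuot
import Groth.Agent.Helper2.HullWLocB
import Groth.Agent.Helper4.DimZero

set_option autoImplicit false
universe u
open CategoryTheory CategoryTheory.Limits TensorProduct

namespace Groth.Agent.Helper2.HullQuotB

open Groth.Agent.Helper2.IndEtCrit Groth.Agent.Helper2.IndZarCrit Groth.Agent.Helper2.HullZ
open Groth.Agent.Helper2.HullWL Groth.Agent.Helper2.HullQuot

variable {A : Type u} [CommRing A]

/-- the conclusion of S0705 for an ideal `I` such that `A/I` is zero-dimensional -/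
theorem core (I : Ideal A) (hmax : ∀ q : Ideal (A ⧸ I), q.IsPrime → q.IsMaximal) :
    ProEtW.IsWLocal (PrimeSpectrum (Hull A (A ⧸ I))) ∧
      ProEtW.closedPoints (PrimeSpectrum (Hull A (A ⧸ I))) =
        PrimeSpectrum.zeroLocus (I.map (algebraMap A (Hull A (A ⧸ I)))) ∧
      Function.Bijective (Ideal.quotientMap (I.map (algebraMap A (Hull A (A ⧸ I))))
        (algebraMap A (Hull A (A ⧸ I))) Ideal.le_comap_map) := by
  haveI : Ring.KrullDimLE 0 (A ⧸ I) := Ring.KrullDimLE.mk₀ hmax
  have hsep : ∀ q₁ q₂ : PrimeSpectrum (A ⧸ I), q₁ ≠ q₂ → ∃ t : A ⧸ I, IsIdempotentElem t ∧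
      ((t ∈ q₁.asIdeal ∧ t ∉ q₂.asIdeal) ∨ (t ∈ q₂.asIdeal ∧ t ∉ q₁.asIdeal)) := by
    intro q₁ q₂ hne
    have hq₁ : q₁.asIdeal.IsMaximal := hmax _ q₁.2
    have hnle : ¬ q₁.asIdeal ≤ q₂.asIdeal := fun hle =>
      hne (PrimeSpectrum.ext (hq₁.eq_of_le q₂.2.ne_top hle))
    obtain ⟨f, hf1, hf2⟩ := SetLike.not_le_iff_exists.mp hnle
    obtain ⟨e, he, hUe⟩ := PrimeSpectrum.isClopen_iff.mp
      (Groth.Agent.Helper4.isClopen_basicOpen f)
    refine ⟨e, he, Or.inl ⟨?_, ?_⟩⟩
    · by_contra h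
      have : q₁ ∈ (PrimeSpectrum.basicOpen f : Set _) := by rw [hUe]; exact h
      exact this hf1
    · have : q₂ ∈ (PrimeSpectrum.basicOpen e : Set _) := by rw [← hUe]; exact hf2
      exact this
  have hsurj := ε_surjective I
  have hker := ker_counit_quot I
  refine ⟨isWLocal hsurj hmax hsep, ?_, ?_, ?_⟩
  · rw [closedPoints_eq_zeroLocus hsurj hmax, hker]
  · apply Ideal.quotientMap_injective'
    intro a ha
    have h1 : algebraMap A (Hull A (A ⧸ I)) a ∈ RingHom.ker (ε A (A ⧸ I)).toRingHom := by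
      rw [hker]; exact ha
    have h2 : ε A (A ⧸ I) (algebraMap A _ a) = 0 := h1
    rw [AlgHom.commutes] at h2
    exact Ideal.Quotient.eq_zero_iff_mem.mp h2
  · intro y
    obtain ⟨b, rfl⟩ := Ideal.Quotient.mk_surjective y
    obtain ⟨a, ha⟩ := Ideal.Quotient.mk_surjective (ε A (A ⧸ I) b)
    refine ⟨Ideal.Quotient.mk I a, ?_⟩
    rw [Ideal.quotientMap_mk, Ideal.Quotient.eq, ← hker]
    show ε A (A ⧸ I) (algebraMap A _ a - b) = 0
    rw [map_sub, AlgHom.commutes, ← ha]
    exact sub_self _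

/-- S0737 -/
theorem s0737 (A B : Type u) [CommRing A]
    [CommRing B] [Algebra A B] (hA : ProEtW.IsWLocal (PrimeSpectrum A)) (I : Ideal A) (hI : I.IsRadical)
    (hI0 : PrimeSpectrum.zeroLocus (R := A) I = ProEtW.closedPoints (PrimeSpectrum A))
    (h : ProEtW.AlgebraicResidueExtensions A B) :
    PrimeSpectrum.zeroLocus (R := B) (I.map (algebraMap A B)) ⊆ ProEtW.closedPoints (PrimeSpectrum B) ∧
    ∃ (C : Type u) (_ : CommRing C) (_ : Algebra B C) (_ : Algebra A C) (_ : IsScalarTower A B C),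
      EtPBC.IsIndZariski B C ∧
      Function.Bijective (Ideal.quotientMap ((I.map (algebraMap A B)).map (algebraMap B C))
        (algebraMap B C) Ideal.le_comap_map) ∧
      ProEtW.IsWLocal (PrimeSpectrum C) ∧
      ProEtW.IsWLocalMap (PrimeSpectrum.comap (algebraMap A C)) ∧
      ProEtW.closedPoints (PrimeSpectrum C) =
        PrimeSpectrum.comap (algebraMap A C) ⁻¹' ProEtW.closedPoints (PrimeSpectrum A) := by
  set J : Ideal B := I.map (algebraMap A B) with hJ
  have h1 : PrimeSpectrum.zeroLocus (R := B) J ⊆ ProEtW.closedPoints (PrimeSpectrum B) := by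
    intro q hq
    show IsClosed ({q} : Set _)
    rw [PrimeSpectrum.isClosed_singleton_iff_isMaximal]
    have hIq : I ≤ q.asIdeal.comap (algebraMap A B) := by
      rw [← Ideal.map_le_iff_le_comap]; exact hq
    have hpcl : (PrimeSpectrum.comap (algebraMap A B) q) ∈ ProEtW.closedPoints (PrimeSpectrum A) := by
      rw [← hI0]; exact hIq
    have hpmax : (q.asIdeal.comap (algebraMap A B)).IsMaximal :=
      (PrimeSpectrum.isClosed_singleton_iff_isMaximal _).mp hpcl
    obtain ⟨M, hM, hle⟩ := Ideal.exists_le_maximal q.asIdeal q.2.ne_top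
    by_contra hnmax
    have hne : q.asIdeal ≠ M := fun h' => hnmax (h' ▸ hM)
    have hnle : ¬ M ≤ q.asIdeal := fun h' => hne (le_antisymm hle h')
    obtain ⟨x, hxM, hxq⟩ := SetLike.not_le_iff_exists.mp hnle
    haveI := q.2
    obtain ⟨r, hrM, hrq⟩ := Groth.Agent.Helper2.IndEtLift.exists_mem_of_isAlgebraic q.asIdeal M hle
      (h q.asIdeal) x hxM hxq
    have hcM : q.asIdeal.comap (algebraMap A B) = M.comap (algebraMap A B) :=
      hpmax.eq_of_le (Ideal.comap_ne_top _ hM.ne_top) (Ideal.comap_mono hle)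
    have : r ∈ q.asIdeal.comap (algebraMap A B) := by rw [hcM]; exact hrM
    exact hrq this
  refine ⟨h1, ?_⟩
  have hmax : ∀ Q : Ideal (B ⧸ J), Q.IsPrime → Q.IsMaximal := by
    intro Q hQ
    have hq : (Q.comap (Ideal.Quotient.mk J)).IsMaximal := by
      have := h1 (show (⟨Q.comap (Ideal.Quotient.mk J), Ideal.comap_isPrime _ _⟩ : PrimeSpectrum B) ∈
        PrimeSpectrum.zeroLocus (R := B) J from by
          intro b hb
          show Ideal.Quotient.mk J b ∈ Q
          rw [Ideal.Quotient.eq_zero_iff_mem.mpr hb]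
          exact Q.zero_mem)
      exact (PrimeSpectrum.isClosed_singleton_iff_isMaximal _).mp this
    obtain ⟨M', hM', hle⟩ := Ideal.exists_le_maximal Q hQ.ne_top
    have heq : Q.comap (Ideal.Quotient.mk J) = M'.comap (Ideal.Quotient.mk J) :=
      hq.eq_of_le (Ideal.comap_ne_top _ hM'.ne_top) (Ideal.comap_mono hle)
    have : Q = M' := Ideal.comap_injective_of_surjective _ Ideal.Quotient.mk_surjective heq
    rw [this]; exact hM'
  obtain ⟨hW, hcl, hbij⟩ := core J hmax
  letI : Algebra A (Hull B (B ⧸ J)) :=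
    ((algebraMap B (Hull B (B ⧸ J))).comp (algebraMap A B)).toAlgebra
  haveI : IsScalarTower A B (Hull B (B ⧸ J)) := IsScalarTower.of_algebraMap_eq (fun _ => rfl)
  have hpre : PrimeSpectrum.zeroLocus (J.map (algebraMap B (Hull B (B ⧸ J)))) =
      PrimeSpectrum.comap (algebraMap A (Hull B (B ⧸ J))) ⁻¹'
        ProEtW.closedPoints (PrimeSpectrum A) := by
    rw [← hI0, PrimeSpectrum.preimage_comap_zeroLocus]
    ext x
    simp only [PrimeSpectrum.mem_zeroLocus]
    constructor
    · rintro hx _ ⟨a, ha, rfl⟩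
      apply hx
      apply Ideal.mem_map_of_mem
      exact Ideal.mem_map_of_mem _ ha
    · intro hx
      have : J.map (algebraMap B (Hull B (B ⧸ J))) ≤ x.asIdeal := by
        rw [Ideal.map_le_iff_le_comap]
        show Ideal.map (algebraMap A B) I ≤ _
        rw [Ideal.map_le_iff_le_comap]
        intro a ha
        exact hx ⟨a, ha, rfl⟩
      exact fun y hy => this hy
  refine ⟨Hull B (B ⧸ J), inferInstance, inferInstance, inferInstance, inferInstance,
    isIndZariski_hull B (B ⧸ J), hbij, hW, ⟨Groth.Agent.Helper2.IndEtLift.isSpectralMap_comap _, ?_⟩, ?_⟩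
  · intro x hx
    have hx' : x ∈ ProEtW.closedPoints (PrimeSpectrum (Hull B (B ⧸ J))) := hx
    rw [hcl, hpre] at hx'
    exact hx'
  · rw [hcl, hpre]

end Groth.Agent.Helper2.HullQuotB
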