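import Mathlib

set_option autoImplicit false
universe u
open Polynomial

namespace Groth.Agent.Helper2.HypBir

section alg

variable {k K : Type u} [Field k] [Field K] [Algebra k K] [Algebra.EssFiniteType k K]
  {d : ℕ} (s : Fin d → K)

open IntermediateField in
theorem exists_hypersurface (hs : IsTranscendenceBasis k s)
    (hsep : Algebra.IsSeparable ↥(IntermediateField.adjoin k (Set.range s)) K) :
    ∃ (g : Polynomial (MvPolynomial (Fin d) k)), g.Monic ∧
      Irreducible (g.map (algebraMap (MvPolynomial (Fin d) k)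
        (FractionRing (MvPolynomial (Fin d) k)))) ∧
      (g.map (algebraMap (MvPolynomial (Fin d) k)
        (FractionRing (MvPolynomial (Fin d) k)))).Separable ∧
      ∃ ι : AdjoinRoot g →ₐ[k] K, Function.Injective ι ∧ ∀ z : K, ∃ x y, z = ι x / ι y := by
  classical
  let P := MvPolynomial (Fin d) k
  let F := FractionRing P
  have hinj : Function.Injective (MvPolynomial.aeval s : P →ₐ[k] K) :=
    algebraicIndependent_iff_injective_aeval.1 hs.1
  letI aPK : Algebra P K := (MvPolynomial.aeval s : P →ₐ[k] K).toRingHom.toAlgebra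
  haveI : IsScalarTower k P K := IsScalarTower.of_algebraMap_eq
    (fun c => ((MvPolynomial.aeval s : P →ₐ[k] K).commutes c).symm)
  haveI : FaithfulSMul P K := (faithfulSMul_iff_algebraMap_injective P K).mpr hinj
  letI aFK : Algebra F K := FractionRing.liftAlgebra P K
  haveI : IsScalarTower P F K := FractionRing.isScalarTower_liftAlgebra P K
  haveI : IsScalarTower k F K := IsScalarTower.of_algebraMap_eq (fun c => by
    rw [IsScalarTower.algebraMap_apply k P F, ← IsScalarTower.algebraMap_apply P F K,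
      ← IsScalarTower.algebraMap_apply k P K])
  let L := IntermediateField.adjoin k (Set.range s)
  let e₁ : L ≃+* F := hs.1.aevalEquivField.symm.toRingEquiv
  have he : (algebraMap F K).comp (e₁ : L →+* F) =
      ((RingEquiv.refl K : K ≃+* K) : K →+* K).comp (algebraMap L K) := by
    ext p
    exact hs.1.lift_reprField p
  haveI : Algebra.IsSeparable F K := Algebra.IsSeparable.of_equiv_equiv e₁ (RingEquiv.refl K) he
  haveI : Algebra.IsAlgebraic F K := Algebra.IsSeparable.isAlgebraic F K
  haveI : Algebra.EssFiniteType F K := Algebra.EssFiniteType.of_comp k F K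
  haveI : Module.Finite F K := Algebra.finite_of_essFiniteType_of_isAlgebraic
  obtain ⟨θ, hθ⟩ := Field.exists_primitive_element F K
  have hθalg : IsAlgebraic P θ :=
    (IsFractionRing.isAlgebraic_iff P F K).mpr (Algebra.IsAlgebraic.isAlgebraic θ)
  obtain ⟨c, hc, hint⟩ := hθalg.exists_integral_multiple
  set θ' : K := c • θ with hθ'
  have hcK : algebraMap P K c ≠ 0 := fun h0 => hc (hinj (by rw [map_zero]; exact h0))
  have hprim : F⟮θ'⟯ = ⊤ := by
    rw [eq_top_iff, ← hθ]
    apply IntermediateField.adjoin_le_iff.mpr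
    intro t ht
    rw [Set.mem_singleton_iff] at ht
    rw [ht]
    have h1 : θ' ∈ F⟮θ'⟯ := IntermediateField.mem_adjoin_simple_self F θ'
    have h2 : algebraMap P K c ∈ F⟮θ'⟯ := by
      rw [IsScalarTower.algebraMap_apply P F K]
      exact IntermediateField.algebraMap_mem _ _
    have h3 : θ = (algebraMap P K c)⁻¹ * θ' := by
      rw [hθ', Algebra.smul_def, ← mul_assoc, inv_mul_cancel₀ hcK, one_mul]
    rw [h3]
    exact mul_mem (inv_mem h2) h1
  let g := minpoly P θ'
  have hgmap : g.map (algebraMap P F) = minpoly F θ' :=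
    (minpoly.isIntegrallyClosed_eq_field_fractions' F hint).symm
  have hintF : IsIntegral F θ' := hint.tower_top
  refine ⟨g, minpoly.monic hint, ?_, ?_, ?_⟩
  · rw [hgmap]; exact minpoly.irreducible hintF
  · rw [hgmap]; exact Algebra.IsSeparable.isSeparable F θ'
  let ι₀ : AdjoinRoot g →ₐ[P] K :=
    (Subalgebra.val _).comp (AdjoinRoot.Minpoly.toAdjoin P θ')
  have hι₀inj : Function.Injective ι₀ :=
    Subtype.val_injective.comp (minpoly.ToAdjoin.injective hint)
  have hι₀mk : ∀ q : P[X], ι₀ (AdjoinRoot.mk g q) = aeval θ' q := by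
    intro q
    show ((AdjoinRoot.Minpoly.toAdjoin P θ') (AdjoinRoot.mk g q) : K) = aeval θ' q
    rw [AdjoinRoot.Minpoly.coe_toAdjoin, AdjoinRoot.liftAlgHom_mk]
    have : (eval₂ (↑(Algebra.ofId P ↥(Algebra.adjoin P {θ'})) : P →+* _)
        (⟨θ', Algebra.self_mem_adjoin_singleton P θ'⟩ : ↥(Algebra.adjoin P {θ'})) q) =
        aeval (⟨θ', Algebra.self_mem_adjoin_singleton P θ'⟩ : ↥(Algebra.adjoin P {θ'})) q := rfl
    rw [this, Polynomial.aeval_subalgebra_coe]
  have hι₀of : ∀ b : P, ι₀ (AdjoinRoot.of g b) = algebraMap P K b := by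
    intro b
    have := hι₀mk (C b)
    rwa [AdjoinRoot.mk_C, aeval_C] at this
  -- clearing denominators
  have hclear : ∀ p : F[X], ∃ (b : P) (p' : P[X]), b ≠ 0 ∧
      algebraMap P K b * aeval θ' p = aeval θ' p' := by
    intro p
    obtain ⟨b, hb⟩ := IsLocalization.integerNormalization_map_to_map (nonZeroDivisors P) p
    refine ⟨b, IsLocalization.integerNormalization (nonZeroDivisors P) p,
      nonZeroDivisors.ne_zero b.2, ?_⟩
    have h1 := congrArg (aeval θ') hb
    rw [aeval_map_algebraMap] at h1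
    rw [h1, ← algebraMap_smul F (b : P) p, map_smul, Algebra.smul_def,
      ← IsScalarTower.algebraMap_apply]
  refine ⟨ι₀.restrictScalars k, hι₀inj, ?_⟩
  intro z
  have hz : z ∈ F⟮θ'⟯ := hprim ▸ IntermediateField.mem_top
  obtain ⟨r, t, hzrt⟩ := (IntermediateField.mem_adjoin_simple_iff F z).mp hz
  obtain ⟨br, r', hbr, hr'⟩ := hclear r
  obtain ⟨bt, t', hbt, ht'⟩ := hclear t
  have hbrK : algebraMap P K br ≠ 0 := fun h0 => hbr (hinj (by rw [map_zero]; exact h0))
  have hbtK : algebraMap P K bt ≠ 0 := fun h0 => hbt (hinj (by rw [map_zero]; exact h0))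
  refine ⟨AdjoinRoot.of g bt * AdjoinRoot.mk g r', AdjoinRoot.of g br * AdjoinRoot.mk g t', ?_⟩
  show z = ι₀ _ / ι₀ _
  rw [map_mul, map_mul, hι₀of, hι₀of, hι₀mk, hι₀mk, ← hr', ← ht', hzrt]
  field_simp

end alg

end Groth.Agent.Helper2.HypBir
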