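import Mathlib
import Groth.Prelude.Def_CurvBase
import Groth.Agent.Helper3.BirStalkIso
import Groth.Agent.Helper2.HypBir1

set_option autoImplicit false
universe u
open CategoryTheory AlgebraicGeometry

namespace Groth.Agent.Helper2.HypBir

section gamma

variable (k : Type u) [Field k]

/-- the map `k → O_{Spec k, t}` -/
noncomputable def γ (t : ↥(Spec (CommRingCat.of k))) :
    k →+* (Spec (CommRingCat.of k)).presheaf.stalk t :=
  ((Spec (CommRingCat.of k)).presheaf.germ ⊤ t trivial).hom.comp
    (Scheme.ΓSpecIso (CommRingCat.of k)).inv.hom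

theorem γ_surjective (t : ↥(Spec (CommRingCat.of k))) : Function.Surjective (γ k t) := by
  intro z
  obtain ⟨U, ht, σ, rfl⟩ := TopCat.Presheaf.exists_germ_eq (Spec (CommRingCat.of k)).presheaf z
  haveI : Subsingleton ↥(Spec (CommRingCat.of k)) :=
    inferInstanceAs (Subsingleton (PrimeSpectrum k))
  have hU : U = ⊤ := by
    ext x
    simp only [TopologicalSpace.Opens.coe_top, Set.mem_univ, iff_true]
    rw [Subsingleton.elim x t]
    exact ht
  subst hU
  refine ⟨(Scheme.ΓSpecIso (CommRingCat.of k)).hom.hom σ, ?_⟩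
  show ((Spec (CommRingCat.of k)).presheaf.germ ⊤ t trivial).hom
    ((Scheme.ΓSpecIso (CommRingCat.of k)).inv.hom ((Scheme.ΓSpecIso (CommRingCat.of k)).hom.hom σ)) = _
  have : (Scheme.ΓSpecIso (CommRingCat.of k)).inv.hom
      ((Scheme.ΓSpecIso (CommRingCat.of k)).hom.hom σ) = σ := by
    rw [← RingHom.comp_apply, ← CommRingCat.hom_comp, Iso.hom_inv_id]
    rfl
  rw [this]

theorem eqToHom_γ {t t' : ↥(Spec (CommRingCat.of k))} (h : t = t') :
    (eqToHom (congrArg (Spec (CommRingCat.of k)).presheaf.stalk h)).hom.comp (γ k t) = γ k t' := by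
  subst h
  rfl

theorem stalkMap_eq (X : Scheme.{u}) [X.Over (Spec (CommRingCat.of k))] (x : X) :
    Curv2.stalkMap k X x = ((X ↘ Spec (CommRingCat.of k)).stalkMap x).hom.comp
      (γ k ((X ↘ Spec (CommRingCat.of k)) x)) := by
  unfold Curv2.stalkMap Coh.toGlobal γ
  rw [← RingHom.comp_assoc, ← RingHom.comp_assoc]
  congr 1
  rw [← CommRingCat.hom_comp, ← CommRingCat.hom_comp]
  congr 1
  exact (Scheme.Hom.germ_stalkMap (X ↘ Spec (CommRingCat.of k)) ⊤ x trivial).symm

end gamma

section main

theorem lfp_of_lft_noeth {X Y : Scheme.{u}} (f : X ⟶ Y) [LocallyOfFiniteType f]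
    [IsLocallyNoetherian Y] : LocallyOfFinitePresentation f := by
  constructor
  intro U hU V hV e
  haveI : IsNoetherianRing Γ(Y, U) := IsLocallyNoetherian.component_noetherian ⟨U, hU⟩
  exact RingHom.FinitePresentation.of_finiteType.mp (f.finiteType_appLE hU hV e)

variable (k : Type u) [Field k] (X : Scheme.{u}) [X.Over (Spec (CommRingCat.of k))] [IsIntegral X]
  [LocallyOfFiniteType (X ↘ Spec (CommRingCat.of k))]

attribute [local instance] Curv2.stalkAlgebra

theorem essFiniteType_stalk (x : X) : Algebra.EssFiniteType k (X.presheaf.stalk x) := by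
  show (Curv2.stalkMap k X x).EssFiniteType
  rw [stalkMap_eq]
  refine RingHom.EssFiniteType.comp ?_ (LocallyOfFiniteType.stalkMap _ x)
  exact RingHom.FiniteType.essFiniteType (RingHom.FiniteType.of_surjective _ (γ_surjective k _))

set_option backward.isDefEq.respectTransparency false in
theorem main (d : ℕ) (s : Fin d → X.presheaf.stalk (genericPoint X))
    (hs : IsTranscendenceBasis k s)
    (hsep : Algebra.IsSeparable ↥(IntermediateField.adjoin k (Set.range s))
      (X.presheaf.stalk (genericPoint X))) :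
    ∃ (g : Polynomial (MvPolynomial (Fin d) k)), g.Monic ∧
      Irreducible (g.map (algebraMap (MvPolynomial (Fin d) k)
        (FractionRing (MvPolynomial (Fin d) k)))) ∧
      (g.map (algebraMap (MvPolynomial (Fin d) k)
        (FractionRing (MvPolynomial (Fin d) k)))).Separable ∧
      ∃ (U : X.Opens) (V : (Spec (CommRingCat.of (AdjoinRoot g))).Opens)
        (e : (U : Scheme.{u}) ≅ (V : Scheme.{u})),
        (U : Set X).Nonempty ∧ (V : Set (Spec (CommRingCat.of (AdjoinRoot g)))).Nonempty ∧
        e.hom ≫ V.ι ≫ Spec.map (CommRingCat.ofHom (algebraMap k (AdjoinRoot g))) =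
          U.ι ≫ (X ↘ Spec (CommRingCat.of k)) := by
  haveI := essFiniteType_stalk k X (genericPoint X)
  obtain ⟨g, hmonic, hirr, hsepg, ι, hιinj, hιfrac⟩ := exists_hypersurface s hs hsep
  refine ⟨g, hmonic, hirr, hsepg, ?_⟩
  haveI : IsDomain (AdjoinRoot g) := hιinj.isDomain ι.toRingHom
  let sY : Spec (CommRingCat.of (AdjoinRoot g)) ⟶ Spec (CommRingCat.of k) :=
    Spec.map (CommRingCat.ofHom (algebraMap k (AdjoinRoot g)))
  letI : (Spec (CommRingCat.of (AdjoinRoot g))).Over (Spec (CommRingCat.of k)) := ⟨sY⟩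
  letI aBK : Algebra (AdjoinRoot g) (X.presheaf.stalk (genericPoint X)) := ι.toRingHom.toAlgebra
  haveI : FaithfulSMul (AdjoinRoot g) (X.presheaf.stalk (genericPoint X)) :=
    (faithfulSMul_iff_algebraMap_injective _ _).mpr hιinj
  haveI : IsFractionRing (AdjoinRoot g) (X.presheaf.stalk (genericPoint X)) :=
    IsFractionRing.of_field _ _ (fun z => hιfrac z)
  letI aBY : Algebra (AdjoinRoot g) ((Spec (CommRingCat.of (AdjoinRoot g))).presheaf.stalk
        (genericPoint (Spec (CommRingCat.of (AdjoinRoot g))))) :=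
    @instAlgebraCarrierFunctionFieldSpec (CommRingCat.of (AdjoinRoot g)) ‹IsDomain (AdjoinRoot g)›
  haveI hfrY : IsFractionRing (AdjoinRoot g)
      ((Spec (CommRingCat.of (AdjoinRoot g))).presheaf.stalk
        (genericPoint (Spec (CommRingCat.of (AdjoinRoot g))))) :=
    @functionField_isFractionRing_of_affine (CommRingCat.of (AdjoinRoot g)) ‹IsDomain (AdjoinRoot g)›
  let e' : X.presheaf.stalk (genericPoint X) ≃ₐ[AdjoinRoot g]
      ((Spec (CommRingCat.of (AdjoinRoot g))).presheaf.stalk
        (genericPoint (Spec (CommRingCat.of (AdjoinRoot g))))) :=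
    IsLocalization.algEquiv (nonZeroDivisors (AdjoinRoot g)) _ _
  have hcompat : (e' : X.presheaf.stalk (genericPoint X) →+* _).comp
      (Curv2.stalkMap k X (genericPoint X)) =
      Curv2.stalkMap k (Spec (CommRingCat.of (AdjoinRoot g)))
        (genericPoint (Spec (CommRingCat.of (AdjoinRoot g)))) := by
    ext c
    have h1 : Curv2.stalkMap k X (genericPoint X) c =
        algebraMap (AdjoinRoot g) (X.presheaf.stalk (genericPoint X))
          (algebraMap k (AdjoinRoot g) c) := (ι.commutes c).symm
    rw [RingHom.comp_apply, h1]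
    show e' (algebraMap (AdjoinRoot g) _ (algebraMap k (AdjoinRoot g) c)) = _
    rw [e'.commutes]
    have h2 : Curv2.stalkMap k (Spec (CommRingCat.of (AdjoinRoot g)))
        (genericPoint (Spec (CommRingCat.of (AdjoinRoot g)))) c =
        ((Spec (CommRingCat.of (AdjoinRoot g))).presheaf.germ ⊤
          (genericPoint (Spec (CommRingCat.of (AdjoinRoot g)))) trivial).hom
          ((Scheme.ΓSpecIso (CommRingCat.of (AdjoinRoot g))).inv.hom
            (algebraMap k (AdjoinRoot g) c)) := by
      unfold Curv2.stalkMap Coh.toGlobal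
      have h3 := Scheme.ΓSpecIso_inv_naturality (CommRingCat.ofHom (algebraMap k (AdjoinRoot g)))
      have h4 := congrArg (fun φ => φ.hom c) h3
      simp only [CommRingCat.hom_comp, RingHom.comp_apply, CommRingCat.hom_ofHom] at h4
      rw [RingHom.comp_apply, RingHom.comp_apply]
      exact congrArg _ h4.symm
    rw [h2]
    rfl
  haveI : IsLocallyNoetherian (Spec (CommRingCat.of k)) := inferInstance
  haveI : LocallyOfFinitePresentation (X ↘ Spec (CommRingCat.of k)) := lfp_of_lft_noeth _
  haveI : Algebra.FiniteType k (AdjoinRoot g) := by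
    haveI : Algebra.FiniteType k (Polynomial (MvPolynomial (Fin d) k)) :=
      Algebra.FiniteType.trans (S := MvPolynomial (Fin d) k) inferInstance inferInstance
    exact Algebra.FiniteType.of_surjective
      ((AdjoinRoot.mkₐ g).restrictScalars k) (AdjoinRoot.mk_surjective)
  haveI : LocallyOfFiniteType sY :=
    (HasRingHomProperty.Spec_iff (P := @LocallyOfFiniteType)).mpr
      (RingHom.finiteType_algebraMap.mpr ‹Algebra.FiniteType k (AdjoinRoot g)›)
  haveI : LocallyOfFinitePresentation sY := lfp_of_lft_noeth _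
  have hbir : Scheme.BirationalOver (X ↘ Spec (CommRingCat.of k)) sY := by
    rw [Groth.Agent.Helper3.BirStalkIso.main]
    haveI : Subsingleton ↥(Spec (CommRingCat.of k)) :=
      inferInstanceAs (Subsingleton (PrimeSpectrum k))
    refine ⟨Subsingleton.elim _ _, e'.toRingEquiv.toCommRingCatIso, ?_⟩
    apply CommRingCat.hom_ext
    rw [← RingHom.cancel_right (γ_surjective k ((X ↘ Spec (CommRingCat.of k)) (genericPoint X)))]
    rw [CommRingCat.hom_comp, CommRingCat.hom_comp, RingHom.comp_assoc, RingHom.comp_assoc,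
      ← stalkMap_eq, eqToHom_γ]
    have h5 := stalkMap_eq k (Spec (CommRingCat.of (AdjoinRoot g)))
      (genericPoint (Spec (CommRingCat.of (AdjoinRoot g))))
    rw [← hcompat] at h5
    · exact h5
    · exact Subsingleton.elim _ _
  obtain ⟨f, hf⟩ := hbir
  exact ⟨f.source, f.target, f.iso, f.dense_source.nonempty, f.dense_target.nonempty, hf⟩

end main

end Groth.Agent.Helper2.HypBir
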