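import Mathlib
import Groth.Agent.Helper2.HypSm

set_option autoImplicit false
open TensorProduct KaehlerDifferential IsLocalRing
universe u

namespace Groth.Agent.Helper2.HypSmLoc

variable {k B : Type u} [CommRing k] [CommRing B] [Algebra k B] [IsLocalRing B]

lemma one_tmul_eq_zero_iff {M : Type*} [AddCommGroup M] [Module B M] (x : M) :
    (1 : ResidueField B) ⊗ₜ[B] x = 0 ↔ x ∈ maximalIdeal B • (⊤ : Submodule B M) := by
  have h1 : (1 : ResidueField B) ⊗ₜ[B] x = 0 ↔
      quotTensorEquivQuotSMul M (maximalIdeal B) ((1 : B ⧸ maximalIdeal B) ⊗ₜ[B] x) = 0 :=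
    ((quotTensorEquivQuotSMul M (maximalIdeal B)).map_eq_zero_iff).symm
  rw [h1, quotTensorEquivQuotSMul_mk_one_tmul, Submodule.Quotient.mk_eq_zero]

/-- In a finite free module over a local ring, an element outside `m M` is sent to `1` by some
functional. -/
lemma exists_functional {M : Type*} [AddCommGroup M] [Module B M] [Module.Finite B M]
    [Module.Projective B M] (x : M) (hx : (1 : ResidueField B) ⊗ₜ[B] x ≠ 0) :
    ∃ φ : M →ₗ[B] B, φ x = 1 := by
  classical
  haveI : Module.Free B M := Module.free_of_flat_of_isLocalRing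
  let b := Module.Free.chooseBasis B M
  by_cases h : ∀ i, b.repr x i ∈ maximalIdeal B
  · exfalso
    apply hx
    rw [one_tmul_eq_zero_iff]
    rw [← b.sum_repr x]
    exact Submodule.sum_mem _ fun i _ => Submodule.smul_mem_smul (h i) trivial
  · push Not at h
    obtain ⟨i, hi⟩ := h
    have hu : IsUnit (b.repr x i) := by
      by_contra hn
      exact hi ((mem_maximalIdeal _).2 hn)
    obtain ⟨c, hc⟩ := hu.exists_left_inv
    refine ⟨c • b.coord i, ?_⟩
    rw [LinearMap.smul_apply, Module.Basis.coord_apply, smul_eq_mul, hc]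

lemma map_mem_smul_top {M N : Type*} [AddCommGroup M] [Module B M] [AddCommGroup N] [Module B N]
    (I : Ideal B) (g : M →ₗ[B] N) {x : M} (hx : x ∈ I • (⊤ : Submodule B M)) :
    g x ∈ I • (⊤ : Submodule B N) := by
  have : (I • (⊤ : Submodule B M)).map g ≤ I • (⊤ : Submodule B N) := by
    rw [Submodule.map_smul'']
    exact Submodule.smul_mono le_rfl le_top
  exact this (Submodule.mem_map_of_mem hx)

lemma val_mem_mul_of_mem_smul_top (I J : Ideal B) {y : J} (hy : y ∈ I • (⊤ : Submodule B J)) :
    (y : B) ∈ I * J := by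
  refine Submodule.smul_induction_on hy (fun a ha i _ => ?_) (fun x y hx hy => ?_)
  · exact Ideal.mul_mem_mul ha i.2
  · exact Ideal.add_mem _ hx hy

/-- Hypersurface in a formally smooth local algebra: `B/(f)` is formally smooth iff
`f = 0` or `df` is nonzero in the fibre of the differentials at the closed point. -/
theorem formallySmooth_quot_iff [Algebra.FormallySmooth k B] [Module.Finite B Ω[B⁄k]] (f : B)
    (hf : f ∈ maximalIdeal B) :
    Algebra.FormallySmooth k (B ⧸ Ideal.span {f}) ↔
      f = 0 ∨ (1 : ResidueField B) ⊗ₜ[B] KaehlerDifferential.D k B f ≠ 0 := by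
  constructor
  · intro hsm
    by_contra hcon
    push Not at hcon
    obtain ⟨hf0, hdf⟩ := hcon
    apply hf0
    set I := RingHom.ker (algebraMap B (B ⧸ Ideal.span {f})) with hI
    obtain ⟨l, hl⟩ := (Algebra.FormallySmooth.iff_split_injection (R := k) (P := B)
      (A := B ⧸ Ideal.span {f}) Ideal.Quotient.mk_surjective).1 hsm
    have hIeq : I = Ideal.span {f} := HypSm.ker_algebraMap_eq f
    have hfI : f ∈ I := HypSm.mem_ker f
    have hIm : I ≤ maximalIdeal B := by
      rw [hIeq, Ideal.span_singleton_le_iff_mem]; exact hf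
    rw [one_tmul_eq_zero_iff] at hdf
    have h1 : (1 : B ⧸ Ideal.span {f}) ⊗ₜ[B] KaehlerDifferential.D k B f ∈
        maximalIdeal B • (⊤ : Submodule B ((B ⧸ Ideal.span {f}) ⊗[B] Ω[B⁄k])) :=
      map_mem_smul_top (maximalIdeal B) (TensorProduct.mk B (B ⧸ Ideal.span {f}) Ω[B⁄k] 1) hdf
    have h2 : I.toCotangent ⟨f, hfI⟩ ∈ maximalIdeal B • (⊤ : Submodule B I.Cotangent) := by
      have h3 : l (kerCotangentToTensor k B (B ⧸ Ideal.span {f}) (I.toCotangent ⟨f, hfI⟩)) =
          I.toCotangent ⟨f, hfI⟩ := LinearMap.congr_fun hl _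
      rw [← h3]
      exact map_mem_smul_top (maximalIdeal B) l h1
    have h4 : (maximalIdeal B • (⊤ : Submodule B I.Cotangent)) =
        (maximalIdeal B • (⊤ : Submodule B I)).map I.toCotangent := by
      rw [Submodule.map_smul'', Submodule.map_top, LinearMap.range_eq_top.2 I.toCotangent_surjective]
    rw [h4] at h2
    obtain ⟨y, hy, hyf⟩ := h2
    rw [Ideal.toCotangent_eq] at hyf
    have hy' : (y : B) ∈ maximalIdeal B * I := val_mem_mul_of_mem_smul_top _ _ hy
    have hI2 : I ^ 2 ≤ maximalIdeal B * I := by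
      rw [pow_two]; exact Ideal.mul_mono_left hIm
    have hfm : f ∈ maximalIdeal B * I := by
      have : f = (y : B) - ((y : B) - f) := by ring
      rw [this]
      exact Ideal.sub_mem _ hy' (hI2 hyf)
    rw [hIeq, Ideal.mem_mul_span_singleton] at hfm
    obtain ⟨z, hz, hzf⟩ := hfm
    have hu : IsUnit (1 - z) := by
      by_contra hn
      have h5 : 1 - z ∈ maximalIdeal B := (mem_maximalIdeal _).2 hn
      have : (1 : B) ∈ maximalIdeal B := by
        have : (1 : B) = (1 - z) + z := by ring
        rw [this]; exact Ideal.add_mem _ h5 hz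
      exact (Ideal.ne_top_iff_one _).1 (maximalIdeal.isMaximal B).ne_top this
    have h6 : (1 - z) * f = 0 := by rw [sub_mul, one_mul, hzf, sub_self]
    exact (hu.mul_right_eq_zero).1 h6
  · rintro (h0 | hdf)
    · subst h0
      have hb : Ideal.span {(0 : B)} = ⊥ := by simp
      exact Algebra.FormallySmooth.of_equiv
        ((AlgEquiv.quotientBot k B).symm.trans (Ideal.quotientEquivAlgOfEq k hb.symm))
    · haveI : Module.Projective B Ω[B⁄k] := inferInstance
      obtain ⟨φ, hφ⟩ := exists_functional _ hdf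
      let D : Derivation k B (B ⧸ Ideal.span {f}) :=
        ((Algebra.linearMap B (B ⧸ Ideal.span {f})) ∘ₗ φ).compDer (KaehlerDifferential.D k B)
      refine HypSm.formallySmooth_of_derivation f D ?_
      show algebraMap B (B ⧸ Ideal.span {f}) (φ (KaehlerDifferential.D k B f)) = 1
      rw [hφ, map_one]

end Groth.Agent.Helper2.HypSmLoc
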