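import Mathlib
import Groth.Agent.Helper2.HypSmLoc

set_option autoImplicit false
open TensorProduct KaehlerDifferential IsLocalRing
universe u

namespace Groth.Agent.Helper2.HypSmGlob

variable (R : Type u) {A : Type u} [CommRing R] [CommRing A] [Algebra R A]

/-- The fibre of the differentials at `q` computed over `A` or over `A_q`. -/
lemma one_tmul_eq_zero_iff (q : Ideal A) [q.IsPrime] (ω : Ω[A⁄R]) :
    (1 : q.ResidueField) ⊗ₜ[A] ω = 0 ↔
      (1 : ResidueField (Localization.AtPrime q)) ⊗ₜ[Localization.AtPrime q]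
        (KaehlerDifferential.map R R A (Localization.AtPrime q) ω) = 0 := by
  let B := Localization.AtPrime q
  let κ := q.ResidueField
  have hbc : IsBaseChange B (KaehlerDifferential.map R R A B) :=
    IsLocalizedModule.isBaseChange q.primeCompl B _
  let e₁ : B ⊗[A] Ω[A⁄R] ≃ₗ[B] Ω[B⁄R] := hbc.equiv
  let e₂ : κ ⊗[B] (B ⊗[A] Ω[A⁄R]) ≃ₗ[κ] κ ⊗[A] Ω[A⁄R] :=
    TensorProduct.AlgebraTensorModule.cancelBaseChange A B κ κ Ω[A⁄R]
  have h1 : (1 : κ) ⊗ₜ[B] (KaehlerDifferential.map R R A B ω) =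
      (LinearEquiv.lTensor κ e₁) ((1 : κ) ⊗ₜ[B] ((1 : B) ⊗ₜ[A] ω)) := by
    rw [LinearEquiv.lTensor_tmul]
    congr 1
    show _ = hbc.equiv ((1 : B) ⊗ₜ[A] ω)
    rw [IsBaseChange.equiv_tmul, one_smul]
  have h2 : e₂ ((1 : κ) ⊗ₜ[B] ((1 : B) ⊗ₜ[A] ω)) = (1 : κ) ⊗ₜ[A] ω := by
    show TensorProduct.AlgebraTensorModule.cancelBaseChange A B κ κ Ω[A⁄R] _ = _
    rw [TensorProduct.AlgebraTensorModule.cancelBaseChange_tmul, one_smul]
  show (1 : κ) ⊗ₜ[A] ω = 0 ↔ (1 : κ) ⊗ₜ[B] (KaehlerDifferential.map R R A B ω) = 0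
  rw [h1, LinearEquiv.map_eq_zero_iff, ← h2, LinearEquiv.map_eq_zero_iff]

theorem aux [Algebra.FiniteType R A]
    (F : A) (I : Ideal A) (hI : I = Ideal.span ({F} : Set A)) (P : Ideal (A ⧸ I)) [P.IsPrime]
    (q : Ideal A) [q.IsPrime] (hq : q = P.comap (Ideal.Quotient.mk I))
    (hX : Algebra.IsSmoothAt R q) :
    Algebra.IsSmoothAt R P ↔
      algebraMap A (Localization.AtPrime q) F = 0 ∨
      (1 : q.ResidueField) ⊗ₜ[A] KaehlerDifferential.D R A F ≠ 0 := by
  let B := Localization.AtPrime q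
  set J : Ideal B := I.map (algebraMap A B) with hJdef
  set f : B := algebraMap A B F with hf
  have hJ : J = Ideal.span {f} := by
    rw [hJdef, hI, Ideal.map_span, Set.image_singleton]
  have hFq : F ∈ q := by
    rw [hq, Ideal.mem_comap]
    have : Ideal.Quotient.mk I F = 0 :=
      Ideal.Quotient.eq_zero_iff_mem.2 (hI ▸ Ideal.mem_span_singleton_self F)
    rw [this]; exact P.zero_mem
  have hfm : f ∈ maximalIdeal B :=
    (IsLocalization.AtPrime.to_map_mem_maximal_iff B q F).2 hFq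
  -- `B ⧸ J` is the localization of `A ⧸ I` at `P`
  have hsub : Algebra.algebraMapSubmonoid (A ⧸ I) q.primeCompl = P.primeCompl := by
    ext x
    constructor
    · rintro ⟨a, ha, rfl⟩
      intro hx
      apply ha
      rw [hq]
      exact hx
    · intro hx
      obtain ⟨a, rfl⟩ := Ideal.Quotient.mk_surjective x
      refine ⟨a, ?_, rfl⟩
      intro ha
      apply hx
      rw [hq] at ha
      exact ha
  haveI hloc : IsLocalization.AtPrime (B ⧸ J) P := by
    have h0 : IsLocalization (Algebra.algebraMapSubmonoid (A ⧸ I) q.primeCompl) (B ⧸ J) :=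
      inferInstance
    rwa [hsub] at h0
  haveI hst : IsScalarTower R (A ⧸ I) (B ⧸ J) := IsScalarTower.of_algebraMap_eq' (by
    ext r
    rfl)
  let e : Localization.AtPrime P ≃ₐ[R] (B ⧸ J) :=
    (IsLocalization.algEquiv P.primeCompl (Localization.AtPrime P) (B ⧸ J)).restrictScalars R
  let e' : (B ⧸ J) ≃ₐ[R] (B ⧸ Ideal.span {f}) := Ideal.quotientEquivAlgOfEq R hJ
  haveI : Algebra.FormallySmooth R B := hX
  haveI : Algebra.EssFiniteType R B := Algebra.EssFiniteType.comp R A B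
  have h1 : Algebra.IsSmoothAt R P ↔ Algebra.FormallySmooth R (B ⧸ Ideal.span {f}) :=
    Algebra.FormallySmooth.iff_of_equiv (e.trans e')
  rw [h1, HypSmLoc.formallySmooth_quot_iff f hfm]
  have h2 : (1 : ResidueField B) ⊗ₜ[B] KaehlerDifferential.D R B f = 0 ↔
      (1 : q.ResidueField) ⊗ₜ[A] KaehlerDifferential.D R A F = 0 := by
    rw [one_tmul_eq_zero_iff R q, KaehlerDifferential.map_D]
  rw [ne_eq, ne_eq, h2]

theorem main [Algebra.FiniteType R A]
    (F : A) (P : Ideal (A ⧸ Ideal.span ({F} : Set A))) [P.IsPrime]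
    (hX : Algebra.IsSmoothAt R (P.comap (Ideal.Quotient.mk (Ideal.span ({F} : Set A))))) :
    Algebra.IsSmoothAt R P ↔
      algebraMap A (Localization.AtPrime
        (P.comap (Ideal.Quotient.mk (Ideal.span ({F} : Set A))))) F = 0 ∨
      (1 : (P.comap (Ideal.Quotient.mk (Ideal.span ({F} : Set A)))).ResidueField) ⊗ₜ[A]
        KaehlerDifferential.D R A F ≠ 0 :=
  aux R F _ rfl P _ rfl hX

end Groth.Agent.Helper2.HypSmGlob
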