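import Mathlib
import Groth.Prelude
import Groth.Agent.S0543
import Groth.Agent.Helper2.CplQuot
import Groth.Agent.Helper2.NagFT5

set_option autoImplicit false
set_option linter.style.haveILetI false

namespace Groth.Agent.Helper2.Hyper

universe u

open TensorProduct IsLocalRing

/-- S2093 -/
theorem s2093 {R : Type u} [CommRing R] [IsDomain R] [IsLocalRing R]
    [IsNoetherianRing R] (x : R) (hx : x ≠ 0) (hxm : x ∈ IsLocalRing.maximalIdeal R)
    (hemb : ∀ p ∈ associatedPrimes R (R ⧸ Ideal.span {x}), p ∈ (Ideal.span {x}).minimalPrimes)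
    (hreg : ∀ p ∈ associatedPrimes R (R ⧸ Ideal.span {x}), ∀ (_ : p.IsPrime),
      IsRegularLocalRing (Localization.AtPrime p) ∧
        IsReduced (AdicCompletion ((IsLocalRing.maximalIdeal R).map (Ideal.Quotient.mk p)) (R ⧸ p))) :
    IsReduced (AdicCompletion (IsLocalRing.maximalIdeal R) R) := by
  haveI : IsNoetherianRing (AdicCompletion (maximalIdeal R) R) :=
    Groth.Agent.S0543.result R (maximalIdeal R)
  refine Groth.Agent.Helper2.NagFT.isReduced_of_zariski R x (mem_nonZeroDivisors_of_ne_zero hx)
    (AdicCompletion (maximalIdeal R) R) ?_ ?_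
  · have fg : (maximalIdeal R).FG := (maximalIdeal R).fg_of_isNoetherianRing
    haveI := AdicCompletion.isAdicComplete_self (maximalIdeal R) fg
    apply IsAdicComplete.le_jacobson_bot ((maximalIdeal R).map
      (algebraMap R (AdicCompletion (maximalIdeal R) R)))
    exact Ideal.mem_map_of_mem _ hxm
  · intro q hq hqp
    obtain ⟨hregq, hredq⟩ := hreg q hq hqp
    have hmin := hemb q hq
    refine ⟨⟨inferInstance, ?_⟩, ?_⟩
    · -- DVR
      have hxq : x ∈ q := hmin.1.2 (Ideal.mem_span_singleton_self x)
      have hq0 : q ≠ ⊥ := by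
        intro h
        rw [h, Ideal.mem_bot] at hxq
        exact hx hxq
      have hht1 : q.height ≤ 1 :=
        Ideal.height_le_one_of_isPrincipal_of_mem_minimalPrimes (Ideal.span {x}) q hmin
      have hht0 : q.height ≠ 0 := fun h => hq0 (Ideal.height_eq_zero_iff_eq_bot.mp h)
      have hht : q.height = 1 := le_antisymm hht1 (Order.one_le_iff_pos.mpr (pos_iff_ne_zero.mpr hht0))
      have hdim : ringKrullDim (Localization.AtPrime q) = 1 := by
        rw [IsLocalization.AtPrime.ringKrullDim_eq_height q (Localization.AtPrime q), hht]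
        rfl
      have hfr : Module.finrank (ResidueField (Localization.AtPrime q))
          (CotangentSpace (Localization.AtPrime q)) = 1 := by
        have := (IsRegularLocalRing.iff_finrank_cotangentSpace (Localization.AtPrime q)).mp hregq
        rw [hdim] at this
        exact_mod_cast this
      have hnf : ¬ IsField (Localization.AtPrime q) :=
        IsLocalization.AtPrime.not_isField R hq0 (Localization.AtPrime q)
      exact ((IsDiscreteValuationRing.TFAE (Localization.AtPrime q) hnf).out 0 5).mpr hfr
    · haveI : Nontrivial (R ⧸ q) := Ideal.Quotient.nontrivial_iff.mpr hqp.ne_top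
      have hI : (maximalIdeal R).map (Ideal.Quotient.mk q) = maximalIdeal (R ⧸ q) :=
        Groth.Agent.Helper2.CplQuot.map_maximalIdeal R q
      rw [hI] at hredq
      obtain ⟨e⟩ := Groth.Agent.Helper2.CplQuot.nonempty_algEquiv R q
      haveI : IsReduced (EGA4.Cpl (R ⧸ q)) := hredq
      exact isReduced_of_injective e.toAlgHom.toRingHom e.injective

end Groth.Agent.Helper2.Hyper
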