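import Mathlib
import Groth.Prelude
import Groth.Agent.Helper2.IndZarCritB

set_option autoImplicit false
universe u
open CategoryTheory CategoryTheory.Limits TensorProduct

namespace Groth.Agent.Helper2.IndZarCrit

/-- a finite product of `1 - x`, `x` idempotent, is idempotent -/
theorem isIdempotentElem_prod_one_sub {L : Type*} [CommRing L] (s : Finset L)
    (hs : ∀ x ∈ s, IsIdempotentElem x) : IsIdempotentElem (∏ x ∈ s, (1 - x)) := by
  unfold IsIdempotentElem
  rw [← Finset.prod_mul_distrib]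
  apply Finset.prod_congr rfl
  intro x hx
  exact (hs x hx).one_sub

theorem mul_prod_one_sub_eq_zero {L : Type*} [CommRing L] (s : Finset L)
    (hs : ∀ x ∈ s, IsIdempotentElem x) {y : L} (hy : y ∈ Ideal.span (s : Set L)) :
    y * ∏ x ∈ s, (1 - x) = 0 := by
  classical
  induction hy using Submodule.span_induction with
  | mem x hx =>
    rw [← Finset.mul_prod_erase s _ hx, ← mul_assoc]
    have : x * (1 - x) = 0 := by
      have := (hs x hx).eq
      rw [mul_sub, mul_one, this, sub_self]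
    rw [this, zero_mul]
  | zero => rw [zero_mul]
  | add a b _ _ ha hb => rw [add_mul, ha, hb, add_zero]
  | smul a b _ hb => rw [smul_eq_mul, mul_assoc, hb, mul_zero]

theorem one_sub_prod_one_sub_mem {L : Type*} [CommRing L] (s : Finset L) (I : Ideal L)
    (hs : ∀ x ∈ s, x ∈ I) : 1 - ∏ x ∈ s, (1 - x) ∈ I := by
  rw [← Ideal.Quotient.eq_zero_iff_mem, map_sub, map_one, map_prod]
  have : ∀ x ∈ s, Ideal.Quotient.mk I (1 - x) = 1 := by
    intro x hx
    rw [map_sub, map_one, Ideal.Quotient.eq_zero_iff_mem.2 (hs x hx), sub_zero]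
  rw [Finset.prod_congr rfl this, Finset.prod_const_one, sub_self]

/-- quotient of a "directed union of local isomorphisms" by an ideal generated by idempotents
has the factorization property -/
theorem facZ_quot_idem {A L : Type u} [CommRing A] [CommRing L] [Algebra A L]
    (hL : ∀ F : Finset L, ∃ (E₀ : Type u) (_ : CommRing E₀) (_ : Algebra A E₀)
      (_ : Algebra.IsLocalIso A E₀) (ι : E₀ →ₐ[A] L), Function.Injective ι ∧
        ∀ x ∈ F, x ∈ Set.range ι)
    (G : Set L) (hG : ∀ x ∈ G, IsIdempotentElem x) : FacZ A (L ⧸ Ideal.span G) := by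
  classical
  intro P _ _ _ g
  obtain ⟨n, f, hf, rels, hrels⟩ := Algebra.FinitePresentation.out (R := A) (A := P)
  -- lifts of the images of the variables
  have hφ : ∀ i : Fin n, ∃ φ : L, Ideal.Quotient.mk (Ideal.span G) φ = g (f (MvPolynomial.X i)) :=
    fun i => Ideal.Quotient.mk_surjective _
  choose φ hφ using hφ
  let ψ : MvPolynomial (Fin n) A →ₐ[A] L := MvPolynomial.aeval φ
  have hψ : ∀ p, Ideal.Quotient.mk (Ideal.span G) (ψ p) = g (f p) := by
    intro p
    have : (Ideal.Quotient.mkₐ A (Ideal.span G)).comp ψ = g.comp f := by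
      apply MvPolynomial.algHom_ext
      intro i
      simp only [AlgHom.comp_apply, ψ, MvPolynomial.aeval_X]
      exact hφ i
    exact congr($this p)
  have hrel : ∀ r ∈ rels, ψ r ∈ Ideal.span G := by
    intro r hr
    rw [← Ideal.Quotient.eq_zero_iff_mem, hψ]
    have : r ∈ RingHom.ker f.toRingHom := hrels ▸ Ideal.subset_span hr
    have h1 : f r = 0 := this
    rw [h1, map_zero]
  -- finitely many idempotents suffice
  have hfin : ∀ r ∈ rels, ∃ T : Finset L, (T : Set L) ⊆ G ∧ ψ r ∈ Ideal.span (T : Set L) := by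
    intro r hr
    exact Submodule.mem_span_finite_of_mem_span (hrel r hr)
  choose! T hTG hT using hfin
  let G₀ : Finset L := rels.biUnion T
  have hG₀ : (G₀ : Set L) ⊆ G := by
    intro x hx
    obtain ⟨r, hr, hxr⟩ := Finset.mem_biUnion.mp hx
    exact hTG r hr hxr
  have hG₀rel : ∀ r ∈ rels, ψ r ∈ Ideal.span (G₀ : Set L) := by
    intro r hr
    refine Ideal.span_mono ?_ (hT r hr)
    intro x hx
    exact Finset.mem_biUnion.mpr ⟨r, hr, hx⟩
  have hG₀idem : ∀ x ∈ G₀, IsIdempotentElem x := fun x hx => hG x (hG₀ hx)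
  set u : L := ∏ x ∈ G₀, (1 - x) with hu
  have hrelu : ∀ r ∈ rels, ψ r * u = 0 := fun r hr =>
    mul_prod_one_sub_eq_zero G₀ hG₀idem (hG₀rel r hr)
  -- the finite level
  obtain ⟨E₀, _, _, _, ι, hι, hrange⟩ := hL (Finset.univ.image φ ∪ G₀)
  have hpre : ∀ x : L, ∃ y : E₀, x ∈ (Finset.univ.image φ ∪ G₀) → ι y = x := by
    intro x
    by_cases hx : x ∈ (Finset.univ.image φ ∪ G₀)
    · obtain ⟨y, hy⟩ := hrange x hx
      exact ⟨y, fun _ => hy⟩
    · exact ⟨0, fun h => absurd h hx⟩
  choose pre hpre using hpre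
  have hpreφ : ∀ i, ι (pre (φ i)) = φ i := fun i =>
    hpre _ (Finset.mem_union_left _ (Finset.mem_image_of_mem _ (Finset.mem_univ i)))
  have hpreG : ∀ x ∈ G₀, ι (pre x) = x := fun x hx => hpre _ (Finset.mem_union_right _ hx)
  let ψ' : MvPolynomial (Fin n) A →ₐ[A] E₀ := MvPolynomial.aeval (fun i => pre (φ i))
  have hψ' : ι.comp ψ' = ψ := by
    apply MvPolynomial.algHom_ext
    intro i
    simp only [AlgHom.comp_apply, ψ', ψ, MvPolynomial.aeval_X]
    exact hpreφ i
  set u' : E₀ := ∏ x ∈ G₀, (1 - pre x) with hu'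
  have hιu : ι u' = u := by
    rw [hu', hu, map_prod]
    apply Finset.prod_congr rfl
    intro x hx
    rw [map_sub, map_one, hpreG x hx]
  have hu'idem : IsIdempotentElem u' := by
    apply hι
    rw [map_mul, hιu]
    exact isIdempotentElem_prod_one_sub G₀ hG₀idem
  have hrelu' : ∀ r ∈ rels, ψ' r * u' = 0 := by
    intro r hr
    apply hι
    rw [map_mul, hιu, map_zero, ← AlgHom.comp_apply, hψ']
    exact hrelu r hr
  -- the local isomorphism
  let K : Ideal E₀ := Ideal.span {1 - u'}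
  haveI : IsLocalization.Away u' (E₀ ⧸ K) := IsLocalization.Away.quotient_of_isIdempotentElem hu'idem
  haveI : Algebra.IsStandardOpenImmersion E₀ (E₀ ⧸ K) := ⟨u', inferInstance⟩
  haveI : Algebra.IsLocalIso A (E₀ ⧸ K) := Algebra.IsLocalIso.trans A E₀ (E₀ ⧸ K)
  -- the map `P → E₀ ⧸ K`
  have hker : RingHom.ker f.toRingHom ≤ RingHom.ker ((Ideal.Quotient.mkₐ A K).comp ψ').toRingHom := by
    rw [← hrels, Ideal.span_le]
    intro r hr
    show Ideal.Quotient.mk K (ψ' r) = 0
    rw [Ideal.Quotient.eq_zero_iff_mem]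
    have : ψ' r = ψ' r * (1 - u') := by
      rw [mul_sub, mul_one, hrelu' r hr, sub_zero]
    rw [this]
    exact Ideal.mul_mem_left _ _ (Ideal.subset_span rfl)
  let e : (MvPolynomial (Fin n) A ⧸ RingHom.ker f.toRingHom) ≃ₐ[A] P :=
    Ideal.quotientKerAlgEquivOfSurjective hf
  let l : (MvPolynomial (Fin n) A ⧸ RingHom.ker f.toRingHom) →ₐ[A] (E₀ ⧸ K) :=
    Ideal.Quotient.liftₐ _ ((Ideal.Quotient.mkₐ A K).comp ψ') (fun p hp => hker hp)
  -- the map `E₀ ⧸ K → L ⧸ I`
  have hK : ∀ x ∈ K, ((Ideal.Quotient.mkₐ A (Ideal.span G)).comp ι) x = 0 := by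
    have : K ≤ RingHom.ker ((Ideal.Quotient.mkₐ A (Ideal.span G)).comp ι).toRingHom := by
      rw [Ideal.span_le]
      intro x hx
      rw [Set.mem_singleton_iff] at hx
      subst hx
      show Ideal.Quotient.mk (Ideal.span G) (ι (1 - u')) = 0
      rw [Ideal.Quotient.eq_zero_iff_mem, map_sub, map_one, hιu]
      exact one_sub_prod_one_sub_mem G₀ _ (fun x hx => Ideal.subset_span (hG₀ hx))
    exact fun x hx => this hx
  let g' : (E₀ ⧸ K) →ₐ[A] (L ⧸ Ideal.span G) :=
    Ideal.Quotient.liftₐ K ((Ideal.Quotient.mkₐ A (Ideal.span G)).comp ι) hK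
  refine ⟨E₀ ⧸ K, inferInstance, inferInstance, inferInstance, l.comp e.symm.toAlgHom, g', ?_⟩
  ext p
  obtain ⟨q, rfl⟩ := hf p
  have h2 : e.symm (f q) = Ideal.Quotient.mk _ q := by
    apply e.injective
    rw [e.apply_symm_apply]
    rfl
  show g' (l (e.symm (f q))) = g (f q)
  rw [h2]
  show Ideal.Quotient.mk (Ideal.span G) (ι (ψ' q)) = g (f q)
  rw [← AlgHom.comp_apply, hψ', hψ]

end Groth.Agent.Helper2.IndZarCrit
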