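import Mathlib
import Groth.Prelude
import Groth.Agent.Helper2.IndZarQuot

set_option autoImplicit false
universe u
open CategoryTheory CategoryTheory.Limits TensorProduct

namespace Groth.Agent.Helper2.IndZarLC

open Groth.Agent.Helper2.IndZarCrit

variable (A : Type u) [CommRing A] (T : Type u) [TopologicalSpace T] [CompactSpace T]

/-- every finite set of locally constant functions lies in a finite product of copies of `A` -/
theorem exists_finite_level (F : Finset (LocallyConstant T A)) :
    ∃ (E₀ : Type u) (_ : CommRing E₀) (_ : Algebra A E₀)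
      (_ : Algebra.IsLocalIso A E₀) (ι : E₀ →ₐ[A] LocallyConstant T A), Function.Injective ι ∧
        ∀ x ∈ F, x ∈ Set.range ι := by
  classical
  let Φ : T → (F → A) := fun t x => x.1 t
  have hΦ : IsLocallyConstant Φ := by
    rw [IsLocallyConstant.iff_exists_open]
    intro t
    refine ⟨⋂ x : F, (x.1 : T → A) ⁻¹' {x.1 t}, ?_, ?_, ?_⟩
    · exact isOpen_iInter_of_finite fun x => x.1.isLocallyConstant.isOpen_fiber _
    · simp
    · intro t' ht'
      funext x
      have := Set.mem_iInter.mp ht' x
      exact this
  let Y : Type u := Set.range Φ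
  haveI : Finite Y := (hΦ.range_finite).to_subtype
  haveI : Algebra.IsLocalIso A (Y → A) := Algebra.IsLocalIso.pi_of_finite A (fun _ : Y => A)
  let ι : (Y → A) →ₐ[A] LocallyConstant T A :=
    { toFun := fun ψ => ⟨fun t => ψ ⟨Φ t, Set.mem_range_self t⟩, by
        rw [IsLocallyConstant.iff_exists_open]
        intro t
        refine ⟨Φ ⁻¹' {Φ t}, hΦ.isOpen_fiber _, rfl, ?_⟩
        intro t' ht'
        have h1 : Φ t' = Φ t := ht'
        show ψ ⟨Φ t', _⟩ = ψ ⟨Φ t, _⟩
        congr 1
        exact Subtype.ext h1⟩
      map_one' := by ext t; rfl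
      map_mul' := fun a b => by ext t; rfl
      map_zero' := by ext t; rfl
      map_add' := fun a b => by ext t; rfl
      commutes' := fun r => by ext t; rfl }
  refine ⟨Y → A, inferInstance, inferInstance, inferInstance, ι, ?_, ?_⟩
  · intro ψ ψ' h
    funext y
    obtain ⟨y, t, rfl⟩ := y
    exact congr($h t)
  · intro x hx
    refine ⟨fun y => y.1 ⟨x, hx⟩, ?_⟩
    ext t
    rfl

end Groth.Agent.Helper2.IndZarLC
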