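import Mathlib
import Groth.Prelude
import Groth.Agent.Helper2.IndZarLC
import Groth.Agent.Helper6.SpecTop

set_option autoImplicit false
universe u
open Topology TopologicalSpace

namespace Groth.Agent.Helper2.IndZarPB

open Groth.Agent.Helper2.IndZarCrit Groth.Agent.Helper6.SpecTop

variable (A : Type u) [CommRing A] (T : Type u) [TopologicalSpace T] [CompactSpace T]
  [T2Space T] [TotallyDisconnectedSpace T]
  (g : C(T, ConnectedComponents (PrimeSpectrum A)))

/-- idempotent functions vanishing on the fibre product -/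
def G : Set (LocallyConstant T A) :=
  {f | IsIdempotentElem f ∧ ∀ (p : PrimeSpectrum A) (t : T),
    ConnectedComponents.mk p = g t → f t ∈ p.asIdeal}

/-- the ring realizing the fibre product -/
abbrev B : Type u := LocallyConstant T A ⧸ Ideal.span (G A T g)

theorem isIndZariski : EtPBC.IsIndZariski A (B A T g) :=
  isIndZariski_of_facZ
    (facZ_quot_idem (IndZarLC.exists_finite_level A T) (G A T g) (fun _ hx => hx.1))

variable {A T g}

/-- evaluation at a point of the fibre product, modulo the prime -/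
noncomputable def evq (y : PB g) : LocallyConstant T A →+* A ⧸ y.1.1.asIdeal :=
  (Ideal.Quotient.mk y.1.1.asIdeal).comp (LocallyConstant.evalRingHom y.1.2)

theorem evq_apply (y : PB g) (f : LocallyConstant T A) :
    evq y f = Ideal.Quotient.mk y.1.1.asIdeal (f y.1.2) := rfl

theorem evq_kills (y : PB g) : ∀ f ∈ Ideal.span (G A T g), evq y f = 0 := by
  have : Ideal.span (G A T g) ≤ RingHom.ker (evq y) := by
    rw [Ideal.span_le]
    intro f hf
    show evq y f = 0
    rw [evq_apply, Ideal.Quotient.eq_zero_iff_mem]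
    exact hf.2 y.1.1 y.1.2 y.2
  exact fun f hf => this hf

/-- the induced map on the quotient -/
noncomputable def ρ (y : PB g) : B A T g →+* A ⧸ y.1.1.asIdeal :=
  Ideal.Quotient.lift _ (evq y) (evq_kills y)

/-- the point of `Spec B` attached to a point of the fibre product -/
noncomputable def Ψ (y : PB g) : PrimeSpectrum (B A T g) :=
  ⟨RingHom.ker (ρ y), RingHom.ker_isPrime _⟩

theorem mem_Ψ (y : PB g) (f : LocallyConstant T A) :
    Ideal.Quotient.mk (Ideal.span (G A T g)) f ∈ (Ψ y).asIdeal ↔ f y.1.2 ∈ y.1.1.asIdeal := by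
  show ρ y (Ideal.Quotient.mk _ f) = 0 ↔ _
  rw [ρ, Ideal.Quotient.lift_mk, evq_apply, Ideal.Quotient.eq_zero_iff_mem]

theorem comap_Ψ (y : PB g) : PrimeSpectrum.comap (algebraMap A (B A T g)) (Ψ y) = y.1.1 := by
  apply PrimeSpectrum.ext
  ext a
  show algebraMap A (B A T g) a ∈ (Ψ y).asIdeal ↔ _
  have : algebraMap A (B A T g) a =
      Ideal.Quotient.mk (Ideal.span (G A T g)) (algebraMap A (LocallyConstant T A) a) := rfl
  rw [this, mem_Ψ]
  rfl

/-- characteristic function of a clopen -/
noncomputable abbrev χ (U : Set T) (hU : IsClopen U) : LocallyConstant T A :=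
  LocallyConstant.charFn A hU

omit [CompactSpace T] [T2Space T] [TotallyDisconnectedSpace T] in
theorem χ_apply_mem {U : Set T} (hU : IsClopen U) {t : T} (ht : t ∈ U) :
    (χ (A := A) U hU) t = 1 := by
  show (LocallyConstant.charFn A hU : T → A) t = 1
  rw [LocallyConstant.coe_charFn, Set.indicator_of_mem ht]
  rfl

omit [CompactSpace T] [T2Space T] [TotallyDisconnectedSpace T] in
theorem χ_apply_notMem {U : Set T} (hU : IsClopen U) {t : T} (ht : t ∉ U) :
    (χ (A := A) U hU) t = 0 := by
  show (LocallyConstant.charFn A hU : T → A) t = 0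
  rw [LocallyConstant.coe_charFn, Set.indicator_of_notMem ht]

theorem Ψ_injective : Function.Injective (Ψ (A := A) (T := T) (g := g)) := by
  intro y y' h
  have hmem : ∀ f : LocallyConstant T A, f y.1.2 ∈ y.1.1.asIdeal ↔ f y'.1.2 ∈ y'.1.1.asIdeal := by
    intro f
    rw [← mem_Ψ, ← mem_Ψ, h]
  have ht : y.1.2 = y'.1.2 := by
    by_contra hne
    obtain ⟨U, hU, hyU, hy'U⟩ := exists_isClopen_of_totally_separated hne
    have h1 := (hmem (χ U hU)).mpr (by
      rw [χ_apply_notMem hU hy'U]
      exact Ideal.zero_mem _)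
    rw [χ_apply_mem hU hyU] at h1
    exact y.1.1.2.ne_top ((Ideal.eq_top_iff_one _).mpr h1)
  have hp : y.1.1 = y'.1.1 := by
    apply PrimeSpectrum.ext
    ext a
    exact hmem (algebraMap A _ a)
  apply Subtype.ext
  exact Prod.ext hp ht


omit [T2Space T] [TotallyDisconnectedSpace T] in
/-- a prime of the ring of locally constant functions has a limit point -/
theorem exists_point (𝔮 : Ideal (LocallyConstant T A)) [𝔮.IsPrime] :
    ∃ t : T, ∀ (U : Set T) (hU : IsClopen U), t ∈ U → χ U hU ∉ 𝔮 := by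
  classical
  by_contra hcon
  push_neg at hcon
  choose U hU htU hχ using hcon
  obtain ⟨s, hs⟩ := isCompact_univ.elim_nhds_subcover U
    (fun t _ => (hU t).isOpen.mem_nhds (htU t))
  have h0 : ∏ t ∈ s, (1 - χ (A := A) (U t) (hU t)) = 0 := by
    ext t'
    have : t' ∈ ⋃ t ∈ s, U t := hs.2 (Set.mem_univ t')
    obtain ⟨t, hts, ht't⟩ : ∃ t ∈ s, t' ∈ U t := by simpa using this
    show LocallyConstant.evalRingHom t' (∏ t ∈ s, (1 - χ (A := A) (U t) (hU t))) = 0
    rw [map_prod]
    apply Finset.prod_eq_zero hts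
    rw [map_sub, map_one]
    show 1 - (χ (A := A) (U t) (hU t)) t' = 0
    rw [χ_apply_mem (hU t) ht't, sub_self]
  have h1 : Ideal.Quotient.mk 𝔮 (∏ t ∈ s, (1 - χ (A := A) (U t) (hU t))) = 1 := by
    rw [map_prod]
    apply Finset.prod_eq_one
    intro t _
    rw [map_sub, map_one, Ideal.Quotient.eq_zero_iff_mem.2 (hχ t), sub_zero]
  rw [h0, map_zero] at h1
  have h2 : (1 : LocallyConstant T A) ∈ 𝔮 := by
    rw [← Ideal.Quotient.eq_zero_iff_mem, map_one, ← h1]
  exact (‹𝔮.IsPrime›).ne_top ((Ideal.eq_top_iff_one _).mpr h2)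

omit [CompactSpace T] [T2Space T] [TotallyDisconnectedSpace T] in
theorem mem_iff_of_point (𝔮 : Ideal (LocallyConstant T A)) [𝔮.IsPrime] (t : T)
    (ht : ∀ (U : Set T) (hU : IsClopen U), t ∈ U → χ U hU ∉ 𝔮) (f : LocallyConstant T A) :
    f ∈ 𝔮 ↔ algebraMap A (LocallyConstant T A) (f t) ∈ 𝔮 := by
  have hU : IsClopen ((f : T → A) ⁻¹' {f t}) := f.isLocallyConstant.isClopen_fiber _
  have htU : t ∈ (f : T → A) ⁻¹' {f t} := rfl
  have key : f * χ _ hU = algebraMap A (LocallyConstant T A) (f t) * χ _ hU := by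
    ext t'
    show f t' * (χ (A := A) _ hU) t' = f t * (χ (A := A) _ hU) t'
    by_cases h : t' ∈ (f : T → A) ⁻¹' {f t}
    · have h' : f t' = f t := h
      rw [h']
    · rw [χ_apply_notMem hU h, mul_zero, mul_zero]
  have hχ := ht _ hU htU
  constructor
  · intro hf
    have : algebraMap A (LocallyConstant T A) (f t) * χ _ hU ∈ 𝔮 := by
      rw [← key]
      exact Ideal.mul_mem_right _ _ hf
    exact ((‹𝔮.IsPrime›).mem_or_mem this).resolve_right hχ
  · intro hf
    have : f * χ _ hU ∈ 𝔮 := by
      rw [key]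
      exact Ideal.mul_mem_right _ _ hf
    exact ((‹𝔮.IsPrime›).mem_or_mem this).resolve_right hχ

theorem Ψ_surjective : Function.Surjective (Ψ (A := A) (T := T) (g := g)) := by
  intro q
  let 𝔮 : Ideal (LocallyConstant T A) :=
    Ideal.comap (Ideal.Quotient.mk (Ideal.span (G A T g))) q.asIdeal
  haveI : 𝔮.IsPrime := Ideal.comap_isPrime _ _
  obtain ⟨t, ht⟩ := exists_point 𝔮
  let p : PrimeSpectrum A := PrimeSpectrum.comap (algebraMap A (LocallyConstant T A)) ⟨𝔮, inferInstance⟩
  have hmem : ∀ f : LocallyConstant T A, f ∈ 𝔮 ↔ f t ∈ p.asIdeal := fun f =>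
    mem_iff_of_point 𝔮 t ht f
  have hI : Ideal.span (G A T g) ≤ 𝔮 := by
    intro f hf
    show Ideal.Quotient.mk _ f ∈ q.asIdeal
    rw [Ideal.Quotient.eq_zero_iff_mem.2 hf]
    exact Ideal.zero_mem _
  have hpb : _root_.ConnectedComponents.mk p = g t := by
    by_contra hne
    haveI : T2Space (_root_.ConnectedComponents (PrimeSpectrum A)) := t2_connectedComponents
    obtain ⟨Z, hZ, hpZ, hgZ⟩ := exists_isClopen_of_totally_separated hne
    have hW : IsClopen (_root_.ConnectedComponents.mk ⁻¹' Z : Set (PrimeSpectrum A)) :=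
      hZ.preimage _root_.ConnectedComponents.continuous_coe
    obtain ⟨e, he, hWe⟩ := PrimeSpectrum.isClopen_iff.mp hW
    have hU : IsClopen (g ⁻¹' Zᶜ) := hZ.compl.preimage g.continuous
    let f : LocallyConstant T A := χ _ hU * algebraMap A _ e
    have hfG : f ∈ G A T g := by
      refine ⟨?_, ?_⟩
      · have h1 : IsIdempotentElem (χ (A := A) _ hU) := by
          ext t'
          show (χ (A := A) _ hU) t' * (χ (A := A) _ hU) t' = (χ (A := A) _ hU) t'
          by_cases h : t' ∈ g ⁻¹' Zᶜ
          · rw [χ_apply_mem hU h, mul_one]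
          · rw [χ_apply_notMem hU h, mul_zero]
        have h2 : IsIdempotentElem (algebraMap A (LocallyConstant T A) e) := he.map _
        exact h1.mul h2
      · intro p' t' hp't'
        show (χ (A := A) _ hU) t' * e ∈ p'.asIdeal
        by_cases h : t' ∈ g ⁻¹' Zᶜ
        · rw [χ_apply_mem hU h, one_mul]
          have h3 : p' ∉ (_root_.ConnectedComponents.mk ⁻¹' Z : Set (PrimeSpectrum A)) := by
            intro h4
            have h5 : _root_.ConnectedComponents.mk p' ∈ Z := h4
            rw [hp't'] at h5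
            exact h h5
          rw [hWe] at h3
          by_contra h6
          exact h3 h6
        · rw [χ_apply_notMem hU h, zero_mul]
          exact Ideal.zero_mem _
    have hf𝔮 : f ∈ 𝔮 := hI (Ideal.subset_span hfG)
    have hft : f t ∈ p.asIdeal := (hmem f).mp hf𝔮
    have htU : t ∈ g ⁻¹' Zᶜ := hgZ
    have hft' : f t = e := by
      show (χ (A := A) _ hU) t * e = e
      rw [χ_apply_mem hU htU, one_mul]
    rw [hft'] at hft
    have hpW : p ∈ (_root_.ConnectedComponents.mk ⁻¹' Z : Set (PrimeSpectrum A)) := hpZ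
    rw [hWe] at hpW
    exact hpW hft
  refine ⟨⟨(p, t), hpb⟩, ?_⟩
  apply PrimeSpectrum.ext
  ext b
  obtain ⟨f, rfl⟩ := Ideal.Quotient.mk_surjective b
  rw [mem_Ψ]
  exact (hmem f).symm


theorem Ψ_continuous : Continuous (Ψ (A := A) (T := T) (g := g)) := by
  rw [PrimeSpectrum.isTopologicalBasis_basic_opens.continuous_iff]
  rintro _ ⟨b, rfl⟩
  obtain ⟨f, rfl⟩ := Ideal.Quotient.mk_surjective b
  rw [isOpen_iff_forall_mem_open]
  intro y₀ hy₀
  have hy₀' : f y₀.1.2 ∉ y₀.1.1.asIdeal := fun h => hy₀ ((mem_Ψ y₀ f).mpr h)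
  refine ⟨Subtype.val ⁻¹' ((PrimeSpectrum.basicOpen (f y₀.1.2) : Set (PrimeSpectrum A)) ×ˢ
    ((f : T → A) ⁻¹' {f y₀.1.2})), ?_, ?_, ?_⟩
  · rintro y ⟨hy1, hy2⟩
    have hy2' : f y.1.2 = f y₀.1.2 := hy2
    show Ideal.Quotient.mk (Ideal.span (G A T g)) f ∉ (Ψ y).asIdeal
    intro h
    rw [mem_Ψ, hy2'] at h
    exact hy1 h
  · exact ((PrimeSpectrum.basicOpen (f y₀.1.2)).2.prod
      (f.isLocallyConstant.isOpen_fiber _)).preimage continuous_subtype_val
  · exact ⟨hy₀', rfl⟩

theorem Ψ_isOpenMap : IsOpenMap (Ψ (A := A) (T := T) (g := g)) := by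
  have hB : IsTopologicalBasis ((Set.preimage (Subtype.val : PB g → PrimeSpectrum A × T)) ''
      (Set.image2 (· ×ˢ ·) (Set.range fun r : A => (PrimeSpectrum.basicOpen r : Set (PrimeSpectrum A)))
        {V : Set T | IsClopen V})) :=
    (PrimeSpectrum.isTopologicalBasis_basic_opens.prod isTopologicalBasis_isClopen).isInducing
      IsInducing.subtypeVal
  rw [hB.isOpenMap_iff]
  rintro _ ⟨_, ⟨_, ⟨a, rfl⟩, V, hV, rfl⟩, rfl⟩
  have hV' : IsClopen V := hV
  have : Ψ '' (Subtype.val ⁻¹' ((PrimeSpectrum.basicOpen a : Set (PrimeSpectrum A)) ×ˢ V)) =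
      (PrimeSpectrum.basicOpen (Ideal.Quotient.mk (Ideal.span (G A T g))
        (algebraMap A (LocallyConstant T A) a * χ V hV')) : Set (PrimeSpectrum (B A T g))) := by
    ext q
    constructor
    · rintro ⟨y, ⟨hy1, hy2⟩, rfl⟩
      intro h
      rw [mem_Ψ] at h
      have h2 : (algebraMap A (LocallyConstant T A) a * χ V hV' : LocallyConstant T A) y.1.2 = a := by
        show a * (χ (A := A) V hV') y.1.2 = a
        rw [χ_apply_mem hV' hy2, mul_one]
      rw [h2] at h
      exact hy1 h
    · intro hq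
      obtain ⟨y, rfl⟩ := Ψ_surjective (A := A) (T := T) (g := g) q
      have hq' : (algebraMap A (LocallyConstant T A) a * χ V hV' : LocallyConstant T A) y.1.2 ∉ y.1.1.asIdeal :=
        fun h => hq ((mem_Ψ y _).mpr h)
      have hq'' : a * (χ (A := A) V hV') y.1.2 ∉ y.1.1.asIdeal := hq'
      have hyV : y.1.2 ∈ V := by
        by_contra h
        rw [χ_apply_notMem hV' h, mul_zero] at hq''
        exact hq'' (Ideal.zero_mem _)
      rw [χ_apply_mem hV' hyV, mul_one] at hq''
      exact ⟨y, ⟨hq'', hyV⟩, rfl⟩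
  rw [this]
  exact (PrimeSpectrum.basicOpen _).2

/-- the homeomorphism `X ×_{π₀ X} T ≃ Spec B` -/
noncomputable def homeo : PB g ≃ₜ PrimeSpectrum (B A T g) :=
  (Equiv.ofBijective Ψ ⟨Ψ_injective, Ψ_surjective⟩).toHomeomorphOfContinuousOpen
    Ψ_continuous Ψ_isOpenMap

theorem homeo_apply (y : PB g) : homeo (A := A) (T := T) (g := g) y = Ψ y := rfl


/-- homeomorphisms induce homeomorphisms on connected components -/
noncomputable def ccHomeo {X Y : Type*} [TopologicalSpace X] [TopologicalSpace Y] (h : X ≃ₜ Y) :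
    _root_.ConnectedComponents X ≃ₜ _root_.ConnectedComponents Y where
  toFun := h.continuous.connectedComponentsMap
  invFun := h.symm.continuous.connectedComponentsMap
  left_inv := by
    intro c
    obtain ⟨x, rfl⟩ := _root_.ConnectedComponents.surjective_coe c
    show h.symm.continuous.connectedComponentsMap (h.continuous.connectedComponentsMap
      (_root_.ConnectedComponents.mk x)) = _
    rw [Continuous.connectedComponentsMap_mk, Continuous.connectedComponentsMap_mk,
      h.symm_apply_apply]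
  right_inv := by
    intro c
    obtain ⟨x, rfl⟩ := _root_.ConnectedComponents.surjective_coe c
    show h.continuous.connectedComponentsMap (h.symm.continuous.connectedComponentsMap
      (_root_.ConnectedComponents.mk x)) = _
    rw [Continuous.connectedComponentsMap_mk, Continuous.connectedComponentsMap_mk,
      h.apply_symm_apply]
  continuous_toFun := h.continuous.connectedComponentsMap_continuous
  continuous_invFun := h.symm.continuous.connectedComponentsMap_continuous

theorem ccHomeo_mk {X Y : Type*} [TopologicalSpace X] [TopologicalSpace Y] (h : X ≃ₜ Y) (x : X) :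
    ccHomeo h (_root_.ConnectedComponents.mk x) = _root_.ConnectedComponents.mk (h x) := rfl

variable (A T g)

theorem s0697 :
    ∃ (B : Type u) (_ : CommRing B) (_ : Algebra A B)
      (e : _root_.ConnectedComponents (PrimeSpectrum B) ≃ₜ T),
      EtPBC.IsIndZariski A B ∧
      (∀ y : PrimeSpectrum B,
        g (e (_root_.ConnectedComponents.mk y)) =
          _root_.ConnectedComponents.mk (PrimeSpectrum.comap (algebraMap A B) y)) ∧
      Topology.IsEmbedding (fun y : PrimeSpectrum B =>
        (PrimeSpectrum.comap (algebraMap A B) y, e (_root_.ConnectedComponents.mk y))) ∧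
      Set.range (fun y : PrimeSpectrum B =>
        (PrimeSpectrum.comap (algebraMap A B) y, e (_root_.ConnectedComponents.mk y))) =
        {p : PrimeSpectrum A × T | _root_.ConnectedComponents.mk p.1 = g p.2} := by
  obtain ⟨e₀, he₀⟩ := exists_homeo g
  let h : PB g ≃ₜ PrimeSpectrum (B A T g) := homeo (A := A) (T := T) (g := g)
  let e : _root_.ConnectedComponents (PrimeSpectrum (B A T g)) ≃ₜ T := (ccHomeo h.symm).trans e₀
  have he : ∀ y : PrimeSpectrum (B A T g),
      e (_root_.ConnectedComponents.mk y) = (h.symm y).1.2 := fun y => he₀ _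
  have hc : ∀ y : PrimeSpectrum (B A T g),
      PrimeSpectrum.comap (algebraMap A (B A T g)) y = (h.symm y).1.1 := by
    intro y
    have h1 := comap_Ψ (h.symm y)
    rw [← homeo_apply] at h1
    have h2 : homeo (A := A) (T := T) (g := g) (h.symm y) = y := h.apply_symm_apply y
    rw [h2] at h1
    exact h1
  have hfun : (fun y : PrimeSpectrum (B A T g) =>
      (PrimeSpectrum.comap (algebraMap A (B A T g)) y, e (_root_.ConnectedComponents.mk y))) =
      Subtype.val ∘ h.symm := by
    funext y
    exact Prod.ext (hc y) (he y)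
  refine ⟨B A T g, inferInstance, inferInstance, e, isIndZariski A T g, ?_, ?_, ?_⟩
  · intro y
    rw [he, hc]
    exact (h.symm y).2.symm
  · rw [hfun]
    exact IsEmbedding.subtypeVal.comp h.symm.isEmbedding
  · rw [hfun, Set.range_comp, h.symm.surjective.range_eq, Set.image_univ, Subtype.range_coe]
    rfl

end Groth.Agent.Helper2.IndZarPB
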