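import Mathlib
import Groth.Prelude
import Groth.Agent.Helper2.IndEtCritA

set_option autoImplicit false
universe u
open CategoryTheory CategoryTheory.Limits TensorProduct

namespace Groth.Agent.Helper2.IndZarLoc

open Groth.Agent.Helper2.IndEtCrit

/-- index type: elements of the submonoid, ordered by divisibility -/
structure LIdx {B : Type u} [CommRing B] (S : Submonoid B) : Type u where
  s : S

variable {A B : Type u} [CommRing A] [CommRing B] [Algebra A B] (S : Submonoid B)

instance : Preorder (LIdx S) where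
  le a b := (a.s : B) ∣ (b.s : B)
  le_refl a := dvd_refl _
  le_trans a b c := dvd_trans

instance : Nonempty (LIdx S) := ⟨⟨1⟩⟩

instance : IsDirected (LIdx S) (· ≤ ·) :=
  ⟨fun a b => ⟨⟨a.s * b.s⟩, dvd_mul_right _ _, dvd_mul_left _ _⟩⟩

variable (C : Type u) [CommRing C] [Algebra B C] [Algebra A C] [IsScalarTower A B C]
  [IsLocalization S C]

variable (A)

/-- transition maps -/
noncomputable def tr {i j : LIdx S} (h : i ≤ j) :
    Localization.Away (i.s : B) →ₐ[A] Localization.Away (j.s : B) :=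
  IsLocalization.Away.liftAlgHom (x := (i.s : B))
    (f := IsScalarTower.toAlgHom A B (Localization.Away (j.s : B)))
    (isUnit_of_dvd_unit (map_dvd _ h) (IsLocalization.Away.algebraMap_isUnit (j.s : B)))

/-- structure maps -/
noncomputable def st (j : LIdx S) : Localization.Away (j.s : B) →ₐ[A] C :=
  IsLocalization.Away.liftAlgHom (x := (j.s : B))
    (f := IsScalarTower.toAlgHom A B C) (IsLocalization.map_units C j.s)

theorem tr_algebraMap {i j : LIdx S} (h : i ≤ j) (b : B) :
    tr A S h (algebraMap B _ b) = algebraMap B _ b := by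
  simp [tr]

theorem st_algebraMap (j : LIdx S) (b : B) : st A S C j (algebraMap B _ b) = algebraMap B C b := by
  simp [st]

theorem st_tr {i j : LIdx S} (h : i ≤ j) (x : Localization.Away (i.s : B)) :
    st A S C j (tr A S h x) = st A S C i x := by
  have : ((st A S C j).toRingHom.comp (tr A S h).toRingHom) = (st A S C i).toRingHom := by
    apply IsLocalization.ringHom_ext (Submonoid.powers (i.s : B))
    ext b
    simp [tr_algebraMap, st_algebraMap]
  exact congr($this x)

theorem st_surj (c : C) : ∃ (j : LIdx S) (y : Localization.Away (j.s : B)), st A S C j y = c := by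
  obtain ⟨b, s, rfl⟩ := IsLocalization.exists_mk'_eq S c
  refine ⟨⟨s⟩, IsLocalization.mk' _ b (⟨(s : B), Submonoid.mem_powers _⟩ : Submonoid.powers (s : B)), ?_⟩
  rw [IsLocalization.eq_mk'_iff_mul_eq, ← st_algebraMap A S C ⟨s⟩ (s : B), ← map_mul,
    ← st_algebraMap A S C ⟨s⟩ b]
  congr 1
  exact IsLocalization.mk'_spec _ b (⟨(s : B), Submonoid.mem_powers _⟩ : Submonoid.powers (s : B))

theorem st_inj (i : LIdx S) (x y : Localization.Away (i.s : B)) (hxy : st A S C i x = st A S C i y) :
    ∃ (k : LIdx S) (h : i ≤ k), tr A S h x = tr A S h y := by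
  obtain ⟨a, ⟨_, n, rfl⟩, hd⟩ := IsLocalization.exists_mk'_eq (Submonoid.powers (i.s : B)) (x - y)
  have h1 : (x - y) * algebraMap B _ ((i.s : B) ^ n) = algebraMap B _ a := by
    rw [← hd]
    exact IsLocalization.mk'_spec _ a _
  have h2 : algebraMap B C a = 0 := by
    rw [← st_algebraMap A S C i a, ← h1, map_mul, map_sub, hxy, sub_self, zero_mul]
  obtain ⟨s', hs'⟩ := (IsLocalization.map_eq_zero_iff S C a).mp h2
  refine ⟨⟨i.s * s'⟩, dvd_mul_right _ _, ?_⟩
  have hle : i ≤ (⟨i.s * s'⟩ : LIdx S) := dvd_mul_right _ _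
  have h3 : algebraMap B (Localization.Away ((i.s * s' : S) : B)) a = 0 := by
    have hu : IsUnit (algebraMap B (Localization.Away ((i.s * s' : S) : B)) (s' : B)) :=
      isUnit_of_dvd_unit (map_dvd _ (dvd_mul_left _ _))
        (IsLocalization.Away.algebraMap_isUnit ((i.s * s' : S) : B))
    have h4 : algebraMap B (Localization.Away ((i.s * s' : S) : B)) (s' : B) *
        algebraMap B (Localization.Away ((i.s * s' : S) : B)) a = 0 := by
      rw [← map_mul, hs', map_zero]
    exact (hu.mul_right_eq_zero).mp h4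
  have hu2 : IsUnit (algebraMap B (Localization.Away ((i.s * s' : S) : B)) ((i.s : B) ^ n)) := by
    rw [map_pow]
    exact (isUnit_of_dvd_unit (map_dvd _ (dvd_mul_right _ _))
      (IsLocalization.Away.algebraMap_isUnit ((i.s * s' : S) : B))).pow n
  have h5 : tr A S hle (x - y) * algebraMap B _ ((i.s : B) ^ n) = 0 := by
    rw [← tr_algebraMap A S hle ((i.s : B) ^ n), ← map_mul, h1, tr_algebraMap, h3]
  have h6 : tr A S hle (x - y) = 0 := (hu2.mul_left_eq_zero).mp h5
  rw [map_sub, sub_eq_zero] at h6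
  exact h6

/-- the localization as a filtered system of principal localizations -/
noncomputable def locSys : FSys A C where
  J := LIdx S
  cat := inferInstance
  filt := inferInstance
  R := fun j => Localization.Away (j.s : B)
  ring := fun j => inferInstance
  alg := fun j => inferInstance
  t := fun f => tr A S (leOfHom f)
  φ := fun j => st A S C j
  hφ := fun f x => st_tr A S C (leOfHom f) x
  hsurj := st_surj A S C
  hinj := fun i x y hxy => by
    obtain ⟨k, h, hk⟩ := st_inj A S C i x y hxy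
    exact ⟨k, homOfLE h, hk⟩


omit [Algebra A B] in
/-- two maps from a finite type algebra into a stage which agree in the colimit agree at a
later stage -/
theorem FSys.exists_eq_of_fg {A C : Type u} [CommRing A] [CommRing C] [Algebra A C] (Sy : FSys A C)
    {P : Type u} [CommRing P] [Algebra A P] [Algebra.FiniteType A P] (j : Sy.J)
    (h₁ h₂ : P →ₐ[A] Sy.R j) (h : (Sy.φ j).comp h₁ = (Sy.φ j).comp h₂)
    (Q : ∀ k, (Sy.R j →ₐ[A] Sy.R k) → Prop) (hid : Q j (AlgHom.id A _))
    (hcomp : ∀ (k k' : Sy.J) (f : k ⟶ k') (τ : Sy.R j →ₐ[A] Sy.R k), Q k τ →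
      Q k' ((Sy.t f).comp τ)) :
    ∃ (k : Sy.J) (τ : Sy.R j →ₐ[A] Sy.R k), Q k τ ∧ (Sy.φ k).comp τ = Sy.φ j ∧
      τ.comp h₁ = τ.comp h₂ := by
  classical
  obtain ⟨F, hF⟩ := (inferInstance : Algebra.FiniteType A P).out
  have key : ∀ F' : Finset P, ∃ (k : Sy.J) (τ : Sy.R j →ₐ[A] Sy.R k), Q k τ ∧
      (Sy.φ k).comp τ = Sy.φ j ∧ ∀ p ∈ F', τ (h₁ p) = τ (h₂ p) := by
    intro F'
    induction F' using Finset.induction_on with
    | empty => exact ⟨j, AlgHom.id A _, hid, by ext; rfl, by simp⟩
    | insert a s ha ih =>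
      obtain ⟨k, τ, hQ, hτ, hk⟩ := ih
      have h0 : Sy.φ k (τ (h₁ a)) = Sy.φ k (τ (h₂ a)) := by
        have e1 : ∀ x, Sy.φ k (τ x) = Sy.φ j x := fun x => congr($hτ x)
        rw [e1, e1]
        exact congr($h a)
      obtain ⟨k', f', hf'⟩ := Sy.hinj k _ _ h0
      refine ⟨k', (Sy.t f').comp τ, hcomp k k' f' τ hQ, ?_, ?_⟩
      · ext x
        show Sy.φ k' (Sy.t f' (τ x)) = Sy.φ j x
        rw [Sy.hφ]
        exact congr($hτ x)
      · intro p hp
        rw [Finset.mem_insert] at hp
        rcases hp with rfl | hp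
        · exact hf'
        · show Sy.t f' (τ (h₁ p)) = Sy.t f' (τ (h₂ p))
          rw [hk p hp]
  obtain ⟨k, τ, hQ, hτ, hk⟩ := key F
  refine ⟨k, τ, hQ, hτ, ?_⟩
  apply AlgHom.ext_of_adjoin_eq_top hF
  intro p hp
  exact hk p hp

variable {A S}

/-- a map from a finitely presented algebra to a localization factors through a principal
localization -/
theorem loc_factor (P : Type u) [CommRing P] [Algebra A P] [Algebra.FinitePresentation A P]
    (g : P →ₐ[A] C) :
    ∃ (s : S) (g' : P →ₐ[A] Localization.Away (s : B)), (st A S C ⟨s⟩).comp g' = g := by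
  obtain ⟨j, g', hg'⟩ := exists_factor (locSys A S C) P g
  exact ⟨j.s, g', hg'⟩

/-- two maps from a finite type algebra to a principal localization agreeing in the localization
agree in a further principal localization -/
theorem loc_eq (P : Type u) [CommRing P] [Algebra A P] [Algebra.FiniteType A P]
    (s : S) (h₁ h₂ : P →ₐ[A] Localization.Away (s : B))
    (h : (st A S C ⟨s⟩).comp h₁ = (st A S C ⟨s⟩).comp h₂) :
    ∃ (s' : S) (τ : Localization.Away (s : B) →ₐ[A] Localization.Away (s' : B)),
      (∀ b : B, τ (algebraMap B _ b) = algebraMap B _ b) ∧ τ.comp h₁ = τ.comp h₂ := by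
  let Q : ∀ k : LIdx S, (Localization.Away (s : B) →ₐ[A] Localization.Away (k.s : B)) → Prop :=
    fun k τ => ∀ b : B, τ (algebraMap B _ b) = algebraMap B _ b
  have hid : Q ⟨s⟩ (AlgHom.id A _) := fun b => rfl
  have hcomp : ∀ (k k' : LIdx S) (f : k ⟶ k')
      (τ : Localization.Away (s : B) →ₐ[A] Localization.Away (k.s : B)), Q k τ →
      Q k' ((tr A S (leOfHom f)).comp τ) := by
    intro k k' f τ hτ b
    show tr A S (leOfHom f) (τ (algebraMap B _ b)) = _
    rw [hτ b, tr_algebraMap]
  obtain ⟨k, τ, hQ, hτ, hk⟩ := FSys.exists_eq_of_fg (locSys A S C) (⟨s⟩ : LIdx S) h₁ h₂ h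
    Q hid hcomp
  exact ⟨k.s, τ, hQ, hk⟩

end Groth.Agent.Helper2.IndZarLoc
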