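import Mathlib
import Groth.Prelude
import Groth.Agent.Helper6.SpecTop
import Groth.Agent.Helper6.WLocalTop

set_option autoImplicit false
universe u
open Topology TopologicalSpace

namespace Groth.Agent.Helper2.WLocRefine

open Groth.Agent.Helper6

section Top

variable {X : Type u} [TopologicalSpace X]

/-- in a w-local space, the connected component of a closed point consists of its
generizations -/
theorem specializes_of_mem_connectedComponent (hX : ProEtW.IsWLocal X) {y : X}
    (hy : IsClosed ({y} : Set X)) {z : X} (hz : z ∈ connectedComponent y) : z ⤳ y := by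
  obtain ⟨c, ⟨hc, hzc⟩, -⟩ := hX.2.2 z
  have h1 : _root_.ConnectedComponents.mk c = _root_.ConnectedComponents.mk y := by
    refine (SpecTop.mk_eq_of_specializes hzc).trans ?_
    exact ConnectedComponents.coe_eq_coe'.mpr hz
  have h2 : c = y := by
    by_contra hne
    exact WLocalTop.mk_ne_mk_of_closed_ne hX hc hy hne h1
  rw [← h2]
  exact hzc

/-- a clopen neighbourhood of a closed point inside a given open neighbourhood -/
theorem exists_clopen_between (hX : ProEtW.IsWLocal X) {y : X} (hy : IsClosed ({y} : Set X))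
    {W : Set X} (hW : IsOpen W) (hyW : y ∈ W) : ∃ V : Set X, IsClopen V ∧ y ∈ V ∧ V ⊆ W := by
  haveI : SpectralSpace X := hX.1
  have hsub : connectedComponent y ⊆ W := fun z hz =>
    (specializes_of_mem_connectedComponent hX hy hz).mem_open hW hyW
  rw [SpecTop.cc_eq_iInter_isClopen] at hsub
  have hWc : IsCompact Wᶜ := hW.isClosed_compl.isCompact
  have hempty : Wᶜ ∩ ⋂ s : { s : Set X // IsClopen s ∧ y ∈ s }, (s : Set X) = ∅ := by
    rw [Set.eq_empty_iff_forall_notMem]
    rintro z ⟨hz1, hz2⟩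
    exact hz1 (hsub hz2)
  obtain ⟨u, hu⟩ := hWc.elim_finite_subfamily_closed _ (fun s => s.2.1.1) hempty
  refine ⟨⋂ i ∈ u, (i : Set X), isClopen_biInter_finset fun s _ => s.2.1, ?_, ?_⟩
  · exact Set.mem_iInter₂.mpr fun s _ => s.2.2
  · intro z hz
    by_contra hzW
    have : z ∈ Wᶜ ∩ ⋂ i ∈ u, (i : Set X) := ⟨hzW, hz⟩
    rw [hu] at this
    exact this

/-- a finite clopen cover subordinate to a family of open neighbourhoods of the closed points -/
theorem exists_finite_clopen_cover (hX : ProEtW.IsWLocal X) (W : X → Set X)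
    (hW : ∀ y, IsClosed ({y} : Set X) → IsOpen (W y) ∧ y ∈ W y) :
    ∃ (s : Finset X) (V : X → Set X),
      (∀ y ∈ s, IsClosed ({y} : Set X) ∧ IsClopen (V y) ∧ V y ⊆ W y) ∧
      (⋃ y ∈ s, V y) = Set.univ := by
  classical
  haveI : SpectralSpace X := hX.1
  have hc : ∀ x : X, ∃ c : X, IsClosed ({c} : Set X) ∧ x ⤳ c := fun x => by
    obtain ⟨c, hc, -⟩ := hX.2.2 x
    exact ⟨c, hc⟩
  choose c hcc hxc using hc
  have hV : ∀ y : X, ∃ V : Set X, IsClosed ({y} : Set X) → (IsClopen V ∧ y ∈ V ∧ V ⊆ W y) := by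
    intro y
    by_cases hy : IsClosed ({y} : Set X)
    · obtain ⟨V, h1, h2, h3⟩ := exists_clopen_between hX hy (hW y hy).1 (hW y hy).2
      exact ⟨V, fun _ => ⟨h1, h2, h3⟩⟩
    · exact ⟨∅, fun h => absurd h hy⟩
  choose V hV using hV
  obtain ⟨t, -, ht⟩ := isCompact_univ.elim_nhds_subcover (fun x => V (c x))
    (fun x _ => (hV (c x) (hcc x)).1.isOpen.mem_nhds
      ((hxc x).mem_open (hV (c x) (hcc x)).1.isOpen (hV (c x) (hcc x)).2.1))
  refine ⟨t.image c, V, ?_, ?_⟩
  · intro y hy
    obtain ⟨x, -, rfl⟩ := Finset.mem_image.mp hy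
    exact ⟨hcc x, (hV (c x) (hcc x)).1, (hV (c x) (hcc x)).2.2⟩
  · rw [Set.eq_univ_iff_forall]
    intro z
    obtain ⟨x, hxt, hzx⟩ : ∃ x ∈ t, z ∈ V (c x) := by
      simpa using ht (Set.mem_univ z)
    exact Set.mem_iUnion₂.mpr ⟨c x, Finset.mem_image_of_mem _ hxt, hzx⟩

end Top

section Ring

variable {B : Type u} [CommRing B]

theorem eq_zero_of_idem_nilp {e : B} (he : IsIdempotentElem e) (hn : IsNilpotent e) : e = 0 := by
  obtain ⟨n, hn⟩ := hn
  cases n with
  | zero =>
    rw [pow_zero] at hn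
    rw [← mul_one e, hn, mul_zero]
  | succ n => rw [← he.pow_succ_eq n, hn]

/-- orthogonalization of a list of idempotents -/
theorem exists_orth_of_list {ι : Type*} (u : ι → B) (l : List ι)
    (hu : ∀ i ∈ l, IsIdempotentElem (u i)) :
    ∃ (I : Type) (_ : Fintype I) (e : I → B) (ix : I → ι), OrthogonalIdempotents e ∧
      (∀ j, ix j ∈ l ∧ e j * u (ix j) = e j) ∧
      ∑ j, e j = 1 - (l.map (fun i => 1 - u i)).prod := by
  induction l with
  | nil =>
    refine ⟨Empty, inferInstance, fun j => j.elim, fun j => j.elim,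
      ⟨fun j => j.elim, fun j => j.elim⟩, fun j => j.elim, ?_⟩
    simp
  | cons i l ih =>
    obtain ⟨I', _, e', ix', he', hix', hsum'⟩ := ih (fun k hk => hu k (List.mem_cons_of_mem _ hk))
    set π' : B := (l.map (fun i => 1 - u i)).prod with hπ'
    have hπidem : IsIdempotentElem π' := by
      have : π' = 1 - ∑ j, e' j := by rw [hsum']; ring
      rw [this]
      exact (he'.isIdempotentElem_sum (s := Finset.univ)).one_sub
    have hui : IsIdempotentElem (u i) := hu i List.mem_cons_self
    have hx : IsIdempotentElem (u i * π') := hui.mul hπidem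
    have hπsum : π' * ∑ j, e' j = 0 := by
      rw [hsum', mul_sub, mul_one, hπidem.eq, sub_self]
    have hx₁ : u i * π' * ∑ j, e' j = 0 := by rw [mul_assoc, hπsum, mul_zero]
    have hx₂ : (∑ j, e' j) * (u i * π') = 0 := by rw [mul_comm, hx₁]
    refine ⟨Option I', inferInstance, fun j => Option.elim j (u i * π') e',
      fun j => Option.elim j i ix', he'.option (u i * π') hx hx₁ hx₂, ?_, ?_⟩
    · rintro (_ | j)
      · refine ⟨List.mem_cons_self, ?_⟩
        show u i * π' * u i = u i * π'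
        rw [mul_comm (u i) π', mul_assoc, hui.eq]
      · exact ⟨List.mem_cons_of_mem _ (hix' j).1, (hix' j).2⟩
    · rw [Fintype.sum_option]
      show u i * π' + ∑ j, e' j = 1 - ((i :: l).map (fun i => 1 - u i)).prod
      rw [hsum', List.map_cons, List.prod_cons]
      ring

/-- a cover of the spectrum by basic opens of idempotents is refined by a complete family of
orthogonal idempotents -/
theorem exists_coi_of_cover {ι : Type*} (u : ι → B) (l : List ι)
    (hu : ∀ i ∈ l, IsIdempotentElem (u i))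
    (hcov : ∀ p : PrimeSpectrum B, ∃ i ∈ l, u i ∉ p.asIdeal) :
    ∃ (I : Type) (_ : Fintype I) (e : I → B) (ix : I → ι), CompleteOrthogonalIdempotents e ∧
      (∀ j, ix j ∈ l ∧ e j * u (ix j) = e j) := by
  obtain ⟨I, _, e, ix, he, hix, hsum⟩ := exists_orth_of_list u l hu
  refine ⟨I, inferInstance, e, ix, ⟨he, ?_⟩, hix⟩
  set π : B := (l.map (fun i => 1 - u i)).prod with hπ
  have hπidem : IsIdempotentElem π := by
    have : π = 1 - ∑ j, e j := by rw [hsum]; ring
    rw [this]
    exact (he.isIdempotentElem_sum (s := Finset.univ)).one_sub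
  have hnil : IsNilpotent π := by
    rw [nilpotent_iff_mem_prime]
    intro p hp
    obtain ⟨i, hil, hi⟩ := hcov ⟨p, hp⟩
    have h1 : 1 - u i ∈ p := by
      have h2 : u i * (1 - u i) ∈ p := by
        rw [mul_sub, mul_one, (hu i hil).eq, sub_self]
        exact p.zero_mem
      exact (hp.mem_or_mem h2).resolve_left hi
    have h3 : (1 - u i) ∣ π := List.dvd_prod (List.mem_map.mpr ⟨i, hil, rfl⟩)
    obtain ⟨c, hc⟩ := h3
    rw [hc]
    exact p.mul_mem_right _ h1
  rw [hsum, eq_zero_of_idem_nilp hπidem hnil, sub_zero]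

/-- in a w-local spectrum, a family of open neighbourhoods of the closed points is refined by a
complete family of orthogonal idempotents -/
theorem exists_coi_of_wLocal (hB : ProEtW.IsWLocal (PrimeSpectrum B))
    (W : PrimeSpectrum B → Set (PrimeSpectrum B))
    (hW : ∀ y, IsClosed ({y} : Set (PrimeSpectrum B)) → IsOpen (W y) ∧ y ∈ W y) :
    ∃ (I : Type) (_ : Fintype I) (e : I → B) (y : I → PrimeSpectrum B),
      CompleteOrthogonalIdempotents e ∧
      ∀ j, IsClosed ({y j} : Set (PrimeSpectrum B)) ∧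
        (PrimeSpectrum.basicOpen (e j) : Set (PrimeSpectrum B)) ⊆ W (y j) := by
  classical
  obtain ⟨s, V, hV, hcov⟩ := exists_finite_clopen_cover hB W hW
  have hu : ∀ y : PrimeSpectrum B, ∃ u : B, y ∈ s →
      (IsIdempotentElem u ∧ V y = (PrimeSpectrum.basicOpen u : Set (PrimeSpectrum B))) := by
    intro y
    by_cases hy : y ∈ s
    · obtain ⟨u, hu1, hu2⟩ := PrimeSpectrum.isClopen_iff.mp (hV y hy).2.1
      exact ⟨u, fun _ => ⟨hu1, hu2⟩⟩
    · exact ⟨0, fun h => absurd h hy⟩
  choose u hu using hu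
  obtain ⟨I, _, e, ix, he, hix⟩ := exists_coi_of_cover u s.toList
    (fun y hy => (hu y (Finset.mem_toList.mp hy)).1) (by
      intro p
      have : p ∈ ⋃ y ∈ s, V y := hcov ▸ Set.mem_univ p
      obtain ⟨y, hys, hpy⟩ := Set.mem_iUnion₂.mp this
      refine ⟨y, Finset.mem_toList.mpr hys, ?_⟩
      rw [(hu y hys).2] at hpy
      exact hpy)
  refine ⟨I, inferInstance, e, ix, he, fun j => ?_⟩
  have hjs : ix j ∈ s := Finset.mem_toList.mp (hix j).1
  refine ⟨(hV _ hjs).1, ?_⟩
  intro p hp
  apply (hV _ hjs).2.2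
  rw [(hu _ hjs).2]
  show u (ix j) ∉ p.asIdeal
  intro h
  apply hp
  show e j ∈ p.asIdeal
  rw [← (hix j).2]
  exact p.asIdeal.mul_mem_left _ h

end Ring

end Groth.Agent.Helper2.WLocRefine
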