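import Mathlib
import Groth.Prelude
import Groth.Agent.Helper2.IndZarCritB
import Groth.Agent.Helper2.IndZarLoc
import Groth.Agent.Helper2.WLocRefine

set_option autoImplicit false
universe u
open TensorProduct

namespace Groth.Agent.Helper2.IndZarWLoc

open Groth.Agent.Helper2.IndZarCrit Groth.Agent.Helper2.IndZarLoc Groth.Agent.Helper2.IndEtCrit

/-- local factorization at a prime where local rings are identified -/
theorem local_factor {A B : Type u} [CommRing A] [CommRing B] [Algebra A B]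
    (q : PrimeSpectrum B)
    (hq : Function.Bijective (Localization.localRingHom (q.asIdeal.comap (algebraMap A B))
      q.asIdeal (algebraMap A B) rfl))
    (P : Type u) [CommRing P] [Algebra A P] [Algebra.FinitePresentation A P] (φ : P →ₐ[A] B) :
    ∃ (f : A) (b : B) (ψ : P →ₐ[A] Localization.Away f),
      f ∉ q.asIdeal.comap (algebraMap A B) ∧ b ∉ q.asIdeal ∧
      ∀ (C' : Type u) [CommRing C'] [Algebra A C'] [Algebra B C'] [IsScalarTower A B C']
        (hf : IsUnit (algebraMap A C' f)), IsUnit (algebraMap B C' b) →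
        ∀ p, algebraMap B C' (φ p) =
          IsLocalization.Away.liftAlgHom (x := f) (f := Algebra.ofId A C') hf (ψ p) := by
  classical
  set 𝔭 : Ideal A := q.asIdeal.comap (algebraMap A B) with h𝔭
  let Ap := Localization.AtPrime 𝔭
  let Bq := Localization.AtPrime q.asIdeal
  let σ : Ap →+* Bq := Localization.localRingHom 𝔭 q.asIdeal (algebraMap A B) rfl
  let σa : Ap →ₐ[A] Bq :=
    { σ with
      commutes' := fun a => by
        show σ (algebraMap A Ap a) = algebraMap A Bq a
        rw [Localization.localRingHom_to_map, IsScalarTower.algebraMap_apply A B Bq] }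
  let σe : Ap ≃ₐ[A] Bq := AlgEquiv.ofBijective σa hq
  let ψ₀ : P →ₐ[A] Ap := σe.symm.toAlgHom.comp ((IsScalarTower.toAlgHom A B Bq).comp φ)
  obtain ⟨s, ψ, hψ⟩ := loc_factor (A := A) (B := A) (S := 𝔭.primeCompl) Ap P ψ₀
  have hsq : algebraMap A B (s : A) ∈ q.asIdeal.primeCompl := s.2
  let sB : q.asIdeal.primeCompl := ⟨algebraMap A B (s : A), hsq⟩
  let Bf := Localization.Away (sB : B)
  have hfu : IsUnit (algebraMap A Bf (s : A)) := by
    rw [IsScalarTower.algebraMap_apply A B Bf]
    exact IsLocalization.Away.algebraMap_isUnit _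
  let lf : Localization.Away (s : A) →ₐ[A] Bf :=
    IsLocalization.Away.liftAlgHom (x := (s : A)) (f := Algebra.ofId A Bf) hfu
  let α₁ : P →ₐ[A] Bf := (IsScalarTower.toAlgHom A B Bf).comp φ
  let α₂ : P →ₐ[A] Bf := lf.comp ψ
  have hα : (st A q.asIdeal.primeCompl Bq ⟨sB⟩).comp α₁ =
      (st A q.asIdeal.primeCompl Bq ⟨sB⟩).comp α₂ := by
    ext p
    show st A q.asIdeal.primeCompl Bq ⟨sB⟩ (algebraMap B Bf (φ p)) =
      st A q.asIdeal.primeCompl Bq ⟨sB⟩ (lf (ψ p))
    rw [st_algebraMap]
    have h1 : ((st A q.asIdeal.primeCompl Bq ⟨sB⟩).comp lf) =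
        σa.comp (st A 𝔭.primeCompl Ap ⟨s⟩) :=
      Subsingleton.elim (h := IsLocalization.algHom_subsingleton (Submonoid.powers (s : A))) _ _
    have h2 : st A q.asIdeal.primeCompl Bq ⟨sB⟩ (lf (ψ p)) =
        σa (st A 𝔭.primeCompl Ap ⟨s⟩ (ψ p)) := congr($h1 (ψ p))
    rw [h2]
    have h3 : st A 𝔭.primeCompl Ap ⟨s⟩ (ψ p) = ψ₀ p := congr($hψ p)
    rw [h3]
    show algebraMap B Bq (φ p) = σe (σe.symm (algebraMap B Bq (φ p)))
    rw [σe.apply_symm_apply]
  obtain ⟨s', τ, hτ, hτeq⟩ := loc_eq (A := A) (B := B) (S := q.asIdeal.primeCompl) Bq P sB α₁ α₂ hα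
  refine ⟨s, s', ψ, s.2, s'.2, ?_⟩
  intro C' _ _ _ _ hf hb p
  let κ : Localization.Away (s' : B) →ₐ[A] C' :=
    IsLocalization.Away.liftAlgHom (x := (s' : B)) (f := IsScalarTower.toAlgHom A B C') hb
  have hκ : ∀ x : B, κ (algebraMap B _ x) = algebraMap B C' x := by
    intro x
    simp [κ]
  have h1 : algebraMap B C' (φ p) = κ (τ (α₁ p)) := by
    show _ = κ (τ (algebraMap B Bf (φ p)))
    rw [hτ, hκ]
  have h2 : τ (α₁ p) = τ (α₂ p) := congr($hτeq p)
  rw [h1, h2]
  have h3 : (κ.comp τ).comp lf =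
      IsLocalization.Away.liftAlgHom (x := (s : A)) (f := Algebra.ofId A C') hf :=
    Subsingleton.elim (h := IsLocalization.algHom_subsingleton (Submonoid.powers (s : A))) _ _
  exact congr($h3 (ψ p))


/-- S0700: a map of w-local rings identifying local rings, w-local on spectra, is ind-Zariski.
(Only w-locality of `Spec B` is used.) -/
theorem s0700 (A B : Type u) [CommRing A] [CommRing B] [Algebra A B]
    (h1 : EtPBC.IdentifiesLocalRings A B) (h3 : ProEtW.IsWLocal (PrimeSpectrum B)) :
    EtPBC.IsIndZariski A B := by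
  classical
  apply isIndZariski_of_facZ
  intro P _ _ _ φ
  have hloc := fun q : PrimeSpectrum B => local_factor q (h1 q) P φ
  choose f b ψ hf hb hfac using hloc
  let W : PrimeSpectrum B → Set (PrimeSpectrum B) := fun q =>
    (PrimeSpectrum.basicOpen (algebraMap A B (f q) * b q) : Set (PrimeSpectrum B))
  obtain ⟨I, _, e, y, he, hy⟩ := WLocRefine.exists_coi_of_wLocal h3 W (fun q _ =>
    ⟨(PrimeSpectrum.basicOpen _).2, by
      show algebraMap A B (f q) * b q ∉ q.asIdeal
      intro h
      rcases q.2.mem_or_mem h with h | h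
      · exact hf q h
      · exact hb q h⟩)
  -- the local isomorphism
  haveI : Algebra.IsLocalIso A (∀ j : I, Localization.Away (f (y j))) :=
    Algebra.IsLocalIso.pi_of_finite A (fun j : I => Localization.Away (f (y j)))
  let h : P →ₐ[A] (∀ j : I, Localization.Away (f (y j))) := AlgHom.pi (fun j => ψ (y j))
  -- decomposition of `B`
  let π : B →ₐ[A] (∀ j : I, B ⧸ Ideal.span {1 - e j}) :=
    AlgHom.pi (fun j => Ideal.Quotient.mkₐ A (Ideal.span {1 - e j}))
  have hπ : Function.Bijective π := he.bijective_pi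
  let πe : B ≃ₐ[A] (∀ j : I, B ⧸ Ideal.span {1 - e j}) := AlgEquiv.ofBijective π hπ
  have hunit : ∀ j : I, IsUnit (algebraMap B (B ⧸ Ideal.span {1 - e j})
      (algebraMap A B (f (y j)) * b (y j))) := by
    intro j
    haveI : IsLocalization.Away (e j) (B ⧸ Ideal.span {1 - e j}) :=
      IsLocalization.Away.quotient_of_isIdempotentElem (he.idem j)
    rw [← PrimeSpectrum.basicOpen_le_basicOpen_iff_algebraMap_isUnit (f := e j)]
    exact (hy j).2
  have hunitf : ∀ j : I, IsUnit (algebraMap A (B ⧸ Ideal.span {1 - e j}) (f (y j))) := by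
    intro j
    have := hunit j
    rw [map_mul] at this
    rw [IsScalarTower.algebraMap_apply A B (B ⧸ Ideal.span {1 - e j})]
    exact isUnit_of_mul_isUnit_left this
  have hunitb : ∀ j : I, IsUnit (algebraMap B (B ⧸ Ideal.span {1 - e j}) (b (y j))) := by
    intro j
    have := hunit j
    rw [map_mul] at this
    exact isUnit_of_mul_isUnit_right this
  let lj : ∀ j : I, Localization.Away (f (y j)) →ₐ[A] (B ⧸ Ideal.span {1 - e j}) := fun j =>
    IsLocalization.Away.liftAlgHom (x := f (y j))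
      (f := Algebra.ofId A (B ⧸ Ideal.span {1 - e j})) (hunitf j)
  let g₀ : (∀ j : I, Localization.Away (f (y j))) →ₐ[A] (∀ j : I, B ⧸ Ideal.span {1 - e j}) :=
    AlgHom.pi (fun j => (lj j).comp (Pi.evalAlgHom A _ j))
  refine ⟨∀ j : I, Localization.Away (f (y j)), inferInstance, inferInstance, inferInstance, h,
    πe.symm.toAlgHom.comp g₀, ?_⟩
  ext p
  apply πe.injective
  show πe (πe.symm (g₀ (h p))) = πe (φ p)
  rw [πe.apply_symm_apply]
  funext j
  show lj j (ψ (y j) p) = algebraMap B (B ⧸ Ideal.span {1 - e j}) (φ p)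
  exact (hfac (y j) (B ⧸ Ideal.span {1 - e j}) (hunitf j) (hunitb j) p).symm

end Groth.Agent.Helper2.IndZarWLoc
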