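import Mathlib
import Groth.Prelude
import Groth.Agent.Helper2.ILRCrit
import Groth.Agent.Helper2.WLocZ
import Groth.Agent.Helper2.IndZarWLoc
import Groth.Agent.Helper2.IndZarPB
import Groth.Agent.Helper2.WCtrA

set_option autoImplicit false
universe u
open CategoryTheory CategoryTheory.Limits

namespace Groth.Agent.Helper2.ILRApp

open Groth.Agent.Helper2

/-- S0183 -/
theorem s0183 (A B : Type u) [CommRing A] [CommRing B] [Algebra A B]
    (h : EtPBC.IdentifiesLocalRings A B) :
    ∃ (B' : Type u) (_ : CommRing B') (_ : Algebra B B') (_ : Algebra A B') (_ : IsScalarTower A B B'),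
      Module.FaithfullyFlat B B' ∧ EtPBC.IsIndZariski B B' ∧ EtPBC.IsIndZariski A B' := by
  letI : Algebra A (WLocZ.Aw B) := ((algebraMap B (WLocZ.Aw B)).comp (algebraMap A B)).toAlgebra
  haveI : IsScalarTower A B (WLocZ.Aw B) := IsScalarTower.of_algebraMap_eq (fun _ => rfl)
  have hz : EtPBC.IsIndZariski B (WLocZ.Aw B) := HullZ.isIndZariski_hull B (TAbs.T B)
  refine ⟨WLocZ.Aw B, inferInstance, inferInstance, inferInstance, inferInstance,
    WLocZ.faithfullyFlat B, hz, ?_⟩
  exact IndZarWLoc.s0700 A (WLocZ.Aw B) (ILRCrit.comp h (ILRCrit.of_isIndZariski hz))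
    (WLocZ.isWLocal B)

/-- a discrete copy of a type -/
def Disc (α : Type u) : Type u := α

instance (α : Type u) : TopologicalSpace (Disc α) := ⊥
instance (α : Type u) : DiscreteTopology (Disc α) := ⟨rfl⟩

open Groth.Agent.Helper6.SpecTop in
/-- over a w-local ring there is a faithfully flat ind-Zariski w-local algebra with extremally
disconnected space of components -/
theorem exists_extrDisc (R : Type u) [CommRing R] (hW : ProEtW.IsWLocal (PrimeSpectrum R)) :
    ∃ (B : Type u) (_ : CommRing B) (_ : Algebra R B),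
      EtPBC.IsIndZariski R B ∧ ProEtW.IsWLocal (PrimeSpectrum B) ∧
        ExtremallyDisconnected (_root_.ConnectedComponents (PrimeSpectrum B)) ∧
        Function.Surjective (PrimeSpectrum.comap (algebraMap R B)) := by
  haveI : SpectralSpace (PrimeSpectrum R) := hW.1
  haveI : T2Space (_root_.ConnectedComponents (PrimeSpectrum R)) :=
    t2_connectedComponents
  let T : Type u := StoneCech (Disc (_root_.ConnectedComponents (PrimeSpectrum R)))
  haveI hTed : ExtremallyDisconnected T := StoneCech.projective.extremallyDisconnected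
  let g₀ : Disc (_root_.ConnectedComponents (PrimeSpectrum R)) →
    _root_.ConnectedComponents (PrimeSpectrum R) := fun c => c
  have hg₀ : Continuous g₀ := continuous_of_discreteTopology
  let g : C(T, _root_.ConnectedComponents (PrimeSpectrum R)) :=
    ⟨stoneCechExtend hg₀, continuous_stoneCechExtend hg₀⟩
  have hgsurj : Function.Surjective g := by
    intro c
    refine ⟨stoneCechUnit (c : Disc _), ?_⟩
    exact congrFun (stoneCechExtend_extends hg₀) c
  have hz2 : EtPBC.IsIndZariski R (IndZarPB.B R T g) := IndZarPB.isIndZariski R T g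
  let h : PB g ≃ₜ PrimeSpectrum (IndZarPB.B R T g) := IndZarPB.homeo (A := R) (T := T) (g := g)
  have hWB : ProEtW.IsWLocal (PrimeSpectrum (IndZarPB.B R T g)) :=
    WCtr.isWLocal_of_isClosedEmbedding (wLocal_pb g hW).1 h.symm h.symm.isClosedEmbedding
  refine ⟨IndZarPB.B R T g, inferInstance, inferInstance, hz2, hWB, ?_, ?_⟩
  · obtain ⟨e₀, -⟩ := exists_homeo g
    exact extremallyDisconnected_of_homeo ((IndZarPB.ccHomeo h.symm).trans e₀).symm
  · intro p
    obtain ⟨t, ht⟩ := hgsurj (_root_.ConnectedComponents.mk p)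
    refine ⟨IndZarPB.Ψ (⟨(p, t), ht.symm⟩ : PB g), ?_⟩
    exact IndZarPB.comap_Ψ _

/-- S0696 -/
theorem s0696 (A : Type u) [CommRing A] :
    ∃ (B : Type u) (_ : CommRing B) (_ : Algebra A B),
      Module.FaithfullyFlat A B ∧ EtPBC.IsIndZariski A B ∧ ProEtW.IsWLocal (PrimeSpectrum B) ∧
        ExtremallyDisconnected (_root_.ConnectedComponents (PrimeSpectrum B)) := by
  obtain ⟨B', _, _, hz2, hWB, hED, hsurj⟩ := exists_extrDisc (WLocZ.Aw A) (WLocZ.isWLocal A)
  letI : Algebra A B' := ((algebraMap (WLocZ.Aw A) B').comp (algebraMap A (WLocZ.Aw A))).toAlgebra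
  haveI : IsScalarTower A (WLocZ.Aw A) B' := IsScalarTower.of_algebraMap_eq (fun _ => rfl)
  have hz1 : EtPBC.IsIndZariski A (WLocZ.Aw A) := HullZ.isIndZariski_hull A (TAbs.T A)
  have hzAB : EtPBC.IsIndZariski A B' :=
    IndZarWLoc.s0700 A B' (ILRCrit.comp (ILRCrit.of_isIndZariski hz1) (ILRCrit.of_isIndZariski hz2))
      hWB
  refine ⟨B', inferInstance, inferInstance, ?_, hzAB, hWB, hED⟩
  haveI : Module.FaithfullyFlat A (WLocZ.Aw A) := WLocZ.faithfullyFlat A
  haveI : Module.Flat (WLocZ.Aw A) B' := WLocZ.flat_of_isIndZariski hz2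
  haveI : Module.FaithfullyFlat (WLocZ.Aw A) B' :=
    Module.FaithfullyFlat.of_comap_surjective hsurj
  exact Module.FaithfullyFlat.trans A (WLocZ.Aw A) B'

end Groth.Agent.Helper2.ILRApp
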