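import Mathlib
import Groth.Prelude

set_option autoImplicit false
universe u

namespace Groth.Agent.Helper2.IdemLoc

section abstract

variable {A : Type*} [CommRing A] (f : A) {B : Type*} [CommRing B] [Algebra A B]
  (Af : Type*) [CommRing Af] [Algebra A Af] [IsLocalization.Away f Af]
  (Bf : Type*) [CommRing Bf] [Algebra B Bf]
  [IsLocalization (Algebra.algebraMapSubmonoid B (Submonoid.powers f)) Bf]
  [Algebra Af Bf] [Algebra A Bf] [IsScalarTower A Af Bf] [IsScalarTower A B Bf]

/-- bijectivity of `A_f → B_f` from `f`-power torsion kernel and cokernel of `A → B`. -/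
theorem bijective_of
    (K1 : ∀ a : A, algebraMap A B a = 0 → ∃ n : ℕ, f ^ n * a = 0)
    (K2 : ∀ b : B, ∃ (n : ℕ) (a : A), algebraMap A B a = algebraMap A B (f ^ n) * b) :
    Function.Bijective (algebraMap Af Bf) := by
  constructor
  · rw [injective_iff_map_eq_zero]
    intro x hx
    obtain ⟨a, s, rfl⟩ := IsLocalization.exists_mk'_eq (Submonoid.powers f) x
    rw [IsLocalization.algebraMap_mk' (S := B) (Rₘ := Af) (Sₘ := Bf),
      IsLocalization.mk'_eq_zero_iff] at hx
    obtain ⟨m, hm⟩ := hx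
    obtain ⟨m', ⟨t, rfl⟩, hm'⟩ := m.2
    rw [← hm', ← map_mul] at hm
    obtain ⟨n, hn⟩ := K1 _ hm
    rw [IsLocalization.mk'_eq_zero_iff]
    refine ⟨⟨f ^ (n + t), ⟨n + t, rfl⟩⟩, ?_⟩
    change f ^ (n + t) * a = 0
    rw [pow_add, mul_assoc]
    exact hn
  · intro y
    obtain ⟨b, s, rfl⟩ := IsLocalization.exists_mk'_eq
      (Algebra.algebraMapSubmonoid B (Submonoid.powers f)) y
    obtain ⟨s', ⟨m, rfl⟩, hs'⟩ := s.2
    obtain ⟨n, a, ha⟩ := K2 b
    have hmem : f ^ n * f ^ m ∈ Submonoid.powers f := ⟨n + m, pow_add f n m⟩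
    refine ⟨IsLocalization.mk' Af a ⟨f ^ n * f ^ m, hmem⟩, ?_⟩
    rw [IsLocalization.algebraMap_mk' (S := B) (Rₘ := Af) (Sₘ := Bf),
      IsLocalization.mk'_eq_iff_eq]
    congr 1
    change (s : B) * algebraMap A B a = algebraMap A B (f ^ n * f ^ m) * b
    rw [ha, ← hs', map_mul]
    ring

/-- an idempotent unit is one -/
theorem idem_unit {R : Type*} [CommRing R] {e : R} (he : IsIdempotentElem e) (hu : IsUnit e) :
    e = 1 := by
  obtain ⟨u, rfl⟩ := hu
  have : (u : R) * u = u := he
  calc (u : R) = (↑u⁻¹ * u) * u := by simp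
    _ = ↑u⁻¹ * (u * u) := by ring
    _ = 1 := by rw [this]; simp

variable {f Af}

/-- elementary consequences of `A_f → B_f` being the localization at an idempotent `e`. -/
theorem hyp_of {e : Af} (he : IsIdempotentElem e) [IsLocalization.Away e Bf] :
    (∀ c : B, ∃ (n : ℕ) (a : A), algebraMap A B (f ^ n) * c = algebraMap A B a) ∧
    (∀ a : A, (∃ n : ℕ, algebraMap A B (f ^ n * a) = 0) ↔ e * algebraMap A Af a = 0) := by
  have he1 : algebraMap Af Bf e = 1 := by
    apply idem_unit
    · change algebraMap Af Bf e * algebraMap Af Bf e = algebraMap Af Bf e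
      rw [← map_mul, he.eq]
    · exact IsLocalization.Away.algebraMap_isUnit e
  have hsurj : Function.Surjective (algebraMap Af Bf) := by
    intro z
    obtain ⟨n, x, hx⟩ := IsLocalization.Away.surj e z
    rw [he1, one_pow, mul_one] at hx
    exact ⟨x, hx.symm⟩
  have hker : ∀ x : Af, algebraMap Af Bf x = 0 ↔ e * x = 0 := by
    intro x
    constructor
    · intro hx
      rw [IsLocalization.map_eq_zero_iff (Submonoid.powers e)] at hx
      obtain ⟨m, hm⟩ := hx
      obtain ⟨k, hk⟩ := m.2
      have hk' : e ^ k = (m : Af) := hk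
      have : e * (e ^ k * x) = 0 := by rw [hk', hm, mul_zero]
      rw [← mul_assoc, ← pow_succ', he.pow_succ_eq] at this
      exact this
    · intro hx
      have := congrArg (algebraMap Af Bf) hx
      rw [map_mul, he1, one_mul, map_zero] at this
      exact this
  have hcomm : ∀ a : A, algebraMap Af Bf (algebraMap A Af a) = algebraMap B Bf (algebraMap A B a) := by
    intro a
    rw [← IsScalarTower.algebraMap_apply, ← IsScalarTower.algebraMap_apply]
  have hunit : ∀ n : ℕ, IsUnit (algebraMap B Bf (algebraMap A B (f ^ n))) := by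
    intro n
    exact IsLocalization.map_units Bf
      (⟨algebraMap A B (f ^ n), ⟨f ^ n, ⟨n, rfl⟩, rfl⟩⟩ :
        Algebra.algebraMapSubmonoid B (Submonoid.powers f))
  have hzero : ∀ b : B, algebraMap B Bf b = 0 ↔ ∃ n : ℕ, algebraMap A B (f ^ n) * b = 0 := by
    intro b
    rw [IsLocalization.map_eq_zero_iff (Algebra.algebraMapSubmonoid B (Submonoid.powers f))]
    constructor
    · rintro ⟨m, hm⟩
      obtain ⟨m', ⟨t, rfl⟩, hm'⟩ := m.2
      exact ⟨t, by rw [hm']; exact hm⟩
    · rintro ⟨n, hn⟩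
      exact ⟨⟨algebraMap A B (f ^ n), ⟨f ^ n, ⟨n, rfl⟩, rfl⟩⟩, hn⟩
  constructor
  · intro c
    obtain ⟨x, hx⟩ := hsurj (algebraMap B Bf c)
    obtain ⟨a, s, rfl⟩ := IsLocalization.exists_mk'_eq (Submonoid.powers f) x
    obtain ⟨m, hm⟩ := s.2
    rw [IsLocalization.algebraMap_mk' (S := B) (Rₘ := Af) (Sₘ := Bf),
      IsLocalization.mk'_eq_iff_eq_mul, ← map_mul] at hx
    have h0 : algebraMap B Bf (algebraMap A B a - c * algebraMap A B s) = 0 := by
      rw [map_sub, hx]
      exact sub_self _
    rw [hzero] at h0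
    obtain ⟨n, hn⟩ := h0
    refine ⟨n + m, f ^ n * a, ?_⟩
    rw [mul_sub, sub_eq_zero] at hn
    rw [map_mul, hn, pow_add, map_mul, ← hm]
    ring
  · intro a
    rw [← hker, hcomm, hzero]
    constructor
    · rintro ⟨n, hn⟩
      exact ⟨n, by rw [← map_mul]; exact hn⟩
    · rintro ⟨n, hn⟩
      exact ⟨n, by rw [map_mul]; exact hn⟩

end abstract

section core

variable {A C : Type u} [CommRing A] [CommRing C] [Algebra A C]
  {ι : Type*} [Fintype ι] (fs : ι → A) (e : ∀ i, Localization.Away (fs i))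

/-- the ideal `K` of elements whose image in each `A_{f_i}` lies in `(e_i)`. -/
def K : Ideal A := ⨅ i, Ideal.comap (algebraMap A (Localization.Away (fs i))) (Ideal.span {e i})

variable {fs e}

theorem mem_K (he : ∀ i, IsIdempotentElem (e i)) (a : A) :
    a ∈ K fs e ↔ ∀ i, (1 - e i) * algebraMap A (Localization.Away (fs i)) a = 0 := by
  unfold K
  rw [Ideal.mem_iInf]
  refine forall_congr' fun i => ?_
  rw [Ideal.mem_comap, Ideal.mem_span_singleton']
  constructor
  · rintro ⟨x, hx⟩
    rw [← hx]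
    have := (he i).eq
    linear_combination (-x) * this
  · intro h
    refine ⟨algebraMap A _ a, ?_⟩
    linear_combination (-1 : Localization.Away (fs i)) * h

variable (he : ∀ i, IsIdempotentElem (e i))
  (H1 : ∀ i (c : C), ∃ (n : ℕ) (a : A), algebraMap A C (fs i ^ n) * c = algebraMap A C a)
  (H2 : ∀ i (a : A), (∃ n : ℕ, algebraMap A C (fs i ^ n * a) = 0) ↔
    e i * algebraMap A (Localization.Away (fs i)) a = 0)

include he H2 in
theorem K1_gen (i : ι) (a : A) (h0 : algebraMap A C a = 0) (hK : a ∈ K fs e) :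
    ∃ n : ℕ, fs i ^ n * a = 0 := by
  have h1 : e i * algebraMap A (Localization.Away (fs i)) a = 0 :=
    (H2 i a).mp ⟨0, by rw [pow_zero, one_mul]; exact h0⟩
  have h2 := (mem_K he a).mp hK i
  have h3 : algebraMap A (Localization.Away (fs i)) a = 0 := by
    linear_combination h1 + h2
  rw [IsLocalization.map_eq_zero_iff (Submonoid.powers (fs i))] at h3
  obtain ⟨m, hm⟩ := h3
  obtain ⟨n, hn⟩ := m.2
  exact ⟨n, by rw [show fs i ^ n = (m : A) from hn]; exact hm⟩

include he H2 in
theorem cross (i j : ι) (d : A)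
    (hd : (1 - e i) * algebraMap A (Localization.Away (fs i)) d = 0) :
    ∃ s : ℕ, (1 - e j) * algebraMap A (Localization.Away (fs j)) (fs i ^ s * d) = 0 := by
  obtain ⟨u, sj, hu⟩ := IsLocalization.exists_mk'_eq (Submonoid.powers (fs j)) (e j)
  obtain ⟨k, hk⟩ := sj.2
  have hspec : e j * algebraMap A (Localization.Away (fs j)) (fs j ^ k) =
      algebraMap A (Localization.Away (fs j)) u := by
    rw [← hu, show fs j ^ k = (sj : A) from hk]
    exact IsLocalization.mk'_spec _ u sj
  -- w0 = f_j^k - u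
  have hw0 : e j * algebraMap A (Localization.Away (fs j)) (fs j ^ k - u) = 0 := by
    rw [map_sub, mul_sub, ← hspec]
    have := (he j).eq
    linear_combination (-(algebraMap A (Localization.Away (fs j)) (fs j ^ k))) * this
  obtain ⟨n, hn⟩ := (H2 j _).mpr hw0
  -- w = f_j^n * w0
  have hw : e i * algebraMap A (Localization.Away (fs i)) (fs j ^ n * (fs j ^ k - u)) = 0 :=
    (H2 i _).mp ⟨0, by rw [pow_zero, one_mul]; exact hn⟩
  have hwd : algebraMap A (Localization.Away (fs i)) ((fs j ^ n * (fs j ^ k - u)) * d) = 0 := by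
    rw [map_mul]
    linear_combination (algebraMap A (Localization.Away (fs i)) d) * hw +
      (algebraMap A (Localization.Away (fs i)) (fs j ^ n * (fs j ^ k - u))) * hd
  rw [IsLocalization.map_eq_zero_iff (Submonoid.powers (fs i))] at hwd
  obtain ⟨m, hm⟩ := hwd
  obtain ⟨s, hs⟩ := m.2
  refine ⟨s, ?_⟩
  have hm' : fs i ^ s * ((fs j ^ n * (fs j ^ k - u)) * d) = 0 := by
    rw [show fs i ^ s = (m : A) from hs]; exact hm
  have h1 := congrArg (algebraMap A (Localization.Away (fs j))) hm'
  rw [map_zero] at h1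
  have hunit : IsUnit (algebraMap A (Localization.Away (fs j)) (fs j ^ (n + k))) :=
    IsLocalization.map_units _ (⟨fs j ^ (n + k), ⟨n + k, rfl⟩⟩ : Submonoid.powers (fs j))
  apply hunit.mul_left_cancel
  rw [mul_zero]
  have h2 : algebraMap A (Localization.Away (fs j)) (fs j ^ k - u) =
      algebraMap A (Localization.Away (fs j)) (fs j ^ k) * (1 - e j) := by
    rw [map_sub, ← hspec]; ring
  have h3 : fs i ^ s * ((fs j ^ n * (fs j ^ k - u)) * d) =
      fs j ^ n * ((fs j ^ k - u) * (fs i ^ s * d)) := by ring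
  rw [h3, map_mul, map_mul, h2] at h1
  rw [pow_add, map_mul]
  linear_combination h1

include he H1 H2 in
theorem K2_gen (i : ι) (c : C) (b : A) :
    ∃ (N : ℕ) (a : A), algebraMap A C a = algebraMap A C (fs i ^ N) * c ∧
      a - fs i ^ N * b ∈ K fs e := by
  classical
  obtain ⟨n, a0, ha0⟩ := H1 i c
  set Af := Localization.Away (fs i) with hAf
  set α : Af := e i * algebraMap A Af a0 + (1 - e i) * algebraMap A Af (fs i ^ n * b) with hα
  obtain ⟨⟨a1, sm⟩, ha1⟩ := IsLocalization.surj (Submonoid.powers (fs i)) α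
  obtain ⟨m, hm⟩ := sm.2
  have ha1' : α * algebraMap A Af (fs i ^ m) = algebraMap A Af a1 := by
    rw [show fs i ^ m = (sm : A) from hm]; exact ha1
  have hee := (he i).eq
  -- step 3
  have h3 : e i * algebraMap A Af (a1 - fs i ^ m * a0) = 0 := by
    rw [map_sub, map_mul, ← ha1', hα]
    linear_combination (algebraMap A Af (fs i ^ m) * algebraMap A Af a0 -
      algebraMap A Af (fs i ^ m) * algebraMap A Af (fs i ^ n * b)) * hee
  obtain ⟨t, ht⟩ := (H2 i _).mpr h3
  -- step 4
  have h4 : (1 - e i) * algebraMap A Af (a1 - fs i ^ (m + n) * b) = 0 := by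
    rw [map_sub, ← ha1', hα, pow_add, mul_assoc, map_mul (algebraMap A Af) (fs i ^ m)]
    linear_combination (algebraMap A Af (fs i ^ m) * algebraMap A Af (fs i ^ n * b) -
      algebraMap A Af (fs i ^ m) * algebraMap A Af a0) * hee
  -- step 5
  choose sj hsj using fun j => cross he H2 i j (a1 - fs i ^ (m + n) * b) h4
  set s := ∑ j, sj j with hs
  refine ⟨t + s + m + n, fs i ^ (t + s) * a1, ?_, ?_⟩
  · have ht' : algebraMap A C (fs i ^ t * a1) = algebraMap A C (fs i ^ (t + m)) * algebraMap A C a0 := by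
      rw [mul_sub, map_sub, sub_eq_zero] at ht
      rw [ht, ← map_mul, pow_add, mul_assoc]
    rw [pow_add, mul_assoc, mul_comm (fs i ^ t), mul_assoc, map_mul, mul_comm a1, ht', ← ha0]
    simp only [map_mul, map_pow, pow_add]
    ring
  · rw [mem_K he]
    intro j
    have hsplit : fs i ^ (t + s) * a1 - fs i ^ (t + s + m + n) * b =
        fs i ^ (t + (s - sj j)) * (fs i ^ sj j * (a1 - fs i ^ (m + n) * b)) := by
      have hle : sj j ≤ s := Finset.single_le_sum (f := sj) (fun _ _ => Nat.zero_le _)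
        (Finset.mem_univ j)
      have : t + s = t + (s - sj j) + sj j := by omega
      rw [show t + s + m + n = (t + s) + (m + n) by ring, this]
      ring
    rw [hsplit, map_mul, mul_left_comm, hsj j, mul_zero]

end core

section final

theorem pow_mem_of_span {A : Type*} [CommRing A] {ι : Type*} (fs : ι → A) (J : Ideal A)
    (h : ∀ i, ∃ n : ℕ, fs i ^ n ∈ J) {f : A} (hf : f ∈ Ideal.span (Set.range fs)) :
    ∃ n : ℕ, f ^ n ∈ J := by
  have : Ideal.span (Set.range fs) ≤ J.radical := by
    rw [Ideal.span_le]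
    rintro _ ⟨i, rfl⟩
    exact h i
  exact this hf

theorem main (A : Type u) [CommRing A]
    (I : Ideal A) (hI : I.FG) (C : Type u) [CommRing C] [Algebra A C]
    (h : ∀ f ∈ I, ∃ e : Localization.Away f, IsIdempotentElem e ∧
      IsLocalization.Away e (Localization (Algebra.algebraMapSubmonoid C (Submonoid.powers f)))) :
    ∃ K : Ideal A, ∀ f ∈ I, Function.Bijective
      (algebraMap (Localization.Away f)
        (Localization (Algebra.algebraMapSubmonoid (C × (A ⧸ K)) (Submonoid.powers f)))) := by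
  classical
  obtain ⟨s, hs⟩ := hI
  have hmem : ∀ i : s, (i : A) ∈ I := fun i => hs ▸ Ideal.subset_span i.2
  choose e he hloc using fun i : s => h i.1 (hmem i)
  have hH : ∀ i : s, (∀ c : C, ∃ (n : ℕ) (a : A), algebraMap A C ((i : A) ^ n) * c = algebraMap A C a) ∧
      (∀ a : A, (∃ n : ℕ, algebraMap A C ((i : A) ^ n * a) = 0) ↔
        e i * algebraMap A (Localization.Away (i : A)) a = 0) := by
    intro i
    haveI := hloc i
    exact hyp_of (f := (i : A)) (B := C) (Af := Localization.Away (i : A))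
      (Localization (Algebra.algebraMapSubmonoid C (Submonoid.powers (i : A)))) (he i)
  have H1 := fun i => (hH i).1
  have H2 := fun i => (hH i).2
  refine ⟨K (fun i : s => (i : A)) e, ?_⟩
  intro f hf
  have hf' : f ∈ Ideal.span (Set.range (fun i : s => (i : A))) := by
    rw [Subtype.range_coe_subtype]
    exact hs.symm ▸ hf
  apply bijective_of f (B := C × (A ⧸ K (fun i : s => (i : A)) e)) (Localization.Away f)
  · intro a ha
    have ha1 : algebraMap A C a = 0 := by
      have := congrArg Prod.fst ha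
      simpa using this
    have ha2 : a ∈ K (fun i : s => (i : A)) e := by
      have := congrArg Prod.snd ha
      rw [Prod.algebraMap_apply] at this
      exact Ideal.Quotient.eq_zero_iff_mem.mp this
    let J : Ideal A := LinearMap.ker (LinearMap.toSpanSingleton A A a)
    have hJ : ∀ x : A, x ∈ J ↔ x * a = 0 := by
      intro x
      simp [J, LinearMap.mem_ker, LinearMap.toSpanSingleton_apply]
    obtain ⟨n, hn⟩ := pow_mem_of_span (fun i : s => (i : A)) J
      (fun i => by
        obtain ⟨n, hn⟩ := K1_gen he H2 i a ha1 ha2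
        exact ⟨n, (hJ _).mpr hn⟩) hf'
    exact ⟨n, (hJ _).mp hn⟩
  · rintro ⟨c, q⟩
    obtain ⟨b0, rfl⟩ := Ideal.Quotient.mk_surjective q
    let B := C × (A ⧸ K (fun i : s => (i : A)) e)
    let bb : B := (c, Ideal.Quotient.mk _ b0)
    let J : Ideal A := (LinearMap.range (Algebra.linearMap A B)).comap
      (LinearMap.toSpanSingleton A B bb)
    have hJ : ∀ x : A, x ∈ J ↔ ∃ a : A, algebraMap A B a = algebraMap A B x * bb := by
      intro x
      simp only [J, Submodule.mem_comap, LinearMap.mem_range, LinearMap.toSpanSingleton_apply,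
        Algebra.linearMap_apply, Algebra.smul_def]
    obtain ⟨n, hn⟩ := pow_mem_of_span (fun i : s => (i : A)) J
      (fun i => by
        obtain ⟨N, a, ha1, ha2⟩ := K2_gen he H1 H2 i c b0
        refine ⟨N, (hJ _).mpr ⟨a, ?_⟩⟩
        refine Prod.ext ?_ ?_
        · change algebraMap A C a = algebraMap A C ((i : A) ^ N) * c
          exact ha1
        · change Ideal.Quotient.mk _ a = Ideal.Quotient.mk _ ((i : A) ^ N) * Ideal.Quotient.mk _ b0
          rw [← map_mul, Ideal.Quotient.eq]
          exact ha2) hf'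
    obtain ⟨a, ha⟩ := (hJ _).mp hn
    exact ⟨n, a, ha⟩

end final

end Groth.Agent.Helper2.IdemLoc
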