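import Mathlib
import Groth.Prelude
import Groth.Agent.Helper2.IndEtFib
import Groth.Agent.Helper1.EssEtHensel
set_option autoImplicit false
universe u
open CategoryTheory CategoryTheory.Limits TensorProduct

namespace Groth.Agent.Helper2.IndEtDesc

open Groth.Agent.Helper2.IndEtFib

section Desc
variable {A B : Type u} [CommRing A] [CommRing B] [Algebra A B] (S : Sys A B)
variable {T : Type u} [CommRing T] [Algebra A T]

theorem hom_ext (Ψ Ψ' : B →ₐ[A] T) (h : ∀ j x, Ψ (S.φ j x) = Ψ' (S.φ j x)) : Ψ = Ψ' := by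
  ext b
  obtain ⟨j, y, rfl⟩ := S.hsurj b
  exact h j y

/-- well-definedness -/
theorem wd (ψ : ∀ j, S.R j →ₐ[A] T)
    (hψ : ∀ {i j : S.J} (f : i ⟶ j) (x : S.R i), ψ j (S.t f x) = ψ i x)
    {i j : S.J} (x : S.R i) (y : S.R j) (h : S.φ i x = S.φ j y) : ψ i x = ψ j y := by
  let k := IsFiltered.max i j
  let f : i ⟶ k := IsFiltered.leftToMax i j
  let g : j ⟶ k := IsFiltered.rightToMax i j
  have h1 : S.φ k (S.t f x) = S.φ k (S.t g y) := by rw [S.hφ, S.hφ, h]
  obtain ⟨k', l, hl⟩ := S.hinj k _ _ h1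
  rw [← hψ f x, ← hψ g y, ← hψ l, ← hψ l (S.t g y), hl]

theorem exists_desc (ψ : ∀ j, S.R j →ₐ[A] T)
    (hψ : ∀ {i j : S.J} (f : i ⟶ j) (x : S.R i), ψ j (S.t f x) = ψ i x) :
    ∃ Ψ : B →ₐ[A] T, ∀ j x, Ψ (S.φ j x) = ψ j x := by
  classical
  choose idx rep hrep using S.hsurj
  let F : B → T := fun b => ψ (idx b) (rep b)
  have hF : ∀ j x, F (S.φ j x) = ψ j x := fun j x =>
    wd S ψ hψ _ _ (hrep (S.φ j x))
  obtain ⟨j₀⟩ := IsFiltered.nonempty (C := S.J)
  have h1 : F 1 = 1 := by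
    have := hF j₀ 1
    rwa [map_one, map_one] at this
  have hmul : ∀ a b, F (a * b) = F a * F b := by
    intro a b
    obtain ⟨i, x, rfl⟩ := S.hsurj a
    obtain ⟨j, y, rfl⟩ := S.hsurj b
    let k := IsFiltered.max i j
    let f : i ⟶ k := IsFiltered.leftToMax i j
    let g : j ⟶ k := IsFiltered.rightToMax i j
    have e1 : S.φ i x = S.φ k (S.t f x) := (S.hφ f x).symm
    have e2 : S.φ j y = S.φ k (S.t g y) := (S.hφ g y).symm
    rw [e1, e2, ← map_mul, hF, hF, hF, map_mul]
  have hadd : ∀ a b, F (a + b) = F a + F b := by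
    intro a b
    obtain ⟨i, x, rfl⟩ := S.hsurj a
    obtain ⟨j, y, rfl⟩ := S.hsurj b
    let k := IsFiltered.max i j
    let f : i ⟶ k := IsFiltered.leftToMax i j
    let g : j ⟶ k := IsFiltered.rightToMax i j
    have e1 : S.φ i x = S.φ k (S.t f x) := (S.hφ f x).symm
    have e2 : S.φ j y = S.φ k (S.t g y) := (S.hφ g y).symm
    rw [e1, e2, ← map_add, hF, hF, hF, map_add]
  have hcomm : ∀ r : A, F (algebraMap A B r) = algebraMap A T r := by
    intro r
    have := hF j₀ (algebraMap A _ r)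
    rwa [AlgHom.commutes, AlgHom.commutes] at this
  have h0 : F 0 = 0 := by
    have := hF j₀ 0
    rwa [map_zero, map_zero] at this
  exact ⟨{ toFun := F, map_one' := h1, map_mul' := hmul, map_zero' := h0, map_add' := hadd,
           commutes' := hcomm }, hF⟩

end Desc

section Lift
open IsLocalRing
variable {R : Type u} [CommRing R]

/-- the residue field identification induced by `u`. -/
theorem exists_resEquiv (S' K : Type u) [CommRing S'] [Field K] [IsLocalRing S']
    [Algebra R S'] [Algebra R K] (u' : S' →ₐ[R] K) (hu' : Function.Surjective u')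
    (hku' : RingHom.ker u'.toRingHom = maximalIdeal S') :
    ∃ ρ : ResidueField S' ≃ₐ[R] K, ∀ x, ρ (residue S' x) = u' x := by
  let ρ₀ : ResidueField S' →ₐ[R] K :=
    Ideal.Quotient.liftₐ (maximalIdeal S') u' (fun a ha => by
      rw [← hku'] at ha
      exact ha)
  have hρ₀ : ∀ x, ρ₀ (residue S' x) = u' x := fun x => rfl
  have hinj : Function.Injective ρ₀ := (ρ₀ : ResidueField S' →+* K).injective
  have hsurj : Function.Surjective ρ₀ := by
    intro k
    obtain ⟨x, rfl⟩ := hu' k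
    exact ⟨residue S' x, hρ₀ x⟩
  exact ⟨AlgEquiv.ofBijective ρ₀ ⟨hinj, hsurj⟩, hρ₀⟩

theorem existsUnique_lift_etale (C S' K : Type u) [CommRing C] [Algebra R C] [Algebra.Etale R C]
    [CommRing S'] [Field K] [HenselianLocalRing S']
    [Algebra R S'] [Algebra R K] (u' : S' →ₐ[R] K) (hu' : Function.Surjective u')
    (hku' : RingHom.ker u'.toRingHom = maximalIdeal S') (β : C →ₐ[R] K) :
    ∃! χ : C →ₐ[R] S', u'.comp χ = β := by
  obtain ⟨ρ, hρ⟩ := exists_resEquiv S' K u' hu' hku'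
  obtain ⟨χ, hχ⟩ := Groth.Agent.Helper1.EssEt.exists_lift_of_etale
    ((ρ.symm : K →ₐ[R] ResidueField S').comp β)
  refine ⟨χ, ?_, ?_⟩
  · ext c
    have := hχ c
    simp only [AlgHom.comp_apply]
    rw [← hρ, this]
    simp
  · intro χ' hχ'
    apply Groth.Agent.Helper1.EssEt.algHom_eq_of_residue_eq
    intro c
    apply ρ.injective
    rw [hρ, hρ]
    have h1 : u' (χ' c) = β c := congrArg (fun g => g c) hχ'
    rw [h1, ← hρ, hχ c]
    simp

end Lift

section Main
open IsLocalRing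
variable {R : Type u} [CommRing R]

theorem existsUnique_algHom (S S' K : Type u) [CommRing S] [Algebra R S]
    (hS : EtPBC.IsIndEtale R S)
    [CommRing S'] [Field K] [HenselianLocalRing S']
    [Algebra R S'] [Algebra R K] (u' : S' →ₐ[R] K) (hu' : Function.Surjective u')
    (hku' : RingHom.ker u'.toRingHom = maximalIdeal S') (v : S →ₐ[R] K) :
    ∃! Ψ : S →ₐ[R] S', u'.comp Ψ = v := by
  obtain ⟨Sy⟩ := nonempty_sys hS
  have key : ∀ j, ∃! χ : Sy.R j →ₐ[R] S', u'.comp χ = v.comp (Sy.φ j) := fun j =>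
    existsUnique_lift_etale (Sy.R j) S' K u' hu' hku' _
  choose ψ hψ1 hψ2 using key
  have hcompat : ∀ {i j : Sy.J} (f : i ⟶ j) (x : Sy.R i), ψ j (Sy.t f x) = ψ i x := by
    intro i j f x
    have : (ψ j).comp (Sy.t f) = ψ i := by
      apply hψ2
      rw [← AlgHom.comp_assoc, hψ1 j]
      ext y
      simp only [AlgHom.comp_apply]
      rw [Sy.hφ]
    exact congrArg (fun g => g x) this
  obtain ⟨Ψ, hΨ⟩ := exists_desc Sy ψ hcompat
  refine ⟨Ψ, ?_, ?_⟩
  · apply hom_ext Sy
    intro j x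
    simp only [AlgHom.comp_apply]
    rw [hΨ]
    exact congrArg (fun g => g x) (hψ1 j)
  · intro Ψ' hΨ'
    apply hom_ext Sy
    intro j x
    rw [hΨ]
    have : Ψ'.comp (Sy.φ j) = ψ j := by
      apply hψ2
      rw [← AlgHom.comp_assoc, hΨ']
    exact congrArg (fun g => g x) this

/-- statement S6391 -/
theorem main (R S S' K : Type u) [CommRing R]
    [CommRing S] [CommRing S'] [Field K] [HenselianLocalRing S] [HenselianLocalRing S']
    [Algebra R S] [Algebra R S'] [Algebra R K] (hS : EtPBC.IsIndEtale R S) (hS' : EtPBC.IsIndEtale R S')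
    (u : S →ₐ[R] K) (u' : S' →ₐ[R] K) (hu : Function.Surjective u) (hu' : Function.Surjective u')
    (hku : RingHom.ker u.toRingHom = IsLocalRing.maximalIdeal S)
    (hku' : RingHom.ker u'.toRingHom = IsLocalRing.maximalIdeal S') :
    ∃! e : S ≃ₐ[R] S', u'.comp (e : S →ₐ[R] S') = u := by
  obtain ⟨f, hf, hfu⟩ := existsUnique_algHom S S' K hS u' hu' hku' u
  obtain ⟨g, hg, hgu⟩ := existsUnique_algHom S' S K hS' u hu hku u'
  have hgf : g.comp f = AlgHom.id R S := by
    obtain ⟨w, _, hw⟩ := existsUnique_algHom S S K hS u hu hku u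
    rw [hw (g.comp f) (by show u.comp (g.comp f) = u; rw [← AlgHom.comp_assoc, hg, hf]), hw (AlgHom.id R S) (by show u.comp (AlgHom.id R S) = u; simp)]
  have hfg : f.comp g = AlgHom.id R S' := by
    obtain ⟨w, _, hw⟩ := existsUnique_algHom S' S' K hS' u' hu' hku' u'
    rw [hw (f.comp g) (by show u'.comp (f.comp g) = u'; rw [← AlgHom.comp_assoc, hf, hg]), hw (AlgHom.id R S') (by show u'.comp (AlgHom.id R S') = u'; simp)]
  refine ⟨AlgEquiv.ofAlgHom f g hfg hgf, ?_, ?_⟩
  · ext x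
    simpa using congrArg (fun h => h x) hf
  · intro e he
    ext x
    have : (e : S →ₐ[R] S') = f := hfu _ he
    simpa using congrArg (fun h => h x) this

end Main

end Groth.Agent.Helper2.IndEtDesc
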