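import Mathlib
import Groth.Prelude
import Groth.Agent.Helper2.IndEtLiftA
import Groth.Agent.Helper2.EtLiftB

set_option autoImplicit false
universe u
open CategoryTheory CategoryTheory.Limits TensorProduct

namespace Groth.Agent.Helper2.IndEtLift

open Groth.Agent.Helper2.IndEtCrit

theorem map_algHom_mem {A X Y : Type*} [CommRing A] [CommRing X] [CommRing Y] [Algebra A X]
    [Algebra A Y] (I : Ideal A) (ψ : X →ₐ[A] Y) {x : X} (hx : x ∈ I.map (algebraMap A X)) :
    ψ x ∈ I.map (algebraMap A Y) := by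
  have h1 : ψ x ∈ (I.map (algebraMap A X)).map ψ.toRingHom := Ideal.mem_map_of_mem _ hx
  rw [Ideal.map_map] at h1
  have h2 : ψ.toRingHom.comp (algebraMap A X) = algebraMap A Y := ψ.comp_algebraMap
  rwa [h2] at h1

/-- the kernel of a surjection of étale algebras is generated by an idempotent -/
theorem exists_idem_ker {R S T : Type u} [CommRing R] [CommRing S] [CommRing T] [Algebra R S]
    [Algebra R T] [Algebra.Etale R S] [Algebra.Etale R T] (f : S →ₐ[R] T)
    (hf : Function.Surjective f) :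
    ∃ e : S, IsIdempotentElem e ∧ RingHom.ker f.toRingHom = Ideal.span {e} := by
  letI := f.toAlgebra
  haveI : IsScalarTower R S T := .of_algebraMap_eq' f.comp_algebraMap.symm
  obtain ⟨e, he, hfe⟩ :=
    (Ideal.isIdempotentElem_iff_of_fg _ (Algebra.FinitePresentation.ker_fG_of_surjective f hf)).mp
      ((Algebra.FormallyEtale.iff_of_surjective hf).mp (.of_restrictScalars (R := R)))
  exact ⟨e, he, hfe⟩

/-- lifting a map to an étale `A/I`-algebra, after localizing -/
theorem exists_lift_map {A : Type u} [CommRing A] (I : Ideal A)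
    (B : Type u) [CommRing B] [Algebra A B] [Algebra.Etale A B]
    (B' : Type u) [CommRing B'] [Algebra A B'] [Algebra.Etale A B']
    (R : Type u) [CommRing R] [Algebra A R] [Algebra (A ⧸ I) R] [IsScalarTower A (A ⧸ I) R]
    [Algebra.Etale (A ⧸ I) R]
    (ν : B' →ₐ[A] R) (hν : Function.Surjective ν) (k : B →ₐ[A] R) :
    ∃ (B'' : Type u) (_ : CommRing B'') (_ : Algebra A B'') (_ : Algebra.Etale A B'')
      (h : B →ₐ[A] B'') (ν'' : B'' →ₐ[A] R), ν''.comp h = k ∧
        ∀ b, k b = 0 → h b ∈ I.map (algebraMap A B'') := by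
  classical
  haveI : Algebra.Etale A (B ⊗[A] B') := Algebra.Etale.comp A B _
  let π : B ⊗[A] B' →ₐ[A] R := Algebra.TensorProduct.productMap k ν
  have hπ : Function.Surjective π := fun r => by
    obtain ⟨y, rfl⟩ := hν r
    exact ⟨1 ⊗ₜ y, by simp [π]⟩
  haveI : Algebra.Etale (A ⧸ I) ((B ⊗[A] B') ⧸ I.map (algebraMap A (B ⊗[A] B'))) :=
    Algebra.Etale.of_equiv (Algebra.TensorProduct.quotIdealMapEquivQuotTensor (B ⊗[A] B') I).symm
  have hIR : ∀ a ∈ I, algebraMap A R a = 0 := by
    intro a ha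
    rw [IsScalarTower.algebraMap_apply A (A ⧸ I) R]
    have : algebraMap A (A ⧸ I) a = 0 := Ideal.Quotient.eq_zero_iff_mem.mpr ha
    rw [this, map_zero]
  have hπI : ∀ x ∈ I.map (algebraMap A (B ⊗[A] B')), π x = 0 := by
    have : I.map (algebraMap A (B ⊗[A] B')) ≤ RingHom.ker π.toRingHom := by
      rw [Ideal.map_le_iff_le_comap]
      intro a ha
      show π (algebraMap A _ a) = 0
      rw [π.commutes, hIR a ha]
    exact fun x hx => this hx
  let πb : ((B ⊗[A] B') ⧸ I.map (algebraMap A (B ⊗[A] B'))) →ₐ[A ⧸ I] R :=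
    AlgHom.extendScalarsOfSurjective (Ideal.Quotient.mk_surjective (I := I))
      (Ideal.Quotient.liftₐ _ π hπI)
  have hπb : ∀ x, πb (Ideal.Quotient.mk _ x) = π x := fun x => rfl
  have hπbs : Function.Surjective πb := fun r => by
    obtain ⟨x, rfl⟩ := hπ r
    exact ⟨Ideal.Quotient.mk _ x, hπb x⟩
  obtain ⟨e, he, hker⟩ := exists_idem_ker πb hπbs
  obtain ⟨g', hg'⟩ := Ideal.Quotient.mk_surjective (1 - e)
  have hπg : π g' = 1 := by
    rw [← hπb, hg', map_sub, map_one]
    have : e ∈ RingHom.ker πb.toRingHom := by rw [hker]; exact Ideal.mem_span_singleton_self e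
    have h0 : πb e = 0 := this
    rw [h0, sub_zero]
  have hkill : ∀ x, π x = 0 → g' * x ∈ I.map (algebraMap A (B ⊗[A] B')) := by
    intro x hx
    have h1 : Ideal.Quotient.mk (I.map (algebraMap A (B ⊗[A] B'))) x ∈ RingHom.ker πb.toRingHom := by
      show πb _ = 0
      rw [hπb, hx]
    rw [hker, Ideal.mem_span_singleton'] at h1
    obtain ⟨y, hy⟩ := h1
    rw [← Ideal.Quotient.eq_zero_iff_mem, map_mul, hg', ← hy]
    have : (1 - e) * (y * e) = y * (e - e * e) := by ring
    rw [this, he.eq, sub_self, mul_zero]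
  haveI : Algebra.Etale (B ⊗[A] B') (Localization.Away g') := Algebra.Etale.of_isLocalizationAway g'
  haveI : Algebra.Etale A (Localization.Away g') := Algebra.Etale.comp A (B ⊗[A] B') _
  have hunit : IsUnit (π g') := by rw [hπg]; exact isUnit_one
  let ν'' : Localization.Away g' →ₐ[A] R :=
    IsLocalization.Away.liftAlgHom g' (f := π) hunit
  have hν'' : ∀ x, ν'' (algebraMap (B ⊗[A] B') (Localization.Away g') x) = π x := fun x =>
    IsLocalization.Away.lift_eq g' (g := (π : B ⊗[A] B' →+* R)) hunit x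
  let h : B →ₐ[A] Localization.Away g' :=
    (IsScalarTower.toAlgHom A (B ⊗[A] B') (Localization.Away g')).comp
      Algebra.TensorProduct.includeLeft
  refine ⟨Localization.Away g', inferInstance, inferInstance, inferInstance, h, ν'', ?_, ?_⟩
  · ext b
    show ν'' (algebraMap (B ⊗[A] B') (Localization.Away g') (b ⊗ₜ 1)) = k b
    rw [hν'']
    simp [π]
  · intro b hb
    have h1 : π (b ⊗ₜ 1) = 0 := by simp [π, hb]
    have h2 := hkill _ h1
    have h3 : algebraMap (B ⊗[A] B') (Localization.Away g') (g' * b ⊗ₜ 1) ∈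
        I.map (algebraMap A (Localization.Away g')) :=
      map_algHom_mem I (IsScalarTower.toAlgHom A (B ⊗[A] B') (Localization.Away g')) h2
    rw [map_mul] at h3
    have hu : IsUnit (algebraMap (B ⊗[A] B') (Localization.Away g') g') :=
      IsLocalization.Away.algebraMap_isUnit g'
    exact (Ideal.unit_mul_mem_iff_mem _ hu).mp h3

theorem main (A : Type u) [CommRing A] (I : Ideal A) (Cb : Type u)
    [CommRing Cb] [Algebra (A ⧸ I) Cb] (h : EtPBC.IsIndEtale (A ⧸ I) Cb) :
    ∃ (C : Type u) (_ : CommRing C) (_ : Algebra A C),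
      EtPBC.IsIndEtale A C ∧ Nonempty ((C ⧸ I.map (algebraMap A C)) ≃ₐ[A ⧸ I] Cb) := by
  classical
  letI : Algebra A Cb := ((algebraMap (A ⧸ I) Cb).comp (Ideal.Quotient.mk I)).toAlgebra
  haveI : IsScalarTower A (A ⧸ I) Cb := IsScalarTower.of_algebraMap_eq (fun _ => rfl)
  obtain ⟨S⟩ := IndEtFib.nonempty_sys h
  letI algR : ∀ j, Algebra A (S.R j) := fun j =>
    ((algebraMap (A ⧸ I) (S.R j)).comp (Ideal.Quotient.mk I)).toAlgebra
  haveI towR : ∀ j, IsScalarTower A (A ⧸ I) (S.R j) := fun j =>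
    IsScalarTower.of_algebraMap_eq (fun _ => rfl)
  let S' : FSys A Cb :=
    { J := S.J, cat := S.cat, filt := S.filt, R := S.R, ring := S.ring, alg := algR,
      t := fun f => (S.t f).restrictScalars A, φ := fun j => (S.φ j).restrictScalars A,
      hφ := S.hφ, hsurj := S.hsurj, hinj := S.hinj }
  refine ⟨Hull A Cb, inferInstance, inferInstance, isIndEtale_hull A Cb, ?_⟩
  have hεI : ∀ x ∈ I.map (algebraMap A (Hull A Cb)), hullCounit A Cb x = 0 := by
    have : I.map (algebraMap A (Hull A Cb)) ≤ RingHom.ker (hullCounit A Cb).toRingHom := by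
      rw [Ideal.map_le_iff_le_comap]
      intro a ha
      show hullCounit A Cb (algebraMap A _ a) = 0
      rw [(hullCounit A Cb).commutes, IsScalarTower.algebraMap_apply A (A ⧸ I) Cb]
      have : algebraMap A (A ⧸ I) a = 0 := Ideal.Quotient.eq_zero_iff_mem.mpr ha
      rw [this, map_zero]
    exact fun x hx => this hx
  let εb : (Hull A Cb ⧸ I.map (algebraMap A (Hull A Cb))) →ₐ[A ⧸ I] Cb :=
    AlgHom.extendScalarsOfSurjective (Ideal.Quotient.mk_surjective (I := I))
      (Ideal.Quotient.liftₐ _ (hullCounit A Cb) hεI)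
  have hεb : ∀ x, εb (Ideal.Quotient.mk _ x) = hullCounit A Cb x := fun x => rfl
  refine ⟨AlgEquiv.ofBijective εb ⟨?_, ?_⟩⟩
  · rw [injective_iff_map_eq_zero]
    intro x hx
    obtain ⟨x, rfl⟩ := Ideal.Quotient.mk_surjective x
    rw [hεb] at hx
    rw [Ideal.Quotient.eq_zero_iff_mem]
    obtain ⟨i, xi, rfl⟩ := hullι_jointly_surjective A Cb x
    rw [hullCounit_ι] at hx
    obtain ⟨j, k₀, hk₀⟩ := exists_factor S' i.C i.γ
    have h0 : S'.φ j (k₀ xi) = S'.φ j 0 := by
      rw [map_zero, ← AlgHom.comp_apply, hk₀, hx]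
    obtain ⟨j', f, hf⟩ := S'.hinj j _ _ h0
    obtain ⟨n, F, ν, hν, -⟩ := JacEt.exists_etale_lift I (S.R j')
    obtain ⟨B'', _, _, _, hh, ν'', hcomp, hmem⟩ :=
      exists_lift_map I i.C (JacEt.JacAlg F) (S.R j') ν hν ((S'.t f).comp k₀)
    have hb : hh xi ∈ I.map (algebraMap A B'') := hmem xi (by
      show S'.t f (k₀ xi) = 0
      rw [hf, map_zero])
    obtain ⟨k, e, he⟩ := QIdx.exists_equiv B'' ((S'.φ j').comp ν'')
    let m : i ⟶ k := ⟨e.toAlgHom.comp hh, fun c => by
      show k.γ (e (hh c)) = i.γ c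
      rw [he]
      show S'.φ j' (ν'' (hh c)) = _
      rw [← AlgHom.comp_apply ν'' hh, hcomp]
      show S'.φ j' (S'.t f (k₀ c)) = _
      rw [S'.hφ, ← AlgHom.comp_apply, hk₀]⟩
    rw [← hullι_map A Cb m xi]
    exact map_algHom_mem I ((hullι A Cb k).comp e.toAlgHom) hb
  · intro z
    obtain ⟨j, y, rfl⟩ := S.hsurj z
    obtain ⟨n, F, ν, hν, -⟩ := JacEt.exists_etale_lift I (S.R j)
    obtain ⟨y', rfl⟩ := hν y
    obtain ⟨k, e, he⟩ := QIdx.exists_equiv (JacEt.JacAlg F) ((S'.φ j).comp ν)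
    refine ⟨Ideal.Quotient.mk _ (hullι A Cb k (e y')), ?_⟩
    rw [hεb, hullCounit_ι, he]
    rfl

end Groth.Agent.Helper2.IndEtLift
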