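import Mathlib
import Groth.Prelude
import Groth.Agent.Helper2.ILRApp
import Groth.Agent.Helper2.WCtrC

set_option autoImplicit false
universe u
open CategoryTheory CategoryTheory.Limits

namespace Groth.Agent.Helper2.IndZarRetr

open Groth.Agent.Helper2 Groth.Agent.Helper6

/-- a w-local algebra identifying local rings and surjective on spectra over a w-local ring with
extremally disconnected space of components has a retraction -/
theorem exists_retraction_of_ilr (A D : Type u) [CommRing A] [CommRing D] [Algebra A D]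
    (hilr : EtPBC.IdentifiesLocalRings A D)
    (hsurj : Function.Surjective (PrimeSpectrum.comap (algebraMap A D)))
    (hX : ProEtW.IsWLocal (PrimeSpectrum A)) (hZ : ProEtW.IsWLocal (PrimeSpectrum D))
    (hED : ExtremallyDisconnected (_root_.ConnectedComponents (PrimeSpectrum A))) :
    Nonempty (D →ₐ[A] A) := by
  obtain ⟨T, hT, hTy⟩ := WCtr.exists_section_set hX hZ _
    (PrimeSpectrum.continuous_comap (algebraMap A D)) hsurj
  have hzq : EtPBC.IsIndZariski D (D ⧸ IndZarT.I D T) :=
    ⟨IndZarT.Idx D T, inferInstance, inferInstance, IndZarT.D D T, IndZarT.cc D T,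
      IndZarT.isCol D T, IndZarT.D_locIso D T, ⟨Iso.refl _⟩⟩
  have hilr2 : EtPBC.IdentifiesLocalRings A (D ⧸ IndZarT.I D T) :=
    ILRCrit.comp hilr (ILRCrit.of_isIndZariski hzq)
  have hrange : Set.range (PrimeSpectrum.comap (Ideal.Quotient.mk (IndZarT.I D T))) =
      ConnectedComponents.mk ⁻¹' T := by
    rw [_root_.range_comap_of_surjective _ _ Ideal.Quotient.mk_surjective, Ideal.mk_ker]
    exact IndZarT.zeroLocus_I D T hT
  have hemb := PrimeSpectrum.isClosedEmbedding_comap_of_surjective _
    (Ideal.Quotient.mk (IndZarT.I D T)) Ideal.Quotient.mk_surjective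
  have hcomp : ∀ q : PrimeSpectrum (D ⧸ IndZarT.I D T),
      PrimeSpectrum.comap (algebraMap A (D ⧸ IndZarT.I D T)) q =
        PrimeSpectrum.comap (algebraMap A D)
          (PrimeSpectrum.comap (Ideal.Quotient.mk (IndZarT.I D T)) q) := fun q => rfl
  have hbij : Function.Bijective (algebraMap A (D ⧸ IndZarT.I D T)) := by
    apply WCtr.bijective_of_closed_points'
    intro y hy
    obtain ⟨d, hdT, hgd, hgen⟩ := hTy y hy
    obtain ⟨x, hx⟩ : d ∈ Set.range (PrimeSpectrum.comap (Ideal.Quotient.mk (IndZarT.I D T))) := by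
      rw [hrange]; exact hdT
    have hxy : PrimeSpectrum.comap (algebraMap A (D ⧸ IndZarT.I D T)) x = y := by
      rw [hcomp, hx, hgd]
    refine ⟨x, hxy, hilr2 x, ?_⟩
    intro q hq
    rw [hcomp] at hq
    have hq' := hgen (PrimeSpectrum.comap (Ideal.Quotient.mk (IndZarT.I D T)) q)
      (by
        have : PrimeSpectrum.comap (Ideal.Quotient.mk (IndZarT.I D T)) q ∈
            ConnectedComponents.mk ⁻¹' T := by
          rw [← hrange]; exact ⟨q, rfl⟩
        exact this) hq
    rw [← hx] at hq'
    exact hemb.isInducing.specializes_iff.mp hq'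
  let e : A ≃ₐ[A] (D ⧸ IndZarT.I D T) := AlgEquiv.ofBijective (Algebra.ofId A _) hbij
  exact ⟨e.symm.toAlgHom.comp (IsScalarTower.toAlgHom A D (D ⧸ IndZarT.I D T))⟩

/-- S0678 -/
theorem s0678 (A : Type u) [CommRing A] :
    ProEtW.HasIndZariskiRetractions A ↔
      (ProEtW.IsWLocal (PrimeSpectrum A) ∧
        ExtremallyDisconnected (_root_.ConnectedComponents (PrimeSpectrum A))) := by
  constructor
  · intro hA
    obtain ⟨B, _, _, hff, hz, hW, hED⟩ := ILRApp.s0696 A
    obtain ⟨r⟩ := hA B hff hz
    have hr : ∀ a, r (algebraMap A _ a) = a := fun a => by rw [r.commutes]; rfl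
    have hsurj : Function.Surjective r.toRingHom := fun a => ⟨algebraMap A _ a, hr a⟩
    have hemb := PrimeSpectrum.isClosedEmbedding_comap_of_surjective _ r.toRingHom hsurj
    refine ⟨WCtr.isWLocal_of_isClosedEmbedding hW _ hemb, ?_⟩
    have hf : Continuous (PrimeSpectrum.comap r.toRingHom) :=
      PrimeSpectrum.continuous_comap r.toRingHom
    have hg : Continuous (PrimeSpectrum.comap (algebraMap A B)) :=
      PrimeSpectrum.continuous_comap (algebraMap A B)
    refine WCtr.extremallyDisconnected_of_retract hf.connectedComponentsMap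
      hg.connectedComponentsMap
      hf.connectedComponentsMap_continuous hg.connectedComponentsMap_continuous ?_
    intro c
    obtain ⟨x, rfl⟩ := ConnectedComponents.surjective_coe c
    show ConnectedComponents.mk (PrimeSpectrum.comap (algebraMap A B)
      (PrimeSpectrum.comap r.toRingHom x)) = ConnectedComponents.mk x
    congr 1
    apply PrimeSpectrum.ext
    ext a
    show r (algebraMap A _ a) ∈ x.asIdeal ↔ a ∈ x.asIdeal
    rw [hr]
  · rintro ⟨hW, hED⟩ B _ _ hff hz
    letI : Algebra A (WLocZ.Aw B) := ((algebraMap B (WLocZ.Aw B)).comp (algebraMap A B)).toAlgebra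
    haveI : IsScalarTower A B (WLocZ.Aw B) := IsScalarTower.of_algebraMap_eq (fun _ => rfl)
    have hz2 : EtPBC.IsIndZariski B (WLocZ.Aw B) := HullZ.isIndZariski_hull B (TAbs.T B)
    haveI := hff
    haveI : Module.FaithfullyFlat B (WLocZ.Aw B) := WLocZ.faithfullyFlat B
    haveI : Module.FaithfullyFlat A (WLocZ.Aw B) := Module.FaithfullyFlat.trans A B _
    have hsurj : Function.Surjective (PrimeSpectrum.comap (algebraMap A (WLocZ.Aw B))) :=
      PrimeSpectrum.comap_surjective_of_faithfullyFlat
    obtain ⟨r⟩ := exists_retraction_of_ilr A (WLocZ.Aw B)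
      (ILRCrit.comp (ILRCrit.of_isIndZariski hz) (ILRCrit.of_isIndZariski hz2)) hsurj hW
      (WLocZ.isWLocal B) hED
    exact ⟨r.comp (IsScalarTower.toAlgHom A B _)⟩

end Groth.Agent.Helper2.IndZarRetr
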