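import Mathlib
import Groth.Prelude
import Groth.Agent.Helper2.FlatLift

set_option autoImplicit false
universe u

namespace Groth.Agent.Helper2.InfAut

open TensorProduct Groth.Agent.Helper2.FlatLift

section

variable {R : Type u} [CommRing R] (J : Ideal R) {S : Type u} [CommRing S] [Algebra R S]
  {M : Type u} [AddCommGroup M] [Module S M] [Module R M] [IsScalarTower R S M]

/-- `mult` is `S`-linear. -/
theorem mult_smulS (s : S) (z : M ⊗[R] ↥J) : mult J M (s • z) = s • mult J M z := by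
  induction z using TensorProduct.induction_on with
  | zero => simp
  | add x y hx hy => simp only [smul_add, map_add, hx, hy]
  | tmul n j =>
    rw [TensorProduct.smul_tmul', mult_tmul, mult_tmul, smul_comm]

/-- `mult` as an `S`-linear map. -/
noncomputable def multS : M ⊗[R] ↥J →ₗ[S] M where
  toFun := mult J M
  map_add' := map_add _
  map_smul' s z := by rw [RingHom.id_apply]; exact mult_smulS J s z

theorem multS_apply (z : M ⊗[R] ↥J) : multS (S := S) J z = mult J M z := rfl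

theorem smul_mem_range_mult (a : S) (ha : a ∈ J.map (algebraMap R S)) :
    ∀ x : M, ∃ z : M ⊗[R] ↥J, mult J M z = a • x := by
  refine Submodule.span_induction (p := fun a _ => ∀ x : M, ∃ z : M ⊗[R] ↥J, mult J M z = a • x)
    ?_ ?_ ?_ ?_ ha
  · rintro _ ⟨j, hj, rfl⟩ x
    exact ⟨x ⊗ₜ ⟨j, hj⟩, by rw [mult_tmul, algebraMap_smul]⟩
  · intro x
    exact ⟨0, by rw [map_zero, zero_smul]⟩
  · intro a b _ _ ha hb x
    obtain ⟨za, hza⟩ := ha x
    obtain ⟨zb, hzb⟩ := hb x
    exact ⟨za + zb, by rw [map_add, hza, hzb, add_smul]⟩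
  · intro s a _ ha x
    obtain ⟨za, hza⟩ := ha (s • x)
    exact ⟨za, by rw [hza, smul_eq_mul, mul_smul, smul_comm]⟩

theorem mem_smul_top_iff (x : M) :
    x ∈ (J.map (algebraMap R S)) • (⊤ : Submodule S M) ↔ ∃ z : M ⊗[R] ↥J, mult J M z = x := by
  constructor
  · intro hx
    refine Submodule.smul_induction_on hx ?_ ?_
    · intro a ha n _
      exact smul_mem_range_mult J a ha n
    · rintro x y ⟨zx, hzx⟩ ⟨zy, hzy⟩
      exact ⟨zx + zy, by rw [map_add, hzx, hzy]⟩
  · rintro ⟨z, rfl⟩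
    induction z using TensorProduct.induction_on with
    | zero => rw [map_zero]; exact Submodule.zero_mem _
    | add x y hx hy => rw [map_add]; exact Submodule.add_mem _ hx hy
    | tmul n j =>
      rw [mult_tmul, ← algebraMap_smul S (j : R) n]
      exact Submodule.smul_mem_smul (Ideal.mem_map_of_mem _ j.2) Submodule.mem_top

end

section e

variable {R : Type u} [CommRing R] (J : Ideal R) (𝔪 : Ideal R) (hJ : 𝔪 * J = ⊥)
  (S : Type u) [CommRing S] [Algebra R S]
  (M : Type u) [AddCommGroup M] [Module S M] [Module R M] [IsScalarTower R S M]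

include hJ in
theorem smul_tmul_eq_zero (a : S) (ha : a ∈ 𝔪.map (algebraMap R S)) :
    ∀ (x : M) (j : J), ((a • x) ⊗ₜ[R] j : M ⊗[R] ↥J) = 0 := by
  refine Submodule.span_induction
    (p := fun a _ => ∀ (x : M) (j : J), ((a • x) ⊗ₜ[R] j : M ⊗[R] ↥J) = 0) ?_ ?_ ?_ ?_ ha
  · rintro _ ⟨r, hr, rfl⟩ x j
    rw [algebraMap_smul, TensorProduct.smul_tmul]
    have : r • j = 0 := by
      apply Subtype.ext
      have h1 : r * (j : R) ∈ 𝔪 * J := Ideal.mul_mem_mul hr j.2
      rw [hJ, Ideal.mem_bot] at h1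
      exact h1
    rw [this, TensorProduct.tmul_zero]
  · intro x j
    rw [zero_smul, TensorProduct.zero_tmul]
  · intro a b _ _ ha hb x j
    rw [add_smul, TensorProduct.add_tmul, ha, hb, add_zero]
  · intro s a _ ha x j
    rw [smul_eq_mul, mul_comm, mul_smul]
    exact ha (s • x) j

include hJ in
theorem tmul_eq_zero_of_mem (y : M)
    (hy : y ∈ (𝔪.map (algebraMap R S)) • (⊤ : Submodule S M)) (j : J) :
    (y ⊗ₜ[R] j : M ⊗[R] ↥J) = 0 := by
  refine Submodule.smul_induction_on (p := fun y => (y ⊗ₜ[R] j : M ⊗[R] ↥J) = 0) hy ?_ ?_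
  · intro a ha n _
    exact smul_tmul_eq_zero J 𝔪 hJ S M a ha n j
  · intro x y hx hy
    rw [TensorProduct.add_tmul, hx, hy, add_zero]

/-- the reduction map `M ⊗ J → M₀ ⊗ J`. -/
noncomputable abbrev eFun : M ⊗[R] ↥J →ₗ[R]
    (M ⧸ (𝔪.map (algebraMap R S)) • (⊤ : Submodule S M)) ⊗[R] ↥J :=
  LinearMap.rTensor ↥J
    ((Submodule.mkQ ((𝔪.map (algebraMap R S)) • (⊤ : Submodule S M))).restrictScalars R)

theorem eFun_smul (s : S) (z : M ⊗[R] ↥J) :
    eFun J 𝔪 S M (s • z) = s • eFun J 𝔪 S M z := by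
  induction z using TensorProduct.induction_on with
  | zero => simp
  | add x y hx hy => simp only [smul_add, map_add, hx, hy]
  | tmul n j =>
    rw [TensorProduct.smul_tmul', LinearMap.rTensor_tmul, LinearMap.rTensor_tmul,
      TensorProduct.smul_tmul']
    rfl

theorem eFun_surjective : Function.Surjective (eFun J 𝔪 S M) :=
  LinearMap.rTensor_surjective ↥J (Submodule.mkQ_surjective _)

include hJ in
theorem eFun_injective : Function.Injective (eFun J 𝔪 S M) := by
  rw [injective_iff_map_eq_zero]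
  intro z hz
  set 𝔐 := (𝔪.map (algebraMap R S)) • (⊤ : Submodule S M) with h𝔐
  have hex : Function.Exact (𝔐.restrictScalars R).subtype (𝔐.mkQ.restrictScalars R) := by
    intro x
    constructor
    · intro hx
      exact ⟨⟨x, (Submodule.Quotient.mk_eq_zero 𝔐).mp hx⟩, rfl⟩
    · rintro ⟨⟨x', hx'⟩, rfl⟩
      exact (Submodule.Quotient.mk_eq_zero 𝔐).mpr hx'
  have hsurj : Function.Surjective (𝔐.mkQ.restrictScalars R) := Submodule.mkQ_surjective _
  obtain ⟨w, rfl⟩ := (rTensor_exact ↥J hex hsurj z).mp hz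
  clear hz
  induction w using TensorProduct.induction_on with
  | zero => rw [map_zero]
  | add x y hx hy => rw [map_add, hx, hy, add_zero]
  | tmul y j =>
    rw [LinearMap.rTensor_tmul]
    exact tmul_eq_zero_of_mem J 𝔪 hJ S M y.1 y.2 j

/-- the reduction map as an `S`-linear map. -/
noncomputable def eS : M ⊗[R] ↥J →ₗ[S]
    (M ⧸ (𝔪.map (algebraMap R S)) • (⊤ : Submodule S M)) ⊗[R] ↥J where
  toFun := eFun J 𝔪 S M
  map_add' := map_add _
  map_smul' s z := by rw [RingHom.id_apply]; exact eFun_smul J 𝔪 S M s z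

theorem eS_apply (z : M ⊗[R] ↥J) : eS J 𝔪 S M z = eFun J 𝔪 S M z := rfl

/-- the reduction map as an `S`-linear equivalence. -/
noncomputable def eEquiv : (M ⊗[R] ↥J) ≃ₗ[S]
    (M ⧸ (𝔪.map (algebraMap R S)) • (⊤ : Submodule S M)) ⊗[R] ↥J :=
  LinearEquiv.ofBijective (eS J 𝔪 S M) ⟨eFun_injective J 𝔪 hJ S M, eFun_surjective J 𝔪 S M⟩

end e

section killed

variable {R : Type u} [CommRing R] (J : Ideal R) (𝔪 : Ideal R) (hJ : 𝔪 * J = ⊥)
  (S : Type u) [CommRing S] [Algebra R S]
  (M : Type u) [AddCommGroup M] [Module S M] [Module R M] [IsScalarTower R S M]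

include hJ in
theorem smul_eq_zero_of_mem (a : S) (ha : a ∈ 𝔪.map (algebraMap R S)) (z : M ⊗[R] ↥J) :
    a • z = 0 := by
  induction z using TensorProduct.induction_on with
  | zero => rw [smul_zero]
  | add x y hx hy => rw [smul_add, hx, hy, add_zero]
  | tmul n j =>
    rw [TensorProduct.smul_tmul']
    exact smul_tmul_eq_zero J 𝔪 hJ S M a ha n j

include hJ in
theorem smulR_eq_zero_of_mem (r : R) (hr : r ∈ 𝔪) (z : M ⊗[R] ↥J) : r • z = 0 := by
  induction z using TensorProduct.induction_on with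
  | zero => rw [smul_zero]
  | add x y hx hy => rw [smul_add, hx, hy, add_zero]
  | tmul n j =>
    rw [TensorProduct.smul_tmul', TensorProduct.smul_tmul]
    have : r • j = 0 := by
      apply Subtype.ext
      have h1 : r * (j : R) ∈ 𝔪 * J := Ideal.mul_mem_mul hr j.2
      rw [hJ, Ideal.mem_bot] at h1
      exact h1
    rw [this, TensorProduct.tmul_zero]

end killed

section main

variable (C' : Type u) [CommRing C'] (𝔪 : Ideal C') (J : Ideal C') (hJ : 𝔪 * J = ⊥) (hJm : J ≤ 𝔪)
    (A' : Type u) [CommRing A'] [Algebra C' A'] (M' : Type u) [AddCommGroup M'] [Module A' M']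
    [Module C' M'] [IsScalarTower C' A' M'] [Module.Flat C' M']

include hJ hJm in
theorem part1 (σ : M' →ₗ[A'] M')
    (hσ : ∀ x : M', σ x - x ∈ (J.map (algebraMap C' A')) • (⊤ : Submodule A' M')) :
    Function.Bijective σ ∧
        ∃! τ : (M' ⧸ (𝔪.map (algebraMap C' A')) • (⊤ : Submodule A' M')) →ₗ[A'] ((M' ⧸ (𝔪.map (algebraMap C' A')) • (⊤ : Submodule A' M')) ⊗[C'] ↥J),
          (∀ (x : M') (z : M' ⊗[C'] ↥J), TensorProduct.rid C' M' (LinearMap.lTensor M' (Submodule.subtype J) z) = σ x - x →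
            LinearMap.rTensor ↥J ((Submodule.mkQ ((𝔪.map (algebraMap C' A')) • (⊤ : Submodule A' M'))).restrictScalars C') z =
              τ (Submodule.mkQ _ x)) := by
  have hJJ : J * J = ⊥ := by
    rw [eq_bot_iff, ← hJ]
    exact Ideal.mul_mono_left hJm
  set ν : M' →ₗ[A'] M' := σ - LinearMap.id with hνdef
  have hνx : ∀ x, ν x = σ x - x := fun x => rfl
  have hν : ∀ x, ∃ z : M' ⊗[C'] ↥J, mult J M' z = ν x :=
    fun x => (mem_smul_top_iff J (ν x)).mp (hσ x)
  have hinj := mult_injective J M'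
  have hkill : ∀ (j : J) (z : M' ⊗[C'] ↥J), (j : C') • mult J M' z = 0 := by
    intro j z
    rw [← map_smul, smulR_eq_zero_of_mem J J hJJ M' (j : C') j.2 z, map_zero]
  have hνν : ∀ z : M' ⊗[C'] ↥J, ν (mult J M' z) = 0 := by
    intro z
    induction z using TensorProduct.induction_on with
    | zero => rw [map_zero, map_zero]
    | add x y hx hy => rw [map_add, map_add, hx, hy, add_zero]
    | tmul x j =>
      rw [mult_tmul, ← algebraMap_smul A' (j : C') x, map_smul, algebraMap_smul]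
      obtain ⟨z, hz⟩ := hν x
      rw [← hz]
      exact hkill j z
  have hν2 : ∀ x, ν (ν x) = 0 := by
    intro x
    obtain ⟨z, hz⟩ := hν x
    rw [← hz]
    exact hνν z
  have hσx : ∀ x, σ x = x + ν x := fun x => by rw [hνx]; abel
  have hbij : Function.Bijective σ := by
    refine Function.bijective_iff_has_inverse.mpr ⟨fun x => x - ν x, ?_, ?_⟩
    · intro x
      show σ x - ν (σ x) = x
      rw [hσx x, map_add, hν2, add_zero, add_sub_cancel_right]
    · intro x
      show σ (x - ν x) = x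
      rw [hσx (x - ν x), map_sub, hν2, sub_zero, sub_add_cancel]
  refine ⟨hbij, ?_⟩
  -- the map Z
  let Zf : M' → M' ⊗[C'] ↥J := fun x => (hν x).choose
  have hZf : ∀ x, mult J M' (Zf x) = ν x := fun x => (hν x).choose_spec
  let Z : M' →ₗ[A'] M' ⊗[C'] ↥J :=
    { toFun := Zf
      map_add' := by
        intro x y
        apply hinj
        rw [map_add, hZf, hZf, hZf, map_add]
      map_smul' := by
        intro a x
        apply hinj
        rw [RingHom.id_apply, mult_smulS, hZf, hZf, map_smul] }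
  have hZ : ∀ x, mult J M' (Z x) = ν x := hZf
  set 𝔐 := (𝔪.map (algebraMap C' A')) • (⊤ : Submodule A' M') with h𝔐
  have hν𝔐 : ∀ y ∈ 𝔐, ν y = 0 := by
    intro y hy
    refine Submodule.smul_induction_on (p := fun y => ν y = 0) hy ?_ ?_
    · intro a ha x _
      rw [map_smul, ← hZ x, ← mult_smulS, smul_eq_zero_of_mem J 𝔪 hJ A' M' a ha, map_zero]
    · intro x y hx hy
      rw [map_add, hx, hy, add_zero]
  let T : M' →ₗ[A'] (M' ⧸ 𝔐) ⊗[C'] ↥J := (eS J 𝔪 A' M').comp Z
  have hle : 𝔐 ≤ LinearMap.ker T := by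
    intro y hy
    rw [LinearMap.mem_ker]
    have : Z y = 0 := by
      apply hinj
      rw [hZ, hν𝔐 y hy, map_zero]
    show eS J 𝔪 A' M' (Z y) = 0
    rw [this, map_zero]
  refine ⟨𝔐.liftQ T hle, ?_, ?_⟩
  · intro x z hz
    have hz' : mult J M' z = ν x := hz
    have : z = Z x := hinj (hz'.trans (hZ x).symm)
    rw [this]
    rfl
  · intro τ' hτ'
    apply LinearMap.ext
    intro q
    obtain ⟨x, rfl⟩ := Submodule.mkQ_surjective 𝔐 q
    have h1 := hτ' x (Z x) (hZ x)
    rw [← h1]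
    rfl

include hJ hJm in
theorem part2 (τ : (M' ⧸ (𝔪.map (algebraMap C' A')) • (⊤ : Submodule A' M')) →ₗ[A'] ((M' ⧸ (𝔪.map (algebraMap C' A')) • (⊤ : Submodule A' M')) ⊗[C'] ↥J)) :
      ∃ σ : M' →ₗ[A'] M', (∀ x : M', σ x - x ∈ (J.map (algebraMap C' A')) • (⊤ : Submodule A' M')) ∧
          (∀ (x : M') (z : M' ⊗[C'] ↥J), TensorProduct.rid C' M' (LinearMap.lTensor M' (Submodule.subtype J) z) = σ x - x →
            LinearMap.rTensor ↥J ((Submodule.mkQ ((𝔪.map (algebraMap C' A')) • (⊤ : Submodule A' M'))).restrictScalars C') z =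
              τ (Submodule.mkQ _ x)) := by
  have hinj := mult_injective J M'
  let ν : M' →ₗ[A'] M' :=
    (multS (S := A') J).comp ((eEquiv J 𝔪 hJ A' M').symm.toLinearMap.comp
      (τ.comp (Submodule.mkQ ((𝔪.map (algebraMap C' A')) • (⊤ : Submodule A' M')))))
  have hν : ∀ x, ν x = mult J M' ((eEquiv J 𝔪 hJ A' M').symm
      (τ (Submodule.mkQ ((𝔪.map (algebraMap C' A')) • (⊤ : Submodule A' M')) x))) := fun x => rfl
  refine ⟨(LinearMap.id : M' →ₗ[A'] M') + ν, ?_, ?_⟩
  · intro x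
    have : ((LinearMap.id : M' →ₗ[A'] M') + ν) x - x = ν x := by
      rw [LinearMap.add_apply, LinearMap.id_apply, add_sub_cancel_left]
    rw [this, hν]
    exact (mem_smul_top_iff J _).mpr ⟨_, rfl⟩
  · intro x z hz
    have h1 : ((LinearMap.id : M' →ₗ[A'] M') + ν) x - x = ν x := by
      rw [LinearMap.add_apply, LinearMap.id_apply, add_sub_cancel_left]
    have hz' : mult J M' z = ν x := hz.trans h1
    have : z = (eEquiv J 𝔪 hJ A' M').symm
        (τ (Submodule.mkQ ((𝔪.map (algebraMap C' A')) • (⊤ : Submodule A' M')) x)) :=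
      hinj (hz'.trans (hν x))
    rw [this]
    exact (eEquiv J 𝔪 hJ A' M').apply_symm_apply _

end main

theorem s11469 (C' : Type u) [CommRing C'] [IsLocalRing C']
    [IsArtinianRing C'] (J : Ideal C') (hJ : IsLocalRing.maximalIdeal C' * J = ⊥) (hJne : J ≠ ⊤)
    (A' : Type u) [CommRing A'] [Algebra C' A'] (M' : Type u) [AddCommGroup M'] [Module A' M'] [Module C' M']
    [IsScalarTower C' A' M'] [Module.Flat C' M'] :
    (∀ σ : M' →ₗ[A'] M', (∀ x : M', σ x - x ∈ (J.map (algebraMap C' A')) • (⊤ : Submodule A' M')) →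
      Function.Bijective σ ∧
        ∃! τ : (M' ⧸ ((IsLocalRing.maximalIdeal C').map (algebraMap C' A')) • (⊤ : Submodule A' M')) →ₗ[A'] ((M' ⧸ ((IsLocalRing.maximalIdeal C').map (algebraMap C' A')) • (⊤ : Submodule A' M')) ⊗[C'] ↥J),
          (∀ (x : M') (z : M' ⊗[C'] ↥J), TensorProduct.rid C' M' (LinearMap.lTensor M' (Submodule.subtype J) z) = σ x - x →
            LinearMap.rTensor ↥J ((Submodule.mkQ (((IsLocalRing.maximalIdeal C').map (algebraMap C' A')) • (⊤ : Submodule A' M'))).restrictScalars C') z =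
              τ (Submodule.mkQ _ x))) ∧
    (∀ τ : (M' ⧸ ((IsLocalRing.maximalIdeal C').map (algebraMap C' A')) • (⊤ : Submodule A' M')) →ₗ[A'] ((M' ⧸ ((IsLocalRing.maximalIdeal C').map (algebraMap C' A')) • (⊤ : Submodule A' M')) ⊗[C'] ↥J),
      ∃ σ : M' →ₗ[A'] M', (∀ x : M', σ x - x ∈ (J.map (algebraMap C' A')) • (⊤ : Submodule A' M')) ∧
          (∀ (x : M') (z : M' ⊗[C'] ↥J), TensorProduct.rid C' M' (LinearMap.lTensor M' (Submodule.subtype J) z) = σ x - x →
            LinearMap.rTensor ↥J ((Submodule.mkQ (((IsLocalRing.maximalIdeal C').map (algebraMap C' A')) • (⊤ : Submodule A' M'))).restrictScalars C') z =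
              τ (Submodule.mkQ _ x))) := by
  have hJm : J ≤ IsLocalRing.maximalIdeal C' := IsLocalRing.le_maximalIdeal hJne
  exact ⟨fun σ hσ => part1 C' _ J hJ hJm A' M' σ hσ, fun τ => part2 C' _ J hJ hJm A' M' τ⟩

end Groth.Agent.Helper2.InfAut
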