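import Mathlib
import Groth.Prelude
import Groth.Agent.Helper2.KerFP
import Groth.Agent.Helper2.FlatStageAlg

set_option autoImplicit false
open Function TensorProduct
universe u

namespace Groth.Agent.Helper2.InjStageKG

section Phi
variable {E₁ E D₁ D : Type u} [CommRing E₁] [CommRing E] [CommRing D₁] [CommRing D]
  [Algebra E₁ E] [Algebra E₁ D₁] [Algebra E D] [Algebra D₁ D] [Algebra E₁ D]
  [IsScalarTower E₁ E D] [IsScalarTower E₁ D₁ D]

/-- the comparison isomorphism between the two iterated base changes -/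
noncomputable def phi (X : Type u) [AddCommGroup X] [Module E₁ X] :
    D ⊗[E] (E ⊗[E₁] X) ≃ₗ[D] D ⊗[D₁] (D₁ ⊗[E₁] X) :=
  (AlgebraTensorModule.cancelBaseChange E₁ E D D X) ≪≫ₗ
    (AlgebraTensorModule.cancelBaseChange E₁ D₁ D D X).symm

theorem phi_tmul (X : Type u) [AddCommGroup X] [Module E₁ X] (d : D) (e : E) (x : X) :
    phi (E₁ := E₁) (E := E) (D₁ := D₁) (D := D) X (d ⊗ₜ[E] (e ⊗ₜ[E₁] x)) =
      (e • d) ⊗ₜ[D₁] ((1 : D₁) ⊗ₜ[E₁] x) := by
  simp only [phi, LinearEquiv.trans_apply, AlgebraTensorModule.cancelBaseChange_tmul,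
    AlgebraTensorModule.cancelBaseChange_symm_tmul]

theorem phi_natural {X Y : Type u} [AddCommGroup X] [Module E₁ X] [AddCommGroup Y] [Module E₁ Y]
    (g : X →ₗ[E₁] Y) (w : D ⊗[E] (E ⊗[E₁] X)) :
    (g.baseChange D₁).baseChange D (phi (E₁ := E₁) (E := E) (D₁ := D₁) (D := D) X w) =
      phi (E₁ := E₁) (E := E) (D₁ := D₁) (D := D) Y ((g.baseChange E).baseChange D w) := by
  induction w using TensorProduct.induction_on with
  | zero => simp
  | add a b ha hb => simp only [map_add, ha, hb]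
  | tmul d y =>
    induction y using TensorProduct.induction_on with
    | zero => simp
    | add a b ha hb => simp only [tmul_add, map_add, ha, hb]
    | tmul e x =>
      rw [phi_tmul, LinearMap.baseChange_tmul, LinearMap.baseChange_tmul, LinearMap.baseChange_tmul,
        LinearMap.baseChange_tmul, phi_tmul]

end Phi

section KG
variable {T₁ E₁ : Type u} [CommRing T₁] [CommRing E₁] [Algebra T₁ E₁]
  {M₁ N₁ Q₁ : Type u} [AddCommGroup M₁] [Module E₁ M₁] [AddCommGroup N₁] [Module E₁ N₁]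
  [AddCommGroup Q₁] [Module E₁ Q₁]
  (u₁ : M₁ →ₗ[E₁] N₁) (π₁ : N₁ →ₗ[E₁] Q₁)
  {T E : Type u} [CommRing T] [CommRing E] [Algebra T₁ T] [Algebra T E] [Algebra E₁ E]
  [Algebra T₁ E] [IsScalarTower T₁ T E] [IsScalarTower T₁ E₁ E] [Algebra.IsPushout T₁ T E₁ E]

include T in
set_option maxHeartbeats 1000000 in
/-- **Kernel generation**: if the localized cokernel is flat over the base, the kernel of a base
change of `u₁` along a pushout is generated, up to powers of `h`, by the kernel of `u₁`. -/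
theorem exists_pow_smul_mem_span (hex : Function.Exact u₁ π₁) (hπ : Surjective π₁) (h : E₁)
    (hflat : Module.Flat T₁ (Localization.Away h ⊗[E₁] Q₁))
    (z : E ⊗[E₁] M₁) (hz : u₁.baseChange E z = 0) :
    ∃ n : ℕ, (algebraMap E₁ E h) ^ n • z ∈
      Submodule.span E ((fun k : M₁ => (1 : E) ⊗ₜ[E₁] k) '' (LinearMap.ker u₁ : Set M₁)) := by
  classical
  -- the image factorization
  let I₁ := LinearMap.range u₁
  let ρ : M₁ →ₗ[E₁] I₁ := u₁.rangeRestrict
  let ι : I₁ →ₗ[E₁] N₁ := I₁.subtype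
  have hρ : Surjective ρ := LinearMap.surjective_rangeRestrict u₁
  have hιρ : ι ∘ₗ ρ = u₁ := LinearMap.subtype_comp_codRestrict _ _ _
  have hexι : Function.Exact ι π₁ := by
    intro y
    rw [hex y]
    constructor
    · rintro ⟨m, rfl⟩
      exact ⟨⟨u₁ m, ⟨m, rfl⟩⟩, rfl⟩
    · rintro ⟨⟨_, ⟨m, rfl⟩⟩, rfl⟩
      exact ⟨m, rfl⟩
  -- the localized rings
  let D₁ := Localization.Away h
  let S := Algebra.algebraMapSubmonoid E (Submonoid.powers h)
  let D := Localization S
  haveI t1 : IsScalarTower T₁ D₁ D := FlatStageAlg.tower_loc h E T₁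
  haveI t2 : IsScalarTower E₁ D₁ D := FlatStageAlg.tower_loc h E E₁
  haveI hp' : Algebra.IsPushout T₁ E₁ T E := Algebra.IsPushout.symm inferInstance
  have h2 : Algebra.IsPushout E₁ E D₁ D := Algebra.isPushout_of_isLocalization (Submonoid.powers h) _ _ _
  have h3 := (Algebra.IsPushout.comp_iff T₁ E₁ T E (T := D₁) (T' := D)).mpr h2.symm
  haveI h4 : Algebra.IsPushout T₁ T D₁ D := h3.symm
  -- exactness after localizing
  have hginj : Injective (ι.baseChange D₁) := by
    rw [LinearMap.baseChange_eq_ltensor]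
    exact Module.Flat.lTensor_preserves_injective_linearMap ι I₁.subtype_injective
  have hfsurj : Surjective (π₁.baseChange D₁) := by
    rw [LinearMap.baseChange_eq_ltensor]
    exact LinearMap.lTensor_surjective D₁ hπ
  have hgf : Function.Exact (ι.baseChange D₁) (π₁.baseChange D₁) := by
    have := lTensor_exact D₁ hexι hπ
    rwa [← LinearMap.baseChange_eq_ltensor, ← LinearMap.baseChange_eq_ltensor] at this
  have hinjD : Injective ((ι.baseChange D₁).baseChange D) :=
    KerFP.baseChange_injective_of_flat (R₀ := T₁) (A := T) (D₀ := D₁) (B := D)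
      (ι.baseChange D₁) (π₁.baseChange D₁) hginj hfsurj hgf
  -- the element `w`
  let w : E ⊗[E₁] I₁ := ρ.baseChange E z
  have hw : ι.baseChange E w = 0 := by
    change ι.baseChange E (ρ.baseChange E z) = 0
    rw [← LinearMap.comp_apply, ← LinearMap.baseChange_comp, hιρ, hz]
  have h1w : ((1 : D) ⊗ₜ[E] w : D ⊗[E] (E ⊗[E₁] I₁)) = 0 := by
    apply (phi (E₁ := E₁) (E := E) (D₁ := D₁) (D := D) I₁).injective
    apply hinjD
    rw [phi_natural, LinearMap.baseChange_tmul, hw, tmul_zero, map_zero, map_zero, map_zero]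
  -- `1 ⊗ w = 0` in the localization means `w` is killed by a power of `h`
  haveI : IsLocalizedModule S (TensorProduct.mk E D (E ⊗[E₁] I₁) 1) :=
    (isLocalizedModule_iff_isBaseChange S D _).mpr (TensorProduct.isBaseChange E (E ⊗[E₁] I₁) D)
  obtain ⟨⟨s, hs⟩, hsw⟩ := (IsLocalizedModule.eq_zero_iff S
    (TensorProduct.mk E D (E ⊗[E₁] I₁) 1)).mp (by simpa using h1w)
  obtain ⟨_, ⟨n, rfl⟩, rfl⟩ := hs
  refine ⟨n, ?_⟩
  have hsw' : (algebraMap E₁ E h) ^ n • w = 0 := by
    rw [← map_pow]; exact hsw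
  -- so `h^n z` is in the kernel of `ρ ⊗ E`
  have hker : ρ.baseChange E ((algebraMap E₁ E h) ^ n • z) = 0 := by
    rw [map_smul]; exact hsw'
  have hexρ : Function.Exact ((LinearMap.ker ρ).subtype.baseChange E) (ρ.baseChange E) := by
    have := lTensor_exact E (LinearMap.exact_subtype_ker_map ρ) hρ
    rwa [← LinearMap.baseChange_eq_ltensor, ← LinearMap.baseChange_eq_ltensor] at this
  obtain ⟨y, hy⟩ := (hexρ _).mp hker
  rw [← hy]
  have hkerρ : LinearMap.ker ρ = LinearMap.ker u₁ := LinearMap.ker_rangeRestrict u₁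
  clear hy
  induction y using TensorProduct.induction_on with
  | zero => rw [map_zero]; exact Submodule.zero_mem _
  | add a b ha hb => rw [map_add]; exact Submodule.add_mem _ ha hb
  | tmul e k =>
    rw [LinearMap.baseChange_tmul]
    have : (e ⊗ₜ[E₁] ((LinearMap.ker ρ).subtype k) : E ⊗[E₁] M₁) =
        e • ((1 : E) ⊗ₜ[E₁] (k : M₁)) := by
      rw [TensorProduct.smul_tmul', smul_eq_mul, mul_one]; rfl
    rw [this]
    refine Submodule.smul_mem _ _ (Submodule.subset_span ⟨(k : M₁), ?_, rfl⟩)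
    change (k : M₁) ∈ LinearMap.ker u₁
    rw [← hkerρ]
    exact k.2

end KG

end Groth.Agent.Helper2.InjStageKG
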