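import Mathlib
import Groth.Prelude
import Groth.Agent.Helper2.InjStageKG

set_option autoImplicit false
open Function TensorProduct
universe u

namespace Groth.Agent.Helper2.InjStageImg

section Img
variable {C₀ : Type u} [CommRing C₀] {E₁ E₂ E₃ : Type u} [CommRing E₁] [CommRing E₂] [CommRing E₃]
  [Algebra C₀ E₁] [Algebra C₀ E₂] [Algebra C₀ E₃]
  (M₀ : Type u) [AddCommGroup M₀] [Module C₀ M₀] {N₀ : Type u} [AddCommGroup N₀] [Module C₀ N₀]

/-- the transition map of base-changed modules along a `C₀`-algebra map -/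
noncomputable def imgC (γ : E₁ →ₐ[C₀] E₂) : E₁ ⊗[C₀] M₀ →ₗ[C₀] E₂ ⊗[C₀] M₀ :=
  LinearMap.rTensor M₀ γ.toLinearMap

@[simp] theorem imgC_tmul (γ : E₁ →ₐ[C₀] E₂) (e : E₁) (m : M₀) :
    imgC M₀ γ (e ⊗ₜ[C₀] m) = γ e ⊗ₜ[C₀] m := by
  simp [imgC]

theorem imgC_smul (γ : E₁ →ₐ[C₀] E₂) (c : E₁) (y : E₁ ⊗[C₀] M₀) :
    imgC M₀ γ (c • y) = γ c • imgC M₀ γ y := by
  induction y using TensorProduct.induction_on with
  | zero => simp
  | add a b ha hb => rw [smul_add, map_add, ha, hb, map_add, smul_add]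
  | tmul e m =>
    rw [TensorProduct.smul_tmul', imgC_tmul, imgC_tmul, TensorProduct.smul_tmul', smul_eq_mul,
      smul_eq_mul, map_mul]

variable {M₀}

theorem imgC_baseChange (γ : E₁ →ₐ[C₀] E₂) (u₀ : M₀ →ₗ[C₀] N₀) (y : E₁ ⊗[C₀] M₀) :
    u₀.baseChange E₂ (imgC M₀ γ y) = imgC N₀ γ (u₀.baseChange E₁ y) := by
  induction y using TensorProduct.induction_on with
  | zero => simp
  | add a b ha hb => simp only [map_add, ha, hb]
  | tmul e m =>
    rw [imgC_tmul, LinearMap.baseChange_tmul, LinearMap.baseChange_tmul, imgC_tmul]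

variable (M₀)

theorem imgC_comp (γ : E₁ →ₐ[C₀] E₂) (γ' : E₂ →ₐ[C₀] E₃) (y : E₁ ⊗[C₀] M₀) :
    imgC M₀ γ' (imgC M₀ γ y) = imgC M₀ (γ'.comp γ) y := by
  induction y using TensorProduct.induction_on with
  | zero => simp
  | add a b ha hb => simp only [map_add, ha, hb]
  | tmul e m => simp

end Img

section Tower
variable {C₀ : Type u} [CommRing C₀] {M₀ N₀ : Type u} [AddCommGroup M₀] [Module C₀ M₀]
  [AddCommGroup N₀] [Module C₀ N₀] (u₀ : M₀ →ₗ[C₀] N₀)
  {T₁ E₁ : Type u} [CommRing T₁] [CommRing E₁] [Algebra T₁ E₁] [Algebra C₀ E₁]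
  {T E : Type u} [CommRing T] [CommRing E] [Algebra T₁ T] [Algebra T E] [Algebra E₁ E]
  [Algebra T₁ E] [IsScalarTower T₁ T E] [IsScalarTower T₁ E₁ E] [Algebra.IsPushout T₁ T E₁ E]
  [Algebra C₀ E] [IsScalarTower C₀ E₁ E]

/-- the cancellation isomorphism for the tower `C₀ → E₁ → E` -/
noncomputable def kappa (M₀ : Type u) [AddCommGroup M₀] [Module C₀ M₀] :
    E ⊗[E₁] (E₁ ⊗[C₀] M₀) ≃ₗ[E] E ⊗[C₀] M₀ :=
  AlgebraTensorModule.cancelBaseChange C₀ E₁ E E M₀

theorem kappa_natural (w : E ⊗[E₁] (E₁ ⊗[C₀] M₀)) :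
    u₀.baseChange E (kappa (E₁ := E₁) (E := E) M₀ w) =
      kappa (E₁ := E₁) (E := E) N₀ ((u₀.baseChange E₁).baseChange E w) := by
  induction w using TensorProduct.induction_on with
  | zero => simp
  | add a b ha hb => simp only [map_add, ha, hb]
  | tmul e y =>
    induction y using TensorProduct.induction_on with
    | zero => simp
    | add a b ha hb => simp only [tmul_add, map_add, ha, hb]
    | tmul e₁ m =>
      simp only [kappa, AlgebraTensorModule.cancelBaseChange_tmul, LinearMap.baseChange_tmul]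

theorem kappa_one_tmul (y : E₁ ⊗[C₀] M₀) :
    kappa (E₁ := E₁) (E := E) M₀ ((1 : E) ⊗ₜ[E₁] y) =
      imgC M₀ (IsScalarTower.toAlgHom C₀ E₁ E) y := by
  induction y using TensorProduct.induction_on with
  | zero => simp
  | add a b ha hb => simp only [tmul_add, map_add, ha, hb]
  | tmul e₁ m =>
    simp only [kappa, AlgebraTensorModule.cancelBaseChange_tmul, imgC_tmul,
      IsScalarTower.coe_toAlgHom', Algebra.smul_def, mul_one]

include T in
set_option maxHeartbeats 1000000 in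
/-- **Kernel generation, tower form.** -/
theorem exists_pow_smul_mem_span_tower (h : E₁)
    (hflat : Module.Flat T₁
      (Localization.Away h ⊗[E₁] (E₁ ⊗[C₀] (N₀ ⧸ LinearMap.range u₀))))
    (z : E ⊗[C₀] M₀) (hz : u₀.baseChange E z = 0) :
    ∃ n : ℕ, (algebraMap E₁ E h) ^ n • z ∈
      Submodule.span E (imgC M₀ (IsScalarTower.toAlgHom C₀ E₁ E) ''
        (LinearMap.ker (u₀.baseChange E₁) : Set (E₁ ⊗[C₀] M₀))) := by
  have hπ : Surjective ((LinearMap.range u₀).mkQ.baseChange E₁) := by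
    rw [LinearMap.baseChange_eq_ltensor]
    exact LinearMap.lTensor_surjective E₁ (Submodule.mkQ_surjective _)
  have hex : Function.Exact (u₀.baseChange E₁) ((LinearMap.range u₀).mkQ.baseChange E₁) := by
    have h0 : Function.Exact u₀ (LinearMap.range u₀).mkQ :=
      LinearMap.exact_map_mkQ_range u₀
    have := lTensor_exact E₁ h0 (Submodule.mkQ_surjective _)
    rwa [← LinearMap.baseChange_eq_ltensor, ← LinearMap.baseChange_eq_ltensor] at this
  have hz' : (u₀.baseChange E₁).baseChange E ((kappa (E₁ := E₁) (E := E) M₀).symm z) = 0 := by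
    apply (kappa (E₁ := E₁) (E := E) N₀).injective
    rw [← kappa_natural, LinearEquiv.apply_symm_apply, hz, map_zero]
  obtain ⟨n, hn⟩ := InjStageKG.exists_pow_smul_mem_span (T₁ := T₁) (T := T)
    (u₀.baseChange E₁) ((LinearMap.range u₀).mkQ.baseChange E₁) hex hπ h hflat
    ((kappa (E₁ := E₁) (E := E) M₀).symm z) hz'
  refine ⟨n, ?_⟩
  have h1 : (algebraMap E₁ E h) ^ n • z = kappa (E₁ := E₁) (E := E) M₀
      ((algebraMap E₁ E h) ^ n • (kappa (E₁ := E₁) (E := E) M₀).symm z) := by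
    rw [map_smul, LinearEquiv.apply_symm_apply]
  rw [h1]
  have h2 := Submodule.mem_map_of_mem (f := (kappa (E₁ := E₁) (E := E) M₀).toLinearMap) hn
  rw [Submodule.map_span] at h2
  refine Submodule.span_mono ?_ h2
  rintro _ ⟨_, ⟨k, hk, rfl⟩, rfl⟩
  exact ⟨k, hk, (kappa_one_tmul k).symm⟩

end Tower

end Groth.Agent.Helper2.InjStageImg
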