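import Mathlib
import Groth.Prelude
import Groth.Agent.Helper2.InjStageImg
import Groth.Agent.Helper2.FlatStageAlg

set_option autoImplicit false
open Function TensorProduct
universe u

namespace Groth.Agent.Helper2.InjStageChi

open Groth.Agent.Helper2.FlatStageAlg Groth.Agent.Helper2.InjStageImg

attribute [local instance] Algebra.TensorProduct.rightAlgebra

section Chi
variable {B₀ C₀ : Type u} [CommRing B₀] [CommRing C₀] [Algebra B₀ C₀]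
  {B₁ : Type u} [CommRing B₁] [Algebra B₀ B₁]
  {Bj Cj : Type u} [CommRing Bj] [CommRing Cj] [Algebra B₀ Bj] [Algebra Bj Cj] [Algebra C₀ Cj]
  [Algebra B₀ Cj] [IsScalarTower B₀ Bj Cj] [IsScalarTower B₀ C₀ Cj]

/-- the canonical map `B₁ ⊗ C₀ → Cj` attached to `θ : B₁ → Bj` -/
noncomputable def chiOf (θ : B₁ →ₐ[B₀] Bj) : B₁ ⊗[B₀] C₀ →ₐ[B₀] Cj :=
  Algebra.TensorProduct.productMap ((IsScalarTower.toAlgHom B₀ Bj Cj).comp θ)
    (IsScalarTower.toAlgHom B₀ C₀ Cj)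

@[simp] theorem chiOf_tmul (θ : B₁ →ₐ[B₀] Bj) (b : B₁) (c : C₀) :
    chiOf (Cj := Cj) θ (b ⊗ₜ[B₀] c) = algebraMap Bj Cj (θ b) * algebraMap C₀ Cj c := by
  simp [chiOf]

/-- the same map as a `C₀`-algebra map -/
noncomputable def chiCOf (θ : B₁ →ₐ[B₀] Bj) : B₁ ⊗[B₀] C₀ →ₐ[C₀] Cj :=
  { (chiOf (Cj := Cj) θ).toRingHom with
    commutes' := fun c => by
      change chiOf (Cj := Cj) θ ((1 : B₁) ⊗ₜ[B₀] c) = _
      rw [chiOf_tmul, map_one, map_one, one_mul] }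

@[simp] theorem chiCOf_apply (θ : B₁ →ₐ[B₀] Bj) (x : B₁ ⊗[B₀] C₀) :
    chiCOf (Cj := Cj) θ x = chiOf (Cj := Cj) θ x := rfl

variable {B C : Type u} [CommRing B] [CommRing C] [Algebra B₀ B] [Algebra B C] [Algebra C₀ C]
  [Algebra B₀ C] [IsScalarTower B₀ B C] [IsScalarTower B₀ C₀ C]

/-- functoriality of `chiOf` in the stage -/
theorem chiOf_comp (θ : B₁ →ₐ[B₀] Bj) (ωB : Bj →ₐ[B₀] B) (ωC : Cj →ₐ[C₀] C)
    (h2 : ∀ b, ωC (algebraMap Bj Cj b) = algebraMap B C (ωB b)) (x : B₁ ⊗[B₀] C₀) :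
    ωC (chiOf (Cj := Cj) θ x) = chiOf (Cj := C) (ωB.comp θ) x := by
  induction x using TensorProduct.induction_on with
  | zero => simp
  | tmul b c => rw [chiOf_tmul, chiOf_tmul, map_mul, h2, ωC.commutes]; rfl
  | add x y hx hy => rw [map_add, map_add, map_add, hx, hy]

theorem chiCOf_comp (θ : B₁ →ₐ[B₀] Bj) (ωB : Bj →ₐ[B₀] B) (ωC : Cj →ₐ[C₀] C)
    (h2 : ∀ b, ωC (algebraMap Bj Cj b) = algebraMap B C (ωB b)) :
    ωC.comp (chiCOf (Cj := Cj) θ) = chiCOf (Cj := C) (ωB.comp θ) :=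
  AlgHom.ext fun x => chiOf_comp θ ωB ωC h2 x

/-- compatibility of the transition `chiCOf` with the algebra maps, for concrete stages -/
theorem chiCOf_algebraMap {B₂ : Type u} [CommRing B₂] [Algebra B₀ B₂]
    (θ : B₂ →ₐ[B₀] Bj) (b : B₂) :
    chiCOf (Cj := Cj) θ (algebraMap B₂ (B₂ ⊗[B₀] C₀) b) = algebraMap Bj Cj (θ b) := by
  change chiOf (Cj := Cj) θ (b ⊗ₜ[B₀] (1 : C₀)) = _
  rw [chiOf_tmul, map_one, mul_one]

/-- transitivity of `chiOf` -/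
theorem chiOf_trans {B₂ : Type u} [CommRing B₂] [Algebra B₀ B₂] (t : B₁ →ₐ[B₀] B₂)
    (θ : B₂ →ₐ[B₀] Bj) (x : B₁ ⊗[B₀] C₀) :
    chiOf (Cj := Cj) θ (chiOf (Cj := B₂ ⊗[B₀] C₀) t x) = chiOf (Cj := Cj) (θ.comp t) x :=
  chiOf_comp t θ (chiCOf (Cj := Cj) θ) (fun b => chiCOf_algebraMap θ b) x

theorem chiCOf_trans {B₂ : Type u} [CommRing B₂] [Algebra B₀ B₂] (t : B₁ →ₐ[B₀] B₂)
    (θ : B₂ →ₐ[B₀] Bj) :
    (chiCOf (Cj := Cj) θ).comp (chiCOf (Cj := B₂ ⊗[B₀] C₀) t) = chiCOf (Cj := Cj) (θ.comp t) :=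
  AlgHom.ext fun x => chiOf_trans t θ x

theorem chiOf_id (x : B₁ ⊗[B₀] C₀) :
    chiOf (Cj := B₁ ⊗[B₀] C₀) (AlgHom.id B₀ B₁) x = x := by
  induction x using TensorProduct.induction_on with
  | zero => simp
  | tmul b c =>
    rw [chiOf_tmul]
    change (b ⊗ₜ[B₀] (1 : C₀)) * ((1 : B₁) ⊗ₜ[B₀] c) = _
    rw [Algebra.TensorProduct.tmul_mul_tmul, mul_one, one_mul]
  | add x y hx hy => rw [map_add, hx, hy]

end Chi

section Conv

theorem flat_tensor_of_flat_localized {A E X : Type u} [CommRing A] [CommRing E] [Algebra A E]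
    [AddCommGroup X] [Module E X] [Module A X] [IsScalarTower A E X] (h : E)
    (hfl : Module.Flat A (LocalizedModule (Submonoid.powers h) X)) :
    Module.Flat A (Localization.Away h ⊗[E] X) := by
  let e3 := LocalizedModule.equivTensorProduct (Submonoid.powers h) X
  exact Module.Flat.of_linearEquiv (e3.symm.restrictScalars A)

theorem flat_localized_of_flat_tensor {A E X : Type u} [CommRing A] [CommRing E] [Algebra A E]
    [AddCommGroup X] [Module E X] [Module A X] [IsScalarTower A E X] (h : E)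
    (hfl : Module.Flat A (Localization.Away h ⊗[E] X)) :
    Module.Flat A (LocalizedModule (Submonoid.powers h) X) := by
  let e3 := LocalizedModule.equivTensorProduct (Submonoid.powers h) X
  exact Module.Flat.of_linearEquiv (e3.restrictScalars A)

end Conv

section Stage
variable {B₀ C₀ : Type u} [CommRing B₀] [CommRing C₀] [Algebra B₀ C₀]
  {R₁ : Type u} [CommRing R₁] [Algebra B₀ R₁]
  (Bj Cj : Type u) [CommRing Bj] [CommRing Cj] [Algebra B₀ Bj] [Algebra Bj Cj] [Algebra C₀ Cj]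
  [Algebra B₀ Cj] [IsScalarTower B₀ Bj Cj] [IsScalarTower B₀ C₀ Cj]
  [Algebra.IsPushout B₀ Bj C₀ Cj]

theorem chi_self (x : R₁ ⊗[B₀] C₀) :
    chi (B₀ := B₀) (C₀ := C₀) (B₁ := R₁) R₁ (R₁ ⊗[B₀] C₀) x = x := by
  induction x using TensorProduct.induction_on with
  | zero => simp
  | tmul b c =>
    rw [chi_tmul]
    change (b ⊗ₜ[B₀] (1 : C₀)) * ((1 : R₁) ⊗ₜ[B₀] c) = _
    rw [Algebra.TensorProduct.tmul_mul_tmul, mul_one, one_mul]
  | add x y hx hy => rw [map_add, hx, hy]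

/-- flatness of the localized module at a finitely presented stage propagates to every later
stage -/
theorem flat_stage (M₀ : Type u) [AddCommGroup M₀] [Module C₀ M₀] (h₁ : R₁ ⊗[B₀] C₀)
    (hflat : Module.Flat R₁
      (LocalizedModule (Submonoid.powers h₁) ((R₁ ⊗[B₀] C₀) ⊗[C₀] M₀)))
    (θ : R₁ →ₐ[B₀] Bj) :
    Module.Flat Bj (LocalizedModule (Submonoid.powers (chiOf (Cj := Cj) θ h₁)) (Cj ⊗[C₀] M₀)) := by
  letI algR₁Bj : Algebra R₁ Bj := θ.toRingHom.toAlgebra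
  haveI : IsScalarTower B₀ R₁ Bj := IsScalarTower.of_algebraMap_eq (fun a => (θ.commutes a).symm)
  have hchi : ∀ x, chi (B₀ := B₀) (C₀ := C₀) (B₁ := R₁) Bj Cj x = chiOf (Cj := Cj) θ x := by
    intro x
    induction x using TensorProduct.induction_on with
    | zero => simp
    | tmul b c => rw [chi_tmul, chiOf_tmul]; rfl
    | add x y hx hy => rw [map_add, map_add, hx, hy]
  have h1 : Module.Flat R₁ (R₁ ⊗[R₁] (Localization.Away h₁ ⊗[C₀] M₀)) :=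
    (flat_iff_concrete (B₁ := R₁) M₀ R₁ (R₁ ⊗[B₀] C₀) h₁).mpr (by rw [chi_self]; exact hflat)
  haveI := h1
  have h2 : Module.Flat Bj (Bj ⊗[R₁] (Localization.Away h₁ ⊗[C₀] M₀)) :=
    Groth.Agent.Lead.FD19.flat_of_algHom (A₀ := R₁) (C := R₁) (D := Bj)
      (M₀ := Localization.Away h₁ ⊗[C₀] M₀)
  have h3 := (flat_iff_concrete M₀ Bj Cj h₁).mp h2
  rwa [hchi] at h3

/-- kernel generation for a stage over a finitely presented stage -/
theorem kg_stage {M₀ N₀ : Type u} [AddCommGroup M₀] [Module C₀ M₀] [AddCommGroup N₀]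
    [Module C₀ N₀] (u₀ : M₀ →ₗ[C₀] N₀) (h₁ : R₁ ⊗[B₀] C₀)
    (hflat : Module.Flat R₁ (Localization.Away h₁ ⊗[R₁ ⊗[B₀] C₀]
      ((R₁ ⊗[B₀] C₀) ⊗[C₀] (N₀ ⧸ LinearMap.range u₀))))
    (θ : R₁ →ₐ[B₀] Bj) (z : Cj ⊗[C₀] M₀) (hz : u₀.baseChange Cj z = 0) :
    ∃ n : ℕ, (chiOf (Cj := Cj) θ h₁) ^ n • z ∈
      Submodule.span Cj (imgC M₀ (chiCOf (Cj := Cj) θ) ''
        (LinearMap.ker (u₀.baseChange (R₁ ⊗[B₀] C₀)) : Set ((R₁ ⊗[B₀] C₀) ⊗[C₀] M₀))) := by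
  letI a0 : Algebra R₁ Bj := θ.toRingHom.toAlgebra
  haveI t0 : IsScalarTower B₀ R₁ Bj :=
    IsScalarTower.of_algebraMap_eq (fun a => (θ.commutes a).symm)
  letI a1 : Algebra R₁ Cj := ((algebraMap Bj Cj).comp (algebraMap R₁ Bj)).toAlgebra
  haveI t1 : IsScalarTower R₁ Bj Cj := IsScalarTower.of_algebraMap_eq (fun _ => rfl)
  letI a2 : Algebra (R₁ ⊗[B₀] C₀) Cj := (chiOf (Cj := Cj) θ).toRingHom.toAlgebra
  haveI t2 : IsScalarTower R₁ (R₁ ⊗[B₀] C₀) Cj := IsScalarTower.of_algebraMap_eq (fun b => by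
    change _ = chiOf (Cj := Cj) θ (b ⊗ₜ[B₀] (1 : C₀))
    rw [chiOf_tmul, map_one, mul_one]; rfl)
  haveI t3 : IsScalarTower C₀ (R₁ ⊗[B₀] C₀) Cj := IsScalarTower.of_algebraMap_eq (fun c => by
    change _ = chiOf (Cj := Cj) θ ((1 : R₁) ⊗ₜ[B₀] c)
    rw [chiOf_tmul, map_one, map_one, one_mul])
  haveI hpush : Algebra.IsPushout R₁ Bj (R₁ ⊗[B₀] C₀) Cj :=
    isPushout_stage (B₀ := B₀) (C₀ := C₀) Bj Cj
  have hco : IsScalarTower.toAlgHom C₀ (R₁ ⊗[B₀] C₀) Cj = chiCOf (Cj := Cj) θ :=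
    AlgHom.ext fun _ => rfl
  have := exists_pow_smul_mem_span_tower (T₁ := R₁) (T := Bj) (E₁ := R₁ ⊗[B₀] C₀) (E := Cj)
    u₀ h₁ hflat z hz
  rw [hco] at this
  exact this

end Stage

end Groth.Agent.Helper2.InjStageChi
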