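import Mathlib
import Groth.Prelude
import Groth.Agent.Helper2.InjStageChi

set_option autoImplicit false
open Function TensorProduct
universe u

namespace Groth.Agent.Helper2.InjStageData

open Groth.Agent.Helper2.FlatStageAlg Groth.Agent.Helper2.InjStageImg
  Groth.Agent.Helper2.InjStageChi

attribute [local instance] Algebra.TensorProduct.rightAlgebra

section Data
variable {B₀ C₀ : Type u} [CommRing B₀] [CommRing C₀] [Algebra B₀ C₀]
  [Algebra.FinitePresentation B₀ C₀]
  (M₀ : Type u) [AddCommGroup M₀] [Module C₀ M₀] [Module.FinitePresentation C₀ M₀]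

set_option maxHeartbeats 1000000 in
/-- flatness at a prime of the limit stage descends to a finitely presented stage, on a basic open
neighbourhood; exposing the stage and the function. -/
theorem exists_flat_data
    {B C : Type u} [CommRing B] [CommRing C] [Algebra B₀ B] [Algebra B C] [Algebra C₀ C]
    [Algebra B₀ C] [IsScalarTower B₀ B C] [IsScalarTower B₀ C₀ C] [Algebra.IsPushout B₀ B C₀ C]
    (q : Ideal C) [q.IsPrime]
    (h : Module.Flat B (LocalizedModule q.primeCompl (C ⊗[C₀] M₀))) :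
    ∃ (R : Type u) (_ : CommRing R) (_ : Algebra B₀ R) (_ : Algebra.FinitePresentation B₀ R)
      (ψ : R →ₐ[B₀] B) (h₁ : R ⊗[B₀] C₀), chiOf (Cj := C) ψ h₁ ∉ q ∧
        Module.Flat R (LocalizedModule (Submonoid.powers h₁) ((R ⊗[B₀] C₀) ⊗[C₀] M₀)) := by
  classical
  haveI : Algebra.FinitePresentation B C :=
    Algebra.FinitePresentation.equiv (Algebra.IsPushout.equiv B₀ B C₀ C)
  -- open flat locus
  have hopen := FlatDescApp.isOpen_flatLocus_fp (R := B) (S := C) (M := C ⊗[C₀] M₀)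
  obtain ⟨hh, hhq, hsub⟩ : ∃ hh : C, hh ∉ q ∧ ∀ (r : Ideal C) [r.IsPrime], hh ∉ r →
      Module.Flat B (LocalizedModule r.primeCompl (C ⊗[C₀] M₀)) := by
    obtain ⟨_, ⟨hh, rfl⟩, hmem, hsub⟩ :=
      PrimeSpectrum.isTopologicalBasis_basic_opens.exists_subset_of_mem_open
        (show (⟨q, inferInstance⟩ : PrimeSpectrum C) ∈ {p : PrimeSpectrum C |
          Module.Flat B (LocalizedModule p.asIdeal.primeCompl (C ⊗[C₀] M₀))} from h) hopen
    exact ⟨hh, hmem, fun r _ hr => hsub (show (⟨r, inferInstance⟩ : PrimeSpectrum C) ∈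
      (PrimeSpectrum.basicOpen hh : Set (PrimeSpectrum C)) from hr)⟩
  have hNh : Module.Flat B (LocalizedModule (Submonoid.powers hh) (C ⊗[C₀] M₀)) :=
    LocLoc.flat_localizedModule_of_forall_atPrime B (C ⊗[C₀] M₀) (Submonoid.powers hh)
      (fun r _ hr => hsub r (fun hmem => hr (Submonoid.mem_powers hh) hmem))
  -- write hh as a finite sum
  obtain ⟨S, hS⟩ := TensorProduct.exists_finset ((Algebra.IsPushout.equiv B₀ B C₀ C).symm hh)
  let ψ₁ : MvPolynomial S B₀ →ₐ[B₀] B := MvPolynomial.aeval (fun i : S => i.1.1)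
  letI algB₁B : Algebra (MvPolynomial S B₀) B := ψ₁.toRingHom.toAlgebra
  haveI tB₁B : IsScalarTower B₀ (MvPolynomial S B₀) B :=
    IsScalarTower.of_algebraMap_eq (fun a => (ψ₁.commutes a).symm)
  let h₁ : MvPolynomial S B₀ ⊗[B₀] C₀ := ∑ i : S, (MvPolynomial.X i) ⊗ₜ[B₀] i.1.2
  have hχ : chi (B₀ := B₀) (C₀ := C₀) (B₁ := MvPolynomial S B₀) B C h₁ = hh := by
    have h2 : hh = (Algebra.IsPushout.equiv B₀ B C₀ C) (∑ i ∈ S, i.1 ⊗ₜ[B₀] i.2) := by
      rw [← hS, AlgEquiv.apply_symm_apply]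
    rw [h2, map_sum, map_sum, ← Finset.sum_coe_sort S]
    refine Finset.sum_congr rfl fun i _ => ?_
    rw [chi_tmul, Algebra.IsPushout.equiv_tmul]
    congr 2
    change ψ₁ (MvPolynomial.X i) = _
    simp [ψ₁]
  haveI fpD : Algebra.FinitePresentation (MvPolynomial S B₀) (Localization.Away h₁) :=
    haveI : Algebra.FinitePresentation (MvPolynomial S B₀ ⊗[B₀] C₀) (Localization.Away h₁) :=
      IsLocalization.Away.finitePresentation h₁
    Algebra.FinitePresentation.trans (MvPolynomial S B₀) (MvPolynomial S B₀ ⊗[B₀] C₀) _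
  have hflatB : Module.Flat B (B ⊗[MvPolynomial S B₀] (Localization.Away h₁ ⊗[C₀] M₀)) := by
    rw [flat_iff_concrete M₀ B C h₁, hχ]
    exact hNh
  obtain ⟨B', _, _, _, ψ', hB'⟩ := Groth.Agent.Lead.FD18.exists_fp_flat_module
    (A₀ := MvPolynomial S B₀) (Localization.Away h₁) (Localization.Away h₁ ⊗[C₀] M₀) B
  letI algB₀B' : Algebra B₀ B' :=
    ((algebraMap (MvPolynomial S B₀) B').comp (algebraMap B₀ (MvPolynomial S B₀))).toAlgebra
  haveI tB₀B' : IsScalarTower B₀ (MvPolynomial S B₀) B' :=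
    IsScalarTower.of_algebraMap_eq (fun _ => rfl)
  haveI : Algebra.FinitePresentation B₀ B' :=
    Algebra.FinitePresentation.trans B₀ (MvPolynomial S B₀) B'
  refine ⟨B', inferInstance, algB₀B', inferInstance, ψ'.restrictScalars B₀,
    chi (B₀ := B₀) (C₀ := C₀) (B₁ := MvPolynomial S B₀) B' (B' ⊗[B₀] C₀) h₁, ?_, ?_⟩
  · -- the image of the function in `C` is `hh`
    have hcomp : ∀ t : MvPolynomial S B₀ ⊗[B₀] C₀,
        chiOf (Cj := C) (ψ'.restrictScalars B₀)
          (chi (B₀ := B₀) (C₀ := C₀) (B₁ := MvPolynomial S B₀) B' (B' ⊗[B₀] C₀) t) =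
        chi (B₀ := B₀) (C₀ := C₀) (B₁ := MvPolynomial S B₀) B C t := by
      intro t
      induction t using TensorProduct.induction_on with
      | zero => simp
      | tmul b c =>
        rw [chi_tmul, chi_tmul, map_mul]
        have e1 : chiOf (Cj := C) (ψ'.restrictScalars B₀)
            (algebraMap B' (B' ⊗[B₀] C₀) (algebraMap (MvPolynomial S B₀) B' b)) =
            algebraMap B C (algebraMap (MvPolynomial S B₀) B b) := by
          change chiOf (Cj := C) (ψ'.restrictScalars B₀)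
            ((algebraMap (MvPolynomial S B₀) B' b) ⊗ₜ[B₀] (1 : C₀)) = _
          rw [chiOf_tmul, map_one, mul_one, AlgHom.restrictScalars_apply, ψ'.commutes]
        have e2 : chiOf (Cj := C) (ψ'.restrictScalars B₀) (algebraMap C₀ (B' ⊗[B₀] C₀) c) =
            algebraMap C₀ C c := by
          change chiOf (Cj := C) (ψ'.restrictScalars B₀) ((1 : B') ⊗ₜ[B₀] c) = _
          rw [chiOf_tmul, map_one, map_one, one_mul]
        rw [e1, e2]
      | add x y hx hy => rw [map_add, map_add, map_add, hx, hy]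
    rw [hcomp, hχ]
    exact hhq
  · exact (flat_iff_concrete M₀ B' (B' ⊗[B₀] C₀) h₁).mp hB'

end Data

end Groth.Agent.Helper2.InjStageData
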