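import Mathlib
import Groth.Prelude
import Groth.Agent.Lead.ModDict4

set_option autoImplicit false
open Function TensorProduct Polynomial
universe u

namespace Groth.Agent.Helper2.InjStageSys

open Groth.Agent.Lead.ModDict

/-- a finitely presented `A`-algebra mapping to `B` -/
structure FPStage (A : Type u) [CommRing A] (B : Type u) [CommRing B] [Algebra A B] where
  R : Type u
  [cr : CommRing R]
  [alg : Algebra A R]
  [fp : Algebra.FinitePresentation A R]
  ψ : R →ₐ[A] B

attribute [instance] FPStage.cr FPStage.alg FPStage.fp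

variable (A : Type u) [CommRing A] (B : Type u) [CommRing B] [Algebra A B]

/-- `B` is the filtered colimit of the finitely presented `A`-algebras mapping to it -/
theorem isStageSystem :
    IsStageSystem (A := A) (B := B) (fun j : FPStage A B => j.R) (fun j => j.ψ)
      (fun j j' t => j'.ψ.comp t = j.ψ) where
  compat := fun t ht => ht
  comp := fun t t' ht ht' => by
    rw [← AlgHom.comp_assoc, ht', ht]
  lift := fun j b => by
    haveI : Algebra.FinitePresentation A j.R[X] := Algebra.FinitePresentation.polynomial A j.R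
    refine ⟨⟨j.R[X], Polynomial.aevalTower j.ψ b⟩, IsScalarTower.toAlgHom A j.R j.R[X],
      Polynomial.aevalTower_comp_toAlgHom j.ψ b, ⟨Polynomial.X, Polynomial.aevalTower_X j.ψ b⟩⟩
  kill := fun j r hr => by
    haveI : Algebra.FinitePresentation j.R (j.R ⧸ Ideal.span {r}) :=
      Algebra.FinitePresentation.quotient ⟨{r}, by simp⟩
    haveI : Algebra.FinitePresentation A (j.R ⧸ Ideal.span {r}) :=
      Algebra.FinitePresentation.trans A j.R _
    have hI : ∀ a ∈ Ideal.span {r}, j.ψ a = 0 := by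
      intro a ha
      obtain ⟨c, rfl⟩ := Ideal.mem_span_singleton'.mp ha
      rw [map_mul, hr, mul_zero]
    refine ⟨⟨j.R ⧸ Ideal.span {r}, Ideal.Quotient.liftₐ (Ideal.span {r}) j.ψ hI⟩,
      Ideal.Quotient.mkₐ A (Ideal.span {r}), Ideal.Quotient.liftₐ_comp _ _ _, ?_⟩
    exact Ideal.Quotient.eq_zero_iff_mem.mpr (Ideal.subset_span rfl)

variable {A B}

/-- every element of `N ⊗ B` comes from a finitely presented stage -/
theorem exists_lift_tensor {N : Type u} [AddCommGroup N] [Module A N] (j : FPStage A B)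
    (z : N ⊗[A] B) :
    ∃ (j' : FPStage A B) (t : j.R →ₐ[A] j'.R), j'.ψ.comp t = j.ψ ∧
      ∃ z' : N ⊗[A] j'.R, j'.ψ.toLinearMap.lTensor N z' = z := by
  have hsys := isStageSystem A B
  induction z using TensorProduct.induction_on generalizing j with
  | zero => exact ⟨j, AlgHom.id A j.R, AlgHom.comp_id _, 0, map_zero _⟩
  | tmul n b =>
    obtain ⟨j', t, ht, ⟨r, hr⟩⟩ := hsys.lift j b
    exact ⟨j', t, ht, n ⊗ₜ[A] r, by rw [LinearMap.lTensor_tmul]; exact congrArg _ hr⟩
  | add z₁ z₂ h₁ h₂ =>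
    obtain ⟨j₁, t₁, ht₁, z₁', hz₁⟩ := h₁ j
    obtain ⟨j₂, t₂, ht₂, z₂', hz₂⟩ := h₂ j₁
    refine ⟨j₂, t₂.comp t₁, hsys.comp _ _ ht₁ ht₂, t₂.toLinearMap.lTensor N z₁' + z₂', ?_⟩
    rw [map_add, hz₂, ← LinearMap.comp_apply, ← LinearMap.lTensor_comp, ← AlgHom.comp_toLinearMap,
      ht₂, hz₁]

/-- a finite family of elements of `N ⊗ R` vanishing in `N ⊗ B` vanishes at a later stage -/
theorem exists_stage_lTensor_eq_zero {N : Type u} [AddCommGroup N] [Module A N]
    {ι : Type*} (s : Finset ι) (j : FPStage A B) (z : ι → N ⊗[A] j.R)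
    (hz : ∀ i ∈ s, j.ψ.toLinearMap.lTensor N (z i) = 0) :
    ∃ (j' : FPStage A B) (t : j.R →ₐ[A] j'.R), j'.ψ.comp t = j.ψ ∧
      ∀ i ∈ s, t.toLinearMap.lTensor N (z i) = 0 := by
  classical
  have hsys := isStageSystem A B
  induction s using Finset.induction_on with
  | empty => exact ⟨j, AlgHom.id A j.R, AlgHom.comp_id _, fun i hi => absurd hi (Finset.notMem_empty i)⟩
  | insert a s ha ih =>
    obtain ⟨j₁, t₁, ht₁, h₁⟩ := ih (fun i hi => hz i (Finset.mem_insert_of_mem hi))
    obtain ⟨j₂, t₂, ht₂, h₂⟩ := lTensor_eq_zero_stage hsys j₁ (t₁.toLinearMap.lTensor N (z a)) (by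
      rw [← LinearMap.comp_apply, ← LinearMap.lTensor_comp, ← AlgHom.comp_toLinearMap]
      change (j₁.ψ.comp t₁).toLinearMap.lTensor N (z a) = 0
      rw [ht₁]
      exact hz a (Finset.mem_insert_self a s))
    refine ⟨j₂, t₂.comp t₁, hsys.comp _ _ ht₁ ht₂, fun i hi => ?_⟩
    rw [AlgHom.comp_toLinearMap, LinearMap.lTensor_comp, LinearMap.comp_apply]
    rcases Finset.mem_insert.mp hi with rfl | hi
    · exact h₂
    · rw [h₁ i hi, map_zero]

end Groth.Agent.Helper2.InjStageSys
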