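import Mathlib
import Groth.Prelude
import Groth.Agent.Helper2.InjStageChi
import Groth.Agent.Helper2.InjStageSys

set_option autoImplicit false
open Function TensorProduct
universe u

namespace Groth.Agent.Helper2.InjStageDesc

open Groth.Agent.Helper2.InjStageImg Groth.Agent.Helper2.InjStageChi
  Groth.Agent.Helper2.InjStageSys

attribute [local instance] Algebra.TensorProduct.rightAlgebra

section Desc
variable {B₀ C₀ : Type u} [CommRing B₀] [CommRing C₀] [Algebra B₀ C₀]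
  {B C : Type u} [CommRing B] [CommRing C] [Algebra B₀ B] [Algebra B C] [Algebra C₀ C]
  [Algebra B₀ C] [IsScalarTower B₀ B C] [IsScalarTower B₀ C₀ C] [Algebra.IsPushout B₀ B C₀ C]

theorem chiOf_comm {R : Type u} [CommRing R] [Algebra B₀ R] (ψ : R →ₐ[B₀] B)
    (y' : C₀ ⊗[B₀] R) :
    chiOf (Cj := C) ψ (TensorProduct.comm B₀ C₀ R y') =
      Algebra.IsPushout.equiv B₀ B C₀ C
        (TensorProduct.comm B₀ C₀ B (ψ.toLinearMap.lTensor C₀ y')) := by
  induction y' using TensorProduct.induction_on with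
  | zero => simp
  | add a b ha hb => simp only [map_add, ha, hb]
  | tmul c r =>
    rw [TensorProduct.comm_tmul, chiOf_tmul, LinearMap.lTensor_tmul, TensorProduct.comm_tmul,
      Algebra.IsPushout.equiv_tmul]
    rfl

/-- every element of the limit ring `C` comes from a finitely presented stage -/
theorem exists_lift_elt (j : FPStage B₀ B) (t : C) :
    ∃ (j' : FPStage B₀ B) (t₀ : j.R →ₐ[B₀] j'.R), j'.ψ.comp t₀ = j.ψ ∧
      ∃ t' : j'.R ⊗[B₀] C₀, chiOf (Cj := C) j'.ψ t' = t := by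
  obtain ⟨j', t₀, ht₀, y', hy'⟩ := exists_lift_tensor (N := C₀) j
    (TensorProduct.comm B₀ B C₀ ((Algebra.IsPushout.equiv B₀ B C₀ C).symm t))
  refine ⟨j', t₀, ht₀, TensorProduct.comm B₀ C₀ j'.R y', ?_⟩
  rw [chiOf_comm, hy']
  have : TensorProduct.comm B₀ C₀ B (TensorProduct.comm B₀ B C₀
      ((Algebra.IsPushout.equiv B₀ B C₀ C).symm t)) = (Algebra.IsPushout.equiv B₀ B C₀ C).symm t :=
    (TensorProduct.comm B₀ B C₀).symm_apply_apply _
  rw [this, AlgEquiv.apply_symm_apply]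

variable (M₀ : Type u) [AddCommGroup M₀] [Module C₀ M₀] [Module B₀ M₀] [IsScalarTower B₀ C₀ M₀]

/-- naturality of the cancellation isomorphism in the stage -/
theorem lam_natural {R : Type u} [CommRing R] [Algebra B₀ R]
    {Bj Cj : Type u} [CommRing Bj] [CommRing Cj] [Algebra B₀ Bj] [Algebra Bj Cj] [Algebra C₀ Cj]
    [Algebra B₀ Cj] [IsScalarTower B₀ Bj Cj] [IsScalarTower B₀ C₀ Cj]
    [Algebra.IsPushout B₀ Bj C₀ Cj] (θ : R →ₐ[B₀] Bj) (y : R ⊗[B₀] M₀) :
    imgC M₀ (chiCOf (Cj := Cj) θ)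
        ((Algebra.IsPushout.cancelBaseChange B₀ R C₀ (R ⊗[B₀] C₀) M₀).symm y) =
      (Algebra.IsPushout.cancelBaseChange B₀ Bj C₀ Cj M₀).symm
        (θ.toLinearMap.rTensor M₀ y) := by
  induction y using TensorProduct.induction_on with
  | zero => simp
  | add a b ha hb => simp only [map_add, ha, hb]
  | tmul r m =>
    rw [Algebra.IsPushout.cancelBaseChange_symm_tmul, imgC_tmul, LinearMap.rTensor_tmul,
      Algebra.IsPushout.cancelBaseChange_symm_tmul, chiCOf_algebraMap]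
    rfl

/-- a finite family of elements of a stage module vanishing at the limit vanishes at a later
stage -/
theorem exists_stage_kill {ι : Type*} (s : Finset ι) (j : FPStage B₀ B)
    (z : ι → (j.R ⊗[B₀] C₀) ⊗[C₀] M₀)
    (hz : ∀ i ∈ s, imgC M₀ (chiCOf (Cj := C) j.ψ) (z i) = 0) :
    ∃ (j' : FPStage B₀ B) (t₀ : j.R →ₐ[B₀] j'.R), j'.ψ.comp t₀ = j.ψ ∧
      ∀ i ∈ s, imgC M₀ (chiCOf (Cj := j'.R ⊗[B₀] C₀) t₀) (z i) = 0 := by
  let lam := Algebra.IsPushout.cancelBaseChange B₀ j.R C₀ (j.R ⊗[B₀] C₀) M₀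
  have hz' : ∀ i ∈ s, j.ψ.toLinearMap.lTensor M₀
      (TensorProduct.comm B₀ j.R M₀ (lam (z i))) = 0 := by
    intro i hi
    rw [LinearMap.lTensor_comm]
    have h1 := lam_natural (C₀ := C₀) M₀ (Bj := B) (Cj := C) j.ψ (lam (z i))
    rw [LinearEquiv.symm_apply_apply, hz i hi] at h1
    have h2 : j.ψ.toLinearMap.rTensor M₀ (lam (z i)) = 0 :=
      (Algebra.IsPushout.cancelBaseChange B₀ B C₀ C M₀).symm.injective (by rw [← h1, map_zero])
    rw [h2, map_zero]
  obtain ⟨j', t₀, ht₀, hk⟩ := exists_stage_lTensor_eq_zero (N := M₀) s j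
    (fun i => TensorProduct.comm B₀ j.R M₀ (lam (z i))) hz'
  refine ⟨j', t₀, ht₀, fun i hi => ?_⟩
  have h3 := hk i hi
  rw [LinearMap.lTensor_comm] at h3
  have h4 : t₀.toLinearMap.rTensor M₀ (lam (z i)) = 0 :=
    (TensorProduct.comm B₀ j'.R M₀).injective (by rw [h3, map_zero])
  have h5 := lam_natural (C₀ := C₀) M₀ (Bj := j'.R) (Cj := j'.R ⊗[B₀] C₀) t₀ (lam (z i))
  rw [LinearEquiv.symm_apply_apply, h4, map_zero] at h5
  exact h5

end Desc

end Groth.Agent.Helper2.InjStageDesc
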