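import Mathlib
import Groth.Prelude
import Groth.Agent.Helper2.KerFP

set_option autoImplicit false
open Function TensorProduct
universe u

namespace Groth.Agent.Helper2.InjStageFG

set_option maxHeartbeats 1000000 in
/-- **Finite generation of the kernel up to powers of `h`**: `E₁` a finitely presented
`A`-algebra, `u₁ : M₁ → N₁` a map of finitely presented `E₁`-modules with cokernel `Q₁` such that
`(Q₁)_h` is flat over `A`.  Then there are finitely many elements of `ker u₁` generating it up to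
powers of `h`. -/
theorem exists_finite_ker_gens {A E₁ : Type u} [CommRing A] [CommRing E₁] [Algebra A E₁]
    [Algebra.FinitePresentation A E₁]
    {M₁ N₁ Q₁ : Type u} [AddCommGroup M₁] [Module E₁ M₁] [AddCommGroup N₁] [Module E₁ N₁]
    [AddCommGroup Q₁] [Module E₁ Q₁] [Module.Finite E₁ M₁] [Module.FinitePresentation E₁ N₁]
    [Module.FinitePresentation E₁ Q₁]
    (u₁ : M₁ →ₗ[E₁] N₁) (π₁ : N₁ →ₗ[E₁] Q₁) (hex : Function.Exact u₁ π₁) (hπ : Surjective π₁)
    (h : E₁) (hflat : Module.Flat A (Localization.Away h ⊗[E₁] Q₁)) :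
    ∃ s : Finset M₁, (∀ k ∈ s, u₁ k = 0) ∧
      ∀ k, u₁ k = 0 → ∃ n : ℕ, h ^ n • k ∈ Submodule.span E₁ (s : Set M₁) := by
  classical
  let D₁ := Localization.Away h
  let p := Submonoid.powers h
  haveI : Algebra.FinitePresentation E₁ D₁ := IsLocalization.Away.finitePresentation h
  haveI : Algebra.FinitePresentation A D₁ := Algebra.FinitePresentation.trans A E₁ D₁
  let u' : D₁ ⊗[E₁] M₁ →ₗ[D₁] D₁ ⊗[E₁] N₁ := u₁.baseChange D₁
  let π' : D₁ ⊗[E₁] N₁ →ₗ[D₁] D₁ ⊗[E₁] Q₁ := π₁.baseChange D₁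
  have hπ' : Surjective π' := by
    change Surjective (π₁.baseChange D₁)
    rw [LinearMap.baseChange_eq_ltensor]
    exact LinearMap.lTensor_surjective D₁ hπ
  have hex' : Function.Exact u' π' := by
    have := lTensor_exact D₁ hex hπ
    rwa [← LinearMap.baseChange_eq_ltensor, ← LinearMap.baseChange_eq_ltensor] at this
  haveI hkfp : Module.FinitePresentation D₁ (LinearMap.ker π') :=
    KerFP.fp_ker_of_flat (A := A) (B := D₁) (D₁ ⊗[E₁] Q₁) π' hπ'
  have hrange : LinearMap.range u' = LinearMap.ker π' := (LinearMap.exact_iff.mp hex').symm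
  haveI : Module.FinitePresentation D₁ (LinearMap.range u') := by rw [hrange]; exact hkfp
  have hKfg : (LinearMap.ker u').FG := by
    haveI : Module.Finite D₁ (D₁ ⊗[E₁] M₁) := inferInstance
    have hs : Surjective (LinearMap.rangeRestrict u') := LinearMap.surjective_rangeRestrict u'
    have h' := @Module.FinitePresentation.fg_ker D₁ (D₁ ⊗[E₁] M₁) (LinearMap.range u') _ _ _ _ _ _ _
      (LinearMap.rangeRestrict u') hs
    rwa [LinearMap.ker_rangeRestrict] at h' 
  let f : M₁ →ₗ[E₁] D₁ ⊗[E₁] M₁ := TensorProduct.mk E₁ D₁ M₁ 1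
  let fN : N₁ →ₗ[E₁] D₁ ⊗[E₁] N₁ := TensorProduct.mk E₁ D₁ N₁ 1
  haveI : IsLocalizedModule p f :=
    (isLocalizedModule_iff_isBaseChange p D₁ _).mpr (TensorProduct.isBaseChange E₁ M₁ D₁)
  haveI : IsLocalizedModule p fN :=
    (isLocalizedModule_iff_isBaseChange p D₁ _).mpr (TensorProduct.isBaseChange E₁ N₁ D₁)
  have hfu : ∀ m : M₁, u' (f m) = fN (u₁ m) := fun m => by
    change u₁.baseChange D₁ ((1 : D₁) ⊗ₜ[E₁] m) = (1 : D₁) ⊗ₜ[E₁] (u₁ m)
    rw [LinearMap.baseChange_tmul]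
  have hsmul : ∀ (c : E₁) (g : D₁ ⊗[E₁] M₁), u' (c • g) = c • u' g := fun c g => by
    rw [← algebraMap_smul D₁ c g, map_smul, algebraMap_smul]
  -- (i)
  have hi : ∀ g ∈ LinearMap.ker u', ∃ k : M₁, u₁ k = 0 ∧ ∃ c : p, f k = c • g := by
    intro g hg
    obtain ⟨⟨m, s⟩, hms⟩ := IsLocalizedModule.surj p f g
    have hms' : (s : E₁) • g = f m := hms
    have h0 : fN (u₁ m) = 0 := by
      rw [← hfu, ← hms', hsmul, LinearMap.mem_ker.mp hg, smul_zero]
    obtain ⟨c, hc⟩ := (IsLocalizedModule.eq_zero_iff p fN).mp h0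
    have hc' : (c : E₁) • u₁ m = 0 := hc
    refine ⟨(c : E₁) • m, by rw [map_smul]; exact hc', c * s, ?_⟩
    rw [map_smul, ← hms']
    change (c : E₁) • (s : E₁) • g = ((c * s : p) : E₁) • g
    rw [Submonoid.coe_mul, mul_smul]
  obtain ⟨G, hG⟩ := hKfg
  choose! κ hκ0 cκ hκ using hi
  have hGmem : ∀ g ∈ G, g ∈ LinearMap.ker u' := fun g hg => hG ▸ Submodule.subset_span hg
  refine ⟨G.image κ, ?_, ?_⟩
  · intro k hk
    obtain ⟨g, hg, rfl⟩ := Finset.mem_image.mp hk
    exact hκ0 g (hGmem g hg)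
  · intro k hk
    have hmem : f k ∈ LinearMap.ker u' := by
      rw [LinearMap.mem_ker, hfu, hk, map_zero]
    have hle : LinearMap.ker u' ≤
        (Submodule.span E₁ (↑(G.image κ) : Set M₁)).localized' D₁ p f := by
      rw [← hG, Submodule.span_le]
      intro g hg
      exact ⟨κ g, Submodule.subset_span (Finset.mem_coe.mpr (Finset.mem_image_of_mem κ hg)),
        cκ g, IsLocalizedModule.mk'_eq_iff.mpr (hκ g (hGmem g hg))⟩
    obtain ⟨m, hm, t, hmt⟩ := hle hmem
    rw [IsLocalizedModule.mk'_eq_iff] at hmt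
    have hmt' : f m = f ((t : E₁) • k) := by
      rw [hmt, map_smul]; rfl
    obtain ⟨c, hc⟩ := IsLocalizedModule.exists_of_eq (S := p) hmt'
    have hc' : (c : E₁) • m = (c : E₁) • (t : E₁) • k := hc
    obtain ⟨_, ⟨a, rfl⟩⟩ := c
    obtain ⟨_, ⟨b, rfl⟩⟩ := t
    refine ⟨a + b, ?_⟩
    have : h ^ (a + b) • k = h ^ a • m := by
      rw [pow_add, mul_smul]; exact hc'.symm
    rw [this]
    exact Submodule.smul_mem _ _ hm

end Groth.Agent.Helper2.InjStageFG
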