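import Mathlib
import Groth.Prelude
import Groth.Agent.Helper2.InjStageData
import Groth.Agent.Helper2.InjStageDesc
import Groth.Agent.Helper2.InjStageFG

set_option autoImplicit false
open Function TensorProduct
universe u

namespace Groth.Agent.Helper2.InjStageAlg

open Groth.Agent.Helper2.FlatStageAlg Groth.Agent.Helper2.InjStageImg
  Groth.Agent.Helper2.InjStageChi Groth.Agent.Helper2.InjStageSys
  Groth.Agent.Helper2.InjStageDesc Groth.Agent.Helper2.InjStageData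

attribute [local instance] Algebra.TensorProduct.rightAlgebra

section Main
variable {B₀ C₀ : Type u} [CommRing B₀] [CommRing C₀] [Algebra B₀ C₀]
  [Algebra.FinitePresentation B₀ C₀]
  {M₀ N₀ : Type u} [AddCommGroup M₀] [Module C₀ M₀] [Module.Finite C₀ M₀] [Module B₀ M₀]
  [IsScalarTower B₀ C₀ M₀] [AddCommGroup N₀] [Module C₀ N₀] [Module.FinitePresentation C₀ N₀]
  (u₀ : M₀ →ₗ[C₀] N₀)

set_option maxHeartbeats 2000000 in
/-- **Ring-level (⇒) of S4901**. -/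
theorem exists_fp_pointed_inj
    {B C : Type u} [CommRing B] [CommRing C] [Algebra B₀ B] [Algebra B C] [Algebra C₀ C]
    [Algebra B₀ C] [IsScalarTower B₀ B C] [IsScalarTower B₀ C₀ C] [Algebra.IsPushout B₀ B C₀ C]
    (q : Ideal C) [q.IsPrime]
    (ha : ∀ z : C ⊗[C₀] M₀, u₀.baseChange C z = 0 → ∃ t : C, t ∉ q ∧ t • z = 0)
    (hb : Module.Flat B
      (LocalizedModule q.primeCompl (C ⊗[C₀] (N₀ ⧸ LinearMap.range u₀)))) :
    ∃ (B' : Type u) (_ : CommRing B') (_ : Algebra B₀ B') (_ : Algebra.FinitePresentation B₀ B')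
      (ψ : B' →ₐ[B₀] B),
      ∀ (Bj Cj : Type u) [CommRing Bj] [CommRing Cj] [Algebra B₀ Bj] [Algebra Bj Cj]
        [Algebra C₀ Cj] [Algebra B₀ Cj] [IsScalarTower B₀ Bj Cj] [IsScalarTower B₀ C₀ Cj]
        [Algebra.IsPushout B₀ Bj C₀ Cj] (θ : B' →ₐ[B₀] Bj) (ωB : Bj →ₐ[B₀] B) (ωC : Cj →ₐ[C₀] C)
        (_ : ωB.comp θ = ψ) (_ : ∀ b, ωC (algebraMap Bj Cj b) = algebraMap B C (ωB b))
        (qj : Ideal Cj) [qj.IsPrime] (_ : qj = q.comap ωC.toRingHom),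
        (∀ z : Cj ⊗[C₀] M₀, u₀.baseChange Cj z = 0 → ∃ t : Cj, t ∉ qj ∧ t • z = 0) ∧
        Module.Flat Bj
          (LocalizedModule qj.primeCompl (Cj ⊗[C₀] (N₀ ⧸ LinearMap.range u₀))) := by
  classical
  haveI hQfp : Module.FinitePresentation C₀ (N₀ ⧸ LinearMap.range u₀) := by
    refine Module.finitePresentation_of_surjective (LinearMap.range u₀).mkQ
      (Submodule.mkQ_surjective _) ?_
    rw [Submodule.ker_mkQ, LinearMap.range_eq_map]
    exact (Module.Finite.fg_top).map _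
  -- Step 1: the flat stage
  obtain ⟨R₁, _, _, _, ψ₁, h₁, hh₁, hflat₁⟩ :=
    exists_flat_data (B₀ := B₀) (C₀ := C₀) (N₀ ⧸ LinearMap.range u₀) q hb
  have hflat₁' := flat_tensor_of_flat_localized (A := R₁) (E := R₁ ⊗[B₀] C₀)
    (X := (R₁ ⊗[B₀] C₀) ⊗[C₀] (N₀ ⧸ LinearMap.range u₀)) h₁ hflat₁
  -- Step 2: finite generation of the kernel at the flat stage
  haveI : Algebra.FinitePresentation R₁ (R₁ ⊗[B₀] C₀) := Algebra.FinitePresentation.baseChange R₁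
  have hπ : Surjective ((LinearMap.range u₀).mkQ.baseChange (R₁ ⊗[B₀] C₀)) := by
    rw [LinearMap.baseChange_eq_ltensor]
    exact LinearMap.lTensor_surjective _ (Submodule.mkQ_surjective _)
  have hex : Function.Exact (u₀.baseChange (R₁ ⊗[B₀] C₀))
      ((LinearMap.range u₀).mkQ.baseChange (R₁ ⊗[B₀] C₀)) := by
    have h0 : Function.Exact u₀ (LinearMap.range u₀).mkQ := LinearMap.exact_map_mkQ_range u₀
    have := lTensor_exact (R₁ ⊗[B₀] C₀) h0 (Submodule.mkQ_surjective _)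
    rwa [← LinearMap.baseChange_eq_ltensor, ← LinearMap.baseChange_eq_ltensor] at this
  obtain ⟨s, hs0, hsgen⟩ := InjStageFG.exists_finite_ker_gens (A := R₁) (E₁ := R₁ ⊗[B₀] C₀)
    (u₀.baseChange (R₁ ⊗[B₀] C₀)) ((LinearMap.range u₀).mkQ.baseChange (R₁ ⊗[B₀] C₀))
    hex hπ h₁ hflat₁'
  -- Step 4: kill the images at the limit
  have hkC : ∀ k ∈ s, ∃ t : C, t ∉ q ∧ t • imgC M₀ (chiCOf (Cj := C) ψ₁) k = 0 := by
    intro k hk
    apply ha
    rw [imgC_baseChange, hs0 k hk, map_zero]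
  choose! τ hτq hτ using hkC
  obtain ⟨t, htdef⟩ : ∃ t : C, t = ∏ k ∈ s, τ k := ⟨_, rfl⟩
  have htq : t ∉ q := by
    intro hmem
    rw [htdef] at hmem
    obtain ⟨k, hk, hkq⟩ := (Ideal.IsPrime.prod_mem_iff.mp hmem)
    exact hτq k hk hkq
  have htk : ∀ k ∈ s, t • imgC M₀ (chiCOf (Cj := C) ψ₁) k = 0 := by
    intro k hk
    obtain ⟨c, hc⟩ := Finset.dvd_prod_of_mem τ hk
    rw [htdef, hc, mul_comm, mul_smul, hτ k hk, smul_zero]
  -- Step 5: descend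
  obtain ⟨j₂, t₁₂, ht₁₂, t₂, ht₂⟩ := exists_lift_elt (C₀ := C₀) (C := C) (⟨R₁, ψ₁⟩ : FPStage B₀ B) t
  have ht₁₂' : j₂.ψ.comp t₁₂ = ψ₁ := ht₁₂
  obtain ⟨j₃, t₂₃, ht₂₃, hkill⟩ := exists_stage_kill (C := C) M₀ s j₂
    (fun k => t₂ • imgC M₀ (chiCOf (Cj := j₂.R ⊗[B₀] C₀) t₁₂) k) (by
      intro k hk
      change imgC M₀ (chiCOf (Cj := C) j₂.ψ)
        (t₂ • imgC M₀ (chiCOf (Cj := j₂.R ⊗[B₀] C₀) t₁₂) k) = 0
      rw [imgC_smul, chiCOf_apply, ht₂, imgC_comp, chiCOf_trans, ht₁₂']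
      exact htk k hk)
  obtain ⟨t₁₃, ht₁₃def⟩ : ∃ t₁₃ : R₁ →ₐ[B₀] j₃.R, t₁₃ = t₂₃.comp t₁₂ := ⟨_, rfl⟩
  have ht₁₃ : j₃.ψ.comp t₁₃ = ψ₁ := by
    rw [ht₁₃def, ← AlgHom.comp_assoc, ht₂₃, ht₁₂']
  obtain ⟨t₃, ht₃def⟩ : ∃ t₃ : j₃.R ⊗[B₀] C₀, t₃ = chiOf (Cj := j₃.R ⊗[B₀] C₀) t₂₃ t₂ := ⟨_, rfl⟩
  have hF1 : ∀ k ∈ s, t₃ • imgC M₀ (chiCOf (Cj := j₃.R ⊗[B₀] C₀) t₁₃) k = 0 := by
    intro k hk
    have := hkill k hk
    change imgC M₀ (chiCOf (Cj := j₃.R ⊗[B₀] C₀) t₂₃)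
      (t₂ • imgC M₀ (chiCOf (Cj := j₂.R ⊗[B₀] C₀) t₁₂) k) = 0 at this
    rw [imgC_smul, chiCOf_apply, imgC_comp, chiCOf_trans, ← ht₃def, ← ht₁₃def] at this
    exact this
  have hF2 : chiOf (Cj := C) j₃.ψ t₃ = t := by
    rw [ht₃def, chiOf_trans, ht₂₃, ht₂]
  refine ⟨j₃.R, inferInstance, inferInstance, inferInstance, j₃.ψ, ?_⟩
  intro Bj Cj _ _ _ _ _ _ _ _ _ θ ωB ωC h1 h2 qj _ hqj
  obtain ⟨θ₁, hθ₁def⟩ : ∃ θ₁ : R₁ →ₐ[B₀] Bj, θ₁ = θ.comp t₁₃ := ⟨_, rfl⟩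
  have hωθ₁ : ωB.comp θ₁ = ψ₁ := by
    rw [hθ₁def, ← AlgHom.comp_assoc, h1, ht₁₃]
  have hhj : chiOf (Cj := Cj) θ₁ h₁ ∉ qj := by
    rw [hqj, Ideal.mem_comap]
    change ωC (chiOf (Cj := Cj) θ₁ h₁) ∉ q
    rw [chiOf_comp θ₁ ωB ωC h2, hωθ₁]
    exact hh₁
  have htj : chiOf (Cj := Cj) θ t₃ ∉ qj := by
    rw [hqj, Ideal.mem_comap]
    change ωC (chiOf (Cj := Cj) θ t₃) ∉ q
    rw [chiOf_comp θ ωB ωC h2, h1, hF2]
    exact htq
  refine ⟨?_, ?_⟩
  · intro z hz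
    obtain ⟨n, hn⟩ := kg_stage Bj Cj u₀ h₁ hflat₁' θ₁ z hz
    -- Claim A
    have hA : ∀ y ∈ Submodule.span (R₁ ⊗[B₀] C₀) (s : Set ((R₁ ⊗[B₀] C₀) ⊗[C₀] M₀)),
        chiOf (Cj := Cj) θ t₃ • imgC M₀ (chiCOf (Cj := Cj) θ₁) y = 0 := by
      intro y hy
      induction hy using Submodule.span_induction with
      | mem k hk =>
        have h3 := congrArg (imgC M₀ (chiCOf (Cj := Cj) θ)) (hF1 k hk)
        rw [imgC_smul, chiCOf_apply, imgC_comp, chiCOf_trans, ← hθ₁def, map_zero] at h3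
        exact h3
      | zero => rw [map_zero, smul_zero]
      | add a b _ _ ha hb => rw [map_add, smul_add, ha, hb, add_zero]
      | smul c a _ ha => rw [imgC_smul, smul_comm, ha, smul_zero]
    -- Claim B
    have hB : ∀ y ∈ Submodule.span Cj (imgC M₀ (chiCOf (Cj := Cj) θ₁) ''
        (LinearMap.ker (u₀.baseChange (R₁ ⊗[B₀] C₀)) : Set ((R₁ ⊗[B₀] C₀) ⊗[C₀] M₀))),
        ∃ m : ℕ, (chiOf (Cj := Cj) θ t₃ * chiOf (Cj := Cj) θ₁ h₁ ^ m) • y = 0 := by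
      intro y hy
      induction hy using Submodule.span_induction with
      | mem y hy =>
        obtain ⟨k', hk', rfl⟩ := hy
        obtain ⟨m, hm⟩ := hsgen k' hk'
        refine ⟨m, ?_⟩
        have := hA _ hm
        rw [imgC_smul, map_pow, chiCOf_apply] at this
        rw [mul_smul]
        exact this
      | zero => exact ⟨0, smul_zero _⟩
      | add a b _ _ ha hb =>
        obtain ⟨m₁, h₁'⟩ := ha
        obtain ⟨m₂, h₂'⟩ := hb
        refine ⟨m₁ + m₂, ?_⟩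
        rw [smul_add]
        have e1 : (chiOf (Cj := Cj) θ t₃ * chiOf (Cj := Cj) θ₁ h₁ ^ (m₁ + m₂)) • a =
            chiOf (Cj := Cj) θ₁ h₁ ^ m₂ • (chiOf (Cj := Cj) θ t₃ * chiOf (Cj := Cj) θ₁ h₁ ^ m₁) • a := by
          rw [smul_smul]; congr 1; ring
        have e2 : (chiOf (Cj := Cj) θ t₃ * chiOf (Cj := Cj) θ₁ h₁ ^ (m₁ + m₂)) • b =
            chiOf (Cj := Cj) θ₁ h₁ ^ m₁ • (chiOf (Cj := Cj) θ t₃ * chiOf (Cj := Cj) θ₁ h₁ ^ m₂) • b := by
          rw [smul_smul]; congr 1; ring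
        rw [e1, e2, h₁', h₂', smul_zero, smul_zero, add_zero]
      | smul c a _ ha =>
        obtain ⟨m, hm⟩ := ha
        exact ⟨m, by rw [smul_comm, hm, smul_zero]⟩
    obtain ⟨m, hm⟩ := hB _ hn
    refine ⟨chiOf (Cj := Cj) θ t₃ * chiOf (Cj := Cj) θ₁ h₁ ^ m * chiOf (Cj := Cj) θ₁ h₁ ^ n, ?_, ?_⟩
    · intro hmem
      rcases (Ideal.IsPrime.mem_or_mem inferInstance hmem) with h' | h'
      · rcases (Ideal.IsPrime.mem_or_mem inferInstance h') with h'' | h''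
        · exact htj h''
        · exact hhj (Ideal.IsPrime.mem_of_pow_mem inferInstance _ h'')
      · exact hhj (Ideal.IsPrime.mem_of_pow_mem inferInstance _ h')
    · rw [mul_smul]; exact hm
  · have hfl := flat_stage Bj Cj (N₀ ⧸ LinearMap.range u₀) h₁ hflat₁ θ₁
    refine LocLoc.flat_atPrime_of_flat_localizedModule Bj (Cj ⊗[C₀] (N₀ ⧸ LinearMap.range u₀))
      (Submonoid.powers (chiOf (Cj := Cj) θ₁ h₁)) qj ?_ hfl
    rw [Submonoid.powers_le]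
    exact hhj

end Main

section Back
variable {B₀ C₀ : Type u} [CommRing B₀] [CommRing C₀] [Algebra B₀ C₀]
  [Algebra.FinitePresentation B₀ C₀]
  {M₀ N₀ : Type u} [AddCommGroup M₀] [Module C₀ M₀] [Module.Finite C₀ M₀]
  [AddCommGroup N₀] [Module C₀ N₀] [Module.FinitePresentation C₀ N₀]
  (u₀ : M₀ →ₗ[C₀] N₀)

set_option maxHeartbeats 2000000 in
/-- **Ring-level (⇐) of S4901**: injectivity with flat cokernel at a stage passes to the limit. -/
theorem kerKilled_of_stage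
    {Bj Cj : Type u} [CommRing Bj] [CommRing Cj] [Algebra B₀ Bj] [Algebra Bj Cj] [Algebra C₀ Cj]
    [Algebra B₀ Cj] [IsScalarTower B₀ Bj Cj] [IsScalarTower B₀ C₀ Cj]
    [Algebra.IsPushout B₀ Bj C₀ Cj]
    {B C : Type u} [CommRing B] [CommRing C] [Algebra B₀ B] [Algebra B C] [Algebra C₀ C]
    [Algebra B₀ C] [IsScalarTower B₀ B C] [IsScalarTower B₀ C₀ C] [Algebra.IsPushout B₀ B C₀ C]
    (ωB : Bj →ₐ[B₀] B) (ωC : Cj →ₐ[C₀] C)
    (h2 : ∀ b, ωC (algebraMap Bj Cj b) = algebraMap B C (ωB b))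
    (q : Ideal C) [q.IsPrime] (qj : Ideal Cj) [qj.IsPrime] (hqj : qj = q.comap ωC.toRingHom)
    (haj : ∀ z : Cj ⊗[C₀] M₀, u₀.baseChange Cj z = 0 → ∃ t : Cj, t ∉ qj ∧ t • z = 0)
    (hbj : Module.Flat Bj
      (LocalizedModule qj.primeCompl (Cj ⊗[C₀] (N₀ ⧸ LinearMap.range u₀)))) :
    ∀ z : C ⊗[C₀] M₀, u₀.baseChange C z = 0 → ∃ t : C, t ∉ q ∧ t • z = 0 := by
  classical
  haveI hQfp : Module.FinitePresentation C₀ (N₀ ⧸ LinearMap.range u₀) := by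
    refine Module.finitePresentation_of_surjective (LinearMap.range u₀).mkQ
      (Submodule.mkQ_surjective _) ?_
    rw [Submodule.ker_mkQ, LinearMap.range_eq_map]
    exact (Module.Finite.fg_top).map _
  haveI : Algebra.FinitePresentation Bj Cj :=
    Algebra.FinitePresentation.equiv (Algebra.IsPushout.equiv B₀ Bj C₀ Cj)
  -- open flat locus at the stage
  have hopen := FlatDescApp.isOpen_flatLocus_fp (R := Bj) (S := Cj)
    (M := Cj ⊗[C₀] (N₀ ⧸ LinearMap.range u₀))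
  obtain ⟨hh, hhq, hsub⟩ : ∃ hh : Cj, hh ∉ qj ∧ ∀ (r : Ideal Cj) [r.IsPrime], hh ∉ r →
      Module.Flat Bj (LocalizedModule r.primeCompl (Cj ⊗[C₀] (N₀ ⧸ LinearMap.range u₀))) := by
    obtain ⟨_, ⟨hh, rfl⟩, hmem, hsub⟩ :=
      PrimeSpectrum.isTopologicalBasis_basic_opens.exists_subset_of_mem_open
        (show (⟨qj, inferInstance⟩ : PrimeSpectrum Cj) ∈ {p : PrimeSpectrum Cj |
          Module.Flat Bj (LocalizedModule p.asIdeal.primeCompl
            (Cj ⊗[C₀] (N₀ ⧸ LinearMap.range u₀)))} from hbj) hopen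
    exact ⟨hh, hmem, fun r _ hr => hsub (show (⟨r, inferInstance⟩ : PrimeSpectrum Cj) ∈
      (PrimeSpectrum.basicOpen hh : Set (PrimeSpectrum Cj)) from hr)⟩
  have hNh : Module.Flat Bj (LocalizedModule (Submonoid.powers hh)
      (Cj ⊗[C₀] (N₀ ⧸ LinearMap.range u₀))) :=
    LocLoc.flat_localizedModule_of_forall_atPrime Bj (Cj ⊗[C₀] (N₀ ⧸ LinearMap.range u₀))
      (Submonoid.powers hh)
      (fun r _ hr => hsub r (fun hmem => hr (Submonoid.mem_powers hh) hmem))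
  have hflat' := flat_tensor_of_flat_localized (A := Bj) (E := Cj)
    (X := Cj ⊗[C₀] (N₀ ⧸ LinearMap.range u₀)) hh hNh
  -- the algebra structures of the limit over the stage
  letI aB : Algebra Bj B := ωB.toRingHom.toAlgebra
  haveI tB : IsScalarTower B₀ Bj B :=
    IsScalarTower.of_algebraMap_eq (fun a => (ωB.commutes a).symm)
  letI aC : Algebra Cj C := ωC.toRingHom.toAlgebra
  haveI tC : IsScalarTower C₀ Cj C :=
    IsScalarTower.of_algebraMap_eq (fun a => (ωC.commutes a).symm)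
  letI aBC : Algebra Bj C := ((algebraMap B C).comp (algebraMap Bj B)).toAlgebra
  haveI t1 : IsScalarTower Bj B C := IsScalarTower.of_algebraMap_eq (fun _ => rfl)
  haveI t2 : IsScalarTower Bj Cj C := IsScalarTower.of_algebraMap_eq (fun b => (h2 b).symm)
  haveI hpush : Algebra.IsPushout Bj B Cj C :=
    isPushout_stage (B₀ := B₀) (C₀ := C₀) (B₁ := Bj) (C₁ := Cj) B C
  intro z hz
  obtain ⟨n, hn⟩ := exists_pow_smul_mem_span_tower (T₁ := Bj) (T := B) (E₁ := Cj) (E := C)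
    u₀ hh hflat' z hz
  have hP : ∀ y ∈ Submodule.span C (imgC M₀ (IsScalarTower.toAlgHom C₀ Cj C) ''
      (LinearMap.ker (u₀.baseChange Cj) : Set (Cj ⊗[C₀] M₀))),
      ∃ t : C, t ∉ q ∧ t • y = 0 := by
    intro y hy
    induction hy using Submodule.span_induction with
    | mem y hy =>
      obtain ⟨k', hk', rfl⟩ := hy
      obtain ⟨t', ht'q, ht'⟩ := haj k' hk'
      refine ⟨ωC t', ?_, ?_⟩
      · intro hmem
        apply ht'q
        rw [hqj]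
        exact hmem
      · have := imgC_smul M₀ (IsScalarTower.toAlgHom C₀ Cj C) t' k'
        rw [ht', map_zero] at this
        exact this.symm
    | zero => exact ⟨1, (Ideal.ne_top_iff_one q).mp (Ideal.IsPrime.ne_top inferInstance), smul_zero _⟩
    | add a b _ _ ha hb =>
      obtain ⟨t₁, h₁q, h₁⟩ := ha
      obtain ⟨t₂, h₂q, h₂⟩ := hb
      refine ⟨t₁ * t₂, fun hmem => ?_, ?_⟩
      · rcases Ideal.IsPrime.mem_or_mem inferInstance hmem with h | h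
        · exact h₁q h
        · exact h₂q h
      · rw [smul_add, mul_comm, mul_smul, h₁, smul_zero, mul_comm, mul_smul, h₂, smul_zero,
          add_zero]
    | smul c a _ ha =>
      obtain ⟨t₁, h₁q, h₁⟩ := ha
      exact ⟨t₁, h₁q, by rw [smul_comm, h₁, smul_zero]⟩
  obtain ⟨t, htq, ht⟩ := hP _ hn
  refine ⟨t * (algebraMap Cj C hh) ^ n, fun hmem => ?_, by rw [mul_smul]; exact ht⟩
  rcases Ideal.IsPrime.mem_or_mem inferInstance hmem with h | h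
  · exact htq h
  · have h' := Ideal.IsPrime.mem_of_pow_mem inferInstance _ h
    apply hhq
    rw [hqj]
    exact h'

end Back

end Groth.Agent.Helper2.InjStageAlg
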