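import Mathlib
import Groth.Prelude
import Groth.Agent.Helper2.InjStageAlg

set_option autoImplicit false
open Function TensorProduct
universe u

namespace Groth.Agent.Helper2.InjStageBack
open Groth.Agent.Helper2.FlatStageAlg Groth.Agent.Helper2.InjStageImg
  Groth.Agent.Helper2.InjStageChi Groth.Agent.Helper2

section Back
variable {B₀ C₀ : Type u} [CommRing B₀] [CommRing C₀] [Algebra B₀ C₀]
  [Algebra.FinitePresentation B₀ C₀]
  (Q₀ : Type u) [AddCommGroup Q₀] [Module C₀ Q₀] [Module.FinitePresentation C₀ Q₀]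

set_option maxHeartbeats 2000000 in
/-- flatness at a prime of a stage passes to the limit -/
theorem flat_of_stage
    {Bj Cj : Type u} [CommRing Bj] [CommRing Cj] [Algebra B₀ Bj] [Algebra Bj Cj] [Algebra C₀ Cj]
    [Algebra B₀ Cj] [IsScalarTower B₀ Bj Cj] [IsScalarTower B₀ C₀ Cj]
    [Algebra.IsPushout B₀ Bj C₀ Cj]
    {B C : Type u} [CommRing B] [CommRing C] [Algebra B₀ B] [Algebra B C] [Algebra C₀ C]
    [Algebra B₀ C] [IsScalarTower B₀ B C] [IsScalarTower B₀ C₀ C] [Algebra.IsPushout B₀ B C₀ C]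
    (ωB : Bj →ₐ[B₀] B) (ωC : Cj →ₐ[C₀] C)
    (h2 : ∀ b, ωC (algebraMap Bj Cj b) = algebraMap B C (ωB b))
    (q : Ideal C) [q.IsPrime] (qj : Ideal Cj) [qj.IsPrime] (hqj : qj = q.comap ωC.toRingHom)
    (hbj : Module.Flat Bj (LocalizedModule qj.primeCompl (Cj ⊗[C₀] Q₀))) :
    Module.Flat B (LocalizedModule q.primeCompl (C ⊗[C₀] Q₀)) := by
  classical
  haveI : Algebra.FinitePresentation Bj Cj :=
    Algebra.FinitePresentation.equiv (Algebra.IsPushout.equiv B₀ Bj C₀ Cj)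
  have hopen := FlatDescApp.isOpen_flatLocus_fp (R := Bj) (S := Cj) (M := Cj ⊗[C₀] Q₀)
  obtain ⟨hh, hhq, hsub⟩ : ∃ hh : Cj, hh ∉ qj ∧ ∀ (r : Ideal Cj) [r.IsPrime], hh ∉ r →
      Module.Flat Bj (LocalizedModule r.primeCompl (Cj ⊗[C₀] Q₀)) := by
    obtain ⟨_, ⟨hh, rfl⟩, hmem, hsub⟩ :=
      PrimeSpectrum.isTopologicalBasis_basic_opens.exists_subset_of_mem_open
        (show (⟨qj, inferInstance⟩ : PrimeSpectrum Cj) ∈ {p : PrimeSpectrum Cj |
          Module.Flat Bj (LocalizedModule p.asIdeal.primeCompl (Cj ⊗[C₀] Q₀))} from hbj) hopen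
    exact ⟨hh, hmem, fun r _ hr => hsub (show (⟨r, inferInstance⟩ : PrimeSpectrum Cj) ∈
      (PrimeSpectrum.basicOpen hh : Set (PrimeSpectrum Cj)) from hr)⟩
  have hNh : Module.Flat Bj (LocalizedModule (Submonoid.powers hh) (Cj ⊗[C₀] Q₀)) :=
    LocLoc.flat_localizedModule_of_forall_atPrime Bj (Cj ⊗[C₀] Q₀) (Submonoid.powers hh)
      (fun r _ hr => hsub r (fun hmem => hr (Submonoid.mem_powers hh) hmem))
  have h1 := flat_tensor_of_flat_localized (A := Bj) (E := Cj) (X := Cj ⊗[C₀] Q₀) hh hNh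
  haveI h2' : Module.Flat Bj (Localization.Away hh ⊗[C₀] Q₀) :=
    Module.Flat.of_linearEquiv
      ((AlgebraTensorModule.cancelBaseChange C₀ Cj (Localization.Away hh) (Localization.Away hh)
        Q₀).symm.restrictScalars Bj)
  letI aB : Algebra Bj B := ωB.toRingHom.toAlgebra
  haveI tB : IsScalarTower B₀ Bj B :=
    IsScalarTower.of_algebraMap_eq (fun a => (ωB.commutes a).symm)
  letI aC : Algebra Cj C := ωC.toRingHom.toAlgebra
  haveI tC : IsScalarTower C₀ Cj C :=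
    IsScalarTower.of_algebraMap_eq (fun a => (ωC.commutes a).symm)
  letI aBC : Algebra Bj C := ((algebraMap B C).comp (algebraMap Bj B)).toAlgebra
  haveI t1 : IsScalarTower Bj B C := IsScalarTower.of_algebraMap_eq (fun _ => rfl)
  haveI t2 : IsScalarTower Bj Cj C := IsScalarTower.of_algebraMap_eq (fun b => (h2 b).symm)
  have h3 : Module.Flat B (B ⊗[Bj] (Localization.Away hh ⊗[C₀] Q₀)) := inferInstance
  have h4 := (flat_iff_abstract (B₀ := B₀) (C₀ := C₀) (B₁ := Bj) (C₁ := Cj) Q₀ hh B C).mp h3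
  refine LocLoc.flat_atPrime_of_flat_localizedModule B (C ⊗[C₀] Q₀)
    (Submonoid.powers (algebraMap Cj C hh)) q ?_ h4
  rw [Submonoid.powers_le]
  intro hmem
  apply hhq
  rw [hqj]
  exact hmem

end Back
end Groth.Agent.Helper2.InjStageBack
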