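import Mathlib
import Groth.Prelude
import Groth.Agent.Lead.StalkPull2
import Groth.Agent.Lead.ModDict2
import Groth.Agent.Helper4.QcohEpi
import Groth.Agent.Helper2.InjCokerOpen
import Groth.Agent.Helper2.FlatStageDict

set_option autoImplicit false
open Function TensorProduct CategoryTheory CategoryTheory.Limits AlgebraicGeometry TopologicalSpace
universe u

namespace Groth.Agent.Helper2.InjStageDict
open Groth.Agent.Lead.ModDict Groth.Agent.Helper4 Groth.Agent.Lead.StalkPull Scheme.Modules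
  Groth.Agent.Helper4.QcohEpi Groth.Agent.Helper4.StalkDict Groth.Agent.Helper4.StalkExact

/-- linear equivalences with a commuting square from an isomorphism of arrows of modules -/
theorem exists_equiv_of_arrowIso {R : Type u} [CommRing R] {P P' Q Q' : ModuleCat.{u} R}
    (a : P ⟶ P') (b : Q ⟶ Q') (A : Arrow.mk a ≅ Arrow.mk b) :
    ∃ (eL : P ≃ₗ[R] Q) (eR : P' ≃ₗ[R] Q'), ∀ x, eR (a.hom x) = b.hom (eL x) := by
  refine ⟨(Arrow.leftFunc.mapIso A).toLinearEquiv, (Arrow.rightFunc.mapIso A).toLinearEquiv, ?_⟩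
  intro x
  have h := A.hom.w
  have h' := congrArg (fun φ => φ.hom x) h
  exact h'.symm

section
variable {X : Scheme.{u}} {U : X.Opens} (hU : IsAffineOpen U) {F G : X.Modules} (φ : F ⟶ G)

set_option backward.isDefEq.respectTransparency false in
theorem secFEquiv_natural (m : Γ(F, U)) :
    secFEquiv hU G (φ.app U m) = ((secF hU).map φ).hom (secFEquiv hU F m) := by
  change G.presheaf.map _ (φ.app U m) = (φ.app (hU.fromSpec ''ᵁ ⊤)) (F.presheaf.map _ m)
  exact (StalkExact.app_res φ _ m).symm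
end


set_option backward.isDefEq.respectTransparency false in
set_option maxHeartbeats 1000000 in
theorem exists_arrow_equiv {X' X : Scheme.{u}} (p : X' ⟶ X) {F G : X.Modules}
    [F.IsQuasicoherent] [G.IsQuasicoherent] (δ : F ⟶ G)
    {W : X.Opens} (hW : IsAffineOpen W) {W' : X'.Opens} (hW' : IsAffineOpen W')
    (e2 : W' ≤ p ⁻¹ᵁ W) :
    letI := (p.appLE W W' e2).hom.toAlgebra
    ∃ (eF : Γ((Scheme.Modules.pullback p).obj F, W') ≃ₗ[Γ(X', W')]
        Γ(X', W') ⊗[Γ(X, W)] Γ(F, W))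
      (eG : Γ((Scheme.Modules.pullback p).obj G, W') ≃ₗ[Γ(X', W')]
        Γ(X', W') ⊗[Γ(X, W)] Γ(G, W)),
      ∀ z, eG (appLin ((Scheme.Modules.pullback p).map δ) W' z) =
        (appLin δ W).baseChange Γ(X', W') (eF z) := by
  letI a2 : Algebra Γ(X, W) Γ(X', W') := (p.appLE W W' e2).hom.toAlgebra
  let A : Arrow.mk ((secF hW').map ((Scheme.Modules.pullback p).map δ)) ≅
      Arrow.mk ((ModuleCat.extendScalars.{u, u, u} (p.appLE W W' e2).hom).map ((secF hW).map δ)) :=
    ((moduleSpecΓFunctor (R := Γ(X', W'))).mapArrow.mapIso (arrowIsoPullback p hW hW' e2 δ)) ≪≫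
      (arrowIsoOfNatIso (tilde.toTildeΓNatIso (R := Γ(X', W')))
        ((ModuleCat.extendScalars.{u, u, u} (p.appLE W W' e2).hom).map ((secF hW).map δ))).symm
  obtain ⟨eL, eR, hLR⟩ := exists_equiv_of_arrowIso _ _ A
  let e₃F : Γ(X', W') ⊗[Γ(X, W)] Γ(F, W) ≃ₗ[Γ(X', W')]
      Γ(X', W') ⊗[Γ(X, W)] ((secF hW).obj F) :=
    AlgebraTensorModule.congr (LinearEquiv.refl _ _) (secFEquiv hW F)
  let e₃G : Γ(X', W') ⊗[Γ(X, W)] Γ(G, W) ≃ₗ[Γ(X', W')]
      Γ(X', W') ⊗[Γ(X, W)] ((secF hW).obj G) :=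
    AlgebraTensorModule.congr (LinearEquiv.refl _ _) (secFEquiv hW G)
  let Φ : Γ(X', W') ⊗[Γ(X, W)] ((secF hW).obj F) →ₗ[Γ(X', W')]
      Γ(X', W') ⊗[Γ(X, W)] ((secF hW).obj G) :=
    ((ModuleCat.extendScalars.{u, u, u} (p.appLE W W' e2).hom).map ((secF hW).map δ)).hom
  have key : ∀ y : Γ(X', W') ⊗[Γ(X, W)] ((secF hW).obj F),
      e₃G.symm (Φ y) = (appLin δ W).baseChange Γ(X', W') (e₃F.symm y) := by
    intro y
    induction y using TensorProduct.induction_on with
    | zero => simp only [map_zero]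
    | add a b ha hb => simp only [map_add, ha, hb]
    | tmul s m' =>
      have h1 : Φ (s ⊗ₜ[Γ(X, W)] m') = s ⊗ₜ[Γ(X, W)] (((secF hW).map δ).hom m') := rfl
      rw [h1]
      change s ⊗ₜ[Γ(X, W)] ((secFEquiv hW G).symm (((secF hW).map δ).hom m')) =
        (appLin δ W).baseChange Γ(X', W') (s ⊗ₜ[Γ(X, W)] ((secFEquiv hW F).symm m'))
      rw [LinearMap.baseChange_tmul, appLin_apply]
      congr 1
      apply (secFEquiv hW G).injective
      rw [LinearEquiv.apply_symm_apply, secFEquiv_natural, LinearEquiv.apply_symm_apply]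
  refine ⟨(secFEquiv hW' ((Scheme.Modules.pullback p).obj F)) ≪≫ₗ eL ≪≫ₗ e₃F.symm,
    (secFEquiv hW' ((Scheme.Modules.pullback p).obj G)) ≪≫ₗ eR ≪≫ₗ e₃G.symm, ?_⟩
  intro z
  change e₃G.symm (eR (secFEquiv hW' _ (((Scheme.Modules.pullback p).map δ).app W' z))) =
    (appLin δ W).baseChange Γ(X', W') (e₃F.symm (eL (secFEquiv hW' _ z)))
  rw [secFEquiv_natural, hLR]
  exact key _



/-- the cokernel of a base-changed map is the base change of the cokernel -/
noncomputable def quotBaseChangeEquiv {R E : Type u} [CommRing R] [CommRing E] [Algebra R E]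
    {M N : Type u} [AddCommGroup M] [Module R M] [AddCommGroup N] [Module R N] (v : M →ₗ[R] N) :
    ((E ⊗[R] N) ⧸ LinearMap.range (v.baseChange E)) ≃ₗ[E] E ⊗[R] (N ⧸ LinearMap.range v) := by
  have hπ : Surjective ((LinearMap.range v).mkQ.baseChange E) := by
    rw [LinearMap.baseChange_eq_ltensor]
    exact LinearMap.lTensor_surjective E (Submodule.mkQ_surjective _)
  have hex : Function.Exact (v.baseChange E) ((LinearMap.range v).mkQ.baseChange E) := by
    have h0 : Function.Exact v (LinearMap.range v).mkQ := LinearMap.exact_map_mkQ_range v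
    have := lTensor_exact E h0 (Submodule.mkQ_surjective _)
    rwa [← LinearMap.baseChange_eq_ltensor, ← LinearMap.baseChange_eq_ltensor] at this
  exact (Submodule.quotEquivOfEq _ _ (LinearMap.exact_iff.mp hex).symm).trans
    (((LinearMap.range v).mkQ.baseChange E).quotKerEquivOfSurjective hπ)

set_option backward.isDefEq.respectTransparency false in
set_option maxHeartbeats 1000000 in
/-- **Dictionary for S4901, injectivity part**. -/
theorem inj_iff {X' X : Scheme.{u}} (p : X' ⟶ X) {F G : X.Modules}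
    [F.IsQuasicoherent] [G.IsQuasicoherent] (δ : F ⟶ G)
    {W : X.Opens} (hW : IsAffineOpen W)
    {W' : X'.Opens} (hW' : IsAffineOpen W') (e2 : W' ≤ p ⁻¹ᵁ W) (x' : X') (hx' : x' ∈ W') :
    letI := (p.appLE W W' e2).hom.toAlgebra
    Injective (stalkLin ((Scheme.Modules.pullback p).map δ) x') ↔
    (∀ z : Γ(X', W') ⊗[Γ(X, W)] Γ(F, W), (appLin δ W).baseChange Γ(X', W') z = 0 →
        ∃ t : Γ(X', W'), t ∉ (hW'.primeIdealOf ⟨x', hx'⟩).asIdeal ∧ t • z = 0) := by
  letI a2 : Algebra Γ(X, W) Γ(X', W') := (p.appLE W W' e2).hom.toAlgebra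
  haveI := isQuasicoherent_pullbackObj p F
  haveI := isQuasicoherent_pullbackObj p G
  obtain ⟨eF, eG, hFG⟩ := exists_arrow_equiv p δ hW hW' e2
  have hFG' : ∀ m', appLin ((Scheme.Modules.pullback p).map δ) W' m' =
      eG.symm ((appLin δ W).baseChange Γ(X', W') (eF m')) := fun m' => by
    rw [← hFG, LinearEquiv.symm_apply_apply]
  constructor
  · intro hinj z hz
    obtain ⟨t, htq, ht⟩ := InjCokerOpen.exists_smul_eq_zero_of_injective
      ((Scheme.Modules.pullback p).map δ) hW' x' hx' hinj (eF.symm z) (by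
        rw [hFG', LinearEquiv.apply_symm_apply, hz, map_zero])
    refine ⟨t, htq, ?_⟩
    have := congrArg eF ht
    rwa [_root_.map_smul, LinearEquiv.apply_symm_apply, map_zero] at this
  · intro ha
    refine InjCokerOpen.injective_of_forall_exists_smul_eq_zero
      ((Scheme.Modules.pullback p).map δ) hW' x' hx' (fun m' hm' => ?_)
    obtain ⟨t, htq, ht⟩ := ha (eF m') (by rw [← hFG, hm', map_zero])
    refine ⟨t, htq, ?_⟩
    apply eF.injective
    rw [_root_.map_smul, ht, map_zero]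

set_option backward.isDefEq.respectTransparency false in
set_option maxHeartbeats 1000000 in
/-- **Dictionary for S4901, flatness part**. -/
theorem flat_iff {X' Y' X : Scheme.{u}} (f' : X' ⟶ Y') (p : X' ⟶ X) {F G : X.Modules}
    [F.IsQuasicoherent] [G.IsQuasicoherent] (δ : F ⟶ G)
    {V' : Y'.Opens} (hV' : IsAffineOpen V') {W : X.Opens} (hW : IsAffineOpen W)
    {W' : X'.Opens} (hW' : IsAffineOpen W')
    (e1 : W' ≤ f' ⁻¹ᵁ V') (e2 : W' ≤ p ⁻¹ᵁ W) (x' : X') (hx' : x' ∈ W') :
    letI := (f'.appLE V' W' e1).hom.toAlgebra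
    letI := (p.appLE W W' e2).hom.toAlgebra
    FlatMod.IsFlatOverAt f' (cokernel ((Scheme.Modules.pullback p).map δ)) x' ↔
      Module.Flat Γ(Y', V') (LocalizedModule (hW'.primeIdealOf ⟨x', hx'⟩).asIdeal.primeCompl
        (Γ(X', W') ⊗[Γ(X, W)] (Γ(G, W) ⧸ LinearMap.range (appLin δ W)))) := by
  letI a1 : Algebra Γ(Y', V') Γ(X', W') := (f'.appLE V' W' e1).hom.toAlgebra
  letI a2 : Algebra Γ(X, W) Γ(X', W') := (p.appLE W W' e2).hom.toAlgebra
  haveI := isQuasicoherent_pullbackObj p F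
  haveI := isQuasicoherent_pullbackObj p G
  letI modR : Module Γ(Y', V') Γ((Scheme.Modules.pullback p).obj G, W') :=
    Module.compHom _ (f'.appLE V' W' e1).hom
  haveI : IsScalarTower Γ(Y', V') Γ(X', W') Γ((Scheme.Modules.pullback p).obj G, W') :=
    IsScalarTower.of_algebraMap_smul fun _ _ => rfl
  obtain ⟨eF, eG, hFG⟩ := exists_arrow_equiv p δ hW hW' e2
  have hmap : (LinearMap.range (appLin ((Scheme.Modules.pullback p).map δ) W')).map
      eG.toLinearMap = LinearMap.range ((appLin δ W).baseChange Γ(X', W')) := by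
    ext y
    constructor
    · rintro ⟨_, ⟨m', rfl⟩, rfl⟩
      exact ⟨eF m', (hFG m').symm⟩
    · rintro ⟨z, rfl⟩
      refine ⟨_, ⟨eF.symm z, rfl⟩, ?_⟩
      change eG (appLin ((Scheme.Modules.pullback p).map δ) W' (eF.symm z)) = _
      rw [hFG, LinearEquiv.apply_symm_apply]
  let eQ : (Γ((Scheme.Modules.pullback p).obj G, W') ⧸
      LinearMap.range (appLin ((Scheme.Modules.pullback p).map δ) W')) ≃ₗ[Γ(X', W')]
      Γ(X', W') ⊗[Γ(X, W)] (Γ(G, W) ⧸ LinearMap.range (appLin δ W)) :=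
    (Submodule.Quotient.equiv _ _ eG hmap).trans (quotBaseChangeEquiv (E := Γ(X', W')) (appLin δ W))
  have hflatiff := InjCokerOpen.isFlatOverAt_cokernel_iff f' ((Scheme.Modules.pullback p).map δ)
    hV' hW' e1 x' hx'
  exact ⟨fun hfl => FlatStageDict.flat_localizedModule_congr eQ _ (hflatiff.mp hfl),
    fun hb => hflatiff.mpr (FlatStageDict.flat_localizedModule_congr eQ.symm _ hb)⟩

end Groth.Agent.Helper2.InjStageDict
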