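import Mathlib
import Groth.Prelude
import Groth.Agent.Helper2.FlatStageLim
import Groth.Agent.Helper2.InjStageDict
import Groth.Agent.Helper2.InjStageBack

set_option autoImplicit false
open Function TensorProduct CategoryTheory CategoryTheory.Limits AlgebraicGeometry TopologicalSpace
universe u

namespace Groth.Agent.Helper2.InjStageLim

open Groth.Agent.Helper2.FlatStageLim Groth.Agent.Helper4.StalkExact Groth.Agent.Helper4.QcohEpi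
  Groth.Agent.Helper4.StalkDict

section Main
open Groth.Agent.Lead.LimPullback Groth.Agent.Lead.LimHom

variable {I : Type u} [SmallCategory I] [IsCofiltered I]
    (D : I ⥤ Scheme.{u}) (c : Limits.Cone D) (hc : Limits.IsLimit c)
    [∀ (i j : I) (φ : i ⟶ j), IsAffineHom (D.map φ)] (i₀ : I)

include hc in
set_option backward.isDefEq.respectTransparency false in
/-- **(⇒) of S4901**: injectivity of the stalk map with flat cokernel at a point of the limit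
descends to a stage. -/
theorem exists_stage_of_inj_flat
    {X₀ Y₀ : Scheme.{u}} (f₀ : X₀ ⟶ Y₀) (g₀ : Y₀ ⟶ D.obj i₀) [LocallyOfFinitePresentation f₀]
    (F₀ G₀ : X₀.Modules) [F₀.IsQuasicoherent] [G₀.IsQuasicoherent]
    (hF₀ : SheafOfModules.IsFinitePresentation (R := X₀.ringCatSheaf) F₀)
    (hG₀ : SheafOfModules.IsFinitePresentation (R := X₀.ringCatSheaf) G₀) (h₀ : F₀ ⟶ G₀)
    {X Y : Scheme.{u}} (f : X ⟶ Y) (g : Y ⟶ c.pt) (qY : Y ⟶ Y₀) (qX : X ⟶ X₀)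
    (hY : IsPullback qY g g₀ (c.π.app i₀)) (hX : IsPullback qX f f₀ qY) (x : X)
    (hinj : Injective (stalkLin ((Scheme.Modules.pullback qX).map h₀) x))
    (hflat : FlatMod.IsFlatOverAt f (cokernel ((Scheme.Modules.pullback qX).map h₀)) x) :
    ∃ (i : I) (φ : i ⟶ i₀) (Xi Yi : Scheme.{u}) (fi : Xi ⟶ Yi) (gi : Yi ⟶ D.obj i)
        (pY : Yi ⟶ Y₀) (pX : Xi ⟶ X₀) (vY : Y ⟶ Yi) (vX : X ⟶ Xi),
        IsPullback pY gi g₀ (D.map φ) ∧ IsPullback pX fi f₀ pY ∧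
          vY ≫ pY = qY ∧ vY ≫ gi = g ≫ c.π.app i ∧ vX ≫ pX = qX ∧ vX ≫ fi = f ≫ vY ∧
          Injective (stalkLin ((Scheme.Modules.pullback pX).map h₀) (vX x)) ∧
          FlatMod.IsFlatOverAt fi (cokernel ((Scheme.Modules.pullback pX).map h₀)) (vX x) := by
  haveI hA' : ∀ {i j : I} (f : i ⟶ j), IsAffineHom (D.map f) := fun f => inferInstance
  -- affine opens downstairs
  obtain ⟨V₀, hV₀, hyV₀, -⟩ := (Opens.isBasis_iff_nbhd.1 Y₀.isBasis_affineOpens)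
    (show qY (f x) ∈ (⊤ : Y₀.Opens) from trivial)
  have hcomm : f₀ (qX x) = qY (f x) := by
    have := congrArg (fun φ : X ⟶ Y₀ => φ x) hX.w
    simpa using this
  obtain ⟨W₀, hW₀, hxW₀, e₀⟩ := (Opens.isBasis_iff_nbhd.1 X₀.isBasis_affineOpens)
    (show qX x ∈ f₀ ⁻¹ᵁ V₀ from by change f₀ (qX x) ∈ V₀; rw [hcomm]; exact hyV₀)
  -- the limit stage
  haveI hqYaff : IsAffineHom qY :=
    MorphismProperty.of_isPullback hY.flip (isAffineHom_π_app D c hc i₀)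
  have hV : IsAffineOpen (qY ⁻¹ᵁ V₀) := hV₀.preimage qY
  obtain ⟨W, hWdef⟩ : ∃ W : X.Opens, W = qX ⁻¹ᵁ W₀ ⊓ f ⁻¹ᵁ (qY ⁻¹ᵁ V₀) := ⟨_, rfl⟩
  obtain ⟨hW, hpo⟩ := stage_pushout hX hV₀ hW₀ e₀ hV le_rfl hWdef
  have hxW : x ∈ W := by rw [hWdef]; exact ⟨hxW₀, hyV₀⟩
  have eW1 : W ≤ qX ⁻¹ᵁ W₀ := by rw [hWdef]; exact inf_le_left
  have eW2 : W ≤ f ⁻¹ᵁ (qY ⁻¹ᵁ V₀) := by rw [hWdef]; exact inf_le_right
  -- rings downstairs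
  letI aB₀C₀ : Algebra Γ(Y₀, V₀) Γ(X₀, W₀) := (f₀.appLE V₀ W₀ e₀).hom.toAlgebra
  have hfp : (f₀.appLE V₀ W₀ e₀).hom.FinitePresentation :=
    HasRingHomProperty.appLE @LocallyOfFinitePresentation f₀ inferInstance ⟨V₀, hV₀⟩ ⟨W₀, hW₀⟩ e₀
  haveI : Algebra.FinitePresentation Γ(Y₀, V₀) Γ(X₀, W₀) := hfp
  haveI : Module.FinitePresentation Γ(X₀, W₀) Γ(F₀, W₀) :=
    Groth.Agent.Helper4.FPGlue.fp_sections F₀ hF₀ hW₀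
  haveI : Module.FinitePresentation Γ(X₀, W₀) Γ(G₀, W₀) :=
    Groth.Agent.Helper4.FPGlue.fp_sections G₀ hG₀ hW₀
  letI mB₀M₀ : Module Γ(Y₀, V₀) Γ(F₀, W₀) := Module.compHom _ (f₀.appLE V₀ W₀ e₀).hom
  haveI tB₀C₀M₀ : IsScalarTower Γ(Y₀, V₀) Γ(X₀, W₀) Γ(F₀, W₀) :=
    IsScalarTower.of_algebraMap_smul fun _ _ => rfl
  -- rings at the limit stage
  letI aB₀B : Algebra Γ(Y₀, V₀) Γ(Y, qY ⁻¹ᵁ V₀) := (qY.appLE V₀ (qY ⁻¹ᵁ V₀) le_rfl).hom.toAlgebra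
  letI aBC : Algebra Γ(Y, qY ⁻¹ᵁ V₀) Γ(X, W) := (f.appLE (qY ⁻¹ᵁ V₀) W eW2).hom.toAlgebra
  letI aC₀C : Algebra Γ(X₀, W₀) Γ(X, W) := (qX.appLE W₀ W eW1).hom.toAlgebra
  letI aB₀C : Algebra Γ(Y₀, V₀) Γ(X, W) :=
    ((qX.appLE W₀ W eW1).hom.comp (f₀.appLE V₀ W₀ e₀).hom).toAlgebra
  haveI tB₀C₀C : IsScalarTower Γ(Y₀, V₀) Γ(X₀, W₀) Γ(X, W) :=
    IsScalarTower.of_algebraMap_eq (fun b => rfl)
  haveI tB₀BC : IsScalarTower Γ(Y₀, V₀) Γ(Y, qY ⁻¹ᵁ V₀) Γ(X, W) :=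
    IsScalarTower.of_algebraMap_eq (fun b => by
      change (qX.appLE W₀ W eW1) ((f₀.appLE V₀ W₀ e₀) b) =
        (f.appLE (qY ⁻¹ᵁ V₀) W eW2) ((qY.appLE V₀ (qY ⁻¹ᵁ V₀) le_rfl) b)
      have := congrArg (fun φ => φ.hom b) hpo.w
      exact this)
  haveI hpush : Algebra.IsPushout Γ(Y₀, V₀) Γ(Y, qY ⁻¹ᵁ V₀) Γ(X₀, W₀) Γ(X, W) :=
    CommRingCat.isPushout_iff_isPushout.mp hpo.flip
  have hinj' := (InjStageDict.inj_iff qX h₀ hW₀ hW eW1 x hxW).mp hinj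
  have hflat' := (InjStageDict.flat_iff f qX h₀ hV hW₀ hW eW2 eW1 x hxW).mp hflat
  obtain ⟨B', _, _, _, ψ, hstage⟩ := InjStageAlg.exists_fp_pointed_inj (B₀ := Γ(Y₀, V₀))
    (C₀ := Γ(X₀, W₀)) (appLin h₀ W₀) (B := Γ(Y, qY ⁻¹ᵁ V₀)) (C := Γ(X, W))
    (hW.primeIdealOf ⟨x, hxW⟩).asIdeal hinj' hflat'
  -- the finitely presented scheme over `V₀`
  obtain ⟨zT, hzT⟩ : ∃ zT : Spec (CommRingCat.of B') ⟶ (V₀ : Scheme),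
      zT = Spec.map (CommRingCat.ofHom (algebraMap Γ(Y₀, V₀) B')) ≫ hV₀.isoSpec.inv := ⟨_, rfl⟩
  haveI : LocallyOfFinitePresentation zT := by
    haveI : LocallyOfFinitePresentation
        (Spec.map (CommRingCat.ofHom (algebraMap Γ(Y₀, V₀) B'))) := by
      rw [HasRingHomProperty.Spec_iff (P := @LocallyOfFinitePresentation)]
      exact RingHom.finitePresentation_algebraMap.mpr inferInstance
    rw [hzT]
    infer_instance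
  obtain ⟨xi, hxi⟩ : ∃ xi : (V₀ : Scheme) ⟶ D.obj i₀, xi = Scheme.Opens.ι V₀ ≫ g₀ := ⟨_, rfl⟩
  haveI : IsAffine (V₀ : Scheme) := hV₀
  have hVpb : IsPullback ((qY ⁻¹ᵁ V₀).ι ≫ g) (qY ∣_ V₀) (c.π.app i₀) xi := by
    rw [hxi]; exact isPullback_restrict hY V₀
  obtain ⟨aV, haVdef⟩ : ∃ aV : ((qY ⁻¹ᵁ V₀ : Y.Opens) : Scheme) ⟶ Spec (CommRingCat.of B'),
      aV = (qY ⁻¹ᵁ V₀).toSpecΓ ≫ Spec.map (CommRingCat.ofHom ψ.toRingHom) := ⟨_, rfl⟩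
  have haV : aV ≫ zT = qY ∣_ V₀ := by
    have h1 : CommRingCat.ofHom (algebraMap Γ(Y₀, V₀) B') ≫ CommRingCat.ofHom ψ.toRingHom =
        qY.appLE V₀ (qY ⁻¹ᵁ V₀) le_rfl := by
      ext b
      exact ψ.commutes b
    rw [haVdef, hzT, Category.assoc, ← Spec.map_comp_assoc, h1,
      Scheme.Opens.toSpecΓ_SpecMap_appLE_assoc, hV₀.toSpecΓ_isoSpec_inv, Category.comp_id,
      Scheme.Hom.resLE_eq_morphismRestrict]
  obtain ⟨j, gj, hj1, hj2⟩ := exists_hom_descend' D c hc i₀ xi zT (hVpb.isoPullback.inv ≫ aV) (by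
    rw [Category.assoc, haV]; exact hVpb.isoPullback_inv_snd)
  -- the stage `j`
  obtain ⟨pY, gY, hYj⟩ : ∃ (pY : pullback g₀ (D.map j.hom) ⟶ Y₀)
      (gY : pullback g₀ (D.map j.hom) ⟶ D.obj j.left), IsPullback pY gY g₀ (D.map j.hom) :=
    ⟨_, _, IsPullback.of_hasPullback _ _⟩
  obtain ⟨pX, fj, hXj⟩ : ∃ (pX : pullback f₀ pY ⟶ X₀) (fj : pullback f₀ pY ⟶ pullback g₀ (D.map j.hom)),
      IsPullback pX fj f₀ pY := ⟨_, _, IsPullback.of_hasPullback _ _⟩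
  obtain ⟨vY, hvY1, hvY2⟩ : ∃ vY : Y ⟶ pullback g₀ (D.map j.hom),
      vY ≫ pY = qY ∧ vY ≫ gY = g ≫ c.π.app j.left :=
    ⟨hYj.lift qY (g ≫ c.π.app j.left) (by rw [hY.w, Category.assoc, c.w]),
      hYj.lift_fst _ _ _, hYj.lift_snd _ _ _⟩
  obtain ⟨vX, hvX1, hvX2⟩ : ∃ vX : X ⟶ pullback f₀ pY, vX ≫ pX = qX ∧ vX ≫ fj = f ≫ vY :=
    ⟨hXj.lift qX (f ≫ vY) (by rw [Category.assoc, hvY1]; exact hX.w),
      hXj.lift_fst _ _ _, hXj.lift_snd _ _ _⟩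
  refine ⟨j.left, j.hom, _, _, fj, gY, pY, pX, vY, vX, hYj, hXj, hvY1, hvY2, hvX1, hvX2, ?_⟩
  haveI hpYaff : IsAffineHom pY := MorphismProperty.of_isPullback hYj.flip (hA' j.hom)
  have hVj : IsAffineOpen (pY ⁻¹ᵁ V₀) := hV₀.preimage pY
  obtain ⟨Wj, hWjdef⟩ : ∃ Wj : (pullback f₀ pY).Opens, Wj = pX ⁻¹ᵁ W₀ ⊓ fj ⁻¹ᵁ (pY ⁻¹ᵁ V₀) :=
    ⟨_, rfl⟩
  obtain ⟨hWj, hpoj⟩ := stage_pushout hXj hV₀ hW₀ e₀ hVj le_rfl hWjdef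
  have eWj1 : Wj ≤ pX ⁻¹ᵁ W₀ := by rw [hWjdef]; exact inf_le_left
  have eWj2 : Wj ≤ fj ⁻¹ᵁ (pY ⁻¹ᵁ V₀) := by rw [hWjdef]; exact inf_le_right
  have eVV : qY ⁻¹ᵁ V₀ ≤ vY ⁻¹ᵁ (pY ⁻¹ᵁ V₀) := by
    rw [← Scheme.Hom.comp_preimage, hvY1]
  have eWW : W ≤ vX ⁻¹ᵁ Wj := by
    intro z hz
    rw [hWdef] at hz
    have h1 : pX (vX z) = qX z := by rw [← Scheme.Hom.comp_apply, hvX1]
    have h2a : fj (vX z) = vY (f z) := by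
      rw [← Scheme.Hom.comp_apply, hvX2, Scheme.Hom.comp_apply]
    have h2b : pY (vY (f z)) = qY (f z) := by rw [← Scheme.Hom.comp_apply, hvY1]
    have h2 : pY (fj (vX z)) = qY (f z) := by rw [h2a, h2b]
    change vX z ∈ Wj
    rw [hWjdef]
    refine ⟨?_, ?_⟩
    · change pX (vX z) ∈ W₀
      rw [h1]; exact hz.1
    · change pY (fj (vX z)) ∈ V₀
      rw [h2]; exact hz.2
  have hxWj : vX x ∈ Wj := eWW hxW
  -- rings at the stage `j`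
  letI aB₀Bj : Algebra Γ(Y₀, V₀) Γ(pullback g₀ (D.map j.hom), pY ⁻¹ᵁ V₀) :=
    (pY.appLE V₀ (pY ⁻¹ᵁ V₀) le_rfl).hom.toAlgebra
  letI aBjCj : Algebra Γ(pullback g₀ (D.map j.hom), pY ⁻¹ᵁ V₀) Γ(pullback f₀ pY, Wj) :=
    (fj.appLE (pY ⁻¹ᵁ V₀) Wj eWj2).hom.toAlgebra
  letI aC₀Cj : Algebra Γ(X₀, W₀) Γ(pullback f₀ pY, Wj) := (pX.appLE W₀ Wj eWj1).hom.toAlgebra
  letI aB₀Cj : Algebra Γ(Y₀, V₀) Γ(pullback f₀ pY, Wj) :=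
    ((pX.appLE W₀ Wj eWj1).hom.comp (f₀.appLE V₀ W₀ e₀).hom).toAlgebra
  haveI tB₀C₀Cj : IsScalarTower Γ(Y₀, V₀) Γ(X₀, W₀) Γ(pullback f₀ pY, Wj) :=
    IsScalarTower.of_algebraMap_eq (fun b => rfl)
  haveI tB₀BjCj : IsScalarTower Γ(Y₀, V₀) Γ(pullback g₀ (D.map j.hom), pY ⁻¹ᵁ V₀)
      Γ(pullback f₀ pY, Wj) :=
    IsScalarTower.of_algebraMap_eq (fun b => by
      change (pX.appLE W₀ Wj eWj1) ((f₀.appLE V₀ W₀ e₀) b) =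
        (fj.appLE (pY ⁻¹ᵁ V₀) Wj eWj2) ((pY.appLE V₀ (pY ⁻¹ᵁ V₀) le_rfl) b)
      have := congrArg (fun φ => φ.hom b) hpoj.w
      exact this)
  haveI hpushj : Algebra.IsPushout Γ(Y₀, V₀) Γ(pullback g₀ (D.map j.hom), pY ⁻¹ᵁ V₀) Γ(X₀, W₀)
      Γ(pullback f₀ pY, Wj) :=
    CommRingCat.isPushout_iff_isPushout.mp hpoj.flip
  rw [InjStageDict.inj_iff pX h₀ hW₀ hWj eWj1 (vX x) hxWj,
    InjStageDict.flat_iff fj pX h₀ hVj hW₀ hWj eWj2 eWj1 (vX x) hxWj]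
  -- the morphism from the stage to `Spec B'` and the ring map `θ`
  have hVjpb : IsPullback ((pY ⁻¹ᵁ V₀).ι ≫ gY) (pY ∣_ V₀) (D.map j.hom) xi := by
    rw [hxi]; exact isPullback_restrict hYj V₀
  obtain ⟨mj, hmjdef⟩ : ∃ mj : ((pY ⁻¹ᵁ V₀ : (pullback g₀ (D.map j.hom)).Opens) : Scheme) ⟶
      Spec (CommRingCat.of B'), mj = hVjpb.isoPullback.hom ≫ gj := ⟨_, rfl⟩
  obtain ⟨θr, hθr⟩ : ∃ θr : CommRingCat.of B' ⟶ Γ(pullback g₀ (D.map j.hom), pY ⁻¹ᵁ V₀),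
      (pY ⁻¹ᵁ V₀).toSpecΓ ≫ Spec.map θr = mj :=
    ⟨Spec.preimage (hVj.isoSpec.inv ≫ mj), by
      rw [Spec.map_preimage, ← hVj.isoSpec_hom, Iso.hom_inv_id_assoc]⟩
  haveI : IsIso (pY ⁻¹ᵁ V₀).toSpecΓ := by rw [← hVj.isoSpec_hom]; infer_instance
  haveI : IsIso (qY ⁻¹ᵁ V₀).toSpecΓ := by rw [← hV.isoSpec_hom]; infer_instance
  have hθ₀ : CommRingCat.ofHom (algebraMap Γ(Y₀, V₀) B') ≫ θr =
      pY.appLE V₀ (pY ⁻¹ᵁ V₀) le_rfl := by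
    apply Spec.map_injective
    rw [← cancel_epi (pY ⁻¹ᵁ V₀).toSpecΓ, Spec.map_comp, ← Category.assoc, hθr,
      Scheme.Opens.toSpecΓ_SpecMap_appLE, Scheme.Hom.resLE_eq_morphismRestrict, hmjdef,
      Category.assoc]
    have h3 : gj ≫ Spec.map (CommRingCat.ofHom (algebraMap Γ(Y₀, V₀) B')) =
        pullback.snd (D.map j.hom) xi ≫ Scheme.Opens.toSpecΓ V₀ := by
      rw [← hj2, hzT, Category.assoc, Category.assoc, hV₀.isoSpec_inv_toSpecΓ]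
      erw [Category.comp_id]
    rw [h3, ← Category.assoc, hVjpb.isoPullback_hom_snd]
  let θ : B' →ₐ[Γ(Y₀, V₀)] Γ(pullback g₀ (D.map j.hom), pY ⁻¹ᵁ V₀) :=
    { θr.hom with commutes' := fun b => congrArg (fun φ => φ.hom b) hθ₀ }
  let ωB : Γ(pullback g₀ (D.map j.hom), pY ⁻¹ᵁ V₀) →ₐ[Γ(Y₀, V₀)] Γ(Y, qY ⁻¹ᵁ V₀) :=
    { (vY.appLE (pY ⁻¹ᵁ V₀) (qY ⁻¹ᵁ V₀) eVV).hom with
      commutes' := fun b => by
        change (vY.appLE _ _ eVV) ((pY.appLE V₀ _ le_rfl) b) = (qY.appLE V₀ _ le_rfl) b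
        rw [← CommRingCat.comp_apply, Scheme.Hom.appLE_comp_appLE, appLE_congr_hom hvY1] }
  let ωC : Γ(pullback f₀ pY, Wj) →ₐ[Γ(X₀, W₀)] Γ(X, W) :=
    { (vX.appLE Wj W eWW).hom with
      commutes' := fun b => by
        change (vX.appLE _ _ eWW) ((pX.appLE W₀ _ eWj1) b) = (qX.appLE W₀ _ eW1) b
        rw [← CommRingCat.comp_apply, Scheme.Hom.appLE_comp_appLE, appLE_congr_hom hvX1] }
  -- compatibility `ωB ∘ θ = ψ`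
  have hkey : (vY.resLE (pY ⁻¹ᵁ V₀) (qY ⁻¹ᵁ V₀) eVV) ≫ mj = aV := by
    have h4 := hj1 (hVpb.isoPullback.inv ≫ vY.resLE (pY ⁻¹ᵁ V₀) (qY ⁻¹ᵁ V₀) eVV ≫
      hVjpb.isoPullback.hom) (by
        rw [← hVpb.isoPullback_inv_fst]
        simp only [Category.assoc]
        congr 1
        rw [hVjpb.isoPullback_hom_fst, Scheme.Hom.resLE_comp_ι_assoc, hvY2]) (by
        rw [← hVpb.isoPullback_inv_snd]
        simp only [Category.assoc]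
        congr 1
        rw [hVjpb.isoPullback_hom_snd, ← Scheme.Hom.resLE_eq_morphismRestrict,
          Scheme.Hom.resLE_comp_resLE, resLE_congr_hom hvY1,
          Scheme.Hom.resLE_eq_morphismRestrict])
    rw [hmjdef]
    have h5 := congrArg (fun m => hVpb.isoPullback.hom ≫ m) h4
    simpa using h5
  have h1 : ωB.comp θ = ψ := by
    have h6 : θr ≫ vY.appLE (pY ⁻¹ᵁ V₀) (qY ⁻¹ᵁ V₀) eVV = CommRingCat.ofHom ψ.toRingHom := by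
      apply Spec.map_injective
      rw [← cancel_epi (qY ⁻¹ᵁ V₀).toSpecΓ, Spec.map_comp, Scheme.Opens.toSpecΓ_SpecMap_appLE_assoc,
        hθr, hkey, haVdef]
    ext b
    exact congrArg (fun φ => φ.hom b) h6
  have h2 : ∀ b, ωC (algebraMap _ _ b) = algebraMap Γ(Y, qY ⁻¹ᵁ V₀) Γ(X, W) (ωB b) := by
    intro b
    change (vX.appLE _ _ eWW) ((fj.appLE _ _ eWj2) b) =
      (f.appLE _ _ eW2) ((vY.appLE _ _ eVV) b)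
    rw [← CommRingCat.comp_apply, ← CommRingCat.comp_apply, Scheme.Hom.appLE_comp_appLE,
      Scheme.Hom.appLE_comp_appLE, appLE_congr_hom hvX2]
  have hq : (hWj.primeIdealOf ⟨vX x, hxWj⟩).asIdeal =
      (hW.primeIdealOf ⟨x, hxW⟩).asIdeal.comap ωC.toRingHom := by
    rw [← primeIdealOf_comap vX hWj hW eWW x hxW]
    rfl
  exact hstage Γ(pullback g₀ (D.map j.hom), pY ⁻¹ᵁ V₀) Γ(pullback f₀ pY, Wj) θ ωB ωC h1 h2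
    (hWj.primeIdealOf ⟨vX x, hxWj⟩).asIdeal hq


include hc in
set_option backward.isDefEq.respectTransparency false in
/-- **(⇐) of S4901**: injectivity of the stalk map with flat cokernel at a stage passes to the
limit. -/
theorem inj_flat_of_stage
    {X₀ Y₀ : Scheme.{u}} (f₀ : X₀ ⟶ Y₀) (g₀ : Y₀ ⟶ D.obj i₀) [LocallyOfFinitePresentation f₀]
    (F₀ G₀ : X₀.Modules) [F₀.IsQuasicoherent] [G₀.IsQuasicoherent]
    (hF₀ : SheafOfModules.IsFinitePresentation (R := X₀.ringCatSheaf) F₀)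
    (hG₀ : SheafOfModules.IsFinitePresentation (R := X₀.ringCatSheaf) G₀) (h₀ : F₀ ⟶ G₀)
    {X Y : Scheme.{u}} (f : X ⟶ Y) (g : Y ⟶ c.pt) (qY : Y ⟶ Y₀) (qX : X ⟶ X₀)
    (hY : IsPullback qY g g₀ (c.π.app i₀)) (hX : IsPullback qX f f₀ qY) (x : X)
    {i : I} (φ : i ⟶ i₀) {Xi Yi : Scheme.{u}} (fi : Xi ⟶ Yi) (gi : Yi ⟶ D.obj i)
    (pY : Yi ⟶ Y₀) (pX : Xi ⟶ X₀) (vY : Y ⟶ Yi) (vX : X ⟶ Xi)
    (hYi : IsPullback pY gi g₀ (D.map φ)) (hXi : IsPullback pX fi f₀ pY)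
    (hvY1 : vY ≫ pY = qY) (hvX1 : vX ≫ pX = qX) (hvX2 : vX ≫ fi = f ≫ vY)
    (hinj : Injective (stalkLin ((Scheme.Modules.pullback pX).map h₀) (vX x)))
    (hflat : FlatMod.IsFlatOverAt fi (cokernel ((Scheme.Modules.pullback pX).map h₀)) (vX x)) :
    Injective (stalkLin ((Scheme.Modules.pullback qX).map h₀) x) ∧
      FlatMod.IsFlatOverAt f (cokernel ((Scheme.Modules.pullback qX).map h₀)) x := by
  haveI hA' : ∀ {i j : I} (f : i ⟶ j), IsAffineHom (D.map f) := fun f => inferInstance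
  -- affine opens downstairs
  obtain ⟨V₀, hV₀, hyV₀, -⟩ := (Opens.isBasis_iff_nbhd.1 Y₀.isBasis_affineOpens)
    (show qY (f x) ∈ (⊤ : Y₀.Opens) from trivial)
  have hcomm : f₀ (qX x) = qY (f x) := by
    have := congrArg (fun φ : X ⟶ Y₀ => φ x) hX.w
    simpa using this
  obtain ⟨W₀, hW₀, hxW₀, e₀⟩ := (Opens.isBasis_iff_nbhd.1 X₀.isBasis_affineOpens)
    (show qX x ∈ f₀ ⁻¹ᵁ V₀ from by change f₀ (qX x) ∈ V₀; rw [hcomm]; exact hyV₀)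
  -- the limit stage
  haveI hqYaff : IsAffineHom qY :=
    MorphismProperty.of_isPullback hY.flip (isAffineHom_π_app D c hc i₀)
  have hV : IsAffineOpen (qY ⁻¹ᵁ V₀) := hV₀.preimage qY
  obtain ⟨W, hWdef⟩ : ∃ W : X.Opens, W = qX ⁻¹ᵁ W₀ ⊓ f ⁻¹ᵁ (qY ⁻¹ᵁ V₀) := ⟨_, rfl⟩
  obtain ⟨hW, hpo⟩ := stage_pushout hX hV₀ hW₀ e₀ hV le_rfl hWdef
  have hxW : x ∈ W := by rw [hWdef]; exact ⟨hxW₀, hyV₀⟩
  have eW1 : W ≤ qX ⁻¹ᵁ W₀ := by rw [hWdef]; exact inf_le_left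
  have eW2 : W ≤ f ⁻¹ᵁ (qY ⁻¹ᵁ V₀) := by rw [hWdef]; exact inf_le_right
  -- rings downstairs
  letI aB₀C₀ : Algebra Γ(Y₀, V₀) Γ(X₀, W₀) := (f₀.appLE V₀ W₀ e₀).hom.toAlgebra
  have hfp : (f₀.appLE V₀ W₀ e₀).hom.FinitePresentation :=
    HasRingHomProperty.appLE @LocallyOfFinitePresentation f₀ inferInstance ⟨V₀, hV₀⟩ ⟨W₀, hW₀⟩ e₀
  haveI : Algebra.FinitePresentation Γ(Y₀, V₀) Γ(X₀, W₀) := hfp
  haveI : Module.FinitePresentation Γ(X₀, W₀) Γ(F₀, W₀) :=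
    Groth.Agent.Helper4.FPGlue.fp_sections F₀ hF₀ hW₀
  haveI : Module.FinitePresentation Γ(X₀, W₀) Γ(G₀, W₀) :=
    Groth.Agent.Helper4.FPGlue.fp_sections G₀ hG₀ hW₀
  haveI hQfp : Module.FinitePresentation Γ(X₀, W₀)
      (Γ(G₀, W₀) ⧸ LinearMap.range (appLin h₀ W₀)) := by
    refine Module.finitePresentation_of_surjective (LinearMap.range (appLin h₀ W₀)).mkQ
      (Submodule.mkQ_surjective _) ?_
    rw [Submodule.ker_mkQ, LinearMap.range_eq_map]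
    exact (Module.Finite.fg_top).map _
  -- rings at the limit stage
  letI aB₀B : Algebra Γ(Y₀, V₀) Γ(Y, qY ⁻¹ᵁ V₀) := (qY.appLE V₀ (qY ⁻¹ᵁ V₀) le_rfl).hom.toAlgebra
  letI aBC : Algebra Γ(Y, qY ⁻¹ᵁ V₀) Γ(X, W) := (f.appLE (qY ⁻¹ᵁ V₀) W eW2).hom.toAlgebra
  letI aC₀C : Algebra Γ(X₀, W₀) Γ(X, W) := (qX.appLE W₀ W eW1).hom.toAlgebra
  letI aB₀C : Algebra Γ(Y₀, V₀) Γ(X, W) :=
    ((qX.appLE W₀ W eW1).hom.comp (f₀.appLE V₀ W₀ e₀).hom).toAlgebra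
  haveI tB₀C₀C : IsScalarTower Γ(Y₀, V₀) Γ(X₀, W₀) Γ(X, W) :=
    IsScalarTower.of_algebraMap_eq (fun b => rfl)
  haveI tB₀BC : IsScalarTower Γ(Y₀, V₀) Γ(Y, qY ⁻¹ᵁ V₀) Γ(X, W) :=
    IsScalarTower.of_algebraMap_eq (fun b => by
      change (qX.appLE W₀ W eW1) ((f₀.appLE V₀ W₀ e₀) b) =
        (f.appLE (qY ⁻¹ᵁ V₀) W eW2) ((qY.appLE V₀ (qY ⁻¹ᵁ V₀) le_rfl) b)
      have := congrArg (fun φ => φ.hom b) hpo.w
      exact this)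
  haveI hpush : Algebra.IsPushout Γ(Y₀, V₀) Γ(Y, qY ⁻¹ᵁ V₀) Γ(X₀, W₀) Γ(X, W) :=
    CommRingCat.isPushout_iff_isPushout.mp hpo.flip
  -- the stage
  haveI hpYaff : IsAffineHom pY := MorphismProperty.of_isPullback hYi.flip (hA' φ)
  have hVj : IsAffineOpen (pY ⁻¹ᵁ V₀) := hV₀.preimage pY
  obtain ⟨Wj, hWjdef⟩ : ∃ Wj : Xi.Opens, Wj = pX ⁻¹ᵁ W₀ ⊓ fi ⁻¹ᵁ (pY ⁻¹ᵁ V₀) := ⟨_, rfl⟩
  obtain ⟨hWj, hpoj⟩ := stage_pushout hXi hV₀ hW₀ e₀ hVj le_rfl hWjdef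
  have eWj1 : Wj ≤ pX ⁻¹ᵁ W₀ := by rw [hWjdef]; exact inf_le_left
  have eWj2 : Wj ≤ fi ⁻¹ᵁ (pY ⁻¹ᵁ V₀) := by rw [hWjdef]; exact inf_le_right
  have eVV : qY ⁻¹ᵁ V₀ ≤ vY ⁻¹ᵁ (pY ⁻¹ᵁ V₀) := by
    rw [← Scheme.Hom.comp_preimage, hvY1]
  have eWW : W ≤ vX ⁻¹ᵁ Wj := by
    intro z hz
    rw [hWdef] at hz
    have h1 : pX (vX z) = qX z := by rw [← Scheme.Hom.comp_apply, hvX1]
    have h2a : fi (vX z) = vY (f z) := by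
      rw [← Scheme.Hom.comp_apply, hvX2, Scheme.Hom.comp_apply]
    have h2b : pY (vY (f z)) = qY (f z) := by rw [← Scheme.Hom.comp_apply, hvY1]
    have h2 : pY (fi (vX z)) = qY (f z) := by rw [h2a, h2b]
    change vX z ∈ Wj
    rw [hWjdef]
    refine ⟨?_, ?_⟩
    · change pX (vX z) ∈ W₀
      rw [h1]; exact hz.1
    · change pY (fi (vX z)) ∈ V₀
      rw [h2]; exact hz.2
  have hxWj : vX x ∈ Wj := eWW hxW
  -- rings at the stage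
  letI aB₀Bj : Algebra Γ(Y₀, V₀) Γ(Yi, pY ⁻¹ᵁ V₀) :=
    (pY.appLE V₀ (pY ⁻¹ᵁ V₀) le_rfl).hom.toAlgebra
  letI aBjCj : Algebra Γ(Yi, pY ⁻¹ᵁ V₀) Γ(Xi, Wj) :=
    (fi.appLE (pY ⁻¹ᵁ V₀) Wj eWj2).hom.toAlgebra
  letI aC₀Cj : Algebra Γ(X₀, W₀) Γ(Xi, Wj) := (pX.appLE W₀ Wj eWj1).hom.toAlgebra
  letI aB₀Cj : Algebra Γ(Y₀, V₀) Γ(Xi, Wj) :=
    ((pX.appLE W₀ Wj eWj1).hom.comp (f₀.appLE V₀ W₀ e₀).hom).toAlgebra
  haveI tB₀C₀Cj : IsScalarTower Γ(Y₀, V₀) Γ(X₀, W₀) Γ(Xi, Wj) :=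
    IsScalarTower.of_algebraMap_eq (fun b => rfl)
  haveI tB₀BjCj : IsScalarTower Γ(Y₀, V₀) Γ(Yi, pY ⁻¹ᵁ V₀) Γ(Xi, Wj) :=
    IsScalarTower.of_algebraMap_eq (fun b => by
      change (pX.appLE W₀ Wj eWj1) ((f₀.appLE V₀ W₀ e₀) b) =
        (fi.appLE (pY ⁻¹ᵁ V₀) Wj eWj2) ((pY.appLE V₀ (pY ⁻¹ᵁ V₀) le_rfl) b)
      have := congrArg (fun φ => φ.hom b) hpoj.w
      exact this)
  haveI hpushj : Algebra.IsPushout Γ(Y₀, V₀) Γ(Yi, pY ⁻¹ᵁ V₀) Γ(X₀, W₀) Γ(Xi, Wj) :=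
    CommRingCat.isPushout_iff_isPushout.mp hpoj.flip
  let ωB : Γ(Yi, pY ⁻¹ᵁ V₀) →ₐ[Γ(Y₀, V₀)] Γ(Y, qY ⁻¹ᵁ V₀) :=
    { (vY.appLE (pY ⁻¹ᵁ V₀) (qY ⁻¹ᵁ V₀) eVV).hom with
      commutes' := fun b => by
        change (vY.appLE _ _ eVV) ((pY.appLE V₀ _ le_rfl) b) = (qY.appLE V₀ _ le_rfl) b
        rw [← CommRingCat.comp_apply, Scheme.Hom.appLE_comp_appLE, appLE_congr_hom hvY1] }
  let ωC : Γ(Xi, Wj) →ₐ[Γ(X₀, W₀)] Γ(X, W) :=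
    { (vX.appLE Wj W eWW).hom with
      commutes' := fun b => by
        change (vX.appLE _ _ eWW) ((pX.appLE W₀ _ eWj1) b) = (qX.appLE W₀ _ eW1) b
        rw [← CommRingCat.comp_apply, Scheme.Hom.appLE_comp_appLE, appLE_congr_hom hvX1] }
  have h2 : ∀ b, ωC (algebraMap _ _ b) = algebraMap Γ(Y, qY ⁻¹ᵁ V₀) Γ(X, W) (ωB b) := by
    intro b
    change (vX.appLE _ _ eWW) ((fi.appLE _ _ eWj2) b) =
      (f.appLE _ _ eW2) ((vY.appLE _ _ eVV) b)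
    rw [← CommRingCat.comp_apply, ← CommRingCat.comp_apply, Scheme.Hom.appLE_comp_appLE,
      Scheme.Hom.appLE_comp_appLE, appLE_congr_hom hvX2]
  have hq : (hWj.primeIdealOf ⟨vX x, hxWj⟩).asIdeal =
      (hW.primeIdealOf ⟨x, hxW⟩).asIdeal.comap ωC.toRingHom := by
    rw [← primeIdealOf_comap vX hWj hW eWW x hxW]
    rfl
  have haj := (InjStageDict.inj_iff pX h₀ hW₀ hWj eWj1 (vX x) hxWj).mp hinj
  have hbj := (InjStageDict.flat_iff fi pX h₀ hVj hW₀ hWj eWj2 eWj1 (vX x) hxWj).mp hflat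
  rw [InjStageDict.inj_iff qX h₀ hW₀ hW eW1 x hxW,
    InjStageDict.flat_iff f qX h₀ hV hW₀ hW eW2 eW1 x hxW]
  exact ⟨InjStageAlg.kerKilled_of_stage (B₀ := Γ(Y₀, V₀)) (C₀ := Γ(X₀, W₀)) (appLin h₀ W₀) ωB ωC h2
      (hW.primeIdealOf ⟨x, hxW⟩).asIdeal (hWj.primeIdealOf ⟨vX x, hxWj⟩).asIdeal hq haj hbj,
    InjStageBack.flat_of_stage (B₀ := Γ(Y₀, V₀)) (C₀ := Γ(X₀, W₀))
      (Γ(G₀, W₀) ⧸ LinearMap.range (appLin h₀ W₀)) ωB ωC h2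
      (hW.primeIdealOf ⟨x, hxW⟩).asIdeal (hWj.primeIdealOf ⟨vX x, hxWj⟩).asIdeal hq hbj⟩

end Main

end Groth.Agent.Helper2.InjStageLim
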