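import Mathlib
import Groth.Agent.Lead.FD19
import Groth.Agent.S6883
set_option autoImplicit false
universe u
open TensorProduct

namespace Groth.Agent.Helper2.IntFlat

/-- final part: descent along a finite injective map of Noetherian subrings -/
theorem flat_of_finite_sub {R₀ R S : Type u} [CommRing R₀] [CommRing R] [CommRing S]
    [Algebra R₀ R] [Algebra R S] [Algebra R₀ S] [IsScalarTower R₀ R S]
    (R₁ : Subalgebra R₀ R) [IsNoetherianRing R₁]
    (hinj : Function.Injective (algebraMap R S))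
    (D : Subalgebra R₁ S) [Module.Finite R₁ D]
    (M₀ : Type u) [AddCommGroup M₀] [Module R₀ M₀]
    [Module.Flat D (D ⊗[R₀] M₀)] : Module.Flat R (R ⊗[R₀] M₀) := by
  haveI : IsNoetherianRing D := IsNoetherianRing.of_finite R₁ D
  have hinj' : Function.Injective (algebraMap R₁ D) := by
    intro a b hab
    have h1 : algebraMap R S (a : R) = algebraMap R S (b : R) := by
      have := congrArg (fun x : D => (x : S)) hab
      exact this
    exact Subtype.ext (hinj h1)
  haveI : Module.Flat D (D ⊗[R₁] (R₁ ⊗[R₀] M₀)) :=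
    Module.Flat.of_linearEquiv (AlgebraTensorModule.cancelBaseChange R₀ R₁ D D M₀)
  haveI : Module.Flat R₁ (R₁ ⊗[R₀] M₀) := Groth.Agent.S6883.result R₁ D hinj' (R₁ ⊗[R₀] M₀)
  exact Module.Flat.of_linearEquiv (AlgebraTensorModule.cancelBaseChange R₀ R₁ R R M₀).symm

/-- second step: from a finite type algebra `C` over a Noetherian `R₀` mapping to the integral
extension `S` with `C ⊗ M₀` flat, deduce flatness of `R ⊗ M₀`. -/
theorem step2 {R₀ R S : Type u} [CommRing R₀] [IsNoetherianRing R₀] [CommRing R] [CommRing S]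
    [Algebra R₀ R] [Algebra R S] [Algebra R₀ S] [IsScalarTower R₀ R S] [Algebra.IsIntegral R S]
    (hinj : Function.Injective (algebraMap R S))
    (M₀ : Type u) [AddCommGroup M₀] [Module R₀ M₀]
    (C : Type u) [CommRing C] [Algebra R₀ C] [Algebra.FiniteType R₀ C] (ψ : C →ₐ[R₀] S)
    [Module.Flat C (C ⊗[R₀] M₀)] : Module.Flat R (R ⊗[R₀] M₀) := by
  classical
  obtain ⟨t, ht⟩ := (Algebra.FiniteType.out : (⊤ : Subalgebra R₀ C).FG)
  have hint : ∀ c : C, ∃ q : Polynomial R, q.Monic ∧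
      Polynomial.eval₂ (algebraMap R S) (ψ c) q = 0 :=
    fun c => Algebra.IsIntegral.isIntegral (R := R) (ψ c)
  choose q hqm hq0 using hint
  let T : Finset R := t.biUnion (fun c => (q c).coeffs)
  let R₁ : Subalgebra R₀ R := Algebra.adjoin R₀ (↑T : Set R)
  haveI : Algebra.FiniteType R₀ R₁ := (Subalgebra.fg_iff_finiteType R₁).mp ⟨T, rfl⟩
  haveI : IsNoetherianRing R₁ := Algebra.FiniteType.isNoetherianRing R₀ R₁
  let D : Subalgebra R₁ S := Algebra.adjoin R₁ (ψ '' (↑t : Set C))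
  -- integrality of the generators over `R₁`
  have hintD : ∀ x ∈ ψ '' (↑t : Set C), IsIntegral R₁ x := by
    rintro _ ⟨c, hc, rfl⟩
    have hlift : q c ∈ Polynomial.lifts (algebraMap R₁ R) := by
      rw [Polynomial.lifts_iff_coeff_lifts]
      intro i
      by_cases h0 : (q c).coeff i = 0
      · exact ⟨0, by rw [h0, map_zero]⟩
      · have hmem : (q c).coeff i ∈ T := by
          simp only [T, Finset.mem_biUnion]
          exact ⟨c, hc, Polynomial.coeff_mem_coeffs h0⟩
        exact ⟨⟨(q c).coeff i, Algebra.subset_adjoin hmem⟩, rfl⟩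
    obtain ⟨q', hq', -, hq'm⟩ := Polynomial.lifts_and_natDegree_eq_and_monic hlift (hqm c)
    refine ⟨q', hq'm, ?_⟩
    have := hq0 c
    rw [← hq', Polynomial.eval₂_map, ← IsScalarTower.algebraMap_eq] at this
    exact this
  haveI : Module.Finite R₁ D := by
    have hfg : (Algebra.adjoin R₁ (ψ '' (↑t : Set C))).toSubmodule.FG :=
      fg_adjoin_of_finite (t.finite_toSet.image _) hintD
    exact Module.Finite.iff_fg.2 hfg
  -- `ψ` lands in `D`
  have hψ : ∀ c : C, ψ c ∈ D := by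
    intro c
    have hc : c ∈ Algebra.adjoin R₀ (↑t : Set C) := by rw [ht]; trivial
    induction hc using Algebra.adjoin_induction with
    | mem x hx => exact Algebra.subset_adjoin ⟨x, hx, rfl⟩
    | algebraMap r =>
      rw [ψ.commutes, IsScalarTower.algebraMap_apply R₀ R₁ S]
      exact D.algebraMap_mem _
    | add x y _ _ hx hy => rw [map_add]; exact D.add_mem hx hy
    | mul x y _ _ hx hy => rw [map_mul]; exact D.mul_mem hx hy
  let θ : C →+* D := (ψ : C →+* S).codRestrict D hψ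
  letI : Algebra C D := θ.toAlgebra
  haveI : IsScalarTower R₀ C D := IsScalarTower.of_algebraMap_eq (fun r => by
    apply Subtype.ext
    change algebraMap R₀ S r = ψ (algebraMap R₀ C r)
    rw [ψ.commutes])
  haveI : Module.Flat D (D ⊗[R₀] M₀) :=
    Groth.Agent.Lead.FD19.flat_of_algHom (A₀ := R₀) (C := C) (D := D) (M₀ := M₀)
  exact flat_of_finite_sub R₁ hinj D M₀

attribute [local instance] MvPolynomial.algebraMvPolynomial

theorem main (R S : Type u) [CommRing R]
    [CommRing S] [Algebra R S] [Algebra.IsIntegral R S] (hinj : Function.Injective (algebraMap R S)) (n : ℕ)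
    (M : Type u) [AddCommGroup M] [Module (MvPolynomial (Fin n) R) M] [Module R M]
    [IsScalarTower R (MvPolynomial (Fin n) R) M] [Module.FinitePresentation (MvPolynomial (Fin n) R) M]
    [Module.Flat S (S ⊗[R] M)] : Module.Flat R M := by
  classical
  obtain ⟨k, m, p, g, hp, hpg⟩ :=
    Module.FinitePresentation.exists_fin' (MvPolynomial (Fin n) R) M
  let S₀ : Finset R := Finset.univ.biUnion (fun j : Fin m =>
    Finset.univ.biUnion (fun l : Fin k => (g (Pi.single j 1) l).coeffs))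
  obtain ⟨R₀, hR₀⟩ : ∃ R' : Subalgebra ℤ R, R' = Algebra.adjoin ℤ (↑S₀ : Set R) := ⟨_, rfl⟩
  have hc : ∀ j l, (↑(g (Pi.single j 1) l).coeffs : Set R) ⊆ Set.range (algebraMap R₀ R) := by
    intro j l x hx
    have hxS : x ∈ S₀ := by
      simp only [S₀, Finset.mem_biUnion, Finset.mem_univ, true_and]
      exact ⟨j, l, hx⟩
    exact ⟨⟨x, hR₀ ▸ Algebra.subset_adjoin hxS⟩, rfl⟩
  obtain ⟨M₀₀, _, _, hfp, ⟨e⟩⟩ :=
    Groth.Agent.Lead.FD18.exists_poly_model (R₀ := R₀) n M p g hp hpg hc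
  letI : Module R₀ M₀₀ := Module.compHom M₀₀ (algebraMap R₀ (MvPolynomial (Fin n) R₀))
  haveI : IsScalarTower R₀ (MvPolynomial (Fin n) R₀) M₀₀ :=
    IsScalarTower.of_algebraMap_smul (fun r x => rfl)
  haveI : Algebra.FiniteType ℤ R₀ := (Subalgebra.fg_iff_finiteType R₀).mp ⟨S₀, hR₀.symm⟩
  haveI : IsNoetherianRing R₀ := Algebra.FiniteType.isNoetherianRing ℤ R₀
  let e₂ : R ⊗[R₀] M₀₀ ≃ₗ[R] M :=
    (Algebra.IsPushout.cancelBaseChange R₀ R (MvPolynomial (Fin n) R₀)
      (MvPolynomial (Fin n) R) M₀₀).symm ≪≫ₗ (e.restrictScalars R).symm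
  let e₃ : S ⊗[R₀] M₀₀ ≃ₗ[S] S ⊗[R] M :=
    (AlgebraTensorModule.cancelBaseChange R₀ R S S M₀₀).symm ≪≫ₗ
      AlgebraTensorModule.congr (LinearEquiv.refl S S) e₂
  haveI : Module.Flat S (S ⊗[R₀] M₀₀) := Module.Flat.of_linearEquiv e₃
  obtain ⟨C, _, _, hCfp, ψ, hC⟩ :=
    Groth.Agent.Lead.FD18.exists_fp_flat_module (A₀ := R₀) (MvPolynomial (Fin n) R₀) M₀₀ S
  haveI := hCfp
  haveI := hC
  haveI : Module.Flat R (R ⊗[R₀] M₀₀) := step2 (R₀ := R₀) hinj M₀₀ C ψ
  exact Module.Flat.of_linearEquiv e₂.symm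

end Groth.Agent.Helper2.IntFlat
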