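import Mathlib

set_option autoImplicit false
universe v u
open CategoryTheory CategoryTheory.Limits

namespace Groth.Agent.Helper2.JH1

variable {A : Type u} [Category.{v} A] [Abelian A] {X : A}

lemma factors_iff_kills (T : Subobject X) {Z : A} (t : Z ⟶ X) :
    T.Factors t ↔ t ≫ cokernel.π T.arrow = 0 := by
  constructor
  · intro h
    rw [← T.factorThru_arrow t h, Category.assoc, cokernel.condition, comp_zero]
  · intro h
    have hk := Abelian.monoIsKernelOfCokernel _ (cokernelIsCokernel T.arrow)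
    refine (Subobject.factors_iff _ _).mpr ⟨hk.lift (KernelFork.ofι t h), ?_⟩
    exact hk.fac (KernelFork.ofι t h) WalkingParallelPair.zero

lemma le_iff_factors (S T : Subobject X) : S ≤ T ↔ T.Factors S.arrow := by
  constructor
  · intro h
    exact Subobject.factors_of_le _ h (Subobject.factors_self S)
  · intro h
    exact Subobject.le_of_comm (T.factorThru _ h) (T.factorThru_arrow _ h)

lemma le_iff_kills (S T : Subobject X) : S ≤ T ↔ S.arrow ≫ cokernel.π T.arrow = 0 :=
  (le_iff_factors S T).trans (factors_iff_kills T _)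

/-- `x` and `y` are jointly epimorphic onto `x ⊔ y`. -/
lemma sup_hom_eq_zero' (x y Z : Subobject X) (hxZ : x ≤ Z) (hyZ : y ≤ Z) (hZ : Z ≤ x ⊔ y)
    {C : A} (q : (Z : A) ⟶ C)
    (hx : Subobject.ofLE x Z hxZ ≫ q = 0)
    (hy : Subobject.ofLE y Z hyZ ≫ q = 0) : q = 0 := by
  let K' : Subobject X := Subobject.mk (kernel.ι q ≫ Z.arrow)
  have h1 : x ≤ K' := by
    refine Subobject.le_mk_of_comm (kernel.lift q _ hx) ?_
    rw [← Category.assoc, kernel.lift_ι, Subobject.ofLE_arrow]
  have h2 : y ≤ K' := by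
    refine Subobject.le_mk_of_comm (kernel.lift q _ hy) ?_
    rw [← Category.assoc, kernel.lift_ι, Subobject.ofLE_arrow]
  have h3 : Z ≤ K' := hZ.trans (sup_le h1 h2)
  have h4 := (le_iff_factors Z K').mp h3
  obtain ⟨f, hf⟩ : ∃ f : (Z : A) ⟶ kernel q, f ≫ (kernel.ι q ≫ Z.arrow) = Z.arrow :=
    (Subobject.mk_factors_iff _ _).mp h4
  have hf' : f ≫ kernel.ι q = 𝟙 _ := by
    rw [← cancel_mono Z.arrow, Category.assoc, hf, Category.id_comp]
  calc q = (f ≫ kernel.ι q) ≫ q := by rw [hf', Category.id_comp]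
    _ = 0 := by rw [Category.assoc, kernel.condition, comp_zero]

lemma sup_hom_eq_zero (x y : Subobject X) {C : A} (q : ((x ⊔ y : Subobject X) : A) ⟶ C)
    (hx : Subobject.ofLE x (x ⊔ y) le_sup_left ≫ q = 0)
    (hy : Subobject.ofLE y (x ⊔ y) le_sup_right ≫ q = 0) : q = 0 :=
  sup_hom_eq_zero' x y (x ⊔ y) le_sup_left le_sup_right le_rfl q hx hy

/-- Second isomorphism theorem for subobjects in an abelian category. -/
theorem second_iso (x y : Subobject X) :
    Nonempty (cokernel (Subobject.ofLE x (x ⊔ y) le_sup_left) ≅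
      cokernel (Subobject.ofLE (x ⊓ y) y inf_le_right)) := by
  let πx := cokernel.π (Subobject.ofLE x (x ⊔ y) le_sup_left)
  let g : (y : A) ⟶ cokernel (Subobject.ofLE x (x ⊔ y) le_sup_left) :=
    Subobject.ofLE y (x ⊔ y) le_sup_right ≫ πx
  let k := Subobject.ofLE (x ⊓ y) y inf_le_right
  have hepi : Epi g := by
    refine Preadditive.epi_of_cancel_zero _ fun {C} c hc => ?_
    have hq : πx ≫ c = 0 := by
      apply sup_hom_eq_zero x y
      · rw [← Category.assoc, cokernel.condition, zero_comp]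
      · rw [← Category.assoc]; exact hc
    rw [← cancel_epi πx, hq, comp_zero]
  have hk0 : k ≫ g = 0 := by
    have : k ≫ Subobject.ofLE y (x ⊔ y) le_sup_right =
        Subobject.ofLE (x ⊓ y) x inf_le_left ≫ Subobject.ofLE x (x ⊔ y) le_sup_left := by
      rw [Subobject.ofLE_comp_ofLE, Subobject.ofLE_comp_ofLE]
    rw [← Category.assoc, this, Category.assoc, cokernel.condition, comp_zero]
  have hker := Abelian.monoIsKernelOfCokernel _
    (cokernelIsCokernel (Subobject.ofLE x (x ⊔ y) le_sup_left))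
  have hlim : IsLimit (KernelFork.ofι k hk0) := by
    refine KernelFork.IsLimit.ofι' k hk0 fun {T} t ht => ?_
    have ht' : (t ≫ Subobject.ofLE y (x ⊔ y) le_sup_right) ≫ πx = 0 := by
      rw [Category.assoc]; exact ht
    let s : T ⟶ (x : A) := hker.lift (KernelFork.ofι _ ht')
    have hs : s ≫ Subobject.ofLE x (x ⊔ y) le_sup_left =
        t ≫ Subobject.ofLE y (x ⊔ y) le_sup_right :=
      hker.fac (KernelFork.ofι _ ht') WalkingParallelPair.zero
    have hs' : s ≫ x.arrow = t ≫ y.arrow := by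
      have := congrArg (· ≫ (x ⊔ y).arrow) hs
      simpa [Category.assoc] using this
    have hf : (x ⊓ y).Factors (t ≫ y.arrow) := by
      rw [Subobject.inf_factors]
      exact ⟨(Subobject.factors_iff _ _).mpr ⟨s, hs'⟩, (Subobject.factors_iff _ _).mpr ⟨t, rfl⟩⟩
    refine ⟨(x ⊓ y).factorThru _ hf, ?_⟩
    rw [← cancel_mono y.arrow, Category.assoc, Subobject.ofLE_arrow, Subobject.factorThru_arrow]
  have hcolim := Abelian.epiIsCokernelOfKernel _ hlim
  have e := IsColimit.coconePointUniqueUpToIso hcolim (cokernelIsCokernel k)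
  exact ⟨e⟩

lemma isZero_cokernel_ofLE_iff {F G : Subobject X} (h : F ≤ G) :
    IsZero (cokernel (Subobject.ofLE F G h)) ↔ F = G := by
  constructor
  · intro hz
    have hπ : cokernel.π (Subobject.ofLE F G h) = 0 := hz.eq_of_tgt _ _
    have hker := Abelian.monoIsKernelOfCokernel _ (cokernelIsCokernel (Subobject.ofLE F G h))
    have h0 : 𝟙 (G : A) ≫ cokernel.π (Subobject.ofLE F G h) = 0 := by rw [hπ, comp_zero]
    let s : (G : A) ⟶ (F : A) := hker.lift (KernelFork.ofι _ h0)
    have hs : s ≫ Subobject.ofLE F G h = 𝟙 _ :=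
      hker.fac (KernelFork.ofι _ h0) WalkingParallelPair.zero
    refine le_antisymm h (Subobject.le_of_comm s ?_)
    rw [← Subobject.ofLE_arrow h, ← Category.assoc, hs, Category.id_comp]
  · rintro rfl
    have : IsIso (Subobject.ofLE F F h) := by
      rw [Subobject.ofLE_refl]; infer_instance
    rw [IsZero.iff_id_eq_zero, ← cancel_epi (cokernel.π (Subobject.ofLE F F h)), comp_zero,
      Category.comp_id]
    exact cokernel.π_of_epi _

theorem simple_of_covBy {F G : Subobject X} (h : F ≤ G) (hc : F ⋖ G) :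
    Simple (cokernel (Subobject.ofLE F G h)) := by
  let i := Subobject.ofLE F G h
  let π := cokernel.π i
  have hnz : ¬ IsZero (cokernel i) := fun hz => hc.lt.ne ((isZero_cokernel_ofLE_iff h).mp hz)
  refine ⟨fun {Y} f hf => ?_⟩
  let p1 : pullback π f ⟶ (G : A) := pullback.fst π f
  let p2 : pullback π f ⟶ Y := pullback.snd π f
  have hp2 : Epi p2 := inferInstanceAs (Epi (pullback.snd π f))
  have hp1 : Mono p1 := inferInstanceAs (Mono (pullback.fst π f))
  let H : Subobject X := Subobject.mk (p1 ≫ G.arrow)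
  have hFH : F ≤ H := by
    refine Subobject.le_mk_of_comm (pullback.lift i 0 (by rw [zero_comp]; exact cokernel.condition i)) ?_
    rw [← Category.assoc, pullback.lift_fst, Subobject.ofLE_arrow]
  have hHG : H ≤ G := Subobject.mk_le_of_comm p1 rfl
  have key : H = F ∨ H = G := hc.eq_or_eq hFH hHG
  constructor
  · intro hiso h0
    apply hnz
    rw [IsZero.iff_id_eq_zero, ← IsIso.inv_hom_id f]
    conv_lhs => rw [show inv f ≫ f = inv f ≫ 0 from by rw [← h0]]
    rw [comp_zero]
  · intro hne
    rcases key with hHF | hHG'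
    · exfalso
      apply hne
      have hle : H ≤ F := hHF.le
      obtain ⟨r, hr⟩ : ∃ r : pullback π f ⟶ (F : A), r ≫ F.arrow = p1 ≫ G.arrow := by
        have := (le_iff_factors H F).mp hle
        have h2 := Subobject.factors_of_factors_right (P := F) ((Subobject.underlyingIso (p1 ≫ G.arrow)).inv) this
        rw [Subobject.underlyingIso_arrow] at h2
        exact ⟨F.factorThru _ h2, F.factorThru_arrow _ h2⟩
      have hr' : r ≫ i = p1 := by
        rw [← cancel_mono G.arrow, Category.assoc, Subobject.ofLE_arrow, hr]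
      have : p2 ≫ f = 0 := by
        rw [← pullback.condition (f := π) (g := f)]
        change p1 ≫ π = 0
        rw [← hr', Category.assoc, cokernel.condition, comp_zero]
      rw [← cancel_epi p2, this, comp_zero]
    · have hle : G ≤ H := hHG'.ge
      obtain ⟨r, hr⟩ : ∃ r : (G : A) ⟶ pullback π f, r ≫ (p1 ≫ G.arrow) = G.arrow :=
        (Subobject.mk_factors_iff _ _).mp ((le_iff_factors G H).mp hle)
      have hr' : r ≫ p1 = 𝟙 _ := by
        rw [← cancel_mono G.arrow, Category.assoc, hr, Category.id_comp]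
      have hfac : (r ≫ p2) ≫ f = π := by
        rw [Category.assoc]
        change r ≫ pullback.snd π f ≫ f = π
        rw [← pullback.condition, ← Category.assoc]
        change (r ≫ p1) ≫ π = π
        rw [hr', Category.id_comp]
      have : Epi f := epi_of_epi_fac hfac
      exact isIso_of_mono_of_epi f

theorem covBy_of_simple {F G : Subobject X} (h : F ≤ G)
    (hs : Simple (cokernel (Subobject.ofLE F G h))) : F ⋖ G := by
  let i := Subobject.ofLE F G h
  let π := cokernel.π i
  have hnz : ¬ IsZero (cokernel i) := Simple.not_isZero _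
  have hne : F ≠ G := fun hFG => hnz ((isZero_cokernel_ofLE_iff h).mpr hFG)
  refine ⟨lt_of_le_of_ne h hne, fun H hFH hHG => ?_⟩
  have hker := Abelian.monoIsKernelOfCokernel _ (cokernelIsCokernel i)
  let m : (H : A) ⟶ cokernel i := Subobject.ofLE H G hHG.le ≫ π
  by_cases hι : image.ι m = 0
  · -- then `m = 0`, so `H ≤ F`
    have hm : m = 0 := by rw [← image.fac m, hι, comp_zero]
    let s : (H : A) ⟶ (F : A) := hker.lift (KernelFork.ofι _ hm)
    have hs' : s ≫ i = Subobject.ofLE H G hHG.le :=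
      hker.fac (KernelFork.ofι _ hm) WalkingParallelPair.zero
    have : H ≤ F := by
      refine Subobject.le_of_comm s ?_
      rw [← Subobject.ofLE_arrow h, ← Category.assoc, hs', Subobject.ofLE_arrow]
    exact absurd hFH (not_lt_of_ge this)
  · have hiso : IsIso (image.ι m) := (Simple.mono_isIso_iff_nonzero _).mpr hι
    have hepi : Epi m := by
      rw [← image.fac m]; infer_instance
    let c := cokernel.π (Subobject.ofLE H G hHG.le)
    have hic : i ≫ c = 0 := by
      have : i = Subobject.ofLE F H hFH.le ≫ Subobject.ofLE H G hHG.le := by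
        rw [Subobject.ofLE_comp_ofLE]
      rw [this, Category.assoc, cokernel.condition, comp_zero]
    let c' := cokernel.desc i c hic
    have hc' : π ≫ c' = c := cokernel.π_desc i c hic
    have hmc : m ≫ c' = 0 := by
      change (Subobject.ofLE H G hHG.le ≫ π) ≫ c' = 0
      rw [Category.assoc, hc', cokernel.condition]
    have hc0 : c' = 0 := by rw [← cancel_epi m, hmc, comp_zero]
    have hc00 : c = 0 := by rw [← hc', hc0, comp_zero]
    have : Epi (Subobject.ofLE H G hHG.le) := Abelian.epi_of_cokernel_π_eq_zero _ hc00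
    have hiso' : IsIso (Subobject.ofLE H G hHG.le) := isIso_of_mono_of_epi _
    have : G ≤ H := by
      refine Subobject.le_of_comm (inv (Subobject.ofLE H G hHG.le)) ?_
      rw [IsIso.inv_comp_eq, Subobject.ofLE_arrow]
    exact absurd hHG (not_lt_of_ge this)

theorem simple_iff_covBy {F G : Subobject X} (h : F ≤ G) :
    Simple (cokernel (Subobject.ofLE F G h)) ↔ F ⋖ G :=
  ⟨covBy_of_simple h, simple_of_covBy h⟩

/-- The modular law for subobjects in an abelian category, in cancellation form. -/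
theorem modular_cancel {a b K : Subobject X} (hab : a ≤ b) (hinf : b ⊓ K ≤ a)
    (hsup : b ≤ a ⊔ K) : b ≤ a := by
  let Z := a ⊔ K
  let s : (a : A) ⊞ (K : A) ⟶ (Z : A) :=
    biprod.desc (Subobject.ofLE a Z le_sup_left) (Subobject.ofLE K Z le_sup_right)
  have hs : Epi s := by
    refine Preadditive.epi_of_cancel_zero _ fun {C} c hc => ?_
    apply sup_hom_eq_zero a K
    · have := congrArg (biprod.inl ≫ ·) hc
      simpa [s] using this
    · have := congrArg (biprod.inr ≫ ·) hc
      simpa [s] using this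
  let j := Subobject.ofLE b Z hsup
  let e : pullback j s ⟶ (b : A) := pullback.fst j s
  let w : pullback j s ⟶ (a : A) ⊞ (K : A) := pullback.snd j s
  have he : Epi e := inferInstanceAs (Epi (pullback.fst j s))
  let α := w ≫ biprod.fst
  let κ := w ≫ biprod.snd
  have hcond : e ≫ j = w ≫ s := pullback.condition
  have hdecomp : e ≫ b.arrow = α ≫ a.arrow + κ ≫ K.arrow := by
    have h1 : e ≫ b.arrow = (e ≫ j) ≫ Z.arrow := by
      rw [Category.assoc, Subobject.ofLE_arrow]
    have h2 : s ≫ Z.arrow = biprod.fst ≫ a.arrow + biprod.snd ≫ K.arrow := by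
      apply biprod.hom_ext' <;> simp [s]
    rw [h1, hcond, Category.assoc, h2, Preadditive.comp_add, ← Category.assoc, ← Category.assoc]
  have hκ : κ ≫ K.arrow = (e - α ≫ Subobject.ofLE a b hab) ≫ b.arrow := by
    have h3 : (α ≫ Subobject.ofLE a b hab) ≫ b.arrow = α ≫ a.arrow := by
      rw [Category.assoc, Subobject.ofLE_arrow]
    rw [Preadditive.sub_comp, h3, hdecomp]
    abel
  have hf : (b ⊓ K).Factors (κ ≫ K.arrow) := by
    rw [Subobject.inf_factors]
    exact ⟨(Subobject.factors_iff _ _).mpr ⟨_, hκ.symm⟩, (Subobject.factors_iff _ _).mpr ⟨κ, rfl⟩⟩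
  have hfa : a.Factors (κ ≫ K.arrow) := Subobject.factors_of_le _ hinf hf
  have h0 : (κ ≫ K.arrow) ≫ cokernel.π a.arrow = 0 := (factors_iff_kills a _).mp hfa
  rw [le_iff_kills, ← cancel_epi e, comp_zero, ← Category.assoc, hdecomp, Preadditive.add_comp, h0,
    Category.assoc, cokernel.condition, comp_zero, add_zero]

/-- The Jordan–Hölder lattice structure on subobjects of an object of an abelian category. -/
@[reducible] noncomputable def jhl (X : A) : JordanHolderLattice (Subobject X) where
  IsMaximal := (· ⋖ ·)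
  lt_of_isMaximal := CovBy.lt
  sup_eq_of_isMaximal hxz hyz := hxz.wcovBy.sup_eq hyz.wcovBy
  isMaximal_inf_left_of_isMaximal_sup := fun {x y} _ hy => by
    have hy' : y ⋖ y ⊔ x := by rw [sup_comm]; exact hy
    have hs : Simple (cokernel (Subobject.ofLE y (y ⊔ x) le_sup_left)) :=
      simple_of_covBy _ hy'
    obtain ⟨e⟩ := second_iso y x
    have hs' : Simple (cokernel (Subobject.ofLE (y ⊓ x) x inf_le_right)) := Simple.of_iso e.symm
    have := covBy_of_simple _ hs'
    rw [inf_comm]; exact this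

/-- The relation "the quotients are isomorphic" on pairs of subobjects. -/
def QIso (p q : Subobject X × Subobject X) : Prop :=
  (p.1 ≤ p.2 ↔ q.1 ≤ q.2) ∧ ∀ (h1 : p.1 ≤ p.2) (h2 : q.1 ≤ q.2),
    Nonempty (cokernel (Subobject.ofLE p.1 p.2 h1) ≅ cokernel (Subobject.ofLE q.1 q.2 h2))

theorem jordan_holder_chain (X : A)
    (n : ℕ) (F : Fin (n + 1) → Subobject X) (hF : Monotone F) (hF0 : F 0 = ⊥) (hFn : F (Fin.last n) = ⊤) (hFs : ∀ i : Fin n, Simple (cokernel (Subobject.ofLE (F (Fin.castSucc i)) (F (Fin.succ i)) (hF (Fin.castSucc_lt_succ (i := i)).le))))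
    (m : ℕ) (G : Fin (m + 1) → Subobject X) (hG : Monotone G) (hG0 : G 0 = ⊥) (hGm : G (Fin.last m) = ⊤) (hGs : ∀ j : Fin m, Simple (cokernel (Subobject.ofLE (G (Fin.castSucc j)) (G (Fin.succ j)) (hG (Fin.castSucc_lt_succ (i := j)).le)))) :
    ∃ (e : n = m) (σ : Equiv.Perm (Fin m)), ∀ i : Fin n,
      Nonempty (cokernel (Subobject.ofLE (F (Fin.castSucc i)) (F (Fin.succ i)) (hF (Fin.castSucc_lt_succ (i := i)).le)) ≅
        cokernel (Subobject.ofLE (G (Fin.castSucc (σ (Fin.cast e i)))) (G (Fin.succ (σ (Fin.cast e i)))) (hG (Fin.castSucc_lt_succ (i := σ (Fin.cast e i))).le))) := by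
  letI := jhl X
  have hFc : ∀ i : Fin n, F i.castSucc ⋖ F i.succ := fun i => covBy_of_simple _ (hFs i)
  have hGc : ∀ i : Fin m, G i.castSucc ⋖ G i.succ := fun i => covBy_of_simple _ (hGs i)
  let s₁ : CompositionSeries (Subobject X) := ⟨n, F, hFc⟩
  let s₂ : CompositionSeries (Subobject X) := ⟨m, G, hGc⟩
  have hh : s₁.head = s₂.head := hF0.trans hG0.symm
  have hl : s₁.last = s₂.last := hFn.trans hGm.symm
  obtain ⟨f, hf⟩ := CompositionSeries.jordan_holder s₁ s₂ hh hl
  have e : n = m := Fin.equiv_iff_eq.mp ⟨f⟩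
  subst e
  refine ⟨rfl, f, fun i => ?_⟩
  have hi : JordanHolderLattice.Iso (F i.castSucc, F i.succ) (G (f i).castSucc, G (f i).succ) := hf i
  have hq : QIso (F i.castSucc, F i.succ) (G (f i).castSucc, G (f i).succ) := by
    refine JordanHolderLattice.Iso.rel QIso ?_ ?_ ?_ ?_ hi
    · intro x
      exact ⟨Iff.rfl, fun h1 _ => ⟨Iso.refl _⟩⟩
    · intro x y hxy
      exact ⟨hxy.1.symm, fun h1 h2 => ⟨(hxy.2 h2 h1).some.symm⟩⟩
    · intro x y z hxy hyz
      refine ⟨hxy.1.trans hyz.1, fun h1 h3 => ?_⟩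
      have h2 := hxy.1.mp h1
      exact ⟨(hxy.2 h1 h2).some ≪≫ (hyz.2 h2 h3).some⟩
    · intro x y _
      exact ⟨⟨fun _ => inf_le_right, fun _ => le_sup_left⟩, fun _ _ => second_iso x y⟩
  exact hq.2 _ _

theorem exists_chain_of_art_noeth (X : A) (hA : IsArtinianObject X) (hN : IsNoetherianObject X) :
    ∃ (n : ℕ) (F : Fin (n + 1) → Subobject X) (hF : Monotone F), F 0 = ⊥ ∧ F (Fin.last n) = ⊤ ∧
        ∀ i : Fin n, Simple (cokernel (Subobject.ofLE (F (Fin.castSucc i)) (F (Fin.succ i)) (hF (Fin.castSucc_lt_succ (i := i)).le))) := by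
  obtain ⟨a, ha0, n, han, hcov⟩ :=
    exists_covBy_seq_of_wellFoundedLT_wellFoundedGT_of_le (bot_le : (⊥ : Subobject X) ≤ ⊤)
  let F : Fin (n + 1) → Subobject X := fun i => a i
  have hc : ∀ i : Fin n, F i.castSucc ⋖ F i.succ := fun i => by
    have := hcov i i.isLt
    simpa [F] using this
  have hF : Monotone F := Fin.monotone_iff_le_succ.mpr fun i => (hc i).le
  refine ⟨n, F, hF, ?_, ?_, fun i => simple_of_covBy _ (hc i)⟩
  · simpa [F] using ha0
  · simpa [F] using han

theorem art_noeth_of_chain (X : A) (n : ℕ) (F : Fin (n + 1) → Subobject X) (hF : Monotone F)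
    (hF0 : F 0 = ⊥) (hFn : F (Fin.last n) = ⊤) (hc : ∀ i : Fin n, F i.castSucc ⋖ F i.succ) :
    IsArtinianObject X ∧ IsNoetherianObject X := by
  let ψ : Subobject X → (Fin n → Prop) := fun S i => (S ⊓ F i.succ) ⊔ F i.castSucc = F i.succ
  have hle : ∀ (S : Subobject X) (i : Fin n), (S ⊓ F i.succ) ⊔ F i.castSucc ≤ F i.succ :=
    fun S i => sup_le inf_le_right (hc i).le
  have hmono : Monotone ψ := by
    intro S T hST i hi
    change (S ⊓ F i.succ) ⊔ F i.castSucc = F i.succ at hi
    change (T ⊓ F i.succ) ⊔ F i.castSucc = F i.succ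
    refine le_antisymm (hle T i) ?_
    calc F i.succ = (S ⊓ F i.succ) ⊔ F i.castSucc := hi.symm
      _ ≤ (T ⊓ F i.succ) ⊔ F i.castSucc := sup_le_sup_right (inf_le_inf_right _ hST) _
  have key : ∀ S T : Subobject X, S ≤ T → ψ S = ψ T → S = T := by
    intro S T hST hψ
    have hsup : ∀ i : Fin n, (S ⊓ F i.succ) ⊔ F i.castSucc = (T ⊓ F i.succ) ⊔ F i.castSucc := by
      intro i
      have h1 : ψ S i ↔ ψ T i := by rw [hψ]
      have hS := (hc i).eq_or_eq (le_sup_right : F i.castSucc ≤ (S ⊓ F i.succ) ⊔ F i.castSucc) (hle S i)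
      have hT := (hc i).eq_or_eq (le_sup_right : F i.castSucc ≤ (T ⊓ F i.succ) ⊔ F i.castSucc) (hle T i)
      by_cases hSi : ψ S i
      · have hTi := h1.mp hSi
        exact hSi.trans hTi.symm
      · have hTi : ¬ ψ T i := fun h => hSi (h1.mpr h)
        rcases hS with hS | hS
        · rcases hT with hT | hT
          · rw [hS, hT]
          · exact absurd hT hTi
        · exact absurd hS hSi
    have hind : ∀ i : Fin (n + 1), S ⊓ F i = T ⊓ F i := by
      intro i
      induction i using Fin.induction with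
      | zero => rw [hF0, inf_bot_eq, inf_bot_eq]
      | succ i ih =>
        have hle1 : S ⊓ F i.succ ≤ T ⊓ F i.succ := inf_le_inf_right _ hST
        refine le_antisymm hle1 ?_
        apply modular_cancel (K := F i.castSucc) hle1
        · have : T ⊓ F i.succ ⊓ F i.castSucc = T ⊓ F i.castSucc := by
            rw [inf_assoc, inf_eq_right.mpr (hc i).le]
          rw [this, ← ih]
          exact inf_le_inf_left _ (hc i).le
        · rw [hsup i]
          exact le_sup_left
    have := hind (Fin.last n)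
    rwa [hFn, inf_top_eq, inf_top_eq] at this
  have hstrict : StrictMono ψ := fun S T hST =>
    lt_of_le_of_ne (hmono hST.le) fun h => hST.ne (key S T hST.le h)
  have h1 : WellFoundedLT (Subobject X) := hstrict.wellFoundedLT
  have h2 : WellFoundedGT (Subobject X) := hstrict.wellFoundedGT
  exact ⟨⟨h1⟩, ⟨h2⟩⟩

theorem finiteLength_iff (X : A) :
    (IsArtinianObject X ∧ IsNoetherianObject X) ↔
      ∃ (n : ℕ) (F : Fin (n + 1) → Subobject X) (hF : Monotone F), F 0 = ⊥ ∧ F (Fin.last n) = ⊤ ∧
        ∀ i : Fin n, Simple (cokernel (Subobject.ofLE (F (Fin.castSucc i)) (F (Fin.succ i)) (hF (Fin.castSucc_lt_succ (i := i)).le))) := by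
  constructor
  · rintro ⟨hA, hN⟩
    exact exists_chain_of_art_noeth X hA hN
  · rintro ⟨n, F, hF, hF0, hFn, hs⟩
    exact art_noeth_of_chain X n F hF hF0 hFn fun i => covBy_of_simple _ (hs i)

end Groth.Agent.Helper2.JH1
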