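import Mathlib
import Groth.Prelude
import Groth.Agent.Helper2.T2Mod

namespace Groth.Agent.Helper2.JZVan

open Function Groth.Agent.Helper2.T2Mod

noncomputable section

section Van

variable {P : Type*} [CommRing P] {F : Type*} [AddCommGroup F] [Module P F]
  {F' : Type*} [AddCommGroup F'] [Module P F']

/-- vanishing of `T²` for the cover `(F, j)` with coefficients in `N`. -/
def Van (j : F →ₗ[P] P) (N : Type*) [AddCommGroup N] [Module P N] : Prop :=
  ∀ φ : LinearMap.ker j →ₗ[P] N, (∀ q : LinearMap.ker j, (q : F) ∈ triv j → φ q = 0) →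
    ∃ ψ : F →ₗ[P] N, ∀ q : LinearMap.ker j, ψ q = φ q

lemma triv_le_ker (j : F →ₗ[P] P) : triv j ≤ LinearMap.ker j := by
  refine Submodule.span_le.2 ?_
  rintro _ ⟨a, b, rfl⟩
  rw [SetLike.mem_coe, LinearMap.mem_ker, map_sub, map_smul, map_smul, smul_eq_mul, smul_eq_mul,
    mul_comm, sub_self]

/-- `Van` only depends on the ideal `range j`. -/
theorem van_of_van {j : F →ₗ[P] P} {j' : F' →ₗ[P] P} (N : Type*) [AddCommGroup N] [Module P N]
    [Module.Projective P F] [Module.Projective P F']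
    (h : LinearMap.range j = LinearMap.range j') (hv : Van j' N) : Van j N := by
  obtain ⟨α, hα⟩ : ∃ α : F →ₗ[P] F', j' ∘ₗ α = j := by
    obtain ⟨α, hα⟩ := Module.projective_lifting_property j'.rangeRestrict
      (j.codRestrict (LinearMap.range j') (fun x => h ▸ LinearMap.mem_range_self j x))
      j'.surjective_rangeRestrict
    refine ⟨α, LinearMap.ext fun x => ?_⟩
    exact congrArg Subtype.val (congrFun (congrArg DFunLike.coe hα) x)
  obtain ⟨β, hβ⟩ : ∃ β : F' →ₗ[P] F, j ∘ₗ β = j' := by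
    obtain ⟨β, hβ⟩ := Module.projective_lifting_property j.rangeRestrict
      (j'.codRestrict (LinearMap.range j) (fun x => h ▸ LinearMap.mem_range_self j' x))
      j.surjective_rangeRestrict
    refine ⟨β, LinearMap.ext fun x => ?_⟩
    exact congrArg Subtype.val (congrFun (congrArg DFunLike.coe hβ) x)
  intro φ hφ
  have hjα : ∀ x, j' (α x) = j x := fun x => by rw [← hα]; rfl
  have hjβ : ∀ x, j (β x) = j' x := fun x => by rw [← hβ]; rfl
  obtain ⟨ψ', hψ'⟩ := hv (φ ∘ₗ αR β hβ) (by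
    intro q hq
    exact hφ _ (map_triv β hβ _ hq))
  have hγ : ∀ x : F, (β ∘ₗ α - LinearMap.id : F →ₗ[P] F) x ∈ LinearMap.ker j := fun x => by
    rw [LinearMap.mem_ker, LinearMap.sub_apply, map_sub, LinearMap.comp_apply, hjβ, hjα,
      LinearMap.id_apply, sub_self]
  refine ⟨ψ' ∘ₗ α - φ ∘ₗ (β ∘ₗ α - LinearMap.id : F →ₗ[P] F).codRestrict (LinearMap.ker j) hγ, ?_⟩
  intro q
  have hq : α q ∈ LinearMap.ker j' := by
    rw [LinearMap.mem_ker, hjα]; exact q.2
  have h1 := hψ' ⟨α q, hq⟩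
  rw [LinearMap.sub_apply, LinearMap.comp_apply, LinearMap.comp_apply]
  change ψ' (α q) = _ at h1
  rw [h1, LinearMap.comp_apply, ← map_sub]
  congr 1
  apply Subtype.ext
  change β (α q) - (β (α q) - (q : F)) = q
  abel

theorem van_iff {j : F →ₗ[P] P} {j' : F' →ₗ[P] P} (N : Type*) [AddCommGroup N] [Module P N]
    [Module.Projective P F] [Module.Projective P F']
    (h : LinearMap.range j = LinearMap.range j') : Van j N ↔ Van j' N :=
  ⟨van_of_van N h.symm, van_of_van N h⟩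

end Van

section Chase

variable {R A : Type*} [CommRing R] [CommRing A] [Algebra R A]
  {F₁ : Type*} [AddCommGroup F₁] [Module R F₁] (j₁ : F₁ →ₗ[R] R)
  {K : Type*} (g : K → R)

/-- the cover of the ideal `I` of `A` generated by the images of the `g i`. -/
def jA : (K →₀ A) →ₗ[A] A := Finsupp.linearCombination A (fun i => algebraMap R A (g i))

/-- the cover of the ideal of `R` generated by the `g i`. -/
def jg : (K →₀ R) →ₗ[R] R := Finsupp.linearCombination R g

/-- the cover of the kernel of `R → A → A/I`. -/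
def j' : (F₁ × (K →₀ R)) →ₗ[R] R := j₁.coprod (jg g)

/-- reduction of coefficients. -/
def ρ : (K →₀ R) →ₗ[R] (K →₀ A) := Finsupp.mapRange.linearMap (Algebra.linearMap R A)

variable (A) in
lemma ρ_single (i : K) (c : R) : ρ (A := A) (Finsupp.single i c) =
    Finsupp.single i (algebraMap R A c) := by
  rw [ρ, Finsupp.mapRange.linearMap_apply, Finsupp.mapRange_single]
  rfl

lemma ρ_apply (v : K →₀ R) (i : K) : ρ (A := A) v i = algebraMap R A (v i) := by
  rw [ρ, Finsupp.mapRange.linearMap_apply, Finsupp.mapRange_apply]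
  rfl

lemma jA_ρ (v : K →₀ R) : jA (A := A) g (ρ v) = algebraMap R A (jg g v) := by
  induction v using Finsupp.induction_linear with
  | zero => simp
  | add x y hx hy => rw [map_add, map_add, hx, hy, map_add, map_add]
  | single i c =>
    rw [ρ_single, jA, jg, Finsupp.linearCombination_single, Finsupp.linearCombination_single,
      smul_eq_mul, smul_eq_mul, map_mul]

lemma smul_ρ (c : R) (v : K →₀ R) : algebraMap R A c • ρ (A := A) v = ρ (c • v) := by
  rw [map_smul, algebraMap_smul]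

variable (hπ : Surjective (algebraMap R A))

include hπ in
lemma ρ_surjective : Surjective (ρ (R := R) (A := A) (K := K)) := by
  intro w
  induction w using Finsupp.induction_linear with
  | zero => exact ⟨0, map_zero _⟩
  | add x y hx hy =>
    obtain ⟨x', rfl⟩ := hx
    obtain ⟨y', rfl⟩ := hy
    exact ⟨x' + y', map_add _ _ _⟩
  | single i a =>
    obtain ⟨c, rfl⟩ := hπ a
    exact ⟨Finsupp.single i c, ρ_single A i c⟩

variable (h₁ : LinearMap.range j₁ = RingHom.ker (algebraMap R A))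

include h₁ in
lemma algebraMap_j₁ (u : F₁) : algebraMap R A (j₁ u) = 0 := by
  have : j₁ u ∈ LinearMap.range j₁ := LinearMap.mem_range_self _ _
  rw [h₁] at this
  exact this

lemma j'_apply (u : F₁) (v : K →₀ R) : j' j₁ g (u, v) = j₁ u + jg g v := by
  rw [j', LinearMap.coprod_apply]

include h₁ in
lemma algebraMap_j' (x : F₁ × (K →₀ R)) :
    algebraMap R A (j' j₁ g x) = jA (A := A) g (ρ x.2) := by
  obtain ⟨u, v⟩ := x
  rw [j'_apply, map_add, algebraMap_j₁ j₁ h₁, zero_add, jA_ρ]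

include h₁ in
lemma ρ_snd_mem_ker (x : F₁ × (K →₀ R)) (hx : x ∈ LinearMap.ker (j' j₁ g)) :
    ρ x.2 ∈ LinearMap.ker (jA (A := A) g) := by
  rw [LinearMap.mem_ker, ← algebraMap_j' j₁ g h₁, LinearMap.mem_ker.1 hx, map_zero]

include hπ h₁ in
lemma exists_lift_ker (w : K →₀ A) (hw : w ∈ LinearMap.ker (jA (A := A) g)) :
    ∃ x : F₁ × (K →₀ R), x ∈ LinearMap.ker (j' j₁ g) ∧ ρ x.2 = w := by
  obtain ⟨v, rfl⟩ := ρ_surjective hπ w
  rw [LinearMap.mem_ker, jA_ρ] at hw
  have : jg g v ∈ LinearMap.range j₁ := by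
    rw [h₁]; exact hw
  obtain ⟨u, hu⟩ := this
  refine ⟨(-u, v), ?_, rfl⟩
  rw [LinearMap.mem_ker, j'_apply, map_neg, hu, neg_add_cancel]

include h₁ in
/-- trivial relations reduce to trivial relations. -/
lemma ρ_snd_mem_triv (t : F₁ × (K →₀ R)) (ht : t ∈ triv (j' j₁ g)) :
    ρ t.2 ∈ triv (jA (A := A) g) := by
  refine Submodule.span_induction ?_ ?_ ?_ ?_ ht
  · rintro _ ⟨a, b, rfl⟩
    refine Submodule.subset_span ⟨ρ a.2, ρ b.2, ?_⟩
    rw [Prod.snd_sub, Prod.smul_snd, Prod.smul_snd, map_sub, ← smul_ρ, ← smul_ρ,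
      algebraMap_j' j₁ g h₁, algebraMap_j' j₁ g h₁]
  · simp
  · intro x y _ _ hx hy
    rw [Prod.snd_add, map_add]
    exact Submodule.add_mem _ hx hy
  · intro c x _ hx
    rw [Prod.smul_snd, ← smul_ρ]
    exact Submodule.smul_mem _ _ hx

include hπ h₁ in
/-- trivial relations lift to trivial relations. -/
lemma exists_triv_lift (w : K →₀ A) (hw : w ∈ triv (jA (A := A) g)) :
    ∃ t ∈ triv (j' j₁ g), ρ t.2 = w := by
  refine Submodule.span_induction ?_ ?_ ?_ ?_ hw
  · rintro _ ⟨a, b, rfl⟩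
    obtain ⟨a', rfl⟩ := ρ_surjective hπ a
    obtain ⟨b', rfl⟩ := ρ_surjective hπ b
    refine ⟨j' j₁ g (0, a') • (0, b') - j' j₁ g (0, b') • (0, a'),
      Submodule.subset_span ⟨(0, a'), (0, b'), rfl⟩, ?_⟩
    rw [Prod.snd_sub, Prod.smul_snd, Prod.smul_snd, map_sub, ← smul_ρ, ← smul_ρ,
      algebraMap_j' j₁ g h₁, algebraMap_j' j₁ g h₁]
  · exact ⟨0, Submodule.zero_mem _, by simp⟩
  · rintro x y _ _ ⟨t, ht, rfl⟩ ⟨t', ht', rfl⟩
    exact ⟨t + t', Submodule.add_mem _ ht ht', by rw [Prod.snd_add, map_add]⟩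
  · rintro c x _ ⟨t, ht, rfl⟩
    obtain ⟨c', rfl⟩ := hπ c
    exact ⟨c' • t, Submodule.smul_mem _ _ ht, by rw [Prod.smul_snd, ← smul_ρ]⟩

include h₁ in
/-- a relation whose second component reduces to zero is a trivial relation plus a relation
of `j₁`. -/
lemma exists_decomp_of_ρ_eq_zero (x : F₁ × (K →₀ R)) (hx : x ∈ LinearMap.ker (j' j₁ g))
    (h0 : ρ (A := A) x.2 = 0) :
    ∃ t ∈ triv (j' j₁ g), ∃ u₀ ∈ LinearMap.ker j₁, x = t + (u₀, 0) := by
  classical
  have hv : ∀ i, ∃ u : F₁, j₁ u = x.2 i := by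
    intro i
    have : x.2 i ∈ LinearMap.range j₁ := by
      rw [h₁, RingHom.mem_ker, ← ρ_apply, h0, Finsupp.zero_apply]
    exact this
  choose u hu using hv
  let t : F₁ × (K →₀ R) := ∑ i ∈ x.2.support,
    (j' j₁ g (u i, 0) • ((0 : F₁), Finsupp.single i (1 : R)) -
      j' j₁ g (0, Finsupp.single i 1) • (u i, (0 : K →₀ R)))
  have ht : t ∈ triv (j' j₁ g) :=
    Submodule.sum_mem _ fun i _ => Submodule.subset_span ⟨(u i, 0), (0, Finsupp.single i 1), rfl⟩
  have ht2 : t.2 = x.2 := by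
    change (∑ i ∈ x.2.support, _ : F₁ × (K →₀ R)).2 = x.2
    rw [Prod.snd_sum]
    have : ∀ i ∈ x.2.support, (j' j₁ g (u i, 0) • ((0 : F₁), Finsupp.single i (1 : R)) -
        j' j₁ g (0, Finsupp.single i 1) • (u i, (0 : K →₀ R))).2 = Finsupp.single i (x.2 i) := by
      intro i _
      rw [Prod.snd_sub, Prod.smul_snd, Prod.smul_snd, smul_zero, sub_zero, j'_apply, map_zero,
        add_zero, hu, Finsupp.smul_single, smul_eq_mul, mul_one]
    rw [Finset.sum_congr rfl this]
    exact Finsupp.sum_single x.2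
  have hxt : x - t ∈ LinearMap.ker (j' j₁ g) :=
    Submodule.sub_mem _ hx (triv_le_ker _ ht)
  refine ⟨t, ht, (x - t).1, ?_, ?_⟩
  · rw [LinearMap.mem_ker] at hxt ⊢
    have h2 : (x - t) = ((x - t).1, 0) := by
      refine Prod.ext rfl ?_
      rw [Prod.snd_sub, ht2, sub_self]
    rw [h2, j'_apply, map_zero, add_zero] at hxt
    exact hxt
  · refine Prod.ext ?_ ?_
    · rw [Prod.fst_add, Prod.fst_sub]; abel
    · rw [Prod.snd_add, ht2, add_zero]

variable (M : Type*) [AddCommGroup M] [Module R M] [Module A M] [IsScalarTower R A M]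
  (hM : ∀ (i : K) (x : M), g i • x = 0)

include hM in
lemma jg_smul (v : K →₀ R) (x : M) : jg g v • x = 0 := by
  induction v using Finsupp.induction_linear with
  | zero => simp
  | add a b ha hb => rw [map_add, add_smul, ha, hb, add_zero]
  | single i c => rw [jg, Finsupp.linearCombination_single, smul_eq_mul, mul_smul, hM, smul_zero]

include h₁ hM in
lemma j'_smul (y : F₁ × (K →₀ R)) (x : M) : j' j₁ g y • x = 0 := by
  obtain ⟨u, v⟩ := y
  rw [j'_apply, add_smul, jg_smul g M hM, add_zero, ← algebraMap_smul A, algebraMap_j₁ j₁ h₁,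
    zero_smul]

include h₁ hM in
lemma map_triv_eq_zero (ψ : (F₁ × (K →₀ R)) →ₗ[R] M) (t : F₁ × (K →₀ R))
    (ht : t ∈ triv (j' j₁ g)) : ψ t = 0 := by
  have : triv (j' j₁ g) ≤ LinearMap.ker ψ := by
    refine Submodule.span_le.2 ?_
    rintro _ ⟨a, b, rfl⟩
    rw [SetLike.mem_coe, LinearMap.mem_ker, map_sub, map_smul, map_smul, j'_smul j₁ g h₁ M hM,
      j'_smul j₁ g h₁ M hM, sub_zero]
  exact this ht

include hπ h₁ hM in
/-- **Chase α**: exactness of `T²(B/A) → T²(B/k) → T²(A/k)` in the middle, in the case where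
the relations of the generators of `I` are Koszul. -/
theorem van_j' (hv : Van j₁ M)
    (hK : LinearMap.ker (jA (A := A) g) ≤ triv (jA (A := A) g)) : Van (j' j₁ g) M := by
  intro φ' hφ'
  have hinl : j' j₁ g ∘ₗ LinearMap.inl R F₁ (K →₀ R) = j₁ := by
    rw [j', LinearMap.coprod_inl]
  obtain ⟨l, hl⟩ := hv (φ' ∘ₗ αR (LinearMap.inl R F₁ (K →₀ R)) hinl) (by
    intro q hq
    exact hφ' _ (map_triv (LinearMap.inl R F₁ (K →₀ R)) hinl _ hq))
  refine ⟨l ∘ₗ LinearMap.fst R F₁ (K →₀ R), ?_⟩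
  rintro ⟨x, hx⟩
  -- decompose `x`
  have h1 : ρ x.2 ∈ triv (jA (A := A) g) := hK (ρ_snd_mem_ker j₁ g h₁ x hx)
  obtain ⟨t, ht, htx⟩ := exists_triv_lift j₁ g hπ h₁ _ h1
  have hxt : x - t ∈ LinearMap.ker (j' j₁ g) := Submodule.sub_mem _ hx (triv_le_ker _ ht)
  have h0 : ρ (A := A) (x - t).2 = 0 := by
    rw [Prod.snd_sub, map_sub, htx, sub_self]
  obtain ⟨t', ht', u₀, hu₀, hdec⟩ := exists_decomp_of_ρ_eq_zero j₁ g h₁ (x - t) hxt h0
  have hx' : x = (t + t') + (u₀, 0) := by
    rw [add_assoc, ← hdec]; abel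
  have htt : t + t' ∈ triv (j' j₁ g) := Submodule.add_mem _ ht ht'
  have hu₀' : ((u₀, 0) : F₁ × (K →₀ R)) ∈ LinearMap.ker (j' j₁ g) := by
    rw [LinearMap.mem_ker, j'_apply, map_zero, add_zero]; exact hu₀
  have hsplit : (⟨x, hx⟩ : LinearMap.ker (j' j₁ g)) =
      ⟨t + t', triv_le_ker _ htt⟩ + ⟨(u₀, 0), hu₀'⟩ := Subtype.ext hx'
  have hR : φ' ⟨x, hx⟩ = φ' ⟨(u₀, 0), hu₀'⟩ := by
    rw [hsplit, map_add, hφ' ⟨t + t', _⟩ htt, zero_add]
  rw [hR]
  change l (x.1) = _
  have hx1 : x.1 = (t + t').1 + u₀ := by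
    rw [hx', Prod.fst_add]
  have h2 := map_triv_eq_zero j₁ g h₁ M hM (l ∘ₗ LinearMap.fst R F₁ (K →₀ R)) _ htt
  rw [LinearMap.comp_apply, LinearMap.fst_apply] at h2
  rw [hx1, map_add, h2, zero_add]
  have h3 := hl ⟨u₀, hu₀⟩
  rw [h3]
  rfl

variable {k : Type*} [CommRing k] [Algebra k R] [Module k M] [IsScalarTower k R M]

omit [IsScalarTower k R M] in
include hM in
lemma D_jg (D : Derivation k R M) (v : K →₀ R) :
    D (jg g v) = Finsupp.linearCombination R (fun i => D (g i)) v := by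
  induction v using Finsupp.induction_linear with
  | zero => simp
  | add a b ha hb => rw [map_add, map_add, map_add, ha, hb]
  | single i c =>
    rw [jg, Finsupp.linearCombination_single, Finsupp.linearCombination_single, smul_eq_mul,
      Derivation.leibniz, hM, add_zero]

include hπ h₁ hM in
/-- **Chase β**: injectivity of `T²(B/A) → T²(B/k)` modulo the image of `T¹(A/k)`, the latter
being zero. -/
theorem van_jA (hv : Van (j' j₁ g) M)
    (hD : ∀ l : F₁ →ₗ[R] M, (∀ u ∈ LinearMap.ker j₁, l u = 0) →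
      ∃ D : Derivation k R M, ∀ u, D (j₁ u) = l u) : Van (jA (A := A) g) M := by
  intro φ hφ
  let φ' : LinearMap.ker (j' j₁ g) →ₗ[R] M :=
    { toFun := fun x => φ ⟨ρ x.1.2, ρ_snd_mem_ker j₁ g h₁ x.1 x.2⟩
      map_add' := by
        intro x y
        rw [← map_add]
        congr 1
        apply Subtype.ext
        change ρ (x.1 + y.1).2 = ρ x.1.2 + ρ y.1.2
        rw [Prod.snd_add, map_add]
      map_smul' := by
        intro c x
        rw [RingHom.id_apply, ← algebraMap_smul A c (φ _), ← map_smul]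
        congr 1
        apply Subtype.ext
        change ρ (c • x.1).2 = algebraMap R A c • ρ x.1.2
        rw [Prod.smul_snd, smul_ρ] }
  have hφ'def : ∀ x : LinearMap.ker (j' j₁ g),
      φ' x = φ ⟨ρ x.1.2, ρ_snd_mem_ker j₁ g h₁ x.1 x.2⟩ := fun _ => rfl
  obtain ⟨ψ, hψ⟩ := hv φ' (by
    intro q hq
    rw [hφ'def]
    exact hφ _ (ρ_snd_mem_triv j₁ g h₁ _ hq))
  -- the derivation
  obtain ⟨D, hDl⟩ := hD (ψ ∘ₗ LinearMap.inl R F₁ (K →₀ R)) (by
    intro u hu
    have hu' : ((u, 0) : F₁ × (K →₀ R)) ∈ LinearMap.ker (j' j₁ g) := by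
      rw [LinearMap.mem_ker, j'_apply, map_zero, add_zero]; exact hu
    have := hψ ⟨(u, 0), hu'⟩
    rw [LinearMap.comp_apply, LinearMap.inl_apply]
    change ψ (u, 0) = _ at this
    rw [this, hφ'def]
    have h0 : (⟨ρ (0 : K →₀ R), ρ_snd_mem_ker j₁ g h₁ (u, 0) hu'⟩ :
        LinearMap.ker (jA (A := A) g)) = 0 := Subtype.ext (map_zero _)
    exact (congrArg φ h0).trans (map_zero φ))
  let m : K → M := fun i => ψ (0, Finsupp.single i 1) - D (g i)
  let ψA : (K →₀ A) →ₗ[A] M := Finsupp.linearCombination A m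
  have hν : ∀ v : K →₀ R, ψA (ρ v) =
      ψ (0, v) - Finsupp.linearCombination R (fun i => D (g i)) v := by
    intro v
    induction v using Finsupp.induction_linear with
    | zero =>
      rw [map_zero, map_zero, map_zero, show ((0 : F₁), (0 : K →₀ R)) = 0 from rfl, map_zero,
        sub_zero]
    | add a b ha hb =>
      have : ((0 : F₁), a + b) = (0, a) + (0, b) := by
        rw [Prod.mk_add_mk, add_zero]
      rw [map_add, map_add, map_add, ha, hb, this, map_add]
      abel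
    | single i c =>
      have h1 : ((0 : F₁), Finsupp.single i c) = c • ((0 : F₁), Finsupp.single i (1 : R)) := by
        rw [Prod.smul_mk, smul_zero, Finsupp.smul_single, smul_eq_mul, mul_one]
      rw [ρ_single, Finsupp.linearCombination_single, Finsupp.linearCombination_single, h1,
        map_smul, algebraMap_smul, ← smul_sub]
  refine ⟨ψA, ?_⟩
  rintro ⟨w, hw⟩
  obtain ⟨x, hx, rfl⟩ := exists_lift_ker j₁ g hπ h₁ w hw
  have h1 : φ ⟨ρ x.2, hw⟩ = φ' ⟨x, hx⟩ := rfl
  rw [h1, ← hψ ⟨x, hx⟩, hν]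
  change _ = ψ x
  obtain ⟨u, v⟩ := x
  change ψ (0, v) - Finsupp.linearCombination R (fun i => D (g i)) v = ψ (u, v)
  have h2 : ψ (u, v) = ψ (u, 0) + ψ (0, v) := by
    rw [← map_add, Prod.mk_add_mk, add_zero, zero_add]
  have h3 : ψ (u, 0) = D (j₁ u) := by
    rw [hDl]; rfl
  have h4 : j₁ u = - jg g v := by
    rw [LinearMap.mem_ker, j'_apply] at hx
    exact eq_neg_of_add_eq_zero_left hx
  rw [h2, h3, h4, map_neg, D_jg g M hM]
  abel

end Chase

end

end Groth.Agent.Helper2.JZVan
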