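import Mathlib
import Groth.Prelude
import Groth.Agent.Helper2.JZVan
import Groth.Agent.Helper2.CotTGen
import Groth.Agent.Helper2.CotTIndep

namespace Groth.Agent.Helper2.JZBridge

open CotT Function TensorProduct Groth.Agent.Helper2.CotTGen Groth.Agent.Helper2.JZVan
  Groth.Agent.Helper2.T2Mod

noncomputable section

universe u

section B2

variable {A₀ : Type*} {B : Type*} {ι σ : Type*} [CommRing A₀] [CommRing B] [Algebra A₀ B]
  (P : Algebra.Presentation A₀ B ι σ) (M : Type*) [AddCommGroup M] [Module B M]
  [Module P.toExtension.Ring M] [IsScalarTower P.toExtension.Ring B M]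

/-- `T²` of a presentation vanishes iff the abstract criterion holds. -/
theorem subsingleton_T2_iff_van : Subsingleton (T2 P M) ↔ Van (jmap P) M := by
  rw [Submodule.Quotient.subsingleton_iff]
  constructor
  · intro htop φ hφ
    have hZ : φ ∈ Zs P M := fun q hq => hφ q hq
    have h1 : ofZ P M φ hZ ∈ LinearMap.range (d2Star P M) := by rw [htop]; exact Submodule.mem_top
    rw [mem_range_d2Star_iff, toZ_ofZ] at h1
    obtain ⟨ψ, hψ⟩ := h1
    refine ⟨ψ, fun q => ?_⟩
    rw [← hψ]
    rfl
  · intro hv
    rw [_root_.eq_top_iff]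
    intro μ _
    rw [mem_range_d2Star_iff]
    obtain ⟨ψ, hψ⟩ := hv (toZ P M μ) (fun q hq => toZ_mem_Zs P M μ q hq)
    refine ⟨ψ, ?_⟩
    ext q
    exact hψ q

variable [Module A₀ M] [IsScalarTower A₀ P.toExtension.Ring M]

/-- if `T¹` vanishes, every linear map on the kernel ideal is induced by a derivation. -/
theorem exists_derivation_of_subsingleton_T1 [Subsingleton (T1 P M)]
    (l : relMod P →ₗ[P.toExtension.Ring] M) (hl : ∀ u ∈ LinearMap.ker (jmap P), l u = 0) :
    ∃ D : Derivation A₀ P.toExtension.Ring M, ∀ u, D (jmap P u) = l u := by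
  let c : L1 P →ₗ[B] M := l.liftBaseChange B
  have hc : c ∈ cocycles1 P M := by
    rw [LinearMap.mem_ker, d2Star_apply]
    refine L2_hom_ext P fun q => ?_
    rw [LinearMap.comp_apply, d2_mk_tmul, LinearMap.zero_apply, LinearMap.liftBaseChange_tmul,
      one_smul]
    exact hl _ q.2
  have h0 : (Submodule.Quotient.mk ⟨c, hc⟩ : T1 P M) = Submodule.Quotient.mk 0 :=
    Subsingleton.elim _ _
  rw [Submodule.Quotient.eq, sub_zero] at h0
  obtain ⟨ψ, hψ⟩ := h0
  have hψ' : ψ ∘ₗ d1 P = c := hψ
  let ψR : Ω[P.toExtension.Ring⁄A₀] →ₗ[P.toExtension.Ring] M :=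
    (ψ.restrictScalars P.toExtension.Ring) ∘ₗ
      (TensorProduct.mk P.toExtension.Ring B Ω[P.toExtension.Ring⁄A₀] 1)
  refine ⟨ψR.compDer (KaehlerDifferential.D A₀ P.toExtension.Ring), fun u => ?_⟩
  change ψ ((1 : B) ⊗ₜ KaehlerDifferential.D A₀ P.toExtension.Ring (jmap P u)) = l u
  have h1 : d1 P ((1 : B) ⊗ₜ u) =
      (1 : B) ⊗ₜ KaehlerDifferential.D A₀ P.toExtension.Ring (jmap P u) := by
    rw [d1_tmul, one_smul]
  rw [← h1, ← LinearMap.comp_apply, hψ', LinearMap.liftBaseChange_tmul, one_smul]

end B2

theorem van_iff' {P : Type*} [CommRing P] {F : Type*} [AddCommGroup F] [Module P F]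
    {F' : Type*} [AddCommGroup F'] [Module P F'] {j : F →ₗ[P] P} {j' : F' →ₗ[P] P}
    (N : Type*) [AddCommGroup N] [Module P N]
    (hF : Module.Projective P F) (hF' : Module.Projective P F')
    (h : LinearMap.range j = LinearMap.range j') : Van j N ↔ Van j' N :=
  van_iff N h

section B1

variable (k A : Type u) [CommRing k] [CommRing A] [Algebra k A] (I : Ideal A)

/-- generators of `A ⧸ I` over `k`: one variable for every element of `A`. -/
def genQ : Algebra.Generators k (A ⧸ I) A :=
  Algebra.Generators.ofSurjective (fun a : A => (Ideal.Quotient.mk I a)) (by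
    intro b
    obtain ⟨a, rfl⟩ := Ideal.Quotient.mk_surjective b
    exact ⟨MvPolynomial.X a, by simp⟩)

/-- the presentation of `A ⧸ I` over `k` with a variable for every element of `A` and a relation
for every element of the kernel. -/
def presQ : Algebra.Presentation k (A ⧸ I) A (genQ k A I).ker where
  __ := genQ k A I
  relation := Subtype.val
  span_range_relation_eq_ker := by
    refine le_antisymm (Ideal.span_le.mpr ?_) fun x hx => Ideal.subset_span ⟨⟨x, hx⟩, rfl⟩
    rintro _ ⟨r, rfl⟩
    exact r.2

/-- the polynomial ring `k[X_a, a ∈ A]`. -/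
abbrev RR : Type u := (CotT.canon k A).toExtension.Ring

lemma algebraMap_presQ (x : RR k A) :
    algebraMap (presQ k A I).toExtension.Ring (A ⧸ I) x =
      Ideal.Quotient.mk I (algebraMap (RR k A) A x) := by
  have h1 : algebraMap (presQ k A I).toExtension.Ring (A ⧸ I) x =
      MvPolynomial.aeval (fun a : A => (Ideal.Quotient.mk I a)) x :=
    (presQ k A I).algebraMap_apply x
  have h2 : algebraMap (RR k A) A x = MvPolynomial.aeval (fun a : A => a) x :=
    (CotT.canon k A).algebraMap_apply x
  rw [h1, h2]
  exact (MvPolynomial.comp_aeval_apply (fun a : A => a) (Ideal.Quotient.mkₐ k I) x).symm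

lemma mem_ker_presQ (x : RR k A) :
    x ∈ (presQ k A I).ker ↔ algebraMap (RR k A) A x ∈ I := by
  rw [← Ideal.Quotient.eq_zero_iff_mem, ← algebraMap_presQ]
  exact RingHom.mem_ker

lemma ker_presQ : (presQ k A I).ker = (I.comap (algebraMap (RR k A) A) : Ideal (RR k A)) := by
  apply SetLike.ext
  intro x
  exact mem_ker_presQ k A I x

variable {k A}

lemma range_j'_eq {K : Type*} (g : K → RR k A)
    (hg : Ideal.span (Set.range fun i => algebraMap (RR k A) A (g i)) = I) :
    LinearMap.range (j' (jmap (CotT.canon k A)) g) = I.comap (algebraMap (RR k A) A) := by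
  have hsurj : Surjective (algebraMap (RR k A) A) :=
    (CotT.canon k A).toExtension.algebraMap_surjective
  have h2 : LinearMap.range (jmap (CotT.canon k A)) = (CotT.canon k A).ker := range_jmap _
  have h3 : LinearMap.range (jg g) = Ideal.span (Set.range g) := by
    rw [jg, Finsupp.range_linearCombination]
  have h4 : (CotT.canon k A).ker = RingHom.ker (algebraMap (RR k A) A) := rfl
  have h5 : Ideal.span (Set.range fun i => algebraMap (RR k A) A (g i)) =
      (Ideal.span (Set.range g)).map (algebraMap (RR k A) A) := by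
    rw [Ideal.map_span, ← Set.range_comp]
    rfl
  rw [j', LinearMap.range_coprod, h2, h3, h4, ← hg, h5, Ideal.comap_map_of_surjective' _ hsurj,
    RingHom.ker_eq_comap_bot, sup_comm]

variable (M : Type u) [AddCommGroup M] [Module (A ⧸ I) M] [Module A M]
  [IsScalarTower A (A ⧸ I) M] [Module (RR k A) M] [IsScalarTower (RR k A) A M]
  {K : Type*} (g : K → RR k A)

/-- `T²((A/I)/k, M) = 0` in terms of the cover `F(A/k) × R^K` of the kernel of `R → A/I`. -/
theorem subsingleton_T2_quot_iff
    (hg : Ideal.span (Set.range fun i => algebraMap (RR k A) A (g i)) = I) :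
    Subsingleton (CotT.T2 (CotT.canon k (A ⧸ I)) M) ↔
      Van (j' (jmap (CotT.canon k A)) g) M := by
  obtain ⟨e⟩ := CotTIndep.nonempty_T2_equiv_of_presentations (CotT.canon k (A ⧸ I)) (presQ k A I) M
  letI i1 : Module (presQ k A I).toExtension.Ring M := inferInstanceAs (Module (RR k A) M)
  haveI i2 : IsScalarTower (presQ k A I).toExtension.Ring (A ⧸ I) M := by
    refine IsScalarTower.of_algebraMap_smul fun r x => ?_
    rw [algebraMap_presQ]
    have h1 : (Ideal.Quotient.mk I (algebraMap (RR k A) A r)) • x =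
        (algebraMap (RR k A) A r) • x := algebraMap_smul (A ⧸ I) _ x
    have h2 : (algebraMap (RR k A) A r) • x = (r : RR k A) • x := algebraMap_smul A _ x
    exact h1.trans h2
  rw [e.toEquiv.subsingleton_congr, subsingleton_T2_iff_van (presQ k A I) M]
  have hrange : LinearMap.range (jmap (presQ k A I)) =
      LinearMap.range (j' (jmap (CotT.canon k A)) g) :=
    (range_jmap (presQ k A I)).trans ((ker_presQ k A I).trans (range_j'_eq I g hg).symm)
  letI i3 : Module (presQ k A I).toExtension.Ring (relMod (CotT.canon k A) × (K →₀ RR k A)) :=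
    inferInstanceAs (Module (RR k A) (relMod (CotT.canon k A) × (K →₀ RR k A)))
  have i4' : Module.Projective (RR k A) (relMod (CotT.canon k A) × (K →₀ RR k A)) :=
    inferInstance
  exact van_iff' M inferInstance i4' hrange

end B1

end

end Groth.Agent.Helper2.JZBridge
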