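import Mathlib
import Groth.Prelude
import Groth.Agent.Helper2.CotTPoly
import Groth.Agent.Helper2.CotTReg

namespace Groth.Agent.Helper2.KoszReg

open Groth.Agent.Helper2.CotTPoly IsLocalRing RingTheory.Sequence

noncomputable section

variable {A : Type*} [CommRing A] {n : ℕ} (f : Fin n → A)

/-- elements supported below `m` -/
def Sm (m : ℕ) : Submodule A (Fin n →₀ A) := Finsupp.supported A A {i : Fin n | i.val < m}

/-- relations supported below `m` -/
def Relm (m : ℕ) : Submodule A (Fin n →₀ A) :=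
  Sm m ⊓ LinearMap.ker (Finsupp.linearCombination A f)

/-- Koszul relations among the first `m` elements -/
def koszm (m : ℕ) : Submodule A (Fin n →₀ A) :=
  Submodule.span A {z | ∃ k l : Fin n, k.val < m ∧ l.val < m ∧
    z = Finsupp.single l (f k) - Finsupp.single k (f l)}

lemma single_mem_Sm {m : ℕ} (i : Fin n) (hi : i.val < m) (c : A) : Finsupp.single i c ∈ Sm (A := A) m :=
  Finsupp.single_mem_supported A c hi

lemma apply_eq_zero_of_mem_Sm {m : ℕ} {b : Fin n →₀ A} (hb : b ∈ Sm m) (i : Fin n)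
    (hi : ¬ i.val < m) : b i = 0 := by
  by_contra hne
  have : i ∈ b.support := Finsupp.mem_support_iff.2 hne
  exact hi ((Finsupp.mem_supported A b).1 hb this)

lemma Sm_mono {m m' : ℕ} (h : m ≤ m') : Sm (A := A) (n := n) m ≤ Sm m' :=
  Finsupp.supported_mono fun i (hi : i.val < m) => lt_of_lt_of_le hi h

lemma koszm_le_Relm (m : ℕ) : koszm f m ≤ Relm f m := by
  refine Submodule.span_le.2 ?_
  rintro _ ⟨k, l, hk, hl, rfl⟩
  refine ⟨Submodule.sub_mem _ (single_mem_Sm l hl _) (single_mem_Sm k hk _), ?_⟩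
  rw [SetLike.mem_coe, LinearMap.mem_ker, map_sub, Finsupp.linearCombination_single,
    Finsupp.linearCombination_single, smul_eq_mul, smul_eq_mul, mul_comm, sub_self]

lemma koszm_top : koszm f n = kosz f := by
  apply le_antisymm
  · refine Submodule.span_le.2 ?_
    rintro _ ⟨k, l, -, -, rfl⟩
    exact Submodule.subset_span ⟨k, l, rfl⟩
  · refine Submodule.span_le.2 ?_
    rintro _ ⟨k, l, rfl⟩
    exact Submodule.subset_span ⟨k, l, k.2, l.2, rfl⟩

lemma koszm_apply_mem {m : ℕ} (i₀ : Fin n) (hi₀ : i₀.val = m) :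
    koszm f (m + 1) ≤
      Submodule.comap (Finsupp.lapply i₀) (Ideal.span (f '' {j | j < i₀}) : Submodule A A) := by
  refine Submodule.span_le.2 ?_
  rintro _ ⟨k, l, hk, hl, rfl⟩
  rw [SetLike.mem_coe, Submodule.mem_comap, Finsupp.lapply_apply, Finsupp.sub_apply,
    Finsupp.single_apply, Finsupp.single_apply]
  have key : ∀ j : Fin n, j.val < m + 1 → j ≠ i₀ → f j ∈ Ideal.span (f '' {j | j < i₀}) := by
    intro j hj hne
    refine Ideal.subset_span ⟨j, ?_, rfl⟩
    have h1 : j.val ≠ i₀.val := fun h => hne (Fin.ext h)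
    exact Fin.lt_def.2 (by omega)
  by_cases hl' : l = i₀
  · by_cases hk' : k = i₀
    · subst hl' hk'
      simp
    · rw [if_pos hl', if_neg hk', sub_zero]
      exact key k hk hk'
  · by_cases hk' : k = i₀
    · rw [if_neg hl', if_pos hk', zero_sub]
      exact Submodule.neg_mem _ (key l hl hl')
    · rw [if_neg hl', if_neg hk', sub_zero]
      exact Submodule.zero_mem _

lemma koszm_decomp {m : ℕ} (i₀ : Fin n) (hi₀ : i₀.val = m) (z : Fin n →₀ A)
    (hz : z ∈ koszm f (m + 1)) :
    ∃ z' ∈ koszm f m, ∃ e ∈ Sm (A := A) (n := n) m,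
      z = z' + (f i₀ • e - Finsupp.single i₀ (Finsupp.linearCombination A f e)) := by
  refine Submodule.span_induction ?_ ?_ ?_ ?_ hz
  · rintro _ ⟨k, l, hk, hl, rfl⟩
    by_cases hk' : k.val < m
    · by_cases hl' : l.val < m
      · refine ⟨_, Submodule.subset_span ⟨k, l, hk', hl', rfl⟩, 0, Submodule.zero_mem _, ?_⟩
        simp
      · have hl2 : l = i₀ := Fin.ext (by omega)
        subst hl2
        refine ⟨0, Submodule.zero_mem _, -Finsupp.single k 1,
          Submodule.neg_mem _ (single_mem_Sm k hk' _), ?_⟩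
        rw [map_neg, Finsupp.linearCombination_single, one_smul, smul_neg, Finsupp.smul_single,
          smul_eq_mul, mul_one, Finsupp.single_neg, zero_add]
        abel
    · have hk2 : k = i₀ := Fin.ext (by omega)
      subst hk2
      by_cases hl' : l.val < m
      · refine ⟨0, Submodule.zero_mem _, Finsupp.single l 1, single_mem_Sm l hl' _, ?_⟩
        rw [Finsupp.linearCombination_single, one_smul, Finsupp.smul_single, smul_eq_mul, mul_one,
          zero_add]
      · have hl2 : l = k := Fin.ext (by omega)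
        subst hl2
        refine ⟨0, Submodule.zero_mem _, 0, Submodule.zero_mem _, ?_⟩
        simp
  · exact ⟨0, Submodule.zero_mem _, 0, Submodule.zero_mem _, by simp⟩
  · rintro x y - - ⟨x', hx', e, he, rfl⟩ ⟨y', hy', e', he', rfl⟩
    refine ⟨x' + y', Submodule.add_mem _ hx' hy', e + e', Submodule.add_mem _ he he', ?_⟩
    rw [map_add, Finsupp.single_add, smul_add]
    abel
  · rintro c x - ⟨x', hx', e, he, rfl⟩
    refine ⟨c • x', Submodule.smul_mem _ c hx', c • e, Submodule.smul_mem _ c he, ?_⟩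
    rw [map_smul, smul_add, smul_sub, smul_comm c (f i₀) e, Finsupp.smul_single]

variable [IsNoetherianRing A] [IsLocalRing A]

lemma step {m : ℕ} (i₀ : Fin n) (hi₀ : i₀.val = m) (hmem : f i₀ ∈ maximalIdeal A)
    (h : Relm f (m + 1) ≤ koszm f (m + 1)) : Relm f m ≤ koszm f m := by
  have hfg : (Relm f m).FG := IsNoetherian.noetherian _
  have hjac : Ideal.span {f i₀} ≤ Ideal.jacobson (⊥ : Ideal A) := by
    rw [IsLocalRing.jacobson_eq_maximalIdeal ⊥ bot_ne_top, Ideal.span_singleton_le_iff_mem]
    exact hmem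
  refine Submodule.le_of_le_smul_of_le_jacobson_bot hfg hjac ?_
  intro b hb
  have hb1 : b ∈ Relm f (m + 1) := ⟨Sm_mono (Nat.le_succ m) hb.1, hb.2⟩
  obtain ⟨z', hz', e, he, hbe⟩ := koszm_decomp f i₀ hi₀ b (h hb1)
  have hnot : ¬ i₀.val < m := by omega
  have h0 := apply_eq_zero_of_mem_Sm hb.1 i₀ hnot
  have h1 := apply_eq_zero_of_mem_Sm (koszm_le_Relm f m hz').1 i₀ hnot
  have h2 := apply_eq_zero_of_mem_Sm he i₀ hnot
  have hlc : Finsupp.linearCombination A f e = 0 := by
    have := congrArg (fun x : Fin n →₀ A => x i₀) hbe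
    simp only [Finsupp.add_apply, Finsupp.sub_apply, Finsupp.smul_apply, Finsupp.single_eq_same,
      h0, h1, h2, smul_eq_mul, mul_zero, zero_sub, zero_add] at this
    exact neg_eq_zero.1 this.symm
  rw [hlc, Finsupp.single_zero, sub_zero] at hbe
  rw [hbe]
  refine Submodule.add_mem_sup hz' ?_
  exact Submodule.smul_mem_smul (Ideal.mem_span_singleton_self _) ⟨he, hlc⟩

omit [IsNoetherianRing A] [IsLocalRing A] in
lemma cond_of_le {m : ℕ} (i₀ : Fin n) (hi₀ : i₀.val = m)
    (h : Relm f (m + 1) ≤ koszm f (m + 1)) (c : A)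
    (hc : f i₀ * c ∈ Ideal.span (f '' {j | j < i₀})) : c ∈ Ideal.span (f '' {j | j < i₀}) := by
  rw [Ideal.span, Finsupp.mem_span_image_iff_linearCombination] at hc
  obtain ⟨d, hd, hdc⟩ := hc
  have hd0 : d i₀ = 0 := by
    by_contra hne
    have : i₀ ∈ d.support := Finsupp.mem_support_iff.2 hne
    exact lt_irrefl i₀ ((Finsupp.mem_supported A d).1 hd this)
  have hdS : d ∈ Sm (A := A) (n := n) (m + 1) := by
    refine Finsupp.supported_mono ?_ hd
    intro j (hj : j < i₀)
    have := Fin.lt_def.1 hj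
    change j.val < m + 1
    omega
  have hb : Finsupp.single i₀ c - d ∈ Relm f (m + 1) := by
    refine ⟨Submodule.sub_mem _ (single_mem_Sm i₀ (by omega) c) hdS, ?_⟩
    rw [SetLike.mem_coe, LinearMap.mem_ker, map_sub, Finsupp.linearCombination_single, hdc,
      smul_eq_mul, mul_comm, sub_self]
  have h3 := koszm_apply_mem f i₀ hi₀ (h hb)
  rw [Submodule.mem_comap, Finsupp.lapply_apply, Finsupp.sub_apply, Finsupp.single_eq_same, hd0,
    sub_zero] at h3
  exact h3

/-- In a Noetherian local ring, elements of the maximal ideal all of whose relations are Koszul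
form a regular sequence. -/
theorem regular_cond_of_rel_le_kosz (hm : ∀ i, f i ∈ maximalIdeal A)
    (h : ∀ b : Fin n →₀ A, Finsupp.linearCombination A f b = 0 → b ∈ kosz f)
    (i : Fin n) (c : A) (hc : f i * c ∈ Ideal.span (f '' {j | j < i})) :
    c ∈ Ideal.span (f '' {j | j < i}) := by
  have key : ∀ d m : ℕ, m + d = n → Relm f m ≤ koszm f m := by
    intro d
    induction d with
    | zero =>
      intro m hmn
      have : m = n := by omega
      subst this
      intro b hb
      rw [koszm_top]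
      exact h b hb.2
    | succ d ih =>
      intro m hmn
      have hlt : m < n := by omega
      exact step f ⟨m, hlt⟩ rfl (hm _) (ih (m + 1) (by omega))
  have hi : i.val + 1 + (n - (i.val + 1)) = n := by have := i.2; omega
  exact cond_of_le f i rfl (key _ _ hi) c hc

omit [IsNoetherianRing A] [IsLocalRing A] in
/-- converse of `CotTReg.regular_cond_of_isWeaklyRegular`. -/
theorem isWeaklyRegular_of_regular_cond
    (h : ∀ (i : Fin n) (c : A), f i * c ∈ Ideal.span (f '' {j | j < i}) →
      c ∈ Ideal.span (f '' {j | j < i})) : IsWeaklyRegular A (List.ofFn f) := by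
  rw [isWeaklyRegular_iff_Fin]
  intro i'
  have hlen : (List.ofFn f).length = n := List.length_ofFn
  let i : Fin n := ⟨i'.val, lt_of_lt_of_eq i'.2 hlen⟩
  rw [isSMulRegular_quotient_iff_mem_of_smul_mem]
  have hI : ∀ z : A, z ∈ (Ideal.ofList ((List.ofFn f).take i') • ⊤ : Submodule A A) ↔
      z ∈ Ideal.span (f '' {j | j < i}) := by
    intro z
    rw [smul_eq_mul, Ideal.mul_top]
    have : {x | x ∈ (List.ofFn f).take i'} = f '' {j | j < i} := by
      ext x
      simp only [Set.mem_ofPred_eq, Set.mem_image]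
      constructor
      · intro ha
        obtain ⟨j, hj, rfl⟩ := (CotTReg.mem_take_ofFn_iff f i x).mp ha
        exact ⟨j, hj, rfl⟩
      · rintro ⟨j, hj, rfl⟩
        exact (CotTReg.mem_take_ofFn_iff f i _).mpr ⟨j, hj, rfl⟩
    unfold Ideal.ofList
    rw [this]
  intro y hy
  rw [hI] at hy ⊢
  apply h i y
  have h2 : (List.ofFn f)[i'] = f i := by
    simp [i]
  rw [h2, smul_eq_mul] at hy
  exact hy

end

end Groth.Agent.Helper2.KoszReg
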