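import Mathlib
import Groth.Prelude
import Groth.Agent.Helper2.JZBridge
import Groth.Agent.Helper2.KoszReg
import Groth.Agent.Helper2.SyzLocal
import Groth.Agent.Helper2.RegCM
import Groth.Agent.Helper2.DepthCM2

namespace Groth.Agent.Helper2.JZMain

open CotT Function IsLocalRing RingTheory.Sequence Module
open Groth.Agent.Helper2.JZVan Groth.Agent.Helper2.JZBridge Groth.Agent.Helper2.T2Mod
  Groth.Agent.Helper2.CotTPoly

universe u

noncomputable section

section MinGen

variable {A : Type u} [CommRing A] [IsLocalRing A]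

/-- a minimal system of generators: all relations have coefficients in the maximal ideal. -/
theorem exists_minimal_generators (I : Ideal A) (hfg : I.FG) :
    ∃ (n : ℕ) (f : Fin n → A), Ideal.span (Set.range f) = I ∧
      ∀ b : Fin n →₀ A, Finsupp.linearCombination A f b = 0 → ∀ i, b i ∈ maximalIdeal A := by
  classical
  obtain ⟨s, hcard, hs⟩ := Submodule.FG.exists_span_finset_card_eq_spanFinrank hfg
  let e := s.equivFin
  let f : Fin s.card → A := fun i => (e.symm i : A)
  have hrange : Set.range f = (s : Set A) := by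
    ext x
    constructor
    · rintro ⟨i, rfl⟩
      exact (e.symm i).2
    · intro hx
      exact ⟨e ⟨x, hx⟩, by simp [f]⟩
  have hinj : Injective f := fun i j h => e.symm.injective (Subtype.ext h)
  refine ⟨s.card, f, by rw [hrange]; exact hs, ?_⟩
  intro b hb i₀
  by_contra hnot
  have hunit : IsUnit (b i₀) := by
    by_contra h
    exact hnot ((mem_maximalIdeal _).2 h)
  have hmem : f i₀ ∈ Ideal.span (((s.erase (f i₀) : Finset A)) : Set A) := by
    have hsum : b i₀ * f i₀ = - ∑ i ∈ Finset.univ.erase i₀, b i * f i := by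
      rw [Finsupp.linearCombination_apply,
        Finsupp.sum_fintype b (fun i a => a • f i) (fun i => zero_smul A (f i))] at hb
      rw [← Finset.add_sum_erase Finset.univ _ (Finset.mem_univ i₀)] at hb
      simp only [smul_eq_mul] at hb
      exact eq_neg_of_add_eq_zero_left hb
    have h1 : b i₀ * f i₀ ∈ Ideal.span (((s.erase (f i₀) : Finset A)) : Set A) := by
      rw [hsum]
      refine Submodule.neg_mem _ (Submodule.sum_mem _ fun i hi => ?_)
      refine Ideal.mul_mem_left _ _ (Ideal.subset_span ?_)
      rw [Finset.mem_coe, Finset.mem_erase]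
      exact ⟨fun h => (Finset.ne_of_mem_erase hi) (hinj h), (e.symm i).2⟩
    exact (Ideal.unit_mul_mem_iff_mem _ hunit).1 h1
  have hle : I ≤ Ideal.span (((s.erase (f i₀) : Finset A)) : Set A) := by
    rw [← hs]
    refine Ideal.span_le.2 fun x hx => ?_
    by_cases hx' : x = f i₀
    · rw [hx']; exact hmem
    · exact Ideal.subset_span (Finset.mem_coe.2 (Finset.mem_erase.2 ⟨hx', hx⟩))
  have heq : Ideal.span (((s.erase (f i₀) : Finset A)) : Set A) = I :=
    le_antisymm (by
      rw [← hs]
      exact Ideal.span_mono (Finset.coe_subset.2 (Finset.erase_subset _ _))) hle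
  have h2 : I.spanFinrank ≤ (s.erase (f i₀)).card := by
    have := Submodule.spanFinrank_span_le_ncard_of_finite (R := A) (s.erase (f i₀)).finite_toSet
    rw [Set.ncard_coe_finset] at this
    rw [← heq]
    exact this
  rw [Finset.card_erase_of_mem (e.symm i₀).2] at h2
  have : 0 < s.card := Fin.pos i₀
  omega

end MinGen

section Nak

variable {A : Type u} [CommRing A] [IsLocalRing A]

/-- Nakayama, abstract form. -/
theorem eq_top_of_forall_map_eq_zero {N : Type u} [AddCommGroup N] [Module A N]
    [Module.Finite A N] (T' : Submodule A N)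
    (h : ∀ (V : Type u) [AddCommGroup V] [Module A V],
      (∀ (a : A) (v : V), a ∈ maximalIdeal A → a • v = 0) →
      ∀ φ : N →ₗ[A] V, (∀ q ∈ T', φ q = 0) → φ = 0) : T' = ⊤ := by
  have hjac : maximalIdeal A ≤ Ideal.jacobson (⊥ : Ideal A) := by
    rw [IsLocalRing.jacobson_eq_maximalIdeal ⊥ bot_ne_top]
  have hfg : (⊤ : Submodule A N).FG := Module.Finite.fg_top
  rw [_root_.eq_top_iff]
  refine Submodule.le_of_le_smul_of_le_jacobson_bot hfg hjac ?_
  let W : Submodule A N := T' ⊔ maximalIdeal A • ⊤
  have hkill : ∀ (a : A) (v : N ⧸ W), a ∈ maximalIdeal A → a • v = 0 := by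
    intro a v ha
    obtain ⟨q, rfl⟩ := Submodule.Quotient.mk_surjective _ v
    rw [← Submodule.Quotient.mk_smul, Submodule.Quotient.mk_eq_zero]
    exact Submodule.mem_sup_right (Submodule.smul_mem_smul ha Submodule.mem_top)
  have h0 := h (N ⧸ W) hkill W.mkQ (by
    intro q hq
    rw [Submodule.mkQ_apply, Submodule.Quotient.mk_eq_zero]
    exact Submodule.mem_sup_left hq)
  intro q _
  have := congrFun (congrArg DFunLike.coe h0) q
  rw [Submodule.mkQ_apply, LinearMap.zero_apply, Submodule.Quotient.mk_eq_zero] at this
  exact this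

variable [IsNoetherianRing A] {n : ℕ} (j : (Fin n →₀ A) →ₗ[A] A)

/-- Nakayama: for minimal generators, vanishing of `T²` with coefficients in modules killed by
the maximal ideal forces all relations to be trivial. -/
theorem ker_le_triv_of_van
    (hmin : ∀ b, j b = 0 → ∀ i, b i ∈ maximalIdeal A)
    (hv : ∀ (V : Type u) [AddCommGroup V] [Module A V],
      (∀ (a : A) (v : V), a ∈ maximalIdeal A → a • v = 0) → Van j V) :
    LinearMap.ker j ≤ triv j := by
  classical
  have htop := eq_top_of_forall_map_eq_zero (N := LinearMap.ker j)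
    ((triv j).comap (LinearMap.ker j).subtype) (by
      intro V _ _ hkill φ hφ
      obtain ⟨ψ, hψ⟩ := hv V hkill φ (fun q hq => hφ q hq)
      refine LinearMap.ext fun q => ?_
      rw [← hψ q, LinearMap.zero_apply]
      have hsum : (q : Fin n →₀ A) = ∑ i, Finsupp.single i ((q : Fin n →₀ A) i) :=
        (Finsupp.univ_sum_single _).symm
      rw [hsum, map_sum]
      refine Finset.sum_eq_zero fun i _ => ?_
      have : Finsupp.single i ((q : Fin n →₀ A) i) =
          (q : Fin n →₀ A) i • Finsupp.single i (1 : A) := by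
        rw [Finsupp.smul_single, smul_eq_mul, mul_one]
      rw [this, map_smul]
      exact hkill _ _ (hmin q q.2 i))
  intro q hq
  have : (⟨q, hq⟩ : LinearMap.ker j) ∈ (triv j).comap (LinearMap.ker j).subtype := by
    rw [htop]; exact Submodule.mem_top
  exact this

end Nak

section Main

variable {k A : Type u} [CommRing k] [CommRing A] [Algebra k A] (I : Ideal A)

lemma hsurjRR : Surjective (algebraMap (RR k A) A) :=
  (CotT.canon k A).toExtension.algebraMap_surjective

lemma range_jmap_canon :
    LinearMap.range (jmap (CotT.canon k A)) = RingHom.ker (algebraMap (RR k A) A) :=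
  range_jmap _

variable (M : Type u) [AddCommGroup M] [Module A M] [Module (A ⧸ I) M]
  [IsScalarTower A (A ⧸ I) M] {K : Type*} (g : K → RR k A)
  (hg : Ideal.span (Set.range fun i => algebraMap (RR k A) A (g i)) = I)

include hg in
/-- **β**: `T¹(A/k, M) = 0` and `T²((A/I)/k, M) = 0` give the vanishing of `T²((A/I)/A, M)`. -/
theorem van_jA_of_T [Subsingleton (CotT.T1 (CotT.canon k A) M)]
    [Subsingleton (CotT.T2 (CotT.canon k (A ⧸ I)) M)] : Van (jA (A := A) g) M := by
  letI : Module (RR k A) M := Module.compHom M (algebraMap (RR k A) A)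
  haveI : IsScalarTower (RR k A) A M := IsScalarTower.of_compHom _ _ _
  letI : Module k M := Module.compHom M (algebraMap k A)
  haveI : IsScalarTower k A M := IsScalarTower.of_compHom _ _ _
  haveI : IsScalarTower k (RR k A) M := by
    refine IsScalarTower.of_algebraMap_smul fun c x => ?_
    rw [← algebraMap_smul A (algebraMap k (RR k A) c) x, ← IsScalarTower.algebraMap_apply,
      algebraMap_smul]
  have hM : ∀ (i : K) (x : M), g i • x = 0 := by
    intro i x
    rw [← algebraMap_smul A (g i) x, ← algebraMap_smul (A ⧸ I) (algebraMap (RR k A) A (g i)) x]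
    have : algebraMap A (A ⧸ I) (algebraMap (RR k A) A (g i)) = 0 := by
      rw [Ideal.Quotient.algebraMap_eq, Ideal.Quotient.eq_zero_iff_mem, ← hg]
      exact Ideal.subset_span ⟨i, rfl⟩
    rw [this, zero_smul]
  have hv : Van (j' (jmap (CotT.canon k A)) g) M :=
    (subsingleton_T2_quot_iff I M g hg).1 inferInstance
  exact van_jA (jmap (CotT.canon k A)) g hsurjRR range_jmap_canon M hM hv
    (fun l hl => exists_derivation_of_subsingleton_T1 (CotT.canon k A) M l hl)

include hg in
/-- **α**: `T²(A/k, M) = 0` and Koszul relations give the vanishing of `T²((A/I)/k, M)`. -/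
theorem subsingleton_T2_of_kosz [Subsingleton (CotT.T2 (CotT.canon k A) M)]
    (hK : LinearMap.ker (jA (A := A) g) ≤ triv (jA (A := A) g)) :
    Subsingleton (CotT.T2 (CotT.canon k (A ⧸ I)) M) := by
  letI : Module (RR k A) M := Module.compHom M (algebraMap (RR k A) A)
  haveI : IsScalarTower (RR k A) A M := IsScalarTower.of_compHom _ _ _
  have hM : ∀ (i : K) (x : M), g i • x = 0 := by
    intro i x
    rw [← algebraMap_smul A (g i) x, ← algebraMap_smul (A ⧸ I) (algebraMap (RR k A) A (g i)) x]
    have : algebraMap A (A ⧸ I) (algebraMap (RR k A) A (g i)) = 0 := by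
      rw [Ideal.Quotient.algebraMap_eq, Ideal.Quotient.eq_zero_iff_mem, ← hg]
      exact Ideal.subset_span ⟨i, rfl⟩
    rw [this, zero_smul]
  have hv1 : Van (jmap (CotT.canon k A)) M :=
    (subsingleton_T2_iff_van (CotT.canon k A) M).1 inferInstance
  exact (subsingleton_T2_quot_iff I M g hg).2
    (van_j' (jmap (CotT.canon k A)) g hsurjRR range_jmap_canon M hM hv1 hK)

end Main

section Final

theorem s12291
    (k A : Type u) [Field k] [CommRing A] [IsRegularLocalRing A] [Algebra k A]
    (hT : ∀ (N : Type u) [AddCommGroup N] [Module A N],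
      Subsingleton (CotT.T1 (CotT.canon k A) N) ∧ Subsingleton (CotT.T2 (CotT.canon k A) N))
    (I : Ideal A) (hI : I ≠ ⊤) :
    (∃ rs : List A, Ideal.ofList rs = I ∧
      (rs.length : WithBot ℕ∞) + ringKrullDim (A ⧸ I) = ringKrullDim A) ↔
      ∀ (M : Type u) [AddCommGroup M] [Module (A ⧸ I) M],
        Subsingleton (CotT.T2 (CotT.canon k (A ⧸ I)) M) := by
  have hIm : I ≤ maximalIdeal A := IsLocalRing.le_maximalIdeal hI
  constructor
  · rintro ⟨rs, hrs, hdim⟩ M _ _
    -- the sequence is regular
    have hCM := RegCM.cm_of_isRegularLocalRing A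
    have mem : ∀ x ∈ rs, x ∈ maximalIdeal A := fun x hx =>
      hIm (hrs ▸ Ideal.subset_span hx)
    have hdim' : supportDim A (A ⧸ Ideal.ofList rs • (⊤ : Submodule A A)) + rs.length =
        supportDim A A := by
      have eq : Ideal.ofList rs • (⊤ : Submodule A A) = I := by
        rw [smul_eq_mul, Ideal.mul_top, hrs]
      rw [supportDim_eq_of_equiv (Submodule.quotEquivOfEq _ _ eq),
        Module.supportDim_quotient_eq_ringKrullDim, Module.supportDim_self_eq_ringKrullDim,
        add_comm]
      exact hdim
    have hwr : IsWeaklyRegular A rs := DepthCM2.weaklyRegular_of_dim_drop rs A hCM mem hdim'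
    set f : Fin rs.length → A := rs.get with hf
    have hofFn : List.ofFn f = rs := List.ofFn_get rs
    have hcond := CotTReg.regular_cond_of_isWeaklyRegular f (hofFn.symm ▸ hwr)
    have hspan : Ideal.span (Set.range f) = I := by
      rw [← hrs, Ideal.ofList]
      congr 1
      ext x
      rw [Set.mem_range, Set.mem_ofPred_eq, List.mem_iff_get]
    choose g hgf using fun i => hsurjRR (k := k) (f i)
    have hgfun : (fun i => algebraMap (RR k A) A (g i)) = f := funext hgf
    have hg : Ideal.span (Set.range fun i => algebraMap (RR k A) A (g i)) = I := by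
      rw [hgfun]; exact hspan
    have hK : LinearMap.ker (jA (A := A) g) ≤ triv (jA (A := A) g) := by
      have : jA (A := A) g = SyzLocal.jy f := by
        unfold jA SyzLocal.jy
        rw [hgfun]
      rw [this]
      intro b hb
      exact SyzLocal.kosz_le_triv f (CotTReg.mem_kosz_of_regular f hcond b hb)
    letI : Module A M := Module.compHom M (algebraMap A (A ⧸ I))
    haveI : IsScalarTower A (A ⧸ I) M := IsScalarTower.of_compHom _ _ _
    haveI := (hT M).2
    exact subsingleton_T2_of_kosz I M g hg hK
  · intro h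
    haveI : IsNoetherianRing A := inferInstance
    obtain ⟨n, f, hspan, hmin⟩ := exists_minimal_generators I (IsNoetherian.noetherian I)
    choose g hgf using fun i => hsurjRR (k := k) (f i)
    have hgfun : (fun i => algebraMap (RR k A) A (g i)) = f := funext hgf
    have hg : Ideal.span (Set.range fun i => algebraMap (RR k A) A (g i)) = I := by
      rw [hgfun]; exact hspan
    have hjA : jA (A := A) g = SyzLocal.jy f := by
      unfold jA SyzLocal.jy
      rw [hgfun]
    have hK : LinearMap.ker (SyzLocal.jy f) ≤ triv (SyzLocal.jy f) := by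
      refine ker_le_triv_of_van (SyzLocal.jy f) hmin ?_
      intro V _ _ hkill
      have hVI : Module.IsTorsionBySet A V I := by
        intro v a
        exact hkill a v (hIm a.2)
      letI : Module (A ⧸ I) V := hVI.module
      haveI : IsScalarTower A (A ⧸ I) V := Module.IsTorsionBySet.isScalarTower hVI
      haveI := (hT V).1
      haveI := h V
      rw [← hjA]
      exact van_jA_of_T I V g hg
    have hfm : ∀ i, f i ∈ maximalIdeal A := fun i =>
      hIm (hspan ▸ Ideal.subset_span ⟨i, rfl⟩)
    have hcond := KoszReg.regular_cond_of_rel_le_kosz f hfm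
      (fun b hb => SyzLocal.triv_le_kosz f (hK hb))
    have hwr : IsWeaklyRegular A (List.ofFn f) := KoszReg.isWeaklyRegular_of_regular_cond f hcond
    have hmem : ∀ x ∈ List.ofFn f, x ∈ maximalIdeal A := by
      intro x hx
      obtain ⟨i, rfl⟩ := (List.mem_ofFn' f x).1 hx
      exact hfm i
    have hreg : IsRegular A (List.ofFn f) :=
      IsRegular.of_isWeaklyRegular_of_mem_maximalIdeal A hmem hwr
    have hof : Ideal.ofList (List.ofFn f) = I := by
      rw [← hspan, Ideal.ofList]
      congr 1
      ext x
      rw [Set.mem_ofPred_eq, List.mem_ofFn', Set.mem_range]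
    refine ⟨List.ofFn f, hof, ?_⟩
    have h1 := ringKrullDim_add_length_eq_ringKrullDim_of_isRegular (List.ofFn f) hreg
    rw [add_comm] at h1
    rw [← h1]
    congr 1
    exact ringKrullDim_eq_of_ringEquiv (Ideal.quotEquivOfEq hof.symm)

end Final

end

end Groth.Agent.Helper2.JZMain
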