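import Mathlib
import Groth.Prelude

set_option autoImplicit false

namespace Groth.Agent.Helper2.JZc

open CotT Function

universe u

section AddRel

variable {G H : Type*} [AddCommGroup G] [AddCommGroup H]

/-- an additive, total, functional relation is the graph of an additive map. -/
lemma exists_addMonoidHom_of_rel (R : G → H → Prop)
    (htot : ∀ g, ∃ h, R g h) (hfun : ∀ g h h', R g h → R g h' → h = h')
    (hadd : ∀ g g' h h', R g h → R g' h' → R (g + g') (h + h')) :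
    ∃ δ : G →+ H, ∀ g, R g (δ g) := by
  choose δ hδ using htot
  have h0 : δ 0 = 0 := by
    have h1 := hadd 0 0 _ _ (hδ 0) (hδ 0)
    rw [add_zero] at h1
    have h2 := hfun 0 _ _ h1 (hδ 0)
    exact add_eq_right.1 h2 |>.symm ▸ rfl
  refine ⟨⟨⟨δ, h0⟩, fun g g' => ?_⟩, fun g => hδ g⟩
  exact hfun _ _ _ (hδ (g + g')) (hadd g g' _ _ (hδ g) (hδ g'))

end AddRel

variable {A B A' B' A'' B'' : Type u} {ι σ ι' σ' ι'' σ'' : Type u}
variable [CommRing A] [CommRing B] [Algebra A B] [CommRing A'] [CommRing B'] [Algebra A' B']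
  [CommRing A''] [CommRing B''] [Algebra A'' B'']
variable [Algebra A A'] [Algebra B B'] [Algebra A B'] [IsScalarTower A A' B']
  [IsScalarTower A B B']
variable [Algebra A' A''] [Algebra B' B''] [Algebra A' B''] [IsScalarTower A' A'' B'']
  [IsScalarTower A' B' B'']
variable {P : Algebra.Presentation A B ι σ} {P' : Algebra.Presentation A' B' ι' σ'}
  {P'' : Algebra.Presentation A'' B'' ι'' σ''}

section Mk

variable (h : PresHom P P')
variable (M : Type u) [AddCommGroup M] [Module B' M] [Module B M] [IsScalarTower B B' M]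

lemma T0pull_coe (x : T0 P' M) : ((h.T0pull M x : T0 P M) : L0 P →ₗ[B] M) = h.pull0 M x.1 := rfl

lemma T1pull_mk (c : cocycles1 P' M) :
    h.T1pull M (Submodule.Quotient.mk c) = Submodule.Quotient.mk (h.cocycles1Pull M c) := rfl

lemma T2pull_mk (μ : L2 P' →ₗ[B'] M) :
    h.T2pull M (Submodule.Quotient.mk μ) = Submodule.Quotient.mk (h.pull2 M μ) := rfl

end Mk

section MkZero

variable (P)
variable (M : Type u) [AddCommGroup M] [Module B M]

lemma T1_mk_eq_zero (c : cocycles1 P M) :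
    (Submodule.Quotient.mk c : T1 P M) = 0 ↔ ∃ ψ, d1Star P M ψ = (c : L1 P →ₗ[B] M) := by
  rw [Submodule.Quotient.mk_eq_zero]
  rfl

lemma T1_mk_eq (c c' : cocycles1 P M) :
    (Submodule.Quotient.mk c : T1 P M) = Submodule.Quotient.mk c' ↔
      ∃ ψ, d1Star P M ψ = (c : L1 P →ₗ[B] M) - c' := by
  rw [Submodule.Quotient.eq]
  rfl

lemma T2_mk_eq_zero (μ : L2 P →ₗ[B] M) :
    (Submodule.Quotient.mk μ : T2 P M) = 0 ↔ ∃ φ, d2Star P M φ = μ := by
  rw [Submodule.Quotient.mk_eq_zero]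
  rfl

lemma T2_mk_eq (μ μ' : L2 P →ₗ[B] M) :
    (Submodule.Quotient.mk μ : T2 P M) = Submodule.Quotient.mk μ' ↔
      ∃ φ, d2Star P M φ = μ - μ' := by
  rw [Submodule.Quotient.eq]
  rfl

lemma d2Star_d1Star (ψ : L0 P →ₗ[B] M) : d2Star P M (d1Star P M ψ) = 0 := by
  rw [← LinearMap.comp_apply, d2Star_comp_d1Star, LinearMap.zero_apply]

end MkZero

variable (h : PresHom P P') (h' : PresHom P' P'')
variable (M : Type u) [AddCommGroup M] [Module B'' M] [Module B' M] [Module B M]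
  [IsScalarTower B' B'' M] [IsScalarTower B B' M]

/-- chain-level exactness of the dual complexes. -/
structure ChainExact : Prop where
  inj0 : Injective (h'.pull0 M)
  ex0 : ∀ y, h.pull0 M y = 0 → ∃ z, h'.pull0 M z = y
  comp0 : ∀ z, h.pull0 M (h'.pull0 M z) = 0
  surj0 : Surjective (h.pull0 M)
  inj1 : Injective (h'.pull1 M)
  ex1 : ∀ y, h.pull1 M y = 0 → ∃ z, h'.pull1 M z = y
  comp1 : ∀ z, h.pull1 M (h'.pull1 M z) = 0
  surj1 : Surjective (h.pull1 M)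
  inj2 : Injective (h'.pull2 M)
  ex2 : ∀ y, h.pull2 M y = 0 → ∃ z, h'.pull2 M z = y
  comp2 : ∀ z, h.pull2 M (h'.pull2 M z) = 0

variable {h h' M}

namespace ChainExact

variable (E : ChainExact h h' M)
include E

lemma T0pull_injective : Injective (h'.T0pull M) := by
  intro x x' hxx
  apply Subtype.ext
  apply E.inj0
  have := congrArg (fun z : T0 P' M => (z : L0 P' →ₗ[B'] M)) hxx
  exact this

lemma mem_cocycles_of_pull1 (z : L1 P'' →ₗ[B''] M)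
    (hz : d2Star P' M (h'.pull1 M z) = 0) : z ∈ cocycles1 P'' M := by
  rw [LinearMap.mem_ker]
  apply E.inj2
  rw [PresHom.pull2_d2Star, hz, map_zero]

lemma T0_exact : Exact (h'.T0pull M) (h.T0pull M) := by
  intro y
  constructor
  · intro hy
    have hy0 : h.pull0 M y.1 = 0 := congrArg (fun z : T0 P M => (z : L0 P →ₗ[B] M)) hy
    obtain ⟨z, hz⟩ := E.ex0 _ hy0
    have hz1 : d1Star P'' M z = 0 := by
      apply E.inj1
      rw [PresHom.pull1_d1Star, hz, map_zero]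
      exact y.2
    exact ⟨⟨z, hz1⟩, Subtype.ext hz⟩
  · rintro ⟨z, rfl⟩
    apply Subtype.ext
    exact E.comp0 z.1

lemma T1_exact : Exact (h'.T1pull M) (h.T1pull M) := by
  intro y
  obtain ⟨c, rfl⟩ := Submodule.Quotient.mk_surjective _ y
  constructor
  · intro hy
    rw [T1pull_mk, T1_mk_eq_zero] at hy
    obtain ⟨ψ, hψ⟩ := hy
    obtain ⟨ψ', rfl⟩ := E.surj0 ψ
    have h1 : h.pull1 M ((c : L1 P' →ₗ[B'] M) - d1Star P' M ψ') = 0 := by
      rw [map_sub, PresHom.pull1_d1Star, hψ]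
      exact sub_self _
    obtain ⟨z, hz⟩ := E.ex1 _ h1
    have hzc : z ∈ cocycles1 P'' M := by
      apply E.mem_cocycles_of_pull1
      rw [hz, map_sub, d2Star_d1Star, sub_zero]
      exact c.2
    refine ⟨Submodule.Quotient.mk ⟨z, hzc⟩, ?_⟩
    rw [T1pull_mk, T1_mk_eq]
    refine ⟨-ψ', ?_⟩
    rw [map_neg]
    change _ = h'.pull1 M z - (c : L1 P' →ₗ[B'] M)
    rw [hz]
    abel
  · rintro ⟨z, hz⟩
    obtain ⟨z, rfl⟩ := Submodule.Quotient.mk_surjective _ z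
    rw [← hz, T1pull_mk, T1pull_mk, T1_mk_eq_zero]
    refine ⟨0, ?_⟩
    rw [map_zero]
    exact (E.comp1 z.1).symm

lemma T2_exact : Exact (h'.T2pull M) (h.T2pull M) := by
  intro y
  obtain ⟨μ, rfl⟩ := Submodule.Quotient.mk_surjective _ y
  constructor
  · intro hy
    rw [T2pull_mk, T2_mk_eq_zero] at hy
    obtain ⟨φ, hφ⟩ := hy
    obtain ⟨φ', rfl⟩ := E.surj1 φ
    have h1 : h.pull2 M (μ - d2Star P' M φ') = 0 := by
      rw [map_sub, PresHom.pull2_d2Star, hφ]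
      exact sub_self _
    obtain ⟨ν, hν⟩ := E.ex2 _ h1
    refine ⟨Submodule.Quotient.mk ν, ?_⟩
    rw [T2pull_mk, T2_mk_eq]
    refine ⟨-φ', ?_⟩
    rw [map_neg, hν]
    abel
  · rintro ⟨z, hz⟩
    obtain ⟨ν, rfl⟩ := Submodule.Quotient.mk_surjective _ z
    rw [← hz, T2pull_mk, T2pull_mk, T2_mk_eq_zero]
    refine ⟨0, ?_⟩
    rw [map_zero]
    exact (E.comp2 ν).symm

/-- the relation defining `δ₀`. -/
def R₀ (_ : ChainExact h h' M) (x : T0 P M) (t : T1 P'' M) : Prop :=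
  ∃ (y : L0 P' →ₗ[B'] M) (z : cocycles1 P'' M),
    h.pull0 M y = x.1 ∧ d1Star P' M y = h'.pull1 M z.1 ∧ t = Submodule.Quotient.mk z

lemma R₀_total (x : T0 P M) : ∃ t, E.R₀ x t := by
  obtain ⟨y, hy⟩ := E.surj0 x.1
  have h1 : h.pull1 M (d1Star P' M y) = 0 := by
    rw [PresHom.pull1_d1Star, hy]
    exact x.2
  obtain ⟨z, hz⟩ := E.ex1 _ h1
  have hzc : z ∈ cocycles1 P'' M := by
    apply E.mem_cocycles_of_pull1
    rw [hz, d2Star_d1Star]
  exact ⟨_, y, ⟨z, hzc⟩, hy, hz.symm, rfl⟩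

lemma R₀_fun (x : T0 P M) (t t' : T1 P'' M) (ht : E.R₀ x t) (ht' : E.R₀ x t') : t = t' := by
  obtain ⟨y, z, hy, hz, rfl⟩ := ht
  obtain ⟨y', z', hy', hz', rfl⟩ := ht'
  have h1 : h.pull0 M (y - y') = 0 := by rw [map_sub, hy, hy', sub_self]
  obtain ⟨w, hw⟩ := E.ex0 _ h1
  rw [T1_mk_eq]
  refine ⟨w, ?_⟩
  apply E.inj1
  rw [PresHom.pull1_d1Star, hw, map_sub, map_sub, hz, hz']

lemma R₀_add (x x' : T0 P M) (t t' : T1 P'' M) (ht : E.R₀ x t) (ht' : E.R₀ x' t') :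
    E.R₀ (x + x') (t + t') := by
  obtain ⟨y, z, hy, hz, rfl⟩ := ht
  obtain ⟨y', z', hy', hz', rfl⟩ := ht'
  refine ⟨y + y', z + z', ?_, ?_, rfl⟩
  · rw [map_add, hy, hy']; rfl
  · rw [map_add, hz, hz', ← map_add]; rfl

theorem exists_δ₀ : ∃ δ₀ : T0 P M →+ T1 P'' M,
    Exact (h.T0pull M) δ₀ ∧ Exact δ₀ (h'.T1pull M) := by
  obtain ⟨δ₀, hδ₀⟩ := exists_addMonoidHom_of_rel E.R₀ E.R₀_total E.R₀_fun E.R₀_add
  refine ⟨δ₀, ?_, ?_⟩
  · intro x
    constructor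
    · intro hx
      obtain ⟨y, z, hy, hz, hzt⟩ := hδ₀ x
      rw [hx] at hzt
      obtain ⟨w, hw⟩ := (T1_mk_eq_zero P'' M z).1 hzt.symm
      have hmem : d1Star P' M (y - h'.pull0 M w) = 0 := by
        rw [map_sub, hz, ← PresHom.pull1_d1Star, hw, sub_self]
      refine ⟨⟨y - h'.pull0 M w, hmem⟩, ?_⟩
      apply Subtype.ext
      rw [T0pull_coe]
      change h.pull0 M (y - h'.pull0 M w) = x.1
      rw [map_sub, hy, E.comp0, sub_zero]
    · rintro ⟨y0, rfl⟩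
      have hR : E.R₀ (h.T0pull M y0) 0 := by
        refine ⟨y0.1, 0, rfl, ?_, rfl⟩
        rw [Submodule.coe_zero, map_zero]
        exact y0.2
      exact E.R₀_fun _ _ _ (hδ₀ _) hR
  · intro t
    obtain ⟨z, rfl⟩ := Submodule.Quotient.mk_surjective _ t
    constructor
    · intro ht
      rw [T1pull_mk, T1_mk_eq_zero] at ht
      obtain ⟨ψ', hψ'⟩ := ht
      have hmem : d1Star P M (h.pull0 M ψ') = 0 := by
        rw [← PresHom.pull1_d1Star, hψ']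
        exact E.comp1 z.1
      refine ⟨⟨h.pull0 M ψ', hmem⟩, ?_⟩
      have hR : E.R₀ ⟨h.pull0 M ψ', hmem⟩ (Submodule.Quotient.mk z) :=
        ⟨ψ', z, rfl, hψ', rfl⟩
      exact E.R₀_fun _ _ _ (hδ₀ _) hR
    · rintro ⟨x, hx⟩
      obtain ⟨y, z', hy, hz', hzt⟩ := hδ₀ x
      rw [← hx, hzt, T1pull_mk, T1_mk_eq_zero]
      exact ⟨y, hz'⟩

/-- the relation defining `δ₁`. -/
def R₁ (_ : ChainExact h h' M) (s : T1 P M) (t : T2 P'' M) : Prop :=
  ∃ (c : cocycles1 P M) (φ' : L1 P' →ₗ[B'] M) (ν : L2 P'' →ₗ[B''] M),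
    s = Submodule.Quotient.mk c ∧ h.pull1 M φ' = c.1 ∧ d2Star P' M φ' = h'.pull2 M ν ∧
      t = Submodule.Quotient.mk ν

lemma R₁_total (s : T1 P M) : ∃ t, E.R₁ s t := by
  obtain ⟨c, rfl⟩ := Submodule.Quotient.mk_surjective _ s
  obtain ⟨φ', hφ'⟩ := E.surj1 c.1
  have h1 : h.pull2 M (d2Star P' M φ') = 0 := by
    rw [PresHom.pull2_d2Star, hφ']
    exact c.2
  obtain ⟨ν, hν⟩ := E.ex2 _ h1
  exact ⟨_, c, φ', ν, rfl, hφ', hν.symm, rfl⟩

lemma R₁_fun (s : T1 P M) (t t' : T2 P'' M) (ht : E.R₁ s t) (ht' : E.R₁ s t') : t = t' := by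
  obtain ⟨c, φ', ν, hs, hφ', hν, rfl⟩ := ht
  obtain ⟨c', φ'', ν', hs', hφ'', hν', rfl⟩ := ht'
  rw [hs, T1_mk_eq] at hs'
  obtain ⟨ψ, hψ⟩ := hs'
  obtain ⟨ψ', rfl⟩ := E.surj0 ψ
  have h1 : h.pull1 M (φ' - φ'' - d1Star P' M ψ') = 0 := by
    rw [map_sub, map_sub, hφ', hφ'', PresHom.pull1_d1Star, hψ, sub_self]
  obtain ⟨χ, hχ⟩ := E.ex1 _ h1
  rw [T2_mk_eq]
  refine ⟨χ, ?_⟩
  apply E.inj2
  rw [PresHom.pull2_d2Star, hχ, map_sub, map_sub, d2Star_d1Star, sub_zero, hν, hν', map_sub]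

lemma R₁_add (s s' : T1 P M) (t t' : T2 P'' M) (ht : E.R₁ s t) (ht' : E.R₁ s' t') :
    E.R₁ (s + s') (t + t') := by
  obtain ⟨c, φ', ν, rfl, hφ', hν, rfl⟩ := ht
  obtain ⟨c', φ'', ν', rfl, hφ'', hν', rfl⟩ := ht'
  refine ⟨c + c', φ' + φ'', ν + ν', rfl, ?_, ?_, rfl⟩
  · rw [map_add, hφ', hφ'']; rfl
  · rw [map_add, hν, hν', ← map_add]

theorem exists_δ₁ : ∃ δ₁ : T1 P M →+ T2 P'' M,
    Exact (h.T1pull M) δ₁ ∧ Exact δ₁ (h'.T2pull M) := by
  obtain ⟨δ₁, hδ₁⟩ := exists_addMonoidHom_of_rel E.R₁ E.R₁_total E.R₁_fun E.R₁_add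
  refine ⟨δ₁, ?_, ?_⟩
  · intro s
    constructor
    · intro hs
      obtain ⟨c, φ', ν, hsc, hφ', hν, hνt⟩ := hδ₁ s
      rw [hs] at hνt
      obtain ⟨χ, hχ⟩ := (T2_mk_eq_zero P'' M ν).1 hνt.symm
      have hmem : φ' - h'.pull1 M χ ∈ cocycles1 P' M := by
        rw [LinearMap.mem_ker, map_sub, hν, ← PresHom.pull2_d2Star, hχ, sub_self]
      refine ⟨Submodule.Quotient.mk ⟨φ' - h'.pull1 M χ, hmem⟩, ?_⟩
      rw [T1pull_mk, hsc]
      congr 1
      apply Subtype.ext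
      change h.pull1 M (φ' - h'.pull1 M χ) = c.1
      rw [map_sub, hφ', E.comp1, sub_zero]
    · rintro ⟨y0, rfl⟩
      obtain ⟨c', rfl⟩ := Submodule.Quotient.mk_surjective _ y0
      have hR : E.R₁ (h.T1pull M (Submodule.Quotient.mk c')) 0 := by
        refine ⟨h.cocycles1Pull M c', c'.1, 0, rfl, rfl, ?_, rfl⟩
        rw [map_zero]
        exact c'.2
      exact E.R₁_fun _ _ _ (hδ₁ _) hR
  · intro t
    obtain ⟨ν, rfl⟩ := Submodule.Quotient.mk_surjective _ t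
    constructor
    · intro ht
      rw [T2pull_mk, T2_mk_eq_zero] at ht
      obtain ⟨φ', hφ'⟩ := ht
      have hmem : h.pull1 M φ' ∈ cocycles1 P M := by
        rw [LinearMap.mem_ker, ← PresHom.pull2_d2Star, hφ']
        exact E.comp2 ν
      refine ⟨Submodule.Quotient.mk ⟨h.pull1 M φ', hmem⟩, ?_⟩
      have hR : E.R₁ (Submodule.Quotient.mk ⟨h.pull1 M φ', hmem⟩) (Submodule.Quotient.mk ν) :=
        ⟨⟨h.pull1 M φ', hmem⟩, φ', ν, rfl, rfl, hφ', rfl⟩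
      exact E.R₁_fun _ _ _ (hδ₁ _) hR
    · rintro ⟨s, hs⟩
      obtain ⟨c, φ', ν', hsc, hφ', hν', hνt⟩ := hδ₁ s
      rw [← hs, hνt, T2pull_mk, T2_mk_eq_zero]
      exact ⟨φ', hν'⟩

end ChainExact

end Groth.Agent.Helper2.JZc
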