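import Mathlib
import Groth.Prelude
import Groth.Agent.Helper2.CotTIndep01
import Groth.Agent.Helper2.JZc

set_option autoImplicit false

namespace Groth.Agent.Helper2.JZa

open CotT Function TensorProduct Groth.Agent.Helper2.JZc

universe u

variable {A B A' B' A'' B'' : Type u} {ι σ ι' σ' ι'' σ'' : Type u}
variable [CommRing A] [CommRing B] [Algebra A B] [CommRing A'] [CommRing B'] [Algebra A' B']
  [CommRing A''] [CommRing B''] [Algebra A'' B'']
variable [Algebra A A'] [Algebra B B'] [Algebra A B'] [IsScalarTower A A' B']
  [IsScalarTower A B B']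
variable [Algebra A' A''] [Algebra B' B''] [Algebra A' B''] [IsScalarTower A' A'' B'']
  [IsScalarTower A' B' B'']
variable [Algebra A A''] [Algebra B B''] [Algebra A B''] [IsScalarTower A A'' B'']
  [IsScalarTower A B B'']
variable {P : Algebra.Presentation A B ι σ} {P' : Algebra.Presentation A' B' ι' σ'}
  {P'' : Algebra.Presentation A'' B'' ι'' σ''}

section Comp

variable (h : PresHom P P') (h' : PresHom P' P'') (k : PresHom P P'')
variable (hring : ∀ r, k.ringHom r = h'.ringHom (h.ringHom r))
variable (hrel : ∀ s, k.relVal s = h'.relModMap (h.relVal s))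
variable (halg : ∀ b : B, algebraMap B B'' b = algebraMap B' B'' (algebraMap B B' b))

include hring hrel in
lemma relModMap_comp (f : relMod P) : k.relModMap f = h'.relModMap (h.relModMap f) := by
  induction f using Finsupp.induction_linear with
  | zero => simp
  | add f g hf hg => rw [map_add, map_add, hf, hg, map_add]
  | single s r =>
    rw [PresHom.relModMap_single, PresHom.relModMap_single, LinearMap.map_smulₛₗ, hring, hrel]

include hring halg in
lemma L0map_comp (x : L0 P) : k.L0map x = h'.L0map (h.L0map x) := by
  induction x using TensorProduct.induction_on with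
  | zero => simp
  | add x y hx hy => rw [map_add, map_add, hx, hy, map_add]
  | tmul b y =>
    obtain ⟨y, rfl⟩ := KaehlerDifferential.tensorProductTo_surjective _ _ y
    induction y using TensorProduct.induction_on with
    | zero => simp
    | add y z hy hz => rw [map_add, TensorProduct.tmul_add, map_add, map_add, hy, hz, map_add]
    | tmul r s =>
      rw [Derivation.tensorProductTo_tmul, TensorProduct.tmul_smul, TensorProduct.smul_tmul',
        PresHom.L0map_apply, PresHom.L0map_apply, PresHom.L0map_apply,
        Algebra.Extension.CotangentSpace.map_tmul, Algebra.Extension.CotangentSpace.map_tmul,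
        Algebra.Extension.CotangentSpace.map_tmul, halg]
      congr 2
      exact hring s

include hring hrel halg in
lemma L1map_comp (x : L1 P) : k.L1map x = h'.L1map (h.L1map x) := by
  induction x using TensorProduct.induction_on with
  | zero => simp
  | add x y hx hy => rw [map_add, map_add, hx, hy, map_add]
  | tmul b f =>
    rw [PresHom.L1map_tmul, PresHom.L1map_tmul, PresHom.L1map_tmul, halg,
      relModMap_comp h h' k hring hrel]

include hring hrel halg in
lemma L2map_comp (x : L2 P) : k.L2map x = h'.L2map (h.L2map x) := by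
  induction x using Submodule.Quotient.induction_on with
  | H z =>
    induction z using TensorProduct.induction_on with
    | zero => simp
    | add x y hx hy =>
      rw [Submodule.Quotient.mk_add, map_add, map_add, hx, hy, map_add]
    | tmul b q =>
      rw [PresHom.L2map_mk_tmul, PresHom.L2map_mk_tmul, PresHom.L2map_mk_tmul, halg]
      congr 2
      apply Subtype.ext
      rw [PresHom.relKerMap_coe, PresHom.relKerMap_coe, PresHom.relKerMap_coe]
      exact relModMap_comp h h' k hring hrel _

variable (M : Type u) [AddCommGroup M] [Module B'' M] [Module B' M] [Module B M]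
  [IsScalarTower B' B'' M] [IsScalarTower B B' M] [IsScalarTower B B'' M]

include hring halg in
lemma pull0_comp (ψ : L0 P'' →ₗ[B''] M) : k.pull0 M ψ = h.pull0 M (h'.pull0 M ψ) := by
  ext x
  rw [PresHom.pull0_apply, PresHom.pull0_apply, PresHom.pull0_apply,
    L0map_comp h h' k hring halg]

include hring hrel halg in
lemma pull1_comp (ψ : L1 P'' →ₗ[B''] M) : k.pull1 M ψ = h.pull1 M (h'.pull1 M ψ) := by
  refine LinearMap.ext fun x => ?_
  rw [PresHom.pull1_apply, PresHom.pull1_apply, PresHom.pull1_apply,
    L1map_comp h h' k hring hrel halg]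

include hring hrel halg in
lemma pull2_comp (ψ : L2 P'' →ₗ[B''] M) : k.pull2 M ψ = h.pull2 M (h'.pull2 M ψ) := by
  refine LinearMap.ext fun x => ?_
  rw [PresHom.pull2_apply, PresHom.pull2_apply, PresHom.pull2_apply,
    L2map_comp h h' k hring hrel halg]

include hring halg in
lemma T0pull_comp (x : T0 P'' M) : k.T0pull M x = h.T0pull M (h'.T0pull M x) := by
  apply Subtype.ext
  rw [T0pull_coe, T0pull_coe, T0pull_coe]
  exact pull0_comp h h' k hring halg M x.1

include hring hrel halg in
lemma T1pull_comp (x : T1 P'' M) : k.T1pull M x = h.T1pull M (h'.T1pull M x) := by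
  obtain ⟨c, rfl⟩ := Submodule.Quotient.mk_surjective _ x
  rw [T1pull_mk, T1pull_mk, T1pull_mk]
  congr 1
  apply Subtype.ext
  exact pull1_comp h h' k hring hrel halg M c.1

include hring hrel halg in
lemma T2pull_comp (x : T2 P'' M) : k.T2pull M x = h.T2pull M (h'.T2pull M x) := by
  obtain ⟨μ, rfl⟩ := Submodule.Quotient.mk_surjective _ x
  rw [T2pull_mk, T2pull_mk, T2pull_mk]
  congr 1
  exact pull2_comp h h' k hring hrel halg M μ

end Comp


section Invariance

open Groth.Agent.Helper2.CotTIndep01

variable (h k : PresHom P P')
variable (M : Type u) [AddCommGroup M] [Module B' M] [Module B M] [IsScalarTower B B' M]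

lemma T0pull_eq (x : T0 P' M) : h.T0pull M x = k.T0pull M x := by
  apply Subtype.ext
  rw [T0pull_coe, T0pull_coe]
  refine LinearMap.ext fun y => ?_
  rw [PresHom.pull0_apply, PresHom.pull0_apply, ← sub_eq_zero, ← map_sub,
    PresHom.L0map_apply, PresHom.L0map_apply, ← LinearMap.sub_apply,
    Algebra.Extension.CotangentSpace.map_sub_map, LinearMap.comp_apply,
    LinearMap.restrictScalars_apply]
  obtain ⟨w, hw⟩ := toCot_surjective P'
    ((h.hom.toExtensionHom.sub k.hom.toExtensionHom) y)
  rw [← hw]
  have := x.2
  rw [LinearMap.mem_ker, d1Star_apply] at this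
  exact congrFun (congrArg DFunLike.coe this) w

section
attribute [local instance] SMulCommClass.of_commMonoid

lemma T1pull_eq (x : T1 P' M) : h.T1pull M x = k.T1pull M x := by
  obtain ⟨γ, rfl⟩ := homToT1_surjective P' M x
  change h.T1pull M (Submodule.Quotient.mk _) = k.T1pull M (Submodule.Quotient.mk _)
  rw [T1pull_mk, T1pull_mk, T1_mk_eq]
  let ψ : L0 P →ₗ[B] M :=
    { toFun := fun y => γ ((h.hom.toExtensionHom.sub k.hom.toExtensionHom) y)
      map_add' := fun y z => by rw [map_add, map_add]
      map_smul' := fun b y => by
        rw [LinearMap.map_smul, RingHom.id_apply, ← IsScalarTower.algebraMap_smul B' b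
          ((h.hom.toExtensionHom.sub k.hom.toExtensionHom) y), LinearMap.map_smul,
          IsScalarTower.algebraMap_smul] }
  refine ⟨ψ, ?_⟩
  refine LinearMap.ext fun y => ?_
  change γ ((h.hom.toExtensionHom.sub k.hom.toExtensionHom) (d1 P y)) =
    γ (toCot P' (h.L1map y)) - γ (toCot P' (k.L1map y))
  rw [PresHom.toCot_L1map, PresHom.toCot_L1map, ← map_sub, PresHom.cotMap_apply,
    PresHom.cotMap_apply, ← LinearMap.sub_apply, Algebra.Extension.Cotangent.map_sub_map]
  rfl

end

end Invariance

end Groth.Agent.Helper2.JZa
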