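import Mathlib
import Groth.Prelude
import Groth.Agent.Helper2.CotTIndep
import Groth.Agent.Helper2.JZc

set_option autoImplicit false

namespace Groth.Agent.Helper2.JZb

open CotT Function TensorProduct MvPolynomial Groth.Agent.Helper2.CotTGen
  Groth.Agent.Helper2.CotTPoly Groth.Agent.Helper2.CotTIndep Groth.Agent.Helper2.JZc

noncomputable section

universe u v m

section Gen

variable {B : Type v} [CommRing B]
variable {A₁ : Type*} {ι₁ σ₁ : Type*} [CommRing A₁] [Algebra A₁ B]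
variable {A₂ : Type*} {ι₂ σ₂ : Type*} [CommRing A₂] [Algebra A₂ B]
variable {A₃ : Type*} {ι₃ σ₃ : Type*} [CommRing A₃] [Algebra A₃ B]
variable {P₁ : Algebra.Presentation A₁ B ι₁ σ₁} {P₂ : Algebra.Presentation A₂ B ι₂ σ₂}
  {P₃ : Algebra.Presentation A₃ B ι₃ σ₃}
variable (M : Type m) [AddCommGroup M] [Module B M]
  [Module P₁.toExtension.Ring M] [IsScalarTower P₁.toExtension.Ring B M]
  [Module P₂.toExtension.Ring M] [IsScalarTower P₂.toExtension.Ring B M]
  [Module P₃.toExtension.Ring M] [IsScalarTower P₃.toExtension.Ring B M]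

variable {τ τ' : P₁.toExtension.Ring →+* P₂.toExtension.Ring}

lemma Phi_mk (h : CovHom P₁ P₂ τ)
    (hτ : ∀ r, algebraMap P₂.toExtension.Ring B (τ r) = algebraMap P₁.toExtension.Ring B r)
    (μ : L2 P₂ →ₗ[B] M) :
    Phi M h hτ (Submodule.Quotient.mk μ) = Submodule.Quotient.mk (Psi M h hτ μ) := rfl

/-- `Phi` only depends on the ring map (pointwise). -/
lemma Phi_eq_of_eq (h : CovHom P₁ P₂ τ) (h' : CovHom P₁ P₂ τ') (heq : ∀ r, τ r = τ' r)
    (hτ : ∀ r, algebraMap P₂.toExtension.Ring B (τ r) = algebraMap P₁.toExtension.Ring B r)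
    (hτ' : ∀ r, algebraMap P₂.toExtension.Ring B (τ' r) = algebraMap P₁.toExtension.Ring B r)
    (x : T2 P₂ M) : Phi M h hτ x = Phi M h' hτ' x := by
  obtain ⟨μ, rfl⟩ := Submodule.Quotient.mk_surjective _ x
  rw [Phi_mk, Phi_mk, Submodule.Quotient.eq, mem_range_d2Star_iff, map_sub, toZ_Psi, toZ_Psi]
  exact pre_sub_pre_mem_Bs M h h' heq hτ hτ' _

lemma Phi_comp {τ₂ : P₂.toExtension.Ring →+* P₃.toExtension.Ring}
    (h : CovHom P₁ P₂ τ) (h₂ : CovHom P₂ P₃ τ₂)
    (hτ : ∀ r, algebraMap P₂.toExtension.Ring B (τ r) = algebraMap P₁.toExtension.Ring B r)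
    (hτ₂ : ∀ r, algebraMap P₃.toExtension.Ring B (τ₂ r) = algebraMap P₂.toExtension.Ring B r)
    (hc : ∀ r, algebraMap P₃.toExtension.Ring B ((τ₂.comp τ) r) =
      algebraMap P₁.toExtension.Ring B r)
    (x : T2 P₃ M) : Phi M (h₂.comp h) hc x = Phi M h hτ (Phi M h₂ hτ₂ x) := by
  obtain ⟨μ, rfl⟩ := Submodule.Quotient.mk_surjective _ x
  rw [Phi_mk, Phi_mk, Phi_mk]
  congr 1
  apply toZ_injective P₁ M
  rw [toZ_Psi, toZ_Psi, toZ_Psi]
  rfl

end Gen

section PolyExtBij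

variable {B : Type v} [CommRing B]
variable {A₁ : Type*} {ι₁ σ₁ : Type*} [CommRing A₁] [Algebra A₁ B]
variable {A₂ : Type*} {ι₂ K : Type*} [CommRing A₂] [Algebra A₂ B]
variable {P₁ : Algebra.Presentation A₁ B ι₁ σ₁} {P₂ : Algebra.Presentation A₂ B ι₂ (σ₁ ⊕ K)}
variable {τ : P₁.toExtension.Ring →+* P₂.toExtension.Ring}
  {τ' : P₂.toExtension.Ring →+* P₁.toExtension.Ring}
variable {y : K → P₂.toExtension.Ring}
variable (M : Type m) [AddCommGroup M] [Module B M]
  [Module P₁.toExtension.Ring M] [IsScalarTower P₁.toExtension.Ring B M]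
  [Module P₂.toExtension.Ring M] [IsScalarTower P₂.toExtension.Ring B M]

theorem Phi_covInl_injective (hinl : ∀ s, rel P₂ (Sum.inl s) = τ (rel P₁ s))
    (hinr : ∀ k, rel P₂ (Sum.inr k) = y k)
    (hτ : ∀ r, algebraMap P₂.toExtension.Ring B (τ r) = algebraMap P₁.toExtension.Ring B r)
    (hinv : ∀ r, τ' (τ r) = r) (hy' : ∀ k, τ' (y k) = 0)
    (hdec : ∀ p, ∃ c : K →₀ P₂.toExtension.Ring, p - τ (τ' p) = Finsupp.linearCombination _ y c)
    (hkos : ∀ b : K →₀ P₂.toExtension.Ring, Finsupp.linearCombination _ y b = 0 → b ∈ kosz y) :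
    Injective (Phi M (covInl hinl) hτ) := by
  rw [injective_iff_map_eq_zero]
  intro x hx
  obtain ⟨μ, rfl⟩ := Submodule.Quotient.mk_surjective _ x
  change Submodule.Quotient.mk (Psi M (covInl hinl) hτ μ) = 0 at hx
  rw [Submodule.Quotient.mk_eq_zero, mem_range_d2Star_iff, toZ_Psi] at hx
  rw [Submodule.Quotient.mk_eq_zero, mem_range_d2Star_iff]
  exact mem_Bs_of_pre_mem_Bs M hinl hinr hτ hinv hy' hdec hkos (toZ_mem_Zs P₂ M μ) hx

end PolyExtBij

section ExtInj

variable {A : Type u} {B : Type v} [CommRing A] [CommRing B] [Algebra A B]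
variable {ι σ : Type*} (P : Algebra.Presentation A B ι σ) (κ : Type*)
variable (M : Type m) [AddCommGroup M] [Module B M]
  [Module P.toExtension.Ring M] [IsScalarTower P.toExtension.Ring B M]
  [Module (extPres P κ).toExtension.Ring M] [IsScalarTower (extPres P κ).toExtension.Ring B M]

/-- the inclusion `R → R[t]` as a ring hom between the presentation rings. -/
def inclR : P.toExtension.Ring →+* (extPres P κ).toExtension.Ring :=
  (rename (Sum.inl : ι → ι ⊕ κ) : MvPolynomial ι A →ₐ[A] MvPolynomial (ι ⊕ κ) A).toRingHom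

lemma inclR_compat (r : P.toExtension.Ring) :
    algebraMap (extPres P κ).toExtension.Ring B (inclR P κ r) =
      algebraMap P.toExtension.Ring B r := by
  rw [algebraMap_toExtension, algebraMap_toExtension]
  exact aeval_extVal_rename P κ r

/-- the cover morphism of the inclusion. -/
def covIncl : CovHom P (extPres P κ) (inclR P κ) :=
  covInl (P₁ := P) (P₂ := extPres P κ) (τ := inclR P κ) (fun _ => rfl)

theorem Phi_covIncl_injective :
    Injective (Phi M (covIncl P κ) (inclR_compat P κ)) := by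
  classical
  let τ' : (extPres P κ).toExtension.Ring →+* P.toExtension.Ring :=
    (retr : MvPolynomial (ι ⊕ κ) A →ₐ[A] MvPolynomial ι A).toRingHom
  let y : κ → (extPres P κ).toExtension.Ring := fun k => (X (Sum.inr k) : MvPolynomial (ι ⊕ κ) A)
  refine Phi_covInl_injective (P₁ := P) (P₂ := extPres P κ) (τ := inclR P κ) (τ' := τ') (y := y) M
    (fun s => rfl) (fun k => rfl) (inclR_compat P κ) ?_ ?_ ?_ ?_
  · intro r
    exact retr_rename κ r
  · intro k
    change retr (X (Sum.inr k) : MvPolynomial (ι ⊕ κ) A) = 0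
    rw [retr, aeval_X, Sum.elim_inr]
  · intro p
    have h := sub_rename_retr_mem κ p
    rw [Ideal.span, Finsupp.mem_span_range_iff_exists_finsupp] at h
    obtain ⟨c, hc⟩ := h
    exact ⟨c, by rw [Finsupp.linearCombination_apply]; exact hc.symm⟩
  · intro b hb
    exact kosz_var (A := A) (Sum.inr : κ → ι ⊕ κ) Sum.inr_injective b hb

end ExtInj


section Cylinder

variable {B : Type v} [CommRing B]
variable {A₁ : Type*} {ι₁ σ₁ : Type*} [CommRing A₁] [Algebra A₁ B]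
variable {A₂ : Type*} {ι₂ σ₂ : Type*} [CommRing A₂] [Algebra A₂ B]
variable (P₁ : Algebra.Presentation A₁ B ι₁ σ₁) (P₂ : Algebra.Presentation A₂ B ι₂ σ₂)

/-- retraction `R₂[t] → R₂` with prescribed values on the new variables. -/
def rho (δ : ι₁ → P₂.toExtension.Ring) :
    (extPres P₂ ι₁).toExtension.Ring →+* P₂.toExtension.Ring :=
  (aeval (Sum.elim X δ) : MvPolynomial (ι₂ ⊕ ι₁) A₂ →ₐ[A₂] MvPolynomial ι₂ A₂).toRingHom

lemma rho_inclR (δ : ι₁ → P₂.toExtension.Ring) (p : P₂.toExtension.Ring) :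
    rho P₂ δ (inclR P₂ ι₁ p) = p := by
  change aeval (Sum.elim X δ) (rename Sum.inl p) = p
  rw [aeval_rename]
  have : (Sum.elim X δ : ι₂ ⊕ ι₁ → MvPolynomial ι₂ A₂) ∘ Sum.inl = X := rfl
  rw [this, aeval_X_left]
  rfl

lemma rho_X_inr (δ : ι₁ → P₂.toExtension.Ring) (i : ι₁) :
    rho P₂ δ (X (Sum.inr i) : MvPolynomial (ι₂ ⊕ ι₁) A₂) = δ i := by
  change aeval (Sum.elim X δ) (X (Sum.inr i)) = δ i
  rw [aeval_X, Sum.elim_inr]

lemma rho_compat (δ : ι₁ → P₂.toExtension.Ring)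
    (hδ : ∀ i, algebraMap P₂.toExtension.Ring B (δ i) = 0)
    (p : (extPres P₂ ι₁).toExtension.Ring) :
    algebraMap P₂.toExtension.Ring B (rho P₂ δ p) =
      algebraMap (extPres P₂ ι₁).toExtension.Ring B p := by
  rw [algebraMap_toExtension, algebraMap_toExtension]
  change aeval P₂.val (aeval (Sum.elim X δ) p) = aeval (extVal P₂ ι₁) p
  rw [← AlgHom.comp_apply]
  congr 1
  apply MvPolynomial.algHom_ext
  intro v
  cases v with
  | inl i => simp [extVal]
  | inr k =>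
    rw [AlgHom.comp_apply, aeval_X, aeval_X, Sum.elim_inr]
    have := hδ k
    rw [algebraMap_toExtension] at this
    rw [this]
    rfl

/-- the new variable `t_i` in the extended ring. -/
def inrVar (i : ι₁) : (extPres P₂ ι₁).toExtension.Ring :=
  (X (Sum.inr i) : MvPolynomial (ι₂ ⊕ ι₁) A₂)

lemma rho_inrVar (δ : ι₁ → P₂.toExtension.Ring) (i : ι₁) :
    rho P₂ δ (inrVar P₂ i) = δ i := rho_X_inr P₂ δ i

/-- the constants map. -/
def thetaC (τ' : P₁.toExtension.Ring →+* P₂.toExtension.Ring) :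
    A₁ →+* (extPres P₂ ι₁).toExtension.Ring :=
  (inclR P₂ ι₁).comp (τ'.comp (C : A₁ →+* MvPolynomial ι₁ A₁))

/-- the images of the variables. -/
def thetaX (τ' : P₁.toExtension.Ring →+* P₂.toExtension.Ring) (i : ι₁) :
    (extPres P₂ ι₁).toExtension.Ring :=
  inclR P₂ ι₁ (τ' (X i : MvPolynomial ι₁ A₁)) + inrVar P₂ i

/-- the cylinder map `R₁ → R₂[t]`. -/
def theta (τ' : P₁.toExtension.Ring →+* P₂.toExtension.Ring) :
    P₁.toExtension.Ring →+* (extPres P₂ ι₁).toExtension.Ring :=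
  MvPolynomial.eval₂Hom (thetaC P₁ P₂ τ') (thetaX P₁ P₂ τ')

lemma theta_C (τ' : P₁.toExtension.Ring →+* P₂.toExtension.Ring) (a : A₁) :
    theta P₁ P₂ τ' (C a : MvPolynomial ι₁ A₁) = inclR P₂ ι₁ (τ' (C a : MvPolynomial ι₁ A₁)) :=
  MvPolynomial.eval₂_C _ _ a

lemma theta_X (τ' : P₁.toExtension.Ring →+* P₂.toExtension.Ring) (i : ι₁) :
    theta P₁ P₂ τ' (X i : MvPolynomial ι₁ A₁) =
      inclR P₂ ι₁ (τ' (X i : MvPolynomial ι₁ A₁)) + inrVar P₂ i :=
  MvPolynomial.eval₂_X _ _ i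

lemma rho_theta (τ τ' : P₁.toExtension.Ring →+* P₂.toExtension.Ring)
    (δ : ι₁ → P₂.toExtension.Ring)
    (hC : ∀ a : A₁, τ (C a : MvPolynomial ι₁ A₁) = τ' (C a : MvPolynomial ι₁ A₁))
    (hδ : ∀ i, δ i = τ (X i : MvPolynomial ι₁ A₁) - τ' (X i : MvPolynomial ι₁ A₁))
    (r : P₁.toExtension.Ring) : rho P₂ δ (theta P₁ P₂ τ' r) = τ r := by
  have : (((rho P₂ δ).comp (theta P₁ P₂ τ') : P₁.toExtension.Ring →+* P₂.toExtension.Ring) :
      MvPolynomial ι₁ A₁ →+* P₂.toExtension.Ring) = τ := by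
    refine MvPolynomial.ringHom_ext (fun a => ?_) (fun i => ?_)
    · change rho P₂ δ (theta P₁ P₂ τ' (C a : MvPolynomial ι₁ A₁)) =
        τ (C a : MvPolynomial ι₁ A₁)
      rw [theta_C, rho_inclR, hC]
    · change rho P₂ δ (theta P₁ P₂ τ' (X i : MvPolynomial ι₁ A₁)) =
        τ (X i : MvPolynomial ι₁ A₁)
      rw [theta_X, map_add, rho_inclR, rho_inrVar, hδ]
      exact add_sub_cancel _ _
  exact congrFun (congrArg DFunLike.coe this) r

variable {P₁ P₂}
variable (M : Type m) [AddCommGroup M] [Module B M]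
  [Module P₁.toExtension.Ring M] [IsScalarTower P₁.toExtension.Ring B M]
  [Module P₂.toExtension.Ring M] [IsScalarTower P₂.toExtension.Ring B M]

/-- **Homotopy invariance**: the map induced on `T²` by a cover morphism depends neither on the
cover morphism nor on the ring map (as long as the latter is compatible with the maps to `B` and
fixed on constants). -/
theorem Phi_eq_of_homotopic {τ τ' : P₁.toExtension.Ring →+* P₂.toExtension.Ring}
    (h : CovHom P₁ P₂ τ) (h' : CovHom P₁ P₂ τ')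
    (hτ : ∀ r, algebraMap P₂.toExtension.Ring B (τ r) = algebraMap P₁.toExtension.Ring B r)
    (hτ' : ∀ r, algebraMap P₂.toExtension.Ring B (τ' r) = algebraMap P₁.toExtension.Ring B r)
    (hC : ∀ a : A₁, τ (C a : MvPolynomial ι₁ A₁) = τ' (C a : MvPolynomial ι₁ A₁))
    (x : T2 P₂ M) : Phi M h hτ x = Phi M h' hτ' x := by
  classical
  let _ : Module (extPres P₂ ι₁).toExtension.Ring M :=
    Module.compHom M (algebraMap (extPres P₂ ι₁).toExtension.Ring B)
  have : IsScalarTower (extPres P₂ ι₁).toExtension.Ring B M :=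
    IsScalarTower.of_compHom (extPres P₂ ι₁).toExtension.Ring B M
  let δ : ι₁ → P₂.toExtension.Ring :=
    fun i => τ (X i : MvPolynomial ι₁ A₁) - τ' (X i : MvPolynomial ι₁ A₁)
  let δ0 : ι₁ → P₂.toExtension.Ring := fun _ => 0
  have hδ : ∀ i, algebraMap P₂.toExtension.Ring B (δ i) = 0 := by
    intro i
    change algebraMap P₂.toExtension.Ring B (τ _ - τ' _) = 0
    rw [map_sub, hτ, hτ', sub_self]
  have hδ0 : ∀ i, algebraMap P₂.toExtension.Ring B (δ0 i) = 0 := fun i => map_zero _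
  have h1 : ∀ r, rho P₂ δ (theta P₁ P₂ τ' r) = τ r :=
    rho_theta P₁ P₂ τ τ' δ hC (fun i => rfl)
  have h2 : ∀ r, rho P₂ δ0 (theta P₁ P₂ τ' r) = τ' r :=
    rho_theta P₁ P₂ τ' τ' δ0 (fun a => rfl) (fun i => (sub_self _).symm)
  have hθc : ∀ r, algebraMap (extPres P₂ ι₁).toExtension.Ring B (theta P₁ P₂ τ' r) =
      algebraMap P₁.toExtension.Ring B r := by
    intro r
    rw [← rho_compat P₂ δ0 hδ0, h2, hτ']
  obtain ⟨cθ⟩ := CovHom.exists (theta P₁ P₂ τ') hθc
  obtain ⟨cδ⟩ := CovHom.exists (rho P₂ δ) (rho_compat P₂ δ hδ)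
  obtain ⟨c0⟩ := CovHom.exists (rho P₂ δ0) (rho_compat P₂ δ0 hδ0)
  have key : Phi M cδ (rho_compat P₂ δ hδ) x = Phi M c0 (rho_compat P₂ δ0 hδ0) x := by
    apply Phi_covIncl_injective P₂ ι₁ M
    rw [Phi_comp_Phi_eq_id M (covIncl P₂ ι₁) cδ (inclR_compat P₂ ι₁) (rho_compat P₂ δ hδ)
      (rho_inclR P₂ δ) x,
      Phi_comp_Phi_eq_id M (covIncl P₂ ι₁) c0 (inclR_compat P₂ ι₁) (rho_compat P₂ δ0 hδ0)
      (rho_inclR P₂ δ0) x]
  have hc1 : ∀ r, algebraMap P₂.toExtension.Ring B (((rho P₂ δ).comp (theta P₁ P₂ τ')) r) =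
      algebraMap P₁.toExtension.Ring B r := fun r => by
    rw [RingHom.comp_apply, h1, hτ]
  have hc2 : ∀ r, algebraMap P₂.toExtension.Ring B (((rho P₂ δ0).comp (theta P₁ P₂ τ')) r) =
      algebraMap P₁.toExtension.Ring B r := fun r => by
    rw [RingHom.comp_apply, h2, hτ']
  calc Phi M h hτ x = Phi M (cδ.comp cθ) hc1 x :=
        Phi_eq_of_eq M h (cδ.comp cθ) (fun r => (h1 r).symm) hτ hc1 x
    _ = Phi M cθ hθc (Phi M cδ (rho_compat P₂ δ hδ) x) :=
        Phi_comp M cθ cδ hθc (rho_compat P₂ δ hδ) hc1 x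
    _ = Phi M cθ hθc (Phi M c0 (rho_compat P₂ δ0 hδ0) x) := by rw [key]
    _ = Phi M (c0.comp cθ) hc2 x := (Phi_comp M cθ c0 hθc (rho_compat P₂ δ0 hδ0) hc2 x).symm
    _ = Phi M h' hτ' x := Phi_eq_of_eq M (c0.comp cθ) h' (fun r => h2 r) hc2 hτ' x

end Cylinder

end

end Groth.Agent.Helper2.JZb
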