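import Mathlib
import Groth.Prelude
import Groth.Agent.Helper2.JZb

set_option autoImplicit false

namespace Groth.Agent.Helper2.JZb2

open CotT Function TensorProduct MvPolynomial Groth.Agent.Helper2.CotTGen
  Groth.Agent.Helper2.CotTPoly Groth.Agent.Helper2.CotTIndep Groth.Agent.Helper2.JZc
  Groth.Agent.Helper2.JZb

noncomputable section

universe u

variable {A A' B : Type u} {ι σ ι' σ' : Type u}
variable [CommRing A] [CommRing A'] [CommRing B] [Algebra A B] [Algebra A' B]
variable [Algebra A A'] [IsScalarTower A A' B]
variable {P : Algebra.Presentation A B ι σ} {P' : Algebra.Presentation A' B ι' σ'}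

/-- the cover morphism underlying a morphism of presentations of the same algebra. -/
def covOf (h : PresHom P P') : CovHom P P' h.ringHom where
  toFun := h.relModMap.toAddMonoidHom
  map_smul r x := h.relModMap.map_smulₛₗ r x
  jmap_comp x := h.jmap_relModMap x

lemma covOf_toFun (h : PresHom P P') (x : relMod P) : (covOf h).toFun x = h.relModMap x := rfl

lemma ringHom_compat (h : PresHom P P') (r : P.toExtension.Ring) :
    algebraMap P'.toExtension.Ring B (h.ringHom r) = algebraMap P.toExtension.Ring B r :=
  h.algebraMap_ringHom r

variable (M : Type u) [AddCommGroup M] [Module B M]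

lemma T2pull_eq_Phi (h : PresHom P P')
    [Module P.toExtension.Ring M] [IsScalarTower P.toExtension.Ring B M]
    [Module P'.toExtension.Ring M] [IsScalarTower P'.toExtension.Ring B M]
    (x : T2 P' M) : h.T2pull M x = Phi M (covOf h) (ringHom_compat h) x := by
  obtain ⟨μ, rfl⟩ := Submodule.Quotient.mk_surjective _ x
  rw [T2pull_mk, Phi_mk]
  congr 1
  apply toZ_injective P M
  rw [toZ_Psi]
  ext q
  rw [toZ_apply, pre_apply, toZ_apply, PresHom.pull2_apply, PresHom.L2map_mk_tmul]
  rfl

lemma ringHom_C (h : PresHom P P') (a : A) :
    h.ringHom (C a : MvPolynomial ι A) = (C (algebraMap A A' a) : MvPolynomial ι' A') :=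
  Algebra.Generators.Hom.toAlgHom_C h.hom a

/-- **Invariance of `T²`-pullback**: two morphisms of presentations of the same algebra over the
same base change induce the same map on `T²`. -/
theorem T2pull_eq (h k : PresHom P P') (x : T2 P' M) : h.T2pull M x = k.T2pull M x := by
  let _ : Module P.toExtension.Ring M := Module.compHom M (algebraMap P.toExtension.Ring B)
  have : IsScalarTower P.toExtension.Ring B M := IsScalarTower.of_compHom P.toExtension.Ring B M
  let _ : Module P'.toExtension.Ring M := Module.compHom M (algebraMap P'.toExtension.Ring B)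
  have : IsScalarTower P'.toExtension.Ring B M := IsScalarTower.of_compHom P'.toExtension.Ring B M
  rw [T2pull_eq_Phi, T2pull_eq_Phi]
  apply Phi_eq_of_homotopic
  intro a
  rw [ringHom_C, ringHom_C]

end

end Groth.Agent.Helper2.JZb2
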