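import Mathlib
import Groth.Prelude
import Groth.Agent.Helper2.JZa

set_option autoImplicit false

namespace Groth.Agent.Helper2.JZd1

open CotT Function TensorProduct MvPolynomial Groth.Agent.Helper2.JZc Groth.Agent.Helper2.JZa

noncomputable section

universe u

section CompHom

variable {A B A' B' A'' B'' : Type u} {ι σ ι' σ' ι'' σ'' : Type u}
variable [CommRing A] [CommRing B] [Algebra A B] [CommRing A'] [CommRing B'] [Algebra A' B']
  [CommRing A''] [CommRing B''] [Algebra A'' B'']
variable [Algebra A A'] [Algebra B B'] [Algebra A B'] [IsScalarTower A A' B']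
  [IsScalarTower A B B']
variable [Algebra A' A''] [Algebra B' B''] [Algebra A' B''] [IsScalarTower A' A'' B'']
  [IsScalarTower A' B' B'']
variable [Algebra A A''] [Algebra B B''] [Algebra A B''] [IsScalarTower A A'' B'']
  [IsScalarTower A B B'']
variable [IsScalarTower A A' A''] [IsScalarTower B B' B'']
variable {P : Algebra.Presentation A B ι σ} {P' : Algebra.Presentation A' B' ι' σ'}
  {P'' : Algebra.Presentation A'' B'' ι'' σ''}

lemma ringHom_comp (h : PresHom P P') (h' : PresHom P' P'') (r : P.toExtension.Ring) :
    (h'.hom.comp h.hom).toExtensionHom.toRingHom r = h'.ringHom (h.ringHom r) :=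
  Algebra.Generators.Hom.toAlgHom_comp_apply _ _ _ h.hom h'.hom r

/-- composition of morphisms of presentations. -/
def compHom (h : PresHom P P') (h' : PresHom P' P'') : PresHom P P'' where
  hom := h'.hom.comp h.hom
  relVal s := h'.relModMap (h.relVal s)
  jmap_relVal s := by
    rw [PresHom.jmap_relModMap, h.jmap_relVal, ringHom_comp]

variable (h : PresHom P P') (h' : PresHom P' P'')
variable (M : Type u) [AddCommGroup M] [Module B'' M] [Module B' M] [Module B M]
  [IsScalarTower B' B'' M] [IsScalarTower B B' M] [IsScalarTower B B'' M]

lemma halg (b : B) : algebraMap B B'' b = algebraMap B' B'' (algebraMap B B' b) :=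
  IsScalarTower.algebraMap_apply B B' B'' b

lemma T0pull_compHom (x : T0 P'' M) :
    (compHom h h').T0pull M x = h.T0pull M (h'.T0pull M x) :=
  T0pull_comp h h' (compHom h h') (ringHom_comp h h') halg M x

lemma T1pull_compHom (x : T1 P'' M) :
    (compHom h h').T1pull M x = h.T1pull M (h'.T1pull M x) :=
  T1pull_comp h h' (compHom h h') (ringHom_comp h h') (fun _ => rfl) halg M x

lemma T2pull_compHom (x : T2 P'' M) :
    (compHom h h').T2pull M x = h.T2pull M (h'.T2pull M x) :=
  T2pull_comp h h' (compHom h h') (ringHom_comp h h') (fun _ => rfl) halg M x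

end CompHom

section Id

variable {A B : Type u} {ι σ : Type u} [CommRing A] [CommRing B] [Algebra A B]
variable (P : Algebra.Presentation A B ι σ)
variable (M : Type u) [AddCommGroup M] [Module B M]

lemma id_ringHom (r : P.toExtension.Ring) : (PresHom.id P).ringHom r = r := by
  change (Algebra.Generators.Hom.id P.toGenerators).toAlgHom r = r
  rw [Algebra.Generators.Hom.toAlgHom_id]
  rfl

lemma id_relModMap (f : relMod P) : (PresHom.id P).relModMap f = f := by
  induction f using Finsupp.induction_linear with
  | zero => simp
  | add f g hf hg => rw [map_add, hf, hg]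
  | single s r =>
    rw [PresHom.relModMap_single, id_ringHom]
    change r • Finsupp.single s (1 : P.toExtension.Ring) = _
    rw [Finsupp.smul_single, smul_eq_mul, mul_one]

lemma id_L0map (x : L0 P) : (PresHom.id P).L0map x = x := by
  rw [PresHom.L0map_apply]
  change Algebra.Extension.CotangentSpace.map
    (Algebra.Generators.Hom.id P.toGenerators).toExtensionHom x = x
  rw [Algebra.Generators.Hom.toExtensionHom_id, Algebra.Extension.CotangentSpace.map_id]
  rfl

lemma id_L1map (x : L1 P) : (PresHom.id P).L1map x = x := by
  induction x using TensorProduct.induction_on with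
  | zero => simp
  | add x y hx hy => rw [map_add, hx, hy]
  | tmul b f => rw [PresHom.L1map_tmul, id_relModMap]; rfl

lemma id_L2map (x : L2 P) : (PresHom.id P).L2map x = x := by
  induction x using Submodule.Quotient.induction_on with
  | H z =>
    induction z using TensorProduct.induction_on with
    | zero => simp
    | add x y hx hy => rw [Submodule.Quotient.mk_add, map_add, hx, hy]
    | tmul b q =>
      rw [PresHom.L2map_mk_tmul]
      congr 2
      apply Subtype.ext
      rw [PresHom.relKerMap_coe, id_relModMap]

lemma T0pull_id (x : T0 P M) : (PresHom.id P).T0pull M x = x := by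
  apply Subtype.ext
  rw [T0pull_coe]
  refine LinearMap.ext fun y => ?_
  rw [PresHom.pull0_apply, id_L0map]

lemma T1pull_id (x : T1 P M) : (PresHom.id P).T1pull M x = x := by
  obtain ⟨c, rfl⟩ := Submodule.Quotient.mk_surjective _ x
  rw [T1pull_mk]
  congr 1
  apply Subtype.ext
  refine LinearMap.ext fun y => ?_
  change (PresHom.id P).pull1 M c.1 y = c.1 y
  rw [PresHom.pull1_apply, id_L1map]

lemma T2pull_id (x : T2 P M) : (PresHom.id P).T2pull M x = x := by
  obtain ⟨μ, rfl⟩ := Submodule.Quotient.mk_surjective _ x
  rw [T2pull_mk]
  congr 1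
  refine LinearMap.ext fun y => ?_
  rw [PresHom.pull2_apply, id_L2map]

end Id

section OfHom

variable {A B A' B' : Type u} {ι σ ι' σ' : Type u}
variable [CommRing A] [CommRing B] [Algebra A B] [CommRing A'] [CommRing B'] [Algebra A' B']
variable [Algebra A A'] [Algebra B B'] [Algebra A B'] [IsScalarTower A A' B']
  [IsScalarTower A B B']
variable {P : Algebra.Presentation A B ι σ} {P' : Algebra.Presentation A' B' ι' σ'}

lemma exists_relVal (f : Algebra.Generators.Hom P.toGenerators P'.toGenerators) (s : σ) :
    ∃ v : relMod P', jmap P' v = f.toExtensionHom.toRingHom (rel P s) := by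
  have : f.toExtensionHom.toRingHom (rel P s) ∈ LinearMap.range (jmap P') := by
    rw [range_jmap]
    change algebraMap P'.toExtension.Ring B' (f.toExtensionHom.toRingHom (rel P s)) = 0
    rw [f.toExtensionHom.algebraMap_toRingHom, algebraMap_rel, map_zero]
  exact this

/-- a morphism of presentations with prescribed images of the variables. -/
def presHomOfHom (f : Algebra.Generators.Hom P.toGenerators P'.toGenerators) : PresHom P P' where
  hom := f
  relVal s := (exists_relVal f s).choose
  jmap_relVal s := (exists_relVal f s).choose_spec

/-- the morphism into a presentation whose relation set contains all kernel elements. -/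
def toFull (f : Algebra.Generators.Hom P.toGenerators P'.toGenerators)
    (idx : P'.toExtension.ker → σ') (hidx : ∀ x, rel P' (idx x) = x.1) : PresHom P P' where
  hom := f
  relVal s := Finsupp.single (idx ⟨f.toExtensionHom.toRingHom (rel P s), by
    change algebraMap P'.toExtension.Ring B' (f.toExtensionHom.toRingHom (rel P s)) = 0
    rw [f.toExtensionHom.algebraMap_toRingHom, algebraMap_rel, map_zero]⟩) 1
  jmap_relVal s := by
    rw [jmap_single, one_mul, hidx]

end OfHom

end

end Groth.Agent.Helper2.JZd1
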