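import Mathlib
import Groth.Prelude
import Groth.Agent.Helper2.JZd1
import Groth.Agent.Helper2.CotTPoly

set_option autoImplicit false

namespace Groth.Agent.Helper2.JZd2

open CotT Function TensorProduct MvPolynomial Groth.Agent.Helper2.JZc Groth.Agent.Helper2.JZa
  Groth.Agent.Helper2.JZd1 Groth.Agent.Helper2.CotTGen Groth.Agent.Helper2.CotTPoly

noncomputable section

universe u

section Split

variable {B B' B'' : Type u} [CommRing B] [CommRing B'] [CommRing B'']
  {X Y Z : Type u} [AddCommGroup X] [Module B X] [AddCommGroup Y] [Module B' Y]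
  [AddCommGroup Z] [Module B'' Z] {I J : Type u}
  (e : Module.Basis I B X) (f : Module.Basis (J ⊕ I) B' Y) (g : Module.Basis J B'' Z)
  (α : X → Y) (β : Y → Z) (hα : ∀ i, α (e i) = f (Sum.inr i))
  (hβl : ∀ j, β (f (Sum.inl j)) = g j) (hβr : ∀ i, β (f (Sum.inr i)) = 0)
  (hβ0 : β 0 = 0)
  (M : Type u) [AddCommGroup M] [Module B M] [Module B' M] [Module B'' M]
  (pα : (Y →ₗ[B'] M) → (X →ₗ[B] M)) (pβ : (Z →ₗ[B''] M) → (Y →ₗ[B'] M))
  (hpα : ∀ ψ x, pα ψ x = ψ (α x)) (hpβ : ∀ ψ y, pβ ψ y = ψ (β y))

include hβl hpβ in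
lemma split_inj : Injective pβ := by
  intro ψ ψ' hψ
  apply g.ext
  intro j
  rw [← hβl, ← hpβ, ← hpβ, hψ]

include hα hβl hβr hpα hpβ in
lemma split_ex (y : Y →ₗ[B'] M) (hy : pα y = 0) : ∃ z, pβ z = y := by
  refine ⟨g.constr B'' (fun j => y (f (Sum.inl j))), ?_⟩
  apply f.ext
  intro v
  rw [hpβ]
  cases v with
  | inl j => rw [hβl, Module.Basis.constr_basis]
  | inr i =>
    rw [hβr, map_zero, ← hα, ← hpα, hy, LinearMap.zero_apply]

include hα hβr hpα hpβ in
lemma split_comp (z : Z →ₗ[B''] M) : pα (pβ z) = 0 := by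
  apply e.ext
  intro i
  rw [hpα, hpβ, hα, hβr, map_zero, LinearMap.zero_apply]

include hα hpα in
lemma split_surj : Surjective pα := by
  intro x
  refine ⟨f.constr B' (Sum.elim (fun _ => 0) (fun i => x (e i))), ?_⟩
  apply e.ext
  intro i
  rw [hpα, hα, Module.Basis.constr_basis, Sum.elim_inr]

end Split

variable (A B C : Type u) [CommRing A] [CommRing B] [CommRing C] [Algebra A B] [Algebra B C]
  [Algebra A C] [IsScalarTower A B C]

/-- the composite presentation of `C` over `A`. -/
def cmp : Algebra.Presentation A C (C ⊕ B) (CanonRels B C ⊕ CanonRels A B) :=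
  (canon B C).comp (canon A B)

/-- `canon A B → cmp`. -/
def h1 : PresHom (canon A B) (cmp A B C) where
  hom := (canon B C).toGenerators.toComp (canon A B).toGenerators
  relVal r := Finsupp.single (Sum.inr r) 1
  jmap_relVal r := by
    rw [jmap_single, one_mul]
    change (cmp A B C).relation (Sum.inr r) =
      ((canon B C).toGenerators.toComp (canon A B).toGenerators).toAlgHom ((canon A B).relation r)
    rw [Algebra.Generators.toComp_toAlgHom]
    rfl

/-- `cmp → canon B C`. -/
def h3 : PresHom (cmp A B C) (canon B C) where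
  hom := (canon B C).toGenerators.ofComp (canon A B).toGenerators
  relVal := Sum.elim (fun j => Finsupp.single j 1) (fun _ => 0)
  jmap_relVal s := by
    cases s with
    | inl j =>
      rw [Sum.elim_inl, jmap_single, one_mul]
      exact ((canon B C).comp_aeval_relation_inl (canon A B) j).symm
    | inr r =>
      rw [Sum.elim_inr, map_zero]
      change 0 = ((canon B C).toGenerators.ofComp (canon A B).toGenerators).toAlgHom
        (rename Sum.inr ((canon A B).relation r))
      rw [Algebra.Generators.toAlgHom_ofComp_rename]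
      have : algebraMap (canon A B).toGenerators.Ring B ((canon A B).relation r) = 0 :=
        (canon A B).relation_mem_ker r
      rw [this, map_zero]

lemma h1_ringHom (p : (canon A B).toExtension.Ring) :
    (h1 A B C).ringHom p = (rename Sum.inr p : MvPolynomial (C ⊕ B) A) := by
  change ((canon B C).toGenerators.toComp (canon A B).toGenerators).toAlgHom p = _
  rw [Algebra.Generators.toComp_toAlgHom]

lemma h3_ringHom_X_inl (c : C) :
    (h3 A B C).ringHom (X (Sum.inl c) : MvPolynomial (C ⊕ B) A) = (X c : MvPolynomial C B) := by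
  change ((canon B C).toGenerators.ofComp (canon A B).toGenerators).toAlgHom (X (Sum.inl c)) = _
  rw [Algebra.Generators.Hom.toAlgHom_X]
  rfl

lemma h3_ringHom_X_inr (b : B) :
    (h3 A B C).ringHom (X (Sum.inr b) : MvPolynomial (C ⊕ B) A) =
      (MvPolynomial.C b : MvPolynomial C B) := by
  change ((canon B C).toGenerators.ofComp (canon A B).toGenerators).toAlgHom (X (Sum.inr b)) = _
  rw [Algebra.Generators.Hom.toAlgHom_X]
  rfl


section Deg01

lemma L0map_h1_basis (b : B) :
    (h1 A B C).L0map ((canon A B).cotangentSpaceBasis b) =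
      (cmp A B C).cotangentSpaceBasis (Sum.inr b) := by
  rw [Algebra.Generators.cotangentSpaceBasis_apply, Algebra.Generators.cotangentSpaceBasis_apply,
    PresHom.L0map_apply]
  erw [Algebra.Extension.CotangentSpace.map_tmul]
  rw [map_one]
  congr 2
  exact Algebra.Generators.Hom.toAlgHom_X _ b

lemma L0map_h3_basis_inl (c : C) :
    (h3 A B C).L0map ((cmp A B C).cotangentSpaceBasis (Sum.inl c)) =
      (canon B C).cotangentSpaceBasis c := by
  rw [Algebra.Generators.cotangentSpaceBasis_apply, Algebra.Generators.cotangentSpaceBasis_apply,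
    PresHom.L0map_apply]
  erw [Algebra.Extension.CotangentSpace.map_tmul]
  rw [map_one]
  congr 2
  exact h3_ringHom_X_inl A B C c

lemma L0map_h3_basis_inr (b : B) :
    (h3 A B C).L0map ((cmp A B C).cotangentSpaceBasis (Sum.inr b)) = 0 := by
  rw [Algebra.Generators.cotangentSpaceBasis_apply,
    PresHom.L0map_apply]
  erw [Algebra.Extension.CotangentSpace.map_tmul]
  rw [map_one]
  have : ((h3 A B C).hom.toExtensionHom.toAlgHom (X (Sum.inr b) : MvPolynomial (C ⊕ B) A)) =
      algebraMap B (canon B C).toExtension.Ring b := h3_ringHom_X_inr A B C b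
  rw [this, Derivation.map_algebraMap, TensorProduct.tmul_zero]

lemma L1map_basis {A B A' B' : Type u} {ι σ ι' σ' : Type u}
    [CommRing A] [CommRing B] [Algebra A B] [CommRing A'] [CommRing B'] [Algebra A' B']
    [Algebra A A'] [Algebra B B'] [Algebra A B'] [IsScalarTower A A' B'] [IsScalarTower A B B']
    {P : Algebra.Presentation A B ι σ} {P' : Algebra.Presentation A' B' ι' σ'}
    (h : PresHom P P') (s : σ) :
    h.L1map (L1basis P s) = (1 : B') ⊗ₜ[P'.toExtension.Ring] h.relVal s := by
  rw [L1basis_apply, PresHom.L1map_tmul, map_one, PresHom.relModMap_single, map_one, one_smul]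

lemma L1map_h1_basis (r : CanonRels A B) :
    (h1 A B C).L1map (L1basis (canon A B) r) = L1basis (cmp A B C) (Sum.inr r) := by
  rw [L1map_basis, L1basis_apply]
  rfl

lemma L1map_h3_basis_inl (j : CanonRels B C) :
    (h3 A B C).L1map (L1basis (cmp A B C) (Sum.inl j)) = L1basis (canon B C) j := by
  rw [L1map_basis, L1basis_apply]
  rfl

lemma L1map_h3_basis_inr (r : CanonRels A B) :
    (h3 A B C).L1map (L1basis (cmp A B C) (Sum.inr r)) = 0 := by
  rw [L1map_basis]
  change (1 : C) ⊗ₜ[(canon B C).toExtension.Ring] (0 : relMod (canon B C)) = 0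
  rw [TensorProduct.tmul_zero]

variable (M : Type u) [AddCommGroup M] [Module C M] [Module B M] [IsScalarTower B C M]

lemma inj0 : Injective ((h3 A B C).pull0 M) :=
  split_inj (cmp A B C).cotangentSpaceBasis (canon B C).cotangentSpaceBasis (h3 A B C).L0map
    (L0map_h3_basis_inl A B C) M ((h3 A B C).pull0 M) (fun _ _ => rfl)

lemma ex0 (y : L0 (cmp A B C) →ₗ[C] M) (hy : (h1 A B C).pull0 M y = 0) :
    ∃ z, (h3 A B C).pull0 M z = y :=
  split_ex (canon A B).cotangentSpaceBasis (cmp A B C).cotangentSpaceBasis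
    (canon B C).cotangentSpaceBasis (h1 A B C).L0map (h3 A B C).L0map
    (L0map_h1_basis A B C) (L0map_h3_basis_inl A B C) (L0map_h3_basis_inr A B C) M
    ((h1 A B C).pull0 M) ((h3 A B C).pull0 M) (fun _ _ => rfl) (fun _ _ => rfl) y hy

lemma comp0 (z : L0 (canon B C) →ₗ[C] M) : (h1 A B C).pull0 M ((h3 A B C).pull0 M z) = 0 :=
  split_comp (canon A B).cotangentSpaceBasis (cmp A B C).cotangentSpaceBasis
    (h1 A B C).L0map (h3 A B C).L0map
    (L0map_h1_basis A B C) (L0map_h3_basis_inr A B C) M
    ((h1 A B C).pull0 M) ((h3 A B C).pull0 M) (fun _ _ => rfl) (fun _ _ => rfl) z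

lemma surj0 : Surjective ((h1 A B C).pull0 M) :=
  split_surj (canon A B).cotangentSpaceBasis (cmp A B C).cotangentSpaceBasis
    (h1 A B C).L0map (L0map_h1_basis A B C) M ((h1 A B C).pull0 M) (fun _ _ => rfl)

lemma inj1 : Injective ((h3 A B C).pull1 M) :=
  split_inj (L1basis (cmp A B C)) (L1basis (canon B C)) (h3 A B C).L1map
    (L1map_h3_basis_inl A B C) M ((h3 A B C).pull1 M) (fun _ _ => rfl)

lemma ex1 (y : L1 (cmp A B C) →ₗ[C] M) (hy : (h1 A B C).pull1 M y = 0) :
    ∃ z, (h3 A B C).pull1 M z = y :=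
  split_ex (L1basis (canon A B)) (L1basis (cmp A B C)) (L1basis (canon B C))
    (h1 A B C).L1map (h3 A B C).L1map
    (L1map_h1_basis A B C) (L1map_h3_basis_inl A B C) (L1map_h3_basis_inr A B C) M
    ((h1 A B C).pull1 M) ((h3 A B C).pull1 M) (fun _ _ => rfl) (fun _ _ => rfl) y hy

lemma comp1 (z : L1 (canon B C) →ₗ[C] M) : (h1 A B C).pull1 M ((h3 A B C).pull1 M z) = 0 :=
  split_comp (L1basis (canon A B)) (L1basis (cmp A B C))
    (h1 A B C).L1map (h3 A B C).L1map
    (L1map_h1_basis A B C) (L1map_h3_basis_inr A B C) M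
    ((h1 A B C).pull1 M) ((h3 A B C).pull1 M) (fun _ _ => rfl) (fun _ _ => rfl) z

lemma surj1 : Surjective ((h1 A B C).pull1 M) :=
  split_surj (L1basis (canon A B)) (L1basis (cmp A B C))
    (h1 A B C).L1map (L1map_h1_basis A B C) M ((h1 A B C).pull1 M) (fun _ _ => rfl)

end Deg01

end

end Groth.Agent.Helper2.JZd2
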