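import Mathlib
import Groth.Prelude
import Groth.Agent.Helper2.JZd2

set_option autoImplicit false

namespace Groth.Agent.Helper2.JZd3

open CotT Function TensorProduct MvPolynomial Groth.Agent.Helper2.JZc Groth.Agent.Helper2.JZa
  Groth.Agent.Helper2.JZd1 Groth.Agent.Helper2.JZd2 Groth.Agent.Helper2.CotTGen
  Groth.Agent.Helper2.CotTPoly

noncomputable section

universe u

section Descend

lemma exists_descend {T S : Type*} [CommRing T] [CommRing S] (π : T →+* S) (hπ : Surjective π)
    {X Y M : Type*} [AddCommGroup X] [Module T X] [AddCommGroup Y] [Module S Y]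
    [AddCommGroup M] [Module T M] [Module S M]
    (hM : ∀ (t : T) (m : M), π t • m = t • m) (ρ : X →ₛₗ[π] Y) (hρ : Surjective ρ)
    (l : X →ₗ[T] M) (hl : ∀ x, ρ x = 0 → l x = 0) :
    ∃ l' : Y →ₗ[S] M, ∀ x, l' (ρ x) = l x := by
  have hwd : ∀ x x', ρ x = ρ x' → l x = l x' := by
    intro x x' h
    have := hl (x - x') (by rw [map_sub, h, sub_self])
    rwa [map_sub, sub_eq_zero] at this
  have hs : ∀ y, ρ (Function.surjInv hρ y) = y := Function.surjInv_eq hρ
  refine ⟨{ toFun := fun y => l (Function.surjInv hρ y), map_add' := ?_, map_smul' := ?_ }, ?_⟩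
  · intro y y'
    rw [← map_add]
    apply hwd
    rw [map_add, hs, hs, hs]
  · intro c y
    obtain ⟨t, rfl⟩ := hπ c
    rw [RingHom.id_apply, hM, ← map_smul]
    apply hwd
    rw [LinearMap.map_smulₛₗ, hs, hs]
  · intro x
    apply hwd
    rw [hs]

end Descend

section Flat

variable (A B C : Type u) [CommRing A]

lemma flat_rename : letI := ((rename Sum.inr : MvPolynomial B A →ₐ[A] MvPolynomial (C ⊕ B) A) :
    MvPolynomial B A →+* MvPolynomial (C ⊕ B) A).toAlgebra
    Module.Flat (MvPolynomial B A) (MvPolynomial (C ⊕ B) A) := by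
  letI := ((rename Sum.inr : MvPolynomial B A →ₐ[A] MvPolynomial (C ⊕ B) A) :
    MvPolynomial B A →+* MvPolynomial (C ⊕ B) A).toAlgebra
  have he : ∀ r : MvPolynomial B A, sumAlgEquiv A C B (rename Sum.inr r) = MvPolynomial.C r := by
    intro r
    have := congrFun (congrArg DFunLike.coe (sumAlgEquiv_comp_rename_inr (R := A) (S₁ := C)
      (S₂ := B))) r
    exact this
  let e' : MvPolynomial (C ⊕ B) A ≃ₗ[MvPolynomial B A] MvPolynomial C (MvPolynomial B A) :=
    { (sumAlgEquiv A C B).toLinearEquiv.toAddEquiv with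
      map_smul' := fun r t => by
        change sumAlgEquiv A C B (r • t) = r • sumAlgEquiv A C B t
        rw [Algebra.smul_def, RingHom.algebraMap_toAlgebra, map_mul]
        change sumAlgEquiv A C B (rename Sum.inr r) * _ = _
        rw [he, MvPolynomial.C_mul'] }
  exact Module.Flat.of_linearEquiv e'

lemma flat_relation {s : Type*} [Fintype s] (f : s → MvPolynomial B A)
    (x : s → MvPolynomial (C ⊕ B) A)
    (h : ∑ i, rename Sum.inr (f i) * x i = 0) :
    ∃ (k : ℕ) (a : s → Fin k → MvPolynomial B A) (y : Fin k → MvPolynomial (C ⊕ B) A),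
      (∀ i, x i = ∑ j, rename Sum.inr (a i j) * y j) ∧ ∀ j, ∑ i, f i * a i j = 0 := by
  letI := ((rename Sum.inr : MvPolynomial B A →ₐ[A] MvPolynomial (C ⊕ B) A) :
    MvPolynomial B A →+* MvPolynomial (C ⊕ B) A).toAlgebra
  haveI := flat_rename A B C
  have hsm : ∀ (r : MvPolynomial B A) (t : MvPolynomial (C ⊕ B) A),
      r • t = rename Sum.inr r * t := by
    intro r t
    rw [Algebra.smul_def, RingHom.algebraMap_toAlgebra]
    rfl
  have h' : ∑ i, f i • x i = 0 := by
    simp_rw [hsm]
    exact h
  obtain ⟨k, a, y, h1, h2⟩ := Module.Flat.isTrivialRelation_of_sum_smul_eq_zero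
    (R := MvPolynomial B A) (M := MvPolynomial (C ⊕ B) A) (f := f) (x := x) h'
  refine ⟨k, a, y, ?_, h2⟩
  intro i
  rw [h1 i]
  simp_rw [hsm]

end Flat


section Deg2

variable (A B C : Type u) [CommRing A] [CommRing B] [CommRing C] [Algebra A B] [Algebra B C]
  [Algebra A C] [IsScalarTower A B C]

lemma rho_single_inl (j : CanonRels B C) (t : (cmp A B C).toExtension.Ring) :
    (h3 A B C).relModMap (Finsupp.single (Sum.inl j) t) =
      Finsupp.single j ((h3 A B C).ringHom t) := by
  rw [PresHom.relModMap_single]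
  change (h3 A B C).ringHom t • Finsupp.single j (1 : (canon B C).toExtension.Ring) = _
  rw [Finsupp.smul_single, smul_eq_mul, mul_one]

lemma rho_single_inr (r : CanonRels A B) (t : (cmp A B C).toExtension.Ring) :
    (h3 A B C).relModMap (Finsupp.single (Sum.inr r) t) = 0 := by
  rw [PresHom.relModMap_single]
  change (h3 A B C).ringHom t • (0 : relMod (canon B C)) = _
  rw [smul_zero]

lemma alpha_single (r : CanonRels A B) (a : (canon A B).toExtension.Ring) :
    (h1 A B C).relModMap (Finsupp.single r a) =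
      Finsupp.single (Sum.inr r) ((h1 A B C).ringHom a) := by
  rw [PresHom.relModMap_single]
  change (h1 A B C).ringHom a • Finsupp.single (Sum.inr r) (1 : (cmp A B C).toExtension.Ring) = _
  rw [Finsupp.smul_single, smul_eq_mul, mul_one]

lemma rho_EK (b : CanonRels A B →₀ (cmp A B C).toExtension.Ring) :
    (h3 A B C).relModMap (EK (cmp A B C) b) = 0 := by
  induction b using Finsupp.induction_linear with
  | zero => simp
  | add f g hf hg => rw [map_add, map_add, hf, hg, add_zero]
  | single r t => rw [EK_single, rho_single_inr]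

lemma pi_surjective : Surjective (h3 A B C).ringHom :=
  Algebra.Generators.toAlgHom_ofComp_surjective (canon B C).toGenerators (canon A B).toGenerators

lemma ker_pi : RingHom.ker (h3 A B C).ringHom =
    Ideal.map (h1 A B C).ringHom (canon A B).toExtension.ker :=
  (Algebra.Generators.map_toComp_ker (canon B C).toGenerators (canon A B).toGenerators).symm

lemma rel_cmp_inr (r : CanonRels A B) :
    rel (cmp A B C) (Sum.inr r) = (h1 A B C).ringHom r.1 := by
  rw [h1_ringHom]
  rfl

lemma hinr : ∀ r : CanonRels A B, rel (cmp A B C) (Sum.inr r) =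
    (fun r : CanonRels A B => (h1 A B C).ringHom r.1) r := rel_cmp_inr A B C

lemma exists_EK_of_mem_ker (t : (cmp A B C).toExtension.Ring)
    (ht : (h3 A B C).ringHom t = 0) :
    ∃ b : CanonRels A B →₀ (cmp A B C).toExtension.Ring, jmap (cmp A B C) (EK (cmp A B C) b) = t := by
  have hmem : t ∈ Ideal.map (h1 A B C).ringHom (canon A B).toExtension.ker := by
    rw [← ker_pi]
    exact ht
  rw [Ideal.map] at hmem
  clear ht
  induction hmem using Submodule.span_induction with
  | mem x hx =>
    obtain ⟨r, hr, rfl⟩ := hx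
    refine ⟨Finsupp.single ⟨r, hr⟩ 1, ?_⟩
    rw [EK_single, jmap_single, one_mul, rel_cmp_inr]
  | zero => exact ⟨0, by simp⟩
  | add x y _ _ hx hy =>
    obtain ⟨bx, hbx⟩ := hx
    obtain ⟨by', hby⟩ := hy
    exact ⟨bx + by', by rw [map_add, map_add, hbx, hby]⟩
  | smul c x _ hx =>
    obtain ⟨bx, hbx⟩ := hx
    exact ⟨c • bx, by rw [map_smul, map_smul, hbx]⟩

lemma exists_lift_G (g : relMod (canon B C)) :
    ∃ x : relMod (cmp A B C), (h3 A B C).relModMap x = g := by
  induction g using Finsupp.induction_linear with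
  | zero => exact ⟨0, by simp⟩
  | add f g hf hg =>
    obtain ⟨x, hx⟩ := hf
    obtain ⟨y, hy⟩ := hg
    exact ⟨x + y, by rw [map_add, hx, hy]⟩
  | single j s =>
    obtain ⟨t, rfl⟩ := pi_surjective A B C s
    exact ⟨Finsupp.single (Sum.inl j) t, rho_single_inl A B C j t⟩

lemma relKerMap_surjective : Surjective (h3 A B C).relKerMap := by
  intro q'
  obtain ⟨x, hx⟩ := exists_lift_G A B C q'.1
  have h0 : (h3 A B C).ringHom (jmap (cmp A B C) x) = 0 := by
    rw [← PresHom.jmap_relModMap, hx]
    exact q'.2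
  obtain ⟨b, hb⟩ := exists_EK_of_mem_ker A B C _ h0
  have hq : x - EK (cmp A B C) b ∈ relKer (cmp A B C) := by
    change jmap (cmp A B C) (x - EK (cmp A B C) b) = 0
    rw [map_sub, hb, sub_self]
  refine ⟨⟨x - EK (cmp A B C) b, hq⟩, ?_⟩
  apply Subtype.ext
  rw [PresHom.relKerMap_coe]
  change (h3 A B C).relModMap (x - EK (cmp A B C) b) = q'.1
  rw [map_sub, rho_EK, sub_zero, hx]

/-- Claim A, single case. -/
lemma exists_EK_sub_mem_trivRel (j : CanonRels B C) (t : (cmp A B C).toExtension.Ring)
    (ht : (h3 A B C).ringHom t = 0) :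
    ∃ b : CanonRels A B →₀ (cmp A B C).toExtension.Ring,
      Finsupp.single (Sum.inl j) t - EK (cmp A B C) b ∈ trivRel (cmp A B C) := by
  have hmem : t ∈ Ideal.map (h1 A B C).ringHom (canon A B).toExtension.ker := by
    rw [← ker_pi]
    exact ht
  rw [Ideal.map] at hmem
  clear ht
  induction hmem using Submodule.span_induction with
  | mem x hx =>
    obtain ⟨r, hr, rfl⟩ := hx
    refine ⟨Finsupp.single ⟨r, hr⟩ (rel (cmp A B C) (Sum.inl j)), ?_⟩
    rw [EK_single]
    have : Finsupp.single (Sum.inl j) ((h1 A B C).ringHom r) -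
        Finsupp.single (Sum.inr (⟨r, hr⟩ : CanonRels A B)) (rel (cmp A B C) (Sum.inl j)) =
        jmap (cmp A B C) (Finsupp.single (Sum.inr (⟨r, hr⟩ : CanonRels A B)) 1) •
          Finsupp.single (Sum.inl j) 1 -
        jmap (cmp A B C) (Finsupp.single (Sum.inl j) 1) •
          Finsupp.single (Sum.inr (⟨r, hr⟩ : CanonRels A B)) 1 := by
      rw [jmap_single, jmap_single, one_mul, one_mul, Finsupp.smul_single, Finsupp.smul_single,
        smul_eq_mul, smul_eq_mul, mul_one, mul_one, rel_cmp_inr]
    rw [this]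
    exact Submodule.subset_span ⟨_, _, rfl⟩
  | zero => exact ⟨0, by simp⟩
  | add x y _ _ hx hy =>
    obtain ⟨bx, hbx⟩ := hx
    obtain ⟨by', hby⟩ := hy
    refine ⟨bx + by', ?_⟩
    have : Finsupp.single (Sum.inl j) (x + y) - EK (cmp A B C) (bx + by') =
        (Finsupp.single (Sum.inl j) x - EK (cmp A B C) bx) +
          (Finsupp.single (Sum.inl j) y - EK (cmp A B C) by') := by
      rw [Finsupp.single_add, map_add]; abel
    rw [this]
    exact Submodule.add_mem _ hbx hby
  | smul c x _ hx =>
    obtain ⟨bx, hbx⟩ := hx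
    refine ⟨c • bx, ?_⟩
    have : Finsupp.single (Sum.inl j) (c • x) - EK (cmp A B C) (c • bx) =
        c • (Finsupp.single (Sum.inl j) x - EK (cmp A B C) bx) := by
      rw [smul_sub, Finsupp.smul_single, map_smul]
    rw [this]
    exact Submodule.smul_mem _ _ hbx

/-- the inclusion of the `inl`-part. -/
def El : (CanonRels B C →₀ (cmp A B C).toExtension.Ring) →ₗ[(cmp A B C).toExtension.Ring]
    relMod (cmp A B C) :=
  Finsupp.lmapDomain _ _ Sum.inl

lemma El_single (j : CanonRels B C) (t : (cmp A B C).toExtension.Ring) :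
    El A B C (Finsupp.single j t) = Finsupp.single (Sum.inl j) t := by
  simp [El, Finsupp.lmapDomain_apply, Finsupp.mapDomain_single]

lemma rho_El_apply (xl : CanonRels B C →₀ (cmp A B C).toExtension.Ring) (j : CanonRels B C) :
    (h3 A B C).relModMap (El A B C xl) j = (h3 A B C).ringHom (xl j) := by
  classical
  induction xl using Finsupp.induction_linear with
  | zero => simp
  | add f g hf hg => rw [map_add, map_add, Finsupp.add_apply, hf, hg, Finsupp.add_apply, map_add]
  | single j' t =>
    rw [El_single, rho_single_inl, Finsupp.single_apply, Finsupp.single_apply]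
    split_ifs
    · rfl
    · rw [map_zero]

lemma exists_decomp (x : relMod (cmp A B C)) :
    ∃ (xl : CanonRels B C →₀ (cmp A B C).toExtension.Ring)
      (b : CanonRels A B →₀ (cmp A B C).toExtension.Ring),
      x = El A B C xl + EK (cmp A B C) b := by
  induction x using Finsupp.induction_linear with
  | zero => exact ⟨0, 0, by simp⟩
  | add f g hf hg =>
    obtain ⟨xl, b, rfl⟩ := hf
    obtain ⟨xl', b', rfl⟩ := hg
    exact ⟨xl + xl', b + b', by rw [map_add, map_add]; abel⟩
  | single v t =>
    cases v with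
    | inl j => exact ⟨Finsupp.single j t, 0, by rw [El_single, map_zero, add_zero]⟩
    | inr r => exact ⟨0, Finsupp.single r t, by rw [EK_single, map_zero, zero_add]⟩

lemma exists_EK_sub_mem_trivRel_El (xl : CanonRels B C →₀ (cmp A B C).toExtension.Ring)
    (hxl : ∀ j, (h3 A B C).ringHom (xl j) = 0) :
    ∃ b : CanonRels A B →₀ (cmp A B C).toExtension.Ring,
      El A B C xl - EK (cmp A B C) b ∈ trivRel (cmp A B C) := by
  classical
  induction xl using Finsupp.induction with
  | zero => exact ⟨0, by simp⟩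
  | single_add j t f hjf _ ih =>
    have hfj : f j = 0 := Finsupp.notMem_support_iff.1 hjf
    have ht : (h3 A B C).ringHom t = 0 := by
      have := hxl j
      rwa [Finsupp.add_apply, Finsupp.single_eq_same, hfj, add_zero] at this
    have hf : ∀ j', (h3 A B C).ringHom (f j') = 0 := by
      intro j'
      by_cases hjj : j' = j
      · rw [hjj, hfj, map_zero]
      · have := hxl j'
        rwa [Finsupp.add_apply, Finsupp.single_eq_of_ne hjj, zero_add] at this
    obtain ⟨b1, hb1⟩ := exists_EK_sub_mem_trivRel A B C j t ht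
    obtain ⟨b2, hb2⟩ := ih hf
    refine ⟨b1 + b2, ?_⟩
    have : El A B C (Finsupp.single j t + f) - EK (cmp A B C) (b1 + b2) =
        (Finsupp.single (Sum.inl j) t - EK (cmp A B C) b1) +
          (El A B C f - EK (cmp A B C) b2) := by
      rw [map_add, map_add, El_single]; abel
    rw [this]
    exact Submodule.add_mem _ hb1 hb2

/-- Claim A: a relation killed by `ρ` is, modulo trivial relations, supported on `inr`. -/
lemma exists_EK_sub_mem_trivRel_of_rho_eq_zero (x : relMod (cmp A B C))
    (hx : (h3 A B C).relModMap x = 0) :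
    ∃ b : CanonRels A B →₀ (cmp A B C).toExtension.Ring,
      x - EK (cmp A B C) b ∈ trivRel (cmp A B C) := by
  obtain ⟨xl, b0, rfl⟩ := exists_decomp A B C x
  have hxl : ∀ j, (h3 A B C).ringHom (xl j) = 0 := by
    intro j
    rw [← rho_El_apply]
    rw [map_add, rho_EK, add_zero] at hx
    rw [hx]
    rfl
  obtain ⟨b1, hb1⟩ := exists_EK_sub_mem_trivRel_El A B C xl hxl
  refine ⟨b1 + b0, ?_⟩
  have : El A B C xl + EK (cmp A B C) b0 - EK (cmp A B C) (b1 + b0) =
      El A B C xl - EK (cmp A B C) b1 := by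
    rw [map_add]; abel
  rw [this]
  exact hb1

end Deg2

end

end Groth.Agent.Helper2.JZd3
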