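import Mathlib
import Groth.Prelude
import Groth.Agent.Helper2.JZd3

set_option autoImplicit false

namespace Groth.Agent.Helper2.JZd4

open CotT Function TensorProduct MvPolynomial Groth.Agent.Helper2.JZc Groth.Agent.Helper2.JZa
  Groth.Agent.Helper2.JZd1 Groth.Agent.Helper2.JZd2 Groth.Agent.Helper2.JZd3
  Groth.Agent.Helper2.CotTGen Groth.Agent.Helper2.CotTPoly

noncomputable section

universe u

variable (A B C : Type u) [CommRing A] [CommRing B] [CommRing C] [Algebra A B] [Algebra B C]
  [Algebra A C] [IsScalarTower A B C]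

lemma flat_of_eq {R T : Type*} [CommRing R] [CommRing T] (φ ψ : R →+* T) (h : φ = ψ)
    (hflat : letI := ψ.toAlgebra; Module.Flat R T) : letI := φ.toAlgebra; Module.Flat R T := by
  subst h; exact hflat

lemma flat_h1 : letI := (h1 A B C).ringHom.toAlgebra
    Module.Flat (canon A B).toExtension.Ring (cmp A B C).toExtension.Ring := by
  refine flat_of_eq (R := (canon A B).toExtension.Ring) (T := (cmp A B C).toExtension.Ring)
    (h1 A B C).ringHom
    ((rename Sum.inr : MvPolynomial B A →ₐ[A] MvPolynomial (C ⊕ B) A) :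
      MvPolynomial B A →+* MvPolynomial (C ⊕ B) A) (RingHom.ext (h1_ringHom A B C)) ?_
  exact flat_rename A B C

lemma flat_relation' {R T : Type*} [CommRing R] [CommRing T] (φ : R →+* T)
    (hflat : letI := φ.toAlgebra; Module.Flat R T)
    {s : Type*} [Fintype s] (f : s → R) (x : s → T) (h : ∑ i, φ (f i) * x i = 0) :
    ∃ (k : ℕ) (a : s → Fin k → R) (y : Fin k → T),
      (∀ i, x i = ∑ j, φ (a i j) * y j) ∧ ∀ j, ∑ i, f i * a i j = 0 := by
  letI := φ.toAlgebra
  haveI := hflat
  have hsm : ∀ (r : R) (t : T), r • t = φ r * t := by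
    intro r t
    rw [Algebra.smul_def, RingHom.algebraMap_toAlgebra]
  have h' : ∑ i, f i • x i = 0 := by
    simp_rw [hsm]
    exact h
  obtain ⟨k, a, y, h1, h2⟩ := Module.Flat.isTrivialRelation_of_sum_smul_eq_zero
    (R := R) (M := T) (f := f) (x := x) h'
  refine ⟨k, a, y, ?_, h2⟩
  intro i
  rw [h1 i]
  simp_rw [hsm]

/-- Claim B: relations supported on `inr` come from relations of `canon A B` (flatness). -/
lemma EK_mem_span (b : CanonRels A B →₀ (cmp A B C).toExtension.Ring)
    (hb : jmap (cmp A B C) (EK (cmp A B C) b) = 0) :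
    EK (cmp A B C) b ∈ Submodule.span (cmp A B C).toExtension.Ring
      (Set.range fun q : relKer (canon A B) => (h1 A B C).relModMap q.1) := by
  classical
  have hbsum : b = ∑ i : ↥b.support, Finsupp.single i.1 (b i.1) := by
    conv_lhs => rw [← Finsupp.sum_single b]
    rw [Finsupp.sum, ← Finset.sum_coe_sort]
  have hEK : EK (cmp A B C) b =
      ∑ i : ↥b.support, Finsupp.single (Sum.inr i.1) (b i.1) := by
    conv_lhs => rw [hbsum]
    rw [map_sum]
    simp_rw [EK_single]
  have hrel : ∑ i : ↥b.support, (h1 A B C).ringHom (rel (canon A B) i.1) * b i.1 = 0 := by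
    rw [hEK, map_sum] at hb
    rw [← hb]
    refine Finset.sum_congr rfl fun i _ => ?_
    rw [jmap_single, rel_cmp_inr, mul_comm]
    rfl
  obtain ⟨k, a, y, h1', h2'⟩ := flat_relation' (h1 A B C).ringHom (flat_h1 A B C)
    (fun i : ↥b.support => rel (canon A B) i.1) (fun i => b i.1) hrel
  let q : Fin k → relMod (canon A B) := fun j => ∑ i : ↥b.support, Finsupp.single i.1 (a i j)
  have hq : ∀ j, q j ∈ relKer (canon A B) := by
    intro j
    change jmap (canon A B) (∑ i : ↥b.support, Finsupp.single i.1 (a i j)) = 0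
    rw [map_sum, ← h2' j]
    refine Finset.sum_congr rfl fun i _ => ?_
    rw [jmap_single, mul_comm]
  have hαq : ∀ j, (h1 A B C).relModMap (q j) =
      ∑ i : ↥b.support, Finsupp.single (Sum.inr i.1) ((h1 A B C).ringHom (a i j)) := by
    intro j
    change (h1 A B C).relModMap (∑ i : ↥b.support, Finsupp.single i.1 (a i j)) = _
    rw [map_sum]
    refine Finset.sum_congr rfl fun i _ => ?_
    rw [alpha_single]
  have hsum : EK (cmp A B C) b = ∑ j, y j • (h1 A B C).relModMap (q j) := by
    rw [hEK]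
    simp_rw [hαq, Finset.smul_sum, Finsupp.smul_single, smul_eq_mul]
    rw [Finset.sum_comm]
    refine Finset.sum_congr rfl fun i _ => ?_
    rw [← Finsupp.single_finset_sum]
    congr 1
    rw [h1' i]
    refine Finset.sum_congr rfl fun j _ => ?_
    rw [mul_comm]
  rw [hsum]
  refine Submodule.sum_mem _ fun j _ => Submodule.smul_mem _ _ (Submodule.subset_span ?_)
  exact ⟨⟨q j, hq j⟩, rfl⟩

lemma rho_alpha (x : relMod (canon A B)) :
    (h3 A B C).relModMap ((h1 A B C).relModMap x) = 0 := by
  induction x using Finsupp.induction_linear with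
  | zero => rw [map_zero, map_zero]
  | add f g hf hg => rw [map_add, map_add, hf, hg, add_zero]
  | single r a => rw [alpha_single, rho_single_inr]

lemma exists_trivRel_lift (y : relMod (canon B C)) (hy : y ∈ trivRel (canon B C)) :
    ∃ x ∈ trivRel (cmp A B C), (h3 A B C).relModMap x = y := by
  induction hy using Submodule.span_induction with
  | mem y hy =>
    obtain ⟨a, b, rfl⟩ := hy
    obtain ⟨a', rfl⟩ := exists_lift_G A B C a
    obtain ⟨b', rfl⟩ := exists_lift_G A B C b
    refine ⟨jmap (cmp A B C) a' • b' - jmap (cmp A B C) b' • a',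
      Submodule.subset_span ⟨a', b', rfl⟩, ?_⟩
    rw [map_sub, LinearMap.map_smulₛₗ, LinearMap.map_smulₛₗ, PresHom.jmap_relModMap,
      PresHom.jmap_relModMap]
  | zero => exact ⟨0, Submodule.zero_mem _, map_zero _⟩
  | add y z _ _ hy hz =>
    obtain ⟨x, hx, rfl⟩ := hy
    obtain ⟨x', hx', rfl⟩ := hz
    exact ⟨x + x', Submodule.add_mem _ hx hx', map_add _ _ _⟩
  | smul c y _ hy =>
    obtain ⟨x, hx, rfl⟩ := hy
    obtain ⟨t, rfl⟩ := pi_surjective A B C c
    exact ⟨t • x, Submodule.smul_mem _ _ hx, LinearMap.map_smulₛₗ _ _ _⟩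

section Deg2

variable (M : Type u) [AddCommGroup M] [Module C M] [Module B M] [IsScalarTower B C M]

lemma inj2 : Injective ((h3 A B C).pull2 M) := by
  intro ν ν' hνν'
  apply L2_hom_ext
  intro q'
  obtain ⟨q, rfl⟩ := relKerMap_surjective A B C q'
  have := congrFun (congrArg DFunLike.coe hνν') (Submodule.Quotient.mk ((1 : C) ⊗ₜ q))
  rw [PresHom.pull2_apply, PresHom.pull2_apply, PresHom.L2map_mk_tmul, map_one] at this
  exact this

lemma comp2 (z : L2 (canon B C) →ₗ[C] M) :
    (h1 A B C).pull2 M ((h3 A B C).pull2 M z) = 0 := by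
  apply L2_hom_ext
  intro q
  rw [PresHom.pull2_apply, PresHom.pull2_apply, LinearMap.zero_apply, PresHom.L2map_mk_tmul,
    PresHom.L2map_mk_tmul]
  have : (h3 A B C).relKerMap ((h1 A B C).relKerMap q) = 0 := by
    apply Subtype.ext
    rw [PresHom.relKerMap_coe, PresHom.relKerMap_coe]
    exact rho_alpha A B C q.1
  rw [this, TensorProduct.tmul_zero, Submodule.Quotient.mk_zero, map_zero]

lemma ex2 (μ : L2 (cmp A B C) →ₗ[C] M) (hμ : (h1 A B C).pull2 M μ = 0) :
    ∃ ν, (h3 A B C).pull2 M ν = μ := by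
  let _ : Module (cmp A B C).toExtension.Ring M :=
    Module.compHom M (algebraMap (cmp A B C).toExtension.Ring C)
  have : IsScalarTower (cmp A B C).toExtension.Ring C M :=
    IsScalarTower.of_compHom (cmp A B C).toExtension.Ring C M
  let _ : Module (canon B C).toExtension.Ring M :=
    Module.compHom M (algebraMap (canon B C).toExtension.Ring C)
  have : IsScalarTower (canon B C).toExtension.Ring C M :=
    IsScalarTower.of_compHom (canon B C).toExtension.Ring C M
  have hM : ∀ (t : (cmp A B C).toExtension.Ring) (m : M), (h3 A B C).ringHom t • m = t • m := by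
    intro t m
    rw [← algebraMap_smul C ((h3 A B C).ringHom t) m, ← algebraMap_smul C t m,
      PresHom.algebraMap_ringHom]
    rfl
  have hl1 : ∀ q : relKer (canon A B), toZ (cmp A B C) M μ ((h1 A B C).relKerMap q) = 0 := by
    intro q
    have := congrFun (congrArg DFunLike.coe hμ) (Submodule.Quotient.mk ((1 : B) ⊗ₜ q))
    rw [PresHom.pull2_apply, PresHom.L2map_mk_tmul, map_one] at this
    exact this
  have hker : ∀ q : relKer (cmp A B C), (h3 A B C).relKerMap q = 0 →
      toZ (cmp A B C) M μ q = 0 := by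
    intro q hq
    have hq' : (h3 A B C).relModMap q.1 = 0 := congrArg Subtype.val hq
    obtain ⟨b, hb⟩ := exists_EK_sub_mem_trivRel_of_rho_eq_zero A B C q.1 hq'
    have hEK : jmap (cmp A B C) (EK (cmp A B C) b) = 0 := by
      have h1 : jmap (cmp A B C) (q.1 - EK (cmp A B C) b) = 0 := trivRel_le_relKer _ hb
      rw [map_sub, show jmap (cmp A B C) q.1 = 0 from q.2, zero_sub, neg_eq_zero] at h1
      exact h1
    have hspan := EK_mem_span A B C b hEK
    have hlEK : toZ (cmp A B C) M μ ⟨EK (cmp A B C) b, hEK⟩ = 0 := by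
      have hle : Submodule.span (cmp A B C).toExtension.Ring
          (Set.range fun q : relKer (canon A B) => (h1 A B C).relModMap q.1) ≤
          Submodule.map (relKer (cmp A B C)).subtype (LinearMap.ker (toZ (cmp A B C) M μ)) := by
        rw [Submodule.span_le]
        rintro _ ⟨q0, rfl⟩
        exact ⟨(h1 A B C).relKerMap q0, hl1 q0, rfl⟩
      obtain ⟨z, hz, hz'⟩ := hle hspan
      have : z = ⟨EK (cmp A B C) b, hEK⟩ := Subtype.ext hz'
      rw [← this]
      exact hz
    have hdiff : toZ (cmp A B C) M μ (q - ⟨EK (cmp A B C) b, hEK⟩) = 0 :=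
      (toZ_mem_Zs (cmp A B C) M μ) _ hb
    have : q = (q - ⟨EK (cmp A B C) b, hEK⟩) + ⟨EK (cmp A B C) b, hEK⟩ := by abel
    rw [this, map_add, hdiff, hlEK, add_zero]
  obtain ⟨l', hl'⟩ := exists_descend (T := (cmp A B C).toExtension.Ring)
    (S := (canon B C).toExtension.Ring) (X := relKer (cmp A B C)) (Y := relKer (canon B C))
    (M := M) (h3 A B C).ringHom (pi_surjective A B C) hM
    (h3 A B C).relKerMap (relKerMap_surjective A B C) (toZ (cmp A B C) M μ) hker
  have hl'Z : l' ∈ Zs (canon B C) M := by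
    intro q' hq'
    obtain ⟨x, hx, hxq⟩ := exists_trivRel_lift A B C q'.1 hq'
    have : q' = (h3 A B C).relKerMap ⟨x, trivRel_le_relKer _ hx⟩ := Subtype.ext hxq.symm
    rw [this, hl']
    exact (toZ_mem_Zs (cmp A B C) M μ) _ hx
  refine ⟨ofZ (canon B C) M l' hl'Z, ?_⟩
  apply L2_hom_ext
  intro q
  rw [PresHom.pull2_apply, PresHom.L2map_mk_tmul, map_one, ← toZ_apply, toZ_ofZ, hl']
  rfl

end Deg2

/-- chain-level exactness for `canon A B → cmp → canon B C`. -/
theorem chainExact (M : Type u) [AddCommGroup M] [Module C M] [Module B M] [IsScalarTower B C M] :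
    ChainExact (h1 A B C) (h3 A B C) M where
  inj0 := inj0 A B C M
  ex0 := ex0 A B C M
  comp0 := comp0 A B C M
  surj0 := surj0 A B C M
  inj1 := inj1 A B C M
  ex1 := ex1 A B C M
  comp1 := comp1 A B C M
  surj1 := surj1 A B C M
  inj2 := inj2 A B C M
  ex2 := ex2 A B C M
  comp2 := comp2 A B C M

end

end Groth.Agent.Helper2.JZd4
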