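import Mathlib
import Groth.Prelude
import Groth.Agent.Helper2.JZd4
import Groth.Agent.Helper2.JZb2

set_option autoImplicit false

namespace Groth.Agent.Helper2.JZe

open CotT Function TensorProduct MvPolynomial Groth.Agent.Helper2.JZc Groth.Agent.Helper2.JZa
  Groth.Agent.Helper2.JZd1 Groth.Agent.Helper2.JZd2 Groth.Agent.Helper2.JZd3
  Groth.Agent.Helper2.JZd4

noncomputable section

universe u

variable (A B C : Type u) [CommRing A] [CommRing B] [CommRing C] [Algebra A B] [Algebra B C]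
  [Algebra A C] [IsScalarTower A B C]

/-- `cmp → canon A C` (over the identity square). -/
def h2' : PresHom (cmp A B C) (canon A C) :=
  toFull (Algebra.Generators.defaultHom (cmp A B C).toGenerators (canon A C).toGenerators)
    id (fun _ => rfl)

/-- `canon A C → cmp` (over the identity square). -/
def h2'' : PresHom (canon A C) (cmp A B C) :=
  presHomOfHom
    { val := fun c => (X (Sum.inl c) : MvPolynomial (C ⊕ B) A)
      aeval_val := fun c => by
        change aeval (cmp A B C).val (X (Sum.inl c) : MvPolynomial (C ⊕ B) A) = _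
        rw [aeval_X]
        rfl }

lemma hring_alg :
    (Algebra.Generators.defaultHom (canon A B).toGenerators (canon A C).toGenerators).toAlgHom =
      ((h2' A B C).hom.comp (h1 A B C).hom).toAlgHom := by
  apply MvPolynomial.algHom_ext
  intro b
  rw [Algebra.Generators.Hom.toAlgHom_X, Algebra.Generators.Hom.toAlgHom_X]
  change _ = aeval (h2' A B C).hom.val ((h1 A B C).hom.val b)
  change _ = aeval (h2' A B C).hom.val (X (Sum.inr b) : MvPolynomial (C ⊕ B) A)
  rw [aeval_X]
  rfl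

lemma hring (r : (canon A B).toExtension.Ring) :
    (canonHom A B A C).ringHom r = (h2' A B C).ringHom ((h1 A B C).ringHom r) := by
  rw [← ringHom_comp]
  exact congrFun (congrArg DFunLike.coe (hring_alg A B C)) r

lemma hrel (s : CanonRels A B) :
    (canonHom A B A C).relVal s = (h2' A B C).relModMap ((h1 A B C).relVal s) := by
  change _ = (h2' A B C).relModMap (Finsupp.single (Sum.inr s) 1)
  rw [PresHom.relModMap_single, map_one, one_smul]
  change Finsupp.single _ 1 = Finsupp.single _ 1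
  congr 1
  apply Subtype.ext
  change (canonHom A B A C).ringHom (rel (canon A B) s) =
    (h2' A B C).ringHom (rel (cmp A B C) (Sum.inr s))
  rw [hring, rel_cmp_inr]
  rfl

section Maps

set_option linter.unusedSectionVars false

variable (M : Type u) [AddCommGroup M] [Module C M] [Module B M] [IsScalarTower B C M]

lemma b0 (x : T0 (canon A C) M) : (canonHom A B A C).T0pull M x =
    (h1 A B C).T0pull M ((h2' A B C).T0pull M x) :=
  T0pull_comp (h1 A B C) (h2' A B C) (canonHom A B A C) (hring A B C) (fun _ => rfl) M x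

lemma b1 (x : T1 (canon A C) M) : (canonHom A B A C).T1pull M x =
    (h1 A B C).T1pull M ((h2' A B C).T1pull M x) :=
  T1pull_comp (h1 A B C) (h2' A B C) (canonHom A B A C) (hring A B C) (hrel A B C)
    (fun _ => rfl) M x

lemma b2 (x : T2 (canon A C) M) : (canonHom A B A C).T2pull M x =
    (h1 A B C).T2pull M ((h2' A B C).T2pull M x) :=
  T2pull_comp (h1 A B C) (h2' A B C) (canonHom A B A C) (hring A B C) (hrel A B C)
    (fun _ => rfl) M x

lemma a0 (x : T0 (canon B C) M) : (canonHom A C B C).T0pull M x =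
    (h2'' A B C).T0pull M ((h3 A B C).T0pull M x) := by
  rw [← T0pull_compHom]
  exact T0pull_eq _ _ M x

lemma a1 (x : T1 (canon B C) M) : (canonHom A C B C).T1pull M x =
    (h2'' A B C).T1pull M ((h3 A B C).T1pull M x) := by
  rw [← T1pull_compHom]
  exact T1pull_eq _ _ M x

lemma a2 (x : T2 (canon B C) M) : (canonHom A C B C).T2pull M x =
    (h2'' A B C).T2pull M ((h3 A B C).T2pull M x) := by
  rw [← T2pull_compHom]
  exact JZb2.T2pull_eq M _ _ x

lemma vu0 (x : T0 (canon A C) M) : (h2'' A B C).T0pull M ((h2' A B C).T0pull M x) = x := by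
  rw [← T0pull_compHom,
    T0pull_eq (compHom (h2'' A B C) (h2' A B C)) (PresHom.id (canon A C)) M x, T0pull_id]

lemma vu1 (x : T1 (canon A C) M) : (h2'' A B C).T1pull M ((h2' A B C).T1pull M x) = x := by
  rw [← T1pull_compHom,
    T1pull_eq (compHom (h2'' A B C) (h2' A B C)) (PresHom.id (canon A C)) M x, T1pull_id]

lemma vu2 (x : T2 (canon A C) M) : (h2'' A B C).T2pull M ((h2' A B C).T2pull M x) = x := by
  rw [← T2pull_compHom,
    JZb2.T2pull_eq M (compHom (h2'' A B C) (h2' A B C)) (PresHom.id (canon A C)) x, T2pull_id]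

lemma uv0 (x : T0 (cmp A B C) M) : (h2' A B C).T0pull M ((h2'' A B C).T0pull M x) = x := by
  rw [← T0pull_compHom,
    T0pull_eq (compHom (h2' A B C) (h2'' A B C)) (PresHom.id (cmp A B C)) M x, T0pull_id]

lemma uv1 (x : T1 (cmp A B C) M) : (h2' A B C).T1pull M ((h2'' A B C).T1pull M x) = x := by
  rw [← T1pull_compHom,
    T1pull_eq (compHom (h2' A B C) (h2'' A B C)) (PresHom.id (cmp A B C)) M x, T1pull_id]

lemma uv2 (x : T2 (cmp A B C) M) : (h2' A B C).T2pull M ((h2'' A B C).T2pull M x) = x := by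
  rw [← T2pull_compHom,
    JZb2.T2pull_eq M (compHom (h2' A B C) (h2'' A B C)) (PresHom.id (cmp A B C)) x, T2pull_id]

end Maps

section Transfer

lemma exact_mid {X Y Y' Z : Type*} [Zero Z] (a : X → Y) (b : Y → Z) (u : Y' → Y) (v : Y → Y')
    (huv : ∀ y, u (v y) = y) (hvu : ∀ y, v (u y) = y) (a' : X → Y') (b' : Y' → Z)
    (ha : ∀ x, a' x = v (a x)) (hb : ∀ y, b' y = b (u y)) (hE : Exact a b) : Exact a' b' := by
  intro y
  rw [hb]
  constructor
  · intro hy
    obtain ⟨x, hx⟩ := (hE (u y)).1 hy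
    exact ⟨x, by rw [ha, hx, hvu]⟩
  · rintro ⟨x, rfl⟩
    rw [ha, huv]
    exact (hE (a x)).2 ⟨x, rfl⟩

lemma exact_left {Y Y' Z W : Type*} [Zero W] (b : Y → Z) (δ : Z → W) (u : Y' → Y) (v : Y → Y')
    (huv : ∀ y, u (v y) = y) (b' : Y' → Z)
    (hb : ∀ y, b' y = b (u y)) (hE : Exact b δ) : Exact b' δ := by
  intro z
  constructor
  · intro hz
    obtain ⟨y, hy⟩ := (hE z).1 hz
    exact ⟨v y, by rw [hb, huv, hy]⟩
  · rintro ⟨y, rfl⟩
    rw [hb]
    exact (hE (b (u y))).2 ⟨u y, rfl⟩

lemma exact_right {Z X Y Y' : Type*} [Zero Y] [Zero Y'] (δ : Z → X) (a : X → Y) (u : Y' → Y)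
    (v : Y → Y') (huv : ∀ y, u (v y) = y) (hv0 : v 0 = 0) (a' : X → Y')
    (ha : ∀ x, a' x = v (a x)) (hE : Exact δ a) : Exact δ a' := by
  intro x
  rw [ha]
  constructor
  · intro hx
    refine (hE x).1 ?_
    rw [← huv (a x), hx, ← huv 0, hv0]
  · intro hx
    rw [(hE x).2 hx, hv0]

end Transfer

/-- **Nine-term exact sequence** of the cotangent functors for `A → B → C`. -/
theorem nine_term (M : Type u) [AddCommGroup M] [Module C M] [Module B M] [IsScalarTower B C M] :
    Function.Injective ((CotT.canonHom A C B C).T0pull M) ∧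
    Function.Exact ((CotT.canonHom A C B C).T0pull M) ((CotT.canonHom A B A C).T0pull M) ∧
    Function.Exact ((CotT.canonHom A C B C).T1pull M) ((CotT.canonHom A B A C).T1pull M) ∧
    Function.Exact ((CotT.canonHom A C B C).T2pull M) ((CotT.canonHom A B A C).T2pull M) ∧
    ∃ (δ₀ : CotT.T0 (CotT.canon A B) M →+ CotT.T1 (CotT.canon B C) M)
      (δ₁ : CotT.T1 (CotT.canon A B) M →+ CotT.T2 (CotT.canon B C) M),
      Function.Exact ((CotT.canonHom A B A C).T0pull M) δ₀ ∧
      Function.Exact δ₀ ((CotT.canonHom A C B C).T1pull M) ∧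
      Function.Exact ((CotT.canonHom A B A C).T1pull M) δ₁ ∧
      Function.Exact δ₁ ((CotT.canonHom A C B C).T2pull M) := by
  have E := chainExact A B C M
  obtain ⟨δ₀, hδ₀a, hδ₀b⟩ := E.exists_δ₀
  obtain ⟨δ₁, hδ₁a, hδ₁b⟩ := E.exists_δ₁
  refine ⟨?_, ?_, ?_, ?_, δ₀, δ₁, ?_, ?_, ?_, ?_⟩
  · intro x y hxy
    rw [a0, a0] at hxy
    have h1 := congrArg ((h2' A B C).T0pull M) hxy
    rw [uv0, uv0] at h1
    exact E.T0pull_injective h1
  · exact exact_mid _ _ _ _ (uv0 A B C M) (vu0 A B C M) _ _ (a0 A B C M) (b0 A B C M) E.T0_exact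
  · exact exact_mid _ _ _ _ (uv1 A B C M) (vu1 A B C M) _ _ (a1 A B C M) (b1 A B C M) E.T1_exact
  · exact exact_mid _ _ _ _ (uv2 A B C M) (vu2 A B C M) _ _ (a2 A B C M) (b2 A B C M) E.T2_exact
  · exact exact_left _ _ _ _ (uv0 A B C M) _ (b0 A B C M) hδ₀a
  · exact exact_right _ _ _ _ (uv1 A B C M) (map_zero _) _ (a1 A B C M) hδ₀b
  · exact exact_left _ _ _ _ (uv1 A B C M) _ (b1 A B C M) hδ₁a
  · exact exact_right _ _ _ _ (uv2 A B C M) (map_zero _) _ (a2 A B C M) hδ₁b

end

end Groth.Agent.Helper2.JZe
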