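import Groth.Agent.Helper2.KZ10
import Groth.Agent.Helper1.Dev7
import Groth.Agent.Helper4.GenLoc
import Groth.Prelude.Def_ChowK

set_option autoImplicit false

namespace Groth.Agent.Helper2.KD1

open CategoryTheory CategoryTheory.Limits AlgebraicGeometry TopologicalSpace Opposite
open Groth.Agent.Helper4 Groth.Agent.Helper4.StalkDict Groth.Agent.Lead.PushStalk
open Groth.Agent.Helper1.Dev

universe u

variable {X : Scheme.{u}}

section OneSection

variable {Z : Scheme.{u}} (i : Z ⟶ X)

/-- the push-forward of the structure module -/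
noncomputable abbrev pO : X.Modules :=
  (Scheme.Modules.pushforward i).obj (Coh.structureModule Z)

/-- sections of `pO` as functions on `Z` -/
def fnOf {U : X.Opens} (m : Γ(pO i, U)) : Γ(Z, i ⁻¹ᵁ U) := m

/-- functions on `Z` as sections of `pO` -/
def ofFn {U : X.Opens} (f : Γ(Z, i ⁻¹ᵁ U)) : Γ(pO i, U) := f

theorem fnOf_ofFn {U : X.Opens} (f : Γ(Z, i ⁻¹ᵁ U)) : fnOf i (ofFn i f) = f := rfl

theorem ofFn_fnOf {U : X.Opens} (m : Γ(pO i, U)) : ofFn i (fnOf i m) = m := rfl

theorem fnOf_smul {U : X.Opens} (a : Γ(X, U)) (m : Γ(pO i, U)) :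
    fnOf i (a • m) = i.app U a * fnOf i m := rfl

theorem fnOf_res {U V : X.Opens} (h : V ≤ U) (m : Γ(pO i, U)) :
    fnOf i ((pO i).presheaf.map (homOfLE h).op m) =
      Z.presheaf.map (homOfLE (show i ⁻¹ᵁ V ≤ i ⁻¹ᵁ U from fun _ hz => h hz)).op (fnOf i m) := rfl

theorem fnOf_zero {U : X.Opens} : fnOf i (0 : Γ(pO i, U)) = 0 := rfl

end OneSection

section Simple

variable (x : X)

/-- the ideal sheaf of the closure of `x` -/
noncomputable abbrev Ix : X.IdealSheafData :=
  Scheme.IdealSheafData.vanishingIdeal ⟨closure {x}, isClosed_closure⟩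

/-- the structure sheaf of the closure of `x` -/
noncomputable abbrev css : X.Modules := pO (Ix x).subschemeι

theorem range_ι : Set.range (Ix x).subschemeι = closure ({x} : Set X) :=
  range_ι_vanishingIdeal ⟨closure {x}, isClosed_closure⟩

/-- the unit germ -/
noncomputable def e₀ : (css x).presheaf.stalk x :=
  (css x).presheaf.germ ⊤ x trivial (ofFn (Ix x).subschemeι 1)

theorem germ_one (U : X.Opens) (hx : x ∈ U) :
    (css x).presheaf.germ U x hx (ofFn (Ix x).subschemeι 1) = e₀ x := by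
  unfold e₀
  rw [← TopCat.Presheaf.germ_res_apply (css x).presheaf (homOfLE (le_top : U ≤ ⊤)) x hx]
  congr 1
  exact (map_one (((Ix x).subscheme).presheaf.map (homOfLE (show (Ix x).subschemeι ⁻¹ᵁ U ≤
    (Ix x).subschemeι ⁻¹ᵁ ⊤ from fun _ _ => trivial)).op).hom).symm

/-- every element of the stalk is a multiple of the unit germ -/
theorem exists_smul_e₀ (n : (css x).presheaf.stalk x) :
    ∃ r : X.presheaf.stalk x, r • e₀ x = n := by
  obtain ⟨V, hxV, m, rfl⟩ := TopCat.Presheaf.exists_germ_eq _ n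
  obtain ⟨_, ⟨W, hW : IsAffineOpen W, rfl⟩, hxW, hWV⟩ :=
    X.isBasis_affineOpens.exists_subset_of_mem_open hxV V.isOpen
  obtain ⟨a, ha⟩ := (Ix x).subschemeι_app_surjective ⟨W, hW⟩
    (fnOf _ ((css x).presheaf.map (homOfLE hWV).op m))
  refine ⟨X.presheaf.germ W x hxW a, ?_⟩
  rw [← germ_one x W hxW, ← germ_smul,
    ← TopCat.Presheaf.germ_res_apply (css x).presheaf (homOfLE hWV) x hxW m]
  congr 1
  show ofFn _ (fnOf _ (a • ofFn (Ix x).subschemeι 1)) = _
  rw [fnOf_smul, fnOf_ofFn, mul_one]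
  exact congrArg (ofFn _) ha

/-- the maximal ideal kills the unit germ -/
theorem smul_e₀_eq_zero (r : X.presheaf.stalk x)
    (hr : r ∈ IsLocalRing.maximalIdeal (X.presheaf.stalk x)) : r • e₀ x = 0 := by
  obtain ⟨V, hxV, b, rfl⟩ := TopCat.Presheaf.exists_germ_eq _ r
  obtain ⟨_, ⟨W, hW : IsAffineOpen W, rfl⟩, hxW, hWV⟩ :=
    X.isBasis_affineOpens.exists_subset_of_mem_open hxV V.isOpen
  have hWV' : W ≤ V := hWV
  obtain ⟨a, hra⟩ : ∃ a : Γ(X, W), X.presheaf.germ W x hxW a = X.presheaf.germ V x hxV b :=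
    ⟨X.presheaf.map (homOfLE hWV').op b,
      TopCat.Presheaf.germ_res_apply X.presheaf (homOfLE hWV') x hxW b⟩
  rw [← hra] at hr ⊢
  have hxa : x ∉ X.basicOpen a := by
    intro hc
    rw [Scheme.mem_basicOpen _ _ _ hxW] at hc
    exact hr hc
  have hmem : a ∈ (Ix x).ideal ⟨W, hW⟩ := by
    rw [Scheme.IdealSheafData.vanishingIdeal_ideal, PrimeSpectrum.mem_vanishingIdeal]
    intro p hp
    by_contra hcon
    have hp' : p ∈ PrimeSpectrum.basicOpen a := hcon
    rw [← hW.fromSpec_preimage_basicOpen] at hp'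
    have hsp : x ⤳ hW.fromSpec p := specializes_iff_mem_closure.2 hp
    exact hxa (hsp.mem_open (X.basicOpen a).isOpen hp')
  have hker : (Ix x).subschemeι.app W a = 0 := by
    have := (Ix x).ker_subschemeι_app ⟨W, hW⟩
    rw [← this] at hmem
    exact hmem
  rw [← germ_one x W hxW, ← germ_smul]
  have : (a • ofFn (Ix x).subschemeι 1 : Γ(css x, W)) = 0 := by
    show ofFn _ (fnOf _ (a • ofFn (Ix x).subschemeι 1)) = _
    rw [fnOf_smul, hker, zero_mul]
    rfl
  rw [this, map_zero]

theorem e₀_ne_zero : e₀ x ≠ 0 := by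
  intro h
  unfold e₀ at h
  have h' : (css x).presheaf.germ ⊤ x trivial (ofFn (Ix x).subschemeι 1) =
      (css x).presheaf.germ ⊤ x trivial 0 := by rw [h, map_zero]
  obtain ⟨W, hxW, i₁, i₂, hW⟩ := TopCat.Presheaf.germ_eq (css x).presheaf x
    (Opens.mem_top x) (Opens.mem_top x) _ _ h'
  rw [map_zero] at hW
  have h1 : (1 : Γ((Ix x).subscheme, (Ix x).subschemeι ⁻¹ᵁ W)) = 0 := by
    have := congrArg (fnOf _) hW
    rw [fnOf_zero] at this
    rw [← this]
    exact (map_one (((Ix x).subscheme).presheaf.map (homOfLE (show (Ix x).subschemeι ⁻¹ᵁ W ≤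
      (Ix x).subschemeι ⁻¹ᵁ ⊤ from fun _ _ => trivial)).op).hom).symm
  have hx : x ∈ Set.range (Ix x).subschemeι := by
    rw [range_ι]; exact subset_closure rfl
  obtain ⟨z, hz⟩ := hx
  have hzW : z ∈ (Ix x).subschemeι ⁻¹ᵁ W := by
    show (Ix x).subschemeι z ∈ W
    rw [hz]; exact hxW
  have hbo : (Ix x).subscheme.basicOpen (1 : Γ((Ix x).subscheme, (Ix x).subschemeι ⁻¹ᵁ W)) =
      (Ix x).subschemeι ⁻¹ᵁ W := Scheme.basicOpen_of_isUnit _ isUnit_one
  rw [h1, Scheme.basicOpen_zero] at hbo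
  rw [← hbo] at hzW
  exact hzW

theorem length_css :
    Module.length (X.presheaf.stalk x) ((css x).presheaf.stalk x) = 1 := by
  rw [Module.length_eq_one_iff]
  let g : X.presheaf.stalk x →ₗ[X.presheaf.stalk x] (css x).presheaf.stalk x :=
    LinearMap.toSpanSingleton _ _ (e₀ x)
  have hg : Function.Surjective g := fun n => exists_smul_e₀ x n
  have hker : LinearMap.ker g = IsLocalRing.maximalIdeal (X.presheaf.stalk x) := by
    apply le_antisymm
    · intro r hr
      by_contra hcon
      have hu : IsUnit r := by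
        by_contra hnu
        exact hcon ((IsLocalRing.mem_maximalIdeal r).2 hnu)
      have hr' : r • e₀ x = 0 := hr
      exact e₀_ne_zero x ((hu.smul_eq_zero).1 hr')
    · intro r hr
      exact smul_e₀_eq_zero x r hr
  have e := g.quotKerEquivOfSurjective hg
  rw [hker] at e
  exact isSimpleModule_iff_quot_maximal.2
    ⟨_, IsLocalRing.maximalIdeal.isMaximal _, ⟨e.symm⟩⟩

end Simple

section MapLE

universe v' u'

variable {A : Type u'} [Category.{v'} A] [Abelian A] {P P' : ObjectProperty A} (h : P ≤ P')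

/-- the map on `K₀` induced by an inclusion of object properties -/
noncomputable def mapLE : KZero.K0sub P →+ KZero.K0sub P' :=
  QuotientAddGroup.map _ _
    (FreeAbelianGroup.map (fun M : Subtype P => (⟨M.1, h _ M.2⟩ : Subtype P'))) (by
      unfold KZero.relSub
      rw [AddSubgroup.closure_le]
      rintro _ ⟨S, h₁, h₂, h₃, hS, rfl⟩
      show _ ∈ KZero.relSub P'
      simp only [map_sub, FreeAbelianGroup.map_of_apply]
      exact AddSubgroup.subset_closure ⟨S, h _ h₁, h _ h₂, h _ h₃, hS, rfl⟩)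

theorem mapLE_clSub (M : A) (hM : P M) : mapLE h (KZero.clSub P M) = KZero.clSub P' M := by
  unfold KZero.clSub
  rw [dif_pos hM, dif_pos (h _ hM)]
  show QuotientAddGroup.mk _ = _
  rw [FreeAbelianGroup.map_of_apply]

end MapLE

section Main

variable (X)

theorem isCoh_css [IsNoetherian X] (x : X) : Coh.IsCoh (css x) :=
  isCoh_push _ _ (isCoh_structureModule _)

theorem support_css (x : X) : CohB1.support (css x) ⊆ closure ({x} : Set X) :=
  (support_push_subset _ _).trans (range_ι x).le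

theorem css_eq (x : X) : Cyc.closureStructureSheaf x = css x := rfl

theorem dim_mono {s t : Set X} (h : s ⊆ t) : topologicalKrullDim ↥s ≤ topologicalKrullDim ↥t :=
  (Topology.IsEmbedding.inclusion h).isInducing.topologicalKrullDim_le

theorem main [IsNoetherian X] (n : ℕ) :
    AddSubgroup.closure {c : KZero.K0sub (fun M : X.Modules => Coh.IsCoh M) |
        ∃ G : X.Modules, Coh.IsCoh G ∧ topologicalKrullDim ↥(CohB1.support G) ≤ n ∧
          c = KZero.clSub (fun M : X.Modules => Coh.IsCoh M) G} =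
      AddSubgroup.closure {c : KZero.K0sub (fun M : X.Modules => Coh.IsCoh M) |
        ∃ x : ↥X, topologicalKrullDim ↥(closure ({x} : Set ↥X)) ≤ n ∧
          c = KZero.clSub (fun M : X.Modules => Coh.IsCoh M) (Cyc.closureStructureSheaf x)} := by
  apply le_antisymm
  · rw [AddSubgroup.closure_le]
    rintro _ ⟨G, hG, hdim, rfl⟩
    set Y' : Set X := CohB1.support G with hY'
    have hcl : IsClosed Y' := Groth.Agent.S0020.result X G hG.2
    have hF : ∀ a : {a : X // a ∈ Y'}, Coh.IsCoh (css a.1) ∧ CohB1.support (css a.1) ⊆ Y' :=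
      fun a => ⟨isCoh_css X a.1, (support_css X a.1).trans
        (hcl.closure_subset_iff.2 (Set.singleton_subset_iff.2 a.2))⟩
    have hmain := KZ10.main X Y' hcl (fun a : {a : X // a ∈ Y'} => css a.1) hF (by
      intro Z hZ hirr hZY y hy
      have hyZ : y ∈ Z := by rw [← hy]; exact subset_closure rfl
      refine ⟨⟨y, hZY hyZ⟩, ?_, length_css y⟩
      rw [← hy]
      exact support_css X y)
    have hle : KZ7.PS X Y' ≤ (fun M : X.Modules => Coh.IsCoh M) := fun M hM => hM.1
    have hGmem : KZero.clSub (KZ7.PS X Y') G ∈ AddSubgroup.closure (Set.range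
        fun a : {a : X // a ∈ Y'} => KZero.clSub (KZ7.PS X Y') (css a.1)) := by
      rw [hmain]; trivial
    have := AddSubgroup.mem_map_of_mem (mapLE hle) hGmem
    rw [mapLE_clSub hle G ⟨hG, le_rfl⟩, AddMonoidHom.map_closure] at this
    refine AddSubgroup.closure_mono ?_ this
    rintro _ ⟨_, ⟨a, rfl⟩, rfl⟩
    refine ⟨a.1, ?_, ?_⟩
    · exact (dim_mono X (hcl.closure_subset_iff.2 (Set.singleton_subset_iff.2 a.2))).trans hdim
    · rw [css_eq]
      exact mapLE_clSub hle _ (hF a)
  · rw [AddSubgroup.closure_le]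
    rintro _ ⟨x, hdim, rfl⟩
    refine AddSubgroup.subset_closure ⟨css x, isCoh_css X x, ?_, rfl⟩
    exact (dim_mono X (support_css X x)).trans hdim

end Main

end Groth.Agent.Helper2.KD1
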