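import Groth.Agent.Helper2.KD1

set_option autoImplicit false

namespace Groth.Agent.Helper2.KD2

open CategoryTheory CategoryTheory.Limits AlgebraicGeometry TopologicalSpace
open Groth.Agent.Helper4 Groth.Agent.Helper2.CohQ1 Groth.Agent.Helper2.KZ1 Groth.Agent.Helper2.KZ2
open Groth.Agent.Helper2.KZ7 Groth.Agent.Helper1.Dev

universe u

section Top

variable {T : Type*} [TopologicalSpace T]

/-- a proper irreducible closed subset of an irreducible set has smaller dimension -/
theorem dim_succ_le {Z W : Set T} (hZc : IsClosed Z) (hZ : IsIrreducible Z) (hW : IsIrreducible W)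
    (hZW : Z ⊆ W) (hne : Z ≠ W) :
    topologicalKrullDim ↥Z + 1 ≤ topologicalKrullDim ↥W := by
  haveI : IrreducibleSpace ↥W := Subtype.irreducibleSpace hW
  haveI : IrreducibleSpace ↥Z := Subtype.irreducibleSpace hZ
  let topW : IrreducibleCloseds ↥W := ⟨Set.univ, IrreducibleSpace.isIrreducible_univ _, isClosed_univ⟩
  let topZ : IrreducibleCloseds ↥Z := ⟨Set.univ, IrreducibleSpace.isIrreducible_univ _, isClosed_univ⟩
  haveI : Nonempty (IrreducibleCloseds ↥Z) := ⟨topZ⟩
  have hind : Topology.IsInducing (Set.inclusion hZW) := (Topology.IsEmbedding.inclusion hZW).isInducing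
  let m : IrreducibleCloseds ↥Z → IrreducibleCloseds ↥W := IrreducibleCloseds.map _ hind.continuous
  have hm : StrictMono m := IrreducibleCloseds.map_strictMono_of_isInducing hind
  have hlt : ∀ z, m z < topW := by
    intro z
    refine lt_of_le_of_ne (fun w _ => Set.mem_univ w) ?_
    intro heq
    obtain ⟨w, hwW, hwZ⟩ : ∃ w, w ∈ W ∧ w ∉ Z := by
      by_contra hcon
      push Not at hcon
      exact hne (le_antisymm hZW hcon)
    have hcl : IsClosed {v : ↥W | v.1 ∈ Z} := hZc.preimage continuous_subtype_val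
    have hsub : (m z : Set ↥W) ⊆ {v : ↥W | v.1 ∈ Z} := by
      show closure (Set.inclusion hZW '' (z : Set ↥Z)) ⊆ _
      refine hcl.closure_subset_iff.2 ?_
      rintro _ ⟨v, _, rfl⟩
      exact v.2
    have : (⟨w, hwW⟩ : ↥W) ∈ (m z : Set ↥W) := by rw [heq]; exact Set.mem_univ _
    exact hwZ (hsub this)
  let g : WithTop (IrreducibleCloseds ↥Z) → IrreducibleCloseds ↥W := fun a =>
    match a with
    | ⊤ => topW
    | (z : IrreducibleCloseds ↥Z) => m z
  have hg : StrictMono g := by
    intro a b hab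
    induction a using WithTop.recTopCoe with
    | top => exact absurd hab (not_top_lt)
    | coe a =>
      induction b using WithTop.recTopCoe with
      | top => exact hlt a
      | coe b => exact hm (WithTop.coe_lt_coe.1 hab)
  have := Order.krullDim_le_of_strictMono g hg
  rw [Order.krullDim_WithTop] at this
  exact this

theorem dim_closure_succ_le [T0Space T] {x ξ : T} (hx : x ∈ closure ({ξ} : Set T)) (hne : x ≠ ξ) :
    topologicalKrullDim ↥(closure ({x} : Set T)) + 1 ≤
      topologicalKrullDim ↥(closure ({ξ} : Set T)) := by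
  refine dim_succ_le isClosed_closure isIrreducible_singleton.closure
    isIrreducible_singleton.closure
    (isClosed_closure.closure_subset_iff.2 (Set.singleton_subset_iff.2 hx)) ?_
  intro heq
  apply hne
  have h1 : ξ ⤳ x := specializes_iff_mem_closure.2 hx
  have h2 : x ⤳ ξ := specializes_iff_mem_closure.2 (by rw [heq]; exact subset_closure rfl)
  exact (h2.antisymm h1).eq

end Top

section Dev

variable (X : Scheme.{u}) [IsNoetherian X] (Y' : Set X) (Pr : X.Modules → Prop)

/-- the inductive step for an irreducible closed subset -/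
theorem step_irred
    (hiso : ∀ M N : X.Modules, Nonempty (M ≅ N) → Pr M → Pr N)
    (h23 : ∀ S : ShortComplex X.Modules, S.ShortExact → Coh.IsCoh S.X₁ → Coh.IsCoh S.X₂ →
      Coh.IsCoh S.X₃ → CohB1.support S.X₂ ⊆ Y' →
      (Pr S.X₁ → Pr S.X₂ → Pr S.X₃) ∧ (Pr S.X₁ → Pr S.X₃ → Pr S.X₂) ∧ (Pr S.X₂ → Pr S.X₃ → Pr S.X₁))
    (Z : Closeds X) (hZY : (Z : Set X) ⊆ Y') (hirr : IsIrreducible (Z : Set X))
    (ih : ∀ Z' : Closeds X, Z' < Z → ∀ M : X.Modules, Coh.IsCoh M →
      CohB1.support M ⊆ (Z' : Set X) → Pr M)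
    (h₃ : ∀ ξ : X, closure ({ξ} : Set X) = (Z : Set X) → ∃ F : X.Modules, Coh.IsCoh F ∧
      CohB1.support F ⊆ (Z : Set X) ∧
      Module.length (X.presheaf.stalk ξ) (F.presheaf.stalk ξ) = 1 ∧ Pr F)
    (M : X.Modules) (hM : Coh.IsCoh M) (hsupp : CohB1.support M ⊆ (Z : Set X)) :
    Pr M := by
  obtain ⟨ξ, hξ⟩ := QuasiSober.sober hirr Z.isClosed
  have hξ' : closure ({ξ} : Set X) = (Z : Set X) := hξ
  have hξZ : ξ ∈ (Z : Set X) := by rw [← hξ']; exact subset_closure rfl
  refine Groth.Agent.S0819.result X (Z : Set X) Z.isClosed hirr ξ ⟨hξZ, hξ'⟩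
    Pr hiso ?_ ?_ ?_ M hM hsupp
  · intro S hS c1 c2 c3 hs2
    exact h23 S hS c1 c2 c3 (hs2.trans hZY)
  · intro Z' i hi hint hsub hne I ι hmono hI
    haveI := hi
    haveI := hint
    haveI := hmono
    haveI : IsNoetherian Z' := isNoetherian_of_isClosedImmersion i
    have hIc : Coh.IsCoh I := isCoh_of_mono ι hI (isCoh_structureModule Z')
    have hpush : Coh.IsCoh ((Coh.push i).obj I) := isCoh_push i I hIc
    let W : Closeds X := ⟨Set.range i, i.isClosedEmbedding.isClosed_range⟩
    have hW : W < Z := by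
      refine lt_of_le_of_ne (fun x hx => hsub hx) ?_
      intro h
      apply hne
      have := congrArg (fun C : Closeds X => (C : Set X)) h
      exact this
    exact ih W hW _ hpush (support_push_subset i I)
  · obtain ⟨F, hF, hFs, hlen, hFG⟩ := h₃ ξ hξ'
    haveI : F.IsQuasicoherent := hF.1
    refine ⟨F, hF, ?_, ?_, hFG⟩
    · apply le_antisymm hFs
      have hsimple : IsSimpleModule (X.presheaf.stalk ξ) (F.presheaf.stalk ξ) :=
        Module.length_eq_one_iff.1 hlen
      have hξs : ξ ∈ CohB1.support F := by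
        intro hsub
        haveI := hsub
        haveI := IsSimpleModule.nontrivial (X.presheaf.stalk ξ) (F.presheaf.stalk ξ)
        exact not_subsingleton _ hsub
      intro z hz
      rw [← hξ'] at hz
      exact SuppDict.stableUnderSpecialization_support F (specializes_iff_mem_closure.2 hz) hξs
    · have hsimple : IsSimpleModule (X.presheaf.stalk ξ) (F.presheaf.stalk ξ) :=
        Module.length_eq_one_iff.1 hlen
      obtain ⟨I, hI, ⟨e⟩⟩ := isSimpleModule_iff_quot_maximal.1 hsimple
      have hIm : I = IsLocalRing.maximalIdeal (X.presheaf.stalk ξ) := IsLocalRing.eq_maximalIdeal hI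
      subst hIm
      exact ⟨e⟩

/-- dévissage for a predicate on coherent modules supported in a closed set -/
theorem dev_pred
    (hiso : ∀ M N : X.Modules, Nonempty (M ≅ N) → Pr M → Pr N)
    (h23 : ∀ S : ShortComplex X.Modules, S.ShortExact → Coh.IsCoh S.X₁ → Coh.IsCoh S.X₂ →
      Coh.IsCoh S.X₃ → CohB1.support S.X₂ ⊆ Y' →
      (Pr S.X₁ → Pr S.X₂ → Pr S.X₃) ∧ (Pr S.X₁ → Pr S.X₃ → Pr S.X₂) ∧ (Pr S.X₂ → Pr S.X₃ → Pr S.X₁))
    (hzero : ∀ M : X.Modules, IsZero M → Pr M)
    (h₃ : ∀ (Z : Set X), IsClosed Z → IsIrreducible Z → Z ⊆ Y' → ∀ ξ : X,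
      closure ({ξ} : Set X) = Z → ∃ F : X.Modules, Coh.IsCoh F ∧
      CohB1.support F ⊆ Z ∧
      Module.length (X.presheaf.stalk ξ) (F.presheaf.stalk ξ) = 1 ∧ Pr F)
    (Z : Closeds X) : (Z : Set X) ⊆ Y' → ∀ M : X.Modules, Coh.IsCoh M →
      CohB1.support M ⊆ (Z : Set X) → Pr M := by
  induction Z using WellFoundedLT.induction with
  | ind Z ih =>
    intro hZY M hM hsupp
    by_cases hirr : IsIrreducible (Z : Set X)
    · exact step_irred X Y' Pr hiso h23 Z hZY hirr
        (fun Z' hZ' M hM hs => ih Z' hZ' (le_trans (le_of_lt hZ') hZY) M hM hs)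
        (fun ξ hξ => h₃ _ Z.isClosed hirr hZY ξ hξ) M hM hsupp
    · by_cases hne : (Z : Set X).Nonempty
      · have hpre : ¬ IsPreirreducible (Z : Set X) := fun h => hirr ⟨hne, h⟩
        rw [isPreirreducible_iff_isClosed_union_isClosed] at hpre
        push Not at hpre
        obtain ⟨z₁, z₂, hz₁, hz₂, hsub, hn1, hn2⟩ := hpre
        let Z₁ : Closeds X := Z ⊓ ⟨z₁, hz₁⟩
        let Z₂ : Closeds X := Z ⊓ ⟨z₂, hz₂⟩
        have hZ₁ : Z₁ < Z := by
          refine lt_of_le_of_ne inf_le_left (fun h => hn1 ?_)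
          intro x hx
          have hx' : x ∈ (Z₁ : Set X) := by rw [h]; exact hx
          exact hx'.2
        have hZ₂ : Z₂ < Z := by
          refine lt_of_le_of_ne inf_le_left (fun h => hn2 ?_)
          intro x hx
          have hx' : x ∈ (Z₂ : Set X) := by rw [h]; exact hx
          exact hx'.2
        have hcov : CohB1.support M ⊆ (Z₁ : Set X) ∪ (Z₂ : Set X) := by
          intro x hx
          have hxZ := hsupp hx
          rcases hsub hxZ with h | h
          · exact Or.inl ⟨hxZ, h⟩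
          · exact Or.inr ⟨hxZ, h⟩
        obtain ⟨S, hS, ⟨e⟩, c1, c3, s1, s3⟩ := exists_split_support M hM Z₁ Z₂ hcov
        have hZ₁Y : (Z₁ : Set X) ⊆ Y' := fun x hx => hZY hx.1
        have hZ₂Y : (Z₂ : Set X) ⊆ Y' := fun x hx => hZY hx.1
        have c2 : Coh.IsCoh S.X₂ := isCoh_of_iso e.symm hM
        have hs2 : CohB1.support S.X₂ ⊆ Y' := by
          have := (ObjectProperty.prop_of_iso (PS X Y') e.symm ⟨hM, hsupp.trans hZY⟩)
          exact this.2
        exact hiso _ _ ⟨e⟩ ((h23 S hS c1 c2 c3 hs2).2.1 (ih Z₂ hZ₂ hZ₂Y _ c1 s1)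
          (ih Z₁ hZ₁ hZ₁Y _ c3 s3))
      · rw [Set.not_nonempty_iff_eq_empty] at hne
        have : CohB1.support M = ∅ := by
          rw [← Set.subset_empty_iff, ← hne]; exact hsupp
        exact hzero M (isZero_of_support_eq_empty M this)

end Dev

end Groth.Agent.Helper2.KD2
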