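import Groth.Agent.Helper2.KD2
import Groth.Agent.Helper4.StalkExact
import Groth.Agent.Helper4.EpiStalk
import Groth.Agent.Helper4.FTLocal

set_option autoImplicit false

namespace Groth.Agent.Helper2.KD3

open CategoryTheory CategoryTheory.Limits AlgebraicGeometry TopologicalSpace
open Groth.Agent.Helper4 Groth.Agent.Helper2.CohQ1 Groth.Agent.Helper2.KZ1
open Groth.Agent.Helper4.StalkDict Groth.Agent.Helper2.KD1 Groth.Agent.Helper2.KD2
open Classical

universe u

variable (X : Scheme.{u})

/-- length of the stalk -/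
noncomputable def len (F : X.Modules) (x : X) : ℕ∞ :=
  Module.length (X.presheaf.stalk x) (F.presheaf.stalk x)

variable {X}

theorem len_shortExact (S : ShortComplex X.Modules) (hS : S.ShortExact) (x : X) :
    len X S.X₂ x = len X S.X₁ x + len X S.X₃ x := by
  haveI := hS.mono_f
  haveI := hS.epi_g
  exact Module.length_eq_add_of_exact (stalkLin S.f x) (stalkLin S.g x)
    (StalkExact.stalkLin_injective S.f x) (EpiStalk.stalkLin_surjective_of_epi S.g x)
    (StalkExact.stalkLin_exact S hS.exact x)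

theorem len_iso {M N : X.Modules} (e : M ≅ N) (x : X) : len X M x = len X N x :=
  (LinearEquiv.ofBijective (stalkLin e.hom x)
    ⟨StalkExact.stalkLin_injective e.hom x, EpiStalk.stalkLin_surjective_of_epi e.hom x⟩).length_eq

theorem len_of_notMem {M : X.Modules} {x : X} (h : x ∉ CohB1.support M) : len X M x = 0 := by
  have : Subsingleton (M.presheaf.stalk x) := by
    by_contra hcon
    exact h hcon
  exact Module.length_eq_zero

theorem len_zero {M : X.Modules} (h : IsZero M) (x : X) : len X M x = 0 := by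
  haveI := FTLocal.subsingleton_stalk_of_isZero M h x
  exact Module.length_eq_zero

section Pred

variable (X) (n : ℕ)

/-- the points whose closure has dimension `n` -/
def T (x : X) : Prop := topologicalKrullDim ↥(closure ({x} : Set X)) = n

/-- the subgroup generated by classes of modules with support of dimension `< n` -/
noncomputable def Filt : AddSubgroup (KZero.K0sub (Co X)) :=
  AddSubgroup.closure {c : KZero.K0sub (Co X) |
    ∃ G : X.Modules, Coh.IsCoh G ∧ topologicalKrullDim ↥(CohB1.support G) < n ∧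
      c = KZero.clSub (Co X) G}

/-- the summand at a point -/
noncomputable def fn (F : X.Modules) (x : X) : KZero.K0sub (Co X) :=
  if T X n x then (len X F x).toNat • KZero.clSub (Co X) (css x) else 0

/-- the predicate -/
def Pr (F : X.Modules) : Prop :=
  (∀ x, T X n x → len X F x ≠ ⊤) ∧ (Function.support (fn X n F)).Finite ∧
    KZero.clSub (Co X) F - finsum (fn X n F) ∈ Filt X n

variable {X n}

theorem fn_add {A B C : X.Modules} (h : ∀ x, len X B x = len X A x + len X C x)
    (hA : ∀ x, T X n x → len X A x ≠ ⊤) (hC : ∀ x, T X n x → len X C x ≠ ⊤) :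
    fn X n B = fn X n A + fn X n C := by
  funext x
  unfold fn
  by_cases hx : T X n x
  · simp only [if_pos hx, Pi.add_apply]
    rw [h x, ENat.toNat_add (hA x hx) (hC x hx), add_smul]
  · simp only [if_neg hx, Pi.add_apply, add_zero]

theorem fn_congr {A B : X.Modules} (h : ∀ x, len X A x = len X B x) : fn X n A = fn X n B := by
  funext x
  unfold fn
  rw [h x]

theorem pr_iso {M N : X.Modules} (e : M ≅ N) (hM : Coh.IsCoh M) (h : Pr X n M) : Pr X n N := by
  have hN : Coh.IsCoh N := isCoh_of_iso e hM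
  have hfn : fn X n M = fn X n N := fn_congr (fun x => len_iso e x)
  refine ⟨fun x hx => ?_, ?_, ?_⟩
  · rw [← len_iso e x]; exact h.1 x hx
  · rw [← hfn]; exact h.2.1
  · rw [← hfn]
    have : KZero.clSub (Co X) N = KZero.clSub (Co X) M := by
      rw [clSub_eq (Co X) _ hM, clSub_eq (Co X) _ hN]
      exact (cls_iso (Co X) e hM hN).symm
    rw [this]; exact h.2.2

theorem pr_zero {M : X.Modules} (hM : IsZero M) : Pr X n M := by
  have hfn : fn X n M = 0 := by
    funext x
    unfold fn
    rw [len_zero hM x]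
    simp
  refine ⟨fun x _ => ?_, ?_, ?_⟩
  · rw [len_zero hM x]; simp
  · rw [hfn]; simp
  · rw [hfn]
    have h0 : KZero.clSub (Co X) M = 0 := by
      rw [clSub_eq (Co X) _ ((Co X).prop_of_isZero hM)]
      exact cls_zero _ _ hM _
    have : finsum (0 : X → KZero.K0sub (Co X)) = 0 := finsum_zero
    rw [h0, this, sub_zero]
    exact (Filt X n).zero_mem

/-- the key identity, given all finiteness -/
theorem key_identity (S : ShortComplex X.Modules) (hS : S.ShortExact)
    (c1 : Coh.IsCoh S.X₁) (c2 : Coh.IsCoh S.X₂) (c3 : Coh.IsCoh S.X₃)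
    (h1 : ∀ x, T X n x → len X S.X₁ x ≠ ⊤) (h3 : ∀ x, T X n x → len X S.X₃ x ≠ ⊤)
    (f1 : (Function.support (fn X n S.X₁)).Finite) (f3 : (Function.support (fn X n S.X₃)).Finite) :
    KZero.clSub (Co X) S.X₂ - finsum (fn X n S.X₂) =
      (KZero.clSub (Co X) S.X₁ - finsum (fn X n S.X₁)) +
        (KZero.clSub (Co X) S.X₃ - finsum (fn X n S.X₃)) := by
  have hfn : fn X n S.X₂ = fn X n S.X₁ + fn X n S.X₃ :=
    fn_add (fun x => len_shortExact S hS x) h1 h3
  have hsum : finsum (fn X n S.X₂) = finsum (fn X n S.X₁) + finsum (fn X n S.X₃) := by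
    rw [hfn]
    exact finsum_add_distrib f1 f3
  have hcl : KZero.clSub (Co X) S.X₂ = KZero.clSub (Co X) S.X₁ + KZero.clSub (Co X) S.X₃ := by
    rw [clSub_eq (Co X) _ c1, clSub_eq (Co X) _ c2, clSub_eq (Co X) _ c3]
    exact cls_shortExact (Co X) S hS c1 c2 c3
  rw [hsum, hcl]
  abel

theorem pr_23 (S : ShortComplex X.Modules) (hS : S.ShortExact)
    (c1 : Coh.IsCoh S.X₁) (c2 : Coh.IsCoh S.X₂) (c3 : Coh.IsCoh S.X₃) :
    (Pr X n S.X₁ → Pr X n S.X₂ → Pr X n S.X₃) ∧ (Pr X n S.X₁ → Pr X n S.X₃ → Pr X n S.X₂) ∧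
      (Pr X n S.X₂ → Pr X n S.X₃ → Pr X n S.X₁) := by
  have hlen : ∀ x, len X S.X₂ x = len X S.X₁ x + len X S.X₃ x := fun x => len_shortExact S hS x
  refine ⟨fun p1 p2 => ?_, fun p1 p3 => ?_, fun p2 p3 => ?_⟩
  · have h3 : ∀ x, T X n x → len X S.X₃ x ≠ ⊤ := by
      intro x hx htop
      apply p2.1 x hx
      rw [hlen x, htop, add_top]
    have hfn : fn X n S.X₂ = fn X n S.X₁ + fn X n S.X₃ := fn_add hlen p1.1 h3
    have f3 : (Function.support (fn X n S.X₃)).Finite := by
      refine (p2.2.1.union p1.2.1).subset ?_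
      intro x hx
      by_contra hcon
      rw [Set.mem_union, not_or, Function.notMem_support, Function.notMem_support] at hcon
      apply hx
      have := congrFun hfn x
      rw [Pi.add_apply, hcon.1, hcon.2, zero_add] at this
      exact this.symm
    refine ⟨h3, f3, ?_⟩
    have key := key_identity S hS c1 c2 c3 p1.1 h3 p1.2.1 f3
    have : KZero.clSub (Co X) S.X₃ - finsum (fn X n S.X₃) =
        (KZero.clSub (Co X) S.X₂ - finsum (fn X n S.X₂)) -
          (KZero.clSub (Co X) S.X₁ - finsum (fn X n S.X₁)) := by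
      rw [key]; abel
    rw [this]
    exact (Filt X n).sub_mem p2.2.2 p1.2.2
  · have h2 : ∀ x, T X n x → len X S.X₂ x ≠ ⊤ := by
      intro x hx
      rw [hlen x]
      exact WithTop.add_ne_top.2 ⟨p1.1 x hx, p3.1 x hx⟩
    have hfn : fn X n S.X₂ = fn X n S.X₁ + fn X n S.X₃ := fn_add hlen p1.1 p3.1
    have f2 : (Function.support (fn X n S.X₂)).Finite := by
      rw [hfn]
      exact (p1.2.1.union p3.2.1).subset (Function.support_add _ _)
    refine ⟨h2, f2, ?_⟩
    rw [key_identity S hS c1 c2 c3 p1.1 p3.1 p1.2.1 p3.2.1]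
    exact (Filt X n).add_mem p1.2.2 p3.2.2
  · have h1 : ∀ x, T X n x → len X S.X₁ x ≠ ⊤ := by
      intro x hx htop
      apply p2.1 x hx
      rw [hlen x, htop, top_add]
    have hfn : fn X n S.X₂ = fn X n S.X₁ + fn X n S.X₃ := fn_add hlen h1 p3.1
    have f1 : (Function.support (fn X n S.X₁)).Finite := by
      refine (p2.2.1.union p3.2.1).subset ?_
      intro x hx
      by_contra hcon
      rw [Set.mem_union, not_or, Function.notMem_support, Function.notMem_support] at hcon
      apply hx
      have := congrFun hfn x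
      rw [Pi.add_apply, hcon.1, hcon.2, add_zero] at this
      exact this.symm
    refine ⟨h1, f1, ?_⟩
    have key := key_identity S hS c1 c2 c3 h1 p3.1 f1 p3.2.1
    have : KZero.clSub (Co X) S.X₁ - finsum (fn X n S.X₁) =
        (KZero.clSub (Co X) S.X₂ - finsum (fn X n S.X₂)) -
          (KZero.clSub (Co X) S.X₃ - finsum (fn X n S.X₃)) := by
      rw [key]; abel
    rw [this]
    exact (Filt X n).sub_mem p2.2.2 p3.2.2

theorem len_css_of_ne (ξ x : X) (hx : T X n x)
    (hξ : topologicalKrullDim ↥(closure ({ξ} : Set X)) ≤ n) (hne : x ≠ ξ) :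
    len X (css ξ) x = 0 := by
  apply len_of_notMem
  intro hmem
  have hxc : x ∈ closure ({ξ} : Set X) := support_css X ξ hmem
  have h1 := dim_closure_succ_le hxc hne
  unfold T at hx
  rw [hx] at h1
  have h2 := h1.trans hξ
  norm_cast at h2
  omega

theorem pr_css [IsNoetherian X] (ξ : X)
    (hξ : topologicalKrullDim ↥(closure ({ξ} : Set X)) ≤ n) : Pr X n (css ξ) := by
  have hlen : ∀ x, T X n x → x ≠ ξ → len X (css ξ) x = 0 :=
    fun x hx hne => len_css_of_ne ξ x hx hξ hne
  have hlenξ : len X (css ξ) ξ = 1 := length_css ξ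
  have hfn : ∀ x, x ≠ ξ → fn X n (css ξ) x = 0 := by
    intro x hx
    unfold fn
    by_cases hT : T X n x
    · rw [if_pos hT, hlen x hT hx]; simp
    · rw [if_neg hT]
  refine ⟨?_, ?_, ?_⟩
  · intro x hx
    by_cases h : x = ξ
    · subst h; rw [hlenξ]; simp
    · rw [hlen x hx h]; simp
  · refine (Set.finite_singleton ξ).subset ?_
    intro x hx
    by_contra hne
    exact hx (hfn x hne)
  · rw [finsum_eq_single _ ξ hfn]
    unfold fn
    by_cases hT : T X n ξ
    · rw [if_pos hT, hlenξ]
      simp only [ENat.toNat_one, one_smul, sub_self]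
      exact (Filt X n).zero_mem
    · rw [if_neg hT, sub_zero]
      refine AddSubgroup.subset_closure ⟨css ξ, isCoh_css X ξ, ?_, rfl⟩
      exact lt_of_le_of_lt (dim_mono X (support_css X ξ)) (lt_of_le_of_ne hξ hT)

theorem main [IsNoetherian X] (F : X.Modules) (hF : Coh.IsCoh F)
    (hsupp : topologicalKrullDim ↥(CohB1.support F) ≤ n) : Pr X n F := by
  have hcl : IsClosed (CohB1.support F) := Groth.Agent.S0020.result X F hF.2
  refine dev_pred X (CohB1.support F) (fun M => Coh.IsCoh M → Pr X n M) ?_ ?_ ?_ ?_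
    ⟨_, hcl⟩ le_rfl F hF le_rfl hF
  · rintro M N ⟨e⟩ h hN
    have hM : Coh.IsCoh M := isCoh_of_iso e.symm hN
    exact pr_iso e hM (h hM)
  · intro S hS c1 c2 c3 _
    obtain ⟨a, b, c⟩ := pr_23 (n := n) S hS c1 c2 c3
    exact ⟨fun p1 p2 _ => a (p1 c1) (p2 c2), fun p1 p3 _ => b (p1 c1) (p3 c3),
      fun p2 p3 _ => c (p2 c2) (p3 c3)⟩
  · intro M hM _
    exact pr_zero hM
  · intro Z hZ hirr hZY ξ hξ
    refine ⟨css ξ, isCoh_css X ξ, ?_, length_css ξ, fun _ => pr_css ξ ?_⟩
    · rw [← hξ]; exact support_css X ξ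
    · rw [hξ]; exact (dim_mono X hZY).trans hsupp

end Pred

end Groth.Agent.Helper2.KD3
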