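import Groth.Agent.Helper2.KD3
import Groth.Agent.Lead.QcohTensor
import Groth.Agent.Helper4.FinLocFree7
import Groth.Agent.Lead.PerfLib5

set_option autoImplicit false

namespace Groth.Agent.Helper2.KD4

open CategoryTheory CategoryTheory.Limits AlgebraicGeometry TopologicalSpace TensorProduct
open Groth.Agent.Helper4 Groth.Agent.Helper2.CohQ1 Groth.Agent.Helper2.KZ1
open Groth.Agent.Helper4.StalkDict Groth.Agent.Helper2.KD1 Groth.Agent.Helper2.KD2
open Groth.Agent.Helper2.KD3 Groth.Agent.Lead.QcohTensor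
open Classical

universe u

variable {X : Scheme.{u}}

set_option backward.isDefEq.respectTransparency false in
theorem len_tensor_of_basis {U : X.Opens} (hU : IsAffineOpen U) (E F : X.Modules)
    [E.IsQuasicoherent] [F.IsQuasicoherent] {e : ℕ}
    (b : Module.Basis (Fin e) Γ(X, U) Γ(E, U)) (x : X) (hx : x ∈ U) :
    len X (CohB1.tensorMod E F) x = e * len X F x := by
  haveI := isQuasicoherent_tensorMod E F
  letI := sectionModStalk F x hx
  letI := sectionModStalk (CohB1.tensorMod E F) x hx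
  letI := X.presheaf.algebra_section_stalk ⟨x, hx⟩
  haveI := hU.isLocalization_stalk ⟨x, hx⟩
  haveI := isLocalizedModule_germ hU F x hx
  haveI := isLocalizedModule_germ hU (CohB1.tensorMod E F) x hx
  haveI : IsScalarTower Γ(X, U) (X.presheaf.stalk x) (F.presheaf.stalk x) :=
    IsScalarTower.of_algebraMap_smul (fun r m => rfl)
  haveI : IsScalarTower Γ(X, U) (X.presheaf.stalk x) ((CohB1.tensorMod E F).presheaf.stalk x) :=
    IsScalarTower.of_algebraMap_smul (fun r m => rfl)
  let c : Γ(CohB1.tensorMod E F, U) ≃ₗ[Γ(X, U)] (Fin e →₀ Γ(F, U)) :=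
    sectionsTensorEquiv E F hU ≪≫ₗ TensorProduct.congr b.repr (LinearEquiv.refl _ _) ≪≫ₗ
      TensorProduct.finsuppScalarLeft _ _ _
  haveI : IsLocalizedModule (hU.primeIdealOf ⟨x, hx⟩).asIdeal.primeCompl
      ((germLin (CohB1.tensorMod E F) x hx) ∘ₗ c.symm.toLinearMap) :=
    IsLocalizedModule.of_linearEquiv_right _ _ _
  let eq : (CohB1.tensorMod E F).presheaf.stalk x ≃ₗ[Γ(X, U)] (Fin e →₀ F.presheaf.stalk x) :=
    IsLocalizedModule.linearEquiv (hU.primeIdealOf ⟨x, hx⟩).asIdeal.primeCompl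
      ((germLin (CohB1.tensorMod E F) x hx) ∘ₗ c.symm.toLinearMap)
      (Finsupp.mapRange.linearMap (germLin F x hx))
  let eq' := eq.extendScalarsOfIsLocalization (hU.primeIdealOf ⟨x, hx⟩).asIdeal.primeCompl
    (X.presheaf.stalk x)
  unfold len
  rw [eq'.length_eq, Module.length_finsupp]
  simp

theorem len_tensor (E F : X.Modules) (e : ℕ) (hE : FlatMod.IsFinLocFreeOfRank e E)
    [F.IsQuasicoherent] (x : X) : len X (CohB1.tensorMod E F) x = e * len X F x := by
  have hE' := FinLocFree7.isFinLocFree_of_rank E hE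
  haveI : E.IsQuasicoherent := FinLocFree4.isQuasicoherent_of_isFinLocFree E hE'
  obtain ⟨V, hxV, hV⟩ := hE x
  obtain ⟨U, hU, hxU, -, ⟨b⟩⟩ := FinLocFree2.exists_affine_basis_of_isFreeAlong E hV x hxV
  exact len_tensor_of_basis hU E F b x hxU

theorem main [IsNoetherian X] (E : X.Modules) (e : ℕ) (hE : FlatMod.IsFinLocFreeOfRank e E)
    (F : X.Modules) (hF : Coh.IsCoh F) (r : ℕ)
    (hr : topologicalKrullDim ↥(CohB1.support F) ≤ r) :
    KZero.clSub (Co X) (CohB1.tensorMod E F) - e • KZero.clSub (Co X) F ∈ Filt X r := by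
  haveI : F.IsQuasicoherent := hF.1
  have hE' := FinLocFree7.isFinLocFree_of_rank E hE
  have hEc : Coh.IsCoh E := Groth.Agent.Lead.PerfLib.isCoh_of_isFinLocFree hE'
  haveI : E.IsQuasicoherent := hEc.1
  have hG : Coh.IsCoh (CohB1.tensorMod E F) :=
    ⟨isQuasicoherent_tensorMod E F, isFT_tensorMod E F hEc.2 hF.2⟩
  have hsupp : CohB1.support (CohB1.tensorMod E F) ⊆ CohB1.support F := by
    rw [support_tensorMod E F hEc.2 hF.2]; exact Set.inter_subset_right
  have hdim : topologicalKrullDim ↥(CohB1.support (CohB1.tensorMod E F)) ≤ r :=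
    (dim_mono X hsupp).trans hr
  have p1 := KD3.main (n := r) (CohB1.tensorMod E F) hG hdim
  have p2 := KD3.main (n := r) F hF hr
  have hfn : fn X r (CohB1.tensorMod E F) = fun x => e • fn X r F x := by
    funext x
    unfold fn
    by_cases hT : T X r x
    · rw [if_pos hT, if_pos hT, len_tensor E F e hE x, ENat.toNat_mul, smul_smul]
      simp
    · rw [if_neg hT, if_neg hT, smul_zero]
  have hsum : finsum (fn X r (CohB1.tensorMod E F)) = e • finsum (fn X r F) := by
    rw [hfn]
    exact ((nsmulAddMonoidHom (α := KZero.K0sub (Co X)) e).map_finsum p2.2.1).symm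
  have : KZero.clSub (Co X) (CohB1.tensorMod E F) - e • KZero.clSub (Co X) F =
      (KZero.clSub (Co X) (CohB1.tensorMod E F) - finsum (fn X r (CohB1.tensorMod E F))) -
        e • (KZero.clSub (Co X) F - finsum (fn X r F)) := by
    rw [hsum, smul_sub]; abel
  rw [this]
  exact (Filt X r).sub_mem p1.2.2 ((Filt X r).nsmul_mem p2.2.2 e)

end Groth.Agent.Helper2.KD4
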