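import Groth.Agent.Helper2.KD3
import Groth.Agent.Helper4.FinLocFree2
import Groth.Prelude.Def_SGA6

set_option autoImplicit false

namespace Groth.Agent.Helper2.KD5

open CategoryTheory CategoryTheory.Limits AlgebraicGeometry TopologicalSpace
open Groth.Agent.Helper4 Groth.Agent.Helper2.CohQ1 Groth.Agent.Helper2.KZ1
open Groth.Agent.Helper4.StalkDict Groth.Agent.Helper2.KD1 Groth.Agent.Helper2.KD2
open Groth.Agent.Helper2.KD3
open Classical

universe u

variable {X : Scheme.{u}}

/-- points with zero-dimensional local ring are maximal for generization -/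
theorem eq_of_mem_closure_of_dim_zero {x ξ : X} (hx : ringKrullDim (X.presheaf.stalk x) = 0)
    (h : x ∈ closure ({ξ} : Set X)) : x = ξ := by
  rw [ringKrullDim_stalk_eq_coheight] at hx
  have h0 : Order.coheight x = 0 := by exact_mod_cast hx
  rw [Order.coheight_eq_zero] at h0
  have h1 : ξ ⤳ x := specializes_iff_mem_closure.2 h
  have h2 : x ≤ ξ := h1
  have h3 : ξ ≤ x := h0 h2
  have h4 : x ⤳ ξ := h3
  exact (h4.antisymm h1).eq

/-- the whole K-group of coherent modules is generated by the classes of integral subschemes -/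
theorem generated [IsNoetherian X] :
    AddSubgroup.closure (Set.range fun x : X => KZero.clSub (Co X) (css x)) = ⊤ := by
  have hmain := KZ10.main X Set.univ isClosed_univ (fun a : X => css a)
    (fun a => ⟨isCoh_css X a, Set.subset_univ _⟩) (by
      intro Z hZ hirr hZY y hy
      refine ⟨y, ?_, length_css y⟩
      rw [← hy]
      exact support_css X y)
  have hle : KZ7.PS X Set.univ ≤ Co X := fun M hM => hM.1
  rw [eq_top_iff]
  rintro c -
  induction c using QuotientAddGroup.induction_on with
  | H z =>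
    induction z using FreeAbelianGroup.induction_on with
    | zero => exact AddSubgroup.zero_mem _
    | of M =>
      obtain ⟨M, hM⟩ := M
      have hmem : KZero.clSub (KZ7.PS X Set.univ) M ∈ AddSubgroup.closure (Set.range
          fun a : X => KZero.clSub (KZ7.PS X Set.univ) (css a)) := by
        rw [hmain]; trivial
      have := AddSubgroup.mem_map_of_mem (mapLE hle) hmem
      rw [mapLE_clSub hle M ⟨hM, Set.subset_univ _⟩, AddMonoidHom.map_closure] at this
      have h2 : (QuotientAddGroup.mk (FreeAbelianGroup.of (⟨M, hM⟩ : Subtype (Co X))) :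
          KZero.K0sub (Co X)) = KZero.clSub (Co X) M := (clSub_eq (Co X) M hM).symm
      show (QuotientAddGroup.mk (FreeAbelianGroup.of (⟨M, hM⟩ : Subtype (Co X))) :
          KZero.K0sub (Co X)) ∈ _
      rw [h2]
      refine AddSubgroup.closure_mono ?_ this
      rintro _ ⟨_, ⟨a, rfl⟩, rfl⟩
      exact ⟨a, (mapLE_clSub hle _ ⟨isCoh_css X a, Set.subset_univ _⟩).symm⟩
    | neg M ih => exact AddSubgroup.neg_mem _ ih
    | add x y hx hy => exact AddSubgroup.add_mem _ hx hy

variable (X) in
/-- the points with zero-dimensional local ring -/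
abbrev Gen : Type u := {x : X // ringKrullDim (X.presheaf.stalk x) = 0}

theorem closure_mem_irreducibleComponents (x : Gen X) :
    closure ({x.1} : Set X) ∈ irreducibleComponents X := by
  refine ⟨isIrreducible_singleton.closure, fun t ht hle => ?_⟩
  obtain ⟨ξ, hξ⟩ := QuasiSober.sober ht.closure isClosed_closure
  have hξ' : closure ({ξ} : Set X) = closure t := hξ.def
  have hx : x.1 ∈ closure ({ξ} : Set X) := by
    rw [hξ']
    exact subset_closure (hle (subset_closure rfl))
  have := eq_of_mem_closure_of_dim_zero x.2 hx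
  rw [this, hξ']
  exact subset_closure

instance finite_gen [IsNoetherian X] : Finite (Gen X) := by
  haveI : Finite ↥(irreducibleComponents X) :=
    (finite_irreducibleComponents_of_isNoetherian (X := X)).to_subtype
  refine Finite.of_injective (fun x : Gen X => (⟨closure ({x.1} : Set X),
    closure_mem_irreducibleComponents x⟩ : ↥(irreducibleComponents X))) ?_
  intro x y hxy
  have h : closure ({x.1} : Set X) = closure ({y.1} : Set X) := congrArg Subtype.val hxy
  have hx : x.1 ∈ closure ({y.1} : Set X) := by rw [← h]; exact subset_closure rfl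
  exact Subtype.ext (eq_of_mem_closure_of_dim_zero x.2 hx)

theorem len_ne_top [IsLocallyNoetherian X] (F : X.Modules) (hF : Coh.IsCoh F) (x : Gen X) :
    len X F x.1 ≠ ⊤ := by
  haveI : F.IsQuasicoherent := hF.1
  haveI := FinLocFree2.finite_stalk F hF.2 x.1
  haveI : IsNoetherianRing (X.presheaf.stalk x.1) := inferInstance
  haveI : Ring.KrullDimLE 0 (X.presheaf.stalk x.1) := by
    rw [Ring.krullDimLE_iff]; exact x.2.le
  haveI : IsArtinianRing (X.presheaf.stalk x.1) :=
    IsNoetherianRing.isArtinianRing_of_krullDimLE_zero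
  exact Module.length_ne_top

theorem not_dim_zero_of_one_le {x : X} (h : (1 : WithBot ℕ∞) ≤ ringKrullDim (X.presheaf.stalk x)) :
    ¬ ringKrullDim (X.presheaf.stalk x) = 0 := by
  intro h0
  rw [h0] at h
  exact absurd h (by decide)

theorem one_le_of_not_dim_zero {x : X} (h : ¬ ringKrullDim (X.presheaf.stalk x) = 0) :
    (1 : WithBot ℕ∞) ≤ ringKrullDim (X.presheaf.stalk x) := by
  rw [ringKrullDim_stalk_eq_coheight] at h ⊢
  have h1 : Order.coheight x ≠ 0 := fun h0 => h (by rw [h0]; rfl)
  have h2 : 1 ≤ Order.coheight x := Order.one_le_iff_ne_zero.2 h1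
  exact_mod_cast h2

section Rk

variable [IsNoetherian X]

variable (X) in
/-- the length function on the free group -/
noncomputable def rk₀ : FreeAbelianGroup (Subtype (Co X)) →+ (Gen X → ℤ) :=
  FreeAbelianGroup.lift (fun M => fun x => ((len X M.1 x.1).toNat : ℤ))

theorem rk₀_rel : KZero.relSub (Co X) ≤ (rk₀ X).ker := by
  unfold KZero.relSub
  rw [AddSubgroup.closure_le]
  rintro _ ⟨S, h₁, h₂, h₃, hS, rfl⟩
  rw [SetLike.mem_coe, AddMonoidHom.mem_ker, map_sub, map_sub]
  unfold rk₀
  rw [FreeAbelianGroup.lift_apply_of, FreeAbelianGroup.lift_apply_of, FreeAbelianGroup.lift_apply_of]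
  funext x
  simp only [Pi.sub_apply, Pi.zero_apply]
  rw [len_shortExact S hS x.1, ENat.toNat_add (len_ne_top _ h₁ x) (len_ne_top _ h₃ x)]
  push_cast
  ring

variable (X) in
/-- the rank homomorphism -/
noncomputable def rk : KZero.K0sub (Co X) →+ (Gen X → ℤ) :=
  QuotientAddGroup.lift _ (rk₀ X) rk₀_rel

theorem rk_clSub (F : X.Modules) (hF : Coh.IsCoh F) :
    rk X (KZero.clSub (Co X) F) = fun x => ((len X F x.1).toNat : ℤ) := by
  rw [clSub_eq (Co X) F hF]
  unfold cls rk rk₀
  rw [QuotientAddGroup.lift_mk, FreeAbelianGroup.lift_apply_of]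

variable (X) in
/-- the first step of the coniveau filtration -/
noncomputable def Filt1 : AddSubgroup (KZero.K0sub (Co X)) :=
  AddSubgroup.closure {c : KZero.K0sub (Co X) | ∃ F : X.Modules, Coh.IsCoh F ∧
    (∀ x ∈ CohB1.support F, (1 : WithBot ℕ∞) ≤ ringKrullDim (X.presheaf.stalk x)) ∧
    c = KZero.clSub (Co X) F}

section Part2

variable (r : KZero.K0sub (Co X) →+ (Gen X → ℤ))
  (hr : ∀ F : X.Modules, Coh.IsCoh F →
    r (KZero.clSub (Co X) F) = fun x => ((len X F x.1).toNat : ℤ))

include hr

theorem r_css_gen (x : Gen X) : r (KZero.clSub (Co X) (css x.1)) = Pi.single x 1 := by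
  rw [hr _ (isCoh_css X x.1)]
  funext y
  by_cases hy : y = x
  · subst hy
    rw [Pi.single_eq_same]
    have : len X (css y.1) y.1 = 1 := length_css y.1
    rw [this]; rfl
  · rw [Pi.single_eq_of_ne hy]
    have hnot : y.1 ∉ CohB1.support (css x.1) := by
      intro hmem
      have := eq_of_mem_closure_of_dim_zero y.2 (support_css X x.1 hmem)
      exact hy (Subtype.ext this)
    rw [len_of_notMem hnot]; rfl

theorem r_css_not_gen (ξ : X) (hξ : ¬ ringKrullDim (X.presheaf.stalk ξ) = 0) :
    r (KZero.clSub (Co X) (css ξ)) = 0 := by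
  rw [hr _ (isCoh_css X ξ)]
  funext y
  have hnot : y.1 ∉ CohB1.support (css ξ) := by
    intro hmem
    have := eq_of_mem_closure_of_dim_zero y.2 (support_css X ξ hmem)
    rw [← this] at hξ
    exact hξ y.2
  rw [len_of_notMem hnot]; rfl

theorem r_surjective : Function.Surjective r := by
  haveI := Fintype.ofFinite (Gen X)
  intro g
  refine ⟨∑ x : Gen X, g x • KZero.clSub (Co X) (css x.1), ?_⟩
  rw [map_sum]
  funext y
  rw [Finset.sum_apply]
  simp only [map_zsmul, r_css_gen r hr, Pi.smul_apply, Pi.single_apply, smul_eq_mul, mul_ite,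
    mul_one, mul_zero]
  rw [Finset.sum_ite_eq]
  simp

theorem sub_sum_mem [Fintype (Gen X)] (c : KZero.K0sub (Co X)) :
    c - ∑ x : Gen X, r c x • KZero.clSub (Co X) (css x.1) ∈ Filt1 X := by
  have hc : c ∈ AddSubgroup.closure (Set.range fun x : X => KZero.clSub (Co X) (css x)) := by
    rw [generated]; trivial
  induction hc using AddSubgroup.closure_induction with
  | mem c hc =>
    obtain ⟨ξ, rfl⟩ := hc
    by_cases hξ : ringKrullDim (X.presheaf.stalk ξ) = 0
    · have := r_css_gen r hr ⟨ξ, hξ⟩
      simp only at this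
      rw [this]
      simp only [Pi.single_apply, ite_smul, one_smul, zero_smul]
      rw [Finset.sum_ite_eq' Finset.univ (⟨ξ, hξ⟩ : Gen X)
        (fun x : Gen X => KZero.clSub (Co X) (css x.1))]
      simp only [Finset.mem_univ, if_true, sub_self]
      exact (Filt1 X).zero_mem
    · rw [r_css_not_gen r hr ξ hξ]
      simp only [Pi.zero_apply, zero_smul, Finset.sum_const_zero, sub_zero]
      refine AddSubgroup.subset_closure ⟨css ξ, isCoh_css X ξ, ?_, rfl⟩
      intro y hy
      apply one_le_of_not_dim_zero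
      intro hy0
      have := eq_of_mem_closure_of_dim_zero hy0 (support_css X ξ hy)
      rw [this] at hy0
      exact hξ hy0
  | zero =>
    simp only [map_zero, Pi.zero_apply, zero_smul, Finset.sum_const_zero, sub_zero]
    exact (Filt1 X).zero_mem
  | add a b _ _ ha hb =>
    have : a + b - ∑ x : Gen X, r (a + b) x • KZero.clSub (Co X) (css x.1) =
        (a - ∑ x : Gen X, r a x • KZero.clSub (Co X) (css x.1)) +
          (b - ∑ x : Gen X, r b x • KZero.clSub (Co X) (css x.1)) := by
      simp only [map_add, Pi.add_apply, add_smul, Finset.sum_add_distrib]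
      abel
    rw [this]
    exact (Filt1 X).add_mem ha hb
  | neg a _ ha =>
    have : -a - ∑ x : Gen X, r (-a) x • KZero.clSub (Co X) (css x.1) =
        -(a - ∑ x : Gen X, r a x • KZero.clSub (Co X) (css x.1)) := by
      simp only [map_neg, Pi.neg_apply, neg_smul, Finset.sum_neg_distrib]
      abel
    rw [this]
    exact (Filt1 X).neg_mem ha

theorem r_ker : r.ker = Filt1 X := by
  haveI := Fintype.ofFinite (Gen X)
  apply le_antisymm
  · intro c hc
    have h0 : r c = 0 := hc
    have := sub_sum_mem r hr c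
    rw [h0] at this
    simpa using this
  · unfold Filt1
    rw [AddSubgroup.closure_le]
    rintro _ ⟨F, hF, hsupp, rfl⟩
    rw [SetLike.mem_coe, AddMonoidHom.mem_ker, hr F hF]
    funext x
    have hnot : x.1 ∉ CohB1.support F := fun hmem => not_dim_zero_of_one_le (hsupp x.1 hmem) x.2
    rw [len_of_notMem hnot]; rfl

end Part2

theorem main :
    (∃ rk : SGA6.Kcoh X →+ ({x : X // ringKrullDim (X.presheaf.stalk x) = 0} → ℤ),
        ∀ F : X.Modules, Coh.IsCoh F →
          rk (KZero.clSub (fun M : X.Modules => Coh.IsCoh M) F) =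
            fun x => ((Module.length (X.presheaf.stalk x.1) (F.presheaf.stalk x.1)).toNat : ℤ)) ∧
    ∀ rk : SGA6.Kcoh X →+ ({x : X // ringKrullDim (X.presheaf.stalk x) = 0} → ℤ),
      (∀ F : X.Modules, Coh.IsCoh F →
          rk (KZero.clSub (fun M : X.Modules => Coh.IsCoh M) F) =
            fun x => ((Module.length (X.presheaf.stalk x.1) (F.presheaf.stalk x.1)).toNat : ℤ)) →
        Function.Surjective rk ∧
          rk.ker = AddSubgroup.closure {c : SGA6.Kcoh X | ∃ F : X.Modules, Coh.IsCoh F ∧
            (∀ x ∈ CohB1.support F, (1 : WithBot ℕ∞) ≤ ringKrullDim (X.presheaf.stalk x)) ∧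
            c = KZero.clSub (fun M : X.Modules => Coh.IsCoh M) F} :=
  ⟨⟨rk X, fun F hF => rk_clSub F hF⟩, fun r hr => ⟨r_surjective r hr, r_ker r hr⟩⟩

end Rk

end Groth.Agent.Helper2.KD5
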