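import Groth.Prelude.Def_KZero
import Mathlib

set_option autoImplicit false

namespace Groth.Agent.Helper2.KP0

open CategoryTheory CategoryTheory.Limits CategoryTheory.Pretriangulated

universe v u

variable {D : Type u} [Category.{v} D] [Preadditive D] [HasZeroObject D] [HasShift D ℤ]
  [∀ n : ℤ, (shiftFunctor D n).Additive] [Pretriangulated D] (Q : ObjectProperty D)

/-- class in `K0tr` -/
noncomputable def clq (K : D) (h : Q K) : KZero.K0tr Q :=
  QuotientAddGroup.mk (FreeAbelianGroup.of ⟨K, h⟩)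

lemma clTr_eq (K : D) (h : Q K) : KZero.clTr Q K = clq Q K h := by
  unfold KZero.clTr clq
  rw [dif_pos h]

lemma clq_add (T : Triangle D) (hT : T ∈ distTriang _)
    (h₁ : Q T.obj₁) (h₂ : Q T.obj₂) (h₃ : Q T.obj₃) :
    clq Q T.obj₂ h₂ = clq Q T.obj₁ h₁ + clq Q T.obj₃ h₃ := by
  have hmem : FreeAbelianGroup.of (⟨T.obj₂, h₂⟩ : Subtype Q) -
      FreeAbelianGroup.of ⟨T.obj₁, h₁⟩ - FreeAbelianGroup.of ⟨T.obj₃, h₃⟩ ∈ KZero.relTr Q :=
    AddSubgroup.subset_closure ⟨T, h₁, h₂, h₃, hT, rfl⟩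
  have h0 := (QuotientAddGroup.eq_zero_iff _).2 hmem
  rw [QuotientAddGroup.mk_sub, QuotientAddGroup.mk_sub, sub_sub, sub_eq_zero] at h0
  exact h0

lemma clq_zero (K : D) (hK : IsZero K) (h : Q K) : clq Q K h = 0 := by
  have hT : Triangle.mk (0 : K ⟶ K) (0 : K ⟶ K) (0 : K ⟶ K⟦(1 : ℤ)⟧) ∈ distTriang _ := by
    refine isomorphic_distinguished _ (contractible_distinguished K) _
      (Triangle.isoMk _ _ (Iso.refl _) (Iso.refl _) (hK.iso (isZero_zero _))
        (hK.eq_of_src _ _) (hK.eq_of_src _ _) (hK.eq_of_src _ _))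
  have := clq_add Q _ hT h h h
  simpa using this

variable (hz : ∀ Z : D, IsZero Z → Q Z)

include hz in
lemma clq_iso {K L : D} (e : K ≅ L) (hK : Q K) (hL : Q L) : clq Q K hK = clq Q L hL := by
  obtain ⟨Z, g, h, hT⟩ := distinguished_cocone_triangle e.hom
  have hZ : IsZero Z := (Triangle.isZero₃_iff_isIso₁ _ hT).2 (inferInstanceAs (IsIso e.hom))
  have this : clq Q L hL = clq Q K hK + clq Q Z (hz Z hZ) := clq_add Q _ hT hK hL (hz Z hZ)
  rw [this, clq_zero Q Z hZ, add_zero]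

include hz in
open ZeroObject in
lemma clq_shift (K : D) (hK : Q K) (hK' : Q (K⟦(1 : ℤ)⟧)) :
    clq Q (K⟦(1 : ℤ)⟧) hK' = - clq Q K hK := by
  have this : clq Q 0 (hz _ (isZero_zero _)) = clq Q K hK + clq Q (K⟦(1 : ℤ)⟧) hK' :=
    clq_add Q _ (contractible_distinguished₂ K) hK (hz _ (isZero_zero _)) hK'
  rw [clq_zero Q _ (isZero_zero _)] at this
  rw [eq_neg_iff_add_eq_zero, add_comm]
  exact this.symm

end Groth.Agent.Helper2.KP0
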