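import Groth.Agent.Helper2.KZ1

set_option autoImplicit false

namespace Groth.Agent.Helper2.KP1

open CategoryTheory CategoryTheory.Limits
open Groth.Agent.Helper2.KZ1

universe v u

variable {A : Type u} [Category.{v} A] [Abelian A]
  (P : ObjectProperty A) [P.IsClosedUnderIsomorphisms] [P.ContainsZero]

lemma clSub_isZero' (Z : A) (hZ : IsZero Z) : KZero.clSub P Z = 0 := by
  rw [clSub_eq P Z (P.prop_of_isZero hZ), cls_zero P Z hZ]

lemma cls_biprod (X Y : A) (hX : P X) (hY : P Y) (hXY : P (X ⊞ Y)) :
    cls P (X ⊞ Y) hXY = cls P X hX + cls P Y hY :=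
  cls_shortExact P _ (ShortComplex.Splitting.ofHasBinaryBiproduct X Y).shortExact hX hXY hY

/-- termwise Euler characteristic -/
noncomputable def euc (E : CochainComplex A ℤ) : KZero.K0sub P :=
  alt (fun i => KZero.clSub P (E.X i))

/-- boundedness -/
def Bdd (E : CochainComplex A ℤ) : Prop := ∃ a b : ℤ, ∀ i : ℤ, i < a ∨ b < i → IsZero (E.X i)

variable {P}

lemma finite_support_X {E : CochainComplex A ℤ} (hb : Bdd E) :
    (Function.support (fun i => KZero.clSub P (E.X i))).Finite := by
  obtain ⟨a, b, h⟩ := hb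
  refine (Set.finite_Icc a b).subset ?_
  intro i hi
  by_contra hni
  rw [Set.mem_Icc, not_and_or, not_le, not_le] at hni
  exact hi (clSub_isZero' P _ (h i hni))

lemma finite_support_ker {E : CochainComplex A ℤ} (hb : Bdd E) :
    (Function.support (fun i => KZero.clSub P (kernel (E.d i (i + 1))))).Finite := by
  obtain ⟨a, b, h⟩ := hb
  refine (Set.finite_Icc a b).subset ?_
  intro i hi
  by_contra hni
  rw [Set.mem_Icc, not_and_or, not_le, not_le] at hni
  exact hi (clSub_isZero' P _ (IsZero.of_mono (kernel.ι _) (h i hni)))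

variable (hret : ∀ {X Y : A} (i : X ⟶ Y) (r : Y ⟶ X), i ≫ r = 𝟙 X → P Y → P X)

include hret in
/-- the Euler characteristic of a bounded contractible complex vanishes -/
theorem euc_contractible (E : CochainComplex A ℤ) (hP : ∀ i, P (E.X i)) (hb : Bdd E)
    (h : Homotopy (𝟙 E) 0) : euc P E = 0 := by
  have hk : ∀ i : ℤ, P (kernel (E.d i (i + 1))) := by
    intro i
    refine hret (kernel.ι _) (kernel.lift _ (h.hom i (i - 1) ≫ E.d (i - 1) i) (by simp)) ?_ (hP i)
    rw [← cancel_mono (kernel.ι (E.d i (i + 1))), Category.assoc, kernel.lift_ι, Category.id_comp]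
    have hc := h.comm i
    rw [dNext_eq h.hom (show (ComplexShape.up ℤ).Rel i (i + 1) from rfl),
      prevD_eq h.hom (show (ComplexShape.up ℤ).Rel (i - 1) i by simp)] at hc
    simp only [HomologicalComplex.id_f, HomologicalComplex.zero_f, add_zero] at hc
    have := congrArg (fun f => kernel.ι (E.d i (i + 1)) ≫ f) hc
    simp only [Category.comp_id, Preadditive.comp_add, kernel.condition_assoc, zero_comp,
      zero_add] at this
    exact this.symm
  have hex : ∀ i : ℤ, (ShortComplex.mk (E.d i (i + 1)) (E.d (i + 1) (i + 1 + 1))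
      (E.d_comp_d _ _ _)).Exact := by
    intro i
    have hz : IsZero (E.homology (i + 1)) := by
      rw [IsZero.iff_id_eq_zero, ← HomologicalComplex.homologyMap_id, h.homologyMap_eq,
        HomologicalComplex.homologyMap_zero]
    have := (E.exactAt_iff' i (i + 1) (i + 1 + 1) (by simp) (by simp)).1
      ((E.exactAt_iff_isZero_homology (i + 1)).2 hz)
    exact this
  have e1 : ∀ i : ℤ, KZero.clSub P (E.X i) =
      KZero.clSub P (kernel (E.d i (i + 1))) + KZero.clSub P (kernel (E.d (i + 1) (i + 1 + 1))) := by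
    intro i
    rw [clSub_eq P _ (hP i), clSub_eq P _ (hk i), clSub_eq P _ (hk (i + 1))]
    exact cls_exact P _ _ _ (hex i) _ _ _
  unfold euc
  simp only [e1]
  have hf := finite_support_ker (P := P) hb
  have hf' : (Function.support
      (fun i => KZero.clSub P (kernel (E.d (i + 1) (i + 1 + 1))))).Finite := by
    have : Function.support (fun i => KZero.clSub P (kernel (E.d (i + 1) (i + 1 + 1)))) =
        (Equiv.addRight (1 : ℤ)) ⁻¹'
          Function.support (fun i => KZero.clSub P (kernel (E.d i (i + 1)))) := rfl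
    rw [this]
    exact hf.preimage (Equiv.injective _).injOn
  rw [alt_add _ _ hf hf', alt_shift (fun i => KZero.clSub P (kernel (E.d i (i + 1))))]
  abel


variable (hbi : ∀ X Y : A, P X → P Y → P (X ⊞ Y))

include hbi in
/-- Euler characteristic of a mapping cone -/
theorem euc_cone {E1 E2 : CochainComplex A ℤ} (φ : E1 ⟶ E2) (h1 : ∀ i, P (E1.X i))
    (h2 : ∀ i, P (E2.X i)) (b1 : Bdd E1) (b2 : Bdd E2) :
    euc P (CochainComplex.mappingCone φ) = euc P E2 - euc P E1 := by
  have e1 : ∀ i : ℤ, KZero.clSub P ((CochainComplex.mappingCone φ).X i) =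
      KZero.clSub P (E1.X (i + 1)) + KZero.clSub P (E2.X i) := by
    intro i
    have e : (CochainComplex.mappingCone φ).X i ≅ E1.X (i + 1) ⊞ E2.X i :=
      HomologicalComplex.homotopyCofiber.XIsoBiprod φ i (i + 1) rfl
    have hb := hbi _ _ (h1 (i + 1)) (h2 i)
    have hc : P ((CochainComplex.mappingCone φ).X i) := P.prop_of_iso e.symm hb
    rw [clSub_eq P _ hc, clSub_eq P _ (h1 (i + 1)), clSub_eq P _ (h2 i),
      cls_iso P e hc hb]
    exact cls_biprod P _ _ _ _ _
  unfold euc
  simp only [e1]
  have hf1 := finite_support_X (P := P) b1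
  have hf2 := finite_support_X (P := P) b2
  have hf1' : (Function.support (fun i => KZero.clSub P (E1.X (i + 1)))).Finite := by
    have : Function.support (fun i => KZero.clSub P (E1.X (i + 1))) =
        (Equiv.addRight (1 : ℤ)) ⁻¹' Function.support (fun i => KZero.clSub P (E1.X i)) := rfl
    rw [this]
    exact hf1.preimage (Equiv.injective _).injOn
  rw [alt_add _ _ hf1' hf2, alt_shift (fun i => KZero.clSub P (E1.X i))]
  abel

end Groth.Agent.Helper2.KP1
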