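import Groth.Agent.Helper2.KP0
import Groth.Agent.Helper2.KP1
import Groth.Agent.Helper3.DRingPeel2

set_option autoImplicit false

namespace Groth.Agent.Helper2.KP2

open CategoryTheory CategoryTheory.Limits CategoryTheory.Pretriangulated
open Groth.Agent.Helper2.KZ1 Groth.Agent.Helper2.KP0 Groth.Agent.Helper2.KP1
open Groth.Agent.Helper3.DRingLib

universe u

attribute [local instance] HasDerivedCategory.standard

variable (R : Type u) [CommRing R]

/-- finite projective modules -/
abbrev PP : ObjectProperty (ModuleCat.{u} R) :=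
  fun M => Module.Finite R M ∧ Module.Projective R M

/-- perfect objects -/
abbrev QQ : ObjectProperty (Dual.D R) := fun K => DRing.IsPerfect R K

instance : ObjectProperty.IsClosedUnderIsomorphisms (PP R) :=
  ⟨fun {M N} e h => by
    haveI := h.1
    haveI := h.2
    exact ⟨Module.Finite.equiv e.toLinearEquiv, Module.Projective.of_equiv e.toLinearEquiv⟩⟩

theorem pp_of_isZero {M : ModuleCat.{u} R} (hM : IsZero M) : PP R M := by
  haveI : Subsingleton M := ModuleCat.subsingleton_of_isZero hM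
  exact ⟨Module.Finite.of_finite, Module.Projective.of_free⟩

open ZeroObject in
instance : ObjectProperty.ContainsZero (PP R) :=
  ⟨⟨0, isZero_zero _, pp_of_isZero R (isZero_zero _)⟩⟩

theorem pp_retract {X Y : ModuleCat.{u} R} (i : X ⟶ Y) (r : Y ⟶ X) (h : i ≫ r = 𝟙 X)
    (hY : PP R Y) : PP R X := by
  haveI := hY.1
  haveI := hY.2
  have hr : ∀ x, r.hom (i.hom x) = x := fun x => by
    have := congrArg (fun f : X ⟶ X => f.hom x) h
    simpa using this
  exact ⟨Module.Finite.of_surjective r.hom (fun x => ⟨i.hom x, hr x⟩),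
    Module.Projective.of_split i.hom r.hom (LinearMap.ext hr)⟩

theorem pp_biprod (X Y : ModuleCat.{u} R) (hX : PP R X) (hY : PP R Y) : PP R (X ⊞ Y) := by
  haveI := hX.1
  haveI := hX.2
  haveI := hY.1
  haveI := hY.2
  have e := (ModuleCat.biprodIsoProd X Y).toLinearEquiv
  exact ⟨Module.Finite.equiv e.symm, Module.Projective.of_equiv e.symm⟩

/-- strictly perfect complexes -/
structure SP (E : DRing.Cx R) : Prop where
  bdd : Bdd E
  pp : ∀ i, PP R (E.X i)

variable {R}

theorem SP.kproj {E : DRing.Cx R} (h : SP R E) : E.IsKProjective := by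
  obtain ⟨a, b, hb⟩ := h.bdd
  exact isKProjective_of_vanishesAbove E b (fun i hi => hb i (Or.inr hi)) (fun i => (h.pp i).2)

theorem SP.cone {E1 E2 : DRing.Cx R} (φ : E1 ⟶ E2) (h1 : SP R E1) (h2 : SP R E2) :
    SP R (CochainComplex.mappingCone φ) := by
  obtain ⟨a1, b1, hb1⟩ := h1.bdd
  obtain ⟨a2, b2, hb2⟩ := h2.bdd
  refine ⟨⟨min (a1 - 1) a2, max (b1 - 1) b2, ?_⟩, cone_termwiseFiniteProjective φ h1.pp h2.pp⟩
  refine cone_vanishesOutside φ _ _ (fun i hi => hb1 i ?_) (fun i hi => hb2 i ?_)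
  · rcases hi with hi | hi
    · left; have := min_le_left (a1 - 1) a2; omega
    · right; have := le_max_left (b1 - 1) b2; omega
  · rcases hi with hi | hi
    · left; have := min_le_right (a1 - 1) a2; omega
    · right; have := le_max_right (b1 - 1) b2; omega

/-- well-definedness of the Euler characteristic -/
theorem euc_eq_of_iso {E E' : DRing.Cx R} (h : SP R E) (h' : SP R E')
    (e : DRing.toD E ≅ DRing.toD E') : euc (PP R) E = euc (PP R) E' := by
  haveI := h.kproj
  obtain ⟨f, hf⟩ := exists_Q_map_eq E E' e.hom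
  have hc := SP.cone f h h'
  haveI := hc.kproj
  have hT := DerivedCategory.mappingCone_triangle_distinguished f
  have hz : IsZero (DerivedCategory.Q.obj (CochainComplex.mappingCone f)) := by
    refine (Triangle.isZero₃_iff_isIso₁ _ hT).2 ?_
    show IsIso (DerivedCategory.Q.map f)
    rw [hf]; infer_instance
  have hacyc : (CochainComplex.mappingCone f).Acyclic := by
    intro i
    rw [HomologicalComplex.exactAt_iff_isZero_homology]
    exact ((DerivedCategory.homologyFunctor (ModuleCat.{u} R) i).map_isZero hz).of_iso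
      ((DerivedCategory.homologyFunctorFactors (ModuleCat.{u} R) i).app _).symm
  have hom : Homotopy (𝟙 (CochainComplex.mappingCone f)) 0 :=
    CochainComplex.IsKProjective.homotopyZero (𝟙 _) hacyc
  have h0 := euc_contractible (fun i r hir hY => pp_retract R i r hir hY) _ hc.pp hc.bdd hom
  rw [euc_cone (pp_biprod R) f h.pp h'.pp h.bdd h'.bdd] at h0
  exact (sub_eq_zero.1 h0).symm


theorem sp_of_perfect_data {E : DRing.Cx R} {a b : ℤ} (h1 : DRing.VanishesOutside E a b)
    (h2 : DRing.TermwiseFiniteProjective E) : SP R E := ⟨⟨a, b, h1⟩, h2⟩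

variable (R)

/-- a chosen strictly perfect representative -/
noncomputable def rep (K : Dual.D R) (hK : DRing.IsPerfect R K) : DRing.Cx R := hK.choose

theorem rep_sp (K : Dual.D R) (hK : DRing.IsPerfect R K) : SP R (rep R K hK) := by
  obtain ⟨a, b, h1, h2, _⟩ := hK.choose_spec
  exact sp_of_perfect_data h1 h2

noncomputable def repIso (K : Dual.D R) (hK : DRing.IsPerfect R K) :
    DRing.toD (rep R K hK) ≅ K :=
  hK.choose_spec.choose_spec.choose_spec.2.2.some

/-- Euler characteristic of a perfect object -/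
noncomputable def chi0 (K : Subtype (QQ R)) : KZero.K0sub (PP R) :=
  euc (PP R) (rep R K.1 K.2)

theorem chi0_eq (K : Dual.D R) (hK : DRing.IsPerfect R K) (E : DRing.Cx R) (hE : SP R E)
    (e : DRing.toD E ≅ K) : chi0 R ⟨K, hK⟩ = euc (PP R) E :=
  euc_eq_of_iso (rep_sp R K hK) hE (repIso R K hK ≪≫ e.symm)

theorem chi0_add (T : Triangle (Dual.D R)) (hT : T ∈ distTriang _)
    (h₁ : DRing.IsPerfect R T.obj₁) (h₂ : DRing.IsPerfect R T.obj₂)
    (h₃ : DRing.IsPerfect R T.obj₃) :
    chi0 R ⟨T.obj₂, h₂⟩ = chi0 R ⟨T.obj₁, h₁⟩ + chi0 R ⟨T.obj₃, h₃⟩ := by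
  have s1 := rep_sp R _ h₁
  have s2 := rep_sp R _ h₂
  haveI := s1.kproj
  obtain ⟨φ, ⟨e3⟩⟩ := exists_cone_iso T hT (rep R _ h₁) (rep R _ h₂) (repIso R _ h₁)
    (repIso R _ h₂)
  rw [chi0_eq R _ h₃ _ (SP.cone φ s1 s2) e3,
    euc_cone (pp_biprod R) φ s1.pp s2.pp s1.bdd s2.bdd]
  show euc (PP R) (rep R _ h₂) = euc (PP R) (rep R _ h₁) + _
  abel

/-- the Euler characteristic homomorphism -/
noncomputable def chi : KZero.K0tr (QQ R) →+ KZero.K0sub (PP R) :=
  QuotientAddGroup.lift _ (FreeAbelianGroup.lift (chi0 R)) (by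
    unfold KZero.relTr
    rw [AddSubgroup.closure_le]
    rintro x ⟨T, h₁, h₂, h₃, hT, rfl⟩
    simp only [SetLike.mem_coe, AddMonoidHom.mem_ker, map_sub, FreeAbelianGroup.lift_apply_of]
    rw [sub_sub, sub_eq_zero]
    exact chi0_add R T hT h₁ h₂ h₃)

lemma chi_clq (K : Dual.D R) (hK : DRing.IsPerfect R K) :
    chi R (clq (QQ R) K hK) = chi0 R ⟨K, hK⟩ := by
  unfold chi clq
  erw [QuotientAddGroup.lift_mk]
  rw [FreeAbelianGroup.lift_apply_of]

end Groth.Agent.Helper2.KP2
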