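import Mathlib
import Groth.Prelude
import Groth.Agent.Helper1.KoszulAcyclic
import Groth.Agent.Helper2.KRLoc

set_option autoImplicit false

namespace Groth.Agent.Helper2.KRMain

open CategoryTheory Limits CochainComplex HomologicalComplex CohIII Pointwise RingTheory.Sequence
open Groth.Agent.Helper1.Koszul Groth.Agent.Helper2.KRLoc

universe u

variable {S : Type u} [CommRing S] [IsNoetherianRing S] (Q : Ideal S) [Q.IsPrime]
  (M : Type u) [AddCommGroup M] [Module S M] [Module.Finite S M]

/-- **Koszul-acyclic (locally at `Q`) sequences in `Q` are regular on the localization.** -/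
theorem isWeaklyRegular_localized : ∀ xs : List S, (∀ x ∈ xs, x ∈ Q) →
    (∀ j : ℤ, j < 0 → LocZero Q ((koszulCx (ModuleCat.of S M) xs).homology j)) →
    IsWeaklyRegular (LocalizedModule Q.primeCompl M)
      (xs.map (algebraMap S (Localization.AtPrime Q)))
  | [], _, _ => IsWeaklyRegular.nil _ _
  | f :: fs, hmem, hacyc => by
    have hf : f ∈ Q := hmem f List.mem_cons_self
    have hacyc' : ∀ j : ℤ, j < 0 → LocZero Q
        ((mappingCone (f • 𝟙 (koszulCx (ModuleCat.of S M) fs))).homology j) := hacyc
    -- h1
    have h1 : ∀ j : ℤ, j < 0 → LocZero Q ((koszulCx (ModuleCat.of S M) fs).homology j) := by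
      intro j hj
      haveI : Module.Finite S ((koszulCx (ModuleCat.of S M) fs).homology j) :=
        finite_homology _ j (finite_X _ fs j)
      apply locZero_of_smul_surj f hf
      intro y
      obtain ⟨s, hs, hsy⟩ := hacyc' j hj ((ι (koszulCx (ModuleCat.of S M) fs) f j).hom y)
      have hsy' : (ι (koszulCx (ModuleCat.of S M) fs) f j).hom (s • y) = 0 :=
        (map_smul _ s y).trans hsy
      obtain ⟨x, hx⟩ := exists_of_ι_eq_zero (koszulCx (ModuleCat.of S M) fs) f j (s • y) hsy'
      exact ⟨s, hs, x, hx.symm⟩
    have h2 := isWeaklyRegular_localized fs (fun x hx => hmem x (List.mem_cons_of_mem _ hx)) h1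
    rw [isWeaklyRegular_map_algebraMap_iff] at h2
    -- h3
    have h3 : ∀ z : (koszulCx (ModuleCat.of S M) fs).homology 0, f • z = 0 →
        ∃ s : S, s ∉ Q ∧ s • z = 0 := by
      intro z hz
      obtain ⟨y, rfl⟩ := exists_of_smul_eq_zero (koszulCx (ModuleCat.of S M) fs) f (-1) 0
        (by norm_num) z hz
      obtain ⟨s, hs, hsy⟩ := hacyc' (-1) (by norm_num) y
      refine ⟨s, hs, ?_⟩
      exact (map_smul _ s y).symm.trans (by rw [hsy, map_zero])
    obtain ⟨e⟩ := nonempty_homology_zero_equiv M fs
    -- h4
    have h4 : IsSMulRegular (LocalizedModule Q.primeCompl M ⧸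
        (Ideal.ofList fs • (⊤ : Submodule S (LocalizedModule Q.primeCompl M)))) f := by
      rw [isSMulRegular_iff_right_eq_zero_of_smul]
      intro m' hm'
      obtain ⟨m', rfl⟩ := Submodule.Quotient.mk_surjective _ m'
      rw [← Submodule.Quotient.mk_smul, Submodule.Quotient.mk_eq_zero] at hm'
      rw [Submodule.Quotient.mk_eq_zero]
      induction m' using LocalizedModule.induction_on with
      | h m t =>
        rw [LocalizedModule.smul'_mk, mk_mem_smul_top_iff] at hm'
        obtain ⟨s, hs, hsm⟩ := hm'
        rw [mk_mem_smul_top_iff]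
        have hz : f • e.symm (Submodule.Quotient.mk (s • m)) = 0 := by
          rw [← map_smul, ← Submodule.Quotient.mk_smul, smul_comm]
          rw [(Submodule.Quotient.mk_eq_zero _).2 hsm, map_zero]
        obtain ⟨s', hs', hs'z⟩ := h3 _ hz
        rw [← map_smul, LinearEquiv.map_eq_zero_iff, ← Submodule.Quotient.mk_smul,
          Submodule.Quotient.mk_eq_zero, smul_smul] at hs'z
        exact ⟨s' * s, ‹Q.IsPrime›.mul_notMem hs' hs, hs'z⟩
    have h5 : IsWeaklyRegular (LocalizedModule Q.primeCompl M) (fs ++ [f]) := by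
      rw [isWeaklyRegular_append_iff, isWeaklyRegular_singleton_iff]
      exact ⟨h2, h4⟩
    rw [← isWeaklyRegular_map_algebraMap_iff (Localization.AtPrime Q)] at h5
    haveI : IsNoetherian (Localization.AtPrime Q) (LocalizedModule Q.primeCompl M) :=
      isNoetherian_of_isNoetherianRing_of_finite _ _
    refine IsLocalRing.isWeaklyRegular_of_perm_of_subset_maximalIdeal h5
      ((List.perm_append_singleton f fs).map _) ?_
    intro r hr
    obtain ⟨x, hx, rfl⟩ := List.mem_map.1 hr
    have hx' : x ∈ Q := by
      rcases List.mem_append.1 hx with h | h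
      · exact hmem x (List.mem_cons_of_mem _ h)
      · rw [List.mem_singleton.1 h]; exact hf
    exact (IsLocalization.AtPrime.to_map_mem_maximal_iff _ Q x).2 hx'

end Groth.Agent.Helper2.KRMain
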