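import Groth.Agent.Helper2.KZ7
import Groth.Agent.S0819
import Groth.Agent.Helper1.Dev17
import Groth.Agent.Helper4.SuppDict

set_option autoImplicit false

namespace Groth.Agent.Helper2.KZ10

open CategoryTheory CategoryTheory.Limits AlgebraicGeometry TopologicalSpace
open Groth.Agent.Helper4 Groth.Agent.Helper2.CohQ1 Groth.Agent.Helper2.KZ1 Groth.Agent.Helper2.KZ2
open Groth.Agent.Helper2.KZ7 Groth.Agent.Helper1.Dev

universe u

variable (X : Scheme.{u}) (Y' : Set X)

theorem clSub_of_not {M : X.Modules} (h : ¬ PS X Y' M) : KZero.clSub (PS X Y') M = 0 := by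
  unfold KZero.clSub
  rw [dif_neg h]

theorem clSub_iso {M N : X.Modules} (e : M ≅ N) :
    KZero.clSub (PS X Y') M = KZero.clSub (PS X Y') N := by
  by_cases h : PS X Y' M
  · have h' : PS X Y' N := ObjectProperty.prop_of_iso _ e h
    rw [clSub_eq _ _ h, clSub_eq _ _ h']
    exact cls_iso _ e h h'
  · have h' : ¬ PS X Y' N := fun hN => h (ObjectProperty.prop_of_iso _ e.symm hN)
    rw [clSub_of_not X Y' h, clSub_of_not X Y' h']

theorem clSub_shortExact (S : ShortComplex X.Modules) (hS : S.ShortExact)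
    (h₁ : PS X Y' S.X₁) (h₂ : PS X Y' S.X₂) (h₃ : PS X Y' S.X₃) :
    KZero.clSub (PS X Y') S.X₂ = KZero.clSub (PS X Y') S.X₁ + KZero.clSub (PS X Y') S.X₃ := by
  rw [clSub_eq _ _ h₁, clSub_eq _ _ h₂, clSub_eq _ _ h₃]
  exact cls_shortExact _ S hS h₁ h₂ h₃

variable [IsNoetherian X] (G : AddSubgroup (KZero.K0sub (PS X Y')))

/-- the inductive step for an irreducible closed subset -/
theorem step_irred (Z : Closeds X) (hZY : (Z : Set X) ⊆ Y') (hirr : IsIrreducible (Z : Set X))
    (ih : ∀ Z' : Closeds X, Z' < Z → ∀ M : X.Modules, Coh.IsCoh M →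
      CohB1.support M ⊆ (Z' : Set X) → KZero.clSub (PS X Y') M ∈ G)
    (h₃ : ∀ ξ : X, closure ({ξ} : Set X) = (Z : Set X) → ∃ F : X.Modules, Coh.IsCoh F ∧
      CohB1.support F ⊆ (Z : Set X) ∧
      Module.length (X.presheaf.stalk ξ) (F.presheaf.stalk ξ) = 1 ∧ KZero.clSub (PS X Y') F ∈ G)
    (M : X.Modules) (hM : Coh.IsCoh M) (hsupp : CohB1.support M ⊆ (Z : Set X)) :
    KZero.clSub (PS X Y') M ∈ G := by
  obtain ⟨ξ, hξ⟩ := QuasiSober.sober hirr Z.isClosed
  have hξ' : closure ({ξ} : Set X) = (Z : Set X) := hξ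
  have hξZ : ξ ∈ (Z : Set X) := by rw [← hξ']; exact subset_closure rfl
  refine Groth.Agent.S0819.result X (Z : Set X) Z.isClosed hirr ξ ⟨hξZ, hξ'⟩
    (fun M => KZero.clSub (PS X Y') M ∈ G) ?_ ?_ ?_ ?_ M hM hsupp
  · rintro M N ⟨e⟩ h
    rw [← clSub_iso X Y' e]; exact h
  · intro S hS c1 c2 c3 hs2
    have p2 : PS X Y' S.X₂ := ⟨c2, hs2.trans hZY⟩
    haveI := hS.mono_f
    haveI := hS.epi_g
    have p1 : PS X Y' S.X₁ := ⟨c1, (support_subset_of_mono S.f).trans p2.2⟩
    have p3 : PS X Y' S.X₃ := ⟨c3, (support_subset_of_epi S.g).trans p2.2⟩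
    have key := clSub_shortExact X Y' S hS p1 p2 p3
    refine ⟨fun h1 h2 => ?_, fun h1 h3 => ?_, fun h2 h3 => ?_⟩
    · have : KZero.clSub (PS X Y') S.X₃ = KZero.clSub (PS X Y') S.X₂ -
          KZero.clSub (PS X Y') S.X₁ := by rw [key]; abel
      rw [this]; exact G.sub_mem h2 h1
    · rw [key]; exact G.add_mem h1 h3
    · have : KZero.clSub (PS X Y') S.X₁ = KZero.clSub (PS X Y') S.X₂ -
          KZero.clSub (PS X Y') S.X₃ := by rw [key]; abel
      rw [this]; exact G.sub_mem h2 h3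
  · intro Z' i hi hint hsub hne I ι hmono hI
    haveI := hi
    haveI := hint
    haveI := hmono
    haveI : IsNoetherian Z' := isNoetherian_of_isClosedImmersion i
    have hIc : Coh.IsCoh I := isCoh_of_mono ι hI (isCoh_structureModule Z')
    have hpush : Coh.IsCoh ((Coh.push i).obj I) := isCoh_push i I hIc
    let W : Closeds X := ⟨Set.range i, i.isClosedEmbedding.isClosed_range⟩
    have hW : W < Z := by
      refine lt_of_le_of_ne (fun x hx => hsub hx) ?_
      intro h
      apply hne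
      have := congrArg (fun C : Closeds X => (C : Set X)) h
      exact this
    exact ih W hW _ hpush (support_push_subset i I)
  · obtain ⟨F, hF, hFs, hlen, hFG⟩ := h₃ ξ hξ'
    haveI : F.IsQuasicoherent := hF.1
    refine ⟨F, hF, ?_, ?_, hFG⟩
    · apply le_antisymm hFs
      have hsimple : IsSimpleModule (X.presheaf.stalk ξ) (F.presheaf.stalk ξ) :=
        Module.length_eq_one_iff.1 hlen
      have hξs : ξ ∈ CohB1.support F := by
        intro hsub
        haveI := hsub
        haveI := IsSimpleModule.nontrivial (X.presheaf.stalk ξ) (F.presheaf.stalk ξ)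
        exact not_subsingleton _ hsub
      intro z hz
      rw [← hξ'] at hz
      exact SuppDict.stableUnderSpecialization_support F (specializes_iff_mem_closure.2 hz) hξs
    · have hsimple : IsSimpleModule (X.presheaf.stalk ξ) (F.presheaf.stalk ξ) :=
        Module.length_eq_one_iff.1 hlen
      obtain ⟨I, hI, ⟨e⟩⟩ := isSimpleModule_iff_quot_maximal.1 hsimple
      have hIm : I = IsLocalRing.maximalIdeal (X.presheaf.stalk ξ) := IsLocalRing.eq_maximalIdeal hI
      subst hIm
      exact ⟨e⟩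


/-- Noetherian induction over closed subsets -/
theorem mem_of_support (hY' : IsClosed Y')
    (h₃ : ∀ (Z : Set X), IsClosed Z → IsIrreducible Z → Z ⊆ Y' → ∀ ξ : X,
      closure ({ξ} : Set X) = Z → ∃ F : X.Modules, Coh.IsCoh F ∧
      CohB1.support F ⊆ Z ∧
      Module.length (X.presheaf.stalk ξ) (F.presheaf.stalk ξ) = 1 ∧ KZero.clSub (PS X Y') F ∈ G)
    (Z : Closeds X) : (Z : Set X) ⊆ Y' → ∀ M : X.Modules, Coh.IsCoh M →
      CohB1.support M ⊆ (Z : Set X) → KZero.clSub (PS X Y') M ∈ G := by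
  induction Z using WellFoundedLT.induction with
  | ind Z ih =>
    intro hZY M hM hsupp
    by_cases hirr : IsIrreducible (Z : Set X)
    · exact step_irred X Y' G Z hZY hirr
        (fun Z' hZ' M hM hs => ih Z' hZ' (le_trans (le_of_lt hZ') hZY) M hM hs)
        (fun ξ hξ => h₃ _ Z.isClosed hirr hZY ξ hξ) M hM hsupp
    · by_cases hne : (Z : Set X).Nonempty
      · have hpre : ¬ IsPreirreducible (Z : Set X) := fun h => hirr ⟨hne, h⟩
        rw [isPreirreducible_iff_isClosed_union_isClosed] at hpre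
        push Not at hpre
        obtain ⟨z₁, z₂, hz₁, hz₂, hsub, hn1, hn2⟩ := hpre
        let Z₁ : Closeds X := Z ⊓ ⟨z₁, hz₁⟩
        let Z₂ : Closeds X := Z ⊓ ⟨z₂, hz₂⟩
        have hZ₁ : Z₁ < Z := by
          refine lt_of_le_of_ne inf_le_left (fun h => hn1 ?_)
          intro x hx
          have hx' : x ∈ (Z₁ : Set X) := by rw [h]; exact hx
          exact hx'.2
        have hZ₂ : Z₂ < Z := by
          refine lt_of_le_of_ne inf_le_left (fun h => hn2 ?_)
          intro x hx
          have hx' : x ∈ (Z₂ : Set X) := by rw [h]; exact hx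
          exact hx'.2
        have hcov : CohB1.support M ⊆ (Z₁ : Set X) ∪ (Z₂ : Set X) := by
          intro x hx
          have hxZ := hsupp hx
          rcases hsub hxZ with h | h
          · exact Or.inl ⟨hxZ, h⟩
          · exact Or.inr ⟨hxZ, h⟩
        obtain ⟨S, hS, ⟨e⟩, c1, c3, s1, s3⟩ := exists_split_support M hM Z₁ Z₂ hcov
        have hZ₁Y : (Z₁ : Set X) ⊆ Y' := fun x hx => hZY hx.1
        have hZ₂Y : (Z₂ : Set X) ⊆ Y' := fun x hx => hZY hx.1
        have p1 : PS X Y' S.X₁ := ⟨c1, s1.trans hZ₂Y⟩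
        have p3 : PS X Y' S.X₃ := ⟨c3, s3.trans hZ₁Y⟩
        have p2 : PS X Y' S.X₂ := ObjectProperty.prop_of_iso _ e.symm ⟨hM, hsupp.trans hZY⟩
        rw [← clSub_iso X Y' e, clSub_shortExact X Y' S hS p1 p2 p3]
        exact G.add_mem (ih Z₂ hZ₂ hZ₂Y _ c1 s1) (ih Z₁ hZ₁ hZ₁Y _ c3 s3)
      · rw [Set.not_nonempty_iff_eq_empty] at hne
        have : CohB1.support M = ∅ := by
          rw [← Set.subset_empty_iff, ← hne]; exact hsupp
        have hz : IsZero M := isZero_of_support_eq_empty M this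
        rw [clSub_eq _ _ (ps_of_isZero X Y' hz), cls_zero _ _ hz]
        exact G.zero_mem

theorem main (hY' : IsClosed Y') {ι : Type u} (F : ι → X.Modules)
    (hF : ∀ a : ι, Coh.IsCoh (F a) ∧ CohB1.support (F a) ⊆ Y')
    (hgen : ∀ (Z : Set X), IsClosed Z → IsIrreducible Z → Z ⊆ Y' → ∀ y : X,
      closure ({y} : Set X) = Z →
      ∃ a : ι, CohB1.support (F a) ⊆ Z ∧
        Module.length (X.presheaf.stalk y) ((F a).presheaf.stalk y) = 1) :
    AddSubgroup.closure (Set.range fun a : ι =>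
        KZero.clSub (fun G : X.Modules => Coh.IsCoh G ∧ CohB1.support G ⊆ Y') (F a)) = ⊤ := by
  rw [eq_top_iff]
  rintro x -
  induction x using QuotientAddGroup.induction_on with
  | H z =>
    induction z using FreeAbelianGroup.induction_on with
    | zero => exact AddSubgroup.zero_mem _
    | of M =>
      obtain ⟨M, hM⟩ := M
      show cls (PS X Y') M hM ∈ _
      rw [← clSub_eq]
      refine mem_of_support X Y' _ hY' ?_ ⟨Y', hY'⟩ le_rfl M hM.1 hM.2
      intro Z hZ hirr hZY ξ hξ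
      obtain ⟨a, ha, hlen⟩ := hgen Z hZ hirr hZY ξ hξ
      exact ⟨F a, (hF a).1, ha, hlen, AddSubgroup.subset_closure ⟨a, rfl⟩⟩
    | neg M ih => exact AddSubgroup.neg_mem _ ih
    | add x y hx hy => exact AddSubgroup.add_mem _ hx hy

end Groth.Agent.Helper2.KZ10
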