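import Groth.Agent.Helper2.PC15
import Mathlib

set_option autoImplicit false

namespace Groth.Agent.Helper2.PC16

open CategoryTheory CategoryTheory.Limits CategoryTheory.Pretriangulated

universe w v u

variable {A : Type u} [Category.{v} A] [Abelian A] [HasDerivedCategory.{w} A]
variable (P : ObjectProperty A) [P.IsClosedUnderIsomorphisms] [P.ContainsZero]

/-- an object of `D^{≤ n-1}` is `n`-pseudo-coherent -/
theorem isNPC_of_isLE (n : ℤ) (X : DerivedCategory A) [X.IsLE (n - 1)] : PC9.IsNPC P n X := by
  obtain ⟨K, hK, ⟨e⟩⟩ := X.exists_iso_Q_obj_of_isLE (n - 1)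
  exact ⟨K, ⟨⟨n - 1, fun i hi => K.isZero_of_isStrictlyLE (n - 1) i hi⟩,
    fun i hi => ObjectProperty.prop_of_isZero P (K.isZero_of_isStrictlyLE (n - 1) i (by omega))⟩,
    ⟨e.symm⟩⟩

/-- an object concentrated in degree `j` whose cohomology is `r`-pseudo-coherent in degree `0` is
`r + j`-pseudo-coherent -/
theorem isNPC_of_heart (r j : ℤ) (X : DerivedCategory A) [X.IsGE j] [X.IsLE j]
    (h : PC9.IsNPC P r ((DerivedCategory.singleFunctor A 0).obj
      ((DerivedCategory.homologyFunctor A j).obj X))) : PC9.IsNPC P (r + j) X := by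
  obtain ⟨Y, ⟨e⟩⟩ := DerivedCategory.exists_iso_singleFunctor_obj_of_isGE_of_isLE X j
  have e1 : (DerivedCategory.homologyFunctor A j).obj X ≅ Y :=
    (DerivedCategory.homologyFunctor A j).mapIso e ≪≫
      (DerivedCategory.singleFunctorCompHomologyFunctorIso A j).app Y
  have h1 := h.of_iso ((DerivedCategory.singleFunctor A 0).mapIso e1)
  exact (PC13.isNPC_single h1 j).of_iso
    (((DerivedCategory.singleFunctorIsoCompQ A j).app Y).symm ≪≫ e.symm)

theorem aux (hsum : ∀ X Y : A, P X → P Y → P (X ⨯ Y))
    (hqs : PCoh.IsQuasiStableUnderKernels P) (hql : PCoh.IsQuasiLiftable P)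
    (n : ℤ) (m : ℕ) : ∀ (X : DerivedCategory A), X.IsLE (n - 1 + m) →
    (∀ i : ℤ, n ≤ i → PC9.IsNPC P (n - i) ((DerivedCategory.singleFunctor A 0).obj
      ((DerivedCategory.homologyFunctor A i).obj X))) → PC9.IsNPC P n X := by
  induction m with
  | zero =>
    intro X hX _
    haveI : X.IsLE (n - 1) := by simpa using hX
    exact isNPC_of_isLE P n X
  | succ m ih =>
    intro X hX hH
    obtain ⟨k, hk⟩ : ∃ k : ℤ, k = n - 1 + m := ⟨_, rfl⟩
    haveI : X.IsLE (k + 1) := by
      have : n - 1 + ((m + 1 : ℕ) : ℤ) = k + 1 := by push_cast; omega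
      rw [← this]; exact hX
    obtain ⟨K, hK, ⟨e⟩⟩ := X.exists_iso_Q_obj_of_isLE (k + 1)
    have hse := K.shortComplexTruncLE_shortExact k
    have hT := DerivedCategory.triangleOfSES_distinguished hse
    -- first vertex
    have h1 : PC9.IsNPC P n (DerivedCategory.Q.obj (K.truncLE k)) := by
      apply ih
      · rw [← hk]; infer_instance
      · intro i hi
        by_cases hik : i ≤ k
        · haveI := K.quasiIsoAt_ιTruncLE k i hik
          haveI : IsIso (HomologicalComplex.homologyMap (K.ιTruncLE k) i) := by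
            rw [← quasiIsoAt_iff_isIso_homologyMap]; infer_instance
          haveI := (PC8.isIso_map_Q_iff (K.ιTruncLE k) i).2 inferInstance
          exact (hH i hi).of_iso ((DerivedCategory.singleFunctor A 0).mapIso
            ((DerivedCategory.homologyFunctor A i).mapIso e ≪≫
              (asIso ((DerivedCategory.homologyFunctor A i).map
                (DerivedCategory.Q.map (K.ιTruncLE k)))).symm))
        · apply PC15.isNPC_zero
          apply Functor.map_isZero
          exact DerivedCategory.isZero_of_isLE _ k i (by omega)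
    -- third vertex
    let L := K.truncGE (k + 1)
    haveI : (DerivedCategory.Q.obj L).IsLE (k + 1) := by
      rw [DerivedCategory.isLE_Q_obj_iff]; infer_instance
    haveI : (DerivedCategory.Q.obj L).IsGE (k + 1) := by
      rw [DerivedCategory.isGE_Q_obj_iff]; infer_instance
    have h3' : PC9.IsNPC P n (DerivedCategory.Q.obj L) := by
      have hh : PC9.IsNPC P (n - (k + 1)) ((DerivedCategory.singleFunctor A 0).obj
          ((DerivedCategory.homologyFunctor A (k + 1)).obj (DerivedCategory.Q.obj L))) := by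
        haveI := K.quasiIsoAt_πTruncGE (k + 1) (k + 1) le_rfl
        haveI : IsIso (HomologicalComplex.homologyMap (K.πTruncGE (k + 1)) (k + 1)) := by
          rw [← quasiIsoAt_iff_isIso_homologyMap]; infer_instance
        haveI := (PC8.isIso_map_Q_iff (K.πTruncGE (k + 1)) (k + 1)).2 inferInstance
        exact (hH (k + 1) (by omega)).of_iso ((DerivedCategory.singleFunctor A 0).mapIso
          ((DerivedCategory.homologyFunctor A (k + 1)).mapIso e ≪≫
            asIso ((DerivedCategory.homologyFunctor A (k + 1)).map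
              (DerivedCategory.Q.map (K.πTruncGE (k + 1))))))
      have := isNPC_of_heart P (n - (k + 1)) (k + 1) (DerivedCategory.Q.obj L) hh
      have e' : n - (k + 1) + (k + 1) = n := by ring
      rw [e'] at this; exact this
    have h3 : PC9.IsNPC P n (DerivedCategory.triangleOfSES hse).obj₃ :=
      h3'.of_iso (asIso (DerivedCategory.Q.map (K.shortComplexTruncLEX₃ToTruncGE k (k + 1)))).symm
    exact ((PC9.s5599 hsum hqs hql n _ hT).2.1 h1 h3).of_iso e.symm

theorem s5604 (hsum : ∀ X Y : A, P X → P Y → P (X ⨯ Y))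
    (hqs : PCoh.IsQuasiStableUnderKernels P) (hql : PCoh.IsQuasiLiftable P)
    (n : ℤ) (X : DerivedCategory A) (b : ℤ)
    (hb : ∀ i : ℤ, b < i → IsZero ((DerivedCategory.homologyFunctor A i).obj X))
    (hfp : ∀ i : ℤ, n ≤ i → PC9.IsNPC P (n - i) ((DerivedCategory.singleFunctor A 0).obj
      ((DerivedCategory.homologyFunctor A i).obj X))) : PC9.IsNPC P n X := by
  apply aux P hsum hqs hql n (b - (n - 1)).toNat X _ hfp
  rw [DerivedCategory.isLE_iff]
  intro i hi
  apply hb
  have := Int.self_le_toNat (b - (n - 1))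
  omega

end Groth.Agent.Helper2.PC16
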