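import Groth.Agent.Helper2.KZ1
import Groth.Agent.Helper2.PC16

set_option autoImplicit false

namespace Groth.Agent.Helper2.KZ2

open CategoryTheory CategoryTheory.Limits CategoryTheory.Pretriangulated
open Groth.Agent.Helper2.KZ1

universe w v u

variable {A : Type u} [Category.{v} A] [Abelian A] [HasDerivedCategory.{w} A]
  (P : ObjectProperty A) [P.IsClosedUnderIsomorphisms] [P.ContainsZero]

/-- cohomology objects -/
noncomputable abbrev H (i : ℤ) (K : DerivedCategory A) : A :=
  (DerivedCategory.homologyFunctor A i).obj K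

/-- bounded objects with cohomology in `P` -/
def Pd : ObjectProperty (DerivedCategory A) :=
  fun K => (∀ i : ℤ, P (H i K)) ∧ ∃ a b : ℤ, K.IsGE a ∧ K.IsLE b

lemma clSub_isZero (Z : A) (hZ : IsZero Z) : KZero.clSub P Z = 0 := by
  rw [clSub_eq P Z (P.prop_of_isZero hZ), cls_zero P Z hZ]

/-- Euler characteristic -/
noncomputable def eu (K : DerivedCategory A) : KZero.K0sub P :=
  alt (fun i => KZero.clSub P (H i K))

variable {P}

lemma isZero_H_of_notMem {K : DerivedCategory A} {a b : ℤ} (ha : K.IsGE a) (hb : K.IsLE b)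
    (i : ℤ) (hi : i ∉ Set.Icc a b) : IsZero (H i K) := by
  rw [Set.mem_Icc, not_and_or, not_le, not_le] at hi
  rcases hi with hi | hi
  · exact DerivedCategory.isZero_of_isGE K a i hi
  · exact DerivedCategory.isZero_of_isLE K b i hi

/-- finite support for families of kernels of maps out of the cohomology objects -/
lemma finite_support_ker {K : DerivedCategory A} (hK : Pd P K) (W : ℤ → A)
    (φ : ∀ i, H i K ⟶ W i) :
    (Function.support (fun i => KZero.clSub P (kernel (φ i)))).Finite := by
  obtain ⟨-, a, b, ha, hb⟩ := hK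
  refine (Set.finite_Icc a b).subset ?_
  intro i hi
  by_contra hni
  apply hi
  apply clSub_isZero
  exact IsZero.of_mono (kernel.ι (φ i)) (isZero_H_of_notMem ha hb i hni)

lemma finite_support_H {K : DerivedCategory A} (hK : Pd P K) :
    (Function.support (fun i => KZero.clSub P (H i K))).Finite := by
  obtain ⟨-, a, b, ha, hb⟩ := hK
  refine (Set.finite_Icc a b).subset ?_
  intro i hi
  by_contra hni
  exact hi (clSub_isZero P _ (isZero_H_of_notMem ha hb i hni))

variable (hker : ∀ {X Y : A} (f : X ⟶ Y), P X → P Y → P (kernel f))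

include hker in
/-- additivity of the Euler characteristic on distinguished triangles -/
theorem eu_add (T : Triangle (DerivedCategory A)) (hT : T ∈ distTriang _)
    (h₁ : Pd P T.obj₁) (h₂ : Pd P T.obj₂) (h₃ : Pd P T.obj₃) :
    eu P T.obj₂ = eu P T.obj₁ + eu P T.obj₃ := by
  let f : ∀ i : ℤ, H i T.obj₁ ⟶ H i T.obj₂ := fun i => (DerivedCategory.homologyFunctor A i).map T.mor₁
  let g : ∀ i : ℤ, H i T.obj₂ ⟶ H i T.obj₃ := fun i => (DerivedCategory.homologyFunctor A i).map T.mor₂
  let δ : ∀ i : ℤ, H i T.obj₃ ⟶ H (i + 1) T.obj₁ :=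
    fun i => DerivedCategory.HomologySequence.δ T i (i + 1) rfl
  let α : ℤ → KZero.K0sub P := fun i => KZero.clSub P (kernel (f i))
  let β : ℤ → KZero.K0sub P := fun i => KZero.clSub P (kernel (g i))
  let γ : ℤ → KZero.K0sub P := fun i => KZero.clSub P (kernel (δ i))
  have hα : (Function.support α).Finite := finite_support_ker h₁ _ f
  have hβ : (Function.support β).Finite := finite_support_ker h₂ _ g
  have hγ : (Function.support γ).Finite := finite_support_ker h₃ _ δ
  have hkf : ∀ i, P (kernel (f i)) := fun i => hker _ (h₁.1 i) (h₂.1 i)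
  have hkg : ∀ i, P (kernel (g i)) := fun i => hker _ (h₂.1 i) (h₃.1 i)
  have hkδ : ∀ i, P (kernel (δ i)) := fun i => hker _ (h₃.1 i) (h₁.1 (i + 1))
  have e1 : ∀ i, KZero.clSub P (H i T.obj₁) = α i + β i := by
    intro i
    show _ = KZero.clSub P (kernel (f i)) + KZero.clSub P (kernel (g i))
    rw [clSub_eq P _ (h₁.1 i), clSub_eq P _ (hkf i), clSub_eq P _ (hkg i)]
    exact cls_exact P (f i) (g i) _ (DerivedCategory.HomologySequence.exact₂ T hT i) _ _ _
  have e2 : ∀ i, KZero.clSub P (H i T.obj₂) = β i + γ i := by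
    intro i
    show _ = KZero.clSub P (kernel (g i)) + KZero.clSub P (kernel (δ i))
    rw [clSub_eq P _ (h₂.1 i), clSub_eq P _ (hkg i), clSub_eq P _ (hkδ i)]
    exact cls_exact P (g i) (δ i) _ (DerivedCategory.HomologySequence.exact₃ T hT i (i + 1) rfl) _ _ _
  have e3 : ∀ i, KZero.clSub P (H i T.obj₃) = γ i + α (i + 1) := by
    intro i
    show _ = KZero.clSub P (kernel (δ i)) + KZero.clSub P (kernel (f (i + 1)))
    rw [clSub_eq P _ (h₃.1 i), clSub_eq P _ (hkδ i), clSub_eq P _ (hkf (i + 1))]
    exact cls_exact P (δ i) (f (i + 1)) _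
      (DerivedCategory.HomologySequence.exact₁ T hT i (i + 1) rfl) _ _ _
  have hα' : (Function.support (fun i => α (i + 1))).Finite := by
    have : Function.support (fun i => α (i + 1)) = (Equiv.addRight (1 : ℤ)) ⁻¹' Function.support α := rfl
    rw [this]
    exact hα.preimage (Equiv.injective _).injOn
  unfold eu
  simp only [e1, e2, e3]
  rw [alt_add _ _ hβ hγ, alt_add _ _ hα hβ, alt_add _ _ hγ hα', alt_shift]
  abel

end Groth.Agent.Helper2.KZ2
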