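import Groth.Agent.Helper2.KZ2

set_option autoImplicit false

namespace Groth.Agent.Helper2.KZ3

open CategoryTheory CategoryTheory.Limits CategoryTheory.Pretriangulated
open Groth.Agent.Helper2.KZ1 Groth.Agent.Helper2.KZ2

universe w v u

variable {A : Type u} [Category.{v} A] [Abelian A] [HasDerivedCategory.{w} A]
  (P : ObjectProperty A) [P.IsClosedUnderIsomorphisms] [P.ContainsZero]

/-- class in `K0tr` -/
noncomputable def clt (K : DerivedCategory A) (h : Pd P K) : KZero.K0tr (Pd P) :=
  QuotientAddGroup.mk (FreeAbelianGroup.of ⟨K, h⟩)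

lemma clTr_eq (K : DerivedCategory A) (h : Pd P K) : KZero.clTr (Pd P) K = clt P K h := by
  unfold KZero.clTr clt
  rw [dif_pos h]

lemma clt_add (T : Triangle (DerivedCategory A)) (hT : T ∈ distTriang _)
    (h₁ : Pd P T.obj₁) (h₂ : Pd P T.obj₂) (h₃ : Pd P T.obj₃) :
    clt P T.obj₂ h₂ = clt P T.obj₁ h₁ + clt P T.obj₃ h₃ := by
  have hmem : FreeAbelianGroup.of (⟨T.obj₂, h₂⟩ : Subtype (Pd P)) -
      FreeAbelianGroup.of ⟨T.obj₁, h₁⟩ - FreeAbelianGroup.of ⟨T.obj₃, h₃⟩ ∈ KZero.relTr (Pd P) :=
    AddSubgroup.subset_closure ⟨T, h₁, h₂, h₃, hT, rfl⟩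
  have h0 := (QuotientAddGroup.eq_zero_iff _).2 hmem
  rw [QuotientAddGroup.mk_sub, QuotientAddGroup.mk_sub, sub_sub, sub_eq_zero] at h0
  exact h0

variable {P}

lemma Pd.of_iso {K L : DerivedCategory A} (e : K ≅ L) (h : Pd P K) : Pd P L := by
  obtain ⟨h1, a, b, ha, hb⟩ := h
  refine ⟨fun i => P.prop_of_iso ((DerivedCategory.homologyFunctor A i).mapIso e) (h1 i), a, b,
    ?_, ?_⟩
  · exact DerivedCategory.TStructure.t.isGE_of_iso e a
  · exact DerivedCategory.TStructure.t.isLE_of_iso e b

lemma pd_of_isZero (K : DerivedCategory A) (hK : IsZero K) : Pd P K := by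
  refine ⟨fun i => P.prop_of_isZero ((DerivedCategory.homologyFunctor A i).map_isZero hK), 0, 0,
    ?_, ?_⟩
  · exact DerivedCategory.TStructure.t.isGE_of_isZero hK 0
  · exact DerivedCategory.TStructure.t.isLE_of_isZero hK 0

variable (P)

lemma clt_zero (K : DerivedCategory A) (hK : IsZero K) (h : Pd P K) : clt P K h = 0 := by
  have hT : Triangle.mk (0 : K ⟶ K) (0 : K ⟶ K) (0 : K ⟶ K⟦(1 : ℤ)⟧) ∈ distTriang _ := by
    refine isomorphic_distinguished _ (contractible_distinguished K) _
      (Triangle.isoMk _ _ (Iso.refl _) (Iso.refl _) (hK.iso (isZero_zero _))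
        (hK.eq_of_src _ _) (hK.eq_of_src _ _) (hK.eq_of_src _ _))
  have := clt_add P _ hT h h h
  simpa using this

lemma clt_iso {K L : DerivedCategory A} (e : K ≅ L) (hK : Pd P K) (hL : Pd P L) :
    clt P K hK = clt P L hL := by
  obtain ⟨Z, g, h, hT⟩ := distinguished_cocone_triangle e.hom
  have hZ : IsZero Z := (Triangle.isZero₃_iff_isIso₁ _ hT).2 (inferInstanceAs (IsIso e.hom))
  have this : clt P L hL = clt P K hK + clt P Z (pd_of_isZero Z hZ) :=
    clt_add P _ hT hK hL (pd_of_isZero Z hZ)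
  rw [this, clt_zero P Z hZ, add_zero]

open ZeroObject in
lemma clt_shift (K : DerivedCategory A) (hK : Pd P K) (hK' : Pd P (K⟦(1 : ℤ)⟧)) :
    clt P (K⟦(1 : ℤ)⟧) hK' = - clt P K hK := by
  have this : clt P 0 (pd_of_isZero _ (isZero_zero _)) = clt P K hK + clt P (K⟦(1 : ℤ)⟧) hK' :=
    clt_add P _ (contractible_distinguished₂ K) hK (pd_of_isZero _ (isZero_zero _)) hK'
  rw [clt_zero P _ (isZero_zero _)] at this
  rw [eq_neg_iff_add_eq_zero, add_comm]
  exact this.symm

variable {P} in
lemma pd_single (n : ℤ) (Y : A) (hY : P Y) :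
    Pd P ((DerivedCategory.singleFunctor A n).obj Y) := by
  refine ⟨fun i => ?_, n, n, inferInstance, inferInstance⟩
  rcases lt_trichotomy i n with h | h | h
  · exact P.prop_of_isZero (DerivedCategory.isZero_of_isGE _ n i h)
  · subst h
    exact P.prop_of_iso ((DerivedCategory.singleFunctorCompHomologyFunctorIso A i).app Y).symm hY
  · exact P.prop_of_isZero (DerivedCategory.isZero_of_isLE _ n i h)

lemma clt_single_succ (n : ℤ) (Y : A) (hY : P Y) :
    clt P ((DerivedCategory.singleFunctor A n).obj Y) (pd_single n Y hY) =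
      - clt P ((DerivedCategory.singleFunctor A (n + 1)).obj Y) (pd_single (n + 1) Y hY) := by
  let e : ((DerivedCategory.singleFunctor A (n + 1)).obj Y)⟦(1 : ℤ)⟧ ≅
      (DerivedCategory.singleFunctor A n).obj Y :=
    ((DerivedCategory.singleFunctors A).shiftIso 1 n (n + 1) (by omega)).app Y
  rw [← clt_shift P _ (pd_single (n + 1) Y hY) (Pd.of_iso e.symm (pd_single n Y hY))]
  exact clt_iso P e.symm _ _

/-- the classes of the objects concentrated in one degree generate -/
theorem mem_of_single (S : AddSubgroup (KZero.K0tr (Pd P)))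
    (hS : ∀ (n : ℤ) (Y : A) (hY : P Y),
      clt P ((DerivedCategory.singleFunctor A n).obj Y) (pd_single n Y hY) ∈ S) (a : ℤ) :
    ∀ (m : ℕ) (K : DerivedCategory A) (hK : Pd P K), K.IsGE a → K.IsLE (a - 1 + m) →
      clt P K hK ∈ S := by
  intro m
  induction m with
  | zero =>
    intro K hK hKa hKb
    haveI : K.IsLE (a - 1) := by simpa using hKb
    have hz : IsZero K := DerivedCategory.TStructure.t.isZero K (a - 1) a
    rw [clt_zero P K hz]
    exact S.zero_mem
  | succ m ih =>
    intro K hK hKa hKb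
    obtain ⟨k, hk⟩ : ∃ k : ℤ, k = a - 1 + m := ⟨_, rfl⟩
    haveI : K.IsLE (k + 1) := by
      have : a - 1 + ((m + 1 : ℕ) : ℤ) = k + 1 := by push_cast; omega
      rw [← this]; exact hKb
    obtain ⟨K₀, hK₀, ⟨e⟩⟩ := K.exists_iso_Q_obj_of_isLE (k + 1)
    have hse := K₀.shortComplexTruncLE_shortExact k
    have hT := DerivedCategory.triangleOfSES_distinguished hse
    have hQ : Pd P (DerivedCategory.Q.obj K₀) := Pd.of_iso e hK
    haveI : (DerivedCategory.Q.obj K₀).IsGE a := DerivedCategory.TStructure.t.isGE_of_iso e a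
    -- cohomology of the truncation
    have hiso : ∀ i : ℤ, i ≤ k → IsIso ((DerivedCategory.homologyFunctor A i).map
        (DerivedCategory.Q.map (K₀.ιTruncLE k))) := by
      intro i hik
      haveI := K₀.quasiIsoAt_ιTruncLE k i hik
      haveI : IsIso (HomologicalComplex.homologyMap (K₀.ιTruncLE k) i) := by
        rw [← quasiIsoAt_iff_isIso_homologyMap]; infer_instance
      exact (PC8.isIso_map_Q_iff (K₀.ιTruncLE k) i).2 inferInstance
    have h1a : (DerivedCategory.Q.obj (K₀.truncLE k)).IsGE a := by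
      rw [DerivedCategory.isGE_iff]
      intro i hi
      by_cases hik : i ≤ k
      · haveI := hiso i hik
        exact (DerivedCategory.isZero_of_isGE (DerivedCategory.Q.obj K₀) a i hi).of_iso
          (asIso ((DerivedCategory.homologyFunctor A i).map
            (DerivedCategory.Q.map (K₀.ιTruncLE k))))
      · exact DerivedCategory.isZero_of_isLE _ k i (by omega)
    have h1b : (DerivedCategory.Q.obj (K₀.truncLE k)).IsLE (a - 1 + m) := by
      rw [← hk]; infer_instance
    have h1 : Pd P (DerivedCategory.Q.obj (K₀.truncLE k)) := by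
      refine ⟨fun i => ?_, a, k, h1a, inferInstance⟩
      by_cases hik : i ≤ k
      · haveI := hiso i hik
        exact P.prop_of_iso (asIso ((DerivedCategory.homologyFunctor A i).map
          (DerivedCategory.Q.map (K₀.ιTruncLE k)))).symm (hQ.1 i)
      · exact P.prop_of_isZero (DerivedCategory.isZero_of_isLE _ k i (by omega))
    -- third vertex
    let L := K₀.truncGE (k + 1)
    haveI : (DerivedCategory.Q.obj L).IsLE (k + 1) := by
      rw [DerivedCategory.isLE_Q_obj_iff]; infer_instance
    haveI : (DerivedCategory.Q.obj L).IsGE (k + 1) := by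
      rw [DerivedCategory.isGE_Q_obj_iff]; infer_instance
    obtain ⟨Y, ⟨eY⟩⟩ := DerivedCategory.exists_iso_singleFunctor_obj_of_isGE_of_isLE
      (DerivedCategory.Q.obj L) (k + 1)
    have hY : P Y := by
      haveI := K₀.quasiIsoAt_πTruncGE (k + 1) (k + 1) le_rfl
      haveI : IsIso (HomologicalComplex.homologyMap (K₀.πTruncGE (k + 1)) (k + 1)) := by
        rw [← quasiIsoAt_iff_isIso_homologyMap]; infer_instance
      haveI := (PC8.isIso_map_Q_iff (K₀.πTruncGE (k + 1)) (k + 1)).2 inferInstance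
      exact P.prop_of_iso
        (asIso ((DerivedCategory.homologyFunctor A (k + 1)).map
          (DerivedCategory.Q.map (K₀.πTruncGE (k + 1)))) ≪≫
          (DerivedCategory.homologyFunctor A (k + 1)).mapIso eY ≪≫
          (DerivedCategory.singleFunctorCompHomologyFunctorIso A (k + 1)).app Y) (hQ.1 (k + 1))
    have e3' := asIso (DerivedCategory.Q.map (K₀.shortComplexTruncLEX₃ToTruncGE k (k + 1)))
    let e3 : (DerivedCategory.triangleOfSES hse).obj₃ ≅
        (DerivedCategory.singleFunctor A (k + 1)).obj Y := e3' ≪≫ eY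
    have h3 : Pd P (DerivedCategory.triangleOfSES hse).obj₃ := Pd.of_iso e3.symm (pd_single (k + 1) Y hY)
    have hadd : clt P (DerivedCategory.Q.obj K₀) hQ =
        clt P (DerivedCategory.Q.obj (K₀.truncLE k)) h1 +
          clt P (DerivedCategory.triangleOfSES hse).obj₃ h3 := clt_add P _ hT h1 hQ h3
    rw [clt_iso P e hK hQ, hadd]
    refine S.add_mem ?_ ?_
    · exact ih _ h1 h1a h1b
    · rw [clt_iso P e3 h3 (pd_single (k + 1) Y hY)]
      exact hS _ _ hY

end Groth.Agent.Helper2.KZ3
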