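import Groth.Agent.Helper2.KZ3

set_option autoImplicit false

namespace Groth.Agent.Helper2.KZ4

open CategoryTheory CategoryTheory.Limits CategoryTheory.Pretriangulated
open Groth.Agent.Helper2.KZ1 Groth.Agent.Helper2.KZ2 Groth.Agent.Helper2.KZ3

universe w v u

variable {A : Type u} [Category.{v} A] [Abelian A] [HasDerivedCategory.{w} A]
  (P : ObjectProperty A) [P.IsClosedUnderIsomorphisms] [P.ContainsZero]

/-- the map `[F] ↦ [F[0]]` -/
noncomputable def psi : KZero.K0sub P →+ KZero.K0tr (Pd P) :=
  QuotientAddGroup.lift _ (FreeAbelianGroup.lift (fun F : Subtype P =>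
    clt P ((DerivedCategory.singleFunctor A 0).obj F.1) (pd_single 0 F.1 F.2))) (by
    unfold KZero.relSub
    rw [AddSubgroup.closure_le]
    rintro x ⟨S, h₁, h₂, h₃, hS, rfl⟩
    simp only [SetLike.mem_coe, AddMonoidHom.mem_ker, map_sub, FreeAbelianGroup.lift_apply_of]
    have := clt_add P _ hS.singleTriangle_distinguished (pd_single 0 _ h₁) (pd_single 0 _ h₂)
      (pd_single 0 _ h₃)
    rw [sub_sub, sub_eq_zero]
    exact this)

lemma psi_cls (F : A) (hF : P F) :
    psi P (cls P F hF) = clt P ((DerivedCategory.singleFunctor A 0).obj F) (pd_single 0 F hF) := by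
  unfold psi cls
  erw [QuotientAddGroup.lift_mk]
  rw [FreeAbelianGroup.lift_apply_of]

variable (hker : ∀ {X Y : A} (f : X ⟶ Y), P X → P Y → P (kernel f))

/-- the Euler characteristic map -/
noncomputable def chi : KZero.K0tr (Pd P) →+ KZero.K0sub P :=
  QuotientAddGroup.lift _ (FreeAbelianGroup.lift (fun K : Subtype (Pd P) => eu P K.1)) (by
    unfold KZero.relTr
    rw [AddSubgroup.closure_le]
    rintro x ⟨T, h₁, h₂, h₃, hT, rfl⟩
    simp only [SetLike.mem_coe, AddMonoidHom.mem_ker, map_sub, FreeAbelianGroup.lift_apply_of]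
    rw [sub_sub, sub_eq_zero]
    exact eu_add hker T hT h₁ h₂ h₃)

lemma chi_clt (K : DerivedCategory A) (hK : Pd P K) : chi P hker (clt P K hK) = eu P K := by
  unfold chi clt
  erw [QuotientAddGroup.lift_mk]
  rw [FreeAbelianGroup.lift_apply_of]

lemma eu_single (F : A) (hF : P F) :
    eu P ((DerivedCategory.singleFunctor A 0).obj F) = cls P F hF := by
  unfold eu
  rw [alt_single _ 0]
  · rw [Int.negOnePow_zero, Units.val_one, one_smul,
      clSub_eq P _ ((pd_single 0 F hF).1 0)]
    exact cls_iso P ((DerivedCategory.singleFunctorCompHomologyFunctorIso A 0).app F) _ _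
  · intro i hi
    apply clSub_isZero
    rcases lt_or_gt_of_ne hi with h | h
    · exact DerivedCategory.isZero_of_isGE _ 0 i h
    · exact DerivedCategory.isZero_of_isLE _ 0 i h

lemma chi_psi (x : KZero.K0sub P) : chi P hker (psi P x) = x := by
  have : (chi P hker).comp (psi P) = AddMonoidHom.id _ := by
    apply QuotientAddGroup.addMonoidHom_ext
    apply FreeAbelianGroup.lift_ext
    rintro ⟨F, hF⟩
    show chi P hker (psi P (cls P F hF)) = cls P F hF
    rw [psi_cls, chi_clt, eu_single]
  exact DFunLike.congr_fun this x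

include hker in
lemma psi_injective : Function.Injective (psi P) := by
  intro x y h
  rw [← chi_psi P hker x, ← chi_psi P hker y, h]

lemma single_mem_range (n : ℤ) (Y : A) (hY : P Y) :
    clt P ((DerivedCategory.singleFunctor A n).obj Y) (pd_single n Y hY) ∈ (psi P).range := by
  induction n using Int.induction_on with
  | zero => exact ⟨cls P Y hY, psi_cls P Y hY⟩
  | succ n ih =>
    have := clt_single_succ P n Y hY
    rw [eq_neg_iff_add_eq_zero, add_comm, ← eq_neg_iff_add_eq_zero] at this
    rw [this]
    exact (psi P).range.neg_mem ih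
  | pred n ih =>
    have := clt_single_succ P (-(n : ℤ) - 1) Y hY
    have e : (-(n : ℤ) - 1 + 1) = -(n : ℤ) := by ring
    rw [this]
    apply (psi P).range.neg_mem
    convert ih using 2 <;> simp

lemma psi_surjective : Function.Surjective (psi P) := by
  intro x
  induction x using QuotientAddGroup.induction_on with
  | H z =>
    induction z using FreeAbelianGroup.induction_on with
    | zero => exact ⟨0, map_zero _⟩
    | of K =>
      obtain ⟨K, hK⟩ := K
      obtain ⟨a, b, ha, hb⟩ := hK.2
      have hb' : K.IsLE (max b (a - 1)) :=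
        DerivedCategory.TStructure.t.isLE_of_le K b _ (le_max_left _ _)
      have hm : a - 1 + (((max b (a - 1)) - a + 1).toNat : ℤ) = max b (a - 1) := by
        rw [Int.toNat_of_nonneg]
        · ring
        · have := le_max_right b (a - 1); omega
      have := mem_of_single P (psi P).range (single_mem_range P) a
        ((max b (a - 1)) - a + 1).toNat K hK ha (by rw [hm]; exact hb')
      exact this
    | neg K ih =>
      obtain ⟨y, hy⟩ := ih
      exact ⟨-y, by rw [map_neg, hy]; rfl⟩
    | add x y hx hy =>
      obtain ⟨x', hx'⟩ := hx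
      obtain ⟨y', hy'⟩ := hy
      exact ⟨x' + y', by rw [map_add, hx', hy']; rfl⟩

include hker in
/-- **Theorem**: `K₀(P) ≃ K₀(D^b_P(A))` -/
theorem main : ∃ φ : KZero.K0sub P ≃+ KZero.K0tr (Pd P),
    ∀ F : A, P F → φ (KZero.clSub P F) =
      KZero.clTr (Pd P) ((DerivedCategory.singleFunctor A 0).obj F) := by
  refine ⟨AddEquiv.ofBijective (psi P) ⟨psi_injective P hker, psi_surjective P⟩, ?_⟩
  intro F hF
  rw [clSub_eq P F hF, clTr_eq P _ (pd_single 0 F hF)]
  exact psi_cls P F hF

end Groth.Agent.Helper2.KZ4
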