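import Groth.Agent.Helper2.KZ4
import Groth.Agent.Helper2.CohQ1
import Groth.Agent.Lead.PerfLib7
import Groth.Prelude.Def_DCoh2

set_option autoImplicit false

namespace Groth.Agent.Helper2.KZ5

open CategoryTheory CategoryTheory.Limits AlgebraicGeometry
open Groth.Agent.Helper4 Groth.Agent.Helper2.CohQ1

universe u

attribute [local instance] HasDerivedCategory.standard

variable (X : Scheme.{u})

instance : ObjectProperty.IsClosedUnderIsomorphisms (Co X) := ⟨fun e h => isCoh_of_iso e h⟩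

open ZeroObject in
instance : ObjectProperty.ContainsZero (Co X) :=
  ⟨⟨0, isZero_zero _, Groth.Agent.Lead.PerfLib.isCoh_of_isFinLocFree
    (Groth.Agent.Lead.PerfLib.isFinLocFree_of_isZero (isZero_zero _))⟩⟩

theorem isCoh_kernel [IsLocallyNoetherian X] {M N : X.Modules} (f : M ⟶ N) (hM : Coh.IsCoh M)
    (hN : Coh.IsCoh N) : Coh.IsCoh (kernel f) := by
  haveI : M.IsQuasicoherent := hM.1
  haveI : N.IsQuasicoherent := hN.1
  exact isCoh_of_mono (kernel.ι f) (QcohLimits.isQuasicoherent_kernel f) hM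

theorem main [IsNoetherian X] :
    ∃ φ : KZero.K0sub (fun M : X.Modules => Coh.IsCoh M) ≃+
        KZero.K0tr (fun K : DCoh.D X => DCoh.IsCohD K ∧ ∃ a b : ℤ, K.IsGE a ∧ K.IsLE b),
      ∀ F : X.Modules, Coh.IsCoh F →
        φ (KZero.clSub (fun M : X.Modules => Coh.IsCoh M) F) =
          KZero.clTr (fun K : DCoh.D X => DCoh.IsCohD K ∧ ∃ a b : ℤ, K.IsGE a ∧ K.IsLE b)
            (DCoh.inD X F) :=
  KZ4.main (Co X) (fun f hM hN => isCoh_kernel X f hM hN)

end Groth.Agent.Helper2.KZ5
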