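import Groth.Agent.Helper2.KZ4

set_option autoImplicit false

namespace Groth.Agent.Helper2.KZ6

open CategoryTheory CategoryTheory.Limits CategoryTheory.Pretriangulated
open Groth.Agent.Helper2.KZ1 Groth.Agent.Helper2.KZ2 Groth.Agent.Helper2.KZ3

universe w v u

variable {A : Type u} [Category.{v} A] [Abelian A] [HasDerivedCategory.{w} A]
  (P : ObjectProperty A) [P.IsClosedUnderIsomorphisms] [P.ContainsZero]

/-- dévissage: a property of objects of `D(A)` which is iso-invariant, extension-closed, holds for
zero objects and for objects of `P` placed in any single degree, holds for all bounded objects with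
cohomology in `P`. -/
theorem devissage (Q : DerivedCategory A → Prop)
    (hiso : ∀ {K L : DerivedCategory A}, (K ≅ L) → Q K → Q L)
    (hext : ∀ T : Triangle (DerivedCategory A), T ∈ distTriang _ → Q T.obj₁ → Q T.obj₃ → Q T.obj₂)
    (hzero : ∀ K : DerivedCategory A, IsZero K → Q K)
    (hS : ∀ (n : ℤ) (Y : A), P Y → Q ((DerivedCategory.singleFunctor A n).obj Y)) (a : ℤ) :
    ∀ (m : ℕ) (K : DerivedCategory A), Pd P K → K.IsGE a → K.IsLE (a - 1 + m) → Q K := by
  intro m
  induction m with
  | zero =>
    intro K hK hKa hKb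
    haveI : K.IsLE (a - 1) := by simpa using hKb
    exact hzero K (DerivedCategory.TStructure.t.isZero K (a - 1) a)
  | succ m ih =>
    intro K hK hKa hKb
    obtain ⟨k, hk⟩ : ∃ k : ℤ, k = a - 1 + m := ⟨_, rfl⟩
    haveI : K.IsLE (k + 1) := by
      have : a - 1 + ((m + 1 : ℕ) : ℤ) = k + 1 := by push_cast; omega
      rw [← this]; exact hKb
    obtain ⟨K₀, hK₀, ⟨e⟩⟩ := K.exists_iso_Q_obj_of_isLE (k + 1)
    have hse := K₀.shortComplexTruncLE_shortExact k
    have hT := DerivedCategory.triangleOfSES_distinguished hse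
    have hQ : Pd P (DerivedCategory.Q.obj K₀) := Pd.of_iso e hK
    haveI : (DerivedCategory.Q.obj K₀).IsGE a := DerivedCategory.TStructure.t.isGE_of_iso e a
    have hiso' : ∀ i : ℤ, i ≤ k → IsIso ((DerivedCategory.homologyFunctor A i).map
        (DerivedCategory.Q.map (K₀.ιTruncLE k))) := by
      intro i hik
      haveI := K₀.quasiIsoAt_ιTruncLE k i hik
      haveI : IsIso (HomologicalComplex.homologyMap (K₀.ιTruncLE k) i) := by
        rw [← quasiIsoAt_iff_isIso_homologyMap]; infer_instance
      exact (PC8.isIso_map_Q_iff (K₀.ιTruncLE k) i).2 inferInstance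
    have h1a : (DerivedCategory.Q.obj (K₀.truncLE k)).IsGE a := by
      rw [DerivedCategory.isGE_iff]
      intro i hi
      by_cases hik : i ≤ k
      · haveI := hiso' i hik
        exact (DerivedCategory.isZero_of_isGE (DerivedCategory.Q.obj K₀) a i hi).of_iso
          (asIso ((DerivedCategory.homologyFunctor A i).map
            (DerivedCategory.Q.map (K₀.ιTruncLE k))))
      · exact DerivedCategory.isZero_of_isLE _ k i (by omega)
    have h1b : (DerivedCategory.Q.obj (K₀.truncLE k)).IsLE (a - 1 + m) := by
      rw [← hk]; infer_instance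
    have h1 : Pd P (DerivedCategory.Q.obj (K₀.truncLE k)) := by
      refine ⟨fun i => ?_, a, k, h1a, inferInstance⟩
      by_cases hik : i ≤ k
      · haveI := hiso' i hik
        exact P.prop_of_iso (asIso ((DerivedCategory.homologyFunctor A i).map
          (DerivedCategory.Q.map (K₀.ιTruncLE k)))).symm (hQ.1 i)
      · exact P.prop_of_isZero (DerivedCategory.isZero_of_isLE _ k i (by omega))
    let L := K₀.truncGE (k + 1)
    haveI : (DerivedCategory.Q.obj L).IsLE (k + 1) := by
      rw [DerivedCategory.isLE_Q_obj_iff]; infer_instance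
    haveI : (DerivedCategory.Q.obj L).IsGE (k + 1) := by
      rw [DerivedCategory.isGE_Q_obj_iff]; infer_instance
    obtain ⟨Y, ⟨eY⟩⟩ := DerivedCategory.exists_iso_singleFunctor_obj_of_isGE_of_isLE
      (DerivedCategory.Q.obj L) (k + 1)
    have hY : P Y := by
      haveI := K₀.quasiIsoAt_πTruncGE (k + 1) (k + 1) le_rfl
      haveI : IsIso (HomologicalComplex.homologyMap (K₀.πTruncGE (k + 1)) (k + 1)) := by
        rw [← quasiIsoAt_iff_isIso_homologyMap]; infer_instance
      haveI := (PC8.isIso_map_Q_iff (K₀.πTruncGE (k + 1)) (k + 1)).2 inferInstance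
      exact P.prop_of_iso
        (asIso ((DerivedCategory.homologyFunctor A (k + 1)).map
          (DerivedCategory.Q.map (K₀.πTruncGE (k + 1)))) ≪≫
          (DerivedCategory.homologyFunctor A (k + 1)).mapIso eY ≪≫
          (DerivedCategory.singleFunctorCompHomologyFunctorIso A (k + 1)).app Y) (hQ.1 (k + 1))
    have e3' := asIso (DerivedCategory.Q.map (K₀.shortComplexTruncLEX₃ToTruncGE k (k + 1)))
    let e3 : (DerivedCategory.triangleOfSES hse).obj₃ ≅
        (DerivedCategory.singleFunctor A (k + 1)).obj Y := e3' ≪≫ eY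
    have q1 : Q (DerivedCategory.Q.obj (K₀.truncLE k)) := ih _ h1 h1a h1b
    have q3 : Q (DerivedCategory.triangleOfSES hse).obj₃ := hiso e3.symm (hS _ _ hY)
    exact hiso e.symm (hext _ hT q1 q3)

/-- the dévissage principle, for all of `Pd P` -/
theorem devissage' (Q : DerivedCategory A → Prop)
    (hiso : ∀ {K L : DerivedCategory A}, (K ≅ L) → Q K → Q L)
    (hext : ∀ T : Triangle (DerivedCategory A), T ∈ distTriang _ → Q T.obj₁ → Q T.obj₃ → Q T.obj₂)
    (hzero : ∀ K : DerivedCategory A, IsZero K → Q K)
    (hS : ∀ (n : ℤ) (Y : A), P Y → Q ((DerivedCategory.singleFunctor A n).obj Y))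
    (K : DerivedCategory A) (hK : Pd P K) : Q K := by
  obtain ⟨a, b, ha, hb⟩ := hK.2
  have hb' : K.IsLE (max b (a - 1)) :=
    DerivedCategory.TStructure.t.isLE_of_le K b _ (le_max_left _ _)
  have hm : a - 1 + (((max b (a - 1)) - a + 1).toNat : ℤ) = max b (a - 1) := by
    rw [Int.toNat_of_nonneg]
    · ring
    · have := le_max_right b (a - 1); omega
  exact devissage P Q hiso hext hzero hS a ((max b (a - 1)) - a + 1).toNat K hK ha
    (by rw [hm]; exact hb')

/-- transport of the main theorem along an equality of object properties -/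
theorem main_of_eq (hker : ∀ {X Y : A} (f : X ⟶ Y), P X → P Y → P (kernel f))
    (Q : ObjectProperty (DerivedCategory A)) (hQ : ∀ K, Q K ↔ Pd P K) :
    ∃ φ : KZero.K0sub P ≃+ KZero.K0tr Q,
      ∀ F : A, P F → φ (KZero.clSub P F) =
        KZero.clTr Q ((DerivedCategory.singleFunctor A 0).obj F) := by
  have : Q = Pd P := by
    funext K
    exact propext (hQ K)
  subst this
  exact KZ4.main P hker

end Groth.Agent.Helper2.KZ6
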