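import Groth.Agent.Helper2.KZ6
import Groth.Agent.Helper2.KZ5
import Groth.Agent.Helper1.Dev1
import Groth.Agent.Lead.PerfLib5

set_option autoImplicit false

namespace Groth.Agent.Helper2.KZ7

open CategoryTheory CategoryTheory.Limits AlgebraicGeometry CategoryTheory.Pretriangulated
open Groth.Agent.Helper4 Groth.Agent.Helper2.CohQ1 Groth.Agent.Helper2.KZ2

universe u

attribute [local instance] HasDerivedCategory.standard

variable (X : Scheme.{u}) (Y' : Set X)

/-- coherent modules supported in `Y'` -/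
abbrev PS : ObjectProperty X.Modules := fun G => Coh.IsCoh G ∧ CohB1.support G ⊆ Y'

instance : ObjectProperty.IsClosedUnderIsomorphisms (PS X Y') :=
  ⟨fun e h => ⟨isCoh_of_iso e h.1, by
    rw [← Groth.Agent.Helper1.Dev.support_eq_of_iso e]; exact h.2⟩⟩

theorem ps_of_isZero {M : X.Modules} (hM : IsZero M) : PS X Y' M :=
  ⟨Groth.Agent.Lead.PerfLib.isCoh_of_isFinLocFree
    (Groth.Agent.Lead.PerfLib.isFinLocFree_of_isZero hM), by
    rw [Groth.Agent.Helper1.Dev.support_eq_empty_of_isZero _ hM]; exact Set.empty_subset _⟩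

open ZeroObject in
instance : ObjectProperty.ContainsZero (PS X Y') :=
  ⟨⟨0, isZero_zero _, ps_of_isZero X Y' (isZero_zero _)⟩⟩

theorem ps_kernel [IsLocallyNoetherian X] {M N : X.Modules} (f : M ⟶ N) (hM : PS X Y' M)
    (hN : PS X Y' N) : PS X Y' (kernel f) :=
  ⟨KZ5.isCoh_kernel X f hM.1 hN.1,
    (Groth.Agent.Helper1.Dev.support_kernel_subset f).trans hM.2⟩

open ZeroObject in
theorem main [IsNoetherian X]
    (hperf : ∀ G : X.Modules, Coh.IsCoh G → CohB1.support G ⊆ Y' → DCoh.IsPerfect (DCoh.inD X G)) :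
    ∃ φ : KZero.K0sub (fun G : X.Modules => Coh.IsCoh G ∧ CohB1.support G ⊆ Y') ≃+
        KZero.K0tr (fun K : DCoh.D X => DCoh.IsPerfect K ∧
          ∀ i : ℤ, CohB1.support (DCoh.HD K i) ⊆ Y'),
      ∀ G : X.Modules, Coh.IsCoh G → CohB1.support G ⊆ Y' →
        φ (KZero.clSub (fun G : X.Modules => Coh.IsCoh G ∧ CohB1.support G ⊆ Y') G) =
          KZero.clTr (fun K : DCoh.D X => DCoh.IsPerfect K ∧
            ∀ i : ℤ, CohB1.support (DCoh.HD K i) ⊆ Y') (DCoh.inD X G) := by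
  have hzero : ∀ K : DCoh.D X, IsZero K → DCoh.IsPerfect K := by
    intro K hK
    have h0 : IsZero (DCoh.inD X (0 : X.Modules)) :=
      (DerivedCategory.singleFunctor X.Modules 0).map_isZero (isZero_zero _)
    exact Groth.Agent.Lead.PerfLib.isPerfect_of_iso (h0.iso hK)
      (hperf _ (ps_of_isZero X Y' (isZero_zero _)).1 (ps_of_isZero X Y' (isZero_zero _)).2)
  have hQ : ∀ K : DCoh.D X, (DCoh.IsPerfect K ∧ ∀ i : ℤ, CohB1.support (DCoh.HD K i) ⊆ Y') ↔
      Pd (PS X Y') K := by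
    intro K
    constructor
    · rintro ⟨hp, hs⟩
      obtain ⟨hc, hb⟩ := Groth.Agent.Lead.PerfLib.isPerfect_bounded_coherent X K hp
      exact ⟨fun i => ⟨hc i, hs i⟩, hb⟩
    · intro hK
      refine ⟨?_, fun i => (hK.1 i).2⟩
      refine KZ6.devissage' (PS X Y') (fun K : DCoh.D X => DCoh.IsPerfect K)
        (fun e h => Groth.Agent.Lead.PerfLib.isPerfect_of_iso e h)
        (fun T hT h1 h3 => (Groth.Agent.Lead.PerfLib.isPerfect_two_out_of_three T hT).2.1 h1 h3)
        hzero ?_ K hK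
      intro n Y hY
      have h0 := hperf Y hY.1 hY.2
      exact Groth.Agent.Lead.PerfLib.isPerfect_of_iso
        (((DerivedCategory.singleFunctors X.Modules).shiftIso (-n) n 0 (by omega)).app Y)
        (Groth.Agent.Lead.PerfLib.isPerfect_shift h0 (-n))
  obtain ⟨φ, hφ⟩ := KZ6.main_of_eq (PS X Y') (fun f hM hN => ps_kernel X Y' f hM hN)
    (fun K : DCoh.D X => DCoh.IsPerfect K ∧ ∀ i : ℤ, CohB1.support (DCoh.HD K i) ⊆ Y') hQ
  exact ⟨φ, fun G h1 h2 => hφ G ⟨h1, h2⟩⟩

end Groth.Agent.Helper2.KZ7
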