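import Groth.Agent.Helper2.KZ6
import Groth.Agent.Helper6.RegPerfect
import Groth.Agent.Helper3.DRingPeel2
import Groth.Agent.S15821

set_option autoImplicit false

namespace Groth.Agent.Helper2.KZ8

open CategoryTheory CategoryTheory.Limits CategoryTheory.Pretriangulated
open Groth.Agent.Helper2.KZ1 Groth.Agent.Helper2.KZ2 Groth.Agent.Helper2.KZ3
open Groth.Agent.Helper3.DRingLib

universe u

attribute [local instance] HasDerivedCategory.standard

variable (R : Type u) [CommRing R]

/-- finite modules supported at the closed point -/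
abbrev PF [IsLocalRing R] : ObjectProperty (ModuleCat.{u} R) :=
  fun M => Module.Finite R M ∧ Module.support R M ⊆ {IsLocalRing.closedPoint R}

instance [IsLocalRing R] : ObjectProperty.IsClosedUnderIsomorphisms (PF R) :=
  ⟨fun {M N} e h => ⟨by haveI := h.1; exact Module.Finite.equiv e.toLinearEquiv, by
    rw [← e.toLinearEquiv.support_eq]; exact h.2⟩⟩

theorem pf_of_isZero [IsLocalRing R] {M : ModuleCat.{u} R} (hM : IsZero M) : PF R M := by
  haveI := ModuleCat.subsingleton_of_isZero hM
  exact ⟨Module.Finite.of_finite, by rw [Module.support_eq_empty]; exact Set.empty_subset _⟩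

open ZeroObject in
instance [IsLocalRing R] : ObjectProperty.ContainsZero (PF R) :=
  ⟨⟨0, isZero_zero _, pf_of_isZero R (isZero_zero _)⟩⟩

theorem pf_kernel [IsNoetherianRing R] [IsLocalRing R] {M N : ModuleCat.{u} R} (f : M ⟶ N)
    (hM : PF R M) : PF R (kernel f) := by
  have hinj : Function.Injective (kernel.ι f).hom :=
    (ModuleCat.mono_iff_injective _).1 inferInstance
  haveI := hM.1
  exact ⟨Module.Finite.of_injective (kernel.ι f).hom hinj,
    (Module.support_subset_of_injective _ hinj).trans hM.2⟩

theorem koszul_bounded (l : List R) :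
    DRing.VanishesOutside (Koszul.koszul R l) (-(l.length : ℤ)) 0 ∧
      DRing.TermwiseFiniteProjective (Koszul.koszul R l) := by
  induction l with
  | nil =>
    constructor
    · intro i hi
      exact HomologicalComplex.isZero_single_obj_X (ComplexShape.up ℤ) 0 (ModuleCat.of R R) i
        (by simp at hi; omega)
    · intro i
      by_cases h : i = 0
      · subst h
        let e := (HomologicalComplex.singleObjXSelf (ComplexShape.up ℤ) 0
          (ModuleCat.of R R)).toLinearEquiv
        exact ⟨Module.Finite.equiv e.symm, Module.Projective.of_equiv e.symm⟩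
      · have hz := HomologicalComplex.isZero_single_obj_X (ComplexShape.up ℤ) 0
          (ModuleCat.of R R) i h
        haveI : Subsingleton ((Koszul.koszul R []).X i) := ModuleCat.subsingleton_of_isZero hz
        exact ⟨Module.Finite.of_finite, Module.Projective.of_free⟩
  | cons f l ih =>
    constructor
    · exact cone_vanishesOutside _ _ _
        (vanishesOutside_mono _ (by push_cast [List.length_cons]; omega) (by omega) ih.1)
        (vanishesOutside_mono _ (by push_cast [List.length_cons]; omega) le_rfl ih.1)
    · exact cone_termwiseFiniteProjective _ ih.2 ih.2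

theorem koszul_perfect (l : List R) : DRing.IsPerfect R (DRing.toD (Koszul.koszul R l)) :=
  ⟨_, _, _, (koszul_bounded R l).1, (koszul_bounded R l).2, ⟨Iso.refl _⟩⟩


theorem koszul_iso [IsLocalRing R] (fs : List R)
    (hreg : RingTheory.Sequence.IsWeaklyRegular R fs)
    (hgen : Ideal.ofList fs = IsLocalRing.maximalIdeal R) :
    Nonempty (DRing.toD (Koszul.koszul R fs) ≅
      (DerivedCategory.singleFunctor (ModuleCat.{u} R) 0).obj
        (ModuleCat.of R (R ⧸ IsLocalRing.maximalIdeal R))) := by
  obtain ⟨h1, ⟨e0⟩⟩ := Groth.Agent.S15821.result R fs hreg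
  haveI : (DerivedCategory.Q.obj (Koszul.koszul R fs)).IsGE 0 := by
    rw [DerivedCategory.isGE_iff]
    intro i hi
    exact (h1 i (by omega)).of_iso
      ((DerivedCategory.homologyFunctorFactors (ModuleCat.{u} R) i).app (Koszul.koszul R fs))
  haveI : (DerivedCategory.Q.obj (Koszul.koszul R fs)).IsLE 0 := by
    rw [DerivedCategory.isLE_iff]
    intro i hi
    exact (h1 i (by omega)).of_iso
      ((DerivedCategory.homologyFunctorFactors (ModuleCat.{u} R) i).app (Koszul.koszul R fs))
  obtain ⟨Y, ⟨eY⟩⟩ := DerivedCategory.exists_iso_singleFunctor_obj_of_isGE_of_isLE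
    (DerivedCategory.Q.obj (Koszul.koszul R fs)) 0
  have eq : ModuleCat.of R (R ⧸ Ideal.ofList fs) ≅
      ModuleCat.of R (R ⧸ IsLocalRing.maximalIdeal R) :=
    (Submodule.quotEquivOfEq _ _ hgen).toModuleIso
  have eYk : Y ≅ ModuleCat.of R (R ⧸ IsLocalRing.maximalIdeal R) :=
    ((DerivedCategory.singleFunctorCompHomologyFunctorIso (ModuleCat.{u} R) 0).app Y).symm ≪≫
      (DerivedCategory.homologyFunctor (ModuleCat.{u} R) 0).mapIso eY.symm ≪≫
      (DerivedCategory.homologyFunctorFactors (ModuleCat.{u} R) 0).app (Koszul.koszul R fs) ≪≫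
      e0 ≪≫ eq
  exact ⟨eY ≪≫ (DerivedCategory.singleFunctor (ModuleCat.{u} R) 0).mapIso eYk⟩

/-- dévissage for finite modules supported at the closed point -/
theorem module_devissage [IsNoetherianRing R] [IsLocalRing R] (C : ModuleCat.{u} R → Prop)
    (hzero : ∀ M : ModuleCat.{u} R, IsZero M → C M)
    (hk : ∀ M : ModuleCat.{u} R,
      Nonempty (M ≅ ModuleCat.of R (R ⧸ IsLocalRing.maximalIdeal R)) → C M)
    (hext : ∀ S : ShortComplex (ModuleCat.{u} R), S.ShortExact → PF R S.X₁ → PF R S.X₂ →
      PF R S.X₃ → C S.X₁ → C S.X₃ → C S.X₂)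
    (M : ModuleCat.{u} R) (hM : PF R M) : C M := by
  obtain ⟨hfin, hsupp⟩ := hM
  suffices ∀ (N : Type u) [AddCommGroup N] [Module R N] (_ : Module.Finite R N),
      Module.support R N ⊆ {IsLocalRing.closedPoint R} → C (ModuleCat.of R N) from
    this M hfin hsupp
  intro N _ _ hN
  induction hN using IsNoetherianRing.induction_on_isQuotientEquivQuotientPrime R with
  | subsingleton N => intro _; exact hzero _ (ModuleCat.isZero_of_subsingleton _)
  | quotient N p f =>
    intro h
    have hp : p ∈ Module.support R N := by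
      rw [f.support_eq, Module.support_eq_zeroLocus, Ideal.annihilator_quotient]
      exact le_refl p.asIdeal
    have hpc : p = IsLocalRing.closedPoint R := h hp
    subst hpc
    exact hk _ ⟨f.toModuleIso⟩
  | exact N₁ N₂ N₃ f g hf hg hfg h₁ h₃ =>
    intro h
    have h2 := h
    rw [Module.support_of_exact hfg hf hg] at h
    have s1 : Module.support R N₁ ⊆ {IsLocalRing.closedPoint R} := fun p hp => h (Or.inl hp)
    have s3 : Module.support R N₃ ⊆ {IsLocalRing.closedPoint R} := fun p hp => h (Or.inr hp)
    let S : ShortComplex (ModuleCat.{u} R) :=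
      ShortComplex.mk (ModuleCat.ofHom f) (ModuleCat.ofHom g) (by
        ext x
        exact hfg.apply_apply_eq_zero x)
    have hS : S.ShortExact :=
      { exact := (ShortComplex.ShortExact.moduleCat_exact_iff_function_exact S).2 hfg
        mono_f := (ModuleCat.mono_iff_injective _).2 hf
        epi_g := (ModuleCat.epi_iff_surjective _).2 hg }
    exact hext S hS ⟨inferInstance, s1⟩ ⟨inferInstance, h2⟩ ⟨inferInstance, s3⟩ (h₁ s1) (h₃ s3)

end Groth.Agent.Helper2.KZ8
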