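import Groth.Agent.Helper2.KZ8

set_option autoImplicit false

namespace Groth.Agent.Helper2.KZ9

open CategoryTheory CategoryTheory.Limits CategoryTheory.Pretriangulated
open Groth.Agent.Helper2.KZ1 Groth.Agent.Helper2.KZ2 Groth.Agent.Helper2.KZ3
open Groth.Agent.Helper2.KZ8
open Groth.Agent.Helper3.DRingLib

universe u

attribute [local instance] HasDerivedCategory.standard

variable (R : Type u) [CommRing R] [IsNoetherianRing R] [IsLocalRing R]

/-- the residue field as a module -/
abbrev kk : ModuleCat.{u} R := ModuleCat.of R (R ⧸ IsLocalRing.maximalIdeal R)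

theorem pf_kk : PF R (kk R) := by
  refine ⟨inferInstanceAs (Module.Finite R (R ⧸ IsLocalRing.maximalIdeal R)), ?_⟩
  intro p hp
  change p ∈ Module.support R (R ⧸ IsLocalRing.maximalIdeal R) at hp
  rw [Module.support_eq_zeroLocus, Ideal.annihilator_quotient] at hp
  have hle : IsLocalRing.maximalIdeal R ≤ p.asIdeal := hp
  have := (IsLocalRing.maximalIdeal.isMaximal R).eq_of_le p.2.ne_top hle
  exact PrimeSpectrum.ext this.symm

section
variable (fs : List R) (hreg : RingTheory.Sequence.IsWeaklyRegular R fs)
  (hgen : Ideal.ofList fs = IsLocalRing.maximalIdeal R)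

include hreg hgen in
theorem perfect_single_zero (M : ModuleCat.{u} R) (hM : PF R M) :
    DRing.IsPerfect R ((DerivedCategory.singleFunctor (ModuleCat.{u} R) 0).obj M) := by
  refine module_devissage R
    (fun M => DRing.IsPerfect R ((DerivedCategory.singleFunctor (ModuleCat.{u} R) 0).obj M))
    ?_ ?_ ?_ M hM
  · intro M hM
    exact isPerfect_of_isZero _ ((DerivedCategory.singleFunctor (ModuleCat.{u} R) 0).map_isZero hM)
  · rintro M ⟨e⟩
    obtain ⟨ek⟩ := koszul_iso R fs hreg hgen
    exact isPerfect_of_iso (ek ≪≫ (DerivedCategory.singleFunctor (ModuleCat.{u} R) 0).mapIso e.symm)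
      (koszul_perfect R fs)
  · intro S hS _ _ _ h1 h3
    exact isPerfect_obj₂ _ hS.singleTriangle_distinguished h1 h3

include hreg hgen in
theorem perfect_single (n : ℤ) (M : ModuleCat.{u} R) (hM : PF R M) :
    DRing.IsPerfect R ((DerivedCategory.singleFunctor (ModuleCat.{u} R) n).obj M) :=
  isPerfect_of_iso
    (((DerivedCategory.singleFunctors (ModuleCat.{u} R)).shiftIso (-n) n 0 (by omega)).app M)
    (isPerfect_shift (-n) (perfect_single_zero R fs hreg hgen M hM))

include hreg hgen in
theorem hQ (K : Dual.D R) :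
    (DRing.IsPerfect R K ∧
      ∀ i : ℤ, Module.support R (Dual.HD R K i) ⊆ {IsLocalRing.closedPoint R}) ↔
      Pd (PF R) K := by
  constructor
  · rintro ⟨hp, hs⟩
    obtain ⟨⟨a, b, hb⟩, hfin⟩ := Groth.Agent.Helper6.RegPerfect.bounded_finite_of_isPerfect K hp
    refine ⟨fun i => ⟨hfin i, hs i⟩, a, b, ?_, ?_⟩
    · rw [DerivedCategory.isGE_iff]
      intro i hi
      haveI := hb i (Or.inl hi)
      exact ModuleCat.isZero_of_subsingleton _
    · rw [DerivedCategory.isLE_iff]
      intro i hi
      haveI := hb i (Or.inr hi)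
      exact ModuleCat.isZero_of_subsingleton _
  · intro hK
    refine ⟨?_, fun i => (hK.1 i).2⟩
    exact KZ6.devissage' (PF R) (fun K : Dual.D R => DRing.IsPerfect R K)
      (fun e h => isPerfect_of_iso e h)
      (fun T hT h1 h3 => isPerfect_obj₂ T hT h1 h3)
      (fun K hK => isPerfect_of_isZero K hK)
      (fun n Y hY => perfect_single R fs hreg hgen n Y hY) K hK

/-- `K₀` of finite modules supported at the closed point is generated by the residue field -/
theorem closure_kk : AddSubgroup.closure {KZero.clSub (PF R) (kk R)} = ⊤ := by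
  rw [eq_top_iff]
  rintro x -
  induction x using QuotientAddGroup.induction_on with
  | H z =>
    induction z using FreeAbelianGroup.induction_on with
    | zero => exact AddSubgroup.zero_mem _
    | of M =>
      obtain ⟨M, hM⟩ := M
      show cls (PF R) M hM ∈ _
      rw [← clSub_eq]
      refine module_devissage R
        (fun M => KZero.clSub (PF R) M ∈ AddSubgroup.closure {KZero.clSub (PF R) (kk R)})
        ?_ ?_ ?_ M hM
      · intro M hM
        rw [clSub_isZero (PF R) M hM]
        exact AddSubgroup.zero_mem _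
      · rintro M ⟨e⟩
        have hM : PF R M := ObjectProperty.prop_of_iso _ e.symm (pf_kk R)
        rw [clSub_eq _ M hM, cls_iso (PF R) e hM (pf_kk R), ← clSub_eq]
        exact AddSubgroup.subset_closure rfl
      · intro S hS p1 p2 p3 h1 h3
        rw [clSub_eq _ _ p2, cls_shortExact (PF R) S hS p1 p2 p3, ← clSub_eq, ← clSub_eq]
        exact AddSubgroup.add_mem _ h1 h3
    | neg M ih => exact AddSubgroup.neg_mem _ ih
    | add x y hx hy => exact AddSubgroup.add_mem _ hx hy

include hreg hgen in
theorem main :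
    AddSubgroup.closure
        {KZero.clTr (fun K : Dual.D R => DRing.IsPerfect R K ∧
            ∀ i : ℤ, Module.support R (Dual.HD R K i) ⊆ {IsLocalRing.closedPoint R})
          (DRing.toD (Koszul.koszul R fs))} = ⊤ := by
  have hQeq : (fun K : Dual.D R => DRing.IsPerfect R K ∧
      ∀ i : ℤ, Module.support R (Dual.HD R K i) ⊆ {IsLocalRing.closedPoint R}) = Pd (PF R) :=
    funext fun K => propext (hQ R fs hreg hgen K)
  rw [hQeq]
  obtain ⟨φ, hφ⟩ := KZ4.main (PF R) (fun f hM _ => pf_kernel R f hM)
  obtain ⟨ek⟩ := koszul_iso R fs hreg hgen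
  have hk := pf_kk R
  have h1 : KZero.clTr (Pd (PF R)) (DRing.toD (Koszul.koszul R fs)) =
      φ (KZero.clSub (PF R) (kk R)) := by
    rw [hφ _ hk, clTr_eq _ _ (pd_single 0 _ hk),
      clTr_eq _ _ (Pd.of_iso ek.symm (pd_single 0 _ hk))]
    exact clt_iso _ ek _ _
  have h2 := AddMonoidHom.map_closure φ.toAddMonoidHom {KZero.clSub (PF R) (kk R)}
  rw [closure_kk, AddSubgroup.map_top_of_surjective _ φ.surjective, Set.image_singleton] at h2
  rw [h1]
  exact h2.symm

end

end Groth.Agent.Helper2.KZ9
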