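import Mathlib

set_option autoImplicit false
universe u
open TensorProduct

namespace Groth.Agent.Helper2.KaehlerAlg

/-- A rational function field in a nonempty set of variables has nonzero differentials. -/
theorem isEmpty_of_subsingleton_kaehler_fractionRing (k : Type u) [Field k] (ι : Type u)
    [Subsingleton (Ω[FractionRing (MvPolynomial ι k)⁄k])] : IsEmpty ι := by
  let S := MvPolynomial ι k
  let L := FractionRing S
  have e : L ⊗[S] Ω[S⁄k] ≃ₗ[L] Ω[L⁄k] := KaehlerDifferential.tensorKaehlerEquivOfFormallyEtale k S L
  have b : Module.Basis ι L (L ⊗[S] Ω[S⁄k]) :=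
    (KaehlerDifferential.mvPolynomialBasis k ι).baseChange L
  have hs : Subsingleton (L ⊗[S] Ω[S⁄k]) := e.toEquiv.subsingleton
  constructor
  intro i
  exact b.ne_zero i (Subsingleton.elim _ _)

end Groth.Agent.Helper2.KaehlerAlg
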