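import Mathlib
import Groth.Prelude
import Groth.Agent.Helper1.PBasisField2

set_option autoImplicit false

namespace Groth.Agent.Helper2.KaehlerP

open EGA41 Groth.Agent.Helper1.PBasisField

universe u

section Field

variable (p : ℕ) [hp : Fact p.Prime] (k : Type u) {K : Type u} [Field k] [Field K] [Algebra k K]
  [CharP K p]

/-- in a field of characteristic `p`, an element with vanishing differential over `k` lies in
`k[K^p]`. -/
theorem mem_pPower_of_D_eq_zero (s : K) (hs : KaehlerDifferential.D k K s = 0) :
    s ∈ pPowerSubalgebra p k K := by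
  by_contra hmem
  have h1 : s ∉ IntermediateField.adjoin (pPowerSubalgebra p k K) (∅ : Set K) := by
    rw [mem_adjoin_iff, Algebra.adjoin_empty, Algebra.mem_bot]
    rintro ⟨c, hc⟩
    exact hmem (hc ▸ c.2)
  have h2 : PInd p k (insert s ∅) := pInd_insert p k ∅ (pInd_empty p k) s h1
  have h3 : IsPIndependent p k (Subtype.val : (insert s ∅ : Set K) → K) :=
    (isPIndependent_val_iff p k _).mpr h2
  have h4 := linearIndependent_D_of_isPIndependent p k _ h3
  exact h4.ne_zero ⟨s, Set.mem_insert s ∅⟩ hs

end Field

theorem s13369 (p : ℕ) [Fact p.Prime] {A : Type u} [CommRing A] [IsDomain A]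
    [IsIntegrallyClosed A] [CharP A p] (s : A) (hs : KaehlerDifferential.D ℤ A s = 0) :
    ∃ f : A, f ^ p = s := by
  haveI : CharP (FractionRing A) p :=
    charP_of_injective_algebraMap (IsFractionRing.injective A (FractionRing A)) p
  haveI : @IsScalarTower ℤ (⊥ : Subfield (FractionRing A)) (FractionRing A)
      Algebra.toSMul Algebra.toSMul Algebra.toSMul :=
    IsScalarTower.of_algebraMap_eq' (Subsingleton.elim _ _)
  have hD : KaehlerDifferential.D (⊥ : Subfield (FractionRing A)) (FractionRing A)
      (algebraMap A (FractionRing A) s) = 0 := by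
    have := KaehlerDifferential.map_D ℤ (⊥ : Subfield (FractionRing A)) A (FractionRing A) s
    rw [← this, hs, map_zero]
  have hmem := mem_pPower_of_D_eq_zero p (⊥ : Subfield (FractionRing A))
    (algebraMap A (FractionRing A) s) hD
  have hle : ∀ c ∈ pPowerSubalgebra p (⊥ : Subfield (FractionRing A)) (FractionRing A),
      c ∈ (frobenius (FractionRing A) p).fieldRange := by
    intro c hc
    unfold pPowerSubalgebra at hc
    induction hc using Algebra.adjoin_induction with
    | mem y hy =>
      obtain ⟨b, rfl⟩ := hy
      exact ⟨b, rfl⟩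
    | algebraMap r =>
      exact (bot_le : (⊥ : Subfield (FractionRing A)) ≤ _) r.2
    | add y z _ _ hy hz => exact add_mem hy hz
    | mul y z _ _ hy hz => exact mul_mem hy hz
  obtain ⟨t, ht⟩ := hle _ hmem
  rw [frobenius_def] at ht
  have hint : IsIntegral A (t ^ p) := by
    rw [ht]
    exact isIntegral_algebraMap
  obtain ⟨y, rfl⟩ := IsIntegrallyClosed.exists_algebraMap_eq_of_isIntegral_pow
    (Fact.out : p.Prime).pos hint
  refine ⟨y, ?_⟩
  apply IsFractionRing.injective A (FractionRing A)
  rw [_root_.map_pow, ht]

end Groth.Agent.Helper2.KaehlerP
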