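import Mathlib
import Groth.Prelude.Def_SGA3b
import Groth.Agent.Helper2.TorsFin4

set_option autoImplicit false

namespace Groth.Agent.Helper2.KerMT
open TensorProduct Groth.Agent.Helper2.MultTypeSemi Groth.Agent.Helper2.SemiIso

universe u

section kerquot
variable (T : Type*) [CommRing T] {M : Type*} [CommGroup M] (H : Subgroup M)

/-- the ideal generated by the `h - 1`, `h ∈ H` -/
noncomputable def augH : Ideal (MonoidAlgebra T M) :=
  Ideal.span (Set.range fun h : H => MonoidAlgebra.single (h : M) (1 : T) - 1)

/-- the class of a group element modulo `augH` -/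
noncomputable def clsH : M →* (MonoidAlgebra T M ⧸ augH T H) :=
  ((Ideal.Quotient.mk (augH T H) : MonoidAlgebra T M →+* _) : MonoidAlgebra T M →* _).comp
    (MonoidAlgebra.of T M)

lemma clsH_mem (h : M) (hh : h ∈ H) : clsH T H h = 1 := by
  have : MonoidAlgebra.single h (1 : T) - 1 ∈ augH T H :=
    Ideal.subset_span ⟨⟨h, hh⟩, rfl⟩
  have h2 := Ideal.Quotient.eq.mpr this
  simpa [clsH, MonoidAlgebra.of_apply] using h2

/-- the section of the projection modulo `augH` -/
noncomputable def secH :
    MonoidAlgebra T (M ⧸ H) →ₐ[T] (MonoidAlgebra T M ⧸ augH T H) :=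
  MonoidAlgebra.lift T _ (M ⧸ H) (QuotientGroup.lift H (clsH T H) (by
    intro x hx
    exact clsH_mem T H x hx))

lemma secH_comp :
    (secH T H : MonoidAlgebra T (M ⧸ H) →+* _).comp
      (MonoidAlgebra.mapDomainRingHom T (QuotientGroup.mk' H)) =
      Ideal.Quotient.mk (augH T H) := by
  apply MonoidAlgebra.ringHom_ext
  · intro r
    simp only [RingHom.comp_apply, RingHom.coe_coe, secH]
    simp [Algebra.smul_def]
    rfl
  · intro m
    simp [secH, clsH, MonoidAlgebra.of_apply]

lemma ker_mapDomain_mk_le (x : MonoidAlgebra T M)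
    (hx : MonoidAlgebra.mapDomain (QuotientGroup.mk' H) x = 0) : x ∈ augH T H := by
  have := RingHom.congr_fun (secH_comp T H) x
  rw [RingHom.comp_apply] at this
  have h0 : MonoidAlgebra.mapDomainRingHom T (QuotientGroup.mk' H) x = 0 := hx
  rw [h0, map_zero] at this
  exact Ideal.Quotient.eq_zero_iff_mem.mp this.symm

end kerquot

section kergen
variable (T : Type*) [CommRing T] {M Q : Type*} [CommGroup M] [CommGroup Q]

/-- the kernel of `mapDomain q` is generated by the `h - 1`, `h ∈ ker q` -/
lemma ker_mapDomain_le (q : M →* Q) (x : MonoidAlgebra T M)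
    (hx : MonoidAlgebra.mapDomain q x = 0) : x ∈ augH T q.ker := by
  apply ker_mapDomain_mk_le
  have hinj : Function.Injective (QuotientGroup.kerLift q) := QuotientGroup.kerLift_injective q
  apply MonoidAlgebra.mapDomain_injective hinj
  rw [MonoidAlgebra.mapDomain_zero]
  rw [← hx]
  have key : ∀ y : MonoidAlgebra T M, MonoidAlgebra.mapDomain (QuotientGroup.kerLift q)
      (MonoidAlgebra.mapDomain (QuotientGroup.mk' q.ker) y) = MonoidAlgebra.mapDomain q y := by
    intro y
    induction y using MonoidAlgebra.induction_linear with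
    | zero => simp
    | add a b ha hb => simp only [MonoidAlgebra.mapDomain_add, ha, hb]
    | single m r => simp
  exact key x

end kergen

section glue
variable {T : Type*} [CommRing T] {M Q : Type*} [CommGroup M] [CommGroup Q]
variable {I : Type*} [Fintype I] [DecidableEq I] (ε : I → T)
  (hε1 : ∀ i j, ε i * ε j = if i = j then ε i else 0) (hε2 : ∑ i, ε i = 1)
  (q : I → M →* Q)

include hε1 hε2 in
lemma glue_aux_one : ∑ i, MonoidAlgebra.single (1 : Q) (ε i) = (1 : MonoidAlgebra T Q) := by
  have h : ∀ i, MonoidAlgebra.single (1 : Q) (ε i) = ε i • (1 : MonoidAlgebra T Q) := by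
    intro i
    rw [MonoidAlgebra.one_def, MonoidAlgebra.smul_single, smul_eq_mul, mul_one]
  rw [Finset.sum_congr rfl (fun i _ => h i), ← Finset.sum_smul, hε2, one_smul]

include hε1 in
lemma glue_aux_mul (a b : I → Q) :
    (∑ i, MonoidAlgebra.single (a i) (ε i)) * (∑ j, MonoidAlgebra.single (b j) (ε j)) =
      ∑ i, MonoidAlgebra.single (a i * b i) (ε i : T) := by
  rw [Finset.sum_mul_sum]
  apply Finset.sum_congr rfl
  intro i _
  rw [Finset.sum_eq_single i]
  · rw [MonoidAlgebra.single_mul_single, hε1, if_pos rfl]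
  · intro j _ hj
    rw [MonoidAlgebra.single_mul_single, hε1, if_neg (fun h => hj h.symm), MonoidAlgebra.single_zero]
  · intro h; exact absurd (Finset.mem_univ i) h

/-- the glued monoid hom -/
noncomputable def glueHom : M →* MonoidAlgebra T Q where
  toFun m := ∑ i, MonoidAlgebra.single (q i m) (ε i)
  map_one' := by
    simp only [map_one]
    exact glue_aux_one ε hε1 hε2
  map_mul' m m' := by
    simp only [map_mul]
    exact (glue_aux_mul ε hε1 _ _).symm

/-- the glued projection -/
noncomputable def glue : MonoidAlgebra T M →ₐ[T] MonoidAlgebra T Q :=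
  MonoidAlgebra.lift T _ M (glueHom ε hε1 hε2 q)

lemma glue_single (m : M) (t : T) :
    glue ε hε1 hε2 q (MonoidAlgebra.single m t) =
      ∑ i, MonoidAlgebra.single (q i m) (t * ε i) := by
  rw [glue, MonoidAlgebra.lift_single]
  show t • ∑ i, MonoidAlgebra.single (q i m) (ε i) = _
  rw [Finset.smul_sum]
  apply Finset.sum_congr rfl
  intro i _
  rw [MonoidAlgebra.smul_single, smul_eq_mul]

lemma smul_glue (i : I) (x : MonoidAlgebra T M) :
    ε i • glue ε hε1 hε2 q x = ε i • MonoidAlgebra.mapDomain (q i) x := by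
  induction x using MonoidAlgebra.induction_linear with
  | zero => simp
  | add a b ha hb => simp only [map_add, MonoidAlgebra.mapDomain_add, smul_add, ha, hb]
  | single m t =>
    rw [glue_single, Finset.smul_sum, Finset.sum_eq_single i]
    · rw [MonoidAlgebra.smul_single, MonoidAlgebra.mapDomain_single, MonoidAlgebra.smul_single,
        smul_eq_mul, smul_eq_mul, mul_left_comm, hε1, if_pos rfl, mul_comm]
    · intro j _ hj
      rw [MonoidAlgebra.smul_single, smul_eq_mul, mul_left_comm, hε1, if_neg (fun h => hj h.symm),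
        mul_zero, MonoidAlgebra.single_zero]
    · intro h; exact absurd (Finset.mem_univ i) h

include hε2 in
lemma eq_sum_smul {X : Type*} [AddCommGroup X] [Module T X] (x : X) : x = ∑ i, ε i • x := by
  rw [← Finset.sum_smul, hε2, one_smul]

include hε1 hε2 in
/-- a combination of group-like elements along a complete system of orthogonal idempotents
is group-like -/
lemma isGroupLikeElem_sum_smul {B : Type*} [CommRing B] [Bialgebra T B] (y : I → B)
    (hy : ∀ i, IsGroupLikeElem T (y i)) : IsGroupLikeElem T (∑ i, ε i • y i) := by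
  constructor
  · rw [map_sum]
    have : ∀ i, Coalgebra.counit (R := T) (ε i • y i) = ε i := by
      intro i
      rw [map_smul, (hy i).counit_eq_one, smul_eq_mul, mul_one]
    rw [Finset.sum_congr rfl (fun i _ => this i), hε2]
  · rw [map_sum, TensorProduct.sum_tmul]
    apply Finset.sum_congr rfl
    intro i _
    rw [TensorProduct.tmul_sum, Finset.sum_eq_single i]
    · rw [map_smul, (hy i).comul_eq_tmul_self, TensorProduct.smul_tmul_smul, hε1, if_pos rfl,
        TensorProduct.smul_tmul']
    · intro j _ hj
      rw [TensorProduct.smul_tmul_smul, hε1, if_neg (fun h => hj h.symm), zero_smul]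
    · intro h; exact absurd (Finset.mem_univ i) h

lemma glueHom_apply (m : M) :
    glueHom ε hε1 hε2 q m = ∑ i, ε i • MonoidAlgebra.single (q i m) (1 : T) := by
  show ∑ i, MonoidAlgebra.single (q i m) (ε i) = _
  apply Finset.sum_congr rfl
  intro i _
  rw [MonoidAlgebra.smul_single, smul_eq_mul, mul_one]

lemma isGroupLikeElem_glueHom (m : M) : IsGroupLikeElem T (glueHom ε hε1 hε2 q m) := by
  rw [glueHom_apply]
  exact isGroupLikeElem_sum_smul ε hε1 hε2 _
    (fun i => MonoidAlgebra.isGroupLikeElem_single_one (R := T) (A := T) (q i m))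

lemma glue_single' (m : M) (t : T) :
    glue ε hε1 hε2 q (MonoidAlgebra.single m t) = t • glueHom ε hε1 hε2 q m := by
  rw [glue, MonoidAlgebra.lift_single]

lemma isSemiCoalg_glue : IsSemiCoalg T T (glue ε hε1 hε2 q) := by
  constructor
  · intro x
    induction x using MonoidAlgebra.induction_linear with
    | zero => simp
    | add a b ha hb => simp only [map_add, ha, hb]
    | single m t =>
      rw [glue_single', map_smul, (isGroupLikeElem_glueHom ε hε1 hε2 q m).counit_eq_one]
      simp
  · intro x
    induction x using MonoidAlgebra.induction_linear with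
    | zero => simp
    | add a b ha hb => simp only [map_add, ha, hb]
    | single m t =>
      rw [glue_single', map_smul, (isGroupLikeElem_glueHom ε hε1 hε2 q m).comul_eq_tmul_self]
      simp only [MonoidAlgebra.comul_single, CommSemiring.comul_apply,
        TensorProduct.map_tmul, MonoidAlgebra.lsingle_apply, semiMap_tmul, AlgHom.toLinearMap_apply]
      rw [glue_single', glue_single', one_smul, TensorProduct.tmul_smul]

lemma glue_sum_single (a : I → M) (t : T) :
    glue ε hε1 hε2 q (∑ i, MonoidAlgebra.single (a i) (t * ε i)) =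
      ∑ i, MonoidAlgebra.single (q i (a i)) (t * ε i) := by
  rw [map_sum]
  apply Finset.sum_congr rfl
  intro i _
  rw [glue_single, Finset.sum_eq_single i]
  · rw [mul_assoc, hε1, if_pos rfl]
  · intro j _ hj
    rw [mul_assoc, hε1, if_neg (fun h => hj h.symm), mul_zero, MonoidAlgebra.single_zero]
  · intro h; exact absurd (Finset.mem_univ i) h

include hε2 in
lemma sum_single_const (k : Q) (t : T) :
    ∑ i, MonoidAlgebra.single k (t * ε i) = (MonoidAlgebra.single k t : MonoidAlgebra T Q) := by
  have h : ∀ i, (MonoidAlgebra.single k (t * ε i) : MonoidAlgebra T Q) =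
      ε i • MonoidAlgebra.single k t := by
    intro i
    rw [MonoidAlgebra.smul_single, smul_eq_mul, mul_comm]
  rw [Finset.sum_congr rfl (fun i _ => h i), ← Finset.sum_smul, hε2, one_smul]

lemma glue_surjective (hq : ∀ i, ε i ≠ 0 → Function.Surjective (q i)) :
    Function.Surjective (glue ε hε1 hε2 q) := by
  intro y
  induction y using MonoidAlgebra.induction_linear with
  | zero => exact ⟨0, map_zero _⟩
  | add a b ha hb =>
    obtain ⟨a', rfl⟩ := ha
    obtain ⟨b', rfl⟩ := hb
    exact ⟨a' + b', map_add _ _ _⟩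
  | single k t =>
    have h : ∀ i, ∃ m, ε i ≠ 0 → q i m = k := by
      intro i
      by_cases h0 : ε i = 0
      · exact ⟨1, fun h' => absurd h0 h'⟩
      · obtain ⟨m, hm⟩ := hq i h0 k
        exact ⟨m, fun _ => hm⟩
    choose m hm using h
    refine ⟨∑ i, MonoidAlgebra.single (m i) (t * ε i), ?_⟩
    rw [glue_sum_single, ← sum_single_const ε hε2 k t]
    apply Finset.sum_congr rfl
    intro i _
    by_cases h0 : ε i = 0
    · rw [h0, mul_zero, MonoidAlgebra.single_zero, MonoidAlgebra.single_zero]
    · rw [hm i h0]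

end glue

section glue2
variable {T : Type*} [CommRing T] {M Q N : Type*} [CommGroup M] [CommGroup Q] [CommGroup N]
variable {I : Type*} [Fintype I] [DecidableEq I] (ε : I → T)
  (hε1 : ∀ i j, ε i * ε j = if i = j then ε i else 0) (hε2 : ∑ i, ε i = 1)
  (q : I → M →* Q) (f : I → N →* M)

/-- the expected image of the character `n` -/
noncomputable def xx (n : N) : MonoidAlgebra T M := ∑ i, MonoidAlgebra.single (f i n) (ε i)

lemma glue_xx (hqf : ∀ i, ε i ≠ 0 → ∀ n, q i (f i n) = 1) (n : N) :
    glue ε hε1 hε2 q (xx ε f n) = 1 := by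
  have h1 : xx ε f n = ∑ i, MonoidAlgebra.single (f i n) (1 * ε i) := by
    simp only [one_mul]; rfl
  rw [h1, glue_sum_single, MonoidAlgebra.one_def, ← sum_single_const ε hε2 1 1]
  apply Finset.sum_congr rfl
  intro i _
  by_cases h0 : ε i = 0
  · rw [h0, mul_zero, MonoidAlgebra.single_zero, MonoidAlgebra.single_zero]
  · rw [hqf i h0]

include hε1 in
lemma smul_xx (i : I) (n : N) :
    ε i • xx ε f n = ε i • (MonoidAlgebra.single (f i n) (1 : T) : MonoidAlgebra T M) := by
  rw [xx, Finset.smul_sum, Finset.sum_eq_single i]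
  · rw [MonoidAlgebra.smul_single, MonoidAlgebra.smul_single, smul_eq_mul, smul_eq_mul, hε1,
      if_pos rfl, mul_one]
  · intro j _ hj
    rw [MonoidAlgebra.smul_single, smul_eq_mul, hε1, if_neg (fun h => hj h.symm),
      MonoidAlgebra.single_zero]
  · intro h; exact absurd (Finset.mem_univ i) h

/-- the ideal generated by the `xx n - 1` -/
noncomputable def Jxx : Ideal (MonoidAlgebra T M) :=
  Ideal.span (Set.range fun n : N => xx ε f n - 1)

include hε1 in
lemma smul_mem_Jxx (i : I) (hker : (q i).ker ≤ (f i).range) (y : MonoidAlgebra T M)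
    (hy : y ∈ augH T (q i).ker) : ε i • y ∈ Jxx ε f := by
  unfold augH at hy
  induction hy using Submodule.span_induction with
  | mem y hy =>
    obtain ⟨⟨h, hh⟩, rfl⟩ := hy
    obtain ⟨n, rfl⟩ := hker hh
    have : ε i • ((MonoidAlgebra.single (f i n) (1 : T) : MonoidAlgebra T M) - 1) =
        ε i • (xx ε f n - 1) := by
      rw [smul_sub, smul_sub, smul_xx ε hε1 f]
    show ε i • ((MonoidAlgebra.single (f i n) (1 : T) : MonoidAlgebra T M) - 1) ∈ _
    rw [this]
    exact Submodule.smul_of_tower_mem _ _ (Ideal.subset_span ⟨n, rfl⟩)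
  | zero => rw [smul_zero]; exact zero_mem _
  | add a b _ _ ha hb => rw [smul_add]; exact add_mem ha hb
  | smul a y _ hy =>
    rw [smul_eq_mul, ← mul_smul_comm]
    exact Ideal.mul_mem_left _ _ hy

theorem ker_glue_le (hker : ∀ i, ε i ≠ 0 → (q i).ker ≤ (f i).range) (x : MonoidAlgebra T M)
    (hx : glue ε hε1 hε2 q x = 0) : x ∈ Jxx ε f := by
  rw [eq_sum_smul ε hε2 x]
  apply Submodule.sum_mem
  intro i _
  by_cases h0 : ε i = 0
  · rw [h0, zero_smul]; exact zero_mem _
  · have h1 : MonoidAlgebra.mapDomain (q i) (ε i • x) = 0 := by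
      have h2 : MonoidAlgebra.mapDomain (q i) (ε i • x) =
          ε i • MonoidAlgebra.mapDomain (q i) x := by
        have := map_smul (MonoidAlgebra.mapDomainAlgHom T T (q i)) (ε i) x
        simpa using this
      rw [h2, ← smul_glue ε hε1 hε2 q, hx, smul_zero]
    have h3 := ker_mapDomain_le T (q i) _ h1
    have h4 := smul_mem_Jxx ε hε1 q f i (hker i h0) _ h3
    rw [smul_smul, hε1, if_pos rfl] at h4
    exact h4

end glue2

end Groth.Agent.Helper2.KerMT
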