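import Mathlib
import Groth.Prelude.Def_SGA3b
import Groth.Agent.Helper2.KerMT1
import Groth.Agent.Helper2.TorsFin2

set_option autoImplicit false

namespace Groth.Agent.Helper2.KerMT
open TensorProduct Groth.Agent.Helper2.MultTypeSemi Groth.Agent.Helper2.SemiIso
  Groth.Agent.Helper2.NilLift Groth.Agent.Helper2.TorsFin

universe u

section quotchart
variable {R : Type*} [CommRing R] {A : Type*} [CommRing A] [HopfAlgebra R A]
variable {T : Type*} [CommRing T] [Algebra R T] {M Q : Type*} [CommGroup M] [CommGroup Q]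
  {θ : A →ₐ[R] MonoidAlgebra T M} (π : MonoidAlgebra T M →ₐ[T] MonoidAlgebra T Q)
variable (J : Ideal A) [J.IsHopfIdeal R]

/-- the chart of a closed subgroup cut out, in a chart, by the kernel of a surjective
bialgebra map of group algebras -/
theorem exists_quotChart (hθ : IsSemiIso R T θ) (hπ : IsSemiCoalg T T π)
    (hsurj : Function.Surjective π)
    (hmap : Ideal.map (θ : A →+* MonoidAlgebra T M) J =
      RingHom.ker (π : MonoidAlgebra T M →+* MonoidAlgebra T Q)) :
    ∃ χ : (A ⧸ J) →ₐ[R] MonoidAlgebra T Q, IsSemiIso R T χ := by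
  let pre : A →ₐ[R] MonoidAlgebra T Q := (π.restrictScalars R).comp θ
  have hpre : IsSemiCoalg R T pre := hθ.1.comp R T T hπ
  have hpre0 : ∀ a ∈ J, pre a = 0 := by
    intro a ha
    have h1 : (θ : A →+* MonoidAlgebra T M) a ∈ Ideal.map (θ : A →+* MonoidAlgebra T M) J :=
      Ideal.mem_map_of_mem _ ha
    rw [hmap, RingHom.mem_ker] at h1
    exact h1
  let χ : (A ⧸ J) →ₐ[R] MonoidAlgebra T Q := Ideal.Quotient.liftₐ J pre hpre0
  have hχmk : ∀ a, χ (Ideal.Quotient.mk J a) = π (θ a) := fun a => rfl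
  refine ⟨χ, isSemiCoalg_lift J hpre _, ?_⟩
  let Θ : T ⊗[R] A →ₐ[T] MonoidAlgebra T M := liftMap R T θ
  have hΘ : Function.Bijective Θ := liftMap_bijective hθ
  let qq : T ⊗[R] A →ₐ[T] T ⊗[R] (A ⧸ J) :=
    Algebra.TensorProduct.map (AlgHom.id T T) (Ideal.Quotient.mkₐ R J)
  have hq : Function.Surjective qq := by
    have : ⇑qq = ⇑(LinearMap.lTensor T (Ideal.Quotient.mkₐ R J).toLinearMap) := by
      ext z
      induction z using TensorProduct.induction_on with
      | zero => simp
      | add x y hx hy => simp only [map_add, hx, hy]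
      | tmul t a => rfl
    rw [this]
    exact LinearMap.lTensor_surjective T (Ideal.Quotient.mkₐ_surjective R J)
  set X := LinearMap.liftBaseChange T χ.toLinearMap with hX
  have hcomm : ∀ z, X (qq z) = π (Θ z) := by
    intro z
    induction z using TensorProduct.induction_on with
    | zero => simp
    | add x y hx hy => simp only [map_add, hx, hy]
    | tmul t a =>
      have h1 : qq (t ⊗ₜ[R] a) = t ⊗ₜ[R] (Ideal.Quotient.mk J a) := rfl
      rw [h1, hX, LinearMap.liftBaseChange_tmul, AlgHom.toLinearMap_apply, hχmk]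
      show t • π (θ a) = π (liftMap R T θ (t ⊗ₜ[R] a))
      rw [liftMap_tmul, map_smul]
  constructor
  · rw [injective_iff_map_eq_zero]
    intro zb hzb
    obtain ⟨z, rfl⟩ := hq zb
    rw [hcomm] at hzb
    have h1 : Θ z ∈ Ideal.map (θ : A →+* MonoidAlgebra T M) J := by
      rw [hmap, RingHom.mem_ker]
      exact hzb
    have h2 : (θ : A →+* MonoidAlgebra T M) = (Θ : T ⊗[R] A →+* MonoidAlgebra T M).comp
        (Algebra.TensorProduct.includeRight : A →ₐ[R] T ⊗[R] A) := by
      ext a
      simp [Θ]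
    rw [h2, ← Ideal.map_map] at h1
    have h3 : z ∈ Ideal.map ((Algebra.TensorProduct.includeRight : A →ₐ[R] T ⊗[R] A) : A →+* _)
        J := by
      obtain ⟨w, hw, hwz⟩ := (Ideal.mem_map_iff_of_surjective _ hΘ.2).mp h1
      rw [← hΘ.1 hwz]
      exact hw
    have h4 : Ideal.map ((Algebra.TensorProduct.includeRight : A →ₐ[R] T ⊗[R] A) : A →+* _)
        J ≤ RingHom.ker (qq : T ⊗[R] A →+* T ⊗[R] (A ⧸ J)) := by
      rw [Ideal.map_le_iff_le_comap]
      intro a ha
      rw [Ideal.mem_comap, RingHom.mem_ker]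
      show qq ((1 : T) ⊗ₜ[R] a) = 0
      have : qq ((1 : T) ⊗ₜ[R] a) = (1 : T) ⊗ₜ[R] (Ideal.Quotient.mk J a) := rfl
      rw [this, Ideal.Quotient.eq_zero_iff_mem.mpr ha, TensorProduct.tmul_zero]
    exact h4 h3
  · intro y
    obtain ⟨x, rfl⟩ := hsurj y
    obtain ⟨z, rfl⟩ := hΘ.2 x
    exact ⟨qq z, by rw [hcomm]⟩

end quotchart

section kerchart
variable {R : Type*} [CommRing R] {A : Type*} [CommRing A] [HopfAlgebra R A]
  {C : Type*} [CommRing C] [HopfAlgebra R C] (φ : C →ₐc[R] A)
variable {T : Type*} [CommRing T] [Algebra R T] {M N Q : Type*} [CommGroup M] [CommGroup N]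
  [CommGroup Q]
  (θA : A →ₐ[R] MonoidAlgebra T M) (θC : C →ₐ[R] MonoidAlgebra T N)
variable (J : Ideal A) [J.IsHopfIdeal R]

/-- `y` is the image of the character `n` under the map of charts induced by `φ` -/
def Hx (n : N) (y : MonoidAlgebra T M) : Prop :=
  ∃ z : T ⊗[R] C, liftMap R T θC z = MonoidAlgebra.single n 1 ∧
    liftMap R T θA (Algebra.TensorProduct.map (AlgHom.id T T) (φ : C →ₐ[R] A) z) = y

variable {θA θC}

/-- the difference between the transported map and the counit lies in the extended ideal -/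
lemma sub_counit_mem (hθC : IsSemiIso R T θC)
    (hJ : J = Ideal.map φ (RingHom.ker (Bialgebra.counitAlgHom R C))) (z : T ⊗[R] C) :
    liftMap R T θA (Algebra.TensorProduct.map (AlgHom.id T T) (φ : C →ₐ[R] A) z) -
      algebraMap T (MonoidAlgebra T M) (Coalgebra.counit (R := T) (liftMap R T θC z)) ∈
      Ideal.map (θA : A →+* MonoidAlgebra T M) J := by
  induction z using TensorProduct.induction_on with
  | zero => simp
  | add x y hx hy =>
    simp only [map_add]
    rw [add_sub_add_comm]
    exact add_mem hx hy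
  | tmul t c =>
    have h1 : liftMap R T θA (Algebra.TensorProduct.map (AlgHom.id T T) (φ : C →ₐ[R] A)
        (t ⊗ₜ[R] c)) = t • θA (φ c) := by
      rw [Algebra.TensorProduct.map_tmul, liftMap_tmul]
      rfl
    have h2 : Coalgebra.counit (R := T) (liftMap R T θC (t ⊗ₜ[R] c)) =
        t * algebraMap R T (Coalgebra.counit (R := R) c) := by
      rw [liftMap_tmul, map_smul, hθC.1.counit, smul_eq_mul]
    have h3 : t • θA (φ c) - algebraMap T (MonoidAlgebra T M)
        (t * algebraMap R T (Coalgebra.counit (R := R) c)) =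
        algebraMap T (MonoidAlgebra T M) t *
          θA (φ (c - algebraMap R C (Coalgebra.counit (R := R) c))) := by
      rw [map_sub, map_sub, AlgHomClass.commutes φ, AlgHom.commutes, mul_sub, ← Algebra.smul_def,
        map_mul, ← IsScalarTower.algebraMap_apply R T (MonoidAlgebra T M)]
    rw [h1, h2, h3]
    apply Ideal.mul_mem_left
    apply Ideal.mem_map_of_mem
    rw [hJ]
    refine Ideal.mem_map_of_mem _ ?_
    rw [RingHom.mem_ker, map_sub, AlgHom.commutes]
    simp

variable {I : Type*} [Fintype I] [DecidableEq I] (ε : I → T)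
  (hε1 : ∀ i j, ε i * ε j = if i = j then ε i else 0) (hε2 : ∑ i, ε i = 1)
  (q : I → M →* Q) (f : I → N →* M)

/-- the glued projection composed with the transported map is the counit -/
lemma glue_comp_eq_counit (hθC : IsSemiIso R T θC)
    (hqf : ∀ i, ε i ≠ 0 → ∀ n, q i (f i n) = 1)
    (hx : ∀ n, Hx φ θA θC n (xx ε f n)) (z : T ⊗[R] C) :
    glue ε hε1 hε2 q (liftMap R T θA
      (Algebra.TensorProduct.map (AlgHom.id T T) (φ : C →ₐ[R] A) z)) =
      algebraMap T (MonoidAlgebra T Q) (Coalgebra.counit (R := T) (liftMap R T θC z)) := by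
  have hb : Function.Bijective (liftMap R T θC) := liftMap_bijective hθC
  have key : ∀ y : MonoidAlgebra T N, ∀ z : T ⊗[R] C, liftMap R T θC z = y →
      glue ε hε1 hε2 q (liftMap R T θA
        (Algebra.TensorProduct.map (AlgHom.id T T) (φ : C →ₐ[R] A) z)) =
      algebraMap T (MonoidAlgebra T Q) (Coalgebra.counit (R := T) y) := by
    intro y
    induction y using MonoidAlgebra.induction_linear with
    | zero =>
      intro z hz
      have : z = 0 := hb.1 (by rw [hz, map_zero])
      rw [this]; simp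
    | add a b ha hb' =>
      intro z hz
      obtain ⟨za, hza⟩ := hb.2 a
      obtain ⟨zb, hzb⟩ := hb.2 b
      have : z = za + zb := hb.1 (by rw [hz, map_add, hza, hzb])
      rw [this]
      simp only [map_add]
      rw [ha za hza, hb' zb hzb]
    | single n t =>
      intro z hz
      obtain ⟨zn, hzn1, hzn2⟩ := hx n
      have : z = t • zn := by
        apply hb.1
        rw [hz, map_smul, hzn1, MonoidAlgebra.smul_single, smul_eq_mul, mul_one]
      rw [this, map_smul, map_smul, map_smul, hzn2, glue_xx ε hε1 hε2 q f hqf]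
      simp [Algebra.smul_def]
  exact key _ z rfl

include hε1 hε2 in
/-- the chart of the kernel of a homomorphism of groups of multiplicative type which, in charts,
is glued from finitely many homomorphisms of the character groups -/
theorem exists_kerChart (hθA : IsSemiIso R T θA) (hθC : IsSemiIso R T θC)
    (hJ : J = Ideal.map φ (RingHom.ker (Bialgebra.counitAlgHom R C)))
    (hq : ∀ i, ε i ≠ 0 → Function.Surjective (q i) ∧ (q i).ker = (f i).range)
    (hx : ∀ n, Hx φ θA θC n (xx ε f n)) :
    ∃ χ : (A ⧸ J) →ₐ[R] MonoidAlgebra T Q, IsSemiIso R T χ := by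
  have hqf : ∀ i, ε i ≠ 0 → ∀ n, q i (f i n) = 1 := by
    intro i hi n
    have : f i n ∈ (q i).ker := by
      rw [(hq i hi).2]
      exact ⟨n, rfl⟩
    exact this
  apply exists_quotChart (glue ε hε1 hε2 q) J hθA (isSemiCoalg_glue ε hε1 hε2 q)
    (glue_surjective ε hε1 hε2 q (fun i hi => (hq i hi).1))
  apply le_antisymm
  · rw [hJ, Ideal.map_le_iff_le_comap, Ideal.map_le_iff_le_comap]
    intro c hc
    rw [Ideal.mem_comap, Ideal.mem_comap, RingHom.mem_ker]
    have h1 := glue_comp_eq_counit φ ε hε1 hε2 q f hθC hqf hx ((1 : T) ⊗ₜ[R] c)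
    simp only [Algebra.TensorProduct.map_tmul, liftMap_tmul, AlgHom.coe_id, id_eq,
      one_smul] at h1
    rw [hθC.1.counit] at h1
    have hc' : Coalgebra.counit (R := R) c = 0 := hc
    rw [hc', map_zero, map_zero] at h1
    exact h1
  · intro x hx'
    have h1 : x ∈ Jxx ε f :=
      ker_glue_le ε hε1 hε2 q f (fun i hi => (hq i hi).2.le) x hx'
    refine (Ideal.span_le.mpr ?_ : Jxx ε f ≤ _) h1
    rintro _ ⟨n, rfl⟩
    obtain ⟨zn, hzn1, hzn2⟩ := hx n
    have h2 := sub_counit_mem (θA := θA) φ J hθC hJ zn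
    have h3 : algebraMap T (MonoidAlgebra T M) (Coalgebra.counit (R := T)
        (MonoidAlgebra.single n (1 : T) : MonoidAlgebra T N)) = 1 := by
      rw [MonoidAlgebra.counit_single]
      simp [MonoidAlgebra.one_def]
    rw [hzn1, hzn2, h3] at h2
    exact h2

end kerchart

end Groth.Agent.Helper2.KerMT
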