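import Mathlib
import Groth.Prelude.Def_SGA3b
import Groth.Agent.Helper2.KerMT2

set_option autoImplicit false

namespace Groth.Agent.Helper2.KerMT
open TensorProduct Groth.Agent.Helper2.MultTypeSemi Groth.Agent.Helper2.SemiIso
  Groth.Agent.Helper2.NilLift Groth.Agent.Helper2.TorsFin Groth.Agent.Helper2.NilSplit

universe u

section bc
variable {R : Type*} [CommRing R]
variable {T : Type*} [CommRing T] [Algebra R T] {T' : Type*} [CommRing T'] [Algebra R T']
  [Algebra T T'] [IsScalarTower R T T']

/-- base change of tensors -/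
noncomputable def bcT (X : Type*) [CommRing X] [Algebra R X] : T ⊗[R] X →ₐ[R] T' ⊗[R] X :=
  Algebra.TensorProduct.map ((Algebra.ofId T T').restrictScalars R) (AlgHom.id R X)

@[simp] lemma bcT_tmul (X : Type*) [CommRing X] [Algebra R X] (t : T) (x : X) :
    bcT (T := T) (T' := T') X (t ⊗ₜ[R] x) = algebraMap T T' t ⊗ₜ[R] x := rfl

lemma liftMap_bcT {X : Type*} [CommRing X] [Bialgebra R X] {P : Type*} [CommGroup P]
    (θ : X →ₐ[R] MonoidAlgebra T P) (z : T ⊗[R] X) :
    liftMap R T' (((rho T T' P).restrictScalars R).comp θ) (bcT (T := T) (T' := T') X z) =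
      rho T T' P (liftMap R T θ z) := by
  induction z using TensorProduct.induction_on with
  | zero => simp
  | add x y hx hy => simp only [map_add, hx, hy]
  | tmul t x =>
    rw [bcT_tmul, liftMap_tmul, liftMap_tmul, map_smul, algebraMap_smul]
    rfl

lemma bcT_map {X Y : Type*} [CommRing X] [Algebra R X] [CommRing Y] [Algebra R Y]
    (ψ : X →ₐ[R] Y) (z : T ⊗[R] X) :
    bcT (T := T) (T' := T') Y (Algebra.TensorProduct.map (AlgHom.id T T) ψ z) =
      Algebra.TensorProduct.map (AlgHom.id T' T') ψ (bcT (T := T) (T' := T') X z) := by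
  induction z using TensorProduct.induction_on with
  | zero => simp
  | add x y hx hy => simp only [map_add, hx, hy]
  | tmul t x => rfl

variable {A : Type*} [CommRing A] [HopfAlgebra R A]
  {C : Type*} [CommRing C] [HopfAlgebra R C] (φ : C →ₐc[R] A)
variable {M N : Type*} [CommGroup M] [CommGroup N]
  {θA : A →ₐ[R] MonoidAlgebra T M} {θC : C →ₐ[R] MonoidAlgebra T N}

/-- base change of the relation `Hx` -/
lemma Hx.map {n : N} {y : MonoidAlgebra T M} (h : Hx φ θA θC n y) :
    Hx φ (((rho T T' M).restrictScalars R).comp θA) (((rho T T' N).restrictScalars R).comp θC) n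
      (rho T T' M y) := by
  obtain ⟨z, hz1, hz2⟩ := h
  refine ⟨bcT (T := T) (T' := T') C z, ?_, ?_⟩
  · rw [liftMap_bcT, hz1, rho_single, map_one]
  · rw [← bcT_map, liftMap_bcT, hz2]

lemma rho_xx {I : Type*} [Fintype I] (ε : I → T) (f : I → N →* M) (n : N) :
    rho T T' M (xx ε f n) = xx (fun i => algebraMap T T' (ε i)) f n := by
  rw [xx, xx, map_sum]
  apply Finset.sum_congr rfl
  intro i _
  rw [rho_single]

end bc

section equiv
variable {R : Type*} [CommRing R] {B : Type*} [CommRing B] [HopfAlgebra R B]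
variable {K : Type*} [CommRing K] [Algebra R K] {Q : Type*} [CommGroup Q]

/-- a chart gives a bialgebra isomorphism after base change -/
lemma nonempty_bialgEquiv_of_isSemiIso {χ : B →ₐ[R] MonoidAlgebra K Q} (hχ : IsSemiIso R K χ) :
    Nonempty (K ⊗[R] B ≃ₐc[K] MonoidAlgebra K Q) := by
  have h2 : IsSemiIso K K (liftMap R K χ) := hχ.lift R K K
  have hb : Function.Bijective (liftMap R K χ) := liftMap_bijective hχ
  let ΛB : K ⊗[R] B →ₐc[K] MonoidAlgebra K Q := bialgHomOfSemi (liftMap R K χ) h2.1
  exact ⟨{ (ΛB : K ⊗[R] B →ₐc[K] MonoidAlgebra K Q), Equiv.ofBijective ΛB hb with }⟩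

end equiv

section dom
variable {K : Type*} [CommRing K] [IsDomain K] {Q Q' : Type*} [CommGroup Q] [CommGroup Q']

/-- over a domain, isomorphic group algebras (as bialgebras) have isomorphic groups -/
lemma nonempty_mulEquiv_of_bialgEquiv (e : MonoidAlgebra K Q ≃ₐc[K] MonoidAlgebra K Q') :
    Nonempty (Q ≃* Q') := by
  let g : Q →* Q' := MonoidAlgebra.mapDomainOfBialgHom (e : MonoidAlgebra K Q →ₐc[K] MonoidAlgebra K Q')
  let g' : Q' →* Q :=
    MonoidAlgebra.mapDomainOfBialgHom (e.symm : MonoidAlgebra K Q' →ₐc[K] MonoidAlgebra K Q)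
  have h1 : g'.comp g = MonoidHom.id Q := by
    rw [← MonoidAlgebra.mapDomainOfBialgHom_comp, ← MonoidAlgebra.mapDomainOfBialgHom_id (R := K)]
    congr 1
    refine DFunLike.ext _ _ (fun x => ?_)
    exact e.symm_apply_apply x
  have h2 : g.comp g' = MonoidHom.id Q' := by
    rw [← MonoidAlgebra.mapDomainOfBialgHom_comp, ← MonoidAlgebra.mapDomainOfBialgHom_id (R := K)]
    congr 1
    refine DFunLike.ext _ _ (fun x => ?_)
    exact e.apply_symm_apply x
  exact ⟨MonoidHom.toMulEquiv g g' h1 h2⟩

end dom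

section pdata
variable {R : Type*} [CommRing R] {A : Type*} [CommRing A] [HopfAlgebra R A]
  {C : Type*} [CommRing C] [HopfAlgebra R C] (φ : C →ₐc[R] A)
variable {T : Type*} [CommRing T] [Algebra R T] {M N : Type*} [CommGroup M] [CommGroup N]
  (θA : A →ₐ[R] MonoidAlgebra T M) (θC : C →ₐ[R] MonoidAlgebra T N)

/-- the homomorphism of charts induced by `φ` is glued from the homomorphisms `f i` of the
character groups along the complete system of orthogonal idempotents `ε` -/
structure PData (I : Type*) [Fintype I] [DecidableEq I] where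
  ε : I → T
  orth : ∀ i j, ε i * ε j = if i = j then ε i else 0
  sum : ∑ i, ε i = 1
  f : I → N →* M
  hx : ∀ n, Hx φ θA θC n (xx ε f n)

variable {φ θA θC} {I : Type*} [Fintype I] [DecidableEq I]

/-- base change of the gluing data -/
noncomputable def PData.map (D : PData φ θA θC I) (T' : Type*) [CommRing T'] [Algebra R T']
    [Algebra T T'] [IsScalarTower R T T'] :
    PData φ (((rho T T' M).restrictScalars R).comp θA)
      (((rho T T' N).restrictScalars R).comp θC) I where
  ε i := algebraMap T T' (D.ε i)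
  orth i j := by
    rw [← map_mul, D.orth]
    split_ifs <;> simp
  sum := by rw [← map_sum, D.sum, map_one]
  f := D.f
  hx n := by
    have := (D.hx n).map (T' := T') φ
    rwa [rho_xx] at this

variable (J : Ideal A) [J.IsHopfIdeal R]

/-- the type of the kernel over a domain-valued point of the chart -/
theorem PData.fibre_equiv (D : PData φ θA θC I) (hθA : IsSemiIso R T θA) (hθC : IsSemiIso R T θC)
    (hJ : J = Ideal.map φ (RingHom.ker (Bialgebra.counitAlgHom R C)))
    {K : Type*} [CommRing K] [IsDomain K] [Algebra R K] (a : T →ₐ[R] K) (μ : I)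
    (hμ : a (D.ε μ) ≠ 0) :
    Nonempty (K ⊗[R] (A ⧸ J) ≃ₐc[K] MonoidAlgebra K (M ⧸ (D.f μ).range)) := by
  letI : Algebra T K := a.toRingHom.toAlgebra
  haveI : IsScalarTower R T K := IsScalarTower.of_algebraMap_eq (fun r => (a.commutes r).symm)
  let D' := D.map K
  have hθA' : IsSemiIso R K (((rho T K M).restrictScalars R).comp θA) :=
    isSemiIso_rho_comp (T₂ := K) hθA
  have hθC' : IsSemiIso R K (((rho T K N).restrictScalars R).comp θC) :=
    isSemiIso_rho_comp (T₂ := K) hθC
  have hε' : ∀ i, D'.ε i = a (D.ε i) := fun i => rfl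
  have h1 : D'.ε μ = 1 := by
    have h := D'.orth μ μ
    rw [if_pos rfl] at h
    have h2 : D'.ε μ * (D'.ε μ - 1) = 0 := by rw [mul_sub, h, mul_one, sub_self]
    rcases mul_eq_zero.mp h2 with h3 | h3
    · exact absurd h3 (by rw [hε']; exact hμ)
    · exact sub_eq_zero.mp h3
  have h0 : ∀ ν, ν ≠ μ → D'.ε ν = 0 := by
    intro ν hν
    have h := D'.orth ν μ
    rw [if_neg hν, h1, mul_one] at h
    exact h
  let q : I → M →* (M ⧸ (D.f μ).range) :=
    fun ν => if ν = μ then QuotientGroup.mk' (D.f μ).range else 1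
  have hq : ∀ i, D'.ε i ≠ 0 → Function.Surjective (q i) ∧ (q i).ker = (D'.f i).range := by
    intro i hi
    have hiμ : i = μ := by
      by_contra hne
      exact hi (h0 i hne)
    subst hiμ
    have hqi : q i = QuotientGroup.mk' (D.f i).range := by simp [q]
    rw [hqi]
    exact ⟨QuotientGroup.mk'_surjective _, QuotientGroup.ker_mk' _⟩
  obtain ⟨χ, hχ⟩ := exists_kerChart φ J D'.ε D'.orth D'.sum q D'.f hθA' hθC' hJ hq D'.hx
  exact nonempty_bialgEquiv_of_isSemiIso hχ

end pdata

end Groth.Agent.Helper2.KerMT
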