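import Mathlib
import Groth.Prelude.Def_SGA3b
import Groth.Agent.Helper2.KerMT3

set_option autoImplicit false

namespace Groth.Agent.Helper2.KerMT
open TensorProduct Groth.Agent.Helper2.MultTypeSemi Groth.Agent.Helper2.SemiIso
  Groth.Agent.Helper2.NilLift Groth.Agent.Helper2.TorsFin Groth.Agent.Helper2.NilSplit
  Groth.Agent.Helper2.GLike Groth.Agent.Helper2.DiagSpan

universe u

section prime
variable {T : Type*} [CommRing T]

lemma exists_prime_notMem_of_idem {e : T} (he : IsIdempotentElem e) (h0 : e ≠ 0) :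
    ∃ 𝔮 : Ideal T, 𝔮.IsPrime ∧ e ∉ 𝔮 := by
  by_contra hcon
  push_neg at hcon
  apply h0
  apply he.eq_zero_of_isNilpotent
  rw [← mem_nilradical, nilradical_eq_sInf, Ideal.mem_sInf]
  intro 𝔮 h𝔮
  exact hcon 𝔮 h𝔮

end prime

section dom
variable {D : Type*} [CommRing D] [IsDomain D] {M N : Type*} [CommGroup M] [CommGroup N]

/-- over a domain, a monoid hom into the group-like elements of a group algebra is given by a
homomorphism of groups -/
lemma exists_hom_of_groupLike (Y : N →* MonoidAlgebra D M)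
    (hY : ∀ n, IsGroupLikeElem D (Y n)) :
    ∃ f : N →* M, ∀ n, Y n = MonoidAlgebra.single (f n) 1 := by
  have h : ∀ n, ∃ m : M, MonoidAlgebra.single m (1 : D) = Y n := fun n =>
    MonoidAlgebra.isGroupLikeElem_iff_mem_range_single_one.1 (hY n)
  choose f₀ hf₀ using h
  have hinj : Function.Injective (fun m : M => (MonoidAlgebra.single m (1 : D) : MonoidAlgebra D M)) :=
    MonoidAlgebra.single_left_injective (R := D) one_ne_zero
  refine ⟨{ toFun := f₀, map_one' := ?_, map_mul' := ?_ }, fun n => (hf₀ n).symm⟩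
  · apply hinj
    show MonoidAlgebra.single (f₀ 1) (1 : D) = MonoidAlgebra.single 1 1
    rw [hf₀, map_one, MonoidAlgebra.one_def]
  · intro a b
    apply hinj
    show MonoidAlgebra.single (f₀ (a * b)) (1 : D) = MonoidAlgebra.single (f₀ a * f₀ b) 1
    rw [hf₀, map_mul, ← hf₀ a, ← hf₀ b, MonoidAlgebra.single_mul_single, mul_one]

end dom

section loc
variable {T : Type*} [CommRing T] {M N : Type*} [CommGroup M] [CommGroup N]
  (X : N →* MonoidAlgebra T M) (hX : ∀ n, IsGroupLikeElem T (X n))
  (S : Finset N) (hS : Subgroup.closure (S : Set N) = ⊤)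

/-- the idempotent of the locus where `X s = μ s` for all generators `s` -/
noncomputable def epsOf (μ : ↥S → M) : T := ∏ s : ↥S, (X s).coeff (μ s)

include hX in
lemma epsOf_idem (μ : ↥S → M) : epsOf X S μ * epsOf X S μ = epsOf X S μ := by
  unfold epsOf
  rw [← Finset.prod_mul_distrib]
  apply Finset.prod_congr rfl
  intro s _
  exact coeff_idem (hX s) _

include hX in
open Classical in
lemma epsOf_mul_coeff (μ : ↥S → M) (s : ↥S) (m : M) :
    epsOf X S μ * (X s).coeff m = if μ s = m then epsOf X S μ else 0 := by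
  have h1 : epsOf X S μ = (X s).coeff (μ s) *
      ∏ s' ∈ (Finset.univ : Finset ↥S).erase s, (X s').coeff (μ s') :=
    (Finset.mul_prod_erase Finset.univ (fun s' : ↥S => (X s').coeff (μ s'))
      (Finset.mem_univ s)).symm
  by_cases h : μ s = m
  · rw [if_pos h, ← h]
    conv_lhs => rw [h1]
    rw [mul_right_comm, coeff_idem (hX s), ← h1]
  · rw [if_neg h]
    conv_lhs => rw [h1]
    rw [mul_right_comm, coeff_orth (hX s) h, zero_mul]

include hX in
lemma epsOf_smul_gen (μ : ↥S → M) (s : ↥S) :
    epsOf X S μ • X s = epsOf X S μ • (MonoidAlgebra.single (μ s) (1 : T) : MonoidAlgebra T M) := by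
  classical
  apply MonoidAlgebra.coeff_injective
  ext m
  simp only [MonoidAlgebra.coeff_smul, Finsupp.smul_apply, smul_eq_mul, MonoidAlgebra.coeff_single]
  rw [epsOf_mul_coeff X hX S μ s m, Finsupp.single_apply]
  split_ifs <;> simp

include hX hS in
/-- on the locus `epsOf μ`, the monoid hom `X` is given by a homomorphism of groups -/
theorem exists_hom_epsOf (μ : ↥S → M) :
    ∃ f : N →* M, ∀ n, epsOf X S μ • X n =
      epsOf X S μ • (MonoidAlgebra.single (f n) (1 : T) : MonoidAlgebra T M) := by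
  classical
  by_cases h0 : epsOf X S μ = 0
  · exact ⟨1, fun n => by rw [h0, zero_smul, zero_smul]⟩
  obtain ⟨𝔮, h𝔮, hε𝔮⟩ := exists_prime_notMem_of_idem (epsOf_idem X hX S μ) h0
  haveI := h𝔮
  let D := T ⧸ 𝔮
  let Y : N →* MonoidAlgebra D M :=
    ((rho T D M : MonoidAlgebra T M →ₐ[T] MonoidAlgebra D M) :
      MonoidAlgebra T M →* MonoidAlgebra D M).comp X
  have hY : ∀ n, IsGroupLikeElem D (Y n) := fun n =>
    isGroupLikeElem_of_isSemiCoalg T D (isSemiCoalg_rho T D M) (hX n)
  obtain ⟨f, hf⟩ := exists_hom_of_groupLike Y hY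
  refine ⟨f, ?_⟩
  have hgen : ∀ s : ↥S, f s = μ s := by
    intro s
    by_contra hne
    have h1 : (Y s).coeff (μ s) = 0 := by
      rw [hf, MonoidAlgebra.coeff_single, Finsupp.single_apply, if_neg hne]
    have h2 : (Y s).coeff (μ s) = algebraMap T D ((X s).coeff (μ s)) := coeff_rho ..
    rw [h2] at h1
    have h3 : (X s).coeff (μ s) ∈ 𝔮 := Ideal.Quotient.eq_zero_iff_mem.mp h1
    apply hε𝔮
    have h4 := epsOf_mul_coeff X hX S μ s (μ s)
    rw [if_pos rfl] at h4
    rw [← h4]
    exact Ideal.mul_mem_left _ _ h3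
  have hall : ∀ n ∈ Subgroup.closure (S : Set N), epsOf X S μ • X n =
      epsOf X S μ • (MonoidAlgebra.single (f n) (1 : T) : MonoidAlgebra T M) := by
    intro n hn
    induction hn using Subgroup.closure_induction with
    | mem x hx =>
      have := epsOf_smul_gen X hX S μ ⟨x, hx⟩
      rw [← hgen ⟨x, hx⟩] at this
      exact this
    | one => rw [map_one, map_one, MonoidAlgebra.one_def]
    | mul a b _ _ ha hb =>
      have h1 : epsOf X S μ • X (a * b) = (epsOf X S μ • X a) * (epsOf X S μ • X b) := by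
        rw [smul_mul_smul_comm, epsOf_idem X hX S μ, map_mul]
      rw [h1, ha, hb, smul_mul_smul_comm, epsOf_idem X hX S μ, MonoidAlgebra.single_mul_single,
        mul_one, map_mul]
    | inv a _ ha =>
      have hu : X a⁻¹ * X a = 1 := by rw [← map_mul, inv_mul_cancel, map_one]
      have hs : (MonoidAlgebra.single (f a) (1 : T) : MonoidAlgebra T M) *
          MonoidAlgebra.single (f a)⁻¹ 1 = 1 := by
        rw [MonoidAlgebra.single_mul_single, mul_inv_cancel, mul_one, MonoidAlgebra.one_def]
      calc epsOf X S μ • X a⁻¹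
          = epsOf X S μ • (X a⁻¹ * ((MonoidAlgebra.single (f a) (1 : T) : MonoidAlgebra T M) *
              MonoidAlgebra.single (f a)⁻¹ 1)) := by rw [hs, mul_one]
        _ = (X a⁻¹ * (epsOf X S μ • (MonoidAlgebra.single (f a) (1 : T) : MonoidAlgebra T M))) *
              MonoidAlgebra.single (f a)⁻¹ 1 := by
            rw [← mul_assoc, mul_smul_comm, smul_mul_assoc]
        _ = (X a⁻¹ * (epsOf X S μ • X a)) * MonoidAlgebra.single (f a)⁻¹ 1 := by rw [ha]
        _ = epsOf X S μ • (MonoidAlgebra.single (f a⁻¹) (1 : T) : MonoidAlgebra T M) := by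
            rw [mul_smul_comm, hu, smul_mul_assoc, one_mul, map_inv]
  intro n
  exact hall n (hS ▸ Subgroup.mem_top n)

include hX in
lemma epsOf_orth (μ ν : ↥S → M) (h : μ ≠ ν) : epsOf X S μ * epsOf X S ν = 0 := by
  classical
  obtain ⟨s, hs⟩ := Function.ne_iff.mp h
  have h1 : epsOf X S ν = (X s).coeff (ν s) *
      ∏ s' ∈ (Finset.univ : Finset ↥S).erase s, (X s').coeff (ν s') :=
    (Finset.mul_prod_erase Finset.univ (fun s' : ↥S => (X s').coeff (ν s'))
      (Finset.mem_univ s)).symm
  have h2 := epsOf_mul_coeff X hX S μ s (ν s)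
  rw [if_neg hs] at h2
  rw [h1, ← mul_assoc, h2, zero_mul]

include hX in
open Classical in
lemma sum_epsOf :
    ∑ μ ∈ Fintype.piFinset (fun s : ↥S => (X s).coeff.support), epsOf X S μ = 1 := by
  unfold epsOf
  rw [← Finset.prod_univ_sum]
  apply Finset.prod_eq_one
  intro s _
  exact sum_coeff (hX s) _ subset_rfl

end loc

section main
variable {R : Type*} [CommRing R] {A : Type*} [CommRing A] [HopfAlgebra R A]
  {C : Type*} [CommRing C] [HopfAlgebra R C] (φ : C →ₐc[R] A)
variable {T : Type*} [CommRing T] [Algebra R T] {M N : Type u} [CommGroup M] [CommGroup N]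
  {θA : A →ₐ[R] MonoidAlgebra T M} {θC : C →ₐ[R] MonoidAlgebra T N}

/-- the homomorphism of charts induced by a homomorphism of groups of multiplicative type, the
target being of finite type, is glued from finitely many homomorphisms of character groups -/
theorem exists_pdata (hθA : IsSemiIso R T θA) (hθC : IsSemiIso R T θC) [Group.FG N] :
    ∃ (I : Type u) (_ : Fintype I) (_ : DecidableEq I), Nonempty (PData φ θA θC I) := by
  classical
  let ΛC : T ⊗[R] C ≃ₐ[T] MonoidAlgebra T N :=
    AlgEquiv.ofBijective (liftMap R T θC) (liftMap_bijective hθC)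
  let φT : MonoidAlgebra T N →ₐ[T] MonoidAlgebra T M :=
    (liftMap R T θA).comp ((Algebra.TensorProduct.map (AlgHom.id T T) (φ : C →ₐ[R] A)).comp
      ΛC.symm.toAlgHom)
  let X : N →* MonoidAlgebra T M :=
    (φT : MonoidAlgebra T N →* MonoidAlgebra T M).comp (MonoidAlgebra.of T N)
  have hΛ : ∀ y, liftMap R T θC (ΛC.symm y) = y := fun y => ΛC.apply_symm_apply y
  have hX : ∀ n, IsGroupLikeElem T (X n) := by
    intro n
    have h1 : IsGroupLikeElem T (ΛC.symm (MonoidAlgebra.single n 1)) := by
      apply isGroupLikeElem_of_map (isSemiCoalg_liftMap R T T hθC.1) (liftMap_bijective hθC)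
      rw [hΛ]
      exact MonoidAlgebra.isGroupLikeElem_single_one (R := T) (A := T) n
    have h2 : IsGroupLikeElem T (Bialgebra.TensorProduct.map (BialgHom.id T T) φ
        (ΛC.symm (MonoidAlgebra.single n 1))) := h1.map _
    exact isGroupLikeElem_of_isSemiCoalg T T (isSemiCoalg_liftMap R T T hθA.1) h2
  obtain ⟨S, hS⟩ := Group.FG.out (G := N)
  let F := Fintype.piFinset (fun s : ↥S => (X s).coeff.support)
  have hf := exists_hom_epsOf X hX S hS
  choose fμ hfμ using hf
  refine ⟨↥F, inferInstance, inferInstance, ⟨{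
    ε := fun μ => epsOf X S μ.1
    orth := ?_
    sum := ?_
    f := fun μ => fμ μ.1
    hx := ?_ }⟩⟩
  · intro μ ν
    by_cases h : μ = ν
    · subst h
      rw [if_pos rfl]
      exact epsOf_idem X hX S _
    · rw [if_neg h]
      exact epsOf_orth X hX S _ _ (fun h' => h (Subtype.ext h'))
  · rw [Finset.sum_coe_sort F (fun μ => epsOf X S μ)]
    exact sum_epsOf X hX S
  · intro n
    have hsum : ∑ μ : ↥F, epsOf X S μ.1 = 1 := by
      rw [Finset.sum_coe_sort F (fun μ => epsOf X S μ)]
      exact sum_epsOf X hX S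
    have hXn : X n = xx (fun μ : ↥F => epsOf X S μ.1) (fun μ : ↥F => fμ μ.1) n := by
      rw [xx, eq_sum_smul (fun μ : ↥F => epsOf X S μ.1) hsum (X n)]
      apply Finset.sum_congr rfl
      intro μ _
      rw [hfμ, MonoidAlgebra.smul_single, smul_eq_mul, mul_one]
    rw [← hXn]
    exact ⟨ΛC.symm (MonoidAlgebra.single n 1), hΛ _, rfl⟩

end main

end Groth.Agent.Helper2.KerMT
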