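import Mathlib
import Groth.Prelude.Def_SGA3b
import Groth.Agent.Helper2.KerMT4
import Groth.Agent.Helper7.ModAmitsur

set_option autoImplicit false

namespace Groth.Agent.Helper2.KerMT
open TensorProduct Groth.Agent.Helper2.MultTypeSemi Groth.Agent.Helper2.SemiIso
  Groth.Agent.Helper2.NilLift Groth.Agent.Helper2.TorsFin Groth.Agent.Helper2.NilSplit

universe u

section typeconst
variable {R : Type*} [CommRing R] {A : Type*} [CommRing A] [HopfAlgebra R A]
  {C : Type*} [CommRing C] [HopfAlgebra R C] {φ : C →ₐc[R] A}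
variable {T : Type*} [CommRing T] [Algebra R T] {M N : Type*} [CommGroup M] [CommGroup N]
  {θA : A →ₐ[R] MonoidAlgebra T M} {θC : C →ₐ[R] MonoidAlgebra T N}
variable {I : Type*} [Fintype I] [DecidableEq I]

open Classical in
/-- the indices of the pieces of type `Q` -/
noncomputable def PData.IQ (D : PData φ θA θC I) (Q : Type*) [CommGroup Q] : Finset I :=
  Finset.univ.filter (fun μ => D.ε μ ≠ 0 ∧ Nonempty (M ⧸ (D.f μ).range ≃* Q))

/-- the idempotent of the locus of type `Q` -/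
noncomputable def PData.eQ (D : PData φ θA θC I) (Q : Type*) [CommGroup Q] : T :=
  ∑ μ ∈ D.IQ Q, D.ε μ

lemma PData.mem_IQ (D : PData φ θA θC I) (Q : Type*) [CommGroup Q] (μ : I) :
    μ ∈ D.IQ Q ↔ D.ε μ ≠ 0 ∧ Nonempty (M ⧸ (D.f μ).range ≃* Q) := by
  classical
  simp [PData.IQ]

lemma PData.one_sub_eQ (D : PData φ θA θC I) (Q : Type*) [CommGroup Q] :
    1 - D.eQ Q = ∑ μ ∈ (D.IQ Q)ᶜ, D.ε μ := by
  rw [PData.eQ, ← D.sum, ← Finset.sum_add_sum_compl (D.IQ Q)]
  ring

lemma PData.eQ_idem (D : PData φ θA θC I) (Q : Type*) [CommGroup Q] :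
    D.eQ Q * D.eQ Q = D.eQ Q := by
  rw [PData.eQ, Finset.sum_mul_sum]
  apply Finset.sum_congr rfl
  intro μ hμ
  rw [Finset.sum_eq_single μ]
  · rw [D.orth, if_pos rfl]
  · intro ν _ hν
    rw [D.orth, if_neg (fun h => hν h.symm)]
  · intro h; exact absurd hμ h

lemma PData.eps_mul_eQ (D : PData φ θA θC I) (Q : Type*) [CommGroup Q] (ν : I) :
    D.ε ν * D.eQ Q = if ν ∈ D.IQ Q then D.ε ν else 0 := by
  rw [PData.eQ, Finset.mul_sum]
  split_ifs with h
  · rw [Finset.sum_eq_single ν]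
    · rw [D.orth, if_pos rfl]
    · intro μ _ hμ
      rw [D.orth, if_neg (fun h' => hμ h'.symm)]
    · intro h'; exact absurd h h'
  · apply Finset.sum_eq_zero
    intro μ hμ
    rw [D.orth, if_neg]
    rintro rfl
    exact h hμ

variable (J : Ideal A) [J.IsHopfIdeal R]

/-- the type of the kernel is constant on the fibres of the chart over the base -/
theorem PData.type_const (D : PData φ θA θC I) (hθA : IsSemiIso R T θA) (hθC : IsSemiIso R T θC)
    (hJ : J = Ideal.map φ (RingHom.ker (Bialgebra.counitAlgHom R C)))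
    (Q : Type*) [CommGroup Q]
    {K : Type*} [CommRing K] [IsDomain K] [Algebra R K] (a b : T →ₐ[R] K) :
    a (D.eQ Q) * b (1 - D.eQ Q) = 0 := by
  by_contra hne
  have ha : a (D.eQ Q) ≠ 0 := left_ne_zero_of_mul hne
  have hb : b (1 - D.eQ Q) ≠ 0 := right_ne_zero_of_mul hne
  rw [PData.eQ, map_sum] at ha
  obtain ⟨μ, hμ, haμ⟩ := Finset.exists_ne_zero_of_sum_ne_zero ha
  rw [D.one_sub_eQ, map_sum] at hb
  obtain ⟨ν, hν, hbν⟩ := Finset.exists_ne_zero_of_sum_ne_zero hb
  obtain ⟨e1⟩ := D.fibre_equiv J hθA hθC hJ a μ haμ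
  obtain ⟨e2⟩ := D.fibre_equiv J hθA hθC hJ b ν hbν
  obtain ⟨σ⟩ := nonempty_mulEquiv_of_bialgEquiv (e2.symm.trans e1)
  obtain ⟨-, ⟨τ⟩⟩ := (D.mem_IQ Q μ).mp hμ
  have hν0 : D.ε ν ≠ 0 := by
    intro h0
    rw [h0, map_zero] at hbν
    exact hbν rfl
  have : ν ∈ D.IQ Q := (D.mem_IQ Q ν).mpr ⟨hν0, ⟨σ.trans τ⟩⟩
  exact (Finset.mem_compl.mp hν) this

/-- the idempotent of the locus of type `Q` satisfies the descent condition -/
theorem PData.eQ_tmul_one (D : PData φ θA θC I) (hθA : IsSemiIso R T θA)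
    (hθC : IsSemiIso R T θC)
    (hJ : J = Ideal.map φ (RingHom.ker (Bialgebra.counitAlgHom R C)))
    (Q : Type*) [CommGroup Q] :
    (D.eQ Q) ⊗ₜ[R] (1 : T) = (1 : T) ⊗ₜ[R] (D.eQ Q) := by
  set e := D.eQ Q with he
  let inl : T →ₐ[R] T ⊗[R] T := Algebra.TensorProduct.includeLeft
  let inr : T →ₐ[R] T ⊗[R] T := Algebra.TensorProduct.includeRight
  have hee : e * e = e := D.eQ_idem Q
  have hee' : (1 - e) * (1 - e) = 1 - e := by
    have : (1 - e) * (1 - e) = 1 - e - e + e * e := by ring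
    rw [this, hee]; ring
  have key : ∀ (a b : T →ₐ[R] T ⊗[R] T), a e * b (1 - e) = 0 := by
    intro a b
    have hid : IsIdempotentElem (a e * b (1 - e)) := by
      unfold IsIdempotentElem
      rw [mul_mul_mul_comm, ← map_mul, ← map_mul, hee, hee']
    by_contra h0
    obtain ⟨𝔯, h𝔯, hmem⟩ := exists_prime_notMem_of_idem hid h0
    haveI := h𝔯
    have h1 := D.type_const J hθA hθC hJ Q ((Ideal.Quotient.mkₐ R 𝔯).comp a)
      ((Ideal.Quotient.mkₐ R 𝔯).comp b)
    apply hmem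
    rw [← Ideal.Quotient.eq_zero_iff_mem, map_mul]
    exact h1
  have h1 := key inl inr
  have h2 := key inr inl
  have h3 : inl e - inr e = inl e * inr (1 - e) - inr e * inl (1 - e) := by
    simp only [map_sub, map_one]; ring
  rw [h1, h2, sub_self] at h3
  exact sub_eq_zero.mp h3

end typeconst

section descent
variable {R : Type*} [CommRing R] {L : Type*} [CommRing L] [Algebra R L]
  {T : Type*} [CommRing T] [Algebra R T] [Algebra L T] [IsScalarTower R L T]
  [Module.FaithfullyFlat L T]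

open Groth.Agent.Helper7.ModAmitsur in
/-- faithfully flat descent of elements -/
lemma exists_algebraMap_eq_of_tmul_eq (e : T) (h : e ⊗ₜ[R] (1 : T) = (1 : T) ⊗ₜ[R] e) :
    ∃ e₀ : L, algebraMap L T e₀ = e := by
  have h1 : e ⊗ₜ[L] (1 : T) = (1 : T) ⊗ₜ[L] e := by
    have := congrArg (TensorProduct.mapOfCompatibleSMul L R R T T) h
    exact this
  have h2 : d L T L (e ⊗ₜ[L] (1 : L)) = 0 := by
    rw [d_tmul, h1, sub_self, TensorProduct.zero_tmul]
  obtain ⟨n, hn⟩ := (amitsur_exact L T L _).mp h2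
  refine ⟨n, ?_⟩
  have h3 := congrArg (TensorProduct.rid L T) hn
  simp only [ι, TensorProduct.mk_apply, TensorProduct.rid_tmul, one_smul] at h3
  rw [Algebra.algebraMap_eq_smul_one]
  exact h3

end descent

end Groth.Agent.Helper2.KerMT
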