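import Mathlib
import Groth.Prelude.Def_SGA3b
import Groth.Agent.Helper2.KerMT5
import Groth.Agent.Helper2.QIso14

set_option autoImplicit false

namespace Groth.Agent.Helper2.KerMT
open TensorProduct Groth.Agent.Helper2.MultTypeSemi Groth.Agent.Helper2.SemiIso
  Groth.Agent.Helper2.NilLift Groth.Agent.Helper2.TorsFin Groth.Agent.Helper2.NilSplit
  Groth.Agent.Helper2.QIso

universe u

section primes
variable {R : Type*} [CommRing R] (g₀ : R) {T : Type*} [CommRing T] [Algebra R T]
  [Algebra (Localization.Away g₀) T] [IsScalarTower R (Localization.Away g₀) T]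
  [Module.FaithfullyFlat (Localization.Away g₀) T]

/-- primes of the base not containing `g₀` lift to the chart -/
lemma exists_prime_over (𝔭 : Ideal R) [h𝔭 : 𝔭.IsPrime] (hg₀ : g₀ ∉ 𝔭) :
    ∃ 𝔮 : Ideal T, 𝔮.IsPrime ∧
      𝔮.comap (algebraMap (Localization.Away g₀) T) =
        𝔭.map (algebraMap R (Localization.Away g₀)) ∧
      (𝔭.map (algebraMap R (Localization.Away g₀))).IsPrime ∧
      𝔮.comap (algebraMap R T) = 𝔭 := by
  let L := Localization.Away g₀
  have hdisj : Disjoint (Submonoid.powers g₀ : Set R) (𝔭 : Set R) :=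
    (Ideal.disjoint_powers_iff_notMem_of_isPrime _).mpr hg₀
  have hP : (𝔭.map (algebraMap R L)).IsPrime :=
    IsLocalization.isPrime_of_isPrime_disjoint (Submonoid.powers g₀) L _ h𝔭 hdisj
  have hPc : (𝔭.map (algebraMap R L)).comap (algebraMap R L) = 𝔭 :=
    IsLocalization.comap_map_of_isPrime_disjoint (Submonoid.powers g₀) L h𝔭 hdisj
  obtain ⟨𝔮, h𝔮⟩ := PrimeSpectrum.comap_surjective_of_faithfullyFlat (A := L) (B := T) ⟨_, hP⟩
  have h1 : 𝔮.asIdeal.comap (algebraMap L T) = 𝔭.map (algebraMap R L) :=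
    congrArg PrimeSpectrum.asIdeal h𝔮
  refine ⟨𝔮.asIdeal, 𝔮.isPrime, h1, hP, ?_⟩
  rw [IsScalarTower.algebraMap_eq R L T, ← Ideal.comap_comap, h1, hPc]

end primes

section core
variable {R : Type u} [CommRing R] {A : Type u} [CommRing A] [HopfAlgebra R A]
  {C : Type u} [CommRing C] [HopfAlgebra R C] (φ : C →ₐc[R] A)
variable (J : Ideal A) [J.IsHopfIdeal R]
variable (g₀ : R) {T : Type u} [CommRing T] [Algebra R T] [Algebra (Localization.Away g₀) T]
  [IsScalarTower R (Localization.Away g₀) T] [Module.FaithfullyFlat (Localization.Away g₀) T]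
  {M N : Type u} [CommGroup M] [CommGroup N] [Group.FG N]
  {θA : A →ₐ[R] MonoidAlgebra T M} {θC : C →ₐ[R] MonoidAlgebra T N}

attribute [local instance] Algebra.TensorProduct.rightAlgebra in
/-- the kernel is of multiplicative type with constant type near every prime of the chart's
image -/
theorem core (hθA : IsSemiIso R T θA) (hθC : IsSemiIso R T θC)
    (hJ : J = Ideal.map φ (RingHom.ker (Bialgebra.counitAlgHom R C)))
    (𝔭 : Ideal R) [h𝔭 : 𝔭.IsPrime] (hg₀ : g₀ ∉ 𝔭) :
    ∃ g : R, g ∉ 𝔭 ∧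
      SGA3b.IsMultTypeConst (Localization.Away g) (Localization.Away g ⊗[R] (A ⧸ J)) := by
  classical
  obtain ⟨I, _, _, ⟨D⟩⟩ := exists_pdata φ hθA hθC
  let L := Localization.Away g₀
  obtain ⟨𝔮₀, h𝔮₀, h𝔮₀L, hP₀, -⟩ := exists_prime_over g₀ (T := T) 𝔭 hg₀
  have hμ : ∃ μ₀, D.ε μ₀ ∉ 𝔮₀ := by
    by_contra hcon
    push_neg at hcon
    have h1 : (1 : T) ∈ 𝔮₀ := by
      rw [← D.sum]
      exact Ideal.sum_mem _ (fun μ _ => hcon μ)
    exact h𝔮₀.ne_top ((Ideal.eq_top_iff_one _).mpr h1)
  obtain ⟨μ₀, hμ₀⟩ := hμ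
  let Q := M ⧸ (D.f μ₀).range
  set e := D.eQ Q with he
  have hμ₀Q : μ₀ ∈ D.IQ Q :=
    (D.mem_IQ Q μ₀).mpr ⟨fun h0 => hμ₀ (h0 ▸ zero_mem _), ⟨MulEquiv.refl _⟩⟩
  have he𝔮 : e ∉ 𝔮₀ := by
    intro hmem
    apply hμ₀
    have h1 := D.eps_mul_eQ Q μ₀
    rw [if_pos hμ₀Q] at h1
    rw [← h1]
    exact Ideal.mul_mem_left _ _ hmem
  obtain ⟨e₀, he₀⟩ := exists_algebraMap_eq_of_tmul_eq (L := L) e (D.eQ_tmul_one J hθA hθC hJ Q)
  obtain ⟨⟨r, s⟩, hrs⟩ := IsLocalization.surj (Submonoid.powers g₀) e₀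
  have hrs' : e₀ * algebraMap R L (s : R) = algebraMap R L r := hrs
  refine ⟨g₀ * r, ?_, ?_⟩
  · intro hmem
    rcases h𝔭.mem_or_mem hmem with h | h
    · exact hg₀ h
    · have h1 : algebraMap R L r ∈ 𝔭.map (algebraMap R L) := Ideal.mem_map_of_mem _ h
      rw [← hrs'] at h1
      have hu : IsUnit (algebraMap R L (s : R)) := IsLocalization.map_units L s
      have h2 : e₀ ∈ 𝔭.map (algebraMap R L) :=
        (hP₀.mem_or_mem h1).resolve_right
          (fun h3 => hP₀.ne_top (Ideal.eq_top_of_isUnit_mem _ h3 hu))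
      apply he𝔮
      rw [← he₀]
      have h3 : e₀ ∈ 𝔮₀.comap (algebraMap L T) := by rw [h𝔮₀L]; exact h2
      exact h3
  · let g := g₀ * r
    let Lg := Localization.Away g
    let T' := Lg ⊗[R] T
    haveI : Module.Flat R L := IsLocalization.flat L (Submonoid.powers g₀)
    haveI : Module.Flat R T := Module.Flat.trans R L T
    have hU : (PrimeSpectrum.basicOpen g : Set (PrimeSpectrum R)) ⊆
        Set.range (PrimeSpectrum.comap (algebraMap R T)) := by
      intro 𝔭' h𝔭'
      have hg₀' : g₀ ∉ 𝔭'.asIdeal := fun h => h𝔭' (Ideal.mul_mem_right _ _ h)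
      obtain ⟨𝔮', h𝔮', -, -, hc⟩ := exists_prime_over g₀ (T := T) 𝔭'.asIdeal hg₀'
      exact ⟨⟨𝔮', h𝔮'⟩, PrimeSpectrum.ext hc⟩
    haveI : Module.FaithfullyFlat Lg T' := faithfullyFlat_away_tensor R T g hU
    let D' := D.map T'
    have hθA' : IsSemiIso R T' (((rho T T' M).restrictScalars R).comp θA) :=
      isSemiIso_rho_comp (T₂ := T') hθA
    have hθC' : IsSemiIso R T' (((rho T T' N).restrictScalars R).comp θC) :=
      isSemiIso_rho_comp (T₂ := T') hθC
    -- the image of `e` is `1`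
    have he' : algebraMap T T' e = 1 := by
      have hr : algebraMap R T' r = algebraMap T T' e * algebraMap R T' (s : R) := by
        rw [IsScalarTower.algebraMap_apply R T T' r, IsScalarTower.algebraMap_apply R L T r,
          ← hrs', map_mul, he₀, map_mul, ← IsScalarTower.algebraMap_apply R L T,
          ← IsScalarTower.algebraMap_apply R T T']
      have hug : IsUnit (algebraMap R T' g) := by
        rw [IsScalarTower.algebraMap_apply R Lg T']
        exact (IsLocalization.Away.algebraMap_isUnit g).map _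
      have hur : IsUnit (algebraMap R T' r) := by
        have hug' : IsUnit (algebraMap R T' g₀ * algebraMap R T' r) := by
          rw [← map_mul]; exact hug
        exact isUnit_of_mul_isUnit_right hug'
      rw [hr] at hur
      have hue : IsUnit (algebraMap T T' e) := isUnit_of_mul_isUnit_left hur
      have hid : algebraMap T T' e * algebraMap T T' e = algebraMap T T' e * 1 := by
        rw [← map_mul, D.eQ_idem Q, mul_one]
      exact hue.mul_left_cancel hid
    have h0 : ∀ ν, ν ∉ D.IQ Q → D'.ε ν = 0 := by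
      intro ν hν
      have h1 : D'.ε ν = algebraMap T T' (D.ε ν) := rfl
      have h2 := D.eps_mul_eQ Q ν
      rw [if_neg hν] at h2
      rw [h1, ← mul_one (algebraMap T T' (D.ε ν)), ← he', ← map_mul, h2, map_zero]
    have hσ : ∀ ν, ν ∈ D.IQ Q → Nonempty (M ⧸ (D.f ν).range ≃* Q) :=
      fun ν h => ((D.mem_IQ Q ν).mp h).2
    let q : I → M →* Q := fun ν =>
      if h : ν ∈ D.IQ Q then
        ((Classical.choice (hσ ν h)).toMonoidHom).comp (QuotientGroup.mk' (D.f ν).range)
      else 1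
    have hq : ∀ i, D'.ε i ≠ 0 → Function.Surjective (q i) ∧ (q i).ker = (D'.f i).range := by
      intro i hi
      have hiQ : i ∈ D.IQ Q := by
        by_contra h
        exact hi (h0 i h)
      have hqi : q i = ((Classical.choice (hσ i hiQ)).toMonoidHom).comp
          (QuotientGroup.mk' (D.f i).range) := dif_pos hiQ
      rw [hqi]
      constructor
      · exact (Classical.choice (hσ i hiQ)).surjective.comp (QuotientGroup.mk'_surjective _)
      · ext m
        rw [MonoidHom.mem_ker]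
        show (Classical.choice (hσ i hiQ)) (QuotientGroup.mk' (D.f i).range m) = 1 ↔ _
        rw [MulEquiv.map_eq_one_iff]
        exact QuotientGroup.eq_one_iff m
    obtain ⟨χ, hχ⟩ := exists_kerChart φ J D'.ε D'.orth D'.sum q D'.f hθA' hθC' hJ hq D'.hx
    exact isMultTypeConst_of_chart g χ hχ

end core

end Groth.Agent.Helper2.KerMT
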