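import Mathlib
import Groth.Prelude.Def_SGA3b
import Groth.Agent.Helper2.KerMT6
import Groth.Agent.Helper2.GLikeLI

set_option autoImplicit false

namespace Groth.Agent.Helper2.KerMT
open TensorProduct Groth.Agent.Helper2.MultTypeSemi Groth.Agent.Helper2.SemiIso
  Groth.Agent.Helper2.NilLift Groth.Agent.Helper2.TorsFin Groth.Agent.Helper2.NilSplit
  Groth.Agent.Helper2.QIso Groth.Agent.Helper2.TorsDens

universe u

section core2
variable {R : Type u} [CommRing R] {A : Type u} [CommRing A] [HopfAlgebra R A]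
  {C : Type u} [CommRing C] [HopfAlgebra R C] (φ : C →ₐc[R] A)
variable (J : Ideal A) [J.IsHopfIdeal R]

/-- the kernel is of multiplicative type with constant type near every prime over which both
groups have charts which can be compared over a common faithfully flat ring -/
theorem core2 (g₀ : R) (T : Type u) [CommRing T] [Algebra R T] [Algebra (Localization.Away g₀) T]
    [IsScalarTower R (Localization.Away g₀) T] [Module.FaithfullyFlat (Localization.Away g₀) T]
    {TA : Type u} [CommRing TA] [Algebra R TA] [Algebra TA T] [IsScalarTower R TA T]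
    {TC : Type u} [CommRing TC] [Algebra R TC] [Algebra TC T] [IsScalarTower R TC T]
    {M N : Type u} [CommGroup M] [CommGroup N]
    {θA : A →ₐ[R] MonoidAlgebra TA M} {θC : C →ₐ[R] MonoidAlgebra TC N}
    (hCft : Algebra.FiniteType R C) (hθA : IsSemiIso R TA θA) (hθC : IsSemiIso R TC θC)
    (hJ : J = Ideal.map φ (RingHom.ker (Bialgebra.counitAlgHom R C)))
    (𝔭 : Ideal R) [h𝔭 : 𝔭.IsPrime] (hg₀ : g₀ ∉ 𝔭) :
    ∃ g : R, g ∉ 𝔭 ∧
      SGA3b.IsMultTypeConst (Localization.Away g) (Localization.Away g ⊗[R] (A ⧸ J)) := by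
  have hθA' : IsSemiIso R T (((rho TA T M).restrictScalars R).comp θA) :=
    isSemiIso_rho_comp (T₂ := T) hθA
  have hθC' : IsSemiIso R T (((rho TC T N).restrictScalars R).comp θC) :=
    isSemiIso_rho_comp (T₂ := T) hθC
  obtain ⟨𝔮₀, h𝔮₀, -, -, -⟩ := exists_prime_over g₀ (T := T) 𝔭 hg₀
  haveI : Nontrivial T := by
    by_contra hT
    haveI : Subsingleton T := not_nontrivial_iff_subsingleton.mp hT
    exact h𝔮₀.ne_top (Subsingleton.elim _ _)
  haveI : Group.FG N := group_fg_of_chart hCft hθC'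
  exact core φ J g₀ hθA' hθC' hJ 𝔭 hg₀

end core2

section range
variable {R : Type*} [CommRing R] (TA TC : Type*) [CommRing TA] [CommRing TC] [Algebra R TA]
  [Algebra R TC]

/-- the image of the spectrum of a tensor product is the intersection of the images -/
lemma mem_range_comap_tensor (p : PrimeSpectrum R)
    (hA : p ∈ Set.range (PrimeSpectrum.comap (algebraMap R TA)))
    (hC : p ∈ Set.range (PrimeSpectrum.comap (algebraMap R TC))) :
    p ∈ Set.range (PrimeSpectrum.comap (algebraMap R (TA ⊗[R] TC))) := by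
  rw [← PrimeSpectrum.nontrivial_iff_mem_rangeComap] at hA hC ⊢
  let κ := p.asIdeal.ResidueField
  haveI : Nontrivial (κ ⊗[R] TA) := hA
  haveI : Nontrivial (κ ⊗[R] TC) := hC
  have h1 : Nontrivial ((κ ⊗[R] TA) ⊗[κ] (κ ⊗[R] TC)) :=
    Algebra.TensorProduct.nontrivial_of_algebraMap_injective_of_flat_left (R := κ)
      (κ ⊗[R] TA) (κ ⊗[R] TC) (algebraMap κ (κ ⊗[R] TC)).injective
  exact (AlgebraTensorModule.distribBaseChange R κ TA TC).toEquiv.nontrivial

end range

section final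
variable (R : Type u) [CommRing R] (A : Type u) [CommRing A] [HopfAlgebra R A]
  (C : Type u) [CommRing C] [HopfAlgebra R C]

attribute [local instance] Algebra.TensorProduct.rightAlgebra in
theorem s6062_local (hA : SGA3b.IsMultType R A) (hC : SGA3b.IsMultType R C)
    (hCft : Algebra.FiniteType R C) (φ : C →ₐc[R] A) (J : Ideal A) [J.IsHopfIdeal R]
    (hJ : J = Ideal.map φ (RingHom.ker (Bialgebra.counitAlgHom R C)))
    (𝔭 : Ideal R) [h𝔭 : 𝔭.IsPrime] :
    ∃ g : R, g ∉ 𝔭 ∧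
      SGA3b.IsMultTypeConst (Localization.Away g) (Localization.Away g ⊗[R] (A ⧸ J)) := by
  obtain ⟨sA, hsA, hA'⟩ := hA
  obtain ⟨sC, hsC, hC'⟩ := hC
  have exA : ∃ fA ∈ sA, fA ∉ 𝔭 := by
    by_contra hcon
    push_neg at hcon
    have h1 : Ideal.span sA ≤ 𝔭 := Ideal.span_le.mpr hcon
    rw [hsA] at h1
    exact h𝔭.ne_top (top_le_iff.mp h1)
  have exC : ∃ fC ∈ sC, fC ∉ 𝔭 := by
    by_contra hcon
    push_neg at hcon
    have h1 : Ideal.span sC ≤ 𝔭 := Ideal.span_le.mpr hcon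
    rw [hsC] at h1
    exact h𝔭.ne_top (top_le_iff.mp h1)
  obtain ⟨fA, hfA, hfA𝔭⟩ := exA
  obtain ⟨fC, hfC, hfC𝔭⟩ := exC
  obtain ⟨TA, _, _, _, _, hffA, hflatA, M, _, θA, hθA⟩ :=
    Groth.Agent.Helper2.GLikeLI.exists_chart R A fA (hA' fA hfA)
  obtain ⟨TC, _, _, _, _, hffC, hflatC, N, _, θC, hθC⟩ :=
    Groth.Agent.Helper2.GLikeLI.exists_chart R C fC (hC' fC hfC)
  haveI := hffA
  haveI := hflatA
  haveI := hffC
  haveI := hflatC
  let g₀ := fA * fC
  have hg₀ : g₀ ∉ 𝔭 := fun h => (h𝔭.mem_or_mem h).elim hfA𝔭 hfC𝔭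
  let T0 := TA ⊗[R] TC
  let T := Localization.Away g₀ ⊗[R] T0
  haveI : Module.Flat R T0 := inferInstance
  have hU : (PrimeSpectrum.basicOpen g₀ : Set (PrimeSpectrum R)) ⊆
      Set.range (PrimeSpectrum.comap (algebraMap R T0)) := by
    intro p hp
    have hpA : fA ∉ p.asIdeal := fun h => hp (Ideal.mul_mem_right _ _ h)
    have hpC : fC ∉ p.asIdeal := fun h => hp (Ideal.mul_mem_left _ _ h)
    obtain ⟨𝔮A, h𝔮A, -, -, hcA⟩ := exists_prime_over fA (T := TA) p.asIdeal hpA
    obtain ⟨𝔮C, h𝔮C, -, -, hcC⟩ := exists_prime_over fC (T := TC) p.asIdeal hpC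
    exact mem_range_comap_tensor TA TC p ⟨⟨𝔮A, h𝔮A⟩, PrimeSpectrum.ext hcA⟩
      ⟨⟨𝔮C, h𝔮C⟩, PrimeSpectrum.ext hcC⟩
  haveI : Module.FaithfullyFlat (Localization.Away g₀) T :=
    faithfullyFlat_away_tensor R T0 g₀ hU
  letI : Algebra TA T := ((algebraMap T0 T).comp (algebraMap TA T0)).toAlgebra
  haveI : IsScalarTower R TA T := IsScalarTower.of_algebraMap_eq (fun r => by
    show algebraMap R T r = algebraMap T0 T (algebraMap TA T0 (algebraMap R TA r))
    rw [← IsScalarTower.algebraMap_apply R TA T0, ← IsScalarTower.algebraMap_apply R T0 T])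
  letI : Algebra TC T := ((algebraMap T0 T).comp (algebraMap TC T0)).toAlgebra
  haveI : IsScalarTower R TC T := IsScalarTower.of_algebraMap_eq (fun r => by
    show algebraMap R T r = algebraMap T0 T (algebraMap TC T0 (algebraMap R TC r))
    rw [← IsScalarTower.algebraMap_apply R TC T0, ← IsScalarTower.algebraMap_apply R T0 T])
  exact core2 φ J g₀ T hCft hθA hθC hJ 𝔭 hg₀

theorem s6062 (hA : SGA3b.IsMultType R A) (hC : SGA3b.IsMultType R C)
    (hCft : Algebra.FiniteType R C) (φ : C →ₐc[R] A) (J : Ideal A) [J.IsHopfIdeal R]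
    (hJ : J = Ideal.map φ (RingHom.ker (Bialgebra.counitAlgHom R C))) :
    SGA3b.IsMultType R (A ⧸ J) := by
  refine ⟨{g : R | SGA3b.IsMultTypeConst (Localization.Away g)
    (Localization.Away g ⊗[R] (A ⧸ J))}, ?_, fun g hg => hg⟩
  by_contra hne
  obtain ⟨𝔪, h𝔪, hle⟩ := Ideal.exists_le_maximal _ hne
  haveI := h𝔪.isPrime
  obtain ⟨g, hg𝔪, hg⟩ := s6062_local R A C hA hC hCft φ J hJ 𝔪
  exact hg𝔪 (hle (Ideal.subset_span hg))

end final

end Groth.Agent.Helper2.KerMT
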