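import Mathlib
import Groth.Prelude.Def_SGA3b
import Groth.Agent.Helper2.KerMT7
import Groth.Agent.Helper2.TrivRigid
import Groth.Agent.Helper2.HopfTors3

set_option autoImplicit false

namespace Groth.Agent.Helper2.KerAff
open TensorProduct Groth.Agent.Helper2.MultTypeSemi Groth.Agent.Helper2.SemiIso
  Groth.Agent.Helper2.NilLift Groth.Agent.Helper2.TorsFin Groth.Agent.Helper2.NilSplit
  Groth.Agent.Helper2.KerMT

universe u

section comod
variable {S : Type*} [CommRing S] {M : Type*} [CommGroup M]
  {D : Type*} [CommRing D] [Bialgebra S D] (ψ : D →ₐc[S] MonoidAlgebra S M)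

/-- the ideal of the kernel of the homomorphism given by `ψ` -/
noncomputable def kerIdeal : Ideal (MonoidAlgebra S M) :=
  Ideal.map ψ (RingHom.ker (Bialgebra.counitAlgHom S D))

lemma sub_counit_mem_kerIdeal (x : D) :
    ψ x - algebraMap S (MonoidAlgebra S M) (Coalgebra.counit (R := S) x) ∈ kerIdeal ψ := by
  have h1 : ψ x - algebraMap S (MonoidAlgebra S M) (Coalgebra.counit (R := S) x) =
      ψ (x - algebraMap S D (Coalgebra.counit (R := S) x)) := by
    rw [map_sub, AlgHomClass.commutes]
  rw [h1]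
  apply Ideal.mem_map_of_mem
  rw [RingHom.mem_ker, map_sub, AlgHom.commutes]
  simp

/-- the linear form `x ⊗ y ↦ y_m • [x]` -/
noncomputable def Lam (m : M) :
    MonoidAlgebra S M ⊗[S] MonoidAlgebra S M →ₗ[S] (MonoidAlgebra S M ⧸ kerIdeal ψ) :=
  (TensorProduct.rid S (MonoidAlgebra S M ⧸ kerIdeal ψ)).toLinearMap ∘ₗ
    TensorProduct.map ((Ideal.Quotient.mkₐ S (kerIdeal ψ)).toLinearMap) (cf m)

lemma Lam_tmul (m : M) (x y : MonoidAlgebra S M) :
    Lam ψ m (x ⊗ₜ[S] y) = y.coeff m • Ideal.Quotient.mk (kerIdeal ψ) x := by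
  simp [Lam]

lemma Lam_comul (m : M) (y : MonoidAlgebra S M) :
    Lam ψ m (Coalgebra.comul (R := S) y) =
      y.coeff m • Ideal.Quotient.mk (kerIdeal ψ) (MonoidAlgebra.single m 1) := by
  classical
  induction y using MonoidAlgebra.induction_linear with
  | zero => simp
  | add a b ha hb => simp only [map_add, ha, hb, MonoidAlgebra.coeff_add, Finsupp.add_apply, add_smul]
  | single g r =>
    simp only [MonoidAlgebra.comul_single, CommSemiring.comul_apply, TensorProduct.map_tmul,
      MonoidAlgebra.lsingle_apply, Lam_tmul, MonoidAlgebra.coeff_single, Finsupp.single_apply]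
    by_cases h : g = m
    · subst h
      simp only [if_true]
    · simp [h]

lemma mk_psi (x : D) :
    Ideal.Quotient.mk (kerIdeal ψ) (ψ x) =
      Coalgebra.counit (R := S) x • (1 : MonoidAlgebra S M ⧸ kerIdeal ψ) := by
  have h := Ideal.Quotient.eq.mpr (sub_counit_mem_kerIdeal ψ x)
  rw [h, Algebra.algebraMap_eq_smul_one]
  rfl

/-- the coefficient `a_m` of `ψ c` kills `m - 1` modulo the kernel ideal -/
theorem coeff_smul_mem (c : D) (m : M) :
    (ψ c).coeff m • ((MonoidAlgebra.single m (1 : S) : MonoidAlgebra S M) - 1) ∈ kerIdeal ψ := by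
  have h1 : TensorProduct.map (ψ : D →ₗ[S] MonoidAlgebra S M) (ψ : D →ₗ[S] MonoidAlgebra S M)
      (Coalgebra.comul (R := S) c) = Coalgebra.comul (R := S) (ψ c) :=
    CoalgHomClass.map_comp_comul_apply ψ c
  have h2 := Lam_comul ψ m (ψ c)
  rw [← h1] at h2
  -- compute the left side through the counit
  have h3 : ∀ t : D ⊗[S] D,
      Lam ψ m (TensorProduct.map (ψ : D →ₗ[S] MonoidAlgebra S M)
        (ψ : D →ₗ[S] MonoidAlgebra S M) t) =
      (ψ (TensorProduct.lid S D (LinearMap.rTensor D (Coalgebra.counit (R := S) (A := D)) t))).coeff m •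
        (1 : MonoidAlgebra S M ⧸ kerIdeal ψ) := by
    intro t
    induction t using TensorProduct.induction_on with
    | zero => simp
    | add x y hx hy =>
      simp only [map_add, hx, hy, MonoidAlgebra.coeff_add, Finsupp.add_apply, add_smul]
    | tmul x y =>
      simp only [TensorProduct.map_tmul, LinearMap.rTensor_tmul, TensorProduct.lid_tmul, map_smul,
        MonoidAlgebra.coeff_smul, Finsupp.smul_apply, smul_eq_mul]
      show Lam ψ m (ψ x ⊗ₜ[S] ψ y) = _
      rw [Lam_tmul, mk_psi, smul_smul, mul_comm]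
  rw [h3, Coalgebra.rTensor_counit_comul, TensorProduct.lid_tmul, one_smul] at h2
  -- conclude
  have h4 : Ideal.Quotient.mk (kerIdeal ψ)
      ((ψ c).coeff m • ((MonoidAlgebra.single m (1 : S) : MonoidAlgebra S M) - 1)) = 0 := by
    have e1 : Ideal.Quotient.mk (kerIdeal ψ)
        ((ψ c).coeff m • ((MonoidAlgebra.single m (1 : S) : MonoidAlgebra S M) - 1)) =
        (ψ c).coeff m • Ideal.Quotient.mk (kerIdeal ψ) (MonoidAlgebra.single m 1) -
          (ψ c).coeff m • (1 : MonoidAlgebra S M ⧸ kerIdeal ψ) := by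
      rw [smul_sub, map_sub]
      rfl
    rw [e1, ← h2, sub_self]
  exact Ideal.Quotient.eq_zero_iff_mem.mp h4

end comod

section subgroup
variable {S : Type*} [CommRing S] {M : Type*} [CommGroup M]

/-- the elements `m` with `m - 1` in a given ideal form a subgroup -/
def idealSubgroup (𝔞 : Ideal (MonoidAlgebra S M)) : Subgroup M where
  carrier := {m | (MonoidAlgebra.single m (1 : S) : MonoidAlgebra S M) - 1 ∈ 𝔞}
  one_mem' := by
    show (MonoidAlgebra.single (1 : M) (1 : S) : MonoidAlgebra S M) - 1 ∈ 𝔞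
    rw [← MonoidAlgebra.one_def, sub_self]
    exact zero_mem _
  mul_mem' := by
    intro a b ha hb
    show (MonoidAlgebra.single (a * b) (1 : S) : MonoidAlgebra S M) - 1 ∈ 𝔞
    have : (MonoidAlgebra.single (a * b) (1 : S) : MonoidAlgebra S M) - 1 =
        MonoidAlgebra.single a 1 * (MonoidAlgebra.single b 1 - 1) +
          (MonoidAlgebra.single a 1 - 1) := by
      rw [mul_sub, MonoidAlgebra.single_mul_single, mul_one, mul_one]
      abel
    rw [this]
    exact add_mem (Ideal.mul_mem_left _ _ hb) ha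
  inv_mem' := by
    intro a ha
    show (MonoidAlgebra.single a⁻¹ (1 : S) : MonoidAlgebra S M) - 1 ∈ 𝔞
    have : (MonoidAlgebra.single a⁻¹ (1 : S) : MonoidAlgebra S M) - 1 =
        - (MonoidAlgebra.single a⁻¹ 1 * (MonoidAlgebra.single a 1 - 1)) := by
      rw [mul_sub, MonoidAlgebra.single_mul_single, mul_one, mul_one, inv_mul_cancel,
        ← MonoidAlgebra.one_def]
      abel
    rw [this]
    exact neg_mem (Ideal.mul_mem_left _ _ ha)

lemma mem_idealSubgroup (𝔞 : Ideal (MonoidAlgebra S M)) (m : M) :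
    m ∈ idealSubgroup 𝔞 ↔ (MonoidAlgebra.single m (1 : S) : MonoidAlgebra S M) - 1 ∈ 𝔞 := Iff.rfl

lemma augH_le_iff (H : Subgroup M) (𝔞 : Ideal (MonoidAlgebra S M)) :
    augH S H ≤ 𝔞 ↔ H ≤ idealSubgroup 𝔞 := by
  constructor
  · intro h m hm
    exact h (Ideal.subset_span ⟨⟨m, hm⟩, rfl⟩)
  · intro h
    rw [augH, Ideal.span_le]
    rintro _ ⟨⟨m, hm⟩, rfl⟩
    exact h hm

lemma mapDomain_mk_eq_zero_of_mem (H : Subgroup M) (x : MonoidAlgebra S M) (hx : x ∈ augH S H) :
    MonoidAlgebra.mapDomain (QuotientGroup.mk' H) x = 0 := by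
  have h1 : augH S H ≤ RingHom.ker (MonoidAlgebra.mapDomainRingHom S (QuotientGroup.mk' H)) := by
    rw [augH, Ideal.span_le]
    rintro _ ⟨⟨m, hm⟩, rfl⟩
    rw [SetLike.mem_coe, RingHom.mem_ker, map_sub, map_one]
    have : MonoidAlgebra.mapDomainRingHom S (QuotientGroup.mk' H) (MonoidAlgebra.single m 1) =
        MonoidAlgebra.single ((QuotientGroup.mk' H) m) 1 := by simp
    rw [this]
    have h2 : (QuotientGroup.mk' H) m = 1 := (QuotientGroup.eq_one_iff m).mpr hm
    rw [h2, MonoidAlgebra.one_def, sub_self]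
  exact h1 hx

end subgroup

section diag
variable (S : Type u) [CommRing S] (Q : Type u) [CommGroup Q]

lemma isMultType_monoidAlgebra : SGA3b.IsMultType S (MonoidAlgebra S Q) := by
  have h : IsSemiIso S S ((BialgEquiv.refl S (MonoidAlgebra S Q)).toBialgHom :
      MonoidAlgebra S Q →ₐ[S] MonoidAlgebra S Q) :=
    isSemiIso_bialgEquiv S (BialgEquiv.refl S (MonoidAlgebra S Q))
  exact Groth.Agent.Helper2.HopfTors.isMultType_of_chart S (MonoidAlgebra S Q) S Q _ h

end diag

section loc
variable {S : Type u} [CommRing S] [IsLocalRing S] {M : Type u} [CommGroup M]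
  {D : Type u} [CommRing D] [Bialgebra S D] (ψ : D →ₐc[S] MonoidAlgebra S M)

/-- the characters occurring with a unit coefficient -/
def unitSupp : Set M := {m | ∃ c : D, IsUnit ((ψ c).coeff m)}

omit [IsLocalRing S] in
lemma proj_sub_counit (H : Subgroup M) (y : MonoidAlgebra S M) :
    MonoidAlgebra.mapDomain (QuotientGroup.mk' H) y -
      algebraMap S (MonoidAlgebra S (M ⧸ H)) (Coalgebra.counit (R := S) y) =
      y.coeff.sum (fun m a => a • ((MonoidAlgebra.single ((QuotientGroup.mk' H) m) (1 : S) :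
        MonoidAlgebra S (M ⧸ H)) - 1)) := by
  induction y using MonoidAlgebra.induction_linear with
  | zero => simp
  | add a b ha hb =>
    rw [MonoidAlgebra.mapDomain_add, map_add, map_add, add_sub_add_comm, ha, hb,
      MonoidAlgebra.coeff_add, Finsupp.sum_add_index' (by simp) (by intro m a b; rw [add_smul])]
  | single m r =>
    rw [MonoidAlgebra.mapDomain_single, MonoidAlgebra.counit_single, MonoidAlgebra.coeff_single,
      Finsupp.sum_single_index (by simp)]
    rw [smul_sub, MonoidAlgebra.smul_single, smul_eq_mul, mul_one, Algebra.algebraMap_eq_smul_one]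
    rfl

/-- over a local ring, the kernel of a homomorphism from a diagonalisable group to an affine group
of finite type is the diagonalisable subgroup cut out by the characters occurring with a unit
coefficient -/
theorem kerIdeal_eq_augH (hD : Algebra.FiniteType S D) :
    kerIdeal ψ = augH S (Subgroup.closure (unitSupp ψ)) := by
  classical
  set M' := Subgroup.closure (unitSupp ψ) with hM'
  apply le_antisymm
  · -- rigidity
    let ψb : D →ₐc[S] MonoidAlgebra S (M ⧸ M') :=
      (MonoidAlgebra.mapDomainBialgHom S (QuotientGroup.mk' M')).comp ψ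
    have hψb : ∀ c, ψb c = MonoidAlgebra.mapDomain (QuotientGroup.mk' M') (ψ c) := fun c => rfl
    have hs : ∀ c : D, ψb c - algebraMap S (MonoidAlgebra S (M ⧸ M'))
        (Coalgebra.counit (R := S) c) ∈
        Ideal.map (algebraMap S (MonoidAlgebra S (M ⧸ M'))) (IsLocalRing.maximalIdeal S) := by
      intro c
      have hc : Coalgebra.counit (R := S) c = Coalgebra.counit (R := S) (ψ c) := by simp
      rw [hψb, hc, proj_sub_counit, Finsupp.sum]
      apply Ideal.sum_mem
      intro m hm
      by_cases hmM : m ∈ M'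
      · have h1 : (QuotientGroup.mk' M') m = 1 := (QuotientGroup.eq_one_iff m).mpr hmM
        rw [h1, MonoidAlgebra.one_def, sub_self, smul_zero]
        exact zero_mem _
      · have h2 : ¬ IsUnit ((ψ c).coeff m) := by
          intro hu
          exact hmM (Subgroup.subset_closure ⟨c, hu⟩)
        have h3 : (ψ c).coeff m ∈ IsLocalRing.maximalIdeal S :=
          (IsLocalRing.mem_maximalIdeal _).mpr h2
        rw [Algebra.smul_def]
        exact Ideal.mul_mem_right _ _ (Ideal.mem_map_of_mem _ h3)
    have htriv := Groth.Agent.Helper2.TrivRigid.s5245 S (MonoidAlgebra S (M ⧸ M'))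
      (isMultType_monoidAlgebra S (M ⧸ M')) D (Or.inr hD) ψb hs
    rw [kerIdeal, Ideal.map_le_iff_le_comap]
    intro c hc
    rw [Ideal.mem_comap]
    apply ker_mapDomain_mk_le
    have hc' : Coalgebra.counit (R := S) c = 0 := hc
    have := htriv c
    rw [hc', map_zero, hψb] at this
    exact this
  · rw [augH_le_iff, Subgroup.closure_le]
    rintro m ⟨c, hc⟩
    show (MonoidAlgebra.single m (1 : S) : MonoidAlgebra S M) - 1 ∈ kerIdeal ψ
    have h := coeff_smul_mem ψ c m
    obtain ⟨u, hu⟩ := hc
    have h1 : (MonoidAlgebra.single m (1 : S) : MonoidAlgebra S M) - 1 =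
        (↑u⁻¹ : S) • ((ψ c).coeff m • ((MonoidAlgebra.single m (1 : S) : MonoidAlgebra S M) - 1)) := by
      rw [smul_smul, ← hu, Units.inv_mul, one_smul]
    rw [h1]
    exact Submodule.smul_of_tower_mem _ _ h

end loc

end Groth.Agent.Helper2.KerAff
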