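import Mathlib
import Groth.Prelude.Def_SGA3b
import Groth.Agent.Helper2.KerAff1

set_option autoImplicit false

namespace Groth.Agent.Helper2.KerAff
open TensorProduct Groth.Agent.Helper2.NilSplit Groth.Agent.Helper2.KerMT

universe u

section spread
variable {E : Type*} [CommRing E] (𝔮 : Ideal E) [𝔮.IsPrime] (M : Type*) [CommGroup M]

local notation "S𝔮" => Localization.AtPrime 𝔮

/-- an element of `E[M]` vanishing over the local ring is killed by some `h ∉ 𝔮` -/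
lemma exists_smul_eq_zero (x : MonoidAlgebra E M) (hx : rho E (Localization.AtPrime 𝔮) M x = 0) :
    ∃ h : E, h ∉ 𝔮 ∧ h • x = 0 := by
  classical
  have h1 : ∀ m : M, ∃ h : 𝔮.primeCompl, (h : E) * x.coeff m = 0 := by
    intro m
    have h2 : algebraMap E (Localization.AtPrime 𝔮) (x.coeff m) = 0 := by
      have := congrArg (fun y => y.coeff m) hx
      simpa using this
    exact (IsLocalization.map_eq_zero_iff 𝔮.primeCompl (Localization.AtPrime 𝔮) _).mp h2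
  choose hm hhm using h1
  refine ⟨∏ m ∈ x.coeff.support, (hm m : E), ?_, ?_⟩
  · have : (∏ m ∈ x.coeff.support, (hm m : E)) ∈ 𝔮.primeCompl :=
      Submonoid.prod_mem _ (fun m _ => (hm m).2)
    exact this
  · apply MonoidAlgebra.coeff_injective
    ext m
    simp only [MonoidAlgebra.coeff_smul, Finsupp.smul_apply, smul_eq_mul, MonoidAlgebra.coeff_zero,
      Finsupp.zero_apply]
    by_cases hms : m ∈ x.coeff.support
    · rw [← Finset.prod_erase_mul _ _ hms, mul_assoc, hhm m, mul_zero]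
    · have : x.coeff m = 0 := by simpa using hms
      rw [this, mul_zero]

/-- an element over the local ring becomes, after multiplication by some `h ∉ 𝔮`, an element
defined over `E` -/
lemma exists_rho_eq_smul (y : MonoidAlgebra (Localization.AtPrime 𝔮) M) :
    ∃ h : E, h ∉ 𝔮 ∧ ∃ x : MonoidAlgebra E M, rho E (Localization.AtPrime 𝔮) M x = h • y := by
  induction y using MonoidAlgebra.induction_linear with
  | zero => exact ⟨1, (Ideal.IsPrime.one_notMem ‹_›), 0, by simp⟩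
  | add a b ha hb =>
    obtain ⟨h₁, hh₁, x₁, hx₁⟩ := ha
    obtain ⟨h₂, hh₂, x₂, hx₂⟩ := hb
    refine ⟨h₁ * h₂, fun h => (Ideal.IsPrime.mem_or_mem ‹_› h).elim hh₁ hh₂,
      h₂ • x₁ + h₁ • x₂, ?_⟩
    rw [map_add, map_smul, map_smul, hx₁, hx₂, smul_add, smul_smul, smul_smul, mul_comm h₂ h₁]
  | single m s =>
    obtain ⟨⟨a, b⟩, hab⟩ := IsLocalization.surj 𝔮.primeCompl s
    refine ⟨b, b.2, MonoidAlgebra.single m a, ?_⟩
    rw [rho_single, ← hab, MonoidAlgebra.smul_single, Algebra.smul_def, mul_comm]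

/-- elements of the extension of an ideal to the local ring come, up to some `h ∉ 𝔮`, from the
ideal -/
lemma exists_mem_rho_eq_smul (𝔞 : Ideal (MonoidAlgebra E M))
    (z : MonoidAlgebra (Localization.AtPrime 𝔮) M)
    (hz : z ∈ Ideal.map (rho E (Localization.AtPrime 𝔮) M) 𝔞) :
    ∃ h : E, h ∉ 𝔮 ∧ ∃ a ∈ 𝔞, rho E (Localization.AtPrime 𝔮) M a = h • z := by
  unfold Ideal.map at hz
  induction hz using Submodule.span_induction with
  | mem z hz =>
    obtain ⟨a, ha, rfl⟩ := hz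
    exact ⟨1, (Ideal.IsPrime.one_notMem ‹_›), a, ha, by simp⟩
  | zero => exact ⟨1, (Ideal.IsPrime.one_notMem ‹_›), 0, zero_mem _, by simp⟩
  | add z₁ z₂ _ _ h₁ h₂ =>
    obtain ⟨h₁, hh₁, a₁, ha₁, e₁⟩ := h₁
    obtain ⟨h₂, hh₂, a₂, ha₂, e₂⟩ := h₂
    refine ⟨h₁ * h₂, fun h => (Ideal.IsPrime.mem_or_mem ‹_› h).elim hh₁ hh₂,
      h₂ • a₁ + h₁ • a₂, add_mem (Submodule.smul_of_tower_mem _ _ ha₁)
        (Submodule.smul_of_tower_mem _ _ ha₂), ?_⟩
    rw [map_add, map_smul, map_smul, e₁, e₂, smul_add, smul_smul, smul_smul, mul_comm h₂ h₁]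
  | smul y z _ hz =>
    obtain ⟨h₁, hh₁, a₁, ha₁, e₁⟩ := hz
    obtain ⟨h₂, hh₂, x₂, e₂⟩ := exists_rho_eq_smul 𝔮 M y
    refine ⟨h₂ * h₁, fun h => (Ideal.IsPrime.mem_or_mem ‹_› h).elim hh₂ hh₁,
      x₂ * a₁, Ideal.mul_mem_left _ _ ha₁, ?_⟩
    rw [map_mul, e₁, e₂, smul_mul_smul_comm, smul_eq_mul]

/-- membership in the extension of an ideal to the local ring spreads out -/
lemma exists_smul_mem (𝔞 : Ideal (MonoidAlgebra E M)) (x : MonoidAlgebra E M)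
    (hx : rho E (Localization.AtPrime 𝔮) M x ∈ Ideal.map (rho E (Localization.AtPrime 𝔮) M) 𝔞) :
    ∃ h : E, h ∉ 𝔮 ∧ h • x ∈ 𝔞 := by
  obtain ⟨h₁, hh₁, a, ha, e⟩ := exists_mem_rho_eq_smul 𝔮 M 𝔞 _ hx
  have h0 : rho E (Localization.AtPrime 𝔮) M (a - h₁ • x) = 0 := by
    rw [map_sub, map_smul, e, sub_self]
  obtain ⟨h₂, hh₂, e₂⟩ := exists_smul_eq_zero 𝔮 M _ h0
  refine ⟨h₂ * h₁, fun h => (Ideal.IsPrime.mem_or_mem ‹_› h).elim hh₂ hh₁, ?_⟩
  rw [smul_sub, sub_eq_zero, smul_smul] at e₂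
  rw [← e₂]
  exact Submodule.smul_of_tower_mem _ _ ha

/-- an inclusion of extended ideals over the local ring spreads out, the smaller ideal being
finitely generated -/
lemma exists_smul_le (𝔞 𝔟 : Ideal (MonoidAlgebra E M)) (h𝔟 : 𝔟.FG)
    (hle : Ideal.map (rho E (Localization.AtPrime 𝔮) M) 𝔟 ≤
      Ideal.map (rho E (Localization.AtPrime 𝔮) M) 𝔞) :
    ∃ h : E, h ∉ 𝔮 ∧ ∀ b ∈ 𝔟, h • b ∈ 𝔞 := by
  classical
  obtain ⟨F, rfl⟩ := h𝔟
  have h1 : ∀ f ∈ F, ∃ h : E, h ∉ 𝔮 ∧ h • f ∈ 𝔞 := by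
    intro f hf
    apply exists_smul_mem 𝔮 M 𝔞 f
    exact hle (Ideal.mem_map_of_mem _ (Ideal.subset_span hf))
  choose! hf hhf hmem using h1
  refine ⟨∏ f ∈ F, hf f, ?_, ?_⟩
  · have : (∏ f ∈ F, hf f) ∈ 𝔮.primeCompl := Submonoid.prod_mem _ (fun f hfF => hhf f hfF)
    exact this
  · intro b hb
    induction hb using Submodule.span_induction with
    | mem f hfF =>
      rw [← Finset.prod_erase_mul _ _ hfF, mul_smul]
      exact Submodule.smul_of_tower_mem _ _ (hmem f hfF)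
    | zero => rw [smul_zero]; exact zero_mem _
    | add x y _ _ hx hy => rw [smul_add]; exact add_mem hx hy
    | smul c x _ hx =>
      rw [smul_eq_mul, ← mul_smul_comm]
      exact Ideal.mul_mem_left _ _ hx

/-- an equality of extended finitely generated ideals over the local ring spreads out to a
principal localisation -/
theorem exists_map_eq (𝔞 𝔟 : Ideal (MonoidAlgebra E M)) (h𝔞 : 𝔞.FG) (h𝔟 : 𝔟.FG)
    (heq : Ideal.map (rho E (Localization.AtPrime 𝔮) M) 𝔞 =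
      Ideal.map (rho E (Localization.AtPrime 𝔮) M) 𝔟) :
    ∃ h : E, h ∉ 𝔮 ∧ ∀ (T : Type*) [CommRing T] [Algebra E T], IsUnit (algebraMap E T h) →
      Ideal.map (rho E T M) 𝔞 = Ideal.map (rho E T M) 𝔟 := by
  obtain ⟨h₁, hh₁, H₁⟩ := exists_smul_le 𝔮 M 𝔞 𝔟 h𝔟 heq.ge
  obtain ⟨h₂, hh₂, H₂⟩ := exists_smul_le 𝔮 M 𝔟 𝔞 h𝔞 heq.le
  refine ⟨h₁ * h₂, fun h => (Ideal.IsPrime.mem_or_mem ‹_› h).elim hh₁ hh₂, ?_⟩
  intro T _ _ hu
  rw [map_mul] at hu
  have hu₁ : IsUnit (algebraMap E T h₁) := isUnit_of_mul_isUnit_left hu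
  have hu₂ : IsUnit (algebraMap E T h₂) := isUnit_of_mul_isUnit_right hu
  have key : ∀ (𝔠 𝔡 : Ideal (MonoidAlgebra E M)) (h : E), IsUnit (algebraMap E T h) →
      (∀ b ∈ 𝔡, h • b ∈ 𝔠) → Ideal.map (rho E T M) 𝔡 ≤ Ideal.map (rho E T M) 𝔠 := by
    intro 𝔠 𝔡 h hu H
    rw [Ideal.map_le_iff_le_comap]
    intro b hb
    rw [Ideal.mem_comap]
    obtain ⟨u, hu⟩ := hu
    have h1 : rho E T M (h • b) ∈ Ideal.map (rho E T M) 𝔠 := Ideal.mem_map_of_mem _ (H b hb)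
    rw [map_smul, ← algebraMap_smul T h (rho E T M b), ← hu] at h1
    have h2 : rho E T M b = (↑u⁻¹ : T) • ((u : T) • rho E T M b) := by
      rw [smul_smul, Units.inv_mul, one_smul]
    rw [h2]
    exact Submodule.smul_of_tower_mem _ _ h1
  exact le_antisymm (key 𝔟 𝔞 h₂ hu₂ H₂) (key 𝔞 𝔟 h₁ hu₁ H₁)

end spread

end Groth.Agent.Helper2.KerAff
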