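import Mathlib
import Groth.Prelude.Def_SGA3b
import Groth.Agent.Helper2.KerAff2
import Groth.Agent.Helper2.QIso15

set_option autoImplicit false

namespace Groth.Agent.Helper2.KerAff
open TensorProduct Groth.Agent.Helper2.MultTypeSemi Groth.Agent.Helper2.SemiIso
  Groth.Agent.Helper2.NilLift Groth.Agent.Helper2.TorsFin Groth.Agent.Helper2.NilSplit
  Groth.Agent.Helper2.KerMT Groth.Agent.Helper2.QIso Groth.Agent.Helper2.TorsDens

universe u

section fg
variable {M : Type*} [CommGroup M]

lemma subgroup_fg [Group.FG M] (H : Subgroup M) : H.FG := by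
  rw [Subgroup.fg_iff_add_fg]
  haveI : AddGroup.FG (Additive M) := GroupFG.iff_add_fg.1 ‹_›
  haveI : Module.Finite ℤ (Additive M) := Module.Finite.iff_addGroup_fg.mpr inferInstance
  have h := IsNoetherian.noetherian (AddSubgroup.toIntSubmodule H.toAddSubgroup)
  rw [Submodule.fg_iff_addSubgroup_fg, AddSubgroup.toIntSubmodule_toAddSubgroup] at h
  exact h

variable (T : Type*) [CommRing T]

lemma augH_fg (H : Subgroup M) (hH : H.FG) : (augH T H).FG := by
  classical
  obtain ⟨F, rfl⟩ := hH
  refine ⟨F.image (fun m => (MonoidAlgebra.single m (1 : T) : MonoidAlgebra T M) - 1), ?_⟩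
  apply le_antisymm
  · rw [Ideal.span_le]
    intro x hx
    rw [Finset.coe_image] at hx
    obtain ⟨m, hm, rfl⟩ := hx
    exact Ideal.subset_span ⟨⟨m, Subgroup.subset_closure hm⟩, rfl⟩
  · rw [augH_le_iff, Subgroup.closure_le]
    intro m hm
    rw [SetLike.mem_coe, mem_idealSubgroup]
    apply Ideal.subset_span
    rw [Finset.coe_image]
    exact ⟨m, hm, rfl⟩

variable {T} {T' : Type*} [CommRing T'] [Algebra T T']

lemma map_rho_augH (H : Subgroup M) :
    Ideal.map (rho T T' M) (augH T H) = augH T' H := by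
  rw [augH, Ideal.map_span, augH]
  congr 1
  ext x
  constructor
  · rintro ⟨_, ⟨h, rfl⟩, rfl⟩
    exact ⟨h, by simp⟩
  · rintro ⟨h, rfl⟩
    exact ⟨_, ⟨h, rfl⟩, by simp⟩

end fg

section lc
variable {R : Type u} [CommRing R] {A : Type u} [CommRing A] [HopfAlgebra R A]
  {C : Type u} [CommRing C] [HopfAlgebra R C] (φ : C →ₐc[R] A)
variable (J : Ideal A)
variable {S : Type u} [CommRing S] [IsLocalRing S] [Algebra R S] {M : Type u} [CommGroup M]
  {θ : A →ₐ[R] MonoidAlgebra S M}

/-- over a local chart ring, the ideal of the kernel becomes the ideal of a diagonalisable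
subgroup -/
theorem exists_subgroup_map_eq (hC : Algebra.FiniteType R C) (hθ : IsSemiIso R S θ)
    (hJ : J = Ideal.map φ (RingHom.ker (Bialgebra.counitAlgHom R C))) :
    ∃ M' : Subgroup M, Ideal.map (θ : A →+* MonoidAlgebra S M) J = augH S M' := by
  haveI := hC
  let θφ : C →ₐ[R] MonoidAlgebra S M := (θ.restrictScalars R).comp (φ : C →ₐ[R] A)
  have hθφ : IsSemiCoalg R S θφ := (isSemiCoalg_bialgHom R φ).comp R R S hθ.1
  have hθφa : ∀ c, θφ c = θ (φ c) := fun c => rfl
  have hl : IsSemiCoalg S S (liftMap R S θφ) := isSemiCoalg_liftMap R S S hθφ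
  let ψ : S ⊗[R] C →ₐc[S] MonoidAlgebra S M := bialgHomOfSemi (liftMap R S θφ) hl
  have hψ : ∀ z, ψ z = liftMap R S θφ z := fun z => rfl
  haveI : Algebra.FiniteType S (S ⊗[R] C) := inferInstance
  refine ⟨Subgroup.closure (unitSupp ψ), ?_⟩
  rw [← kerIdeal_eq_augH ψ inferInstance]
  apply le_antisymm
  · rw [hJ, Ideal.map_le_iff_le_comap, Ideal.map_le_iff_le_comap]
    intro c hc
    rw [Ideal.mem_comap, Ideal.mem_comap]
    have h1 : θ (φ c) = ψ ((1 : S) ⊗ₜ[R] c) := by
      rw [hψ, liftMap_tmul, one_smul, hθφa]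
    show θ (φ c) ∈ kerIdeal ψ
    rw [h1]
    apply Ideal.mem_map_of_mem
    rw [RingHom.mem_ker]
    have hc' : Coalgebra.counit (R := R) c = 0 := hc
    show Coalgebra.counit (R := S) ((1 : S) ⊗ₜ[R] c) = 0
    simp [hc']
  · have key : ∀ z : S ⊗[R] C, ψ z - algebraMap S (MonoidAlgebra S M)
        (Coalgebra.counit (R := S) z) ∈ Ideal.map (θ : A →+* MonoidAlgebra S M) J := by
      intro z
      induction z using TensorProduct.induction_on with
      | zero => simp
      | add x y hx hy =>
        simp only [map_add]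
        rw [add_sub_add_comm]
        exact add_mem hx hy
      | tmul t c =>
        have h2 : Coalgebra.counit (R := S) (t ⊗ₜ[R] c) =
            t * algebraMap R S (Coalgebra.counit (R := R) c) := by
          simp [Algebra.smul_def, mul_comm]
        have h3 : ψ (t ⊗ₜ[R] c) - algebraMap S (MonoidAlgebra S M)
            (t * algebraMap R S (Coalgebra.counit (R := R) c)) =
            algebraMap S (MonoidAlgebra S M) t *
              θ (φ (c - algebraMap R C (Coalgebra.counit (R := R) c))) := by
          rw [hψ, liftMap_tmul, hθφa, map_sub, map_sub, AlgHomClass.commutes φ, AlgHom.commutes,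
            mul_sub, ← Algebra.smul_def, map_mul,
            ← IsScalarTower.algebraMap_apply R S (MonoidAlgebra S M)]
        rw [h2, h3]
        apply Ideal.mul_mem_left
        apply Ideal.mem_map_of_mem
        rw [hJ]
        refine Ideal.mem_map_of_mem _ ?_
        rw [RingHom.mem_ker, map_sub, AlgHom.commutes]
        simp
    rw [kerIdeal, Ideal.map_le_iff_le_comap]
    intro z hz
    rw [Ideal.mem_comap]
    have hz' : Coalgebra.counit (R := S) z = 0 := hz
    have := key z
    rw [hz', map_zero, sub_zero] at this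
    exact this

end lc

section quot
variable (T : Type*) [CommRing T] {M : Type*} [CommGroup M] (H : Subgroup M)

/-- the projection onto the group algebra of the quotient -/
noncomputable def projB : MonoidAlgebra T M →ₐc[T] MonoidAlgebra T (M ⧸ H) :=
  MonoidAlgebra.mapDomainBialgHom T (QuotientGroup.mk' H)

lemma projB_apply (x : MonoidAlgebra T M) :
    projB T H x = MonoidAlgebra.mapDomain (QuotientGroup.mk' H) x := rfl

lemma projB_surjective : Function.Surjective (projB T H) := by
  intro y
  induction y using MonoidAlgebra.induction_linear with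
  | zero => exact ⟨0, map_zero _⟩
  | add a b ha hb =>
    obtain ⟨a', rfl⟩ := ha
    obtain ⟨b', rfl⟩ := hb
    exact ⟨a' + b', map_add _ _ _⟩
  | single q r =>
    obtain ⟨m, rfl⟩ := QuotientGroup.mk_surjective q
    exact ⟨MonoidAlgebra.single m r, by simp [projB]⟩

lemma ker_projB :
    RingHom.ker ((projB T H : MonoidAlgebra T M →ₐ[T] MonoidAlgebra T (M ⧸ H)) :
      MonoidAlgebra T M →+* MonoidAlgebra T (M ⧸ H)) = augH T H := by
  apply le_antisymm
  · intro x hx
    exact ker_mapDomain_mk_le T H x hx
  · intro x hx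
    exact mapDomain_mk_eq_zero_of_mem H x hx

end quot

end Groth.Agent.Helper2.KerAff
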