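import Mathlib
import Groth.Prelude.Def_SGA3b
import Groth.Agent.Helper2.KerAff3

set_option autoImplicit false

namespace Groth.Agent.Helper2.KerAff
open TensorProduct Groth.Agent.Helper2.MultTypeSemi Groth.Agent.Helper2.SemiIso
  Groth.Agent.Helper2.NilLift Groth.Agent.Helper2.TorsFin Groth.Agent.Helper2.NilSplit
  Groth.Agent.Helper2.KerMT Groth.Agent.Helper2.QIso Groth.Agent.Helper2.TorsDens

universe u

section gen

lemma ideal_map_comp {X Y Z : Type*} [CommRing X] [CommRing Y] [CommRing Z] {F G H : Type*}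
    [FunLike F X Y] [RingHomClass F X Y] [FunLike G Y Z] [RingHomClass G Y Z] [FunLike H X Z]
    [RingHomClass H X Z] (f : F) (g : G) (k : H) (hk : ∀ x, k x = g (f x)) (I : Ideal X) :
    Ideal.map g (Ideal.map f I) = Ideal.map k I := by
  apply le_antisymm
  · rw [Ideal.map_le_iff_le_comap, Ideal.map_le_iff_le_comap]
    intro x hx
    rw [Ideal.mem_comap, Ideal.mem_comap, ← hk]
    exact Ideal.mem_map_of_mem _ hx
  · rw [Ideal.map_le_iff_le_comap]
    intro x hx
    rw [Ideal.mem_comap, hk]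
    exact Ideal.mem_map_of_mem _ (Ideal.mem_map_of_mem _ hx)

end gen

section as
variable {R : Type u} [CommRing R] {A : Type u} [CommRing A] [HopfAlgebra R A]
  {C : Type u} [CommRing C] [HopfAlgebra R C] (φ : C →ₐc[R] A)
variable (J : Ideal A) [J.IsHopfIdeal R]
variable {E : Type u} [CommRing E] [Algebra R E] (𝔮 : Ideal E) [𝔮.IsPrime]
  {M : Type u} [CommGroup M] [Group.FG M] {θ : A →ₐ[R] MonoidAlgebra E M}

/-- the chart of the kernel over a principal localisation of a chart ring of the source -/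
theorem exists_chart_away (hC : Algebra.FinitePresentation R C) (hθ : IsSemiIso R E θ)
    (hJ : J = Ideal.map φ (RingHom.ker (Bialgebra.counitAlgHom R C))) :
    ∃ h : E, h ∉ 𝔮 ∧ ∃ M' : Subgroup M,
      ∃ χ : (A ⧸ J) →ₐ[R] MonoidAlgebra (Localization.Away h) (M ⧸ M'),
        IsSemiIso R (Localization.Away h) χ := by
  haveI := hC
  have hCft : Algebra.FiniteType R C := inferInstance
  let S := Localization.AtPrime 𝔮
  have hθS : IsSemiIso R S (((rho E S M).restrictScalars R).comp θ) :=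
    isSemiIso_rho_comp (T₂ := S) hθ
  obtain ⟨M', hM'⟩ := exists_subgroup_map_eq φ J hCft hθS hJ
  let 𝔞 : Ideal (MonoidAlgebra E M) := Ideal.map (θ : A →+* MonoidAlgebra E M) J
  let 𝔟 : Ideal (MonoidAlgebra E M) := augH E M'
  have hIC : (RingHom.ker (Bialgebra.counitAlgHom R C)).FG := by
    have hs : Function.Surjective (Bialgebra.counitAlgHom R C) := by
      intro r
      exact ⟨algebraMap R C r, by simp⟩
    exact Algebra.FinitePresentation.ker_fG_of_surjective (Bialgebra.counitAlgHom R C) hs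
  have hJfg : J.FG := by
    have h1 : Ideal.map φ (RingHom.ker (Bialgebra.counitAlgHom R C)) =
        Ideal.map ((φ : C →ₐ[R] A) : C →+* A) (RingHom.ker (Bialgebra.counitAlgHom R C)) := rfl
    rw [hJ, h1]
    exact hIC.map _
  have h𝔞 : 𝔞.FG := hJfg.map _
  have h𝔟 : 𝔟.FG := augH_fg E M' (subgroup_fg M')
  have heq : Ideal.map (rho E S M) 𝔞 = Ideal.map (rho E S M) 𝔟 := by
    rw [map_rho_augH, ← hM']
    exact ideal_map_comp _ _ _ (fun x => rfl) J
  obtain ⟨h, hh, H⟩ := exists_map_eq 𝔮 M 𝔞 𝔟 h𝔞 h𝔟 heq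
  refine ⟨h, hh, M', ?_⟩
  let Eh := Localization.Away h
  have hu : IsUnit (algebraMap E Eh h) := IsLocalization.Away.algebraMap_isUnit h
  have hθh : IsSemiIso R Eh (((rho E Eh M).restrictScalars R).comp θ) :=
    isSemiIso_rho_comp (T₂ := Eh) hθ
  have hmap : Ideal.map ((((rho E Eh M).restrictScalars R).comp θ : A →ₐ[R] MonoidAlgebra Eh M) :
      A →+* MonoidAlgebra Eh M) J = augH Eh M' := by
    rw [← map_rho_augH (T := E) (T' := Eh) M', ← H Eh hu]
    exact (ideal_map_comp _ _ _ (fun x => rfl) J).symm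
  apply exists_quotChart (projB Eh M' : MonoidAlgebra Eh M →ₐ[Eh] MonoidAlgebra Eh (M ⧸ M')) J hθh
    (isSemiCoalg_bialgHom Eh (projB Eh M')) (projB_surjective Eh M')
  rw [hmap, ker_projB]

end as

section final
variable (R : Type u) [CommRing R] (A : Type u) [CommRing A] [HopfAlgebra R A]
  (C : Type u) [CommRing C] [HopfAlgebra R C]

attribute [local instance] Algebra.TensorProduct.rightAlgebra in
/-- the kernel of a homomorphism from a group of multiplicative type and of finite type to an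
affine group of finite presentation is quasi-isotrivial near every prime -/
theorem exists_quasiIsotrivialConst_ker (hft : Algebra.FiniteType R A) (h : SGA3b.IsMultType R A)
    (hC : Algebra.FinitePresentation R C) (φ : C →ₐc[R] A) (J : Ideal A) [J.IsHopfIdeal R]
    (hJ : J = Ideal.map φ (RingHom.ker (Bialgebra.counitAlgHom R C)))
    (𝔭 : Ideal R) [𝔭.IsPrime] :
    ∃ f : R, f ∉ 𝔭 ∧ SGA3b.IsQuasiIsotrivialConst (Localization.Away f)
      (Localization.Away f ⊗[R] (A ⧸ J)) := by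
  obtain ⟨E, _, _, het, 𝔮, h𝔮, M, _, θ, hcomap, hθ⟩ :=
    exists_etale_chart_of_isMultType R A hft h 𝔭
  haveI := het
  haveI := h𝔮
  haveI : Nontrivial E := by
    by_contra hT
    haveI : Subsingleton E := not_nontrivial_iff_subsingleton.mp hT
    exact h𝔮.ne_top (Subsingleton.elim _ _)
  haveI : Group.FG M := group_fg_of_chart hft hθ
  obtain ⟨hh, hh𝔮, M', χ, hχ⟩ := exists_chart_away φ J 𝔮 hC hθ hJ
  let Eh := Localization.Away hh
  haveI : Algebra.Etale E Eh := Algebra.Etale.of_isLocalizationAway hh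
  haveI : Algebra.Etale R Eh := Algebra.Etale.comp R E Eh
  have hdisj : Disjoint (Submonoid.powers hh : Set E) (𝔮 : Set E) :=
    (Ideal.disjoint_powers_iff_notMem_of_isPrime _).mpr hh𝔮
  have hprime : (𝔮.map (algebraMap E Eh)).IsPrime :=
    IsLocalization.isPrime_of_isPrime_disjoint (Submonoid.powers hh) Eh _ h𝔮 hdisj
  have hcm : (𝔮.map (algebraMap E Eh)).comap (algebraMap E Eh) = 𝔮 :=
    IsLocalization.comap_map_of_isPrime_disjoint (Submonoid.powers hh) Eh h𝔮 hdisj
  have hopen : IsOpen (Set.range (PrimeSpectrum.comap (algebraMap R Eh))) :=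
    (PrimeSpectrum.isOpenMap_comap_of_hasGoingDown_of_finitePresentation
      (R := R) (S := Eh)).isOpen_range
  have hmem : (⟨𝔭, inferInstance⟩ : PrimeSpectrum R) ∈
      Set.range (PrimeSpectrum.comap (algebraMap R Eh)) := by
    refine ⟨⟨_, hprime⟩, PrimeSpectrum.ext ?_⟩
    show (𝔮.map (algebraMap E Eh)).comap (algebraMap R Eh) = 𝔭
    rw [IsScalarTower.algebraMap_eq R E Eh, ← Ideal.comap_comap, hcm, hcomap]
  obtain ⟨_, ⟨f, rfl⟩, hf𝔭, hfU⟩ :=
    PrimeSpectrum.isTopologicalBasis_basic_opens.exists_subset_of_mem_open hmem hopen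
  refine ⟨f, hf𝔭, ?_⟩
  haveI : Module.FaithfullyFlat (Localization.Away f) (Localization.Away f ⊗[R] Eh) :=
    faithfullyFlat_away_tensor R Eh f hfU
  exact isQuasiIsotrivialConst_of_chart R (A ⧸ J) f (T := Localization.Away f ⊗[R] Eh) χ hχ

theorem isQuasiIsotrivial_ker (hft : Algebra.FiniteType R A) (h : SGA3b.IsMultType R A)
    (hC : Algebra.FinitePresentation R C) (φ : C →ₐc[R] A) (J : Ideal A) [J.IsHopfIdeal R]
    (hJ : J = Ideal.map φ (RingHom.ker (Bialgebra.counitAlgHom R C))) :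
    SGA3b.IsQuasiIsotrivial R (A ⧸ J) := by
  refine ⟨{f | SGA3b.IsQuasiIsotrivialConst (Localization.Away f)
    (Localization.Away f ⊗[R] (A ⧸ J))}, ?_, fun f hf => hf⟩
  by_contra hne
  obtain ⟨𝔪, h𝔪, hle⟩ := Ideal.exists_le_maximal _ hne
  haveI := h𝔪.isPrime
  obtain ⟨f, hf𝔪, hf⟩ := exists_quasiIsotrivialConst_ker R A C hft h hC φ J hJ 𝔪
  exact hf𝔪 (hle (Ideal.subset_span hf))

theorem s2982 (hft : Algebra.FiniteType R A) (h : SGA3b.IsMultType R A)
    (hC : Algebra.FinitePresentation R C) (φ : C →ₐc[R] A) (J : Ideal A) [J.IsHopfIdeal R]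
    (hJ : J = Ideal.map φ (RingHom.ker (Bialgebra.counitAlgHom R C))) :
    SGA3b.IsMultType R (A ⧸ J) := by
  obtain ⟨s, hs, hf⟩ := isQuasiIsotrivial_ker R A C hft h hC φ J hJ
  refine ⟨s, hs, fun f hfs => ?_⟩
  obtain ⟨R', i1, i2, -, hff, hd⟩ := hf f hfs
  exact ⟨R', i1, i2, hff, hd⟩

end final

end Groth.Agent.Helper2.KerAff
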