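import Mathlib

namespace Groth.Agent.Helper2.KerCot
open TensorProduct KaehlerDifferential

universe u

/-- If `E → C` is a square-zero thickening under `A` admitting a `Λ`-algebra section, then an element
`j ∈ ker (A → C)` whose class is killed by the conormal map dies in `E`. -/
theorem algebraMap_eq_zero_of_kerCotangentToTensor_eq_zero {Λ A C E : Type*} [CommRing Λ]
    [CommRing A] [CommRing C] [CommRing E] [Algebra Λ A] [Algebra A C] [Algebra Λ C]
    [IsScalarTower Λ A C] [Algebra A E] [Algebra Λ E] [IsScalarTower Λ A E] [Algebra E C]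
    [IsScalarTower A E C] [IsScalarTower Λ E C]
    (hE2 : (RingHom.ker (algebraMap E C)) ^ 2 = ⊥) (g : C →ₐ[Λ] E)
    (hg : (IsScalarTower.toAlgHom Λ E C).comp g = AlgHom.id Λ C)
    (j : RingHom.ker (algebraMap A C))
    (hj : kerCotangentToTensor Λ A C ((RingHom.ker (algebraMap A C)).toCotangent j) = 0) :
    algebraMap A E j = 0 := by
  have hjE : algebraMap A E j ∈ RingHom.ker (algebraMap E C) := by
    rw [RingHom.mem_ker, ← IsScalarTower.algebraMap_apply]
    exact j.2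
  let τ : C ⊗[A] Ω[A⁄Λ] →ₗ[A] C ⊗[E] Ω[E⁄Λ] :=
    (TensorProduct.mapOfCompatibleSMul E A A C Ω[E⁄Λ]) ∘ₗ
      ((KaehlerDifferential.map Λ Λ A E).lTensor C)
  have h1 : τ (kerCotangentToTensor Λ A C ((RingHom.ker (algebraMap A C)).toCotangent j)) =
      kerToTensor Λ E C ⟨algebraMap A E j, hjE⟩ := by
    rw [kerCotangentToTensor_toCotangent]
    simp [τ, kerToTensor_apply]
  rw [hj, map_zero] at h1
  have h2 := LinearMap.congr_fun (retractionOfSectionOfKerSqZero_comp_kerToTensor g hE2 hg)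
    ⟨algebraMap A E j, hjE⟩
  rw [LinearMap.comp_apply, ← h1, map_zero] at h2
  exact (congrArg Subtype.val h2).symm

theorem ker_kerCotangentToTensor_of_formallySmooth_mod_p {Λ A C : Type u} [CommRing Λ] [CommRing A]
    [CommRing C] [Algebra Λ A] [Algebra A C] [Algebra Λ C] [IsScalarTower Λ A C]
    (hsurj : Function.Surjective (algebraMap A C)) (p : ℕ)
    [Algebra (Λ ⧸ Ideal.span {(p : Λ)}) C] [IsScalarTower Λ (Λ ⧸ Ideal.span {(p : Λ)}) C]
    [Algebra.FormallySmooth (Λ ⧸ Ideal.span {(p : Λ)}) C]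
    (hp : (p : A) ∈ RingHom.ker (algebraMap A C)) :
    LinearMap.ker (kerCotangentToTensor Λ A C) =
      Submodule.span A {(RingHom.ker (algebraMap A C)).toCotangent ⟨(p : A), hp⟩} := by
  set J := RingHom.ker (algebraMap A C) with hJ
  set K : Ideal A := Ideal.span {(p : A)} ⊔ J ^ 2 with hK
  have hKJ : K ≤ J := by
    rw [hK]
    refine sup_le ?_ (Ideal.pow_le_self two_ne_zero)
    rw [Ideal.span_le]
    intro x hx
    rw [Set.mem_singleton_iff.mp hx]
    exact hp
  -- algebra structures on E = A ⧸ K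
  letI algEC : Algebra (A ⧸ K) C :=
    (Ideal.Quotient.lift K (algebraMap A C) (fun a ha => hKJ ha)).toAlgebra
  haveI t1 : IsScalarTower A (A ⧸ K) C := .of_algebraMap_eq' rfl
  haveI t2 : IsScalarTower Λ (A ⧸ K) C := by
    refine .of_algebraMap_eq' ?_
    ext x
    change algebraMap Λ C x = algebraMap (A ⧸ K) C (algebraMap Λ (A ⧸ K) x)
    rw [IsScalarTower.algebraMap_apply Λ A (A ⧸ K), ← IsScalarTower.algebraMap_apply A (A ⧸ K) C,
      ← IsScalarTower.algebraMap_apply]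
  have hE2 : (RingHom.ker (algebraMap (A ⧸ K) C)) ^ 2 = ⊥ := by
    rw [eq_bot_iff, pow_two, Ideal.mul_le]
    intro x hx y hy
    obtain ⟨a, rfl⟩ := Ideal.Quotient.mk_surjective x
    obtain ⟨b, rfl⟩ := Ideal.Quotient.mk_surjective y
    have ha : a ∈ J := hx
    have hb : b ∈ J := hy
    rw [Ideal.mem_bot, ← map_mul, Ideal.Quotient.eq_zero_iff_mem]
    exact Ideal.mem_sup_right (by rw [pow_two]; exact Ideal.mul_mem_mul ha hb)
  -- Λ₀-algebra structure on E
  have h0 : ∀ a ∈ Ideal.span {(p : Λ)}, algebraMap Λ (A ⧸ K) a = 0 := by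
    intro a ha
    obtain ⟨b, rfl⟩ := Ideal.mem_span_singleton'.mp ha
    rw [IsScalarTower.algebraMap_apply Λ A (A ⧸ K), map_mul, map_natCast,
      Ideal.Quotient.algebraMap_eq, Ideal.Quotient.eq_zero_iff_mem]
    exact Ideal.mem_sup_left (Ideal.mul_mem_left _ _ (Ideal.subset_span rfl))
  letI algΛ₀E : Algebra (Λ ⧸ Ideal.span {(p : Λ)}) (A ⧸ K) :=
    (Ideal.Quotient.lift (Ideal.span {(p : Λ)}) (algebraMap Λ (A ⧸ K)) h0).toAlgebra
  haveI t3 : IsScalarTower Λ (Λ ⧸ Ideal.span {(p : Λ)}) (A ⧸ K) := .of_algebraMap_eq' rfl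
  let f₀ : (A ⧸ K) →ₐ[Λ ⧸ Ideal.span {(p : Λ)}] C :=
    { toRingHom := algebraMap (A ⧸ K) C
      commutes' := by
        intro x
        obtain ⟨x, rfl⟩ := Ideal.Quotient.mk_surjective x
        change algebraMap (A ⧸ K) C (algebraMap Λ (A ⧸ K) x) = _
        rw [← IsScalarTower.algebraMap_apply Λ (A ⧸ K) C,
          IsScalarTower.algebraMap_apply Λ (Λ ⧸ Ideal.span {(p : Λ)}) C]
        rfl }
  have hf₀s : Function.Surjective f₀ := by
    intro c
    obtain ⟨a, rfl⟩ := hsurj c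
    exact ⟨Ideal.Quotient.mk K a, rfl⟩
  have hf₀n : IsNilpotent (RingHom.ker (f₀ : (A ⧸ K) →+* C)) := ⟨2, hE2⟩
  let σ := Algebra.FormallySmooth.liftOfSurjective (AlgHom.id (Λ ⧸ Ideal.span {(p : Λ)}) C) f₀
    hf₀s hf₀n
  let g : C →ₐ[Λ] (A ⧸ K) := σ.restrictScalars Λ
  have hg : (IsScalarTower.toAlgHom Λ (A ⧸ K) C).comp g = AlgHom.id Λ C := by
    ext x
    exact Algebra.FormallySmooth.liftOfSurjective_apply (AlgHom.id _ C) f₀ hf₀s hf₀n x
  apply le_antisymm
  · intro x hx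
    obtain ⟨j, rfl⟩ := J.toCotangent_surjective x
    have hj0 := algebraMap_eq_zero_of_kerCotangentToTensor_eq_zero (Λ := Λ) (E := A ⧸ K) hE2 g hg j
      (LinearMap.mem_ker.mp hx)
    rw [Ideal.Quotient.algebraMap_eq, Ideal.Quotient.eq_zero_iff_mem, hK, Submodule.mem_sup] at hj0
    obtain ⟨y, hy, z, hz, hyz⟩ := hj0
    obtain ⟨a, rfl⟩ := Ideal.mem_span_singleton'.mp hy
    have hzJ : z ∈ J := Ideal.pow_le_self two_ne_zero hz
    have hjeq : j = a • (⟨(p : A), hp⟩ : J) + ⟨z, hzJ⟩ := Subtype.ext (by simpa using hyz.symm)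
    rw [hjeq, map_add, map_smul, (Ideal.toCotangent_eq_zero J ⟨z, hzJ⟩).mpr hz, add_zero]
    exact Submodule.smul_mem _ _ (Submodule.subset_span rfl)
  · rw [Submodule.span_le]
    intro x hx
    rw [Set.mem_singleton_iff.mp hx]
    change kerCotangentToTensor Λ A C (J.toCotangent ⟨(p : A), hp⟩) = 0
    rw [kerCotangentToTensor_toCotangent]
    have : (p : A) = algebraMap Λ A (p : Λ) := (map_natCast _ _).symm
    simp only [this, Derivation.map_algebraMap, tmul_zero]

end Groth.Agent.Helper2.KerCot
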