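import Mathlib
import Groth.Prelude
import Groth.Agent.Helper2.KerFP
import Groth.Agent.Helper2.FlatLocusMod
import Groth.Agent.Lead.StalkPull
import Groth.Agent.Lead.ModDict13
import Groth.Agent.Lead.ModDict11
import Groth.Agent.Helper4.FPGlue
import Groth.Agent.Helper4.QcohLimits
import Groth.Agent.Helper4.FinLocFree5

set_option autoImplicit false
open Function AlgebraicGeometry CategoryTheory CategoryTheory.Limits TopologicalSpace
universe u

namespace Groth.Agent.Helper2.KerFPSch

open Groth.Agent.Helper4 Groth.Agent.Lead.ModDict Groth.Agent.Lead.StalkPull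
  Groth.Agent.Helper2.FlatLocusMod

/-- sections of a flat module over an affine chart are flat over the base chart. -/
theorem flat_sections {X Y : Scheme.{u}} (f : X ⟶ Y) (H : X.Modules) [H.IsQuasicoherent]
    (hflat : FlatMod.IsFlatOver f H) {V : Y.Opens} (hV : IsAffineOpen V) {W : X.Opens}
    (hW : IsAffineOpen W) (e : W ≤ f ⁻¹ᵁ V) :
    letI := (f.appLE V W e).hom.toAlgebra
    letI : Module Γ(Y, V) Γ(H, W) := Module.compHom _ (f.appLE V W e).hom
    Module.Flat Γ(Y, V) Γ(H, W) := by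
  letI alg : Algebra Γ(Y, V) Γ(X, W) := (f.appLE V W e).hom.toAlgebra
  letI modR : Module Γ(Y, V) Γ(H, W) := Module.compHom _ (f.appLE V W e).hom
  haveI : IsScalarTower Γ(Y, V) Γ(X, W) Γ(H, W) :=
    IsScalarTower.of_algebraMap_smul fun _ _ => rfl
  refine Module.flat_of_isLocalized_maximal Γ(X, W) Γ(H, W)
    (fun P _ => LocalizedModule P.primeCompl Γ(H, W))
    (fun P _ => LocalizedModule.mkLinearMap P.primeCompl Γ(H, W)) ?_
  intro P hP
  obtain ⟨y, hy, hyP⟩ := FinLocFree5.exists_point_of_prime hW ⟨P, hP.isPrime⟩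
  have hfl := (isFlatOverAt_iff_localized f H hV hW e y hy).1 (hflat y)
  have hP' : (hW.primeIdealOf ⟨y, hy⟩).asIdeal = P := by rw [hyP]
  subst hP'
  exact hfl

/-- **S4887**: the kernel of an epimorphism of finitely presented quasi-coherent modules onto a
flat one is finitely presented. -/
theorem s4887 {X Y : Scheme.{u}} (f : X ⟶ Y) [LocallyOfFinitePresentation f]
    (G H : X.Modules) [G.IsQuasicoherent] [H.IsQuasicoherent]
    (hG : SheafOfModules.IsFinitePresentation (R := X.ringCatSheaf) G)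
    (hH : SheafOfModules.IsFinitePresentation (R := X.ringCatSheaf) H)
    (hflat : FlatMod.IsFlatOver f H) (p : G ⟶ H) [Epi p] :
    SheafOfModules.IsFinitePresentation (R := X.ringCatSheaf) (kernel p) := by
  refine @FPGlue.isFinitePresentation_of_fp_sections X (kernel p)
    (QcohLimits.isQuasicoherent_kernel p) ?_
  intro x
  obtain ⟨V, hV, hfxV, -⟩ := (Opens.isBasis_iff_nbhd.1 Y.isBasis_affineOpens)
    (show f x ∈ (⊤ : Y.Opens) from trivial)
  obtain ⟨W, hW, hxW, e⟩ := (Opens.isBasis_iff_nbhd.1 X.isBasis_affineOpens)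
    (show x ∈ f ⁻¹ᵁ V from hfxV)
  refine ⟨W, hW, hxW, ?_⟩
  letI alg : Algebra Γ(Y, V) Γ(X, W) := (f.appLE V W e).hom.toAlgebra
  have hfp : (f.appLE V W e).hom.FinitePresentation :=
    HasRingHomProperty.appLE @LocallyOfFinitePresentation f inferInstance ⟨V, hV⟩ ⟨W, hW⟩ e
  haveI : Algebra.FinitePresentation Γ(Y, V) Γ(X, W) := hfp
  letI modR : Module Γ(Y, V) Γ(H, W) := Module.compHom _ (f.appLE V W e).hom
  haveI : IsScalarTower Γ(Y, V) Γ(X, W) Γ(H, W) :=
    IsScalarTower.of_algebraMap_smul fun _ _ => rfl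
  haveI hflΓ : Module.Flat Γ(Y, V) Γ(H, W) := flat_sections f H hflat hV hW e
  letI modC : Module Γ(Y, V) ((secF hW).obj H) := Module.compHom _ (f.appLE V W e).hom
  haveI : IsScalarTower Γ(Y, V) Γ(X, W) ((secF hW).obj H) :=
    IsScalarTower.of_algebraMap_smul fun _ _ => rfl
  haveI : Module.FinitePresentation Γ(X, W) ((secF hW).obj H) := fp_secF hW H hH
  haveI : Module.FinitePresentation Γ(X, W) ((secF hW).obj G) := fp_secF hW G hG
  haveI : Module.Flat Γ(Y, V) ((secF hW).obj H) := by
    let eq : ((secF hW).obj H) ≃ₗ[Γ(X, W)] Γ(H, W) := (secFEquiv hW H).symm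
    exact Module.Flat.of_linearEquiv (eq.restrictScalars Γ(Y, V))
  have hsurj := secF_map_surjective hW p
  haveI hker : Module.FinitePresentation Γ(X, W) (LinearMap.ker ((secF hW).map p).hom) :=
    Groth.Agent.Helper2.KerFP.fp_ker_of_flat (A := Γ(Y, V)) (B := Γ(X, W)) ((secF hW).obj H)
      ((secF hW).map p).hom hsurj
  let e1 : (secF hW).obj (kernel p) ≅ kernel ((secF hW).map p) :=
    PreservesKernel.iso (secF hW) p
  let e2 := ModuleCat.kernelIsoKer ((secF hW).map p)
  haveI : Module.FinitePresentation Γ(X, W) ((secF hW).obj (kernel p)) :=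
    Module.FinitePresentation.of_equiv (e1 ≪≫ e2).toLinearEquiv.symm
  let eq' : Γ(kernel p, W) ≃ₗ[Γ(X, W)] ((secF hW).obj (kernel p)) := secFEquiv hW (kernel p)
  exact Module.FinitePresentation.of_equiv eq'.symm

end Groth.Agent.Helper2.KerFPSch
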