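import Mathlib
import Groth.Prelude
import Groth.Agent.Helper8.GeomReg13
import Groth.Agent.Helper2.KeyE

set_option autoImplicit false

namespace Groth.Agent.Helper2.KeyFlat

open IsLocalRing MvPolynomial Groth.Agent.Helper8.GeomReg

universe u

theorem s9288 (p : ℕ)
    [Fact p.Prime] (k : Type u) [Field k] [CharP k p] (A : Type u) [CommRing A] [IsLocalRing A]
    [IsNoetherianRing A] [Algebra k A] (hA : CAlg.IsGeometricallyRegular k A)
    (F : IntermediateField k (IsLocalRing.ResidueField A)) (m : ℕ)
    (φ : MvPolynomial (Fin m) k →ₐ[k] A)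
    (hφ : ∀ i : Fin m, IsLocalRing.residue A (φ (MvPolynomial.X i)) ∈ F)
    (hb : LinearIndependent F
        (fun i : Fin m => KaehlerDifferential.D k F ⟨IsLocalRing.residue A (φ (MvPolynomial.X i)), hφ i⟩)) :
    letI := φ.toRingHom.toAlgebra
    Module.Flat (MvPolynomial (Fin m) k) A ∧
      IsRegularLocalRing (A ⧸ Ideal.map φ.toRingHom
        (Ideal.comap φ.toRingHom (IsLocalRing.maximalIdeal A))) := by
  have hadic := (s2036 (k := k) (A := A) p).1 hA
  haveI hreg : IsRegularLocalRing A := isRegularLocalRing_of_adic hadic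
  have hD := derExt_of_adic _ hadic
  have h := main (F := F) φ (fun i => ⟨IsLocalRing.residue A (φ (MvPolynomial.X i)), hφ i⟩) hD
    (fun i => rfl) hb
  exact ⟨h.1, h.2.1⟩

end Groth.Agent.Helper2.KeyFlat
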