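import Mathlib
import Groth.Prelude
import Groth.Agent.Lead.WEField4
import Groth.Agent.S0426

set_option autoImplicit false
set_option linter.style.haveILetI false
set_option linter.unusedSectionVars false

namespace Groth.Agent.Helper2.MaxWE

universe u

open Groth.Agent.Lead.WEField Polynomial

section sep

variable (K : Type u) [Field K] (T : Type u) [CommRing T] [Algebra K T] [Algebra.WeaklyEtale K T]

theorem isIntegral_of_weaklyEtale (t : T) : IsIntegral K t :=
  isIntegral_of_flat_lmul' (Algebra.WeaklyEtale.flat_lmul' K T) t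

include K in
theorem isReduced_of_weaklyEtale : IsReduced T :=
  (vnr_of_flat_lmul' (Algebra.WeaklyEtale.flat_lmul' K T)).isReduced

variable {T}

theorem separable_minpoly [Nontrivial T] (t : T) : (minpoly K t).Separable := by
  classical
  haveI : IsReduced T := isReduced_of_weaklyEtale K T
  have hint := isIntegral_of_weaklyEtale K T t
  have hm0 : minpoly K t ≠ 0 := minpoly.ne_zero hint
  have hmm : (minpoly K t).Monic := minpoly.monic hint
  rw [Polynomial.separable_def]
  refine isCoprime_of_irreducible_dvd (fun h => hm0 h.1) ?_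
  intro p hp hpm hpm'
  -- normalize p
  have hp0 : p ≠ 0 := hp.ne_zero
  set p₁ := p * C (p.leadingCoeff)⁻¹ with hp₁
  have hp₁m : p₁.Monic := Polynomial.monic_mul_leadingCoeff_inv hp0
  have hunit : IsUnit (C (p.leadingCoeff)⁻¹ : K[X]) :=
    Polynomial.isUnit_C.2 (IsUnit.mk0 _ (inv_ne_zero (leadingCoeff_ne_zero.2 hp0)))
  have hassoc : Associated p p₁ := ⟨hunit.unit, rfl⟩
  have hp₁i : Irreducible p₁ := hassoc.irreducible hp
  have hp₁m' : p₁ ∣ minpoly K t := hassoc.dvd_iff_dvd_left.1 hpm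
  have hp₁d : p₁ ∣ derivative (minpoly K t) := hassoc.dvd_iff_dvd_left.1 hpm'
  obtain ⟨h, hh⟩ := hp₁m'
  have hhm : h.Monic := by
    have : (p₁ * h).Monic := hh ▸ hmm
    exact hp₁m.of_mul_monic_left this
  have hh0 : h ≠ 0 := hhm.ne_zero
  -- h(t) ≠ 0
  have hht : aeval t h ≠ 0 := by
    apply minpoly.aeval_ne_zero_of_dvdNotUnit_minpoly hint hhm
    refine ⟨hh0, p₁, hp₁i.not_isUnit, ?_⟩
    rw [hh, mul_comm]
  -- a prime not containing h(t)
  have hnil : aeval t h ∉ nilradical T := by
    rw [nilradical_eq_zero]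
    exact hht
  rw [nilradical_eq_sInf, Ideal.mem_sInf] at hnil
  push Not at hnil
  obtain ⟨P, hP, hhP⟩ := hnil
  haveI : P.IsPrime := hP
  have hpP : aeval t p₁ ∈ P := by
    have h0 : aeval t p₁ * aeval t h = 0 := by
      rw [← map_mul, ← hh, minpoly.aeval]
    have : aeval t p₁ * aeval t h ∈ P := by rw [h0]; exact P.zero_mem
    exact (hP.mem_or_mem this).resolve_right hhP
  -- the residue field
  haveI : Algebra.IsIntegral K T := ⟨isIntegral_of_weaklyEtale K T⟩
  haveI hPmax : P.IsMaximal := by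
    apply Ideal.isMaximal_of_isIntegral_of_isMaximal_comap (R := K) P
    have : P.comap (algebraMap K T) = ⊥ := by
      apply Ideal.eq_bot_of_prime
    rw [this]
    exact Ideal.bot_isMaximal
  letI : Field (T ⧸ P) := Ideal.Quotient.field P
  haveI : Algebra.WeaklyEtale K (T ⧸ P) := weaklyEtale_quotient K T P
  haveI : Algebra.IsSeparable K (T ⧸ P) :=
    @Groth.Agent.S0426.result K (T ⧸ P) _ (Ideal.Quotient.field P) _ (weaklyEtale_quotient K T P)
  have hroot : aeval (Ideal.Quotient.mk P t) p₁ = 0 := by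
    have h1 : aeval (Ideal.Quotient.mkₐ K P t) p₁ = Ideal.Quotient.mkₐ K P (aeval t p₁) :=
      Polynomial.aeval_algHom_apply _ _ _
    have h2 : Ideal.Quotient.mkₐ K P (aeval t p₁) = 0 := Ideal.Quotient.eq_zero_iff_mem.2 hpP
    rw [h2] at h1
    exact h1
  have hp₁eq : p₁ = minpoly K (Ideal.Quotient.mk P t) :=
    minpoly.eq_of_irreducible_of_monic hp₁i hroot hp₁m
  have hp₁sep : p₁.Separable := by
    rw [hp₁eq]
    exact Algebra.IsSeparable.isSeparable K _
  -- p₁ ∣ h
  have hp₁h : p₁ ∣ h := by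
    rw [hh, derivative_mul] at hp₁d
    have h1 : p₁ ∣ derivative p₁ * h := by
      have h2 : p₁ ∣ p₁ * derivative h := dvd_mul_right _ _
      exact (dvd_add_left h2).1 hp₁d
    have hcop : IsCoprime p₁ (derivative p₁) := hp₁sep
    exact hcop.dvd_of_dvd_mul_left h1
  obtain ⟨h₂, hh₂⟩ := hp₁h
  -- (p₁ h₂)(t) is nilpotent, hence zero
  have hy : aeval t (p₁ * h₂) = 0 := by
    have hsq : aeval t (p₁ * h₂) ^ 2 = 0 := by
      have : (p₁ * h₂) ^ 2 = minpoly K t * h₂ := by
        rw [hh, hh₂]; ring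
      rw [← map_pow, this, map_mul, minpoly.aeval, zero_mul]
    exact IsNilpotent.eq_zero ⟨2, hsq⟩
  have hh₂m : h₂.Monic := by
    have : (p₁ * h₂).Monic := hh₂ ▸ hhm
    exact hp₁m.of_mul_monic_left this
  have hmon : (p₁ * h₂).Monic := hp₁m.mul hh₂m
  have hdeg : (minpoly K t).natDegree ≤ (p₁ * h₂).natDegree :=
    natDegree_le_natDegree (minpoly.min K t hmon hy)
  have hfac : minpoly K t = p₁ * (p₁ * h₂) := by rw [hh, hh₂]
  rw [hfac, hp₁m.natDegree_mul hmon] at hdeg
  have hpos : 0 < p₁.natDegree := hp₁i.natDegree_pos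
  omega

end sep

end Groth.Agent.Helper2.MaxWE

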