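import Mathlib
import Groth.Prelude
import Groth.Agent.Helper2.MaxWE1

set_option autoImplicit false
set_option linter.style.haveILetI false
set_option linter.unusedSectionVars false

namespace Groth.Agent.Helper2.MaxWE

universe u

open Groth.Agent.Lead.WEField Polynomial

variable (K : Type u) [Field K] (A : Type u) [CommRing A] [Algebra K A]

theorem weaklyEtale_max : Algebra.WeaklyEtale K (EtAlgD.maxWeaklyEtale K A) :=
  weaklyEtale_sSup_all K

variable {A}

theorem le_max (S : Subalgebra K A) (hS : Algebra.WeaklyEtale K S) :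
    S ≤ EtAlgD.maxWeaklyEtale K A := le_sSup hS

theorem weaklyEtale_of_le {S T : Subalgebra K A} (hS : Algebra.WeaklyEtale K S) (h : T ≤ S) :
    Algebra.WeaklyEtale K T := by
  haveI := hS
  let T' : Subalgebra K S := (Subalgebra.inclusion h).range
  haveI : Algebra.WeaklyEtale K T' := weaklyEtale_subalgebra K S T'
  let e : T ≃ₐ[K] T' := AlgEquiv.ofInjective (Subalgebra.inclusion h) (Subalgebra.inclusion_injective h)
  exact weaklyEtale_of_surjective K e.symm.toAlgHom e.symm.surjective

theorem weaklyEtale_map {A' : Type u} [CommRing A'] [Algebra K A'] (f : A' →ₐ[K] A)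
    (S : Subalgebra K A') (hS : Algebra.WeaklyEtale K S) : Algebra.WeaklyEtale K (S.map f) := by
  haveI := hS
  exact weaklyEtale_of_surjective K (f.subalgebraMap S) (f.subalgebraMap_surjective S)

theorem weaklyEtale_range {P : Type u} [CommRing P] [Algebra K P] [Algebra.WeaklyEtale K P]
    (φ : P →ₐ[K] A) : Algebra.WeaklyEtale K φ.range :=
  weaklyEtale_of_surjective K φ.rangeRestrict φ.rangeRestrict_surjective

variable (A)

theorem part1 (A' : Subalgebra K A) :
    (EtAlgD.maxWeaklyEtale K A').map A'.val = EtAlgD.maxWeaklyEtale K A ⊓ A' := by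
  apply le_antisymm
  · apply le_inf
    · exact le_max K _ (weaklyEtale_map K A'.val _ (weaklyEtale_max K A'))
    · rintro _ ⟨x, -, rfl⟩
      exact x.2
  · set T := EtAlgD.maxWeaklyEtale K A ⊓ A' with hT
    let T' : Subalgebra K A' := T.comap A'.val
    have hmap : T'.map A'.val = T := by
      rw [Subalgebra.map_comap_eq, Subalgebra.range_val]
      exact inf_eq_left.2 inf_le_right
    have hWE1 : Algebra.WeaklyEtale K (T'.map A'.val) :=
      weaklyEtale_of_le K (weaklyEtale_max K A) (hmap.le.trans inf_le_left)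
    have hWE2 : Algebra.WeaklyEtale K T' := by
      haveI := hWE1
      have hbij : Function.Bijective (A'.val.subalgebraMap T') := by
        refine ⟨?_, A'.val.subalgebraMap_surjective T'⟩
        intro x y hxy
        have h1 : A'.val (x : A') = A'.val (y : A') :=
          congrArg (fun z : ↥(T'.map A'.val) => (z : A)) hxy
        exact Subtype.ext (Subtype.val_injective h1)
      let e := AlgEquiv.ofBijective (A'.val.subalgebraMap T') hbij
      exact weaklyEtale_of_surjective K e.symm.toAlgHom e.symm.surjective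
    have hle : T' ≤ EtAlgD.maxWeaklyEtale K A' := le_max K T' hWE2
    calc T = T'.map A'.val := hmap.symm
      _ ≤ (EtAlgD.maxWeaklyEtale K A').map A'.val := Subalgebra.map_mono hle

theorem exists_lift_root (f : K[X]) (hf : f.Monic) (hsep : f.Separable) (a₀ : A)
    (h : IsNilpotent (aeval a₀ f)) :
    ∃ a ∈ EtAlgD.maxWeaklyEtale K A, IsNilpotent (a₀ - a) := by
  obtain ⟨u, v, huv⟩ := hsep
  have hunit : IsUnit (aeval a₀ (derivative f)) := by
    have h1 : aeval a₀ u * aeval a₀ f + aeval a₀ v * aeval a₀ (derivative f) = 1 := by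
      rw [← map_mul, ← map_mul, ← map_add, huv, map_one]
    have h2 : aeval a₀ v * aeval a₀ (derivative f) = 1 - aeval a₀ u * aeval a₀ f := by
      rw [← h1]; ring
    have h3 : IsNilpotent (aeval a₀ u * aeval a₀ f) := (Commute.all _ _).isNilpotent_mul_left h
    have h4 : IsUnit (aeval a₀ v * aeval a₀ (derivative f)) := h2 ▸ h3.isUnit_one_sub
    exact isUnit_of_mul_isUnit_right h4
  obtain ⟨a, ⟨ha1, ha2⟩, -⟩ := Polynomial.existsUnique_nilpotent_sub_and_aeval_eq_zero h hunit
  refine ⟨a, ?_, ha1⟩
  let P : StandardEtalePair K := ⟨f, hf, derivative f, ⟨1, 0, 1, by simp⟩⟩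
  have hmap : P.HasMap a := by
    refine ⟨ha2, ?_⟩
    have h1 : aeval a u * aeval a f + aeval a v * aeval a (derivative f) = 1 := by
      rw [← map_mul, ← map_mul, ← map_add, huv, map_one]
    rw [ha2, mul_zero, zero_add] at h1
    exact IsUnit.of_mul_eq_one _ (by rw [mul_comm]; exact h1)
  let φ : P.Ring →ₐ[K] A := P.lift a hmap
  have h1 : φ.range ≤ EtAlgD.maxWeaklyEtale K A := le_max K _ (weaklyEtale_range K φ)
  exact h1 ⟨P.X, P.lift_X a hmap⟩

theorem part2 : Set.BijOn (Ideal.Quotient.mkₐ K (nilradical A)) (EtAlgD.maxWeaklyEtale K A)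
      (EtAlgD.maxWeaklyEtale K (A ⧸ nilradical A)) := by
  refine ⟨?_, ?_, ?_⟩
  · intro a ha
    have h1 : (EtAlgD.maxWeaklyEtale K A).map (Ideal.Quotient.mkₐ K (nilradical A)) ≤
        EtAlgD.maxWeaklyEtale K (A ⧸ nilradical A) :=
      le_max K _ (weaklyEtale_map K _ _ (weaklyEtale_max K A))
    exact h1 ⟨a, ha, rfl⟩
  · intro a ha a' ha' h
    haveI := weaklyEtale_max K A
    haveI : IsReduced (EtAlgD.maxWeaklyEtale K A) := isReduced_of_weaklyEtale K _
    have h1 : a - a' ∈ nilradical A := by
      rw [← Ideal.Quotient.eq]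
      exact h
    obtain ⟨n, hn⟩ := h1
    let d : EtAlgD.maxWeaklyEtale K A := ⟨a, ha⟩ - ⟨a', ha'⟩
    have hd : d ^ n = 0 := by
      apply Subtype.val_injective
      show (a - a') ^ n = 0
      exact hn
    have hd0 : d = 0 := IsNilpotent.eq_zero ⟨n, hd⟩
    have := congrArg Subtype.val hd0
    exact sub_eq_zero.1 this
  · intro b hb
    rcases subsingleton_or_nontrivial (A ⧸ nilradical A) with hsub | hnt
    · refine ⟨0, Subalgebra.zero_mem _, Subsingleton.elim _ _⟩
    · haveI := weaklyEtale_max K (A ⧸ nilradical A)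
      haveI : Nontrivial (EtAlgD.maxWeaklyEtale K (A ⧸ nilradical A)) := inferInstance
      let t : EtAlgD.maxWeaklyEtale K (A ⧸ nilradical A) := ⟨b, hb⟩
      have hint : IsIntegral K t := isIntegral_of_weaklyEtale K _ t
      have hsep := separable_minpoly K t
      have hmon : (minpoly K t).Monic := minpoly.monic hint
      have hroot : aeval b (minpoly K t) = 0 := by
        have h1 : aeval (t : A ⧸ nilradical A) (minpoly K t) =
            ((aeval t (minpoly K t) : EtAlgD.maxWeaklyEtale K (A ⧸ nilradical A)) :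
              A ⧸ nilradical A) := (Polynomial.aeval_subalgebra_coe _ _ _).symm
        rw [minpoly.aeval] at h1
        exact h1
      obtain ⟨a₀, ha₀⟩ := Ideal.Quotient.mk_surjective b
      have hnil : IsNilpotent (aeval a₀ (minpoly K t)) := by
        have h1 : Ideal.Quotient.mkₐ K (nilradical A) (aeval a₀ (minpoly K t)) = 0 := by
          rw [← Polynomial.aeval_algHom_apply]
          show aeval (Ideal.Quotient.mk _ a₀) _ = 0
          rw [ha₀]
          exact hroot
        exact Ideal.Quotient.eq_zero_iff_mem.1 h1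
      obtain ⟨a, haB, hnil'⟩ := exists_lift_root K A _ hmon hsep a₀ hnil
      refine ⟨a, haB, ?_⟩
      show Ideal.Quotient.mk _ a = b
      rw [← ha₀]
      symm
      rw [Ideal.Quotient.eq]
      exact hnil'

theorem part3 (hconn : ∀ e : A, IsIdempotentElem e → e = 0 ∨ e = 1) [Nontrivial A] :
    IsField (EtAlgD.maxWeaklyEtale K A) ∧ Algebra.IsSeparable K (EtAlgD.maxWeaklyEtale K A) := by
  haveI := weaklyEtale_max K A
  haveI : Nontrivial (EtAlgD.maxWeaklyEtale K A) := inferInstance
  have hvnr : VNR (EtAlgD.maxWeaklyEtale K A) :=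
    vnr_of_flat_lmul' (Algebra.WeaklyEtale.flat_lmul' K _)
  refine ⟨?_, ⟨fun t => separable_minpoly K t⟩⟩
  refine ⟨exists_pair_ne _, mul_comm, ?_⟩
  intro b hb
  obtain ⟨r, hr⟩ := hvnr b
  have hidem : IsIdempotentElem ((b * r : EtAlgD.maxWeaklyEtale K A) : A) := by
    show ((b * r : EtAlgD.maxWeaklyEtale K A) : A) * ((b * r : EtAlgD.maxWeaklyEtale K A) : A) = _
    rw [← Subalgebra.coe_mul]
    congr 1
    calc b * r * (b * r) = (b * b * r) * r := by ring
      _ = b * r := by rw [← hr]
  rcases hconn _ hidem with h0 | h1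
  · exfalso
    apply hb
    have h2 : b * r = 0 := Subtype.val_injective h0
    calc b = b * b * r := hr
      _ = b * (b * r) := by ring
      _ = 0 := by rw [h2, mul_zero]
  · exact ⟨r, Subtype.val_injective h1⟩

theorem main :
    (∀ A' : Subalgebra K A,
      (EtAlgD.maxWeaklyEtale K A').map A'.val = EtAlgD.maxWeaklyEtale K A ⊓ A') ∧
    (Set.BijOn (Ideal.Quotient.mkₐ K (nilradical A)) (EtAlgD.maxWeaklyEtale K A)
      (EtAlgD.maxWeaklyEtale K (A ⧸ nilradical A))) ∧
    ((∀ e : A, IsIdempotentElem e → e = 0 ∨ e = 1) → Nontrivial A →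
      IsField (EtAlgD.maxWeaklyEtale K A) ∧ Algebra.IsSeparable K (EtAlgD.maxWeaklyEtale K A)) :=
  ⟨part1 K A, part2 K A, fun h hn => by haveI := hn; exact part3 K A h⟩

end Groth.Agent.Helper2.MaxWE
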