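import Mathlib
import Groth.Prelude
import Groth.Agent.Helper2.WEIntG
import Groth.Agent.Helper2.MaxWE2
import Groth.Agent.Lead.WEField4
import Groth.Agent.Helper5.IntegralDim
import Groth.Agent.Helper3.HensRows

/-!
# S13417: base change of a henselian normal local algebra with residue field `k` to a separable
algebraic extension of `k`
-/

set_option autoImplicit false
set_option linter.style.haveILetI false
set_option linter.unusedSectionVars false

namespace Groth.Agent.Helper2.KsepBC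

universe u

open TensorProduct IsLocalRing

section WE

variable (K L : Type u) [Field K] [Field L] [Algebra K L] [Algebra.IsSeparable K L]

/-- a separable algebraic field extension is weakly étale -/
theorem weaklyEtale_of_isSeparable : Algebra.WeaklyEtale K L := by
  have hmax : EtAlgD.maxWeaklyEtale K L = ⊤ := by
    rw [eq_top_iff]
    intro x _
    let F : IntermediateField K L := IntermediateField.adjoin K {x}
    haveI : FiniteDimensional K F :=
      IntermediateField.adjoin.finiteDimensional (Algebra.IsIntegral.isIntegral x)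
    haveI : Algebra.IsSeparable K F := Algebra.isSeparable_tower_bot_of_isSeparable K F L
    haveI : Algebra.FormallyEtale K F := Algebra.FormallyEtale.of_isSeparable K F
    haveI : Algebra.FinitePresentation K F :=
      Algebra.FinitePresentation.of_finiteType.mp inferInstance
    haveI : Algebra.Etale K F := {}
    have hW : Algebra.WeaklyEtale K F.toSubalgebra := (inferInstance : Algebra.WeaklyEtale K F)
    exact Groth.Agent.Helper2.MaxWE.le_max K F.toSubalgebra hW
      (IntermediateField.mem_adjoin_simple_self K x)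
  haveI h1 : Algebra.WeaklyEtale K (EtAlgD.maxWeaklyEtale K L) :=
    Groth.Agent.Helper2.MaxWE.weaklyEtale_max K L
  haveI h2 : Algebra.WeaklyEtale K (⊤ : Subalgebra K L) := hmax ▸ h1
  exact Groth.Agent.Lead.WEField.weaklyEtale_of_surjective K
    (Subalgebra.topEquiv : (⊤ : Subalgebra K L) ≃ₐ[K] L).toAlgHom
    (Subalgebra.topEquiv : (⊤ : Subalgebra K L) ≃ₐ[K] L).surjective

end WE

section main

variable (k : Type u) [Field k] (L : Type u) [Field L] [Algebra k L] [Algebra.IsSeparable k L]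
  (R₀ : Type u) [CommRing R₀] [HenselianLocalRing R₀] [Algebra k R₀]
  (hres : Function.Surjective (fun a : k => IsLocalRing.residue R₀ (algebraMap k R₀ a)))

/-- `k → κ(R₀)` -/
noncomputable def ψ : k →+* ResidueField R₀ := (residue R₀).comp (algebraMap k R₀)

include hres in
theorem ψ_bijective : Function.Bijective (ψ k R₀) := ⟨(ψ k R₀).injective, hres⟩

/-- `κ(R₀) ≃ k` -/
noncomputable def eψ : k ≃+* ResidueField R₀ := RingEquiv.ofBijective (ψ k R₀) (ψ_bijective k R₀ hres)

/-- the retraction `R₀ → k` -/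
noncomputable def ρ₀ : R₀ →ₐ[k] k where
  toRingHom := (eψ k R₀ hres).symm.toRingHom.comp (residue R₀)
  commutes' := fun a => by
    change (eψ k R₀ hres).symm (residue R₀ (algebraMap k R₀ a)) = a
    exact (eψ k R₀ hres).symm_apply_apply a

theorem residue_ρ₀ (r : R₀) : residue R₀ (algebraMap k R₀ (ρ₀ k R₀ hres r)) = residue R₀ r := by
  change (eψ k R₀ hres) ((eψ k R₀ hres).symm (residue R₀ r)) = residue R₀ r
  exact (eψ k R₀ hres).apply_symm_apply _

theorem sub_mem (r : R₀) : r - algebraMap k R₀ (ρ₀ k R₀ hres r) ∈ maximalIdeal R₀ := by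
  rw [← Ideal.Quotient.eq_zero_iff_mem]
  change residue R₀ (r - algebraMap k R₀ (ρ₀ k R₀ hres r)) = 0
  rw [map_sub, residue_ρ₀, sub_self]

theorem ρ₀_eq_zero (r : R₀) (hr : r ∈ maximalIdeal R₀) : ρ₀ k R₀ hres r = 0 := by
  change (eψ k R₀ hres).symm (residue R₀ r) = 0
  rw [(residue_eq_zero_iff r).mpr hr, map_zero]

/-- the retraction `R₀ ⊗ L → L` -/
noncomputable def ρ : R₀ ⊗[k] L →ₐ[k] L :=
  Algebra.TensorProduct.lift ((Algebra.ofId k L).comp (ρ₀ k R₀ hres)) (AlgHom.id k L)
    (fun _ _ => Commute.all _ _)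

theorem ρ_tmul (r : R₀) (l : L) :
    ρ k L R₀ hres (r ⊗ₜ l) = algebraMap k L (ρ₀ k R₀ hres r) * l := by
  rw [ρ, Algebra.TensorProduct.lift_tmul]
  rfl

/-- the extension of the maximal ideal -/
abbrev mS : Ideal (R₀ ⊗[k] L) := (maximalIdeal R₀).map (algebraMap R₀ (R₀ ⊗[k] L))

theorem tmul_mem_mS (a : R₀) (ha : a ∈ maximalIdeal R₀) (l : L) : a ⊗ₜ[k] l ∈ mS k L R₀ := by
  have : a ⊗ₜ[k] l = algebraMap R₀ (R₀ ⊗[k] L) a * ((1 : R₀) ⊗ₜ l) := by
    rw [Algebra.TensorProduct.algebraMap_apply, Algebra.TensorProduct.tmul_mul_tmul,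
      Algebra.algebraMap_self, RingHom.id_apply, mul_one, one_mul]
  rw [this]
  exact Ideal.mul_mem_right _ _ (Ideal.mem_map_of_mem _ ha)

theorem sub_mem_mS (x : R₀ ⊗[k] L) : x - (1 : R₀) ⊗ₜ ρ k L R₀ hres x ∈ mS k L R₀ := by
  induction x using TensorProduct.induction_on with
  | zero => simp
  | tmul r l =>
    have : r ⊗ₜ[k] l - (1 : R₀) ⊗ₜ ρ k L R₀ hres (r ⊗ₜ l) =
        (r - algebraMap k R₀ (ρ₀ k R₀ hres r)) ⊗ₜ l := by
      rw [ρ_tmul, TensorProduct.sub_tmul, ← Algebra.smul_def, TensorProduct.tmul_smul,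
        TensorProduct.smul_tmul', Algebra.algebraMap_eq_smul_one]
    rw [this]
    exact tmul_mem_mS k L R₀ _ (sub_mem k R₀ hres r) l
  | add x y hx hy =>
    have : x + y - (1 : R₀) ⊗ₜ ρ k L R₀ hres (x + y) =
        (x - (1 : R₀) ⊗ₜ ρ k L R₀ hres x) + (y - (1 : R₀) ⊗ₜ ρ k L R₀ hres y) := by
      rw [map_add, TensorProduct.tmul_add]; abel
    rw [this]
    exact add_mem hx hy

theorem ker_ρ : RingHom.ker (ρ k L R₀ hres).toRingHom = mS k L R₀ := by
  apply le_antisymm
  · intro x hx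
    have hx0 : ρ k L R₀ hres x = 0 := hx
    have := sub_mem_mS k L R₀ hres x
    rwa [hx0, TensorProduct.tmul_zero, sub_zero] at this
  · rw [mS, Ideal.map_le_iff_le_comap]
    intro a ha
    rw [Ideal.mem_comap, RingHom.mem_ker]
    change ρ k L R₀ hres (algebraMap R₀ (R₀ ⊗[k] L) a) = 0
    rw [Algebra.TensorProduct.algebraMap_apply, Algebra.algebraMap_self, RingHom.id_apply, ρ_tmul,
      ρ₀_eq_zero k R₀ hres a ha, map_zero, zero_mul]

theorem ρ_surjective : Function.Surjective (ρ k L R₀ hres) := fun l =>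
  ⟨(1 : R₀) ⊗ₜ l, by rw [ρ_tmul, map_one, map_one, one_mul]⟩

include hres in
theorem mS_isMaximal : (mS k L R₀).IsMaximal := by
  rw [← ker_ρ k L R₀ hres]
  exact RingHom.ker_isMaximal_of_surjective _ (ρ_surjective k L R₀ hres)

include hres in
theorem isLocalRing : IsLocalRing (R₀ ⊗[k] L) := by
  have hm := mS_isMaximal k L R₀ hres
  refine IsLocalRing.of_unique_max_ideal ⟨mS k L R₀, hm, fun n hn => ?_⟩
  haveI := hn
  have h1 : (n.comap (algebraMap R₀ (R₀ ⊗[k] L))).IsMaximal :=
    Ideal.isMaximal_comap_of_isIntegral_of_isMaximal n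
  have h2 : n.comap (algebraMap R₀ (R₀ ⊗[k] L)) = maximalIdeal R₀ := eq_maximalIdeal h1
  have h3 : mS k L R₀ ≤ n := by
    rw [mS, Ideal.map_le_iff_le_comap, h2]
  exact (hm.eq_of_le hn.ne_top h3).symm

include hres in
theorem main [IsDomain R₀] [IsIntegrallyClosed R₀] (hdim : ringKrullDim R₀ = 2) :
    ∃ _ : HenselianLocalRing (R₀ ⊗[k] L),
      IsIntegrallyClosed (R₀ ⊗[k] L) ∧
      ringKrullDim (R₀ ⊗[k] L) = 2 ∧
      Function.Surjective (fun a : L =>
        IsLocalRing.residue (R₀ ⊗[k] L)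
          ((Algebra.TensorProduct.includeRight : L →ₐ[k] R₀ ⊗[k] L) a)) := by
  haveI hloc := isLocalRing k L R₀ hres
  have hmax : maximalIdeal (R₀ ⊗[k] L) = mS k L R₀ :=
    (eq_maximalIdeal (mS_isMaximal k L R₀ hres)).symm
  have hH : HenselianRing (R₀ ⊗[k] L) (mS k L R₀) :=
    Groth.Agent.Helper3.HensRows.hens_of_isIntegral R₀ (maximalIdeal R₀) (R₀ ⊗[k] L)
  have hHL : HenselianLocalRing (R₀ ⊗[k] L) :=
    { is_henselian := fun f hf a₀ h₁ h₂ => by
        rw [hmax] at h₁ ⊢
        exact hH.is_henselian f hf a₀ h₁ (h₂.map _) }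
  haveI : Algebra.WeaklyEtale k L := weaklyEtale_of_isSeparable k L
  haveI : Algebra.WeaklyEtale R₀ (R₀ ⊗[k] L) := inferInstance
  refine ⟨hHL, (Groth.Agent.Helper2.WEInt.normal_of_weaklyEtale R₀ (R₀ ⊗[k] L)).2, ?_, ?_⟩
  · rw [← hdim]
    apply Groth.Agent.Helper5.IntegralDim.ringKrullDim_eq_of_isIntegral_of_injective
    exact Algebra.TensorProduct.includeLeft_injective (S := R₀) (algebraMap k L).injective
  · intro y
    obtain ⟨s, rfl⟩ := residue_surjective y
    refine ⟨ρ k L R₀ hres s, ?_⟩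
    have := sub_mem_mS k L R₀ hres s
    rw [← hmax, ← Ideal.Quotient.eq_zero_iff_mem] at this
    have h2 : residue (R₀ ⊗[k] L) (s - (1 : R₀) ⊗ₜ ρ k L R₀ hres s) = 0 := this
    rw [map_sub, sub_eq_zero] at h2
    exact h2.symm

end main

end Groth.Agent.Helper2.KsepBC
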