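import Mathlib

set_option autoImplicit false
universe u
open Polynomial

namespace Groth.Agent.Helper2.KummerEtale

variable (A : Type u) [CommRing A] (n : ℕ)

/-- the standard étale pair `(X^n - 1, 1)` when `n` is invertible. -/
noncomputable def pair (hn : 1 ≤ n) (u : A) (hu : u * (n : A) = 1) : StandardEtalePair A where
  f := X ^ n - 1
  monic_f := by
    nontriviality A
    have : (1 : A[X]) = C 1 := by simp
    rw [this]
    exact monic_X_pow_sub_C (1 : A) (by omega)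
  g := 1
  cond := by
    refine ⟨C u * X, -1, 1, ?_⟩
    obtain ⟨m, rfl⟩ : ∃ m, n = m + 1 := ⟨n - 1, by omega⟩
    rw [derivative_sub, derivative_one, sub_zero, derivative_X_pow, Nat.add_sub_cancel]
    have h1 : (C u : A[X]) * C ((m + 1 : ℕ) : A) = 1 := by
      rw [← C_mul, hu, C_1]
    linear_combination (X ^ (m + 1)) * h1

theorem etale_of_isUnit (hn : 1 ≤ n) (h : IsUnit ((n : ℕ) : A)) :
    Algebra.Etale A (AdjoinRoot ((X : A[X]) ^ n - 1)) := by
  obtain ⟨u, hu⟩ := h.exists_left_inv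
  let P := pair A n hn u hu
  have e1 : P.Ring ≃ₐ[A] Localization.Away ((AdjoinRoot.mk P.f) P.g) := P.equivAwayAdjoinRoot
  have hle : Submonoid.powers ((AdjoinRoot.mk P.f) P.g) ≤ IsUnit.submonoid (AdjoinRoot P.f) := by
    rintro x ⟨k, rfl⟩
    change IsUnit (((AdjoinRoot.mk P.f) (1 : A[X])) ^ k)
    rw [map_one, one_pow]
    exact isUnit_one
  have e2 : AdjoinRoot P.f ≃ₐ[AdjoinRoot P.f] Localization.Away ((AdjoinRoot.mk P.f) P.g) :=
    IsLocalization.atUnits (AdjoinRoot P.f) (Submonoid.powers ((AdjoinRoot.mk P.f) P.g)) hle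
  have e3 : P.Ring ≃ₐ[A] AdjoinRoot P.f := e1.trans (e2.restrictScalars A).symm
  exact Algebra.Etale.of_equiv e3

/-- `A / n` -/
abbrev Q : Type u := A ⧸ Ideal.span {((n : ℕ) : A)}

lemma natCast_Q : ((n : ℕ) : Q A n) = 0 := by
  have : ((n : ℕ) : Q A n) = Ideal.Quotient.mk (Ideal.span {((n : ℕ) : A)}) ((n : ℕ) : A) := by
    simp
  rw [this, Ideal.Quotient.eq_zero_iff_mem]
  exact Ideal.mem_span_singleton_self _

/-- `1 + ε` -/
noncomputable abbrev y : DualNumber (Q A n) := 1 + TrivSqZeroExt.inr (1 : Q A n)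

lemma y_pow : (y A n) ^ n = 1 := by
  apply TrivSqZeroExt.ext
  · rw [TrivSqZeroExt.fst_pow]
    simp
  · rw [TrivSqZeroExt.snd_pow]
    simp only [TrivSqZeroExt.fst_add, TrivSqZeroExt.fst_one, TrivSqZeroExt.fst_inr, add_zero,
      one_pow, one_smul, TrivSqZeroExt.snd_add, TrivSqZeroExt.snd_one, TrivSqZeroExt.snd_inr,
      zero_add, nsmul_eq_mul, mul_one, natCast_Q]

lemma ker_nilp : IsNilpotent (RingHom.ker
    (TrivSqZeroExt.fstHom (Q A n) (Q A n) (Q A n) : DualNumber (Q A n) →ₐ[Q A n] Q A n).toRingHom) := by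
  refine ⟨2, ?_⟩
  rw [Ideal.zero_eq_bot, eq_bot_iff]
  have hsq : ∀ I : Ideal (DualNumber (Q A n)), I ^ 2 = I * I := fun I => sq I
  rw [hsq]
  refine Ideal.mul_le.mpr ?_
  intro r hr s hs
  rw [RingHom.mem_ker] at hr hs
  change r.fst = 0 at hr
  change s.fst = 0 at hs
  rw [Ideal.mem_bot]
  apply TrivSqZeroExt.ext
  · rw [TrivSqZeroExt.fst_mul, hr]
    simp
  · rw [TrivSqZeroExt.snd_mul, hr, hs]
    simp

theorem isUnit_of_unramified (hn : 1 ≤ n)
    [Algebra.FormallyUnramified A (AdjoinRoot ((X : A[X]) ^ n - 1))] :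
    IsUnit ((n : ℕ) : A) := by
  let f : A[X] := X ^ n - 1
  have h1 : eval₂ (↑(Algebra.ofId A (DualNumber (Q A n)))) (1 : DualNumber (Q A n)) f = 0 := by
    simp [f]
  have h2 : eval₂ (↑(Algebra.ofId A (DualNumber (Q A n)))) (y A n) f = 0 := by
    simp only [f, eval₂_sub, eval₂_pow, eval₂_X, eval₂_one, y_pow, sub_self]
  let g₁ : AdjoinRoot f →ₐ[A] DualNumber (Q A n) :=
    AdjoinRoot.liftAlgHom f (Algebra.ofId A _) 1 h1
  let g₂ : AdjoinRoot f →ₐ[A] DualNumber (Q A n) :=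
    AdjoinRoot.liftAlgHom f (Algebra.ofId A _) (y A n) h2
  have heq : g₁ = g₂ := by
    refine Algebra.FormallyUnramified.ext' _ (ker_nilp A n) g₁ g₂ ?_
    intro x
    have : ((TrivSqZeroExt.fstHom A (Q A n) (Q A n)).comp g₁) =
        ((TrivSqZeroExt.fstHom A (Q A n) (Q A n)).comp g₂) := by
      apply AdjoinRoot.algHom_ext
      simp [g₁, g₂]
    exact AlgHom.congr_fun this x
  have hroot := AlgHom.congr_fun heq (AdjoinRoot.root f)
  simp only [g₁, g₂, AdjoinRoot.liftAlgHom_root] at hroot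
  have hsnd := congrArg TrivSqZeroExt.snd hroot
  simp only [TrivSqZeroExt.snd_one, TrivSqZeroExt.snd_add, TrivSqZeroExt.snd_inr,
    zero_add] at hsnd
  have h10 : (1 : Q A n) = 0 := hsnd.symm
  have : (Ideal.Quotient.mk (Ideal.span {((n : ℕ) : A)}) (1 : A)) = 0 := by
    rw [map_one]; exact h10
  rw [Ideal.Quotient.eq_zero_iff_mem, Ideal.mem_span_singleton] at this
  exact isUnit_of_dvd_one this

end Groth.Agent.Helper2.KummerEtale
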