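import Mathlib
import Groth.Prelude
import Groth.Agent.Helper3.KoszulGen
import Groth.Agent.Helper6.KEuler2

set_option autoImplicit false
set_option linter.unusedVariables false
set_option linter.unusedSectionVars false

/-!
# Koszul cohomology of a sequence extended by elements of its own ideal
-/

namespace Groth.Agent.Helper2.KzAppend
open CategoryTheory Category Limits CochainComplex HomologicalComplex HomComplex CohIII
open Groth.Agent.Helper1.Koszul

universe u
variable {A : Type u} [CommRing A]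

section step
variable (K : CochainComplex (ModuleCat.{u} A) ℤ)

/-- retraction of `inr` for the cone of zero -/
noncomputable def retr : mappingCone ((0 : A) • 𝟙 K) ⟶ K :=
  mappingCone.desc ((0 : A) • 𝟙 K) 0 (𝟙 K) (by simp)

lemma inr_retr : mappingCone.inr ((0 : A) • 𝟙 K) ≫ retr K = 𝟙 K :=
  mappingCone.inr_desc _ _ _ _

lemma retr_ι (n : ℤ) (x : K.homology n) :
    (homologyMap (retr K) n).hom ((ι K (0 : A) n).hom x) = x := by
  have h : homologyMap (mappingCone.inr ((0 : A) • 𝟙 K)) n ≫ homologyMap (retr K) n = 𝟙 _ := by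
    rw [← homologyMap_comp, inr_retr, homologyMap_id]
  have := congrArg (fun g => g.hom x) h
  exact this

/-- the cohomology of the cone of zero -/
theorem step (n : ℤ) :
    Nonempty ((mappingCone ((0 : A) • 𝟙 K)).homology n ≃ₗ[A]
      (K.homology n × K.homology (n + 1))) := by
  let Ψ : (mappingCone ((0 : A) • 𝟙 K)).homology n →ₗ[A] (K.homology n × K.homology (n + 1)) :=
    LinearMap.prod (homologyMap (retr K) n).hom (bd K (0 : A) n (n + 1) rfl).hom
  refine ⟨LinearEquiv.ofBijective Ψ ⟨?_, ?_⟩⟩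
  · rw [← LinearMap.ker_eq_bot, LinearMap.ker_eq_bot']
    intro y hy
    have h1 : (homologyMap (retr K) n).hom y = 0 := congrArg Prod.fst hy
    have h2 : (bd K (0 : A) n (n + 1) rfl).hom y = 0 := congrArg Prod.snd hy
    obtain ⟨x, rfl⟩ := exists_of_bd_eq_zero K (0 : A) n (n + 1) rfl y h2
    rw [retr_ι] at h1
    rw [h1, map_zero]
  · rintro ⟨a, b⟩
    obtain ⟨y0, hy0⟩ := exists_of_smul_eq_zero K (0 : A) n (n + 1) rfl b (zero_smul _ _)
    refine ⟨y0 + (ι K (0 : A) n).hom (a - (homologyMap (retr K) n).hom y0), ?_⟩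
    refine Prod.ext ?_ ?_
    · change (homologyMap (retr K) n).hom (y0 + _) = a
      rw [map_add, retr_ι]
      abel
    · change (bd K (0 : A) n (n + 1) rfl).hom (y0 + _) = b
      rw [map_add, bd_ι, add_zero, hy0]

end step

section comb
variable (G : ℤ → Type u) [∀ i, AddCommGroup (G i)] [∀ i, Module A (G i)]

/-- multiplicity function -/
def mult (r : ℕ) (m i : ℤ) : ℕ := if m ≤ i then r.choose (i - m).toNat else 0

lemma mult_succ (r : ℕ) (m i : ℤ) : mult (r + 1) m i = mult r m i + mult r (m + 1) i := by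
  unfold mult
  by_cases h1 : m ≤ i
  · by_cases h2 : m + 1 ≤ i
    · rw [if_pos h1, if_pos h1, if_pos h2]
      have : (i - m).toNat = (i - (m + 1)).toNat + 1 := by omega
      rw [this, Nat.choose_succ_succ, add_comm]
    · rw [if_pos h1, if_pos h1, if_neg h2]
      have : (i - m).toNat = 0 := by omega
      rw [this]
      simp
  · have h2 : ¬ m + 1 ≤ i := by omega
    rw [if_neg h1, if_neg h1, if_neg h2]

lemma mult_zero_self (m : ℤ) : mult 0 m m = 1 := by
  unfold mult
  simp

lemma mult_zero_ne (m i : ℤ) (h : i ≠ m) : mult 0 m i = 0 := by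
  unfold mult
  split_ifs with h1
  · have : (i - m).toNat = ((i - m).toNat - 1) + 1 := by omega
    rw [this, Nat.choose_zero_succ]
  · rfl

lemma mult_add (r : ℕ) (m : ℤ) (j : ℕ) : mult r m (m + j) = r.choose j := by
  unfold mult
  rw [if_pos (by omega)]
  congr 1
  omega

lemma mult_eq_zero (r : ℕ) (m i : ℤ) (h : ¬ (m ≤ i ∧ i ≤ m + r)) : mult r m i = 0 := by
  unfold mult
  split_ifs with h1
  · apply Nat.choose_eq_zero_of_lt
    omega
  · rfl

/-- the model module -/
abbrev P (r : ℕ) (m : ℤ) : Type u := ∀ i : ℤ, Fin (mult r m i) → G i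

/-- base case -/
theorem P_zero (m : ℤ) : Nonempty (P G 0 m ≃ₗ[A] G m) := by
  let Ψ : P G 0 m →ₗ[A] G m :=
    { toFun := fun f => f m ⟨0, by rw [mult_zero_self]; exact Nat.one_pos⟩
      map_add' := fun f g => rfl
      map_smul' := fun a f => rfl }
  refine ⟨LinearEquiv.ofBijective Ψ ⟨?_, ?_⟩⟩
  · rw [← LinearMap.ker_eq_bot, LinearMap.ker_eq_bot']
    intro f hf
    funext i k
    by_cases hi : i = m
    · subst hi
      have hk : k = ⟨0, by rw [mult_zero_self]; exact Nat.one_pos⟩ := by
        apply Fin.ext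
        have := k.2
        have h0 := mult_zero_self i
        simp only [Fin.val_mk]
        omega
      rw [hk]
      exact hf
    · exfalso
      have := k.2
      have h0 := mult_zero_ne m i hi
      omega
  · intro x
    refine ⟨Pi.single m (fun _ => x), ?_⟩
    change (Pi.single m (fun _ => x) : P G 0 m) m _ = x
    rw [Pi.single_eq_same]

/-- Pascal step -/
theorem P_succ (r : ℕ) (m : ℤ) : Nonempty (P G (r + 1) m ≃ₗ[A] (P G r m × P G r (m + 1))) := by
  let Ψ : P G (r + 1) m →ₗ[A] (P G r m × P G r (m + 1)) :=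
    { toFun := fun F => (fun i a => F i (Fin.cast (mult_succ r m i).symm (Fin.castAdd _ a)),
        fun i b => F i (Fin.cast (mult_succ r m i).symm (Fin.natAdd _ b)))
      map_add' := fun f g => rfl
      map_smul' := fun a f => rfl }
  refine ⟨LinearEquiv.ofBijective Ψ ⟨?_, ?_⟩⟩
  · rw [← LinearMap.ker_eq_bot, LinearMap.ker_eq_bot']
    intro F hF
    have h1 : ∀ i a, F i (Fin.cast (mult_succ r m i).symm (Fin.castAdd _ a)) = 0 := fun i a =>
      congrFun (congrFun (congrArg Prod.fst hF) i) a
    have h2 : ∀ i b, F i (Fin.cast (mult_succ r m i).symm (Fin.natAdd _ b)) = 0 := fun i b =>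
      congrFun (congrFun (congrArg Prod.snd hF) i) b
    funext i k
    obtain ⟨k', rfl⟩ : ∃ k' : Fin (mult r m i + mult r (m + 1) i),
        k = Fin.cast (mult_succ r m i).symm k' := ⟨Fin.cast (mult_succ r m i) k, by simp⟩
    induction k' using Fin.addCases with
    | left a => exact h1 i a
    | right b => exact h2 i b
  · rintro ⟨f, g⟩
    refine ⟨fun i k => Fin.append (f i) (g i) (Fin.cast (mult_succ r m i) k), ?_⟩
    refine Prod.ext ?_ ?_
    · funext i a
      change Fin.append (f i) (g i) (Fin.cast _ (Fin.cast _ (Fin.castAdd _ a))) = f i a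
      simp
    · funext i b
      change Fin.append (f i) (g i) (Fin.cast _ (Fin.cast _ (Fin.natAdd _ b))) = g i b
      simp

/-- final conversion -/
theorem P_conv (r : ℕ) (m : ℤ) :
    Nonempty (P G r m ≃ₗ[A] ((j : Fin (r + 1)) → Fin (r.choose j) → G (m + j))) := by
  let Ψ : P G r m →ₗ[A] ((j : Fin (r + 1)) → Fin (r.choose j) → G (m + j)) :=
    { toFun := fun f j k => f (m + j) (Fin.cast (mult_add r m j).symm k)
      map_add' := fun f g => rfl
      map_smul' := fun a f => rfl }
  refine ⟨LinearEquiv.ofBijective Ψ ⟨?_, ?_⟩⟩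
  · rw [← LinearMap.ker_eq_bot, LinearMap.ker_eq_bot']
    intro f hf
    have h1 : ∀ (j : Fin (r + 1)) (k : Fin (r.choose j)),
        f (m + j) (Fin.cast (mult_add r m j).symm k) = 0 := fun j k =>
      congrFun (congrFun hf j) k
    funext i k
    by_cases hi : m ≤ i ∧ i ≤ m + r
    · obtain ⟨j, rfl⟩ : ∃ j : Fin (r + 1), i = m + ((j : ℕ) : ℤ) :=
        ⟨⟨(i - m).toNat, by omega⟩, by simp only [Fin.val_mk]; omega⟩
      have := h1 j (Fin.cast (mult_add r m j) k)
      simpa using this
    · exfalso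
      have := k.2
      have h0 := mult_eq_zero r m i hi
      omega
  · intro g
    refine ⟨∑ j : Fin (r + 1), Pi.single (m + ((j : ℕ) : ℤ))
      (fun k => g j (Fin.cast (mult_add r m j) k)), ?_⟩
    funext j' k
    change (∑ j : Fin (r + 1), (Pi.single (m + ((j : ℕ) : ℤ))
      (fun k => g j (Fin.cast (mult_add r m j) k)) : P G r m)) (m + ((j' : ℕ) : ℤ))
        (Fin.cast (mult_add r m j').symm k) = g j' k
    rw [Finset.sum_apply, Finset.sum_apply, Finset.sum_eq_single j']
    · rw [Pi.single_eq_same]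
      simp
    · intro j _ hj
      rw [Pi.single_eq_of_ne]
      · rfl
      · intro h
        apply hj
        apply Fin.ext
        omega
    · intro h
      exact absurd (Finset.mem_univ _) h

end comb

section main

/-- the cohomology of the `r`-fold cone of zero -/
theorem iter (M : ModuleCat.{u} A) (xs : List A) : ∀ (r : ℕ) (m : ℤ),
    Nonempty ((koszulCx M (List.replicate r 0 ++ xs)).homology m ≃ₗ[A]
      P (fun i => (koszulCx M xs).homology i) r m)
  | 0, m => by
    obtain ⟨e⟩ := P_zero (A := A) (fun i => (koszulCx M xs).homology i) m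
    exact ⟨e.symm⟩
  | r + 1, m => by
    obtain ⟨e1⟩ := step (koszulCx M (List.replicate r 0 ++ xs)) m
    obtain ⟨e2⟩ := iter M xs r m
    obtain ⟨e3⟩ := iter M xs r (m + 1)
    obtain ⟨e4⟩ := P_succ (A := A) (fun i => (koszulCx M xs).homology i) r m
    exact ⟨e1.trans ((LinearEquiv.prodCongr e2 e3).trans e4.symm)⟩

theorem main (M : ModuleCat.{u} A) (xs ys : List A)
    (hy : ∀ y ∈ ys, y ∈ Ideal.span {a | a ∈ xs}) (m : ℤ) :
    Nonempty ((DRing.tensorCx (Koszul.koszul A (xs ++ ys)) M).homology m ≅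
      ModuleCat.of A ((j : Fin (ys.length + 1)) → Fin (ys.length.choose j) →
        (DRing.tensorCx (Koszul.koszul A xs) M).homology (m + j))) := by
  obtain ⟨e1⟩ := Groth.Agent.Helper6.KEuler.nonempty_tensorCx_koszul_iso M (xs ++ ys)
  obtain ⟨e0⟩ := Groth.Agent.Helper6.KEuler.nonempty_tensorCx_koszul_iso M xs
  obtain ⟨e2⟩ := Groth.Agent.Helper3.KoszulGen.permIso M
    (List.perm_append_comm : (xs ++ ys).Perm (ys ++ xs))
  obtain ⟨e3⟩ := Groth.Agent.Helper3.KoszulGen.tailIso M xs ys hy
  obtain ⟨e4⟩ := iter M xs ys.length m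
  obtain ⟨e5⟩ := P_conv (A := A) (fun i => (koszulCx M xs).homology i) ys.length m
  let e6 : ((j : Fin (ys.length + 1)) → Fin (ys.length.choose j) →
      (koszulCx M xs).homology (m + j)) ≃ₗ[A]
      ((j : Fin (ys.length + 1)) → Fin (ys.length.choose j) →
        (DRing.tensorCx (Koszul.koszul A xs) M).homology (m + j)) :=
    LinearEquiv.piCongrRight (fun j => LinearEquiv.piCongrRight (fun _ =>
      ((HomologicalComplex.homologyFunctor _ _ (m + j)).mapIso e0.symm).toLinearEquiv))
  let E := (HomologicalComplex.homologyFunctor _ _ m).mapIso (e1 ≪≫ e2 ≪≫ e3)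
  exact ⟨E ≪≫ ((e4.trans e5).trans e6).toModuleIso⟩

end main

end Groth.Agent.Helper2.KzAppend
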