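import Mathlib
import Groth.Prelude
set_option autoImplicit false
universe u
open PowerSeries LaurentSeries

/-! S19309: the locus where a section over the punctured disc extends over the disc is closed. -/

namespace Groth.Agent.Helper2.LaurExt

section Coeff

variable {R R' : Type u} [CommRing R] [CommRing R'] (φ : R →+* R') (θ : R⸨X⸩ →+* R'⸨X⸩)
  (hθ : θ.comp (algebraMap R⟦X⟧ R⸨X⸩) = (algebraMap R'⟦X⟧ R'⸨X⸩).comp (PowerSeries.map φ))

theorem coeff_algebraMap_map (h : R⟦X⟧) (i : ℤ) :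
    (algebraMap R'⟦X⟧ R'⸨X⸩ (PowerSeries.map φ h)).coeff i =
      φ ((algebraMap R⟦X⟧ R⸨X⸩ h).coeff i) := by
  rw [LaurentSeries.coe_algebraMap, LaurentSeries.coe_algebraMap]
  have h1 := PowerSeries.coeff_coe (PowerSeries.map φ h) i
  have h2 := PowerSeries.coeff_coe h i
  rw [h1, h2]
  split_ifs
  · rw [map_zero]
  · rw [PowerSeries.coeff_map]

include hθ in
theorem coeff_θ (g : R⸨X⸩) (j : ℤ) : (θ g).coeff j = φ (g.coeff j) := by
  obtain ⟨⟨h, ⟨_, N, rfl⟩⟩, hgh⟩ := IsLocalization.surj (Submonoid.powers (PowerSeries.X : R⟦X⟧)) g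
  simp only [] at hgh
  -- hgh : g * algebraMap (X^N) = algebraMap h
  have e1 : algebraMap R⟦X⟧ R⸨X⸩ (PowerSeries.X ^ N) = HahnSeries.single (N : ℤ) 1 := by
    rw [LaurentSeries.coe_algebraMap, HahnSeries.ofPowerSeries_X_pow]
  have e1' : algebraMap R'⟦X⟧ R'⸨X⸩ (PowerSeries.X ^ N) = HahnSeries.single (N : ℤ) 1 := by
    rw [LaurentSeries.coe_algebraMap, HahnSeries.ofPowerSeries_X_pow]
  have hθ' : ∀ f : R⟦X⟧, θ (algebraMap R⟦X⟧ R⸨X⸩ f) = algebraMap R'⟦X⟧ R'⸨X⸩ (PowerSeries.map φ f) :=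
    fun f => congrArg (fun k => k f) hθ
  have h3 : θ g * HahnSeries.single (N : ℤ) 1 = algebraMap R'⟦X⟧ R'⸨X⸩ (PowerSeries.map φ h) := by
    have := congrArg θ hgh
    rw [map_mul, hθ', hθ', map_pow, PowerSeries.map_X, e1'] at this
    exact this
  have h4 : g * HahnSeries.single (N : ℤ) 1 = algebraMap R⟦X⟧ R⸨X⸩ h := by
    rw [← e1]; exact hgh
  have h5 : (θ g).coeff j = (θ g * HahnSeries.single (N : ℤ) 1).coeff (j + N) := by
    rw [HahnSeries.coeff_mul_single_add, mul_one]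
  have h6 : g.coeff j = (g * HahnSeries.single (N : ℤ) 1).coeff (j + N) := by
    rw [HahnSeries.coeff_mul_single_add, mul_one]
  rw [h5, h6, h3, h4, coeff_algebraMap_map]

theorem mem_range_of_coeff_eq_zero (y : R'⸨X⸩) (hy : ∀ j : ℤ, j < 0 → y.coeff j = 0) :
    y ∈ (algebraMap R'⟦X⟧ R'⸨X⸩).range := by
  refine ⟨PowerSeries.mk fun n => y.coeff n, ?_⟩
  ext i
  rw [LaurentSeries.coe_algebraMap]
  have h1 := PowerSeries.coeff_coe (PowerSeries.mk fun n => y.coeff n) i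
  rw [h1]
  split_ifs with hi
  · exact (hy i hi).symm
  · rw [PowerSeries.coeff_mk]
    congr 1
    exact Int.natAbs_of_nonneg (not_lt.1 hi)

end Coeff

theorem s19309 (R : Type u) [CommRing R]
    (B : Type u) [CommRing B] [Algebra R⟦X⟧ B] (s : B →ₐ[R⟦X⟧] R⸨X⸩) :
    ∃ I : Ideal R, ∀ (R' : Type u) [CommRing R'] (φ : R →+* R') (θ : R⸨X⸩ →+* R'⸨X⸩),
      θ.comp (algebraMap R⟦X⟧ R⸨X⸩) = (algebraMap R'⟦X⟧ R'⸨X⸩).comp (PowerSeries.map φ) →
      ((∃ s' : B →+* R'⟦X⟧, s'.comp (algebraMap R⟦X⟧ B) = PowerSeries.map φ ∧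
          (algebraMap R'⟦X⟧ R'⸨X⸩).comp s' = θ.comp s.toRingHom) ↔ I ≤ RingHom.ker φ) := by
  refine ⟨Ideal.span {r : R | ∃ (b : B) (j : ℤ), j < 0 ∧ (s b).coeff j = r}, ?_⟩
  intro R' _ φ θ hθ
  have hinj : Function.Injective (algebraMap R'⟦X⟧ R'⸨X⸩) := by
    rw [LaurentSeries.coe_algebraMap]
    exact HahnSeries.ofPowerSeries_injective
  constructor
  · rintro ⟨s', -, hs'⟩
    rw [Ideal.span_le]
    rintro r ⟨b, j, hj, rfl⟩
    show φ ((s b).coeff j) = 0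
    rw [← coeff_θ φ θ hθ (s b) j]
    have h1 : θ (s b) = algebraMap R'⟦X⟧ R'⸨X⸩ (s' b) := (congrArg (fun k => k b) hs').symm
    rw [h1, LaurentSeries.coe_algebraMap]
    have h2 := PowerSeries.coeff_coe (s' b) j
    rw [h2, if_pos hj]
  · intro hI
    have hmem : ∀ b : B, θ (s b) ∈ (algebraMap R'⟦X⟧ R'⸨X⸩).range := by
      intro b
      apply mem_range_of_coeff_eq_zero
      intro j hj
      rw [coeff_θ φ θ hθ (s b) j]
      exact hI (Ideal.subset_span ⟨b, j, hj, rfl⟩)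
    let e : R'⟦X⟧ ≃+* (algebraMap R'⟦X⟧ R'⸨X⸩).range :=
      RingEquiv.ofBijective (algebraMap R'⟦X⟧ R'⸨X⸩).rangeRestrict
        ⟨fun x y hxy => hinj (congrArg Subtype.val hxy), RingHom.rangeRestrict_surjective _⟩
    let t : B →+* (algebraMap R'⟦X⟧ R'⸨X⸩).range :=
      (θ.comp s.toRingHom).codRestrict (algebraMap R'⟦X⟧ R'⸨X⸩).range hmem
    let s' : B →+* R'⟦X⟧ := (e.symm : _ →+* R'⟦X⟧).comp t
    have hs' : ∀ b, algebraMap R'⟦X⟧ R'⸨X⸩ (s' b) = θ (s b) := by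
      intro b
      have h1 : e (s' b) = t b := e.apply_symm_apply (t b)
      have h2 : ((e (s' b) : (algebraMap R'⟦X⟧ R'⸨X⸩).range) : R'⸨X⸩) =
          algebraMap R'⟦X⟧ R'⸨X⸩ (s' b) := rfl
      rw [← h2, h1]
      rfl
    refine ⟨s', ?_, ?_⟩
    · refine RingHom.ext fun f => hinj ?_
      show algebraMap R'⟦X⟧ R'⸨X⸩ (s' (algebraMap R⟦X⟧ B f)) = _
      rw [hs', s.commutes]
      exact congrArg (fun k => k f) hθ
    · exact RingHom.ext hs'

end Groth.Agent.Helper2.LaurExt
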