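import Mathlib

set_option autoImplicit false
universe u
open scoped LaurentPolynomial

namespace Groth.Agent.Helper2.LaurentPow

variable {A : Type u} [CommRing A] (n : ℕ)

/-- the `n`-th power map on Laurent polynomials -/
noncomputable abbrev φ : A[T;T⁻¹] →+* A[T;T⁻¹] :=
  AddMonoidAlgebra.mapDomainRingHom A (AddMonoidHom.mulLeft (n : ℤ))

lemma mulLeft_inj (hn : 1 ≤ n) : Function.Injective (AddMonoidHom.mulLeft (n : ℤ)) := by
  intro a b h
  simp only [AddMonoidHom.coe_mulLeft] at h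
  have hn0 : (n : ℤ) ≠ 0 := by positivity
  exact mul_left_cancel₀ hn0 h

lemma coeff_phi_mul (hn : 1 ≤ n) (c : A[T;T⁻¹]) (m : ℤ) :
    (φ n c).coeff ((n : ℤ) * m) = c.coeff m := by
  have : (φ n c).coeff = Finsupp.mapDomain (AddMonoidHom.mulLeft (n : ℤ)) c.coeff := rfl
  rw [this]
  have h := Finsupp.mapDomain_apply (mulLeft_inj n hn) c.coeff m
  simpa using h

lemma coeff_phi_not_dvd (c : A[T;T⁻¹]) (j : ℤ) (h : ¬ (n : ℤ) ∣ j) :
    (φ n c).coeff j = 0 := by
  have : (φ n c).coeff = Finsupp.mapDomain (AddMonoidHom.mulLeft (n : ℤ)) c.coeff := rfl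
  rw [this]
  apply Finsupp.mapDomain_notin_range
  rintro ⟨m, hm⟩
  apply h
  simp only [AddMonoidHom.coe_mulLeft] at hm
  exact ⟨m, hm.symm⟩

lemma coeff_term (hn : 1 ≤ n) (c : A[T;T⁻¹]) (i : Fin n) (k : ℤ) :
    (φ n c * LaurentPolynomial.T (i : ℤ)).coeff k =
      if k % (n : ℤ) = (i : ℤ) then c.coeff (k / (n : ℤ)) else 0 := by
  have hn0 : (n : ℤ) ≠ 0 := by positivity
  have hi : ((i : ℕ) : ℤ) < n := by exact_mod_cast i.2
  have hi0 : (0 : ℤ) ≤ ((i : ℕ) : ℤ) := by positivity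
  unfold LaurentPolynomial.T
  rw [AddMonoidAlgebra.coeff_mul_single_apply, mul_one]
  split_ifs with h
  · have hk : k - (i : ℤ) = (n : ℤ) * (k / (n : ℤ)) := by
      have := Int.mul_ediv_add_emod k (n : ℤ)
      rw [h] at this
      linarith
    rw [← sub_eq_add_neg, hk, coeff_phi_mul n hn]
  · rw [← sub_eq_add_neg]
    apply coeff_phi_not_dvd
    intro hd
    apply h
    have h1 : (k - (i : ℤ)) % (n : ℤ) = 0 := Int.emod_eq_zero_of_dvd hd
    have h2 : k % (n : ℤ) = ((k - (i : ℤ)) + (i : ℤ)) % (n : ℤ) := by ring_nf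
    rw [h2, Int.add_emod, h1, zero_add, Int.emod_emod_of_dvd _ (dvd_refl _),
      Int.emod_eq_of_lt hi0 hi]

lemma key (hn : 1 ≤ n) (c : Fin n → A[T;T⁻¹]) (k : ℤ) (i : Fin n) (hi : k % (n : ℤ) = (i : ℤ)) :
    (∑ j : Fin n, φ n (c j) * LaurentPolynomial.T (j : ℤ)).coeff k = (c i).coeff (k / (n : ℤ)) := by
  rw [AddMonoidAlgebra.coeff_sum, Finsupp.finset_sum_apply]
  simp only [coeff_term n hn]
  rw [Finset.sum_eq_single i]
  · rw [if_pos hi]
  · intro j _ hj
    rw [if_neg]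
    intro h
    apply hj
    apply Fin.ext
    have : ((j : ℕ) : ℤ) = ((i : ℕ) : ℤ) := by rw [← h, hi]
    exact_mod_cast this
  · intro h
    exact absurd (Finset.mem_univ i) h

lemma emod_fin (hn : 1 ≤ n) (k : ℤ) : ∃ i : Fin n, k % (n : ℤ) = (i : ℤ) := by
  have hn0 : (n : ℤ) ≠ 0 := by positivity
  have h0 := Int.emod_nonneg k hn0
  have h1 := Int.emod_lt_of_pos k (by positivity : (0 : ℤ) < n)
  refine ⟨⟨(k % (n : ℤ)).toNat, ?_⟩, ?_⟩
  · omega
  · simp only
    omega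

lemma affine_inj (hn : 1 ≤ n) (i : ℤ) : Function.Injective (fun m : ℤ => (n : ℤ) * m + i) := by
  intro a b h
  have hn0 : (n : ℤ) ≠ 0 := by positivity
  simp only [add_left_inj] at h
  exact mul_left_cancel₀ hn0 h

end Groth.Agent.Helper2.LaurentPow
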