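import Mathlib
import Groth.Prelude
import Groth.Agent.Helper2.CotTReg
import Groth.Agent.Helper2.DepthCM3
import Groth.Agent.Helper2.RegCM

set_option autoImplicit false

namespace Groth.Agent.Helper2.LciLocal

open RingTheory.Sequence IsLocalRing Module Groth.Agent.Helper2.CotTPoly Groth.Agent.Helper2.CotTReg
  Groth.Agent.Helper2.DepthCM2 Groth.Agent.Helper2.DepthCM3

universe u

section Coeff

variable {T : Type*} [CommRing T] {c : ℕ} (g : Fin c → T)

lemma kosz_apply_mem (b : Fin c →₀ T) (hb : b ∈ kosz g) (i : Fin c) :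
    b i ∈ Ideal.span (Set.range g) := by
  unfold kosz at hb
  induction hb using Submodule.span_induction with
  | mem z hz =>
    obtain ⟨k, l, rfl⟩ := hz
    rw [Finsupp.sub_apply, Finsupp.single_apply, Finsupp.single_apply]
    refine Submodule.sub_mem _ ?_ ?_
    · split_ifs
      · exact Ideal.subset_span ⟨k, rfl⟩
      · exact Submodule.zero_mem _
    · split_ifs
      · exact Ideal.subset_span ⟨l, rfl⟩
      · exact Submodule.zero_mem _
  | zero => simp
  | add x y _ _ hx hy => rw [Finsupp.add_apply]; exact Submodule.add_mem _ hx hy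
  | smul a x _ hx => rw [Finsupp.smul_apply]; exact Submodule.smul_mem _ _ hx

theorem coeff_mem
    (hreg : ∀ (i : Fin c) (y : T), g i * y ∈ Ideal.span (g '' {j | j < i}) →
      y ∈ Ideal.span (g '' {j | j < i}))
    (a : Fin c →₀ T)
    (ha : Finsupp.linearCombination T g a ∈
      Ideal.span (Set.range g) * Ideal.span (Set.range g)) (i : Fin c) :
    a i ∈ Ideal.span (Set.range g) := by
  rw [← smul_eq_mul] at ha
  conv at ha => arg 1; arg 2; rw [Ideal.span]
  rw [Submodule.mem_ideal_smul_span_iff_exists_sum] at ha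
  obtain ⟨b, hbJ, hb⟩ := ha
  have h0 : Finsupp.linearCombination T g (a - b) = 0 := by
    rw [map_sub, Finsupp.linearCombination_apply T b, hb, sub_self]
  have h1 := kosz_apply_mem g _ (mem_kosz_of_regular g hreg (a - b) h0) i
  have : a i = (a - b) i + b i := by rw [Finsupp.sub_apply]; ring
  rw [this]
  exact Submodule.add_mem _ h1 (hbJ i)

end Coeff

section Local

variable {T : Type u} [CommRing T] [IsNoetherianRing T] [IsLocalRing T]

theorem isSMulRegular_quot_of_notMem_minimalPrimes
    (hCM : LocCoh.IsCohenMacaulayModule T T) (l : List T) (hmem : ∀ x ∈ l, x ∈ maximalIdeal T)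
    (hreg : IsWeaklyRegular T l) (t : T) (ht : ∀ p ∈ (Ideal.ofList l).minimalPrimes, t ∉ p) :
    IsSMulRegular (T ⧸ (Ideal.ofList l • (⊤ : Submodule T T))) t := by
  have hN := cm_quot_ofList T hCM l hmem hreg
  by_contra hcon
  have hx : t ∈ ({ r : T | IsSMulRegular (T ⧸ (Ideal.ofList l • (⊤ : Submodule T T))) r }ᶜ : Set T) :=
    hcon
  rw [← biUnion_associatedPrimes_eq_compl_regular T] at hx
  obtain ⟨p', hp', htp⟩ := Set.mem_iUnion₂.1 hx
  have hprime := hp'.isPrime
  have hann : (Ideal.ofList l • (⊤ : Submodule T T)) = Ideal.ofList l := by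
    rw [smul_eq_mul, Ideal.mul_top]
  have hannq : Module.annihilator T (T ⧸ (Ideal.ofList l • (⊤ : Submodule T T))) =
      Ideal.ofList l := by
    rw [Submodule.annihilator_quotient, hann]
    exact Submodule.colon_univ
  have hJle : Ideal.ofList l ≤ p' := by
    have := hp'.annihilator_le
    rwa [Submodule.annihilator_top, hannq] at this
  obtain ⟨q, hq, hqle⟩ := Ideal.exists_minimalPrimes_le hJle
  have hqprime : q.IsPrime := hq.1.1
  have hqsupp : (⟨q, hqprime⟩ : PrimeSpectrum T) ∈
      Module.support T (T ⧸ (Ideal.ofList l • (⊤ : Submodule T T))) := by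
    rw [Module.mem_support_iff_of_finite, hannq]
    exact hq.1.2
  have := cm_ass_minimal _ hN p' hp' ⟨q, hqprime⟩ hqsupp hqle
  exact ht p' (this ▸ hq) htp

theorem mem_sq_of_smul_mem_sq
    (hCM : LocCoh.IsCohenMacaulayModule T T) (l : List T) (hmem : ∀ x ∈ l, x ∈ maximalIdeal T)
    (hreg : IsWeaklyRegular T l) (t : T) (ht : ∀ p ∈ (Ideal.ofList l).minimalPrimes, t ∉ p)
    (x : T) (hx : x ∈ Ideal.ofList l) (htx : t * x ∈ Ideal.ofList l ^ 2) :
    x ∈ Ideal.ofList l ^ 2 := by
  have hJ : Ideal.ofList l = Ideal.span (Set.range l.get) := by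
    unfold Ideal.ofList
    rw [Set.range_list_get]
  have hregc := regular_cond_of_isWeaklyRegular l.get (by rwa [List.ofFn_get])
  have hNZD := isSMulRegular_quot_of_notMem_minimalPrimes hCM l hmem hreg t ht
  rw [isSMulRegular_quotient_iff_mem_of_smul_mem] at hNZD
  have hann : (Ideal.ofList l • (⊤ : Submodule T T)) = Ideal.ofList l := by
    rw [smul_eq_mul, Ideal.mul_top]
  rw [hann] at hNZD
  rw [hJ] at hx htx hNZD ⊢
  rw [Ideal.span, Finsupp.mem_span_range_iff_exists_finsupp] at hx
  obtain ⟨a, rfl⟩ := hx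
  rw [← Finsupp.linearCombination_apply T a] at htx ⊢
  rw [pow_two] at htx ⊢
  have hta : Finsupp.linearCombination T l.get (t • a) ∈
      Ideal.span (Set.range l.get) * Ideal.span (Set.range l.get) := by
    rw [map_smul, smul_eq_mul]; exact htx
  have hai : ∀ i, a i ∈ Ideal.span (Set.range l.get) := by
    intro i
    apply hNZD
    have := coeff_mem l.get hregc (t • a) hta i
    rwa [Finsupp.smul_apply] at this
  rw [Finsupp.linearCombination_apply]
  refine Submodule.sum_mem _ fun i _ => ?_
  show a i * l.get i ∈ _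
  exact Ideal.mul_mem_mul (hai i) (Ideal.subset_span ⟨i, rfl⟩)

end Local

end Groth.Agent.Helper2.LciLocal
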