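import Mathlib
import Groth.Prelude
import Groth.Agent.Helper2.KRMain
import Groth.Agent.Helper2.LciLocal
import Groth.Agent.Helper2.RegCM

set_option autoImplicit false

namespace Groth.Agent.Helper2.LciGlobal

open CategoryTheory Limits RingTheory.Sequence IsLocalRing Module
  Groth.Agent.Helper2.KRLoc Groth.Agent.Helper2.KRMain Groth.Agent.Helper2.LciLocal

universe u

lemma koszul_eq {A : Type u} [CommRing A] (l : List A) :
    Koszul.koszul A l = CohIII.koszulCx (ModuleCat.of A A) l := by
  induction l with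
  | nil => rfl
  | cons f l ih =>
    show CochainComplex.mappingCone (f • 𝟙 (Koszul.koszul A l)) =
      CochainComplex.mappingCone (f • 𝟙 (CohIII.koszulCx (ModuleCat.of A A) l))
    rw [ih]

lemma homology_iso_of_eq {A : Type u} [CommRing A] (K K' : CochainComplex (ModuleCat.{u} A) ℤ)
    (h : K = K') (i : ℤ) : Nonempty (K.homology i ≅ K'.homology i) := by
  subst h
  exact ⟨Iso.refl _⟩

lemma locZero_of_koszulRegular {S : Type u} [CommRing S] (Q : Ideal S) [Q.IsPrime] (l : List S)
    (hl : LCI.IsKoszulRegularSeq S l) (j : ℤ) (hj : j < 0) :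
    LocZero Q ((CohIII.koszulCx (ModuleCat.of S S) l).homology j) := by
  have h := hl j (ne_of_lt hj)
  obtain ⟨e⟩ := homology_iso_of_eq _ _ (koszul_eq l) j
  have h' := h.of_iso e.symm
  have := ModuleCat.subsingleton_of_isZero h'
  intro z
  exact ⟨1, fun h1 => (‹Q.IsPrime›).ne_top ((Ideal.eq_top_iff_one _).2 h1), Subsingleton.elim _ _⟩

/-- weak regularity of the image of a Koszul-regular list in the localization at a prime
containing it. -/
theorem isWeaklyRegular_atPrime {S : Type u} [CommRing S] [IsNoetherianRing S] (Q : Ideal S)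
    [Q.IsPrime] (l : List S) (hl : LCI.IsKoszulRegularSeq S l) (hmem : ∀ x ∈ l, x ∈ Q) :
    IsWeaklyRegular (Localization.AtPrime Q) (l.map (algebraMap S (Localization.AtPrime Q))) := by
  have h1 := isWeaklyRegular_localized Q S l hmem (fun j hj => locZero_of_koszulRegular Q l hl j hj)
  rw [isWeaklyRegular_map_algebraMap_iff] at h1 ⊢
  let e : LocalizedModule Q.primeCompl S ≃ₗ[S] Localization.AtPrime Q :=
    IsLocalizedModule.iso Q.primeCompl (Algebra.linearMap S (Localization.AtPrime Q))
  exact (e.isWeaklyRegular_congr l).1 h1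

theorem local_step {R : Type u} [CommRing R] [IsRegularRing R] (M : Submonoid R)
    (Q' : Ideal (Localization M)) [Q'.IsPrime]
    (I : Ideal R) (l : List (Localization M)) (hl : LCI.IsKoszulRegularSeq (Localization M) l)
    (hIl : I.map (algebraMap R (Localization M)) = Ideal.span {x | x ∈ l})
    (hIQ : I.map (algebraMap R (Localization M)) ≤ Q')
    (t y : R) (ht : ∀ q ∈ I.minimalPrimes, t ∉ q) (hy : y ∈ I) (hty : t * y ∈ I ^ 2) :
    ∃ s, s ∉ Q'.comap (algebraMap R (Localization M)) ∧ s * y ∈ I ^ 2 := by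
  haveI : IsNoetherianRing (Localization M) := IsLocalization.isNoetherianRing M _ inferInstance
  haveI : IsRegularLocalRing (Localization.AtPrime Q') :=
    IsRegularLocalRing.of_ringEquiv
      (IsLocalization.localizationLocalizationAtPrimeIsoLocalization M Q').toRingEquiv
  have hCM := RegCM.cm_of_isRegularLocalRing (Localization.AtPrime Q')
  have hmemQ : ∀ x ∈ l, x ∈ Q' := fun x hx => hIQ (hIl ▸ Ideal.subset_span hx)
  have hreg := isWeaklyRegular_atPrime Q' l hl hmemQ
  have hmem' : ∀ x ∈ l.map (algebraMap (Localization M) (Localization.AtPrime Q')),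
      x ∈ maximalIdeal (Localization.AtPrime Q') := by
    intro x hx
    obtain ⟨z, hz, rfl⟩ := List.mem_map.1 hx
    exact (IsLocalization.AtPrime.to_map_mem_maximal_iff _ Q' z).2 (hmemQ z hz)
  have hJ : Ideal.ofList (l.map (algebraMap (Localization M) (Localization.AtPrime Q'))) =
      I.map (algebraMap R (Localization.AtPrime Q')) := by
    rw [← Ideal.map_ofList, Ideal.ofList, ← hIl, Ideal.map_map, ← IsScalarTower.algebraMap_eq]
  have htT : ∀ P ∈ (Ideal.ofList
      (l.map (algebraMap (Localization M) (Localization.AtPrime Q')))).minimalPrimes,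
      algebraMap R (Localization.AtPrime Q') t ∉ P := by
    intro P hP htP
    rw [hJ, IsLocalization.minimalPrimes_map
      (Q'.comap (algebraMap R (Localization M))).primeCompl (Localization.AtPrime Q') I] at hP
    exact ht _ hP htP
  have hyT : algebraMap R (Localization.AtPrime Q') y ∈ Ideal.ofList
      (l.map (algebraMap (Localization M) (Localization.AtPrime Q'))) := by
    rw [hJ]; exact Ideal.mem_map_of_mem _ hy
  have htyT : algebraMap R (Localization.AtPrime Q') t * algebraMap R (Localization.AtPrime Q') y ∈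
      Ideal.ofList (l.map (algebraMap (Localization M) (Localization.AtPrime Q'))) ^ 2 := by
    rw [hJ, ← Ideal.map_pow, ← map_mul]; exact Ideal.mem_map_of_mem _ hty
  have hfin := mem_sq_of_smul_mem_sq hCM _ hmem' hreg _ htT _ hyT htyT
  rw [hJ, ← Ideal.map_pow, IsLocalization.mem_map_algebraMap_iff
    (Q'.comap (algebraMap R (Localization M))).primeCompl (Localization.AtPrime Q')] at hfin
  obtain ⟨⟨⟨c, hc⟩, ⟨s, hs⟩⟩, hcs⟩ := hfin
  rw [← map_mul, IsLocalization.eq_iff_exists
    (Q'.comap (algebraMap R (Localization M))).primeCompl (Localization.AtPrime Q')] at hcs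
  obtain ⟨⟨s', hs'⟩, hs'eq⟩ := hcs
  refine ⟨s' * s, (Q'.comap (algebraMap R (Localization M))).primeCompl.mul_mem hs' hs, ?_⟩
  have : s' * s * y = s' * c := by
    simp only at hs'eq
    rw [← hs'eq]; ring
  rw [this]
  exact Ideal.mul_mem_left _ _ hc

theorem mem_sq_of_koszulRegular {R : Type u} [CommRing R] [IsRegularRing R]
    (I : Ideal R) (hK : LCI.IsKoszulRegularIdeal I) (t y : R)
    (ht : ∀ q ∈ I.minimalPrimes, t ∉ q) (hy : y ∈ I) (hty : t * y ∈ I ^ 2) : y ∈ I ^ 2 := by
  by_contra hcon
  have h𝔟 : (I ^ 2).colon {y} ≠ ⊤ := by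
    intro h
    have : (1 : R) ∈ (I ^ 2).colon {y} := h ▸ Submodule.mem_top
    rw [Submodule.mem_colon_singleton] at this
    exact hcon (by simpa using this)
  obtain ⟨𝔪, h𝔪, hle⟩ := Ideal.exists_le_maximal _ h𝔟
  have hI𝔪 : I ≤ 𝔪 := by
    intro i hi
    apply hle
    rw [Submodule.mem_colon_singleton, smul_eq_mul, pow_two]
    exact Ideal.mul_mem_mul hi hy
  haveI := h𝔪.isPrime
  obtain ⟨g, hg, l, hl, hIl⟩ := hK ⟨𝔪, h𝔪.isPrime⟩ hI𝔪
  have hdisj : Disjoint (Submonoid.powers g : Set R) (𝔪 : Set R) := by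
    rw [Set.disjoint_left]
    rintro _ ⟨n, rfl⟩ hn
    exact hg (h𝔪.isPrime.mem_of_pow_mem n hn)
  haveI hQ' : (𝔪.map (algebraMap R (Localization.Away g))).IsPrime :=
    IsLocalization.isPrime_of_isPrime_disjoint (Submonoid.powers g) _ 𝔪 h𝔪.isPrime hdisj
  have hcomap : (𝔪.map (algebraMap R (Localization.Away g))).comap
      (algebraMap R (Localization.Away g)) = 𝔪 :=
    IsLocalization.under_map_of_isPrime_disjoint (Submonoid.powers g) _ h𝔪.isPrime hdisj
  obtain ⟨s, hs, hsy⟩ := local_step (Submonoid.powers g)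
    (𝔪.map (algebraMap R (Localization.Away g))) I l hl hIl (Ideal.map_mono hI𝔪) t y ht hy hty
  rw [hcomap] at hs
  apply hs
  apply hle
  rw [Submodule.mem_colon_singleton]
  exact hsy

end Groth.Agent.Helper2.LciGlobal
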