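import Mathlib
import Groth.Prelude
import Groth.Agent.Helper2.LciGlobal

set_option autoImplicit false

namespace Groth.Agent.Helper2.LciH1

open Algebra MvPolynomial Groth.Agent.Helper2.LciGlobal

universe u

/-- prime avoidance for annihilators at the minimal primes. -/
lemma exists_annihilating {A : Type u} [CommRing A] [IsNoetherianRing A] {N : Type*}
    [AddCommGroup N] [Module A N] (x : N)
    (h : ∀ p ∈ minimalPrimes A, ∃ s, s ∉ p ∧ s • x = 0) :
    ∃ t : A, (∀ p ∈ minimalPrimes A, t ∉ p) ∧ t • x = 0 := by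
  classical
  have hfin := minimalPrimes.finite_of_isNoetherianRing A
  have hnot : ¬ (((LinearMap.ker (LinearMap.toSpanSingleton A N x) : Ideal A) : Set A) ⊆
      ⋃ p ∈ (hfin.toFinset : Set (Ideal A)), ((fun q => q) p : Ideal A)) := by
    rw [Ideal.subset_union_prime (f := fun q => q) ⊥ ⊥
      (fun p hp _ _ => (hfin.mem_toFinset.1 hp).isPrime)]
    rintro ⟨p, hp, hJp⟩
    obtain ⟨s, hs, hsx⟩ := h p (hfin.mem_toFinset.1 hp)
    exact hs (hJp (by simpa using hsx))
  rw [Set.not_subset] at hnot
  obtain ⟨t, htJ, htn⟩ := hnot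
  refine ⟨t, fun p hp htp => htn ?_, by simpa using htJ⟩
  exact Set.mem_biUnion (by simpa using hp) htp

theorem s16713 (k : Type u) [Field k]
    (A : Type u) [CommRing A] [Algebra k A] (hlci : LCI.IsLCI k A)
    (hgs : ∀ (p : Ideal A) [p.IsPrime], p ∈ minimalPrimes A →
      Algebra.FormallySmooth k (Localization.AtPrime p)) :
    Subsingleton (Algebra.H1Cotangent k A) := by
  obtain ⟨hft, n, f, hf, hK⟩ := hlci
  haveI : IsNoetherianRing A := Algebra.FiniteType.isNoetherianRing k A
  have hfeq : f = aeval (fun i => f (X i)) := by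
    apply MvPolynomial.algHom_ext
    intro i
    simp
  let P : Algebra.Generators k A (Fin n) :=
    Algebra.Generators.ofSurjective (fun i => f (X i)) (by rw [← hfeq]; exact hf)
  have hPalg : ∀ r : P.Ring, algebraMap P.Ring A r = f r := by
    intro r
    conv_rhs => rw [hfeq]
    rfl
  have hPker : P.ker = RingHom.ker f.toRingHom := by
    ext r
    show algebraMap P.Ring A r = 0 ↔ f r = 0
    rw [hPalg]
  refine ⟨fun x x' => ?_⟩
  suffices H : ∀ x : Algebra.H1Cotangent k A, x = 0 by rw [H x, H x']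
  intro x
  -- annihilator
  obtain ⟨t, htmin, htx⟩ := exists_annihilating (A := A) x (by
    intro p hp
    haveI : p.IsPrime := hp.1.1
    haveI := hgs p hp
    have h0 : Algebra.H1Cotangent.map k k A (Localization.AtPrime p) x = 0 :=
      Subsingleton.elim _ _
    rw [IsLocalizedModule.eq_zero_iff p.primeCompl] at h0
    obtain ⟨⟨s, hs⟩, hsx⟩ := h0
    exact ⟨s, hs, hsx⟩)
  let e := P.equivH1Cotangent
  have hx' : t • e.symm x = 0 := by rw [← map_smul, htx, map_zero]
  obtain ⟨y, hy⟩ := Algebra.Extension.Cotangent.mk_surjective (e.symm x).1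
  obtain ⟨t', ht'⟩ := P.toExtension.algebraMap_surjective t
  have h1 : Algebra.Extension.Cotangent.mk (t' • y) = 0 := by
    rw [map_smul, hy, ← algebraMap_smul A t' (e.symm x).1, ht',
      ← Algebra.Extension.H1Cotangent.val_smul, hx']
    rfl
  rw [Algebra.Extension.Cotangent.mk_eq_zero_iff] at h1
  haveI hIreg : IsRegularRing (MvPolynomial (Fin n) k) := inferInstance
  have h2 : y.1 ∈ P.ker ^ 2 := by
    have h1' : t' * y.1 ∈ P.ker ^ 2 := h1
    refine mem_sq_of_koszulRegular P.ker (hPker ▸ hK) t' y.1 ?_ y.2 h1'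
    intro q hq htq
    rw [hPker, RingHom.ker_eq_comap_bot, Ideal.comap_minimalPrimes_eq_of_surjective hf] at hq
    obtain ⟨p, hp, rfl⟩ := hq
    exact htmin p hp (by rw [← ht']; exact (hPalg t').symm ▸ htq)
  have h3 : (e.symm x).1 = 0 := by
    rw [← hy, Algebra.Extension.Cotangent.mk_eq_zero_iff]; exact h2
  have h4 : e.symm x = 0 := Subtype.ext h3
  exact (LinearEquiv.map_eq_zero_iff _).1 h4

end Groth.Agent.Helper2.LciH1
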