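import Mathlib
import Groth.Prelude
import Groth.Agent.Helper2.DepthFlat2
import Groth.Agent.Helper2.FlatReg2
import Groth.Agent.Helper2.FlatFibre
import Groth.Agent.Helper2.DepthCM3
import Groth.Agent.Helper2.RegCM
import Groth.Agent.Helper2.Depth
import Groth.Agent.Helper2.Ass

set_option autoImplicit false
universe u
open IsLocalRing TensorProduct RingTheory.Sequence Pointwise Function

namespace Groth.Agent.Helper2.LciRelA

open Groth.Agent.Helper2 Groth.Agent.Helper2.FlatFibre

section FibreReg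
variable {A B : Type u} [CommRing A] [CommRing B] [IsLocalRing A] [IsLocalRing B]
  [IsNoetherianRing A] [IsNoetherianRing B] [Algebra A B] [IsLocalHom (algebraMap A B)]

omit [IsLocalRing B] [IsNoetherianRing A] [IsNoetherianRing B] [IsLocalHom (algebraMap A B)] in
/-- if `f` is `N`-regular and `N/fN` is flat over `A`, then `f` is regular on the closed fibre
`N/𝔪N`. -/
theorem fibre_regular_one {N : Type u} [AddCommGroup N] [Module B N] [Module A N]
    [IsScalarTower A B N] (f : B) (hf : IsSMulRegular N f) [Module.Flat A (QuotSMulTop f N)] :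
    IsSMulRegular (EGA4.FibMod A B N) f := by
  rw [isSMulRegular_quotient_iff_mem_of_smul_mem]
  intro z hz
  obtain ⟨w, hw⟩ := exists_mu_eq (A := A) (B := B) (f • z) hz
  set π : N →ₗ[B] QuotSMulTop f N := (f • (⊤ : Submodule B N)).mkQ with hπ
  have hπf : π (f • z) = 0 := by
    rw [hπ, Submodule.mkQ_apply, Submodule.Quotient.mk_eq_zero]
    exact Submodule.smul_mem_pointwise_smul z f ⊤ Submodule.mem_top
  have h1 : mu A (QuotSMulTop f N) (LinearMap.rTensor (maximalIdeal A) (π.restrictScalars A) w)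
      = 0 := by
    rw [mu_natural, hw]
    exact hπf
  have h2 : LinearMap.rTensor (maximalIdeal A) (π.restrictScalars A) w = 0 :=
    mu_injective A (N := QuotSMulTop f N) (by rw [h1, map_zero])
  have hex := rTensor_exact (maximalIdeal A)
    (show Function.Exact ((LinearMap.lsmul B N f).restrictScalars A) (π.restrictScalars A) from
      DepthFlat2.exact_lsmul_mkQ N f)
    (show Function.Surjective (π.restrictScalars A) from Submodule.mkQ_surjective _)
  obtain ⟨w', hw'⟩ := (hex w).1 h2
  have h3 : mu A N w = f • mu A N w' := by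
    rw [← hw', mu_natural]
    rfl
  have h4 : z = mu A N w' := hf (show f • z = f • mu A N w' by rw [← h3, hw])
  rw [h4]
  exact mu_mem A w'

/-- a weakly regular sequence in the maximal ideal with flat quotient: the module is flat and
the sequence stays weakly regular on the closed fibre. -/
theorem fibre_weaklyRegular : ∀ (rs : List B) (N : Type u) [AddCommGroup N] [Module B N]
    [Module A N] [IsScalarTower A B N] [Module.Finite B N],
    (∀ r ∈ rs, r ∈ maximalIdeal B) → IsWeaklyRegular N rs →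
    Module.Flat A (N ⧸ Ideal.ofList rs • (⊤ : Submodule B N)) →
    Module.Flat A N ∧ IsWeaklyRegular (EGA4.FibMod A B N) rs := by
  intro rs
  induction rs with
  | nil =>
    intro N _ _ _ _ _ _ _ hflat
    refine ⟨?_, IsWeaklyRegular.nil _ _⟩
    have hbot : (Ideal.ofList ([] : List B) • (⊤ : Submodule B N)) = ⊥ := by
      rw [Ideal.ofList_nil, Submodule.bot_smul]
    exact Module.Flat.of_linearEquiv
      ((Submodule.quotEquivOfEqBot _ hbot).restrictScalars A).symm
  | cons r rs ih =>
    intro N _ _ _ _ _ hmem hreg hflat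
    rw [isWeaklyRegular_cons_iff] at hreg
    obtain ⟨hr, hrs⟩ := hreg
    have hflat' : Module.Flat A (QuotSMulTop r N ⧸
        Ideal.ofList rs • (⊤ : Submodule B (QuotSMulTop r N))) :=
      Module.Flat.of_linearEquiv
        ((Submodule.quotOfListConsSMulTopEquivQuotSMulTopInner N r rs).restrictScalars A).symm
    obtain ⟨hfl1, hreg1⟩ := ih (QuotSMulTop r N) (fun x hx => hmem x (List.mem_cons_of_mem _ hx))
      hrs hflat'
    have hflN : Module.Flat A N :=
      FlatReg2.flat_of_flat_quot (A := A) (B := B) r (hmem r List.mem_cons_self) hr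
        (r • (⊤ : Submodule B N)).mkQ (Submodule.mkQ_surjective _)
        (DepthFlat2.exact_lsmul_mkQ N r)
    refine ⟨hflN, ?_⟩
    rw [isWeaklyRegular_cons_iff]
    refine ⟨fibre_regular_one r hr, ?_⟩
    obtain ⟨e⟩ := DepthFlat2.nonempty_fibMod_equiv (A := A) (B := B) N r
    exact (e.isWeaklyRegular_congr rs).1 hreg1

end FibreReg

section LemmaL
variable {A B : Type u} [CommRing A] [CommRing B] [IsLocalRing A] [IsLocalRing B]
  [IsNoetherianRing A] [IsNoetherianRing B] [Algebra A B] [IsLocalHom (algebraMap A B)]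

omit [IsLocalRing A] [IsLocalRing B] [IsNoetherianRing A] [IsNoetherianRing B] [Algebra A B]
  [IsLocalHom (algebraMap A B)] [CommRing A] in
/-- `(N/KN)/J ≃ (N/JN)/K` -/
lemma nonempty_quot_quot_comm (J K : Ideal B) (N : Type*) [AddCommGroup N] [Module B N] :
    Nonempty (((N ⧸ K • (⊤ : Submodule B N)) ⧸
        J • (⊤ : Submodule B (N ⧸ K • (⊤ : Submodule B N)))) ≃ₗ[B]
      ((N ⧸ J • (⊤ : Submodule B N)) ⧸
        K • (⊤ : Submodule B (N ⧸ J • (⊤ : Submodule B N))))) := by
  set S₁ : Submodule B N := K • (⊤ : Submodule B N) with hS₁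
  set S₂ : Submodule B N := J • (⊤ : Submodule B N) with hS₂
  have h1 : (J • (⊤ : Submodule B (N ⧸ S₁))) = S₂.map S₁.mkQ := by
    rw [hS₂, Submodule.map_smul'', Submodule.map_top, Submodule.range_mkQ]
  have h2 : (K • (⊤ : Submodule B (N ⧸ S₂))) = S₁.map S₂.mkQ := by
    rw [hS₁, Submodule.map_smul'', Submodule.map_top, Submodule.range_mkQ]
  have e1 : ((N ⧸ S₁) ⧸ (J • (⊤ : Submodule B (N ⧸ S₁)))) ≃ₗ[B] N ⧸ (S₁ ⊔ S₂) :=
    (Submodule.quotEquivOfEq _ _ h1).trans (Submodule.quotientQuotientEquivQuotientSup S₁ S₂)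
  have e2 : ((N ⧸ S₂) ⧸ (K • (⊤ : Submodule B (N ⧸ S₂)))) ≃ₗ[B] N ⧸ (S₂ ⊔ S₁) :=
    (Submodule.quotEquivOfEq _ _ h2).trans (Submodule.quotientQuotientEquivQuotientSup S₂ S₁)
  exact ⟨e1.trans ((Submodule.quotEquivOfEq _ _ (sup_comm S₁ S₂)).trans e2.symm)⟩

omit [IsNoetherianRing A] in
/-- the closed fibre of `B`, as a `B`-module, is Cohen–Macaulay when the fibre ring is regular -/
lemma cm_fibMod (hF : IsRegularLocalRing (B ⧸ (maximalIdeal A).map (algebraMap A B))) :
    LocCoh.IsCohenMacaulayModule B (EGA4.FibMod A B B) := by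
  have hcm := RegCM.cm_of_isRegularLocalRing (B ⧸ (maximalIdeal A).map (algebraMap A B))
  unfold LocCoh.IsCohenMacaulayModule at hcm ⊢
  rw [Module.supportDim_self_eq_ringKrullDim] at hcm
  have hI : (EGA4.mB A B • (⊤ : Submodule B B)) = EGA4.mB A B := by
    rw [smul_eq_mul, Ideal.mul_top]
  have e2 : EGA4.FibMod A B B ≃ₗ[B] EGA4.FibRing A B := Submodule.quotEquivOfEq _ _ hI
  have hc2 : LocCoh.depth B (EGA4.FibMod A B B) = LocCoh.depth B (EGA4.FibRing A B) :=
    DepthCM.idealDepth_congr (maximalIdeal B) e2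
  haveI : IsLocalHom (algebraMap B (EGA4.FibRing A B)) :=
    IsLocalHom.of_surjective _ Ideal.Quotient.mk_surjective
  haveI : Module.Finite B (EGA4.FibRing A B) :=
    Module.Finite.of_surjective (Algebra.linearMap _ _) Ideal.Quotient.mk_surjective
  have hc3 : LocCoh.depth B (EGA4.FibRing A B) =
      LocCoh.depth (EGA4.FibRing A B) (EGA4.FibRing A B) :=
    RegCM.depth_eq_of_isLocalHom B (EGA4.FibRing A B) (EGA4.FibRing A B)
  rw [Module.supportDim_eq_of_equiv e2, Module.supportDim_quotient_eq_ringKrullDim, hc2, hc3]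
  exact hcm

/-- **Local lemma.** `A → B` flat local homomorphism of Noetherian local rings with regular closed
fibre, `rs` a `B`-regular sequence in the maximal ideal with `B/(rs)` flat over `A` and of depth
zero: every prime of `B` containing `𝔪_A B + (rs)` is the maximal ideal. -/
theorem prime_eq_maximalIdeal
    (hF : IsRegularLocalRing (B ⧸ (maximalIdeal A).map (algebraMap A B)))
    (rs : List B) (hmem : ∀ r ∈ rs, r ∈ maximalIdeal B) (hreg : IsWeaklyRegular B rs)
    (hflat : Module.Flat A (B ⧸ Ideal.ofList rs • (⊤ : Submodule B B)))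
    (h0 : ∀ x ∈ maximalIdeal B, ¬ IsSMulRegular (B ⧸ Ideal.ofList rs • (⊤ : Submodule B B)) x)
    (q : Ideal B) [q.IsPrime] (hq1 : (maximalIdeal A).map (algebraMap A B) ≤ q)
    (hq2 : Ideal.ofList rs ≤ q) : q = maximalIdeal B := by
  set N := B ⧸ Ideal.ofList rs • (⊤ : Submodule B B) with hN
  obtain ⟨hflB, hregF⟩ := fibre_weaklyRegular (A := A) rs B hmem hreg hflat
  haveI : Module.Flat A N := hflat
  have hKne : Ideal.ofList rs • (⊤ : Submodule B B) ≠ ⊤ := by
    rw [smul_eq_mul, Ideal.mul_top]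
    intro h
    have hle : Ideal.ofList rs ≤ maximalIdeal B := DepthCM.ofList_le rs hmem
    exact (IsLocalRing.maximalIdeal.isMaximal B).ne_top (top_le_iff.mp (h ▸ hle))
  haveI : Nontrivial N := Submodule.Quotient.nontrivial_iff.2 hKne
  -- depth of `N` is zero
  have hd0 : LocCoh.depth B N = 0 := (Depth.depth_eq_zero_iff B N).2 h0
  have hform := DepthFlat2.depth_tensor (A := A) (B := B) A N
  have e1 : (N ⊗[A] A) ≃ₗ[B] N := TensorProduct.AlgebraTensorModule.rid _ _ _
  have hc1 : LocCoh.depth B (N ⊗[A] A) = LocCoh.depth B N :=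
    DepthCM.idealDepth_congr (maximalIdeal B) e1
  rw [hc1, hd0] at hform
  have hdF : LocCoh.depth B (EGA4.FibMod A B N) = 0 := by
    have := hform.symm
    rw [add_eq_zero] at this
    exact this.2
  -- transfer to the quotient of the fibre
  set M₀ := EGA4.FibMod A B B with hM₀
  obtain ⟨e⟩ := nonempty_quot_quot_comm (EGA4.mB A B) (Ideal.ofList rs) B
  have hdF' : LocCoh.depth B (M₀ ⧸ Ideal.ofList rs • (⊤ : Submodule B M₀)) = 0 := by
    rw [← hdF]
    exact (DepthCM.idealDepth_congr (maximalIdeal B) e).symm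
  have hCM := DepthCM2.cm_quot_ofList M₀ (cm_fibMod hF) rs hmem hregF
  have hnt := DepthCM2.cm_nontrivial hCM
  have h0' := (Depth.depth_eq_zero_iff B _).1 hdF'
  have hass := Ass.maximalIdeal_mem_ass_of_forall_not_regular B _ h0'
  -- `q` lies in the support
  have hsupp : (⟨q, inferInstance⟩ : PrimeSpectrum B) ∈
      Module.support B (M₀ ⧸ Ideal.ofList rs • (⊤ : Submodule B M₀)) := by
    rw [Module.support_quotient]
    have hM₀s : Module.support B M₀ = Module.support B B ∩
        PrimeSpectrum.zeroLocus (EGA4.mB A B : Set B) := Module.support_quotient _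
    rw [hM₀s]
    refine ⟨⟨?_, ?_⟩, ?_⟩
    · rw [Module.mem_support_iff']
      refine ⟨1, fun r hr h => hr ?_⟩
      rw [smul_eq_mul, mul_one] at h
      rw [h]
      exact Ideal.zero_mem _
    · exact hq1
    · exact hq2
  exact DepthCM3.cm_ass_minimal _ hCM (maximalIdeal B) hass ⟨q, inferInstance⟩ hsupp
    (IsLocalRing.le_maximalIdeal (Ideal.IsPrime.ne_top inferInstance))

end LemmaL

end Groth.Agent.Helper2.LciRelA
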