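import Mathlib
import Groth.Prelude
import Groth.Agent.Helper2.LciGlobal

set_option autoImplicit false

namespace Groth.Agent.Helper2.LciRelB

open CategoryTheory Limits RingTheory.Sequence IsLocalRing Module
  Groth.Agent.Helper2.KRLoc Groth.Agent.Helper2.KRMain Groth.Agent.Helper2.LciLocal
  Groth.Agent.Helper2.LciGlobal Groth.Agent.Helper2.CotTPoly Groth.Agent.Helper2.CotTReg

universe u

/-- weakly regular list, `t` regular on the quotient: `t x ∈ J²`, `x ∈ J` ⇒ `x ∈ J²`. -/
theorem mem_sq_of_regular {T : Type u} [CommRing T] (l : List T) (hreg : IsWeaklyRegular T l)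
    (t : T) (hNZD : ∀ z, t * z ∈ Ideal.ofList l → z ∈ Ideal.ofList l)
    (x : T) (hx : x ∈ Ideal.ofList l) (htx : t * x ∈ Ideal.ofList l ^ 2) :
    x ∈ Ideal.ofList l ^ 2 := by
  have hJ : Ideal.ofList l = Ideal.span (Set.range l.get) := by
    unfold Ideal.ofList
    rw [Set.range_list_get]
  have hregc := regular_cond_of_isWeaklyRegular l.get (by rwa [List.ofFn_get])
  rw [hJ] at hx htx hNZD ⊢
  rw [Ideal.span, Finsupp.mem_span_range_iff_exists_finsupp] at hx
  obtain ⟨a, rfl⟩ := hx
  rw [← Finsupp.linearCombination_apply T a] at htx ⊢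
  rw [pow_two] at htx ⊢
  have hta : Finsupp.linearCombination T l.get (t • a) ∈
      Ideal.span (Set.range l.get) * Ideal.span (Set.range l.get) := by
    rw [map_smul, smul_eq_mul]; exact htx
  have hai : ∀ i, a i ∈ Ideal.span (Set.range l.get) := by
    intro i
    apply hNZD
    have := coeff_mem l.get hregc (t • a) hta i
    rwa [Finsupp.smul_apply] at this
  rw [Finsupp.linearCombination_apply]
  refine Submodule.sum_mem _ fun i _ => ?_
  show a i * l.get i ∈ _
  exact Ideal.mul_mem_mul (hai i) (Ideal.subset_span ⟨i, rfl⟩)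

/-- regularity modulo an ideal passes to localizations (elementwise form). -/
theorem regular_localization {R : Type*} [CommRing R] (Mo : Submonoid R) (T : Type*) [CommRing T]
    [Algebra R T] [IsLocalization Mo T] (I : Ideal R) (t : R) (ht : ∀ z, t * z ∈ I → z ∈ I)
    (z : T) (hz : algebraMap R T t * z ∈ I.map (algebraMap R T)) :
    z ∈ I.map (algebraMap R T) := by
  obtain ⟨r, s, rfl⟩ := IsLocalization.exists_mk'_eq Mo z
  have h1 : algebraMap R T (t * r) ∈ I.map (algebraMap R T) := by
    have := Ideal.mul_mem_right (algebraMap R T s) _ hz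
    rwa [mul_assoc, IsLocalization.mk'_spec, ← map_mul] at this
  rw [IsLocalization.mem_map_algebraMap_iff Mo T] at h1
  obtain ⟨⟨⟨c, hc⟩, ⟨s', hs'⟩⟩, hcs⟩ := h1
  simp only at hcs
  rw [← map_mul, IsLocalization.eq_iff_exists Mo T] at hcs
  obtain ⟨⟨u, hu⟩, hu'⟩ := hcs
  simp only at hu'
  have h2 : u * s' * r ∈ I := by
    apply ht
    have : t * (u * s' * r) = u * c := by
      rw [← hu']; ring
    rw [this]
    exact Ideal.mul_mem_left _ _ hc
  rw [IsLocalization.mem_map_algebraMap_iff Mo T]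
  refine ⟨⟨⟨u * s' * r, h2⟩, ⟨u * s' * s, Mo.mul_mem (Mo.mul_mem hu hs') s.2⟩⟩, ?_⟩
  simp only
  rw [map_mul (algebraMap R T) (u * s') (s : R), ← mul_assoc, mul_comm _ (algebraMap R T (u * s')),
    mul_assoc, IsLocalization.mk'_spec, ← map_mul]

theorem local_step_rel {R : Type u} [CommRing R] [IsNoetherianRing R] (M : Submonoid R)
    (Q' : Ideal (Localization M)) [Q'.IsPrime]
    (I : Ideal R) (l : List (Localization M)) (hl : LCI.IsKoszulRegularSeq (Localization M) l)
    (hIl : I.map (algebraMap R (Localization M)) = Ideal.span {x | x ∈ l})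
    (hIQ : I.map (algebraMap R (Localization M)) ≤ Q')
    (t y : R) (ht : ∀ z, t * z ∈ I → z ∈ I) (hy : y ∈ I) (hty : t * y ∈ I ^ 2) :
    ∃ s, s ∉ Q'.comap (algebraMap R (Localization M)) ∧ s * y ∈ I ^ 2 := by
  haveI : IsNoetherianRing (Localization M) := IsLocalization.isNoetherianRing M _ inferInstance
  have hmemQ : ∀ x ∈ l, x ∈ Q' := fun x hx => hIQ (hIl ▸ Ideal.subset_span hx)
  have hreg := isWeaklyRegular_atPrime Q' l hl hmemQ
  have hJ : Ideal.ofList (l.map (algebraMap (Localization M) (Localization.AtPrime Q'))) =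
      I.map (algebraMap R (Localization.AtPrime Q')) := by
    rw [← Ideal.map_ofList, Ideal.ofList, ← hIl, Ideal.map_map, ← IsScalarTower.algebraMap_eq]
  have htT : ∀ z : Localization.AtPrime Q', algebraMap R (Localization.AtPrime Q') t * z ∈
      Ideal.ofList (l.map (algebraMap (Localization M) (Localization.AtPrime Q'))) →
      z ∈ Ideal.ofList (l.map (algebraMap (Localization M) (Localization.AtPrime Q'))) := by
    rw [hJ]
    exact regular_localization (Q'.comap (algebraMap R (Localization M))).primeCompl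
      (Localization.AtPrime Q') I t ht
  have hyT : algebraMap R (Localization.AtPrime Q') y ∈ Ideal.ofList
      (l.map (algebraMap (Localization M) (Localization.AtPrime Q'))) := by
    rw [hJ]; exact Ideal.mem_map_of_mem _ hy
  have htyT : algebraMap R (Localization.AtPrime Q') t * algebraMap R (Localization.AtPrime Q') y ∈
      Ideal.ofList (l.map (algebraMap (Localization M) (Localization.AtPrime Q'))) ^ 2 := by
    rw [hJ, ← Ideal.map_pow, ← map_mul]; exact Ideal.mem_map_of_mem _ hty
  have hfin := mem_sq_of_regular _ hreg _ htT _ hyT htyT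
  rw [hJ, ← Ideal.map_pow, IsLocalization.mem_map_algebraMap_iff
    (Q'.comap (algebraMap R (Localization M))).primeCompl (Localization.AtPrime Q')] at hfin
  obtain ⟨⟨⟨c, hc⟩, ⟨s, hs⟩⟩, hcs⟩ := hfin
  rw [← map_mul, IsLocalization.eq_iff_exists
    (Q'.comap (algebraMap R (Localization M))).primeCompl (Localization.AtPrime Q')] at hcs
  obtain ⟨⟨s', hs'⟩, hs'eq⟩ := hcs
  refine ⟨s' * s, (Q'.comap (algebraMap R (Localization M))).primeCompl.mul_mem hs' hs, ?_⟩
  have : s' * s * y = s' * c := by
    simp only at hs'eq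
    rw [← hs'eq]; ring
  rw [this]
  exact Ideal.mul_mem_left _ _ hc

/-- relative version: `I` Koszul-regular in a Noetherian ring, `t` regular modulo `I`. -/
theorem mem_sq_of_koszulRegular_rel {R : Type u} [CommRing R] [IsNoetherianRing R]
    (I : Ideal R) (hK : LCI.IsKoszulRegularIdeal I) (t y : R)
    (ht : ∀ z, t * z ∈ I → z ∈ I) (hy : y ∈ I) (hty : t * y ∈ I ^ 2) : y ∈ I ^ 2 := by
  by_contra hcon
  have h𝔟 : (I ^ 2).colon {y} ≠ ⊤ := by
    intro h
    have : (1 : R) ∈ (I ^ 2).colon {y} := h ▸ Submodule.mem_top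
    rw [Submodule.mem_colon_singleton] at this
    exact hcon (by simpa using this)
  obtain ⟨𝔪, h𝔪, hle⟩ := Ideal.exists_le_maximal _ h𝔟
  have hI𝔪 : I ≤ 𝔪 := by
    intro i hi
    apply hle
    rw [Submodule.mem_colon_singleton, smul_eq_mul, pow_two]
    exact Ideal.mul_mem_mul hi hy
  haveI := h𝔪.isPrime
  obtain ⟨g, hg, l, hl, hIl⟩ := hK ⟨𝔪, h𝔪.isPrime⟩ hI𝔪
  have hdisj : Disjoint (Submonoid.powers g : Set R) (𝔪 : Set R) := by
    rw [Set.disjoint_left]
    rintro _ ⟨n, rfl⟩ hn
    exact hg (h𝔪.isPrime.mem_of_pow_mem n hn)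
  haveI hQ' : (𝔪.map (algebraMap R (Localization.Away g))).IsPrime :=
    IsLocalization.isPrime_of_isPrime_disjoint (Submonoid.powers g) _ 𝔪 h𝔪.isPrime hdisj
  have hcomap : (𝔪.map (algebraMap R (Localization.Away g))).comap
      (algebraMap R (Localization.Away g)) = 𝔪 :=
    IsLocalization.under_map_of_isPrime_disjoint (Submonoid.powers g) _ h𝔪.isPrime hdisj
  obtain ⟨s, hs, hsy⟩ := local_step_rel (Submonoid.powers g)
    (𝔪.map (algebraMap R (Localization.Away g))) I l hl hIl (Ideal.map_mono hI𝔪) t y ht hy hty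
  rw [hcomap] at hs
  apply hs
  apply hle
  rw [Submodule.mem_colon_singleton]
  exact hsy

end Groth.Agent.Helper2.LciRelB
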