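import Mathlib
import Groth.Prelude
import Groth.Agent.Helper2.LciRelA
import Groth.Agent.Helper2.LciRelB
import Groth.Agent.Helper2.SmoothStalk
import Groth.Agent.Helper2.LciH1

set_option autoImplicit false
universe u
open IsLocalRing TensorProduct RingTheory.Sequence Pointwise Function

namespace Groth.Agent.Helper2.LciRelC

open Groth.Agent.Helper2

section Abstract

variable (A : Type u) [CommRing A] [IsNoetherianRing A]
  (S₁ : Type u) [CommRing S₁] [IsNoetherianRing S₁] [Algebra A S₁] [Algebra.Smooth A S₁]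
  (Q' : Ideal S₁) [Q'.IsPrime]

/-- abstract local theorem -/
theorem prime_eq_max_abstract
    (l : List (Localization.AtPrime Q'))
    (hmem : ∀ r ∈ l, r ∈ maximalIdeal (Localization.AtPrime Q'))
    (hreg : IsWeaklyRegular (Localization.AtPrime Q') l)
    (hflat : Module.Flat A (Localization.AtPrime Q' ⧸
      Ideal.ofList l • (⊤ : Submodule (Localization.AtPrime Q') (Localization.AtPrime Q'))))
    (h0 : ∀ x ∈ maximalIdeal (Localization.AtPrime Q'), ¬ IsSMulRegular (Localization.AtPrime Q' ⧸
      Ideal.ofList l • (⊤ : Submodule (Localization.AtPrime Q') (Localization.AtPrime Q'))) x)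
    (q₁ : Ideal (Localization.AtPrime Q')) [q₁.IsPrime]
    (hq1 : (Q'.comap (algebraMap A S₁)).map (algebraMap A (Localization.AtPrime Q')) ≤ q₁)
    (hq2 : Ideal.ofList l ≤ q₁) : q₁ = maximalIdeal (Localization.AtPrime Q') := by
  set p := Q'.comap (algebraMap A S₁) with hp
  haveI : p.IsPrime := Ideal.comap_isPrime _ _
  haveI : Q'.LiesOver p := ⟨rfl⟩
  letI := Localization.AtPrime.algebraOfLiesOver p Q'
  haveI : IsLocalHom (algebraMap (Localization.AtPrime p) (Localization.AtPrime Q')) :=
    inferInstanceAs (IsLocalHom (Localization.localRingHom p Q' (algebraMap A S₁) _))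
  haveI : IsNoetherianRing (Localization.AtPrime p) :=
    IsLocalization.isNoetherianRing p.primeCompl _ inferInstance
  haveI : IsNoetherianRing (Localization.AtPrime Q') :=
    IsLocalization.isNoetherianRing Q'.primeCompl _ inferInstance
  have hF : IsRegularLocalRing (Localization.AtPrime Q' ⧸
      (maximalIdeal (Localization.AtPrime p)).map
        (algebraMap (Localization.AtPrime p) (Localization.AtPrime Q'))) :=
    SmoothStalk.fibReg_localRingHom A S₁ p Q' rfl inferInstance
  have hflatR : Module.Flat (Localization.AtPrime p) (Localization.AtPrime Q' ⧸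
      Ideal.ofList l • (⊤ : Submodule (Localization.AtPrime Q') (Localization.AtPrime Q'))) :=
    (Module.flat_iff_of_isLocalization (Localization.AtPrime p) p.primeCompl _).2 hflat
  refine LciRelA.prime_eq_maximalIdeal (A := Localization.AtPrime p) hF l hmem hreg hflatR h0 q₁
    ?_ hq2
  rw [← Localization.AtPrime.map_eq_maximalIdeal, Ideal.map_map, ← IsScalarTower.algebraMap_eq]
  exact hq1

end Abstract

section Translate

variable (A : Type u) [CommRing A] [IsNoetherianRing A] (P : Type u) [CommRing P] [Algebra A P]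
  [Module.Flat A P] (n : ℕ) (f : MvPolynomial (Fin n) A →ₐ[A] P)

include f in
theorem fibre_minimal_of_mem_ass (hf : Function.Surjective f)
    (hK : LCI.IsKoszulRegularIdeal (RingHom.ker f.toRingHom))
    (𝔮 : Ideal P) (h𝔮 : 𝔮 ∈ associatedPrimes P P)
    (𝔔 : Ideal P) [𝔔.IsPrime] (hle : 𝔔 ≤ 𝔮)
    (hco : 𝔔.comap (algebraMap A P) = 𝔮.comap (algebraMap A P)) : 𝔔 = 𝔮 := by
  classical
  haveI : IsNoetherianRing P :=
    isNoetherianRing_of_surjective _ P f.toRingHom hf
  rw [AssociatedPrimes.mem_iff, isAssociatedPrime_iff] at h𝔮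
  obtain ⟨h𝔮prime, y₀, hy₀⟩ := h𝔮
  have h𝔮mem : ∀ b : P, b ∈ 𝔮 ↔ b * y₀ = 0 := by
    intro b
    rw [hy₀, Submodule.mem_colon_singleton, Submodule.mem_bot, smul_eq_mul]
  set I : Ideal (MvPolynomial (Fin n) A) := RingHom.ker f.toRingHom with hI
  have hImem : ∀ x, x ∈ I ↔ f x = 0 := fun x => Iff.rfl
  set Q : Ideal (MvPolynomial (Fin n) A) := 𝔮.comap f.toRingHom with hQ
  have hQmem : ∀ x, x ∈ Q ↔ f x ∈ 𝔮 := fun x => Iff.rfl
  haveI : Q.IsPrime := Ideal.comap_isPrime _ _
  have hIQ : I ≤ Q := fun x hx => by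
    rw [hQmem, (hImem x).1 hx]; exact Ideal.zero_mem _
  obtain ⟨g, hg, l, hl, hIl⟩ := hK ⟨Q, inferInstance⟩ hIQ
  have hdisj : Disjoint (Submonoid.powers g : Set (MvPolynomial (Fin n) A))
      (Q : Set (MvPolynomial (Fin n) A)) := by
    rw [Set.disjoint_left]
    rintro _ ⟨k, rfl⟩ hk
    exact hg (Ideal.IsPrime.mem_of_pow_mem inferInstance k hk)
  haveI hQ' : (Q.map (algebraMap (MvPolynomial (Fin n) A) (Localization.Away g))).IsPrime :=
    IsLocalization.isPrime_of_isPrime_disjoint (Submonoid.powers g) _ Q inferInstance hdisj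
  have hcomap : (Q.map (algebraMap (MvPolynomial (Fin n) A) (Localization.Away g))).comap
      (algebraMap (MvPolynomial (Fin n) A) (Localization.Away g)) = Q :=
    IsLocalization.under_map_of_isPrime_disjoint (Submonoid.powers g) _ inferInstance hdisj
  set Q' := Q.map (algebraMap (MvPolynomial (Fin n) A) (Localization.Away g)) with hQ'def
  haveI : Algebra.Smooth A (MvPolynomial (Fin n) A) := {}
  haveI : Algebra.Smooth (MvPolynomial (Fin n) A) (Localization.Away g) :=
    Algebra.Smooth.of_isLocalization_Away g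
  haveI : Algebra.Smooth A (Localization.Away g) :=
    Algebra.Smooth.comp A (MvPolynomial (Fin n) A) _
  haveI : IsNoetherianRing (Localization.Away g) :=
    IsLocalization.isNoetherianRing (Submonoid.powers g) _ inferInstance
  have hmemQ : ∀ x ∈ l, x ∈ Q' := fun x hx =>
    (Ideal.map_mono hIQ) (hIl ▸ Ideal.subset_span hx)
  have hreg := LciGlobal.isWeaklyRegular_atPrime Q' l hl hmemQ
  have hmem' : ∀ x ∈ l.map (algebraMap (Localization.Away g) (Localization.AtPrime Q')),
      x ∈ maximalIdeal (Localization.AtPrime Q') := by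
    intro x hx
    obtain ⟨z, hz, rfl⟩ := List.mem_map.1 hx
    exact (IsLocalization.AtPrime.to_map_mem_maximal_iff _ Q' z).2 (hmemQ z hz)
  have hJ : Ideal.ofList (l.map (algebraMap (Localization.Away g) (Localization.AtPrime Q'))) =
      I.map (algebraMap (MvPolynomial (Fin n) A) (Localization.AtPrime Q')) := by
    rw [← Ideal.map_ofList, Ideal.ofList, ← hIl, Ideal.map_map, ← IsScalarTower.algebraMap_eq]
  have hK' : (Ideal.ofList (l.map (algebraMap (Localization.Away g) (Localization.AtPrime Q'))) •
      (⊤ : Submodule (Localization.AtPrime Q') (Localization.AtPrime Q'))) =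
      I.map (algebraMap (MvPolynomial (Fin n) A) (Localization.AtPrime Q')) := by
    rw [smul_eq_mul, Ideal.mul_top, hJ]
  -- membership in the comap
  have hQc : ∀ a, a ∈ Q'.comap (algebraMap (MvPolynomial (Fin n) A) (Localization.Away g)) ↔
      a ∈ Q := fun a => by rw [hcomap]
  -- (F1)
  have hF1 : ∀ a : MvPolynomial (Fin n) A,
      algebraMap (MvPolynomial (Fin n) A) (Localization.AtPrime Q') a ∈
        I.map (algebraMap (MvPolynomial (Fin n) A) (Localization.AtPrime Q')) →
      ∃ s, s ∉ Q ∧ s * a ∈ I := by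
    intro a ha
    rw [IsLocalization.mem_map_algebraMap_iff
      (Q'.comap (algebraMap (MvPolynomial (Fin n) A) (Localization.Away g))).primeCompl
      (Localization.AtPrime Q')] at ha
    obtain ⟨⟨⟨c, hc⟩, ⟨s, hs⟩⟩, hcs⟩ := ha
    simp only at hcs
    rw [← map_mul, IsLocalization.eq_iff_exists
      (Q'.comap (algebraMap (MvPolynomial (Fin n) A) (Localization.Away g))).primeCompl
      (Localization.AtPrime Q')] at hcs
    obtain ⟨⟨u, hu⟩, hu'⟩ := hcs
    simp only at hu'
    refine ⟨u * s, fun h => ?_, ?_⟩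
    · rcases (Ideal.IsPrime.mem_or_mem inferInstance h) with h1 | h1
      · exact hu ((hQc u).2 h1)
      · exact hs ((hQc s).2 h1)
    · have : u * s * a = u * c := by rw [← hu']; ring
      rw [this]
      exact Ideal.mul_mem_left _ _ hc
  -- depth zero
  have h0 : ∀ x ∈ maximalIdeal (Localization.AtPrime Q'), ¬ IsSMulRegular (Localization.AtPrime Q' ⧸
      Ideal.ofList (l.map (algebraMap (Localization.Away g) (Localization.AtPrime Q'))) •
        (⊤ : Submodule (Localization.AtPrime Q') (Localization.AtPrime Q'))) x := by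
    intro x hx hregx
    obtain ⟨yt, hyt⟩ := hf y₀
    obtain ⟨a, s, rfl⟩ := IsLocalization.exists_mk'_eq
      (Q'.comap (algebraMap (MvPolynomial (Fin n) A) (Localization.Away g))).primeCompl x
    rw [IsLocalization.AtPrime.mk'_mem_maximal_iff (Localization.AtPrime Q')
      (Q'.comap (algebraMap (MvPolynomial (Fin n) A) (Localization.Away g))), hQc, hQmem,
      h𝔮mem] at hx
    have haI : a * yt ∈ I := by
      rw [hImem, map_mul, hyt]; exact hx
    have hz : (IsLocalization.mk' (Localization.AtPrime Q') a s) •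
        (Submodule.Quotient.mk (algebraMap (MvPolynomial (Fin n) A) (Localization.AtPrime Q') yt) :
          Localization.AtPrime Q' ⧸
            Ideal.ofList (l.map (algebraMap (Localization.Away g) (Localization.AtPrime Q'))) •
            (⊤ : Submodule (Localization.AtPrime Q') (Localization.AtPrime Q'))) = 0 := by
      rw [← Submodule.Quotient.mk_smul, Submodule.Quotient.mk_eq_zero, hK', smul_eq_mul]
      have : IsLocalization.mk' (Localization.AtPrime Q') a s *
          algebraMap (MvPolynomial (Fin n) A) (Localization.AtPrime Q') yt =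
          IsLocalization.mk' (Localization.AtPrime Q') 1 s *
          algebraMap (MvPolynomial (Fin n) A) (Localization.AtPrime Q') (a * yt) := by
        rw [map_mul, IsLocalization.mk'_eq_mul_mk'_one (M :=
          (Q'.comap (algebraMap (MvPolynomial (Fin n) A) (Localization.Away g))).primeCompl) a s]
        ring
      rw [this]
      exact Ideal.mul_mem_left _ _ (Ideal.mem_map_of_mem _ haI)
    have hz0 := hregx (hz.trans (smul_zero _).symm)
    rw [Submodule.Quotient.mk_eq_zero, hK'] at hz0
    obtain ⟨s', hs', hs'I⟩ := hF1 yt hz0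
    apply hs'
    rw [hQmem, h𝔮mem, ← hyt, ← map_mul]
    exact (hImem _).1 hs'I
  -- flatness
  have hflat : Module.Flat A (Localization.AtPrime Q' ⧸
      Ideal.ofList (l.map (algebraMap (Localization.Away g) (Localization.AtPrime Q'))) •
        (⊤ : Submodule (Localization.AtPrime Q') (Localization.AtPrime Q'))) := by
    haveI : Module.Flat A (MvPolynomial (Fin n) A ⧸ I) :=
      Module.Flat.of_linearEquiv (Ideal.quotientKerAlgEquivOfSurjective hf).toLinearEquiv
    haveI h3 : Module.Flat A ((MvPolynomial (Fin n) A ⧸ I) ⊗[MvPolynomial (Fin n) A]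
        Localization.AtPrime Q') :=
      Module.Flat.trans A (MvPolynomial (Fin n) A ⧸ I) _
    let e4 := TensorProduct.quotTensorEquivQuotSMul (Localization.AtPrime Q') I
    have hK'' : (I • (⊤ : Submodule (MvPolynomial (Fin n) A) (Localization.AtPrime Q'))) =
        (Ideal.ofList (l.map (algebraMap (Localization.Away g) (Localization.AtPrime Q'))) •
        (⊤ : Submodule (Localization.AtPrime Q') (Localization.AtPrime Q'))).restrictScalars
          (MvPolynomial (Fin n) A) := by
      rw [hK', Ideal.smul_top_eq_map]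
    let e5 := (Submodule.quotEquivOfEq _ _ hK'').trans
      (Submodule.Quotient.restrictScalarsEquiv (MvPolynomial (Fin n) A)
        (Ideal.ofList (l.map (algebraMap (Localization.Away g) (Localization.AtPrime Q'))) •
        (⊤ : Submodule (Localization.AtPrime Q') (Localization.AtPrime Q'))))
    exact Module.Flat.of_linearEquiv ((e4.trans e5).restrictScalars A).symm
  -- the prime `q₁`
  set Q₁ : Ideal (MvPolynomial (Fin n) A) := 𝔔.comap f.toRingHom with hQ₁
  have hQ₁mem : ∀ x, x ∈ Q₁ ↔ f x ∈ 𝔔 := fun x => Iff.rfl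
  haveI : Q₁.IsPrime := Ideal.comap_isPrime _ _
  have hQ₁Q : Q₁ ≤ Q := fun x hx => hle hx
  have hdisj₁ : Disjoint
      ((Q'.comap (algebraMap (MvPolynomial (Fin n) A) (Localization.Away g))).primeCompl :
        Set (MvPolynomial (Fin n) A)) (Q₁ : Set (MvPolynomial (Fin n) A)) := by
    rw [Set.disjoint_left]
    intro x hx hx1
    exact hx ((hQc x).2 (hQ₁Q hx1))
  haveI hq₁ : (Q₁.map (algebraMap (MvPolynomial (Fin n) A) (Localization.AtPrime Q'))).IsPrime :=
    IsLocalization.isPrime_of_isPrime_disjoint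
      (Q'.comap (algebraMap (MvPolynomial (Fin n) A) (Localization.Away g))).primeCompl _ Q₁
      inferInstance hdisj₁
  have hcomap₁ : (Q₁.map (algebraMap (MvPolynomial (Fin n) A) (Localization.AtPrime Q'))).comap
      (algebraMap (MvPolynomial (Fin n) A) (Localization.AtPrime Q')) = Q₁ :=
    IsLocalization.under_map_of_isPrime_disjoint
      (Q'.comap (algebraMap (MvPolynomial (Fin n) A) (Localization.Away g))).primeCompl _
      inferInstance hdisj₁
  have hIQ₁ : I ≤ Q₁ := fun x hx => by
    rw [hQ₁mem, (hImem x).1 hx]; exact Ideal.zero_mem _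
  have hq1 : (Q'.comap (algebraMap A (Localization.Away g))).map
      (algebraMap A (Localization.AtPrime Q')) ≤
      Q₁.map (algebraMap (MvPolynomial (Fin n) A) (Localization.AtPrime Q')) := by
    rw [Ideal.map_le_iff_le_comap]
    intro a ha
    rw [Ideal.mem_comap, IsScalarTower.algebraMap_apply A (MvPolynomial (Fin n) A)
      (Localization.Away g), ← Ideal.mem_comap, hQc, hQmem] at ha
    have ha' : algebraMap A P a ∈ 𝔔 := by
      have h1 : a ∈ 𝔮.comap (algebraMap A P) := by
        rw [Ideal.mem_comap, ← f.commutes a]; exact ha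
      rw [← hco] at h1
      exact h1
    rw [Ideal.mem_comap, IsScalarTower.algebraMap_apply A (MvPolynomial (Fin n) A)
      (Localization.AtPrime Q')]
    apply Ideal.mem_map_of_mem
    rw [hQ₁mem, f.commutes a]
    exact ha'
  have hq2 : Ideal.ofList (l.map (algebraMap (Localization.Away g) (Localization.AtPrime Q'))) ≤
      Q₁.map (algebraMap (MvPolynomial (Fin n) A) (Localization.AtPrime Q')) := by
    rw [hJ]; exact Ideal.map_mono hIQ₁
  have hfin := prime_eq_max_abstract A (Localization.Away g) Q' _ hmem' hreg hflat h0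
    (Q₁.map (algebraMap (MvPolynomial (Fin n) A) (Localization.AtPrime Q'))) hq1 hq2
  have hQ₁eq : Q₁ = Q := by
    rw [← hcomap₁, hfin]
    exact (IsLocalization.AtPrime.under_maximalIdeal (Localization.AtPrime Q')
      (Q'.comap (algebraMap (MvPolynomial (Fin n) A) (Localization.Away g)))).trans hcomap
  exact Ideal.comap_injective_of_surjective f.toRingHom hf hQ₁eq

end Translate

section Final
open MvPolynomial

/-- prime avoidance: an element annihilated locally at all associated primes of the ring is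
annihilated by a regular element. -/
lemma exists_regular_annihilating {P : Type u} [CommRing P] [IsNoetherianRing P] {N : Type*}
    [AddCommGroup N] [Module P N] (x : N)
    (h : ∀ p ∈ associatedPrimes P P, ∃ s, s ∉ p ∧ s • x = 0) :
    ∃ t : P, IsSMulRegular P t ∧ t • x = 0 := by
  classical
  have hfin := associatedPrimes.finite P P
  have hnot : ¬ (((LinearMap.ker (LinearMap.toSpanSingleton P N x) : Ideal P) : Set P) ⊆
      ⋃ p ∈ (hfin.toFinset : Set (Ideal P)), ((fun q => q) p : Ideal P)) := by
    rw [Ideal.subset_union_prime (f := fun q => q) ⊥ ⊥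
      (fun p hp _ _ => (hfin.mem_toFinset.1 hp).isPrime)]
    rintro ⟨p, hp, hJp⟩
    obtain ⟨s, hs, hsx⟩ := h p (hfin.mem_toFinset.1 hp)
    exact hs (hJp (by simpa using hsx))
  rw [Set.not_subset] at hnot
  obtain ⟨t, htJ, htn⟩ := hnot
  refine ⟨t, ?_, by simpa using htJ⟩
  by_contra hcon
  have hx : t ∈ ({ r : P | IsSMulRegular P r }ᶜ : Set P) := hcon
  rw [← biUnion_associatedPrimes_eq_compl_regular P] at hx
  obtain ⟨p', hp', htp⟩ := Set.mem_iUnion₂.1 hx
  exact htn (Set.mem_biUnion (by simpa using hp') htp)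

theorem s18126
    (A : Type u) [CommRing A] [IsNoetherianRing A]
    (P : Type u) [CommRing P] [Algebra A P] [Module.Flat A P] (hlci : LCI.IsLCI A P)
    (hgs : ∀ 𝔓 : PrimeSpectrum P,
      (∀ 𝔔 : PrimeSpectrum P, 𝔔 ≤ 𝔓 →
          𝔔.asIdeal.comap (algebraMap A P) = 𝔓.asIdeal.comap (algebraMap A P) → 𝔔 = 𝔓) →
        𝔓 ∈ Algebra.smoothLocus A P) :
    Subsingleton (Algebra.H1Cotangent A P) := by
  obtain ⟨hft, n, f, hf, hK⟩ := hlci
  haveI : IsNoetherianRing P := Algebra.FiniteType.isNoetherianRing A P
  have hfeq : f = aeval (fun i => f (X i)) := by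
    apply MvPolynomial.algHom_ext
    intro i
    simp
  let Pg : Algebra.Generators A P (Fin n) :=
    Algebra.Generators.ofSurjective (fun i => f (X i)) (by rw [← hfeq]; exact hf)
  have hPalg : ∀ r : Pg.Ring, algebraMap Pg.Ring P r = f r := by
    intro r
    conv_rhs => rw [hfeq]
    rfl
  have hPker : Pg.ker = RingHom.ker f.toRingHom := by
    ext r
    show algebraMap Pg.Ring P r = 0 ↔ f r = 0
    rw [hPalg]
  refine ⟨fun x x' => ?_⟩
  suffices H : ∀ x : Algebra.H1Cotangent A P, x = 0 by rw [H x, H x']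
  intro x
  obtain ⟨t, htreg, htx⟩ := exists_regular_annihilating (P := P) x (by
    intro 𝔮 h𝔮
    haveI : 𝔮.IsPrime := h𝔮.isPrime
    have hsm : (⟨𝔮, inferInstance⟩ : PrimeSpectrum P) ∈ Algebra.smoothLocus A P :=
      hgs ⟨𝔮, inferInstance⟩ (by
        intro 𝔔 hle hco
        apply PrimeSpectrum.ext
        exact fibre_minimal_of_mem_ass A P n f hf hK 𝔮 h𝔮 𝔔.asIdeal hle hco)
    haveI : Algebra.FormallySmooth A (Localization.AtPrime 𝔮) := hsm
    have h0 : Algebra.H1Cotangent.map A A P (Localization.AtPrime 𝔮) x = 0 :=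
      Subsingleton.elim _ _
    rw [IsLocalizedModule.eq_zero_iff 𝔮.primeCompl] at h0
    obtain ⟨⟨s, hs⟩, hsx⟩ := h0
    exact ⟨s, hs, hsx⟩)
  let e := Pg.equivH1Cotangent
  have hx' : t • e.symm x = 0 := by rw [← map_smul, htx, map_zero]
  obtain ⟨y, hy⟩ := Algebra.Extension.Cotangent.mk_surjective (e.symm x).1
  obtain ⟨t', ht'⟩ := Pg.toExtension.algebraMap_surjective t
  let t'' : Pg.Ring := t'
  have h1 : Algebra.Extension.Cotangent.mk (t' • y) = 0 := by
    rw [map_smul, hy, ← algebraMap_smul P t' (e.symm x).1, ht',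
      ← Algebra.Extension.H1Cotangent.val_smul, hx']
    rfl
  rw [Algebra.Extension.Cotangent.mk_eq_zero_iff] at h1
  haveI : IsNoetherianRing Pg.Ring := inferInstanceAs (IsNoetherianRing (MvPolynomial (Fin n) A))
  have h2 : y.1 ∈ Pg.ker ^ 2 := by
    have h1' : (t' : Pg.Ring) * (y.1 : Pg.Ring) ∈ Pg.ker ^ 2 := h1
    refine LciRelB.mem_sq_of_koszulRegular_rel Pg.ker (hPker ▸ hK) t' y.1 ?_ y.2 h1'
    intro z hz
    have hz' : algebraMap Pg.Ring P (t'' * z) = 0 := hz
    rw [map_mul] at hz'
    have ht'' : algebraMap Pg.Ring P t'' = t := ht'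
    rw [ht''] at hz'
    have : algebraMap Pg.Ring P z = 0 := htreg (by
      show t • algebraMap Pg.Ring P z = t • 0
      rw [smul_eq_mul, hz', smul_zero])
    exact this
  have h3 : (e.symm x).1 = 0 := by
    rw [← hy, Algebra.Extension.Cotangent.mk_eq_zero_iff]; exact h2
  have h4 : e.symm x = 0 := Subtype.ext h3
  exact (LinearEquiv.map_eq_zero_iff _).1 h4

end Final

end Groth.Agent.Helper2.LciRelC
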