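import Mathlib
import Groth.Agent.Helper2.SplitLoc
import Groth.Agent.Helper2.FieldFiber

namespace Groth.Agent.Helper2.LeftInvLoc
open TensorProduct Groth.Agent.Helper2.SplitLoc Groth.Agent.Helper2.FieldFiber

universe u
variable {A : Type u} [CommRing A] {M N : Type u} [AddCommGroup M] [Module A M]
  [AddCommGroup N] [Module A N]

/-- `κ(p) ⊗ M → κ(p) ⊗ M_p` is injective. -/
theorem lTensor_mkLinearMap_injective (p : Ideal A) [p.IsPrime] :
    Function.Injective ((LocalizedModule.mkLinearMap p.primeCompl M).lTensor p.ResidueField) := by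
  haveI h1 : IsLocalizedModule p.primeCompl (LinearMap.id : p.ResidueField →ₗ[A] p.ResidueField) :=
    isLocalizedModule_id p.primeCompl p.ResidueField (Localization.AtPrime p)
  haveI h2 : IsLocalizedModule p.primeCompl
      (TensorProduct.map (LinearMap.id : p.ResidueField →ₗ[A] p.ResidueField)
        (LocalizedModule.mkLinearMap p.primeCompl M)) := inferInstance
  intro x y hxy
  obtain ⟨c, hc⟩ := IsLocalizedModule.exists_of_eq (S := p.primeCompl)
    (f := TensorProduct.map (LinearMap.id : p.ResidueField →ₗ[A] p.ResidueField)
        (LocalizedModule.mkLinearMap p.primeCompl M)) hxy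
  have hne : algebraMap A p.ResidueField c ≠ 0 := by
    rw [ne_eq, Ideal.algebraMap_residueField_eq_zero]
    exact c.2
  have hc' : (algebraMap A p.ResidueField c) • x = (algebraMap A p.ResidueField c) • y := by
    rw [algebraMap_smul, algebraMap_smul]
    exact hc
  have := congrArg (fun z => (algebraMap A p.ResidueField c)⁻¹ • z) hc'
  simp only [smul_smul, inv_mul_cancel₀ hne, one_smul] at this
  exact this

theorem lTensor_injective_of_localized_leftInverse (u : M →ₗ[A] N) (p : Ideal A) [p.IsPrime]
    (w : LocalizedModule p.primeCompl N →ₗ[A] LocalizedModule p.primeCompl M)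
    (hw : w ∘ₗ (LocalizedModule.map p.primeCompl u).restrictScalars A = LinearMap.id) :
    Function.Injective (u.lTensor p.ResidueField) := by
  intro x y hxy
  apply lTensor_mkLinearMap_injective (M := M) p
  have hnat : (LocalizedModule.mkLinearMap p.primeCompl N) ∘ₗ u =
      (LocalizedModule.map p.primeCompl u).restrictScalars A ∘ₗ
        (LocalizedModule.mkLinearMap p.primeCompl M) := by
    ext m
    simp [LocalizedModule.mkLinearMap_apply]
  have h1 : ∀ z, ((LocalizedModule.map p.primeCompl u).restrictScalars A).lTensor p.ResidueField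
      ((LocalizedModule.mkLinearMap p.primeCompl M).lTensor p.ResidueField z) =
      (LocalizedModule.mkLinearMap p.primeCompl N).lTensor p.ResidueField
        (u.lTensor p.ResidueField z) := by
    intro z
    rw [← LinearMap.comp_apply, ← LinearMap.comp_apply, ← LinearMap.lTensor_comp,
      ← LinearMap.lTensor_comp, hnat]
  have h2 : w.lTensor p.ResidueField ∘ₗ
      ((LocalizedModule.map p.primeCompl u).restrictScalars A).lTensor p.ResidueField =
      LinearMap.id := by
    rw [← LinearMap.lTensor_comp, hw, LinearMap.lTensor_id]
  have h3 := congrArg (w.lTensor p.ResidueField) ((h1 x).trans ((congrArg _ hxy).trans (h1 y).symm))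
  have h4 := fun z => LinearMap.congr_fun h2 z
  simp only [LinearMap.coe_comp, Function.comp_apply, LinearMap.id_coe, id_eq] at h4
  rw [h4, h4] at h3
  exact h3

theorem leftInverse_iff_forall_maximal [Module.Finite A M] [Module.Projective A N]
    (u : M →ₗ[A] N) :
    (∃ w : N →ₗ[A] M, w ∘ₗ u = LinearMap.id) ↔
      ∀ (m : Ideal A) [m.IsMaximal],
        ∃ w : LocalizedModule m.primeCompl N →ₗ[A] LocalizedModule m.primeCompl M,
          w ∘ₗ (LocalizedModule.map m.primeCompl u).restrictScalars A = LinearMap.id := by
  constructor
  · rintro ⟨w, hw⟩ m _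
    refine ⟨(LocalizedModule.map m.primeCompl w).restrictScalars A, ?_⟩
    ext x
    induction x using LocalizedModule.induction_on with
    | h x s =>
      have := LinearMap.congr_fun hw x
      simp only [LinearMap.coe_comp, Function.comp_apply, LinearMap.id_coe, id_eq] at this
      simp [this]
  · intro h
    apply exists_retraction_of_forall_maximal
    intro m _
    obtain ⟨w, hw⟩ := h m
    exact lTensor_injective_of_localized_leftInverse u m w hw

theorem leftInverse_iff_faithfullyFlat [Module.Finite A M] [Module.Projective A N]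
    (u : M →ₗ[A] N) (A' : Type u) [CommRing A'] [Algebra A A'] [Module.FaithfullyFlat A A'] :
    (∃ w : N →ₗ[A] M, w ∘ₗ u = LinearMap.id) ↔
      ∃ w : A' ⊗[A] N →ₗ[A'] A' ⊗[A] M, w ∘ₗ u.baseChange A' = LinearMap.id := by
  constructor
  · rintro ⟨w, hw⟩
    exact ⟨w.baseChange A', by rw [← LinearMap.baseChange_comp, hw, LinearMap.baseChange_id]⟩
  · rintro ⟨w, hw⟩
    apply exists_retraction_of_forall_maximal
    intro m _
    obtain ⟨m', hm'p, hm'⟩ := Ideal.exists_isPrime_liesOver_of_faithfullyFlat (B := A') m
    have hK : RingHom.ker (algebraMap A m'.ResidueField) = m := by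
      rw [IsScalarTower.algebraMap_eq A A' m'.ResidueField, ← RingHom.comap_ker,
        Ideal.ker_algebraMap_residueField]
      exact (hm'.over).symm
    exact lTensor_residueField_injective_of_field hK u
      (lTensor_injective_of_baseChange_leftInverse u A' m'.ResidueField w hw)

end Groth.Agent.Helper2.LeftInvLoc
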