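import Mathlib
import Groth.Agent.Helper2.LimDesc2

/-!
# Descent of finitely presented quotients along a cofiltered limit with affine transition maps
-/

set_option autoImplicit false
universe u
open CategoryTheory CategoryTheory.Limits AlgebraicGeometry TopologicalSpace Opposite

noncomputable section

namespace Groth.Agent.Helper2.LimDesc

open Groth.Agent.Helper4 Groth.Agent.Helper2.FPExt Scheme.Modules

variable {I : Type u} [SmallCategory I] [IsCofiltered I] (D : I ⥤ Scheme.{u}) (c : Cone D)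
  (hc : IsLimit c) [∀ (i j : I) (f : i ⟶ j), IsAffineHom (D.map f)] (i₀ : I)
  [CompactSpace (D.obj i₀)] [QuasiSeparatedSpace (D.obj i₀)]

include hc in
set_option backward.isDefEq.respectTransparency false in
theorem exists_descend_quotient (F₀ : (D.obj i₀).Modules)
    (hF₀ : SheafOfModules.IsFinitePresentation (R := (D.obj i₀).ringCatSheaf) F₀)
    {G : c.pt.Modules} (hG : SheafOfModules.IsFinitePresentation (R := c.pt.ringCatSheaf) G)
    (p : (Scheme.Modules.pullback (c.π.app i₀)).obj F₀ ⟶ G) [Epi p] :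
    ∃ (j : I) (φ : j ⟶ i₀) (Gj : (D.obj j).Modules) (_ : Gj.IsQuasicoherent)
      (pj : (Scheme.Modules.pullback (D.map φ)).obj F₀ ⟶ Gj)
      (e : (Scheme.Modules.pullback (c.π.app j)).obj Gj ≅ G),
      SheafOfModules.IsFinitePresentation (R := (D.obj j).ringCatSheaf) Gj ∧ Epi pj ∧
        ((Scheme.Modules.pullbackComp (c.π.app j) (D.map φ) ≪≫
            Scheme.Modules.pullbackCongr (c.w φ)).app F₀).inv ≫
          (Scheme.Modules.pullback (c.π.app j)).map pj ≫ e.hom = p := by
  haveI := hG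
  haveI := hF₀
  haveI : G.IsQuasicoherent := inferInstance
  haveI : F₀.IsQuasicoherent := inferInstance
  haveI : IsAffineHom (c.π.app i₀) := isAffineHom_π D c hc i₀
  have hF : SheafOfModules.IsFinitePresentation (R := c.pt.ringCatSheaf)
      ((Scheme.Modules.pullback (c.π.app i₀)).obj F₀) :=
    Groth.Agent.Lead.LimPres.isFP_pullback (c.π.app i₀) F₀ hF₀
  haveI : ((Scheme.Modules.pullback (c.π.app i₀)).obj F₀).IsQuasicoherent :=
    Groth.Agent.Lead.StalkPull.isQuasicoherent_pullbackObj (c.π.app i₀) F₀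
  have hK : SheafOfModules.IsFiniteType (R := c.pt.ringCatSheaf) (kernel p : c.pt.Modules) :=
    isFiniteType_kernel p hF hG
  haveI : (kernel p).IsQuasicoherent := QcohLimits.isQuasicoherent_kernel p
  obtain ⟨H₀, b, hH₀, hb⟩ := exists_fp_epi_pullback (c.π.app i₀) (kernel p) hK
  haveI := hb
  haveI := hH₀
  haveI : H₀.IsQuasicoherent := inferInstance
  obtain ⟨j, φ, hj, hhj⟩ := Groth.Agent.S4811.result D c hc i₀ H₀ F₀ hH₀ (b ≫ kernel.ι p)
  have hHj : SheafOfModules.IsFinitePresentation (R := (D.obj j).ringCatSheaf)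
      ((Scheme.Modules.pullback (D.map φ)).obj H₀) :=
    Groth.Agent.Lead.LimPres.isFP_pullback (D.map φ) H₀ hH₀
  have hFj : SheafOfModules.IsFinitePresentation (R := (D.obj j).ringCatSheaf)
      ((Scheme.Modules.pullback (D.map φ)).obj F₀) :=
    Groth.Agent.Lead.LimPres.isFP_pullback (D.map φ) F₀ hF₀
  haveI : ((Scheme.Modules.pullback (D.map φ)).obj H₀).IsQuasicoherent :=
    Groth.Agent.Lead.StalkPull.isQuasicoherent_pullbackObj (D.map φ) H₀
  haveI : ((Scheme.Modules.pullback (D.map φ)).obj F₀).IsQuasicoherent :=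
    Groth.Agent.Lead.StalkPull.isQuasicoherent_pullbackObj (D.map φ) F₀
  let eH := (Scheme.Modules.pullbackComp (c.π.app j) (D.map φ) ≪≫
    Scheme.Modules.pullbackCongr (c.w φ)).app H₀
  let eF := (Scheme.Modules.pullbackComp (c.π.app j) (D.map φ) ≪≫
    Scheme.Modules.pullbackCongr (c.w φ)).app F₀
  have hw : (Scheme.Modules.pullback (c.π.app j)).map hj ≫ eF.hom =
      eH.hom ≫ (b ≫ kernel.ι p) := by
    rw [← hhj, Iso.hom_inv_id_assoc]
  refine ⟨j, φ, cokernel hj, QcohLimits.isQuasicoherent_cokernel hj, cokernel.π hj,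
    PreservesCokernel.iso (Scheme.Modules.pullback (c.π.app j)) hj ≪≫
      cokernel.mapIso _ _ eH eF hw ≪≫ cokernelIsoOfEpiKernel p b,
    isFP_cokernel hj (FinLocFree2.isFiniteType_of_isFinitePresentation _ hHj) hFj,
    inferInstance, ?_⟩
  change eF.inv ≫ (Scheme.Modules.pullback (c.π.app j)).map (cokernel.π hj) ≫
    (PreservesCokernel.iso (Scheme.Modules.pullback (c.π.app j)) hj).hom ≫
      (cokernel.mapIso _ _ eH eF hw).hom ≫ (cokernelIsoOfEpiKernel p b).hom = p
  rw [PreservesCokernel.π_iso_hom_assoc]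
  have h2 : cokernel.π ((Scheme.Modules.pullback (c.π.app j)).map hj) ≫
      (cokernel.mapIso _ _ eH eF hw).hom = eF.hom ≫ cokernel.π (b ≫ kernel.ι p) := by
    simp [cokernel.mapIso]
  rw [reassoc_of% h2, π_cokernelIsoOfEpiKernel_hom, Iso.inv_hom_id_assoc]

end Groth.Agent.Helper2.LimDesc

end
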