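import Mathlib

set_option autoImplicit false
universe u
open Polynomial

namespace Groth.Agent.Helper2.LineSubst

variable {k : Type u} [Field k] {r : ℕ}

/-- `G(T) = F(X₁T, …, X_rT)`. -/
noncomputable def G (F : MvPolynomial (Fin r) k) : Polynomial (MvPolynomial (Fin r) k) :=
  MvPolynomial.eval₂ (Polynomial.C.comp MvPolynomial.C)
    (fun j => Polynomial.C (MvPolynomial.X j) * Polynomial.X) F

/-- `F ↦ F(cX)`. -/
noncomputable def scale (c : k) : MvPolynomial (Fin r) k →ₐ[k] MvPolynomial (Fin r) k :=
  MvPolynomial.aeval (fun j => MvPolynomial.C c * MvPolynomial.X j)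

lemma eval_G (c : k) (F : MvPolynomial (Fin r) k) :
    (G F).eval (MvPolynomial.C c) = scale c F := by
  induction F using MvPolynomial.induction_on with
  | C a => simp [G, scale]
  | add p q hp hq =>
    have : G (p + q) = G p + G q := MvPolynomial.eval₂_add _ _
    rw [this, Polynomial.eval_add, hp, hq, map_add]
  | mul_X p j hp =>
    have : G (p * MvPolynomial.X j) = G p * (Polynomial.C (MvPolynomial.X j) * Polynomial.X) := by
      simp [G, MvPolynomial.eval₂_mul]
    rw [this, Polynomial.eval_mul, hp, map_mul, Polynomial.eval_mul, Polynomial.eval_C,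
      Polynomial.eval_X]
    congr 1
    show _ = MvPolynomial.aeval _ (MvPolynomial.X j)
    rw [MvPolynomial.aeval_X, mul_comm]

lemma scale_scale (c d : k) (F : MvPolynomial (Fin r) k) : scale c (scale d F) = scale (c * d) F := by
  have : (scale (r := r) c).comp (scale d) = scale (c * d) := by
    apply MvPolynomial.algHom_ext
    intro j
    simp only [scale, AlgHom.comp_apply, MvPolynomial.aeval_X, map_mul, MvPolynomial.aeval_C,
      MvPolynomial.algebraMap_eq]
    ring
  exact DFunLike.congr_fun this F

lemma scale_one (F : MvPolynomial (Fin r) k) : scale 1 F = F := by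
  have : scale (r := r) (1 : k) = AlgHom.id k _ := by
    apply MvPolynomial.algHom_ext
    intro j
    simp [scale]
  rw [this]; rfl

lemma scale_zero (F : MvPolynomial (Fin r) k) :
    scale 0 F = MvPolynomial.C (MvPolynomial.eval (fun _ => (0 : k)) F) := by
  induction F using MvPolynomial.induction_on with
  | C a => simp [scale]
  | add p q hp hq => rw [map_add, hp, hq, map_add, map_add]
  | mul_X p j hp => simp [scale]

lemma scale_irreducible {c : k} (hc : c ≠ 0) {F : MvPolynomial (Fin r) k} (hF : Irreducible F) :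
    Irreducible (scale c F) := by
  let e : MvPolynomial (Fin r) k ≃ₐ[k] MvPolynomial (Fin r) k :=
    AlgEquiv.ofAlgHom (scale c) (scale c⁻¹)
      (by ext F; simp [scale_scale, mul_inv_cancel₀ hc, scale_one])
      (by ext F; simp [scale_scale, inv_mul_cancel₀ hc, scale_one])
  exact (MulEquiv.irreducible_iff e.toMulEquiv).2 hF

/-- The constant-coefficient map `k[X][T] → k[T]`. -/
noncomputable def ev₀ : Polynomial (MvPolynomial (Fin r) k) →+* Polynomial k :=
  Polynomial.mapRingHom (MvPolynomial.eval (fun _ => (0 : k)))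

lemma ev₀_G (F : MvPolynomial (Fin r) k) :
    ev₀ (G F) = Polynomial.C (MvPolynomial.eval (fun _ => (0 : k)) F) := by
  induction F using MvPolynomial.induction_on with
  | C a => simp [G, ev₀]
  | add p q hp hq =>
    have : G (p + q) = G p + G q := MvPolynomial.eval₂_add _ _
    rw [this, map_add, hp, hq, map_add, map_add]
  | mul_X p j hp =>
    have : G (p * MvPolynomial.X j) = G p * (Polynomial.C (MvPolynomial.X j) * Polynomial.X) := by
      simp [G, MvPolynomial.eval₂_mul]
    rw [this, map_mul, hp]
    simp [ev₀]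

/-- If `A(c)` is a unit for infinitely many `c`, and `A ∣ G F` with `F(0) ≠ 0`, then `A` is a
unit. -/
lemma isUnit_of_infinite {F : MvPolynomial (Fin r) k}
    (hF0 : MvPolynomial.eval (fun _ => (0 : k)) F ≠ 0)
    {A B : Polynomial (MvPolynomial (Fin r) k)} (hAB : G F = A * B) {S : Set k} (hS : S.Infinite)
    (hA : ∀ c ∈ S, IsUnit (A.eval (MvPolynomial.C c))) : IsUnit A := by
  classical
  -- Step 1: nonconstant coefficients vanish
  have h1 : ∀ (α : Fin r →₀ ℕ), α ≠ 0 → ∀ i, (A.coeff i).coeff α = 0 := by
    intro α hα i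
    let pα : Polynomial k := ∑ i ∈ Finset.range (A.natDegree + 1),
      Polynomial.C ((A.coeff i).coeff α) * Polynomial.X ^ i
    have hroot : ∀ c ∈ S, pα.IsRoot c := by
      intro c hc
      have hu := hA c hc
      rw [MvPolynomial.isUnit_iff] at hu
      have h0 : (A.eval (MvPolynomial.C c)).coeff α = 0 := by
        have := hu.2 α hα
        exact this.eq_zero
      rw [Polynomial.eval_eq_sum_range, MvPolynomial.coeff_sum] at h0
      rw [Polynomial.IsRoot.def, Polynomial.eval_finset_sum]
      rw [← h0]
      apply Finset.sum_congr rfl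
      intro i _
      rw [Polynomial.eval_mul, Polynomial.eval_C, Polynomial.eval_pow, Polynomial.eval_X,
        ← map_pow, mul_comm (A.coeff i), MvPolynomial.coeff_C_mul, mul_comm]
    have hp0 : pα = 0 := Polynomial.eq_zero_of_infinite_isRoot pα (hS.mono hroot)
    by_cases hi : i < A.natDegree + 1
    · have : pα.coeff i = (A.coeff i).coeff α := by
        simp only [pα, Polynomial.finsetSum_coeff, Polynomial.coeff_C_mul, Polynomial.coeff_X_pow]
        rw [Finset.sum_eq_single i]
        · simp
        · intro j _ hj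
          simp [hj.symm]
        · intro h
          exact absurd (Finset.mem_range.2 hi) h
      rw [← this, hp0, Polynomial.coeff_zero]
    · have : A.coeff i = 0 := Polynomial.coeff_eq_zero_of_natDegree_lt (by omega)
      rw [this, MvPolynomial.coeff_zero]
  -- Step 2: `A` comes from `k[T]`
  have h2 : A = Polynomial.map (MvPolynomial.C : k →+* MvPolynomial (Fin r) k) (ev₀ A) := by
    ext i α
    rw [Polynomial.coeff_map, ev₀, Polynomial.coe_mapRingHom, Polynomial.coeff_map,
      MvPolynomial.coeff_C]
    by_cases hα : 0 = α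
    · subst hα
      rw [if_pos rfl]
      have : MvPolynomial.eval (fun _ => (0 : k)) (A.coeff i) =
          MvPolynomial.constantCoeff (A.coeff i) := by
        rw [MvPolynomial.eval_zero']
      rw [this, MvPolynomial.constantCoeff_eq]
    · rw [if_neg hα]
      exact h1 α (Ne.symm hα) i
  -- Step 3
  have h3 : IsUnit (ev₀ A) := by
    have h4 : ev₀ A * ev₀ B = Polynomial.C (MvPolynomial.eval (fun _ => (0 : k)) F) := by
      rw [← map_mul, ← hAB, ev₀_G]
    have h5 : IsUnit (Polynomial.C (MvPolynomial.eval (fun _ => (0 : k)) F)) :=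
      Polynomial.isUnit_C.2 (isUnit_iff_ne_zero.2 hF0)
    rw [← h4] at h5
    exact isUnit_of_mul_isUnit_left h5
  rw [h2]
  exact h3.map (Polynomial.mapRingHom (MvPolynomial.C : k →+* MvPolynomial (Fin r) k))

theorem irreducible_G [Infinite k] {F : MvPolynomial (Fin r) k} (hF : Irreducible F)
    (hF0 : MvPolynomial.eval (fun _ => (0 : k)) F ≠ 0) : Irreducible (G F) := by
  constructor
  · intro hu
    have h1 : IsUnit ((G F).eval (MvPolynomial.C (1 : k))) :=
      hu.map (Polynomial.evalRingHom (MvPolynomial.C (1 : k)))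
    rw [eval_G, scale_one] at h1
    exact hF.not_isUnit h1
  · intro A B hAB
    have hcases : ∀ c : k, c ≠ 0 →
        IsUnit (A.eval (MvPolynomial.C c)) ∨ IsUnit (B.eval (MvPolynomial.C c)) := by
      intro c hc
      have h1 : scale c F = A.eval (MvPolynomial.C c) * B.eval (MvPolynomial.C c) := by
        rw [← eval_G, hAB, Polynomial.eval_mul]
      exact (scale_irreducible hc hF).isUnit_or_isUnit h1
    let SA : Set k := {c | c ≠ 0 ∧ IsUnit (A.eval (MvPolynomial.C c))}
    let SB : Set k := {c | c ≠ 0 ∧ IsUnit (B.eval (MvPolynomial.C c))}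
    have hcover : ({0}ᶜ : Set k) ⊆ SA ∪ SB := by
      intro c hc
      rcases hcases c hc with h | h
      · exact Or.inl ⟨hc, h⟩
      · exact Or.inr ⟨hc, h⟩
    have hinf : (SA ∪ SB).Infinite := (Set.finite_singleton (0 : k)).infinite_compl.mono hcover
    rcases Set.infinite_union.1 hinf with h | h
    · exact Or.inl (isUnit_of_infinite hF0 hAB h fun c hc => hc.2)
    · exact Or.inr (isUnit_of_infinite hF0 (by rw [hAB, mul_comm]) h fun c hc => hc.2)

theorem isPrimitive_G {F : MvPolynomial (Fin r) k}
    (hF0 : MvPolynomial.eval (fun _ => (0 : k)) F ≠ 0) : (G F).IsPrimitive := by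
  rw [Polynomial.isPrimitive_iff_isUnit_of_C_dvd]
  intro a ha
  have h1 : a ∣ (G F).coeff 0 := (Polynomial.C_dvd_iff_dvd_coeff a (G F)).1 ha 0
  have h2 : (G F).coeff 0 = MvPolynomial.C (MvPolynomial.eval (fun _ => (0 : k)) F) := by
    rw [Polynomial.coeff_zero_eq_eval_zero, ← scale_zero, ← eval_G, map_zero]
  rw [h2] at h1
  have h3 : IsUnit (MvPolynomial.C (σ := Fin r) (MvPolynomial.eval (fun _ => (0 : k)) F)) :=
    (isUnit_iff_ne_zero.2 hF0).map MvPolynomial.C
  exact isUnit_of_dvd_unit h1 h3

theorem main [Infinite k] {F : MvPolynomial (Fin r) k} (hF : Irreducible F)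
    (hF0 : MvPolynomial.eval (fun _ => (0 : k)) F ≠ 0) :
    Irreducible ((G F).map
      (algebraMap (MvPolynomial (Fin r) k) (FractionRing (MvPolynomial (Fin r) k)))) :=
  ((isPrimitive_G hF0).irreducible_iff_irreducible_map_fraction_map).1 (irreducible_G hF hF0)

end Groth.Agent.Helper2.LineSubst
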