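import Mathlib
import Groth.Prelude
import Groth.Agent.Helper6.Bass4
import Groth.Agent.Helper2.Depth

set_option autoImplicit false
universe u
open IsLocalRing

namespace Groth.Agent.Helper2.Link

section Core
variable {S : Type u} [CommRing S]

/-- In a ring all of whose local rings are CM, the annihilator of an element, if prime, is a
minimal prime. -/
lemma mem_minimalPrimes_of_ann (hCM : ∀ (p : Ideal S) [p.IsPrime],
      LocCoh.IsCohenMacaulayLocalRing (Localization.AtPrime p))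
    (p : Ideal S) [hp : p.IsPrime] (x : S) (hx : ∀ s : S, s * x = 0 ↔ s ∈ p) :
    p ∈ minimalPrimes S := by
  rw [← Ideal.height_eq_zero_iff]
  haveI := hCM p
  have hdim := LocCoh.IsCohenMacaulayLocalRing.supportDim_eq_depth (R := Localization.AtPrime p)
  rw [Module.supportDim_self_eq_ringKrullDim, IsLocalization.AtPrime.ringKrullDim_eq_height p] at hdim
  have hx0 : algebraMap S (Localization.AtPrime p) x ≠ 0 := by
    intro h0
    rw [IsLocalization.map_eq_zero_iff p.primeCompl] at h0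
    obtain ⟨t, ht⟩ := h0
    exact t.2 ((hx t.1).1 ht)
  have hdepth : LocCoh.depth (Localization.AtPrime p) (Localization.AtPrime p) = 0 := by
    rw [Groth.Agent.Helper2.Depth.depth_eq_zero_iff]
    intro y hy hreg
    obtain ⟨a, s, rfl⟩ := IsLocalization.exists_mk'_eq p.primeCompl y
    have ha : a ∈ p := by
      by_contra hna
      have hu : IsUnit (IsLocalization.mk' (Localization.AtPrime p) a s) := by
        rw [IsLocalization.AtPrime.isUnit_mk'_iff (Localization.AtPrime p) p]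
        exact hna
      exact (mem_maximalIdeal _).1 hy hu
    have h1 : IsLocalization.mk' (Localization.AtPrime p) a s •
        algebraMap S (Localization.AtPrime p) x = 0 := by
      rw [smul_eq_mul, ← IsLocalization.mk'_one (M := p.primeCompl) (Localization.AtPrime p) x,
        ← IsLocalization.mk'_mul, (hx a).2 ha, IsLocalization.mk'_zero]
    apply hx0
    apply hreg
    simpa using h1
  rw [hdepth] at hdim
  have : ((p.height : ℕ∞) : WithBot ℕ∞) = ((0 : ℕ∞) : WithBot ℕ∞) := hdim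
  exact_mod_cast this

end Core

section Main
variable {R : Type u} [CommRing R] [IsNoetherianRing R]

omit [IsNoetherianRing R] in
/-- if `R/𝔠` is Gorenstein, the prime annihilators mod `𝔠` are minimal over `𝔠`. -/
lemma mem_minimalPrimes_of_colon (𝔠 : Ideal R) [LocCoh.IsGorensteinRing (R ⧸ 𝔠)]
    (P : Ideal R) [hP : P.IsPrime] (x : R) (hx : ∀ r : R, r * x ∈ 𝔠 ↔ r ∈ P) :
    P ∈ 𝔠.minimalPrimes := by
  have hcP : 𝔠 ≤ P := fun r hr => (hx r).1 (𝔠.mul_mem_right x hr)
  have hker : RingHom.ker (Ideal.Quotient.mk 𝔠) ≤ P := by rwa [Ideal.mk_ker]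
  haveI hp' : (P.map (Ideal.Quotient.mk 𝔠)).IsPrime :=
    Ideal.map_isPrime_of_surjective Ideal.Quotient.mk_surjective hker
  have hcomap : (P.map (Ideal.Quotient.mk 𝔠)).comap (Ideal.Quotient.mk 𝔠) = P := by
    rw [Ideal.comap_map_of_surjective _ Ideal.Quotient.mk_surjective, ← RingHom.ker_eq_comap_bot,
      sup_eq_left]
    exact hker
  have hmin : P.map (Ideal.Quotient.mk 𝔠) ∈ minimalPrimes (R ⧸ 𝔠) := by
    apply mem_minimalPrimes_of_ann (S := R ⧸ 𝔠) ?_ _ (Ideal.Quotient.mk 𝔠 x)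
    · intro s
      obtain ⟨r, rfl⟩ := Ideal.Quotient.mk_surjective s
      rw [← map_mul, Ideal.Quotient.eq_zero_iff_mem, hx]
      constructor
      · intro h; exact Ideal.mem_map_of_mem _ h
      · intro h
        have : r ∈ (P.map (Ideal.Quotient.mk 𝔠)).comap (Ideal.Quotient.mk 𝔠) := h
        rwa [hcomap] at this
    · intro p _
      haveI := LocCoh.IsGorensteinRing.isGorensteinLocalRing_localization (A := R ⧸ 𝔠) p
      exact Groth.Agent.Helper6.Bass.cm_of_gorenstein
  have h2 := Ideal.comap_minimalPrimes_eq_of_surjective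
    (f := Ideal.Quotient.mk 𝔠) Ideal.Quotient.mk_surjective (⊥ : Ideal (R ⧸ 𝔠))
  rw [← RingHom.ker_eq_comap_bot, Ideal.mk_ker] at h2
  rw [h2]
  exact ⟨_, hmin, hcomap⟩

theorem s18866 (𝔠 I J : Ideal R) [LocCoh.IsGorensteinRing (R ⧸ 𝔠)]
    (hIJ : 𝔠.colon (I : Set R) = J) (hJI : 𝔠.colon (J : Set R) = I)
    (hdisj : Disjoint (associatedPrimes R (R ⧸ I)) (associatedPrimes R (R ⧸ J))) :
    I ⊓ J = 𝔠 := by
  have hcI : 𝔠 ≤ I := by
    rw [← hJI]
    intro r hr
    rw [Submodule.mem_colon]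
    intro s _
    exact 𝔠.mul_mem_right s hr
  have hcJ : 𝔠 ≤ J := by
    rw [← hIJ]
    intro r hr
    rw [Submodule.mem_colon]
    intro s _
    exact 𝔠.mul_mem_right s hr
  apply le_antisymm _ (le_inf hcI hcJ)
  by_contra hcon
  obtain ⟨x, hxIJ, hxc⟩ := SetLike.not_le_iff_exists.1 hcon
  -- an associated prime of R / (𝔠 : x)
  have hne : (𝔠.colon ({x} : Set R)) ≠ ⊤ := by
    intro h
    have : (1 : R) ∈ 𝔠.colon ({x} : Set R) := by rw [h]; trivial
    rw [Submodule.mem_colon_singleton] at this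
    exact hxc (by simpa using this)
  haveI : Nontrivial (R ⧸ 𝔠.colon ({x} : Set R)) := Ideal.Quotient.nontrivial_iff.2 hne
  obtain ⟨P, hPass⟩ := associatedPrimes.nonempty R (R ⧸ 𝔠.colon ({x} : Set R))
  rw [AssociatedPrimes.mem_iff, isAssociatedPrime_iff] at hPass
  obtain ⟨hPprime, y, hy⟩ := hPass
  obtain ⟨a, rfl⟩ := Ideal.Quotient.mk_surjective y
  haveI := hPprime
  have hP : ∀ r : R, r * (a * x) ∈ 𝔠 ↔ r ∈ P := by
    intro r
    rw [hy, Submodule.mem_colon_singleton, Submodule.mem_bot]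
    have e : r • (Ideal.Quotient.mk (𝔠.colon ({x} : Set R))) a =
        Ideal.Quotient.mk (𝔠.colon ({x} : Set R)) (r * a) := by
      rw [map_mul]; rfl
    rw [e, Ideal.Quotient.eq_zero_iff_mem, Submodule.mem_colon_singleton, smul_eq_mul, mul_assoc]
  have hx' : a * x ∈ I ⊓ J := (I ⊓ J).mul_mem_left a hxIJ
  have hmin := mem_minimalPrimes_of_colon 𝔠 P (a * x) hP
  have hIP : I ≤ P := by
    intro i hi
    rw [← hP]
    have h1 : a * x ∈ 𝔠.colon (I : Set R) := by rw [hIJ]; exact hx'.2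
    rw [Submodule.mem_colon] at h1
    have := h1 i hi
    rwa [smul_eq_mul, mul_comm] at this
  have hJP : J ≤ P := by
    intro j hj
    rw [← hP]
    have h1 : a * x ∈ 𝔠.colon (J : Set R) := by rw [hJI]; exact hx'.1
    rw [Submodule.mem_colon] at h1
    have := h1 j hj
    rwa [smul_eq_mul, mul_comm] at this
  have hPI : P ∈ I.minimalPrimes :=
    ⟨⟨hPprime, hIP⟩, fun Q hQ hQP => hmin.2 ⟨hQ.1, hcI.trans hQ.2⟩ hQP⟩
  have hPJ : P ∈ J.minimalPrimes :=
    ⟨⟨hPprime, hJP⟩, fun Q hQ hQP => hmin.2 ⟨hQ.1, hcJ.trans hQ.2⟩ hQP⟩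
  have hassI : P ∈ associatedPrimes R (R ⧸ I) := by
    apply Module.associatedPrimes.minimalPrimes_annihilator_subset_associatedPrimes R (R ⧸ I)
    rwa [Ideal.annihilator_quotient]
  have hassJ : P ∈ associatedPrimes R (R ⧸ J) := by
    apply Module.associatedPrimes.minimalPrimes_annihilator_subset_associatedPrimes R (R ⧸ J)
    rwa [Ideal.annihilator_quotient]
  exact Set.disjoint_left.1 hdisj hassI hassJ

end Main

end Groth.Agent.Helper2.Link
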