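import Mathlib
import Groth.Prelude

set_option autoImplicit false
universe u

namespace Groth.Agent.Helper2.LocColim

open CategoryTheory CategoryTheory.Limits

variable {A : Type u} [CommRing A] (S : Submonoid A)

/-- the index category: objects are elements of `S`, morphisms `s ⟶ t` are `u` with `s * u = t`. -/
structure SCat (S : Submonoid A) : Type u where
  val : S

instance : SmallCategory (SCat S) where
  Hom s t := {u : S // s.val * u = t.val}
  id s := ⟨1, mul_one _⟩
  comp f g := ⟨f.1 * g.1, by rw [← mul_assoc, f.2, g.2]⟩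
  id_comp f := Subtype.ext (one_mul _)
  comp_id f := Subtype.ext (mul_one _)
  assoc f g h := Subtype.ext (mul_assoc _ _ _)

instance : IsFiltered (SCat S) where
  nonempty := ⟨⟨1⟩⟩
  cocone_objs s t := ⟨⟨s.val * t.val⟩, ⟨t.val, rfl⟩, ⟨s.val, mul_comm _ _⟩, trivial⟩
  cocone_maps := by
    intro s t f g
    refine ⟨⟨t.val * s.val⟩, ⟨s.val, rfl⟩, ?_⟩
    apply Subtype.ext
    change f.1 * s.val = g.1 * s.val
    rw [mul_comm f.1, mul_comm g.1, f.2, g.2]

section

variable {S}
variable {N : Type u} [AddCommGroup N] [Module A N]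

/-- `m ↦ m / s`. -/
noncomputable def iota (s : S) : N →ₗ[A] LocalizedModule S N :=
  (LocalizedModule.divBy s).comp (LocalizedModule.mkLinearMap S N)

@[simp] theorem iota_apply (s : S) (m : N) : iota s m = LocalizedModule.mk m s := by
  simp [iota, LocalizedModule.mkLinearMap_apply, LocalizedModule.divBy_apply,
    LocalizedModule.liftOn_mk]

end

variable (N : ModuleCat.{u} A)

/-- the diagram `s ↦ N` with transition maps multiplication by `u`. -/
noncomputable def diag : SCat S ⥤ ModuleCat.{u} A where
  obj _ := N
  map f := ModuleCat.ofHom ((f.1 : A) • LinearMap.id)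
  map_id s := by
    ext x
    change ((1 : S) : A) • x = x
    simp
  map_comp f g := by
    ext x
    change ((f.1 * g.1 : S) : A) • x = (g.1 : A) • ((f.1 : A) • x)
    rw [Submonoid.coe_mul, mul_comm, mul_smul]

@[simp] theorem diag_map_apply {s t : SCat S} (f : s ⟶ t) (x : N) :
    (diag S N).map f x = (f.1 : A) • x := rfl

/-- the cocone with vertex the localized module. -/
noncomputable def cocone : Cocone (diag S N) where
  pt := ModuleCat.of A (LocalizedModule S N)
  ι :=
    { app := fun s => ModuleCat.ofHom (iota s.val)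
      naturality := by
        intro s t f
        ext x
        change iota t.val ((f.1 : A) • x) = iota s.val x
        rw [iota_apply, iota_apply, LocalizedModule.mk_eq]
        refine ⟨1, ?_⟩
        rw [one_smul, one_smul]
        have h2 : t.val • x = (s.val * f.1) • x := congrArg (· • x) f.2.symm
        rw [h2, mul_smul, Submonoid.smul_def f.1] }

@[simp] theorem cocone_ι_apply (s : SCat S) (x : N) :
    (cocone S N).ι.app s x = LocalizedModule.mk x s.val := iota_apply _ _

/-- the cocone is colimiting. -/
noncomputable def isColimitCocone : IsColimit (cocone S N) := by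
  apply isColimitOfReflects (forget (ModuleCat.{u} A))
  refine Types.FilteredColimit.isColimitOf _ _ ?_ ?_
  · intro x
    induction x using LocalizedModule.induction_on with
    | h m s => exact ⟨⟨s⟩, m, (cocone_ι_apply S N ⟨s⟩ m).symm⟩
  · intro i j (xi : N) (xj : N) h
    have h' : LocalizedModule.mk (xi : N) i.val = LocalizedModule.mk (xj : N) j.val := by
      rw [← cocone_ι_apply, ← cocone_ι_apply]; exact h
    rw [LocalizedModule.mk_eq] at h'
    obtain ⟨u, hu⟩ := h'
    refine ⟨⟨i.val * (j.val * u)⟩, ⟨j.val * u, rfl⟩, ⟨i.val * u, ?_⟩, ?_⟩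
    · rw [← mul_assoc, ← mul_assoc, mul_comm j.val i.val]
    · change ((j.val * u : S) : A) • (xi : N) = ((i.val * u : S) : A) • (xj : N)
      rw [← Submonoid.smul_def, ← Submonoid.smul_def, mul_comm j.val, mul_comm i.val, mul_smul,
        mul_smul]
      exact hu

section main

variable (T : ModuleCat.{u} A ⥤ ModuleCat.{u} A) [T.Additive] [T.Linear A]

theorem map_smul_id (a : A) (N : ModuleCat.{u} A) :
    T.map (ModuleCat.ofHom ((a : A) • (LinearMap.id : N →ₗ[A] N))) =
      ModuleCat.ofHom (a • LinearMap.id) := by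
  have h1 : ModuleCat.ofHom ((a : A) • (LinearMap.id : N →ₗ[A] N)) = a • 𝟙 N := by
    ext x; rfl
  have h2 : ModuleCat.ofHom ((a : A) • (LinearMap.id : T.obj N →ₗ[A] T.obj N)) = a • 𝟙 (T.obj N) := by
    ext x; rfl
  rw [h1, h2, Functor.map_smul, T.map_id]

/-- the monoid hom `End(N) → End(T N)` induced by `T`. -/
noncomputable def endMap (N : ModuleCat.{u} A) : Module.End A N →* Module.End A (T.obj N) where
  toFun g := (T.map (ModuleCat.ofHom g)).hom
  map_one' := by
    have : ModuleCat.ofHom (1 : Module.End A N) = 𝟙 N := rfl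
    rw [this, T.map_id]; rfl
  map_mul' g h := by
    have : ModuleCat.ofHom (g * h : Module.End A N) = ModuleCat.ofHom h ≫ ModuleCat.ofHom g := rfl
    rw [this, T.map_comp]; rfl

theorem endMap_algebraMap (N : ModuleCat.{u} A) (a : A) :
    endMap T N (algebraMap A (Module.End A N) a) = algebraMap A (Module.End A (T.obj N)) a := by
  have h1 : algebraMap A (Module.End A N) a = a • LinearMap.id := by
    ext x; simp
  have h2 : algebraMap A (Module.End A (T.obj N)) a = a • LinearMap.id := by
    ext x; simp
  change (T.map (ModuleCat.ofHom (algebraMap A (Module.End A N) a))).hom = _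
  rw [h1, h2, map_smul_id]
  rfl

theorem isLocalizedModule_map
    (hT : ∀ (J : Type u) [SmallCategory J] [IsFiltered J], PreservesColimitsOfShape J T)
    (M : ModuleCat.{u} A) :
    IsLocalizedModule S (T.map (ModuleCat.ofHom (LocalizedModule.mkLinearMap S M) :
      M ⟶ ModuleCat.of A (LocalizedModule S M))).hom := by
  haveI := hT (SCat S)
  have hc : IsColimit (T.mapCocone (cocone S M)) := isColimitOfPreserves T (isColimitCocone S M)
  have h1 : (ModuleCat.ofHom (iota (1 : S)) : M ⟶ ModuleCat.of A (LocalizedModule S M)) =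
      ModuleCat.ofHom (LocalizedModule.mkLinearMap S M) := by
    ext x
    change iota (1 : S) x = LocalizedModule.mkLinearMap S M x
    rw [iota_apply, LocalizedModule.mkLinearMap_apply]
  have hleg : ∀ s : S, (s : A) • (ModuleCat.ofHom (iota s) :
      M ⟶ ModuleCat.of A (LocalizedModule S M)) = ModuleCat.ofHom (iota (1 : S)) := by
    intro s
    ext x
    change (s : A) • iota s x = iota (1 : S) x
    rw [iota_apply, iota_apply, LocalizedModule.smul'_mk, ← Submonoid.smul_def,
      LocalizedModule.mk_cancel]
  refine ⟨?_, ?_, ?_⟩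
  · intro s
    have := (IsLocalizedModule.map_units (LocalizedModule.mkLinearMap S M) s).map
      (endMap T (ModuleCat.of A (LocalizedModule S M)))
    rw [endMap_algebraMap] at this
    exact this
  · intro y
    obtain ⟨s, x, hx⟩ := Concrete.isColimit_exists_rep _ hc y
    refine ⟨⟨x, s.val⟩, ?_⟩
    change s.val • y = (T.map (ModuleCat.ofHom (LocalizedModule.mkLinearMap S M))).hom x
    rw [← h1, ← hleg s.val, Functor.map_smul, ← hx]
    rfl
  · intro x₁ x₂ h
    have h' : (T.mapCocone (cocone S M)).ι.app ⟨1⟩ x₁ = (T.mapCocone (cocone S M)).ι.app ⟨1⟩ x₂ := by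
      change (T.map (ModuleCat.ofHom (iota (1 : S)))).hom x₁ =
        (T.map (ModuleCat.ofHom (iota (1 : S)))).hom x₂
      rw [h1]; exact h
    rw [IsColimit.eq_iff' hc] at h'
    obtain ⟨k, f, hf⟩ := h'
    refine ⟨f.1, ?_⟩
    have hmap : (diag S M ⋙ T).map f = ModuleCat.ofHom ((f.1 : A) • LinearMap.id) :=
      map_smul_id T (f.1 : A) M
    rw [hmap] at hf
    exact hf

end main

end Groth.Agent.Helper2.LocColim
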