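import Mathlib
import Groth.Prelude
import Groth.Agent.Helper2.LocColim

set_option autoImplicit false
universe u

namespace Groth.Agent.Helper2.LocExact

open CategoryTheory CategoryTheory.Limits

variable {A : Type u} [CommRing A] (S : Submonoid A)

/-- localization functor -/
noncomputable abbrev Lf : ModuleCat.{u} A ⥤ ModuleCat.{u} (Localization S) :=
  ModuleCat.localizedModuleFunctor S

/-- restriction of scalars -/
noncomputable abbrev Rf : ModuleCat.{u} (Localization S) ⥤ ModuleCat.{u} A :=
  ModuleCat.restrictScalars (algebraMap A (Localization S))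

/-- `Rf (Lf X)` as a def to control instances -/
noncomputable def RL (X : ModuleCat.{u} A) : ModuleCat.{u} A := (Rf S).obj (X.localizedModule S)

/-- identity-on-carrier equivalence between the two `A`-module structures. -/
noncomputable def idEquiv (X : ModuleCat.{u} A) :
    (X.localizedModule S) ≃ₗ[A] (RL S X) where
  toFun x := x
  invFun x := x
  map_add' _ _ := rfl
  map_smul' r x := (algebraMap_smul (Localization S) r x).symm
  left_inv _ := rfl
  right_inv _ := rfl

/-- the localization map into `Rf (Lf X)`. -/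
noncomputable def psi (X : ModuleCat.{u} A) : X ⟶ RL S X :=
  ModuleCat.ofHom (X := ↑X) (Y := ↑(RL S X))
    ((idEquiv S X).toLinearMap ∘ₗ X.localizedModuleMkLinearMap S)

/-- `Rf (Lf f)` -/
noncomputable def RLmap {X Y : ModuleCat.{u} A} (f : X ⟶ Y) : RL S X ⟶ RL S Y :=
  (Rf S).map (ModuleCat.localizedModuleMap S f)

theorem psi_naturality {X Y : ModuleCat.{u} A} (f : X ⟶ Y) :
    f ≫ psi S Y = psi S X ≫ RLmap S f := by
  ext x
  have : (IsLocalizedModule.mapExtendScalars S (X.localizedModuleMkLinearMap S)
      (Y.localizedModuleMkLinearMap S) (Localization S) f.hom) ((X.localizedModuleMkLinearMap S) x)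
      = (Y.localizedModuleMkLinearMap S) (f.hom x) := by
    rw [IsLocalizedModule.mapExtendScalars_apply_apply, IsLocalizedModule.map_apply]
  exact this.symm

/-- the comparison iso `LocalizedModule S X ≅ RL X` -/
noncomputable def eps (X : ModuleCat.{u} A) : ModuleCat.of A (LocalizedModule S X) ≅ RL S X :=
  LinearEquiv.toModuleIso ((Shrink.linearEquiv.{u} A (LocalizedModule S X)).symm ≪≫ₗ idEquiv S X)

theorem psi_eq (X : ModuleCat.{u} A) :
    psi S X = (ModuleCat.ofHom (LocalizedModule.mkLinearMap S X) :
      X ⟶ ModuleCat.of A (LocalizedModule S X)) ≫ (eps S X).hom := by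
  ext x
  rfl

section T

variable (T : ModuleCat.{u} A ⥤ ModuleCat.{u} A) [T.Additive] [T.Linear A]
  (hT : ∀ (J : Type u) [SmallCategory J] [IsFiltered J], PreservesColimitsOfShape J T)

include hT in
theorem isLocalizedModule_T_psi (X : ModuleCat.{u} A) :
    IsLocalizedModule S (T.map (psi S X)).hom := by
  rw [psi_eq, T.map_comp]
  haveI := LocColim.isLocalizedModule_map S T hT X
  exact IsLocalizedModule.of_linearEquiv S
    (T.map (ModuleCat.ofHom (LocalizedModule.mkLinearMap S X) :
      X ⟶ ModuleCat.of A (LocalizedModule S X))).hom (T.mapIso (eps S X)).toLinearEquiv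

include hT in
theorem map_eq (X Y : ModuleCat.{u} A) (f : X ⟶ Y) :
    letI := isLocalizedModule_T_psi S T hT X
    letI := isLocalizedModule_T_psi S T hT Y
    IsLocalizedModule.map S (T.map (psi S X)).hom (T.map (psi S Y)).hom (T.map f).hom =
      (T.map (RLmap S f)).hom := by
  letI := isLocalizedModule_T_psi S T hT X
  letI := isLocalizedModule_T_psi S T hT Y
  apply IsLocalizedModule.linearMap_ext S (T.map (psi S X)).hom (T.map (psi S Y)).hom
  rw [IsLocalizedModule.map_comp]
  have h := congrArg (fun φ => (T.map φ).hom) (psi_naturality S f)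
  simp only [T.map_comp, ModuleCat.hom_comp] at h
  exact h

end T

section main

variable (T : ModuleCat.{u} A ⥤ ModuleCat.{u} A) [T.Additive] [T.Linear A]
  (hT : ∀ (J : Type u) [SmallCategory J] [IsFiltered J], PreservesColimitsOfShape J T)

include hT in
theorem preservesFiniteLimits
    (H : ∀ (m : Ideal A) [m.IsMaximal], PreservesFiniteLimits
      (ModuleCat.restrictScalars (algebraMap A (Localization.AtPrime m)) ⋙ T)) :
    PreservesFiniteLimits T := by
  refine ((Functor.preservesFiniteLimits_tfae T).out 0 3).mp ?_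
  intro Sc hSc
  -- local data
  have key : ∀ (m : Ideal A) [m.IsMaximal],
      Function.Exact (T.map (RLmap m.primeCompl Sc.f)).hom (T.map (RLmap m.primeCompl Sc.g)).hom ∧
        Function.Injective (T.map (RLmap m.primeCompl Sc.f)).hom := by
    intro m _
    have h1 : (Sc.map (Lf m.primeCompl)).ShortExact := hSc.map_of_exact _
    have h2 : ∀ (S' : ShortComplex (ModuleCat.{u} (Localization.AtPrime m))), S'.ShortExact →
        (S'.map (ModuleCat.restrictScalars (algebraMap A (Localization.AtPrime m)) ⋙ T)).Exact ∧
        Mono ((ModuleCat.restrictScalars (algebraMap A (Localization.AtPrime m)) ⋙ T).map S'.f) :=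
      ((Functor.preservesFiniteLimits_tfae
        (ModuleCat.restrictScalars (algebraMap A (Localization.AtPrime m)) ⋙ T)).out 3 0).mp (H m)
    obtain ⟨h3, h4⟩ := h2 _ h1
    rw [ShortComplex.ShortExact.moduleCat_exact_iff_function_exact] at h3
    rw [ModuleCat.mono_iff_injective] at h4
    exact ⟨h3, h4⟩
  constructor
  · rw [ShortComplex.ShortExact.moduleCat_exact_iff_function_exact]
    change Function.Exact (T.map Sc.f).hom (T.map Sc.g).hom
    refine @exact_of_isLocalized_maximal A _ _ _ _ _ _ _ _ _ _
      (fun P _ => T.obj (RL P.primeCompl Sc.X₁)) (fun P _ => inferInstance)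
      (fun P _ => inferInstance) (fun P _ => (T.map (psi P.primeCompl Sc.X₁)).hom)
      (fun P _ => isLocalizedModule_T_psi P.primeCompl T hT Sc.X₁)
      (fun P _ => T.obj (RL P.primeCompl Sc.X₂)) (fun P _ => inferInstance)
      (fun P _ => inferInstance) (fun P _ => (T.map (psi P.primeCompl Sc.X₂)).hom)
      (fun P _ => isLocalizedModule_T_psi P.primeCompl T hT Sc.X₂)
      (fun P _ => T.obj (RL P.primeCompl Sc.X₃)) (fun P _ => inferInstance)
      (fun P _ => inferInstance) (fun P _ => (T.map (psi P.primeCompl Sc.X₃)).hom)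
      (fun P _ => isLocalizedModule_T_psi P.primeCompl T hT Sc.X₃)
      (T.map Sc.f).hom (T.map Sc.g).hom ?_
    intro J _
    have e1 := map_eq J.primeCompl T hT _ _ Sc.f
    have e2 := map_eq J.primeCompl T hT _ _ Sc.g
    rw [e1, e2]
    exact (key J).1
  · rw [ModuleCat.mono_iff_injective]
    refine @injective_of_isLocalized_maximal A _ _ _ _ _ _ _
      (fun P _ => T.obj (RL P.primeCompl Sc.X₁)) (fun P _ => inferInstance)
      (fun P _ => inferInstance) (fun P _ => (T.map (psi P.primeCompl Sc.X₁)).hom)
      (fun P _ => isLocalizedModule_T_psi P.primeCompl T hT Sc.X₁)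
      (fun P _ => T.obj (RL P.primeCompl Sc.X₂)) (fun P _ => inferInstance)
      (fun P _ => inferInstance) (fun P _ => (T.map (psi P.primeCompl Sc.X₂)).hom)
      (fun P _ => isLocalizedModule_T_psi P.primeCompl T hT Sc.X₂)
      (T.map Sc.f).hom ?_
    intro J _
    have e1 := map_eq J.primeCompl T hT _ _ Sc.f
    rw [e1]
    exact (key J).2

include hT in
theorem preservesFiniteColimits
    (H : ∀ (m : Ideal A) [m.IsMaximal], PreservesFiniteColimits
      (ModuleCat.restrictScalars (algebraMap A (Localization.AtPrime m)) ⋙ T)) :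
    PreservesFiniteColimits T := by
  refine ((Functor.preservesFiniteColimits_tfae T).out 0 3).mp ?_
  intro Sc hSc
  -- local data
  have key : ∀ (m : Ideal A) [m.IsMaximal],
      Function.Exact (T.map (RLmap m.primeCompl Sc.f)).hom (T.map (RLmap m.primeCompl Sc.g)).hom ∧
        Function.Surjective (T.map (RLmap m.primeCompl Sc.g)).hom := by
    intro m _
    have h1 : (Sc.map (Lf m.primeCompl)).ShortExact := hSc.map_of_exact _
    have h2 : ∀ (S' : ShortComplex (ModuleCat.{u} (Localization.AtPrime m))), S'.ShortExact →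
        (S'.map (ModuleCat.restrictScalars (algebraMap A (Localization.AtPrime m)) ⋙ T)).Exact ∧
        Epi ((ModuleCat.restrictScalars (algebraMap A (Localization.AtPrime m)) ⋙ T).map S'.g) :=
      ((Functor.preservesFiniteColimits_tfae
        (ModuleCat.restrictScalars (algebraMap A (Localization.AtPrime m)) ⋙ T)).out 3 0).mp (H m)
    obtain ⟨h3, h4⟩ := h2 _ h1
    rw [ShortComplex.ShortExact.moduleCat_exact_iff_function_exact] at h3
    rw [ModuleCat.epi_iff_surjective] at h4
    exact ⟨h3, h4⟩
  constructor
  · rw [ShortComplex.ShortExact.moduleCat_exact_iff_function_exact]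
    change Function.Exact (T.map Sc.f).hom (T.map Sc.g).hom
    refine @exact_of_isLocalized_maximal A _ _ _ _ _ _ _ _ _ _
      (fun P _ => T.obj (RL P.primeCompl Sc.X₁)) (fun P _ => inferInstance)
      (fun P _ => inferInstance) (fun P _ => (T.map (psi P.primeCompl Sc.X₁)).hom)
      (fun P _ => isLocalizedModule_T_psi P.primeCompl T hT Sc.X₁)
      (fun P _ => T.obj (RL P.primeCompl Sc.X₂)) (fun P _ => inferInstance)
      (fun P _ => inferInstance) (fun P _ => (T.map (psi P.primeCompl Sc.X₂)).hom)
      (fun P _ => isLocalizedModule_T_psi P.primeCompl T hT Sc.X₂)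
      (fun P _ => T.obj (RL P.primeCompl Sc.X₃)) (fun P _ => inferInstance)
      (fun P _ => inferInstance) (fun P _ => (T.map (psi P.primeCompl Sc.X₃)).hom)
      (fun P _ => isLocalizedModule_T_psi P.primeCompl T hT Sc.X₃)
      (T.map Sc.f).hom (T.map Sc.g).hom ?_
    intro J _
    have e1 := map_eq J.primeCompl T hT _ _ Sc.f
    have e2 := map_eq J.primeCompl T hT _ _ Sc.g
    rw [e1, e2]
    exact (key J).1
  · rw [ModuleCat.epi_iff_surjective]
    refine @surjective_of_isLocalized_maximal A _ _ _ _ _ _ _
      (fun P _ => T.obj (RL P.primeCompl Sc.X₂)) (fun P _ => inferInstance)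
      (fun P _ => inferInstance) (fun P _ => (T.map (psi P.primeCompl Sc.X₂)).hom)
      (fun P _ => isLocalizedModule_T_psi P.primeCompl T hT Sc.X₂)
      (fun P _ => T.obj (RL P.primeCompl Sc.X₃)) (fun P _ => inferInstance)
      (fun P _ => inferInstance) (fun P _ => (T.map (psi P.primeCompl Sc.X₃)).hom)
      (fun P _ => isLocalizedModule_T_psi P.primeCompl T hT Sc.X₃)
      (T.map Sc.g).hom ?_
    intro J _
    have e1 := map_eq J.primeCompl T hT _ _ Sc.g
    rw [e1]
    exact (key J).2

end main

end Groth.Agent.Helper2.LocExact
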