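import Mathlib
import Groth.Prelude
import Groth.Agent.Helper2.LocLoc
import Groth.Agent.Helper2.FlatDescApp

set_option autoImplicit false
open Function TensorProduct
universe u

namespace Groth.Agent.Helper2.LocFlatOpen

open Groth.Agent.Helper2.LocLoc

/-- **S4865**. -/
theorem s4865 {A B C : Type u} [CommRing A] [CommRing B] [CommRing C]
    [Algebra A B] [Algebra B C] [Algebra A C] [IsScalarTower A B C]
    [Algebra.FinitePresentation A B] [Algebra.FinitePresentation B C]
    (M : Type u) [AddCommGroup M] [Module C M] [Module B M] [Module A M]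
    [IsScalarTower B C M] [IsScalarTower A C M] [IsScalarTower A B M]
    [Module.FinitePresentation C M] :
    IsOpen {q : PrimeSpectrum B | Module.Flat A (LocalizedModule q.asIdeal.primeCompl M)} := by
  haveI : Algebra.FinitePresentation A C := Algebra.FinitePresentation.trans A B C
  have hU : IsOpen {r : PrimeSpectrum C |
      Module.Flat A (LocalizedModule r.asIdeal.primeCompl M)} :=
    Groth.Agent.Helper2.FlatDescApp.isOpen_flatLocus_fp (R := A) (S := C) (M := M)
  obtain ⟨I, hI⟩ := (PrimeSpectrum.isClosed_iff_zeroLocus_ideal _).mp hU.isClosed_compl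
  -- the complement of our set is `V(I ∩ B)`
  have hset : {q : PrimeSpectrum B | Module.Flat A (LocalizedModule q.asIdeal.primeCompl M)} =
      (PrimeSpectrum.zeroLocus (I.comap (algebraMap B C) : Set B))ᶜ := by
    ext q
    simp only [Set.mem_ofPred_eq, Set.mem_compl_iff, PrimeSpectrum.mem_zeroLocus,
      SetLike.coe_subset_coe]
    rw [flat_localizedModule_iff A (C := C) M q.asIdeal]
    constructor
    · intro h hle
      -- a prime `r ⊇ I` with `r ∩ B ⊆ q`
      have hdisj : Disjoint (I : Set C)
          (Algebra.algebraMapSubmonoid C q.asIdeal.primeCompl : Set C) := by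
        rw [Set.disjoint_left]
        rintro _ hc ⟨b, hb, rfl⟩
        exact hb (hle hc)
      obtain ⟨r, hr, hIr, hrd⟩ := Ideal.exists_le_prime_disjoint I _ hdisj
      have hrq : r.comap (algebraMap B C) ≤ q.asIdeal := by
        intro b hb
        by_contra hbq
        exact (Set.disjoint_left.mp hrd) hb ⟨b, hbq, rfl⟩
      have hfl := h r hrq
      have hmem : (⟨r, hr⟩ : PrimeSpectrum C) ∈ PrimeSpectrum.zeroLocus (I : Set C) := by
        rw [PrimeSpectrum.mem_zeroLocus]
        exact hIr
      rw [← hI] at hmem
      exact hmem hfl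
    · intro h r hr hrq
      by_contra hfl
      have hmem : (⟨r, hr⟩ : PrimeSpectrum C) ∈ PrimeSpectrum.zeroLocus (I : Set C) := by
        rw [← hI]
        exact hfl
      rw [PrimeSpectrum.mem_zeroLocus] at hmem
      exact h (fun b hb => hrq (hmem hb))
  rw [hset]
  exact (PrimeSpectrum.isClosed_zeroLocus _).isOpen_compl

end Groth.Agent.Helper2.LocFlatOpen
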