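import Mathlib

set_option linter.style.haveILetI false
set_option linter.unusedSectionVars false
set_option autoImplicit false

/-! Base change of a module which is free at a prime is free at primes above it. -/

namespace Groth.Agent.Helper2.LocFreeBC

open TensorProduct

universe u

theorem nonempty_equiv (B B' : Type u) [CommRing B] [CommRing B'] [Algebra B B']
    (F : Type u) [AddCommGroup F] [Module B F] (q' : Ideal B') [q'.IsPrime] :
    haveI : q'.LiesOver (q'.comap (algebraMap B B')) := ⟨rfl⟩
    letI := Localization.AtPrime.algebraOfLiesOver (q'.comap (algebraMap B B')) q'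
    Nonempty (LocalizedModule q'.primeCompl (B' ⊗[B] F) ≃ₗ[Localization.AtPrime q']
      (Localization.AtPrime q') ⊗[Localization.AtPrime (q'.comap (algebraMap B B'))]
        (LocalizedModule (q'.comap (algebraMap B B')).primeCompl F)) := by
  haveI : q'.LiesOver (q'.comap (algebraMap B B')) := ⟨rfl⟩
  letI := Localization.AtPrime.algebraOfLiesOver (q'.comap (algebraMap B B')) q'
  have h1 : IsBaseChange B' (TensorProduct.mk B B' F 1) := TensorProduct.isBaseChange B F B'
  have h2 : IsBaseChange (Localization.AtPrime q')
      (LocalizedModule.mkLinearMap q'.primeCompl (B' ⊗[B] F)) :=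
    (isLocalizedModule_iff_isBaseChange q'.primeCompl _ _).mp inferInstance
  have h12 := IsBaseChange.comp h1 h2
  have h3 : IsBaseChange (Localization.AtPrime (q'.comap (algebraMap B B')))
      (LocalizedModule.mkLinearMap (q'.comap (algebraMap B B')).primeCompl F) :=
    (isLocalizedModule_iff_isBaseChange (q'.comap (algebraMap B B')).primeCompl _ _).mp
      inferInstance
  have h4 : IsBaseChange (Localization.AtPrime q')
      (TensorProduct.mk (Localization.AtPrime (q'.comap (algebraMap B B')))
        (Localization.AtPrime q')
        (LocalizedModule (q'.comap (algebraMap B B')).primeCompl F) 1) :=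
    TensorProduct.isBaseChange _ _ _
  have h34 := IsBaseChange.comp h3 h4
  exact ⟨h12.equiv.symm ≪≫ₗ h34.equiv⟩

theorem free_localized_baseChange (B B' : Type u) [CommRing B] [CommRing B'] [Algebra B B']
    (F : Type u) [AddCommGroup F] [Module B F] (q' : Ideal B') [q'.IsPrime]
    (h : Module.Free (Localization.AtPrime (q'.comap (algebraMap B B')))
      (LocalizedModule (q'.comap (algebraMap B B')).primeCompl F)) :
    Module.Free (Localization.AtPrime q') (LocalizedModule q'.primeCompl (B' ⊗[B] F)) := by
  haveI : q'.LiesOver (q'.comap (algebraMap B B')) := ⟨rfl⟩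
  letI := Localization.AtPrime.algebraOfLiesOver (q'.comap (algebraMap B B')) q'
  obtain ⟨e⟩ := nonempty_equiv B B' F q'
  exact Module.Free.of_equiv e.symm

end Groth.Agent.Helper2.LocFreeBC
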