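import Mathlib

set_option linter.style.haveILetI false
set_option linter.unusedSectionVars false
set_option autoImplicit false

/-! A map of modules whose localization is bijective has an inverse up to an element of the
multiplicative set. -/

namespace Groth.Agent.Helper2.LocInv

universe u

variable {R : Type u} [CommRing R] (S : Submonoid R)
  {M N M' N' : Type u} [AddCommGroup M] [Module R M] [AddCommGroup N] [Module R N]
  [AddCommGroup M'] [Module R M'] [AddCommGroup N'] [Module R N']
  (f : M →ₗ[R] M') [IsLocalizedModule S f] (g : N →ₗ[R] N') [IsLocalizedModule S g]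

theorem exists_inv [Module.Finite R M] [Module.FinitePresentation R N]
    (l : M →ₗ[R] N) (hf : Function.Bijective (IsLocalizedModule.map S f g l)) :
    ∃ (l' : N →ₗ[R] M) (s : R), s ∈ S ∧ l' ∘ₗ l = s • LinearMap.id ∧
      l ∘ₗ l' = s • LinearMap.id := by
  let e : M' ≃ₗ[R] N' := LinearEquiv.ofBijective _ hf
  obtain ⟨l', s₀, H⟩ := Module.FinitePresentation.exists_lift_of_isLocalizedModule S f
    (e.symm.toLinearMap.comp g)
  have H₁ : g ∘ₗ l ∘ₗ l' = g ∘ₗ (s₀ • LinearMap.id) := by
    ext a
    have h1 := LinearMap.congr_fun H a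
    simp only [LinearMap.coe_comp, Function.comp_apply, LinearMap.smul_apply,
      LinearEquiv.coe_coe, Submonoid.smul_def] at h1
    simp only [LinearMap.coe_comp, Function.comp_apply, LinearMap.smul_apply,
      LinearMap.id_coe, id_eq, Submonoid.smul_def]
    have h2 : g (l (l' a)) = e (f (l' a)) := by
      show _ = IsLocalizedModule.map S f g l (f (l' a))
      rw [IsLocalizedModule.map_apply]
    rw [h2, h1, map_smul, LinearEquiv.apply_symm_apply, map_smul]
  obtain ⟨s₁, hs₁⟩ := Module.Finite.exists_smul_of_comp_eq_of_isLocalizedModule S g _ _ H₁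
  have H₂ : f ∘ₗ l' ∘ₗ l = f ∘ₗ (s₀ • LinearMap.id) := by
    ext a
    have h1 := LinearMap.congr_fun H (l a)
    simp only [LinearMap.coe_comp, Function.comp_apply, LinearMap.smul_apply,
      LinearEquiv.coe_coe, Submonoid.smul_def] at h1
    simp only [LinearMap.coe_comp, Function.comp_apply, LinearMap.smul_apply,
      LinearMap.id_coe, id_eq, Submonoid.smul_def]
    have h2 : g (l a) = e (f a) := by
      show _ = IsLocalizedModule.map S f g l (f a)
      rw [IsLocalizedModule.map_apply]
    rw [h1, h2, LinearEquiv.symm_apply_apply, map_smul]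
  obtain ⟨s₂, hs₂⟩ := Module.Finite.exists_smul_of_comp_eq_of_isLocalizedModule S f _ _ H₂
  refine ⟨((s₁ : R) * (s₂ : R)) • l', (s₁ : R) * s₂ * s₀, (s₁ * s₂ * s₀).2, ?_, ?_⟩
  · ext a
    have h := LinearMap.congr_fun hs₂ a
    simp only [LinearMap.smul_apply, LinearMap.coe_comp, Function.comp_apply, LinearMap.id_coe,
      id_eq, Submonoid.smul_def] at h ⊢
    rw [mul_smul, h, ← mul_smul, ← mul_smul, mul_assoc]
  · ext a
    have h := LinearMap.congr_fun hs₁ a
    simp only [LinearMap.smul_apply, LinearMap.coe_comp, Function.comp_apply, LinearMap.id_coe,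
      id_eq, Submonoid.smul_def, map_smul] at h ⊢
    rw [mul_comm (s₁ : R) (s₂ : R), mul_smul, h, ← mul_smul, ← mul_smul, mul_assoc]

end Groth.Agent.Helper2.LocInv
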