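import Mathlib
import Groth.Agent.Helper3.StalkNbhd2
open AlgebraicGeometry CategoryTheory IsLocalRing

namespace Groth.Agent.Helper2.LocLift
universe u

variable {X Y : Scheme.{u}}

/-- a morphism from a local scheme hitting `x` factors through `Spec 𝒪_{X,x}`. -/
theorem exists_factor (B : Type u) [CommRing B] [IsLocalRing B] (α : Spec (.of B) ⟶ X) (x : X)
    (hα : α (closedPoint B) = x) :
    ∃ ψ : X.presheaf.stalk x ⟶ .of B, IsLocalHom ψ.hom ∧ α = Spec.map ψ ≫ X.fromSpecStalk x := by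
  subst hα
  exact ⟨Scheme.stalkClosedPointTo α, inferInstance,
    (Scheme.Spec_stalkClosedPointTo_fromSpecStalk α).symm⟩

theorem factor_unique {R : CommRingCat.{u}} (x : X) (ψ₁ ψ₂ : X.presheaf.stalk x ⟶ R)
    (h : Spec.map ψ₁ ≫ X.fromSpecStalk x = Spec.map ψ₂ ≫ X.fromSpecStalk x) : ψ₁ = ψ₂ := by
  have : Mono (X.fromSpecStalk x) := inferInstance
  exact Spec.map_injective ((cancel_mono _).mp h)

theorem closedPoint_of_surjective (B B' : Type u) [CommRing B] [CommRing B'] [IsLocalRing B]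
    [IsLocalRing B'] (φ : B' →+* B) (hφ : Function.Surjective φ) :
    Spec.map (CommRingCat.ofHom φ) (closedPoint B) = closedPoint B' := by
  have : IsLocalHom φ := hφ.isLocalHom
  exact IsLocalRing.comap_closedPoint φ

theorem unique_lift_of_formallyUnramified (f : X ⟶ Y) (x : X)
    (h : (f.stalkMap x).hom.FormallyUnramified)
    (B B' : Type u) [CommRing B] [CommRing B'] [IsLocalRing B] [IsLocalRing B'] (φ : B' →+* B)
    (hφ : Function.Surjective φ) (hker : RingHom.ker φ ^ 2 = ⊥)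
    (α : Spec (.of B) ⟶ X) (β : Spec (.of B') ⟶ Y) (hα : α (closedPoint B) = x)
    (γ₁ γ₂ : Spec (.of B') ⟶ X) (h1 : Spec.map (CommRingCat.ofHom φ) ≫ γ₁ = α) (h1' : γ₁ ≫ f = β)
    (h2 : Spec.map (CommRingCat.ofHom φ) ≫ γ₂ = α) (h2' : γ₂ ≫ f = β) : γ₁ = γ₂ := by
  have hc := closedPoint_of_surjective B B' φ hφ
  have hγ₁ : γ₁ (closedPoint B') = x := by
    rw [← hc, ← Scheme.Hom.comp_apply, h1, hα]
  have hγ₂ : γ₂ (closedPoint B') = x := by
    rw [← hc, ← Scheme.Hom.comp_apply, h2, hα]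
  obtain ⟨ψ₁, -, rfl⟩ := exists_factor B' γ₁ x hγ₁
  obtain ⟨ψ₂, -, rfl⟩ := exists_factor B' γ₂ x hγ₂
  -- agree after φ
  have e1 : ψ₁ ≫ CommRingCat.ofHom φ = ψ₂ ≫ CommRingCat.ofHom φ := by
    apply factor_unique x
    rw [Spec.map_comp, Spec.map_comp, Category.assoc, Category.assoc, h1, h2]
  -- agree on the base
  have e2 : f.stalkMap x ≫ ψ₁ = f.stalkMap x ≫ ψ₂ := by
    apply factor_unique (f x)
    rw [Spec.map_comp, Spec.map_comp, Category.assoc, Category.assoc,
      Scheme.SpecMap_stalkMap_fromSpecStalk, ← Category.assoc, ← Category.assoc, h1', h2']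
  algebraize [(f.stalkMap x).hom, ((f.stalkMap x) ≫ ψ₁).hom]
  let g₁ : X.presheaf.stalk x →ₐ[Y.presheaf.stalk (f x)] B' :=
    { ψ₁.hom with commutes' := fun r => rfl }
  have hcomm : ∀ r, ψ₂.hom ((f.stalkMap x).hom r) = ψ₁.hom ((f.stalkMap x).hom r) := by
    intro r
    have := congrArg (fun k => k.hom r) e2
    exact this.symm
  let g₂ : X.presheaf.stalk x →ₐ[Y.presheaf.stalk (f x)] B' :=
    { ψ₂.hom with commutes' := fun r => hcomm r }
  have key : g₁ = g₂ := by
    apply Algebra.FormallyUnramified.lift_unique_of_ringHom φ ⟨2, hker⟩ g₁ g₂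
    ext r
    have := congrArg (fun k => k.hom r) e1
    exact this
  have : ψ₁ = ψ₂ := by
    ext r
    exact congrArg (fun k => k r) key
  rw [this]


theorem isLocalRing_of_surjective_of_nilpotent {R S : Type*} [CommRing R] [CommRing S]
    [IsLocalRing S] (φ : R →+* S) (hφ : Function.Surjective φ)
    (hker : ∀ r ∈ RingHom.ker φ, IsNilpotent r) : IsLocalRing R := by
  have hunit : ∀ a : R, IsUnit (φ a) → IsUnit a := by
    intro a ha
    obtain ⟨b, hb⟩ := hφ (ha.unit⁻¹ : Sˣ)
    have h1 : a * b - 1 ∈ RingHom.ker φ := by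
      rw [RingHom.mem_ker, map_sub, map_mul, hb, map_one, IsUnit.mul_val_inv, sub_self]
    have h2 : IsUnit (1 + (a * b - 1)) := (hker _ h1).isUnit_one_add
    rw [add_sub_cancel] at h2
    exact isUnit_of_mul_isUnit_left h2
  have : Nontrivial R := φ.domain_nontrivial
  refine IsLocalRing.of_isUnit_or_isUnit_one_sub_self fun a => ?_
  rcases IsLocalRing.isUnit_or_isUnit_one_sub_self (φ a) with h | h
  · exact Or.inl (hunit a h)
  · refine Or.inr (hunit _ ?_)
    rwa [map_sub, map_one]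

section Gen

variable (f : X ⟶ Y) (x : X)

/-- the canonical test square attached to a local `A`-algebra `B'` with an `A`-algebra map to
`𝒪_{X,x}` (`A = 𝒪_{Y,f x}`). -/
theorem gen_square (B' : Type u) [CommRing B'] (ι : Y.presheaf.stalk (f x) →+* B')
    (φ : B' →+* X.presheaf.stalk x) (hφι : φ.comp ι = (f.stalkMap x).hom) :
    Spec.map (CommRingCat.ofHom φ) ≫ (Spec.map (CommRingCat.ofHom ι) ≫ Y.fromSpecStalk (f x)) =
      X.fromSpecStalk x ≫ f := by
  rw [← Category.assoc, ← Spec.map_comp, ← Scheme.SpecMap_stalkMap_fromSpecStalk]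
  congr 2
  ext r
  exact congrArg (fun k => k r) hφι

theorem gen_lift_of_section (B' : Type u) [CommRing B'] (ι : Y.presheaf.stalk (f x) →+* B')
    (φ : B' →+* X.presheaf.stalk x)
    (g : X.presheaf.stalk x →+* B') (hg : φ.comp g = RingHom.id _)
    (hgι : g.comp (f.stalkMap x).hom = ι) :
    Spec.map (CommRingCat.ofHom φ) ≫ (Spec.map (CommRingCat.ofHom g) ≫ X.fromSpecStalk x) =
        X.fromSpecStalk x ∧
      (Spec.map (CommRingCat.ofHom g) ≫ X.fromSpecStalk x) ≫ f =
        Spec.map (CommRingCat.ofHom ι) ≫ Y.fromSpecStalk (f x) := by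
  constructor
  · rw [← Category.assoc, ← Spec.map_comp]
    have : CommRingCat.ofHom g ≫ CommRingCat.ofHom φ = 𝟙 _ := by
      ext r
      exact congrArg (fun k => k r) hg
    rw [this, Spec.map_id, Category.id_comp]
  · rw [Category.assoc, ← Scheme.SpecMap_stalkMap_fromSpecStalk, ← Category.assoc, ← Spec.map_comp]
    congr 2
    ext r
    exact congrArg (fun k => k r) hgι

theorem gen_section_of_lift (B' : Type u) [CommRing B'] [IsLocalRing B']
    (ι : Y.presheaf.stalk (f x) →+* B')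
    (φ : B' →+* X.presheaf.stalk x) (hφ : Function.Surjective φ)
    (γ : Spec (CommRingCat.of B') ⟶ X)
    (h1 : Spec.map (CommRingCat.ofHom φ) ≫ γ = X.fromSpecStalk x)
    (h2 : γ ≫ f = Spec.map (CommRingCat.ofHom ι) ≫ Y.fromSpecStalk (f x)) :
    ∃ g : X.presheaf.stalk x →+* B', φ.comp g = RingHom.id _ ∧ g.comp (f.stalkMap x).hom = ι ∧
      γ = Spec.map (CommRingCat.ofHom g) ≫ X.fromSpecStalk x := by
  have hc := closedPoint_of_surjective (X.presheaf.stalk x) B' φ hφ
  have hγ : γ (closedPoint B') = x := by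
    rw [← hc, ← Scheme.Hom.comp_apply, h1]
    exact Scheme.fromSpecStalk_closedPoint
  obtain ⟨ψ, -, rfl⟩ := exists_factor B' γ x hγ
  refine ⟨ψ.hom, ?_, ?_, rfl⟩
  · have : ψ ≫ CommRingCat.ofHom φ = 𝟙 _ := by
      apply factor_unique x
      rw [Spec.map_comp, Category.assoc, h1, Spec.map_id]
      exact (Category.id_comp _).symm
    ext r
    exact congrArg (fun k => k.hom r) this
  · have : f.stalkMap x ≫ ψ = CommRingCat.ofHom ι := by
      apply factor_unique (f x)
      rw [Spec.map_comp, Category.assoc, Scheme.SpecMap_stalkMap_fromSpecStalk, ← Category.assoc, h2]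
    ext r
    exact congrArg (fun k => k.hom r) this

end Gen


open TensorProduct in
set_option maxHeartbeats 800000 in
theorem formallyUnramified_of_unique_lift (f : X ⟶ Y) (x : X)
    (H : ∀ (B B' : Type u) [CommRing B] [CommRing B'] [IsLocalRing B] [IsLocalRing B'] (φ : B' →+* B),
      Function.Surjective φ → RingHom.ker φ ^ 2 = ⊥ →
      ∀ (α : Spec (CommRingCat.of B) ⟶ X) (β : Spec (CommRingCat.of B') ⟶ Y),
        α (IsLocalRing.closedPoint B) = x → Spec.map (CommRingCat.ofHom φ) ≫ β = α ≫ f →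
        ∀ γ₁ γ₂ : Spec (CommRingCat.of B') ⟶ X,
          Spec.map (CommRingCat.ofHom φ) ≫ γ₁ = α → γ₁ ≫ f = β →
          Spec.map (CommRingCat.ofHom φ) ≫ γ₂ = α → γ₂ ≫ f = β → γ₁ = γ₂) :
    (f.stalkMap x).hom.FormallyUnramified := by
  algebraize [(f.stalkMap x).hom]
  change Algebra.FormallyUnramified (Y.presheaf.stalk (f x)) (X.presheaf.stalk x)
  constructor
  by_contra! h
  obtain ⟨f₁, f₂, e⟩ := (KaehlerDifferential.endEquiv (Y.presheaf.stalk (f x))
    (X.presheaf.stalk x)).injective.nontrivial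
  apply e
  ext1
  let π := (Algebra.TensorProduct.lmul' (Y.presheaf.stalk (f x)) (S := X.presheaf.stalk x))
  let φ := π.kerSquareLift
  have hφs : Function.Surjective φ.toRingHom := by
    intro o
    refine ⟨Ideal.Quotient.mk _ (o ⊗ₜ 1), ?_⟩
    change π.kerSquareLift (Ideal.Quotient.mk _ (o ⊗ₜ 1)) = o
    rw [AlgHom.kerSquareLift_mk]
    simp [π]
  have hker : RingHom.ker φ.toRingHom ^ 2 = ⊥ := by
    rw [AlgHom.ker_kerSquareLift, Ideal.cotangentIdeal_square]
  have hloc : IsLocalRing (((X.presheaf.stalk x) ⊗[Y.presheaf.stalk (f x)] (X.presheaf.stalk x)) ⧸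
      RingHom.ker π.toRingHom ^ 2) := by
    refine isLocalRing_of_surjective_of_nilpotent φ.toRingHom hφs fun r hr => ⟨2, ?_⟩
    have : r ^ 2 ∈ RingHom.ker φ.toRingHom ^ 2 := Ideal.pow_mem_pow hr 2
    rwa [hker] at this
  let ι := algebraMap (Y.presheaf.stalk (f x))
    (((X.presheaf.stalk x) ⊗[Y.presheaf.stalk (f x)] (X.presheaf.stalk x)) ⧸
      RingHom.ker π.toRingHom ^ 2)
  have hφι : φ.toRingHom.comp ι = (f.stalkMap x).hom := by
    ext r
    exact φ.commutes r
  have hsq := gen_square f x _ ι φ.toRingHom hφι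
  have l1 := gen_lift_of_section f x _ ι φ.toRingHom f₁.1.toRingHom
    (by ext r; exact congrArg (fun k => k r) f₁.2) (by ext r; exact f₁.1.commutes r)
  have l2 := gen_lift_of_section f x _ ι φ.toRingHom f₂.1.toRingHom
    (by ext r; exact congrArg (fun k => k r) f₂.2) (by ext r; exact f₂.1.commutes r)
  have key := H (X.presheaf.stalk x) _ φ.toRingHom hφs hker (X.fromSpecStalk x)
    (Spec.map (CommRingCat.ofHom ι) ≫ Y.fromSpecStalk (f x)) Scheme.fromSpecStalk_closedPoint hsq
    _ _ l1.1 l1.2 l2.1 l2.2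
  have := factor_unique x _ _ key
  ext r
  exact congrArg (fun k => k.hom r) this

end Groth.Agent.Helper2.LocLift
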