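import Mathlib
import Groth.Agent.Helper2.LocLift
open AlgebraicGeometry CategoryTheory IsLocalRing

namespace Groth.Agent.Helper2.LocLift2
universe u

/-- A local `A`-algebra `O` is formally smooth as soon as every square-zero surjection of
`A`-algebras `B' → O` with `B'` local has an `A`-algebra section. -/
theorem formallySmooth_of_local_sections (A O : Type u) [CommRing A] [CommRing O] [Algebra A O]
    [IsLocalRing O]
    (H : ∀ (B' : Type u) [CommRing B'] [Algebra A B'] [IsLocalRing B'] (φ : B' →ₐ[A] O),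
      Function.Surjective φ → RingHom.ker φ.toRingHom ^ 2 = ⊥ →
      ∃ g : O →ₐ[A] B', φ.comp g = AlgHom.id A O) :
    Algebra.FormallySmooth A O := by
  let P₀ := MvPolynomial O A
  let π₀ : P₀ →ₐ[A] O := MvPolynomial.aeval id
  have hπ₀ : Function.Surjective π₀ := fun o => ⟨MvPolynomial.X o, by rw [MvPolynomial.aeval_X]; rfl⟩
  let Q : Ideal P₀ := (maximalIdeal O).comap π₀.toRingHom
  have hQ : Q.IsPrime := Ideal.comap_isPrime _ _
  let P := Localization.AtPrime Q
  have hunit : ∀ y : Q.primeCompl, IsUnit (π₀ y) := by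
    intro y
    have : (y : P₀) ∉ Q := y.2
    by_contra hn
    exact this ((mem_maximalIdeal _).mpr hn)
  let π : P →ₐ[A] O := IsLocalization.liftAlgHom (M := Q.primeCompl) (f := π₀) hunit
  have hπ : Function.Surjective π := by
    intro o
    obtain ⟨p, rfl⟩ := hπ₀ o
    refine ⟨algebraMap P₀ P p, ?_⟩
    simp [π]
  have hfs0 : Algebra.FormallySmooth P₀ P := Algebra.FormallySmooth.of_isLocalization Q.primeCompl
  have hfs : Algebra.FormallySmooth A P := Algebra.FormallySmooth.comp A P₀ P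
  rw [Algebra.FormallySmooth.iff_split_surjection π hπ]
  have hsurj : Function.Surjective π.kerSquareLift := by
    intro o
    obtain ⟨p, rfl⟩ := hπ o
    exact ⟨Ideal.Quotient.mk _ p, AlgHom.kerSquareLift_mk _ _⟩
  have hnt : Nontrivial (P ⧸ RingHom.ker π.toRingHom ^ 2) :=
    π.kerSquareLift.toRingHom.domain_nontrivial
  have hloc : IsLocalRing (P ⧸ RingHom.ker π.toRingHom ^ 2) :=
    IsLocalRing.of_surjective' (Ideal.Quotient.mk _) Ideal.Quotient.mk_surjective
  exact H _ π.kerSquareLift hsurj (by rw [AlgHom.ker_kerSquareLift, Ideal.cotangentIdeal_square])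


open Groth.Agent.Helper2.LocLift

variable {X Y : Scheme.{u}}

theorem formallySmooth_of_exists_lift (f : X ⟶ Y) (x : X)
    (H : ∀ (B B' : Type u) [CommRing B] [CommRing B'] [IsLocalRing B] [IsLocalRing B'] (φ : B' →+* B),
      Function.Surjective φ → RingHom.ker φ ^ 2 = ⊥ →
      ∀ (α : Spec (CommRingCat.of B) ⟶ X) (β : Spec (CommRingCat.of B') ⟶ Y),
        α (IsLocalRing.closedPoint B) = x → Spec.map (CommRingCat.ofHom φ) ≫ β = α ≫ f →
        ∃ γ : Spec (CommRingCat.of B') ⟶ X, Spec.map (CommRingCat.ofHom φ) ≫ γ = α ∧ γ ≫ f = β) :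
    (f.stalkMap x).hom.FormallySmooth := by
  algebraize [(f.stalkMap x).hom]
  change Algebra.FormallySmooth (Y.presheaf.stalk (f x)) (X.presheaf.stalk x)
  apply formallySmooth_of_local_sections
  intro B' _ _ _ φ hφ hker
  have hφι : φ.toRingHom.comp (algebraMap (Y.presheaf.stalk (f x)) B') = (f.stalkMap x).hom := by
    ext r
    exact φ.commutes r
  have hsq := gen_square f x B' (algebraMap (Y.presheaf.stalk (f x)) B') φ.toRingHom hφι
  obtain ⟨γ, h1, h2⟩ := H (X.presheaf.stalk x) B' φ.toRingHom hφ hker (X.fromSpecStalk x)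
    (Spec.map (CommRingCat.ofHom (algebraMap (Y.presheaf.stalk (f x)) B')) ≫ Y.fromSpecStalk (f x))
    Scheme.fromSpecStalk_closedPoint hsq
  obtain ⟨g, hg1, hg2, -⟩ := gen_section_of_lift f x B' (algebraMap (Y.presheaf.stalk (f x)) B') φ.toRingHom hφ γ h1 h2
  refine ⟨{ g with commutes' := fun r => congrArg (fun k => k r) hg2 }, ?_⟩
  ext r
  exact congrArg (fun k => k r) hg1

theorem exists_lift_of_formallySmooth (f : X ⟶ Y) (x : X)
    (h : (f.stalkMap x).hom.FormallySmooth)
    (B B' : Type u) [CommRing B] [CommRing B'] [IsLocalRing B] [IsLocalRing B'] (φ : B' →+* B)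
    (hφ : Function.Surjective φ) (hker : RingHom.ker φ ^ 2 = ⊥)
    (α : Spec (.of B) ⟶ X) (β : Spec (.of B') ⟶ Y) (hα : α (closedPoint B) = x)
    (hsq : Spec.map (CommRingCat.ofHom φ) ≫ β = α ≫ f) :
    ∃ γ : Spec (CommRingCat.of B') ⟶ X, Spec.map (CommRingCat.ofHom φ) ≫ γ = α ∧ γ ≫ f = β := by
  have hc := closedPoint_of_surjective B B' φ hφ
  have hβ : β (closedPoint B') = f x := by
    rw [← hc, ← Scheme.Hom.comp_apply, hsq, Scheme.Hom.comp_apply, hα]
  obtain ⟨ψ₀, -, rfl⟩ := exists_factor B α x hα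
  obtain ⟨β', -, rfl⟩ := exists_factor B' β (f x) hβ
  have hcompat : f.stalkMap x ≫ ψ₀ = β' ≫ CommRingCat.ofHom φ := by
    apply factor_unique (f x)
    rw [Spec.map_comp, Spec.map_comp, Category.assoc, Category.assoc,
      Scheme.SpecMap_stalkMap_fromSpecStalk, hsq, Category.assoc]
  algebraize [(f.stalkMap x).hom, β'.hom, (φ.comp β'.hom)]
  have : Algebra.FormallySmooth (Y.presheaf.stalk (f x)) (X.presheaf.stalk x) := h
  let ψ₀' : X.presheaf.stalk x →ₐ[Y.presheaf.stalk (f x)] B :=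
    { ψ₀.hom with commutes' := fun r => congrArg (fun k => k.hom r) hcompat }
  let φ' : B' →ₐ[Y.presheaf.stalk (f x)] B := { φ with commutes' := fun r => rfl }
  let ψ := Algebra.FormallySmooth.liftOfSurjective ψ₀' φ' hφ ⟨2, hker⟩
  have hψ : φ'.comp ψ = ψ₀' := Algebra.FormallySmooth.comp_liftOfSurjective ψ₀' φ' hφ ⟨2, hker⟩
  refine ⟨Spec.map (CommRingCat.ofHom ψ.toRingHom) ≫ X.fromSpecStalk x, ?_, ?_⟩
  · rw [← Category.assoc, ← Spec.map_comp]
    congr 2
    ext r
    exact congrArg (fun k => k r) hψ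
  · rw [Category.assoc, ← Scheme.SpecMap_stalkMap_fromSpecStalk, ← Category.assoc, ← Spec.map_comp]
    congr 2
    ext r
    exact ψ.commutes r

end Groth.Agent.Helper2.LocLift2
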