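import Mathlib
import Groth.Prelude
import Groth.Agent.Helper2.InjFlatFin
import Groth.Agent.Helper2.FibReg

set_option autoImplicit false
open Function IsLocalRing Pointwise
universe u

namespace Groth.Agent.Helper2.LocReg

open RingTheory.Sequence

/-- local form: a sequence which is weakly regular on the closed fibre of a flat finitely
presented module is weakly regular, with flat successive quotients. -/
theorem weaklyRegular_and_flat {R S : Type u} [CommRing R] [CommRing S] [IsLocalRing R]
    [IsLocalRing S] [Algebra R S] [IsLocalHom (algebraMap R S)]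
    (hS : CAlgX.IsEssFinitePresentation R S) (gs : List S) :
    ∀ (N : Type u) [AddCommGroup N] [Module S N] [Module R N] [IsScalarTower R S N]
      [Module.FinitePresentation S N] [Module.Flat R N],
      IsWeaklyRegular (N ⧸ (maximalIdeal R).map (algebraMap R S) • (⊤ : Submodule S N)) gs →
      IsWeaklyRegular N gs ∧
        ∀ i ≤ gs.length, Module.Flat R (N ⧸ Ideal.ofList (gs.take i) • (⊤ : Submodule S N)) := by
  induction gs with
  | nil =>
    intro N _ _ _ _ _ _ _
    refine ⟨IsWeaklyRegular.nil S N, ?_⟩
    intro i _
    have h0 : Ideal.ofList (([] : List S).take i) • (⊤ : Submodule S N) = ⊥ := by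
      rw [List.take_nil, Ideal.ofList_nil, Submodule.bot_smul]
    exact Module.Flat.of_linearEquiv
      ((Submodule.quotEquivOfEqBot _ h0).restrictScalars R)
  | cons b rest ih =>
    intro N _ _ _ _ _ _ H
    rw [isWeaklyRegular_cons_iff] at H
    obtain ⟨hb, hrest⟩ := H
    set J := (maximalIdeal R).map (algebraMap R S) with hJ
    let u : N →ₗ[S] N := LinearMap.lsmul S N b
    have hu : ∀ x : N, u x ∈ J • (⊤ : Submodule S N) → x ∈ J • (⊤ : Submodule S N) :=
      (Groth.Agent.Helper2.FibReg.isSMulRegular_quot_iff J b).1 hb
    obtain ⟨hinj, hfl⟩ := Groth.Agent.Helper2.InjFlatFin.s2107 hS u hu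
    have hrange : LinearMap.range u = b • (⊤ : Submodule S N) := by
      ext x
      rw [LinearMap.mem_range, Submodule.mem_smul_pointwise_iff_exists]
      constructor
      · rintro ⟨y, rfl⟩; exact ⟨y, trivial, rfl⟩
      · rintro ⟨y, -, rfl⟩; exact ⟨y, rfl⟩
    haveI : Module.Flat R (QuotSMulTop b N) :=
      Module.Flat.of_linearEquiv
        ((Submodule.quotEquivOfEq _ _ hrange).symm.restrictScalars R)
    haveI : Module.FinitePresentation S (QuotSMulTop b N) :=
      Module.finitePresentation_of_surjective (b • (⊤ : Submodule S N)).mkQ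
        (Submodule.mkQ_surjective _) (by
          rw [Submodule.ker_mkQ, ← hrange, LinearMap.range_eq_map]
          exact (Module.Finite.fg_top (R := S) (M := N)).map u)
    have e := Groth.Agent.Helper2.FibReg.quotEquiv J b (b • (⊤ : Submodule S N)).mkQ
      (Submodule.mkQ_surjective _) (Submodule.ker_mkQ _)
    have hrest' : IsWeaklyRegular
        (QuotSMulTop b N ⧸ J • (⊤ : Submodule S (QuotSMulTop b N))) rest :=
      (e.isWeaklyRegular_congr rest).2 hrest
    obtain ⟨h1, h2⟩ := ih (QuotSMulTop b N) hrest'
    refine ⟨(isWeaklyRegular_cons_iff N b rest).2 ⟨fun x y hxy => hinj hxy, h1⟩, ?_⟩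
    intro i hi
    cases i with
    | zero =>
      have h0 : Ideal.ofList ((b :: rest).take 0) • (⊤ : Submodule S N) = ⊥ := by
        rw [List.take_zero, Ideal.ofList_nil, Submodule.bot_smul]
      exact Module.Flat.of_linearEquiv
        ((Submodule.quotEquivOfEqBot _ h0).restrictScalars R)
    | succ j =>
      have hj : j ≤ rest.length := by simpa using hi
      haveI := h2 j hj
      rw [List.take_succ_cons]
      exact Module.Flat.of_linearEquiv
        ((Submodule.quotOfListConsSMulTopEquivQuotSMulTopInner N b (rest.take j)).restrictScalars R)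

end Groth.Agent.Helper2.LocReg
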