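import Mathlib
import Groth.Prelude
import Groth.Agent.Helper2.InjFlatFin
import Groth.Agent.Helper2.EssFP
import Groth.Agent.Helper2.LocReg

set_option autoImplicit false
open Function TensorProduct IsLocalRing Pointwise
universe u

namespace Groth.Agent.Helper2.LocRegG

open RingTheory.Sequence

variable {A B M : Type u} [CommRing A] [CommRing B] [Algebra A B]
  [AddCommGroup M] [Module B M] [Module A M] [IsScalarTower A B M]

/-- the map `m ↦ m ⊗ 1` into the fibre module, `B`-linear. -/
noncomputable def toFib (p : Ideal A) [p.IsPrime] : M →ₗ[B] M ⊗[A] p.ResidueField where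
  toFun m := m ⊗ₜ 1
  map_add' x y := TensorProduct.add_tmul x y 1
  map_smul' _ _ := rfl

/-- elements of `p` kill the fibre module. -/
theorem smul_fib_eq_zero (p : Ideal A) [p.IsPrime] (a : A) (ha : a ∈ p)
    (z : M ⊗[A] p.ResidueField) : (algebraMap A B a) • z = 0 := by
  induction z using TensorProduct.induction_on with
  | zero => exact smul_zero _
  | tmul m k =>
    change (algebraMap A B a • m) ⊗ₜ[A] k = 0
    rw [algebraMap_smul, TensorProduct.smul_tmul]
    have : a • k = 0 := by
      rw [Algebra.smul_def, (Ideal.algebraMap_residueField_eq_zero).2 ha, zero_mul]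
    rw [this, TensorProduct.tmul_zero]
  | add x y hx hy => rw [smul_add, hx, hy, add_zero]

theorem main [Algebra.FinitePresentation A B] [Module.FinitePresentation B M]
    (q : Ideal B) [q.IsPrime] (p : Ideal A) [p.IsPrime] [q.LiesOver p]
    (g : List B) (hg : ∀ b ∈ g, b ∈ q)
    (hflat : Module.Flat A (LocalizedModule q.primeCompl M))
    (hreg : IsRegular (LocalizedModule q.primeCompl (M ⊗[A] p.ResidueField)) g) :
    IsRegular (LocalizedModule q.primeCompl M) g ∧
      ∀ i ≤ g.length, Module.Flat A (LocalizedModule q.primeCompl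
        (M ⧸ (Ideal.span {b | b ∈ g.take i} • (⊤ : Submodule B M)))) := by
  letI algRS := Localization.AtPrime.algebraOfLiesOver p q
  set R := Localization.AtPrime p with hR
  set S := Localization.AtPrime q with hS
  haveI : IsLocalHom (algebraMap R S) :=
    Localization.isLocalHom_localRingHom p q (algebraMap A B) Ideal.LiesOver.over
  have hpq : ∀ a : A, a ∉ p → algebraMap A B a ∉ q := by
    intro a ha hmem
    apply ha
    rw [Ideal.LiesOver.over (p := p) (P := q)]
    exact hmem
  have hess : CAlgX.IsEssFinitePresentation R S :=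
    Groth.Agent.Helper2.EssFP.essFP_of_atPrime p q hpq R S
  set Nq := LocalizedModule q.primeCompl M with hNq
  set L := LocalizedModule q.primeCompl (M ⊗[A] p.ResidueField) with hL
  letI : Module R Nq := Module.compHom Nq (algebraMap R S)
  haveI : IsScalarTower R S Nq := IsScalarTower.of_algebraMap_smul (fun _ _ => rfl)
  haveI : IsScalarTower A R Nq := by
    refine IsScalarTower.of_algebraMap_smul (fun a x => ?_)
    change algebraMap R S (algebraMap A R a) • x = a • x
    rw [← IsScalarTower.algebraMap_apply A R S, algebraMap_smul]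
  haveI : Module.Flat R Nq := (Module.flat_iff_of_isLocalization R p.primeCompl Nq).2 hflat
  let ψ : Nq →ₗ[S] L :=
    (LocalizedModule.map q.primeCompl (toFib (B := B) (M := M) p)).extendScalarsOfIsLocalization
      q.primeCompl S
  have hψmk : ∀ (m : M) (s : q.primeCompl),
      ψ (LocalizedModule.mk m s) = LocalizedModule.mk (m ⊗ₜ[A] (1 : p.ResidueField)) s := by
    intro m s
    change LocalizedModule.map q.primeCompl (toFib p) (LocalizedModule.mk m s) = _
    rw [LocalizedModule.map_mk]
    rfl
  -- surjectivity of ψ
  have hψsurj : Surjective ψ := by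
    intro y
    induction y using LocalizedModule.induction_on with
    | h z s =>
      have key : ∀ z : M ⊗[A] p.ResidueField, ∃ x : Nq, ψ x = LocalizedModule.mk z 1 := by
        intro z
        induction z using TensorProduct.induction_on with
        | zero => exact ⟨0, by rw [map_zero, LocalizedModule.zero_mk]⟩
        | tmul m k =>
          obtain ⟨r, rfl⟩ := IsLocalRing.residue_surjective (R := R) k
          obtain ⟨a', a, rfl⟩ := IsLocalization.exists_mk'_eq p.primeCompl r
          have haq : algebraMap A B a ∈ q.primeCompl := hpq a a.2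
          refine ⟨LocalizedModule.mk (a' • m) ⟨algebraMap A B a, haq⟩, ?_⟩
          rw [hψmk, LocalizedModule.mk_eq]
          refine ⟨1, ?_⟩
          simp only [one_smul, Submonoid.smul_def]
          change (a' • m) ⊗ₜ[A] (1 : p.ResidueField) = (algebraMap A B a • m) ⊗ₜ[A] _
          rw [algebraMap_smul, TensorProduct.smul_tmul, TensorProduct.smul_tmul]
          congr 1
          change a' • (1 : p.ResidueField) = (a : A) • IsLocalRing.residue R (IsLocalization.mk' R a' a)
          rw [Algebra.smul_def, mul_one, Algebra.smul_def]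
          change _ = IsLocalRing.residue R (algebraMap A R a) * _
          rw [← map_mul, IsLocalization.mk'_spec']
          rfl
        | add x y hx hy =>
          obtain ⟨x', hx'⟩ := hx
          obtain ⟨y', hy'⟩ := hy
          refine ⟨x' + y', ?_⟩
          rw [map_add, hx', hy', LocalizedModule.mk_add_mk, one_smul, one_smul, one_mul]
      obtain ⟨x, hx⟩ := key z
      refine ⟨(Localization.mk (1 : B) s : S) • x, ?_⟩
      rw [map_smul, hx]
      have h3 := LocalizedModule.mk_smul_mk (1 : B) z s 1
      rw [one_smul, mul_one] at h3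
      exact h3
  set J := (maximalIdeal R).map (algebraMap R S) with hJ
  have hJp : J = p.map (algebraMap A S) := by
    rw [hJ, ← Localization.AtPrime.map_eq_maximalIdeal, Ideal.map_map,
      ← IsScalarTower.algebraMap_eq A R S]
  -- J kills L
  have hJL : ∀ r ∈ J, ∀ y : L, r • y = 0 := by
    have h1 : J ≤ Module.annihilator S L := by
      rw [hJp, Ideal.map_le_iff_le_comap]
      intro a ha
      rw [Ideal.mem_comap, Module.mem_annihilator]
      intro y
      induction y using LocalizedModule.induction_on with
      | h z s =>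
        rw [IsScalarTower.algebraMap_apply A B S, algebraMap_smul, LocalizedModule.smul'_mk,
          smul_fib_eq_zero p a ha, LocalizedModule.zero_mk]
    intro r hr y
    exact Module.mem_annihilator.1 (h1 hr) y
  have hker1 : J • (⊤ : Submodule S Nq) ≤ LinearMap.ker ψ := by
    rw [Submodule.smul_le]
    intro r hr n _
    rw [LinearMap.mem_ker, map_smul, hJL r hr]
  -- the other inclusion
  let fI : (maximalIdeal R) →ₗ[A] R := (Submodule.subtype (maximalIdeal R)).restrictScalars A
  let gres : R →ₗ[A] p.ResidueField := (Algebra.linearMap R p.ResidueField).restrictScalars A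
  have hfg : Function.Exact fI gres := by
    intro r
    change algebraMap R p.ResidueField r = 0 ↔ r ∈ Set.range fI
    constructor
    · intro h
      exact ⟨⟨r, (IsLocalRing.residue_eq_zero_iff r).1 h⟩, rfl⟩
    · rintro ⟨r', rfl⟩
      exact (IsLocalRing.residue_eq_zero_iff _).2 r'.2
  have hgs : Surjective gres := IsLocalRing.residue_surjective
  have hex := lTensor_exact M hfg hgs
  let ι : M →ₗ[B] Nq := LocalizedModule.mkLinearMap q.primeCompl M
  let μ : M ⊗[A] R →ₗ[A] Nq :=
    TensorProduct.lift (LinearMap.mk₂ A (fun (m : M) (r : R) => r • ι m)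
      (fun m₁ m₂ r => by rw [map_add, smul_add])
      (fun a m r => by
        rw [LinearMap.map_smul_of_tower, smul_comm])
      (fun m r₁ r₂ => add_smul r₁ r₂ _)
      (fun a m r => smul_assoc a r _))
  have hμ : ∀ z : M ⊗[A] (maximalIdeal R), μ (LinearMap.lTensor M fI z) ∈
      ((maximalIdeal R) • (⊤ : Submodule R Nq)) := by
    intro z
    induction z using TensorProduct.induction_on with
    | zero => rw [map_zero, map_zero]; exact Submodule.zero_mem _
    | tmul m r =>
      rw [LinearMap.lTensor_tmul]
      change (r : R) • ι m ∈ _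
      exact Submodule.smul_mem_smul r.2 Submodule.mem_top
    | add x y hx hy => rw [map_add, map_add]; exact Submodule.add_mem _ hx hy
  have hker2 : LinearMap.ker ψ ≤ J • (⊤ : Submodule S Nq) := by
    intro x hx
    rw [LinearMap.mem_ker] at hx
    induction x using LocalizedModule.induction_on with
    | h m s =>
      rw [hψmk, ← LocalizedModule.zero_mk (1 : q.primeCompl), LocalizedModule.mk_eq] at hx
      obtain ⟨u, hu⟩ := hx
      rw [smul_zero, smul_zero, one_smul] at hu
      have hu' : ((u : B) • m) ⊗ₜ[A] (1 : p.ResidueField) = 0 := hu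
      have h1 : LinearMap.lTensor M gres (((u : B) • m) ⊗ₜ[A] (1 : R)) = 0 := by
        rw [LinearMap.lTensor_tmul]
        change ((u : B) • m) ⊗ₜ[A] (algebraMap R p.ResidueField 1) = 0
        rw [map_one, hu']
      obtain ⟨z, hz⟩ := (hex _).1 h1
      have h2 := hμ z
      rw [hz] at h2
      have h3 : μ (((u : B) • m) ⊗ₜ[A] (1 : R)) = LocalizedModule.mk ((u : B) • m) 1 := by
        change (1 : R) • ι ((u : B) • m) = _
        rw [one_smul]
        rfl
      rw [h3] at h2
      have h4 : (LocalizedModule.mk ((u : B) • m) 1 : Nq) ∈ J • (⊤ : Submodule S Nq) := by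
        refine Submodule.smul_induction_on h2 ?_ ?_
        · intro a ha n _
          rw [← algebraMap_smul S a n]
          exact Submodule.smul_mem_smul (Ideal.mem_map_of_mem _ ha) Submodule.mem_top
        · intro x y hx hy; exact add_mem hx hy
      have h5 : (LocalizedModule.mk m s : Nq) =
          (Localization.mk (1 : B) (u * s) : S) • (LocalizedModule.mk ((u : B) • m) 1 : Nq) := by
        rw [LocalizedModule.mk_smul_mk, one_smul, mul_one]
        exact (LocalizedModule.mk_cancel_common_left u s m).symm
      rw [h5]
      exact Submodule.smul_mem _ _ h4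
  have hkerψ : LinearMap.ker ψ = J • (⊤ : Submodule S Nq) := le_antisymm hker2 hker1
  let e : (Nq ⧸ J • (⊤ : Submodule S Nq)) ≃ₗ[S] L :=
    (Submodule.quotEquivOfEq _ _ hkerψ.symm) ≪≫ₗ ψ.quotKerEquivOfSurjective hψsurj
  set gs := g.map (algebraMap B S) with hgs
  have hcongr : ∀ (X : Type u) [AddCommGroup X] [Module B X] [Module S X] [IsScalarTower B S X],
      IsRegular X g ↔ IsRegular X gs := by
    intro X _ _ _ _
    exact (AddEquiv.refl X).isRegular_congr (List.forall₂_map_right_iff.mpr
      (List.forall₂_same.mpr fun r _ x => (algebraMap_smul S r x).symm))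
  have hregS : IsRegular L gs := (hcongr L).1 hreg
  have hregQ : IsRegular (Nq ⧸ J • (⊤ : Submodule S Nq)) gs := (e.isRegular_congr gs).2 hregS
  obtain ⟨hw, hfl⟩ := Groth.Agent.Helper2.LocReg.weaklyRegular_and_flat hess gs Nq
    hregQ.toIsWeaklyRegular
  haveI : Nontrivial L := hreg.nontrivial
  haveI : Nontrivial Nq := hψsurj.nontrivial
  have hmem : ∀ r ∈ gs, r ∈ maximalIdeal S := by
    intro r hr
    rw [hgs, List.mem_map] at hr
    obtain ⟨b, hb, rfl⟩ := hr
    exact (IsLocalization.AtPrime.to_map_mem_maximal_iff S q b).2 (hg b hb)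
  have hregN : IsRegular Nq gs :=
    (IsLocalRing.isRegular_iff_isWeaklyRegular_of_subset_maximalIdeal hmem).2 hw
  refine ⟨(hcongr Nq).2 hregN, ?_⟩
  intro i hi
  have hi' : i ≤ gs.length := by rw [hgs, List.length_map]; exact hi
  haveI := hfl i hi'
  haveI : Module.Flat A (Nq ⧸ Ideal.ofList (gs.take i) • (⊤ : Submodule S Nq)) :=
    Module.Flat.trans A R _
  set P : Submodule B M := Ideal.span {b | b ∈ g.take i} • (⊤ : Submodule B M) with hP
  have hP' : P.localized' S q.primeCompl ι = Ideal.ofList (gs.take i) • (⊤ : Submodule S Nq) := by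
    rw [hP, Submodule.localized'_smul, Submodule.localized'_top, Ideal.localized'_eq_map,
      hgs, ← List.map_take, ← Ideal.map_ofList]
  let e1 : LocalizedModule q.primeCompl (M ⧸ P) ≃ₗ[B] Nq ⧸ P.localized' S q.primeCompl ι :=
    IsLocalizedModule.iso q.primeCompl (P.toLocalizedQuotient' S q.primeCompl ι)
  let e2 : (Nq ⧸ P.localized' S q.primeCompl ι) ≃ₗ[S]
      Nq ⧸ Ideal.ofList (gs.take i) • (⊤ : Submodule S Nq) :=
    Submodule.quotEquivOfEq _ _ hP'
  exact Module.Flat.of_linearEquiv ((e1.restrictScalars A) ≪≫ₗ (e2.restrictScalars A))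

end Groth.Agent.Helper2.LocRegG
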