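import Mathlib
import Groth.Prelude

set_option autoImplicit false
set_option linter.style.haveILetI false
set_option linter.unusedSectionVars false
set_option linter.dupNamespace false

namespace Groth.Agent.Helper2.LocRetr

universe u

open TensorProduct

section Away

variable {A B : Type u} [CommRing A] [CommRing B] [Algebra A B] (S : Submonoid A)
  [IsLocalization S B]

/-- the canonical map `A_s → S⁻¹A` for `s ∈ S` -/
noncomputable def awayTo (s : A) (hs : s ∈ S) : Localization.Away s →ₐ[A] B :=
  IsLocalization.Away.liftAlgHom s (f := Algebra.ofId A B)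
    (IsLocalization.map_units B (⟨s, hs⟩ : S))

theorem awayTo_algebraMap (s : A) (hs : s ∈ S) (a : A) :
    awayTo (B := B) S s hs (algebraMap A (Localization.Away s) a) = algebraMap A B a :=
  (awayTo (B := B) S s hs).commutes a

/-- an element of `A_s` dying in `S⁻¹A` is killed by an element of `S` -/
theorem exists_mul_eq_zero (s : A) (hs : s ∈ S) (x : Localization.Away s)
    (hx : awayTo (B := B) S s hs x = 0) :
    ∃ t ∈ S, algebraMap A (Localization.Away s) t * x = 0 := by
  obtain ⟨c, y, rfl⟩ := IsLocalization.exists_mk'_eq (Submonoid.powers s) x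
  have h1 : awayTo (B := B) S s hs (IsLocalization.mk' (Localization.Away s) c y) *
      algebraMap A B (y : A) = algebraMap A B c := by
    rw [← awayTo_algebraMap S s hs (y : A), ← map_mul, ← awayTo_algebraMap S s hs c]
    congr 1
    exact IsLocalization.mk'_spec (Localization.Away s) c y
  rw [hx, zero_mul] at h1
  obtain ⟨t, ht⟩ := (IsLocalization.map_eq_zero_iff S B c).1 h1.symm
  refine ⟨t.1, t.2, ?_⟩
  rw [← IsLocalization.mk'_one (M := Submonoid.powers s) (Localization.Away s) (t : A),
    ← IsLocalization.mk'_mul, ht, IsLocalization.mk'_zero]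

/-- transition maps `A_s → A_{s'}` for `s ∣ s'` -/
noncomputable def awayTrans (s s' : A) (h : s ∣ s') :
    Localization.Away s →ₐ[A] Localization.Away s' :=
  IsLocalization.Away.liftAlgHom s (f := Algebra.ofId A (Localization.Away s'))
    (isUnit_of_dvd_unit (map_dvd (algebraMap A (Localization.Away s')) h)
      (IsLocalization.Away.algebraMap_isUnit s'))

theorem awayTo_comp_awayTrans (s s' : A) (hs : s ∈ S) (hs' : s' ∈ S) (h : s ∣ s') :
    (awayTo (B := B) S s' hs').comp (awayTrans s s' h) = awayTo (B := B) S s hs := by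
  apply AlgHom.coe_ringHom_injective
  apply IsLocalization.ringHom_ext (Submonoid.powers s)
  ext a
  simp

/-- finitely presented algebras map to a localization through some `A_s` -/
theorem exists_factor_away (P : Type u) [CommRing P] [Algebra A P]
    [Algebra.FinitePresentation A P] (m : P →ₐ[A] B) :
    ∃ (s : A) (hs : s ∈ S) (k : P →ₐ[A] Localization.Away s),
      (awayTo (B := B) S s hs).comp k = m := by
  classical
  obtain ⟨n, f, hfsurj, hker⟩ := Algebra.FinitePresentation.out (R := A) (A := P)
  obtain ⟨G, hG⟩ := hker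
  -- common denominator
  obtain ⟨s, hsint⟩ := IsLocalization.exist_integer_multiples_of_finite S
    (fun i : Fin n => m (f (MvPolynomial.X i)))
  choose a ha using hsint
  let k₀ : MvPolynomial (Fin n) A →ₐ[A] Localization.Away (s : A) :=
    MvPolynomial.aeval fun i => IsLocalization.mk' (Localization.Away (s : A)) (a i)
      (⟨s, Submonoid.mem_powers _⟩ : Submonoid.powers (s : A))
  have hk₀ : (awayTo (B := B) S s s.2).comp k₀ = m.comp f := by
    apply MvPolynomial.algHom_ext
    intro i
    simp only [AlgHom.comp_apply, k₀, MvPolynomial.aeval_X]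
    have h1 : awayTo (B := B) S s s.2 (IsLocalization.mk' (Localization.Away (s : A)) (a i)
        (⟨s, Submonoid.mem_powers _⟩ : Submonoid.powers (s : A))) * algebraMap A B s =
        algebraMap A B (a i) := by
      rw [← awayTo_algebraMap S s s.2 (s : A), ← map_mul, ← awayTo_algebraMap S s s.2 (a i)]
      congr 1
      exact IsLocalization.mk'_spec (Localization.Away (s : A)) (a i) ⟨s, Submonoid.mem_powers _⟩
    have h2 : IsUnit (algebraMap A B s) := IsLocalization.map_units B s
    apply h2.mul_right_cancel
    rw [h1, ha i, Algebra.smul_def, mul_comm]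
  -- kill the relations
  have hkill : ∀ r ∈ G, ∃ t ∈ S, algebraMap A (Localization.Away (s : A)) t * k₀ r = 0 := by
    intro r hr
    apply exists_mul_eq_zero (B := B) S s s.2
    rw [← AlgHom.comp_apply, hk₀, AlgHom.comp_apply]
    have : r ∈ RingHom.ker f.toRingHom := hG ▸ Ideal.subset_span hr
    have h0 : f r = 0 := this
    rw [h0, map_zero]
  choose! t htS ht using hkill
  let s' : A := s * ∏ r ∈ G, t r
  have hs' : s' ∈ S := S.mul_mem s.2 (S.prod_mem fun r hr => htS r hr)
  have hdvd : (s : A) ∣ s' := dvd_mul_right _ _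
  let k₁ : MvPolynomial (Fin n) A →ₐ[A] Localization.Away s' := (awayTrans (s : A) s' hdvd).comp k₀
  have hk₁ : ∀ x ∈ RingHom.ker f, k₁ x = 0 := by
    intro x hx
    have hx' : x ∈ RingHom.ker f.toRingHom := hx
    rw [← hG] at hx'
    revert hx'
    intro hx
    refine Submodule.span_induction ?_ ?_ ?_ ?_ hx
    · intro r hr
      have hu : IsUnit (algebraMap A (Localization.Away s') (t r)) :=
        isUnit_of_dvd_unit (map_dvd _ ((Finset.dvd_prod_of_mem t hr).trans (dvd_mul_left _ _)))
          (IsLocalization.Away.algebraMap_isUnit s')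
      have h3 : awayTrans (s : A) s' hdvd (algebraMap A (Localization.Away (s : A)) (t r) * k₀ r) = 0 := by
        rw [ht r hr, map_zero]
      rw [map_mul, AlgHom.commutes] at h3
      exact (hu.mul_right_eq_zero).1 h3
    · exact map_zero _
    · intro x y _ _ hx hy
      rw [map_add, hx, hy, add_zero]
    · intro c x _ hx
      rw [smul_eq_mul, map_mul, hx, mul_zero]
  let k : P →ₐ[A] Localization.Away s' :=
    (Ideal.Quotient.liftₐ (RingHom.ker f) k₁ hk₁).comp
      (Ideal.quotientKerAlgEquivOfSurjective hfsurj).symm.toAlgHom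
  have hkf : ∀ p, k (f p) = k₁ p := by
    intro p
    have : (Ideal.quotientKerAlgEquivOfSurjective hfsurj).symm (f p) =
        Ideal.Quotient.mk _ p := by
      rw [AlgEquiv.symm_apply_eq, Ideal.quotientKerAlgEquivOfSurjective_mk]
    show (Ideal.Quotient.liftₐ (RingHom.ker f) k₁ hk₁)
      ((Ideal.quotientKerAlgEquivOfSurjective hfsurj).symm (f p)) = k₁ p
    rw [this]
    rfl
  refine ⟨s', hs', k, ?_⟩
  ext p
  obtain ⟨q, rfl⟩ := hfsurj p
  rw [AlgHom.comp_apply, hkf]
  show awayTo (B := B) S s' hs' (awayTrans (s : A) s' hdvd (k₀ q)) = m (f q)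
  rw [← AlgHom.comp_apply (awayTo (B := B) S s' hs'), awayTo_comp_awayTrans S s s' s.2 hs' hdvd,
    ← AlgHom.comp_apply, hk₀, AlgHom.comp_apply]

/-- an étale algebra over a localization descends to some `A_s` -/
theorem descend_etale_away (E : Type u) [CommRing E] [Algebra B E] [Algebra.Etale B E] :
    ∃ (s : A) (hs : s ∈ S) (Es : Type u) (_ : CommRing Es) (_ : Algebra (Localization.Away s) Es)
      (_ : Algebra.Etale (Localization.Away s) Es),
      letI : Algebra (Localization.Away s) B := (awayTo (B := B) S s hs).toRingHom.toAlgebra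
      Nonempty (E ≃ₐ[B] B ⊗[Localization.Away s] Es) := by
  obtain ⟨B₀, E₀, _, _, hfg, hE₀, ⟨e⟩⟩ := Algebra.Etale.exists_subalgebra_fg ℤ B E
  haveI : Algebra.FiniteType ℤ B₀ := (Subalgebra.fg_iff_finiteType B₀).1 hfg
  haveI : Algebra.FinitePresentation ℤ B₀ := Algebra.FinitePresentation.of_finiteType.1 inferInstance
  let m : A ⊗[ℤ] B₀ →ₐ[A] B :=
    Algebra.TensorProduct.lift (Algebra.ofId A B) B₀.val (fun _ _ => mul_comm _ _)
  obtain ⟨s, hs, k, hk⟩ := exists_factor_away (B := B) S (A ⊗[ℤ] B₀) m
  let κ : B₀ →+* Localization.Away s := k.toRingHom.comp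
    (Algebra.TensorProduct.includeRight (R := ℤ) (A := A) (B := B₀)).toRingHom
  letI : Algebra B₀ (Localization.Away s) := κ.toAlgebra
  letI : Algebra (Localization.Away s) B := (awayTo (B := B) S s hs).toRingHom.toAlgebra
  haveI : IsScalarTower B₀ (Localization.Away s) B := IsScalarTower.of_algebraMap_eq fun b => by
    show (b : B) = awayTo (B := B) S s hs (k ((1 : A) ⊗ₜ[ℤ] b))
    have := AlgHom.congr_fun hk ((1 : A) ⊗ₜ[ℤ] b)
    rw [AlgHom.comp_apply] at this
    rw [this]
    simp [m]
  refine ⟨s, hs, (Localization.Away s) ⊗[B₀] E₀, inferInstance, inferInstance, inferInstance, ?_⟩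
  exact ⟨e.trans (Algebra.TensorProduct.cancelBaseChange B₀ (Localization.Away s) B B E₀).symm⟩

end Away

end Groth.Agent.Helper2.LocRetr
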