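import Mathlib
import Groth.Prelude
import Groth.Agent.Helper2.LocRetrA

set_option autoImplicit false
set_option linter.style.haveILetI false
set_option linter.unusedSectionVars false
set_option linter.dupNamespace false

namespace Groth.Agent.Helper2.LocRetr

universe u

open TensorProduct

section Fam

variable {A : Type u} [CommRing A] (E' : Type u) [CommRing E'] [Algebra A E'] {ι : Type u}
  (g : ι → A)

/-- the family consisting of `E'` and the localizations `A_{g i}` -/
def Fam : Option ι → Type u
  | none => E'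
  | some i => Localization.Away (g i)

instance instCommRingFam : (o : Option ι) → CommRing (Fam E' g o)
  | none => inferInstanceAs (CommRing E')
  | some i => inferInstanceAs (CommRing (Localization.Away (g i)))

instance instAlgebraFam : (o : Option ι) → Algebra A (Fam E' g o)
  | none => inferInstanceAs (Algebra A E')
  | some i => inferInstanceAs (Algebra A (Localization.Away (g i)))

instance instEtaleFam [Algebra.Etale A E'] : (o : Option ι) → Algebra.Etale A (Fam E' g o)
  | none => inferInstanceAs (Algebra.Etale A E')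
  | some i => inferInstanceAs (Algebra.Etale A (Localization.Away (g i)))

end Fam

section Cover

variable {A : Type u} [CommRing A] (E' : Type u) [CommRing E'] [Algebra A E'] [Algebra.Etale A E']

/-- from retractions of faithfully flat étale algebras: a multiplicative linear "partial
retraction" of an étale algebra whose image together with finitely many basic opens covers -/
theorem exists_partial_retraction (hA : ProEtW.HasEtaleRetractions A) (F : Finset A)
    (hcover : ∀ 𝔭 : PrimeSpectrum A,
      𝔭 ∈ Set.range (PrimeSpectrum.comap (algebraMap A E')) ∨ ∃ g ∈ F, g ∉ 𝔭.asIdeal) :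
    ∃ ρ' : E' →ₗ[A] A, (∀ x y, ρ' (x * y) = ρ' x * ρ' y) ∧
      (1 - ρ' 1) ∈ Ideal.span (F : Set A) := by
  classical
  let g : (↥F) → A := fun i => i.1
  let E'' := ∀ o : Option ↥F, Fam E' g o
  haveI : Module.FaithfullyFlat A E'' := by
    apply Module.FaithfullyFlat.of_comap_surjective
    intro 𝔭
    rcases hcover 𝔭 with ⟨𝔮', h𝔮'⟩ | ⟨g₀, hg₀F, hg₀⟩
    · refine ⟨PrimeSpectrum.comap (Pi.evalRingHom (Fam E' g) none) 𝔮', ?_⟩
      rw [← h𝔮']
      rfl
    · have h1 : 𝔭 ∈ Set.range (PrimeSpectrum.comap (algebraMap A (Localization.Away g₀))) := by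
        rw [PrimeSpectrum.localization_away_comap_range (Localization.Away g₀) g₀]
        exact hg₀
      obtain ⟨𝔮', h𝔮'⟩ := h1
      refine ⟨PrimeSpectrum.comap (Pi.evalRingHom (Fam E' g) (some ⟨g₀, hg₀F⟩)) 𝔮', ?_⟩
      rw [← h𝔮']
      rfl
  obtain ⟨σ⟩ := hA E'' inferInstance inferInstance
  let ρ' : E' →ₗ[A] A := σ.toLinearMap.comp (LinearMap.single A (Fam E' g) none)
  refine ⟨ρ', ?_, ?_⟩
  · intro x y
    show σ (Pi.single none (x * y)) = σ (Pi.single none x) * σ (Pi.single none y)
    rw [← map_mul, ← Pi.single_mul]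
    rfl
  · have h1 : (1 : E'') = ∑ o : Option ↥F, Pi.single o (1 : Fam E' g o) :=
      (Finset.univ_sum_single (1 : E'')).symm
    have h2 : (1 : A) = σ (Pi.single none (1 : Fam E' g none)) +
        ∑ i : ↥F, σ (Pi.single (some i) (1 : Fam E' g (some i))) := by
      conv_lhs => rw [← map_one σ, h1, Fintype.sum_option, map_add, map_sum]
    have h3 : 1 - ρ' 1 = ∑ i : ↥F, σ (Pi.single (some i) (1 : Fam E' g (some i))) := by
      show 1 - σ (Pi.single none (1 : Fam E' g none)) = _
      rw [sub_eq_iff_eq_add']
      exact h2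
    rw [h3]
    refine Ideal.sum_mem _ fun i _ => ?_
    have h4 : (Pi.single (some i) (1 : Fam E' g (some i)) : E'') =
        (i.1 : A) • Pi.single (some i) (IsLocalization.Away.invSelf (S := Localization.Away i.1) i.1 :
          Fam E' g (some i)) := by
      rw [← Pi.single_smul]
      congr 1
      show (1 : Localization.Away i.1) = (i.1 : A) • IsLocalization.Away.invSelf i.1
      rw [Algebra.smul_def, IsLocalization.Away.mul_invSelf]
    rw [h4, map_smul, smul_eq_mul]
    exact Ideal.mul_mem_right _ _ (Ideal.subset_span i.2)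

end Cover

theorem eq_zero_of_idem_of_forall_mem_prime {B : Type*} [CommRing B] (d : B) (hd : d * d = d)
    (h : ∀ 𝔮 : PrimeSpectrum B, d ∈ 𝔮.asIdeal) : d = 0 := by
  have hnil : IsNilpotent d := by
    rw [← mem_nilradical, nilradical_eq_sInf, Ideal.mem_sInf]
    intro J hJ
    exact h ⟨J, hJ⟩
  obtain ⟨n, hn⟩ := hnil
  have hpow : ∀ k : ℕ, d ^ (k + 1) = d := by
    intro k
    induction k with
    | zero => simp
    | succ k ih => rw [pow_succ, ih, hd]
  cases n with
  | zero =>
    rw [pow_zero] at hn
    rw [← mul_one d, hn, mul_zero]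
  | succ n => rw [← hpow n, hn]

theorem s0708 (A B : Type u) [CommRing A] [CommRing B]
    [Algebra A B] (S : Submonoid A) [IsLocalization S B] (I : Ideal A)
    (hB : Set.range (PrimeSpectrum.comap (algebraMap A B)) =
      {x | ∃ z : PrimeSpectrum A, z ∈ PrimeSpectrum.zeroLocus (R := A) I ∧ x ⤳ z})
    (hA : ProEtW.HasEtaleRetractions A) : ProEtW.HasEtaleRetractions B := by
  classical
  intro E _ _ hff het
  obtain ⟨s, hs, Es, _, _, hEs, hne⟩ := descend_etale_away (B := B) S E
  letI : Algebra (Localization.Away s) B := (awayTo (B := B) S s hs).toRingHom.toAlgebra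
  obtain ⟨e⟩ := hne
  letI : Algebra A Es :=
    ((algebraMap (Localization.Away s) Es).comp (algebraMap A (Localization.Away s))).toAlgebra
  haveI : IsScalarTower A (Localization.Away s) Es := IsScalarTower.of_algebraMap_eq' rfl
  haveI : Algebra.Etale A Es := Algebra.Etale.comp A (Localization.Away s) Es
  have hAB : ∀ a : A, algebraMap (Localization.Away s) B (algebraMap A (Localization.Away s) a) =
      algebraMap A B a := fun a => awayTo_algebraMap S s hs a
  -- the map `Es → E`
  let ψ : Es →+* E := (e.symm : B ⊗[Localization.Away s] Es →+* E).comp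
    (Algebra.TensorProduct.includeRight (R := Localization.Away s) (A := B) (B := Es)).toRingHom
  have hψ : ∀ a : A, ψ (algebraMap A Es a) = algebraMap B E (algebraMap A B a) := by
    intro a
    show e.symm ((1 : B) ⊗ₜ[Localization.Away s]
      (algebraMap (Localization.Away s) Es (algebraMap A (Localization.Away s) a))) = _
    rw [Algebra.algebraMap_eq_smul_one (algebraMap A (Localization.Away s) a),
      TensorProduct.tmul_smul, TensorProduct.smul_tmul', Algebra.smul_def, mul_one, hAB]
    have h5 : (algebraMap A B a) ⊗ₜ[Localization.Away s] (1 : Es) =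
        algebraMap B (B ⊗[Localization.Away s] Es) (algebraMap A B a) := by
      rw [Algebra.TensorProduct.algebraMap_apply]; rfl
    rw [h5, e.symm.commutes]
  -- `V(I)` lies in the image of `Spec Es`
  have hZU : ∀ z : PrimeSpectrum A, z ∈ PrimeSpectrum.zeroLocus (R := A) I →
      z ∈ Set.range (PrimeSpectrum.comap (algebraMap A Es)) := by
    intro z hz
    have h1 : z ∈ Set.range (PrimeSpectrum.comap (algebraMap A B)) := by
      rw [hB]; exact ⟨z, hz, specializes_rfl⟩
    obtain ⟨𝔮, h𝔮⟩ := h1
    obtain ⟨𝔮E, h𝔮E⟩ := PrimeSpectrum.comap_surjective_of_faithfullyFlat (A := B) (B := E) 𝔮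
    refine ⟨PrimeSpectrum.comap ψ 𝔮E, ?_⟩
    rw [← h𝔮, ← h𝔮E]
    ext a
    simp only [PrimeSpectrum.comap_asIdeal, Ideal.mem_comap]
    rw [hψ]
  have hUopen : IsOpen (Set.range (PrimeSpectrum.comap (algebraMap A Es))) :=
    (PrimeSpectrum.isOpenMap_comap_of_hasGoingDown_of_finitePresentation (R := A) (S := Es)).isOpen_range
  -- finite subcover
  have hcompl : IsCompact (Set.range (PrimeSpectrum.comap (algebraMap A Es)))ᶜ :=
    hUopen.isClosed_compl.isCompact
  obtain ⟨t, ht⟩ := hcompl.elim_finite_subcover
    (fun g : ↥I => (PrimeSpectrum.basicOpen (g : A) : Set (PrimeSpectrum A)))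
    (fun g => (PrimeSpectrum.basicOpen (g : A)).isOpen) (by
      intro 𝔭 h𝔭
      have h1 : 𝔭 ∉ PrimeSpectrum.zeroLocus (R := A) I := fun h => h𝔭 (hZU 𝔭 h)
      rw [PrimeSpectrum.mem_zeroLocus, Set.not_subset] at h1
      obtain ⟨g, hgI, hg⟩ := h1
      exact Set.mem_iUnion.2 ⟨⟨g, hgI⟩, hg⟩)
  let F : Finset A := t.image Subtype.val
  have hFI : (F : Set A) ⊆ I := by
    intro x hx
    obtain ⟨g, -, rfl⟩ := Finset.mem_image.1 (Finset.mem_coe.1 hx)
    exact g.2
  obtain ⟨ρ', hmul, hone⟩ := exists_partial_retraction Es hA F (by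
    intro 𝔭
    by_cases h𝔭 : 𝔭 ∈ Set.range (PrimeSpectrum.comap (algebraMap A Es))
    · exact Or.inl h𝔭
    · right
      obtain ⟨g, hg⟩ := Set.mem_iUnion.1 (ht h𝔭)
      obtain ⟨hgt, hg'⟩ := Set.mem_iUnion.1 hg
      exact ⟨g.1, Finset.mem_image.2 ⟨g, hgt, rfl⟩, hg'⟩)
  set e₀ : A := ρ' 1 with he₀
  have he₀I : 1 - e₀ ∈ I := (Ideal.span_le.2 hFI) hone
  have hidem : e₀ * e₀ = e₀ := by rw [he₀, ← hmul, mul_one]
  have hone' : algebraMap A B e₀ = 1 := by
    have hd : algebraMap A B (1 - e₀) = 0 := by
      apply eq_zero_of_idem_of_forall_mem_prime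
      · rw [← map_mul]; congr 1; ring_nf; rw [pow_two, hidem]; ring
      · intro 𝔮
        have h1 : PrimeSpectrum.comap (algebraMap A B) 𝔮 ∈
            Set.range (PrimeSpectrum.comap (algebraMap A B)) := ⟨𝔮, rfl⟩
        rw [hB] at h1
        obtain ⟨z, hz, hspec⟩ := h1
        have hle : (PrimeSpectrum.comap (algebraMap A B) 𝔮).asIdeal ≤ z.asIdeal :=
          (PrimeSpectrum.le_iff_specializes _ _).2 hspec
        have hz1 : 1 - e₀ ∈ z.asIdeal := hz he₀I
        have hne : e₀ ∉ (PrimeSpectrum.comap (algebraMap A B) 𝔮).asIdeal := by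
          intro h
          apply z.2.ne_top
          rw [Ideal.eq_top_iff_one]
          have := z.asIdeal.add_mem (hle h) hz1
          rwa [add_sub_cancel] at this
        have hprod : e₀ * (1 - e₀) ∈ (PrimeSpectrum.comap (algebraMap A B) 𝔮).asIdeal := by
          rw [mul_sub, mul_one, hidem, sub_self]
          exact Ideal.zero_mem _
        exact ((PrimeSpectrum.comap (algebraMap A B) 𝔮).2.mem_or_mem hprod).resolve_left hne
    rw [map_sub, map_one, sub_eq_zero] at hd
    exact hd.symm
  -- the retraction on `Es`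
  let ρ : Es →ₐ[A] B :=
    { toFun := fun x => algebraMap A B (ρ' x)
      map_one' := hone'
      map_mul' := fun x y => by rw [hmul, map_mul]
      map_zero' := by rw [map_zero, map_zero]
      map_add' := fun x y => by rw [map_add, map_add]
      commutes' := fun a => by
        show algebraMap A B (ρ' (algebraMap A Es a)) = algebraMap A B a
        have h1 : ρ' (algebraMap A Es a) = a * e₀ := by
          rw [Algebra.algebraMap_eq_smul_one (A := Es), map_smul, smul_eq_mul]
        rw [h1, map_mul, hone', mul_one] }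
  let ρs : Es →ₐ[Localization.Away s] B :=
    { ρ.toRingHom with
      commutes' := fun x => by
        have h1 : (ρ.toRingHom.comp (algebraMap (Localization.Away s) Es)) =
            algebraMap (Localization.Away s) B := by
          apply IsLocalization.ringHom_ext (Submonoid.powers s)
          ext a
          simp only [RingHom.comp_apply]
          rw [hAB, ← IsScalarTower.algebraMap_apply A (Localization.Away s) Es]
          exact ρ.commutes a
        exact RingHom.congr_fun h1 x }
  let τ : B ⊗[Localization.Away s] Es →ₐ[B] B :=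
    Algebra.TensorProduct.lift (AlgHom.id B B) ρs (fun _ _ => mul_comm _ _)
  exact ⟨τ.comp e.toAlgHom⟩

end Groth.Agent.Helper2.LocRetr
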