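import Mathlib
import Groth.Prelude
import Groth.Agent.Helper2.LocRetrB
import Groth.Agent.Helper2.IndEtLiftH

set_option autoImplicit false
set_option linter.style.haveILetI false
set_option linter.unusedSectionVars false
set_option linter.dupNamespace false

namespace Groth.Agent.Helper2.LocRetr

universe u

open TensorProduct Groth.Agent.Helper2.IndEtCrit Groth.Agent.Helper2.IndEtLift

/-- a localization satisfies the factorization property (it is ind-étale) -/
theorem fac_localization {A B : Type u} [CommRing A] [CommRing B] [Algebra A B] (S : Submonoid A)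
    [IsLocalization S B] : Fac A B := by
  intro P _ _ _ g
  obtain ⟨s, hs, k, hk⟩ := exists_factor_away (B := B) S P g
  haveI : Algebra.Etale A (Localization.Away s) := Algebra.Etale.of_isLocalizationAway s
  exact ⟨Localization.Away s, inferInstance, inferInstance, inferInstance, k,
    awayTo (B := B) S s hs, hk⟩

/-- finite products preserve the factorization property -/
theorem fac_pi {A : Type u} [CommRing A] {ι : Type u} [Finite ι] (X : ι → Type u)
    [∀ i, CommRing (X i)] [∀ i, Algebra A (X i)] (h : ∀ i, Fac A (X i)) : Fac A (Π i, X i) := by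
  intro P _ _ _ g
  choose F hF1 hF2 hF3 hh hg' hcomp using fun i => h i P ((Pi.evalAlgHom A X i).comp g)
  letI := hF1
  letI := hF2
  haveI := hF3
  refine ⟨Π i, F i, inferInstance, inferInstance, inferInstance, Pi.algHom A F hh,
    Pi.algHom A X (fun i => (hg' i).comp (Pi.evalAlgHom A F i)), ?_⟩
  ext p i
  exact congr($(hcomp i) p)

section Cover

variable {A : Type u} [CommRing A] (E' : Type u) [CommRing E'] [Algebra A E']

theorem fac_fam (hE' : Fac A E') {ι : Type u} (g : ι → A) : ∀ o : Option ι, Fac A (Fam E' g o)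
  | none => hE'
  | some i => by
    haveI : Algebra.Etale A (Localization.Away (g i)) := Algebra.Etale.of_isLocalizationAway (g i)
    exact fac_of_etale A (Localization.Away (g i))

/-- ind-étale version of `exists_partial_retraction` -/
theorem exists_partial_retraction' (hE' : Fac A E') (hA : ProEtW.HasIndEtaleRetractions A)
    (F : Finset A)
    (hcover : ∀ 𝔭 : PrimeSpectrum A,
      𝔭 ∈ Set.range (PrimeSpectrum.comap (algebraMap A E')) ∨ ∃ g ∈ F, g ∉ 𝔭.asIdeal) :
    ∃ ρ' : E' →ₗ[A] A, (∀ x y, ρ' (x * y) = ρ' x * ρ' y) ∧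
      (1 - ρ' 1) ∈ Ideal.span (F : Set A) := by
  classical
  let g : (↥F) → A := fun i => i.1
  let E'' := ∀ o : Option ↥F, Fam E' g o
  have hE''ind : EtPBC.IsIndEtale A E'' := isIndEtale_of_fac (fac_pi _ (fac_fam E' hE' g))
  haveI : Algebra.WeaklyEtale A E'' := Groth.Agent.Lead.IndEtale.weaklyEtale_of_isIndEtale hE''ind
  haveI : Module.Flat A E'' := inferInstance
  haveI : Module.FaithfullyFlat A E'' := by
    apply Module.FaithfullyFlat.of_comap_surjective
    intro 𝔭
    rcases hcover 𝔭 with ⟨𝔮', h𝔮'⟩ | ⟨g₀, hg₀F, hg₀⟩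
    · refine ⟨PrimeSpectrum.comap (Pi.evalRingHom (Fam E' g) none) 𝔮', ?_⟩
      rw [← h𝔮']
      rfl
    · have h1 : 𝔭 ∈ Set.range (PrimeSpectrum.comap (algebraMap A (Localization.Away g₀))) := by
        rw [PrimeSpectrum.localization_away_comap_range (Localization.Away g₀) g₀]
        exact hg₀
      obtain ⟨𝔮', h𝔮'⟩ := h1
      refine ⟨PrimeSpectrum.comap (Pi.evalRingHom (Fam E' g) (some ⟨g₀, hg₀F⟩)) 𝔮', ?_⟩
      rw [← h𝔮']
      rfl
  obtain ⟨σ⟩ := hA E'' inferInstance hE''ind
  let ρ' : E' →ₗ[A] A := σ.toLinearMap.comp (LinearMap.single A (Fam E' g) none)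
  refine ⟨ρ', ?_, ?_⟩
  · intro x y
    show σ (Pi.single none (x * y)) = σ (Pi.single none x) * σ (Pi.single none y)
    rw [← map_mul, ← Pi.single_mul]
    rfl
  · have h1 : (1 : E'') = ∑ o : Option ↥F, Pi.single o (1 : Fam E' g o) :=
      (Finset.univ_sum_single (1 : E'')).symm
    have h2 : (1 : A) = σ (Pi.single none (1 : Fam E' g none)) +
        ∑ i : ↥F, σ (Pi.single (some i) (1 : Fam E' g (some i))) := by
      conv_lhs => rw [← map_one σ, h1, Fintype.sum_option, map_add, map_sum]
    have h3 : 1 - ρ' 1 = ∑ i : ↥F, σ (Pi.single (some i) (1 : Fam E' g (some i))) := by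
      show 1 - σ (Pi.single none (1 : Fam E' g none)) = _
      rw [sub_eq_iff_eq_add']
      exact h2
    rw [h3]
    refine Ideal.sum_mem _ fun i _ => ?_
    have h4 : (Pi.single (some i) (1 : Fam E' g (some i)) : E'') =
        (i.1 : A) • Pi.single (some i) (IsLocalization.Away.invSelf (S := Localization.Away i.1) i.1 :
          Fam E' g (some i)) := by
      rw [← Pi.single_smul]
      congr 1
      show (1 : Localization.Away i.1) = (i.1 : A) • IsLocalization.Away.invSelf i.1
      rw [Algebra.smul_def, IsLocalization.Away.mul_invSelf]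
    rw [h4, map_smul, smul_eq_mul]
    exact Ideal.mul_mem_right _ _ (Ideal.subset_span i.2)

end Cover

theorem s0707 (A B : Type u) [CommRing A] [CommRing B]
    [Algebra A B] (S : Submonoid A) [IsLocalization S B] (E : Finset A)
    (hB : Set.range (PrimeSpectrum.comap (algebraMap A B)) =
      {x | ∃ z : PrimeSpectrum A, z ∈ PrimeSpectrum.zeroLocus (R := A) E ∧ x ⤳ z})
    (hA : EtPBC.IsWContractible A) : EtPBC.IsWContractible B := by
  classical
  rw [s0778] at hA ⊢
  intro E' _ _ hff hind
  letI : Algebra A E' := ((algebraMap B E').comp (algebraMap A B)).toAlgebra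
  haveI : IsScalarTower A B E' := IsScalarTower.of_algebraMap_eq fun _ => rfl
  have hBA : EtPBC.IsIndEtale A B := isIndEtale_of_fac (fac_localization S)
  have hE'A : EtPBC.IsIndEtale A E' := s0734 A B E' hBA hind
  obtain ⟨ρ', hmul, hone⟩ := exists_partial_retraction' E' (fac_of_isIndEtale hE'A) hA E (by
    intro 𝔭
    by_cases h : ∃ g ∈ E, g ∉ 𝔭.asIdeal
    · exact Or.inr h
    · left
      push_neg at h
      have h1 : 𝔭 ∈ Set.range (PrimeSpectrum.comap (algebraMap A B)) := by
        rw [hB]
        exact ⟨𝔭, fun g hg => h g hg, specializes_rfl⟩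
      obtain ⟨𝔮, h𝔮⟩ := h1
      obtain ⟨𝔮E, h𝔮E⟩ := PrimeSpectrum.comap_surjective_of_faithfullyFlat (A := B) (B := E') 𝔮
      refine ⟨𝔮E, ?_⟩
      rw [← h𝔮, ← h𝔮E]
      rfl)
  set e₀ : A := ρ' 1 with he₀
  have hidem : e₀ * e₀ = e₀ := by rw [he₀, ← hmul, mul_one]
  have hone' : algebraMap A B e₀ = 1 := by
    have hd : algebraMap A B (1 - e₀) = 0 := by
      apply eq_zero_of_idem_of_forall_mem_prime
      · rw [← map_mul]; congr 1; ring_nf; rw [pow_two, hidem]; ring
      · intro 𝔮
        have h1 : PrimeSpectrum.comap (algebraMap A B) 𝔮 ∈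
            Set.range (PrimeSpectrum.comap (algebraMap A B)) := ⟨𝔮, rfl⟩
        rw [hB] at h1
        obtain ⟨z, hz, hspec⟩ := h1
        have hle : (PrimeSpectrum.comap (algebraMap A B) 𝔮).asIdeal ≤ z.asIdeal :=
          (PrimeSpectrum.le_iff_specializes _ _).2 hspec
        have hz1 : 1 - e₀ ∈ z.asIdeal := by
          have : Ideal.span (E : Set A) ≤ z.asIdeal := Ideal.span_le.2 hz
          exact this hone
        have hne : e₀ ∉ (PrimeSpectrum.comap (algebraMap A B) 𝔮).asIdeal := by
          intro h
          apply z.2.ne_top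
          rw [Ideal.eq_top_iff_one]
          have := z.asIdeal.add_mem (hle h) hz1
          rwa [add_sub_cancel] at this
        have hprod : e₀ * (1 - e₀) ∈ (PrimeSpectrum.comap (algebraMap A B) 𝔮).asIdeal := by
          rw [mul_sub, mul_one, hidem, sub_self]
          exact Ideal.zero_mem _
        exact ((PrimeSpectrum.comap (algebraMap A B) 𝔮).2.mem_or_mem hprod).resolve_left hne
    rw [map_sub, map_one, sub_eq_zero] at hd
    exact hd.symm
  let ρ : E' →ₐ[A] B :=
    { toFun := fun x => algebraMap A B (ρ' x)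
      map_one' := hone'
      map_mul' := fun x y => by rw [hmul, map_mul]
      map_zero' := by rw [map_zero, map_zero]
      map_add' := fun x y => by rw [map_add, map_add]
      commutes' := fun a => by
        show algebraMap A B (ρ' (algebraMap A E' a)) = algebraMap A B a
        have h1 : ρ' (algebraMap A E' a) = a * e₀ := by
          rw [Algebra.algebraMap_eq_smul_one (A := E'), map_smul, smul_eq_mul]
        rw [h1, map_mul, hone', mul_one] }
  exact ⟨{ ρ.toRingHom with
    commutes' := fun x => by
      have h1 : (ρ.toRingHom.comp (algebraMap B E')) = RingHom.id B := by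
        apply IsLocalization.ringHom_ext S
        ext a
        simp only [RingHom.comp_apply, RingHom.id_apply]
        rw [← IsScalarTower.algebraMap_apply A B E']
        exact ρ.commutes a
      exact RingHom.congr_fun h1 x }⟩

end Groth.Agent.Helper2.LocRetr
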