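import Mathlib

set_option autoImplicit false
universe u

namespace Groth.Agent.Helper2.LocSubring
open IsLocalRing

variable {K : Type u} [Field K]

lemma ofPrime_congr (A : Subring K) {P P' : Ideal A} [hP : P.IsPrime] [hP' : P'.IsPrime]
    (h : P = P') : LocalSubring.ofPrime A P = LocalSubring.ofPrime A P' := by
  subst h; rfl

lemma mem_ofPrime_iff (A : Subring K) (P : Ideal A) [P.IsPrime] (x : K) :
    x ∈ (LocalSubring.ofPrime A P).toSubring ↔
      ∃ a s : A, s ∉ P ∧ x * (s : K) = a := by
  constructor
  · intro hx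
    obtain ⟨⟨a, s⟩, h⟩ := IsLocalization.surj (M := P.primeCompl)
      (S := (LocalSubring.ofPrime A P).toSubring) ⟨x, hx⟩
    refine ⟨a, s.1, s.2, ?_⟩
    exact congrArg Subtype.val h
  · rintro ⟨a, s, hs, h⟩
    have hu : IsUnit (algebraMap A (LocalSubring.ofPrime A P).toSubring s) :=
      IsLocalization.map_units (M := P.primeCompl) _ ⟨s, hs⟩
    obtain ⟨u, hu⟩ := hu
    have hs0 : (s : K) ≠ 0 := by
      intro h0
      apply hs
      have : s = 0 := Subtype.ext h0
      rw [this]; exact zero_mem _
    have hx : x = (algebraMap A (LocalSubring.ofPrime A P).toSubring a : K) *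
        ((↑u⁻¹ : (LocalSubring.ofPrime A P).toSubring) : K) := by
      have h1 : ((u : (LocalSubring.ofPrime A P).toSubring) : K) = s := by
        rw [hu]; rfl
      have h2 : ((u : (LocalSubring.ofPrime A P).toSubring) : K) *
          ((↑u⁻¹ : (LocalSubring.ofPrime A P).toSubring) : K) = 1 := by
        rw [← Subring.coe_mul, Units.mul_inv]; rfl
      have h3 : (algebraMap A (LocalSubring.ofPrime A P).toSubring a : K) = a := rfl
      rw [h3, ← h, mul_assoc, ← h1, h2, mul_one]
    rw [hx]
    exact Subring.mul_mem _ (Subtype.mem _) (Subtype.mem _)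

lemma comap_maximalIdeal_ofPrime (A : Subring K) (P : Ideal A) [P.IsPrime] :
    (maximalIdeal (LocalSubring.ofPrime A P).toSubring).comap
      (Subring.inclusion (LocalSubring.le_ofPrime A P)) = P :=
  IsLocalization.AtPrime.comap_maximalIdeal (LocalSubring.ofPrime A P).toSubring P

/-- If `Q` contains `A`, then `Q` dominates `A` localized at the trace of `m_Q`. -/
lemma ofPrime_le (A : Subring K) (Q : LocalSubring K) (hA : A ≤ Q.toSubring) :
    LocalSubring.ofPrime A ((maximalIdeal Q.toSubring).comap (Subring.inclusion hA)) ≤ Q := by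
  have hle : (LocalSubring.ofPrime A
      ((maximalIdeal Q.toSubring).comap (Subring.inclusion hA))).toSubring ≤ Q.toSubring := by
    intro x hx
    obtain ⟨a, s, hs, h⟩ := (mem_ofPrime_iff _ _ _).1 hx
    have hsu : IsUnit (Subring.inclusion hA s) := by
      by_contra hn
      exact hs ((mem_maximalIdeal _).2 hn)
    obtain ⟨u, hu⟩ := hsu
    have h1 : ((u : Q.toSubring) : K) = s := by rw [hu]; rfl
    have h2 : ((u : Q.toSubring) : K) * ((↑u⁻¹ : Q.toSubring) : K) = 1 := by
      rw [← Subring.coe_mul, Units.mul_inv]; rfl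
    have hx' : x = ((Subring.inclusion hA a : Q.toSubring) : K) * ((↑u⁻¹ : Q.toSubring) : K) := by
      have h3 : ((Subring.inclusion hA a : Q.toSubring) : K) = a := rfl
      rw [h3, ← h, mul_assoc, ← h1, h2, mul_one]
    rw [hx']
    exact Subring.mul_mem _ (Subtype.mem _) (Subtype.mem _)
  refine ⟨hle, ⟨?_⟩⟩
  rintro ⟨x, hx⟩ hu
  obtain ⟨a, s, hs, h⟩ := (mem_ofPrime_iff _ _ _).1 hx
  -- a is not in the prime, so a is a unit in the localization
  have ha : a ∉ (maximalIdeal Q.toSubring).comap (Subring.inclusion hA) := by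
    intro ha
    have ha' : Subring.inclusion hA a ∈ maximalIdeal Q.toSubring := ha
    have : (Subring.inclusion hA a : Q.toSubring) =
        Subring.inclusion hle ⟨x, hx⟩ * Subring.inclusion hA s := by
      ext
      simpa using h.symm
    rw [this] at ha'
    have hsm : Subring.inclusion hA s ∉ maximalIdeal Q.toSubring := hs
    rcases (Ideal.IsPrime.mem_or_mem (inferInstance : (maximalIdeal Q.toSubring).IsPrime) ha') with h1 | h1
    · exact (mem_maximalIdeal _).1 h1 hu
    · exact hsm h1
  set P := (maximalIdeal Q.toSubring).comap (Subring.inclusion hA) with hP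
  have hau : IsUnit (algebraMap A (LocalSubring.ofPrime A P).toSubring a) :=
    IsLocalization.map_units (M := P.primeCompl) _ ⟨a, ha⟩
  have hsu : IsUnit (algebraMap A (LocalSubring.ofPrime A P).toSubring s) :=
    IsLocalization.map_units (M := P.primeCompl) _ ⟨s, hs⟩
  have : (⟨x, hx⟩ : (LocalSubring.ofPrime A P).toSubring) *
      algebraMap A (LocalSubring.ofPrime A P).toSubring s =
      algebraMap A (LocalSubring.ofPrime A P).toSubring a := by
    ext
    exact h
  have h2 : IsUnit ((⟨x, hx⟩ : (LocalSubring.ofPrime A P).toSubring) *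
      algebraMap A (LocalSubring.ofPrime A P).toSubring s) := by rw [this]; exact hau
  exact isUnit_of_mul_isUnit_left h2

/-- If `Q` dominates `A_P` then the trace of `m_Q` on `A` is `P`. -/
lemma comap_eq_of_le (A : Subring K) (P : Ideal A) [P.IsPrime] (Q : LocalSubring K)
    (h : LocalSubring.ofPrime A P ≤ Q) (hA : A ≤ Q.toSubring) :
    (maximalIdeal Q.toSubring).comap (Subring.inclusion hA) = P := by
  obtain ⟨hle, hloc⟩ := h
  have h1 : (maximalIdeal Q.toSubring).comap (Subring.inclusion hle) =
      maximalIdeal (LocalSubring.ofPrime A P).toSubring :=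
    (IsLocalRing.local_hom_TFAE (Subring.inclusion hle)).out 0 4 |>.1 hloc
  have h2 : Subring.inclusion hA =
      (Subring.inclusion hle).comp (Subring.inclusion (LocalSubring.le_ofPrime A P)) := by
    ext; rfl
  rw [h2, ← Ideal.comap_comap, h1]
  exact comap_maximalIdeal_ofPrime A P


lemma comap_incl_trans {A C : Subring K} (Q : Subring K) (hAC : A ≤ C) (hCQ : C ≤ Q)
    (I : Ideal Q) :
    I.comap (Subring.inclusion (hAC.trans hCQ)) =
      (I.comap (Subring.inclusion hCQ)).comap (Subring.inclusion hAC) := by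
  rw [Ideal.comap_comap]
  rfl

lemma ofPrime_comap_le {A C : Subring K} (hAC : A ≤ C) (r : Ideal C) [r.IsPrime] :
    LocalSubring.ofPrime A (r.comap (Subring.inclusion hAC)) ≤ LocalSubring.ofPrime C r := by
  have h1 := ofPrime_le A (LocalSubring.ofPrime C r) (hAC.trans (LocalSubring.le_ofPrime C r))
  have h2 : (maximalIdeal (LocalSubring.ofPrime C r).toSubring).comap
      (Subring.inclusion (hAC.trans (LocalSubring.le_ofPrime C r))) =
      r.comap (Subring.inclusion hAC) := by
    rw [comap_incl_trans _ hAC (LocalSubring.le_ofPrime C r), comap_maximalIdeal_ofPrime]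
  rw [← ofPrime_congr A h2]
  exact h1

end Groth.Agent.Helper2.LocSubring
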