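import Mathlib
import Groth.Agent.Helper2.RegFlat2

set_option autoImplicit false
open TensorProduct Function LinearMap
universe u

namespace Groth.Agent.Helper2.LocalSqFlat

open Groth.Agent.Helper2.RegFlat2

section core
variable {A : Type u} [CommRing A] {M : Type u} [AddCommGroup M] [Module A M]

/-- the key vanishing: an element of `(I/J) ⊗ M` dying in `(A/J) ⊗ M` is zero. -/
theorem eq_zero_of_local (I J : Ideal A) (hI2 : I ^ 2 ≤ J)
    [Module.Flat (A ⧸ I) ((A ⧸ I) ⊗[A] M)] (t : Finset A)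
    (hloc : ∀ (p : Ideal A) [p.IsPrime], (∃ f ∈ t, f ∉ p) →
      Module.Flat A (LocalizedModule p.primeCompl M))
    (hJ : ∀ a ∈ I, (∀ f ∈ t, ∃ n : ℕ, f ^ n * a ∈ J) → a ∈ J)
    (P₁ : Submodule A (A ⧸ J)) (hP₁ : P₁ = Submodule.map (Submodule.mkQ J) I)
    (x₂ : ↥P₁ ⊗[A] M)
    (hx₂ : rTensor M P₁.subtype x₂ = 0) : x₂ = 0 := by
  classical
  -- Step 3
  have h3 : ∀ (p : Ideal A) [p.IsPrime], (∃ f ∈ t, f ∉ p) → ∃ s : A, s ∉ p ∧ s • x₂ = 0 := by
    intro p _ hp
    have := hloc p hp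
    let g := LocalizedModule.mkLinearMap p.primeCompl M
    have hinj : Injective (rTensor (LocalizedModule p.primeCompl M) P₁.subtype) :=
      Module.Flat.rTensor_preserves_injective_linearMap _ P₁.injective_subtype
    have h0 : lTensor P₁ g x₂ = 0 := by
      apply hinj
      rw [map_zero, ← LinearMap.comp_apply, LinearMap.rTensor_comp_lTensor,
        ← LinearMap.lTensor_comp_rTensor, LinearMap.comp_apply, hx₂, map_zero]
    obtain ⟨c, hc⟩ := (IsLocalizedModule.eq_zero_iff p.primeCompl (lTensor P₁ g)).1 h0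
    exact ⟨c.1, c.2, hc⟩
  -- Step 4
  have h4 : ∀ f ∈ t, ∃ n : ℕ, f ^ n • x₂ = 0 := by
    intro f hf
    set 𝔠 : Ideal A := LinearMap.ker (LinearMap.toSpanSingleton A _ x₂) with h𝔠
    have hmem : ∀ a : A, a ∈ 𝔠 ↔ a • x₂ = 0 := by
      intro a
      rw [h𝔠, LinearMap.mem_ker, LinearMap.toSpanSingleton_apply]
    have hrad : f ∈ 𝔠.radical := by
      rw [Ideal.radical_eq_sInf, Ideal.mem_sInf]
      rintro q ⟨hq, hqp⟩
      by_contra hfq
      obtain ⟨s, hs, hsx⟩ := h3 q ⟨f, hf, hfq⟩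
      exact hs (hq ((hmem s).2 hsx))
    obtain ⟨n, hn⟩ := hrad
    exact ⟨n, (hmem _).1 hn⟩
  choose n hn using h4
  -- Step 5
  let φ : P₁ →ₗ[A] (t → P₁) :=
    LinearMap.pi (fun f => (f.1 ^ n f.1 f.2) • (LinearMap.id : P₁ →ₗ[A] P₁))
  have hφ : Injective φ := by
    rw [← LinearMap.ker_eq_bot, eq_bot_iff]
    rintro ⟨y, hy⟩ hker
    rw [Submodule.mem_bot]
    apply Subtype.ext
    have hy' := hy
    rw [hP₁] at hy'
    obtain ⟨a, ha, rfl⟩ := hy'
    show Submodule.mkQ J a = 0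
    rw [Submodule.mkQ_apply, Submodule.Quotient.mk_eq_zero]
    apply hJ a ha
    intro f hf
    refine ⟨n f hf, ?_⟩
    rw [LinearMap.mem_ker] at hker
    have := congrFun hker ⟨f, hf⟩
    have h1 : ((f ^ n f hf) • (⟨Submodule.mkQ J a, hy⟩ : P₁) : P₁) = 0 := this
    have h2 := congrArg Subtype.val h1
    simp only [Submodule.coe_smul, Submodule.mkQ_apply, ZeroMemClass.coe_zero] at h2
    rw [← Submodule.Quotient.mk_smul, Submodule.Quotient.mk_eq_zero] at h2
    exact h2
  have htors1 : Module.IsTorsionBySet A P₁ (I : Set A) := by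
    rintro ⟨y, hy⟩ s
    have hy' := hy
    rw [hP₁] at hy'
    obtain ⟨a, ha, rfl⟩ := hy'
    apply Subtype.ext
    show (s : A) • Submodule.mkQ J a = 0
    rw [Submodule.mkQ_apply, ← Submodule.Quotient.mk_smul, Submodule.Quotient.mk_eq_zero]
    apply hI2
    rw [pow_two]
    exact Ideal.mul_mem_mul s.2 ha
  have htors2 : Module.IsTorsionBySet A (t → P₁) (I : Set A) := by
    intro y s
    funext f
    exact @htors1 (y f) s
  have hinj := rTensor_injective_of_torsion (M := M) I htors1 htors2 φ hφ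
  apply hinj
  rw [map_zero]
  have hsum : φ = ∑ f : t, (f.1 ^ n f.1 f.2) • (LinearMap.single A (fun _ : t => P₁) f) := by
    ext y g
    simp [φ, LinearMap.single_apply, Pi.single_apply, Finset.sum_apply]
  have hsum' : rTensor M φ = ∑ f : t, (f.1 ^ n f.1 f.2) •
      rTensor M (LinearMap.single A (fun _ : t => P₁) f) := by
    rw [hsum, ← LinearMap.coe_rTensorHom, map_sum]
    apply Finset.sum_congr rfl
    intro f _
    rw [map_smul]
  rw [hsum', LinearMap.sum_apply]
  apply Finset.sum_eq_zero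
  intro f _
  rw [LinearMap.smul_apply, ← map_smul, hn f.1 f.2, map_zero]

theorem flat_quot_of_local (I J : Ideal A) (hI2 : I ^ 2 ≤ J)
    [Module.Flat (A ⧸ I) ((A ⧸ I) ⊗[A] M)] (t : Finset A)
    (hloc : ∀ (p : Ideal A) [p.IsPrime], (∃ f ∈ t, f ∉ p) →
      Module.Flat A (LocalizedModule p.primeCompl M))
    (hJ : ∀ a ∈ I, (∀ f ∈ t, ∃ n : ℕ, f ^ n * a ∈ J) → a ∈ J) :
    Module.Flat (A ⧸ J) ((A ⧸ J) ⊗[A] M) := by
  rw [Module.Flat.iff_rTensor_injective']
  intro 𝔟
  have hι : Injective (𝔟.subtype.restrictScalars A) := 𝔟.injective_subtype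
  have hC : Injective (rTensor M (𝔟.subtype.restrictScalars A)) := by
    generalize hιdef : (𝔟.subtype.restrictScalars A : ↥𝔟 →ₗ[A] (A ⧸ J)) = ι at hι
    let P₁ : Submodule A (A ⧸ J) := Submodule.map (Submodule.mkQ J) I
    have hmemP : ∀ (i : A) (_ : i ∈ I) (y : A ⧸ J), i • y ∈ P₁ := by
      intro i hi y
      obtain ⟨a, rfl⟩ := Submodule.Quotient.mk_surjective _ y
      rw [← Submodule.Quotient.mk_smul]
      exact ⟨i • a, by rw [smul_eq_mul]; exact I.mul_mem_right a hi, rfl⟩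
    have hkillP : ∀ (i : A) (_ : i ∈ I) (y : A ⧸ J), y ∈ P₁ → i • y = 0 := by
      rintro i hi y ⟨a, ha, rfl⟩
      rw [Submodule.mkQ_apply, ← Submodule.Quotient.mk_smul, Submodule.Quotient.mk_eq_zero]
      apply hI2
      rw [pow_two]
      exact Ideal.mul_mem_mul hi ha
    let N'₁ : Submodule A 𝔟 := Submodule.comap ι P₁
    let ιq : (𝔟 ⧸ N'₁) →ₗ[A] ((A ⧸ J) ⧸ P₁) := Submodule.mapQ N'₁ P₁ ι le_rfl
    have hιq : Injective ιq := by
      rw [← LinearMap.ker_eq_bot, eq_bot_iff]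
      intro a ha
      obtain ⟨l, rfl⟩ := Submodule.Quotient.mk_surjective _ a
      rw [LinearMap.mem_ker, Submodule.mapQ_apply, Submodule.Quotient.mk_eq_zero] at ha
      rw [Submodule.mem_bot, Submodule.Quotient.mk_eq_zero]
      exact ha
    have htorsA : Module.IsTorsionBySet A (𝔟 ⧸ N'₁) (I : Set A) := by
      intro a s
      obtain ⟨a, rfl⟩ := Submodule.Quotient.mk_surjective _ a
      rw [← Submodule.Quotient.mk_smul, Submodule.Quotient.mk_eq_zero]
      show ι ((s : A) • a) ∈ P₁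
      rw [map_smul]
      exact hmemP s s.2 _
    have htorsB : Module.IsTorsionBySet A ((A ⧸ J) ⧸ P₁) (I : Set A) := by
      intro a s
      obtain ⟨a, rfl⟩ := Submodule.Quotient.mk_surjective _ a
      rw [← Submodule.Quotient.mk_smul, Submodule.Quotient.mk_eq_zero]
      exact hmemP s s.2 _
    have hinj1 := rTensor_injective_of_torsion (M := M) I htorsA htorsB ιq hιq
    have hex := rTensor_exact M (LinearMap.exact_subtype_mkQ N'₁) (Submodule.mkQ_surjective N'₁)
    let ι₁ : N'₁ →ₗ[A] P₁ := LinearMap.codRestrict P₁ (ι ∘ₗ N'₁.subtype) (fun n => n.2)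
    have hι₁ : Injective ι₁ := by
      intro a b hab
      apply Subtype.ext
      apply hι
      exact congrArg Subtype.val hab
    have htorsN : Module.IsTorsionBySet A N'₁ (I : Set A) := by
      rintro ⟨b, hb⟩ s
      apply Subtype.ext
      apply hι
      show ι ((s : A) • b) = ι 0
      rw [map_smul, map_zero]
      exact hkillP s s.2 _ hb
    have htorsP : Module.IsTorsionBySet A P₁ (I : Set A) := by
      rintro ⟨y, hy⟩ s
      apply Subtype.ext
      exact hkillP s s.2 y hy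
    have hinj2 := rTensor_injective_of_torsion (M := M) I htorsN htorsP ι₁ hι₁
    rw [injective_iff_map_eq_zero]
    intro x hx
    have h2 : rTensor M N'₁.mkQ x = 0 := by
      apply hinj1
      rw [map_zero, ← LinearMap.comp_apply, ← LinearMap.rTensor_comp]
      have : ιq ∘ₗ N'₁.mkQ = P₁.mkQ ∘ₗ ι := by ext; rfl
      rw [this, LinearMap.rTensor_comp, LinearMap.comp_apply, hx, map_zero]
    obtain ⟨x₁, rfl⟩ := (hex x).1 h2
    have h3 : rTensor M ι₁ x₁ = 0 := by
      apply eq_zero_of_local I J hI2 t hloc hJ P₁ rfl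
      rw [← LinearMap.comp_apply, ← LinearMap.rTensor_comp]
      have : P₁.subtype ∘ₗ ι₁ = ι ∘ₗ N'₁.subtype := by ext; rfl
      rw [this, LinearMap.rTensor_comp, LinearMap.comp_apply]
      exact hx
    rw [(injective_iff_map_eq_zero _).1 hinj2 x₁ h3, map_zero]
  let e' := TensorProduct.AlgebraTensorModule.cancelBaseChange A (A ⧸ J) (A ⧸ J) 𝔟 M
  rw [injective_iff_map_eq_zero]
  intro x hx
  have h1 := cancel_natural (M := M) J 𝔟.subtype x
  rw [hx, map_zero] at h1
  have h2 : e' x = 0 := (injective_iff_map_eq_zero _).1 hC _ h1.symm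
  exact e'.injective (by rw [h2, map_zero])

end core

end Groth.Agent.Helper2.LocalSqFlat
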