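import Mathlib
import Groth.Prelude.Def_SGA3y
import Groth.Agent.Helper2.MM4
import Groth.Agent.Helper2.MM7
import Groth.Agent.Helper1.PBW4

set_option autoImplicit false
universe u v
open TensorProduct

attribute [local instance] LieRing.ofAssociativeRing

namespace Groth.Agent.Helper2.MM

open Groth.Agent.Helper1.PBW (mon theta thetaEquiv thetaEquiv_apply)

section main

variable (k : Type u) [Field k] [CharZero k] (H : Type v) [Ring H] [Bialgebra k H]

/-- the canonical map `U(P(H)) → H` -/
noncomputable abbrev liftP : UniversalEnvelopingAlgebra k (SGA3y.primLie k H) →ₐ[k] H :=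
  UniversalEnvelopingAlgebra.lift k (SGA3y.primLie k H).incl

theorem liftP_surjective [Coalgebra.IsCocomm k H] (hconn : SGA3y.IsConnectedCoalg k H) :
    Function.Surjective (liftP k H) := by
  intro x
  have hx := mem_adjoin_prim hconn x
  have hle : Algebra.adjoin k ((SGA3y.primLie k H : LieSubalgebra k H) : Set H) ≤
      (liftP k H).range := by
    apply Algebra.adjoin_le
    intro y hy
    rw [SetLike.mem_coe, AlgHom.mem_range]
    refine ⟨UniversalEnvelopingAlgebra.ι k (⟨y, hy⟩ : SGA3y.primLie k H), ?_⟩
    rw [UniversalEnvelopingAlgebra.lift_ι_apply]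
    rfl
  exact hle hx

theorem liftP_injective : Function.Injective (liftP k H) := by
  classical
  set g := SGA3y.primLie k H with hgdef
  let ι := Module.Free.ChooseBasisIndex k g
  let b : Module.Basis ι k g := Module.Free.chooseBasis k g
  letI : LinearOrder ι := IsWellOrder.linearOrder WellOrderingRel
  let p : ι → H := fun i => ((b i : g) : H)
  have hp : ∀ i, Coalgebra.comul (R := k) (p i) = p i ⊗ₜ[k] (1 : H) + (1 : H) ⊗ₜ[k] p i :=
    fun i => (b i).2
  have hli : LinearIndependent k p :=
    b.linearIndependent.map' g.toSubmodule.subtype (Submodule.ker_subtype _)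
  have hind := linearIndependent_hM p hp hli
  have hmon : ∀ M : Multiset ι, liftP k H (mon b M) = hM p M := by
    intro M
    rw [mon, map_list_prod, List.map_map, hM, hL]
    congr 1
    apply List.map_congr_left
    intro i _
    simp only [Function.comp_apply]
    rw [UniversalEnvelopingAlgebra.lift_ι_apply]
    rfl
  rw [injective_iff_map_eq_zero]
  intro x hx
  set v := (thetaEquiv b).symm x with hv
  have hxv : x = theta b v := by
    rw [← thetaEquiv_apply, hv, LinearEquiv.apply_symm_apply]
  have h1 : liftP k H x = Finsupp.linearCombination k (hM p) v := by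
    rw [hxv, theta]
    have := Finsupp.apply_linearCombination k (liftP k H).toLinearMap (mon b) v
    simp only [AlgHom.toLinearMap_apply] at this
    rw [this]
    have hfun : (⇑(liftP k H).toLinearMap ∘ mon b) = hM p := by
      funext M
      exact hmon M
    rw [hfun]
  rw [h1] at hx
  have hv0 : v = 0 := (linearIndependent_iff.mp hind) v hx
  rw [hxv, hv0, map_zero]

theorem liftP_bijective [Coalgebra.IsCocomm k H] (hconn : SGA3y.IsConnectedCoalg k H) :
    Function.Bijective (liftP k H) :=
  ⟨liftP_injective k H, liftP_surjective k H hconn⟩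

end main

end Groth.Agent.Helper2.MM
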