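import Mathlib
set_option autoImplicit false
universe u

namespace Groth.Agent.Helper2.MatA

variable {B : Type u} [CommRing B] {H : Type u} [AddCommGroup H] [Module B H]

/-- the `n`-power torsion submodule -/
def powTors (H : Type u) [AddCommGroup H] [Module B H] (n : Ideal B) : Submodule B H where
  carrier := {x | ∃ k : ℕ, ∀ a ∈ n ^ k, a • x = 0}
  zero_mem' := ⟨0, fun a _ => smul_zero a⟩
  add_mem' := by
    rintro x y ⟨k, hk⟩ ⟨l, hl⟩
    refine ⟨max k l, fun a ha => ?_⟩
    rw [smul_add, hk a (Ideal.pow_le_pow_right (le_max_left k l) ha),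
      hl a (Ideal.pow_le_pow_right (le_max_right k l) ha), add_zero]
  smul_mem' := by
    rintro c x ⟨k, hk⟩
    exact ⟨k, fun a ha => by rw [smul_comm, hk a ha, smul_zero]⟩

lemma mem_powTors {n : Ideal B} {x : H} :
    x ∈ powTors H n ↔ ∃ k : ℕ, ∀ a ∈ n ^ k, a • x = 0 := Iff.rfl

lemma exists_not_mem_smul_eq_zero (i : MaximalSpectrum B) (x : H)
    (hx : x ∈ ⨆ (j : MaximalSpectrum B) (_ : j ≠ i), powTors H j.asIdeal) :
    ∃ c : B, c ∉ i.asIdeal ∧ c • x = 0 := by
  refine Submodule.iSup_induction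
    (p := fun j : MaximalSpectrum B => ⨆ (_ : j ≠ i), powTors H j.asIdeal)
    (motive := fun x => ∃ c : B, c ∉ i.asIdeal ∧ c • x = 0) hx ?_ ?_ ?_
  · intro j x hx
    by_cases hj : j = i
    · subst hj
      simp only [ne_eq, not_true_eq_false, iSup_false, Submodule.mem_bot] at hx
      subst hx
      exact ⟨1, (Ideal.ne_top_iff_one _).1 j.isMaximal.ne_top, smul_zero _⟩
    · rw [iSup_pos hj] at hx
      obtain ⟨k, hk⟩ := hx
      have hnle : ¬ j.asIdeal ≤ i.asIdeal := by
        intro hle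
        apply hj
        ext1
        exact j.isMaximal.eq_of_le i.isMaximal.ne_top hle
      obtain ⟨b, hbj, hbi⟩ := SetLike.not_le_iff_exists.1 hnle
      refine ⟨b ^ k, fun h => hbi (i.isMaximal.isPrime.mem_of_pow_mem k h), ?_⟩
      exact hk _ (Ideal.pow_mem_pow hbj k)
  · exact ⟨1, (Ideal.ne_top_iff_one _).1 i.isMaximal.ne_top, smul_zero _⟩
  · intro x y hx hy
    obtain ⟨c, hc, hcx⟩ := hx
    obtain ⟨d, hd, hdy⟩ := hy
    refine ⟨c * d, fun h => ?_, ?_⟩
    · rcases i.isMaximal.isPrime.mem_or_mem h with h | h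
      · exact hc h
      · exact hd h
    · rw [smul_add, mul_smul, smul_comm, hcx, smul_zero, mul_smul, hdy, smul_zero, add_zero]

lemma iSupIndep_powTors :
    iSupIndep (fun n : MaximalSpectrum B => powTors H n.asIdeal) := by
  intro i
  rw [Submodule.disjoint_def]
  intro x hx1 hx2
  obtain ⟨c, hc, hcx⟩ := exists_not_mem_smul_eq_zero i x hx2
  obtain ⟨k, hk⟩ := hx1
  obtain ⟨y, t, ht, hyt⟩ := i.isMaximal.exists_inv hc
  have h1 : t • x = x := by
    have : t = 1 - y * c := by rw [← hyt]; ring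
    rw [this, sub_smul, one_smul, mul_smul, hcx, smul_zero, sub_zero]
  have h2 : ∀ m : ℕ, t ^ m • x = x := by
    intro m
    induction m with
    | zero => rw [pow_zero, one_smul]
    | succ m ih => rw [pow_succ, mul_smul, h1, ih]
  rw [← h2 k]
  exact hk _ (Ideal.pow_mem_pow ht k)

lemma iSup_powTors_eq_top
    (h : ∀ x : H, ∃ I : Ideal B, IsArtinianRing (B ⧸ I) ∧ ∀ a ∈ I, a • x = 0) :
    ⨆ n : MaximalSpectrum B, powTors H n.asIdeal = ⊤ := by
  rw [eq_top_iff]
  intro x _
  obtain ⟨I, hI, hx⟩ := h x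
  have : Fintype (MaximalSpectrum (B ⧸ I)) := Fintype.ofFinite _
  obtain ⟨N, hN⟩ := IsArtinianRing.isNilpotent_nilradical (R := B ⧸ I)
  have hN2 := IsArtinianRing.nilradical_pow_eq_iInf (B ⧸ I) N
  rw [hN] at hN2
  let q : MaximalSpectrum (B ⧸ I) → Ideal B :=
    fun m => m.asIdeal.comap (Ideal.Quotient.mk I)
  have hqmax : ∀ m, (q m).IsMaximal := fun m =>
    Ideal.comap_isMaximal_of_surjective _ Ideal.Quotient.mk_surjective (H := m.isMaximal)
  let p : MaximalSpectrum (B ⧸ I) → Ideal B := fun m => (q m) ^ N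
  have hp : ((Finset.univ : Finset (MaximalSpectrum (B ⧸ I))) : Set _).Pairwise
      fun i j => p i ⊔ p j = ⊤ := by
    intro m _ m' _ hne
    apply Ideal.pow_sup_pow_eq_top
    apply Ideal.IsMaximal.coprime_of_ne (hqmax m) (hqmax m')
    intro heq
    apply hne
    ext1
    exact Ideal.comap_injective_of_surjective _ Ideal.Quotient.mk_surjective heq
  have hle : (⨅ i ∈ (Finset.univ : Finset (MaximalSpectrum (B ⧸ I))), p i) ≤ I := by
    intro a ha
    rw [← Ideal.Quotient.eq_zero_iff_mem]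
    have : Ideal.Quotient.mk I a ∈ (⊥ : Ideal (B ⧸ I)) := by
      rw [show (⊥ : Ideal (B ⧸ I)) = 0 from rfl, hN2, Ideal.mem_iInf]
      intro m
      have ham : a ∈ p m := by
        rw [Ideal.mem_iInf] at ha
        have := ha m
        rw [Ideal.mem_iInf] at this
        exact this (Finset.mem_univ m)
      have h1 : Ideal.Quotient.mk I a ∈ (p m).map (Ideal.Quotient.mk I) :=
        Ideal.mem_map_of_mem _ ham
      rw [Ideal.map_pow] at h1
      exact Ideal.pow_right_mono Ideal.map_comap_le N h1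
    exact this
  have hxt : x ∈ Submodule.torsionBySet B H
      ((⨅ i ∈ (Finset.univ : Finset (MaximalSpectrum (B ⧸ I))), p i : Ideal B) : Set B) := by
    rw [Submodule.mem_torsionBySet_iff]
    intro ⟨a, ha⟩
    exact hx a (hle ha)
  rw [← Submodule.iSup_torsionBySet_ideal_eq_torsionBySet_iInf hp] at hxt
  refine (?_ : (⨆ i ∈ (Finset.univ : Finset (MaximalSpectrum (B ⧸ I))),
    Submodule.torsionBySet B H (p i : Set B)) ≤ _) hxt
  apply iSup_le
  intro m
  apply iSup_le
  intro _
  refine le_trans ?_ (le_iSup (fun n : MaximalSpectrum B => powTors H n.asIdeal) ⟨q m, hqmax m⟩)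
  intro y hy
  rw [Submodule.mem_torsionBySet_iff] at hy
  exact ⟨N, fun a ha => hy ⟨a, ha⟩⟩

/-- complement -/
lemma isCompl_powTors
    (h : ⨆ n : MaximalSpectrum B, powTors H n.asIdeal = ⊤) (i : MaximalSpectrum B) :
    IsCompl (powTors H i.asIdeal)
      (⨆ (j : MaximalSpectrum B) (_ : j ≠ i), powTors H j.asIdeal) := by
  refine ⟨iSupIndep_powTors i, ?_⟩
  rw [codisjoint_iff, eq_top_iff, ← h]
  apply iSup_le
  intro j
  by_cases hj : j = i
  · subst hj
    exact le_sup_left
  · refine le_trans ?_ le_sup_right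
    refine le_trans ?_ (le_iSup _ j)
    rw [iSup_pos hj]

lemma injective_of_isCompl (hH : Module.Injective B H) (P Q : Submodule B H) (hPQ : IsCompl P Q) :
    Module.Injective B P := by
  constructor
  intro X Y _ _ _ _ f hf g
  obtain ⟨h, hh⟩ := hH.out f hf (P.subtype.comp g)
  refine ⟨(Submodule.projectionOnto P Q hPQ).comp h, fun x => ?_⟩
  rw [LinearMap.comp_apply, hh, LinearMap.comp_apply, Submodule.subtype_apply,
    Submodule.projectionOnto_apply_left]

end Groth.Agent.Helper2.MatA
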