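import Mathlib
import Groth.Prelude.Def_Wider
import Groth.Agent.S6292
import Groth.Agent.Helper2.MatlisLen
import Groth.Agent.Helper2.Coext
import Groth.Agent.Helper2.MatA
open IsLocalRing Groth.Agent.Helper2.Coext Groth.Agent.Helper2.MatA

set_option autoImplicit false
universe u

namespace Groth.Agent.Helper2.MatB

section S1

variable {A B : Type u} [CommRing A] [IsLocalRing A] [CommRing B] [Algebra A B]
  [Module.Finite A B]
variable {E : Type u} [AddCommGroup E] [Module A E]

/-- every element of the coextension is killed by the extension of a power of the maximal ideal -/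
lemma exists_pow_smul_eq_zero (htor : LocCoh.IsPowerTorsion (maximalIdeal A) E)
    (g : (ModuleCat.coextendScalars (algebraMap A B)).obj (ModuleCat.of A E)) :
    ∃ k : ℕ, ∀ s ∈ (maximalIdeal A ^ k).map (algebraMap A B), s • g = 0 := by
  obtain ⟨S, hS⟩ := (Module.finite_def (R := A) (M := B)).1 inferInstance
  choose n hn using fun b : B => htor (toLin g b)
  have hk : ∀ a ∈ maximalIdeal A ^ (S.sup n), ∀ b : B, a • toLin g b = 0 := by
    intro a ha b
    have hb : b ∈ Submodule.span A (S : Set B) := by rw [hS]; trivial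
    induction hb using Submodule.span_induction with
    | mem x hx =>
      exact hn x a (Ideal.pow_le_pow_right (Finset.le_sup hx) ha)
    | zero => rw [map_zero, smul_zero]
    | add x y _ _ hx hy => rw [map_add, smul_add, hx, hy, add_zero]
    | smul c x _ hx => rw [map_smul, smul_comm, hx, smul_zero]
  have hk2 : ∀ s ∈ (maximalIdeal A ^ (S.sup n)).map (algebraMap A B), ∀ b : B,
      toLin g (b * s) = 0 := by
    intro s hs
    induction hs using Submodule.span_induction with
    | mem x hx =>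
      obtain ⟨a, ha, rfl⟩ := hx
      intro b
      rw [mul_comm, ← Algebra.smul_def, map_smul]
      exact hk a ha b
    | zero => intro b; rw [mul_zero, map_zero]
    | add x y _ _ hx hy => intro b; rw [mul_add, map_add, hx, hy, add_zero]
    | smul c x _ hx => intro b; rw [smul_eq_mul, ← mul_assoc]; exact hx (b * c)
  refine ⟨S.sup n, fun s hs => ?_⟩
  apply toLin_injective
  ext b
  rw [toLin_smul, toLin_zero, LinearMap.zero_apply]
  exact hk2 s hs b

lemma isArtinianRing_quot [IsNoetherianRing A] (k : ℕ) :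
    IsArtinianRing (B ⧸ (maximalIdeal A ^ k).map (algebraMap A B)) := by
  have hfl : IsFiniteLength A (B ⧸ (maximalIdeal A ^ k).map (algebraMap A B)) := by
    apply Groth.Agent.S6292.result (maximalIdeal A) (IsNoetherian.noetherian _) _ k
    rw [eq_bot_iff, Submodule.smul_le]
    intro a ha y _
    obtain ⟨b, rfl⟩ := Ideal.Quotient.mk_surjective y
    rw [Submodule.mem_bot]
    have h1 : a • (Ideal.Quotient.mk ((maximalIdeal A ^ k).map (algebraMap A B)) b) =
        Ideal.Quotient.mk _ (algebraMap A B a * b) := by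
      rw [← Algebra.smul_def]; rfl
    rw [h1, Ideal.Quotient.eq_zero_iff_mem]
    exact Ideal.mul_mem_right _ _ (Ideal.mem_map_of_mem _ ha)
  obtain ⟨_, hAr⟩ := isFiniteLength_iff_isNoetherian_isArtinian.1 hfl
  exact isArtinian_of_tower A hAr

lemma algebraMap_mem_of_isMaximal (n : Ideal B) [n.IsMaximal] (a : A) (ha : a ∈ maximalIdeal A) :
    algebraMap A B a ∈ n := by
  have : Algebra.IsIntegral A B := Algebra.IsIntegral.of_finite A B
  have hmax : (n.comap (algebraMap A B)).IsMaximal :=
    Ideal.isMaximal_comap_of_isIntegral_of_isMaximal n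
  have h := IsLocalRing.eq_maximalIdeal hmax
  have : a ∈ n.comap (algebraMap A B) := by rw [h]; exact ha
  exact this

lemma isFiniteLength_quot [IsNoetherianRing A] (n : Ideal B) [n.IsMaximal] :
    IsFiniteLength A (B ⧸ n) := by
  apply Groth.Agent.S6292.result (maximalIdeal A) (IsNoetherian.noetherian _) _ 1
  rw [eq_bot_iff, Submodule.smul_le]
  intro a ha y _
  obtain ⟨b, rfl⟩ := Ideal.Quotient.mk_surjective y
  rw [Submodule.mem_bot]
  have h1 : a • (Ideal.Quotient.mk n b) = Ideal.Quotient.mk n (algebraMap A B a * b) := by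
    rw [← Algebra.smul_def]; rfl
  rw [h1, Ideal.Quotient.eq_zero_iff_mem]
  rw [pow_one] at ha
  exact Ideal.mul_mem_right _ _ (algebraMap_mem_of_isMaximal n a ha)

end S1

section S2

variable {A B : Type u} [CommRing A] [CommRing B] [Algebra A B]
variable {E : Type u} [AddCommGroup E] [Module A E]

/-- the map `b ↦ θ0 (b • -)`. -/
noncomputable def PhiQ (n : Ideal B) (θ0 : (B ⧸ n) →ₗ[A] E) : B →ₗ[A] ((B ⧸ n) →ₗ[A] E) where
  toFun b :=
    { toFun := fun c => θ0 (b • c)
      map_add' := fun x y => by rw [smul_add, map_add]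
      map_smul' := fun a x => by rw [smul_comm, map_smul, RingHom.id_apply] }
  map_add' x y := by
    apply LinearMap.ext
    intro c
    simp only [LinearMap.coe_mk, AddHom.coe_mk, LinearMap.add_apply, add_smul, map_add]
  map_smul' a x := by
    apply LinearMap.ext
    intro c
    simp only [LinearMap.coe_mk, AddHom.coe_mk, LinearMap.smul_apply, RingHom.id_apply,
      smul_assoc, map_smul]

lemma PhiQ_apply (n : Ideal B) (θ0 : (B ⧸ n) →ₗ[A] E) (b : B) (c : B ⧸ n) :
    PhiQ n θ0 b c = θ0 (b • c) := rfl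

lemma smul_mk (n : Ideal B) (b c : B) :
    b • (Ideal.Quotient.mk n c) = Ideal.Quotient.mk n (b * c) := rfl

lemma ker_PhiQ (n : Ideal B) [hn : n.IsMaximal] (θ0 : (B ⧸ n) →ₗ[A] E) (h0 : θ0 ≠ 0) :
    LinearMap.ker (PhiQ n θ0) = n.restrictScalars A := by
  ext b
  rw [LinearMap.mem_ker, Submodule.restrictScalars_mem]
  constructor
  · intro h
    by_contra hb
    obtain ⟨y, t, ht, hyt⟩ := hn.exists_inv hb
    apply h0
    apply LinearMap.ext
    intro c
    have h1 := LinearMap.congr_fun h (y • c)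
    rw [PhiQ_apply, LinearMap.zero_apply] at h1
    have h2 : b • y • c = c := by
      obtain ⟨c', rfl⟩ := Ideal.Quotient.mk_surjective c
      rw [smul_mk, smul_mk, Ideal.Quotient.eq]
      have h3 : b * (y * c') - c' = - (t * c') := by
        have : b * (y * c') - c' = (y * b + t) * c' - c' - t * c' := by ring
        rw [this, hyt]; ring
      rw [h3]
      exact n.neg_mem (n.mul_mem_right _ ht)
    rw [h2] at h1
    rw [h1, LinearMap.zero_apply]
  · intro hb
    apply LinearMap.ext
    intro c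
    obtain ⟨c', rfl⟩ := Ideal.Quotient.mk_surjective c
    rw [PhiQ_apply, smul_mk, LinearMap.zero_apply]
    have : Ideal.Quotient.mk n (b * c') = 0 := by
      rw [Ideal.Quotient.eq_zero_iff_mem]
      exact n.mul_mem_right _ hb
    rw [this, map_zero]

end S2


section S3

variable {A B : Type u} [CommRing A] [IsLocalRing A] [CommRing B] [Algebra A B]
variable {E : Type u} [AddCommGroup E] [Module A E]

lemma range_PhiQ (n : Ideal B) [hn : n.IsMaximal]
    (hsimple : IsSimpleModule A (ResidueField A →ₗ[A] E))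
    (hinj : Module.Injective A E)
    (hfl : IsFiniteLength A (B ⧸ n))
    (θ0 : (B ⧸ n) →ₗ[A] E) (h0 : θ0 ≠ 0) :
    LinearMap.range (PhiQ n θ0) = ⊤ := by
  have hfin : Module.length A (B ⧸ n) ≠ ⊤ := Module.length_ne_top_iff.2 hfl
  have hT : Module.length A ((B ⧸ n) →ₗ[A] E) = Module.length A (B ⧸ n) :=
    Groth.Agent.Helper2.MatlisLen.key hsimple hinj (B ⧸ n) hfl
  have hTfl : IsFiniteLength A ((B ⧸ n) →ₗ[A] E) := by
    rw [← Module.length_ne_top_iff, hT]
    exact hfin
  obtain ⟨hN, hAr⟩ := isFiniteLength_iff_isNoetherian_isArtinian.1 hTfl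
  by_contra hne
  have hlt := Submodule.length_lt hne
  have e1 : (B ⧸ LinearMap.ker (PhiQ n θ0)) ≃ₗ[A] LinearMap.range (PhiQ n θ0) :=
    LinearMap.quotKerEquivRange (PhiQ n θ0)
  have e2 : (B ⧸ n.restrictScalars A) ≃ₗ[A] (B ⧸ n) :=
    Submodule.Quotient.restrictScalarsEquiv A n
  have e3 : (B ⧸ LinearMap.ker (PhiQ n θ0)) ≃ₗ[A] (B ⧸ n.restrictScalars A) :=
    Submodule.quotEquivOfEq _ _ (ker_PhiQ n θ0 h0)
  have hlen : Module.length A (LinearMap.range (PhiQ n θ0)) = Module.length A (B ⧸ n) := by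
    rw [← e1.length_eq, e3.length_eq, e2.length_eq]
  rw [hlen, hT] at hlt
  exact lt_irrefl _ hlt

/-- the socle of the coextension at `n` is generated by any nonzero element. -/
lemma exists_socle_gen (n : Ideal B) [hn : n.IsMaximal]
    (hsimple : IsSimpleModule A (ResidueField A →ₗ[A] E))
    (hinj : Module.Injective A E)
    (hfl : IsFiniteLength A (B ⧸ n)) :
    ∃ h₀ : (ModuleCat.coextendScalars (algebraMap A B)).obj (ModuleCat.of A E),
      h₀ ≠ 0 ∧ (∀ s ∈ n, s • h₀ = 0) ∧
      ∀ y : (ModuleCat.coextendScalars (algebraMap A B)).obj (ModuleCat.of A E),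
        (∀ s ∈ n, s • y = 0) → ∃ b : B, y = b • h₀ := by
  have hT : Module.length A ((B ⧸ n) →ₗ[A] E) = Module.length A (B ⧸ n) :=
    Groth.Agent.Helper2.MatlisLen.key hsimple hinj (B ⧸ n) hfl
  have hnt : Nontrivial ((B ⧸ n) →ₗ[A] E) := by
    rw [← Module.length_pos_iff (R := A), hT]
    exact Module.length_pos
  obtain ⟨θ0, hθ0⟩ := exists_ne (0 : (B ⧸ n) →ₗ[A] E)
  let π : B →ₗ[A] (B ⧸ n) := (Submodule.mkQ n).restrictScalars A
  have hπ : ∀ b : B, π b = Ideal.Quotient.mk n b := fun b => rfl
  refine ⟨ofLin (θ0.comp π), ?_, ?_, ?_⟩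
  · intro h
    apply hθ0
    apply LinearMap.ext
    intro c
    obtain ⟨c', rfl⟩ := Ideal.Quotient.mk_surjective c
    have h1 : toLin (ofLin (θ0.comp π)) c' = 0 := by rw [h, toLin_zero, LinearMap.zero_apply]
    rw [toLin_ofLin, LinearMap.comp_apply, hπ] at h1
    rw [h1, LinearMap.zero_apply]
  · intro s hs
    apply toLin_injective
    apply LinearMap.ext
    intro b
    rw [toLin_smul, toLin_ofLin, toLin_zero, LinearMap.zero_apply, LinearMap.comp_apply, hπ]
    have : Ideal.Quotient.mk n (b * s) = 0 := by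
      rw [Ideal.Quotient.eq_zero_iff_mem]
      exact n.mul_mem_left _ hs
    rw [this, map_zero]
  · intro y hy
    have hker : n.restrictScalars A ≤ LinearMap.ker (toLin y) := by
      intro s hs
      rw [Submodule.restrictScalars_mem] at hs
      rw [LinearMap.mem_ker]
      have := hy s hs
      have h2 : toLin (s • y) 1 = 0 := by rw [this, toLin_zero, LinearMap.zero_apply]
      rw [toLin_smul, one_mul] at h2
      exact h2
    let θy : (B ⧸ n) →ₗ[A] E :=
      ((n.restrictScalars A).liftQ (toLin y) hker).comp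
        (Submodule.Quotient.restrictScalarsEquiv A n).symm.toLinearMap
    have hθy : ∀ b : B, θy (Ideal.Quotient.mk n b) = toLin y b := fun b => rfl
    have hr := range_PhiQ n hsimple hinj hfl θ0 hθ0
    have : θy ∈ LinearMap.range (PhiQ n θ0) := by rw [hr]; trivial
    obtain ⟨b₀, hb₀⟩ := this
    refine ⟨b₀, ?_⟩
    apply toLin_injective
    apply LinearMap.ext
    intro b
    rw [toLin_smul, toLin_ofLin, LinearMap.comp_apply, hπ, ← hθy, ← hb₀, PhiQ_apply, smul_mk,
      mul_comm]

end S3

section S4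

variable {B : Type u} [CommRing B] {H : Type u} [AddCommGroup H] [Module B H]

/-- injective hull criterion for the `n`-power torsion part. -/
lemma exists_isInjectiveHull (n : Ideal B) [hn : n.IsMaximal]
    (hJ : Module.Injective B (powTors H n))
    (h₀ : H) (h0 : h₀ ≠ 0) (hs : ∀ s ∈ n, s • h₀ = 0)
    (hgen : ∀ y : H, (∀ s ∈ n, s • y = 0) → ∃ b : B, y = b • h₀) :
    ∃ g : (B ⧸ n) →ₗ[B] powTors H n, InjHull.IsInjectiveHull g := by
  have hmem : h₀ ∈ powTors H n := ⟨1, fun a ha => hs a (by rwa [pow_one] at ha)⟩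
  let g0 : B →ₗ[B] powTors H n := LinearMap.toSpanSingleton B (powTors H n) ⟨h₀, hmem⟩
  have hg0 : ∀ b : B, ((g0 b : powTors H n) : H) = b • h₀ := fun b => rfl
  have hker : n ≤ LinearMap.ker g0 := by
    intro s hs'
    rw [LinearMap.mem_ker]
    apply Subtype.ext
    rw [hg0, Submodule.coe_zero]
    exact hs s hs'
  let g : (B ⧸ n) →ₗ[B] powTors H n := Submodule.liftQ n g0 hker
  have hg : ∀ b : B, ((g (Ideal.Quotient.mk n b) : powTors H n) : H) = b • h₀ := fun b => rfl
  refine ⟨g, ⟨⟨?_, ?_⟩, hJ⟩⟩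
  · -- injective
    rw [← LinearMap.ker_eq_bot, eq_bot_iff]
    intro c hc
    rw [LinearMap.mem_ker] at hc
    obtain ⟨c', rfl⟩ := Ideal.Quotient.mk_surjective c
    rw [Submodule.mem_bot, Ideal.Quotient.eq_zero_iff_mem]
    by_contra hcn
    obtain ⟨y, t, ht, hyt⟩ := hn.exists_inv hcn
    apply h0
    have h1 : c' • h₀ = 0 := by
      rw [← hg, hc, Submodule.coe_zero]
    have : h₀ = (y * c' + t) • h₀ := by rw [hyt, one_smul]
    rw [this, add_smul, mul_smul, h1, smul_zero, hs t ht, add_zero]
  · -- essential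
    intro N' hN'
    obtain ⟨x, hxN, hx0⟩ := (Submodule.ne_bot_iff _).1 hN'
    have hxt : ∃ k : ℕ, ∀ a ∈ n ^ k, a • (x : H) = 0 := x.2
    classical
    have hk0 : Nat.find hxt ≠ 0 := by
      intro hk
      have := Nat.find_spec hxt
      rw [hk, pow_zero] at this
      have h1 := this 1 (by rw [Ideal.one_eq_top]; trivial)
      rw [one_smul] at h1
      exact hx0 (Subtype.ext h1)
    obtain ⟨k', hk'⟩ := Nat.exists_eq_succ_of_ne_zero hk0
    have hmin : ¬ ∀ a ∈ n ^ k', a • (x : H) = 0 := by
      apply Nat.find_min hxt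
      rw [hk']
      exact Nat.lt_succ_self k'
    push Not at hmin
    obtain ⟨a, ha, hax⟩ := hmin
    have hsoc : ∀ s ∈ n, s • (a • (x : H)) = 0 := by
      intro s hs'
      rw [smul_smul]
      apply Nat.find_spec hxt
      rw [hk', Nat.succ_eq_add_one, pow_succ']
      exact Ideal.mul_mem_mul hs' ha
    obtain ⟨b, hb⟩ := hgen _ hsoc
    rw [Ne, Submodule.eq_bot_iff]
    intro hcon
    apply hax
    have h2 : a • x = 0 := by
      apply hcon
      refine ⟨N'.smul_mem a hxN, ⟨Ideal.Quotient.mk n b, ?_⟩⟩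
      apply Subtype.ext
      rw [hg, Submodule.coe_smul, hb]
    have h3 := congrArg (fun z : powTors H n => (z : H)) h2
    simpa using h3

end S4

end Groth.Agent.Helper2.MatB
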