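import Mathlib
import Groth.Agent.Helper2.Grpd2

set_option autoImplicit false
universe u
open CategoryTheory CategoryTheory.Limits AlgebraicGeometry


namespace Groth.Agent.Helper2.MaxOpen

variable {P : MorphismProperty Scheme.{u}}

/-- restrictions of a base change are base changes of restrictions -/
lemma restrict_iff [P.RespectsIso] {X Y X' Y' : Scheme.{u}} {f : X ⟶ Y} {g : Y' ⟶ Y} {f' : X' ⟶ Y'}
    {top : X' ⟶ X} (sq : IsPullback top f' f g) (V : Y.Opens) (V' : Y'.Opens)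
    (e : V' ≤ g ⁻¹ᵁ V) :
    P (f' ∣_ V') ↔ P (pullback.snd (f ∣_ V) (g.resLE V V' e)) := by
  have sqA := (isPullback_morphismRestrict f' V').flip
  have sqB := (isPullback_morphismRestrict f V).flip
  have sqC := sqA.paste_horiz sq
  have hg' : V'.ι ≫ g = g.resLE V V' e ≫ V.ι := (Scheme.Hom.resLE_comp_ι g e).symm
  rw [hg'] at sqC
  let l : (f' ⁻¹ᵁ V' : Scheme) ⟶ (f ⁻¹ᵁ V : Scheme) :=
    sqB.lift ((f' ⁻¹ᵁ V').ι ≫ top) (f' ∣_ V' ≫ g.resLE V V' e) sqC.w
  have hl1 : l ≫ (f ⁻¹ᵁ V).ι = (f' ⁻¹ᵁ V').ι ≫ top := sqB.lift_fst _ _ _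
  have hl2 : l ≫ f ∣_ V = f' ∣_ V' ≫ g.resLE V V' e := sqB.lift_snd _ _ _
  have sqD : IsPullback l (f' ∣_ V') (f ∣_ V) (g.resLE V V' e) :=
    IsPullback.of_right (hl1 ▸ sqC) hl2 sqB
  have h := sqD.isoPullback_hom_snd
  rw [← h, P.cancel_left_of_respectsIso]


variable (Q : MorphismProperty Scheme.{u})

/-- the hypotheses on the covering property shared by the Zariski, étale, smooth and fppf
topologies -/
structure Nice : Prop where
  bc : Q.IsStableUnderBaseChange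
  res : ∀ {A B C : Scheme.{u}} (j : A ⟶ B) [IsOpenImmersion j] (h : B ⟶ C), Q h → Q (j ≫ h)
  isOpenMap : ∀ {A B : Scheme.{u}} (h : A ⟶ B), Q h → IsOpenMap h

variable {Q}

lemma Nice.resLE (hQ : Nice Q) {A B : Scheme.{u}} (g : A ⟶ B) (hg : Q g) (V : B.Opens)
    (V' : A.Opens) (e : V' ≤ g ⁻¹ᵁ V) : Q (g.resLE V V' e) := by
  haveI := hQ.bc
  have h1 : Q (g ∣_ V) := Q.of_isPullback (isPullback_morphismRestrict g V).flip hg
  exact hQ.res _ _ h1

lemma singleton_mem {A B : Scheme.{u}} (g : A ⟶ B) (hg : Q g) (hs : Function.Surjective g) :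
    Presieve.singleton g ∈ Scheme.precoverage Q B := by
  rw [← Presieve.ofArrows_pUnit.{0}, Scheme.ofArrows_mem_precoverage_iff]
  exact ⟨fun x => ⟨⟨⟩, hs x⟩, fun _ => hg⟩

lemma of_singleton_mem {A B : Scheme.{u}} (g : A ⟶ B)
    (h : Presieve.singleton g ∈ Scheme.precoverage Q B) : Q g ∧ Function.Surjective g := by
  rw [← Presieve.ofArrows_pUnit.{0}, Scheme.ofArrows_mem_precoverage_iff] at h
  exact ⟨h.2 ⟨⟩, fun x => (h.1 x).choose_spec⟩

variable [P.IsLocalAtTarget (Scheme.precoverage Q)]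

/-- Claim A: opens over which the base change has `P` lie over the maximal open. -/
lemma claimA (hQ : Nice Q) {X Y X' Y' : Scheme.{u}} {f : X ⟶ Y} {g : Y' ⟶ Y} {f' : X' ⟶ Y'}
    {top : X' ⟶ X} (sq : IsPullback top f' f g) (hg : Q g)
    (W : Y.Opens) (hmax : ∀ W' : Y.Opens, P (f ∣_ W') → W' ≤ W)
    (V' : Y'.Opens) (hV' : P (f' ∣_ V')) : V' ≤ g ⁻¹ᵁ W := by
  let V : Y.Opens := ⟨g '' V', hQ.isOpenMap g hg _ V'.2⟩
  have e : V' ≤ g ⁻¹ᵁ V := fun y hy => ⟨y, hy, rfl⟩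
  have hQ' : Q (g.resLE V V' e) := hQ.resLE g hg V V' e
  have hsurj : Function.Surjective (g.resLE V V' e) := by
    rintro ⟨_, y, hy, rfl⟩
    refine ⟨⟨y, hy⟩, ?_⟩
    apply Subtype.ext
    change V.ι (g.resLE V V' e ⟨y, hy⟩) = g y
    rw [← Scheme.Hom.comp_apply, Scheme.Hom.resLE_comp_ι, Scheme.Hom.comp_apply]
    rfl
  have hcov := singleton_mem _ hQ' hsurj
  have hPV : P (f ∣_ V) := by
    refine MorphismProperty.IsLocalAtTarget.of_forall_pullbackSnd hcov ?_
    intro U g'' _ hg''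
    cases hg''
    exact (restrict_iff sq V V' e).mp hV'
  have hVW : V ≤ W := hmax V hPV
  exact fun y hy => hVW ⟨y, hy, rfl⟩

/-- Claim B: the base change has `P` over the preimage of an open where `f` has `P`. -/
lemma claimB (hQ : Nice Q) {X Y X' Y' : Scheme.{u}} {f : X ⟶ Y} {g : Y' ⟶ Y} {f' : X' ⟶ Y'}
    {top : X' ⟶ X} (sq : IsPullback top f' f g) (hg : Q g) (hs : Function.Surjective g)
    (W : Y.Opens) (hW : P (f ∣_ W)) : P (f' ∣_ (g ⁻¹ᵁ W)) := by
  have e : g ⁻¹ᵁ W ≤ g ⁻¹ᵁ W := le_rfl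
  have hQ' : Q (g.resLE W (g ⁻¹ᵁ W) e) := hQ.resLE g hg W _ e
  have hsurj : Function.Surjective (g.resLE W (g ⁻¹ᵁ W) e) := by
    rintro ⟨w, hw⟩
    obtain ⟨y, rfl⟩ := hs w
    refine ⟨⟨y, hw⟩, ?_⟩
    apply Subtype.ext
    change W.ι (g.resLE W (g ⁻¹ᵁ W) e ⟨y, hw⟩) = g y
    rw [← Scheme.Hom.comp_apply, Scheme.Hom.resLE_comp_ι, Scheme.Hom.comp_apply]
    rfl
  have hcov := singleton_mem _ hQ' hsurj
  refine (restrict_iff (P := P) sq W (g ⁻¹ᵁ W) e).mpr ?_
  exact MorphismProperty.IsLocalAtTarget.pullbackSnd hcov (Presieve.singleton.mk) hW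


lemma nice_isOpenImmersion : Nice @IsOpenImmersion where
  bc := inferInstance
  res := fun j _ h hh => by
    haveI : IsOpenImmersion h := hh
    infer_instance
  isOpenMap := fun h hh => by
    haveI : IsOpenImmersion h := hh
    exact h.isOpenEmbedding.isOpenMap

lemma nice_etale : Nice @Etale where
  bc := inferInstance
  res := fun j _ h hh => by
    haveI : Etale h := hh
    infer_instance
  isOpenMap := fun h hh => by
    haveI : Etale h := hh
    exact h.isOpenMap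

lemma nice_smooth : Nice @Smooth where
  bc := inferInstance
  res := fun j _ h hh => by
    haveI : Smooth h := hh
    infer_instance
  isOpenMap := fun h hh => by
    haveI : Smooth h := hh
    exact h.isOpenMap

lemma nice_fppf : Nice (@Flat ⊓ @LocallyOfFinitePresentation) where
  bc := inferInstance
  res := fun j _ h hh => by
    haveI : Flat h := hh.1
    haveI : LocallyOfFinitePresentation h := hh.2
    exact ⟨inferInstance, inferInstance⟩
  isOpenMap := fun h hh => by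
    haveI : Flat h := hh.1
    haveI : LocallyOfFinitePresentation h := hh.2
    exact h.isOpenMap

open Groth.Agent.Helper2 in
theorem main {S : Scheme.{u}} (G : Grpd.GroupoidScheme S) (hQ : Nice Q)
    (hs : Presieve.singleton G.s ∈ Scheme.precoverage Q G.U)
    (ht : Presieve.singleton G.t ∈ Scheme.precoverage Q G.U) (W : G.U.Opens)
    (hW : P (G.s ∣_ W)) (hmax : ∀ W' : G.U.Opens, P (G.s ∣_ W') → W' ≤ W) :
    G.s ⁻¹ᵁ W = G.t ⁻¹ᵁ W := by
  obtain ⟨hQs, hss⟩ := of_singleton_mem _ hs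
  obtain ⟨hQt, hst⟩ := of_singleton_mem _ ht
  have sq1 : IsPullback (pullback.fst G.s G.t) (pullback.snd G.s G.t) G.s G.t :=
    IsPullback.of_hasPullback _ _
  have sq2 : IsPullback G.c (pullback.snd G.s G.t) G.s G.s := Grpd2.isPullback_c G
  apply le_antisymm
  · exact claimA hQ sq1 hQt W hmax _ (claimB hQ sq2 hQs hss W hW)
  · exact claimA hQ sq2 hQs W hmax _ (claimB hQ sq1 hQt hst W hW)

end Groth.Agent.Helper2.MaxOpen
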