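import Mathlib
import Groth.Agent.Helper2.MaxOpen

set_option autoImplicit false
universe u
open CategoryTheory CategoryTheory.Limits AlgebraicGeometry

namespace Groth.Agent.Helper2.MaxOpenSrc

open Groth.Agent.Helper2 Groth.Agent.Helper2.MaxOpen

variable {P Q : MorphismProperty Scheme.{u}}

/-- a two-element family `{e, 𝟙}` -/
noncomputable def Xfam (A B : Scheme.{u}) : Bool → Scheme.{u} := fun b => bif b then A else B

noncomputable def ffam {A B : Scheme.{u}} (e : A ⟶ B) : ∀ b, Xfam A B b ⟶ B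
  | true => e
  | false => 𝟙 B

lemma pair_mem {A B : Scheme.{u}} (e : A ⟶ B) (he : Q e) (hid : Q (𝟙 B)) :
    Presieve.ofArrows (Xfam A B) (ffam e) ∈ Scheme.precoverage Q B := by
  rw [Scheme.ofArrows_mem_precoverage_iff]
  refine ⟨fun x => ⟨false, x, rfl⟩, fun b => ?_⟩
  cases b
  · exact hid
  · exact he

/-- precomposition with a `Q`-morphism preserves a source-local property -/
lemma comp_of_Q [P.IsLocalAtSource (Scheme.precoverage Q)] {A B C : Scheme.{u}} (e : A ⟶ B)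
    (h : B ⟶ C) (he : Q e) (hid : Q (𝟙 B)) (hh : P h) : P (e ≫ h) :=
  MorphismProperty.IsLocalAtSource.comp (pair_mem e he hid) e (Presieve.ofArrows.mk true) hh

theorem source_main (hQ : Nice Q)
    (hQoi : ∀ {A B : Scheme.{u}} (j : A ⟶ B) [IsOpenImmersion j], Q j)
    [P.IsLocalAtSource (Scheme.precoverage Q)] {X Y : Scheme.{u}} (f : X ⟶ Y) :
    ∃ W : X.Opens, (P (W.ι ≫ f) ∧ ∀ W' : X.Opens, P (W'.ι ≫ f) → W' ≤ W) ∧
      ∀ (X' : Scheme.{u}) (g : X' ⟶ X), Q g → ∀ V : X'.Opens,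
        (P (V.ι ≫ g ≫ f) ∧ ∀ V' : X'.Opens, P (V'.ι ≫ g ≫ f) → V' ≤ V) → V = g ⁻¹ᵁ W := by
  let 𝒮 : Set X.Opens := {W' | P (W'.ι ≫ f)}
  let W : X.Opens := sSup 𝒮
  have hle : ∀ W' : 𝒮, W'.1 ≤ W := fun W' => le_sSup W'.2
  have hPW : P (W.ι ≫ f) := by
    have hcov : Presieve.ofArrows (fun W' : 𝒮 => (W'.1 : Scheme.{u}))
        (fun W' : 𝒮 => X.homOfLE (hle W')) ∈ Scheme.precoverage Q (W : Scheme.{u}) := by
      rw [Scheme.ofArrows_mem_precoverage_iff]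
      refine ⟨fun x => ?_, fun W' => hQoi _⟩
      obtain ⟨W', hW', hx⟩ := TopologicalSpace.Opens.mem_sSup.mp x.2
      refine ⟨⟨W', hW'⟩, ⟨x.1, hx⟩, ?_⟩
      apply Subtype.ext
      change W.ι (X.homOfLE (hle ⟨W', hW'⟩) ⟨x.1, hx⟩) = x.1
      rw [← Scheme.Hom.comp_apply, Scheme.homOfLE_ι]
      rfl
    refine MorphismProperty.IsLocalAtSource.of_forall_comp hcov ?_
    rintro _ _ ⟨W'⟩
    rw [← Category.assoc, Scheme.homOfLE_ι]
    exact W'.2
  refine ⟨W, ⟨hPW, fun W' hW' => le_sSup hW'⟩, ?_⟩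
  intro X' g hg V ⟨hPV, hVmax⟩
  apply le_antisymm
  · -- V ≤ g⁻¹ W
    let V₀ : X.Opens := ⟨g '' V, hQ.isOpenMap g hg _ V.2⟩
    have e : V ≤ g ⁻¹ᵁ V₀ := fun y hy => ⟨y, hy, rfl⟩
    have hQ' : Q (g.resLE V₀ V e) := hQ.resLE g hg V₀ V e
    have hsurj : Function.Surjective (g.resLE V₀ V e) := by
      rintro ⟨_, y, hy, rfl⟩
      refine ⟨⟨y, hy⟩, ?_⟩
      apply Subtype.ext
      change V₀.ι (g.resLE V₀ V e ⟨y, hy⟩) = g y
      rw [← Scheme.Hom.comp_apply, Scheme.Hom.resLE_comp_ι, Scheme.Hom.comp_apply]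
      rfl
    have hcov := singleton_mem _ hQ' hsurj
    have hPV₀ : P (V₀.ι ≫ f) := by
      refine MorphismProperty.IsLocalAtSource.of_forall_comp hcov ?_
      rintro _ _ ⟨⟩
      rw [← Category.assoc, Scheme.Hom.resLE_comp_ι, Category.assoc]
      exact hPV
    have : V₀ ≤ W := le_sSup hPV₀
    exact fun y hy => this ⟨y, hy, rfl⟩
  · apply hVmax
    have h1 : (g ⁻¹ᵁ W).ι ≫ g ≫ f = (g ∣_ W) ≫ W.ι ≫ f := by
      rw [← Category.assoc, ← Category.assoc, morphismRestrict_ι]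
    rw [h1]
    haveI := hQ.bc
    have hQr : Q (g ∣_ W) := Q.of_isPullback (isPullback_morphismRestrict g W).flip hg
    exact comp_of_Q _ _ hQr (hQoi _) hPW

end Groth.Agent.Helper2.MaxOpenSrc
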