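import Mathlib
import Groth.Agent.Helper2.MaxOpenSrc

set_option autoImplicit false
universe u
open CategoryTheory CategoryTheory.Limits AlgebraicGeometry

namespace Groth.Agent.Helper2.MaxOpenTgt
open Groth.Agent.Helper2 Groth.Agent.Helper2.MaxOpen Groth.Agent.Helper2.MaxOpenSrc

variable {P Q : MorphismProperty Scheme.{u}}

lemma restrict_top_iff [P.RespectsIso] {X Y : Scheme.{u}} (f : X ⟶ Y) :
    P (f ∣_ ⊤) ↔ P f := by
  have h := morphismRestrict_ι f ⊤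
  haveI hT : ∀ (Z : Scheme.{u}), IsIso (⊤ : Z.Opens).ι := fun Z =>
    (inferInstance : IsIso Z.topIso.hom)
  haveI : IsIso (f ⁻¹ᵁ ⊤).ι := by
    rw [Scheme.Hom.preimage_top]; infer_instance
  rw [← P.cancel_right_of_respectsIso (f ∣_ ⊤) (⊤ : Y.Opens).ι, h, P.cancel_left_of_respectsIso]

lemma restrict_homOfLE_iff [P.RespectsIso] {X Y : Scheme.{u}} (f : X ⟶ Y) {W₀ W : Y.Opens}
    (h : W₀ ≤ W) : P (pullback.snd (f ∣_ W) (Y.homOfLE h)) ↔ P (f ∣_ W₀) := by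
  have sqA := (isPullback_morphismRestrict f W₀).flip
  have sqB := (isPullback_morphismRestrict f W).flip
  have e1 : W₀.ι = Y.homOfLE h ≫ W.ι := (Scheme.homOfLE_ι Y h).symm
  rw [e1] at sqA
  have hle : f ⁻¹ᵁ W₀ ≤ f ⁻¹ᵁ W := fun x hx => h hx
  let l : (f ⁻¹ᵁ W₀ : Scheme) ⟶ (f ⁻¹ᵁ W : Scheme) :=
    sqB.lift ((f ⁻¹ᵁ W₀).ι) (f ∣_ W₀ ≫ Y.homOfLE h) sqA.w
  have hl1 : l ≫ (f ⁻¹ᵁ W).ι = (f ⁻¹ᵁ W₀).ι := sqB.lift_fst _ _ _
  have hl2 : l ≫ f ∣_ W = f ∣_ W₀ ≫ Y.homOfLE h := sqB.lift_snd _ _ _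
  have sqD : IsPullback l (f ∣_ W₀) (f ∣_ W) (Y.homOfLE h) :=
    IsPullback.of_right (hl1 ▸ sqA) hl2 sqB
  have h' := sqD.isoPullback_hom_snd
  rw [← h', P.cancel_left_of_respectsIso]

theorem target_main (hQ : Nice Q)
    (hQoi : ∀ {A B : Scheme.{u}} (j : A ⟶ B) [IsOpenImmersion j], Q j)
    [P.IsLocalAtTarget (Scheme.precoverage Q)] {X Y : Scheme.{u}} (f : X ⟶ Y) :
    ∃ W : Y.Opens, P (f ∣_ W) ∧ (∀ W₀ : Y.Opens, P (f ∣_ W₀) → W₀ ≤ W) ∧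
      (∀ (Y' : Scheme.{u}) (g : Y' ⟶ Y), Q g →
        P (pullback.snd f g) → Set.range g.base ⊆ (W : Set Y)) ∧
      (∀ (Y' : Scheme.{u}) (g : Y' ⟶ Y), Q g →
        ∀ W' : Y'.Opens, P (pullback.snd f g ∣_ W') →
          (∀ W₀ : Y'.Opens, P (pullback.snd f g ∣_ W₀) → W₀ ≤ W') → W' = g ⁻¹ᵁ W) := by
  let 𝒮 : Set Y.Opens := {W' | P (f ∣_ W')}
  let W : Y.Opens := sSup 𝒮
  have hle : ∀ W' : 𝒮, W'.1 ≤ W := fun W' => le_sSup W'.2
  have hPW : P (f ∣_ W) := by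
    have hcov : Presieve.ofArrows (fun W' : 𝒮 => (W'.1 : Scheme.{u}))
        (fun W' : 𝒮 => Y.homOfLE (hle W')) ∈ Scheme.precoverage Q (W : Scheme.{u}) := by
      rw [Scheme.ofArrows_mem_precoverage_iff]
      refine ⟨fun x => ?_, fun W' => hQoi _⟩
      obtain ⟨W', hW', hx⟩ := TopologicalSpace.Opens.mem_sSup.mp x.2
      refine ⟨⟨W', hW'⟩, ⟨x.1, hx⟩, ?_⟩
      apply Subtype.ext
      change W.ι (Y.homOfLE (hle ⟨W', hW'⟩) ⟨x.1, hx⟩) = x.1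
      rw [← Scheme.Hom.comp_apply, Scheme.homOfLE_ι]
      rfl
    refine MorphismProperty.IsLocalAtTarget.of_forall_pullbackSnd hcov ?_
    rintro _ _ _ ⟨W'⟩
    exact (restrict_homOfLE_iff f (hle W')).mpr W'.2
  have hmax : ∀ W₀ : Y.Opens, P (f ∣_ W₀) → W₀ ≤ W := fun W₀ h => le_sSup h
  refine ⟨W, hPW, hmax, ?_, ?_⟩
  · intro Y' g hg hP
    have sq : IsPullback (pullback.fst f g) (pullback.snd f g) f g := IsPullback.of_hasPullback _ _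
    have := claimA hQ sq hg W hmax ⊤ ((restrict_top_iff _).mpr hP)
    rintro _ ⟨y, rfl⟩
    exact this (show y ∈ (⊤ : Y'.Opens) from trivial)
  · intro Y' g hg W' hW' hW'max
    have sq : IsPullback (pullback.fst f g) (pullback.snd f g) f g := IsPullback.of_hasPullback _ _
    apply le_antisymm
    · exact claimA hQ sq hg W hmax W' hW'
    · apply hW'max
      have e : g ⁻¹ᵁ W ≤ g ⁻¹ᵁ W := le_rfl
      have hQ' : Q (g.resLE W (g ⁻¹ᵁ W) e) := hQ.resLE g hg W _ e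
      have hcov := pair_mem (g.resLE W (g ⁻¹ᵁ W) e) hQ' (hQoi (𝟙 _))
      refine (restrict_iff (P := P) sq W (g ⁻¹ᵁ W) e).mpr ?_
      exact MorphismProperty.IsLocalAtTarget.pullbackSnd hcov (Presieve.ofArrows.mk true) hPW

end Groth.Agent.Helper2.MaxOpenTgt
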