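import Mathlib
import Groth.Agent.Helper2.MaxOpenTgt

set_option autoImplicit false
universe u
open CategoryTheory CategoryTheory.Limits AlgebraicGeometry

namespace Groth.Agent.Helper2.MaxOpenFpqc
open Groth.Agent.Helper2 Groth.Agent.Helper2.MaxOpen Groth.Agent.Helper2.MaxOpenTgt

variable {P : MorphismProperty Scheme.{u}}

lemma restrict_mono [P.IsStableUnderBaseChange] {X Y : Scheme.{u}} (f : X ⟶ Y) {W₀ W : Y.Opens}
    (h : W₀ ≤ W) (hW : P (f ∣_ W)) : P (f ∣_ W₀) :=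
  (restrict_homOfLE_iff f h).mp (P.pullback_snd _ _ hW)

lemma resLE_surjective {X Y : Scheme.{u}} (g : X ⟶ Y) (U : X.Opens) (V : Y.Opens)
    (e : U ≤ g ⁻¹ᵁ V) (hV : (V : Set Y) ⊆ g '' U) : Function.Surjective (g.resLE V U e) := by
  rintro ⟨v, hv⟩
  obtain ⟨y, hy, rfl⟩ := hV hv
  refine ⟨⟨y, hy⟩, ?_⟩
  apply Subtype.ext
  change V.ι (g.resLE V U e ⟨y, hy⟩) = g y
  rw [← Scheme.Hom.comp_apply, Scheme.Hom.resLE_comp_ι, Scheme.Hom.comp_apply]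
  rfl

/-- the key local statement: flat open `g`; if the base change has `P` near `x` then `f` has `P`
near `g x`. -/
lemma exists_nhd [P.IsStableUnderBaseChange]
    [P.DescendsAlong (@Flat ⊓ @Surjective ⊓ @QuasiCompact)]
    {X Y Y' X' : Scheme.{u}} {f : X ⟶ Y} {g : Y' ⟶ Y} {f' : X' ⟶ Y'} {top : X' ⟶ X}
    (sq : IsPullback top f' f g) [Flat g] (hg : IsOpenMap g)
    (W₁ : Y'.Opens) (hW₁ : P (f' ∣_ W₁)) (x : Y') (hx : x ∈ W₁) :
    ∃ V : Y.Opens, g x ∈ V ∧ P (f ∣_ V) := by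
  obtain ⟨A, hA, hyA⟩ : ∃ A : Y.Opens, IsAffineOpen A ∧ g x ∈ A := by
    obtain ⟨_, ⟨A, hA, rfl⟩, hy, -⟩ := Y.isBasis_affineOpens.exists_subset_of_mem_open
      (Set.mem_univ (g x)) isOpen_univ
    exact ⟨A, hA, hy⟩
  obtain ⟨U, hU, hxU, hUle⟩ : ∃ U : Y'.Opens, IsAffineOpen U ∧ x ∈ U ∧ U ≤ W₁ ⊓ g ⁻¹ᵁ A := by
    obtain ⟨_, ⟨U, hU, rfl⟩, hxU, hUle⟩ := Y'.isBasis_affineOpens.exists_subset_of_mem_open
      (show x ∈ ((W₁ ⊓ g ⁻¹ᵁ A : Y'.Opens) : Set Y') from ⟨hx, hyA⟩) (W₁ ⊓ g ⁻¹ᵁ A).2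
    exact ⟨U, hU, hxU, hUle⟩
  let V : Y.Opens := ⟨g '' U, hg _ U.2⟩
  have hVA : V ≤ A := by
    rintro _ ⟨u, hu, rfl⟩
    exact (hUle hu).2
  have e : U ≤ g ⁻¹ᵁ V := fun u hu => ⟨u, hu, rfl⟩
  refine ⟨V, ⟨x, hxU, rfl⟩, ?_⟩
  haveI : CompactSpace U := isCompact_iff_compactSpace.mp hU.isCompact
  haveI : QuasiSeparatedSpace V := by
    have h1 : IsQuasiSeparated (V : Set Y) := hA.isQuasiSeparated.of_subset hVA
    exact (isQuasiSeparated_iff_quasiSeparatedSpace _ V.2).mp h1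
  have hQ : (@Flat ⊓ @Surjective ⊓ @QuasiCompact : MorphismProperty Scheme.{u}) (g.resLE V U e) := by
    refine ⟨⟨inferInstance, ⟨resLE_surjective g U V e (fun _ h => h)⟩⟩, inferInstance⟩
  have hPU : P (f' ∣_ U) := restrict_mono f' (fun _ h => (hUle h).1) hW₁
  have h2 := (restrict_iff (P := P) sq V U e).mp hPU
  exact MorphismProperty.DescendsAlong.of_isPullback
    (IsPullback.of_hasPullback (f ∣_ V) (g.resLE V U e)).flip hQ h2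

end Groth.Agent.Helper2.MaxOpenFpqc
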