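import Mathlib
import Groth.Agent.Helper2.MaxOpenFpqc
import Groth.Agent.Helper2.GrpShear

set_option autoImplicit false
universe u
open CategoryTheory CategoryTheory.Limits AlgebraicGeometry MonoidalCategory CartesianMonoidalCategory MonObj GrpObj

namespace Groth.Agent.Helper2.MaxOpenGrp
open Groth.Agent.Helper2 Groth.Agent.Helper2.MaxOpen Groth.Agent.Helper2.MaxOpenTgt
  Groth.Agent.Helper2.MaxOpenFpqc Groth.Agent.Helper2.GrpShear

variable {P : MorphismProperty Scheme.{u}}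

theorem isPullback_whiskerLeft {S : Scheme.{u}} {E B : Over S} (j : E ⟶ B) (W : Over S) :
    IsPullback (W ◁ j) (snd W E) (snd W B) j := by
  refine ⟨⟨by rw [whiskerLeft_snd]⟩, ⟨PullbackCone.IsLimit.mk _
    (fun s => lift (s.fst ≫ fst W B) s.snd) ?_ ?_ ?_⟩⟩
  · intro s
    rw [lift_whiskerLeft]
    have h1 : s.snd ≫ j = s.fst ≫ snd W B := s.condition.symm
    rw [h1, ← comp_lift, lift_fst_snd, Category.comp_id]
  · intro s
    rw [lift_snd]
  · intro s m hm1 hm2
    ext1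
    · rw [lift_fst, ← hm1, Category.assoc, whiskerLeft_fst]
    · rw [lift_snd, hm2]

/-- two flat open base changes with the same pulled-back morphism have the same preimage of the
largest open. -/
lemma preimage_eq_of_two_squares [P.IsStableUnderBaseChange]
    [P.DescendsAlong (@Flat ⊓ @Surjective ⊓ @QuasiCompact)]
    {X Y Y' X' : Scheme.{u}} {f : X ⟶ Y} {g₁ g₂ : Y' ⟶ Y} {f' : X' ⟶ Y'} {top₁ top₂ : X' ⟶ X}
    (sq₁ : IsPullback top₁ f' f g₁) (sq₂ : IsPullback top₂ f' f g₂) [Flat g₁] [Flat g₂]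
    (h₁ : IsOpenMap g₁) (h₂ : IsOpenMap g₂)
    (W : Y.Opens) (hW : P (f ∣_ W)) (hmax : ∀ W₀ : Y.Opens, P (f ∣_ W₀) → W₀ ≤ W) :
    g₁ ⁻¹ᵁ W = g₂ ⁻¹ᵁ W := by
  apply le_antisymm
  · intro x hx
    have h : P (f' ∣_ (g₁ ⁻¹ᵁ W)) :=
      (restrict_iff (P := P) sq₁ W (g₁ ⁻¹ᵁ W) le_rfl).mpr (P.pullback_snd _ _ hW)
    obtain ⟨V, hxV, hV⟩ := exists_nhd sq₂ h₂ _ h x hx
    exact hmax V hV hxV
  · intro x hx
    have h : P (f' ∣_ (g₂ ⁻¹ᵁ W)) :=
      (restrict_iff (P := P) sq₂ W (g₂ ⁻¹ᵁ W) le_rfl).mpr (P.pullback_snd _ _ hW)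
    obtain ⟨V, hxV, hV⟩ := exists_nhd sq₁ h₁ _ h x hx
    exact hmax V hV hxV

section
variable {S : Scheme.{u}} (G H : Over S) [GrpObj G] [GrpObj H] (u : G ⟶ H) [IsMonHom u]

lemma comm : shear G (𝟙 G) ≫ (G ◁ u) = (G ◁ u) ≫ shear H u := by
  apply CartesianMonoidalCategory.hom_ext
  · simp [shear]
  · simp only [shear, Category.assoc, whiskerLeft_snd, lift_snd, lift_snd_assoc]
    rw [MonObj.mul_comp, MonObj.comp_mul]
    simp

instance : IsIso (shear G (𝟙 G)) := ⟨shearInv G (𝟙 G), shear_shearInv G _, shearInv_shear G _⟩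
instance : IsIso (shear H u) := ⟨shearInv H u, shear_shearInv H _, shearInv_shear H _⟩

lemma shear_snd : shear G (𝟙 G) ≫ snd G G = μ[G] := by
  rw [shear, lift_snd, Category.comp_id, Hom.mul_def, lift_fst_snd, Category.id_comp]

lemma sq2 : IsPullback μ[G] (G ◁ u) u (shear H u ≫ snd G H) := by
  have sq1 : IsPullback (snd G G) (G ◁ u) u (snd G H) := (isPullback_whiskerLeft u G).flip
  have := (IsPullback.of_horiz_isIso ⟨comm G H u⟩).paste_horiz sq1
  rwa [shear_snd] at this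

variable [Flat G.hom] [UniversallyOpen G.hom]

lemma key (W : H.left.Opens) (hW : P (u.left ∣_ W)) [P.IsStableUnderBaseChange]
    [P.DescendsAlong (@Flat ⊓ @Surjective ⊓ @QuasiCompact)]
    (hmax : ∀ W' : H.left.Opens, P (u.left ∣_ W') → W' ≤ W) (z : ↥(G ⊗ G).left) :
    (snd G G).left z ∈ u.left ⁻¹ᵁ W ↔ μ[G].left z ∈ u.left ⁻¹ᵁ W := by
  have sq1 : IsPullback (snd G G).left (G ◁ u).left u.left (snd G H).left :=
    ((isPullback_whiskerLeft u G).flip).map (Over.forget S)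
  have sq2' : IsPullback μ[G].left (G ◁ u).left u.left (shear H u ≫ snd G H).left :=
    (sq2 G H u).map (Over.forget S)
  haveI : Flat (snd G H).left := by
    rw [Over.snd_left]; infer_instance
  haveI : UniversallyOpen (snd G H).left := by
    rw [Over.snd_left]; infer_instance
  haveI : IsIso (shear H u).left := (Over.forget S).map_isIso (shear H u)
  haveI : Flat (shear H u ≫ snd G H).left := by
    rw [Over.comp_left]; infer_instance
  haveI : UniversallyOpen (shear H u ≫ snd G H).left := by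
    rw [Over.comp_left]; infer_instance
  have heq := preimage_eq_of_two_squares (P := P) sq1 sq2' (snd G H).left.isOpenMap
    (shear H u ≫ snd G H).left.isOpenMap W hW hmax
  have e1 : u.left ((snd G G).left z) = (snd G H).left ((G ◁ u).left z) := by
    rw [← Scheme.Hom.comp_apply, ← Scheme.Hom.comp_apply, sq1.w]
  have e2 : u.left (μ[G].left z) = (shear H u ≫ snd G H).left ((G ◁ u).left z) := by
    rw [← Scheme.Hom.comp_apply, ← Scheme.Hom.comp_apply, sq2'.w]
  change u.left ((snd G G).left z) ∈ W ↔ u.left (μ[G].left z) ∈ W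
  rw [e1, e2]
  exact ⟨fun h => (heq ▸ (show (G ◁ u).left z ∈ (snd G H).left ⁻¹ᵁ W from h) :),
    fun h => (heq.symm ▸ (show (G ◁ u).left z ∈ (shear H u ≫ snd G H).left ⁻¹ᵁ W from h) :)⟩

end

end Groth.Agent.Helper2.MaxOpenGrp
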