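import Mathlib
import Groth.Agent.Helper2.MaxOpenGrp
import Groth.Agent.Helper2.HS2

set_option autoImplicit false
universe u
open CategoryTheory CategoryTheory.Limits AlgebraicGeometry MonoidalCategory CartesianMonoidalCategory MonObj GrpObj

namespace Groth.Agent.Helper2.MaxOpenAct
open Groth.Agent.Helper2 Groth.Agent.Helper2.MaxOpen Groth.Agent.Helper2.MaxOpenTgt
  Groth.Agent.Helper2.MaxOpenFpqc Groth.Agent.Helper2.MaxOpenGrp

variable {P : MorphismProperty Scheme.{u}}

/-- descent of `P` along the (flat, universally open, surjective) restriction `U → g(U)`. -/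
lemma image_has [P.IsStableUnderBaseChange]
    [P.DescendsAlong (@Flat ⊓ @Surjective ⊓ @UniversallyOpen)]
    {X Y Y' X' : Scheme.{u}} {f : X ⟶ Y} {g : Y' ⟶ Y} {f' : X' ⟶ Y'} {top : X' ⟶ X}
    (sq : IsPullback top f' f g) [Flat g] [UniversallyOpen g]
    (U : Y'.Opens) (hU : P (f' ∣_ U)) (V : Y.Opens) (hV : (V : Set Y) = g '' U) :
    P (f ∣_ V) := by
  have e : U ≤ g ⁻¹ᵁ V := fun u hu => by
    change g u ∈ (V : Set Y)
    rw [hV]; exact ⟨u, hu, rfl⟩
  haveI : UniversallyOpen (g ∣_ V) :=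
    MorphismProperty.of_isPullback (P := @UniversallyOpen)
      (isPullback_morphismRestrict g V).flip inferInstance
  haveI : UniversallyOpen (g.resLE V U e) := by
    rw [Scheme.Hom.resLE]; infer_instance
  have hQ : (@Flat ⊓ @Surjective ⊓ @UniversallyOpen : MorphismProperty Scheme.{u})
      (g.resLE V U e) := by
    refine ⟨⟨inferInstance, ⟨resLE_surjective g U V e hV.le⟩⟩, inferInstance⟩
  have h2 := (restrict_iff (P := P) sq V U e).mp hU
  exact MorphismProperty.DescendsAlong.of_isPullback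
    (IsPullback.of_hasPullback (f ∣_ V) (g.resLE V U e)).flip hQ h2

section
variable {S : Scheme.{u}} {G X Y : Over S} [GrpObj G]
  (aX : AlgGrp.Action G X) (aY : AlgGrp.Action G Y) (f : X ⟶ Y)
  (hf : (G ◁ f) ≫ aY.act = aX.act ≫ f)

include hf in
lemma comm : HS2.shear aX (𝟙 G) ≫ (G ◁ f) = (G ◁ f) ≫ HS2.shear aY (𝟙 G) := by
  apply CartesianMonoidalCategory.hom_ext
  · simp [HS2.shear]
  · simp only [HS2.shear, Category.assoc, whiskerLeft_snd, lift_snd, lift_snd_assoc,
      Category.comp_id]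
    rw [← HS2.act_eq, ← HS2.act_eq, hf]

lemma shear_snd : HS2.shear aX (𝟙 G) ≫ snd G X = aX.act := by
  rw [HS2.shear, lift_snd, Category.comp_id, ← HS2.act_eq]

include hf in
lemma sq2 : IsPullback aX.act (G ◁ f) f aY.act := by
  have sq1 : IsPullback (snd G X) (G ◁ f) f (snd G Y) := (isPullback_whiskerLeft f G).flip
  have := (IsPullback.of_horiz_isIso ⟨comm aX aY f hf⟩).paste_horiz sq1
  rwa [shear_snd, shear_snd] at this

end

end Groth.Agent.Helper2.MaxOpenAct
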