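import Mathlib
import Groth.Agent.Helper2.MaxOpenGrp

set_option autoImplicit false
universe u
open CategoryTheory CategoryTheory.Limits AlgebraicGeometry MonoidalCategory CartesianMonoidalCategory MonObj GrpObj

namespace Groth.Agent.Helper2.MaxOpenUO
open Groth.Agent.Helper2 Groth.Agent.Helper2.MaxOpen Groth.Agent.Helper2.MaxOpenTgt
  Groth.Agent.Helper2.MaxOpenFpqc Groth.Agent.Helper2.MaxOpenGrp Groth.Agent.Helper2.GrpShear

/-- universal openness descends along surjections of the source -/
lemma univOpen_of_comp_surj {A B C : Scheme.{u}} (e : A ⟶ B) [Surjective e] (h : B ⟶ C)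
    [UniversallyOpen (e ≫ h)] : UniversallyOpen h := by
  refine ⟨fun X' Y' i₁ i₂ f' hf => ?_⟩
  have sqA : IsPullback (pullback.snd e i₁) (pullback.fst e i₁) i₁ e :=
    (IsPullback.of_hasPullback e i₁).flip
  have sq := sqA.paste_horiz hf
  have hopen : IsOpenMap (pullback.snd e i₁ ≫ f') :=
    UniversallyOpen.universally_isOpenMap _ _ _ sq
  have hsurj : Function.Surjective (pullback.snd e i₁) :=
    (inferInstance : Surjective (pullback.snd e i₁)).surj
  intro W hW
  have : f' '' W = (pullback.snd e i₁ ≫ f') '' ((pullback.snd e i₁) ⁻¹' W) := by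
    ext y
    constructor
    · rintro ⟨x, hx, rfl⟩
      obtain ⟨a, rfl⟩ := hsurj x
      exact ⟨a, hx, rfl⟩
    · rintro ⟨a, ha, rfl⟩
      exact ⟨pullback.snd e i₁ a, ha, rfl⟩
  rw [this]
  exact hopen _ (hW.preimage (pullback.snd e i₁).continuous)

theorem isPullback_whiskerRight {S : Scheme.{u}} {E B : Over S} (j : E ⟶ B) (W : Over S) :
    IsPullback (j ▷ W) (fst E W) (fst B W) j := by
  refine ⟨⟨by rw [whiskerRight_fst]⟩, ⟨PullbackCone.IsLimit.mk _
    (fun s => lift s.snd (s.fst ≫ snd B W)) ?_ ?_ ?_⟩⟩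
  · intro s
    rw [lift_whiskerRight]
    have h1 : s.snd ≫ j = s.fst ≫ fst B W := s.condition.symm
    rw [h1, ← comp_lift, lift_fst_snd, Category.comp_id]
  · intro s
    rw [lift_fst]
  · intro s m hm1 hm2
    ext1
    · rw [lift_fst, hm2]
    · rw [lift_snd, ← hm1, Category.assoc, whiskerRight_snd]

section
variable {S : Scheme.{u}} (G H : Over S) [GrpObj G] [GrpObj H] (u : G ⟶ H) [IsMonHom u]

lemma comm' {T : Over S} (j : T ⟶ G) :
    shear G j ≫ (T ◁ u) = (T ◁ u) ≫ shear H (j ≫ u) := by
  apply CartesianMonoidalCategory.hom_ext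
  · simp [shear]
  · simp only [shear, Category.assoc, whiskerLeft_snd, lift_snd, lift_snd_assoc]
    rw [MonObj.mul_comp, MonObj.comp_mul]
    simp

instance {T : Over S} (j : T ⟶ G) : IsIso (shear G j) :=
  ⟨shearInv G j, shear_shearInv G _, shearInv_shear G _⟩

lemma shear_snd' {T : Over S} (j : T ⟶ G) : shear G j ≫ snd T G = (j ▷ G) ≫ μ[G] := by
  rw [translate_eq, shear, lift_snd]

variable (V : G.left.Opens)

/-- `V` as an object over `S` -/
noncomputable def VT : Over S := Over.mk (V.ι ≫ G.hom)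

noncomputable def jV : VT G V ⟶ G := Over.homMk V.ι rfl

/-- the open `V ×_S V` of `V ×_S G` -/
noncomputable def VV : (VT G V ⊗ G).left.Opens := (snd (VT G V) G).left ⁻¹ᵁ V

/-- the multiplication `V ×_S V → G` -/
noncomputable def m : ((VV G V : (VT G V ⊗ G).left.Opens) : Scheme.{u}) ⟶ G.left :=
  (VV G V).ι ≫ ((jV G V ▷ G) ≫ μ[G]).left

variable (hV : UniversallyOpen (V.ι ≫ u.left)) (hVS : UniversallyOpen (V.ι ≫ G.hom))

include hV in
lemma step1 : UniversallyOpen ((VV G V).ι ≫ (VT G V ◁ u).left) := by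
  have sqA := (isPullback_morphismRestrict (snd (VT G V) G).left V)
  have sqB : IsPullback (snd (VT G V) G).left (VT G V ◁ u).left u.left (snd (VT G V) H).left :=
    ((isPullback_whiskerLeft u (VT G V)).flip).map (Over.forget S)
  have sq := sqA.paste_vert sqB
  exact MorphismProperty.of_isPullback (P := @UniversallyOpen) sq hV

include hV hVS in
lemma step2 : UniversallyOpen (m G V ≫ u.left) := by
  have h1 : m G V ≫ u.left = ((VV G V).ι ≫ (VT G V ◁ u).left) ≫
      (shear H (jV G V ≫ u)).left ≫ (snd (VT G V) H).left := by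
    rw [m, Category.assoc, ← Over.comp_left, ← shear_snd', Category.assoc, ← Over.comp_left,
      Category.assoc, ← whiskerLeft_snd, ← Category.assoc (shear G (jV G V)), comm' G H u,
      Category.assoc, Over.comp_left, Over.comp_left]
  rw [h1]
  haveI := step1 G H u V hV
  haveI : IsIso (shear H (jV G V ≫ u)).left := (Over.forget S).map_isIso (shear H (jV G V ≫ u))
  haveI : UniversallyOpen (snd (VT G V) H).left := by
    rw [Over.snd_left]
    exact MorphismProperty.pullback_snd _ _ hVS
  infer_instance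

include hVS in
lemma m_univOpen : UniversallyOpen (m G V) := by
  have h1 : m G V = (VV G V).ι ≫ (shear G (jV G V)).left ≫ (snd (VT G V) G).left := by
    rw [m, ← Over.comp_left, ← shear_snd']
  rw [h1]
  haveI : IsIso (shear G (jV G V)).left := (Over.forget S).map_isIso (shear G (jV G V))
  haveI : UniversallyOpen (snd (VT G V) G).left := by
    rw [Over.snd_left]
    exact MorphismProperty.pullback_snd _ _ hVS
  infer_instance

include hV hVS in
lemma range_m_le (hmax : ∀ W : G.left.Opens, UniversallyOpen (W.ι ≫ u.left) → W ≤ V) :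
    Set.range (m G V) ⊆ (V : Set G.left) := by
  haveI := m_univOpen G V hVS
  let O : G.left.Opens := ⟨Set.range (m G V), (m G V).isOpenMap.isOpen_range⟩
  have hO : ∀ x, m G V x ∈ O := fun x => ⟨x, rfl⟩
  let m' : ((VV G V : (VT G V ⊗ G).left.Opens) : Scheme.{u}) ⟶ (O : Scheme.{u}) :=
    IsOpenImmersion.lift O.ι (m G V) (by
      rw [Scheme.Opens.range_ι]
      rintro _ ⟨x, rfl⟩
      exact hO x)
  have hm' : m' ≫ O.ι = m G V := IsOpenImmersion.lift_fac _ _ _
  haveI : Surjective m' := by
    constructor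
    rintro ⟨_, x, rfl⟩
    refine ⟨x, ?_⟩
    apply Subtype.ext
    change O.ι (m' x) = m G V x
    rw [← Scheme.Hom.comp_apply, hm']
  haveI : UniversallyOpen (m' ≫ O.ι ≫ u.left) := by
    rw [← Category.assoc, hm']
    exact step2 G H u V hV hVS
  have : UniversallyOpen (O.ι ≫ u.left) := univOpen_of_comp_surj m' _
  exact hmax O this

end

end Groth.Agent.Helper2.MaxOpenUO
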