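import Mathlib
import Groth.Prelude
import Groth.Agent.Helper2.MaxSupp4

set_option autoImplicit false
set_option linter.unusedVariables false
open CategoryTheory CategoryTheory.Limits AlgebraicGeometry TopologicalSpace Topology TensorProduct
open IsLocalRing
universe u

namespace Groth.Agent.Helper2.MaxSupp

theorem s4653 {X Y : Scheme.{u}} (f : X ⟶ Y) (F : X.Modules) (hF : Coh.IsCoh F)
    (hfl : FlatMod.IsFlatOver f F) (E : Y.Modules) (hE : Coh.IsCoh E) (x : X) :
    (x ∈ CohB1.support (CohB1.tensorMod ((Scheme.Modules.pullback f).obj E) F) ∧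
        ∀ z ∈ CohB1.support (CohB1.tensorMod ((Scheme.Modules.pullback f).obj E) F), z ⤳ x → z = x) ↔
      ((f x ∈ CohB1.support E ∧ ∀ w ∈ CohB1.support E, w ⤳ f x → w = f x) ∧
        (f.asFiber x ∈ CohB1.support ((Scheme.Modules.pullback (f.fiberι (f x))).obj F) ∧
          ∀ z ∈ CohB1.support ((Scheme.Modules.pullback (f.fiberι (f x))).obj F),
            z ⤳ f.asFiber x → z = f.asFiber x)) := by
  haveI : F.IsQuasicoherent := hF.1
  -- the support of the tensor product
  have hW : ∀ z : X, z ∈ CohB1.support (CohB1.tensorMod ((Scheme.Modules.pullback f).obj E) F) ↔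
      (f z ∈ CohB1.support E ∧ z ∈ CohB1.support F) := by
    intro z
    simp only [CohB1.support, Set.mem_setOf_eq]
    rw [subsingleton_stalk_tensor_iff f F hF.2 E z (hfl z), not_or]
  -- the support of the restriction to the fibre
  have hT : ∀ z' : ↥(f.fiber (f x)),
      z' ∈ CohB1.support ((Scheme.Modules.pullback (f.fiberι (f x))).obj F) ↔
        f.fiberι (f x) z' ∈ CohB1.support F := by
    intro z'
    simp only [CohB1.support, Set.mem_setOf_eq]
    rw [subsingleton_stalk_fibre_iff' f F hF.2 (f x) z']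
  have hx0 : f.fiberι (f x) (f.asFiber x) = x := f.fiberι_asFiber x
  have hfib : ∀ z' : ↥(f.fiber (f x)), f (f.fiberι (f x) z') = f x := by
    intro z'
    have : f.fiberι (f x) z' ∈ Set.range (f.fiberι (f x)) := ⟨z', rfl⟩
    rw [f.range_fiberι] at this
    exact this
  have hemb := (f.fiberι (f x)).isEmbedding
  constructor
  · rintro ⟨hxW, hmax⟩
    obtain ⟨hxE, hxF⟩ := (hW x).1 hxW
    refine ⟨⟨hxE, ?_⟩, ?_, ?_⟩
    · intro w hwE hw
      obtain ⟨z, hzx, hfz, hzF⟩ := exists_generization_lift f F hF.2 x (hfl x) hxF w hw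
      have hzW : z ∈ CohB1.support (CohB1.tensorMod ((Scheme.Modules.pullback f).obj E) F) :=
        (hW z).2 ⟨by rw [hfz]; exact hwE, hzF⟩
      have := hmax z hzW hzx
      rw [← hfz, this]
    · rw [hT, hx0]
      exact hxF
    · intro z' hz' hsp
      rw [hT] at hz'
      have hsp' : f.fiberι (f x) z' ⤳ x := by
        have := hsp.map (f.fiberι (f x)).continuous
        rwa [hx0] at this
      have hzW : f.fiberι (f x) z' ∈
          CohB1.support (CohB1.tensorMod ((Scheme.Modules.pullback f).obj E) F) :=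
        (hW _).2 ⟨by rw [hfib z']; exact hxE, hz'⟩
      have h1 := hmax _ hzW hsp'
      apply hemb.injective
      rw [h1, hx0]
  · rintro ⟨⟨hxE, hmaxE⟩, hxT, hmaxT⟩
    rw [hT, hx0] at hxT
    refine ⟨(hW x).2 ⟨hxE, hxT⟩, ?_⟩
    intro z hzW hzx
    obtain ⟨hzE, hzF⟩ := (hW z).1 hzW
    have hfz : f z = f x := hmaxE (f z) hzE (hzx.map f.continuous)
    have hzr : z ∈ Set.range (f.fiberι (f x)) := by
      rw [f.range_fiberι]
      exact hfz
    obtain ⟨z', rfl⟩ := hzr
    have hsp : z' ⤳ f.asFiber x := by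
      rw [← hemb.isInducing.specializes_iff, hx0]
      exact hzx
    have := hmaxT z' ((hT z').2 hzF) hsp
    rw [this, hx0]

end Groth.Agent.Helper2.MaxSupp
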