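import Mathlib
import Groth.Agent.Helper2.ComplLocFlat

set_option autoImplicit false

namespace Groth.Agent.Helper2.MaxTens

open IsLocalRing TensorProduct

universe u

section

variable (A B : Type u) [CommRing A] [CommRing B] [Algebra A B] [IsNoetherianRing A]
  (q : Ideal B) [q.IsPrime]

local notation "Bq" => Localization.AtPrime q
local notation "Ap" => Localization.AtPrime (q.under A)
local notation "Âp" => AdicCompletion (maximalIdeal (Localization.AtPrime (q.under A)))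
    (Localization.AtPrime (q.under A))

/-- the local map `A_p → B_q` as an `A`-algebra hom -/
noncomputable def loc : Ap →ₐ[A] Bq :=
  { Localization.localRingHom (q.under A) q (algebraMap A B) rfl with
    commutes' := fun a => by
      show Localization.localRingHom (q.under A) q (algebraMap A B) rfl (algebraMap A Ap a) = _
      rw [Localization.localRingHom_to_map, ← IsScalarTower.algebraMap_apply] }

theorem algebraMap_mem_of_mem {a : A} (ha : a ∈ q.under A) :
    algebraMap A Bq a ∈ maximalIdeal Bq := by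
  rw [IsScalarTower.algebraMap_apply A B Bq]
  exact (IsLocalization.AtPrime.to_map_mem_maximal_iff Bq q _).mpr ha

theorem isUnit_algebraMap_of_notMem {s : A} (hs : s ∉ q.under A) :
    IsUnit (algebraMap A Bq s) := by
  rw [IsScalarTower.algebraMap_apply A B Bq]
  exact IsLocalization.map_units Bq (⟨algebraMap A B s, hs⟩ : q.primeCompl)

/-- the residue map of `B_q` as an `A`-algebra hom -/
noncomputable def fres : Bq →ₐ[A] ResidueField Bq := IsScalarTower.toAlgHom A Bq (ResidueField Bq)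

theorem fres_apply (b : Bq) : fres A B q b = residue Bq b := rfl

theorem hkill (x : Ap) (hx : x ∈ maximalIdeal Ap) : (fres A B q).comp (loc A B q) x = 0 := by
  show residue Bq (Localization.localRingHom (q.under A) q (algebraMap A B) rfl x) = 0
  rw [residue_eq_zero_iff]
  haveI := Localization.isLocalHom_localRingHom (q.under A) q (algebraMap A B) rfl
  rw [mem_maximalIdeal, mem_nonunits_iff] at hx ⊢
  exact fun hu => hx (isUnit_of_map_unit _ _ hu)

/-- the map `T → κ(q)` -/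
noncomputable def φ : Bq ⊗[A] Âp →ₐ[A] ResidueField Bq :=
  Algebra.TensorProduct.lift (fres A B q)
    ((Ideal.Quotient.liftₐ (maximalIdeal Ap) ((fres A B q).comp (loc A B q)) (hkill A B q)).comp
      ((AdicCompletion.evalOneₐ (maximalIdeal Ap)).restrictScalars A))
    (fun _ _ => Commute.all _ _)

theorem φ_tmul_one (b : Bq) : φ A B q (b ⊗ₜ 1) = residue Bq b := by
  rw [φ, Algebra.TensorProduct.lift_tmul, map_one, mul_one, fres_apply]

theorem map_le_ker : (maximalIdeal Bq).map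
    (Algebra.TensorProduct.includeLeftRingHom : Bq →+* Bq ⊗[A] Âp) ≤
      RingHom.ker (φ A B q : Bq ⊗[A] Âp →+* ResidueField Bq) := by
  rw [Ideal.map_le_iff_le_comap]
  intro b hb
  rw [Ideal.mem_comap, RingHom.mem_ker]
  show φ A B q (b ⊗ₜ 1) = 0
  rw [φ_tmul_one, residue_eq_zero_iff]
  exact hb

theorem one_notMem : (1 : Bq ⊗[A] Âp) ∉ (maximalIdeal Bq).map
    (Algebra.TensorProduct.includeLeftRingHom : Bq →+* Bq ⊗[A] Âp) := by
  intro h
  have := map_le_ker A B q h
  rw [RingHom.mem_ker, map_one] at this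
  exact one_ne_zero this

theorem tmul_mem_of_mem (y : Âp) (hy : y ∈ (maximalIdeal Ap).map (algebraMap Ap Âp)) (b : Bq) :
    b ⊗ₜ[A] y ∈ (maximalIdeal Bq).map
      (Algebra.TensorProduct.includeLeftRingHom : Bq →+* Bq ⊗[A] Âp) := by
  have h0 : maximalIdeal Ap = (q.under A).map (algebraMap A Ap) :=
    Localization.AtPrime.map_eq_maximalIdeal.symm
  have hmap : ∀ (K : Ideal Ap), K = (q.under A).map (algebraMap A Ap) →
      K.map (algebraMap Ap Âp) = (q.under A).map (algebraMap A Âp) := by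
    rintro K rfl
    rw [Ideal.map_map, ← IsScalarTower.algebraMap_eq]
  rw [hmap _ h0] at hy
  revert b
  refine Submodule.span_induction (p := fun y _ => ∀ b : Bq, b ⊗ₜ[A] y ∈ (maximalIdeal Bq).map
      (Algebra.TensorProduct.includeLeftRingHom : Bq →+* Bq ⊗[A] Âp)) ?_ ?_ ?_ ?_ hy
  · rintro _ ⟨a, ha, rfl⟩ b
    have h1 : b ⊗ₜ[A] (algebraMap A Âp a) = (algebraMap A Bq a * b) ⊗ₜ[A] (1 : Âp) := by
      rw [Algebra.algebraMap_eq_smul_one, TensorProduct.tmul_smul, TensorProduct.smul_tmul',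
        Algebra.smul_def]
    rw [h1]
    exact Ideal.mem_map_of_mem _ (Ideal.mul_mem_right _ _ (algebraMap_mem_of_mem A B q ha))
  · intro b
    rw [TensorProduct.tmul_zero]
    exact Ideal.zero_mem _
  · intro x y _ _ hx hy b
    rw [TensorProduct.tmul_add]
    exact Ideal.add_mem _ (hx b) (hy b)
  · intro c y _ hy b
    have h1 : b ⊗ₜ[A] (c • y) = ((1 : Bq) ⊗ₜ[A] c) * (b ⊗ₜ[A] y) := by
      rw [Algebra.TensorProduct.tmul_mul_tmul, one_mul, smul_eq_mul]
    rw [h1]
    exact Ideal.mul_mem_left _ _ (hy b)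

theorem tmul_algebraMap_mk' (b : Bq) (a : A) (s : (q.under A).primeCompl) :
    ∃ b' : Bq, b ⊗ₜ[A] (algebraMap Ap Âp (IsLocalization.mk' Ap a s)) = b' ⊗ₜ[A] (1 : Âp) := by
  obtain ⟨u, hu⟩ := isUnit_algebraMap_of_notMem A B q s.2
  refine ⟨a • ((↑u⁻¹ : Bq) * b), ?_⟩
  have hb : b = (s : A) • ((↑u⁻¹ : Bq) * b) := by
    rw [Algebra.smul_def, ← hu, ← mul_assoc, Units.mul_inv, one_mul]
  have hz : (s : A) • algebraMap Ap Âp (IsLocalization.mk' Ap a s) = a • (1 : Âp) := by
    rw [← Algebra.algebraMap_eq_smul_one, IsScalarTower.algebraMap_apply A Ap Âp a,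
      ← IsLocalization.mk'_spec' Ap a s, map_mul, Algebra.smul_def,
      IsScalarTower.algebraMap_apply A Ap Âp (s : A)]
  conv_lhs => rw [hb]
  rw [TensorProduct.smul_tmul, hz, TensorProduct.tmul_smul, TensorProduct.smul_tmul']

theorem exists_decomp (t : Bq ⊗[A] Âp) :
    ∃ b : Bq, t - b ⊗ₜ[A] (1 : Âp) ∈ (maximalIdeal Bq).map
      (Algebra.TensorProduct.includeLeftRingHom : Bq →+* Bq ⊗[A] Âp) := by
  induction t using TensorProduct.induction_on with
  | zero => exact ⟨0, by rw [TensorProduct.zero_tmul, sub_zero]; exact Ideal.zero_mem _⟩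
  | add t₁ t₂ h₁ h₂ =>
    obtain ⟨b₁, hb₁⟩ := h₁
    obtain ⟨b₂, hb₂⟩ := h₂
    refine ⟨b₁ + b₂, ?_⟩
    have : t₁ + t₂ - (b₁ + b₂) ⊗ₜ[A] (1 : Âp) = (t₁ - b₁ ⊗ₜ[A] (1 : Âp)) + (t₂ - b₂ ⊗ₜ[A] (1 : Âp)) := by
      rw [TensorProduct.add_tmul]; abel
    rw [this]
    exact Ideal.add_mem _ hb₁ hb₂
  | tmul b x =>
    have fg : (maximalIdeal Ap).FG := (maximalIdeal Ap).fg_of_isNoetherianRing
    obtain ⟨a', ha'⟩ := ComplLocFlat.exists_sub_mem (maximalIdeal Ap) fg 1 x
    rw [pow_one] at ha'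
    obtain ⟨⟨a, s⟩, rfl⟩ := IsLocalization.mk'_surjective (q.under A).primeCompl a'
    obtain ⟨b', hb'⟩ := tmul_algebraMap_mk' A B q b a s
    refine ⟨b', ?_⟩
    rw [← hb', ← TensorProduct.tmul_sub]
    exact tmul_mem_of_mem A B q _ ha' b

theorem isMaximal : ((maximalIdeal Bq).map
    (Algebra.TensorProduct.includeLeftRingHom : Bq →+* Bq ⊗[A] Âp)).IsMaximal := by
  rw [Ideal.isMaximal_iff]
  refine ⟨one_notMem A B q, fun J x hJ hx hxJ => ?_⟩
  obtain ⟨b, hb⟩ := exists_decomp A B q x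
  have hbu : IsUnit b := by
    by_contra hnu
    apply hx
    have h1 : b ⊗ₜ[A] (1 : Âp) ∈ (maximalIdeal Bq).map
        (Algebra.TensorProduct.includeLeftRingHom : Bq →+* Bq ⊗[A] Âp) :=
      Ideal.mem_map_of_mem _ ((mem_maximalIdeal b).mpr hnu)
    have := Ideal.add_mem _ hb h1
    rwa [sub_add_cancel] at this
  have h2 : b ⊗ₜ[A] (1 : Âp) ∈ J := by
    have := J.sub_mem hxJ (hJ hb)
    rwa [sub_sub_cancel] at this
  have h3 : IsUnit (b ⊗ₜ[A] (1 : Âp)) :=
    hbu.map (Algebra.TensorProduct.includeLeftRingHom : Bq →+* Bq ⊗[A] Âp)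
  exact (Ideal.eq_top_of_isUnit_mem J h2 h3) ▸ Submodule.mem_top

end

end Groth.Agent.Helper2.MaxTens
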