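import Mathlib
import Groth.Prelude.Def_MeroDiv
set_option autoImplicit false
universe u
open CategoryTheory AlgebraicGeometry TopologicalSpace Opposite

namespace Groth.Agent.Helper2.MeroDiv2

open Mero

variable {X : Scheme.{u}}

/-- restriction of a global section of `K_X` -/
noncomputable abbrev resTop (f : Γ(kmod X, ⊤)) (U : X.Opens) : Γ(kmod X, U) :=
  (kmod X).presheaf.map (homOfLE (le_top : U ≤ ⊤)).op f

theorem resTop_apply (f : Γ(kmod X, ⊤)) (U : X.Opens) (x : U) :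
    (resTop f U).1 x = f.1 ⟨x.1, Opens.mem_top x.1⟩ := rfl

theorem divCond_mul (D D' : Divisor X) (f : (Γ(kmod X, ⊤))ˣ)
    (hD : ∀ x : X, D.1 x = D'.1 x * germOf f ⟨x, Opens.mem_top x⟩) (x : X) (t : KStalk X x)
    (ht : DivCond D x t) :
    DivCond D' x (t * (f : Γ(kmod X, ⊤)).1 ⟨x, Opens.mem_top x⟩) := by
  intro g' hg'
  have h1 : D.1 x = QuotientGroup.mk
      (g' * Units.map (evalK X ⊤ ⟨x, Opens.mem_top x⟩).toMonoidHom f) := by
    rw [hD x, hg', germOf, QuotientGroup.mk_mul]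
  have h2 := ht _ h1
  have e : t * (f : Γ(kmod X, ⊤)).1 ⟨x, Opens.mem_top x⟩ * (g' : KStalk X x) =
      t * ((g' * Units.map (evalK X ⊤ ⟨x, Opens.mem_top x⟩).toMonoidHom f : (KStalk X x)ˣ) :
        KStalk X x) := by
    rw [Units.val_mul]
    change _ = t * ((g' : KStalk X x) * (f : Γ(kmod X, ⊤)).1 ⟨x, Opens.mem_top x⟩)
    ring
  rw [e]; exact h2

/-- multiplication by a global unit of `K_X`, on sections -/
noncomputable def mulFun (D D' : Divisor X) (f : (Γ(kmod X, ⊤))ˣ)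
    (hD : ∀ x : X, D.1 x = D'.1 x * germOf f ⟨x, Opens.mem_top x⟩) (U : X.Opens) :
    Γ(divMod D, U) →+ Γ(divMod D', U) where
  toFun t := ⟨fun x => t.1 x * (f : Γ(kmod X, ⊤)).1 ⟨x.1, Opens.mem_top x.1⟩,
    ⟨kLoc_mul X U _ _ t.2.1 (resTop (f : Γ(kmod X, ⊤)) U).2,
      fun x => divCond_mul D D' f hD x.1 _ (t.2.2 x)⟩⟩
  map_zero' := Subtype.ext <| funext fun x => by
    change (0 : KStalk X x.1) * _ = 0
    rw [zero_mul]
  map_add' s t := Subtype.ext <| funext fun x => by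
    change (s.1 x + t.1 x) * _ = s.1 x * _ + t.1 x * _
    rw [add_mul]

theorem mulFun_apply (D D' : Divisor X) (f : (Γ(kmod X, ⊤))ˣ)
    (hD : ∀ x : X, D.1 x = D'.1 x * germOf f ⟨x, Opens.mem_top x⟩) (U : X.Opens)
    (t : Γ(divMod D, U)) (x : U) :
    (mulFun D D' f hD U t).1 x = t.1 x * (f : Γ(kmod X, ⊤)).1 ⟨x.1, Opens.mem_top x.1⟩ := rfl

noncomputable def mulHom (D D' : Divisor X) (f : (Γ(kmod X, ⊤))ˣ)
    (hD : ∀ x : X, D.1 x = D'.1 x * germOf f ⟨x, Opens.mem_top x⟩) : divMod D ⟶ divMod D' :=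
  ⟨PresheafOfModules.homMk (M₁ := (divMod D).val) (M₂ := (divMod D').val)
    { app := fun U => AddCommGrpCat.ofHom (mulFun D D' f hD U.unop)
      naturality := by intros; rfl }
    (fun U r t => Subtype.ext <| funext fun x => by
      change (X.presheaf.germ U.unop x.1 x.2 r • t.1 x) * _ =
        X.presheaf.germ U.unop x.1 x.2 r • (t.1 x * _)
      rw [smul_mul_assoc])⟩

theorem mulHom_app (D D' : Divisor X) (f : (Γ(kmod X, ⊤))ˣ)
    (hD : ∀ x : X, D.1 x = D'.1 x * germOf f ⟨x, Opens.mem_top x⟩) (U : X.Opens)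
    (t : Γ(divMod D, U)) (x : U) :
    ((mulHom D D' f hD).app U t).1 x = t.1 x * (f : Γ(kmod X, ⊤)).1 ⟨x.1, Opens.mem_top x.1⟩ :=
  rfl

theorem hD_inv (D D' : Divisor X) (f : (Γ(kmod X, ⊤))ˣ)
    (hD : ∀ x : X, D.1 x = D'.1 x * germOf f ⟨x, Opens.mem_top x⟩) :
    ∀ x : X, D'.1 x = D.1 x * germOf f⁻¹ ⟨x, Opens.mem_top x⟩ := by
  intro x
  rw [hD x, germOf, germOf, map_inv, QuotientGroup.mk_inv, mul_assoc, mul_inv_cancel, mul_one]

theorem val_mul_inv (f : (Γ(kmod X, ⊤))ˣ) (x : X) :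
    (f : Γ(kmod X, ⊤)).1 ⟨x, Opens.mem_top x⟩ *
      ((f⁻¹ : (Γ(kmod X, ⊤))ˣ) : Γ(kmod X, ⊤)).1 ⟨x, Opens.mem_top x⟩ = 1 := by
  have h : (f : Γ(kmod X, ⊤)) * ((f⁻¹ : (Γ(kmod X, ⊤))ˣ) : Γ(kmod X, ⊤)) = 1 := f.mul_inv
  have := congrArg (fun s : Γ(kmod X, ⊤) => s.1 ⟨x, Opens.mem_top x⟩) h
  exact this

noncomputable def mulIso (D D' : Divisor X) (f : (Γ(kmod X, ⊤))ˣ)
    (hD : ∀ x : X, D.1 x = D'.1 x * germOf f ⟨x, Opens.mem_top x⟩) : divMod D ≅ divMod D' where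
  hom := mulHom D D' f hD
  inv := mulHom D' D f⁻¹ (hD_inv D D' f hD)
  hom_inv_id := by
    apply Scheme.Modules.hom_ext
    intro U
    ext t
    refine Subtype.ext (funext fun x => ?_)
    change (t.1 x * (f : Γ(kmod X, ⊤)).1 ⟨x.1, Opens.mem_top x.1⟩) *
      ((f⁻¹ : (Γ(kmod X, ⊤))ˣ) : Γ(kmod X, ⊤)).1 ⟨x.1, Opens.mem_top x.1⟩ = t.1 x
    rw [mul_assoc, val_mul_inv, mul_one]
  inv_hom_id := by
    apply Scheme.Modules.hom_ext
    intro U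
    ext t
    refine Subtype.ext (funext fun x => ?_)
    change (t.1 x * ((f⁻¹ : (Γ(kmod X, ⊤))ˣ) : Γ(kmod X, ⊤)).1 ⟨x.1, Opens.mem_top x.1⟩) *
      (f : Γ(kmod X, ⊤)).1 ⟨x.1, Opens.mem_top x.1⟩ = t.1 x
    rw [mul_assoc, mul_comm (((f⁻¹ : (Γ(kmod X, ⊤))ˣ) : Γ(kmod X, ⊤)).1 _), val_mul_inv, mul_one]

theorem s5083 (X : Scheme.{u}) (D D' : Mero.Divisor X) (h : Mero.LinEquiv D D') :
    Nonempty (Mero.divMod D ≅ Mero.divMod D') := by
  obtain ⟨f, hf⟩ := h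
  refine ⟨mulIso D D' f fun x => ?_⟩
  have h1 : D = D' * div f := by rw [← hf, mul_comm D, mul_inv_cancel_left]
  rw [h1]
  rfl

end Groth.Agent.Helper2.MeroDiv2
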