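import Mathlib
import Groth.Prelude.Def_EtMil
import Groth.Agent.Helper7.EtMil
import Groth.Agent.Helper7.MilnorGlue
import Groth.Agent.Helper7.MilnorGlue3
import Groth.Agent.Helper7.MilnorIdeal

/-! Relative Milnor squares: the base change `D' → D × C' → C` of a fibre square. -/

set_option autoImplicit false
universe u
open TensorProduct

namespace Groth.Agent.Helper2.MilnorRel

open Groth.Agent.Helper7

section
variable {B' B A' A : Type u} [CommRing B'] [CommRing B] [CommRing A'] [CommRing A]
  [Algebra B' B] [Algebra B' A'] [Algebra B A] [Algebra A' A] [Algebra B' A]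
  [IsScalarTower B' B A] [IsScalarTower B' A' A]
  {D' D C' C : Type u} [CommRing D'] [CommRing D] [CommRing C'] [CommRing C]
  [Algebra B' D'] [Algebra B D] [Algebra A' C'] [Algebra A C]
  [Algebra D' D] [Algebra B' D] [IsScalarTower B' B D] [IsScalarTower B' D' D]
  [Algebra D' C'] [Algebra B' C'] [IsScalarTower B' A' C'] [IsScalarTower B' D' C']
  [Algebra D' C] [Algebra B' C] [IsScalarTower B' A C] [IsScalarTower B' D' C]
  [Algebra D C] [IsScalarTower D' D C] [Algebra B C] [IsScalarTower B A C] [IsScalarTower B D C]
  [Algebra C' C] [IsScalarTower D' C' C] [Algebra A' C] [IsScalarTower A' A C] [IsScalarTower A' C' C]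

/-- generic: base change of a surjection is a surjection. -/
theorem surjective_of_isPushout {R S R' S' : Type*} [CommRing R] [CommRing S] [CommRing R']
    [CommRing S'] [Algebra R S] [Algebra R R'] [Algebra S S'] [Algebra R' S'] [Algebra R S']
    [IsScalarTower R S S'] [IsScalarTower R R' S'] [h : Algebra.IsPushout R S R' S']
    (hs : Function.Surjective (algebraMap R S)) : Function.Surjective (algebraMap R' S') := by
  intro x
  refine h.out.inductionOn x (fun x => ∃ y, algebraMap R' S' y = x) ⟨0, map_zero _⟩ ?_ ?_ ?_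
  · intro m
    exact ⟨m, rfl⟩
  · rintro s _ ⟨y, rfl⟩
    obtain ⟨r, rfl⟩ := hs s
    refine ⟨r • y, ?_⟩
    rw [Algebra.smul_def, map_mul, ← IsScalarTower.algebraMap_apply,
      IsScalarTower.algebraMap_apply R S S', Algebra.smul_def]
  · rintro _ _ ⟨y₁, rfl⟩ ⟨y₂, rfl⟩
    exact ⟨y₁ + y₂, map_add _ _ _⟩

/-- generic: kernel of the base change of a surjection. -/
theorem ker_le_map_of_isPushout {R S R' S' : Type*} [CommRing R] [CommRing S] [CommRing R']
    [CommRing S'] [Algebra R S] [Algebra R R'] [Algebra S S'] [Algebra R' S'] [Algebra R S']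
    [IsScalarTower R S S'] [IsScalarTower R R' S'] [h : Algebra.IsPushout R S R' S']
    (hs : Function.Surjective (algebraMap R S)) :
    RingHom.ker (algebraMap R' S') ≤ (RingHom.ker (algebraMap R S)).map (algebraMap R R') := by
  intro x hx
  have h1 : ((1 : S) ⊗ₜ[R] x : S ⊗[R] R') = 0 := by
    apply (Algebra.IsPushout.equiv R S R' S').injective
    rw [Algebra.IsPushout.equiv_tmul, map_one, one_mul, map_zero]
    exact hx
  have h2 := MilnorGlue.mem_ker_smul_top_of_one_tmul_eq_zero hs x h1
  rw [Ideal.smul_top_eq_map] at h2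
  exact h2

variable (B' D') in
include D' in
theorem isScalarTower_B'C'C : IsScalarTower B' C' C :=
  IsScalarTower.of_algebraMap_eq fun x => by
    rw [IsScalarTower.algebraMap_apply B' D' C', ← IsScalarTower.algebraMap_apply D' C' C,
      ← IsScalarTower.algebraMap_apply B' D' C]

variable [Algebra.IsPushout B' B D' D] [Algebra.IsPushout B' A' D' C'] [Algebra.IsPushout B' A D' C]

variable (B' D') in
include B' D' in
theorem isPushout_right : Algebra.IsPushout A' A C' C := by
  haveI := isScalarTower_B'C'C B' D' (C' := C') (C := C)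
  exact (Algebra.IsPushout.comp_iff B' A' D' C' (T := A) (T' := C)).mp inferInstance

theorem surjD (hsq : EtMil.IsFibreSquare B' B A' A) : Function.Surjective (algebraMap D' D) :=
  surjective_of_isPushout (R := B') (S := B) (EtMilH.surjB hsq)

variable (D') in
include D' in
theorem surjC (hsq : EtMil.IsFibreSquare B' B A' A) : Function.Surjective (algebraMap C' C) := by
  haveI : Algebra.IsPushout A' A C' C := isPushout_right B' D'
  exact surjective_of_isPushout (R := A') (S := A) hsq.1

/-- `D' → D ×_C C'` is surjective. -/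
theorem exists_lift (hsq : EtMil.IsFibreSquare B' B A' A) (d : D) (c' : C')
    (h : algebraMap D C d = algebraMap C' C c') :
    ∃ d' : D', algebraMap D' D d' = d ∧ algebraMap D' C' d' = c' := by
  haveI : Algebra.IsPushout A' A C' C := isPushout_right B' D'
  obtain ⟨d₀, rfl⟩ := surjD (D' := D') hsq d
  have hk : c' - algebraMap D' C' d₀ ∈ RingHom.ker (algebraMap C' C) := by
    rw [RingHom.mem_ker, map_sub, ← h, ← IsScalarTower.algebraMap_apply,
      ← IsScalarTower.algebraMap_apply, sub_self]
  have hk2 := ker_le_map_of_isPushout (R := A') (S := A) hsq.1 hk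
  have hk3 : c' - algebraMap D' C' d₀ ∈
      ((RingHom.ker (algebraMap A' A)).map (algebraMap A' C') : Set C') := hk2
  rw [← MilnorIdeal.relative_ideal_map_eq hsq D' C'] at hk3
  obtain ⟨x, hx, hxc⟩ := hk3
  have hxD : algebraMap D' D x = 0 := by
    have hle : (RingHom.ker (algebraMap B' B)).map (algebraMap B' D') ≤
        RingHom.ker (algebraMap D' D) := by
      rw [Ideal.map_le_iff_le_comap]
      intro j hj
      rw [Ideal.mem_comap, RingHom.mem_ker, ← IsScalarTower.algebraMap_apply,
        IsScalarTower.algebraMap_apply B' B D, (RingHom.mem_ker).1 hj, map_zero]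
    exact hle hx
  refine ⟨d₀ + x, ?_, ?_⟩
  · rw [map_add, hxD, add_zero]
  · rw [map_add, hxc]; ring

variable {N M' : Type u} [AddCommGroup N] [Module D N] [Module D' N] [IsScalarTower D' D N]
  [AddCommGroup M'] [Module C' M'] [Module D' M'] [IsScalarTower D' C' M']

/-- The relative Milnor glueing of finite modules is finite. -/
theorem glue_finite_rel (hsq : EtMil.IsFibreSquare B' B A' A) (φ : C ⊗[D] N ≃ₗ[C] C ⊗[C'] M')
    [Module.Finite D N] [Module.Finite C' M'] : Module.Finite D' ↥(EtMil.glue D' φ) := by
  classical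
  let f : D × C' →ₐ[D'] C := (IsScalarTower.toAlgHom D' D C).comp (AlgHom.fst D' D C')
  let g : D × C' →ₐ[D'] C := (IsScalarTower.toAlgHom D' C' C).comp (AlgHom.snd D' D C')
  let E : Subalgebra D' (D × C') := AlgHom.equalizer f g
  letI aED : Algebra E D := ((AlgHom.fst D' D C').comp E.val).toRingHom.toAlgebra
  letI aEC' : Algebra E C' := ((AlgHom.snd D' D C').comp E.val).toRingHom.toAlgebra
  letI aEC : Algebra E C := (f.comp E.val).toRingHom.toAlgebra
  haveI : IsScalarTower E D C := .of_algebraMap_eq (fun x => rfl)
  haveI : IsScalarTower E C' C := .of_algebraMap_eq (fun x => x.2)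
  letI : Module E N := Module.compHom N (algebraMap E D)
  letI : Module E M' := Module.compHom M' (algebraMap E C')
  haveI : IsScalarTower E D N := ⟨fun e d n => by
    show (algebraMap E D e * d) • n = algebraMap E D e • d • n
    rw [mul_smul]⟩
  haveI : IsScalarTower E C' M' := ⟨fun e d n => by
    show (algebraMap E C' e * d) • n = algebraMap E C' e • d • n
    rw [mul_smul]⟩
  have hsqE : EtMil.IsFibreSquare E D C' C := by
    refine ⟨surjC D' hsq, ?_⟩
    intro d c' h
    refine ⟨⟨(d, c'), h⟩, ⟨rfl, rfl⟩, ?_⟩
    rintro ⟨⟨d₁, c₁⟩, h₁⟩ ⟨h2, h3⟩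
    apply Subtype.ext
    exact Prod.ext h2 h3
  haveI hfin : Module.Finite E ↥(EtMil.glue E φ) :=
    MilnorGlue.glue_finite hsqE N M' φ inferInstance inferInstance
  obtain ⟨S, hS⟩ := hfin.fg_top
  refine Module.Finite.of_fg ?_
  refine ⟨S.image (fun y : EtMil.glue E φ => (y : N × M')), ?_⟩
  apply le_antisymm
  · rw [Submodule.span_le]
    intro t ht
    rw [Finset.mem_coe, Finset.mem_image] at ht
    obtain ⟨y, _, rfl⟩ := ht
    exact y.property
  · intro x hx
    have hx' : x ∈ EtMil.glue E φ := hx
    have h1 : (⟨x, hx'⟩ : EtMil.glue E φ) ∈ Submodule.span E (S : Set (EtMil.glue E φ)) := by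
      rw [hS]; trivial
    have key : ∀ y : EtMil.glue E φ, y ∈ Submodule.span E (S : Set (EtMil.glue E φ)) →
        (y : N × M') ∈ Submodule.span D' ((S.image (fun y : EtMil.glue E φ => (y : N × M')) : Finset (N × M')) :
          Set (N × M')) := by
      intro y hy
      refine Submodule.span_induction (p := fun (y : EtMil.glue E φ) _ => (y : N × M') ∈
        Submodule.span D' ((S.image (fun y : EtMil.glue E φ => (y : N × M')) : Finset (N × M')) : Set (N × M')))
        ?_ ?_ ?_ ?_ hy
      · intro z hz
        apply Submodule.subset_span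
        simp only [Finset.coe_image, Set.mem_image]
        exact ⟨z, hz, rfl⟩
      · exact Submodule.zero_mem _
      · intro a b _ _ ha hb
        exact Submodule.add_mem _ ha hb
      · intro e z _ hz
        obtain ⟨d', hd1, hd2⟩ := exists_lift (D' := D') hsq e.1.1 e.1.2 e.2
        have : ((e • z : EtMil.glue E φ) : N × M') = d' • (z : N × M') := by
          apply Prod.ext
          · show algebraMap E D e • (z : N × M').1 = d' • (z : N × M').1
            rw [← algebraMap_smul D d' (z : N × M').1, hd1]
            rfl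
          · show algebraMap E C' e • (z : N × M').2 = d' • (z : N × M').2
            rw [← algebraMap_smul C' d' (z : N × M').2, hd2]
            rfl
        rw [this]
        exact Submodule.smul_mem _ _ hz
    exact key _ h1

end

end Groth.Agent.Helper2.MilnorRel
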