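import Mathlib
import Groth.Prelude
import Groth.Agent.Helper2.MinPrNorm
import Groth.Agent.Helper1.HensTransfer
import Groth.Agent.Helper1.HensStrictTransfer
set_option autoImplicit false
universe u
open TensorProduct

namespace Groth.Agent.Helper2.MinPrNorm2

open Groth.Agent.Helper1.Hens

theorem s2125 {A Ah : Type u} [CommRing A] [IsLocalRing A]
    [CommRing Ah] [IsLocalRing Ah] [Algebra A Ah] [IsLocalHom (algebraMap A Ah)]
    [Hensel.IsHenselization A Ah] :
    Set.BijOn (fun P : Ideal ((CAlg2.normRed A) ⊗[A] Ah) =>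
        P.comap (Algebra.TensorProduct.includeRight.toRingHom :
          Ah →+* (CAlg2.normRed A) ⊗[A] Ah))
      (minimalPrimes ((CAlg2.normRed A) ⊗[A] Ah))
      (minimalPrimes Ah) := by
  haveI := faithfullyFlat_of_isHenselization A Ah
  exact Groth.Agent.Helper2.MinPrNorm.bijOn A Ah

theorem s9304 {A Ash : Type u} [CommRing A]
    [IsLocalRing A] [CommRing Ash] [IsLocalRing Ash] [Algebra A Ash]
    [IsLocalHom (algebraMap A Ash)] [Hensel.IsStrictHenselization A Ash] :
    Set.BijOn (fun P : Ideal ((CAlg2.normRed A) ⊗[A] Ash) =>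
        P.comap (Algebra.TensorProduct.includeRight.toRingHom :
          Ash →+* (CAlg2.normRed A) ⊗[A] Ash))
      (minimalPrimes ((CAlg2.normRed A) ⊗[A] Ash))
      (minimalPrimes Ash) := by
  haveI := faithfullyFlat_of_isStrictHenselization A Ash
  exact Groth.Agent.Helper2.MinPrNorm.bijOn A Ash

end Groth.Agent.Helper2.MinPrNorm2
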