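import Mathlib
import Groth.Prelude

/-!
# Helper2: lifting freeness along a nilpotent ideal after inverting one element
-/

set_option autoImplicit false
open Function TensorProduct LinearMap
universe u

namespace Groth.Agent.Helper2.NilFree

variable {A : Type u} [CommRing A] (p : Ideal A)
  {M : Type u} [AddCommGroup M] [Module A M]

/-- auxiliary: push an approximation one step deeper. -/
theorem approx_step (f : A) {ι : Type u} (φ : (ι →₀ A) →ₗ[A] M)
    (hsp : ∀ m : M, ∃ (n : ℕ) (b : ι →₀ A), f ^ n • m - φ b ∈ p • (⊤ : Submodule A M)) :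
    ∀ k : ℕ, ∀ m : M, ∃ (n : ℕ) (b : ι →₀ A),
      f ^ n • m - φ b ∈ p ^ k • (⊤ : Submodule A M) := by
  intro k
  induction k with
  | zero =>
    intro m
    exact ⟨0, 0, by rw [pow_zero, Ideal.one_eq_top, Submodule.top_smul]; trivial⟩
  | succ k ih =>
    intro m
    obtain ⟨n, b, h⟩ := ih m
    have hP : ∀ y ∈ p ^ k • (⊤ : Submodule A M), ∃ (n' : ℕ) (b' : ι →₀ A),
        f ^ n' • y - φ b' ∈ p ^ (k + 1) • (⊤ : Submodule A M) := by
      intro y hy
      refine Submodule.smul_induction_on hy ?_ ?_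
      · intro c hc m' _
        obtain ⟨n', b', h'⟩ := hsp m'
        refine ⟨n', c • b', ?_⟩
        have : f ^ n' • (c • m') - φ (c • b') = c • (f ^ n' • m' - φ b') := by
          rw [map_smul, smul_sub, smul_comm]
        rw [this, pow_succ, Submodule.mul_smul]
        exact Submodule.smul_mem_smul hc h'
      · rintro y₁ y₂ ⟨n₁, b₁, h₁⟩ ⟨n₂, b₂, h₂⟩
        refine ⟨n₁ + n₂, f ^ n₂ • b₁ + f ^ n₁ • b₂, ?_⟩
        have : f ^ (n₁ + n₂) • (y₁ + y₂) - φ (f ^ n₂ • b₁ + f ^ n₁ • b₂) =
            f ^ n₂ • (f ^ n₁ • y₁ - φ b₁) + f ^ n₁ • (f ^ n₂ • y₂ - φ b₂) := by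
          rw [map_add, map_smul, map_smul, pow_add]
          module
        rw [this]
        exact Submodule.add_mem _ (Submodule.smul_mem _ _ h₁) (Submodule.smul_mem _ _ h₂)
    obtain ⟨n', b', h'⟩ := hP _ h
    refine ⟨n' + n, f ^ n' • b + b', ?_⟩
    have : f ^ (n' + n) • m - φ (f ^ n' • b + b') = f ^ n' • (f ^ n • m - φ b) - φ b' := by
      rw [map_add, map_smul, pow_add]
      module
    rw [this]
    exact h'


/-- `M_f` is free over `A_f`, in elementwise form. -/
def FreeAway (A : Type u) [CommRing A] (M : Type u) [AddCommGroup M] [Module A M] (f : A) : Prop :=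
  ∃ (ι : Type u) (x : ι → M),
    (∀ a : ι →₀ A, Finsupp.linearCombination A x a = 0 → ∃ n : ℕ, f ^ n • a = 0) ∧
    (∀ m : M, ∃ (n : ℕ) (b : ι →₀ A), f ^ n • m = Finsupp.linearCombination A x b)

/-- the same modulo an ideal. -/
def FreeAwayQ (A : Type u) [CommRing A] (M : Type u) [AddCommGroup M] [Module A M] (I : Ideal A)
    (g : A) : Prop :=
  FreeAway (A ⧸ I) (M ⧸ I • (⊤ : Submodule A M)) (Ideal.Quotient.mk I g)

theorem FreeAway.free_localizedModule {f : A} (h : FreeAway A M f) :
    Module.Free (Localization.Away f) (LocalizedModule (Submonoid.powers f) M) := by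
  classical
  obtain ⟨ι, x, hker, hsurj⟩ := h
  set φ := Finsupp.linearCombination A x with hφ
  let ψ : (ι →₀ A) →ₗ[A] LocalizedModule (Submonoid.powers f) M :=
    LocalizedModule.mkLinearMap (Submonoid.powers f) M ∘ₗ φ
  haveI : IsLocalizedModule (Submonoid.powers f) ψ := by
    refine ⟨?_, ?_, ?_⟩
    · exact IsLocalizedModule.map_units (LocalizedModule.mkLinearMap (Submonoid.powers f) M)
    · intro z
      induction z using LocalizedModule.induction_on with
      | h m s =>
        obtain ⟨n, b, h⟩ := hsurj m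
        refine ⟨⟨b, ⟨f ^ n, n, rfl⟩ * s⟩, ?_⟩
        change ((⟨f ^ n, n, rfl⟩ * s : Submonoid.powers f)) • LocalizedModule.mk m s =
          LocalizedModule.mkLinearMap (Submonoid.powers f) M (φ b)
        rw [← h, LocalizedModule.mkLinearMap_apply, Submonoid.smul_def, LocalizedModule.smul'_mk,
          LocalizedModule.mk_eq]
        refine ⟨1, ?_⟩
        simp only [one_smul, Submonoid.smul_def, Submonoid.coe_mul, mul_smul]
        rw [smul_comm]
    · intro a₁ a₂ h
      have h0 : LocalizedModule.mkLinearMap (Submonoid.powers f) M (φ (a₁ - a₂)) = 0 := by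
        rw [map_sub, map_sub, sub_eq_zero]; exact h
      rw [LocalizedModule.mkLinearMap_apply, ← LocalizedModule.zero_mk 1, LocalizedModule.mk_eq] at h0
      obtain ⟨⟨_, k, rfl⟩, hk⟩ := h0
      simp only [one_smul, smul_zero, Submonoid.smul_def] at hk
      rw [← map_smul] at hk
      obtain ⟨n, hn⟩ := hker _ hk
      refine ⟨⟨f ^ (n + k), n + k, rfl⟩, ?_⟩
      rw [Submonoid.smul_def, Submonoid.smul_def]
      change f ^ (n + k) • a₁ = f ^ (n + k) • a₂
      rw [← sub_eq_zero, ← smul_sub, pow_add, mul_smul]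
      exact hn
  exact Module.free_of_isLocalizedModule (Submonoid.powers f) ψ

/-- base change of `FreeAway` to any algebra in which `f` becomes invertible. -/
theorem FreeAway.free_baseChange {f : A} (h : FreeAway A M f) (A' : Type u) [CommRing A']
    [Algebra A A'] (hf : IsUnit (algebraMap A A' f)) : Module.Free A' (A' ⊗[A] M) := by
  let R₁ := Localization.Away f
  letI : Algebra R₁ A' := (IsLocalization.Away.lift f hf).toAlgebra
  haveI : IsScalarTower A R₁ A' := IsScalarTower.of_algebraMap_eq (fun a => by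
    change _ = IsLocalization.Away.lift f hf (algebraMap A R₁ a)
    rw [IsLocalization.Away.lift_eq])
  haveI : Module.Free R₁ (LocalizedModule (Submonoid.powers f) M) := h.free_localizedModule
  let e1 : R₁ ⊗[A] M ≃ₗ[R₁] LocalizedModule (Submonoid.powers f) M :=
    (IsLocalizedModule.isBaseChange (Submonoid.powers f) R₁
      (LocalizedModule.mkLinearMap (Submonoid.powers f) M)).equiv
  haveI : Module.Free R₁ (R₁ ⊗[A] M) := Module.Free.of_equiv e1.symm
  exact Module.Free.of_equiv (TensorProduct.AlgebraTensorModule.cancelBaseChange A R₁ A' A' M)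

/-- the key estimate for kernel elements, relative to an ideal `I`. -/
theorem ker_torsion_mod (I : Ideal A) (N : ℕ) (c : A) (hc : ∀ z ∈ p ^ N, c * z ∈ I)
    [Module.Flat A M] (f : A) {ι : Type u} (x : ι → M)
    (hli : ∀ a : ι →₀ A, Finsupp.linearCombination A x a ∈ p • (⊤ : Submodule A M) →
      ∀ i, a i ∈ p)
    (hsp : ∀ m : M, ∃ (n : ℕ) (b : ι →₀ A),
      f ^ n • m - Finsupp.linearCombination A x b ∈ p • (⊤ : Submodule A M))
    (a : ι →₀ A) (ha : Finsupp.linearCombination A x a ∈ I • (⊤ : Submodule A M)) :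
    ∃ n : ℕ, ∀ l, (c * f) ^ n * a l ∈ I := by
  classical
  set φ := Finsupp.linearCombination A x with hφ
  -- write `φ a` as a combination with coefficients in `I`
  obtain ⟨u, hu, hsum⟩ := (Submodule.mem_ideal_smul_span_iff_exists_sum I (id : M → M) (φ a)).mp
    (by rw [Set.range_id, Submodule.span_univ]; exact ha)
  have hrel : ∑ i : a.support ⊕ u.support,
      (Sum.elim (fun i : a.support => a i) (fun m : u.support => - u m) i) •
        (Sum.elim (fun i : a.support => x i) (fun m : u.support => (m : M)) i) = 0 := by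
    rw [Fintype.sum_sum_type]
    simp only [Sum.elim_inl, Sum.elim_inr, neg_smul, Finset.sum_neg_distrib]
    rw [Finset.sum_coe_sort a.support (fun i => a i • x i),
      Finset.sum_coe_sort u.support (fun m => u m • m)]
    have h1 : ∑ i ∈ a.support, a i • x i = φ a := by
      rw [hφ, Finsupp.linearCombination_apply, Finsupp.sum]
    have h2 : ∑ m ∈ u.support, u m • m = φ a := by
      rw [← hsum, Finsupp.sum]; rfl
    rw [h1, h2, add_neg_cancel]
  obtain ⟨k, c', y, hx', hc'⟩ := Module.Flat.isTrivialRelation_of_sum_smul_eq_zero hrel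
  let cm : a.support → Fin k → A := fun i j => c' (Sum.inl i) j
  have hx : ∀ i : a.support, x i = ∑ j, cm i j • y j := fun i => hx' (Sum.inl i)
  have hcI : ∀ j : Fin k, ∑ i : a.support, a i * cm i j ∈ I := by
    intro j
    have h := hc' j
    rw [Fintype.sum_sum_type] at h
    simp only [Sum.elim_inl, Sum.elim_inr, neg_mul, Finset.sum_neg_distrib] at h
    rw [add_neg_eq_zero] at h
    change ∑ i : a.support, a i * c' (Sum.inl i) j ∈ I
    rw [h]
    exact Ideal.sum_mem _ fun m _ => Ideal.mul_mem_right _ _ (hu m)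
  clear hx' hc'
  -- uniform exponent
  have hun : ∃ n : ℕ, ∀ j : Fin k, ∃ b : ι →₀ A, f ^ n • y j - φ b ∈ p • (⊤ : Submodule A M) := by
    choose nj bj hj using fun j => hsp (y j)
    refine ⟨∑ j, nj j, fun j => ⟨f ^ (∑ j, nj j - nj j) • bj j, ?_⟩⟩
    have hle : nj j ≤ ∑ j, nj j := Finset.single_le_sum (fun _ _ => Nat.zero_le _) (Finset.mem_univ j)
    have : f ^ (∑ j, nj j) • y j - φ (f ^ (∑ j, nj j - nj j) • bj j) =
        f ^ (∑ j, nj j - nj j) • (f ^ nj j • y j - φ (bj j)) := by
      rw [map_smul, smul_sub, smul_smul, ← pow_add, Nat.sub_add_cancel hle]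
    rw [this]
    exact Submodule.smul_mem _ _ (hj j)
  obtain ⟨n, hn⟩ := hun
  choose b hb using hn
  -- the matrix π
  have hπ : ∀ (i : a.support) (l : ι),
      (f ^ n • Finsupp.single (i : ι) (1 : A) - ∑ j, cm i j • b j) l ∈ p := by
    intro i
    apply hli
    have : φ (f ^ n • Finsupp.single (i : ι) (1 : A) - ∑ j, cm i j • b j) =
        ∑ j, cm i j • (f ^ n • y j - φ (b j)) := by
      rw [map_sub, map_smul, map_sum, hφ, Finsupp.linearCombination_single, one_smul, hx i,
        Finset.smul_sum, ← Finset.sum_sub_distrib]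
      refine Finset.sum_congr rfl fun j _ => ?_
      rw [map_smul, smul_sub, smul_comm]
    rw [this]
    exact Submodule.sum_mem _ fun j _ => Submodule.smul_mem _ _ (hb j)
  set 𝔞 : Ideal A := Ideal.span (Set.range a) with h𝔞
  have hkey0 : ∀ l : ι, f ^ n * a l ∈ p * 𝔞 ⊔ I := by
    intro l
    have h1 : f ^ n * a l = ∑ i : a.support, a i *
        ((f ^ n • Finsupp.single (i : ι) (1 : A) - ∑ j, cm i j • b j) l) +
        ∑ j : Fin k, (∑ i : a.support, a i * cm i j) * b j l := by
      have h2 : ∀ i : a.support, a i *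
          ((f ^ n • Finsupp.single (i : ι) (1 : A) - ∑ j, cm i j • b j) l) =
          a i * (f ^ n * (Finsupp.single (i : ι) (1 : A) l)) - ∑ j, (a i * cm i j) * b j l := by
        intro i
        rw [Finsupp.sub_apply, Finsupp.smul_apply, Finsupp.finset_sum_apply, mul_sub,
          Finset.mul_sum, smul_eq_mul]
        congr 1
        refine Finset.sum_congr rfl fun j _ => ?_
        rw [Finsupp.smul_apply, smul_eq_mul, mul_assoc]
      rw [Finset.sum_congr rfl fun i _ => h2 i, Finset.sum_sub_distrib, Finset.sum_comm]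
      have h3 : ∑ j : Fin k, ∑ i : a.support, a i * cm i j * b j l =
          ∑ j : Fin k, (∑ i : a.support, a i * cm i j) * b j l := by
        refine Finset.sum_congr rfl fun j _ => ?_
        rw [Finset.sum_mul]
      rw [h3, sub_add_cancel]
      rw [Finset.sum_coe_sort a.support (fun i => a i * (f ^ n * (Finsupp.single i (1 : A) l)))]
      by_cases hl : l ∈ a.support
      · rw [Finset.sum_eq_single l]
        · rw [Finsupp.single_eq_same, mul_one, mul_comm]
        · intro i _ hil
          rw [Finsupp.single_apply, if_neg hil, mul_zero, mul_zero]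
        · intro h; exact absurd hl h
      · rw [Finsupp.notMem_support_iff.mp hl, mul_zero]
        symm
        refine Finset.sum_eq_zero fun i hi => ?_
        have : i ≠ l := fun h => hl (h ▸ hi)
        rw [Finsupp.single_apply, if_neg this, mul_zero, mul_zero]
    rw [h1]
    refine Ideal.add_mem _ (Ideal.mem_sup_left ?_) (Ideal.mem_sup_right ?_)
    · refine Ideal.sum_mem _ fun i _ => ?_
      have h4 := Ideal.mul_mem_mul (hπ i l) (Ideal.subset_span ⟨(i : ι), rfl⟩ : a i ∈ 𝔞)
      rw [mul_comm (a (i : ι))]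
      exact h4
    · exact Ideal.sum_mem _ fun j _ => Ideal.mul_mem_right _ _ (hcI j)
  have key : Ideal.span {f ^ n} * 𝔞 ≤ p * 𝔞 ⊔ I := by
    rw [Ideal.span_singleton_mul_le_iff]
    intro z hz
    refine Submodule.span_induction ?_ ?_ ?_ ?_ hz
    · rintro _ ⟨l, rfl⟩; exact hkey0 l
    · rw [mul_zero]; exact Ideal.zero_mem _
    · intro u v _ _ hu hv; rw [mul_add]; exact Ideal.add_mem _ hu hv
    · intro r u _ hu
      rw [smul_eq_mul, mul_left_comm]; exact Ideal.mul_mem_left _ _ hu
  have hpow : ∀ k : ℕ, Ideal.span {f ^ n} ^ k * 𝔞 ≤ p ^ k * 𝔞 ⊔ I := by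
    intro k
    induction k with
    | zero => simp only [pow_zero, Ideal.one_eq_top, Ideal.top_mul]; exact le_sup_left
    | succ k ih =>
      calc Ideal.span {f ^ n} ^ (k + 1) * 𝔞
          = Ideal.span {f ^ n} * (Ideal.span {f ^ n} ^ k * 𝔞) := by rw [pow_succ', mul_assoc]
        _ ≤ Ideal.span {f ^ n} * (p ^ k * 𝔞 ⊔ I) := Ideal.mul_mono_right ih
        _ = p ^ k * (Ideal.span {f ^ n} * 𝔞) ⊔ Ideal.span {f ^ n} * I := by
            rw [Ideal.mul_sup, mul_left_comm]
        _ ≤ p ^ k * (p * 𝔞 ⊔ I) ⊔ I :=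
            sup_le_sup (Ideal.mul_mono_right key) Ideal.mul_le_right
        _ ≤ p ^ (k + 1) * 𝔞 ⊔ I := by
            rw [Ideal.mul_sup, ← mul_assoc, ← pow_succ]
            exact sup_le (sup_le le_sup_left (le_trans Ideal.mul_le_right le_sup_right)) le_sup_right
  refine ⟨n * N + 1, fun l => ?_⟩
  have h1 : (f ^ n) ^ N * a l ∈ Ideal.span {f ^ n} ^ N * 𝔞 :=
    Ideal.mul_mem_mul (Ideal.pow_mem_pow (Ideal.mem_span_singleton_self _) N)
      (Ideal.subset_span ⟨l, rfl⟩)
  have h2 := hpow N h1
  obtain ⟨z₁, hz₁, z₂, hz₂, hz⟩ := Submodule.mem_sup.mp h2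
  have h3 : c * ((f ^ n) ^ N * a l) ∈ I := by
    rw [← hz, mul_add]
    exact Ideal.add_mem _ (hc _ (Ideal.mul_le_left hz₁)) (Ideal.mul_mem_left _ _ hz₂)
  have h4 : (c * f) ^ (n * N + 1) * a l = (c ^ (n * N) * f) * (c * ((f ^ n) ^ N * a l)) := by
    rw [← pow_mul]; ring
  rw [h4]
  exact Ideal.mul_mem_left _ _ h3

theorem surj_mod (I : Ideal A) (N : ℕ) (c : A) (hc : ∀ z ∈ p ^ N, c * z ∈ I)
    (f : A) {ι : Type u} (x : ι → M)
    (hsp : ∀ m : M, ∃ (n : ℕ) (b : ι →₀ A),
      f ^ n • m - Finsupp.linearCombination A x b ∈ p • (⊤ : Submodule A M)) (m : M) :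
    ∃ (n : ℕ) (b : ι →₀ A),
      (c * f) ^ n • m - Finsupp.linearCombination A x b ∈ I • (⊤ : Submodule A M) := by
  obtain ⟨n, b, h⟩ := approx_step p f (Finsupp.linearCombination A x) hsp N m
  have hcz : ∀ z ∈ p ^ N • (⊤ : Submodule A M), c • z ∈ I • (⊤ : Submodule A M) := by
    intro z hz
    refine Submodule.smul_induction_on hz ?_ ?_
    · intro r hr m' _
      rw [smul_smul]
      exact Submodule.smul_mem_smul (hc r hr) Submodule.mem_top
    · intro u v hu hv; rw [smul_add]; exact Submodule.add_mem _ hu hv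
  refine ⟨n + 1, (c ^ n * f * c) • b, ?_⟩
  have : (c * f) ^ (n + 1) • m - Finsupp.linearCombination A x ((c ^ n * f * c) • b) =
      (c ^ n * f) • (c • (f ^ n • m - Finsupp.linearCombination A x b)) := by
    rw [map_smul, smul_sub, smul_sub, smul_smul, smul_smul, smul_smul]
    congr 1
    congr 1
    ring
  rw [this]
  exact Submodule.smul_mem _ _ (hcz _ h)

/-- **Freeness lifts along a nilpotent-mod-`I` ideal after inverting `c * f`.** -/
theorem freeAwayQ_of_nil (I : Ideal A) (N : ℕ) (c : A) (hc : ∀ z ∈ p ^ N, c * z ∈ I)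
    [Module.Flat A M] (f : A) {ι : Type u} (x : ι → M)
    (hli : ∀ a : ι →₀ A, Finsupp.linearCombination A x a ∈ p • (⊤ : Submodule A M) →
      ∀ i, a i ∈ p)
    (hsp : ∀ m : M, ∃ (n : ℕ) (b : ι →₀ A),
      f ^ n • m - Finsupp.linearCombination A x b ∈ p • (⊤ : Submodule A M)) :
    FreeAwayQ A M I (c * f) := by
  classical
  let x' : ι → M ⧸ I • (⊤ : Submodule A M) := fun i => Submodule.Quotient.mk (x i)
  have hcomb : ∀ a : ι →₀ A, Finsupp.linearCombination (A ⧸ I) x'
      (a.mapRange (Ideal.Quotient.mk I) (map_zero _)) =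
      Submodule.Quotient.mk (Finsupp.linearCombination A x a) := by
    intro a
    induction a using Finsupp.induction_linear with
    | zero => simp
    | add a₁ a₂ h₁ h₂ =>
      rw [Finsupp.mapRange_add (by intro u v; exact map_add _ u v), map_add, map_add, h₁, h₂,
        Submodule.Quotient.mk_add]
    | single i r =>
      rw [Finsupp.mapRange_single, Finsupp.linearCombination_single,
        Finsupp.linearCombination_single]
      rfl
  refine ⟨ι, x', ?_, ?_⟩
  · intro a' ha'
    obtain ⟨a, rfl⟩ := Finsupp.mapRange_surjective (Ideal.Quotient.mk I) (map_zero _)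
      Ideal.Quotient.mk_surjective a'
    rw [hcomb, Submodule.Quotient.mk_eq_zero] at ha'
    obtain ⟨n, hn⟩ := ker_torsion_mod p I N c hc f x hli hsp a ha'
    refine ⟨n, ?_⟩
    ext l
    rw [Finsupp.smul_apply, Finsupp.zero_apply, Finsupp.mapRange_apply, smul_eq_mul, ← map_pow,
      ← map_mul]
    exact Ideal.Quotient.eq_zero_iff_mem.mpr (hn l)
  · intro m'
    obtain ⟨m, rfl⟩ := Submodule.Quotient.mk_surjective _ m'
    obtain ⟨n, b, h⟩ := surj_mod p I N c hc f x hsp m
    refine ⟨n, b.mapRange (Ideal.Quotient.mk I) (map_zero _), ?_⟩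
    rw [hcomb, ← map_pow]
    change Submodule.Quotient.mk ((c * f) ^ n • m) = _
    rw [← sub_eq_zero, ← Submodule.Quotient.mk_sub, Submodule.Quotient.mk_eq_zero]
    exact h

end Groth.Agent.Helper2.NilFree
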