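import Mathlib
import Groth.Prelude
import Groth.Agent.Helper2.NilFreeA
import Groth.Agent.Helper8.GenFree5

/-!
# Helper2: flat + finite type over a ring with nilpotent prime ⟹ free after inverting one element
-/

set_option autoImplicit false
open Function TensorProduct LinearMap
universe u

namespace Groth.Agent.Helper2.NilFree

open Groth.Agent.Helper8.GenFree

section
variable {A : Type u} [CommRing A] (p : Ideal A) {B : Type u} [CommRing B] [Algebra A B]
  {M : Type u} [AddCommGroup M] [Module A M] [Module B M] [IsScalarTower A B M]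

theorem mem_map_smul_top_iff (z : M) :
    z ∈ (p.map (algebraMap A B)) • (⊤ : Submodule B M) ↔ z ∈ p • (⊤ : Submodule A M) := by
  constructor
  · intro hz
    refine Submodule.smul_induction_on hz ?_ ?_
    · intro r hr
      refine Submodule.span_induction ?_ ?_ ?_ ?_ hr
      · rintro _ ⟨a, ha, rfl⟩ m _
        rw [algebraMap_smul]
        exact Submodule.smul_mem_smul ha Submodule.mem_top
      · intro m _; rw [zero_smul]; exact Submodule.zero_mem _
      · intro r₁ r₂ _ _ h₁ h₂ m hm
        rw [add_smul]; exact Submodule.add_mem _ (h₁ m hm) (h₂ m hm)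
      · intro b r _ h m hm
        rw [smul_eq_mul, mul_comm, mul_smul]
        exact h _ Submodule.mem_top
    · intro x y hx hy; exact Submodule.add_mem _ hx hy
  · intro hz
    refine Submodule.smul_induction_on hz ?_ ?_
    · intro a ha m _
      rw [← algebraMap_smul B a m]
      exact Submodule.smul_mem_smul (Ideal.mem_map_of_mem _ ha) Submodule.mem_top
    · intro x y hx hy; exact Submodule.add_mem _ hx hy

end

/-- generic freeness of `M / pM` over `A / p`, expressed over `A`. -/
theorem exists_gf (A : Type u) [CommRing A] (p : Ideal A) [p.IsPrime]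
    (B : Type u) [CommRing B] [Algebra A B] [Algebra.FiniteType A B]
    (M : Type u) [AddCommGroup M] [Module A M] [Module B M] [IsScalarTower A B M]
    [Module.Finite B M] :
    ∃ f : A, f ∉ p ∧ ∃ (ι : Type u) (x : ι → M),
      (∀ a : ι →₀ A, Finsupp.linearCombination A x a ∈ p • (⊤ : Submodule A M) →
        ∀ i, a i ∈ p) ∧
      (∀ m : M, ∃ (n : ℕ) (b : ι →₀ A),
        f ^ n • m - Finsupp.linearCombination A x b ∈ p • (⊤ : Submodule A M)) := by
  classical
  let R := A ⧸ p
  let J : Ideal B := p.map (algebraMap A B)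
  let B' := B ⧸ J
  let M' := M ⧸ J • (⊤ : Submodule B M)
  letI : Module R M' := Module.compHom M' (algebraMap R B')
  haveI : IsScalarTower R B' M' := ⟨fun r b m => by
    change (r • b) • m = algebraMap R B' r • (b • m)
    rw [Algebra.smul_def, mul_smul]⟩
  haveI : Algebra.FiniteType A B' := inferInstance
  haveI : Algebra.FiniteType R B' := Algebra.FiniteType.of_restrictScalars_finiteType A R B'
  haveI : Module.Finite B M' := inferInstance
  haveI : Module.Finite B' M' := Module.Finite.of_restrictScalars_finite B B' M'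
  obtain ⟨f', hf', s, hs, hspan⟩ := genericFreeness R B' M'
  obtain ⟨f, rfl⟩ := Ideal.Quotient.mk_surjective f'
  have hfp : f ∉ p := fun h => hf' (Ideal.Quotient.eq_zero_iff_mem.mpr h)
  refine ⟨f, hfp, s, ?_⟩
  have hmk : ∀ m' : M', ∃ m : M, Submodule.Quotient.mk m = m' := Submodule.Quotient.mk_surjective _
  choose lift hlift using hmk
  let x : s → M := fun i => lift i
  have hsm : ∀ (c : A) (m : M), (Ideal.Quotient.mk p c : R) •
      (Submodule.Quotient.mk m : M') = Submodule.Quotient.mk (c • m) := by
    intro c m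
    change (algebraMap R B' (Ideal.Quotient.mk p c)) • (Submodule.Quotient.mk m : M') = _
    rw [← algebraMap_smul B c m]
    rfl
  have hcomb : ∀ a : s →₀ A, Finsupp.linearCombination R (fun i : s => (i : M'))
      (a.mapRange (Ideal.Quotient.mk p) (map_zero _)) =
      Submodule.Quotient.mk (Finsupp.linearCombination A x a) := by
    intro a
    induction a using Finsupp.induction_linear with
    | zero => simp
    | add a₁ a₂ h₁ h₂ =>
      rw [Finsupp.mapRange_add (by intro u v; exact map_add _ u v), map_add, map_add, h₁, h₂,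
        Submodule.Quotient.mk_add]
    | single i c =>
      rw [Finsupp.mapRange_single, Finsupp.linearCombination_single,
        Finsupp.linearCombination_single, ← hsm, hlift]
  have hzero : ∀ m : M, (Submodule.Quotient.mk m : M') = 0 ↔ m ∈ p • (⊤ : Submodule A M) := by
    intro m
    rw [Submodule.Quotient.mk_eq_zero]
    exact mem_map_smul_top_iff p m
  refine ⟨x, ?_, ?_⟩
  · intro a ha i
    have h0 := (hzero _).mpr ha
    rw [← hcomb] at h0
    have hli := linearIndependent_iff.mp hs
    have h1 := hli _ h0
    have h2 := DFunLike.congr_fun h1 i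
    rw [Finsupp.mapRange_apply, Finsupp.zero_apply] at h2
    exact Ideal.Quotient.eq_zero_iff_mem.mp h2
  · intro m
    obtain ⟨n, hn⟩ := hspan (Submodule.Quotient.mk m)
    have hn' : (Ideal.Quotient.mk p f) ^ n • (Submodule.Quotient.mk m : M') ∈
        Submodule.span R (Set.range (fun i : s => (i : M'))) := by
      rw [Subtype.range_coe]; exact hn
    rw [Finsupp.mem_span_range_iff_exists_finsupp] at hn'
    obtain ⟨l, hl⟩ := hn'
    obtain ⟨b, rfl⟩ := Finsupp.mapRange_surjective (Ideal.Quotient.mk p) (map_zero _)
      Ideal.Quotient.mk_surjective l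
    refine ⟨n, b, ?_⟩
    rw [← hzero, Submodule.Quotient.mk_sub, sub_eq_zero, ← hcomb, ← hsm, map_pow]
    exact hl.symm

/-- over a Noetherian ring, for a minimal prime `p` over `I`, the module `M / IM` becomes free over
`A / I` after inverting an element outside `p`. -/
theorem exists_freeAwayQ (A : Type u) [CommRing A] [IsNoetherianRing A] (I : Ideal A)
    (p : Ideal A) (hp : p ∈ I.minimalPrimes)
    (B : Type u) [CommRing B] [Algebra A B] [Algebra.FiniteType A B]
    (M : Type u) [AddCommGroup M] [Module A M] [Module B M] [IsScalarTower A B M]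
    [Module.Finite B M] [Module.Flat A M] :
    ∃ g : A, g ∉ p ∧ FreeAwayQ A M I g := by
  classical
  haveI : p.IsPrime := hp.1.1
  have hIp : I ≤ p := hp.1.2
  -- an element outside `p` lying in all the other minimal primes
  have hfin : (I.minimalPrimes).Finite := Ideal.finite_minimalPrimes_of_isNoetherianRing A I
  let others : Finset (Ideal A) := hfin.toFinset.erase p
  have hc₀ : ∃ c₀ : A, c₀ ∉ p ∧ ∀ q ∈ others, c₀ ∈ q := by
    by_contra hne
    push_neg at hne
    have hle : others.inf id ≤ p := by
      intro z hz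
      by_contra hzp
      obtain ⟨q, hq, hzq⟩ := hne z hzp
      exact hzq ((Finset.inf_le hq : others.inf id ≤ q) hz)
    obtain ⟨q, hq, hqp⟩ := (Ideal.IsPrime.inf_le' inferInstance).mp hle
    have hq' : q ∈ I.minimalPrimes := hfin.mem_toFinset.mp (Finset.mem_of_mem_erase hq)
    have : q = p := le_antisymm hqp (hp.2 hq'.1 hqp)
    exact Finset.ne_of_mem_erase hq this
  obtain ⟨c₀, hc₀p, hc₀⟩ := hc₀
  have hrad : Ideal.span {c₀} * p ≤ I.radical := by
    rw [Ideal.span_singleton_mul_le_iff, ← Ideal.sInf_minimalPrimes]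
    intro z hz
    rw [Ideal.mem_sInf]
    intro q hq
    by_cases hqp : q = p
    · rw [hqp]; exact Ideal.mul_mem_left _ _ hz
    · exact Ideal.mul_mem_right _ _
        (hc₀ q (Finset.mem_erase.mpr ⟨hqp, hfin.mem_toFinset.mpr hq⟩))
  obtain ⟨N, hN⟩ := Ideal.exists_radical_pow_le_of_fg I (IsNoetherian.noetherian _)
  have hc : ∀ z ∈ p ^ N, c₀ ^ N * z ∈ I := by
    intro z hz
    apply hN
    have h1 : c₀ ^ N * z ∈ (Ideal.span {c₀} * p) ^ N := by
      rw [mul_pow, Ideal.span_singleton_pow]
      exact Ideal.mul_mem_mul (Ideal.mem_span_singleton_self _) hz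
    exact Ideal.pow_right_mono hrad N h1
  obtain ⟨f, hfp, ι, x, hli, hsp⟩ := exists_gf A p B M
  refine ⟨c₀ ^ N * f, ?_, freeAwayQ_of_nil p I N (c₀ ^ N) hc f x hli hsp⟩
  intro h
  rcases Ideal.IsPrime.mem_or_mem inferInstance h with h | h
  · exact hc₀p (Ideal.IsPrime.mem_of_pow_mem inferInstance _ h)
  · exact hfp h

end Groth.Agent.Helper2.NilFree
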