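import Mathlib
import Groth.Prelude
import Groth.Agent.Helper2.NilFree2

/-!
# Helper2: principal stratification with free pieces, Noetherian case
-/

set_option autoImplicit false
open Function TensorProduct LinearMap
universe u

namespace Groth.Agent.Helper2.NilFree

section
variable {A : Type u} [CommRing A] {M : Type u} [AddCommGroup M] [Module A M]

theorem freeAwayQ_congr {I J : Ideal A} (h : I = J) {g : A} (hg : FreeAwayQ A M I g) :
    FreeAwayQ A M J g := h ▸ hg

theorem span_mem_cons (g : A) (l : List A) :
    Ideal.span {a | a ∈ g :: l} = Ideal.span {g} ⊔ Ideal.span {a | a ∈ l} := by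
  have : {a | a ∈ g :: l} = insert g {a | a ∈ l} := by
    ext a
    simp [List.mem_cons]
  rw [this, Ideal.span_insert]

theorem span_mem_nil : Ideal.span {a : A | a ∈ ([] : List A)} = ⊥ := by
  have : {a : A | a ∈ ([] : List A)} = ∅ := by
    ext a
    simp
  rw [this, Ideal.span_empty]

end

theorem strat_noeth_aux (A : Type u) [CommRing A] [IsNoetherianRing A]
    (B : Type u) [CommRing B] [Algebra A B] [Algebra.FiniteType A B]
    (M : Type u) [AddCommGroup M] [Module A M] [Module B M] [IsScalarTower A B M]
    [Module.Finite B M] [Module.Flat A M] (I : Ideal A) :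
    ∃ l : List A, I ⊔ Ideal.span {a | a ∈ l} = ⊤ ∧
      ∀ (i : ℕ) (hi : i < l.length),
        FreeAwayQ A M (I ⊔ Ideal.span {a | a ∈ l.take i}) l[i] := by
  induction I using WellFoundedGT.induction with
  | ind I IH =>
    by_cases hI : I = ⊤
    · refine ⟨[], ?_, ?_⟩
      · rw [hI, top_sup_eq]
      · intro i hi
        exact absurd hi (by simp)
    · obtain ⟨p, hp⟩ := Ideal.nonempty_minimalPrimes hI
      obtain ⟨g, hgp, hg⟩ := exists_freeAwayQ A I p hp B M
      have hgI : g ∉ I := fun h => hgp (hp.1.2 h)
      have hlt : I < I ⊔ Ideal.span {g} := by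
        refine lt_of_le_of_ne le_sup_left ?_
        intro h
        apply hgI
        rw [h]
        exact Ideal.mem_sup_right (Ideal.mem_span_singleton_self g)
      obtain ⟨l', hl', hpieces⟩ := IH _ hlt
      refine ⟨g :: l', ?_, ?_⟩
      · rw [span_mem_cons, ← sup_assoc]
        exact hl'
      · intro i hi
        cases i with
        | zero =>
          refine freeAwayQ_congr ?_ hg
          rw [List.take_zero, span_mem_nil, sup_bot_eq]
        | succ i =>
          have hi' : i < l'.length := by simpa using hi
          refine freeAwayQ_congr ?_ (hpieces i hi')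
          rw [List.take_succ_cons, span_mem_cons, ← sup_assoc]

/-- **Principal stratification with free pieces** over a Noetherian ring (elementwise form). -/
theorem strat_noeth (A : Type u) [CommRing A] [IsNoetherianRing A]
    (B : Type u) [CommRing B] [Algebra A B] [Algebra.FiniteType A B]
    (M : Type u) [AddCommGroup M] [Module A M] [Module B M] [IsScalarTower A B M]
    [Module.Finite B M] [Module.Flat A M] :
    ∃ l : List A, Ideal.span {a | a ∈ l} = ⊤ ∧
      ∀ (i : ℕ) (hi : i < l.length),
        FreeAwayQ A M (Ideal.span {a | a ∈ l.take i}) l[i] := by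
  obtain ⟨l, hl, hp⟩ := strat_noeth_aux A B M ⊥
  refine ⟨l, by rwa [bot_sup_eq] at hl, fun i hi => ?_⟩
  exact freeAwayQ_congr (bot_sup_eq _) (hp i hi)

end Groth.Agent.Helper2.NilFree
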