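import Mathlib
import Groth.Prelude
import Groth.Agent.Helper2.StratN
import Groth.Agent.Helper2.FlatDescGlob

/-!
# Helper2: base change of polynomial models, and transport of `FreeAwayQ`
-/

set_option autoImplicit false
open Function TensorProduct LinearMap
universe u

namespace Groth.Agent.Helper2.NilFree

open Groth.Agent.Helper2.FlatDescCore Groth.Agent.Helper2.FlatDescPoly
open Groth.Agent.Helper2.FlatDescApp

attribute [local instance] MvPolynomial.algebraMvPolynomial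

/-- transport: a ring map killing `I₀` and inverting `g₀` makes the base change free. -/
theorem free_of_freeAwayQ {A₀ : Type u} [CommRing A₀] {M₀ : Type u} [AddCommGroup M₀]
    [Module A₀ M₀] (I₀ : Ideal A₀) (g₀ : A₀) (h : FreeAwayQ A₀ M₀ I₀ g₀)
    (A' : Type u) [CommRing A'] [Algebra A₀ A'] (hI : ∀ z ∈ I₀, algebraMap A₀ A' z = 0)
    (hg : IsUnit (algebraMap A₀ A' g₀)) : Module.Free A' (A' ⊗[A₀] M₀) := by
  let R₀ := A₀ ⧸ I₀
  letI : Algebra R₀ A' := (Ideal.Quotient.lift I₀ (algebraMap A₀ A') hI).toAlgebra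
  haveI : IsScalarTower A₀ R₀ A' := IsScalarTower.of_algebraMap_eq (fun a => rfl)
  have hg' : IsUnit (algebraMap R₀ A' (Ideal.Quotient.mk I₀ g₀)) := hg
  haveI : Module.Free A' (A' ⊗[R₀] (M₀ ⧸ I₀ • (⊤ : Submodule A₀ M₀))) :=
    FreeAway.free_baseChange h A' hg'
  let e0 : R₀ ⊗[A₀] M₀ ≃ₗ[R₀] (M₀ ⧸ I₀ • (⊤ : Submodule A₀ M₀)) :=
    (TensorProduct.quotTensorEquivQuotSMul M₀ I₀).extendScalarsOfSurjective
      Ideal.Quotient.mk_surjective
  let e1 : A' ⊗[R₀] (R₀ ⊗[A₀] M₀) ≃ₗ[A'] A' ⊗[R₀] (M₀ ⧸ I₀ • (⊤ : Submodule A₀ M₀)) :=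
    TensorProduct.AlgebraTensorModule.congr (LinearEquiv.refl A' A') e0
  let e2 : A' ⊗[R₀] (R₀ ⊗[A₀] M₀) ≃ₗ[A'] A' ⊗[A₀] M₀ :=
    TensorProduct.AlgebraTensorModule.cancelBaseChange A₀ R₀ A' A' M₀
  exact Module.Free.of_equiv (e1.symm ≪≫ₗ e2)

section Model
variable {n t : ℕ} {R₀ B C : Type u} [CommRing R₀] [CommRing B] [CommRing C] [Algebra R₀ B]
  [Algebra B C] [Algebra R₀ C] [IsScalarTower R₀ B C]
  (K₀ : Submodule (MvPolynomial (Fin n) R₀) (Fm n t R₀))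

/-- the polynomial models are compatible with base change. -/
theorem nonempty_modelBC :
    Nonempty (C ⊗[B] (Fm n t B ⧸ KB R₀ B K₀) ≃ₗ[C] (Fm n t C ⧸ KB R₀ C K₀)) := by
  have hbc := isBaseChange_quotMap (R' := MvPolynomial (Fin n) C) (fmap B C)
    (isBaseChange_fmap B C) (KB R₀ B K₀)
  let e1 := hbc.equiv
  let e2 : (Fm n t C ⧸ Submodule.span (MvPolynomial (Fin n) C)
      (fmap B C '' (KB R₀ B K₀ : Set (Fm n t B)))) ≃ₗ[MvPolynomial (Fin n) C]
      (Fm n t C ⧸ KB R₀ C K₀) := Submodule.quotEquivOfEq _ _ (KB_trans K₀)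
  haveI : Algebra.IsPushout B C (MvPolynomial (Fin n) B) (MvPolynomial (Fin n) C) :=
    Algebra.IsPushout.symm inferInstance
  let e3 := Algebra.IsPushout.cancelBaseChange B C (MvPolynomial (Fin n) B)
    (MvPolynomial (Fin n) C) (Fm n t B ⧸ KB R₀ B K₀)
  exact ⟨e3.symm ≪≫ₗ (e1 ≪≫ₗ e2).restrictScalars C⟩

end Model

end Groth.Agent.Helper2.NilFree
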