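import Mathlib
import Groth.Prelude
import Groth.Agent.Helper2.ModelBC

/-!
# Helper2: principal stratification with free pieces, general (finitely presented) case
-/

set_option autoImplicit false
open Function TensorProduct LinearMap
universe u

namespace Groth.Agent.Helper2.NilFree

open Groth.Agent.Helper2.FlatDescCore Groth.Agent.Helper2.FlatDescPoly
open Groth.Agent.Helper2.FlatDescApp Groth.Agent.Helper2.FlatDescGlob

attribute [local instance] MvPolynomial.algebraMvPolynomial

/-- a finitely presented module over a finitely presented algebra is, as a module over the base,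
one of the polynomial models. -/
theorem exists_poly_model {R S M : Type u} [CommRing R] [CommRing S] [Algebra R S]
    [Algebra.FinitePresentation R S] [AddCommGroup M] [Module S M] [Module R M]
    [IsScalarTower R S M] [Module.FinitePresentation S M] :
    ∃ (n t : ℕ) (R₀ : Subalgebra ℤ R) (_ : R₀.FG)
      (K₀ : Submodule (MvPolynomial (Fin n) R₀) (Fm n t R₀)),
      Nonempty (M ≃ₗ[R] (Fm n t R ⧸ KB R₀ R K₀)) := by
  obtain ⟨n, π, hπ, hker⟩ := (Algebra.FinitePresentation.out :
    ∃ (n : ℕ) (f : MvPolynomial (Fin n) R →ₐ[R] S), Surjective f ∧ (RingHom.ker f.toRingHom).FG)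
  letI : Algebra (MvPolynomial (Fin n) R) S := π.toRingHom.toAlgebra
  haveI : IsScalarTower R (MvPolynomial (Fin n) R) S :=
    IsScalarTower.of_algebraMap_eq' (by ext r; exact (π.commutes r).symm)
  letI : Module (MvPolynomial (Fin n) R) M :=
    Module.compHom M (algebraMap (MvPolynomial (Fin n) R) S)
  haveI : IsScalarTower (MvPolynomial (Fin n) R) S M :=
    IsScalarTower.of_algebraMap_smul (fun _ _ => rfl)
  haveI : IsScalarTower R (MvPolynomial (Fin n) R) M := by
    refine IsScalarTower.of_algebraMap_smul (fun r m => ?_)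
    change algebraMap (MvPolynomial (Fin n) R) S (algebraMap R (MvPolynomial (Fin n) R) r) • m = r • m
    rw [← IsScalarTower.algebraMap_apply R (MvPolynomial (Fin n) R) S, algebraMap_smul]
  haveI : Module.FinitePresentation (MvPolynomial (Fin n) R) S := by
    refine Module.finitePresentation_of_surjective
      (Algebra.linearMap (MvPolynomial (Fin n) R) S) hπ ?_
    have : LinearMap.ker (Algebra.linearMap (MvPolynomial (Fin n) R) S) =
        RingHom.ker π.toRingHom := by
      ext x
      rfl
    rw [this]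
    exact hker
  haveI : Module.FinitePresentation (MvPolynomial (Fin n) R) M :=
    Module.FinitePresentation.trans (MvPolynomial (Fin n) R) M S
  obtain ⟨t, K, e, hK⟩ := Module.FinitePresentation.exists_fin (MvPolynomial (Fin n) R) M
  obtain ⟨R₀, hfg, K₀, rfl⟩ := exists_model K hK
  exact ⟨n, t, R₀, hfg, K₀, ⟨e.restrictScalars R⟩⟩

/-- transport of a stratification along a base change. -/
theorem strat_baseChange {A₀ A : Type u} [CommRing A₀] [CommRing A] [Algebra A₀ A]
    (M₀ : Type u) [AddCommGroup M₀] [Module A₀ M₀] (M : Type u) [AddCommGroup M] [Module A M]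
    (e : A ⊗[A₀] M₀ ≃ₗ[A] M) (l₀ : List A₀) (hl₀ : Ideal.span {a | a ∈ l₀} = ⊤)
    (hp : ∀ (i : ℕ) (hi : i < l₀.length),
      FreeAwayQ A₀ M₀ (Ideal.span {a | a ∈ l₀.take i}) l₀[i]) :
    ∃ l : List A, Ideal.span {a | a ∈ l} = ⊤ ∧
      ∀ (i : ℕ) (hi : i < l.length),
        Module.Free (Localization.Away l[i] ⧸
            (Ideal.span {a | a ∈ l.take i}).map (algebraMap A (Localization.Away l[i])))
          ((Localization.Away l[i] ⧸
            (Ideal.span {a | a ∈ l.take i}).map (algebraMap A (Localization.Away l[i]))) ⊗[A] M) := by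
  have hspan : ∀ l' : List A₀, Ideal.span {a | a ∈ l'.map (algebraMap A₀ A)} =
      (Ideal.span {a | a ∈ l'}).map (algebraMap A₀ A) := by
    intro l'
    rw [Ideal.map_span]
    congr 1
    ext a
    simp only [List.mem_map, Set.mem_setOf_eq, Set.mem_image]
  obtain ⟨l, hl⟩ : ∃ l : List A, l = l₀.map (algebraMap A₀ A) := ⟨_, rfl⟩
  have hlen : l.length = l₀.length := by rw [hl, List.length_map]
  have hget : ∀ (i : ℕ) (hi : i < l.length) (hi₀ : i < l₀.length),
      l[i] = algebraMap A₀ A l₀[i] := by
    intro i hi hi₀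
    subst hl
    rw [List.getElem_map]
  have htake : ∀ i : ℕ, l.take i = (l₀.take i).map (algebraMap A₀ A) := by
    intro i
    rw [hl, List.map_take]
  refine ⟨l, ?_, ?_⟩
  · rw [hl, hspan, hl₀, Ideal.map_top]
  · intro i hi
    have hi₀ : i < l₀.length := hlen ▸ hi
    set J : Ideal (Localization.Away l[i]) :=
      (Ideal.span {a | a ∈ l.take i}).map (algebraMap A (Localization.Away l[i])) with hJ
    haveI : IsScalarTower A₀ A (Localization.Away l[i] ⧸ J) := inferInstance
    have halg : ∀ z : A₀, algebraMap A₀ (Localization.Away l[i] ⧸ J) z =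
        Ideal.Quotient.mk J (algebraMap A (Localization.Away l[i]) (algebraMap A₀ A z)) := by
      intro z
      rw [IsScalarTower.algebraMap_apply A₀ A (Localization.Away l[i] ⧸ J)]
      rfl
    have hfree : Module.Free (Localization.Away l[i] ⧸ J)
        ((Localization.Away l[i] ⧸ J) ⊗[A₀] M₀) := by
      refine free_of_freeAwayQ _ _ (hp i hi₀) (Localization.Away l[i] ⧸ J) ?_ ?_
      · intro z hz
        rw [halg, Ideal.Quotient.eq_zero_iff_mem, hJ]
        apply Ideal.mem_map_of_mem
        rw [htake, hspan]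
        exact Ideal.mem_map_of_mem _ hz
      · rw [halg, ← hget i hi hi₀]
        exact (IsLocalization.Away.algebraMap_isUnit l[i]).map (Ideal.Quotient.mk J)
    let e1 : (Localization.Away l[i] ⧸ J) ⊗[A] (A ⊗[A₀] M₀) ≃ₗ[Localization.Away l[i] ⧸ J]
        (Localization.Away l[i] ⧸ J) ⊗[A₀] M₀ :=
      TensorProduct.AlgebraTensorModule.cancelBaseChange A₀ A _ _ M₀
    let e2 : (Localization.Away l[i] ⧸ J) ⊗[A] (A ⊗[A₀] M₀) ≃ₗ[Localization.Away l[i] ⧸ J]
        (Localization.Away l[i] ⧸ J) ⊗[A] M :=
      TensorProduct.AlgebraTensorModule.congr (LinearEquiv.refl _ _) e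
    exact Module.Free.of_equiv (e1.symm ≪≫ₗ e2)

/-- **EGA IV 11.3.x**: principal stratification with free pieces for a flat finitely presented
module over a finitely presented algebra. -/
theorem strat_general {A B : Type u} [CommRing A] [CommRing B] [Algebra A B]
    [Algebra.FinitePresentation A B] (M : Type u) [AddCommGroup M] [Module B M] [Module A M]
    [IsScalarTower A B M] [Module.FinitePresentation B M] [Module.Flat A M] :
    ∃ l : List A, Ideal.span {a | a ∈ l} = ⊤ ∧
      ∀ (i : ℕ) (hi : i < l.length),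
        Module.Free (Localization.Away l[i] ⧸
            (Ideal.span {a | a ∈ l.take i}).map (algebraMap A (Localization.Away l[i])))
          ((Localization.Away l[i] ⧸
            (Ideal.span {a | a ∈ l.take i}).map (algebraMap A (Localization.Away l[i]))) ⊗[A] M) := by
  obtain ⟨n, t, R₀, hfg, K₀, ⟨e⟩⟩ := exists_poly_model (R := A) (S := B) (M := M)
  haveI : Algebra.FiniteType ℤ R₀ := (Subalgebra.fg_iff_finiteType R₀).1 hfg
  haveI : IsNoetherianRing R₀ := Algebra.FiniteType.isNoetherianRing ℤ R₀
  have hflat : Module.Flat A (Fm n t A ⧸ KB R₀ A K₀) := Module.Flat.of_linearEquiv e.symm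
  obtain ⟨A₀, hA₀fg, hA₀⟩ := exists_fg_flat_global K₀ hflat
  haveI : Algebra.FiniteType R₀ A₀ := (Subalgebra.fg_iff_finiteType A₀).1 hA₀fg
  haveI : IsNoetherianRing A₀ := Algebra.FiniteType.isNoetherianRing R₀ A₀
  haveI : Module.Flat A₀ (Fm n t A₀ ⧸ KB R₀ A₀ K₀) := hA₀ A₀ le_rfl
  obtain ⟨l₀, hl₀, hp⟩ := strat_noeth A₀ (MvPolynomial (Fin n) A₀) (Fm n t A₀ ⧸ KB R₀ A₀ K₀)
  obtain ⟨e'⟩ := nonempty_modelBC (B := A₀) (C := A) K₀
  exact strat_baseChange (Fm n t A₀ ⧸ KB R₀ A₀ K₀) M (e' ≪≫ₗ e.symm) l₀ hl₀ hp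

end Groth.Agent.Helper2.NilFree
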