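import Mathlib
import Groth.Prelude
import Groth.Agent.Helper2.StratGen

/-!
# Helper2: flat at the unique minimal prime ⟹ free after inverting one element (EGA IV 11.3.x)
-/

set_option autoImplicit false
open Function TensorProduct LinearMap
universe u

namespace Groth.Agent.Helper2.NilFree

open Groth.Agent.Helper2.FlatDescCore Groth.Agent.Helper2.FlatDescPoly
open Groth.Agent.Helper2.FlatDescApp Groth.Agent.Helper2.FlatDescGlob
open Groth.Agent.Helper2.FlatAtElem

attribute [local instance] MvPolynomial.algebraMvPolynomial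

section StepOne
variable {A : Type u} [CommRing A] (p : Ideal A) [p.IsPrime] {n r : ℕ} {R₀ : Type u} [CommRing R₀]
  [IsNoetherianRing R₀] [Algebra R₀ A] (K₀ : Submodule (MvPolynomial (Fin n) R₀) (Fm n r R₀))

/-- if the model is flat at `p`, it is flat at all primes of the polynomial ring away from
one element outside `p`. -/
theorem exists_flat_away_primes
    (h : Module.Flat A (LocalizedModule p.primeCompl (Fm n r A ⧸ KB R₀ A K₀))) :
    ∃ t₁ : A, t₁ ∉ p ∧ ∀ (q : Ideal (MvPolynomial (Fin n) A)) [q.IsPrime],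
      algebraMap A (MvPolynomial (Fin n) A) t₁ ∉ q →
      Module.Flat A (LocalizedModule q.primeCompl (Fm n r A ⧸ KB R₀ A K₀)) := by
  have h1 := (flat_localized_iff (A := A) (B := A) (Fm n r A ⧸ KB R₀ A K₀) p.primeCompl).1 h
  set W : Set (PrimeSpectrum (MvPolynomial (Fin n) A)) :=
    {q | Module.Flat A (LocalizedModule q.asIdeal.primeCompl (Fm n r A ⧸ KB R₀ A K₀))} with hWdef
  have hW : IsOpen W := isOpen_flatLocus_KB K₀
  set 𝔠 : Ideal (MvPolynomial (Fin n) A) := PrimeSpectrum.vanishingIdeal Wᶜ with h𝔠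
  have hWc : Wᶜ = PrimeSpectrum.zeroLocus (𝔠 : Set (MvPolynomial (Fin n) A)) := by
    rw [h𝔠, PrimeSpectrum.zeroLocus_vanishingIdeal_eq_closure, hW.isClosed_compl.closure_eq]
  have hex : ∃ t₁ : A, t₁ ∉ p ∧ algebraMap A (MvPolynomial (Fin n) A) t₁ ∈ 𝔠 := by
    by_contra hne
    push_neg at hne
    let S' : Submonoid (MvPolynomial (Fin n) A) :=
      p.primeCompl.map (algebraMap A (MvPolynomial (Fin n) A))
    have hdisj : Disjoint (𝔠 : Set (MvPolynomial (Fin n) A)) (S' : Set (MvPolynomial (Fin n) A)) := by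
      rw [Set.disjoint_left]
      rintro _ hx ⟨s, hs, rfl⟩
      exact hne s hs hx
    obtain ⟨q, hq, hle, hqd⟩ := Ideal.exists_le_prime_disjoint 𝔠 S' hdisj
    have hmem : (⟨q, hq⟩ : PrimeSpectrum (MvPolynomial (Fin n) A)) ∈ Wᶜ := by
      rw [hWc, PrimeSpectrum.mem_zeroLocus]
      exact hle
    apply hmem
    change Module.Flat A (LocalizedModule q.primeCompl (Fm n r A ⧸ KB R₀ A K₀))
    rw [flat_localized_iff (A := A) (B := MvPolynomial (Fin n) A)]
    intro X' X _ _ _ _ ι hι v hv
    obtain ⟨s, hs⟩ := h1 X' X ι hι v hv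
    refine ⟨⟨algebraMap A (MvPolynomial (Fin n) A) s.1, ?_⟩, ?_⟩
    · intro hsq
      exact Set.disjoint_left.mp hqd hsq ⟨s.1, s.2, rfl⟩
    · change (algebraMap A (MvPolynomial (Fin n) A) s.1) • v = 0
      rw [algebraMap_smul]
      exact hs
  obtain ⟨t₁, ht₁, hc⟩ := hex
  refine ⟨t₁, ht₁, ?_⟩
  intro q _ hq
  by_contra hnot
  have hmem : (⟨q, inferInstance⟩ : PrimeSpectrum (MvPolynomial (Fin n) A)) ∈ Wᶜ := hnot
  rw [hWc, PrimeSpectrum.mem_zeroLocus] at hmem
  exact hq (hmem hc)

/-- hence the model over `A[1/t₁]` is flat. -/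
theorem exists_flat_away
    (h : Module.Flat A (LocalizedModule p.primeCompl (Fm n r A ⧸ KB R₀ A K₀))) :
    ∃ t₁ : A, t₁ ∉ p ∧ Module.Flat (Localization.Away t₁)
      (Fm n r (Localization.Away t₁) ⧸ KB R₀ (Localization.Away t₁) K₀) := by
  obtain ⟨t₁, ht₁, hq⟩ := exists_flat_away_primes p K₀ h
  refine ⟨t₁, ht₁, ?_⟩
  apply flat_stage_of_forall (B := A) (C := Localization.Away t₁) K₀
  intro q₁ _
  apply hq
  intro hmem
  rw [Ideal.mem_comap] at hmem
  have hu : IsUnit (algebraMap (MvPolynomial (Fin n) A) (MvPolynomial (Fin n) (Localization.Away t₁))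
      (algebraMap A (MvPolynomial (Fin n) A) t₁)) := by
    rw [MvPolynomial.algebraMap_def, MvPolynomial.algebraMap_apply, MvPolynomial.map_C]
    exact (IsLocalization.Away.algebraMap_isUnit t₁).map MvPolynomial.C
  exact (Ideal.IsPrime.ne_top inferInstance) (Ideal.eq_top_of_isUnit_mem _ hmem hu)

end StepOne

section Nil
variable {A : Type u} [CommRing A] (p : Ideal A) [p.IsPrime] (hp : minimalPrimes A = {p})
  (t₁ : A) (ht₁ : t₁ ∉ p)

include hp ht₁ in
theorem isPrime_map_away : (p.map (algebraMap A (Localization.Away t₁))).IsPrime := by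
  apply IsLocalization.isPrime_of_isPrime_disjoint (Submonoid.powers t₁) _ p inferInstance
  rw [Set.disjoint_left]
  rintro _ ⟨k, rfl⟩ hk
  exact ht₁ (Ideal.IsPrime.mem_of_pow_mem inferInstance _ hk)

include hp in
theorem map_le_of_isPrime (Q : Ideal (Localization.Away t₁)) [Q.IsPrime] :
    p.map (algebraMap A (Localization.Away t₁)) ≤ Q := by
  rw [Ideal.map_le_iff_le_comap]
  obtain ⟨p', hp', hle⟩ := Ideal.exists_minimalPrimes_le
    (bot_le : (⊥ : Ideal A) ≤ Q.comap (algebraMap A (Localization.Away t₁)))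
  have : p' ∈ minimalPrimes A := hp'
  rw [hp, Set.mem_singleton_iff] at this
  rw [← this]
  exact hle

include hp in
theorem isNilpotent_of_mem_map (z : Localization.Away t₁)
    (hz : z ∈ p.map (algebraMap A (Localization.Away t₁))) : IsNilpotent z := by
  rw [← mem_nilradical, nilradical_eq_sInf, Ideal.mem_sInf]
  intro Q hQ
  haveI : Q.IsPrime := hQ
  exact map_le_of_isPrime p hp t₁ Q hz

include hp ht₁ in
theorem comap_mem_minimalPrimes {R₀ : Type u} [CommRing R₀] [Algebra R₀ (Localization.Away t₁)]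
    (A₀ : Subalgebra R₀ (Localization.Away t₁)) :
    (p.map (algebraMap A (Localization.Away t₁))).comap (algebraMap A₀ (Localization.Away t₁)) ∈
      (⊥ : Ideal A₀).minimalPrimes := by
  haveI := isPrime_map_away p hp t₁ ht₁
  refine ⟨⟨inferInstance, bot_le⟩, ?_⟩
  rintro Q ⟨hQ, -⟩ -
  intro x hx
  rw [Ideal.mem_comap] at hx
  obtain ⟨k, hk⟩ := isNilpotent_of_mem_map p hp t₁ _ hx
  have hk' : x ^ k = 0 := by
    apply Subtype.val_injective
    exact hk
  exact Ideal.IsPrime.mem_of_pow_mem hQ k (hk' ▸ Ideal.zero_mem _)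

end Nil

/-- the model version. -/
theorem free_away_of_model {A : Type u} [CommRing A] (p : Ideal A) [p.IsPrime]
    (hp : minimalPrimes A = {p}) {n r : ℕ} {R₀ : Type u} [CommRing R₀] [IsNoetherianRing R₀]
    [Algebra R₀ A] (K₀ : Submodule (MvPolynomial (Fin n) R₀) (Fm n r R₀))
    (M : Type u) [AddCommGroup M] [Module A M] (e : M ≃ₗ[A] (Fm n r A ⧸ KB R₀ A K₀))
    (hflat : Module.Flat (Localization.AtPrime p) (LocalizedModule p.primeCompl M)) :
    ∃ t : A, t ∉ p ∧
      Module.Free (Localization.Away t) (LocalizedModule (Submonoid.powers t) M) := by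
  haveI := hflat
  have h0 : Module.Flat A (LocalizedModule p.primeCompl M) :=
    Module.Flat.trans A (Localization.AtPrime p) _
  have h1 : Module.Flat A (LocalizedModule p.primeCompl (Fm n r A ⧸ KB R₀ A K₀)) :=
    flat_localized_transfer (B₁ := A) (B₂ := A) e p.primeCompl p.primeCompl
      (fun s hs => ⟨s, hs, fun m => (e.map_smul s m).symm⟩) h0
  obtain ⟨t₁, ht₁, hflat₁⟩ := exists_flat_away p K₀ h1
  obtain ⟨A₀, hA₀fg, hA₀⟩ := exists_fg_flat_global (R₀ := R₀) (A := Localization.Away t₁) K₀ hflat₁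
  haveI : Algebra.FiniteType R₀ A₀ := (Subalgebra.fg_iff_finiteType A₀).1 hA₀fg
  haveI : IsNoetherianRing A₀ := Algebra.FiniteType.isNoetherianRing R₀ A₀
  haveI : Module.Flat A₀ (Fm n r A₀ ⧸ KB R₀ A₀ K₀) := hA₀ A₀ le_rfl
  have hp₀ := comap_mem_minimalPrimes p hp t₁ ht₁ A₀
  haveI hp₁ := isPrime_map_away p hp t₁ ht₁
  obtain ⟨g₀, hg₀, hfree₀⟩ := exists_freeAwayQ A₀ ⊥ _ hp₀ (MvPolynomial (Fin n) A₀)
    (Fm n r A₀ ⧸ KB R₀ A₀ K₀)
  rw [Ideal.mem_comap] at hg₀
  -- write the image of `g₀` as a fraction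
  obtain ⟨k, a, hka⟩ := IsLocalization.Away.surj t₁ (algebraMap A₀ (Localization.Away t₁) g₀)
  have hu₁ : IsUnit (algebraMap A (Localization.Away t₁) t₁) :=
    IsLocalization.Away.algebraMap_isUnit t₁
  have hap : a ∉ p := by
    intro ha
    have h2 : algebraMap A (Localization.Away t₁) a ∈
        p.map (algebraMap A (Localization.Away t₁)) := Ideal.mem_map_of_mem _ ha
    rw [← hka] at h2
    rcases Ideal.IsPrime.mem_or_mem hp₁ h2 with h3 | h3
    · exact hg₀ h3
    · exact (Ideal.IsPrime.ne_top hp₁) (Ideal.eq_top_of_isUnit_mem _ h3 (hu₁.pow k))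
  refine ⟨t₁ * a, fun h => (Ideal.IsPrime.mem_or_mem inferInstance h).elim ht₁ hap, ?_⟩
  set t := t₁ * a with ht
  have hut : IsUnit (algebraMap A (Localization.Away t) t) := IsLocalization.Away.algebraMap_isUnit t
  have hut₁ : IsUnit (algebraMap A (Localization.Away t) t₁) := by
    rw [ht, map_mul] at hut
    exact isUnit_of_mul_isUnit_left hut
  have hua : IsUnit (algebraMap A (Localization.Away t) a) := by
    rw [ht, map_mul] at hut
    exact isUnit_of_mul_isUnit_right hut
  letI : Algebra (Localization.Away t₁) (Localization.Away t) :=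
    (IsLocalization.Away.lift t₁ hut₁).toAlgebra
  haveI : IsScalarTower A (Localization.Away t₁) (Localization.Away t) :=
    IsScalarTower.of_algebraMap_eq (fun x => by
      change _ = IsLocalization.Away.lift t₁ hut₁ (algebraMap A (Localization.Away t₁) x)
      rw [IsLocalization.Away.lift_eq])
  letI : Algebra A₀ (Localization.Away t) :=
    ((algebraMap (Localization.Away t₁) (Localization.Away t)).comp
      (algebraMap A₀ (Localization.Away t₁))).toAlgebra
  haveI : IsScalarTower A₀ (Localization.Away t₁) (Localization.Away t) :=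
    IsScalarTower.of_algebraMap_eq (fun _ => rfl)
  have htow : ∀ x : R₀, algebraMap R₀ (Localization.Away t) x =
      algebraMap A₀ (Localization.Away t) (algebraMap R₀ A₀ x) := by
    intro x
    change _ = algebraMap (Localization.Away t₁) (Localization.Away t)
      (algebraMap A₀ (Localization.Away t₁) (algebraMap R₀ A₀ x))
    rw [← IsScalarTower.algebraMap_apply R₀ A₀ (Localization.Away t₁),
      IsScalarTower.algebraMap_apply R₀ A (Localization.Away t₁),
      ← IsScalarTower.algebraMap_apply A (Localization.Away t₁) (Localization.Away t),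
      ← IsScalarTower.algebraMap_apply R₀ A (Localization.Away t)]
  haveI := IsScalarTower.of_algebraMap_eq htow
  have hg : IsUnit (algebraMap A₀ (Localization.Away t) g₀) := by
    change IsUnit (algebraMap (Localization.Away t₁) (Localization.Away t)
      (algebraMap A₀ (Localization.Away t₁) g₀))
    have h3 := congrArg (algebraMap (Localization.Away t₁) (Localization.Away t)) hka
    rw [map_mul, map_pow, ← IsScalarTower.algebraMap_apply A (Localization.Away t₁),
      ← IsScalarTower.algebraMap_apply A (Localization.Away t₁)] at h3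
    rw [← h3] at hua
    exact isUnit_of_mul_isUnit_left hua
  have hfree : Module.Free (Localization.Away t)
      ((Localization.Away t) ⊗[A₀] (Fm n r A₀ ⧸ KB R₀ A₀ K₀)) :=
    free_of_freeAwayQ ⊥ g₀ hfree₀ (Localization.Away t)
      (fun z hz => by rw [(Submodule.mem_bot _).mp hz, map_zero]) hg
  obtain ⟨e₀⟩ := nonempty_modelBC (B := A₀) (C := Localization.Away t) K₀
  obtain ⟨e₁⟩ := nonempty_modelBC (B := A) (C := Localization.Away t) K₀
  let e₂ : (Localization.Away t) ⊗[A] M ≃ₗ[Localization.Away t]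
      (Localization.Away t) ⊗[A] (Fm n r A ⧸ KB R₀ A K₀) :=
    TensorProduct.AlgebraTensorModule.congr (LinearEquiv.refl _ _) e
  let e₃ : (Localization.Away t) ⊗[A] M ≃ₗ[Localization.Away t]
      LocalizedModule (Submonoid.powers t) M :=
    (IsLocalizedModule.isBaseChange (Submonoid.powers t) (Localization.Away t)
      (LocalizedModule.mkLinearMap (Submonoid.powers t) M)).equiv
  have hfree' : Module.Free (Localization.Away t) (Fm n r (Localization.Away t) ⧸
      KB R₀ (Localization.Away t) K₀) := by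
    exact Module.Free.of_equiv' hfree e₀
  exact Module.Free.of_equiv (e₁.symm ≪≫ₗ e₂.symm ≪≫ₗ e₃)

/-- **EGA IV 11.3.x**: over a ring with a unique minimal prime `p`, a finitely presented module over
a finitely presented algebra which is flat at `p` becomes free after inverting an element
outside `p`. -/
theorem free_away_of_flat_at_minimalPrime {A B : Type u} [CommRing A] [CommRing B] [Algebra A B]
    [Algebra.FinitePresentation A B] (p : Ideal A) [p.IsPrime] (hp : minimalPrimes A = {p})
    (M : Type u) [AddCommGroup M] [Module B M] [Module A M] [IsScalarTower A B M]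
    [Module.FinitePresentation B M]
    (hflat : Module.Flat (Localization.AtPrime p) (LocalizedModule p.primeCompl M)) :
    ∃ t : A, t ∉ p ∧
      Module.Free (Localization.Away t) (LocalizedModule (Submonoid.powers t) M) := by
  obtain ⟨n, r, R₀, hfg, K₀, ⟨e⟩⟩ := exists_poly_model (R := A) (S := B) (M := M)
  haveI : Algebra.FiniteType ℤ R₀ := (Subalgebra.fg_iff_finiteType R₀).1 hfg
  haveI : IsNoetherianRing R₀ := Algebra.FiniteType.isNoetherianRing ℤ R₀
  exact free_away_of_model p hp K₀ M e hflat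

end Groth.Agent.Helper2.NilFree
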