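import Mathlib

set_option autoImplicit false
universe u
open Polynomial

namespace Groth.Agent.Helper2.MonicAdicBasis

variable {A : Type u} [CommRing A]

/-- the evaluation map `c ↦ Σ_i c_i(f) X^i` -/
noncomputable def Φ (f : A[X]) (d : ℕ) (c : Fin d → A[X]) : A[X] :=
  ∑ i : Fin d, aeval f (c i) * X ^ (i : ℕ)

lemma Φ_sub (f : A[X]) (d : ℕ) (c c' : Fin d → A[X]) :
    Φ f d (c - c') = Φ f d c - Φ f d c' := by
  unfold Φ
  rw [← Finset.sum_sub_distrib]
  refine Finset.sum_congr rfl fun i _ => ?_
  rw [Pi.sub_apply, map_sub, sub_mul]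

lemma Φ_const (f : A[X]) (d : ℕ) (r : A[X]) (hr : r.natDegree < d) :
    Φ f d (fun i => C (r.coeff i)) = r := by
  unfold Φ
  simp only [aeval_C]
  rw [Fin.sum_univ_eq_sum_range (fun i => (algebraMap A A[X]) (r.coeff i) * X ^ i) d]
  conv_rhs => rw [r.as_sum_range' d hr]
  refine Finset.sum_congr rfl fun i _ => ?_
  rw [← C_mul_X_pow_eq_monomial]
  rfl

lemma Φ_decomp (f : A[X]) (d : ℕ) (c' : Fin d → A[X]) (a : Fin d → A) :
    Φ f d (fun i => c' i * X + C (a i)) = f * Φ f d c' + Φ f d (fun i => C (a i)) := by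
  unfold Φ
  rw [Finset.mul_sum, ← Finset.sum_add_distrib]
  refine Finset.sum_congr rfl fun i _ => ?_
  simp only [map_add, map_mul, aeval_X, aeval_C]
  ring

lemma Φ_const_eq_zero (f : A[X]) (d : ℕ) (a : Fin d → A)
    (h : Φ f d (fun i => C (a i)) = 0) : a = 0 := by
  funext i
  have := congrArg (fun r => r.coeff (i : ℕ)) h
  unfold Φ at this
  simp only [aeval_C, finset_sum_coeff, coeff_zero] at this
  rw [Finset.sum_eq_single i] at this
  · simpa using this
  · intro j _ hj
    have : (algebraMap A A[X]) (a j) = C (a j) := rfl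
    rw [this, coeff_C_mul, coeff_X_pow, if_neg, mul_zero]
    intro h
    exact hj (Fin.ext h.symm)
  · intro h
    exact absurd (Finset.mem_univ i) h

lemma natDegree_Φ_const_lt (f : A[X]) (d : ℕ) (hd : 0 < d) (a : Fin d → A) :
    (Φ f d (fun i => C (a i))).natDegree < d := by
  unfold Φ
  simp only [aeval_C]
  refine lt_of_le_of_lt (natDegree_sum_le_of_forall_le (n := d - 1) _ _ ?_) (by omega)
  intro i _
  have : (algebraMap A A[X]) (a i) = C (a i) := rfl
  rw [this]
  refine (natDegree_C_mul_X_pow_le _ _).trans ?_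
  have := i.2
  omega

variable (g : A[X]) (hg : g.Monic) (d : ℕ) (hd : g.natDegree = d) (hd0 : 0 < d)

include hg hd hd0 in
theorem exists_rep (q : A[X]) : ∃ c : Fin d → A[X], q = Φ (-g) d c := by
  induction' hn : q.natDegree using Nat.strong_induction_on with n ih generalizing q
  have hg1 : g ≠ 1 := by
    rintro rfl
    rw [natDegree_one] at hd
    omega
  by_cases hnd : q.natDegree < d
  · exact ⟨fun i => C (q.coeff i), (Φ_const _ d q hnd).symm⟩
  · rw [not_lt] at hnd
    have hdeg : (q /ₘ g).natDegree < n := by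
      rw [natDegree_divByMonic q hg, hd, ← hn]
      omega
    obtain ⟨c', hc'⟩ := ih _ hdeg (q /ₘ g) rfl
    have hr : (q %ₘ g).natDegree < d := by
      rw [← hd]
      exact natDegree_modByMonic_lt q hg hg1
    refine ⟨fun i => (-c' i) * X + C ((q %ₘ g).coeff i), ?_⟩
    have := Φ_decomp (-g) d (fun i => -c' i) (fun i => (q %ₘ g).coeff i)
    rw [this, Φ_const _ d _ hr]
    have h2 : Φ (-g) d (fun i => -c' i) = - Φ (-g) d c' := by
      unfold Φ
      rw [← Finset.sum_neg_distrib]
      refine Finset.sum_congr rfl fun i _ => ?_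
      rw [map_neg, neg_mul]
    rw [h2, ← hc']
    have := modByMonic_add_div q g
    rw [neg_mul_neg]
    conv_lhs => rw [← this]
    ring

include hg hd hd0 in
theorem eq_zero_of_Φ_eq_zero (N : ℕ) : ∀ c : Fin d → A[X], (∀ i, (c i).degree < N) →
    Φ (-g) d c = 0 → c = 0 := by
  induction N with
  | zero =>
    intro c hc _
    funext i
    have := hc i
    simp only [Nat.cast_zero] at this
    exact degree_eq_bot.mp (Nat.WithBot.lt_zero_iff.mp this)
  | succ N ih =>
    intro c hc h0
    have hdec : c = fun i => (c i).divX * X + C ((c i).coeff 0) := by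
      funext i
      exact (divX_mul_X_add (c i)).symm
    rw [hdec, Φ_decomp] at h0
    have hlt := natDegree_Φ_const_lt (-g) d hd0 (fun i => (c i).coeff 0)
    have hdvd : g ∣ Φ (-g) d (fun i => C ((c i).coeff 0)) := by
      refine ⟨Φ (-g) d (fun i => (c i).divX), ?_⟩
      linear_combination h0
    have hz : Φ (-g) d (fun i => C ((c i).coeff 0)) = 0 := by
      by_contra hne
      exact hg.not_dvd_of_natDegree_lt hne (by rw [hd]; exact hlt) hdvd
    have ha := Φ_const_eq_zero (-g) d _ hz
    rw [hz, add_zero, neg_mul, neg_eq_zero] at h0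
    have h0' : Φ (-g) d (fun i => (c i).divX) = 0 := by
      rcases hg.mul_right_eq_zero_iff.mp h0 with h
      exact h
    have hc' : ∀ i, ((c i).divX).degree < N := by
      intro i
      by_cases hci : c i = 0
      · rw [hci, divX_zero, degree_zero]
        exact WithBot.bot_lt_coe _
      · have h1 := degree_divX_lt hci
        have h2 := hc i
        have h3 : (c i).natDegree < N + 1 := (natDegree_lt_iff_degree_lt hci).mpr (by exact_mod_cast h2)
        rw [degree_eq_natDegree hci] at h1
        refine lt_of_lt_of_le h1 ?_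
        exact_mod_cast Nat.lt_succ_iff.mp h3
    have := ih _ hc' h0'
    rw [hdec]
    funext i
    have h1 := congrFun this i
    have h2 := congrFun ha i
    simp only [Pi.zero_apply] at h1 h2 ⊢
    rw [h1, h2]
    simp

include hg hd hd0 in
theorem existsUnique_rep (q : A[X]) : ∃! c : Fin d → A[X], q = Φ (-g) d c := by
  obtain ⟨c, hc⟩ := exists_rep g hg d hd hd0 q
  refine ⟨c, hc, ?_⟩
  intro c' hc'
  have h0 : Φ (-g) d (c' - c) = 0 := by
    rw [Φ_sub, ← hc, ← hc', sub_self]
  have := eq_zero_of_Φ_eq_zero g hg d hd hd0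
    ((Finset.univ.sup fun i => ((c' - c) i).natDegree) + 1) (c' - c) ?_ h0
  · exact sub_eq_zero.mp this
  · intro i
    refine lt_of_le_of_lt degree_le_natDegree ?_
    have : ((c' - c) i).natDegree ≤ Finset.univ.sup fun i => ((c' - c) i).natDegree :=
      Finset.le_sup (f := fun i => ((c' - c) i).natDegree) (Finset.mem_univ i)
    exact_mod_cast Nat.lt_succ_of_le this

end Groth.Agent.Helper2.MonicAdicBasis
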