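import Mathlib
import Groth.Prelude

set_option autoImplicit false

namespace Groth.Agent.Helper2.MonicUnram

open Polynomial IsLocalRing

universe u

variable (A B : Type u) [CommRing A] [IsLocalRing A] [CommRing B] [Algebra A B] (u : B)

/-- polynomials reducing to zero modulo `𝔪` evaluate into `𝔪 B`. -/
theorem aeval_mem_of_map_eq_zero (P : A[X])
    (hP : P.map (Ideal.Quotient.mk (maximalIdeal A)) = 0) :
    aeval u P ∈ (maximalIdeal A).map (algebraMap A B) := by
  rw [aeval_eq_sum_range]
  refine Ideal.sum_mem _ fun i _ => ?_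
  have : P.coeff i ∈ maximalIdeal A := by
    have h := congrArg (fun q => q.coeff i) hP
    simpa [Ideal.Quotient.eq_zero_iff_mem] using h
  rw [Algebra.smul_def]
  exact Ideal.mul_mem_right _ _ (Ideal.mem_map_of_mem _ this)

/-- reduction of `aeval`. -/
theorem mk_aeval (P : A[X]) :
    Ideal.Quotient.mk ((maximalIdeal A).map (algebraMap A B)) (aeval u P) =
      aeval (Ideal.Quotient.mk ((maximalIdeal A).map (algebraMap A B)) u)
        (P.map (Ideal.Quotient.mk (maximalIdeal A))) := by
  have h1 : aeval (Ideal.Quotient.mk ((maximalIdeal A).map (algebraMap A B)) u)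
      (P.map (algebraMap A (A ⧸ maximalIdeal A))) =
      aeval (Ideal.Quotient.mk ((maximalIdeal A).map (algebraMap A B)) u) P :=
    Polynomial.aeval_map_algebraMap _ _ _
  have h2 := Polynomial.aeval_algHom_apply
    (Ideal.Quotient.mkₐ A ((maximalIdeal A).map (algebraMap A B))) u P
  exact (h2.symm.trans h1.symm)

/-- evaluation of a polynomial of degree `< d` lies in the span of the first `d` powers. -/
theorem aeval_mem_span (d : ℕ) (R : A[X]) (hR : R.degree < d) :
    aeval u R ∈ Submodule.span A (Set.range fun i : Fin d => u ^ (i : ℕ)) := by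
  rw [aeval_def, eval₂_eq_sum, Polynomial.sum]
  refine Submodule.sum_mem _ fun i hi => ?_
  have hid : i < d := by
    have h1 : (i : WithBot ℕ) ≤ R.degree := le_degree_of_ne_zero (mem_support_iff.mp hi)
    exact_mod_cast lt_of_le_of_lt h1 hR
  rw [← Algebra.smul_def]
  exact Submodule.smul_mem _ _ (Submodule.subset_span ⟨⟨i, hid⟩, rfl⟩)

variable {A B u}

/-- Nakayama: the first `deg f` powers of `u` span `B`. -/
theorem span_pow_eq_top [Module.Finite A B] (hu : Algebra.adjoin A ({u} : Set B) = ⊤)
    (f : (A ⧸ maximalIdeal A)[X]) (hfm : f.Monic)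
    (hf0 : aeval (Ideal.Quotient.mk ((maximalIdeal A).map (algebraMap A B)) u) f = 0) :
    Submodule.span A (Set.range fun i : Fin f.natDegree => u ^ (i : ℕ)) = ⊤ := by
  rw [← IsLocalRing.map_mkQ_eq_top, eq_top_iff]
  intro b' _
  obtain ⟨b, rfl⟩ := Submodule.mkQ_surjective _ b'
  have hb : b ∈ Algebra.adjoin A ({u} : Set B) := hu ▸ Algebra.mem_top
  rw [Algebra.adjoin_singleton_eq_range_aeval] at hb
  obtain ⟨P, hPb⟩ := hb
  replace hPb : aeval u P = b := hPb
  subst hPb
  -- divide the reduction of `P` by `f`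
  set P' := P.map (Ideal.Quotient.mk (maximalIdeal A)) with hP'
  obtain ⟨R, hR, hRdeg⟩ := Polynomial.mem_lifts_and_degree_eq
    ((Polynomial.mem_lifts _).mpr (Polynomial.map_surjective _ Ideal.Quotient.mk_surjective
      (P' %ₘ f)))
  have hdeg : R.degree < f.natDegree := by
    rw [hRdeg]
    have := degree_modByMonic_lt P' hfm
    rwa [degree_eq_natDegree hfm.ne_zero] at this
  refine ⟨aeval u R, aeval_mem_span A B u _ R hdeg, ?_⟩
  rw [Submodule.mkQ_apply, Submodule.mkQ_apply, Submodule.Quotient.eq, ← map_sub,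
    Ideal.smul_top_eq_map, Submodule.restrictScalars_mem, ← Ideal.Quotient.eq_zero_iff_mem, mk_aeval,
    Polynomial.map_sub, hR, ← hP']
  have h1 : P' %ₘ f - P' = - (f * (P' /ₘ f)) := by
    have := modByMonic_add_div P' f
    linear_combination this
  rw [h1, map_neg, _root_.map_mul, hf0, zero_mul, neg_zero]

/-- if `F'(u) ∈ n` then `G'(u) ∈ n` for every relation `G(u) = 0`. -/
theorem aeval_derivative_mem (f : (A ⧸ maximalIdeal A)[X])
    (hmin : ∀ q : (A ⧸ maximalIdeal A)[X], q ≠ 0 →
      aeval (Ideal.Quotient.mk ((maximalIdeal A).map (algebraMap A B)) u) q = 0 →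
        f.degree ≤ q.degree)
    (F : A[X]) (hFm : F.Monic) (hFdeg : F.degree = f.degree) (hF0 : aeval u F = 0)
    (n : Ideal B) (hmn : (maximalIdeal A).map (algebraMap A B) ≤ n)
    (hF' : aeval u (derivative F) ∈ n)
    (G : A[X]) (hG : aeval u G = 0) : aeval u (derivative G) ∈ n := by
  have hdiv := modByMonic_add_div G F
  have hR0 : aeval u (G %ₘ F) = 0 := by
    have := congrArg (aeval u) hdiv
    rw [map_add, _root_.map_mul, hF0, zero_mul, add_zero, hG] at this
    exact this
  have hRbar : (G %ₘ F).map (Ideal.Quotient.mk (maximalIdeal A)) = 0 := by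
    by_contra hne
    have h1 := hmin _ hne (by rw [← mk_aeval, hR0, _root_.map_zero])
    have h2 : ((G %ₘ F).map (Ideal.Quotient.mk (maximalIdeal A))).degree ≤ (G %ₘ F).degree :=
      degree_map_le
    have h3 : (G %ₘ F).degree < F.degree := degree_modByMonic_lt G hFm
    rw [hFdeg] at h3
    exact absurd (lt_of_le_of_lt (h1.trans h2) h3) (lt_irrefl _)
  have hR' : aeval u (derivative (G %ₘ F)) ∈ n := by
    refine hmn (aeval_mem_of_map_eq_zero A B u _ ?_)
    rw [← Polynomial.derivative_map, hRbar, derivative_zero]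
  have hG' : derivative G = derivative (G %ₘ F) + (derivative F * (G /ₘ F) + F * derivative (G /ₘ F)) := by
    conv_lhs => rw [← hdiv]
    rw [derivative_add, derivative_mul]
  rw [hG', map_add, map_add, _root_.map_mul, _root_.map_mul, hF0, zero_mul, add_zero]
  exact n.add_mem hR' (n.mul_mem_right _ hF')

/-- the derivation `G(u) ↦ G'(u) mod n`, when it is well defined. -/
theorem exists_derivation (hu : Algebra.adjoin A ({u} : Set B) = ⊤) (n : Ideal B)
    (hW : ∀ G : A[X], aeval u G = 0 → aeval u (derivative G) ∈ n) :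
    ∃ D : Derivation A B (B ⧸ n), D u = 1 := by
  have hsurj : Function.Surjective (aeval u : A[X] →ₐ[A] B) := by
    intro b
    have hb : b ∈ Algebra.adjoin A ({u} : Set B) := hu ▸ Algebra.mem_top
    rw [Algebra.adjoin_singleton_eq_range_aeval] at hb
    obtain ⟨P, hPb⟩ := hb
    exact ⟨P, hPb⟩
  let g : B → A[X] := Function.surjInv hsurj
  have hg : ∀ b, aeval u (g b) = b := Function.surjInv_eq hsurj
  have key : ∀ P Q : A[X], aeval u P = aeval u Q →
      Ideal.Quotient.mk n (aeval u (derivative P)) = Ideal.Quotient.mk n (aeval u (derivative Q)) := by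
    intro P Q h
    rw [Ideal.Quotient.eq, ← map_sub, ← derivative_sub]
    exact hW _ (by rw [map_sub, h, sub_self])
  let D₀ : B →ₗ[A] (B ⧸ n) :=
    { toFun := fun b => Ideal.Quotient.mk n (aeval u (derivative (g b)))
      map_add' := by
        intro b b'
        have := key (g (b + b')) (g b + g b') (by rw [map_add, hg, hg, hg])
        rw [this, derivative_add, map_add, map_add]
      map_smul' := by
        intro a b
        have := key (g (a • b)) (C a * g b) (by rw [_root_.map_mul, hg, hg, aeval_C, Algebra.smul_def])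
        rw [this, derivative_C_mul, _root_.map_mul, aeval_C, _root_.map_mul, RingHom.id_apply,
          Algebra.smul_def]
        rfl }
  have hD₀ : ∀ b, D₀ b = Ideal.Quotient.mk n (aeval u (derivative (g b))) := fun b => rfl
  refine ⟨Derivation.mk' D₀ ?_, ?_⟩
  · intro b b'
    have := key (g (b * b')) (g b * g b') (by rw [_root_.map_mul, hg, hg, hg])
    rw [hD₀, hD₀, hD₀, this, derivative_mul, map_add, _root_.map_mul, _root_.map_mul, hg, hg, map_add,
      _root_.map_mul, _root_.map_mul, Algebra.smul_def, Algebra.smul_def]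
    change _ = Ideal.Quotient.mk n b * _ + Ideal.Quotient.mk n b' * _
    ring
  · change D₀ u = 1
    have := key (g u) X (by rw [hg, aeval_X])
    rw [hD₀, this, derivative_X, _root_.map_one, _root_.map_one]

theorem s5077 (A B : Type u) [CommRing A] [IsLocalRing A]
    [CommRing B] [Algebra A B] [Module.Finite A B] (u : B) (hu : Algebra.adjoin A ({u} : Set B) = ⊤) :
    ∃ F : Polynomial A, F.Monic ∧ Polynomial.aeval u F = 0 ∧
      ∀ (n : Ideal B) [n.IsMaximal], Algebra.IsUnramifiedAt A n →
        Polynomial.aeval u (Polynomial.derivative F) ∉ n := by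
  letI := Ideal.Quotient.field (maximalIdeal A)
  haveI : Module.Finite A (B ⧸ (maximalIdeal A).map (algebraMap A B)) :=
    Module.Finite.of_surjective (Ideal.Quotient.mkₐ A _).toLinearMap
      (Ideal.Quotient.mkₐ_surjective A _)
  haveI : Module.Finite (A ⧸ maximalIdeal A) (B ⧸ (maximalIdeal A).map (algebraMap A B)) :=
    Module.Finite.of_restrictScalars_finite A _ _
  have hint : IsIntegral (A ⧸ maximalIdeal A)
      (Ideal.Quotient.mk ((maximalIdeal A).map (algebraMap A B)) u) :=
    Algebra.IsIntegral.isIntegral _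
  set f := minpoly (A ⧸ maximalIdeal A)
    (Ideal.Quotient.mk ((maximalIdeal A).map (algebraMap A B)) u) with hf
  have hfm : f.Monic := minpoly.monic hint
  have hf0 : aeval (Ideal.Quotient.mk ((maximalIdeal A).map (algebraMap A B)) u) f = 0 :=
    minpoly.aeval _ _
  have hmin : ∀ q : (A ⧸ maximalIdeal A)[X], q ≠ 0 →
      aeval (Ideal.Quotient.mk ((maximalIdeal A).map (algebraMap A B)) u) q = 0 →
        f.degree ≤ q.degree := fun q hq h => minpoly.degree_le_of_ne_zero _ _ hq h
  have hspan := span_pow_eq_top hu f hfm hf0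
  have hmem : u ^ f.natDegree ∈
      Submodule.span A (Set.range fun i : Fin f.natDegree => u ^ (i : ℕ)) := hspan ▸ Submodule.mem_top
  obtain ⟨a, ha⟩ := (Submodule.mem_span_range_iff_exists_fun A).mp hmem
  have hpdeg : (- ∑ i : Fin f.natDegree, C (a i) * X ^ (i : ℕ)).degree <
      (f.natDegree : WithBot ℕ) := by
    rw [degree_neg]
    exact degree_sum_fin_lt a
  have hFm : (X ^ f.natDegree + - ∑ i : Fin f.natDegree, C (a i) * X ^ (i : ℕ)).Monic :=
    monic_X_pow_add hpdeg
  have hF0 : aeval u (X ^ f.natDegree + - ∑ i : Fin f.natDegree, C (a i) * X ^ (i : ℕ)) = 0 := by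
    rw [map_add, map_neg, map_sum, map_pow, aeval_X, ← ha]
    simp [Algebra.smul_def]
  have hFdeg : (X ^ f.natDegree + - ∑ i : Fin f.natDegree, C (a i) * X ^ (i : ℕ)).degree =
      f.degree := by
    rw [degree_add_eq_left_of_degree_lt (by rw [degree_X_pow]; exact hpdeg), degree_X_pow,
      degree_eq_natDegree hfm.ne_zero]
  refine ⟨_, hFm, hF0, ?_⟩
  intro n hn hunr hF'
  have hmn : (maximalIdeal A).map (algebraMap A B) ≤ n := by
    rw [Ideal.map_le_iff_le_comap]
    haveI : Algebra.IsIntegral A B := Algebra.IsIntegral.of_finite A B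
    have hmax : (n.comap (algebraMap A B)).IsMaximal :=
      Ideal.isMaximal_comap_of_isIntegral_of_isMaximal n
    rw [IsLocalRing.eq_maximalIdeal hmax]
  have hW := aeval_derivative_mem f hmin _ hFm hFdeg hF0 n hmn hF'
  obtain ⟨D, hD⟩ := exists_derivation hu n hW
  haveI : Algebra.FormallyUnramified A (Localization.AtPrime n) := hunr
  have h0 : KaehlerDifferential.map A A B (Localization.AtPrime n) (KaehlerDifferential.D A B u) = 0 :=
    Subsingleton.elim _ _
  obtain ⟨s, hs⟩ := (IsLocalizedModule.eq_zero_iff n.primeCompl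
    (KaehlerDifferential.map A A B (Localization.AtPrime n))).mp h0
  have hs' : (s : B) • KaehlerDifferential.D A B u = 0 := hs
  have h1 := congrArg D.liftKaehlerDifferential hs'
  rw [map_smul, Derivation.liftKaehlerDifferential_comp_D, hD, _root_.map_zero] at h1
  have h2 : Ideal.Quotient.mk n (s : B) = 0 := by
    have : (s : B) • (1 : B ⧸ n) = Ideal.Quotient.mk n (s : B) := by
      rw [Algebra.smul_def, mul_one]; rfl
    rw [← this]
    exact h1
  exact s.2 (Ideal.Quotient.eq_zero_iff_mem.mp h2)

end Groth.Agent.Helper2.MonicUnram
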