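import Mathlib

set_option autoImplicit false
universe u
open Polynomial

namespace Groth.Agent.Helper2.MonogenicKaehler

variable {A B : Type u} [CommRing A] [CommRing B] [Algebra A B]

/-- the derivation `g(u) ↦ [g'(u)]` into `B ⧸ (F'(u))` when `ker (aeval u) = (F)` -/
lemma exists_derivation (u : B) (hu : Function.Surjective (aeval u : A[X] →ₐ[A] B)) (F : A[X])
    (hker : RingHom.ker (aeval u : A[X] →ₐ[A] B) = Ideal.span {F}) :
    ∃ d : Derivation A B (B ⧸ Ideal.span {aeval u (derivative F)}),
      ∀ g : A[X], d (aeval u g) = Ideal.Quotient.mk _ (aeval u (derivative g)) := by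
  classical
  set J : Ideal B := Ideal.span {aeval u (derivative F)} with hJ
  have hFu : aeval u F = 0 := by
    have : F ∈ RingHom.ker (aeval u : A[X] →ₐ[A] B) := by
      rw [hker]; exact Ideal.subset_span rfl
    exact this
  -- well-definedness
  have hwd : ∀ g₁ g₂ : A[X], aeval u g₁ = aeval u g₂ →
      Ideal.Quotient.mk J (aeval u (derivative g₁)) = Ideal.Quotient.mk J (aeval u (derivative g₂)) := by
    intro g₁ g₂ h
    have hmem : g₁ - g₂ ∈ RingHom.ker (aeval u : A[X] →ₐ[A] B) := by
      rw [RingHom.mem_ker, map_sub, h, sub_self]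
    rw [hker, Ideal.mem_span_singleton] at hmem
    obtain ⟨h', hh'⟩ := hmem
    rw [Ideal.Quotient.eq, ← map_sub, ← derivative_sub, hh', derivative_mul, map_add, map_mul,
      map_mul, hFu, zero_mul, add_zero]
    exact Ideal.mul_mem_right _ _ (Ideal.subset_span rfl)
  choose pre hpre using hu
  let dfun : B → B ⧸ J := fun b => Ideal.Quotient.mk J (aeval u (derivative (pre b)))
  have hd : ∀ g : A[X], dfun (aeval u g) = Ideal.Quotient.mk J (aeval u (derivative g)) := by
    intro g
    exact hwd _ _ (hpre _)
  let dlin : B →ₗ[A] B ⧸ J :=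
    { toFun := dfun
      map_add' := by
        intro b c
        have hb := hd (pre b)
        have hc := hd (pre c)
        have hbc := hd (pre b + pre c)
        rw [hpre] at hb hc
        rw [map_add, hpre, hpre] at hbc
        rw [hbc, hb, hc, derivative_add, map_add, map_add]
      map_smul' := by
        intro a b
        have hb := hd (pre b)
        have hab := hd (a • pre b)
        rw [hpre] at hb
        rw [map_smul, hpre] at hab
        rw [hab, hb, derivative_smul, map_smul, RingHom.id_apply]
        rfl }
  refine ⟨Derivation.mk' dlin ?_, hd⟩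
  intro b c
  show dfun (b * c) = b • dfun c + c • dfun b
  have hb := hd (pre b)
  have hc := hd (pre c)
  have hbc := hd (pre b * pre c)
  rw [hpre] at hb hc
  rw [map_mul, hpre, hpre] at hbc
  rw [hbc, hb, hc, derivative_mul, map_add, map_mul, map_mul, hpre, hpre, map_add]
  simp only [Algebra.smul_def, Ideal.Quotient.algebraMap_eq, map_mul]
  ring

end Groth.Agent.Helper2.MonogenicKaehler
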