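import Mathlib

set_option autoImplicit false
universe u
open CategoryTheory

namespace Groth.Agent.Helper2.MoritaCenter

/-- `A` is the center of its module category. -/
theorem toCatCenter_bijective (A : Type u) [CommRing A] :
    Function.Bijective (Linear.toCatCenter A (ModuleCat.{u} A)) := by
  constructor
  · intro a b hab
    have h := congrArg (fun z : CatCenter (ModuleCat.{u} A) =>
      (z.app (ModuleCat.of A A)).hom (1 : A)) hab
    simpa using h
  · intro z
    refine ⟨(z.app (ModuleCat.of A A)).hom (1 : A), ?_⟩
    apply CatCenter.ext
    intro X
    ext m
    let f : ModuleCat.of A A ⟶ X := ModuleCat.ofHom (LinearMap.toSpanSingleton A X m)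
    have hnat := CatCenter.naturality z f
    have h1 := congrArg (fun g : ModuleCat.of A A ⟶ X => g.hom (1 : A)) hnat
    simp only [ModuleCat.hom_comp, LinearMap.coe_comp, Function.comp_apply] at h1
    have hf1 : f.hom (1 : A) = m := by simp [f]
    rw [hf1] at h1
    rw [h1]
    simp [f]

theorem localization_bijective {C D : Type (u+1)} [Category.{u} C] [Category.{u} D]
    [Preadditive C] [Preadditive D] (F : C ≌ D) [F.functor.Additive] :
    haveI : F.functor.IsLocalization (MorphismProperty.isomorphisms C) :=
      Functor.IsLocalization.of_isEquivalence _ _ le_rfl
    Function.Bijective (CatCenter.localizationRingHom F.functor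
      (MorphismProperty.isomorphisms C)) := by
  haveI : F.functor.IsLocalization (MorphismProperty.isomorphisms C) :=
    Functor.IsLocalization.of_isEquivalence _ _ le_rfl
  constructor
  · intro r s hrs
    apply CatCenter.ext
    intro X
    apply F.functor.map_injective
    have := congrArg (fun z : CatCenter D => z.app (F.functor.obj X)) hrs
    simpa [CatCenter.localizationRingHom] using this
  · intro t
    let r : CatCenter C :=
      { app := fun X => F.functor.preimage (t.app (F.functor.obj X))
        naturality := by
          intro X Y f
          apply F.functor.map_injective
          simp only [Functor.id_obj, Functor.id_map, Functor.map_comp, Functor.map_preimage]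
          exact CatCenter.naturality t (F.functor.map f) }
    refine ⟨r, ?_⟩
    apply CatCenter.ext_of_localization F.functor (MorphismProperty.isomorphisms C)
    intro X
    simp only [CatCenter.localizationRingHom, RingHom.coe_mk, MonoidHom.coe_mk, OneHom.coe_mk,
      CatCenter.localization_app]
    exact F.functor.map_preimage _

end Groth.Agent.Helper2.MoritaCenter
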