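import Mathlib

/-!
# Multicross: abstract consequences of the wedge property

`A` local, `C` an integral `A`-algebra with `A → C` injective such that
(H1) every residue field of `C` is the image of `A`, and
(H2) an element of `C` congruent to an element of `A` modulo every maximal ideal lies in `A`.
Then `(m C)^j = m^j` inside `C`.
-/

set_option autoImplicit false
set_option linter.style.haveILetI false
set_option linter.unusedSectionVars false
universe u

namespace Groth.Agent.Helper2.Multi

open IsLocalRing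

section A

variable {A C : Type u} [CommRing A] [IsLocalRing A] [CommRing C] [Algebra A C]
  [Algebra.IsIntegral A C]

theorem comap_eq_maximalIdeal (M : Ideal C) [M.IsMaximal] :
    M.comap (algebraMap A C) = maximalIdeal A :=
  IsLocalRing.eq_maximalIdeal (Ideal.isMaximal_comap_of_isIntegral_of_isMaximal M)

theorem map_le_of_isMaximal (M : Ideal C) [M.IsMaximal] :
    (maximalIdeal A).map (algebraMap A C) ≤ M := by
  rw [Ideal.map_le_iff_le_comap, comap_eq_maximalIdeal M]

variable (hinj : Function.Injective (algebraMap A C))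
  (H2 : ∀ c : C, (∃ a : A, ∀ M : MaximalSpectrum C, c - algebraMap A C a ∈ M.asIdeal) →
    c ∈ (algebraMap A C).range)

include hinj H2

/-- the Jacobson radical of `C` is the image of the maximal ideal of `A` -/
theorem exists_of_forall_mem (c : C) (hc : ∀ M : MaximalSpectrum C, c ∈ M.asIdeal) :
    ∃ a ∈ maximalIdeal A, algebraMap A C a = c := by
  obtain ⟨a₀, ha₀⟩ := H2 c ⟨0, fun M => by rw [map_zero, sub_zero]; exact hc M⟩
  refine ⟨a₀, ?_, ha₀⟩
  by_contra hna
  have hu : IsUnit a₀ := by
    by_contra hnu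
    exact hna ((IsLocalRing.mem_maximalIdeal a₀).mpr hnu)
  haveI : Nontrivial C := hinj.nontrivial
  obtain ⟨M, hM⟩ := Ideal.exists_maximal C
  have h1 : c ∈ M := hc ⟨M, hM⟩
  rw [← ha₀] at h1
  exact hM.ne_top (Ideal.eq_top_of_isUnit_mem _ h1 (hu.map (algebraMap A C)))

theorem mem_map_iff (c : C) :
    c ∈ (maximalIdeal A).map (algebraMap A C) ↔ ∃ a ∈ maximalIdeal A, algebraMap A C a = c := by
  constructor
  · intro hc
    apply exists_of_forall_mem hinj H2 c
    intro M
    haveI := M.isMaximal
    exact map_le_of_isMaximal M.asIdeal hc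
  · rintro ⟨a, ha, rfl⟩
    exact Ideal.mem_map_of_mem _ ha

theorem mem_map_pow_iff (j : ℕ) (hj : 1 ≤ j) (c : C) :
    c ∈ ((maximalIdeal A).map (algebraMap A C)) ^ j ↔
      ∃ a ∈ (maximalIdeal A) ^ j, algebraMap A C a = c := by
  constructor
  · induction j, hj using Nat.le_induction generalizing c with
    | base =>
      intro hc
      rw [pow_one] at hc ⊢
      exact (mem_map_iff hinj H2 c).mp hc
    | succ j hj ih =>
      intro hc
      rw [pow_succ] at hc
      refine Submodule.mul_induction_on hc ?_ ?_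
      · intro x hx y hy
        obtain ⟨a, ha, rfl⟩ := ih x hx
        obtain ⟨b, hb, rfl⟩ := (mem_map_iff hinj H2 y).mp hy
        refine ⟨a * b, ?_, map_mul _ _ _⟩
        rw [pow_succ]
        exact Ideal.mul_mem_mul ha hb
      · rintro x y ⟨a, ha, rfl⟩ ⟨b, hb, rfl⟩
        exact ⟨a + b, Ideal.add_mem _ ha hb, map_add _ _ _⟩
  · rintro ⟨a, ha, rfl⟩
    rw [← Ideal.map_pow]
    exact Ideal.mem_map_of_mem _ ha

/-- `a ∈ m^j` as soon as its image lies in `(mC)^j` -/
theorem mem_pow_of_map_mem (j : ℕ) (a : A)
    (ha : algebraMap A C a ∈ ((maximalIdeal A).map (algebraMap A C)) ^ j) :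
    a ∈ (maximalIdeal A) ^ j := by
  rcases Nat.eq_zero_or_pos j with rfl | hj
  · rw [pow_zero, Ideal.one_eq_top]; trivial
  obtain ⟨a', ha', h⟩ := (mem_map_pow_iff hinj H2 j hj _).mp ha
  rwa [← hinj h]

end A

end Groth.Agent.Helper2.Multi
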