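import Mathlib

/-!
# Multicross: the Jacobson radical of a semilocal ring generates the maximal ideal of each
localization at a maximal ideal
-/

set_option autoImplicit false
set_option linter.style.haveILetI false
set_option linter.unusedSectionVars false
universe u

namespace Groth.Agent.Helper2.Multi

open IsLocalRing
open scoped Function

section B

variable {C : Type u} [CommRing C] [Finite (MaximalSpectrum C)] (I : Ideal C)
  (hle : ∀ M : MaximalSpectrum C, I ≤ M.asIdeal)
  (hjac : ∀ c : C, (∀ M : MaximalSpectrum C, c ∈ M.asIdeal) → c ∈ I)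

include hle hjac

theorem map_eq_maximalIdeal (M : MaximalSpectrum C) :
    haveI := M.isMaximal
    I.map (algebraMap C (Localization.AtPrime M.asIdeal)) =
      maximalIdeal (Localization.AtPrime M.asIdeal) := by
  haveI := M.isMaximal
  classical
  apply le_antisymm
  · rw [← IsLocalization.AtPrime.map_eq_maximalIdeal M.asIdeal (Localization.AtPrime M.asIdeal)]
    exact Ideal.map_mono (hle M)
  · rw [← IsLocalization.AtPrime.map_eq_maximalIdeal M.asIdeal (Localization.AtPrime M.asIdeal),
      Ideal.map_le_iff_le_comap]
    intro x hx
    have hcop : Pairwise (IsCoprime on fun N : MaximalSpectrum C => N.asIdeal) := by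
      intro N N' hNN'
      show IsCoprime N.asIdeal N'.asIdeal
      rw [Ideal.isCoprime_iff_sup_eq]
      exact Ideal.IsMaximal.coprime_of_ne N.isMaximal N'.isMaximal
        (fun h => hNN' (MaximalSpectrum.ext h))
    obtain ⟨s, hs⟩ := Ideal.exists_forall_sub_mem_ideal hcop
      (fun N : MaximalSpectrum C => if N = M then (1 : C) else 0)
    have hsM : s ∉ M.asIdeal := by
      intro h
      have h1 := hs M
      rw [if_pos rfl] at h1
      have : (1 : C) ∈ M.asIdeal := by
        have := M.asIdeal.sub_mem h h1
        simpa using this
      exact M.isMaximal.ne_top ((Ideal.eq_top_iff_one _).mpr this)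
    have hsx : s * x ∈ I := by
      apply hjac
      intro N
      by_cases hN : N = M
      · subst hN
        exact Ideal.mul_mem_left _ _ hx
      · have h1 := hs N
        rw [if_neg hN, sub_zero] at h1
        exact Ideal.mul_mem_right _ _ h1
    have hu : IsUnit (algebraMap C (Localization.AtPrime M.asIdeal) s) :=
      IsLocalization.map_units (Localization.AtPrime M.asIdeal)
        (⟨s, hsM⟩ : M.asIdeal.primeCompl)
    rw [Ideal.mem_comap]
    have h2 : algebraMap C (Localization.AtPrime M.asIdeal) (s * x) ∈
        I.map (algebraMap C (Localization.AtPrime M.asIdeal)) := Ideal.mem_map_of_mem _ hsx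
    rw [map_mul] at h2
    exact (Ideal.unit_mul_mem_iff_mem _ hu).mp h2

theorem mem_pow_smul_top_iff (M : MaximalSpectrum C) (j : ℕ)
    (z : haveI := M.isMaximal; Localization.AtPrime M.asIdeal) :
    haveI := M.isMaximal
    z ∈ (I ^ j • ⊤ : Submodule C (Localization.AtPrime M.asIdeal)) ↔
      z ∈ (maximalIdeal (Localization.AtPrime M.asIdeal)) ^ j := by
  haveI := M.isMaximal
  rw [Ideal.smul_top_eq_map, Submodule.restrictScalars_mem, Ideal.map_pow,
    map_eq_maximalIdeal I hle hjac M]

end B

end Groth.Agent.Helper2.Multi
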