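import Mathlib
import Groth.Prelude
import Groth.Agent.Helper2.MultiA
import Groth.Agent.Helper2.MultiB
import Groth.Agent.Helper2.ComplCofinal
import Groth.Agent.Helper7.SemiCompl

/-!
# Multicross: the completion of `A` inside the product of the completions of the `C_M`
-/

set_option autoImplicit false
set_option linter.style.haveILetI false
set_option linter.unusedSectionVars false
universe u

namespace Groth.Agent.Helper2.Multi

open IsLocalRing AdicCompletion

section C

variable {A C : Type u} [CommRing A] [IsLocalRing A] [CommRing C] [Algebra A C]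
  [Algebra.IsIntegral A C]

/-- the homomorphism `A → C_M` -/
noncomputable def toLoc (M : MaximalSpectrum C) : A →+* Localization.AtPrime M.asIdeal :=
  (algebraMap C (Localization.AtPrime M.asIdeal)).comp (algebraMap A C)

theorem toLoc_apply (M : MaximalSpectrum C) (a : A) :
    toLoc M a = algebraMap C (Localization.AtPrime M.asIdeal) (algebraMap A C a) := rfl

theorem toLoc_mem (M : MaximalSpectrum C) {a : A} (ha : a ∈ maximalIdeal A) :
    toLoc M a ∈ maximalIdeal (Localization.AtPrime M.asIdeal) := by
  rw [toLoc_apply, IsLocalization.AtPrime.to_map_mem_maximal_iff (Localization.AtPrime M.asIdeal)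
    M.asIdeal]
  exact map_le_of_isMaximal M.asIdeal (Ideal.mem_map_of_mem _ ha)

theorem map_toLoc_le (M : MaximalSpectrum C) :
    (maximalIdeal A).map (toLoc M) ≤ maximalIdeal (Localization.AtPrime M.asIdeal) := by
  rw [Ideal.map_le_iff_le_comap]
  intro a ha
  exact toLoc_mem M ha

/-- the induced map on completions -/
noncomputable def lam (M : MaximalSpectrum C) : AdicCompletion (maximalIdeal A) A →+*
    AdicCompletion (maximalIdeal (Localization.AtPrime M.asIdeal))
      (Localization.AtPrime M.asIdeal) :=
  FSch.complMap (maximalIdeal A) (maximalIdeal (Localization.AtPrime M.asIdeal)) (toLoc M)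
    (map_toLoc_le M)

theorem evalₐ_lam_mk (M : MaximalSpectrum C) (j : ℕ)
    (a : AdicCauchySequence (maximalIdeal A) A) :
    evalₐ (maximalIdeal (Localization.AtPrime M.asIdeal)) j
        (lam M (AdicCompletion.mk (maximalIdeal A) A a)) =
      Ideal.Quotient.mk _ (toLoc M (a j)) := by
  rw [lam, ComplLocFlat.evalₐ_complMap, evalₐ_mk, Ideal.quotientMap_mk]

theorem lam_algebraMap (M : MaximalSpectrum C) (a : A) :
    lam M (algebraMap A (AdicCompletion (maximalIdeal A) A) a) =
      algebraMap (Localization.AtPrime M.asIdeal)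
        (AdicCompletion (maximalIdeal (Localization.AtPrime M.asIdeal))
          (Localization.AtPrime M.asIdeal)) (toLoc M a) :=
  ComplCofinal.complMap_algebraMap _ _ _ _ a

end C

section Seq

variable {R : Type u} [CommRing R] (I : Ideal R)

theorem seq_sub_mem (a : AdicCauchySequence I R) {m n : ℕ} (hmn : m ≤ n) :
    a n - a m ∈ I ^ m := by
  have := ComplCofinal.cauchy_sub_mem I a hmn
  rw [← neg_sub]
  exact (I ^ m).neg_mem this

theorem mk_eq_zero_iff (a : AdicCauchySequence I R) :
    AdicCompletion.mk I R a = 0 ↔ ∀ j, a j ∈ I ^ j := by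
  constructor
  · intro h j
    have := congrArg (evalₐ I j) h
    rw [evalₐ_mk, _root_.map_zero, Ideal.Quotient.eq_zero_iff_mem] at this
    exact this
  · intro h
    apply ext_evalₐ
    intro j
    rw [evalₐ_mk, _root_.map_zero, Ideal.Quotient.eq_zero_iff_mem]
    exact h j

theorem mk_eq_mk_iff (a b : AdicCauchySequence I R) :
    AdicCompletion.mk I R a = AdicCompletion.mk I R b ↔ ∀ j, a j - b j ∈ I ^ j := by
  rw [← sub_eq_zero, ← map_sub, mk_eq_zero_iff]
  rfl

end Seq

section Max

variable {R : Type u} [CommRing R] [IsLocalRing R] [IsNoetherianRing R]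

theorem mk_mem_maximalIdeal_iff (a : AdicCauchySequence (maximalIdeal R) R) :
    AdicCompletion.mk (maximalIdeal R) R a ∈ maximalIdeal (AdicCompletion (maximalIdeal R) R) ↔
      a 1 ∈ maximalIdeal R := by
  rw [AdicCompletion.mem_maximalIdeal_iff_eval_one_eq_zero, AdicCompletion.mk_apply_coe,
    Submodule.mkQ_apply, Submodule.Quotient.mk_eq_zero, pow_one, smul_eq_mul, Ideal.mul_top]

/-- the constant sequence -/
def constSeq (I : Ideal R) (r : R) : AdicCauchySequence I R :=
  ⟨fun _ => r, fun _ => rfl⟩

theorem mk_constSeq (I : Ideal R) (r : R) :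
    AdicCompletion.mk I R (constSeq I r) = algebraMap R (AdicCompletion I R) r := rfl

end Max

section D

variable {A C : Type u} [CommRing A] [IsLocalRing A] [CommRing C] [Algebra A C]
  [Algebra.IsIntegral A C] [Finite (MaximalSpectrum C)]
  (hinj : Function.Injective (algebraMap A C))
  (H2 : ∀ c : C, (∃ a : A, ∀ M : MaximalSpectrum C, c - algebraMap A C a ∈ M.asIdeal) →
    c ∈ (algebraMap A C).range)

include hinj H2

theorem jac_le (M : MaximalSpectrum C) : (maximalIdeal A).map (algebraMap A C) ≤ M.asIdeal :=
  map_le_of_isMaximal M.asIdeal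

theorem jac_mem (c : C) (hc : ∀ M : MaximalSpectrum C, c ∈ M.asIdeal) :
    c ∈ (maximalIdeal A).map (algebraMap A C) := by
  obtain ⟨a, ha, rfl⟩ := exists_of_forall_mem hinj H2 c hc
  exact Ideal.mem_map_of_mem _ ha

/-- level-wise injectivity -/
theorem mem_pow_of_forall_toLoc_mem (j : ℕ) (a : A)
    (ha : ∀ M : MaximalSpectrum C, toLoc M a ∈ (maximalIdeal (Localization.AtPrime M.asIdeal)) ^ j) :
    a ∈ (maximalIdeal A) ^ j := by
  apply mem_pow_of_map_mem hinj H2
  apply Groth.Agent.Helper7.SemiCompl.mem_pow_of_forall_mem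
    ((maximalIdeal A).map (algebraMap A C)) j
  rintro ⟨M, -⟩
  rw [mem_pow_smul_top_iff _ (fun M => jac_le hinj H2 M) (jac_mem hinj H2) M j]
  exact ha M

theorem lam_injective (x : AdicCompletion (maximalIdeal A) A)
    (hx : ∀ M : MaximalSpectrum C, lam M x = 0) : x = 0 := by
  obtain ⟨a, rfl⟩ := AdicCompletion.mk_surjective _ _ x
  rw [mk_eq_zero_iff]
  intro j
  apply mem_pow_of_forall_toLoc_mem hinj H2
  intro M
  have := congrArg (evalₐ (maximalIdeal (Localization.AtPrime M.asIdeal)) j) (hx M)
  rw [evalₐ_lam_mk, _root_.map_zero, Ideal.Quotient.eq_zero_iff_mem] at this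
  exact this

end D

end Groth.Agent.Helper2.Multi
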