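import Mathlib
import Groth.Prelude
import Groth.Agent.Helper2.MultiC

/-!
# Multicross: surjectivity onto the tuples with a common residue
-/

set_option autoImplicit false
set_option linter.style.haveILetI false
set_option linter.unusedSectionVars false
universe u

namespace Groth.Agent.Helper2.Multi

open IsLocalRing AdicCompletion

section D

variable {A C : Type u} [CommRing A] [IsLocalRing A] [CommRing C] [Algebra A C]
  [Algebra.IsIntegral A C]

/-- image of a Cauchy sequence in `C_M` -/
noncomputable def mapSeq (M : MaximalSpectrum C) (a : AdicCauchySequence (maximalIdeal A) A) :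
    AdicCauchySequence (maximalIdeal (Localization.AtPrime M.asIdeal))
      (Localization.AtPrime M.asIdeal) :=
  ⟨fun j => toLoc M (a j), by
    intro m n hmn
    rw [SModEq.sub_mem, smul_eq_mul, Ideal.mul_top, ← map_sub]
    have h1 := ComplCofinal.cauchy_sub_mem (maximalIdeal A) a hmn
    have h2 : toLoc M (a m - a n) ∈ ((maximalIdeal A).map (toLoc M)) ^ m := by
      rw [← Ideal.map_pow]
      exact Ideal.mem_map_of_mem _ h1
    exact Ideal.pow_right_mono (map_toLoc_le M) m h2⟩

theorem mapSeq_apply (M : MaximalSpectrum C) (a : AdicCauchySequence (maximalIdeal A) A) (j : ℕ) :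
    mapSeq M a j = toLoc M (a j) := rfl

theorem lam_mk (M : MaximalSpectrum C) (a : AdicCauchySequence (maximalIdeal A) A) :
    lam M (AdicCompletion.mk (maximalIdeal A) A a) =
      AdicCompletion.mk _ _ (mapSeq M a) := by
  apply ext_evalₐ
  intro j
  rw [evalₐ_lam_mk, evalₐ_mk]
  rfl

variable [IsNoetherianRing C]

/-- every element of the completion of `A` is congruent to an element of `A`, and so are its
images -/
theorem exists_lam_sub_mem (x : AdicCompletion (maximalIdeal A) A) :
    ∃ c : A, ∀ M : MaximalSpectrum C,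
      lam M x - algebraMap (Localization.AtPrime M.asIdeal) _ (toLoc M c) ∈
        maximalIdeal (AdicCompletion (maximalIdeal (Localization.AtPrime M.asIdeal))
          (Localization.AtPrime M.asIdeal)) := by
  obtain ⟨a, rfl⟩ := AdicCompletion.mk_surjective _ _ x
  refine ⟨a 1, fun M => ?_⟩
  rw [lam_mk, ← mk_constSeq, ← map_sub, mk_mem_maximalIdeal_iff]
  show toLoc M (a 1) - toLoc M (a 1) ∈ _
  rw [sub_self]
  exact Ideal.zero_mem _

variable [Finite (MaximalSpectrum C)]
  (hinj : Function.Injective (algebraMap A C))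
  (H2 : ∀ c : C, (∃ a : A, ∀ M : MaximalSpectrum C, c - algebraMap A C a ∈ M.asIdeal) →
    c ∈ (algebraMap A C).range)

include hinj H2

theorem exists_lam_eq
    (y : ∀ M : MaximalSpectrum C,
      AdicCompletion (maximalIdeal (Localization.AtPrime M.asIdeal))
        (Localization.AtPrime M.asIdeal))
    (c : A)
    (hy : ∀ M : MaximalSpectrum C,
      y M - algebraMap (Localization.AtPrime M.asIdeal) _ (toLoc M c) ∈
        maximalIdeal (AdicCompletion (maximalIdeal (Localization.AtPrime M.asIdeal))
          (Localization.AtPrime M.asIdeal))) :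
    ∃ x : AdicCompletion (maximalIdeal A) A, ∀ M : MaximalSpectrum C, lam M x = y M := by
  classical
  set I : Ideal C := (maximalIdeal A).map (algebraMap A C) with hI
  have hle : ∀ M : MaximalSpectrum C, I ≤ M.asIdeal := fun M => jac_le hinj H2 M
  have hjac : ∀ c : C, (∀ M : MaximalSpectrum C, c ∈ M.asIdeal) → c ∈ I := jac_mem hinj H2
  have hIprime : ∀ (p : Ideal C), p.IsPrime → I ≤ p → p.IsMaximal := by
    intro p hp hIp
    apply Ideal.isMaximal_of_isIntegral_of_isMaximal_comap (R := A) p
    have h1 : maximalIdeal A ≤ p.comap (algebraMap A C) := Ideal.map_le_iff_le_comap.mp hIp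
    have hne : p.comap (algebraMap A C) ≠ ⊤ := (Ideal.comap_isPrime _ p).ne_top
    rw [← (maximalIdeal.isMaximal A).eq_of_le hne h1]
    exact maximalIdeal.isMaximal A
  choose b hb using fun M => AdicCompletion.mk_surjective _ _ (y M)
  have happ : ∀ j, ∃ x : C, ∀ M : MaximalSpectrum C,
      algebraMap C (Localization.AtPrime M.asIdeal) x - b M j ∈
        (maximalIdeal (Localization.AtPrime M.asIdeal)) ^ j := by
    intro j
    obtain ⟨x, hx⟩ := Groth.Agent.Helper7.SemiCompl.exists_approx I ‹Finite _› hIprime j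
      (fun M => b M.1 j)
    refine ⟨x, fun M => ?_⟩
    exact (mem_pow_smul_top_iff I hle hjac M j _).mp (hx ⟨M, hle M⟩)
  choose x hx using happ
  have hb1 : ∀ M : MaximalSpectrum C,
      b M 1 - toLoc M c ∈ maximalIdeal (Localization.AtPrime M.asIdeal) := by
    intro M
    have h := hy M
    rw [← hb M, ← mk_constSeq, ← map_sub, mk_mem_maximalIdeal_iff] at h
    exact h
  have hxM : ∀ j, 1 ≤ j → ∀ M : MaximalSpectrum C, x j - algebraMap A C c ∈ M.asIdeal := by
    intro j hj M
    rw [← IsLocalization.AtPrime.to_map_mem_maximal_iff (Localization.AtPrime M.asIdeal) M.asIdeal]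
    have h1 : algebraMap C (Localization.AtPrime M.asIdeal) (x j) - b M j ∈
        maximalIdeal (Localization.AtPrime M.asIdeal) :=
      Ideal.pow_le_self (by omega) (hx j M)
    have h2 : b M j - b M 1 ∈ maximalIdeal (Localization.AtPrime M.asIdeal) := by
      have := seq_sub_mem _ (b M) hj
      rwa [pow_one] at this
    have h3 : algebraMap C (Localization.AtPrime M.asIdeal) (x j - algebraMap A C c) =
        (algebraMap C (Localization.AtPrime M.asIdeal) (x j) - b M j) + (b M j - b M 1) +
          (b M 1 - toLoc M c) := by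
      rw [map_sub, toLoc_apply]; ring
    rw [h3]
    exact add_mem (add_mem h1 h2) (hb1 M)
  have hxA : ∀ j, 1 ≤ j → ∃ a : A, algebraMap A C a = x j := fun j hj => by
    obtain ⟨a, ha⟩ := H2 (x j) ⟨c, hxM j hj⟩
    exact ⟨a, ha⟩
  let a : ℕ → A := fun j => if hj : 1 ≤ j then (hxA j hj).choose else 0
  have ha : ∀ j, 1 ≤ j → algebraMap A C (a j) = x j := by
    intro j hj
    simp only [a, dif_pos hj]
    exact (hxA j hj).choose_spec
  have hcau : ∀ j, a j ≡ a (j + 1) [SMOD ((maximalIdeal A) ^ j • ⊤ : Submodule A A)] := by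
    intro j
    rw [SModEq.sub_mem, smul_eq_mul, Ideal.mul_top]
    rcases Nat.eq_zero_or_pos j with rfl | hj
    · rw [pow_zero, Ideal.one_eq_top]; trivial
    apply mem_pow_of_forall_toLoc_mem hinj H2
    intro M
    rw [toLoc_apply, map_sub, ha j hj, ha (j + 1) (by omega)]
    have h1 := hx j M
    have h2 : algebraMap C (Localization.AtPrime M.asIdeal) (x (j + 1)) - b M (j + 1) ∈
        (maximalIdeal (Localization.AtPrime M.asIdeal)) ^ j :=
      Ideal.pow_le_pow_right (Nat.le_succ j) (hx (j + 1) M)
    have h3 : b M (j + 1) - b M j ∈ (maximalIdeal (Localization.AtPrime M.asIdeal)) ^ j :=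
      seq_sub_mem _ (b M) (Nat.le_succ j)
    have h4 : algebraMap C (Localization.AtPrime M.asIdeal) (x j - x (j + 1)) =
        (algebraMap C (Localization.AtPrime M.asIdeal) (x j) - b M j) -
          (algebraMap C (Localization.AtPrime M.asIdeal) (x (j + 1)) - b M (j + 1)) -
          (b M (j + 1) - b M j) := by
      rw [map_sub]; ring
    rw [h4]
    exact sub_mem (sub_mem h1 h2) h3
  refine ⟨AdicCompletion.mk _ _ (AdicCauchySequence.mk _ _ a hcau), fun M => ?_⟩
  rw [← hb M, lam_mk, mk_eq_mk_iff]
  intro j
  rcases Nat.eq_zero_or_pos j with rfl | hj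
  · rw [pow_zero, Ideal.one_eq_top]; trivial
  show toLoc M (a j) - b M j ∈ _
  rw [toLoc_apply, ha j hj]
  exact hx j M

end D

end Groth.Agent.Helper2.Multi
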