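import Mathlib
import Groth.Prelude
import Groth.Agent.Helper2.MultiD
import Groth.Agent.S12630
import Groth.Agent.S0549

/-!
# Multicross: power series coordinates on the completions of the `C_M`
-/

set_option autoImplicit false
set_option linter.style.haveILetI false
set_option linter.unusedSectionVars false
universe u

namespace Groth.Agent.Helper2.Multi

open IsLocalRing AdicCompletion

section PS

variable {k R : Type u} [Field k] [CommRing R] [IsLocalRing R]

/-- the constant coefficient in power series coordinates is the residue -/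
theorem sub_mem_iff_constantCoeff (E : PowerSeries k ≃+* R) (ι : k →+* R)
    (hEC : ∀ c : k, E (PowerSeries.C c) = ι c) (hEX : E PowerSeries.X ∈ maximalIdeal R)
    (y : R) (t : k) :
    y - ι t ∈ maximalIdeal R ↔ PowerSeries.constantCoeff (E.symm y) = t := by
  set f := E.symm y with hf
  have hy : y = E f := by rw [hf, RingEquiv.apply_symm_apply]
  have h0 : y - ι (PowerSeries.constantCoeff f) ∈ maximalIdeal R := by
    have h1 := PowerSeries.eq_shift_mul_X_add_const f
    have h2 : y = E (PowerSeries.mk fun p => PowerSeries.coeff (p + 1) f) * E PowerSeries.X +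
        ι (PowerSeries.constantCoeff f) := by
      rw [hy]
      conv_lhs => rw [h1]
      rw [map_add, map_mul, hEC]
    rw [h2, add_sub_cancel_right]
    exact Ideal.mul_mem_left _ _ hEX
  constructor
  · intro h
    by_contra hne
    have h3 : ι (PowerSeries.constantCoeff f - t) ∈ maximalIdeal R := by
      have := (maximalIdeal R).sub_mem h h0
      rw [map_sub]
      have e : y - ι t - (y - ι (PowerSeries.constantCoeff f)) =
          ι (PowerSeries.constantCoeff f) - ι t := by ring
      rwa [e] at this
    have hu : IsUnit (PowerSeries.constantCoeff f - t) :=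
      isUnit_iff_ne_zero.mpr (sub_ne_zero.mpr hne)
    exact (IsLocalRing.mem_maximalIdeal _).mp h3 (hu.map ι)
  · rintro rfl
    exact h0

end PS

section E

variable {A C : Type u} [CommRing A] [IsLocalRing A] [CommRing C] [Algebra A C]
  [Algebra.IsIntegral A C] [IsNoetherianRing C]

theorem algebraMap_mem_maximalIdeal (M : MaximalSpectrum C)
    {z : Localization.AtPrime M.asIdeal} (hz : z ∈ maximalIdeal (Localization.AtPrime M.asIdeal)) :
    algebraMap (Localization.AtPrime M.asIdeal)
      (AdicCompletion (maximalIdeal (Localization.AtPrime M.asIdeal))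
        (Localization.AtPrime M.asIdeal)) z ∈
      maximalIdeal (AdicCompletion (maximalIdeal (Localization.AtPrime M.asIdeal))
        (Localization.AtPrime M.asIdeal)) := by
  rw [← mk_constSeq, mk_mem_maximalIdeal_iff]
  exact hz

variable (k : Type u) [Field k] [Algebra k A]
  (hres : Function.Bijective (algebraMap k (ResidueField A)))
  (H1 : ∀ (M : MaximalSpectrum C) (c : C), ∃ a : A, c - algebraMap A C a ∈ M.asIdeal)

variable (A) in
/-- the structure map `k → Ĉ_M` -/
noncomputable def kmap (M : MaximalSpectrum C) : k →+*
    AdicCompletion (maximalIdeal (Localization.AtPrime M.asIdeal))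
      (Localization.AtPrime M.asIdeal) :=
  (algebraMap (Localization.AtPrime M.asIdeal) _).comp ((toLoc M).comp (algebraMap k A))

theorem kmap_apply (M : MaximalSpectrum C) (c : k) :
    kmap A k M c = algebraMap (Localization.AtPrime M.asIdeal)
      (AdicCompletion (maximalIdeal (Localization.AtPrime M.asIdeal))
        (Localization.AtPrime M.asIdeal)) (toLoc M (algebraMap k A c)) := rfl

theorem sub_kmap_mem (M : MaximalSpectrum C)
    (z : AdicCompletion (maximalIdeal (Localization.AtPrime M.asIdeal))
      (Localization.AtPrime M.asIdeal)) (c₀ : A) (t : k)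
    (h1 : z - algebraMap (Localization.AtPrime M.asIdeal)
      (AdicCompletion (maximalIdeal (Localization.AtPrime M.asIdeal))
        (Localization.AtPrime M.asIdeal)) (toLoc M c₀) ∈
      maximalIdeal (AdicCompletion (maximalIdeal (Localization.AtPrime M.asIdeal))
        (Localization.AtPrime M.asIdeal)))
    (ht : c₀ - algebraMap k A t ∈ maximalIdeal A) :
    z - kmap A k M t ∈
      maximalIdeal (AdicCompletion (maximalIdeal (Localization.AtPrime M.asIdeal))
        (Localization.AtPrime M.asIdeal)) := by
  have h2 : algebraMap (Localization.AtPrime M.asIdeal)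
      (AdicCompletion (maximalIdeal (Localization.AtPrime M.asIdeal))
        (Localization.AtPrime M.asIdeal)) (toLoc M (c₀ - algebraMap k A t)) ∈
      maximalIdeal (AdicCompletion (maximalIdeal (Localization.AtPrime M.asIdeal))
        (Localization.AtPrime M.asIdeal)) := algebraMap_mem_maximalIdeal M (toLoc_mem M ht)
  have e3 : z - kmap A k M t =
      (z - algebraMap (Localization.AtPrime M.asIdeal)
        (AdicCompletion (maximalIdeal (Localization.AtPrime M.asIdeal))
          (Localization.AtPrime M.asIdeal)) (toLoc M c₀)) +
        algebraMap (Localization.AtPrime M.asIdeal)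
          (AdicCompletion (maximalIdeal (Localization.AtPrime M.asIdeal))
            (Localization.AtPrime M.asIdeal)) (toLoc M (c₀ - algebraMap k A t)) := by
    rw [kmap_apply, map_sub, map_sub]; ring
  rw [e3]
  exact add_mem h1 h2

include hres in
theorem exists_sub_mem_maximalIdeal (a : A) :
    ∃ t : k, a - algebraMap k A t ∈ maximalIdeal A := by
  obtain ⟨t, ht⟩ := hres.2 (residue A a)
  refine ⟨t, ?_⟩
  rw [← Ideal.Quotient.eq_zero_iff_mem]
  change residue A (a - algebraMap k A t) = 0
  rw [map_sub, ← ht, sub_eq_zero]
  rfl

include hres H1 in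
theorem exists_sub_kmap_mem (M : MaximalSpectrum C)
    (y : AdicCompletion (maximalIdeal (Localization.AtPrime M.asIdeal))
      (Localization.AtPrime M.asIdeal)) :
    ∃ t : k, y - kmap A k M t ∈
      maximalIdeal (AdicCompletion (maximalIdeal (Localization.AtPrime M.asIdeal))
        (Localization.AtPrime M.asIdeal)) := by
  obtain ⟨b, rfl⟩ := AdicCompletion.mk_surjective _ _ y
  obtain ⟨c, hc⟩ := Ideal.algebraMap_residueField_surjective M.asIdeal
    (residue (Localization.AtPrime M.asIdeal) (b 1))
  have hc' : b 1 - algebraMap C (Localization.AtPrime M.asIdeal) c ∈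
      maximalIdeal (Localization.AtPrime M.asIdeal) := by
    rw [← Ideal.Quotient.eq_zero_iff_mem]
    change residue _ (b 1 - algebraMap C (Localization.AtPrime M.asIdeal) c) = 0
    rw [map_sub, ← hc, sub_eq_zero]
    rfl
  obtain ⟨a, ha⟩ := H1 M c
  obtain ⟨t, ht⟩ := exists_sub_mem_maximalIdeal k hres a
  refine ⟨t, ?_⟩
  show AdicCompletion.mk _ _ b - algebraMap (Localization.AtPrime M.asIdeal) _
    (toLoc M (algebraMap k A t)) ∈ _
  rw [← mk_constSeq, ← map_sub, mk_mem_maximalIdeal_iff]
  show b 1 - toLoc M (algebraMap k A t) ∈ _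
  have h1 : algebraMap C (Localization.AtPrime M.asIdeal) (c - algebraMap A C a) ∈
      maximalIdeal (Localization.AtPrime M.asIdeal) :=
    (IsLocalization.AtPrime.to_map_mem_maximal_iff (Localization.AtPrime M.asIdeal) M.asIdeal _).mpr ha
  have h2 := toLoc_mem M ht
  have e : b 1 - toLoc M (algebraMap k A t) =
      (b 1 - algebraMap C (Localization.AtPrime M.asIdeal) c) +
        algebraMap C (Localization.AtPrime M.asIdeal) (c - algebraMap A C a) +
        toLoc M (a - algebraMap k A t) := by
    rw [map_sub, map_sub, toLoc_apply, toLoc_apply]; ring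
  rw [e]
  exact add_mem (add_mem hc' h1) h2

include hres H1 in
theorem exists_powerSeries_equiv (M : MaximalSpectrum C)
    (hdvr : ∃ _ : IsDomain (Localization.AtPrime M.asIdeal),
      IsDiscreteValuationRing (Localization.AtPrime M.asIdeal)) :
    ∃ E : PowerSeries k ≃+* AdicCompletion (maximalIdeal (Localization.AtPrime M.asIdeal))
        (Localization.AtPrime M.asIdeal),
      (∀ c : k, E (PowerSeries.C c) = kmap A k M c) ∧
      E PowerSeries.X ∈ maximalIdeal (AdicCompletion (maximalIdeal (Localization.AtPrime M.asIdeal))
        (Localization.AtPrime M.asIdeal)) := by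
  haveI : IsNoetherianRing (Localization.AtPrime M.asIdeal) :=
    IsLocalization.isNoetherianRing M.asIdeal.primeCompl _ inferInstance
  obtain ⟨hdom, hdvr'⟩ := (Groth.Agent.S0549.result (Localization.AtPrime M.asIdeal)).mp hdvr
  letI : Algebra k (AdicCompletion (maximalIdeal (Localization.AtPrime M.asIdeal))
      (Localization.AtPrime M.asIdeal)) := (kmap A k M).toAlgebra
  have hK : Function.Bijective (algebraMap k (ResidueField
      (AdicCompletion (maximalIdeal (Localization.AtPrime M.asIdeal))
        (Localization.AtPrime M.asIdeal)))) := by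
    refine ⟨RingHom.injective _, fun z => ?_⟩
    obtain ⟨y, rfl⟩ := residue_surjective z
    obtain ⟨t, ht⟩ := exists_sub_kmap_mem k hres H1 M y
    refine ⟨t, ?_⟩
    symm
    rw [← sub_eq_zero]
    have : residue _ (y - kmap A k M t) = 0 := (residue_eq_zero_iff _).mpr ht
    rw [map_sub] at this
    exact this
  obtain ⟨ϖ, hϖ⟩ := IsDiscreteValuationRing.exists_irreducible
    (AdicCompletion (maximalIdeal (Localization.AtPrime M.asIdeal))
      (Localization.AtPrime M.asIdeal))
  obtain ⟨E, hE⟩ := Groth.Agent.S12630.result k
    (AdicCompletion (maximalIdeal (Localization.AtPrime M.asIdeal))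
      (Localization.AtPrime M.asIdeal)) hK ϖ hϖ.maximalIdeal_eq
  refine ⟨E.toRingEquiv, fun c => ?_, ?_⟩
  · show E (PowerSeries.C c) = kmap A k M c
    have : PowerSeries.C c = algebraMap k (PowerSeries k) c := rfl
    rw [this, E.commutes]
    rfl
  · show E PowerSeries.X ∈ _
    rw [hE, hϖ.maximalIdeal_eq]
    exact Ideal.mem_span_singleton_self ϖ

end E

end Groth.Agent.Helper2.Multi
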