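import Mathlib
import Groth.Prelude
import Groth.Agent.Helper6.BranchDelta

/-!
# Counting lemmas for the wedge-of-DVRs statement (S12463)
-/

set_option autoImplicit false
set_option linter.style.haveILetI false
universe u v w

namespace Groth.Agent.Helper2.Wedge

open Groth.Agent.Helper6.BranchDelta
open scoped Function

section Count

variable {A : Type u} [CommRing A] {Ω : Type w} [Field Ω] [Module A Ω] [IsScalarTower A Ω Ω]

/-- If `Q` has length `n` and carries `n` linearly independent functionals with values in a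
field, the functionals are jointly injective. -/
theorem eq_zero_of_forall_apply_eq_zero (n : ℕ) (Q : Type v) [AddCommGroup Q] [Module A Q]
    (φ : Fin n → (Q →ₗ[A] Ω)) (hφ : LinearIndependent Ω φ) (hlen : Module.length A Q = n)
    (q : Q) (hq : ∀ i, φ i q = 0) : q = 0 := by
  set K : Submodule A Q := ⨅ i, LinearMap.ker (φ i) with hK
  have hKle : ∀ i, K ≤ LinearMap.ker (φ i) := fun i => iInf_le _ i
  let φ' : Fin n → ((Q ⧸ K) →ₗ[A] Ω) := fun i => K.liftQ (φ i) (hKle i)
  have hφ' : LinearIndependent Ω φ' := by
    rw [Fintype.linearIndependent_iff] at hφ ⊢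
    intro g hg
    apply hφ g
    ext x
    have := congrArg (fun f : (Q ⧸ K) →ₗ[A] Ω => f (K.mkQ x)) hg
    simpa [φ'] using this
  have h1 : (n : ℕ∞) ≤ Module.length A (Q ⧸ K) := le_length_of_linearIndependent n _ φ' hφ'
  have h2 : Module.length A Q = Module.length A K + Module.length A (Q ⧸ K) :=
    Module.length_eq_add_of_exact K.subtype K.mkQ K.injective_subtype K.mkQ_surjective
      (LinearMap.exact_subtype_mkQ K)
  have h3 : Module.length A K = 0 := by
    rw [hlen] at h2
    have hb : Module.length A (Q ⧸ K) = n := le_antisymm (h2 ▸ le_add_self) h1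
    rw [hb] at h2
    have h4 : (0 : ℕ∞) + n = Module.length A K + n := by rw [zero_add]; exact h2
    exact ((ENat.add_left_injective_of_ne_top (ENat.natCast_ne_top n)) h4).symm
  have h4 : Subsingleton K := Module.length_eq_zero_iff.mp h3
  have hqK : q ∈ K := by
    rw [hK, Submodule.mem_iInf]
    intro i
    exact hq i
  have := Subsingleton.elim (⟨q, hqK⟩ : K) 0
  exact congrArg Subtype.val this

end Count

section Chars

variable {A : Type u} [CommRing A] {C : Type v} [CommRing C] [Algebra A C] {Ω : Type w} [Field Ω]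

/-- If `C/A` has length `n` and there are `n+1` distinct ring homomorphisms `C → Ω` extending a
fixed `ι : A → Ω`, then an element of `C` on which they all agree lies in the image of `A`. -/
theorem mem_range_of_forall_eq (ι : A →+* Ω) (n : ℕ) (τ : Fin (n + 1) → (C →+* Ω))
    (hτ : Function.Injective τ) (hι : ∀ i, (τ i).comp (algebraMap A C) = ι)
    (hlen : Module.length A (C ⧸ LinearMap.range (Algebra.linearMap A C)) = n)
    (c : C) (hc : ∀ i, τ i c = τ 0 c) : c ∈ LinearMap.range (Algebra.linearMap A C) := by
  letI : Module A Ω := Module.compHom Ω ι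
  have hsmul : ∀ (a : A) (x : Ω), a • x = ι a * x := fun _ _ => rfl
  haveI : IsScalarTower A Ω Ω := ⟨fun a x y => by
    rw [hsmul, hsmul, smul_eq_mul, smul_eq_mul, mul_assoc]⟩
  have hτa : ∀ i (a : A), τ i (algebraMap A C a) = ι a := fun i a => by
    rw [← hι i]; rfl
  let D : Fin n → (C →ₗ[A] Ω) := fun i =>
    { toFun := fun c => τ i.succ c - τ 0 c
      map_add' := fun c c' => by rw [map_add, map_add]; ring
      map_smul' := fun a c => by
        rw [Algebra.smul_def, map_mul, map_mul, hτa, hτa, RingHom.id_apply, hsmul]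
        ring }
  have hD : ∀ i, LinearMap.range (Algebra.linearMap A C) ≤ LinearMap.ker (D i) := by
    rintro i _ ⟨a, rfl⟩
    rw [LinearMap.mem_ker]
    show τ i.succ (algebraMap A C a) - τ 0 (algebraMap A C a) = 0
    rw [hτa, hτa, sub_self]
  let φ : Fin n → ((C ⧸ LinearMap.range (Algebra.linearMap A C)) →ₗ[A] Ω) :=
    fun i => (LinearMap.range (Algebra.linearMap A C)).liftQ (D i) (hD i)
  have hφ : LinearIndependent Ω φ := by
    rw [Fintype.linearIndependent_iff]
    intro g hg i
    have hinj : Function.Injective (fun j : Fin (n + 1) => ((τ j : C →+* Ω) : C →* Ω)) := by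
      intro j j' h
      apply hτ
      apply RingHom.ext
      intro c
      exact congrArg (fun f : C →* Ω => f c) h
    have hchar := (linearIndependent_monoidHom C Ω).comp _ hinj
    rw [Fintype.linearIndependent_iff] at hchar
    have key := hchar (Fin.cons (-∑ j, g j) g) ?_ i.succ
    · simpa using key
    · funext c
      have hgc := congrArg (fun f : (C ⧸ LinearMap.range (Algebra.linearMap A C)) →ₗ[A] Ω =>
        f ((LinearMap.range (Algebra.linearMap A C)).mkQ c)) hg
      simp only [LinearMap.sum_apply, LinearMap.smul_apply, LinearMap.zero_apply, φ,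
        Submodule.mkQ_apply, Submodule.liftQ_apply, smul_eq_mul] at hgc
      have hgc' : ∑ j, g j * (τ j.succ c - τ 0 c) = 0 := hgc
      simp only [mul_sub, Finset.sum_sub_distrib] at hgc'
      rw [Fin.sum_univ_succ]
      simp only [Fin.cons_zero, Fin.cons_succ, Function.comp_apply, Finset.sum_apply, Pi.add_apply,
        Pi.smul_apply, smul_eq_mul, Pi.zero_apply, MonoidHom.coe_coe, neg_mul, Finset.sum_mul]
      linear_combination hgc'
  have hz := eq_zero_of_forall_apply_eq_zero n _ φ hφ hlen
    ((LinearMap.range (Algebra.linearMap A C)).mkQ c) (fun i => by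
      show τ i.succ c - τ 0 c = 0
      rw [hc, sub_self])
  exact (Submodule.Quotient.mk_eq_zero _).mp hz

end Chars

section CRT

variable {A : Type u} [CommRing A] {C : Type v} [CommRing C] [Algebra A C]

/-- The sum of the lengths of the `C ⧸ n i`, for pairwise coprime ideals `n i` of `C` lying
over a maximal ideal `m` of `A`, is at most `length (C/A) + 1`. -/
theorem sum_length_le (m : Ideal A) [m.IsMaximal] {ι : Type w} [Fintype ι] (n : ι → Ideal C)
    (hcop : Pairwise (IsCoprime on n)) (hm : ∀ i, m ≤ (n i).comap (algebraMap A C)) :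
    ∑ i, Module.length A (C ⧸ n i) ≤
      Module.length A (C ⧸ LinearMap.range (Algebra.linearMap A C)) + 1 := by
  classical
  let g : C →ₗ[A] (Π i, C ⧸ n i) :=
    LinearMap.pi (fun i => (Ideal.Quotient.mkₐ A (n i)).toLinearMap)
  have hg : Function.Surjective g := by
    intro x
    obtain ⟨r, hr⟩ := Ideal.pi_quotient_surjective hcop x
    exact ⟨r, funext hr⟩
  let h : A →ₗ[A] (Π i, C ⧸ n i) := g.comp (Algebra.linearMap A C)
  have hker : (m : Submodule A A) ≤ LinearMap.ker h := by
    intro a ha
    rw [LinearMap.mem_ker]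
    funext i
    show Ideal.Quotient.mk (n i) (algebraMap A C a) = 0
    exact Ideal.Quotient.eq_zero_iff_mem.mpr (hm i ha)
  let h' : (A ⧸ m) →ₗ[A] (Π i, C ⧸ n i) := Submodule.liftQ m h hker
  set R' : Submodule A (Π i, C ⧸ n i) := LinearMap.range h' with hR'
  have e1 : Module.length A (Π i, C ⧸ n i) = Module.length A R' + Module.length A ((Π i, C ⧸ n i) ⧸ R') :=
    Module.length_eq_add_of_exact R'.subtype R'.mkQ R'.injective_subtype R'.mkQ_surjective
      (LinearMap.exact_subtype_mkQ R')
  have e2 : Module.length A R' ≤ 1 := by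
    haveI : IsSimpleModule A (A ⧸ m) := by
      rw [isSimpleModule_iff_quot_maximal]
      exact ⟨m, inferInstance, ⟨LinearEquiv.refl _ _⟩⟩
    have := Module.length_le_of_surjective h'.rangeRestrict h'.surjective_rangeRestrict
    rwa [Module.length_eq_one A (A ⧸ m)] at this
  have hle : LinearMap.range (Algebra.linearMap A C) ≤ R'.comap g := by
    rintro _ ⟨a, rfl⟩
    rw [Submodule.mem_comap, hR', Submodule.range_liftQ]
    exact ⟨a, rfl⟩
  have e3 : Module.length A ((Π i, C ⧸ n i) ⧸ R') ≤
      Module.length A (C ⧸ LinearMap.range (Algebra.linearMap A C)) := by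
    apply Module.length_le_of_surjective (Submodule.mapQ _ _ g hle)
    intro y
    obtain ⟨y, rfl⟩ := Submodule.Quotient.mk_surjective _ y
    obtain ⟨c, rfl⟩ := hg y
    exact ⟨Submodule.Quotient.mk c, rfl⟩
  rw [← Module.length_pi_of_fintype, e1, add_comm]
  exact add_le_add e3 e2

/-- Counting: at most `d + 1` maximal ideals, and in case of equality all residue fields
are images of `A`. -/
theorem card_le_and_surjective (m : Ideal A) [m.IsMaximal] (d : ℕ)
    (hlen : Module.length A (C ⧸ LinearMap.range (Algebra.linearMap A C)) = d)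
    {ι : Type w} [Fintype ι] (n : ι → Ideal C) (hn : ∀ i, (n i).IsMaximal)
    (hinj : Function.Injective n) (hm : ∀ i, m ≤ (n i).comap (algebraMap A C)) :
    Fintype.card ι ≤ d + 1 ∧
      (Fintype.card ι = d + 1 → ∀ i (c : C), ∃ a : A, c - algebraMap A C a ∈ n i) := by
  classical
  have hcop : Pairwise (IsCoprime on n) := by
    intro i j hij
    show IsCoprime (n i) (n j)
    rw [Ideal.isCoprime_iff_sup_eq]
    exact Ideal.IsMaximal.coprime_of_ne (hn i) (hn j) (fun h => hij (hinj h))
  have hsum := sum_length_le m n hcop hm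
  rw [hlen] at hsum
  have hone : ∀ i, (1 : ℕ∞) ≤ Module.length A (C ⧸ n i) := by
    intro i
    haveI : Nontrivial (C ⧸ n i) := Ideal.Quotient.nontrivial_iff.mpr (hn i).ne_top
    exact Order.one_le_iff_pos.mpr Module.length_pos
  constructor
  · have h1 : ((Fintype.card ι : ℕ) : ℕ∞) ≤ ∑ i, Module.length A (C ⧸ n i) := by
      calc ((Fintype.card ι : ℕ) : ℕ∞) = ∑ _i : ι, (1 : ℕ∞) := by simp
        _ ≤ _ := Finset.sum_le_sum (fun i _ => hone i)
    have := h1.trans hsum
    exact_mod_cast this
  · intro hcard j c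
    have h1 : Module.length A (C ⧸ n j) + d ≤ (d : ℕ∞) + 1 := by
      calc Module.length A (C ⧸ n j) + d
          = Module.length A (C ⧸ n j) + ∑ _i ∈ Finset.univ.erase j, (1 : ℕ∞) := by
            simp [Finset.card_erase_of_mem, hcard]
        _ ≤ Module.length A (C ⧸ n j) + ∑ i ∈ Finset.univ.erase j, Module.length A (C ⧸ n i) :=
            add_le_add le_rfl (Finset.sum_le_sum (fun i _ => hone i))
        _ = ∑ i, Module.length A (C ⧸ n i) := Finset.add_sum_erase Finset.univ (fun i => Module.length A (C ⧸ n i)) (Finset.mem_univ j)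
        _ ≤ _ := hsum
    have h2 : Module.length A (C ⧸ n j) ≤ 1 := by
      rw [add_comm] at h1
      exact (ENat.add_le_add_iff_left (ENat.natCast_ne_top d)).mp h1
    have h3 : Module.length A (C ⧸ n j) = 1 := le_antisymm h2 (hone j)
    haveI : IsSimpleModule A (C ⧸ n j) := Module.length_eq_one_iff.mp h3
    let f : A →ₗ[A] (C ⧸ n j) := (Ideal.Quotient.mkₐ A (n j)).toLinearMap.comp (Algebra.linearMap A C)
    have hf : LinearMap.range f = ⊤ := by
      rcases eq_bot_or_eq_top (LinearMap.range f) with h | h
      · exfalso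
        haveI : Nontrivial (C ⧸ n j) := Ideal.Quotient.nontrivial_iff.mpr (hn j).ne_top
        have h1' : (1 : C ⧸ n j) ∈ LinearMap.range f := ⟨1, by simp [f]⟩
        rw [h] at h1'
        exact one_ne_zero ((Submodule.mem_bot A).mp h1')
      · exact h
    have hc : Ideal.Quotient.mk (n j) c ∈ LinearMap.range f := by rw [hf]; trivial
    obtain ⟨a, ha⟩ := hc
    refine ⟨a, ?_⟩
    have ha' : Ideal.Quotient.mk (n j) (algebraMap A C a) = Ideal.Quotient.mk (n j) c := ha
    rw [← Ideal.Quotient.eq_zero_iff_mem, map_sub, ha', sub_self]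

end CRT

end Groth.Agent.Helper2.Wedge
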