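import Mathlib
import Groth.Prelude
import Groth.Agent.Helper2.WedgeA
import Groth.Agent.Helper2.BrnchD
import Groth.Agent.S7652

/-!
# A strictly henselian reduced Nagata local ring of dimension one with `δ + 1` geometric
branches is a wedge of DVRs (S12463)
-/

set_option autoImplicit false
set_option linter.style.haveILetI false
set_option linter.unusedSectionVars false
universe u

namespace Groth.Agent.Helper2.Wedge

open IsLocalRing Groth.Agent.Helper6.BranchDelta

/-- the integral closure of `A` in its total ring of fractions -/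
abbrev IC (A : Type u) [CommRing A] : Type u := ↥(integralClosure A (FractionRing A))

section DVR

variable (A : Type u) [CommRing A] [IsLocalRing A] [IsReduced A]

theorem exists_nzd_mem_maximalIdeal [IsNoetherianRing A] (hdim : ringKrullDim A = 1) :
    ∃ t ∈ maximalIdeal A, t ∈ nonZeroDivisors A := by
  classical
  have hfin := minimalPrimes.finite_of_isNoetherianRing A
  have hnot : ¬ ((maximalIdeal A : Set A) ⊆
      ⋃ p ∈ (hfin.toFinset : Set (Ideal A)), (p : Set A)) := by
    intro hsub
    obtain ⟨p, hp, hle⟩ := (Ideal.subset_union_prime (s := hfin.toFinset) (f := fun p => p) ⊥ ⊥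
      (fun p hp _ _ => ((hfin.mem_toFinset).mp hp).1.1)).mp hsub
    have hpmin : p ∈ minimalPrimes A := (hfin.mem_toFinset).mp hp
    have hpp : p.IsPrime := hpmin.1.1
    have hpe : maximalIdeal A = p := (maximalIdeal.isMaximal A).eq_of_le hpp.ne_top hle
    have h0 : (maximalIdeal A).height = 0 := Ideal.height_eq_zero_iff.mpr (hpe ▸ hpmin)
    have h1 := IsLocalRing.maximalIdeal_height_eq_ringKrullDim (R := A)
    rw [h0, hdim] at h1
    exact absurd h1 (by norm_num)
  obtain ⟨t, htm, ht⟩ := Set.not_subset.mp hnot
  refine ⟨t, htm, ?_⟩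
  have htmin : ∀ p ∈ minimalPrimes A, t ∉ p := by
    intro p hp htp
    apply ht
    exact Set.mem_biUnion (show p ∈ (hfin.toFinset : Set (Ideal A)) from
      Finset.mem_coe.mpr ((hfin.mem_toFinset).mpr hp)) htp
  rw [mem_nonZeroDivisors_iff_right]
  intro w hw
  have hwnil : w ∈ nilradical A := by
    rw [nilradical, ← Ideal.sInf_minimalPrimes]
    refine Submodule.mem_sInf.mpr fun (p : Ideal A) hp => ?_
    have hpp : p.IsPrime := hp.1.1
    have : w * t ∈ p := hw ▸ p.zero_mem
    exact (hpp.mem_or_mem this).resolve_right (htmin p hp)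
  rw [nilradical_eq_zero] at hwnil
  simpa using hwnil

theorem comap_eq_maximalIdeal (M : Ideal (IC A)) [M.IsMaximal] :
    M.comap (algebraMap A (IC A)) = maximalIdeal A :=
  IsLocalRing.eq_maximalIdeal (Ideal.isMaximal_comap_of_isIntegral_of_isMaximal M)

theorem isDVR_localization (hN : CAlg.IsNagata A) (hdim : ringKrullDim A = 1)
    (m' : MaximalSpectrum (IC A)) :
    ∃ _ : IsDomain (Localization.AtPrime m'.asIdeal),
      IsDiscreteValuationRing (Localization.AtPrime m'.asIdeal) := by
  haveI : IsNoetherianRing A := hN.1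
  obtain ⟨hfin, hnor, -⟩ := Groth.Agent.S7652.result A hN hdim
  haveI := hfin
  haveI : m'.asIdeal.IsMaximal := m'.isMaximal
  obtain ⟨hdom, hic⟩ := hnor ⟨m'.asIdeal, inferInstance⟩
  haveI := hdom
  haveI := hic
  haveI : IsNoetherianRing (IC A) := Algebra.FiniteType.isNoetherianRing A (IC A)
  haveI : IsNoetherianRing (Localization.AtPrime m'.asIdeal) :=
    IsLocalization.isNoetherianRing m'.asIdeal.primeCompl _ inferInstance
  refine ⟨hdom, ?_⟩
  have hdimC : ringKrullDim (IC A) ≤ 1 := by
    rw [← hdim]
    apply Order.krullDim_le_of_strictMono (PrimeSpectrum.comap (algebraMap A (IC A)))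
    intro P Q hPQ
    exact Ideal.IsIntegral.comap_lt_comap (R := A) (show P.asIdeal < Q.asIdeal from hPQ)
  have hdimL : ringKrullDim (Localization.AtPrime m'.asIdeal) ≤ 1 := by
    rw [IsLocalization.AtPrime.ringKrullDim_eq_height m'.asIdeal (Localization.AtPrime m'.asIdeal)]
    exact Ideal.height_le_ringKrullDim_of_isPrime.trans hdimC
  haveI : Ring.KrullDimLE 1 (Localization.AtPrime m'.asIdeal) := Ring.krullDimLE_iff.mpr hdimL
  have hnf : ¬ IsField (Localization.AtPrime m'.asIdeal) := by
    intro hF
    obtain ⟨t, htm, htn⟩ := exists_nzd_mem_maximalIdeal A hdim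
    have h0 : maximalIdeal (Localization.AtPrime m'.asIdeal) = ⊥ :=
      IsLocalRing.isField_iff_maximalIdeal_eq.mp hF
    have htm' : algebraMap A (IC A) t ∈ m'.asIdeal := by
      rw [← comap_eq_maximalIdeal A m'.asIdeal] at htm
      exact htm
    have h1 : algebraMap (IC A) (Localization.AtPrime m'.asIdeal) (algebraMap A (IC A) t) = 0 := by
      have := (IsLocalization.AtPrime.to_map_mem_maximal_iff (Localization.AtPrime m'.asIdeal)
        m'.asIdeal (algebraMap A (IC A) t)).mpr htm'
      rw [h0] at this
      exact this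
    obtain ⟨s, hs⟩ := (IsLocalization.map_eq_zero_iff m'.asIdeal.primeCompl _ _).mp h1
    have hunit : IsUnit (algebraMap A (FractionRing A) t) :=
      IsLocalization.map_units (FractionRing A) (⟨t, htn⟩ : nonZeroDivisors A)
    have hs0 : (s : IC A) = 0 := by
      apply Subtype.ext
      have h2 : ((s : IC A) : FractionRing A) * algebraMap A (FractionRing A) t = 0 := by
        have := congrArg Subtype.val hs
        simpa using this
      exact (hunit.mul_left_eq_zero).mp h2
    exact s.2 (hs0 ▸ m'.asIdeal.zero_mem)
  have hiff := (IsDiscreteValuationRing.TFAE (Localization.AtPrime m'.asIdeal) hnf).out 0 3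
  refine hiff.mpr ⟨hic, maximalIdeal _, ⟨?_, ?_⟩, ?_⟩
  · intro h
    exact hnf (IsLocalRing.isField_iff_maximalIdeal_eq.mpr h)
  · exact (maximalIdeal.isMaximal _).isPrime
  · rintro P ⟨hP0, hPp⟩
    exact IsLocalRing.eq_maximalIdeal (hPp.isMaximal_of_ne_bot hP0)

end DVR

section Main

variable (A : Type u) [CommRing A] [IsLocalRing A] [IsSepClosed (ResidueField A)] [IsReduced A]

theorem ker_toClosure : RingHom.ker (Brnch.toClosure A) = maximalIdeal A := by
  unfold Brnch.toClosure
  rw [RingHom.ker_comp_of_injective _ (RingHom.injective _), IsLocalRing.ker_residue]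

theorem main (hN : CAlg.IsNagata A) (hdim : ringKrullDim A = 1)
    (heq : Curv2.deltaInv A + 1 = Brnch.numGeomBranches A) :
    (∀ (m' : MaximalSpectrum (IC A)) (c : IC A),
        ∃ a : A, c - algebraMap A (IC A) a ∈ m'.asIdeal) ∧
    ∀ a' : IC A,
      (∃ a : A, ∀ m' : MaximalSpectrum (IC A), a' - algebraMap A (IC A) a ∈ m'.asIdeal) →
      a' ∈ (algebraMap A (IC A)).range := by
  classical
  haveI : IsNoetherianRing A := hN.1
  obtain ⟨hfin, -, hlt⟩ := Groth.Agent.S7652.result A hN hdim
  haveI := hfin
  obtain ⟨d, hd⟩ := ENat.ne_top_iff_exists.mp hlt.ne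
  have hfinmin : (minimalPrimes A).Finite := minimalPrimes.finite_of_isNoetherianRing A
  have hnum : Brnch.numGeomBranches A
      = ENat.card (Σ m' : MaximalSpectrum (CAlg2.normRed A), Brnch.Emb A m') := by
    unfold Brnch.numGeomBranches
    exact if_pos hfinmin
  rw [hnum, ← hd] at heq
  have hcard : ENat.card (Σ m' : MaximalSpectrum (CAlg2.normRed A), Brnch.Emb A m')
      = ((d + 1 : ℕ) : ℕ∞) := by
    rw [← heq]; push_cast; rfl
  haveI : Finite (Σ m' : MaximalSpectrum (CAlg2.normRed A), Brnch.Emb A m') := by
    rw [← ENat.card_lt_top, hcard]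
    exact ENat.natCast_lt_top _
  have hnat : Nat.card (Σ m' : MaximalSpectrum (CAlg2.normRed A), Brnch.Emb A m') = d + 1 := by
    rw [ENat.card_eq_coe_natCard] at hcard
    exact_mod_cast hcard
  let f : Fin (d + 1) ≃ (Σ m' : MaximalSpectrum (CAlg2.normRed A), Brnch.Emb A m') :=
    (Finite.equivFinOfCardEq hnat).symm
  let τ : Fin (d + 1) → (IC A →+* AlgebraicClosure (ResidueField A)) :=
    fun i => branchHom A (f i)
  have hτinj : Function.Injective τ := (branchHom_injective A).comp f.injective
  have hτι : ∀ i, (τ i).comp (algebraMap A (IC A)) = Brnch.toClosure A :=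
    fun i => branchHom_comp A (f i)
  have hlen : Module.length A (IC A ⧸ LinearMap.range (Algebra.linearMap A (IC A))) = d :=
    hd.symm
  have hkerι := ker_toClosure A
  have hkcomap : ∀ i, (RingHom.ker (τ i)).comap (algebraMap A (IC A)) = maximalIdeal A := by
    intro i
    rw [RingHom.comap_ker, hτι i, hkerι]
  have hkmax : ∀ i, (RingHom.ker (τ i)).IsMaximal := by
    intro i
    haveI : (RingHom.ker (τ i)).IsPrime := RingHom.ker_isPrime (τ i)
    apply Ideal.isMaximal_of_isIntegral_of_isMaximal_comap (R := A) (RingHom.ker (τ i))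
    rw [hkcomap i]
    exact maximalIdeal.isMaximal A
  have hkinj : Function.Injective (fun i => RingHom.ker (τ i)) := by
    intro i j hij
    apply hτinj
    exact Groth.Agent.Helper2.Brnch.eq_of_ker_eq (S := A) (τ i) (τ j)
      ((hτι i).trans (hτι j).symm) (by rw [hτι i]; exact hkerι) hij
  constructor
  · intro m' c
    haveI : m'.asIdeal.IsMaximal := m'.isMaximal
    have h1 := card_le_and_surjective (maximalIdeal A) d hlen (fun i => RingHom.ker (τ i))
      hkmax hkinj (fun i => (hkcomap i).ge)
    have hex : ∃ j, RingHom.ker (τ j) = m'.asIdeal := by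
      by_contra hne
      push Not at hne
      let n₂ : Option (Fin (d + 1)) → Ideal (IC A) := fun o => o.elim m'.asIdeal (fun i => RingHom.ker (τ i))
      have h2 := card_le_and_surjective (maximalIdeal A) d hlen n₂
        (by
          intro o
          cases o with
          | none => exact m'.isMaximal
          | some i => exact hkmax i)
        (by
          intro o o' h
          cases o with
          | none =>
            cases o' with
            | none => rfl
            | some j => exact absurd h.symm (hne j)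
          | some i =>
            cases o' with
            | none => exact absurd h (hne i)
            | some j => exact congrArg some (hkinj h))
        (by
          intro o
          cases o with
          | none => exact (comap_eq_maximalIdeal A m'.asIdeal).ge
          | some i => exact (hkcomap i).ge)
      have := h2.1
      simp at this
    obtain ⟨j, hj⟩ := hex
    obtain ⟨a, ha⟩ := h1.2 (by simp) j c
    exact ⟨a, hj ▸ ha⟩
  · rintro a' ⟨a, ha⟩
    have hval : ∀ i, τ i a' = Brnch.toClosure A a := by
      intro i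
      have h1 : a' - algebraMap A (IC A) a ∈ RingHom.ker (τ i) :=
        ha ⟨RingHom.ker (τ i), hkmax i⟩
      rw [RingHom.mem_ker, map_sub, sub_eq_zero] at h1
      rw [h1, ← hτι i]
      rfl
    have hmem := mem_range_of_forall_eq (Brnch.toClosure A) d τ hτinj hτι hlen a'
      (fun i => by rw [hval i, hval 0])
    obtain ⟨a₀, ha₀⟩ := hmem
    exact ⟨a₀, ha₀⟩

theorem final (hN : CAlg.IsNagata A) (hdim : ringKrullDim A = 1)
    (heq : Curv2.deltaInv A + 1 = Brnch.numGeomBranches A) :
    (∀ m' : MaximalSpectrum ↥(integralClosure A (FractionRing A)),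
        (∃ _ : IsDomain (Localization.AtPrime m'.asIdeal), IsDiscreteValuationRing (Localization.AtPrime m'.asIdeal)) ∧
        Function.Surjective (⇑(IsLocalRing.residue (Localization.AtPrime m'.asIdeal)) ∘
          ⇑(algebraMap ↥(integralClosure A (FractionRing A)) (Localization.AtPrime m'.asIdeal)) ∘
          ⇑(algebraMap A ↥(integralClosure A (FractionRing A))))) ∧
    ∀ a' : ↥(integralClosure A (FractionRing A)),
      (∃ a : A, ∀ m' : MaximalSpectrum ↥(integralClosure A (FractionRing A)),
          a' - algebraMap A _ a ∈ m'.asIdeal) →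
      a' ∈ (algebraMap A ↥(integralClosure A (FractionRing A))).range := by
  obtain ⟨h1, h2⟩ := main A hN hdim heq
  refine ⟨fun m' => ⟨isDVR_localization A hN hdim m', ?_⟩, h2⟩
  intro y
  haveI : m'.asIdeal.IsMaximal := m'.isMaximal
  obtain ⟨c, rfl⟩ := Ideal.algebraMap_residueField_surjective m'.asIdeal y
  obtain ⟨a, ha⟩ := h1 m' c
  refine ⟨a, ?_⟩
  have h3 : algebraMap (IC A) m'.asIdeal.ResidueField (c - algebraMap A (IC A) a) = 0 :=
    Ideal.algebraMap_residueField_eq_zero.mpr ha
  rw [map_sub, sub_eq_zero] at h3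
  rw [h3]
  rfl

end Main

end Groth.Agent.Helper2.Wedge
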