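import Mathlib
import Groth.Prelude
import Groth.Agent.Helper2.WedgeB

/-!
# Wedge of DVRs: version exporting the enumeration of the maximal ideals
-/

set_option autoImplicit false
set_option linter.style.haveILetI false
set_option linter.unusedSectionVars false
universe u

namespace Groth.Agent.Helper2.Wedge

open IsLocalRing Groth.Agent.Helper6.BranchDelta

section Main2

variable (A : Type u) [CommRing A] [IsLocalRing A] [IsSepClosed (ResidueField A)] [IsReduced A]

theorem main2 (hN : CAlg.IsNagata A) (hdim : ringKrullDim A = 1)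
    (heq : Curv2.deltaInv A + 1 = Brnch.numGeomBranches A) (d : ℕ) (hd' : Curv2.deltaInv A = d) :
    (∃ e : Fin (d + 1) → MaximalSpectrum (IC A), Function.Bijective e) ∧
    (∀ (m' : MaximalSpectrum (IC A)) (c : IC A),
        ∃ a : A, c - algebraMap A (IC A) a ∈ m'.asIdeal) ∧
    ∀ a' : IC A,
      (∃ a : A, ∀ m' : MaximalSpectrum (IC A), a' - algebraMap A (IC A) a ∈ m'.asIdeal) →
      a' ∈ (algebraMap A (IC A)).range := by
  classical
  haveI : IsNoetherianRing A := hN.1
  obtain ⟨hfin, -, hlt⟩ := Groth.Agent.S7652.result A hN hdim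
  haveI := hfin
  have hd : (d : ℕ∞) = Curv2.deltaInv A := hd'.symm
  have hfinmin : (minimalPrimes A).Finite := minimalPrimes.finite_of_isNoetherianRing A
  have hnum : Brnch.numGeomBranches A
      = ENat.card (Σ m' : MaximalSpectrum (CAlg2.normRed A), Brnch.Emb A m') := by
    unfold Brnch.numGeomBranches
    exact if_pos hfinmin
  rw [hnum, ← hd] at heq
  have hcard : ENat.card (Σ m' : MaximalSpectrum (CAlg2.normRed A), Brnch.Emb A m')
      = ((d + 1 : ℕ) : ℕ∞) := by
    rw [← heq]; push_cast; rfl
  haveI : Finite (Σ m' : MaximalSpectrum (CAlg2.normRed A), Brnch.Emb A m') := by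
    rw [← ENat.card_lt_top, hcard]
    exact ENat.natCast_lt_top _
  have hnat : Nat.card (Σ m' : MaximalSpectrum (CAlg2.normRed A), Brnch.Emb A m') = d + 1 := by
    rw [ENat.card_eq_coe_natCard] at hcard
    exact_mod_cast hcard
  let f : Fin (d + 1) ≃ (Σ m' : MaximalSpectrum (CAlg2.normRed A), Brnch.Emb A m') :=
    (Finite.equivFinOfCardEq hnat).symm
  let τ : Fin (d + 1) → (IC A →+* AlgebraicClosure (ResidueField A)) :=
    fun i => branchHom A (f i)
  have hτinj : Function.Injective τ := (branchHom_injective A).comp f.injective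
  have hτι : ∀ i, (τ i).comp (algebraMap A (IC A)) = Brnch.toClosure A :=
    fun i => branchHom_comp A (f i)
  have hlen : Module.length A (IC A ⧸ LinearMap.range (Algebra.linearMap A (IC A))) = d :=
    hd.symm
  have hkerι := ker_toClosure A
  have hkcomap : ∀ i, (RingHom.ker (τ i)).comap (algebraMap A (IC A)) = maximalIdeal A := by
    intro i
    rw [RingHom.comap_ker, hτι i, hkerι]
  have hkmax : ∀ i, (RingHom.ker (τ i)).IsMaximal := by
    intro i
    haveI : (RingHom.ker (τ i)).IsPrime := RingHom.ker_isPrime (τ i)
    apply Ideal.isMaximal_of_isIntegral_of_isMaximal_comap (R := A) (RingHom.ker (τ i))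
    rw [hkcomap i]
    exact maximalIdeal.isMaximal A
  have hkinj : Function.Injective (fun i => RingHom.ker (τ i)) := by
    intro i j hij
    apply hτinj
    exact Groth.Agent.Helper2.Brnch.eq_of_ker_eq (S := A) (τ i) (τ j)
      ((hτι i).trans (hτι j).symm) (by rw [hτι i]; exact hkerι) hij
  have h1 := card_le_and_surjective (maximalIdeal A) d hlen (fun i => RingHom.ker (τ i))
    hkmax hkinj (fun i => (hkcomap i).ge)
  have hexall : ∀ m' : MaximalSpectrum (IC A), ∃ j, RingHom.ker (τ j) = m'.asIdeal := by
    intro m'
    haveI : m'.asIdeal.IsMaximal := m'.isMaximal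
    by_contra hne
    push Not at hne
    let n₂ : Option (Fin (d + 1)) → Ideal (IC A) :=
      fun o => o.elim m'.asIdeal (fun i => RingHom.ker (τ i))
    have h2 := card_le_and_surjective (maximalIdeal A) d hlen n₂
      (by
        intro o
        cases o with
        | none => exact m'.isMaximal
        | some i => exact hkmax i)
      (by
        intro o o' h
        cases o with
        | none =>
          cases o' with
          | none => rfl
          | some j => exact absurd h.symm (hne j)
        | some i =>
          cases o' with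
          | none => exact absurd h (hne i)
          | some j => exact congrArg some (hkinj h))
      (by
        intro o
        cases o with
        | none => exact (comap_eq_maximalIdeal A m'.asIdeal).ge
        | some i => exact (hkcomap i).ge)
    have := h2.1
    simp at this
  refine ⟨⟨fun i => ⟨RingHom.ker (τ i), hkmax i⟩, ?_, ?_⟩, ?_, ?_⟩
  · intro i j hij
    exact hkinj (congrArg MaximalSpectrum.asIdeal hij)
  · intro m'
    obtain ⟨j, hj⟩ := hexall m'
    exact ⟨j, MaximalSpectrum.ext hj⟩
  · intro m' c
    obtain ⟨j, hj⟩ := hexall m'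
    obtain ⟨a, ha⟩ := h1.2 (by simp) j c
    exact ⟨a, hj ▸ ha⟩
  · rintro a' ⟨a, ha⟩
    have hval : ∀ i, τ i a' = Brnch.toClosure A a := by
      intro i
      have h1 : a' - algebraMap A (IC A) a ∈ RingHom.ker (τ i) :=
        ha ⟨RingHom.ker (τ i), hkmax i⟩
      rw [RingHom.mem_ker, map_sub, sub_eq_zero] at h1
      rw [h1, ← hτι i]
      rfl
    have hmem := mem_range_of_forall_eq (Brnch.toClosure A) d τ hτinj hτι hlen a'
      (fun i => by rw [hval i, hval 0])
    obtain ⟨a₀, ha₀⟩ := hmem
    exact ⟨a₀, ha₀⟩

end Main2

end Groth.Agent.Helper2.Wedge
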