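import Mathlib
import Groth.Prelude
import Groth.Agent.Helper2.MultiE
import Groth.Agent.Helper2.WedgeC
import Groth.Agent.Helper2.BrnchN

/-!
# S12218: the completion of a one-dimensional reduced Nagata local `k`-algebra with
`δ = n - 1` is the multicross ring
-/

set_option autoImplicit false
set_option linter.style.haveILetI false
set_option linter.unusedSectionVars false
universe u

namespace Groth.Agent.Helper2.Multi

open IsLocalRing AdicCompletion Groth.Agent.Helper2.Wedge

theorem isSepClosed_of_ringEquiv' {k k' : Type*} [Field k] [Field k'] (e : k ≃+* k')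
    [IsSepClosed k] : IsSepClosed k' := by
  refine ⟨fun p hp => ?_⟩
  have h1 : (p.map (e.symm : k' →+* k)).Separable := hp.map
  have h2 := IsSepClosed.splits_of_separable _ h1
  have h3 := h2.map (e : k →+* k')
  rw [Polynomial.map_map] at h3
  have h4 : ((e : k →+* k').comp (e.symm : k' →+* k)) = RingHom.id k' := by
    ext x; simp
  rwa [h4, Polynomial.map_id] at h3

theorem main (k : Type u) [Field k] [IsSepClosed k]
    (A : Type u) [CommRing A] [IsLocalRing A] [Algebra k A] [IsReduced A]
    (hdim : ringKrullDim A = 1) (hN : CAlg.IsNagata A)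
    (hres : Function.Bijective (algebraMap k (IsLocalRing.ResidueField A)))
    (n : ℕ) (hn : Brnch.numBranches A = n) (hδ : Curv2.deltaInv A + 1 = n) :
    ∃ φ : AdicCompletion (IsLocalRing.maximalIdeal A) A →+* (Fin n → PowerSeries k),
      Function.Injective φ ∧
      (∀ c : k, φ (algebraMap A (AdicCompletion (IsLocalRing.maximalIdeal A) A) (algebraMap k A c)) =
        fun _ => algebraMap k (PowerSeries k) c) ∧
      Set.range φ = {f : Fin n → PowerSeries k | ∀ i j : Fin n,
        PowerSeries.constantCoeff (f i) = PowerSeries.constantCoeff (f j)} := by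
  classical
  haveI : IsNoetherianRing A := hN.1
  haveI : IsSepClosed (ResidueField A) :=
    isSepClosed_of_ringEquiv' (RingEquiv.ofBijective (algebraMap k (ResidueField A)) hres)
  obtain ⟨hfin, -, hlt⟩ := Groth.Agent.S7652.result A hN hdim
  haveI := hfin
  obtain ⟨d, hd⟩ := ENat.ne_top_iff_exists.mp hlt.ne
  have hnd : n = d + 1 := by
    rw [← hd] at hδ
    exact_mod_cast hδ.symm
  subst hnd
  have heq : Curv2.deltaInv A + 1 = Brnch.numGeomBranches A := by
    rw [Groth.Agent.Helper2.Brnch.numGeomBranches_eq_numBranches, hn, hδ]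
  obtain ⟨⟨e, he⟩, H1, H2⟩ := main2 A hN hdim heq d hd.symm
  haveI : Finite (MaximalSpectrum (IC A)) := Finite.of_surjective e he.2
  haveI : IsNoetherianRing (IC A) := Algebra.FiniteType.isNoetherianRing A (IC A)
  have hinj : Function.Injective (algebraMap A (IC A)) := by
    intro a b hab
    have h1 : algebraMap A (FractionRing A) a = algebraMap A (FractionRing A) b :=
      congrArg Subtype.val hab
    exact IsLocalization.injective (FractionRing A) (le_refl (nonZeroDivisors A)) h1
  have hE := fun M : MaximalSpectrum (IC A) =>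
    exists_powerSeries_equiv (A := A) (C := IC A) k hres H1 M (isDVR_localization A hN hdim M)
  choose E hEC hEX using hE
  let ee : Fin (d + 1) ≃ MaximalSpectrum (IC A) := Equiv.ofBijective e he
  let φ : AdicCompletion (maximalIdeal A) A →+* (Fin (d + 1) → PowerSeries k) :=
    Pi.ringHom (fun i => ((E (ee i)).symm : _ →+* PowerSeries k).comp (lam (ee i)))
  have hφ : ∀ x i, φ x i = (E (ee i)).symm (lam (ee i) x) := fun _ _ => rfl
  refine ⟨φ, ?_, ?_, ?_⟩
  · rw [injective_iff_map_eq_zero]
    intro x hx
    apply lam_injective hinj H2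
    intro M
    have h1 : φ x (ee.symm M) = 0 := by rw [hx]; rfl
    rw [hφ, Equiv.apply_symm_apply] at h1
    exact (RingEquiv.map_eq_zero_iff _).mp h1
  · intro c
    funext i
    rw [hφ, lam_algebraMap, ← kmap_apply, ← hEC, RingEquiv.symm_apply_apply]
    rfl
  · ext f
    simp only [Set.mem_range, Set.mem_setOf_eq]
    constructor
    · rintro ⟨x, rfl⟩ i j
      obtain ⟨c₀, hc₀⟩ := exists_lam_sub_mem (C := IC A) x
      obtain ⟨t, ht⟩ := exists_sub_mem_maximalIdeal k hres c₀
      have key : ∀ M : MaximalSpectrum (IC A),
          PowerSeries.constantCoeff ((E M).symm (lam M x)) = t := by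
        intro M
        rw [← sub_mem_iff_constantCoeff (E M) (kmap A k M) (hEC M) (hEX M)]
        exact sub_kmap_mem k M (lam M x) c₀ t (hc₀ M) ht
      rw [hφ, hφ, key, key]
    · intro hf
      set t := PowerSeries.constantCoeff (f 0) with ht
      let y : ∀ M : MaximalSpectrum (IC A),
          AdicCompletion (maximalIdeal (Localization.AtPrime M.asIdeal))
            (Localization.AtPrime M.asIdeal) := fun M => E M (f (ee.symm M))
      have hy : ∀ M : MaximalSpectrum (IC A),
          y M - kmap A k M t ∈
            maximalIdeal (AdicCompletion (maximalIdeal (Localization.AtPrime M.asIdeal))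
              (Localization.AtPrime M.asIdeal)) := by
        intro M
        rw [sub_mem_iff_constantCoeff (E M) (kmap A k M) (hEC M) (hEX M)]
        show PowerSeries.constantCoeff ((E M).symm (E M (f (ee.symm M)))) = t
        rw [RingEquiv.symm_apply_apply, ht]
        exact hf _ _
      obtain ⟨x, hx⟩ := exists_lam_eq hinj H2 y (algebraMap k A t)
        (fun M => by rw [← kmap_apply]; exact hy M)
      refine ⟨x, ?_⟩
      funext i
      rw [hφ, hx]
      show (E (ee i)).symm (E (ee i) (f (ee.symm (ee i)))) = f i
      rw [RingEquiv.symm_apply_apply, Equiv.symm_apply_apply]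

end Groth.Agent.Helper2.Multi
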