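import Mathlib
import Groth.Prelude
import Groth.Agent.Helper2.PrimDecE
import Groth.Agent.S0020

set_option autoImplicit false
set_option linter.unusedVariables false
open CategoryTheory CategoryTheory.Limits AlgebraicGeometry TopologicalSpace Topology Opposite
open IsLocalRing Submodule
universe u

namespace Groth.Agent.Helper2.NDense

open Groth.Agent.Helper4 Groth.Agent.Helper4.StalkDict

variable {X : Scheme.{u}}

/-- the minimal associated points of a module (the generic points of its support). -/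
def MinAss (F : X.Modules) : Set X :=
  {x | Curv2.IsAssPoint F x ∧ ∀ y, Curv2.IsAssPoint F y → y ⤳ x → y = x}

theorem minAss_iff (F : X.Modules) [F.IsQuasicoherent] (x : X) :
    x ∈ MinAss F ↔ (Nontrivial (F.presheaf.stalk x) ∧
      ∀ y : X, Nontrivial (F.presheaf.stalk y) → y ⤳ x → y = x) :=
  AssMax2.maximal_ass_iff F x

/-- every point of the support is a specialization of a minimal associated point. -/
theorem exists_minAss_specializes [IsLocallyNoetherian X] (F : X.Modules) (hF : Coh.IsCoh F)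
    (y : X) (hy : Nontrivial (F.presheaf.stalk y)) : ∃ x ∈ MinAss F, x ⤳ y := by
  haveI := hF.1
  obtain ⟨_, ⟨U, hU : IsAffineOpen U, rfl⟩, hyU, -⟩ :=
    X.isBasis_affineOpens.exists_subset_of_mem_open (Set.mem_univ y) isOpen_univ
  have hfin : {z : X | z ∈ U ∧ Curv2.IsAssPoint F z}.Finite :=
    AssFin.finite_assPoints_affine F hF.1 hF.2 hU
  have hfin2 : {z : X | (z ∈ U ∧ Curv2.IsAssPoint F z) ∧ z ⤳ y}.Finite :=
    hfin.subset (fun z hz => hz.1)
  obtain ⟨z0, hz0, hz0y⟩ := AssMax2.exists_isAssPoint_specializes F y hy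
  have hne : hfin2.toFinset.Nonempty :=
    ⟨z0, by rw [Set.Finite.mem_toFinset]; exact ⟨⟨hz0y.mem_open U.2 hyU, hz0⟩, hz0y⟩⟩
  letI := specializationPreorder X
  obtain ⟨m, hm, hmax⟩ := hfin2.toFinset.exists_maximal hne
  rw [Set.Finite.mem_toFinset] at hm
  refine ⟨m, ⟨hm.1.2, fun z hz hzm => ?_⟩, hm.2⟩
  have hzy : z ⤳ y := hzm.trans hm.2
  have hzmem : z ∈ hfin2.toFinset := by
    rw [Set.Finite.mem_toFinset]
    exact ⟨⟨hzy.mem_open U.2 hyU, hz⟩, hzy⟩
  have hle : z ≤ m := hmax hzmem hzm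
  exact (hzm.antisymm hle).eq


/-- the minimal associated points in an affine open are finite in number. -/
theorem finite_minAss_affine [IsLocallyNoetherian X] (F : X.Modules) (hF : Coh.IsCoh F)
    {U : X.Opens} (hU : IsAffineOpen U) : {z : X | z ∈ U ∧ z ∈ MinAss F}.Finite :=
  (AssFin.finite_assPoints_affine F hF.1 hF.2 hU).subset (fun z hz => ⟨hz.1, hz.2.1⟩)

/-- a minimal associated point has an open neighbourhood meeting the support only in its
closure. -/
theorem exists_open_nhds_minAss [IsLocallyNoetherian X] (F : X.Modules) (hF : Coh.IsCoh F)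
    (x : X) (hx : x ∈ MinAss F) :
    ∃ U : X.Opens, x ∈ U ∧ ∀ y ∈ U, Nontrivial (F.presheaf.stalk y) → x ⤳ y := by
  obtain ⟨_, ⟨U0, hU0 : IsAffineOpen U0, rfl⟩, hxU0, -⟩ :=
    X.isBasis_affineOpens.exists_subset_of_mem_open (Set.mem_univ x) isOpen_univ
  have hfin := finite_minAss_affine F hF hU0
  let S : Set X := {z : X | (z ∈ U0 ∧ z ∈ MinAss F) ∧ z ≠ x}
  have hSfin : S.Finite := hfin.subset (fun z hz => hz.1)
  let C : Set X := ⋃ z ∈ S, closure {z}
  have hC : IsClosed C := hSfin.isClosed_biUnion (fun z _ => isClosed_closure)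
  refine ⟨U0 ⊓ ⟨Cᶜ, hC.isOpen_compl⟩, ⟨hxU0, ?_⟩, ?_⟩
  · show x ∉ C
    intro hxC
    simp only [C, Set.mem_iUnion] at hxC
    obtain ⟨z, hz, hxz⟩ := hxC
    have hzx : z ⤳ x := specializes_iff_mem_closure.2 hxz
    exact hz.2 (hx.2 z hz.1.2.1 hzx)
  · rintro y ⟨hyU0, hyC⟩ hy
    obtain ⟨z, hz, hzy⟩ := exists_minAss_specializes F hF y hy
    by_contra hxy
    apply hyC
    have hzx : z ≠ x := fun h => hxy (h ▸ hzy)
    simp only [C, Set.mem_iUnion]
    exact ⟨z, ⟨⟨hzy.mem_open U0.2 hyU0, hz⟩, hzx⟩, specializes_iff_mem_closure.1 hzy⟩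

/-- at a minimal associated point every element of the stalk is killed by a power of the
maximal ideal. -/
theorem exists_pow_smul_eq_zero [IsLocallyNoetherian X] (F : X.Modules) [F.IsQuasicoherent]
    (x : X) (hx : x ∈ MinAss F) (a : F.presheaf.stalk x) :
    ∃ k : ℕ, ∀ r ∈ maximalIdeal (X.presheaf.stalk x) ^ k, r • a = 0 := by
  obtain ⟨V, hxV, t, rfl⟩ := TopCat.Presheaf.exists_germ_eq F.presheaf a
  obtain ⟨_, ⟨W, hW : IsAffineOpen W, rfl⟩, hxW, hWV⟩ :=
    X.isBasis_affineOpens.exists_subset_of_mem_open hxV V.2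
  have hWV' : W ≤ V := hWV
  let t' : Γ(F, W) := F.presheaf.map (homOfLE hWV').op t
  have hres : F.presheaf.germ W x hxW t' = F.presheaf.germ V x hxV t :=
    TopCat.Presheaf.germ_res_apply F.presheaf (homOfLE hWV') x hxW t
  rw [← hres]
  by_cases h0 : F.presheaf.germ W x hxW t' = 0
  · exact ⟨0, fun r _ => by rw [h0, smul_zero]⟩
  have hle : (colon (⊥ : Submodule Γ(X, W) Γ(F, W)) {t'} : Ideal Γ(X, W)) ≤
      (hW.primeIdealOf ⟨x, hxW⟩).asIdeal := by
    by_contra hnot
    exact h0 ((AssDict.germ_eq_zero_iff hW F x hxW t').2 hnot)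
  have hmin : (hW.primeIdealOf ⟨x, hxW⟩).asIdeal ∈
      (colon (⊥ : Submodule Γ(X, W) Γ(F, W)) {t'} : Ideal Γ(X, W)).minimalPrimes := by
    refine ⟨⟨(hW.primeIdealOf ⟨x, hxW⟩).isPrime, hle⟩, ?_⟩
    rintro q ⟨hqp, hq⟩ hqx
    let y : X := hW.fromSpec ⟨q, hqp⟩
    have hyW : y ∈ W := AssDict.fromSpec_mem hW ⟨q, hqp⟩
    have hpy : hW.primeIdealOf ⟨y, hyW⟩ = ⟨q, hqp⟩ := AssDict.primeIdealOf_fromSpec hW ⟨q, hqp⟩
    have hgy : F.presheaf.germ W y hyW t' ≠ 0 := by
      rw [Ne, AssDict.germ_eq_zero_iff hW F y hyW t', not_not, hpy]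
      exact hq
    have hnt : Nontrivial (F.presheaf.stalk y) := ⟨⟨_, 0, hgy⟩⟩
    have hyx : y ⤳ x := by
      apply AssMax.specializes_of_primeIdealOf_le hW hyW hxW
      rw [hpy]
      exact hqx
    have hyeq : y = x := ((minAss_iff F x).1 hx).2 y hnt hyx
    have : hW.primeIdealOf ⟨x, hxW⟩ = ⟨q, hqp⟩ := by
      rw [← hpy]
      congr 1
      exact Subtype.ext hyeq.symm
    rw [this]
  letI := sectionModStalk F x hxW
  letI := X.presheaf.algebra_section_stalk ⟨x, hxW⟩
  haveI := hW.isLocalization_stalk ⟨x, hxW⟩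
  haveI := isLocalizedModule_germ hW F x hxW
  haveI : IsScalarTower Γ(X, W) (X.presheaf.stalk x) (F.presheaf.stalk x) :=
    IsScalarTower.of_algebraMap_smul (fun r m => rfl)
  have hrad : (colon (⊥ : Submodule (X.presheaf.stalk x) (F.presheaf.stalk x))
      {germLin F x hxW t'} : Ideal (X.presheaf.stalk x)).radical =
      maximalIdeal (X.presheaf.stalk x) := by
    rw [AssAlg.colon_map_eq (hW.primeIdealOf ⟨x, hxW⟩).asIdeal (X.presheaf.stalk x)
      (germLin F x hxW) t',
      IsLocalization.AtPrime.radical_map_of_mem_minimalPrimes (X.presheaf.stalk x)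
        (hW.primeIdealOf ⟨x, hxW⟩).asIdeal _ hmin,
      IsLocalization.AtPrime.map_eq_maximalIdeal (hW.primeIdealOf ⟨x, hxW⟩).asIdeal
        (X.presheaf.stalk x)]
  obtain ⟨k, hk⟩ := Ideal.exists_radical_pow_le_of_fg
    (colon (⊥ : Submodule (X.presheaf.stalk x) (F.presheaf.stalk x))
      {germLin F x hxW t'} : Ideal (X.presheaf.stalk x))
    (IsNoetherian.noetherian _)
  refine ⟨k, fun r hr => ?_⟩
  rw [hrad] at hk
  have := hk hr
  rw [mem_colon_singleton, mem_bot, germLin_apply] at this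
  exact this

end Groth.Agent.Helper2.NDense
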