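import Mathlib
import Groth.Prelude
import Groth.Agent.Helper2.ND1
import Groth.Agent.Helper4.StalkExact

set_option autoImplicit false
set_option linter.unusedVariables false
open CategoryTheory CategoryTheory.Limits AlgebraicGeometry TopologicalSpace Topology Opposite
open IsLocalRing Submodule
universe u

namespace Groth.Agent.Helper2.NDense

open Groth.Agent.Helper4 Groth.Agent.Helper9.SkyMod1 Groth.Agent.Helper9.SkyMod2
open Groth.Agent.Helper2.PrimDec

variable {X : Scheme.{u}} (F : X.Modules)

/-- the stalk as a module over the local ring. -/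
noncomputable abbrev stk (x : X) : ModuleCat.{u} (X.presheaf.stalk x) :=
  (DerSch.stalkFunctor X x).obj F

/-- the skyscraper at a minimal associated point. -/
noncomputable abbrev skyAt (x : ↥(MinAss F)) : X.Modules := sky x.1 (stk F x.1)

/-- the canonical map to the skyscraper of the stalk at a minimal associated point. -/
noncomputable def qSky (x : ↥(MinAss F)) : F ⟶ skyAt F x :=
  toSky x.1 F (stk F x.1) (𝟙 _)

theorem qSky_app_apply (x : ↥(MinAss F)) (U : X.Opens) (s : Γ(F, U)) (h : PLift (x.1 ∈ U)) :
    ((qSky F x).app U s : PLift (x.1 ∈ U) → stk F x.1) h =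
      F.presheaf.germ U x.1 h.down s := rfl

theorem qSky_app_eq_zero_iff (x : ↥(MinAss F)) (U : X.Opens) (s : Γ(F, U)) :
    (qSky F x).app U s = 0 ↔ ∀ hx : x.1 ∈ U, F.presheaf.germ U x.1 hx s = 0 := by
  constructor
  · intro h hx
    have := congrFun h ⟨hx⟩
    exact this
  · intro h
    apply sky_ext
    intro h'
    exact h h'.down

/-- the map to the product of the skyscrapers. -/
noncomputable def toProd : F ⟶ ∏ᶜ (skyAt F) := Pi.lift (qSky F)

theorem toProd_app_eq_zero_iff (U : X.Opens) (s : Γ(F, U)) :
    (toProd F).app U s = 0 ↔ ∀ x, (qSky F x).app U s = 0 := by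
  have hcomp : ∀ x, (Pi.π (skyAt F) x).app U ((toProd F).app U s) = (qSky F x).app U s := by
    intro x
    have : (toProd F ≫ Pi.π (skyAt F) x).app U s = (qSky F x).app U s := by
      rw [toProd, Pi.lift_π]
    exact this
  constructor
  · intro h x
    rw [← hcomp x, h, map_zero]
  · intro h
    apply eq_zero_of_forall_app_eq_zero (∏ᶜ (skyAt F)) (skyAt F) (Pi.π (skyAt F))
      (fun T a b hab => Pi.hom_ext _ _ hab) U
    intro x
    rw [hcomp x]
    exact h x

/-- the largest submodule with nowhere dense support. -/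
noncomputable def ndK : X.Modules := kernel (toProd F)

noncomputable def ndι : ndK F ⟶ F := kernel.ι (toProd F)

instance : Mono (ndι F) := inferInstanceAs (Mono (kernel.ι (toProd F)))

theorem ndι_toProd : ndι F ≫ toProd F = 0 := kernel.condition _

theorem ndι_exact (U : X.Opens) :
    Function.Exact ((ndι F).app U) ((toProd F).app U) := by
  have hS : (ShortComplex.mk (kernel.ι (toProd F)) (toProd F) (kernel.condition _)).Exact :=
    ShortComplex.exact_of_f_is_kernel _ (kernelIsKernel _)
  haveI : Mono (ShortComplex.mk (kernel.ι (toProd F)) (toProd F) (kernel.condition _)).f :=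
    inferInstanceAs (Mono (kernel.ι (toProd F)))
  exact StalkExact.app_exact _ hS U

theorem ndι_injective (U : X.Opens) : Function.Injective ((ndι F).app U) :=
  AffineDict.app_injective_of_mono (ndι F) U

/-- a section lifts to the kernel iff its germs at all minimal associated points vanish. -/
theorem mem_range_ndι_iff (U : X.Opens) (s : Γ(F, U)) :
    (∃ k : Γ(ndK F, U), (ndι F).app U k = s) ↔
      ∀ (x : X) (hx : x ∈ MinAss F) (hxU : x ∈ U), F.presheaf.germ U x hxU s = 0 := by
  have h1 := (ndι_exact F U s)
  rw [toProd_app_eq_zero_iff] at h1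
  rw [← Set.mem_range, ← h1]
  constructor
  · intro h x hx hxU
    exact (qSky_app_eq_zero_iff F ⟨x, hx⟩ U s).1 (h ⟨x, hx⟩) hxU
  · intro h x
    exact (qSky_app_eq_zero_iff F x U s).2 (fun hxU => h x.1 x.2 hxU)

theorem germ_ndι_eq_zero (U : X.Opens) (k : Γ(ndK F, U)) (x : X) (hx : x ∈ MinAss F)
    (hxU : x ∈ U) : F.presheaf.germ U x hxU ((ndι F).app U k) = 0 :=
  (mem_range_ndι_iff F U _).1 ⟨k, rfl⟩ x hx hxU

end Groth.Agent.Helper2.NDense
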