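import Mathlib
import Groth.Prelude
import Groth.Agent.Helper2.PrimDec1

set_option autoImplicit false
set_option linter.unusedVariables false
open CategoryTheory CategoryTheory.Limits AlgebraicGeometry TopologicalSpace Topology Opposite
universe u

namespace Groth.Agent.Helper2.PrimDec

open Groth.Agent.Helper4

theorem exists_open_le {X : Scheme.{u}} {α : Type*} (S : Finset α) (Wf : α → X.Opens) (x : X)
    (h : ∀ y, x ∈ Wf y) : ∃ W : X.Opens, x ∈ W ∧ ∀ y ∈ S, W ≤ Wf y := by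
  classical
  induction S using Finset.induction_on with
  | empty => exact ⟨⊤, trivial, by simp⟩
  | insert a S ha ih =>
    obtain ⟨W, hxW, hW⟩ := ih
    refine ⟨W ⊓ Wf a, ⟨hxW, h a⟩, fun y hy => ?_⟩
    rcases Finset.mem_insert.1 hy with rfl | hy
    · exact inf_le_right
    · exact inf_le_left.trans (hW y hy)

theorem app_map {X : Scheme.{u}} {M N : X.Modules} (φ : M ⟶ N) {W V : X.Opens} (i : W ⟶ V)
    (s : Γ(M, V)) :
    φ.app W (M.presheaf.map i.op s) = N.presheaf.map i.op (φ.app V s) :=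
  NatTrans.naturality_apply φ.mapPresheaf i.op s

theorem germ_app {X : Scheme.{u}} {M N : X.Modules} (φ : M ⟶ N) (V : X.Opens) (x : X)
    (hx : x ∈ V) (s : Γ(M, V)) :
    N.presheaf.germ V x hx (φ.app V s) =
      (TopCat.Presheaf.stalkFunctor Ab x).map φ.mapPresheaf (M.presheaf.germ V x hx s) :=
  (TopCat.Presheaf.stalkFunctor_map_germ_apply V x hx φ.mapPresheaf s).symm

section
variable {X : Scheme.{u}} [IsLocallyNoetherian X] (M : X.Modules) (hM : Coh.IsCoh M)
  (hne : AssSch.NoEmbedded M)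
  (G : ↥(AssSch.Ass M) → X.Modules) (q : ∀ x, M ⟶ G x) (hG : ∀ x, (G x).IsQuasicoherent)
  (hA : ∀ x, AssSch.Ass (G x) = {x.1})
  (hm : ∀ (T : X.Modules) (a b : T ⟶ M), (∀ x, a ≫ q x = b ≫ q x) → a = b)

omit [IsLocallyNoetherian X] in
include hne hG hA in
/-- germs of sections of `G y` vanish at the associated points `x ≠ y`. -/
theorem germ_eq_zero_of_ne (x y : ↥(AssSch.Ass M)) (hxy : y ≠ x) (V : X.Opens) (hxV : x.1 ∈ V)
    (r : Γ(G y, V)) : (G y).presheaf.germ V x.1 hxV r = 0 := by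
  by_contra h
  haveI := hG y
  have hnt : Nontrivial ((G y).presheaf.stalk x.1) := ⟨⟨_, 0, h⟩⟩
  obtain ⟨z, hz, hzx⟩ := AssMax2.exists_isAssPoint_specializes (G y) x.1 hnt
  have hz' : z ∈ AssSch.Ass (G y) := hz
  rw [hA y, Set.mem_singleton_iff] at hz'
  rw [hz'] at hzx
  exact hxy (Subtype.ext (hne x.1 x.2 y.1 y.2 hzx).symm)

include hM hne hG hA hm in
theorem app_eq_zero_of_app_eq_zero (G' : ↥(AssSch.Ass M) → X.Modules) (q' : ∀ x, M ⟶ G' x)
    (hG' : ∀ x, (G' x).IsQuasicoherent) (hA' : ∀ x, AssSch.Ass (G' x) = {x.1})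
    (x : ↥(AssSch.Ass M)) (V : X.Opens) (s : Γ(M, V)) (hs : (q x).app V s = 0) :
    (q' x).app V s = 0 := by
  by_contra ht
  haveI := hG' x
  obtain ⟨w, hwV, hwass, hgw⟩ := exists_ass_germ_ne_zero (G' x) V _ ht
  have hwx : w = x.1 := by
    have : w ∈ AssSch.Ass (G' x) := hwass
    rw [hA' x, Set.mem_singleton_iff] at this
    exact this
  subst hwx
  obtain ⟨_, ⟨U, hU : IsAffineOpen U, rfl⟩, hxU, hUV⟩ :=
    X.isBasis_affineOpens.exists_subset_of_mem_open hwV V.2
  have hUV' : U ≤ V := hUV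
  have hfin : {z : X | z ∈ U ∧ Curv2.IsAssPoint M z}.Finite :=
    AssFin.finite_assPoints_affine M hM.1 hM.2 hU
  have hSfin : {y : ↥(AssSch.Ass M) | y.1 ∈ U}.Finite := by
    have : {y : ↥(AssSch.Ass M) | y.1 ∈ U} ⊆
        Subtype.val ⁻¹' {z : X | z ∈ U ∧ Curv2.IsAssPoint M z} := fun y hy => ⟨hy, y.2⟩
    exact (hfin.preimage Subtype.val_injective.injOn).subset this
  have hloc : ∀ y : ↥(AssSch.Ass M), ∃ W : X.Opens, x.1 ∈ W ∧ ∃ hWV : W ≤ V,
      (G y).presheaf.map (homOfLE hWV).op ((q y).app V s) = 0 := by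
    intro y
    have hg : (G y).presheaf.germ V x.1 hwV ((q y).app V s) = 0 := by
      by_cases hxy : y = x
      · subst hxy; rw [hs, map_zero]
      · exact germ_eq_zero_of_ne M hne G hG hA x y hxy V hwV _
    have hg' : (G y).presheaf.germ V x.1 hwV ((q y).app V s) =
        (G y).presheaf.germ V x.1 hwV 0 := by rw [hg, map_zero]
    obtain ⟨W, hxW, iU, iV, e⟩ := TopCat.Presheaf.germ_eq (G y).presheaf x.1 hwV hwV _ _ hg'
    refine ⟨W, hxW, iU.le, ?_⟩
    rw [map_zero] at e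
    exact e
  choose Wf hxWf hWfV hWf0 using hloc
  obtain ⟨W1, hxW1, hW1⟩ := exists_open_le hSfin.toFinset Wf x.1 hxWf
  let W0 : X.Opens := U ⊓ W1
  have hxW0 : x.1 ∈ W0 := ⟨hxU, hxW1⟩
  have hW0V : W0 ≤ V := inf_le_left.trans hUV'
  let s' : Γ(M, W0) := M.presheaf.map (homOfLE hW0V).op s
  have hall : ∀ y, (q y).app W0 s' = 0 := by
    intro y
    show (q y).app W0 (M.presheaf.map (homOfLE hW0V).op s) = 0
    rw [app_map]
    by_cases hyU : y.1 ∈ U
    · have hyS : y ∈ hSfin.toFinset := by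
        rw [Set.Finite.mem_toFinset]; exact hyU
      have hle : W0 ≤ Wf y := inf_le_right.trans (hW1 y hyS)
      have : (homOfLE hW0V).op = (homOfLE (hWfV y)).op ≫ (homOfLE hle).op := rfl
      rw [this, Functor.map_comp, ConcreteCategory.comp_apply, hWf0 y, map_zero]
    · by_contra hr
      haveI := hG y
      obtain ⟨w', hw'W0, hw'ass, -⟩ := exists_ass_germ_ne_zero (G y) W0 _ hr
      have : w' ∈ AssSch.Ass (G y) := hw'ass
      rw [hA y, Set.mem_singleton_iff] at this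
      rw [this] at hw'W0
      exact hyU hw'W0.1
  have hs' : s' = 0 := eq_zero_of_forall_app_eq_zero M G q hm W0 s' hall
  have hgs : M.presheaf.germ V x.1 hwV s = 0 := by
    rw [← TopCat.Presheaf.germ_res_apply M.presheaf (homOfLE hW0V) x.1 hxW0 s]
    show M.presheaf.germ W0 x.1 hxW0 s' = 0
    rw [hs', map_zero]
  apply hgw
  rw [germ_app, hgs]
  exact map_zero ((TopCat.Presheaf.stalkFunctor Ab x.1).map (q' x).mapPresheaf).hom

end

end Groth.Agent.Helper2.PrimDec
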