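import Mathlib
import Groth.Prelude
import Groth.Agent.Helper2.ND2
import Groth.Agent.Helper2.CohQ1
import Groth.Agent.Helper2.PrimDec2

set_option autoImplicit false
set_option linter.unusedVariables false
open CategoryTheory CategoryTheory.Limits AlgebraicGeometry TopologicalSpace Topology Opposite
open IsLocalRing Submodule
universe u

namespace Groth.Agent.Helper2.NDense

open Groth.Agent.Helper4 Groth.Agent.Helper9.SkyMod1 Groth.Agent.Helper9.SkyMod2
open Groth.Agent.Helper2.PrimDec

variable {X : Scheme.{u}} (F : X.Modules)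

theorem isLocalizingOn_ndK [IsLocallyNoetherian X] (hF : Coh.IsCoh F) {U : X.Opens}
    (hU : IsAffineOpen U) : QcqsMod.IsLocalizingOn (ndK F) U := by
  haveI := hF.1
  have hFl := QcqsMod.isLocalizingOn_of_isAffineOpen F hU
  constructor
  · intro f m hm
    have h1 : F.presheaf.map (homOfLE (X.basicOpen_le f)).op ((ndι F).app U m) = 0 := by
      rw [← app_map, hm, map_zero]
    obtain ⟨n, hn⟩ := hFl.zero f _ h1
    refine ⟨n, ndι_injective F U ?_⟩
    rw [map_zero, Scheme.Modules.Hom.app_smul]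
    exact hn
  · intro f t
    obtain ⟨n, s, hs⟩ := hFl.surj f ((ndι F).app _ t)
    have hfin := finite_minAss_affine F hF hU
    have hk : ∀ x : X, ∃ k : ℕ, x ∈ MinAss F → ∀ hxU : x ∈ U,
        ∀ r ∈ maximalIdeal (X.presheaf.stalk x) ^ k,
          r • (F.presheaf.germ U x hxU s : F.presheaf.stalk x) = 0 := by
      intro x
      by_cases hx : x ∈ MinAss F ∧ x ∈ U
      · obtain ⟨k, hk⟩ := exists_pow_smul_eq_zero F x hx.1 (F.presheaf.germ U x hx.2 s)
        exact ⟨k, fun _ _ => hk⟩
      · exact ⟨0, fun h1 h2 => absurd ⟨h1, h2⟩ hx⟩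
    choose kf hkf using hk
    let N := hfin.toFinset.sup kf
    have hgerm : ∀ (x : X) (hx : x ∈ MinAss F) (hxU : x ∈ U),
        F.presheaf.germ U x hxU (f ^ N • s) = 0 := by
      intro x hx hxU
      rw [germ_smul, map_pow]
      by_cases hxf : x ∈ X.basicOpen f
      · have : F.presheaf.germ U x hxU s = 0 := by
          rw [← TopCat.Presheaf.germ_res_apply F.presheaf (homOfLE (X.basicOpen_le f)) x hxf s,
            ← hs, germ_smul, germ_ndι_eq_zero F _ t x hx hxf, smul_zero]
        rw [this, smul_zero]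
      · have hfm : X.presheaf.germ U x hxU f ∈ maximalIdeal (X.presheaf.stalk x) := by
          rw [mem_maximalIdeal, mem_nonunits_iff, ← X.mem_basicOpen f x hxU]
          exact hxf
        have hle : kf x ≤ N := Finset.le_sup (f := kf)
          (by rw [Set.Finite.mem_toFinset]; exact ⟨hxU, hx⟩)
        exact hkf x hx hxU _ (Ideal.pow_le_pow_right hle (Ideal.pow_mem_pow hfm N))
    obtain ⟨m', hm'⟩ := (mem_range_ndι_iff F U (f ^ N • s)).2 hgerm
    refine ⟨N + n, m', ndι_injective F _ ?_⟩
    rw [Scheme.Modules.Hom.app_smul, app_map, hm', Scheme.Modules.map_smul, ← hs, smul_smul,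
      ← map_mul, ← pow_add]

theorem isQuasicoherent_ndK [IsLocallyNoetherian X] (hF : Coh.IsCoh F) :
    (ndK F).IsQuasicoherent := by
  apply QcohGlue.isQuasicoherent_of_isLocalizingOn
  intro y
  obtain ⟨_, ⟨V, hV : IsAffineOpen V, rfl⟩, hyV, -⟩ :=
    X.isBasis_affineOpens.exists_subset_of_mem_open (Set.mem_univ y) isOpen_univ
  exact ⟨V, hV, hyV, isLocalizingOn_ndK F hF hV⟩

theorem isCoh_ndK [IsLocallyNoetherian X] (hF : Coh.IsCoh F) : Coh.IsCoh (ndK F) :=
  Groth.Agent.Helper2.CohQ1.isCoh_of_mono (ndι F) (isQuasicoherent_ndK F hF) hF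

end Groth.Agent.Helper2.NDense
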