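import Mathlib
import Groth.Prelude
import Groth.Agent.Helper2.ND3

set_option autoImplicit false
set_option linter.unusedVariables false
open CategoryTheory CategoryTheory.Limits AlgebraicGeometry TopologicalSpace Topology Opposite
open IsLocalRing Submodule
universe u

namespace Groth.Agent.Helper2.NDense

open Groth.Agent.Helper4 Groth.Agent.Helper9.SkyMod1 Groth.Agent.Helper9.SkyMod2
open Groth.Agent.Helper2.PrimDec

variable {X : Scheme.{u}} (F : X.Modules)

/-- the quotient by the largest submodule with nowhere dense support. -/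
noncomputable def ndQ : X.Modules := cokernel (ndι F)

noncomputable def ndπ : F ⟶ ndQ F := cokernel.π (ndι F)

instance : Epi (ndπ F) := inferInstanceAs (Epi (cokernel.π (ndι F)))

theorem ndι_π : ndι F ≫ ndπ F = 0 := cokernel.condition _

noncomputable def ndj : ndQ F ⟶ ∏ᶜ (skyAt F) :=
  Abelian.factorThruCoimage (toProd F)

instance : Mono (ndj F) := inferInstanceAs (Mono (Abelian.factorThruCoimage (toProd F)))

theorem ndπ_j : ndπ F ≫ ndj F = toProd F := Abelian.coimage.fac (toProd F)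

noncomputable def qQ (x : ↥(MinAss F)) : ndQ F ⟶ skyAt F x := ndj F ≫ Pi.π _ x

theorem ndπ_qQ (x : ↥(MinAss F)) : ndπ F ≫ qQ F x = qSky F x := by
  rw [qQ, ← Category.assoc, ndπ_j, toProd, Pi.lift_π]

theorem qQ_jointly_mono (T : X.Modules) (a b : T ⟶ ndQ F)
    (h : ∀ x, a ≫ qQ F x = b ≫ qQ F x) : a = b := by
  rw [← cancel_mono (ndj F)]
  apply Pi.hom_ext
  intro x
  simpa [qQ, Category.assoc] using h x

theorem ndQ_section_eq_zero (U : X.Opens) (m : Γ(ndQ F, U))
    (h : ∀ x, (qQ F x).app U m = 0) : m = 0 :=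
  eq_zero_of_forall_app_eq_zero (ndQ F) (skyAt F) (qQ F) (qQ_jointly_mono F) U m h

theorem isQuasicoherent_ndQ [IsLocallyNoetherian X] (hF : Coh.IsCoh F) :
    (ndQ F).IsQuasicoherent := by
  haveI := hF.1
  haveI := isQuasicoherent_ndK F hF
  exact QcohLimits.isQuasicoherent_cokernel (ndι F)

theorem isCoh_ndQ [IsLocallyNoetherian X] (hF : Coh.IsCoh F) : Coh.IsCoh (ndQ F) :=
  Groth.Agent.Helper2.CohQ1.isCoh_of_epi (ndπ F) hF (isQuasicoherent_ndQ F hF)

/-- the associated points of the quotient are minimal associated points of `F`. -/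
theorem mem_minAss_of_isAssPoint_ndQ [IsLocallyNoetherian X] (hF : Coh.IsCoh F) (w : X)
    (hw : Curv2.IsAssPoint (ndQ F) w) : w ∈ MinAss F := by
  classical
  haveI := hF.1
  haveI := isQuasicoherent_ndQ F hF
  obtain ⟨_, ⟨U, hU : IsAffineOpen U, rfl⟩, hwU, -⟩ :=
    X.isBasis_affineOpens.exists_subset_of_mem_open (Set.mem_univ w) isOpen_univ
  obtain ⟨m, hm⟩ := (AssDict.isAssPoint_iff_exists_minimalPrimes hU (ndQ F) w hwU).1 hw
  have hfin : {y : ↥(MinAss F) | y.1 ∈ U}.Finite := by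
    have : {y : ↥(MinAss F) | y.1 ∈ U} ⊆
        Subtype.val ⁻¹' {z : X | z ∈ U ∧ z ∈ MinAss F} := fun y hy => ⟨hy, y.2⟩
    exact ((finite_minAss_affine F hF hU).preimage Subtype.val_injective.injOn).subset this
  let I : ↥(MinAss F) → Ideal Γ(X, U) := fun x =>
    (colon (⊥ : Submodule Γ(X, U) Γ(skyAt F x, U)) {(qQ F x).app U m} : Ideal Γ(X, U))
  have hItop : ∀ x : ↥(MinAss F), x.1 ∉ U → I x = ⊤ := by
    intro x hx
    rw [Ideal.eq_top_iff_one, mem_colon_singleton, mem_bot]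
    apply sky_ext
    intro h
    exact absurd h.down hx
  have hann : (colon (⊥ : Submodule Γ(X, U) Γ(ndQ F, U)) {m} : Ideal Γ(X, U)) =
      hfin.toFinset.inf I := by
    ext r
    rw [mem_colon_singleton, mem_bot, Submodule.mem_finsetInf]
    constructor
    · intro h x _
      show r ∈ (colon (⊥ : Submodule Γ(X, U) Γ(skyAt F x, U)) {(qQ F x).app U m} :
        Ideal Γ(X, U))
      rw [mem_colon_singleton, mem_bot, ← Scheme.Modules.Hom.app_smul, h, map_zero]
    · intro h
      apply ndQ_section_eq_zero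
      intro x
      rw [Scheme.Modules.Hom.app_smul]
      by_cases hxU : x.1 ∈ U
      · have := h x (by rw [Set.Finite.mem_toFinset]; exact hxU)
        have h2 : r ∈ (colon (⊥ : Submodule Γ(X, U) Γ(skyAt F x, U)) {(qQ F x).app U m} :
          Ideal Γ(X, U)) := this
        rw [mem_colon_singleton, mem_bot] at h2
        exact h2
      · apply sky_ext
        intro h'
        exact absurd h'.down hxU
  have hwprime := (hU.primeIdealOf ⟨w, hwU⟩).isPrime
  have hle : hfin.toFinset.inf I ≤ (hU.primeIdealOf ⟨w, hwU⟩).asIdeal := by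
    rw [← hann]
    exact hm.1.2
  obtain ⟨x, hxS, hIx⟩ := (Ideal.IsPrime.inf_le' hwprime).1 hle
  have hxU : x.1 ∈ U := by
    rw [Set.Finite.mem_toFinset] at hxS
    exact hxS
  let a : stk F x.1 := ((qQ F x).app U m : PLift (x.1 ∈ U) → stk F x.1) ⟨hxU⟩
  have hI : ∀ r : Γ(X, U), r ∈ I x ↔
      (X.presheaf.germ U x.1 hxU r : X.presheaf.stalk x.1) • a = 0 := by
    intro r
    show r ∈ (colon (⊥ : Submodule Γ(X, U) Γ(skyAt F x, U)) {(qQ F x).app U m} :
        Ideal Γ(X, U)) ↔ _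
    rw [mem_colon_singleton, mem_bot]
    constructor
    · intro h
      exact congrFun h ⟨hxU⟩
    · intro h
      apply sky_ext
      intro h'
      exact h
  have ha : a ≠ 0 := by
    intro h0
    have : (1 : Γ(X, U)) ∈ I x := by
      rw [hI, h0, smul_zero]
    exact hwprime.ne_top (top_le_iff.1 (le_trans (by
      rw [Ideal.eq_top_iff_one (I x) |>.2 this]) hIx))
  obtain ⟨k, hk⟩ := exists_pow_smul_eq_zero F x.1 x.2 a
  have hgerm_mem : ∀ r : Γ(X, U), r ∈ (hU.primeIdealOf ⟨x.1, hxU⟩).asIdeal →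
      (X.presheaf.germ U x.1 hxU r : X.presheaf.stalk x.1) ∈
        maximalIdeal (X.presheaf.stalk x.1) := by
    intro r hr
    rw [mem_maximalIdeal, mem_nonunits_iff, ← X.mem_basicOpen r x.1 hxU,
      StalkDict.mem_basicOpen_iff_notMem_primeIdealOf hU x.1 hxU r, not_not]
    exact hr
  have h1 : I x ≤ (hU.primeIdealOf ⟨x.1, hxU⟩).asIdeal := by
    intro r hr
    by_contra hnot
    have hu : IsUnit (X.presheaf.germ U x.1 hxU r : X.presheaf.stalk x.1) := by
      rw [← X.mem_basicOpen r x.1 hxU,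
        StalkDict.mem_basicOpen_iff_notMem_primeIdealOf hU x.1 hxU r]
      exact hnot
    have := (hI r).1 hr
    rw [hu.smul_eq_zero] at this
    exact ha this
  have h2 : (hU.primeIdealOf ⟨x.1, hxU⟩).asIdeal ^ k ≤ I x := by
    intro r hr
    rw [hI]
    apply hk
    have hle : Ideal.map (X.presheaf.germ U x.1 hxU).hom
        ((hU.primeIdealOf ⟨x.1, hxU⟩).asIdeal ^ k) ≤
        maximalIdeal (X.presheaf.stalk x.1) ^ k := by
      rw [Ideal.map_pow]
      refine Ideal.pow_right_mono (Ideal.map_le_iff_le_comap.2 (fun r hr => ?_)) k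
      rw [Ideal.mem_comap]
      exact hgerm_mem r hr
    exact hle (Ideal.mem_map_of_mem _ hr)
  have hxw : (hU.primeIdealOf ⟨x.1, hxU⟩).asIdeal ≤ (hU.primeIdealOf ⟨w, hwU⟩).asIdeal :=
    Ideal.IsPrime.le_of_pow_le (h2.trans hIx)
  have hannle : (colon (⊥ : Submodule Γ(X, U) Γ(ndQ F, U)) {m} : Ideal Γ(X, U)) ≤
      (hU.primeIdealOf ⟨x.1, hxU⟩).asIdeal := by
    rw [hann]
    exact (Finset.inf_le hxS).trans h1
  have hwx : (hU.primeIdealOf ⟨w, hwU⟩).asIdeal ≤ (hU.primeIdealOf ⟨x.1, hxU⟩).asIdeal :=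
    hm.2 ⟨(hU.primeIdealOf ⟨x.1, hxU⟩).isPrime, hannle⟩ hxw
  have heq : hU.primeIdealOf ⟨w, hwU⟩ = hU.primeIdealOf ⟨x.1, hxU⟩ :=
    PrimeSpectrum.ext (le_antisymm hwx hxw)
  have := congrArg hU.fromSpec heq
  rw [hU.fromSpec_primeIdealOf, hU.fromSpec_primeIdealOf] at this
  have hwx' : w = x.1 := this
  rw [hwx']
  exact x.2

end Groth.Agent.Helper2.NDense
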