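import Mathlib
import Groth.Prelude
import Groth.Agent.Helper2.ND4
import Groth.Agent.Helper2.FPExt1
import Groth.Agent.Helper4.EpiStalk
import Groth.Agent.Lead.AssRestr
import Groth.Agent.S0020

set_option autoImplicit false
set_option linter.unusedVariables false
open CategoryTheory CategoryTheory.Limits AlgebraicGeometry TopologicalSpace Topology Opposite
open IsLocalRing Submodule
universe u

namespace Groth.Agent.Helper2.NDense

open Groth.Agent.Helper4 Groth.Agent.Helper9.SkyMod1 Groth.Agent.Helper9.SkyMod2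
open Groth.Agent.Helper2.PrimDec Groth.Agent.Helper4.StalkDict

variable {X : Scheme.{u}} (F : X.Modules)

/-- a submodule killed by the map to the product has zero stalks at the minimal associated
points. -/
theorem subsingleton_stalk_of_comp_eq_zero {K : X.Modules} (i : K ⟶ F) [Mono i]
    (hi : i ≫ toProd F = 0) (x : X) (hx : x ∈ MinAss F) :
    Subsingleton (K.presheaf.stalk x) := by
  have key : ∀ c : K.presheaf.stalk x, stalkLin i x c = 0 := by
    intro c
    obtain ⟨V, hxV, k, rfl⟩ := TopCat.Presheaf.exists_germ_eq K.presheaf c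
    rw [StalkExact.stalkLin_germ]
    have h0 : (toProd F).app V (i.app V k) = 0 := by
      have : (i ≫ toProd F).app V k = 0 := by rw [hi]; rfl
      exact this
    rw [toProd_app_eq_zero_iff] at h0
    exact (qSky_app_eq_zero_iff F ⟨x, hx⟩ V _).1 (h0 ⟨x, hx⟩) hxV
  refine ⟨fun a b => ?_⟩
  apply StalkExact.stalkLin_injective i x
  rw [key a, key b]

theorem comp_toProd_eq_zero {K : X.Modules} (i : K ⟶ F)
    (h : ∀ x ∈ MinAss F, Subsingleton (K.presheaf.stalk x)) : i ≫ toProd F = 0 := by
  apply Scheme.Modules.hom_ext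
  intro V
  ext k
  show (toProd F).app V (i.app V k) = 0
  rw [toProd_app_eq_zero_iff]
  intro x
  rw [qSky_app_eq_zero_iff]
  intro hxV
  rw [← StalkExact.stalkLin_germ]
  haveI := h x.1 x.2
  rw [Subsingleton.elim (K.presheaf.germ V x.1 hxV k) 0, map_zero]

/-- a coherent module whose support is nowhere dense in the support of `F` has zero stalks at the
minimal associated points of `F`. -/
theorem subsingleton_stalk_of_nd [IsLocallyNoetherian X] (hF : Coh.IsCoh F) (K' : X.Modules)
    (hK' : Coh.IsCoh K')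
    (hnd : ∀ U : X.Opens, (U : Set X) ∩ CohB1.support F ⊆ CohB1.support K' →
      (U : Set X) ∩ CohB1.support F = ∅)
    (x : X) (hx : x ∈ MinAss F) : Subsingleton (K'.presheaf.stalk x) := by
  haveI := hF.1
  by_contra hns
  have hxK : x ∈ CohB1.support K' := hns
  obtain ⟨U, hxU, hU⟩ := exists_open_nhds_minAss F hF x hx
  have hcl : IsClosed (CohB1.support K') := Groth.Agent.S0020.result X K' hK'.2
  have hsub : (U : Set X) ∩ CohB1.support F ⊆ CohB1.support K' := by
    rintro y ⟨hyU, hyF⟩
    have hnt : Nontrivial (F.presheaf.stalk y) := not_subsingleton_iff_nontrivial.1 hyF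
    exact (hU y hyU hnt).mem_closed hcl hxK
  have hemp := hnd U hsub
  have hxF : x ∈ CohB1.support F :=
    not_subsingleton_iff_nontrivial.2 ((minAss_iff F x).1 hx).1
  have hmem : x ∈ (U : Set X) ∩ CohB1.support F := ⟨hxU, hxF⟩
  rw [hemp] at hmem
  exact hmem

/-- the quotient map by a submodule with zero stalk at `x` is bijective on the stalk at `x`. -/
theorem stalkLin_cokernel_bijective {K : X.Modules} (i : K ⟶ F) [Mono i] (x : X)
    (h : Subsingleton (K.presheaf.stalk x)) :
    Function.Bijective (stalkLin (cokernel.π i) x) := by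
  refine ⟨?_, EpiStalk.stalkLin_surjective_of_epi (cokernel.π i) x⟩
  haveI : Mono (ShortComplex.cokernelSequence i).f := ‹Mono i›
  have hex := StalkExact.stalkLin_exact (ShortComplex.cokernelSequence i)
    (ShortComplex.cokernelSequence_exact i) x
  rw [injective_iff_map_eq_zero]
  intro t ht
  obtain ⟨n, rfl⟩ := (hex t).1 ht
  have hn : n = 0 := @Subsingleton.elim _ h n 0
  subst hn
  exact map_zero (stalkLin (ShortComplex.cokernelSequence i).f x)

theorem s8908 (X : Scheme.{u}) [IsLocallyNoetherian X] (F : X.Modules)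
    (hF : Coh.IsCoh F) :
    ∃ K : Subobject F, Coh.IsCoh (K : X.Modules) ∧
      (∀ U : X.Opens, (U : Set ↥X) ∩ CohB1.support F ⊆ CohB1.support (K : X.Modules) →
        (U : Set ↥X) ∩ CohB1.support F = ∅) ∧
      (∀ K' : Subobject F, Coh.IsCoh (K' : X.Modules) →
        (∀ U : X.Opens, (U : Set ↥X) ∩ CohB1.support F ⊆ CohB1.support (K' : X.Modules) →
          (U : Set ↥X) ∩ CohB1.support F = ∅) →
        K' ≤ K) ∧
      CohB1.support (cokernel K.arrow) = CohB1.support F ∧
      (∀ x : ↥X, Curv2.IsAssPoint (cokernel K.arrow) x →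
        ∀ y : ↥X, Curv2.IsAssPoint (cokernel K.arrow) y → y ⤳ x → y = x) ∧
      ∃ U : X.Opens, Dense (U : Set ↥X) ∧
        CohB1.support F ⊆ closure ((U : Set ↥X) ∩ CohB1.support F) ∧
        IsIso ((Scheme.Modules.restrictFunctor U.ι).map (cokernel.π K.arrow)) := by
  haveI := hF.1
  let K : Subobject F := Subobject.mk (ndι F)
  let e : (K : X.Modules) ≅ ndK F := Subobject.underlyingIso (ndι F)
  have he : e.hom ≫ ndι F = K.arrow := Subobject.underlyingIso_hom_comp_eq_mk (ndι F)
  have hKcoh : Coh.IsCoh (K : X.Modules) :=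
    Groth.Agent.Helper2.CohQ1.isCoh_of_iso e.symm (isCoh_ndK F hF)
  haveI := hKcoh.1
  have hKarrow : K.arrow ≫ toProd F = 0 := by
    rw [← he, Category.assoc, ndι_toProd, comp_zero]
  have hKx : ∀ x ∈ MinAss F, Subsingleton ((K : X.Modules).presheaf.stalk x) :=
    subsingleton_stalk_of_comp_eq_zero F K.arrow hKarrow
  have hsuppF : ∀ x ∈ MinAss F, x ∈ CohB1.support F := fun x hx =>
    not_subsingleton_iff_nontrivial.2 ((minAss_iff F x).1 hx).1
  have hb : ∀ U : X.Opens, (U : Set ↥X) ∩ CohB1.support F ⊆ CohB1.support (K : X.Modules) →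
      (U : Set ↥X) ∩ CohB1.support F = ∅ := by
    intro U hU
    rw [Set.eq_empty_iff_forall_notMem]
    rintro y ⟨hyU, hyF⟩
    obtain ⟨x, hx, hxy⟩ :=
      exists_minAss_specializes F hF y (not_subsingleton_iff_nontrivial.1 hyF)
    have hxU : x ∈ U := hxy.mem_open U.2 hyU
    exact hU ⟨hxU, hsuppF x hx⟩ (hKx x hx)
  -- the quotient
  let eQ : cokernel K.arrow ≅ ndQ F :=
    cokernelIsoOfEq he.symm ≪≫ cokernelEpiComp e.hom (ndι F)
  haveI hQq : (cokernel K.arrow).IsQuasicoherent := QcohLimits.isQuasicoherent_cokernel K.arrow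
  have hQcoh : Coh.IsCoh (cokernel K.arrow) :=
    Groth.Agent.Helper2.CohQ1.isCoh_of_epi (cokernel.π K.arrow) hF hQq
  have hQcl : IsClosed (CohB1.support (cokernel K.arrow)) :=
    Groth.Agent.S0020.result X _ hQcoh.2
  have hKcl : IsClosed (CohB1.support (K : X.Modules)) :=
    Groth.Agent.S0020.result X _ hKcoh.2
  have hKF : CohB1.support (K : X.Modules) ⊆ CohB1.support F := by
    intro y hyK hyF
    exact hyK (StalkExact.stalkLin_injective K.arrow y).subsingleton
  refine ⟨K, hKcoh, hb, ?_, ?_, ?_, ?_⟩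
  · intro K' hK' hnd
    have h0 : K'.arrow ≫ toProd F = 0 :=
      comp_toProd_eq_zero F K'.arrow (subsingleton_stalk_of_nd F hF _ hK' hnd)
    exact Subobject.le_mk_of_comm (kernel.lift (toProd F) K'.arrow h0) (kernel.lift_ι _ _ _)
  · ext y
    constructor
    · intro hyQ hyF
      exact hyQ (EpiStalk.stalkLin_surjective_of_epi (cokernel.π K.arrow) y).subsingleton
    · intro hyF
      obtain ⟨x, hx, hxy⟩ :=
        exists_minAss_specializes F hF y (not_subsingleton_iff_nontrivial.1 hyF)
      have hxQ : x ∈ CohB1.support (cokernel K.arrow) := by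
        intro hsub
        exact hsuppF x hx
          (stalkLin_cokernel_bijective F K.arrow x (hKx x hx)).1.subsingleton
      exact hxy.mem_closed hQcl hxQ
  · have hsub : ∀ w, Curv2.IsAssPoint (cokernel K.arrow) w → w ∈ MinAss F := fun w hw =>
      mem_minAss_of_isAssPoint_ndQ F hF w
        ((Groth.Agent.Lead.AssRestr.isAssPoint_iff_of_iso eQ w).1 hw)
    intro x hx y hy hyx
    exact (hsub x hx).2 y (hsub y hy).1 hyx
  · refine ⟨⟨(CohB1.support (K : X.Modules))ᶜ, hKcl.isOpen_compl⟩, ?_, ?_, ?_⟩
    · rw [dense_iff_inter_open]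
      intro V hV hVne
      by_contra hemp
      rw [Set.not_nonempty_iff_eq_empty] at hemp
      have hVK : V ⊆ CohB1.support (K : X.Modules) := by
        intro y hy
        by_contra hyK
        exact (Set.eq_empty_iff_forall_notMem.1 hemp y) ⟨hy, hyK⟩
      have h1 := hb ⟨V, hV⟩ (fun y hy => hVK hy.1)
      obtain ⟨y, hy⟩ := hVne
      have : y ∈ V ∩ CohB1.support F := ⟨hy, hKF (hVK hy)⟩
      have h1' : V ∩ CohB1.support F = ∅ := h1
      rw [h1'] at this
      exact this
    · intro y hyF
      obtain ⟨x, hx, hxy⟩ :=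
        exists_minAss_specializes F hF y (not_subsingleton_iff_nontrivial.1 hyF)
      have hxmem : x ∈ (CohB1.support (K : X.Modules))ᶜ ∩ CohB1.support F :=
        ⟨fun h => h (hKx x hx), hsuppF x hx⟩
      exact closure_mono (Set.singleton_subset_iff.2 hxmem) (specializes_iff_mem_closure.1 hxy)
    · apply Groth.Agent.Helper2.FPExt.isIso_restrict_of_app_bijective
      intro T hT
      exact TopCat.Presheaf.app_bijective_of_stalkFunctor_map_bijective
        (F := ⟨F.presheaf, F.isSheaf⟩)
        (G := ⟨(cokernel K.arrow).presheaf, (cokernel K.arrow).isSheaf⟩)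
        ⟨(cokernel.π K.arrow).mapPresheaf⟩ T
        (fun x hx => stalkLin_cokernel_bijective F K.arrow x (not_not.1 (hT hx)))

end Groth.Agent.Helper2.NDense
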