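import Mathlib
import Groth.Prelude.Def_CAlg
import Groth.Agent.Helper5.RSD1
import Groth.Agent.Helper3.SuppBC
import Groth.Agent.Helper2.AdjLoc1

/-!
# Double localization for the support dimension; `(S_k)` localizes (helper2)
-/

set_option autoImplicit false
universe u

namespace Groth.Agent.Helper2.SkEmb

open IsLocalRing

section DL

variable {A : Type u} [CommRing A] (S : Submonoid A) (M : Type u) [AddCommGroup M] [Module A M]
  [Module.Finite A M]

theorem mem_support_localized_iff (q' : PrimeSpectrum (Localization S)) :
    q' ∈ Module.support (Localization S) (LocalizedModule S M) ↔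
      q'.comap (algebraMap A (Localization S)) ∈ Module.support A M := by
  rw [(LocalizedModule.equivTensorProduct S M).support_eq]
  exact Groth.Agent.Helper3.SuppBC.mem_support_baseChange_iff q'

instance finite_localized : Module.Finite (Localization S) (LocalizedModule S M) :=
  Module.Finite.of_isLocalizedModule S (LocalizedModule.mkLinearMap S M)

/-- double localization for the support dimension -/
theorem supportDim_localized_eq (p : Ideal A) [hp : p.IsPrime]
    (hd : Disjoint (S : Set A) (p : Set A))
    [hP : (p.map (algebraMap A (Localization S))).IsPrime] :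
    Module.supportDim (Localization.AtPrime (p.map (algebraMap A (Localization S))))
      (LocalizedModule (p.map (algebraMap A (Localization S))).primeCompl (LocalizedModule S M)) =
    Module.supportDim (Localization.AtPrime p) (LocalizedModule p.primeCompl M) := by
  set A' := Localization S with hA'
  set P : Ideal A' := p.map (algebraMap A A') with hPdef
  have hcomap : P.comap (algebraMap A A') = p :=
    IsLocalization.under_map_of_isPrime_disjoint S _ hp hd
  have hmem : (⟨P, hP⟩ : PrimeSpectrum A') ∈ Module.support A' (LocalizedModule S M) ↔
      (⟨p, hp⟩ : PrimeSpectrum A) ∈ Module.support A M := by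
    rw [mem_support_localized_iff]
    have : PrimeSpectrum.comap (algebraMap A A') ⟨P, hP⟩ = ⟨p, hp⟩ := by
      ext1; exact hcomap
    rw [this]
  by_cases hpM : (⟨p, hp⟩ : PrimeSpectrum A) ∈ Module.support A M
  · have hPM := hmem.mpr hpM
    rw [Groth.Agent.Helper5.RSD.supportDim_localized_eq_height M p hpM,
      Groth.Agent.Helper5.RSD.supportDim_localized_eq_height (LocalizedModule S M) P hPM,
      Order.height_eq_krullDim_Iic, Order.height_eq_krullDim_Iic]
    set p0 : Module.support A M := ⟨⟨p, hp⟩, hpM⟩ with hp0
    set P0 : Module.support A' (LocalizedModule S M) := ⟨⟨P, hP⟩, hPM⟩ with hP0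
    apply le_antisymm
    · refine Order.krullDim_le_of_strictMono
        (fun q => (⟨⟨PrimeSpectrum.comap (algebraMap A A') q.1.1,
          (mem_support_localized_iff S M q.1.1).mp q.1.2⟩, ?_⟩ : Set.Iic p0)) ?_
      · show q.1.1.asIdeal.comap (algebraMap A A') ≤ p
        have h1 : q.1.1.asIdeal ≤ P := q.2
        have h2 := Ideal.comap_mono (f := algebraMap A A') h1
        rwa [hcomap] at h2
      · intro a b hab
        have hab' : a.1.1.asIdeal < b.1.1.asIdeal := hab
        show a.1.1.asIdeal.comap (algebraMap A A') < b.1.1.asIdeal.comap (algebraMap A A')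
        rw [lt_iff_le_not_ge] at hab' ⊢
        constructor
        · exact Ideal.comap_mono hab'.1
        · intro h
          exact hab'.2 ((IsLocalization.under_le_under_iff S A').mp h)
    · have hdisj : ∀ x : Set.Iic p0, Disjoint (S : Set A) (x.1.1.asIdeal : Set A) := by
        intro x
        have hle : x.1.1.asIdeal ≤ p := x.2
        exact Set.disjoint_of_subset_right hle hd
      have hcm : ∀ x : Set.Iic p0, (Ideal.map (algebraMap A A') x.1.1.asIdeal).under A =
          x.1.1.asIdeal := fun x =>
        IsLocalization.under_map_of_isPrime_disjoint S A' x.1.1.2 (hdisj x)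
      refine Order.krullDim_le_of_strictMono
        (fun x => (⟨⟨⟨Ideal.map (algebraMap A A') x.1.1.asIdeal,
          IsLocalization.isPrime_of_isPrime_disjoint S A' _ x.1.1.2 (hdisj x)⟩, ?_⟩, ?_⟩ :
          Set.Iic P0)) ?_
      · rw [mem_support_localized_iff]
        have : PrimeSpectrum.comap (algebraMap A A')
            ⟨Ideal.map (algebraMap A A') x.1.1.asIdeal,
              IsLocalization.isPrime_of_isPrime_disjoint S A' _ x.1.1.2 (hdisj x)⟩ = x.1.1 := by
          ext1
          exact hcm x
        rw [this]
        exact x.1.2
      · show Ideal.map (algebraMap A A') x.1.1.asIdeal ≤ P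
        exact Ideal.map_mono x.2
      · intro a b hab
        have hab' : a.1.1.asIdeal < b.1.1.asIdeal := hab
        show Ideal.map (algebraMap A A') a.1.1.asIdeal <
          Ideal.map (algebraMap A A') b.1.1.asIdeal
        rw [lt_iff_le_not_ge] at hab' ⊢
        constructor
        · exact Ideal.map_mono hab'.1
        · intro h
          apply hab'.2
          have := Ideal.comap_mono (f := algebraMap A A') h
          have e1 := hcm a
          have e2 := hcm b
          rw [Ideal.under_def] at e1 e2
          rwa [e1, e2] at this
  · have hPM : (⟨P, hP⟩ : PrimeSpectrum A') ∉ Module.support A' (LocalizedModule S M) :=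
      fun h => hpM (hmem.mp h)
    rw [Groth.Agent.Helper5.RSD.supportDim_localized_eq_bot M p hpM,
      Groth.Agent.Helper5.RSD.supportDim_localized_eq_bot (LocalizedModule S M) P hPM]

end DL

section Sk

variable {A : Type u} [CommRing A] [IsNoetherianRing A] (S : Submonoid A)
  (M : Type u) [AddCommGroup M] [Module A M] [Module.Finite A M]

/-- the `(S_k)` inequality at a prime of the localization equals the one at its contraction -/
theorem sk_at_localized_iff (k : ℕ) (p : Ideal A) [hp : p.IsPrime]
    (P : Ideal (Localization S)) [hP : P.IsPrime] (hPp : P = p.map (algebraMap A (Localization S)))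
    (hd : Disjoint (S : Set A) (p : Set A)) :
    (min (k : WithBot ℕ∞)
        (Module.supportDim (Localization.AtPrime P)
          (LocalizedModule P.primeCompl (LocalizedModule S M))) ≤
      ((LocCoh.depth (Localization.AtPrime P)
        (LocalizedModule P.primeCompl (LocalizedModule S M)) : ℕ∞) : WithBot ℕ∞)) ↔
    (min (k : WithBot ℕ∞)
        (Module.supportDim (Localization.AtPrime p) (LocalizedModule p.primeCompl M)) ≤
      ((LocCoh.depth (Localization.AtPrime p) (LocalizedModule p.primeCompl M) : ℕ∞) :
        WithBot ℕ∞)) := by
  subst hPp
  rw [supportDim_localized_eq S M p hd, Groth.Agent.Helper2.AdjLoc.depth_localized_eq S p hd M]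

theorem hasSk_localized (k : ℕ) (h : LocCoh.HasSk k A M) :
    LocCoh.HasSk k (Localization S) (LocalizedModule S M) := by
  intro P hP
  have hp : (P.comap (algebraMap A (Localization S))).IsPrime := Ideal.comap_isPrime _ P
  have hPp : P = (P.comap (algebraMap A (Localization S))).map (algebraMap A (Localization S)) :=
    (IsLocalization.map_comap S (Localization S) P).symm
  have hd : Disjoint (S : Set A) (P.comap (algebraMap A (Localization S)) : Set A) :=
    ((IsLocalization.isPrime_iff_isPrime_disjoint S (Localization S) P).mp hP).2
  rw [sk_at_localized_iff S M k (P.comap (algebraMap A (Localization S))) P hPp hd]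
  exact h _

end Sk

end Groth.Agent.Helper2.SkEmb
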