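import Mathlib
import Groth.Prelude
import Groth.Agent.Helper2.NormFlatLoc
import Groth.Agent.Helper6.NormFlatNil
import Groth.Agent.Helper2.SkEmb2
set_option autoImplicit false
universe u

namespace Groth.Agent.Helper2.NFNil

section FlatLoc
variable {A : Type*} [CommRing A] (S : Submonoid A) (A' : Type*) [CommRing A'] [Algebra A A']
  [IsLocalization S A'] (I : Ideal A)
  {P P' : Type*} [AddCommGroup P] [Module A P] [Module (A ⧸ I) P] [IsScalarTower A (A ⧸ I) P]
  [AddCommGroup P'] [Module A P'] [Module A' P'] [IsScalarTower A A' P']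
  [Module (A' ⧸ I.map (algebraMap A A')) P'] [IsScalarTower A' (A' ⧸ I.map (algebraMap A A')) P']

theorem flat_quot_of_isLocalizedModule (φ : P →ₗ[A] P') [hφ : IsLocalizedModule S φ]
    [Module.Flat (A ⧸ I) P] : Module.Flat (A' ⧸ I.map (algebraMap A A')) P' := by
  letI inst1 : Module (A ⧸ I) P' :=
    Module.compHom P' (algebraMap (A ⧸ I) (A' ⧸ I.map (algebraMap A A')))
  have hsm : ∀ (b : A ⧸ I) (y : P'),
      b • y = (algebraMap (A ⧸ I) (A' ⧸ I.map (algebraMap A A')) b) • y := fun _ _ => rfl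
  haveI inst2 : IsScalarTower (A ⧸ I) (A' ⧸ I.map (algebraMap A A')) P' :=
    ⟨fun b b' y => by rw [hsm b (b' • y), Algebra.smul_def, mul_smul]⟩
  have hmk : ∀ (a : A) (y : P'), (Ideal.Quotient.mk I a) • y = a • y := by
    intro a y
    rw [hsm]
    have h1 : algebraMap (A ⧸ I) (A' ⧸ I.map (algebraMap A A')) (Ideal.Quotient.mk I a) =
        Ideal.Quotient.mk (I.map (algebraMap A A')) (algebraMap A A' a) := rfl
    rw [h1]
    have h2 : (Ideal.Quotient.mk (I.map (algebraMap A A')) (algebraMap A A' a)) • y =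
        (algebraMap A A' a) • y := by
      rw [← Ideal.Quotient.algebraMap_eq, algebraMap_smul]
    rw [h2, algebraMap_smul]
  have hmkP : ∀ (a : A) (x : P), (Ideal.Quotient.mk I a) • x = a • x := by
    intro a x
    rw [← Ideal.Quotient.algebraMap_eq, algebraMap_smul]
  let φ' : P →ₗ[A ⧸ I] P' :=
    { toFun := φ
      map_add' := φ.map_add
      map_smul' := by
        intro b x
        obtain ⟨a, rfl⟩ := Ideal.Quotient.mk_surjective b
        simp only [RingHom.id_apply]
        rw [hmkP, hmk, φ.map_smul] }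
  haveI : IsLocalizedModule (Algebra.algebraMapSubmonoid (A ⧸ I) S) φ' := by
    refine ⟨?_, ?_, ?_⟩
    · rintro ⟨x, s, hs, rfl⟩
      rw [Module.End.isUnit_iff]
      have h1 := hφ.map_units ⟨s, hs⟩
      rw [Module.End.isUnit_iff] at h1
      have h2 : ⇑((algebraMap (A ⧸ I) (Module.End (A ⧸ I) P')) ((algebraMap A (A ⧸ I)) s)) =
          ⇑((algebraMap A (Module.End A P')) s) := by
        funext y
        show (algebraMap A (A ⧸ I) s) • y = s • y
        rw [Ideal.Quotient.algebraMap_eq, hmk]
      rw [h2]; exact h1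
    · intro y
      obtain ⟨⟨x, s⟩, hx⟩ := hφ.surj y
      refine ⟨(x, ⟨algebraMap A (A ⧸ I) s.1, s.1, s.2, rfl⟩), ?_⟩
      show (algebraMap A (A ⧸ I) s.1) • y = φ x
      rw [Ideal.Quotient.algebraMap_eq, hmk]
      exact hx
    · intro x₁ x₂ h
      obtain ⟨c, hc⟩ := hφ.exists_of_eq (show φ x₁ = φ x₂ from h)
      refine ⟨⟨algebraMap A (A ⧸ I) c.1, c.1, c.2, rfl⟩, ?_⟩
      show (algebraMap A (A ⧸ I) c.1) • x₁ = (algebraMap A (A ⧸ I) c.1) • x₂
      rw [Ideal.Quotient.algebraMap_eq, hmkP, hmkP]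
      exact hc
  exact Module.Flat.of_isLocalizedModule (A' ⧸ I.map (algebraMap A A'))
    (Algebra.algebraMapSubmonoid (A ⧸ I) S) φ'

end FlatLoc


section NF
variable {A : Type u} [CommRing A] (I : Ideal A) (M : Type u) [AddCommGroup M] [Module A M]

theorem normallyFlat_localized (S : Submonoid A) (hM : EGA4.IsNormallyFlat I M) :
    EGA4.IsNormallyFlat (I.map (algebraMap A (Localization S))) (LocalizedModule S M) := by
  intro n
  obtain ⟨φ, hφ⟩ := NormFlatLoc.exists_isLocalizedModule_piece S (Localization S)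
    (LocalizedModule.mkLinearMap S M) I n
  haveI := hM n
  exact flat_quot_of_isLocalizedModule S (Localization S) I φ


theorem isNilpotent_map {B : Type*} [CommRing B] (f : A →+* B) (hI : IsNilpotent I) :
    IsNilpotent (I.map f) := by
  obtain ⟨k, hk⟩ := hI
  refine ⟨k, ?_⟩
  rw [← Ideal.map_pow, hk]
  exact Ideal.map_bot

theorem le_prime_of_isNilpotent (hI : IsNilpotent I) (q : Ideal A) [hq : q.IsPrime] : I ≤ q := by
  obtain ⟨k, hk⟩ := hI
  intro x hx
  apply hq.mem_of_pow_mem k
  have : x ^ k ∈ I ^ k := Ideal.pow_mem_pow hx k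
  rw [hk] at this
  rw [(Ideal.mem_bot).mp this]
  exact q.zero_mem

theorem key [IsNoetherianRing A] [Module.Finite A M] (hI : IsNilpotent I)
    (hM : EGA4.IsNormallyFlat I M) (q : Ideal A) [hq : q.IsPrime]
    (hsupp : (⟨q, hq⟩ : PrimeSpectrum A) ∈ Module.support A M) :
    Module.supportDim (Localization.AtPrime q) (LocalizedModule q.primeCompl M) =
      ringKrullDim (Localization.AtPrime q ⧸ I.map (algebraMap A (Localization.AtPrime q))) ∧
    LocCoh.depth (Localization.AtPrime q) (LocalizedModule q.primeCompl M) =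
      LocCoh.depth (Localization.AtPrime q)
        (Localization.AtPrime q ⧸ I.map (algebraMap A (Localization.AtPrime q))) := by
  haveI : Nontrivial (LocalizedModule q.primeCompl M) := (Module.mem_support_iff).mp hsupp
  haveI : Module.Finite (Localization.AtPrime q) (LocalizedModule q.primeCompl M) :=
    Module.Finite.of_isLocalizedModule q.primeCompl (LocalizedModule.mkLinearMap q.primeCompl M)
  have hnil : IsNilpotent (I.map (algebraMap A (Localization.AtPrime q))) := isNilpotent_map I _ hI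
  exact Helper6.NormFlatNil.main _ _ hnil (normallyFlat_localized I M q.primeCompl hM)

theorem smul_eq_zero_quot (a : A) (ha : a ∈ I) (y : A ⧸ I) : a • y = 0 := by
  obtain ⟨b, rfl⟩ := Ideal.Quotient.mk_surjective y
  rw [← Ideal.Quotient.mk_eq_mk, ← Submodule.Quotient.mk_smul, Ideal.Quotient.mk_eq_mk,
    Ideal.Quotient.eq_zero_iff_mem, smul_eq_mul]
  exact I.mul_mem_right b ha

theorem normallyFlat_quot : EGA4.IsNormallyFlat I (A ⧸ I) := by
  intro n
  rcases Nat.eq_zero_or_pos n with rfl | hn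
  · -- the piece is `A/I`
    have h1 : (Ideal.Quotient.mk I 1 : A ⧸ I) ∈ I ^ 0 • (⊤ : Submodule A (A ⧸ I)) := by
      rw [pow_zero, Ideal.one_eq_top, Submodule.top_smul]; trivial
    have hT : (I • (⊤ : Submodule A ↥(I ^ 0 • (⊤ : Submodule A (A ⧸ I))))) = ⊥ := by
      rw [eq_bot_iff]
      intro x hx
      refine Submodule.smul_induction_on hx ?_ ?_
      · intro a ha y _
        rw [Submodule.mem_bot]
        apply Subtype.ext
        rw [Submodule.coe_smul, Submodule.coe_zero]
        exact smul_eq_zero_quot I a ha _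
      · intro x y hx hy
        exact Submodule.add_mem _ hx hy
    let g : (A ⧸ I) →ₗ[A ⧸ I]
        (↥(I ^ 0 • (⊤ : Submodule A (A ⧸ I))) ⧸
          (I • (⊤ : Submodule A ↥(I ^ 0 • (⊤ : Submodule A (A ⧸ I)))))) :=
      LinearMap.toSpanSingleton (A ⧸ I) _ (Submodule.Quotient.mk ⟨Ideal.Quotient.mk I 1, h1⟩)
    have hg : ∀ a : A, g (Ideal.Quotient.mk I a) =
        Submodule.Quotient.mk ⟨Ideal.Quotient.mk I a,
          by rw [pow_zero, Ideal.one_eq_top, Submodule.top_smul]; trivial⟩ := by
      intro a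
      show (Ideal.Quotient.mk I a) • (Submodule.Quotient.mk
        (⟨Ideal.Quotient.mk I 1, h1⟩ : ↥(I ^ 0 • (⊤ : Submodule A (A ⧸ I)))) :
          ↥(I ^ 0 • (⊤ : Submodule A (A ⧸ I))) ⧸
          (I • (⊤ : Submodule A ↥(I ^ 0 • (⊤ : Submodule A (A ⧸ I)))))) = _
      have hsm : ∀ (z : ↥(I ^ 0 • (⊤ : Submodule A (A ⧸ I))) ⧸
          (I • (⊤ : Submodule A ↥(I ^ 0 • (⊤ : Submodule A (A ⧸ I)))))),
          (Ideal.Quotient.mk I a) • z = a • z := by
        intro z
        rw [← Ideal.Quotient.algebraMap_eq, algebraMap_smul]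
      rw [hsm, ← Submodule.Quotient.mk_smul]
      congr 1
      apply Subtype.ext
      rw [Submodule.coe_smul]
      show a • (Ideal.Quotient.mk I 1) = Ideal.Quotient.mk I a
      rw [← Ideal.Quotient.mk_eq_mk, ← Submodule.Quotient.mk_smul, smul_eq_mul, mul_one]
      rfl
    have hbij : Function.Bijective g := by
      constructor
      · rw [injective_iff_map_eq_zero]
        intro b hb
        obtain ⟨a, rfl⟩ := Ideal.Quotient.mk_surjective b
        rw [hg, Submodule.Quotient.mk_eq_zero, hT, Submodule.mem_bot] at hb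
        exact congrArg Subtype.val hb
      · intro z
        obtain ⟨⟨y, hy⟩, rfl⟩ := Submodule.Quotient.mk_surjective _ z
        obtain ⟨a, rfl⟩ := Ideal.Quotient.mk_surjective y
        exact ⟨Ideal.Quotient.mk I a, hg a⟩
    exact Module.Flat.of_linearEquiv (LinearEquiv.ofBijective g hbij).symm
  · haveI : Subsingleton ↥(I ^ n • (⊤ : Submodule A (A ⧸ I))) := by
      refine ⟨fun x y => ?_⟩
      have h0 : ∀ z : ↥(I ^ n • (⊤ : Submodule A (A ⧸ I))), z = 0 := by
        rintro ⟨z, hz⟩
        apply Subtype.ext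
        show z = 0
        refine Submodule.smul_induction_on hz ?_ ?_
        · intro a ha y _
          exact smul_eq_zero_quot I a (Ideal.pow_le_self (Nat.pos_iff_ne_zero.mp hn) ha) y
        · intro x y hx hy
          rw [hx, hy, add_zero]
      rw [h0 x, h0 y]
    infer_instance

theorem support_quot_eq_univ [IsNoetherianRing A] (hI : IsNilpotent I) :
    Module.support A (A ⧸ I) = Set.univ := by
  rw [Set.eq_univ_iff_forall]
  intro q
  rw [Module.mem_support_iff_of_finite, Ideal.annihilator_quotient]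
  exact le_prime_of_isNilpotent I hI q.asIdeal

end NF

end Groth.Agent.Helper2.NFNil
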