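import Mathlib
import Groth.Prelude
import Groth.Agent.Helper2.NFNil1
set_option autoImplicit false
universe u

namespace Groth.Agent.Helper2.NFNil

variable {A : Type u} [CommRing A] [IsNoetherianRing A] (I : Ideal A)
  (M : Type u) [AddCommGroup M] [Module A M] [Module.Finite A M]

theorem dim_depth_eq (hI : IsNilpotent I) (hsupp : Module.support A M = Set.univ)
    (hM : EGA4.IsNormallyFlat I M) (q : Ideal A) [hq : q.IsPrime] :
    Module.supportDim (Localization.AtPrime q) (LocalizedModule q.primeCompl M) =
      Module.supportDim (Localization.AtPrime q) (LocalizedModule q.primeCompl (A ⧸ I)) ∧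
    LocCoh.depth (Localization.AtPrime q) (LocalizedModule q.primeCompl M) =
      LocCoh.depth (Localization.AtPrime q) (LocalizedModule q.primeCompl (A ⧸ I)) := by
  have h1 := key I M hI hM q (by rw [hsupp]; trivial)
  have h2 := key I (A ⧸ I) hI (normallyFlat_quot I) q (by rw [support_quot_eq_univ I hI]; trivial)
  exact ⟨h1.1.trans h2.1.symm, h1.2.trans h2.2.symm⟩

theorem main (n : ℕ) (hI : IsNilpotent I) (hsupp : Module.support A M = Set.univ)
    (hM : EGA4.IsNormallyFlat I M) (p : Ideal A) [p.IsPrime] :
    (EGA4.HasSkAt n A M p ↔ EGA4.HasSkAt n A (A ⧸ I) p) ∧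
      (Module.supportDim (Localization.AtPrime p) (LocalizedModule p.primeCompl M) ≤
          ((LocCoh.depth (Localization.AtPrime p) (LocalizedModule p.primeCompl M) : ℕ∞) : WithBot ℕ∞) + n ↔
        Module.supportDim (Localization.AtPrime p) (LocalizedModule p.primeCompl (A ⧸ I)) ≤
          ((LocCoh.depth (Localization.AtPrime p) (LocalizedModule p.primeCompl (A ⧸ I)) : ℕ∞) : WithBot ℕ∞) + n) := by
  constructor
  · have hiff : ∀ (P : Ideal (Localization.AtPrime p)) [P.IsPrime],
        (min (n : WithBot ℕ∞)
          (Module.supportDim (Localization.AtPrime P)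
            (LocalizedModule P.primeCompl (LocalizedModule p.primeCompl M))) ≤
        ((LocCoh.depth (Localization.AtPrime P)
          (LocalizedModule P.primeCompl (LocalizedModule p.primeCompl M)) : ℕ∞) : WithBot ℕ∞)) ↔
        (min (n : WithBot ℕ∞)
          (Module.supportDim (Localization.AtPrime P)
            (LocalizedModule P.primeCompl (LocalizedModule p.primeCompl (A ⧸ I)))) ≤
        ((LocCoh.depth (Localization.AtPrime P)
          (LocalizedModule P.primeCompl (LocalizedModule p.primeCompl (A ⧸ I))) : ℕ∞) : WithBot ℕ∞)) := by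
      intro P hP
      have hq : (P.comap (algebraMap A (Localization.AtPrime p))).IsPrime := Ideal.comap_isPrime _ P
      have hPp : P = (P.comap (algebraMap A (Localization.AtPrime p))).map
          (algebraMap A (Localization.AtPrime p)) :=
        (IsLocalization.map_comap p.primeCompl (Localization.AtPrime p) P).symm
      have hd : Disjoint (p.primeCompl : Set A)
          (P.comap (algebraMap A (Localization.AtPrime p)) : Set A) :=
        ((IsLocalization.isPrime_iff_isPrime_disjoint p.primeCompl (Localization.AtPrime p) P).mp hP).2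
      rw [SkEmb.sk_at_localized_iff p.primeCompl M n _ P hPp hd,
        SkEmb.sk_at_localized_iff p.primeCompl (A ⧸ I) n _ P hPp hd]
      obtain ⟨e1, e2⟩ := dim_depth_eq I M hI hsupp hM (P.comap (algebraMap A (Localization.AtPrime p)))
      rw [e1, e2]
    constructor
    · intro h P hP
      exact (hiff P).mp (h P)
    · intro h P hP
      exact (hiff P).mpr (h P)
  · obtain ⟨e1, e2⟩ := dim_depth_eq I M hI hsupp hM p
    rw [e1, e2]

end Groth.Agent.Helper2.NFNil
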