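import Mathlib

set_option autoImplicit false
universe u
open RingTheory.Sequence Function

namespace Groth.Agent.Helper2.NFlatReg

section ext
variable {R : Type*} [CommRing R]

/-- Weak regularity is stable under extensions. -/
theorem isWeaklyRegular_of_exact {rs : List R} :
    ∀ {N' N N'' : Type u} [AddCommGroup N'] [AddCommGroup N] [AddCommGroup N''] [Module R N']
      [Module R N] [Module R N''] (f : N' →ₗ[R] N) (g : N →ₗ[R] N'') (_ : Injective f)
      (_ : Surjective g) (_ : Exact f g), IsWeaklyRegular N' rs → IsWeaklyRegular N'' rs →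
      IsWeaklyRegular N rs := by
  induction rs with
  | nil => intros; exact IsWeaklyRegular.nil _ _
  | cons r rs ih =>
    intro N' N N'' _ _ _ _ _ _ f g hf hg hfg h' h''
    rw [isWeaklyRegular_cons_iff] at h' h'' ⊢
    refine ⟨isSMulRegular_of_range_eq_ker hf hfg.linearMap_ker_eq.symm h'.1 h''.1, ?_⟩
    refine ih (QuotSMulTop.map r f) (QuotSMulTop.map r g) ?_ (QuotSMulTop.map_surjective r hg)
      (QuotSMulTop.map_exact r hfg hg) h'.2 h''.2
    -- injectivity
    have h0 : Exact (0 : PUnit.{u+1} →ₗ[R] N') f := by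
      intro x
      constructor
      · intro hx
        exact ⟨0, by rw [LinearMap.zero_apply]; exact (hf (by rw [hx, map_zero])).symm⟩
      · rintro ⟨y, rfl⟩
        simp
    have h1 := QuotSMulTop.map_first_exact_on_four_term_exact_of_isSMulRegular_last h0 hfg h''.1
    rw [injective_iff_map_eq_zero]
    intro x hx
    obtain ⟨y, rfl⟩ := (h1 x).1 hx
    have : y = 0 := Subsingleton.elim _ _
    rw [this, map_zero]

end ext

section krull
variable {A : Type u} [CommRing A]

lemma map_mem_smul_top {M N : Type*} [AddCommGroup M] [Module A M] [AddCommGroup N] [Module A N]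
    (I : Ideal A) (g : M →ₗ[A] N) {x : M} (hx : x ∈ I • (⊤ : Submodule A M)) :
    g x ∈ I • (⊤ : Submodule A N) := by
  have : (I • (⊤ : Submodule A M)).map g ≤ I • (⊤ : Submodule A N) := by
    rw [Submodule.map_smul'']
    exact Submodule.smul_mono le_rfl le_top
  exact this (Submodule.mem_map_of_mem hx)

lemma exists_of_mkQ_mem_smul_top {N : Type*} [AddCommGroup N] [Module A N] (I : Ideal A)
    (S : Submodule A N) {x : N} (hx : S.mkQ x ∈ I • (⊤ : Submodule A (N ⧸ S))) :
    ∃ y ∈ I • (⊤ : Submodule A N), x - y ∈ S := by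
  have h1 : I • (⊤ : Submodule A (N ⧸ S)) = (I • (⊤ : Submodule A N)).map S.mkQ := by
    rw [Submodule.map_smul'', Submodule.map_top, Submodule.range_mkQ]
  rw [h1] at hx
  obtain ⟨y, hy, hyx⟩ := hx
  refine ⟨y, hy, ?_⟩
  rw [← Submodule.Quotient.mk_eq_zero, Submodule.Quotient.mk_sub]
  show S.mkQ x - S.mkQ y = 0
  rw [hyx, sub_self]

/-- Weak regularity can be tested modulo all powers of a proper ideal (Noetherian local ring,
finite module). -/
theorem isWeaklyRegular_of_forall_quot [IsLocalRing A] [IsNoetherianRing A]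
    (J : Ideal A) (hJ : J ≠ ⊤) (N : Type u) [AddCommGroup N] [Module A N] [Module.Finite A N]
    (fs : List A)
    (h : ∀ n : ℕ, IsWeaklyRegular (N ⧸ (J ^ n • (⊤ : Submodule A N))) fs) :
    IsWeaklyRegular N fs := by
  rw [isWeaklyRegular_iff]
  intro i hi
  set I : Ideal A := Ideal.ofList (fs.take i) with hI
  rw [isSMulRegular_quotient_iff_mem_of_smul_mem]
  intro x hx
  have key : ∀ n : ℕ, (I • (⊤ : Submodule A N)).mkQ x ∈
      J ^ n • (⊤ : Submodule A (N ⧸ I • (⊤ : Submodule A N))) := by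
    intro n
    have hn := ((isWeaklyRegular_iff _ _).1 (h n)) i hi
    rw [isSMulRegular_quotient_iff_mem_of_smul_mem] at hn
    have h1 : fs[i] • (J ^ n • (⊤ : Submodule A N)).mkQ x ∈
        I • (⊤ : Submodule A (N ⧸ J ^ n • (⊤ : Submodule A N))) := by
      rw [← map_smul]
      exact map_mem_smul_top I _ hx
    have h2 := hn _ h1
    obtain ⟨y, hy, hxy⟩ := exists_of_mkQ_mem_smul_top I _ h2
    have h3 : (I • (⊤ : Submodule A N)).mkQ x = (I • (⊤ : Submodule A N)).mkQ (x - y) := by
      have hy0 : (I • (⊤ : Submodule A N)).mkQ y = 0 := (Submodule.Quotient.mk_eq_zero _).2 hy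
      rw [map_sub, hy0, sub_zero]
    rw [h3]
    exact map_mem_smul_top (J ^ n) _ hxy
  have h4 : (I • (⊤ : Submodule A N)).mkQ x ∈
      ⨅ n : ℕ, J ^ n • (⊤ : Submodule A (N ⧸ I • (⊤ : Submodule A N))) := by
    rw [Submodule.mem_iInf]
    exact key
  rw [Ideal.iInf_pow_smul_eq_bot_of_isLocalRing J hJ] at h4
  exact (Submodule.Quotient.mk_eq_zero _).1 h4

end krull

section main
variable {A : Type u} [CommRing A]

lemma isWeaklyRegular_of_subsingleton (M : Type*) [AddCommGroup M] [Module A M] [Subsingleton M]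
    (fs : List A) : IsWeaklyRegular M fs := by
  rw [isWeaklyRegular_iff]
  intro i hi
  exact Function.injective_of_subsingleton _

theorem isWeaklyRegular_flat_quot (J : Ideal A) (P : Type u) [AddCommGroup P] [Module A P]
    [Module (A ⧸ J) P] [IsScalarTower A (A ⧸ J) P] [Module.Flat (A ⧸ J) P] (fs : List A)
    (hreg : IsWeaklyRegular (A ⧸ J) fs) : IsWeaklyRegular P fs := by
  have h1 : IsWeaklyRegular (A ⧸ J) (fs.map (algebraMap A (A ⧸ J))) :=
    (isWeaklyRegular_map_algebraMap_iff (A ⧸ J) (A ⧸ J) fs).2 hreg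
  have h2 : IsWeaklyRegular (TensorProduct (A ⧸ J) P (A ⧸ J)) (fs.map (algebraMap A (A ⧸ J))) :=
    h1.isWeaklyRegular_lTensor (M₂ := P)
  have h3 := ((TensorProduct.rid (A ⧸ J) P).isWeaklyRegular_congr _).1 h2
  exact (isWeaklyRegular_map_algebraMap_iff (A ⧸ J) P fs).1 h3

lemma mem_pow_smul_top_iff (J : Ideal A) (k n : ℕ) (x : ↥(J ^ k)) :
    x ∈ J ^ n • (⊤ : Submodule A ↥(J ^ k)) ↔ (x : A) ∈ J ^ (n + k) := by
  have h1 : (J ^ n • (⊤ : Submodule A ↥(J ^ k))).map (Submodule.subtype (J ^ k)) = J ^ (n + k) := by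
    rw [Submodule.map_smul'', Submodule.map_top, Submodule.range_subtype, smul_eq_mul, pow_add]
  rw [← h1]
  constructor
  · intro hx
    exact Submodule.mem_map_of_mem hx
  · rintro ⟨y, hy, hyx⟩
    have : y = x := Subtype.ext hyx
    rwa [← this]

variable [IsLocalRing A] [IsNoetherianRing A]

theorem main (J : Ideal A) (hJ : J ≠ ⊤)
    (hflat : ∀ k : ℕ, Module.Flat (A ⧸ J) (↥(J ^ k) ⧸ (J • (⊤ : Submodule A ↥(J ^ k)))))
    (fs : List A) (hreg : IsWeaklyRegular (A ⧸ J) fs) (k : ℕ) :
    IsWeaklyRegular (↥(J ^ k)) fs ∧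
      IsWeaklyRegular (↥(J ^ k) ⧸ (J • (⊤ : Submodule A ↥(J ^ k)))) fs := by
  have hQ : ∀ k : ℕ, IsWeaklyRegular (↥(J ^ k) ⧸ (J • (⊤ : Submodule A ↥(J ^ k)))) fs := by
    intro k
    haveI := hflat k
    exact isWeaklyRegular_flat_quot J _ fs hreg
  refine ⟨?_, hQ k⟩
  have hW : ∀ n k : ℕ, IsWeaklyRegular (↥(J ^ k) ⧸ (J ^ n • (⊤ : Submodule A ↥(J ^ k)))) fs := by
    intro n
    induction n with
    | zero =>
      intro k
      haveI : Subsingleton (↥(J ^ k) ⧸ (J ^ 0 • (⊤ : Submodule A ↥(J ^ k)))) := by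
        rw [pow_zero, Ideal.one_eq_top, Submodule.top_smul]
        exact Submodule.Quotient.subsingleton_iff.2 rfl
      exact isWeaklyRegular_of_subsingleton _ fs
    | succ n ih =>
      intro k
      let ι : ↥(J ^ (k + 1)) →ₗ[A] ↥(J ^ k) :=
        Submodule.inclusion (Ideal.pow_le_pow_right (Nat.le_succ k))
      have hι : ∀ z : ↥(J ^ (k + 1)), ((ι z : ↥(J ^ k)) : A) = (z : A) := fun z => rfl
      have hle : J ^ n • (⊤ : Submodule A ↥(J ^ (k + 1))) ≤
          (J ^ (n + 1) • (⊤ : Submodule A ↥(J ^ k))).comap ι := by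
        intro z hz
        rw [Submodule.mem_comap, mem_pow_smul_top_iff, hι]
        rw [mem_pow_smul_top_iff] at hz
        have : n + 1 + k = n + (k + 1) := by ring
        rwa [this]
      have hle' : J ^ (n + 1) • (⊤ : Submodule A ↥(J ^ k)) ≤
          (J • (⊤ : Submodule A ↥(J ^ k))).comap LinearMap.id := by
        intro z hz
        rw [Submodule.mem_comap, LinearMap.id_apply]
        have h1 : z ∈ J ^ 1 • (⊤ : Submodule A ↥(J ^ k)) := by
          rw [mem_pow_smul_top_iff] at hz ⊢
          exact Ideal.pow_le_pow_right (by omega) hz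
        rwa [pow_one] at h1
      let f := Submodule.mapQ _ _ ι hle
      let g := Submodule.mapQ _ _ LinearMap.id hle'
      refine isWeaklyRegular_of_exact f g ?_ ?_ ?_ (ih (k + 1)) (hQ k)
      · rw [injective_iff_map_eq_zero]
        intro y hy
        obtain ⟨z, rfl⟩ := Submodule.Quotient.mk_surjective _ y
        rw [Submodule.Quotient.mk_eq_zero, mem_pow_smul_top_iff]
        have h1 : ι z ∈ J ^ (n + 1) • (⊤ : Submodule A ↥(J ^ k)) :=
          (Submodule.Quotient.mk_eq_zero _).1 hy
        rw [mem_pow_smul_top_iff, hι] at h1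
        have : n + 1 + k = n + (k + 1) := by ring
        rwa [← this]
      · intro y
        obtain ⟨z, rfl⟩ := Submodule.Quotient.mk_surjective _ y
        exact ⟨Submodule.Quotient.mk z, rfl⟩
      · intro y
        obtain ⟨x, rfl⟩ := Submodule.Quotient.mk_surjective _ y
        constructor
        · intro hx
          have h1 : x ∈ J • (⊤ : Submodule A ↥(J ^ k)) := (Submodule.Quotient.mk_eq_zero _).1 hx
          have h2 : x ∈ J ^ 1 • (⊤ : Submodule A ↥(J ^ k)) := by rwa [pow_one]
          rw [mem_pow_smul_top_iff] at h2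
          have h3 : (x : A) ∈ J ^ (k + 1) := by rwa [add_comm] at h2
          refine ⟨Submodule.Quotient.mk ⟨(x : A), h3⟩, ?_⟩
          show Submodule.Quotient.mk (ι ⟨(x : A), h3⟩) = Submodule.Quotient.mk x
          congr 1
        · rintro ⟨z, hz⟩
          rw [← hz]
          obtain ⟨z, rfl⟩ := Submodule.Quotient.mk_surjective _ z
          show Submodule.Quotient.mk (ι z) = 0
          rw [Submodule.Quotient.mk_eq_zero]
          have h2 : ι z ∈ J ^ 1 • (⊤ : Submodule A ↥(J ^ k)) := by
            rw [mem_pow_smul_top_iff, hι, add_comm]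
            exact z.2
          rwa [pow_one] at h2
  exact isWeaklyRegular_of_forall_quot J hJ _ fs fun n => hW n k

end main

end Groth.Agent.Helper2.NFlatReg
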