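import Mathlib
import Groth.Prelude
import Groth.Agent.Helper2.IndEtFib
import Groth.Agent.Helper2.IndEtDesc
set_option autoImplicit false
universe u
open CategoryTheory CategoryTheory.Limits TensorProduct

namespace Groth.Agent.Helper2.NLHensA

open Groth.Agent.Helper2.IndEtFib Groth.Agent.Helper2

/-- an ind-étale algebra is formally étale -/
theorem formallyEtale_of_isIndEtale {A B : Type u} [CommRing A] [CommRing B] [Algebra A B]
    (h : EtPBC.IsIndEtale A B) : Algebra.FormallyEtale A B := by
  obtain ⟨S⟩ := IndEtFib.nonempty_sys h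
  rw [Algebra.FormallyEtale.iff_comp_bijective]
  intro T _ _ I hI
  have hj := fun j => (Algebra.FormallyEtale.comp_bijective A (S.R j) I hI)
  constructor
  · intro Ψ Ψ' hΨ
    apply IndEtDesc.hom_ext S
    intro j x
    have : Ψ.comp (S.φ j) = Ψ'.comp (S.φ j) := by
      apply (hj j).injective
      change (Ideal.Quotient.mkₐ A I).comp (Ψ.comp (S.φ j)) =
        (Ideal.Quotient.mkₐ A I).comp (Ψ'.comp (S.φ j))
      rw [← AlgHom.comp_assoc, ← AlgHom.comp_assoc]
      exact congrArg (fun k => k.comp (S.φ j)) hΨ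
    exact AlgHom.congr_fun this x
  · intro g
    choose ψ hψ using fun j => (hj j).surjective (g.comp (S.φ j))
    have hcompat : ∀ {i j : S.J} (f : i ⟶ j) (x : S.R i), ψ j (S.t f x) = ψ i x := by
      intro i j f x
      have : (ψ j).comp (S.t f) = ψ i := by
        apply (hj i).injective
        change (Ideal.Quotient.mkₐ A I).comp ((ψ j).comp (S.t f)) =
          (Ideal.Quotient.mkₐ A I).comp (ψ i)
        rw [hψ i, ← AlgHom.comp_assoc, hψ j, AlgHom.comp_assoc]
        congr 1
        ext x
        exact S.hφ f x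
      exact AlgHom.congr_fun this x
    obtain ⟨Ψ, hΨ⟩ := IndEtDesc.exists_desc S ψ hcompat
    refine ⟨Ψ, ?_⟩
    apply IndEtDesc.hom_ext S
    intro j x
    change Ideal.Quotient.mkₐ A I (Ψ (S.φ j x)) = g (S.φ j x)
    rw [hΨ]
    exact AlgHom.congr_fun (hψ j) x

end Groth.Agent.Helper2.NLHensA
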