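import Mathlib
import Groth.Prelude.Def_SheafNL
import Groth.Agent.Helper3.NLA

set_option autoImplicit false
set_option linter.style.haveILetI false
set_option linter.unusedSectionVars false
set_option linter.unusedVariables false

universe u

open CategoryTheory CategoryTheory.Limits TensorProduct Algebra HomologicalComplex

namespace Groth.Agent.Helper2.NLHensB

open Groth.Agent.Helper3.NLA

section Gen
variable {C : Type*} [Category C] [Abelian C] {ι : Type*} {c : ComplexShape ι}
  {K L : HomologicalComplex C c}

theorem quasiIso_of_homotopy {φ ψ : K ⟶ L} (h : Homotopy φ ψ) (hψ : QuasiIso ψ) : QuasiIso φ := by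
  rw [quasiIso_iff] at hψ ⊢
  intro i
  have := hψ i
  rw [quasiIsoAt_iff_isIso_homologyMap] at this ⊢
  rw [h.homologyMap_eq i]
  exact this

end Gen

section Smooth

variable {R S : Type u} [CommRing R] [CommRing S] [Algebra R S]

theorem isIso_map_of_bijective {R' : Type u} [CommRing R'] [Algebra R' S] [Algebra R R']
    [IsScalarTower R R' S] {P : Extension.{u} R S} {P' : Extension.{u} R' S} (f : P.Hom P')
    (h0 : Function.Bijective (Extension.Cotangent.map f))
    (h1 : Function.Bijective (Extension.CotangentSpace.map f)) :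
    IsIso (NLCx.map f) := by
  have i0 : IsIso (ModuleCat.ofHom (Extension.Cotangent.map f)) := by
    rw [ConcreteCategory.isIso_iff_bijective]
    exact h0
  have i1 : IsIso (ModuleCat.ofHom (Extension.CotangentSpace.map f)) := by
    rw [ConcreteCategory.isIso_iff_bijective]
    exact h1
  apply (config := { allowSynthFailures := true }) HomologicalComplex.Hom.isIso_of_components
  intro i
  by_cases hi0 : i = -1
  · subst hi0
    dsimp only [NLCx.map]
    rw [HomologicalComplex.mkHomFromDouble_f₀]
    refine @IsIso.comp_isIso _ _ _ _ _ _ _ inferInstance ?_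
    refine @IsIso.comp_isIso _ _ _ _ _ _ _ ?_ inferInstance
    exact i0
  · by_cases hi1 : i = 0
    · subst hi1
      dsimp only [NLCx.map]
      rw [HomologicalComplex.mkHomFromDouble_f₁]
      refine @IsIso.comp_isIso _ _ _ _ _ _ _ inferInstance ?_
      refine @IsIso.comp_isIso _ _ _ _ _ _ _ ?_ inferInstance
      exact i1
    · exact ⟨0, (isZero_cx_X P i hi0 hi1).eq_of_src _ _, (isZero_cx_X P' i hi0 hi1).eq_of_src _ _⟩

/-- a morphism between extensions with formally smooth rings induces a quasi-isomorphism of
naive cotangent complexes. -/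
theorem quasiIso_map_of_formallySmooth {P₁ P₂ : Extension.{u} R S}
    [Algebra.FormallySmooth R P₁.Ring] [Algebra.FormallySmooth R P₂.Ring] (g : P₁.Hom P₂) :
    QuasiIso (NLCx.map g) := by
  haveI i₁ : IsIso (NLCx.map P₁.toInfinitesimal) :=
    isIso_map_of_bijective _ (Extension.Cotangent.map_toInfinitesimal_bijective P₁)
      (Extension.CotangentSpace.map_toInfinitesimal_bijective P₁)
  haveI i₂ : IsIso (NLCx.map P₂.toInfinitesimal) :=
    isIso_map_of_bijective _ (Extension.Cotangent.map_toInfinitesimal_bijective P₂)
      (Extension.CotangentSpace.map_toInfinitesimal_bijective P₂)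
  let e := homotopyEquiv (P₁.homInfinitesimal P₂) (P₂.homInfinitesimal P₁)
  haveI : QuasiIso e.hom := inferInstance
  have hq : QuasiIso (NLCx.map P₁.toInfinitesimal ≫ e.hom) := inferInstance
  have hh : Homotopy (NLCx.map g ≫ NLCx.map P₂.toInfinitesimal)
      (NLCx.map P₁.toInfinitesimal ≫ e.hom) := by
    change Homotopy (NLCx.map g ≫ NLCx.map P₂.toInfinitesimal)
      (NLCx.map P₁.toInfinitesimal ≫ NLCx.map (P₁.homInfinitesimal P₂))
    rw [← Groth.Agent.Helper3.NLA.map_comp, ← Groth.Agent.Helper3.NLA.map_comp]
    exact mapHomotopy _ _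
  have h3 : QuasiIso (NLCx.map g ≫ NLCx.map P₂.toInfinitesimal) := quasiIso_of_homotopy hh hq
  exact quasiIso_of_comp_right (NLCx.map g) (NLCx.map P₂.toInfinitesimal)

end Smooth

end Groth.Agent.Helper2.NLHensB
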