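import Mathlib
import Groth.Prelude.Def_SheafNL
import Groth.Agent.Helper3.NLA

set_option autoImplicit false
set_option linter.style.haveILetI false
set_option linter.unusedSectionVars false
set_option linter.unusedVariables false

universe u

open CategoryTheory CategoryTheory.Limits TensorProduct Algebra HomologicalComplex

namespace Groth.Agent.Helper2.NLHensC

open Groth.Agent.Helper3.NLA

section MixedMap

variable {R S R' : Type u} [CommRing R] [CommRing S] [CommRing R'] [Algebra R S] [Algebra R' S]
  [Algebra R R'] [IsScalarTower R R' S]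
  {P : Extension.{u} R S} {P' : Extension.{u} R' S}

lemma map_f₀' (f : P.Hom P') : (NLCx.map f).f (-1) =
    (cxIso₀ P).hom ≫ ModuleCat.ofHom (Extension.Cotangent.map f) ≫ (cxIso₀ P').inv := by
  dsimp only [NLCx.map]
  rw [mkHomFromDouble_f₀]
  rfl

lemma map_f₁' (f : P.Hom P') : (NLCx.map f).f 0 =
    (cxIso₁ P).hom ≫ ModuleCat.ofHom (Extension.CotangentSpace.map f) ≫ (cxIso₁ P').inv := by
  dsimp only [NLCx.map]
  rw [mkHomFromDouble_f₁]
  rfl

end MixedMap

section MixedComp

variable {R S R₁ R' S' : Type u} [CommRing R] [CommRing S] [CommRing R₁] [CommRing R'] [CommRing S']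
  [Algebra R S] [Algebra R₁ S'] [Algebra R' S']
  [Algebra R R₁] [Algebra R₁ R'] [Algebra R R'] [IsScalarTower R R₁ R']
  [Algebra S S'] [Algebra R S'] [IsScalarTower R R₁ S'] [IsScalarTower R S S']
  [IsScalarTower R R' S'] [IsScalarTower R₁ R' S']
  {P : Extension.{u} R S} {P' : Extension.{u} R₁ S'} {P'' : Extension.{u} R' S'}

lemma bcMap_comp' (f : P.Hom P') (g : P'.Hom P'') :
    NLCx.bcMap (g.comp f) = NLCx.bcMap f ≫ NLCx.map g := by
  apply bcCx_hom_ext
  · rw [HomologicalComplex.comp_f, bcMap_f₀, bcMap_f₀, map_f₀']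
    simp only [Category.assoc, Iso.inv_hom_id_assoc]
    congr 1
    rw [← Category.assoc, ← ModuleCat.ofHom_comp]
    congr 2
    ext x
    change LinearMap.liftBaseChange S' (Extension.Cotangent.map (g.comp f)) (1 ⊗ₜ x) =
      Extension.Cotangent.map g (LinearMap.liftBaseChange S' (Extension.Cotangent.map f) (1 ⊗ₜ x))
    rw [LinearMap.liftBaseChange_tmul, LinearMap.liftBaseChange_tmul, one_smul, one_smul,
      Extension.Cotangent.map_comp]
    rfl
  · rw [HomologicalComplex.comp_f, bcMap_f₁, bcMap_f₁, map_f₁']
    simp only [Category.assoc, Iso.inv_hom_id_assoc]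
    congr 1
    rw [← Category.assoc, ← ModuleCat.ofHom_comp]
    congr 2
    apply TensorProduct.AlgebraTensorModule.curry_injective
    ext x
    change LinearMap.liftBaseChange S' (Extension.CotangentSpace.map (g.comp f)) (1 ⊗ₜ x) =
      Extension.CotangentSpace.map g
        (LinearMap.liftBaseChange S' (Extension.CotangentSpace.map f) (1 ⊗ₜ x))
    rw [LinearMap.liftBaseChange_tmul, LinearMap.liftBaseChange_tmul, one_smul, one_smul,
      Extension.CotangentSpace.map_comp]
    rfl

end MixedComp

end Groth.Agent.Helper2.NLHensC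

namespace Groth.Agent.Helper2.NLHensC

open Groth.Agent.Helper3.NLA

section Restrict

variable (R : Type u) {R' S : Type u} [CommRing R] [CommRing R'] [CommRing S] [Algebra R R']
  [Algebra R' S] [Algebra R S] [IsScalarTower R R' S]

/-- an extension over `R'` regarded as an extension over `R`. -/
noncomputable abbrev restrict (P' : Extension.{u} R' S) : Extension.{u} R S where
  Ring := P'.Ring
  σ := P'.σ
  algebraMap_σ := P'.algebraMap_σ

/-- the identity morphism from the restricted extension. -/
noncomputable def restrictHom (P' : Extension.{u} R' S) : (restrict R P').Hom P' where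
  toRingHom := RingHom.id _
  toRingHom_algebraMap x := rfl
  algebraMap_toRingHom x := rfl

theorem cotangent_map_restrictHom_bijective (P' : Extension.{u} R' S) :
    Function.Bijective (Extension.Cotangent.map (restrictHom R P')) := by
  constructor
  · rw [injective_iff_map_eq_zero]
    intro x hx
    obtain ⟨x, rfl⟩ := Extension.Cotangent.mk_surjective x
    rw [Extension.Cotangent.map_mk, Extension.Cotangent.mk_eq_zero_iff] at hx
    rw [Extension.Cotangent.mk_eq_zero_iff]
    exact hx
  · intro y
    obtain ⟨y, rfl⟩ := Extension.Cotangent.mk_surjective y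
    refine ⟨Extension.Cotangent.mk ⟨y.1, y.2⟩, ?_⟩
    rw [Extension.Cotangent.map_mk]
    rfl

theorem kaehler_map_bijective (T : Type u) [CommRing T] [Algebra R T] [Algebra R' T]
    [IsScalarTower R R' T] [Subsingleton (Ω[R'⁄R])] :
    Function.Bijective (KaehlerDifferential.map R R' T T) := by
  refine ⟨?_, KaehlerDifferential.map_surjective R R' T⟩
  rw [injective_iff_map_eq_zero]
  intro x hx
  obtain ⟨y, rfl⟩ := (KaehlerDifferential.exact_mapBaseChange_map R R' T x).mp hx
  haveI : Subsingleton (T ⊗[R'] Ω[R'⁄R]) := inferInstance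
  rw [Subsingleton.elim y 0, map_zero]

theorem cotangentSpace_map_restrictHom_bijective (P' : Extension.{u} R' S)
    [Subsingleton (Ω[R'⁄R])] :
    Function.Bijective (Extension.CotangentSpace.map (restrictHom R P')) := by
  let e : Ω[P'.Ring⁄R] ≃ₗ[P'.Ring] Ω[P'.Ring⁄R'] :=
    LinearEquiv.ofBijective (KaehlerDifferential.map R R' P'.Ring P'.Ring)
      (kaehler_map_bijective R P'.Ring)
  let L : S ⊗[P'.Ring] Ω[P'.Ring⁄R] ≃ₗ[S] S ⊗[P'.Ring] Ω[P'.Ring⁄R'] :=
    TensorProduct.AlgebraTensorModule.congr (LinearEquiv.refl S S) e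
  have key : ∀ x : (restrict R P').CotangentSpace,
      Extension.CotangentSpace.map (restrictHom R P') x = L x := by
    intro x
    induction x using TensorProduct.induction_on with
    | zero => simp
    | add x y hx hy => rw [map_add, map_add, hx, hy]
    | tmul s ω =>
      have hω : ω ∈ Submodule.span P'.Ring (Set.range (KaehlerDifferential.D R P'.Ring)) := by
        rw [KaehlerDifferential.span_range_derivation]; trivial
      revert s
      refine Submodule.span_induction (p := fun ω _ => ∀ s : S,
        Extension.CotangentSpace.map (restrictHom R P') (s ⊗ₜ ω) = L (s ⊗ₜ ω)) ?_ ?_ ?_ ?_ hω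
      · rintro _ ⟨y, rfl⟩ s
        rw [Extension.CotangentSpace.map_tmul]
        change s ⊗ₜ _ = s ⊗ₜ (KaehlerDifferential.map R R' P'.Ring P'.Ring
          (KaehlerDifferential.D R P'.Ring y))
        rw [KaehlerDifferential.map_D]
        rfl
      · intro s
        rw [TensorProduct.tmul_zero, map_zero, map_zero]
      · intro a b _ _ ha hb s
        rw [TensorProduct.tmul_add, map_add, map_add, ha, hb]
      · intro a ω _ hω s
        have : s ⊗ₜ[P'.Ring] (a • ω) = (a • s) ⊗ₜ[P'.Ring] ω := (TensorProduct.smul_tmul a s ω).symm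
        erw [this]
        exact hω (a • s)
  have : ⇑(Extension.CotangentSpace.map (restrictHom R P')) = ⇑L := funext key
  rw [this]
  exact L.bijective

end Restrict

end Groth.Agent.Helper2.NLHensC
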