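import Mathlib
import Groth.Prelude
import Groth.Agent.Helper2.IndEtLiftB
import Groth.Agent.Helper2.IndEtCritE

set_option autoImplicit false
set_option linter.style.haveILetI false
set_option linter.unusedSectionVars false
set_option linter.unusedVariables false

universe u

open CategoryTheory CategoryTheory.Limits TensorProduct Algebra

namespace Groth.Agent.Helper2.NLHensD

open Groth.Agent.Helper2.IndEtCrit

/-- lifting an ind-étale algebra along a surjection `P → B`. -/
theorem exists_lift {P B B' : Type u} [CommRing P] [CommRing B] [CommRing B'] [Algebra P B]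
    [Algebra B B'] (hs : Function.Surjective (algebraMap P B)) (hB' : EtPBC.IsIndEtale B B') :
    ∃ (C : Type u) (_ : CommRing C) (_ : Algebra P C) (π : C →+* B'),
      EtPBC.IsIndEtale P C ∧ Function.Surjective π ∧
      (∀ x, π (algebraMap P C x) = algebraMap B B' (algebraMap P B x)) ∧
      RingHom.ker π = (RingHom.ker (algebraMap P B)).map (algebraMap P C) := by
  let I : Ideal P := RingHom.ker (algebraMap P B)
  let e₀ : (P ⧸ I) ≃+* B := RingHom.quotientKerEquivOfSurjective hs
  letI : Algebra (P ⧸ I) B := e₀.toRingHom.toAlgebra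
  letI : Algebra (P ⧸ I) B' := ((algebraMap B B').comp e₀.toRingHom).toAlgebra
  haveI : IsScalarTower (P ⧸ I) B B' := .of_algebraMap_eq' rfl
  let e₁ : (P ⧸ I) ≃ₐ[P ⧸ I] B := AlgEquiv.ofRingEquiv (f := e₀) (fun x => rfl)
  haveI : Algebra.Etale (P ⧸ I) B := Algebra.Etale.of_equiv e₁
  have h1 : EtPBC.IsIndEtale (P ⧸ I) B := isIndEtale_of_fac (fac_of_etale _ _)
  have h2 : EtPBC.IsIndEtale (P ⧸ I) B' := s0734 _ B _ h1 hB'
  obtain ⟨C, _, _, hC, ⟨e⟩⟩ := Groth.Agent.Helper2.IndEtLift.main P I B' h2
  refine ⟨C, inferInstance, inferInstance,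
    e.toRingEquiv.toRingHom.comp (Ideal.Quotient.mk (I.map (algebraMap P C))), hC, ?_, ?_, ?_⟩
  · exact e.surjective.comp Ideal.Quotient.mk_surjective
  · intro x
    have h3 := e.commutes (Ideal.Quotient.mk I x)
    have h4 : algebraMap (P ⧸ I) (C ⧸ I.map (algebraMap P C)) (Ideal.Quotient.mk I x) =
        Ideal.Quotient.mk _ (algebraMap P C x) := rfl
    rw [h4] at h3
    change e (Ideal.Quotient.mk _ (algebraMap P C x)) = _
    rw [h3]
    change algebraMap B B' (e₀ (Ideal.Quotient.mk I x)) = _
    rw [RingHom.quotientKerEquivOfSurjective_apply_mk]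
  · ext c
    rw [RingHom.mem_ker]
    change e (Ideal.Quotient.mk _ c) = 0 ↔ _
    rw [map_eq_zero_iff e e.injective, Ideal.Quotient.eq_zero_iff_mem]

end Groth.Agent.Helper2.NLHensD
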