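import Mathlib
import Groth.Prelude
import Groth.Agent.Helper3.NLA
import Groth.Agent.Lead.IndEtale
import Groth.Agent.Helper2.NLHensA
import Groth.Agent.Helper2.NLHensB
import Groth.Agent.Helper2.NLHensD

set_option autoImplicit false
set_option linter.style.haveILetI false
set_option linter.unusedSectionVars false
set_option linter.unusedVariables false

universe u

open CategoryTheory CategoryTheory.Limits TensorProduct Algebra HomologicalComplex

namespace Groth.Agent.Helper2.NLHensE

open Groth.Agent.Helper3.NLA

/-- an extension from a surjective algebra map, with reducible ring. -/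
noncomputable abbrev mkExt {A B' C : Type u} [CommRing A] [CommRing B'] [CommRing C] [Algebra A B']
    [Algebra A C] (πA : C →ₐ[A] B') (h : Function.Surjective πA) : Extension.{u} A B' where
  Ring := C
  algebra₂ := πA.toAlgebra
  isScalarTower := letI := πA.toAlgebra; IsScalarTower.of_algebraMap_eq' πA.comp_algebraMap.symm
  σ x := (h x).choose
  algebraMap_σ x := (h x).choose_spec

theorem bij_of_flat {P C : Type u} [CommRing P] [CommRing C] [Algebra P C] [Module.Flat P C]
    (I : Ideal P) (K : Ideal C) (hK : K = I.map (algebraMap P C)) (m : I →ₗ[P] K)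
    (hm : ∀ x, (m x : C) = algebraMap P C x) : Function.Bijective (m.liftBaseChange C) := by
  constructor
  · have h1 : Function.Injective ((TensorProduct.rid P C).toLinearMap ∘ₗ I.subtype.lTensor C) :=
      (TensorProduct.rid P C).injective.comp
        (Module.Flat.lTensor_preserves_injective_linearMap _ Subtype.val_injective)
    have h2 : ∀ t : C ⊗[P] I, ((m.liftBaseChange C t : K) : C) =
        ((TensorProduct.rid P C).toLinearMap ∘ₗ I.subtype.lTensor C) t := by
      intro t
      induction t using TensorProduct.induction_on with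
      | zero => simp
      | add x y hx hy =>
        rw [map_add, map_add, ← hx, ← hy]; rfl
      | tmul c x =>
        rw [LinearMap.liftBaseChange_tmul]
        simp only [LinearMap.coe_comp, LinearEquiv.coe_coe, Function.comp_apply,
          LinearMap.lTensor_tmul, Submodule.subtype_apply, TensorProduct.rid_tmul]
        rw [Submodule.coe_smul, hm]
        change c * algebraMap P C x = (x : P) • c
        rw [Algebra.smul_def, mul_comm]
    intro t t' htt
    apply h1
    rw [← h2, ← h2, htt]
  · rintro ⟨y, hy⟩
    have hy' := hy
    rw [hK, Ideal.map] at hy'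
    have : ∃ t, ((m.liftBaseChange C t : K) : C) = y := by
      refine Submodule.span_induction (p := fun y _ => ∃ t, ((m.liftBaseChange C t : K) : C) = y)
        ?_ ?_ ?_ ?_ hy'
      · rintro _ ⟨x, hx, rfl⟩
        refine ⟨1 ⊗ₜ ⟨x, hx⟩, ?_⟩
        rw [LinearMap.liftBaseChange_tmul, one_smul, hm]
      · exact ⟨0, by simp⟩
      · rintro a b _ _ ⟨t, rfl⟩ ⟨t', rfl⟩
        exact ⟨t + t', by rw [map_add]; rfl⟩
      · rintro c a _ ⟨t, rfl⟩
        exact ⟨c • t, by rw [map_smul]; rfl⟩
    obtain ⟨t, ht⟩ := this
    exact ⟨t, Subtype.ext ht⟩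

section Main

variable (A B B' : Type u) [CommRing A] [CommRing B] [CommRing B'] [Algebra A B] [Algebra B B']
  [Algebra A B'] [IsScalarTower A B B']

/-- a morphism from a polynomial presentation to any extension. -/
noncomputable def homOfGenerators {ι : Type u} (G : Generators A B' ι) (Q : Extension.{u} A B') :
    G.toExtension.Hom Q :=
  Extension.Hom.ofAlgHom (MvPolynomial.aeval (fun i => Q.σ (G.val i))) (by
    apply MvPolynomial.algHom_ext
    intro i
    change algebraMap Q.Ring B' (MvPolynomial.aeval (fun i => Q.σ (G.val i)) (MvPolynomial.X i)) =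
      algebraMap B' B' (algebraMap G.toExtension.Ring B' (MvPolynomial.X i))
    rw [MvPolynomial.aeval_X, Q.algebraMap_σ]
    rw [Algebra.algebraMap_self, RingHom.id_apply]
    have h := G.algebraMap_apply (MvPolynomial.X i)
    rw [MvPolynomial.aeval_X] at h
    exact h.symm)

theorem quasiIso_bcMapSelf_of_isIndEtale (hB' : EtPBC.IsIndEtale B B') :
    QuasiIso (NLCx.bcMapSelf A B A B') := by
  let P : Extension.{u} A B := (Generators.self A B).toExtension
  obtain ⟨C, _, _, π, hC, hπs, hπc, hker⟩ :=
    Groth.Agent.Helper2.NLHensD.exists_lift (P := P.Ring) (B := B) (B' := B')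
      P.algebraMap_surjective hB'
  letI : Algebra A C := ((algebraMap P.Ring C).comp (algebraMap A P.Ring)).toAlgebra
  haveI : IsScalarTower A P.Ring C := .of_algebraMap_eq' rfl
  let πA : C →ₐ[A] B' :=
    { π with
      commutes' := fun a => by
        change π (algebraMap P.Ring C (algebraMap A P.Ring a)) = algebraMap A B' a
        rw [hπc, ← IsScalarTower.algebraMap_apply A P.Ring B,
          ← IsScalarTower.algebraMap_apply A B B'] }
  have hπAs : Function.Surjective πA := hπs
  let Q : Extension.{u} A B' := mkExt πA hπAs
  let f₁ : P.Hom Q :=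
    { toRingHom := algebraMap P.Ring C
      toRingHom_algebraMap := fun x => rfl
      algebraMap_toRingHom := fun x => hπc x }
  haveI : Algebra.WeaklyEtale P.Ring C := Groth.Agent.Lead.IndEtale.weaklyEtale_of_isIndEtale hC
  haveI hflat : Module.Flat P.Ring C := inferInstance
  haveI hfe : Algebra.FormallyEtale P.Ring C := NLHensA.formallyEtale_of_isIndEtale hC
  have hQker : Q.ker = P.ker.map (algebraMap P.Ring C) := hker
  have H : Function.Bijective ((f₁.mapKer (alg := (inferInstance : Algebra P.Ring C)) rfl).liftBaseChange C) :=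
    bij_of_flat P.ker Q.ker hQker _ (fun x => rfl)
  haveI : Module.Flat B B' := by
    haveI : Algebra.WeaklyEtale B B' := Groth.Agent.Lead.IndEtale.weaklyEtale_of_isIndEtale hB'
    infer_instance
  have h1 : Function.Bijective (LinearMap.liftBaseChange B' (Extension.Cotangent.map f₁)) :=
    (Extension.tensorCotangent f₁ (alg := (inferInstance : Algebra P.Ring C)) rfl H).bijective
  have h2 : Function.Bijective (LinearMap.liftBaseChange B' (Extension.CotangentSpace.map f₁)) :=
    (Extension.tensorCotangentSpaceOfFormallyEtale f₁
      (RingHom.formallyEtale_algebraMap.mpr hfe)).bijective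
  haveI iso₁ : IsIso (NLCx.bcMap f₁) := isIso_bcMap f₁ h1 h2
  haveI : Algebra.FormallySmooth A P.Ring :=
    inferInstanceAs (Algebra.FormallySmooth A (MvPolynomial B A))
  haveI : Algebra.FormallySmooth A Q.Ring := Algebra.FormallySmooth.comp A P.Ring C
  haveI : Algebra.FormallySmooth A (Generators.self A B').toExtension.Ring :=
    inferInstanceAs (Algebra.FormallySmooth A (MvPolynomial B' A))
  let g : (Generators.self A B').toExtension.Hom Q := homOfGenerators A B' _ Q
  haveI hg : QuasiIso (NLCx.map g) := NLHensB.quasiIso_map_of_formallySmooth g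
  let d₁ : P.Hom (Generators.self A B').toExtension :=
    ((Generators.self A B).defaultHom (Generators.self A B')).toExtensionHom
  have hcomp : NLCx.bcMap (g.comp d₁) = NLCx.bcMap d₁ ≫ NLCx.map g := bcMap_comp d₁ g
  have hq : QuasiIso (NLCx.bcMap d₁ ≫ NLCx.map g) := by
    rw [← hcomp]
    exact NLHensB.quasiIso_of_homotopy (bcHomotopy (g.comp d₁) f₁) inferInstance
  exact quasiIso_of_comp_right (NLCx.bcMap d₁) (NLCx.map g)

end Main

end Groth.Agent.Helper2.NLHensE
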