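import Mathlib
import Groth.Prelude
import Groth.Agent.Helper3.NLA
import Groth.Agent.Helper2.NLHensA
import Groth.Agent.Helper2.NLHensB
import Groth.Agent.Helper2.NLHensC
import Groth.Agent.Helper2.NLHensE
import Groth.Agent.Helper2.HensInd

set_option autoImplicit false
set_option linter.style.haveILetI false
set_option linter.unusedSectionVars false
set_option linter.unusedVariables false

universe u

open CategoryTheory CategoryTheory.Limits TensorProduct Algebra HomologicalComplex

namespace Groth.Agent.Helper2.NLHensF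

open Groth.Agent.Helper3.NLA

section Main

variable (A B A' B' : Type u) [CommRing A] [CommRing B] [CommRing A'] [CommRing B']
  [Algebra A B] [Algebra A' B'] [Algebra A A'] [Algebra B B'] [Algebra A B']
  [IsScalarTower A A' B'] [IsScalarTower A B B']

/-- the comparison map of naive cotangent complexes for a square with both vertical maps
ind-étale is a quasi-isomorphism. -/
theorem quasiIso_bcMapSelf_of_isIndEtale (hA : EtPBC.IsIndEtale A A')
    (hB : EtPBC.IsIndEtale B B') : QuasiIso (NLCx.bcMapSelf A B A' B') := by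
  haveI hfe : Algebra.FormallyEtale A A' := NLHensA.formallyEtale_of_isIndEtale hA
  let P : Extension.{u} A B := (Generators.self A B).toExtension
  let P₁ : Extension.{u} A B' := (Generators.self A B').toExtension
  let P' : Extension.{u} A' B' := (Generators.self A' B').toExtension
  let E : Extension.{u} A B' := NLHensC.restrict A P'
  let f₂ : E.Hom P' := NLHensC.restrictHom A P'
  let d : P.Hom P' := ((Generators.self A B).defaultHom (Generators.self A' B')).toExtensionHom
  let d₁ : P.Hom P₁ := ((Generators.self A B).defaultHom (Generators.self A B')).toExtensionHom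
  let g₁ : P₁.Hom E := NLHensE.homOfGenerators A B' (Generators.self A B') E
  haveI : Algebra.FormallySmooth A P₁.Ring :=
    inferInstanceAs (Algebra.FormallySmooth A (MvPolynomial B' A))
  haveI : Algebra.FormallySmooth A' P'.Ring :=
    inferInstanceAs (Algebra.FormallySmooth A' (MvPolynomial B' A'))
  haveI : Algebra.FormallySmooth A E.Ring := Algebra.FormallySmooth.comp A A' P'.Ring
  haveI q1 : QuasiIso (NLCx.bcMap d₁) := NLHensE.quasiIso_bcMapSelf_of_isIndEtale A B B' hB
  haveI q2 : QuasiIso (NLCx.map g₁) := NLHensB.quasiIso_map_of_formallySmooth g₁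
  haveI i3 : IsIso (NLCx.map f₂) :=
    NLHensB.isIso_map_of_bijective f₂ (NLHensC.cotangent_map_restrictHom_bijective A P')
      (NLHensC.cotangentSpace_map_restrictHom_bijective A P')
  have e1 : NLCx.bcMap (f₂.comp (g₁.comp d₁)) = NLCx.bcMap (g₁.comp d₁) ≫ NLCx.map f₂ :=
    NLHensC.bcMap_comp' (g₁.comp d₁) f₂
  have e2 : NLCx.bcMap (g₁.comp d₁) = NLCx.bcMap d₁ ≫ NLCx.map g₁ := bcMap_comp d₁ g₁
  have hq : QuasiIso (NLCx.bcMap (f₂.comp (g₁.comp d₁))) := by
    rw [e1, e2]
    infer_instance
  exact NLHensB.quasiIso_of_homotopy (bcHomotopy d (f₂.comp (g₁.comp d₁))) hq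

end Main

section Hens

theorem s7235 (A B Ah Bh : Type u) [CommRing A] [CommRing B] [CommRing Ah]
    [CommRing Bh] [IsLocalRing A] [IsLocalRing B] [IsLocalRing Ah] [IsLocalRing Bh]
    [Algebra A B] [IsLocalHom (algebraMap A B)]
    [Algebra A Ah] [IsLocalHom (algebraMap A Ah)] [Hensel.IsHenselization A Ah]
    [Algebra B Bh] [IsLocalHom (algebraMap B Bh)] [Hensel.IsHenselization B Bh]
    [Algebra Ah Bh] [Algebra A Bh] [IsScalarTower A Ah Bh] [IsScalarTower A B Bh] :
    QuasiIso (NLCx.bcMapSelf A B Ah Bh) :=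
  quasiIso_bcMapSelf_of_isIndEtale A B Ah Bh (Groth.Agent.Helper2.HensInd.s12236 A Ah)
    (Groth.Agent.Helper2.HensInd.s12236 B Bh)

theorem s7236 (A B Ash Bsh : Type u) [CommRing A] [CommRing B]
    [CommRing Ash] [CommRing Bsh] [IsLocalRing A] [IsLocalRing B] [IsLocalRing Ash] [IsLocalRing Bsh]
    [Algebra A B] [IsLocalHom (algebraMap A B)]
    [Algebra A Ash] [IsLocalHom (algebraMap A Ash)] [Hensel.IsStrictHenselization A Ash]
    [Algebra B Bsh] [IsLocalHom (algebraMap B Bsh)] [Hensel.IsStrictHenselization B Bsh]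
    [Algebra Ash Bsh] [Algebra A Bsh] [IsScalarTower A Ash Bsh] [IsScalarTower A B Bsh] :
    QuasiIso (NLCx.bcMapSelf A B Ash Bsh) :=
  quasiIso_bcMapSelf_of_isIndEtale A B Ash Bsh (Groth.Agent.Helper2.HensInd.s12237 A Ash)
    (Groth.Agent.Helper2.HensInd.s12237 B Bsh)

end Hens

end Groth.Agent.Helper2.NLHensF
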