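import Mathlib
import Groth.Prelude
import Groth.Agent.Helper5.IntegralDim
set_option autoImplicit false

universe u

noncomputable section

namespace Groth.Agent.Helper2.NNPrime

theorem exists_nn_away (k S : Type u) [Field k] [CommRing S] [Algebra k S]
    [Algebra.FiniteType k S] (q : Ideal S) [q.IsPrime] (g : S) (hg : g ∉ q) :
    ∃ (d : ℕ), ringKrullDim (Localization.Away g) = d ∧
      ∃ φ : MvPolynomial (Fin d) k →ₐ[k] Localization.Away g,
        Function.Injective φ ∧ φ.toRingHom.Finite := by
  haveI : Nontrivial (Localization.Away g) := by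
    rw [← not_subsingleton_iff_nontrivial, IsLocalization.subsingleton_iff (M := Submonoid.powers g)]
    rintro ⟨n, hn⟩
    have hn' : g ^ n = 0 := hn
    exact hg (Ideal.IsPrime.mem_of_pow_mem inferInstance n (hn' ▸ Ideal.zero_mem q))
  haveI : Algebra.FiniteType k (Localization.Away g) :=
    Algebra.FiniteType.trans (inferInstance : Algebra.FiniteType k S)
      (IsLocalization.finiteType_of_monoid_fg (Submonoid.powers g) _)
  obtain ⟨s, φ, hinj, hfin⟩ := exists_finite_inj_algHom_of_fg k (Localization.Away g)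
  refine ⟨s, ?_, φ, hinj, hfin⟩
  letI : Algebra (MvPolynomial (Fin s) k) (Localization.Away g) := φ.toRingHom.toAlgebra
  haveI : Module.Finite (MvPolynomial (Fin s) k) (Localization.Away g) := hfin
  haveI : Algebra.IsIntegral (MvPolynomial (Fin s) k) (Localization.Away g) :=
    Algebra.IsIntegral.of_finite _ _
  have h1 := Groth.Agent.Helper5.IntegralDim.ringKrullDim_eq_of_isIntegral_of_injective
    (R := MvPolynomial (Fin s) k) (S := Localization.Away g) hinj
  rw [h1, MvPolynomial.ringKrullDim_of_isNoetherianRing, ringKrullDim_eq_zero_of_field]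
  simp

theorem s6385 (k S : Type u) [Field k] [CommRing S] [Algebra k S]
    [Algebra.FiniteType k S] (q : Ideal S) [q.IsPrime] :
    ∃ (g : S) (d : ℕ), g ∉ q ∧ ringKrullDim (Localization.Away g) = d ∧
      (∀ g' : S, g' ∉ q → ringKrullDim (Localization.Away g) ≤ ringKrullDim (Localization.Away g')) ∧
      ∃ φ : MvPolynomial (Fin d) k →ₐ[k] Localization.Away g,
        Function.Injective φ ∧ φ.toRingHom.Finite := by
  classical
  have hex : ∃ d : ℕ, ∃ g : S, g ∉ q ∧ ringKrullDim (Localization.Away g) = d := by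
    have h1 : (1 : S) ∉ q := fun h => (Ideal.IsPrime.ne_top inferInstance)
      ((Ideal.eq_top_iff_one q).mpr h)
    obtain ⟨d, hd, -⟩ := exists_nn_away k S q 1 h1
    exact ⟨d, 1, h1, hd⟩
  obtain ⟨g, hg, hgd⟩ := Nat.find_spec hex
  obtain ⟨d, hd, φ, hinj, hfin⟩ := exists_nn_away k S q g hg
  refine ⟨g, d, hg, hd, ?_, φ, hinj, hfin⟩
  intro g' hg'
  obtain ⟨d', hd', -⟩ := exists_nn_away k S q g' hg'
  rw [hgd, hd']
  have := Nat.find_min' hex ⟨g', hg', hd'⟩
  exact_mod_cast this

end Groth.Agent.Helper2.NNPrime
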