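import Mathlib
import Groth.Agent.Helper2.MinorLA

set_option autoImplicit false

/-! Linear algebra over a local ring: if `V` is free with basis `b`, `π : V → Q` is a surjection onto a
projective module, and the vectors `w ℓ` span `ker π`, then some of the `w ℓ` (as many as the
rank of the kernel) span the kernel and have a unit maximal minor. -/

namespace Groth.Agent.Helper2.NerA

open IsLocalRing Function

lemma mem_smul_top_of_repr_mem {A : Type*} [CommRing A] {F : Type*} [AddCommGroup F] [Module A F]
    {ι : Type*} [Fintype ι] (b : Module.Basis ι A F) (q : Ideal A) (z : F)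
    (h : ∀ k, b.repr z k ∈ q) : z ∈ q • (⊤ : Submodule A F) := by
  rw [← b.sum_repr z]
  exact Submodule.sum_mem _ fun k _ => Submodule.smul_mem_smul (h k) Submodule.mem_top

theorem exists_rows {Λ : Type*} [CommRing Λ] [IsLocalRing Λ] {V Q : Type*} [AddCommGroup V]
    [Module Λ V] [AddCommGroup Q] [Module Λ Q] [Module.Projective Λ Q] {n m : ℕ}
    (b : Module.Basis (Fin n) Λ V) (π : V →ₗ[Λ] Q) (hπ : Surjective π) (w : Fin m → V)
    (hw : Submodule.span Λ (Set.range w) = LinearMap.ker π) :
    ∃ (c : ℕ) (rows : Fin c ↪ Fin m) (cols : Fin c ↪ Fin n),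
      IsUnit (Matrix.det (Matrix.of fun j k => b.repr (w (rows j)) (cols k))) ∧
      ∀ ℓ, w ℓ ∈ Submodule.span Λ (Set.range (w ∘ rows)) := by
  classical
  obtain ⟨s, hs⟩ := Module.projective_lifting_property π (LinearMap.id : Q →ₗ[Λ] Q) hπ
  have hs' : ∀ y, π (s y) = y := fun y => congrFun (congrArg DFunLike.coe hs) y
  let σ : V →ₗ[Λ] V := LinearMap.id - s ∘ₗ π
  set W : Submodule Λ V := Submodule.span Λ (Set.range w) with hW
  have hσW : ∀ v, σ v ∈ W := by
    intro v
    rw [hw, LinearMap.mem_ker]
    simp only [σ, LinearMap.sub_apply, LinearMap.id_apply, LinearMap.comp_apply, map_sub, hs',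
      sub_self]
  have hσid : ∀ v ∈ W, σ v = v := by
    intro v hv
    rw [hw, LinearMap.mem_ker] at hv
    simp only [σ, LinearMap.sub_apply, LinearMap.id_apply, LinearMap.comp_apply, hv, map_zero,
      sub_zero]
  have hσm : ∀ v ∈ (maximalIdeal Λ) • (⊤ : Submodule Λ V), σ v ∈ (maximalIdeal Λ) • W := by
    intro v hv
    refine Submodule.smul_induction_on hv ?_ ?_
    · intro a ha x _
      rw [map_smul]
      exact Submodule.smul_mem_smul ha (hσW x)
    · intro x y hx hy
      rw [map_add]
      exact Submodule.add_mem _ hx hy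
  obtain ⟨c, rows, cols, hdet, hspan⟩ :=
    Groth.Agent.Helper2.MinorLA.exists_minor
      (fun ℓ k => residue Λ (b.repr (w ℓ) k))
  refine ⟨c, rows, cols, ?_, ?_⟩
  · rw [← IsLocalRing.notMem_maximalIdeal, ← IsLocalRing.residue_eq_zero_iff, RingHom.map_det]
    exact hdet
  · set W' : Submodule Λ V := Submodule.span Λ (Set.range (w ∘ rows)) with hW'
    have hW'W : W' ≤ W := Submodule.span_mono (by rintro _ ⟨j, rfl⟩; exact ⟨rows j, rfl⟩)
    have hle : W ≤ W' ⊔ (maximalIdeal Λ) • W := by
      rw [hW, Submodule.span_le]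
      rintro _ ⟨ℓ, rfl⟩
      obtain ⟨l, hl⟩ := (Submodule.mem_span_range_iff_exists_fun (ResidueField Λ)).1 (hspan ℓ)
      have hlift : ∀ j, ∃ a : Λ, residue Λ a = l j := fun j => residue_surjective (l j)
      choose a ha using hlift
      let x : V := w ℓ - ∑ j, a j • w (rows j)
      have hxW : x ∈ W := by
        refine Submodule.sub_mem _ (Submodule.subset_span ⟨ℓ, rfl⟩) (Submodule.sum_mem _ ?_)
        intro j _
        exact Submodule.smul_mem _ _ (Submodule.subset_span ⟨rows j, rfl⟩)
      have hxm : x ∈ (maximalIdeal Λ) • (⊤ : Submodule Λ V) := by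
        apply mem_smul_top_of_repr_mem b
        intro k
        rw [← IsLocalRing.residue_eq_zero_iff]
        have hk := congrFun hl k
        simp only [Finset.sum_apply, Pi.smul_apply, comp_apply, smul_eq_mul] at hk
        simp only [x, map_sub, map_sum, map_smul, Finsupp.coe_sub, Finsupp.coe_finsetSum,
          Finsupp.coe_smul, Pi.sub_apply, Finset.sum_apply, Pi.smul_apply, smul_eq_mul, map_mul,
          ha]
        rw [hk, sub_self]
      have hx2 : x ∈ (maximalIdeal Λ) • W := by
        rw [← hσid x hxW]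
        exact hσm x hxm
      have : w ℓ = ∑ j, a j • w (rows j) + x := by
        simp only [x]; abel
      show w ℓ ∈ W' ⊔ (maximalIdeal Λ) • W
      rw [this]
      refine Submodule.add_mem_sup (Submodule.sum_mem _ fun j _ => ?_) hx2
      exact Submodule.smul_mem _ _ (Submodule.subset_span ⟨j, rfl⟩)
    have hfg : W.FG := Submodule.fg_span (Set.finite_range w)
    have := Submodule.le_of_le_smul_of_le_jacobson_bot hfg
      (IsLocalRing.maximalIdeal_le_jacobson ⊥) hle
    intro ℓ
    exact this (Submodule.subset_span ⟨ℓ, rfl⟩)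

end Groth.Agent.Helper2.NerA
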