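import Mathlib
import Groth.Prelude
import Groth.Agent.Helper2.SmAtPrime
import Groth.Agent.Helper2.StdElem

set_option autoImplicit false

namespace Groth.Agent.Helper2.NerB

open Function Matrix

/-- Determinant trick: if `t • f ℓ ∈ I0 + (f)²` for all `ℓ`, then some `t' ≡ t^m mod (f)`
multiplies every `f ℓ` into `I0`. -/
lemma det_trick {P : Type*} [CommRing P] {m : ℕ} (f : Fin m → P) (I0 : Ideal P) (t : P)
    (h : ∀ ℓ, t * f ℓ ∈ I0 ⊔ Ideal.span (Set.range f) ^ 2) :
    ∃ t' : P, t' - t ^ m ∈ Ideal.span (Set.range f) ∧ ∀ ℓ, t' * f ℓ ∈ I0 := by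
  classical
  set I : Ideal P := Ideal.span (Set.range f) with hI
  have h1 : ∀ ℓ, ∃ x ∈ I0, ∃ Q : Fin m → P, (∀ k, Q k ∈ I) ∧ t * f ℓ = x + ∑ k, Q k * f k := by
    intro ℓ
    obtain ⟨x, hx, y, hy, hxy⟩ := Submodule.mem_sup.1 (h ℓ)
    have hy' : y ∈ I • Submodule.span P (Set.range f) := by
      rw [pow_two] at hy
      exact hy
    obtain ⟨a, ha, hay⟩ := (Submodule.mem_ideal_smul_span_iff_exists_sum I f y).1 hy'
    refine ⟨x, hx, fun k => a k, fun k => ha k, ?_⟩
    rw [← hxy, ← hay, Finsupp.sum_fintype _ _ (fun i => by simp)]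
    simp only [smul_eq_mul]
  choose x hx Q hQ hxQ using h1
  let Mx : Matrix (Fin m) (Fin m) P := t • (1 : Matrix (Fin m) (Fin m) P) - Matrix.of Q
  have hMx : ∀ ℓ, (Mx *ᵥ f) ℓ = x ℓ := by
    intro ℓ
    show ((t • (1 : Matrix (Fin m) (Fin m) P) - Matrix.of Q) *ᵥ f) ℓ = x ℓ
    rw [Matrix.sub_mulVec, Matrix.smul_mulVec, Matrix.one_mulVec]
    simp only [Pi.sub_apply, Pi.smul_apply, smul_eq_mul, Matrix.mulVec, dotProduct,
      Matrix.of_apply]
    rw [hxQ ℓ]; ring
  refine ⟨Mx.det, ?_, ?_⟩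
  · rw [← Ideal.Quotient.eq, RingHom.map_det, map_pow]
    have : (Ideal.Quotient.mk I).mapMatrix Mx =
        (Ideal.Quotient.mk I t) • (1 : Matrix (Fin m) (Fin m) (P ⧸ I)) := by
      ext i j
      simp only [Mx, RingHom.mapMatrix_apply, Matrix.map_apply, Matrix.sub_apply,
        Matrix.smul_apply, Matrix.of_apply, map_sub, map_mul, smul_eq_mul]
      rw [Ideal.Quotient.eq_zero_iff_mem.2 (hQ i j), sub_zero]
      by_cases hij : i = j
      · subst hij; simp
      · simp [Matrix.one_apply_ne hij]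
    rw [this, Matrix.det_smul, Matrix.det_one, mul_one, Fintype.card_fin]
  · intro ℓ
    have h2 : (Mx.adjugate *ᵥ (Mx *ᵥ f)) ℓ = Mx.det * f ℓ := by
      rw [Matrix.mulVec_mulVec, Matrix.adjugate_mul, Matrix.smul_mulVec, Matrix.one_mulVec]
      rfl
    rw [← h2]
    simp only [Matrix.mulVec, dotProduct]
    refine Ideal.sum_mem _ fun k _ => ?_
    have hk : ∑ j, Mx k j * f j = x k := hMx k
    rw [hk]
    exact Ideal.mul_mem_left _ _ (hx k)


open MvPolynomial Algebra Groth.Agent.Helper2.SmAtPrime Groth.Agent.Helper2.KRLoc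

universe u

variable {R A : Type u} [CommRing R] [CommRing A] [Algebra R A] {n m : ℕ}

/-- Variant of `StdElem.s2108` with prescribed rows. -/
theorem exists_mul_mem (f : Fin m → MvPolynomial (Fin n) R) (φ : MvPolynomial (Fin n) R →ₐ[R] A)
    (hφ : Surjective φ) (hker : RingHom.ker φ.toRingHom = Ideal.span (Set.range f))
    (q : Ideal A) [q.IsPrime] [Algebra.IsSmoothAt R q] {c : ℕ} (rows : Fin c → Fin m)
    (hloc : ∀ ℓ, ∃ s, s ∉ q ∧ ∃ a : Fin c → A, ∀ k,
      s * φ (pderiv k (f ℓ)) - ∑ j, a j * φ (pderiv k (f (rows j))) ∈ q) :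
    ∃ t : MvPolynomial (Fin n) R, φ t ∉ q ∧
      ∀ ℓ, t * f ℓ ∈ Ideal.span (Set.range (f ∘ rows)) := by
  classical
  have hfeq : φ = aeval (fun i => φ (X i)) := by
    apply MvPolynomial.algHom_ext
    intro i
    simp
  let Gen : Algebra.Generators R A (Fin n) :=
    Algebra.Generators.ofSurjective (fun i => φ (X i)) (by rw [← hfeq]; exact hφ)
  have hGalg : ∀ r : Gen.Ring, algebraMap Gen.Ring A r = φ r := by
    intro r
    conv_rhs => rw [hfeq]
    rfl
  have hGker : Gen.ker = Ideal.span (Set.range f) := by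
    rw [← hker]
    ext r
    show algebraMap Gen.Ring A r = 0 ↔ φ r = 0
    rw [hGalg]
  have hfg : (RingHom.ker φ.toRingHom).FG := by
    rw [hker]; exact Submodule.fg_span (Set.finite_range f)
  haveI : Algebra.FinitePresentation R A := Algebra.FinitePresentation.of_surjective hφ hfg
  haveI : Module.Finite A Gen.toExtension.Cotangent :=
    Algebra.Extension.Cotangent.finite (by
      show Gen.ker.FG
      rw [hGker]; exact Submodule.fg_span (Set.finite_range f))
  have hex := Gen.toExtension.exact_cotangentComplex_toKaehler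
  have hπ := Gen.toExtension.toKaehler_surjective
  have hsm : (⟨q, inferInstance⟩ : PrimeSpectrum A) ∈ Algebra.smoothLocus R A :=
    ‹Algebra.IsSmoothAt R q›
  rw [Algebra.smoothLocus_eq_compl_support_inter] at hsm
  obtain ⟨h1, h2⟩ := hsm
  rw [Set.mem_compl_iff, Module.notMem_support_iff, LocalizedModule.subsingleton_iff] at h1
  rw [Module.mem_freeLocus] at h2
  have hΩ : Module.Projective (Localization.AtPrime q) (LocalizedModule q.primeCompl Ω[A⁄R]) :=
    Module.Projective.of_free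
  have hK : ∀ x ∈ LinearMap.ker Gen.toExtension.cotangentComplex, ∃ s, s ∉ q ∧ s • x = 0 := by
    intro x hx
    let y : Gen.toExtension.H1Cotangent := ⟨x, hx⟩
    obtain ⟨r, hr, hry⟩ := h1 (Gen.equivH1Cotangent y)
    refine ⟨r, hr, ?_⟩
    rw [← map_smul, LinearEquiv.map_eq_zero_iff] at hry
    exact congrArg Subtype.val hry
  have hC1 := smul_mem_of_map_mem q Gen.toExtension.cotangentComplex Gen.toExtension.toKaehler
    hex hπ hΩ hK
  have hfmem : ∀ ℓ, f ℓ ∈ Gen.toExtension.ker := fun ℓ => by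
    show f ℓ ∈ Gen.ker
    rw [hGker]; exact Ideal.subset_span ⟨ℓ, rfl⟩
  let g : Fin m → Gen.toExtension.Cotangent :=
    fun ℓ => Algebra.Extension.Cotangent.mk ⟨f ℓ, hfmem ℓ⟩
  let J : Fin m → Fin n → A := fun ℓ k => φ (pderiv k (f ℓ))
  have hcoord : ∀ ℓ k, Gen.cotangentSpaceBasis.repr
      (Gen.toExtension.cotangentComplex (g ℓ)) k = J ℓ k := by
    intro ℓ k
    show Gen.cotangentSpaceBasis.repr (Gen.toExtension.cotangentComplex
      (Algebra.Extension.Cotangent.mk ⟨f ℓ, hfmem ℓ⟩)) k = _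
    rw [Algebra.Extension.cotangentComplex_mk, Algebra.Generators.cotangentSpaceBasis_repr_one_tmul]
    exact hGalg _
  let fE : Fin m → Gen.toExtension.Ring := f
  have hcomb_mem : ∀ {ι' : Type} [Fintype ι'] (h : ι' → Fin m) (p : ι' → Gen.toExtension.Ring),
      ∑ i, p i * fE (h i) ∈ Gen.toExtension.ker := by
    intro ι' _ h p
    exact Ideal.sum_mem _ fun i _ => Ideal.mul_mem_left _ _ (hfmem (h i))
  have hcomb : ∀ {ι' : Type} [Fintype ι'] (h : ι' → Fin m) (p : ι' → Gen.toExtension.Ring),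
      Algebra.Extension.Cotangent.mk ⟨∑ i, p i * fE (h i), hcomb_mem h p⟩ =
        ∑ i, algebraMap Gen.toExtension.Ring A (p i) • g (h i) := by
    intro ι' _ h p
    have h1 : (⟨∑ i, p i * fE (h i), hcomb_mem h p⟩ : Gen.toExtension.ker) =
        ∑ i, p i • (⟨fE (h i), hfmem (h i)⟩ : Gen.toExtension.ker) := by
      apply Subtype.ext
      rw [Submodule.coe_sum]
      rfl
    rw [h1, map_sum]
    refine Finset.sum_congr rfl fun i _ => ?_
    rw [map_smul, algebraMap_smul]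
  let W : Submodule A Gen.toExtension.Cotangent := Submodule.span A (Set.range (g ∘ rows))
  have hgen : ∀ ℓ, ∃ s, s ∉ q ∧
      s • g ℓ ∈ W ⊔ q • (⊤ : Submodule A Gen.toExtension.Cotangent) := by
    intro ℓ
    obtain ⟨s, hs, a, ha⟩ := hloc ℓ
    let x : Gen.toExtension.Cotangent := s • g ℓ - ∑ j, a j • g (rows j)
    have hx : Gen.toExtension.cotangentComplex x ∈
        q • (⊤ : Submodule A Gen.toExtension.CotangentSpace) := by
      apply Groth.Agent.Helper2.StdElem.mem_smul_top_of_repr_mem Gen.cotangentSpaceBasis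
      intro k
      simp only [x, map_sub, map_smul, map_sum, Finsupp.coe_sub, Finsupp.coe_smul,
        Finsupp.coe_finsetSum, Pi.sub_apply, Pi.smul_apply, Finset.sum_apply, hcoord, smul_eq_mul]
      exact ha k
    obtain ⟨s', hs', hs'x⟩ := hC1 x hx
    refine ⟨s' * s, (‹q.IsPrime›).mul_notMem hs' hs, ?_⟩
    have : (s' * s) • g ℓ = s' • x + ∑ j, (s' * a j) • g (rows j) := by
      simp only [x, smul_sub, Finset.smul_sum, mul_smul]; abel
    rw [this, add_comm]
    exact Submodule.add_mem_sup (Submodule.sum_mem _ fun j _ =>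
      Submodule.smul_mem _ _ (Submodule.subset_span ⟨j, rfl⟩)) hs'x
  have hadd : ∀ y₁ y₂ : Gen.toExtension.Cotangent,
      (∃ s, s ∉ q ∧ s • y₁ ∈ W ⊔ q • (⊤ : Submodule A Gen.toExtension.Cotangent)) →
      (∃ s, s ∉ q ∧ s • y₂ ∈ W ⊔ q • (⊤ : Submodule A Gen.toExtension.Cotangent)) →
      ∃ s, s ∉ q ∧ s • (y₁ + y₂) ∈ W ⊔ q • (⊤ : Submodule A Gen.toExtension.Cotangent) := by
    rintro y₁ y₂ ⟨s₁, hs₁, h₁⟩ ⟨s₂, hs₂, h₂⟩
    refine ⟨s₁ * s₂, (‹q.IsPrime›).mul_notMem hs₁ hs₂, ?_⟩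
    have : (s₁ * s₂) • (y₁ + y₂) = s₂ • (s₁ • y₁) + s₁ • (s₂ • y₂) := by
      rw [smul_add, mul_smul, mul_smul, smul_comm s₁ s₂ y₁]
    rw [this]
    exact Submodule.add_mem _ (Submodule.smul_mem _ _ h₁) (Submodule.smul_mem _ _ h₂)
  have hsmul : ∀ (b : A) (y : Gen.toExtension.Cotangent),
      (∃ s, s ∉ q ∧ s • y ∈ W ⊔ q • (⊤ : Submodule A Gen.toExtension.Cotangent)) →
      ∃ s, s ∉ q ∧ s • (b • y) ∈ W ⊔ q • (⊤ : Submodule A Gen.toExtension.Cotangent) := by
    rintro b y ⟨s, hs, h⟩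
    refine ⟨s, hs, ?_⟩
    rw [smul_comm]
    exact Submodule.smul_mem _ _ h
  have hall : ∀ y : Gen.toExtension.Cotangent,
      ∃ s, s ∉ q ∧ s • y ∈ W ⊔ q • (⊤ : Submodule A Gen.toExtension.Cotangent) := by
    intro y
    obtain ⟨⟨x0, hx0⟩, rfl⟩ := Algebra.Extension.Cotangent.mk_surjective y
    have hx0' : x0 ∈ Ideal.span (Set.range fE) := by
      have : x0 ∈ Gen.ker := hx0
      rw [hGker] at this
      exact this
    obtain ⟨p, hp⟩ := (Ideal.mem_span_range_iff_exists_fun).1 hx0'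
    have hmk : Algebra.Extension.Cotangent.mk ⟨x0, hx0⟩ =
        ∑ i, algebraMap Gen.toExtension.Ring A (p i) • g (id i) := by
      rw [← hcomb id p]
      congr 1
      exact Subtype.ext hp.symm
    rw [hmk]
    refine Finset.sum_induction _
      (fun y => ∃ s, s ∉ q ∧ s • y ∈ W ⊔ q • (⊤ : Submodule A Gen.toExtension.Cotangent))
      hadd ?_ (fun i _ => hsmul _ _ (hgen i))
    exact ⟨1, fun h1 => (‹q.IsPrime›).ne_top ((Ideal.eq_top_iff_one _).2 h1), by simp⟩
  obtain ⟨a₁, ha₁, ha₁W⟩ := exists_smul_mem_of_local q W hall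
  obtain ⟨t₀, ht₀⟩ := hφ a₁
  have hstep : ∀ ℓ, t₀ * f ℓ ∈ Ideal.span (Set.range (f ∘ rows)) ⊔ Ideal.span (Set.range f) ^ 2 := by
    intro ℓ
    let a₁E : Gen.toExtension.Ring := t₀
    have hmemK : a₁E * fE ℓ ∈ Gen.toExtension.ker := Ideal.mul_mem_left _ _ (hfmem ℓ)
    have hW : Algebra.Extension.Cotangent.mk ⟨a₁E * fE ℓ, hmemK⟩ ∈ W := by
      have h1 : (⟨a₁E * fE ℓ, hmemK⟩ : Gen.toExtension.ker) =
          a₁E • (⟨fE ℓ, hfmem ℓ⟩ : Gen.toExtension.ker) := Subtype.ext rfl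
      rw [h1, map_smul, ← algebraMap_smul A a₁E]
      have h2 : algebraMap Gen.toExtension.Ring A a₁E = a₁ := by
        rw [← ht₀]
        exact hGalg t₀
      rw [h2]
      exact ha₁W _
    obtain ⟨b, hb⟩ := (Submodule.mem_span_range_iff_exists_fun A).1 hW
    have hlift : ∀ j, ∃ pj : Gen.toExtension.Ring, algebraMap Gen.toExtension.Ring A pj = b j :=
      fun j => Gen.toExtension.algebraMap_surjective (b j)
    choose pp hpp using hlift
    have hb' : Algebra.Extension.Cotangent.mk ⟨∑ j, pp j * fE (rows j), hcomb_mem rows pp⟩ =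
        Algebra.Extension.Cotangent.mk ⟨a₁E * fE ℓ, hmemK⟩ := by
      rw [hcomb rows pp, ← hb]
      refine Finset.sum_congr rfl fun j _ => ?_
      rw [hpp]
      rfl
    rw [Algebra.Extension.Cotangent.mk_eq_mk_iff_sub_mem] at hb'
    have hsq : a₁E * fE ℓ - ∑ j, pp j * fE (rows j) ∈ Ideal.span (Set.range f) ^ 2 := by
      have h3 : (∑ j, pp j * fE (rows j)) - a₁E * fE ℓ ∈ Gen.ker ^ 2 := hb'
      rw [hGker] at h3
      have := Ideal.neg_mem_iff _ |>.2 h3
      rwa [neg_sub] at this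
    have hfin : t₀ * f ℓ = ∑ j, pp j * fE (rows j) + (a₁E * fE ℓ - ∑ j, pp j * fE (rows j)) := by
      show a₁E * fE ℓ = _
      ring
    rw [hfin]
    refine Submodule.add_mem_sup ?_ hsq
    exact Ideal.sum_mem _ fun j _ => Ideal.mul_mem_left _ _ (Ideal.subset_span ⟨j, rfl⟩)
  obtain ⟨t', ht', ht'f⟩ := det_trick f (Ideal.span (Set.range (f ∘ rows))) t₀ hstep
  refine ⟨t', ?_, ht'f⟩
  have hφt' : φ t' = a₁ ^ m := by
    have h0 : φ (t' - t₀ ^ m) = 0 := by
      have : t' - t₀ ^ m ∈ RingHom.ker φ.toRingHom := by rw [hker]; exact ht'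
      exact this
    rw [map_sub, sub_eq_zero, map_pow, ht₀] at h0
    exact h0
  rw [hφt']
  exact fun h => ha₁ ((‹q.IsPrime›).mem_of_pow_mem m h)

end Groth.Agent.Helper2.NerB
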