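import Mathlib
import Groth.Agent.Helper2.RegHom3
import Groth.Agent.Lead.RegLocal

set_option autoImplicit false

namespace Groth.Agent.Helper2.NerC

open Function Matrix

universe u

/-- Cramer-type relation. -/
lemma cramer_rel {Λ : Type*} [CommRing Λ] {c n : ℕ} (R0 : Matrix (Fin c) (Fin n) Λ)
    (cols : Fin c → Fin n) (cv : Fin c → Λ) (k : Fin n) :
    (R0.submatrix id cols).det * (cv ᵥ* R0) k -
      ∑ j, (∑ k', (cv ᵥ* R0) (cols k') * (R0.submatrix id cols).adjugate k' j) * R0 j k = 0 := by
  classical
  set M0 := R0.submatrix id cols with hM0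
  have h1 : (fun k' => (cv ᵥ* R0) (cols k')) = cv ᵥ* M0 := by
    ext k'
    simp only [Matrix.vecMul, dotProduct, hM0, Matrix.submatrix_apply, id]
  have h2 : (fun j => ∑ k', (cv ᵥ* R0) (cols k') * M0.adjugate k' j) = M0.det • cv := by
    have : (fun j => ∑ k', (cv ᵥ* R0) (cols k') * M0.adjugate k' j) =
        (fun k' => (cv ᵥ* R0) (cols k')) ᵥ* M0.adjugate := by
      ext j
      simp only [Matrix.vecMul, dotProduct]
    rw [this, h1, Matrix.vecMul_vecMul, Matrix.mul_adjugate, Matrix.vecMul_smul,
      Matrix.vecMul_one]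
  have h3 : ∑ j, (∑ k', (cv ᵥ* R0) (cols k') * M0.adjugate k' j) * R0 j k =
      ((M0.det • cv) ᵥ* R0) k := by
    rw [← h2]
    simp only [Matrix.vecMul, dotProduct]
  rw [h3, Matrix.smul_vecMul, Pi.smul_apply, smul_eq_mul, sub_self]

/-- The local ring at a point of a principal open smooth over a regular ring is a domain. -/
theorem isDomain_of_smooth_away {R B : Type u} [CommRing R] [IsRegularRing R] [CommRing B]
    [Algebra R B] (a : B) [Algebra.Smooth R (Localization.Away a)] (p : Ideal B) [p.IsPrime]
    (ha : a ∉ p) : IsDomain (Localization.AtPrime p) := by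
  haveI : IsRegularRing (Localization.Away a) :=
    Groth.Agent.Helper2.RegHom3.isRegularRing_of_smooth R _
  have hdisj : Disjoint (Submonoid.powers a : Set B) (p : Set B) :=
    (Ideal.disjoint_powers_iff_notMem_of_isPrime a).2 ha
  let p' : Ideal (Localization.Away a) := p.map (algebraMap B (Localization.Away a))
  haveI hp' : p'.IsPrime :=
    IsLocalization.isPrime_of_isPrime_disjoint (Submonoid.powers a) _ p inferInstance hdisj
  have hcomap : p'.comap (algebraMap B (Localization.Away a)) = p :=
    IsLocalization.under_map_of_isPrime_disjoint (Submonoid.powers a) _ inferInstance hdisj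
  haveI : IsDomain (Localization.AtPrime p') :=
    Groth.Agent.Lead.RegLocal.isDomain_of_isRegularLocalRing _
  have h1 : IsLocalization.AtPrime (Localization.AtPrime p')
      (p'.comap (algebraMap B (Localization.Away a))) :=
    IsLocalization.isLocalization_atPrime_localization_atPrime (Submonoid.powers a) p'
  have key : ∀ (q : Ideal B) [q.IsPrime], q = p →
      IsLocalization.AtPrime (Localization.AtPrime p') q → IsDomain (Localization.AtPrime p) := by
    intro q _ hq h
    subst hq
    exact (IsLocalization.algEquiv q.primeCompl (Localization.AtPrime q)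
      (Localization.AtPrime p')).toRingEquiv.toMulEquiv.isDomain _
  exact key _ hcomap h1

/-- Smoothness at a prime transfers along a surjection which is a local isomorphism there. -/
theorem isSmoothAt_of_surjective {R B A : Type u} [CommRing R] [CommRing B] [CommRing A]
    [Algebra R B] [Algebra R A] (ψ : B →ₐ[R] A) (hψ : Surjective ψ) (p : Ideal A) [p.IsPrime]
    (hB : Algebra.IsSmoothAt R (p.comap ψ))
    (hker : ∀ x, ψ x = 0 → ∃ s, ψ s ∉ p ∧ s * x = 0) : Algebra.IsSmoothAt R p := by
  letI : Algebra B (Localization.AtPrime p) :=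
    ((algebraMap A (Localization.AtPrime p)).comp ψ.toRingHom).toAlgebra
  haveI : IsScalarTower R B (Localization.AtPrime p) := by
    refine IsScalarTower.of_algebraMap_eq (fun r => ?_)
    show _ = algebraMap A (Localization.AtPrime p) (ψ (algebraMap R B r))
    rw [ψ.commutes, ← IsScalarTower.algebraMap_apply]
  have hmap : ∀ b : B, algebraMap B (Localization.AtPrime p) b =
      algebraMap A (Localization.AtPrime p) (ψ b) := fun _ => rfl
  haveI hloc : IsLocalization.AtPrime (Localization.AtPrime p) (p.comap ψ) := by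
    refine ⟨?_, ?_, ?_⟩
    · rintro ⟨s, hs⟩
      rw [hmap]
      exact IsLocalization.map_units (Localization.AtPrime p) (⟨ψ s, hs⟩ : p.primeCompl)
    · intro z
      obtain ⟨⟨x, s⟩, hxs⟩ := IsLocalization.surj p.primeCompl z
      obtain ⟨b, hb⟩ := hψ x
      obtain ⟨t, ht⟩ := hψ (s : A)
      refine ⟨⟨b, ⟨t, ?_⟩⟩, ?_⟩
      · show ψ t ∉ p
        rw [ht]; exact s.2
      · show z * algebraMap B _ t = algebraMap B _ b
        rw [hmap, hmap, ht, hb]
        exact hxs
    · intro x y hxy
      rw [hmap, hmap] at hxy
      obtain ⟨u, hu⟩ := IsLocalization.exists_of_eq (M := p.primeCompl) hxy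
      obtain ⟨u', hu'⟩ := hψ (u : A)
      have h0 : ψ (u' * (x - y)) = 0 := by
        rw [map_mul, map_sub, hu', mul_sub, hu, sub_self]
      obtain ⟨s, hs, hsx⟩ := hker _ h0
      refine ⟨⟨s * u', ?_⟩, ?_⟩
      · show ψ (s * u') ∉ p
        rw [map_mul, hu']
        exact (‹p.IsPrime›).mul_notMem hs u.2
      · show s * u' * x = s * u' * y
        have : s * u' * x - s * u' * y = s * (u' * (x - y)) := by ring
        rw [← sub_eq_zero, this, hsx]
  let e : Localization.AtPrime (p.comap ψ) ≃ₐ[B] Localization.AtPrime p :=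
    IsLocalization.algEquiv (p.comap ψ).primeCompl _ _
  haveI : Algebra.FormallySmooth R (Localization.AtPrime (p.comap ψ)) := hB
  exact Algebra.FormallySmooth.of_equiv (e.restrictScalars R)

end Groth.Agent.Helper2.NerC
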