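import Mathlib
import Groth.Prelude
import Groth.Agent.Helper2.NerA
import Groth.Agent.Helper2.NerB
import Groth.Agent.Helper2.NerC
import Groth.Agent.Helper2.StrictStd4

set_option autoImplicit false

namespace Groth.Agent.Helper2.NerD

open Function MvPolynomial Algebra TensorProduct IsLocalRing Smoothing

universe u

theorem main {R Λ A : Type u} [CommRing R] [IsRegularRing R] [CommRing Λ] [IsLocalRing Λ]
    [Algebra R Λ] [CommRing A] [Algebra R A] [Algebra.FiniteType R A] [Algebra A Λ]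
    [IsScalarTower R A Λ] [(RingHom.ker (algebraMap A Λ)).IsPrime]
    (hq : Algebra.IsSmoothAt R (RingHom.ker (algebraMap A Λ)))
    (hfree : Module.Free Λ (Λ ⊗[A] Ω[A⁄R])) :
    Algebra.IsSmoothAt R ((maximalIdeal Λ).comap (algebraMap A Λ)) := by
  classical
  obtain ⟨n, φ, hφ⟩ := Algebra.FiniteType.iff_quotient_mvPolynomial''.mp
    (inferInstance : Algebra.FiniteType R A)
  have hfgker : (RingHom.ker φ.toRingHom).FG := IsNoetherian.noetherian _
  obtain ⟨m, f, hf⟩ := Submodule.fg_iff_exists_fin_generating_family.1 hfgker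
  have hker : RingHom.ker φ.toRingHom = Ideal.span (Set.range f) := hf.symm
  set 𝔮 : Ideal A := RingHom.ker (algebraMap A Λ) with h𝔮
  set 𝔭 : Ideal A := (maximalIdeal Λ).comap (algebraMap A Λ) with h𝔭
  have hqp : 𝔮 ≤ 𝔭 := by
    intro x hx
    rw [h𝔮, RingHom.mem_ker] at hx
    rw [h𝔭, Ideal.mem_comap, hx]
    exact Ideal.zero_mem _
  have hfeq : φ = aeval (fun i => φ (X i)) := by
    apply MvPolynomial.algHom_ext
    intro i
    simp
  let Gen : Algebra.Generators R A (Fin n) :=
    Algebra.Generators.ofSurjective (fun i => φ (X i)) (by rw [← hfeq]; exact hφ)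
  have hGalg : ∀ r : Gen.Ring, algebraMap Gen.Ring A r = φ r := by
    intro r
    conv_rhs => rw [hfeq]
    rfl
  have hGker : Gen.ker = Ideal.span (Set.range f) := by
    rw [← hker]
    ext r
    show algebraMap Gen.Ring A r = 0 ↔ φ r = 0
    rw [hGalg]
  have hex := Gen.toExtension.exact_cotangentComplex_toKaehler
  have hπ0 := Gen.toExtension.toKaehler_surjective
  have hfmem : ∀ ℓ, f ℓ ∈ Gen.toExtension.ker := fun ℓ => by
    show f ℓ ∈ Gen.ker
    rw [hGker]; exact Ideal.subset_span ⟨ℓ, rfl⟩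
  let g : Fin m → Gen.toExtension.Cotangent :=
    fun ℓ => Algebra.Extension.Cotangent.mk ⟨f ℓ, hfmem ℓ⟩
  let J : Fin m → Fin n → A := fun ℓ k => φ (pderiv k (f ℓ))
  have hcoord : ∀ ℓ k, Gen.cotangentSpaceBasis.repr
      (Gen.toExtension.cotangentComplex (g ℓ)) k = J ℓ k := by
    intro ℓ k
    show Gen.cotangentSpaceBasis.repr (Gen.toExtension.cotangentComplex
      (Algebra.Extension.Cotangent.mk ⟨f ℓ, hfmem ℓ⟩)) k = _
    rw [Algebra.Extension.cotangentComplex_mk, Algebra.Generators.cotangentSpaceBasis_repr_one_tmul]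
    exact hGalg _
  let fE : Fin m → Gen.toExtension.Ring := f
  have hcomb_mem : ∀ (p : Fin m → Gen.toExtension.Ring),
      ∑ i, p i * fE i ∈ Gen.toExtension.ker := by
    intro p
    exact Ideal.sum_mem _ fun i _ => Ideal.mul_mem_left _ _ (hfmem i)
  have hcomb : ∀ (p : Fin m → Gen.toExtension.Ring),
      Algebra.Extension.Cotangent.mk ⟨∑ i, p i * fE i, hcomb_mem p⟩ =
        ∑ i, algebraMap Gen.toExtension.Ring A (p i) • g i := by
    intro p
    have h1 : (⟨∑ i, p i * fE i, hcomb_mem p⟩ : Gen.toExtension.ker) =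
        ∑ i, p i • (⟨fE i, hfmem i⟩ : Gen.toExtension.ker) := by
      apply Subtype.ext
      rw [Submodule.coe_sum]
      rfl
    rw [h1, map_sum]
    refine Finset.sum_congr rfl fun i _ => ?_
    rw [map_smul, algebraMap_smul]
  have hgspan : ∀ y : Gen.toExtension.Cotangent, ∃ p : Fin m → A, y = ∑ i, p i • g i := by
    intro y
    obtain ⟨⟨x0, hx0⟩, rfl⟩ := Algebra.Extension.Cotangent.mk_surjective y
    have hx0' : x0 ∈ Ideal.span (Set.range fE) := by
      have : x0 ∈ Gen.ker := hx0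
      rw [hGker] at this
      exact this
    obtain ⟨p, hp⟩ := (Ideal.mem_span_range_iff_exists_fun).1 hx0'
    refine ⟨fun i => algebraMap Gen.toExtension.Ring A (p i), ?_⟩
    rw [← hcomb p]
    congr 1
    exact Subtype.ext hp.symm
  -- base change to Λ
  let bΛ : Module.Basis (Fin n) Λ (Λ ⊗[A] Gen.toExtension.CotangentSpace) :=
    Gen.cotangentSpaceBasis.baseChange Λ
  let π : (Λ ⊗[A] Gen.toExtension.CotangentSpace) →ₗ[Λ] (Λ ⊗[A] Ω[A⁄R]) :=
    Gen.toExtension.toKaehler.baseChange Λ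
  let ccΛ : (Λ ⊗[A] Gen.toExtension.Cotangent) →ₗ[Λ] (Λ ⊗[A] Gen.toExtension.CotangentSpace) :=
    Gen.toExtension.cotangentComplex.baseChange Λ
  have hπ : Surjective π := by
    show Surjective (Gen.toExtension.toKaehler.baseChange Λ)
    rw [LinearMap.baseChange_eq_ltensor]
    exact LinearMap.lTensor_surjective _ hπ0
  have hexΛ : Exact ccΛ π := by
    show Exact (Gen.toExtension.cotangentComplex.baseChange Λ)
      (Gen.toExtension.toKaehler.baseChange Λ)
    rw [LinearMap.baseChange_eq_ltensor, LinearMap.baseChange_eq_ltensor]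
    exact lTensor_exact _ hex hπ0
  let w : Fin m → (Λ ⊗[A] Gen.toExtension.CotangentSpace) := fun ℓ => ccΛ (1 ⊗ₜ g ℓ)
  have hwdef : ∀ ℓ, w ℓ = 1 ⊗ₜ Gen.toExtension.cotangentComplex (g ℓ) := fun ℓ => by
    show (Gen.toExtension.cotangentComplex.baseChange Λ) (1 ⊗ₜ g ℓ) = _
    rw [LinearMap.baseChange_tmul]
  have hcoordΛ : ∀ ℓ k, bΛ.repr (w ℓ) k = algebraMap A Λ (J ℓ k) := by
    intro ℓ k
    rw [hwdef]
    show (Gen.cotangentSpaceBasis.baseChange Λ).repr _ k = _
    rw [Module.Basis.baseChange_repr_tmul, hcoord, Algebra.smul_def, mul_one]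
  have hccmem : ∀ u, ccΛ u ∈ Submodule.span Λ (Set.range w) := by
    intro u
    induction u using TensorProduct.induction_on with
    | zero => rw [map_zero]; exact Submodule.zero_mem _
    | tmul l y =>
      obtain ⟨p, rfl⟩ := hgspan y
      rw [TensorProduct.tmul_sum, map_sum]
      refine Submodule.sum_mem _ fun i _ => ?_
      have : (l ⊗ₜ[A] (p i • g i) : Λ ⊗[A] Gen.toExtension.Cotangent) =
          (algebraMap A Λ (p i) * l) • ((1 : Λ) ⊗ₜ[A] g i) := by
        rw [TensorProduct.smul_tmul', smul_eq_mul, mul_one, ← TensorProduct.smul_tmul,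
          Algebra.smul_def]
      rw [this, map_smul]
      exact Submodule.smul_mem _ _ (Submodule.subset_span ⟨i, rfl⟩)
    | add u v hu hv => rw [map_add]; exact Submodule.add_mem _ hu hv
  have hw : Submodule.span Λ (Set.range w) = LinearMap.ker π := by
    apply le_antisymm
    · rw [Submodule.span_le]
      rintro _ ⟨ℓ, rfl⟩
      exact hexΛ.apply_apply_eq_zero _
    · intro v hv
      obtain ⟨u, rfl⟩ := (hexΛ v).1 hv
      exact hccmem u
  haveI : Module.Projective Λ (Λ ⊗[A] Ω[A⁄R]) := Module.Projective.of_free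
  obtain ⟨c, rows, cols, hunit, hspanΛ⟩ := Groth.Agent.Helper2.NerA.exists_rows bΛ π hπ w hw
  -- the minor over A
  let M0A : Matrix (Fin c) (Fin c) A := Matrix.of fun j k' => J (rows j) (cols k')
  let R0 : Matrix (Fin c) (Fin n) Λ := Matrix.of fun j k => algebraMap A Λ (J (rows j) k)
  have hM0 : R0.submatrix id cols = (algebraMap A Λ).mapMatrix M0A := by
    ext j k'
    rfl
  have hunit' : IsUnit (algebraMap A Λ M0A.det) := by
    rw [RingHom.map_det, ← hM0]
    convert hunit using 2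
    ext j k'
    simp only [Matrix.submatrix_apply, Matrix.of_apply, R0, hcoordΛ]
    rfl
  have hloc : ∀ ℓ, ∃ s, s ∉ 𝔮 ∧ ∃ a : Fin c → A, ∀ k,
      s * φ (pderiv k (f ℓ)) - ∑ j, a j * φ (pderiv k (f (rows j))) ∈ 𝔮 := by
    intro ℓ
    obtain ⟨cv, hcv⟩ := (Submodule.mem_span_range_iff_exists_fun Λ).1 (hspanΛ ℓ)
    have hrow : ∀ k, (Matrix.vecMul cv R0) k = algebraMap A Λ (J ℓ k) := by
      intro k
      have := congrArg (fun z => bΛ.repr z k) hcv
      simp only [map_sum, map_smul, Finsupp.coe_finsetSum, Finsupp.coe_smul, Finset.sum_apply,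
        Pi.smul_apply, smul_eq_mul, comp_apply, hcoordΛ] at this
      rw [← this]
      simp only [Matrix.vecMul, dotProduct, R0, Matrix.of_apply]
    refine ⟨M0A.det, ?_, fun j => ∑ k', J ℓ (cols k') * M0A.adjugate k' j, ?_⟩
    · intro hmem
      rw [h𝔮, RingHom.mem_ker] at hmem
      rw [hmem] at hunit'
      exact not_isUnit_zero hunit'
    · intro k
      rw [h𝔮, RingHom.mem_ker]
      have hc := Groth.Agent.Helper2.NerC.cramer_rel R0 cols cv k
      rw [hM0] at hc
      rw [map_sub, map_mul, map_sum]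
      rw [← hc]
      congr 1
      · rw [RingHom.map_det, hrow]
      · refine Finset.sum_congr rfl fun j _ => ?_
        rw [map_mul, map_sum]
        congr 1
        refine Finset.sum_congr rfl fun k' _ => ?_
        rw [map_mul, hrow, ← RingHom.map_adjugate]
        rfl
  haveI : Algebra.IsSmoothAt R 𝔮 := hq
  obtain ⟨t, ht, htf⟩ := Groth.Agent.Helper2.NerB.exists_mul_mem f φ hφ hker 𝔮 rows hloc
  -- the complete intersection `B'`
  let I0 : Ideal (MvPolynomial (Fin n) R) := Ideal.span (Set.range (f ∘ rows))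
  have hI0 : ∀ y ∈ I0, φ y = 0 := by
    intro y hy
    have : I0 ≤ RingHom.ker φ.toRingHom := by
      rw [hker]
      exact Ideal.span_mono (by rintro _ ⟨j, rfl⟩; exact ⟨rows j, rfl⟩)
    exact this hy
  let ψ : (MvPolynomial (Fin n) R ⧸ I0) →ₐ[R] A := Ideal.Quotient.liftₐ I0 φ hI0
  have hψmk : ∀ y, ψ (Ideal.Quotient.mk I0 y) = φ y := fun y => rfl
  have hψ : Surjective ψ := by
    intro x
    obtain ⟨y, rfl⟩ := hφ x
    exact ⟨Ideal.Quotient.mk I0 y, rfl⟩
  let MP : MarkedPresentation R (MvPolynomial (Fin n) R ⧸ I0) :=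
    { n := n
      m := c
      c := c
      hcn := by simpa using Fintype.card_le_of_embedding cols
      hcm := le_refl c
      rel := f ∘ rows
      hom := Ideal.Quotient.mkₐ R I0
      surj := Ideal.Quotient.mkₐ_surjective R I0
      ker_eq := by
        show RingHom.ker (Ideal.Quotient.mkₐ R I0).toRingHom = I0
        exact Ideal.Quotient.mkₐ_ker R I0 }
  let a : MvPolynomial (Fin n) R ⧸ I0 :=
    MP.hom (jacobianMinor MP.rel (Fin.castLE MP.hcm) cols)
  have hstd : IsStrictlyStandard R (MvPolynomial (Fin n) R ⧸ I0) a := by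
    refine ⟨MP, Ideal.subset_span ⟨cols, rfl⟩, ?_⟩
    intro a' _ j hj
    exact absurd j.2 (not_lt.2 hj)
  obtain ⟨hsm, -⟩ := Groth.Agent.Helper2.StrictStd.main a hstd
  have hψa : ψ a = M0A.det := by
    show φ (jacobianMinor (f ∘ rows) (Fin.castLE (le_refl c)) cols) = _
    unfold Smoothing.jacobianMinor
    rw [AlgHom.map_det]
    congr 1
  have ha𝔭 : a ∉ 𝔭.comap ψ := by
    intro hmem
    rw [Ideal.mem_comap, hψa, h𝔭, Ideal.mem_comap] at hmem
    exact (IsLocalRing.notMem_maximalIdeal.2 hunit') hmem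
  haveI hfp : Algebra.FinitePresentation R (MvPolynomial (Fin n) R ⧸ I0) :=
    Groth.Agent.Helper2.StrictStd.finitePresentation MP
  have hB : Algebra.IsSmoothAt R (𝔭.comap ψ) := by
    have h1 := (Algebra.basicOpen_subset_smoothLocus_iff_smooth (R := R)
      (A := MvPolynomial (Fin n) R ⧸ I0) (f := a)).2 hsm
    exact h1 (show (⟨𝔭.comap ψ, inferInstance⟩ : PrimeSpectrum _) ∈
      (PrimeSpectrum.basicOpen a : Set _) from ha𝔭)
  haveI := hsm
  haveI hdom : IsDomain (Localization.AtPrime (𝔭.comap ψ)) :=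
    Groth.Agent.Helper2.NerC.isDomain_of_smooth_away (R := R) a (𝔭.comap ψ) ha𝔭
  have hkerψ : ∀ x, ψ x = 0 → ∃ s, ψ s ∉ 𝔭 ∧ s * x = 0 := by
    intro x hx
    obtain ⟨y, rfl⟩ := Ideal.Quotient.mk_surjective x
    have hy : y ∈ Ideal.span (Set.range f) := by
      rw [← hker]
      exact hx
    obtain ⟨p, rfl⟩ := (Ideal.mem_span_range_iff_exists_fun).1 hy
    have hty : Ideal.Quotient.mk I0 t * Ideal.Quotient.mk I0 (∑ i, p i * f i) = 0 := by
      rw [← map_mul, Ideal.Quotient.eq_zero_iff_mem, Finset.mul_sum]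
      refine Ideal.sum_mem _ fun i _ => ?_
      have : t * (p i * f i) = p i * (t * f i) := by ring
      rw [this]
      exact Ideal.mul_mem_left _ _ (htf i)
    have h2 := congrArg (algebraMap _ (Localization.AtPrime (𝔭.comap ψ))) hty
    rw [map_mul, map_zero, mul_eq_zero] at h2
    rcases h2 with h2 | h2
    · exfalso
      obtain ⟨⟨s, hs⟩, hst⟩ := (IsLocalization.map_eq_zero_iff (𝔭.comap ψ).primeCompl _ _).1 h2
      have h3 : ψ s * φ t = 0 := by
        have := congrArg ψ hst
        rwa [map_mul, hψmk, map_zero] at this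
      have h4 : ψ s * φ t ∈ 𝔮 := by rw [h3]; exact Ideal.zero_mem _
      rcases (inferInstance : 𝔮.IsPrime).mem_or_mem h4 with h5 | h5
      · exact hs (hqp h5)
      · exact ht h5
    · obtain ⟨⟨s, hs⟩, hst⟩ := (IsLocalization.map_eq_zero_iff (𝔭.comap ψ).primeCompl _ _).1 h2
      exact ⟨s, hs, hst⟩
  exact Groth.Agent.Helper2.NerC.isSmoothAt_of_surjective ψ hψ 𝔭 hB hkerψ

end Groth.Agent.Helper2.NerD
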