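import Mathlib

set_option autoImplicit false

/-! Adjoining `f_i / π` to a formally smooth algebra `D`, where the `d f_i` are part of a
"partial basis" of `Ω[D/R]`, gives a formally smooth algebra. -/

namespace Groth.Agent.Helper2.NerE

open MvPolynomial

universe u

variable {R D : Type u} [CommRing R] [CommRing D] [Algebra R D]

/-- the ideal of relations `r y_i - f_i` -/
noncomputable def relIdeal {ι : Type u} (r : D) (f : ι → D) : Ideal (MvPolynomial ι D) :=
  Ideal.span (Set.range fun i => C r * X i - C (f i))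

/-- modify a lift by a derivation -/
theorem exists_modify {ι : Type u} [Fintype ι] [DecidableEq ι]
    (f : ι → D) (ℓ : ι → Ω[D⁄R] →ₗ[D] D)
    (hℓ : ∀ i j, ℓ i (KaehlerDifferential.D R D (f j)) = if i = j then 1 else 0)
    {B : Type u} [CommRing B] [Algebra R B] (I : Ideal B) (hI : I ^ 2 = ⊥)
    (ψ : D →ₐ[R] B) (ε : ι → B) (hε : ∀ i, ε i ∈ I) :
    ∃ ψ' : D →ₐ[R] B, (∀ x, ψ' x - ψ x ∈ I) ∧ ∀ j, ψ' (f j) = ψ (f j) + ε j := by
  letI : Algebra D B := ψ.toRingHom.toAlgebra
  haveI : IsScalarTower R D B := IsScalarTower.of_algebraMap_eq fun r => (ψ.commutes r).symm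
  have halg : ∀ x : D, algebraMap D B x = ψ x := fun _ => rfl
  let ε' : ι → I := fun i => ⟨ε i, hε i⟩
  let δ : Derivation R D I :=
    (∑ i, (ℓ i).smulRight (ε' i)).compDer (KaehlerDifferential.D R D)
  have hδ : ∀ x : D, ((δ x : I) : B) = ∑ i, ψ (ℓ i (KaehlerDifferential.D R D x)) * ε i := by
    intro x
    have h1 : δ x = (∑ i, (ℓ i).smulRight (ε' i)) (KaehlerDifferential.D R D x) := rfl
    rw [h1, LinearMap.sum_apply, Submodule.coe_sum]
    refine Finset.sum_congr rfl fun i _ => ?_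
    rw [LinearMap.smulRight_apply, Submodule.coe_smul_of_tower, Algebra.smul_def, halg]
  refine ⟨liftOfDerivationToSquareZero I hI δ, fun x => ?_, fun j => ?_⟩
  · rw [liftOfDerivationToSquareZero_apply, halg, add_sub_cancel_right]
    exact (δ x).2
  · rw [liftOfDerivationToSquareZero_apply, halg, hδ, add_comm]
    congr 1
    rw [Finset.sum_eq_single j]
    · rw [hℓ, if_pos rfl, map_one, one_mul]
    · intro i _ hij
      rw [hℓ, if_neg hij, map_zero, zero_mul]
    · intro h; exact absurd (Finset.mem_univ j) h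

theorem formallySmooth_quot [Algebra.FormallySmooth R D] {ι : Type u} [Fintype ι] [DecidableEq ι]
    (π : R) (f : ι → D) (ℓ : ι → Ω[D⁄R] →ₗ[D] D)
    (hℓ : ∀ i j, ℓ i (KaehlerDifferential.D R D (f j)) = if i = j then 1 else 0) :
    Algebra.FormallySmooth R (MvPolynomial ι D ⧸ relIdeal (algebraMap R D π) f) := by
  apply Algebra.FormallySmooth.of_comp_surjective
  intro B _ _ I hI g
  let ι0 : D →ₐ[R] (MvPolynomial ι D ⧸ relIdeal (algebraMap R D π) f) :=
    (Ideal.Quotient.mkₐ R _).comp (IsScalarTower.toAlgHom R D (MvPolynomial ι D))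
  obtain ⟨ψ, hψ⟩ := Algebra.FormallySmooth.comp_surjective R D I hI (g.comp ι0)
  have hmk : ∀ x, Ideal.Quotient.mk I (ψ x) = g (ι0 x) := fun x => AlgHom.congr_fun hψ x
  choose b hb using fun i => Ideal.Quotient.mk_surjective
    (g (Ideal.Quotient.mk (relIdeal (algebraMap R D π) f) (X i)))
  have hrel : ∀ i, Ideal.Quotient.mk (relIdeal (algebraMap R D π) f)
      (C (algebraMap R D π) * X i - C (f i)) = 0 := fun i =>
    Ideal.Quotient.eq_zero_iff_mem.2 (Ideal.subset_span ⟨i, rfl⟩)
  have hι0 : ∀ x, ι0 x = Ideal.Quotient.mk (relIdeal (algebraMap R D π) f) (C x) := fun _ => rfl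
  have hε : ∀ i, algebraMap R B π * b i - ψ (f i) ∈ I := by
    intro i
    rw [← Ideal.Quotient.eq_zero_iff_mem, map_sub, map_mul, hb, hmk, hι0,
      ← Ideal.Quotient.algebraMap_eq, ← IsScalarTower.algebraMap_apply,
      ← g.commutes π, ← map_mul, ← map_sub]
    have : algebraMap R (MvPolynomial ι D ⧸ relIdeal (algebraMap R D π) f) π =
        Ideal.Quotient.mk _ (C (algebraMap R D π)) := rfl
    rw [this, ← map_mul, ← map_sub, hrel, map_zero]
  obtain ⟨ψ', hψ'1, hψ'2⟩ := exists_modify f ℓ hℓ I hI ψ _ hε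
  let G0 : MvPolynomial ι D →+* B := MvPolynomial.eval₂Hom (ψ' : D →+* B) b
  let G : MvPolynomial ι D →ₐ[R] B :=
    { G0 with
      commutes' := fun r => by
        show G0 (algebraMap R (MvPolynomial ι D) r) = _
        rw [IsScalarTower.algebraMap_apply R D (MvPolynomial ι D), MvPolynomial.algebraMap_eq]
        simp only [G0, MvPolynomial.coe_eval₂Hom, MvPolynomial.eval₂_C]
        exact ψ'.commutes r }
  have hGC : ∀ x, G (C x) = ψ' x := fun x => by
    show G0 (C x) = _
    simp only [G0, MvPolynomial.coe_eval₂Hom, MvPolynomial.eval₂_C]; rfl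
  have hGX : ∀ i, G (X i) = b i := fun i => by
    show G0 (X i) = _
    simp only [G0, MvPolynomial.coe_eval₂Hom, MvPolynomial.eval₂_X]
  have hGker : ∀ x ∈ relIdeal (algebraMap R D π) f, G x = 0 := by
    intro x hx
    have : relIdeal (algebraMap R D π) f ≤ RingHom.ker G.toRingHom := by
      rw [relIdeal, Ideal.span_le]
      rintro _ ⟨i, rfl⟩
      show G _ = 0
      rw [map_sub, map_mul, hGC, hGC, hGX, hψ'2, ψ'.commutes]
      ring
    exact this hx
  refine ⟨Ideal.Quotient.liftₐ _ G hGker, ?_⟩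
  apply Ideal.Quotient.algHom_ext
  apply MvPolynomial.algHom_ext'
  · ext x
    show Ideal.Quotient.mk I (G (C x)) = g (Ideal.Quotient.mk _ (C x))
    rw [hGC, ← hι0, ← hmk, Ideal.Quotient.eq]
    exact hψ'1 x
  · intro i
    show Ideal.Quotient.mk I (G (X i)) = g (Ideal.Quotient.mk _ (X i))
    rw [hGX, hb]

end Groth.Agent.Helper2.NerE
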