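import Mathlib

set_option autoImplicit false

/-! Local ring `D` over a local ring `R` with formally smooth residue field extension:
elements of `m_D` independent modulo `m_D² + m_R D` have independent differentials, and so
admit a dual family of linear forms on `Ω[D/R]` when the latter is finite free. -/

namespace Groth.Agent.Helper2.NerF

open IsLocalRing TensorProduct

universe u

variable {R D : Type u} [CommRing R] [IsLocalRing R] [CommRing D] [IsLocalRing D] [Algebra R D]
  [IsLocalHom (algebraMap R D)]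

variable (R D) in
/-- the ideal `m_D² + m_R D` -/
def W : Ideal D := maximalIdeal D ^ 2 ⊔ (maximalIdeal R).map (algebraMap R D)

lemma W_le : W R D ≤ maximalIdeal D := by
  refine sup_le (Ideal.pow_le_self two_ne_zero) ?_
  rw [Ideal.map_le_iff_le_comap]
  intro r hr
  exact map_nonunit (algebraMap R D) r hr

theorem sum_mem_W [Algebra.FormallySmooth (ResidueField R) (ResidueField D)]
    {ι : Type*} [Fintype ι] (f : ι → D) (hf : ∀ i, f i ∈ maximalIdeal D) (a : ι → D)
    (h : ∑ i, a i • KaehlerDifferential.D R D (f i) ∈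
      maximalIdeal D • (⊤ : Submodule D Ω[D⁄R])) :
    ∑ i, a i * f i ∈ W R D := by
  classical
  let φk : ResidueField R →+* D ⧸ W R D :=
    Ideal.Quotient.lift (maximalIdeal R)
      ((Ideal.Quotient.mk (W R D)).comp (algebraMap R D)) (fun r hr => by
        rw [RingHom.comp_apply, Ideal.Quotient.eq_zero_iff_mem]
        exact (le_sup_right : _ ≤ W R D) (Ideal.mem_map_of_mem _ hr))
  letI : Algebra (ResidueField R) (D ⧸ W R D) := φk.toAlgebra
  haveI : IsScalarTower R (ResidueField R) (D ⧸ W R D) :=
    IsScalarTower.of_algebraMap_eq fun r => rfl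
  let ρ0 : D ⧸ W R D →+* ResidueField D :=
    Ideal.Quotient.lift (W R D) (residue D)
      (fun x hx => (residue_eq_zero_iff x).2 (W_le hx))
  let ρ : D ⧸ W R D →ₐ[ResidueField R] ResidueField D :=
    { ρ0 with
      commutes' := fun r => by
        obtain ⟨r, rfl⟩ := residue_surjective r
        rfl }
  have hρmk : ∀ x : D, ρ (Ideal.Quotient.mk _ x) = residue D x := fun _ => rfl
  have hρsurj : Function.Surjective ρ := fun y => by
    obtain ⟨x, rfl⟩ := residue_surjective y
    exact ⟨Ideal.Quotient.mk _ x, rfl⟩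
  have hker : ∀ u v : D ⧸ W R D, ρ u = 0 → ρ v = 0 → u * v = 0 := by
    intro u v hu hv
    obtain ⟨x, rfl⟩ := Ideal.Quotient.mk_surjective u
    obtain ⟨y, rfl⟩ := Ideal.Quotient.mk_surjective v
    rw [hρmk, residue_eq_zero_iff] at hu hv
    rw [← map_mul, Ideal.Quotient.eq_zero_iff_mem]
    exact (le_sup_left : _ ≤ W R D) (by rw [pow_two]; exact Ideal.mul_mem_mul hu hv)
  have hnil : IsNilpotent (RingHom.ker (ρ : D ⧸ W R D →+* ResidueField D)) := by
    refine ⟨2, ?_⟩
    rw [pow_two, Ideal.zero_eq_bot, eq_bot_iff, Ideal.mul_le]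
    intro u hu v hv
    rw [Ideal.mem_bot]
    exact hker u v hu hv
  let σ : ResidueField D →ₐ[ResidueField R] D ⧸ W R D :=
    Algebra.FormallySmooth.liftOfSurjective (AlgHom.id _ _) ρ hρsurj hnil
  have hσ : ∀ y, ρ (σ y) = y := fun y =>
    Algebra.FormallySmooth.liftOfSurjective_apply (AlgHom.id _ _) ρ hρsurj hnil y
  -- the two `R`-algebra maps `D → D ⧸ W`
  let q : D →ₐ[R] D ⧸ W R D := IsScalarTower.toAlgHom R D (D ⧸ W R D)
  let s : D →ₐ[R] D ⧸ W R D :=
    (σ.restrictScalars R).comp (IsScalarTower.toAlgHom R D (ResidueField D))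
  have hq : ∀ x, q x = Ideal.Quotient.mk _ x := fun _ => rfl
  have hs : ∀ x, s x = σ (residue D x) := fun _ => rfl
  have hdiff : ∀ x, ρ (q x - s x) = 0 := fun x => by
    rw [map_sub, hq, hρmk, hs, hσ, sub_self]
  let δ : Derivation R D (D ⧸ W R D) := Derivation.mk' (q.toLinearMap - s.toLinearMap) (by
    intro x y
    have h0 := hker _ _ (hdiff x) (hdiff y)
    simp only [LinearMap.sub_apply, AlgHom.toLinearMap_apply, map_mul, Algebra.smul_def,
      Ideal.Quotient.algebraMap_eq, ← hq]
    linear_combination -h0)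
  have hδ : ∀ x, δ x = q x - s x := fun _ => rfl
  let L : Ω[D⁄R] →ₗ[D] D ⧸ W R D := δ.liftKaehlerDifferential
  have hL : ∀ x, L (KaehlerDifferential.D R D x) = δ x := fun x =>
    Derivation.liftKaehlerDifferential_comp_D δ x
  have hLker : ∀ ω, ρ (L ω) = 0 := by
    intro ω
    have hω : ω ∈ Submodule.span D (Set.range (KaehlerDifferential.D R D)) := by
      rw [KaehlerDifferential.span_range_derivation]; exact Submodule.mem_top
    induction hω using Submodule.span_induction with
    | mem x hx =>
      obtain ⟨x, rfl⟩ := hx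
      rw [hL, hδ]; exact hdiff x
    | zero => rw [map_zero, map_zero]
    | add x y _ _ hx hy => rw [map_add, map_add, hx, hy, add_zero]
    | smul c x _ hx =>
      rw [map_smul, Algebra.smul_def, map_mul, hx, mul_zero]
  have hLm : ∀ ω ∈ maximalIdeal D • (⊤ : Submodule D Ω[D⁄R]), L ω = 0 := by
    intro ω hω
    refine Submodule.smul_induction_on hω ?_ ?_
    · intro r hr ω' _
      rw [map_smul, Algebra.smul_def, Ideal.Quotient.algebraMap_eq]
      apply hker _ _ _ (hLker ω')
      rw [hρmk, residue_eq_zero_iff]; exact hr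
    · intro x y hx hy
      rw [map_add, hx, hy, add_zero]
  have h1 := hLm _ h
  rw [map_sum] at h1
  have h2 : ∀ i, L (a i • KaehlerDifferential.D R D (f i)) =
      Ideal.Quotient.mk (W R D) (a i * f i) := by
    intro i
    rw [map_smul, hL, hδ, hs, (residue_eq_zero_iff (f i)).2 (hf i), map_zero, sub_zero, hq,
      Algebra.smul_def, Ideal.Quotient.algebraMap_eq, ← map_mul]
  rw [Finset.sum_congr rfl (fun i _ => h2 i), ← map_sum, Ideal.Quotient.eq_zero_iff_mem] at h1
  exact h1

/-- `1 ⊗ v = 0` in `κ ⊗ V` implies `v ∈ m V` -/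
lemma mem_smul_top_of_tmul_eq_zero {V : Type*} [AddCommGroup V] [Module D V] (v : V)
    (h : (1 : ResidueField D) ⊗ₜ[D] v = 0) : v ∈ maximalIdeal D • (⊤ : Submodule D V) := by
  have h1 := TensorProduct.quotTensorEquivQuotSMul_mk_one_tmul (M := V) (maximalIdeal D) v
  have h2 : (1 : D ⧸ maximalIdeal D) ⊗ₜ[D] v = 0 := h
  rw [h2, map_zero] at h1
  exact (Submodule.Quotient.mk_eq_zero _).1 h1.symm

theorem exists_dual [Algebra.FormallySmooth (ResidueField R) (ResidueField D)]
    [Module.Finite D Ω[D⁄R]] [Module.Free D Ω[D⁄R]]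
    {ι : Type u} [Fintype ι] [DecidableEq ι] (f : ι → D) (hf : ∀ i, f i ∈ maximalIdeal D)
    (hind : ∀ a : ι → D, ∑ i, a i * f i ∈ W R D → ∀ i, a i ∈ maximalIdeal D) :
    ∃ ℓ : ι → Ω[D⁄R] →ₗ[D] D,
      ∀ i j, ℓ i (KaehlerDifferential.D R D (f j)) = if i = j then 1 else 0 := by
  let l : (ι → D) →ₗ[D] Ω[D⁄R] :=
    Fintype.linearCombination D (fun i => KaehlerDifferential.D R D (f i))
  have hl : ∀ a, l a = ∑ i, a i • KaehlerDifferential.D R D (f i) := fun a =>
    Fintype.linearCombination_apply D _ a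
  have hinj : Function.Injective (l.lTensor (ResidueField D)) := by
    rw [injective_iff_map_eq_zero]
    intro y hy
    obtain ⟨a, rfl⟩ := TensorProduct.mk_surjective D (ι → D) (ResidueField D)
      residue_surjective y
    rw [TensorProduct.mk_apply, LinearMap.lTensor_tmul] at hy
    have h1 := mem_smul_top_of_tmul_eq_zero _ hy
    rw [hl] at h1
    have h2 := hind a (sum_mem_W f hf a h1)
    rw [TensorProduct.mk_apply]
    have ha : a = ∑ i, a i • (Pi.single i (1 : D) : ι → D) := by
      ext j
      simp [Finset.sum_apply, Pi.single_apply]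
    rw [ha, TensorProduct.tmul_sum]
    refine Finset.sum_eq_zero fun i _ => ?_
    rw [TensorProduct.tmul_smul, TensorProduct.smul_tmul', Algebra.smul_def, mul_one]
    have : algebraMap D (ResidueField D) (a i) = 0 := (residue_eq_zero_iff (a i)).2 (h2 i)
    rw [this, TensorProduct.zero_tmul]
  obtain ⟨l', hl'⟩ :=
    (IsLocalRing.split_injective_iff_lTensor_residueField_injective l).2 hinj
  refine ⟨fun i => (LinearMap.proj i).comp l', fun i j => ?_⟩
  have h3 : l (Pi.single j (1 : D)) = KaehlerDifferential.D R D (f j) := by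
    rw [hl, Finset.sum_eq_single j]
    · rw [Pi.single_eq_same, one_smul]
    · intro i _ hij
      rw [Pi.single_eq_of_ne hij, zero_smul]
    · intro hj; exact absurd (Finset.mem_univ j) hj
  have h4 : l' (l (Pi.single j (1 : D))) = Pi.single j (1 : D) := by
    rw [← LinearMap.comp_apply, hl', LinearMap.id_apply]
  rw [LinearMap.comp_apply, ← h3, h4, LinearMap.proj_apply, Pi.single_apply]

end Groth.Agent.Helper2.NerF
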