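import Mathlib

set_option autoImplicit false

/-! Choosing a minimal set of generators of the maximal ideal of a noetherian local ring
modulo a fixed ideal, out of a given generating set. -/

namespace Groth.Agent.Helper2.NerG

open IsLocalRing

universe u

theorem exists_minimal_gens {D : Type u} [CommRing D] [IsLocalRing D] [IsNoetherianRing D]
    (J0 : Ideal D) (S : Set D) (hS : Ideal.span S ⊔ J0 = maximalIdeal D) :
    ∃ T : Finset D, (↑T : Set D) ⊆ S ∧ Ideal.span (↑T : Set D) ⊔ J0 = maximalIdeal D ∧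
      ∀ a : D → D, ∑ t ∈ T, a t * t ∈ maximalIdeal D ^ 2 ⊔ J0 →
        ∀ t ∈ T, a t ∈ maximalIdeal D := by
  classical
  have hfg : (Submodule.span D S).FG := IsNoetherian.noetherian _
  obtain ⟨T0, hT0S, hT0⟩ := (Submodule.fg_span_iff_fg_span_finset_subset S).1 hfg
  let P : Finset D → Prop := fun T =>
    (↑T : Set D) ⊆ S ∧ Ideal.span (↑T : Set D) ⊔ J0 = maximalIdeal D
  have hP0 : P T0 := ⟨hT0S, by
    have : Ideal.span (↑T0 : Set D) = Ideal.span S := hT0.symm
    rw [this]; exact hS⟩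
  have hex : ∃ n, ∃ T, T.card = n ∧ P T := ⟨T0.card, T0, rfl, hP0⟩
  obtain ⟨T, hTc, hT⟩ := Nat.find_spec hex
  have hmin : ∀ T', P T' → T.card ≤ T'.card := by
    intro T' hT'
    rw [hTc]
    exact Nat.find_min' hex ⟨T', rfl, hT'⟩
  refine ⟨T, hT.1, hT.2, ?_⟩
  intro a ha t0 ht0
  by_contra hu
  have hunit : IsUnit (a t0) := by
    by_contra h; exact hu ((mem_maximalIdeal _).2 h)
  obtain ⟨u, hu'⟩ := hunit
  -- the smaller set
  have hsub : (↑(T.erase t0) : Set D) ⊆ S := fun x hx => hT.1 (Finset.mem_of_mem_erase hx)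
  set N : Ideal D := Ideal.span (↑(T.erase t0) : Set D) ⊔ J0 with hN
  have hNle : N ≤ maximalIdeal D := by
    rw [← hT.2]
    exact sup_le_sup_right (Ideal.span_mono (fun x hx => Finset.mem_of_mem_erase hx)) _
  -- t0 ∈ N ⊔ m²
  have ht0mem : t0 ∈ N ⊔ maximalIdeal D ^ 2 := by
    have h1 : a t0 * t0 + ∑ t ∈ T.erase t0, a t * t = ∑ t ∈ T, a t * t :=
      Finset.add_sum_erase T (fun t => a t * t) ht0
    have h2 : a t0 * t0 ∈ N ⊔ maximalIdeal D ^ 2 := by
      have h3 : a t0 * t0 = ∑ t ∈ T, a t * t - ∑ t ∈ T.erase t0, a t * t := by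
        rw [← h1]; ring
      rw [h3]
      refine Ideal.sub_mem _ ?_ ?_
      · have : maximalIdeal D ^ 2 ⊔ J0 ≤ N ⊔ maximalIdeal D ^ 2 :=
          sup_le le_sup_right (le_sup_of_le_left le_sup_right)
        exact this ha
      · refine Ideal.sum_mem _ fun t ht => ?_
        exact Ideal.mul_mem_left _ _
          ((le_sup_left : N ≤ _) ((le_sup_left : _ ≤ N) (Ideal.subset_span ht)))
    have h4 : t0 = (↑u⁻¹ : D) * (a t0 * t0) := by
      rw [← hu', ← mul_assoc, Units.inv_mul, one_mul]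
    rw [h4]
    exact Ideal.mul_mem_left _ _ h2
  -- Nakayama
  have hle : maximalIdeal D ≤ N := by
    apply Submodule.le_of_le_smul_of_le_jacobson_bot (I := maximalIdeal D)
      (IsNoetherian.noetherian _)
    · rw [IsLocalRing.jacobson_eq_maximalIdeal ⊥ bot_ne_top]
    · rw [smul_eq_mul, ← pow_two]
      conv_lhs => rw [← hT.2]
      refine sup_le ?_ (le_sup_of_le_left le_sup_right)
      rw [Ideal.span_le]
      intro t ht
      by_cases htt : t = t0
      · rw [htt]; exact ht0mem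
      · exact (le_sup_left : N ≤ _) ((le_sup_left : _ ≤ N)
          (Ideal.subset_span (Finset.mem_erase.2 ⟨htt, ht⟩)))
  have hP' : P (T.erase t0) := ⟨hsub, le_antisymm hNle hle⟩
  have h5 := hmin _ hP'
  rw [Finset.card_erase_of_mem ht0] at h5
  have h6 : 0 < T.card := Finset.card_pos.2 ⟨t0, ht0⟩
  omega

end Groth.Agent.Helper2.NerG
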