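import Mathlib
import Groth.Agent.Helper2.NerE

set_option autoImplicit false

/-! Comparison of the local ring of the Néron blow-up with `D[f_i/π]`. -/

namespace Groth.Agent.Helper2.NerH

open IsLocalRing MvPolynomial Groth.Agent.Helper2.NerE

universe u

variable {R A A' : Type u} [CommRing R] [CommRing A] [CommRing A'] [Algebra R A] [Algebra A A']
  [Algebra R A'] [IsScalarTower R A A']

theorem exists_pow_mul_eq (𝔭 : Ideal A) (π : R) (z : 𝔭 → A')
    (hz : ∀ x : 𝔭, algebraMap R A' π * z x = algebraMap A A' x)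
    (hgen : Algebra.adjoin A (Set.range z) = ⊤) (t' : A') :
    ∃ (n : ℕ) (t0 : A), algebraMap R A' π ^ n * t' = algebraMap A A' t0 := by
  have hmem : t' ∈ Algebra.adjoin A (Set.range z) := by rw [hgen]; exact Algebra.mem_top
  have hπ : algebraMap R A' π = algebraMap A A' (algebraMap R A π) :=
    IsScalarTower.algebraMap_apply R A A' π
  induction hmem using Algebra.adjoin_induction with
  | mem y hy =>
    obtain ⟨x, rfl⟩ := hy
    exact ⟨1, x, by rw [pow_one, hz]⟩
  | algebraMap y => exact ⟨0, y, by rw [pow_zero, one_mul]⟩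
  | add u v _ _ hu hv =>
    obtain ⟨n1, t1, h1⟩ := hu
    obtain ⟨n2, t2, h2⟩ := hv
    refine ⟨n1 + n2, algebraMap R A π ^ n2 * t1 + algebraMap R A π ^ n1 * t2, ?_⟩
    rw [map_add, map_mul, map_mul, map_pow, map_pow, ← hπ, ← h1, ← h2, pow_add]
    ring
  | mul u v _ _ hu hv =>
    obtain ⟨n1, t1, h1⟩ := hu
    obtain ⟨n2, t2, h2⟩ := hv
    refine ⟨n1 + n2, t1 * t2, ?_⟩
    rw [map_mul, ← h1, ← h2, pow_add]; ring

theorem localRingHom_injective (𝔭 : Ideal A) [𝔭.IsPrime] (𝔭' : Ideal A') [𝔭'.IsPrime]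
    (hcomap : 𝔭 = 𝔭'.comap (algebraMap A A')) (π : R) (z : 𝔭 → A')
    (hz : ∀ x : 𝔭, algebraMap R A' π * z x = algebraMap A A' x)
    (hgen : Algebra.adjoin A (Set.range z) = ⊤)
    (hreg : algebraMap R A' π ∈ nonZeroDivisors A')
    (hker : ∀ y : A, algebraMap A A' y = 0 → ∃ m : ℕ, algebraMap R A π ^ m * y = 0)
    [IsDomain (Localization.AtPrime 𝔭)] (hπD : algebraMap R (Localization.AtPrime 𝔭) π ≠ 0) :
    Function.Injective (Localization.localRingHom 𝔭 𝔭' (algebraMap A A') hcomap) := by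
  rw [injective_iff_map_eq_zero]
  intro d hd
  obtain ⟨b, s, rfl⟩ := IsLocalization.exists_mk'_eq 𝔭.primeCompl d
  rw [Localization.localRingHom_mk', IsLocalization.mk'_eq_zero_iff] at hd
  obtain ⟨t', ht'⟩ := hd
  obtain ⟨n, t0, hn⟩ := exists_pow_mul_eq 𝔭 π z hz hgen (t' : A')
  have h1 : algebraMap A A' (t0 * b) = 0 := by
    rw [map_mul, ← hn, mul_assoc, ht', mul_zero]
  obtain ⟨m, hm⟩ := hker _ h1
  have h2 : algebraMap R (Localization.AtPrime 𝔭) π ^ m *
      (algebraMap A (Localization.AtPrime 𝔭) t0 * algebraMap A (Localization.AtPrime 𝔭) b) = 0 := by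
    rw [IsScalarTower.algebraMap_apply R A (Localization.AtPrime 𝔭), ← map_pow, ← map_mul,
      ← map_mul, hm, map_zero]
  rw [IsLocalization.mk'_eq_iff_eq_mul, zero_mul]
  rcases mul_eq_zero.1 h2 with h3 | h3
  · exact absurd h3 (pow_ne_zero _ hπD)
  rcases mul_eq_zero.1 h3 with h4 | h4
  · exfalso
    obtain ⟨s', hs'⟩ := (IsLocalization.map_eq_zero_iff 𝔭.primeCompl _ t0).1 h4
    have h5 : algebraMap R A' π ^ n * (algebraMap A A' (s' : A) * (t' : A')) = 0 := by
      rw [mul_left_comm, hn, ← map_mul, hs', map_zero]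
    have h6 : algebraMap A A' (s' : A) * (t' : A') = 0 :=
      (mul_left_mem_nonZeroDivisors_eq_zero_iff (pow_mem hreg n)).1 h5
    have h7 : algebraMap A A' (s' : A) * (t' : A') ∈ 𝔭' := by rw [h6]; exact Ideal.zero_mem _
    rcases Ideal.IsPrime.mem_or_mem inferInstance h7 with h8 | h8
    · have hle : 𝔭'.comap (algebraMap A A') ≤ 𝔭 := hcomap.ge
      exact s'.2 (hle h8)
    · exact t'.2 h8
  · exact h4

section Main

variable (𝔭 : Ideal A) [𝔭.IsPrime] (𝔭' : Ideal A') [𝔭'.IsPrime]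
  (hcomap : 𝔭 = 𝔭'.comap (algebraMap A A')) (π : R) (z : 𝔭 → A')
  (hz : ∀ x : 𝔭, algebraMap R A' π * z x = algebraMap A A' x)
  (hgen : Algebra.adjoin A (Set.range z) = ⊤)
  (hreg : algebraMap R A' π ∈ nonZeroDivisors A')
  (hker : ∀ y : A, algebraMap A A' y = 0 → ∃ m : ℕ, algebraMap R A π ^ m * y = 0)
  [IsDomain (Localization.AtPrime 𝔭)] (hπD : algebraMap R (Localization.AtPrime 𝔭) π ≠ 0)
  {ι : Type u} [Fintype ι] (x : ι → A) (hx : ∀ i, x i ∈ 𝔭)
  (hspan : ∀ y ∈ 𝔭, ∃ (u : Localization.AtPrime 𝔭) (v : ι → Localization.AtPrime 𝔭),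
    algebraMap A (Localization.AtPrime 𝔭) y = u * algebraMap R (Localization.AtPrime 𝔭) π +
      ∑ i, v i * algebraMap A (Localization.AtPrime 𝔭) (x i))

include hcomap hz hgen hreg hker hπD hx hspan in
theorem formallySmooth_atPrime
    [Algebra.FormallySmooth R (MvPolynomial ι (Localization.AtPrime 𝔭) ⧸
      relIdeal (algebraMap R (Localization.AtPrime 𝔭) π)
        (fun i => algebraMap A (Localization.AtPrime 𝔭) (x i)))]
    (hreg'' : algebraMap R (MvPolynomial ι (Localization.AtPrime 𝔭) ⧸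
      relIdeal (algebraMap R (Localization.AtPrime 𝔭) π)
        (fun i => algebraMap A (Localization.AtPrime 𝔭) (x i))) π ∈ nonZeroDivisors _) :
    Algebra.FormallySmooth R (Localization.AtPrime 𝔭') := by
  classical
  set J := relIdeal (algebraMap R (Localization.AtPrime 𝔭) π)
        (fun i => algebraMap A (Localization.AtPrime 𝔭) (x i)) with hJ
  let lam : Localization.AtPrime 𝔭 →+* Localization.AtPrime 𝔭' :=
    Localization.localRingHom 𝔭 𝔭' (algebraMap A A') hcomap
  have hlam_inj : Function.Injective lam :=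
    localRingHom_injective 𝔭 𝔭' hcomap π z hz hgen hreg hker hπD
  have hlamA : ∀ y : A, lam (algebraMap A _ y) = algebraMap A' _ (algebraMap A A' y) := fun y =>
    Localization.localRingHom_to_map 𝔭 𝔭' (algebraMap A A') hcomap y
  have hlamR : ∀ r : R, lam (algebraMap R _ r) = algebraMap R _ r := by
    intro r
    rw [IsScalarTower.algebraMap_apply R A (Localization.AtPrime 𝔭), hlamA,
      ← IsScalarTower.algebraMap_apply R A A', ← IsScalarTower.algebraMap_apply]
  let ζ : ι → Localization.AtPrime 𝔭' := fun i => algebraMap A' _ (z ⟨x i, hx i⟩)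
  have hπE : algebraMap R (Localization.AtPrime 𝔭') π ∈ nonZeroDivisors (Localization.AtPrime 𝔭') := by
    rw [IsScalarTower.algebraMap_apply R A' (Localization.AtPrime 𝔭')]
    exact IsLocalization.map_nonZeroDivisors_le 𝔭'.primeCompl _ (Submonoid.mem_map_of_mem _ hreg)
  have hζ : ∀ i, algebraMap R (Localization.AtPrime 𝔭') π * ζ i =
      lam (algebraMap A _ (x i)) := by
    intro i
    rw [hlamA, IsScalarTower.algebraMap_apply R A' (Localization.AtPrime 𝔭'), ← map_mul, hz]
  let Θ0 : MvPolynomial ι (Localization.AtPrime 𝔭) →+* Localization.AtPrime 𝔭' :=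
    MvPolynomial.eval₂Hom lam ζ
  have hΘ0C : ∀ d, Θ0 (C d) = lam d := fun d => by
    simp only [Θ0, MvPolynomial.coe_eval₂Hom, MvPolynomial.eval₂_C]
  have hΘ0X : ∀ i, Θ0 (X i) = ζ i := fun i => by
    simp only [Θ0, MvPolynomial.coe_eval₂Hom, MvPolynomial.eval₂_X]
  have hΘ0ker : ∀ p ∈ J, Θ0 p = 0 := by
    intro p hp
    have : J ≤ RingHom.ker Θ0 := by
      rw [hJ, relIdeal, Ideal.span_le]
      rintro _ ⟨i, rfl⟩
      show Θ0 _ = 0
      rw [map_sub, map_mul, hΘ0C, hΘ0C, hΘ0X, hlamR, hζ, sub_self]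
    exact this hp
  let Θ : MvPolynomial ι (Localization.AtPrime 𝔭) ⧸ J →+* Localization.AtPrime 𝔭' :=
    Ideal.Quotient.lift J Θ0 hΘ0ker
  have hΘmk : ∀ p, Θ (Ideal.Quotient.mk J p) = Θ0 p := fun p => Ideal.Quotient.lift_mk J Θ0 hΘ0ker
  have hΘR : ∀ r : R, Θ (algebraMap R _ r) = algebraMap R _ r := by
    intro r
    have : algebraMap R (MvPolynomial ι (Localization.AtPrime 𝔭) ⧸ J) r =
        Ideal.Quotient.mk J (C (algebraMap R _ r)) := rfl
    rw [this, hΘmk, hΘ0C, hlamR]
  -- relation in the quotient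
  have hrel : ∀ i, Ideal.Quotient.mk J (C (algebraMap R (Localization.AtPrime 𝔭) π) * X i) =
      Ideal.Quotient.mk J (C (algebraMap A (Localization.AtPrime 𝔭) (x i))) := by
    intro i
    rw [Ideal.Quotient.eq]
    exact Ideal.subset_span ⟨i, rfl⟩
  -- G2
  have hG2 : ∀ p : MvPolynomial ι (Localization.AtPrime 𝔭), ∃ (N : ℕ) (d0 : Localization.AtPrime 𝔭),
      Ideal.Quotient.mk J (C (algebraMap R (Localization.AtPrime 𝔭) π) ^ N * p) =
        Ideal.Quotient.mk J (C d0) := by
    intro p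
    induction p using MvPolynomial.induction_on with
    | C d => exact ⟨0, d, by rw [pow_zero, one_mul]⟩
    | add p q hp hq =>
      obtain ⟨N1, d1, h1⟩ := hp
      obtain ⟨N2, d2, h2⟩ := hq
      refine ⟨N1 + N2, algebraMap R (Localization.AtPrime 𝔭) π ^ N2 * d1 +
        algebraMap R (Localization.AtPrime 𝔭) π ^ N1 * d2, ?_⟩
      have e1 : C (algebraMap R (Localization.AtPrime 𝔭) π) ^ (N1 + N2) * (p + q) =
          C (algebraMap R (Localization.AtPrime 𝔭) π) ^ N2 *
            (C (algebraMap R (Localization.AtPrime 𝔭) π) ^ N1 * p) +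
          C (algebraMap R (Localization.AtPrime 𝔭) π) ^ N1 *
            (C (algebraMap R (Localization.AtPrime 𝔭) π) ^ N2 * q) := by
        rw [pow_add]; ring
      rw [e1, map_add, map_mul, map_mul _ _ (_ * q), h1, h2, map_add C, map_mul C, map_mul C,
        map_pow C, map_pow C, map_add, map_mul, map_mul]
    | mul_X p i hp =>
      obtain ⟨N, d0, h⟩ := hp
      refine ⟨N + 1, d0 * algebraMap A (Localization.AtPrime 𝔭) (x i), ?_⟩
      have e1 : C (algebraMap R (Localization.AtPrime 𝔭) π) ^ (N + 1) * (p * X i) =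
          (C (algebraMap R (Localization.AtPrime 𝔭) π) ^ N * p) *
            (C (algebraMap R (Localization.AtPrime 𝔭) π) * X i) := by
        rw [pow_succ]; ring
      rw [e1, map_mul, h, hrel, ← map_mul, ← map_mul C]
  -- Θ injective
  have hΘinj : Function.Injective Θ := by
    rw [injective_iff_map_eq_zero]
    intro w hw
    obtain ⟨p, rfl⟩ := Ideal.Quotient.mk_surjective w
    obtain ⟨N, d0, hN⟩ := hG2 p
    have h1 : lam d0 = 0 := by
      rw [← hΘ0C, ← hΘmk, ← hN, map_mul, map_mul, hw, mul_zero]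
    have h2 : d0 = 0 := hlam_inj (by rw [h1, map_zero])
    rw [h2, map_zero, map_zero, map_mul, map_pow] at hN
    exact (mul_left_mem_nonZeroDivisors_eq_zero_iff (pow_mem hreg'' N)).1 hN
  -- G3
  have hG3 : ∀ t' : A', algebraMap A' (Localization.AtPrime 𝔭') t' ∈ Θ.range := by
    intro t'
    have hmem : t' ∈ Algebra.adjoin A (Set.range z) := by rw [hgen]; exact Algebra.mem_top
    induction hmem using Algebra.adjoin_induction with
    | mem y hy =>
      obtain ⟨y, rfl⟩ := hy
      obtain ⟨u, v, huv⟩ := hspan y y.2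
      refine ⟨Ideal.Quotient.mk J (C u + ∑ i, C (v i) * X i), ?_⟩
      rw [hΘmk, map_add, map_sum, hΘ0C]
      have key : algebraMap R (Localization.AtPrime 𝔭') π * algebraMap A' (Localization.AtPrime 𝔭') (z y) =
          algebraMap R (Localization.AtPrime 𝔭') π * (lam u + ∑ i, Θ0 (C (v i) * X i)) := by
        rw [IsScalarTower.algebraMap_apply R A' (Localization.AtPrime 𝔭'), ← map_mul, hz, ← hlamA,
          huv, map_add, map_mul, map_sum, hlamR, mul_add, Finset.mul_sum,
          ← IsScalarTower.algebraMap_apply R A' (Localization.AtPrime 𝔭')]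
        congr 1
        · ring
        · refine Finset.sum_congr rfl fun i _ => ?_
          rw [map_mul, map_mul, hΘ0C, hΘ0X, ← hζ]
          ring
      exact ((mul_cancel_left_mem_nonZeroDivisors hπE).1 key).symm
    | algebraMap y =>
      exact ⟨Ideal.Quotient.mk J (C (algebraMap A _ y)), by rw [hΘmk, hΘ0C, hlamA]⟩
    | add u v _ _ hu hv => rw [map_add]; exact Θ.range.add_mem hu hv
    | mul u v _ _ hu hv => rw [map_mul]; exact Θ.range.mul_mem hu hv
  letI : Algebra (MvPolynomial ι (Localization.AtPrime 𝔭) ⧸ J) (Localization.AtPrime 𝔭') :=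
    Θ.toAlgebra
  haveI : IsScalarTower R (MvPolynomial ι (Localization.AtPrime 𝔭) ⧸ J) (Localization.AtPrime 𝔭') :=
    IsScalarTower.of_algebraMap_eq fun r => (hΘR r).symm
  let 𝔭'' : Ideal (MvPolynomial ι (Localization.AtPrime 𝔭) ⧸ J) :=
    (maximalIdeal (Localization.AtPrime 𝔭')).comap Θ
  haveI : 𝔭''.IsPrime := Ideal.comap_isPrime _ _
  haveI : IsLocalization 𝔭''.primeCompl (Localization.AtPrime 𝔭') := by
    refine ⟨?_, ?_, ?_⟩
    · rintro ⟨y, hy⟩
      show IsUnit (Θ y)
      by_contra h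
      exact hy ((mem_maximalIdeal _).2 h)
    · intro e
      obtain ⟨⟨a', t'⟩, h⟩ := IsLocalization.surj 𝔭'.primeCompl e
      obtain ⟨w1, hw1⟩ := hG3 a'
      obtain ⟨w2, hw2⟩ := hG3 (t' : A')
      refine ⟨⟨w1, ⟨w2, ?_⟩⟩, ?_⟩
      · intro hmem
        have h1 : Θ w2 ∈ maximalIdeal (Localization.AtPrime 𝔭') := hmem
        rw [hw2] at h1
        exact (mem_maximalIdeal _).1 h1 (IsLocalization.map_units _ t')
      · show e * Θ w2 = Θ w1
        rw [hw1, hw2]; exact h
    · intro y1 y2 h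
      exact ⟨1, by rw [hΘinj h]⟩
  haveI : Algebra.FormallySmooth (MvPolynomial ι (Localization.AtPrime 𝔭) ⧸ J)
      (Localization.AtPrime 𝔭') := Algebra.FormallySmooth.of_isLocalization 𝔭''.primeCompl
  exact Algebra.FormallySmooth.comp R (MvPolynomial ι (Localization.AtPrime 𝔭) ⧸ J) _

end Main

end Groth.Agent.Helper2.NerH
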