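import Mathlib
import Groth.Prelude
import Groth.Agent.Helper2.NerC
import Groth.Agent.Helper2.NerE
import Groth.Agent.Helper2.NerF
import Groth.Agent.Helper2.NerG
import Groth.Agent.Helper2.NerH
import Groth.Agent.Helper1.FieldSmooth7

set_option autoImplicit false

/-! Smoothness of Néron's blow-up at the lifted point. -/

namespace Groth.Agent.Helper2.NerI

open IsLocalRing MvPolynomial

universe u

section Chi
variable {R Λ A : Type u} [CommRing R] [IsLocalRing R] [CommRing Λ] [IsLocalRing Λ] [Algebra R Λ]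
  [IsLocalHom (algebraMap R Λ)] [CommRing A] [Algebra R A] [Algebra A Λ] [IsScalarTower R A Λ]
  (𝔭 : Ideal A) [𝔭.IsPrime] (h𝔭 : 𝔭 = (maximalIdeal Λ).comap (algebraMap A Λ))

include h𝔭 in
lemma isUnit_of_primeCompl (y : 𝔭.primeCompl) : IsUnit (algebraMap A Λ y) := by
  have h1 : (y : A) ∉ (maximalIdeal Λ).comap (algebraMap A Λ) := fun h => y.2 (h𝔭.ge h)
  by_contra h
  exact h1 (Ideal.mem_comap.2 ((mem_maximalIdeal _).2 h))

/-- the canonical local homomorphism `A_𝔭 → Λ` -/
noncomputable def chi : Localization.AtPrime 𝔭 →+* Λ :=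
  IsLocalization.lift (M := 𝔭.primeCompl) (g := algebraMap A Λ) (isUnit_of_primeCompl 𝔭 h𝔭)

lemma chi_algebraMap (y : A) : chi 𝔭 h𝔭 (algebraMap A _ y) = algebraMap A Λ y :=
  IsLocalization.lift_eq _ _

lemma chi_algebraMapR (r : R) : chi 𝔭 h𝔭 (algebraMap R _ r) = algebraMap R Λ r := by
  rw [IsScalarTower.algebraMap_apply R A (Localization.AtPrime 𝔭), chi_algebraMap,
    ← IsScalarTower.algebraMap_apply]

lemma isLocalHom_chi : IsLocalHom (chi 𝔭 h𝔭) := by
  refine ⟨fun d hd => ?_⟩
  obtain ⟨b, s, rfl⟩ := IsLocalization.exists_mk'_eq 𝔭.primeCompl d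
  rw [IsLocalization.AtPrime.isUnit_mk'_iff]
  have h1 : chi 𝔭 h𝔭 (IsLocalization.mk' _ b s) * algebraMap A Λ s = algebraMap A Λ b := by
    rw [← chi_algebraMap 𝔭 h𝔭, ← map_mul, IsLocalization.mk'_spec, chi_algebraMap]
  have h2 : IsUnit (algebraMap A Λ b) := by
    rw [← h1]; exact hd.mul (isUnit_of_primeCompl 𝔭 h𝔭 s)
  intro hb
  have hb' : b ∈ (maximalIdeal Λ).comap (algebraMap A Λ) := h𝔭.le hb
  exact (mem_maximalIdeal _).1 (Ideal.mem_comap.1 hb') h2

include h𝔭 in
lemma isLocalHom_algebraMap : IsLocalHom (algebraMap R (Localization.AtPrime 𝔭)) := by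
  haveI : IsLocalHom ((chi 𝔭 h𝔭).comp (algebraMap R (Localization.AtPrime 𝔭))) := by
    have : (chi 𝔭 h𝔭).comp (algebraMap R (Localization.AtPrime 𝔭)) = algebraMap R Λ :=
      RingHom.ext fun r => chi_algebraMapR 𝔭 h𝔭 r
    rw [this]; infer_instance
  exact isLocalHom_of_comp _ (chi 𝔭 h𝔭)

include h𝔭 in
theorem formallySmooth_residueField [IsLocalHom (algebraMap R (Localization.AtPrime 𝔭))]
    (hsep : Algebra.IsGeometricallyReduced (ResidueField R) (ResidueField Λ)) :
    Algebra.FormallySmooth (ResidueField R) (ResidueField (Localization.AtPrime 𝔭)) := by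
  haveI := isLocalHom_chi 𝔭 h𝔭
  let f : ResidueField (Localization.AtPrime 𝔭) →ₐ[ResidueField R] ResidueField Λ :=
    { ResidueField.map (chi 𝔭 h𝔭) with
      commutes' := fun r => by
        obtain ⟨r, rfl⟩ := residue_surjective r
        show ResidueField.map (chi 𝔭 h𝔭) (algebraMap (ResidueField R)
          (ResidueField (Localization.AtPrime 𝔭)) (residue R r)) = _
        rw [ResidueField.algebraMap_residue, ResidueField.algebraMap_residue,
          ResidueField.map_residue, chi_algebraMapR] }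
  haveI : Algebra.IsGeometricallyReduced (ResidueField R)
      (ResidueField (Localization.AtPrime 𝔭)) :=
    Algebra.IsGeometricallyReduced.of_injective f (RingHom.injective _)
  exact Groth.Agent.Helper1.FieldSmooth.formallySmooth_iff_isGeometricallyReduced.2 inferInstance

end Chi

section Blow
variable {R A : Type u} [CommRing R] [CommRing A] [Algebra R A] (𝔭 : Ideal A) (π : R)

/-- the generators `x/π` of the blow-up algebra -/
noncomputable def zz (x : 𝔭) : BlowUp.affineAlgebra A 𝔭 (algebraMap R A π) :=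
  ⟨IsLocalization.mk' (Localization.Away (algebraMap R A π)) (x : A)
    ⟨algebraMap R A π, Submonoid.mem_powers _⟩,
   Algebra.subset_adjoin ⟨x, x.2, rfl⟩⟩

lemma zz_spec (x : 𝔭) :
    algebraMap R (BlowUp.affineAlgebra A 𝔭 (algebraMap R A π)) π * zz 𝔭 π x =
      algebraMap A _ (x : A) := by
  apply Subtype.ext
  show algebraMap R (Localization.Away (algebraMap R A π)) π * IsLocalization.mk' _ (x : A)
    (⟨algebraMap R A π, Submonoid.mem_powers _⟩ : Submonoid.powers (algebraMap R A π)) =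
      algebraMap A _ (x : A)
  rw [IsScalarTower.algebraMap_apply R A (Localization.Away (algebraMap R A π))]
  exact IsLocalization.mk'_spec' (Localization.Away (algebraMap R A π)) (x : A)
    (⟨algebraMap R A π, Submonoid.mem_powers _⟩ : Submonoid.powers (algebraMap R A π))

lemma adjoin_zz : Algebra.adjoin A (Set.range (zz 𝔭 π)) = ⊤ := by
  have h := Algebra.adjoin_adjoin_coe_preimage (R := A)
    (s := {q : Localization.Away (algebraMap R A π) | ∃ x ∈ 𝔭, q = IsLocalization.mk'
      (Localization.Away (algebraMap R A π)) x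
      ⟨algebraMap R A π, Submonoid.mem_powers (algebraMap R A π)⟩})
  have h2 : Set.range (zz 𝔭 π) = ((↑) : BlowUp.affineAlgebra A 𝔭 (algebraMap R A π) →
      Localization.Away (algebraMap R A π)) ⁻¹'
      {q : Localization.Away (algebraMap R A π) | ∃ x ∈ 𝔭, q = IsLocalization.mk'
      (Localization.Away (algebraMap R A π)) x
      ⟨algebraMap R A π, Submonoid.mem_powers (algebraMap R A π)⟩} := by
    ext q
    constructor
    · rintro ⟨x, rfl⟩
      exact ⟨x, x.2, rfl⟩
    · rintro ⟨x, hx, hq⟩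
      exact ⟨⟨x, hx⟩, Subtype.ext hq.symm⟩
  rw [h2]
  exact h

lemma pi_mem_nonZeroDivisors :
    algebraMap R (BlowUp.affineAlgebra A 𝔭 (algebraMap R A π)) π ∈ nonZeroDivisors _ := by
  rw [mem_nonZeroDivisors_iff_right]
  intro y hy
  apply Subtype.ext
  have h1 : (y : Localization.Away (algebraMap R A π)) *
      algebraMap A (Localization.Away (algebraMap R A π)) (algebraMap R A π) = 0 := by
    have := congrArg Subtype.val hy
    rw [← IsScalarTower.algebraMap_apply R A (Localization.Away (algebraMap R A π))]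
    exact this
  have hu : IsUnit (algebraMap A (Localization.Away (algebraMap R A π)) (algebraMap R A π)) :=
    IsLocalization.Away.algebraMap_isUnit _
  exact (hu.mul_left_eq_zero).1 h1

lemma ker_torsion (y : A)
    (hy : algebraMap A (BlowUp.affineAlgebra A 𝔭 (algebraMap R A π)) y = 0) :
    ∃ m : ℕ, algebraMap R A π ^ m * y = 0 := by
  have h1 : algebraMap A (Localization.Away (algebraMap R A π)) y = 0 := congrArg Subtype.val hy
  obtain ⟨⟨m, ⟨k, rfl⟩⟩, hm⟩ :=
    (IsLocalization.map_eq_zero_iff (Submonoid.powers (algebraMap R A π)) _ y).1 h1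
  exact ⟨k, hm⟩

end Blow

open Groth.Agent.Helper2 in
theorem aux {R Λ A : Type u} [CommRing R] [IsDomain R]
    [IsDiscreteValuationRing R] [CommRing Λ] [IsDomain Λ] [IsDiscreteValuationRing Λ] [Algebra R Λ]
    [NoZeroSMulDivisors R Λ] [IsLocalHom (algebraMap R Λ)]
    (hsep : Algebra.IsGeometricallyReduced (ResidueField R) (ResidueField Λ))
    [CommRing A] [Algebra R A] [Module.Flat R A] [Algebra.FiniteType R A] [Algebra A Λ]
    [IsScalarTower R A Λ] (π : R) (hπ : maximalIdeal R = Ideal.span {π})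
    (𝔭 : Ideal A) [𝔭.IsPrime] (h𝔭 : 𝔭 = (maximalIdeal Λ).comap (algebraMap A Λ))
    (hsm : Algebra.IsSmoothAt R 𝔭)
    (φ' : BlowUp.affineAlgebra A 𝔭 (algebraMap R A π) →ₐ[A] Λ)
    (𝔭' : Ideal (BlowUp.affineAlgebra A 𝔭 (algebraMap R A π))) [𝔭'.IsPrime]
    (h𝔭' : 𝔭' = (maximalIdeal Λ).comap φ'.toRingHom) :
    Algebra.IsSmoothAt R 𝔭' := by
  classical
  have hπ0 : π ≠ 0 := by
    rintro rfl
    apply IsDiscreteValuationRing.not_a_field R
    rw [hπ]
    exact Ideal.span_singleton_eq_bot.2 rfl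
  have hπΛ : algebraMap R Λ π ≠ 0 := fun h =>
    hπ0 (FaithfulSMul.algebraMap_injective R Λ (by rw [h, map_zero]))
  have hπmem : π ∈ maximalIdeal R := by rw [hπ]; exact Ideal.mem_span_singleton_self π
  have hπm : algebraMap R Λ π ∈ maximalIdeal Λ := map_nonunit (algebraMap R Λ) π hπmem
  haveI : IsNoetherianRing A := Algebra.FiniteType.isNoetherianRing R A
  haveI : Algebra.FinitePresentation R A :=
    Algebra.FinitePresentation.of_finiteType.1 inferInstance
  haveI : Algebra.IsSmoothAt R 𝔭 := hsm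
  haveI : Algebra.FormallySmooth R (Localization.AtPrime 𝔭) := hsm
  haveI : IsDomain (Localization.AtPrime 𝔭) := by
    obtain ⟨g, hg, hsmg⟩ := Algebra.IsSmoothAt.exists_notMem_smooth R 𝔭
    exact NerC.isDomain_of_smooth_away (R := R) g 𝔭 hg
  haveI : IsNoetherianRing (Localization.AtPrime 𝔭) :=
    IsLocalization.isNoetherianRing 𝔭.primeCompl _ inferInstance
  haveI hloc : IsLocalHom (algebraMap R (Localization.AtPrime 𝔭)) := isLocalHom_algebraMap 𝔭 h𝔭
  haveI : Algebra.FormallySmooth (ResidueField R) (ResidueField (Localization.AtPrime 𝔭)) :=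
    formallySmooth_residueField 𝔭 h𝔭 hsep
  have hπD : algebraMap R (Localization.AtPrime 𝔭) π ≠ 0 := by
    intro h
    apply hπΛ
    rw [← chi_algebraMapR 𝔭 h𝔭, h, map_zero]
  haveI : Algebra.EssFiniteType A (Localization.AtPrime 𝔭) :=
    Algebra.EssFiniteType.of_isLocalization _ 𝔭.primeCompl
  haveI : Algebra.EssFiniteType R (Localization.AtPrime 𝔭) := Algebra.EssFiniteType.comp R A _
  haveI : Module.Finite (Localization.AtPrime 𝔭) Ω[Localization.AtPrime 𝔭⁄R] := inferInstance
  haveI : Module.Free (Localization.AtPrime 𝔭) Ω[Localization.AtPrime 𝔭⁄R] :=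
    Module.free_of_flat_of_isLocalRing
  have hJ0 : (maximalIdeal R).map (algebraMap R (Localization.AtPrime 𝔭)) =
      Ideal.span {algebraMap R (Localization.AtPrime 𝔭) π} := by
    rw [hπ, Ideal.map_span, Set.image_singleton]
  have hS : Ideal.span (algebraMap A (Localization.AtPrime 𝔭) '' (𝔭 : Set A)) ⊔
      Ideal.span {algebraMap R (Localization.AtPrime 𝔭) π} =
        maximalIdeal (Localization.AtPrime 𝔭) := by
    have h1 : Ideal.span (algebraMap A (Localization.AtPrime 𝔭) '' (𝔭 : Set A)) =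
        maximalIdeal (Localization.AtPrime 𝔭) := Localization.AtPrime.map_eq_maximalIdeal
    rw [h1, sup_eq_left, Ideal.span_le, Set.singleton_subset_iff]
    exact map_nonunit (algebraMap R (Localization.AtPrime 𝔭)) π hπmem
  obtain ⟨T, hTS, hTspan, hTind⟩ := NerG.exists_minimal_gens _ _ hS
  choose x hx𝔭 hxeq using fun t : T => hTS t.2
  have hfm : ∀ t : T, algebraMap A (Localization.AtPrime 𝔭) (x t) ∈
      maximalIdeal (Localization.AtPrime 𝔭) := fun t =>
    (IsLocalization.AtPrime.to_map_mem_maximal_iff _ 𝔭 (x t)).2 (hx𝔭 t)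
  have hind : ∀ a : T → Localization.AtPrime 𝔭,
      ∑ t, a t * algebraMap A (Localization.AtPrime 𝔭) (x t) ∈
        NerF.W R (Localization.AtPrime 𝔭) → ∀ t, a t ∈ maximalIdeal (Localization.AtPrime 𝔭) := by
    intro a ha t
    let a' : Localization.AtPrime 𝔭 → Localization.AtPrime 𝔭 :=
      fun d => if h : d ∈ T then a ⟨d, h⟩ else 0
    have ha' : ∀ t : T, a' t = a t := fun t => by simp only [a', dif_pos t.2]
    have hsum : ∑ d ∈ T, a' d * d = ∑ t, a t * algebraMap A (Localization.AtPrime 𝔭) (x t) := by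
      rw [← Finset.sum_coe_sort T (fun d => a' d * d)]
      exact Finset.sum_congr rfl fun t _ => by rw [ha', hxeq]
    have h2 : ∑ d ∈ T, a' d * d ∈ maximalIdeal (Localization.AtPrime 𝔭) ^ 2 ⊔
        Ideal.span {algebraMap R (Localization.AtPrime 𝔭) π} := by
      rw [hsum, ← hJ0]; exact ha
    have h3 := hTind a' h2 t t.2
    rwa [ha'] at h3
  obtain ⟨ℓ, hℓ⟩ := NerF.exists_dual (R := R)
    (fun t : T => algebraMap A (Localization.AtPrime 𝔭) (x t)) hfm hind
  haveI : Algebra.FormallySmooth R (MvPolynomial T (Localization.AtPrime 𝔭) ⧸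
      NerE.relIdeal (algebraMap R (Localization.AtPrime 𝔭) π)
        (fun t : T => algebraMap A (Localization.AtPrime 𝔭) (x t))) :=
    NerE.formallySmooth_quot π _ ℓ hℓ
  haveI : Module.Flat A (Localization.AtPrime 𝔭) := IsLocalization.flat _ 𝔭.primeCompl
  haveI : Module.Flat R (Localization.AtPrime 𝔭) := Module.Flat.trans R A _
  haveI : Module.Flat R (MvPolynomial T (Localization.AtPrime 𝔭)) :=
    Module.Flat.trans R (Localization.AtPrime 𝔭) _
  haveI : Module.Flat R (MvPolynomial T (Localization.AtPrime 𝔭) ⧸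
      NerE.relIdeal (algebraMap R (Localization.AtPrime 𝔭) π)
        (fun t : T => algebraMap A (Localization.AtPrime 𝔭) (x t))) :=
    Algebra.FormallySmooth.flat_of_algHom_of_isNoetherianRing (Ideal.Quotient.mkₐ R _)
      (Ideal.Quotient.mkₐ_surjective R _)
  have hreg'' : algebraMap R (MvPolynomial T (Localization.AtPrime 𝔭) ⧸
      NerE.relIdeal (algebraMap R (Localization.AtPrime 𝔭) π)
        (fun t : T => algebraMap A (Localization.AtPrime 𝔭) (x t))) π ∈ nonZeroDivisors _ := by
    rw [mem_nonZeroDivisors_iff_right]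
    intro y hy
    have h1 : IsSMulRegular (MvPolynomial T (Localization.AtPrime 𝔭) ⧸
      NerE.relIdeal (algebraMap R (Localization.AtPrime 𝔭) π)
        (fun t : T => algebraMap A (Localization.AtPrime 𝔭) (x t))) π :=
      Module.Flat.isSMulRegular_of_nonZeroDivisors (mem_nonZeroDivisors_of_ne_zero hπ0)
    apply h1
    show π • y = π • 0
    have h2 : π • y = algebraMap R _ π * y := Algebra.smul_def π y
    rw [smul_zero, h2, mul_comm]; exact hy
  have hspan : ∀ y ∈ 𝔭, ∃ (u : Localization.AtPrime 𝔭) (v : T → Localization.AtPrime 𝔭),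
      algebraMap A (Localization.AtPrime 𝔭) y = u * algebraMap R (Localization.AtPrime 𝔭) π +
        ∑ t, v t * algebraMap A (Localization.AtPrime 𝔭) (x t) := by
    intro y hy
    have h1 : algebraMap A (Localization.AtPrime 𝔭) y ∈
        Ideal.span (↑T : Set (Localization.AtPrime 𝔭)) ⊔
          Ideal.span {algebraMap R (Localization.AtPrime 𝔭) π} := by
      rw [hTspan]; exact (IsLocalization.AtPrime.to_map_mem_maximal_iff _ 𝔭 y).2 hy
    obtain ⟨p, hp, q, hq, hpq⟩ := Submodule.mem_sup.1 h1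
    obtain ⟨u, hu⟩ := Ideal.mem_span_singleton'.1 hq
    obtain ⟨v, hv⟩ := Submodule.mem_span_finset'.1 hp
    refine ⟨u, v, ?_⟩
    rw [← hpq, ← hu, ← hv, add_comm]
    congr 1
    exact Finset.sum_congr rfl fun t _ => by rw [smul_eq_mul, hxeq]
  have hcomap : 𝔭 = 𝔭'.comap (algebraMap A _) := by
    ext y
    rw [h𝔭', Ideal.mem_comap, Ideal.mem_comap]
    have h1 : φ'.toRingHom (algebraMap A _ y) = algebraMap A Λ y := φ'.commutes y
    rw [h1]
    constructor
    · intro h; exact Ideal.mem_comap.1 (h𝔭.le h)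
    · intro h; exact h𝔭.ge (Ideal.mem_comap.2 h)
  exact NerH.formallySmooth_atPrime 𝔭 𝔭' hcomap π (zz 𝔭 π) (zz_spec 𝔭 π) (adjoin_zz 𝔭 π)
    (pi_mem_nonZeroDivisors 𝔭 π) (ker_torsion 𝔭 π) hπD x hx𝔭 hspan hreg''

theorem main {R Λ A : Type u} [CommRing R] [IsDomain R]
    [IsDiscreteValuationRing R] [CommRing Λ] [IsDomain Λ] [IsDiscreteValuationRing Λ] [Algebra R Λ]
    [NoZeroSMulDivisors R Λ] [IsLocalHom (algebraMap R Λ)]
    (hsep : Algebra.IsGeometricallyReduced (ResidueField R) (ResidueField Λ))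
    [CommRing A] [Algebra R A] [Module.Flat R A] [Algebra.FiniteType R A] [Algebra A Λ]
    [IsScalarTower R A Λ] (π : R) (hπ : maximalIdeal R = Ideal.span {π})
    (hsm : Algebra.IsSmoothAt R ((maximalIdeal Λ).comap (algebraMap A Λ)))
    (φ' : BlowUp.affineAlgebra A ((maximalIdeal Λ).comap (algebraMap A Λ)) (algebraMap R A π)
      →ₐ[A] Λ) :
    Algebra.IsSmoothAt R ((maximalIdeal Λ).comap φ'.toRingHom) :=
  aux hsep π hπ _ rfl hsm φ' _ rfl

end Groth.Agent.Helper2.NerI
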