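import Mathlib
import Groth.Prelude

set_option autoImplicit false
set_option linter.style.haveILetI false

namespace Groth.Agent.Helper2.NilTens

open TensorProduct

universe u

/-- elements of the image of `K' ⊗ nilradical B → K' ⊗ B` are nilpotent. -/
theorem isNilpotent_lTensor_nilradical {A B K' : Type u} [CommRing A] [CommRing B] [Algebra A B]
    [CommRing K'] [Algebra A K'] (z : K' ⊗[A] (nilradical B)) :
    IsNilpotent (LinearMap.lTensor K' ((nilradical B).subtype.restrictScalars A) z) := by
  induction z using TensorProduct.induction_on with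
  | zero => simp
  | tmul k b =>
    obtain ⟨m, hm⟩ := mem_nilradical.mp b.2
    refine ⟨m, ?_⟩
    rw [LinearMap.lTensor_tmul, Algebra.TensorProduct.tmul_pow]
    change (k ^ m) ⊗ₜ[A] ((b : B) ^ m) = 0
    rw [hm, TensorProduct.tmul_zero]
  | add x y hx hy =>
    rw [map_add]
    exact (Commute.all _ _).isNilpotent_add hx hy

theorem s4601 {A B K' R : Type u} [CommRing A]
    [IsDomain A] [CommRing B] [Algebra A B] [Module.Flat A B]
    [Field K'] [Algebra A K'] [Algebra (FractionRing A) K'] [IsScalarTower A (FractionRing A) K']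
    [CommRing R] [Algebra (B ⧸ nilradical B) R] [IsFractionRing (B ⧸ nilradical B) R]
    [Algebra B R] [IsScalarTower B (B ⧸ nilradical B) R] [Algebra A R] [IsScalarTower A B R]
    (A' : Subalgebra A K') (x : ↥A' ⊗[A] B)
    (hx : IsNilpotent (Algebra.TensorProduct.map A'.val (IsScalarTower.toAlgHom A B R) x)) :
    IsNilpotent x := by
  haveI : Module.Flat A K' := Module.Flat.trans A (FractionRing A) K'
  -- the three maps
  let f₁ : ↥A' ⊗[A] B →ₐ[A] K' ⊗[A] B := Algebra.TensorProduct.map A'.val (AlgHom.id A B)
  let f₂ : K' ⊗[A] B →ₐ[A] K' ⊗[A] (B ⧸ nilradical B) :=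
    Algebra.TensorProduct.map (AlgHom.id A K') (Ideal.Quotient.mkₐ A (nilradical B))
  let g : (B ⧸ nilradical B) →ₐ[A] R :=
    { algebraMap (B ⧸ nilradical B) R with
      commutes' := fun a => by
        change algebraMap (B ⧸ nilradical B) R (Ideal.Quotient.mk _ (algebraMap A B a)) = _
        rw [← Ideal.Quotient.algebraMap_eq, ← IsScalarTower.algebraMap_apply B (B ⧸ nilradical B) R,
          ← IsScalarTower.algebraMap_apply A B R] }
  let f₃ : K' ⊗[A] (B ⧸ nilradical B) →ₐ[A] K' ⊗[A] R :=
    Algebra.TensorProduct.map (AlgHom.id A K') g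
  have hcomp : Algebra.TensorProduct.map A'.val (IsScalarTower.toAlgHom A B R) =
      f₃.comp (f₂.comp f₁) := by
    refine Algebra.TensorProduct.ext' fun a b => ?_
    change _ = f₃ (f₂ (f₁ (a ⊗ₜ b)))
    simp only [f₁, f₂, f₃, Algebra.TensorProduct.map_tmul, AlgHom.id_apply]
    congr 1
    change algebraMap B R b = algebraMap (B ⧸ nilradical B) R (Ideal.Quotient.mk _ b)
    rw [← Ideal.Quotient.algebraMap_eq, ← IsScalarTower.algebraMap_apply B (B ⧸ nilradical B) R]
  have hf₁ : Function.Injective f₁ := by
    have : Function.Injective (LinearMap.rTensor B A'.val.toLinearMap) :=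
      Module.Flat.rTensor_preserves_injective_linearMap _ Subtype.val_injective
    intro p q hpq
    apply this
    have h : ∀ t, LinearMap.rTensor B A'.val.toLinearMap t = f₁ t := by
      intro t
      induction t using TensorProduct.induction_on with
      | zero => simp
      | tmul a b => rfl
      | add p q hp hq => rw [map_add, map_add, hp, hq]
    rw [h, h, hpq]
  have hf₃ : Function.Injective f₃ := by
    have hg : Function.Injective g.toLinearMap := IsFractionRing.injective (B ⧸ nilradical B) R
    have : Function.Injective (LinearMap.lTensor K' g.toLinearMap) :=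
      Module.Flat.lTensor_preserves_injective_linearMap _ hg
    intro p q hpq
    apply this
    have h : ∀ t, LinearMap.lTensor K' g.toLinearMap t = f₃ t := by
      intro t
      induction t using TensorProduct.induction_on with
      | zero => simp
      | tmul a b => rfl
      | add p q hp hq => rw [map_add, map_add, hp, hq]
    rw [h, h, hpq]
  rw [hcomp] at hx
  change IsNilpotent (f₃ (f₂ (f₁ x))) at hx
  -- `f₂ (f₁ x)` is nilpotent
  obtain ⟨n, hn⟩ := hx
  rw [← map_pow, ← map_pow, ← map_pow] at hn
  have h2 : f₂ (f₁ (x ^ n)) = 0 := hf₃ (by rw [hn, _root_.map_zero])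
  -- kernel of `f₂`
  have hex : Function.Exact (LinearMap.lTensor K' ((nilradical B).subtype.restrictScalars A))
      (LinearMap.lTensor K' (Ideal.Quotient.mkₐ A (nilradical B)).toLinearMap) := by
    refine lTensor_exact K' ?_ (Ideal.Quotient.mkₐ_surjective A _)
    intro b
    constructor
    · intro hb
      exact ⟨⟨b, Ideal.Quotient.eq_zero_iff_mem.mp hb⟩, rfl⟩
    · rintro ⟨c, rfl⟩
      exact Ideal.Quotient.eq_zero_iff_mem.mpr c.2
  have h3 : LinearMap.lTensor K' (Ideal.Quotient.mkₐ A (nilradical B)).toLinearMap (f₁ (x ^ n)) = 0 := by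
    have h : ∀ t, LinearMap.lTensor K' (Ideal.Quotient.mkₐ A (nilradical B)).toLinearMap t = f₂ t := by
      intro t
      induction t using TensorProduct.induction_on with
      | zero => simp
      | tmul a b => rfl
      | add p q hp hq => rw [map_add, map_add, hp, hq]
    rw [h, h2]
  obtain ⟨z, hz⟩ := (hex _).mp h3
  have h4 : IsNilpotent (f₁ (x ^ n)) := hz ▸ isNilpotent_lTensor_nilradical z
  obtain ⟨m, hm⟩ := h4
  rw [← map_pow] at hm
  have h5 : (x ^ n) ^ m = 0 := hf₁ (by rw [hm, _root_.map_zero])
  exact ⟨n * m, by rw [pow_mul, h5]⟩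

end Groth.Agent.Helper2.NilTens
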