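import Mathlib
import Groth.Prelude
import Groth.Agent.Helper2.TotFrac1

set_option autoImplicit false
set_option linter.style.haveILetI false
set_option linter.unusedSectionVars false
set_option linter.unusedVariables false

universe u

/-!
# S16435, part 1: lifting integral fractions from a component to the total ring of fractions
-/

namespace Groth.Agent.Helper2.NoeI

open Polynomial

section lift

variable {D : Type u} [CommRing D] [IsReduced D]

/-- an element outside the minimal prime `q` and inside all the others -/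
theorem exists_mem_others (hfin : (minimalPrimes D).Finite) (q : Ideal D)
    (hq : q ∈ minimalPrimes D) :
    ∃ s : D, s ∉ q ∧ ∀ q' ∈ minimalPrimes D, q' ≠ q → s ∈ q' := by
  classical
  haveI : q.IsPrime := hq.1.1
  set P : Finset (Ideal D) := hfin.toFinset.erase q with hP
  have hnot : ¬ (P.inf id ≤ q) := by
    intro hle
    obtain ⟨q', hq'P, hq'q⟩ := (Ideal.IsPrime.inf_le' inferInstance).mp hle
    have hq'min : q' ∈ minimalPrimes D := by
      have := Finset.mem_of_mem_erase hq'P
      simpa using this
    have hne : q' ≠ q := Finset.ne_of_mem_erase hq'P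
    have h1 : q ≤ q' := hq.2 hq'min.1 hq'q
    exact hne (le_antisymm hq'q h1)
  obtain ⟨s, hsP, hsq⟩ := SetLike.not_le_iff_exists.mp hnot
  refine ⟨s, hsq, fun q' hq' hne => ?_⟩
  have hq'P : q' ∈ P := Finset.mem_erase.mpr ⟨hne, by simpa using hq'⟩
  have h1 : P.inf id ≤ q' := Finset.inf_le (f := id) hq'P
  exact h1 hsP

/-- an element inside the minimal prime `q` and outside all the others -/
theorem exists_notMem_others (hfin : (minimalPrimes D).Finite) (q : Ideal D)
    (hq : q ∈ minimalPrimes D) :
    ∃ u : D, u ∈ q ∧ ∀ q' ∈ minimalPrimes D, q' ≠ q → u ∉ q' := by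
  classical
  haveI : q.IsPrime := hq.1.1
  set P : Finset (Ideal D) := hfin.toFinset.erase q with hP
  have hnot : ¬ ((q : Set D) ⊆ ⋃ q' ∈ (P : Set (Ideal D)), ((id q' : Ideal D) : Set D)) := by
    intro hsub
    rw [Ideal.subset_union_prime (f := (id : Ideal D → Ideal D)) ⊥ ⊥ (fun i hi _ _ => by
      have : i ∈ minimalPrimes D := by
        have := Finset.mem_of_mem_erase hi
        simpa using this
      exact this.1.1)] at hsub
    obtain ⟨q', hq'P, hqq'⟩ := hsub
    have hq'min : q' ∈ minimalPrimes D := by
      have := Finset.mem_of_mem_erase hq'P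
      simpa using this
    have hne : q' ≠ q := Finset.ne_of_mem_erase hq'P
    have h1 : q' ≤ q := hq'min.2 hq.1 hqq'
    exact hne (le_antisymm h1 hqq')
  rw [Set.not_subset] at hnot
  obtain ⟨u, huq, hu⟩ := hnot
  refine ⟨u, huq, fun q' hq' hne hmem => hu ?_⟩
  have hq'P : q' ∈ P := Finset.mem_erase.mpr ⟨hne, by simpa using hq'⟩
  exact Set.mem_biUnion (x := q') (by exact_mod_cast hq'P) hmem

/-- Lifting lemma: a fraction `a / b` on the component `q`, root of a monic polynomial there,
lifts to an integral element of the total ring of fractions. -/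
theorem exists_integral_lift (hfin : (minimalPrimes D).Finite) (q : Ideal D)
    (hq : q ∈ minimalPrimes D) (a b : D) (hb : b ∉ q) (F : D[X]) (hF : F.Monic)
    (hFab : ∑ i ∈ Finset.range (F.natDegree + 1),
      F.coeff i * a ^ i * b ^ (F.natDegree - i) ∈ q) :
    ∃ x : FractionRing D, IsIntegral D x ∧ ∃ s u : D, s ∉ q ∧ u ∈ q ∧
      x * algebraMap D (FractionRing D) (b * s + u) = algebraMap D (FractionRing D) (a * s) := by
  classical
  haveI : q.IsPrime := hq.1.1
  obtain ⟨s, hsq, hs⟩ := exists_mem_others hfin q hq
  obtain ⟨u, huq, hu⟩ := exists_notMem_others hfin q hq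
  set w : D := b * s + u with hw
  set n := F.natDegree with hn
  have hwnzd : w ∈ nonZeroDivisors D := by
    apply Groth.Agent.Helper2.TotFrac.mem_nonZeroDivisors_of_forall_notMem
    intro p hp hwp
    haveI : p.IsPrime := hp.1.1
    by_cases hpq : p = q
    · subst hpq
      have h1 : b * s ∈ p := by
        have := p.sub_mem hwp huq
        rwa [hw, add_sub_cancel_right] at this
      rcases Ideal.IsPrime.mem_or_mem inferInstance h1 with h | h
      · exact hb h
      · exact hsq h
    · have h1 : b * s ∈ p := p.mul_mem_left b (hs p hp hpq)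
      have h2 : u ∈ p := by
        have := p.sub_mem hwp h1
        rwa [hw, add_sub_cancel_left] at this
      exact hu p hp hpq h2
  -- the key vanishing in `D`
  set y : D := a * s * ∑ i ∈ Finset.range (n + 1), F.coeff i * (a * s) ^ i * w ^ (n - i) with hy
  have hy0 : y = 0 := by
    have hmem : y ∈ nilradical D := by
      rw [nilradical, ← Ideal.sInf_minimalPrimes, Ideal.mem_sInf]
      intro p hp
      haveI : p.IsPrime := hp.1.1
      by_cases hpq : p = q
      · subst hpq
        apply p.mul_mem_left
        rw [← Ideal.Quotient.eq_zero_iff_mem, map_sum]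
        have hwq : Ideal.Quotient.mk p w = Ideal.Quotient.mk p (b * s) := by
          rw [hw, map_add, Ideal.Quotient.eq_zero_iff_mem.mpr huq, add_zero]
        have h1 : ∀ i ∈ Finset.range (n + 1),
            Ideal.Quotient.mk p (F.coeff i * (a * s) ^ i * w ^ (n - i)) =
              Ideal.Quotient.mk p s ^ n *
                Ideal.Quotient.mk p (F.coeff i * a ^ i * b ^ (n - i)) := by
          intro i hi
          have hi' : i ≤ n := Nat.lt_succ_iff.mp (Finset.mem_range.mp hi)
          simp only [map_mul, map_pow, hwq]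
          have : Ideal.Quotient.mk p s ^ n =
              Ideal.Quotient.mk p s ^ i * Ideal.Quotient.mk p s ^ (n - i) := by
            rw [← pow_add, Nat.add_sub_cancel' hi']
          rw [this]
          ring
        rw [Finset.sum_congr rfl h1, ← Finset.mul_sum, ← map_sum,
          Ideal.Quotient.eq_zero_iff_mem.mpr hFab, mul_zero]
      · exact p.mul_mem_right _ (p.mul_mem_left a (hs p hp hpq))
    rwa [nilradical_eq_zero] at hmem
  -- the element
  set ι := algebraMap D (FractionRing D) with hι
  have hwu : IsUnit (ι w) := IsLocalization.map_units (FractionRing D) ⟨w, hwnzd⟩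
  obtain ⟨winv, hwinv⟩ := hwu.exists_right_inv
  set x : FractionRing D := ι (a * s) * winv with hx
  have hxw : x * ι w = ι (a * s) := by
    rw [hx, mul_assoc, mul_comm winv, hwinv, mul_one]
  refine ⟨x, ?_, s, u, hsq, huq, hxw⟩
  refine ⟨X * F, monic_X.mul hF, ?_⟩
  rw [eval₂_mul, eval₂_X]
  -- multiply by the unit `ι w ^ (n+1)`
  have hkey : ι w ^ (n + 1) * (x * eval₂ ι x F) = ι y := by
    have h1 : eval₂ ι x F = ∑ i ∈ Finset.range (n + 1), ι (F.coeff i) * x ^ i := by
      rw [eval₂_eq_sum_range]
    rw [h1, hy, map_mul, map_sum]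
    have h2 : ι w ^ (n + 1) * (x * ∑ i ∈ Finset.range (n + 1), ι (F.coeff i) * x ^ i) =
        (x * ι w) * ∑ i ∈ Finset.range (n + 1), ι (F.coeff i) * x ^ i * ι w ^ n := by
      rw [Finset.mul_sum, Finset.mul_sum, Finset.mul_sum]
      refine Finset.sum_congr rfl fun i _ => ?_
      ring
    rw [h2, hxw]
    congr 1
    refine Finset.sum_congr rfl fun i hi => ?_
    have hi' : i ≤ n := Nat.lt_succ_iff.mp (Finset.mem_range.mp hi)
    have h3 : ι w ^ n = ι w ^ i * ι w ^ (n - i) := by
      rw [← pow_add, Nat.add_sub_cancel' hi']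
    rw [h3, map_mul, map_mul, map_pow, map_pow, ← hxw]
    ring
  rw [hy0, map_zero] at hkey
  exact (IsUnit.mul_right_eq_zero (hwu.pow (n + 1))).mp hkey

end lift

end Groth.Agent.Helper2.NoeI
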