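import Mathlib
import Groth.Prelude
import Groth.Agent.Helper2.NoeI1
import Groth.Agent.Helper2.HExt1
import Groth.Agent.Helper2.BrnchG

set_option autoImplicit false
set_option linter.style.haveILetI false
set_option linter.unusedSectionVars false
set_option linter.unusedVariables false

universe u

/-!
# S16435, part 3: intermediate rings of a strict henselization: minimal primes and fractions
-/

namespace Groth.Agent.Helper2.NoeI

open Polynomial IsLocalRing Groth.Agent.Helper1.Hens Groth.Agent.Helper1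

section prelim

variable (A S : Type u) [CommRing A] [HenselianLocalRing A] [IsNoetherianRing A] [IsReduced A]
  [CommRing S] [IsLocalRing S] [Algebra A S] [IsLocalHom (algebraMap A S)]
  [Hensel.IsStrictHenselization A S] (D : Subalgebra A S)

include A in
theorem isReduced_top : IsReduced S :=
  (isReduced_iff_of_isStrictHenselization A S).mp inferInstance

theorem isReduced_sub : IsReduced D := by
  haveI : IsReduced S := isReduced_top A S
  exact isReduced_of_injective D.val.toRingHom Subtype.val_injective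

theorem isIntegral_sub : Algebra.IsIntegral A D := by
  haveI := Groth.Agent.Helper2.HExt.isIntegral_of_henselian A S
  refine ⟨fun d => ?_⟩
  exact (isIntegral_algHom_iff D.val Subtype.val_injective).mp
    (Algebra.IsIntegral.isIntegral (R := A) (d : S))

theorem comap_mem_minimalPrimes_sub (Q : Ideal S) (hQ : Q ∈ minimalPrimes S) :
    Q.comap (algebraMap D S) ∈ minimalPrimes D := by
  haveI := isIntegral_sub A S D
  haveI : Module.FaithfullyFlat A S := faithfullyFlat_of_isStrictHenselization A S
  haveI : Q.IsPrime := hQ.1.1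
  have hp := Groth.Agent.Helper2.Brnch.comap_mem_minimalPrimes (R := A) Q hQ
  set q := Q.comap (algebraMap D S) with hq
  haveI : q.IsPrime := Ideal.comap_isPrime _ _
  obtain ⟨q₀, hq₀, hq₀q⟩ := Ideal.exists_minimalPrimes_le (bot_le : (⊥ : Ideal D) ≤ q)
  haveI : q₀.IsPrime := hq₀.1.1
  have hqA : q.comap (algebraMap A D) = Q.comap (algebraMap A S) := by
    rw [hq, Ideal.comap_comap]
    rfl
  have h1 : q₀.comap (algebraMap A D) = q.comap (algebraMap A D) := by
    have hle : q₀.comap (algebraMap A D) ≤ q.comap (algebraMap A D) := Ideal.comap_mono hq₀q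
    rw [hqA] at hle ⊢
    exact le_antisymm hle (hp.2 ⟨Ideal.comap_isPrime _ _, bot_le⟩ hle)
  have h2 : q₀ = q := by
    by_contra hne
    obtain ⟨x, hxq, hxq₀⟩ := SetLike.exists_of_lt (lt_of_le_of_ne hq₀q hne)
    have := Ideal.comap_lt_comap_of_integral_mem_sdiff (R := A) hq₀q ⟨hxq, hxq₀⟩
      (Algebra.IsIntegral.isIntegral x)
    rw [h1] at this
    exact lt_irrefl _ this
  rw [← h2]
  exact hq₀

theorem finite_minimalPrimes_sub : (minimalPrimes D).Finite := by
  haveI : IsNoetherianRing S := isNoetherianRing_of_isStrictHenselization A S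
  have hS : (minimalPrimes S).Finite := minimalPrimes.finite_of_isNoetherianRing S
  refine (hS.image (Ideal.comap (algebraMap D S))).subset ?_
  intro q hq
  obtain ⟨P, hP, hPq⟩ := Ideal.exists_comap_eq_of_mem_minimalPrimes_of_injective
    (f := algebraMap D S) Subtype.val_injective q hq
  obtain ⟨Q, hQ, hQP⟩ := Ideal.exists_minimalPrimes_le (bot_le : (⊥ : Ideal S) ≤ P)
  refine ⟨Q, hQ, ?_⟩
  have hle : Q.comap (algebraMap D S) ≤ q := hPq ▸ Ideal.comap_mono hQP
  haveI := hQ.1.1
  exact le_antisymm hle (hq.2 ⟨Ideal.comap_isPrime _ _, bot_le⟩ hle)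

variable (Q : Ideal S) [Q.IsPrime]

/-- the map of total rings of fractions `Frac D → Frac (S/Q)` -/
noncomputable def rhoQ (hQ : Q ∈ minimalPrimes S) :
    FractionRing D →+* FractionRing (S ⧸ Q) :=
  IsLocalization.lift (M := nonZeroDivisors D)
    (g := (algebraMap (S ⧸ Q) (FractionRing (S ⧸ Q))).comp
      ((Ideal.Quotient.mk Q).comp (algebraMap D S))) (by
    intro w
    haveI := isReduced_sub A S D
    have hq := comap_mem_minimalPrimes_sub A S D Q hQ
    have hdis := Ideal.disjoint_nonZeroDivisors_of_mem_minimalPrimes hq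
    have hw : (w : D) ∉ Q.comap (algebraMap D S) := fun hmem =>
      Set.disjoint_left.mp hdis hmem w.2
    show IsUnit (algebraMap (S ⧸ Q) (FractionRing (S ⧸ Q))
      (Ideal.Quotient.mk Q (algebraMap D S w)))
    rw [isUnit_iff_ne_zero, Ne, map_eq_zero_iff _ (IsFractionRing.injective (S ⧸ Q) _),
      Ideal.Quotient.eq_zero_iff_mem]
    exact hw)

theorem rhoQ_algebraMap (hQ : Q ∈ minimalPrimes S) (d : D) :
    rhoQ A S D Q hQ (algebraMap D (FractionRing D) d) =
      algebraMap (S ⧸ Q) (FractionRing (S ⧸ Q)) (Ideal.Quotient.mk Q (d : S)) :=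
  IsLocalization.lift_eq _ d

/-- lifting fractions on the component `Q` to integral elements of `Frac D` -/
theorem exists_lift_frac (hQ : Q ∈ minimalPrimes S) (s : S) (a b : D) (hb : (b : S) ∉ Q)
    (hab : s * b - a ∈ Q) :
    ∃ x : FractionRing D, IsIntegral D x ∧
      rhoQ A S D Q hQ x = algebraMap (S ⧸ Q) (FractionRing (S ⧸ Q)) (Ideal.Quotient.mk Q s) := by
  haveI := isReduced_sub A S D
  haveI := Groth.Agent.Helper2.HExt.isIntegral_of_henselian A S
  have hq := comap_mem_minimalPrimes_sub A S D Q hQ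
  have hfin := finite_minimalPrimes_sub A S D
  obtain ⟨F₀, hF₀m, hF₀s⟩ := Algebra.IsIntegral.isIntegral (R := A) s
  set F : D[X] := F₀.map (algebraMap A D) with hF
  have hFm : F.Monic := hF₀m.map _
  have hdeg : F.natDegree = F₀.natDegree := hF₀m.natDegree_map _
  have hbq : b ∉ Q.comap (algebraMap D S) := hb
  have hG : ∑ i ∈ Finset.range (F.natDegree + 1), F.coeff i * a ^ i * b ^ (F.natDegree - i) ∈
      Q.comap (algebraMap D S) := by
    rw [Ideal.mem_comap, ← Ideal.Quotient.eq_zero_iff_mem, map_sum, map_sum]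
    have hsb : Ideal.Quotient.mk Q (a : S) = Ideal.Quotient.mk Q s * Ideal.Quotient.mk Q (b : S) := by
      rw [← map_mul, eq_comm, ← sub_eq_zero, ← map_sub, Ideal.Quotient.eq_zero_iff_mem]
      exact hab
    have h1 : ∀ i ∈ Finset.range (F.natDegree + 1),
        Ideal.Quotient.mk Q (algebraMap D S (F.coeff i * a ^ i * b ^ (F.natDegree - i))) =
          Ideal.Quotient.mk Q (b : S) ^ F.natDegree *
            (Ideal.Quotient.mk Q (algebraMap A S (F₀.coeff i)) * Ideal.Quotient.mk Q s ^ i) := by
      intro i hi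
      have hi' : i ≤ F.natDegree := Nat.lt_succ_iff.mp (Finset.mem_range.mp hi)
      have hc : algebraMap D S (F.coeff i) = algebraMap A S (F₀.coeff i) := by
        rw [hF, coeff_map]
        rfl
      have e1 : algebraMap D S (F.coeff i * a ^ i * b ^ (F.natDegree - i)) =
          algebraMap A S (F₀.coeff i) * (a : S) ^ i * (b : S) ^ (F.natDegree - i) := by
        rw [map_mul, map_mul, map_pow, map_pow, hc]
        rfl
      have hpow : Ideal.Quotient.mk Q (b : S) ^ F.natDegree =
          Ideal.Quotient.mk Q (b : S) ^ i * Ideal.Quotient.mk Q (b : S) ^ (F.natDegree - i) := by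
        rw [← pow_add, Nat.add_sub_cancel' hi']
      rw [e1, map_mul, map_mul, map_pow, map_pow, hsb, hpow]
      ring
    rw [Finset.sum_congr rfl h1, ← Finset.mul_sum]
    have h2 : ∑ i ∈ Finset.range (F.natDegree + 1),
        Ideal.Quotient.mk Q (algebraMap A S (F₀.coeff i)) * Ideal.Quotient.mk Q s ^ i =
          Ideal.Quotient.mk Q (eval₂ (algebraMap A S) s F₀) := by
      rw [eval₂_eq_sum_range, map_sum, hdeg]
      refine Finset.sum_congr rfl fun i _ => ?_
      rw [map_mul, map_pow]
    rw [h2, hF₀s, map_zero, mul_zero]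
  obtain ⟨x, hxint, s', u, hs', hu, hx⟩ :=
    exists_integral_lift hfin _ hq a b hbq F hFm hG
  refine ⟨x, hxint, ?_⟩
  have h1 := congrArg (rhoQ A S D Q hQ) hx
  rw [map_mul, rhoQ_algebraMap, rhoQ_algebraMap] at h1
  set ιT := algebraMap (S ⧸ Q) (FractionRing (S ⧸ Q)) with hιT
  have hu0 : Ideal.Quotient.mk Q ((u : D) : S) = 0 := Ideal.Quotient.eq_zero_iff_mem.mpr hu
  have hsb : Ideal.Quotient.mk Q (a : S) = Ideal.Quotient.mk Q s * Ideal.Quotient.mk Q (b : S) := by
    rw [← map_mul, eq_comm, ← sub_eq_zero, ← map_sub, Ideal.Quotient.eq_zero_iff_mem]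
    exact hab
  have h2 : ((b * s' + u : D) : S) = (b : S) * (s' : S) + (u : S) := rfl
  have h3 : ((a * s' : D) : S) = (a : S) * (s' : S) := rfl
  rw [h2, h3, map_add, map_mul, map_mul, hu0, add_zero, hsb, map_mul, map_mul, map_mul] at h1
  have hne : ιT (Ideal.Quotient.mk Q (b : S)) * ιT (Ideal.Quotient.mk Q (s' : S)) ≠ 0 := by
    apply mul_ne_zero
    · rw [Ne, map_eq_zero_iff _ (IsFractionRing.injective (S ⧸ Q) _),
        Ideal.Quotient.eq_zero_iff_mem]
      exact hb
    · rw [Ne, map_eq_zero_iff _ (IsFractionRing.injective (S ⧸ Q) _),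
        Ideal.Quotient.eq_zero_iff_mem]
      exact hs'
  apply mul_right_cancel₀ hne
  rw [h1]
  ring

end prelim

end Groth.Agent.Helper2.NoeI
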