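import Mathlib
import Groth.Prelude

set_option autoImplicit false
set_option linter.style.haveILetI false
set_option linter.unusedSectionVars false
set_option linter.unusedVariables false

universe u

/-!
# S16435, part 2: finite separable closure bounds spans of separable residues
-/

namespace Groth.Agent.Helper2.NoeI

open Polynomial

theorem exists_finset_span {A D D' Ω : Type u} [CommRing A] [CommRing D] [CommRing D'] [Field Ω]
    (g₀ : A →+* D) (f₀ : D →+* D') (M : Ideal D') [M.IsMaximal] (φ : D' →+* Ω)
    (hφ : RingHom.ker φ = M)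
    (hF : FiniteDimensional
      (Subfield.closure (Set.range ((algebraMap D' M.ResidueField).comp f₀)))
      (separableClosure (Subfield.closure (Set.range ((algebraMap D' M.ResidueField).comp f₀)))
        M.ResidueField))
    (X : Set D')
    (hX : ∀ x ∈ X, ∃ P : A[X], (P.map (φ.comp (f₀.comp g₀))).Separable ∧
      eval₂ (φ.comp (f₀.comp g₀)) (φ x) P = 0) :
    ∃ X₀ : Finset D', (X₀ : Set D') ⊆ X ∧ ∀ x ∈ X,
      φ x ∈ Submodule.span (Subfield.closure (Set.range (φ.comp f₀))) (φ '' (X₀ : Set D')) := by
  classical
  set kM : Subfield M.ResidueField :=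
    Subfield.closure (Set.range ((algebraMap D' M.ResidueField).comp f₀)) with hkM
  set 𝕜 : Subfield Ω := Subfield.closure (Set.range (φ.comp f₀)) with h𝕜
  -- the embedding of the residue field
  let ι : M.ResidueField →+* Ω := Ideal.ResidueField.lift M φ (hφ ▸ le_rfl) (by
    intro x hx
    show IsUnit (φ x)
    rw [isUnit_iff_ne_zero]
    intro h0
    apply hx
    rw [← hφ]
    exact h0)
  have hι : ∀ x : D', ι (algebraMap D' M.ResidueField x) = φ x := fun x =>
    Ideal.ResidueField.lift_algebraMap M φ _ _ x
  have hιinj : Function.Injective ι := ι.injective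
  have hιk : ∀ c ∈ kM, ι c ∈ 𝕜 := by
    have : kM ≤ 𝕜.comap ι := by
      rw [hkM, Subfield.closure_le]
      rintro _ ⟨d, rfl⟩
      show ι ((algebraMap D' M.ResidueField) (f₀ d)) ∈ 𝕜
      rw [hι]
      exact Subfield.subset_closure ⟨d, rfl⟩
    exact fun c hc => this hc
  -- the residues of `X` are separable over `kM`
  let gA : A →+* kM := ((algebraMap D' M.ResidueField).comp (f₀.comp g₀)).codRestrict kM
    (fun a => Subfield.subset_closure ⟨g₀ a, rfl⟩)
  have hgA : ∀ a, ((gA a : kM) : M.ResidueField) = algebraMap D' M.ResidueField (f₀ (g₀ a)) :=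
    fun a => rfl
  have hsep : ∀ x ∈ X, algebraMap D' M.ResidueField x ∈ separableClosure kM M.ResidueField := by
    intro x hx
    obtain ⟨P, hPsep, hPx⟩ := hX x hx
    rw [mem_separableClosure_iff]
    have hcomp : (ι.comp (algebraMap kM M.ResidueField)).comp gA = φ.comp (f₀.comp g₀) := by
      ext a
      show ι ((gA a : kM) : M.ResidueField) = φ (f₀ (g₀ a))
      rw [hgA, hι]
    have hPM : (P.map gA).Separable := by
      rw [← separable_map (algebraMap kM M.ResidueField), ← separable_map ι, map_map, map_map, hcomp]
      exact hPsep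
    have hroot : aeval (algebraMap D' M.ResidueField x) (P.map gA) = 0 := by
      apply hιinj
      have hcomp' : ι.comp ((algebraMap kM M.ResidueField).comp gA) = φ.comp (f₀.comp g₀) := by
        rw [← RingHom.comp_assoc]; exact hcomp
      rw [map_zero, aeval_def, eval₂_map, hom_eval₂, hι, hcomp']
      exact hPx
    exact hPM.of_dvd (minpoly.dvd kM _ hroot)
  -- the span is finitely generated
  set bar : D' → M.ResidueField := fun x => algebraMap D' M.ResidueField x with hbar
  set V : Submodule kM M.ResidueField := Submodule.span kM (bar '' X) with hV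
  have hVle : V ≤ Subalgebra.toSubmodule (separableClosure kM M.ResidueField).toSubalgebra := by
    rw [hV, Submodule.span_le]
    rintro _ ⟨x, hx, rfl⟩
    exact hsep x hx
  haveI : FiniteDimensional kM
      (Subalgebra.toSubmodule (separableClosure kM M.ResidueField).toSubalgebra) := hF
  haveI : FiniteDimensional kM V := Submodule.finiteDimensional_of_le hVle
  have hVfg : V.FG := Module.Finite.iff_fg.mp inferInstance
  obtain ⟨s', hs'sub, hs'span⟩ := (Submodule.fg_span_iff_fg_span_finset_subset (bar '' X)).mp hVfg
  obtain ⟨X₀, hX₀X, hX₀img⟩ := Finset.subset_set_image_iff.mp hs'sub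
  refine ⟨X₀, hX₀X, fun x hx => ?_⟩
  have hxV : bar x ∈ Submodule.span kM ((s' : Finset M.ResidueField) : Set M.ResidueField) := by
    rw [← hs'span]
    exact Submodule.subset_span ⟨x, hx, rfl⟩
  have key : ∀ v ∈ Submodule.span kM ((s' : Finset M.ResidueField) : Set M.ResidueField),
      ι v ∈ Submodule.span 𝕜 (φ '' (X₀ : Set D')) := by
    intro v hv
    induction hv using Submodule.span_induction with
    | mem v hv =>
      rw [← hX₀img] at hv
      obtain ⟨x₀, hx₀, rfl⟩ := Finset.mem_image.mp (by exact_mod_cast hv)
      show ι (bar x₀) ∈ _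
      rw [hbar, hι]
      exact Submodule.subset_span ⟨x₀, by exact_mod_cast hx₀, rfl⟩
    | zero => rw [map_zero]; exact Submodule.zero_mem _
    | add v w _ _ hv hw => rw [map_add]; exact Submodule.add_mem _ hv hw
    | smul c v _ hv =>
      have h1 : ι (c • v) = (⟨ι c, hιk c c.2⟩ : 𝕜) • ι v := by
        show ι ((c : M.ResidueField) * v) = ι (c : M.ResidueField) * ι v
        rw [map_mul]
      rw [h1]
      exact Submodule.smul_mem _ _ hv
  have := key _ hxV
  rwa [hbar, hι] at this

end Groth.Agent.Helper2.NoeI
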