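import Mathlib
import Groth.Prelude
import Groth.Agent.Helper2.NoeI2

set_option autoImplicit false
set_option linter.style.haveILetI false
set_option linter.unusedSectionVars false
set_option linter.unusedVariables false

universe u

/-!
# S16435, part 4a: abstract descent of the span bound to residue fields
-/

namespace Groth.Agent.Helper2.NoeI

open Polynomial

theorem descend_span {A D D' S k κS Ω : Type u} [CommRing A] [CommRing D] [CommRing D']
    [CommRing S] [Field k] [Field κS] [Field Ω] [Algebra k κS] [Algebra.IsSeparable k κS]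
    (g₀ : A →+* D) (f₀ : D →+* D') (i₀ : D →+* S) (r₀ : A →+* k)
    (hr₀ : Function.Surjective r₀) (rho : S →+* κS)
    (hcomp : rho.comp (i₀.comp g₀) = (algebraMap k κS).comp r₀)
    (φ : D' →+* Ω) (j : κS →+* Ω) (hφj : φ.comp f₀ = j.comp (rho.comp i₀))
    (M : Ideal D') [M.IsMaximal] (hM : RingHom.ker φ = M)
    (hF : FiniteDimensional
      (Subfield.closure (Set.range ((algebraMap D' M.ResidueField).comp f₀)))
      (separableClosure (Subfield.closure (Set.range ((algebraMap D' M.ResidueField).comp f₀)))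
        M.ResidueField))
    (k0 : IntermediateField k κS) (hk0 : ∀ d : D, rho (i₀ d) ∈ k0)
    (X : Set D') (σ : D' → S) (hσ : ∀ x ∈ X, φ x = j (rho (σ x))) :
    ∃ Θ : Finset κS, ∀ x ∈ X, rho (σ x) ∈ k0 ⊔ IntermediateField.adjoin k (Θ : Set κS) := by
  classical
  have hAΩ : φ.comp (f₀.comp g₀) = (j.comp (algebraMap k κS)).comp r₀ := by
    rw [← RingHom.comp_assoc, hφj, RingHom.comp_assoc, RingHom.comp_assoc, hcomp,
      RingHom.comp_assoc]
  have hXsep : ∀ x ∈ X, ∃ P : A[X], (P.map (φ.comp (f₀.comp g₀))).Separable ∧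
      eval₂ (φ.comp (f₀.comp g₀)) (φ x) P = 0 := by
    intro x hx
    obtain ⟨P, hP⟩ := Polynomial.map_surjective r₀ hr₀ (minpoly k (rho (σ x)))
    have hs : (minpoly k (rho (σ x))).Separable := Algebra.IsSeparable.isSeparable k _
    refine ⟨P, ?_, ?_⟩
    · rw [hAΩ, ← Polynomial.map_map, hP]
      exact hs.map
    · rw [hAΩ, hσ x hx, ← eval₂_map, hP, ← hom_eval₂, ← aeval_def, minpoly.aeval, map_zero]
  obtain ⟨X₀, hX₀X, hX₀span⟩ := exists_finset_span g₀ f₀ M φ hM hF X hXsep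
  refine ⟨X₀.image (fun x => rho (σ x)), ?_⟩
  intro x hx
  set Fsup : IntermediateField k κS :=
    k0 ⊔ IntermediateField.adjoin k
      ((X₀.image (fun x => rho (σ x)) : Finset κS) : Set κS) with hFsup
  have h1 := hX₀span x hx
  rw [hσ x hx] at h1
  have h𝕜 : ∀ c ∈ Subfield.closure (Set.range (φ.comp f₀)), ∃ c₀ ∈ k0, j c₀ = c := by
    have : Subfield.closure (Set.range (φ.comp f₀)) ≤ k0.toSubfield.map j := by
      rw [Subfield.closure_le]
      rintro _ ⟨d, rfl⟩
      refine ⟨rho (i₀ d), hk0 d, ?_⟩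
      have := RingHom.congr_fun hφj d
      exact this.symm
    intro c hc
    obtain ⟨c₀, hc₀, hc₀c⟩ := this hc
    exact ⟨c₀, hc₀, hc₀c⟩
  have key : ∀ v ∈ Submodule.span (Subfield.closure (Set.range (φ.comp f₀)))
      (φ '' (X₀ : Set D')), ∃ ω ∈ Fsup, j ω = v := by
    intro v hv
    induction hv using Submodule.span_induction with
    | mem v hv =>
      obtain ⟨x₀, hx₀, rfl⟩ := hv
      have hx₀' : x₀ ∈ X₀ := by exact_mod_cast hx₀
      refine ⟨rho (σ x₀), ?_, (hσ x₀ (hX₀X hx₀)).symm⟩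
      apply (le_sup_right : _ ≤ Fsup)
      apply IntermediateField.subset_adjoin
      exact_mod_cast Finset.mem_image_of_mem (fun x => rho (σ x)) hx₀'
    | zero => exact ⟨0, zero_mem _, map_zero _⟩
    | add v w _ _ hv hw =>
      obtain ⟨ω₁, h₁, rfl⟩ := hv
      obtain ⟨ω₂, h₂, rfl⟩ := hw
      exact ⟨ω₁ + ω₂, add_mem h₁ h₂, map_add _ _ _⟩
    | smul c v _ hv =>
      obtain ⟨ω, hω, rfl⟩ := hv
      obtain ⟨c₀, hc₀, hc₀c⟩ := h𝕜 c c.2
      refine ⟨c₀ * ω, mul_mem ((le_sup_left : _ ≤ Fsup) hc₀) hω, ?_⟩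
      rw [map_mul, hc₀c]
      rfl
  obtain ⟨ω, hω, hωj⟩ := key _ h1
  have : ω = rho (σ x) := j.injective hωj
  rw [← this]
  exact hω

end Groth.Agent.Helper2.NoeI
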