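import Mathlib

set_option autoImplicit false
set_option linter.style.haveILetI false
set_option linter.unusedSectionVars false

universe u

namespace Groth.Agent.Helper2.SubfSt

open Polynomial IsLocalRing

/-- a monic polynomial over a domain, whose reduction is separable and split with all roots
liftable to roots, is the product of its linear factors -/
theorem eq_prod_roots_of_lifts {T Ω : Type*} [CommRing T] [IsDomain T] [Field Ω] (ρ : T →+* Ω)
    (f : T[X]) (hf : f.Monic) (hs : (f.map ρ).Splits) (hsep : (f.map ρ).Separable)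
    (hl : ∀ θ' ∈ (f.map ρ).roots, ∃ r : T, f.eval r = 0 ∧ ρ r = θ') :
    f = (f.roots.map (fun r => X - C r)).prod := by
  classical
  have hn : (f.map ρ).roots.card = f.natDegree := by
    rw [← hs.natDegree_eq_card_roots, hf.natDegree_map]
  have hnd : (f.map ρ).roots.Nodup := nodup_roots hsep
  let g : Ω → T := fun θ' => if h : θ' ∈ (f.map ρ).roots then (hl θ' h).choose else 0
  have hg : ∀ θ' ∈ (f.map ρ).roots, f.eval (g θ') = 0 ∧ ρ (g θ') = θ' := by
    intro θ' h
    simp only [g, dif_pos h]
    exact (hl θ' h).choose_spec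
  let m' : Multiset T := (f.map ρ).roots.map g
  have hm'map : m'.map ρ = (f.map ρ).roots := by
    rw [Multiset.map_map]
    conv_rhs => rw [← Multiset.map_id (f.map ρ).roots]
    exact Multiset.map_congr rfl fun θ' h => (hg θ' h).2
  have hm'nd : m'.Nodup := Multiset.Nodup.of_map ρ (hm'map ▸ hnd)
  have hm'sub : m' ⊆ f.roots := by
    intro r hr
    obtain ⟨θ', hθ', rfl⟩ := Multiset.mem_map.mp hr
    exact (mem_roots hf.ne_zero).mpr (hg θ' hθ').1
  have hle : m' ≤ f.roots := (Multiset.le_iff_subset hm'nd).mpr hm'sub
  have hcard : m'.card = f.natDegree := by rw [Multiset.card_map, hn]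
  have h1 : f.roots.card = f.natDegree :=
    le_antisymm (card_roots' f) (hcard ▸ Multiset.card_le_card hle)
  exact (prod_multiset_X_sub_C_of_monic_of_roots_card_eq hf h1).symm

end Groth.Agent.Helper2.SubfSt
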