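import Mathlib

set_option autoImplicit false
set_option linter.style.haveILetI false
set_option linter.unusedSectionVars false

/-! Generic lemmas towards S16434/S16440: uniqueness of simple roots, a Nakayama spanning lemma,
a linear independence trick, and a degree bound for minimal polynomials under reduction. -/

universe u

namespace Groth.Agent.Helper2.SubfSt

open Polynomial IsLocalRing

/-- uniqueness of simple roots in a local ring -/
theorem root_unique {R : Type*} [CommRing R] [IsLocalRing R] (f : R[X]) (a b : R)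
    (ha : f.eval a = 0) (hb : f.eval b = 0) (hab : b - a ∈ maximalIdeal R)
    (hu : IsUnit (f.derivative.eval a)) : a = b := by
  obtain ⟨c, hc⟩ := f.binomExpansion a (b - a)
  rw [add_sub_cancel, hb, ha, zero_add] at hc
  have h1 : (b - a) * (f.derivative.eval a + c * (b - a)) = 0 := by
    rw [hc]; ring
  have h2 : IsUnit (f.derivative.eval a + c * (b - a)) := by
    by_contra hnu
    have h3 : f.derivative.eval a + c * (b - a) ∈ maximalIdeal R := hnu
    have h4 : f.derivative.eval a ∈ maximalIdeal R := by
      have := (maximalIdeal R).sub_mem h3 ((maximalIdeal R).mul_mem_left c hab)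
      simpa using this
    exact h4 hu
  have h5 := (h2.mul_left_eq_zero).mp h1
  exact (sub_eq_zero.mp h5).symm

/-- coefficients in a subfield of a vanishing combination of independent powers vanish -/
theorem coeff_zero_of_linearIndependent {K : Type*} [Field K] (L : Subfield K) (x : K) (d : ℕ)
    (hind : LinearIndependent L (fun j : Fin d => x ^ (j : ℕ)))
    (γ : Fin d → K) (hγ : ∀ j, γ j ∈ L) (h : ∑ j, γ j * x ^ (j : ℕ) = 0) : ∀ j, γ j = 0 := by
  have h1 := Fintype.linearIndependent_iff.1 hind (fun j => ⟨γ j, hγ j⟩) (by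
    simpa [Subfield.smul_def] using h)
  intro j
  have := h1 j
  exact congrArg Subtype.val this

/-- key trick: a fraction of two combinations of independent powers with coefficients in a smaller
field which lies in the bigger field is a ratio of coefficients. -/
theorem exists_ratio_of_linearIndependent {K : Type*} [Field K] (L : Subfield K) (x : K) (d : ℕ)
    (hind : LinearIndependent L (fun j : Fin d => x ^ (j : ℕ)))
    (l : K) (hl : l ∈ L) (α β : Fin d → K) (hα : ∀ j, α j ∈ L) (hβ : ∀ j, β j ∈ L)
    (hne : ∑ j, β j * x ^ (j : ℕ) ≠ 0)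
    (h : l * ∑ j, β j * x ^ (j : ℕ) = ∑ j, α j * x ^ (j : ℕ)) :
    ∃ j, β j ≠ 0 ∧ l * β j = α j := by
  have h0 : ∀ j, l * β j - α j = 0 := by
    apply coeff_zero_of_linearIndependent L x d hind
    · intro j
      exact L.sub_mem (L.mul_mem hl (hβ j)) (hα j)
    · rw [Finset.mul_sum] at h
      simp only [sub_mul, Finset.sum_sub_distrib]
      rw [sub_eq_zero, ← h]
      exact Finset.sum_congr rfl fun j _ => by ring
  have : ∃ j, β j ≠ 0 := by
    by_contra hcon
    push_neg at hcon
    apply hne
    exact Finset.sum_eq_zero fun j _ => by rw [hcon j, zero_mul]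
  obtain ⟨j, hj⟩ := this
  exact ⟨j, hj, sub_eq_zero.mp (h0 j)⟩

/-- Nakayama: if a finite subalgebra `E` is spanned modulo the maximal ideal by the first `d`
powers of `x` with coefficients in a smaller subalgebra, it is so spanned. -/
theorem span_pow_of_residue {A S : Type*} [CommRing A] [IsLocalRing A] [CommRing S] [Algebra A S]
    (E'' E : Subalgebra A S) [Module.Finite A E] (x : S) (d : ℕ)
    (hres : ∀ e ∈ E, ∃ c : Fin d → S, (∀ j, c j ∈ E'') ∧
      e - ∑ j, c j * x ^ (j : ℕ) ∈ (maximalIdeal A) • (Subalgebra.toSubmodule E)) :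
    ∀ e ∈ E, ∃ c : Fin d → S, (∀ j, c j ∈ E'') ∧ e = ∑ j, c j * x ^ (j : ℕ) := by
  let N : Submodule A S :=
    { carrier := {s | ∃ c : Fin d → S, (∀ j, c j ∈ E'') ∧ s = ∑ j, c j * x ^ (j : ℕ)}
      zero_mem' := ⟨0, fun j => E''.zero_mem, by simp⟩
      add_mem' := by
        rintro s₁ s₂ ⟨c₁, h₁, rfl⟩ ⟨c₂, h₂, rfl⟩
        refine ⟨c₁ + c₂, fun j => E''.add_mem (h₁ j) (h₂ j), ?_⟩
        rw [← Finset.sum_add_distrib]
        exact Finset.sum_congr rfl fun j _ => by simp [add_mul]
      smul_mem' := by
        rintro a s ⟨c, h, rfl⟩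
        refine ⟨a • c, fun j => E''.smul_mem (h j) a, ?_⟩
        rw [Finset.smul_sum]
        exact Finset.sum_congr rfl fun j _ => by simp [smul_mul_assoc] }
  have hfg : (Subalgebra.toSubmodule E).FG := Module.Finite.iff_fg.mp (inferInstanceAs (Module.Finite A E))
  have hle : Subalgebra.toSubmodule E ≤ N ⊔ (maximalIdeal A) • (Subalgebra.toSubmodule E) := by
    intro e he
    obtain ⟨c, hc, hmem⟩ := hres e he
    rw [Submodule.mem_sup]
    exact ⟨∑ j, c j * x ^ (j : ℕ), ⟨c, hc, rfl⟩, _, hmem, by ring⟩
  have := Submodule.le_of_le_smul_of_le_jacobson_bot hfg (maximalIdeal_le_jacobson ⊥) hle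
  intro e he
  exact this he

end Groth.Agent.Helper2.SubfSt
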