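import Mathlib
import Groth.Prelude
import Groth.Agent.Helper2.EssEtSub4

set_option autoImplicit false
set_option linter.style.haveILetI false
set_option linter.unusedSectionVars false

universe u

namespace Groth.Agent.Helper2.SubfSt

open Polynomial IsLocalRing Groth.Agent.Helper1.Hens Groth.Agent.Helper1 Groth.Agent.Helper2.EssEtSub

section

variable (A S : Type u) [CommRing A] [IsLocalRing A] [CommRing S] [IsLocalRing S] [Algebra A S]
  [IsLocalHom (algebraMap A S)] [Hensel.IsStrictHenselization A S]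

/-- the stage attached to a simple residual root of a monic polynomial -/
theorem exists_stage_of_root (f : A[X]) (hf : f.Monic) (θ : ResidueField S)
    (h0 : aeval θ f = 0) (h1 : aeval θ (derivative f) ≠ 0) :
    ∃ (j : Idx A (ResidueField S)) (y' : j.L), aeval y' f = 0 ∧ γLoc j.γ y' = θ ∧
      ∀ z : j.L, ∃ u v : A[X], IsUnit (aeval y' v) ∧ z * aeval y' v = aeval y' u := by
  let P : StandardEtalePair A := ⟨f, hf, derivative f, 1, 0, 1, by simp⟩
  have hmap : P.HasMap θ := ⟨h0, isUnit_iff_ne_zero.mpr h1⟩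
  let γ : P.Ring →ₐ[A] ResidueField S := P.lift θ hmap
  obtain ⟨j, e, he⟩ := Idx.exists_equiv P.Ring γ
  let φ : P.Ring →ₐ[A] j.L := (IsScalarTower.toAlgHom A j.C j.L).comp e.toAlgHom
  have hφ : ∀ c, φ c = algebraMap j.C j.L (e c) := fun c => rfl
  have hX : P.HasMap P.X := P.hasMap_X
  refine ⟨j, φ P.X, ?_, ?_, ?_⟩
  · rw [aeval_algHom_apply]
    have : aeval P.X f = 0 := hX.1
    rw [this, map_zero]
  · rw [hφ, γLoc_algebraMap, he]
    exact P.lift_X θ hmap
  · intro z
    obtain ⟨c, s, rfl⟩ := IsLocalization.exists_mk'_eq (pt j.γ).primeCompl z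
    let Pres : StandardEtalePresentation A P.Ring :=
      ⟨P, P.X, P.hasMap_X, by simpa [StandardEtalePair.lift_X_left] using Function.bijective_id⟩
    obtain ⟨pc, n, hpc⟩ := Pres.exists_mul_aeval_x_g_pow_eq_aeval_x (e.symm c)
    obtain ⟨ps, m, hps⟩ := Pres.exists_mul_aeval_x_g_pow_eq_aeval_x (e.symm (s : j.C))
    have hpc' : e.symm c * aeval P.X (derivative f) ^ n = aeval P.X pc := hpc
    have hps' : e.symm (s : j.C) * aeval P.X (derivative f) ^ m = aeval P.X ps := hps
    set G := aeval P.X (derivative f) with hG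
    have hGu : IsUnit G := hX.2
    have h2 : φ (e.symm (s : j.C)) = algebraMap j.C j.L (s : j.C) := by
      rw [hφ, AlgEquiv.apply_symm_apply]
    have h3 : φ (e.symm c) = algebraMap j.C j.L c := by
      rw [hφ, AlgEquiv.apply_symm_apply]
    have hv : aeval (φ P.X) (ps * derivative f ^ n) =
        algebraMap j.C j.L (s : j.C) * φ G ^ m * φ G ^ n := by
      rw [aeval_algHom_apply, map_mul (aeval P.X), map_pow (aeval P.X), ← hG, ← hps', map_mul,
        map_mul, map_pow, map_pow, h2]
    have hu : aeval (φ P.X) (pc * derivative f ^ m) =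
        algebraMap j.C j.L c * φ G ^ n * φ G ^ m := by
      rw [aeval_algHom_apply, map_mul (aeval P.X), map_pow (aeval P.X), ← hG, ← hpc', map_mul,
        map_mul, map_pow, map_pow, h3]
    refine ⟨pc * derivative f ^ m, ps * derivative f ^ n, ?_, ?_⟩
    · rw [hv]
      exact ((IsLocalization.map_units j.L s).mul ((hGu.map φ).pow m)).mul ((hGu.map φ).pow n)
    · rw [hv, hu]
      have h4 : IsLocalization.mk' j.L c s * algebraMap j.C j.L (s : j.C) = algebraMap j.C j.L c :=
        IsLocalization.mk'_spec _ _ _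
      rw [← h4]
      ring

end

end Groth.Agent.Helper2.SubfSt
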