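import Mathlib
import Groth.Prelude
import Groth.Agent.Helper2.SubfSt3

set_option autoImplicit false
set_option linter.style.haveILetI false
set_option linter.unusedSectionVars false

universe u

namespace Groth.Agent.Helper2.SubfSt

open Polynomial IsLocalRing Groth.Agent.Helper1.Hens Groth.Agent.Helper1 Groth.Agent.Helper2.EssEtSub
open scoped IntermediateField

section

variable (A S : Type u) [CommRing A] [IsLocalRing A] [CommRing S] [IsLocalRing S] [Algebra A S]
  [IsLocalHom (algebraMap A S)] [Hensel.IsStrictHenselization A S]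

theorem algebraMap_residue_eq_rho (a : A) :
    algebraMap (ResidueField A) (ResidueField S) (residue A a) = rho A S (algebraMap A S a) := by
  rw [AlgHom.commutes]
  exact (IsScalarTower.algebraMap_apply A (ResidueField A) (ResidueField S) a).symm

/-- residue image of an inverse-closed subalgebra as an intermediate field -/
noncomputable def resF (B : Subalgebra A S) (hB : ∀ b ∈ B, IsUnit b → ∃ b' ∈ B, b * b' = 1) :
    IntermediateField (ResidueField A) (ResidueField S) :=
  Subalgebra.toIntermediateField
    { carrier := {ω | ∃ b ∈ B, rho A S b = ω}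
      mul_mem' := by
        rintro _ _ ⟨b₁, h₁, rfl⟩ ⟨b₂, h₂, rfl⟩
        exact ⟨b₁ * b₂, B.mul_mem h₁ h₂, map_mul _ _ _⟩
      one_mem' := ⟨1, B.one_mem, map_one _⟩
      add_mem' := by
        rintro _ _ ⟨b₁, h₁, rfl⟩ ⟨b₂, h₂, rfl⟩
        exact ⟨b₁ + b₂, B.add_mem h₁ h₂, map_add _ _ _⟩
      zero_mem' := ⟨0, B.zero_mem, map_zero _⟩
      algebraMap_mem' := by
        intro κ
        obtain ⟨a, rfl⟩ := residue_surjective κ
        exact ⟨algebraMap A S a, B.algebraMap_mem a, (algebraMap_residue_eq_rho A S a).symm⟩ }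
    (by
      rintro _ ⟨b, hb, rfl⟩
      by_cases h0 : rho A S b = 0
      · rw [h0, inv_zero]; exact ⟨0, B.zero_mem, map_zero _⟩
      · have hu : IsUnit b := (isUnit_iff_rho_ne_zero A S b).mpr h0
        obtain ⟨b', hb', hbb'⟩ := hB b hb hu
        refine ⟨b', hb', ?_⟩
        have := congrArg (rho A S) hbb'
        rw [map_mul, map_one] at this
        exact (eq_inv_of_mul_eq_one_right this))

theorem mem_resF (B : Subalgebra A S) (hB : ∀ b ∈ B, IsUnit b → ∃ b' ∈ B, b * b' = 1)
    (ω : ResidueField S) : ω ∈ resF A S B hB ↔ ∃ b ∈ B, rho A S b = ω := Iff.rfl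

/-- primitive elements for finite subextensions of the residue field extension -/
theorem exists_primitive (F : IntermediateField (ResidueField A) (ResidueField S))
    [FiniteDimensional (ResidueField A) F] :
    ∃ θ ∈ F, ∀ ω ∈ F, ∃ g : (ResidueField A)[X], ω = aeval θ g := by
  haveI : Algebra.IsSeparable (ResidueField A) (ResidueField S) := IsSepClosure.separable
  haveI : Algebra.IsSeparable (ResidueField A) F :=
    Algebra.isSeparable_tower_bot_of_isSeparable (ResidueField A) F (ResidueField S)
  obtain ⟨α, hα⟩ := Field.exists_primitive_element (ResidueField A) F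
  refine ⟨(α : ResidueField S), α.2, fun ω hω => ?_⟩
  have h1 : (⟨ω, hω⟩ : F) ∈ (ResidueField A)⟮α⟯ := by rw [hα]; trivial
  have halg : IsAlgebraic (ResidueField A) α := (Algebra.IsIntegral.isIntegral α).isAlgebraic
  have h2 : (⟨ω, hω⟩ : F) ∈ ((ResidueField A)⟮α⟯).toSubalgebra := h1
  rw [IntermediateField.adjoin_simple_toSubalgebra_of_isAlgebraic halg,
    Algebra.adjoin_singleton_eq_range_aeval] at h2
  obtain ⟨g, hg⟩ := h2
  refine ⟨g, ?_⟩
  have hg' : aeval α g = (⟨ω, hω⟩ : F) := hg
  have := congrArg (F.val) hg'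
  rw [← aeval_algHom_apply] at this
  exact this.symm

/-- values of `rho` on polynomial expressions -/
theorem rho_aeval (s : S) (g : A[X]) :
    rho A S (aeval s g) = aeval (rho A S s) (g.map (residue A)) := by
  rw [← aeval_algHom_apply]
  have : (g.map (residue A)) = g.map (algebraMap A (ResidueField A)) := rfl
  rw [this, aeval_map_algebraMap]

end

end Groth.Agent.Helper2.SubfSt
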