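import Mathlib
import Groth.Prelude
import Groth.Agent.Helper2.SubfSt6

set_option autoImplicit false
set_option linter.style.haveILetI false
set_option linter.unusedSectionVars false

universe u

namespace Groth.Agent.Helper2.SubfSt

open Polynomial IsLocalRing Groth.Agent.Helper1.Hens Groth.Agent.Helper1 Groth.Agent.Helper2.EssEtSub
open scoped IntermediateField

section

variable (A S : Type u) [CommRing A] [IsLocalRing A] [CommRing S] [IsLocalRing S] [Algebra A S]
  [IsLocalHom (algebraMap A S)] [Hensel.IsStrictHenselization A S]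

theorem range_invClosed (i : Idx A (ResidueField S)) :
    ∀ b ∈ (stageHom A S i).range, IsUnit b → ∃ b' ∈ (stageHom A S i).range, b * b' = 1 := by
  rintro _ ⟨z, rfl⟩ hu
  have hz : IsUnit z := isUnit_of_isUnit_stageHom A S i z hu
  obtain ⟨w, hw⟩ := hz.exists_right_inv
  refine ⟨stageHom A S i w, ⟨w, rfl⟩, ?_⟩
  show stageHom A S i z * stageHom A S i w = 1
  rw [← map_mul, hw, map_one]

/-- the residue field of a stage, as a subfield of the residue field of `S` -/
noncomputable def resE (i : Idx A (ResidueField S)) :
    IntermediateField (ResidueField A) (ResidueField S) :=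
  resF A S (stageHom A S i).range (range_invClosed A S i)

theorem mem_resE (i : Idx A (ResidueField S)) (ω : ResidueField S) :
    ω ∈ resE A S i ↔ ∃ z : i.L, γLoc i.γ z = ω := by
  rw [resE, mem_resF]
  constructor
  · rintro ⟨_, ⟨z, rfl⟩, h⟩
    exact ⟨z, by rw [← rho_stageHom A S i z]; exact h⟩
  · rintro ⟨z, h⟩
    exact ⟨stageHom A S i z, ⟨z, rfl⟩, by rw [rho_stageHom]; exact h⟩

theorem finite_resE [HenselianLocalRing A] (i : Idx A (ResidueField S)) :
    FiniteDimensional (ResidueField A) (resE A S i) := by
  haveI := finite_stage A S i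
  let f : i.L →ₗ[A] (resE A S i) :=
    { toFun := fun z => ⟨γLoc i.γ z, (mem_resE A S i _).mpr ⟨z, rfl⟩⟩
      map_add' := fun x y => Subtype.ext (map_add _ _ _)
      map_smul' := fun a x => Subtype.ext (by
        show γLoc i.γ (a • x) = a • γLoc i.γ x
        exact map_smul _ _ _) }
  have hf : Function.Surjective f := by
    rintro ⟨ω, hω⟩
    obtain ⟨z, hz⟩ := (mem_resE A S i ω).mp hω
    exact ⟨z, Subtype.ext hz⟩
  haveI : Module.Finite A (resE A S i) := Module.Finite.of_surjective f hf
  exact Module.Finite.of_restrictScalars_finite A (ResidueField A) (resE A S i)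

end

end Groth.Agent.Helper2.SubfSt
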