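import Mathlib
import Groth.Prelude
import Groth.Agent.Helper2.SubfSt7
import Groth.Agent.Helper2.Unibr1

set_option autoImplicit false
set_option linter.style.haveILetI false
set_option linter.unusedSectionVars false

universe u

namespace Groth.Agent.Helper2.SubfSt

open Polynomial IsLocalRing Groth.Agent.Helper1.Hens Groth.Agent.Helper1 Groth.Agent.Helper2.EssEtSub
open scoped IntermediateField

section

variable (A S : Type u) [CommRing A] [HenselianLocalRing A] [CommRing S] [IsLocalRing S]
  [Algebra A S] [IsLocalHom (algebraMap A S)] [Hensel.IsStrictHenselization A S]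
variable (T : Type u) [CommRing T] [IsDomain T] [Algebra A T] (π : S →ₐ[A] T)
  (hπ : Function.Surjective π)

include hπ in
theorem isUnit_of_isUnit_π (s : S) (h : IsUnit (π s)) : IsUnit s := by
  by_contra hs
  have hs' : s ∈ maximalIdeal S := hs
  obtain ⟨w, hw⟩ := h.exists_right_inv
  obtain ⟨w', rfl⟩ := hπ w
  have h1 : π (1 - s * w') = 0 := by rw [map_sub, map_one, map_mul, hw, sub_self]
  have h2 : IsUnit (1 - s * w') := by
    by_contra hnu
    have h3 : 1 - s * w' ∈ maximalIdeal S := hnu
    have h4 : (1 : S) ∈ maximalIdeal S := by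
      have := (maximalIdeal S).add_mem h3 ((maximalIdeal S).mul_mem_right w' hs')
      simpa using this
    exact (maximalIdeal.isMaximal S).ne_top ((Ideal.eq_top_iff_one _).mpr h4)
  have h5 := h2.map π
  rw [h1] at h5
  exact not_isUnit_zero h5

include hπ in
theorem ker_le_ker_rho : RingHom.ker π.toRingHom ≤ RingHom.ker (rho A S).toRingHom := by
  intro s hs
  have h1 : π s = 0 := hs
  show rho A S s = 0
  rw [rho_eq_zero_iff]
  intro hu
  have := (hu : IsUnit s).map π
  rw [h1] at this
  exact not_isUnit_zero this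

/-- the residue map on the quotient `T` -/
noncomputable def rhoT : T →+* ResidueField S :=
  (π.toRingHom.liftOfSurjective hπ) ⟨(rho A S).toRingHom, ker_le_ker_rho A S T π hπ⟩

theorem rhoT_π (s : S) : rhoT A S T π hπ (π s) = rho A S s :=
  RingHom.liftOfSurjective_comp_apply π.toRingHom hπ
    ⟨(rho A S).toRingHom, ker_le_ker_rho A S T π hπ⟩ s

theorem isUnit_iff_rhoT_ne_zero (z : T) : IsUnit z ↔ rhoT A S T π hπ z ≠ 0 := by
  obtain ⟨s, rfl⟩ := hπ z
  rw [rhoT_π, ← isUnit_iff_rho_ne_zero]
  exact ⟨isUnit_of_isUnit_π A S T π hπ s, fun h => h.map π⟩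

theorem rhoT_algebraMap (a : A) :
    rhoT A S T π hπ (algebraMap A T a) =
      algebraMap (ResidueField A) (ResidueField S) (residue A a) := by
  rw [← π.commutes, rhoT_π, algebraMap_residue_eq_rho]

end

section

variable (A S : Type u) [CommRing A] [HenselianLocalRing A] [CommRing S] [IsLocalRing S]
  [Algebra A S] [IsLocalHom (algebraMap A S)] [Hensel.IsStrictHenselization A S]
variable (T : Type u) [CommRing T] [IsDomain T] [Algebra A T] (π : S →ₐ[A] T)
  (hπ : Function.Surjective π)
variable (K : Type u) [Field K] [Algebra T K] [IsFractionRing T K] (L : Subfield K)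
  (hA : ∀ a : A, algebraMap T K (algebraMap A T a) ∈ L)

/-- the intersection of the subfield with `T` -/
def subD : Subalgebra A T where
  carrier := {z | algebraMap T K z ∈ L}
  mul_mem' := by
    intro a b ha hb
    show algebraMap T K (a * b) ∈ L
    rw [map_mul]; exact L.mul_mem ha hb
  one_mem' := by
    show algebraMap T K 1 ∈ L
    rw [map_one]; exact L.one_mem
  add_mem' := by
    intro a b ha hb
    show algebraMap T K (a + b) ∈ L
    rw [map_add]; exact L.add_mem ha hb
  zero_mem' := by
    show algebraMap T K 0 ∈ L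
    rw [map_zero]; exact L.zero_mem
  algebraMap_mem' := hA

theorem mem_subD (z : T) : z ∈ subD A T K L hA ↔ algebraMap T K z ∈ L := Iff.rfl

theorem subD_inv (z : T) (hz : z ∈ subD A T K L hA) (hu : IsUnit z) :
    ∃ w ∈ subD A T K L hA, z * w = 1 := by
  obtain ⟨w, hw⟩ := hu.exists_right_inv
  refine ⟨w, ?_, hw⟩
  rw [mem_subD]
  have h1 : algebraMap T K z * algebraMap T K w = 1 := by rw [← map_mul, hw, map_one]
  rw [eq_inv_of_mul_eq_one_right h1]
  exact L.inv_mem hz

/-- the preimage in `S` -/
def subDS : Subalgebra A S := (subD A T K L hA).comap π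

theorem mem_subDS (s : S) : s ∈ subDS A S T π K L hA ↔ algebraMap T K (π s) ∈ L := Iff.rfl

include hπ in
theorem subDS_inv : ∀ b ∈ subDS A S T π K L hA, IsUnit b →
    ∃ b' ∈ subDS A S T π K L hA, b * b' = 1 := by
  intro b hb hu
  obtain ⟨w, hw⟩ := hu.exists_right_inv
  refine ⟨w, ?_, hw⟩
  rw [mem_subDS]
  have h1 : algebraMap T K (π b) * algebraMap T K (π w) = 1 := by
    rw [← map_mul, ← map_mul, hw, map_one, map_one]
  rw [eq_inv_of_mul_eq_one_right h1]
  exact L.inv_mem hb

end

end Groth.Agent.Helper2.SubfSt
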