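import Mathlib
import Groth.Prelude
import Groth.Agent.Helper2.SubfSt8
import Groth.Agent.Helper2.SubfSt4
import Groth.Agent.Helper2.SubfSt1

set_option autoImplicit false
set_option linter.style.haveILetI false
set_option linter.unusedSectionVars false

universe u

namespace Groth.Agent.Helper2.SubfSt

open Polynomial IsLocalRing Groth.Agent.Helper1.Hens Groth.Agent.Helper1 Groth.Agent.Helper2.EssEtSub
open scoped IntermediateField

section

variable (A S : Type u) [CommRing A] [HenselianLocalRing A] [CommRing S] [IsLocalRing S]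
  [Algebra A S] [IsLocalHom (algebraMap A S)] [Hensel.IsStrictHenselization A S]

/-- elements of a stage with zero residue lie in `m_A • E` -/
theorem mem_smul_of_rho_eq_zero (i : Idx A (ResidueField S)) (w : S)
    (hw : w ∈ (stageHom A S i).range) (h0 : rho A S w = 0) :
    w ∈ (maximalIdeal A) • (Subalgebra.toSubmodule (stageHom A S i).range) := by
  obtain ⟨w', rfl⟩ := hw
  have h1 : γLoc i.γ w' = 0 := by rw [← rho_stageHom A S i w']; exact h0
  rw [γLoc_eq_zero_iff] at h1
  haveI : IsLocalHom (algebraMap A i.L) := by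
    constructor
    intro a ha
    have h2 : IsUnit (algebraMap A S a) := by
      have := ha.map (stageHom A S i)
      rwa [AlgHom.commutes] at this
    exact isUnit_of_map_unit (algebraMap A S) a h2
  rw [← Algebra.FormallyUnramified.map_maximalIdeal (R := A) (S := i.L)] at h1
  have h2 : w' ∈ (maximalIdeal A) • (⊤ : Submodule A i.L) := by
    rw [Ideal.smul_top_eq_map]; exact h1
  have h3 : (stageHom A S i).toLinearMap w' ∈
      ((maximalIdeal A) • (⊤ : Submodule A i.L)).map (stageHom A S i).toLinearMap :=
    Submodule.mem_map_of_mem h2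
  rw [Submodule.map_smul''] at h3
  have h4 : (⊤ : Submodule A i.L).map (stageHom A S i).toLinearMap =
      Subalgebra.toSubmodule (stageHom A S i).range := by
    ext y
    simp only [Submodule.mem_map, Submodule.mem_top, true_and, Subalgebra.mem_toSubmodule,
      AlgHom.mem_range]
    rfl
  rw [h4] at h3
  exact h3

/-- a stage generated by a root lying in another stage is contained in it -/
theorem range_le_of_root_mem (i j : Idx A (ResidueField S)) (y' : j.L)
    (hy : stageHom A S j y' ∈ (stageHom A S i).range)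
    (hrat : ∀ z : j.L, ∃ u v : A[X], IsUnit (aeval y' v) ∧ z * aeval y' v = aeval y' u) :
    (stageHom A S j).range ≤ (stageHom A S i).range := by
  rintro _ ⟨z, rfl⟩
  obtain ⟨u, v, hv, huv⟩ := hrat z
  obtain ⟨yE, hyE⟩ := hy
  have hyE' : stageHom A S i yE = stageHom A S j y' := hyE
  have h1 : ∀ p : A[X], stageHom A S j (aeval y' p) = stageHom A S i (aeval yE p) := by
    intro p
    rw [← aeval_algHom_apply, ← aeval_algHom_apply, hyE']
  have h2 : IsUnit (aeval yE v) := by
    apply isUnit_of_isUnit_stageHom A S i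
    rw [← h1]
    exact hv.map _
  obtain ⟨w, hw⟩ := h2.exists_right_inv
  refine ⟨aeval yE u * w, ?_⟩
  have h3 := congrArg (stageHom A S j) huv
  rw [map_mul, h1, h1] at h3
  show stageHom A S i (aeval yE u * w) = stageHom A S j z
  rw [map_mul, ← h3, mul_assoc, ← map_mul, hw, map_one, mul_one]

end

section

variable (A S : Type u) [CommRing A] [HenselianLocalRing A] [CommRing S] [IsLocalRing S]
  [Algebra A S] [IsLocalHom (algebraMap A S)] [Hensel.IsStrictHenselization A S]
variable (T : Type u) [CommRing T] [IsDomain T] [Algebra A T] (π : S →ₐ[A] T)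
  (hπ : Function.Surjective π)
variable (K : Type u) [Field K] [Algebra T K] [IsFractionRing T K] (L : Subfield K)
  (hA : ∀ a : A, algebraMap T K (algebraMap A T a) ∈ L)

include hπ in
/-- elements of `L ∩ T` come from the stage -/
theorem exists_stage_elt (i : Idx A (ResidueField S))
    (hQ : RingHom.ker π.toRingHom =
      ((RingHom.ker π.toRingHom).comap (stageHom A S i).toRingHom).map (stageHom A S i).toRingHom)
    (hL : ∀ l ∈ L, ∃ e₁ e₂ : i.L, π (stageHom A S i e₂) ≠ 0 ∧
      l * algebraMap T K (π (stageHom A S i e₂)) = algebraMap T K (π (stageHom A S i e₁)))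
    (z : T) (hz : algebraMap T K z ∈ L) : ∃ e : i.L, π (stageHom A S i e) = z := by
  obtain ⟨e₁, e₂, hne, h⟩ := hL _ hz
  obtain ⟨s, rfl⟩ := hπ z
  rw [← map_mul] at h
  have h1 : π s * π (stageHom A S i e₂) = π (stageHom A S i e₁) :=
    IsFractionRing.injective T K h
  haveI : (RingHom.ker π.toRingHom).IsPrime := RingHom.ker_isPrime _
  obtain ⟨e, he⟩ := exists_sub_mem_of_mul_sub_mem A S i (RingHom.ker π.toRingHom) hQ e₁ e₂
    (fun hmem => hne hmem) s (by
      show π (s * stageHom A S i e₂ - stageHom A S i e₁) = 0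
      rw [map_sub, map_mul, h1, sub_self])
  refine ⟨e, ?_⟩
  have : π (s - stageHom A S i e) = 0 := he
  rw [map_sub, sub_eq_zero] at this
  exact this.symm

include hA in
/-- the image of a stage generated by a root whose image lies in `L ∩ T` lies in `L ∩ T` -/
theorem π_range_le_subD (j : Idx A (ResidueField S)) (y' : j.L)
    (hy : algebraMap T K (π (stageHom A S j y')) ∈ L)
    (hrat : ∀ z : j.L, ∃ u v : A[X], IsUnit (aeval y' v) ∧ z * aeval y' v = aeval y' u)
    (z : j.L) : algebraMap T K (π (stageHom A S j z)) ∈ L := by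
  obtain ⟨u, v, hv, huv⟩ := hrat z
  let φ : j.L →ₐ[A] T := π.comp (stageHom A S j)
  have hφ : ∀ w, φ w = π (stageHom A S j w) := fun w => rfl
  have hmem : ∀ p : A[X], algebraMap T K (φ (aeval y' p)) ∈ L := by
    intro p
    have h1 : φ (aeval y' p) = aeval (φ y') p := (aeval_algHom_apply φ y' p).symm
    rw [h1]
    have h2 : aeval (φ y') p ∈ subD A T K L hA := by
      rw [aeval_eq_sum_range]
      exact Subalgebra.sum_mem _ fun n _ =>
        Subalgebra.smul_mem _ (Subalgebra.pow_mem _ hy n) _
    exact h2
  have h3 := congrArg (fun w => algebraMap T K (φ w)) huv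
  simp only [map_mul] at h3
  have h4 : algebraMap T K (φ (aeval y' v)) ≠ 0 := by
    have : IsUnit (algebraMap T K (φ (aeval y' v))) := (hv.map φ).map _
    exact this.ne_zero
  have h5 : algebraMap T K (φ z) =
      algebraMap T K (φ (aeval y' u)) * (algebraMap T K (φ (aeval y' v)))⁻¹ := by
    rw [← h3, mul_assoc, mul_inv_cancel₀ h4, mul_one]
  rw [← hφ, h5]
  exact L.mul_mem (hmem u) (L.inv_mem (hmem v))

end

end Groth.Agent.Helper2.SubfSt
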