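import Mathlib
import Groth.Prelude
import Groth.Agent.Helper2.SubfSt9
import Groth.Agent.Helper2.SubfSt5

set_option autoImplicit false
set_option linter.style.haveILetI false
set_option linter.unusedSectionVars false

universe u

namespace Groth.Agent.Helper2.SubfSt

open Polynomial IsLocalRing Groth.Agent.Helper1.Hens Groth.Agent.Helper1 Groth.Agent.Helper2.EssEtSub
open scoped IntermediateField

section

variable (A S : Type u) [CommRing A] [HenselianLocalRing A] [CommRing S] [IsLocalRing S]
  [Algebra A S] [IsLocalHom (algebraMap A S)] [Hensel.IsStrictHenselization A S]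

/-- a monic lift of the minimal polynomial of a residue element -/
theorem exists_lift_minpoly (θ₀ : ResidueField S) :
    ∃ f : A[X], f.Monic ∧ f.map (residue A) = minpoly (ResidueField A) θ₀ ∧
      aeval θ₀ f = 0 ∧ aeval θ₀ (derivative f) ≠ 0 := by
  haveI : Algebra.IsSeparable (ResidueField A) (ResidueField S) := IsSepClosure.separable
  have hint : IsIntegral (ResidueField A) θ₀ := Algebra.IsSeparable.isIntegral _ θ₀
  have hsep : (minpoly (ResidueField A) θ₀).Separable := Algebra.IsSeparable.isSeparable _ θ₀
  have hl : minpoly (ResidueField A) θ₀ ∈ lifts (residue A) :=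
    (mem_lifts _).mpr (map_surjective (residue A) residue_surjective _)
  obtain ⟨f, hf1, -, hfm⟩ := lifts_and_natDegree_eq_and_monic hl (minpoly.monic hint)
  have hmap : ∀ p : A[X], aeval θ₀ p = aeval θ₀ (p.map (residue A)) := by
    intro p
    have : p.map (residue A) = p.map (algebraMap A (ResidueField A)) := rfl
    rw [this, aeval_map_algebraMap]
  refine ⟨f, hfm, hf1, ?_, ?_⟩
  · rw [hmap, hf1, minpoly.aeval]
  · rw [hmap, ← derivative_map, hf1]
    exact hsep.aeval_derivative_ne_zero (minpoly.aeval _ _)

/-- a simple residual root in the residue field of a stage lifts to the stage -/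
theorem exists_root_in_stage (i : Idx A (ResidueField S)) (f : A[X]) (hf : f.Monic)
    (θ₀ : ResidueField S) (hθ : θ₀ ∈ resE A S i) (h0 : aeval θ₀ f = 0)
    (h1 : aeval θ₀ (derivative f) ≠ 0) :
    ∃ x' : i.L, aeval x' f = 0 ∧ γLoc i.γ x' = θ₀ := by
  haveI := henselian_stage A S i
  obtain ⟨b₀, hb₀⟩ := (mem_resE A S i θ₀).mp hθ
  have hmap : (f.map (algebraMap A i.L)).map (γLoc i.γ).toRingHom =
      f.map (algebraMap A (ResidueField S)) := by
    rw [map_map]
    congr 1
    ext a
    exact (γLoc i.γ).commutes a
  obtain ⟨b, hb, hbb⟩ := hensel_root (γLoc i.γ).toRingHom (fun b => γLoc_eq_zero_iff i.γ b)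
    (f.map (algebraMap A i.L)) (hf.map _) b₀
    (by
      rw [hmap]
      show eval (γLoc i.γ b₀) _ = 0
      rw [hb₀, eval_map_algebraMap]; exact h0)
    (by
      rw [hmap, derivative_map]
      show eval (γLoc i.γ b₀) _ ≠ 0
      rw [hb₀, eval_map_algebraMap]; exact h1)
  refine ⟨b, ?_, ?_⟩
  · rw [← eval_map_algebraMap]; exact hb
  · have : γLoc i.γ b = γLoc i.γ b₀ := hbb
    rw [this, hb₀]

/-- roots in `S` of a polynomial over `A` with the same simple residue coincide -/
theorem root_unique_S (f : A[X]) (a b : S) (ha : aeval a f = 0) (hb : aeval b f = 0)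
    (hab : rho A S a = rho A S b) (hu : aeval (rho A S a) (derivative f) ≠ 0) : a = b := by
  apply root_unique (f.map (algebraMap A S)) a b
  · rw [eval_map_algebraMap]; exact ha
  · rw [eval_map_algebraMap]; exact hb
  · rw [← rho_eq_zero_iff A S, map_sub, hab, sub_self]
  · rw [derivative_map, eval_map_algebraMap, isUnit_iff_rho_ne_zero A S, ← aeval_algHom_apply]
    exact hu

end

end Groth.Agent.Helper2.SubfSt
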