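import Mathlib
import Groth.Prelude
import Groth.Agent.Helper2.NoeI3
import Groth.Agent.Helper2.NoeI4
import Groth.Agent.Helper2.SubfSt10

set_option autoImplicit false
set_option linter.style.haveILetI false
set_option linter.unusedSectionVars false
set_option linter.unusedVariables false

universe u

/-!
# S16435, part 5: residues of fractions of `D` on a component are bounded
-/

namespace Groth.Agent.Helper2.NoeI

open Polynomial IsLocalRing Groth.Agent.Helper1.Hens Groth.Agent.Helper1
  Groth.Agent.Helper2.SubfSt Groth.Agent.Helper2.HExt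

section claim1

variable (A S : Type u) [CommRing A] [HenselianLocalRing A] [IsNoetherianRing A] [IsReduced A]
  [CommRing S] [IsLocalRing S] [Algebra A S] [IsLocalHom (algebraMap A S)]
  [Hensel.IsStrictHenselization A S] (D : Subalgebra A S)

/-- units of `S` in `D` are units of `D` -/
theorem inv_mem_sub : ∀ b ∈ D, IsUnit b → ∃ b' ∈ D, b * b' = 1 := by
  haveI := isIntegral_of_henselian A S
  haveI : IsLocalRing D := isLocalRing_sub D
  haveI : IsLocalHom (algebraMap D S) := isLocalHom_sub D
  intro b hb hu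
  have h1 : IsUnit (⟨b, hb⟩ : D) := isUnit_of_map_unit (algebraMap D S) _ hu
  obtain ⟨c, hc⟩ := h1.exists_right_inv
  exact ⟨c, c.2, congrArg Subtype.val hc⟩

/-- the residue field of `D` inside the residue field of `S` -/
noncomputable def k0 : IntermediateField (ResidueField A) (ResidueField S) :=
  resF A S D (inv_mem_sub A S D)

theorem mk_mem_maximalIdeal_iff (Q : Ideal S) [Q.IsPrime] [IsLocalRing (S ⧸ Q)] (s : S) :
    Ideal.Quotient.mk Q s ∈ maximalIdeal (S ⧸ Q) ↔ s ∈ maximalIdeal S := by
  have hQle : Q ≤ maximalIdeal S :=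
    IsLocalRing.le_maximalIdeal (Ideal.IsPrime.ne_top inferInstance)
  rw [mem_maximalIdeal, mem_maximalIdeal, mem_nonunits_iff, mem_nonunits_iff, not_iff_not]
  constructor
  · intro hu
    obtain ⟨t, ht⟩ := hu.exists_right_inv
    obtain ⟨t', rfl⟩ := Ideal.Quotient.mk_surjective t
    rw [← map_mul, ← map_one (Ideal.Quotient.mk Q), ← sub_eq_zero, ← map_sub,
      Ideal.Quotient.eq_zero_iff_mem] at ht
    have h1 : s * t' - 1 ∈ maximalIdeal S := hQle ht
    have h2 : IsUnit (s * t') := by
      by_contra hnu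
      have h3 : s * t' ∈ maximalIdeal S := hnu
      have h4 : (1 : S) ∈ maximalIdeal S := by
        have := (maximalIdeal S).sub_mem h3 h1
        rwa [sub_sub_cancel] at this
      exact (Ideal.ne_top_iff_one _).mp (Ideal.IsPrime.ne_top inferInstance) h4
    exact isUnit_of_mul_isUnit_left h2
  · exact fun hu => hu.map _

/-- a field receiving the normalization of `D` and `S/Q` compatibly -/
theorem exists_field_maps (Q : Ideal S) [Q.IsPrime] (hQ : Q ∈ minimalPrimes S) :
    ∃ (Ω : Type u) (_ : Field Ω) (φ : integralClosure D (FractionRing D) →+* Ω)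
      (χ : S ⧸ Q →+* Ω),
      (∀ s : S, χ (Ideal.Quotient.mk Q s) = 0 ↔ s ∈ maximalIdeal S) ∧
      (∀ (x : integralClosure D (FractionRing D)) (s : S),
        rhoQ A S D Q hQ x.1 =
          algebraMap (S ⧸ Q) (FractionRing (S ⧸ Q)) (Ideal.Quotient.mk Q s) →
            φ x = χ (Ideal.Quotient.mk Q s)) := by
  haveI : IsLocalRing (S ⧸ Q) :=
    IsLocalRing.of_surjective' (Ideal.Quotient.mk Q) Ideal.Quotient.mk_surjective
  have hint : ∀ x : integralClosure D (FractionRing D),
      IsIntegral (S ⧸ Q) (rhoQ A S D Q hQ x.1) := by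
    intro x
    exact IsIntegral.map_of_comp_eq ((Ideal.Quotient.mk Q).comp (algebraMap D S))
      (rhoQ A S D Q hQ) (by ext d; exact (rhoQ_algebraMap A S D Q hQ d).symm) x.2
  let ρ' : integralClosure D (FractionRing D) →+*
      integralClosure (S ⧸ Q) (FractionRing (S ⧸ Q)) :=
    ((rhoQ A S D Q hQ).comp
      (algebraMap (integralClosure D (FractionRing D)) (FractionRing D))).codRestrict
        (integralClosure (S ⧸ Q) (FractionRing (S ⧸ Q))) (fun x => hint x)
  have hρ' : ∀ x, ((ρ' x : integralClosure (S ⧸ Q) (FractionRing (S ⧸ Q))) :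
      FractionRing (S ⧸ Q)) = rhoQ A S D Q hQ x.1 := fun x => rfl
  obtain ⟨𝔫, h𝔫⟩ := Ideal.exists_maximal (integralClosure (S ⧸ Q) (FractionRing (S ⧸ Q)))
  haveI := h𝔫
  refine ⟨integralClosure (S ⧸ Q) (FractionRing (S ⧸ Q)) ⧸ 𝔫, Ideal.Quotient.field 𝔫,
    (Ideal.Quotient.mk 𝔫).comp ρ',
    (Ideal.Quotient.mk 𝔫).comp
      (algebraMap (S ⧸ Q) (integralClosure (S ⧸ Q) (FractionRing (S ⧸ Q)))), ?_, ?_⟩
  · intro s
    rw [← mk_mem_maximalIdeal_iff S Q s]
    have h1 : (𝔫.comap (algebraMap (S ⧸ Q)
        (integralClosure (S ⧸ Q) (FractionRing (S ⧸ Q))))).IsMaximal :=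
      Ideal.isMaximal_comap_of_isIntegral_of_isMaximal 𝔫
    have h2 := IsLocalRing.eq_maximalIdeal h1
    rw [← h2, Ideal.mem_comap]
    exact Ideal.Quotient.eq_zero_iff_mem
  · intro x s hxs
    show Ideal.Quotient.mk 𝔫 (ρ' x) = Ideal.Quotient.mk 𝔫 _
    congr 1
    apply Subtype.ext
    rw [hρ', hxs]
    rfl

theorem claim1
    (hF : ∀ (M : Ideal (integralClosure D (FractionRing D))) [M.IsMaximal],
      FiniteDimensional
        (Subfield.closure (Set.range
          ((algebraMap (integralClosure D (FractionRing D)) M.ResidueField).comp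
            (algebraMap D (integralClosure D (FractionRing D))))))
        (separableClosure (Subfield.closure (Set.range
          ((algebraMap (integralClosure D (FractionRing D)) M.ResidueField).comp
            (algebraMap D (integralClosure D (FractionRing D)))))) M.ResidueField))
    (Q : Ideal S) [Q.IsPrime] (hQ : Q ∈ minimalPrimes S) :
    ∃ Θ : Finset (ResidueField S), ∀ s : S, (∃ a b : D, (b : S) ∉ Q ∧ s * b - a ∈ Q) →
      rho A S s ∈ k0 A S D ⊔
        IntermediateField.adjoin (ResidueField A) (Θ : Set (ResidueField S)) := by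
  classical
  haveI := isIntegral_of_henselian A S
  haveI hsepΩ : Algebra.IsSeparable (ResidueField A) (ResidueField S) := IsSepClosure.separable
  obtain ⟨Ω, _, φ, χ, hχ, hφχ⟩ := exists_field_maps A S D Q hQ
  have hφD : ∀ d : D, φ (algebraMap D (integralClosure D (FractionRing D)) d) =
      χ (Ideal.Quotient.mk Q (d : S)) :=
    fun d => hφχ _ _ (rhoQ_algebraMap A S D Q hQ d)
  have hker : RingHom.ker (rho A S).toRingHom ≤
      RingHom.ker (χ.comp (Ideal.Quotient.mk Q)) := by
    intro s hs
    rw [RingHom.mem_ker] at hs ⊢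
    have h1 : s ∈ maximalIdeal S := (rho_eq_zero_iff A S s).mp hs
    show χ (Ideal.Quotient.mk Q s) = 0
    rw [hχ]
    exact h1
  let j : ResidueField S →+* Ω :=
    RingHom.liftOfSurjective (rho A S).toRingHom (rho_surjective A S)
      ⟨χ.comp (Ideal.Quotient.mk Q), hker⟩
  have hj : ∀ s : S, j (rho A S s) = χ (Ideal.Quotient.mk Q s) := fun s =>
    RingHom.liftOfRightInverse_comp_apply _ _ _ _ s
  set M : Ideal (integralClosure D (FractionRing D)) := RingHom.ker φ with hM
  haveI hMprime : M.IsPrime := RingHom.ker_isPrime φ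
  haveI hMmax : M.IsMaximal := by
    apply Ideal.isMaximal_of_isIntegral_of_isMaximal_comap (R := D) M
    have h1 : M.comap (algebraMap D (integralClosure D (FractionRing D))) =
        (maximalIdeal S).comap (algebraMap D S) := by
      ext d
      rw [Ideal.mem_comap, hM, RingHom.mem_ker, hφD, hχ, Ideal.mem_comap]
      rfl
    rw [h1]
    haveI : Algebra.IsIntegral D S := Algebra.IsIntegral.tower_top (R := A)
    exact Ideal.isMaximal_comap_of_isIntegral_of_isMaximal _
  set X : Set (integralClosure D (FractionRing D)) :=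
    {x | ∃ s : S, (∃ a b : D, (b : S) ∉ Q ∧ s * b - a ∈ Q) ∧
      rhoQ A S D Q hQ x.1 = algebraMap (S ⧸ Q) (FractionRing (S ⧸ Q)) (Ideal.Quotient.mk Q s)}
    with hXdef
  let σ : integralClosure D (FractionRing D) → S := fun x =>
    if h : x ∈ X then Classical.choose h else 0
  have hσspec : ∀ x (h : x ∈ X), rhoQ A S D Q hQ x.1 =
      algebraMap (S ⧸ Q) (FractionRing (S ⧸ Q)) (Ideal.Quotient.mk Q (σ x)) := by
    intro x h
    show _ = algebraMap (S ⧸ Q) (FractionRing (S ⧸ Q))
      (Ideal.Quotient.mk Q (if h : x ∈ X then Classical.choose h else 0))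
    rw [dif_pos h]
    exact (Classical.choose_spec h).2
  have hσ : ∀ x ∈ X, φ x = j (rho A S (σ x)) := by
    intro x hx
    rw [hj]
    exact hφχ x _ (hσspec x hx)
  have hcomp : (rho A S).toRingHom.comp ((algebraMap D S).comp (algebraMap A D)) =
      (algebraMap (ResidueField A) (ResidueField S)).comp (residue A) := by
    ext a
    exact (algebraMap_residue_eq_rho A S a).symm
  have hφj : φ.comp (algebraMap D (integralClosure D (FractionRing D))) =
      j.comp ((rho A S).toRingHom.comp (algebraMap D S)) := by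
    ext d
    show φ (algebraMap D _ d) = j (rho A S (d : S))
    rw [hφD, hj]
  have hk0 : ∀ d : D, (rho A S).toRingHom (algebraMap D S d) ∈ k0 A S D := fun d =>
    (mem_resF A S D _ _).mpr ⟨d, d.2, rfl⟩
  obtain ⟨Θ, hΘ⟩ := descend_span (algebraMap A D)
    (algebraMap D (integralClosure D (FractionRing D))) (algebraMap D S) (residue A)
    residue_surjective (rho A S).toRingHom hcomp φ j hφj M rfl (hF M) (k0 A S D) hk0 X σ hσ
  refine ⟨Θ, ?_⟩
  rintro s ⟨a, b, hb, hab⟩
  obtain ⟨x, hxint, hxs⟩ := exists_lift_frac A S D Q hQ s a b hb hab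
  have hxX : (⟨x, hxint⟩ : integralClosure D (FractionRing D)) ∈ X := ⟨s, ⟨a, b, hb, hab⟩, hxs⟩
  have h1 := hΘ _ hxX
  have h2 := hσspec _ hxX
  have h3 : Ideal.Quotient.mk Q s = Ideal.Quotient.mk Q (σ ⟨x, hxint⟩) := by
    apply IsFractionRing.injective (S ⧸ Q) (FractionRing (S ⧸ Q))
    rw [← hxs]
    exact h2
  have h4 : s - σ ⟨x, hxint⟩ ∈ Q := by
    rw [← Ideal.Quotient.eq_zero_iff_mem, map_sub, h3, sub_self]
  have hQle : Q ≤ maximalIdeal S :=
    IsLocalRing.le_maximalIdeal (Ideal.IsPrime.ne_top inferInstance)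
  have h5 : rho A S s = rho A S (σ ⟨x, hxint⟩) := by
    rw [← sub_eq_zero, ← map_sub, rho_eq_zero_iff]
    exact hQle h4
  rw [h5]
  exact h1

end claim1

end Groth.Agent.Helper2.NoeI
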