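import Mathlib

set_option autoImplicit false
set_option linter.style.haveILetI false
set_option linter.unusedSectionVars false

universe u

namespace Groth.Agent.Helper2.SubfSt

open Polynomial IsLocalRing

theorem mem_lifts_subfield {K : Type*} [Field K] (L : Subfield K) (p : K[X])
    (h : ∀ n, p.coeff n ∈ L) : p ∈ lifts (algebraMap L K) := by
  rw [lifts_iff_coeff_lifts]
  intro n
  exact ⟨⟨p.coeff n, h n⟩, rfl⟩

/-- degree bound: reduction of the minimal polynomial -/
theorem natDegree_minpoly_le {K T Ω F : Type*} [Field K] [CommRing T] [IsDomain T] [Field Ω]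
    [Field F] [Algebra F Ω]
    (ι : T →+* K) (hι : Function.Injective ι) (ρ : T →+* Ω) (L : Subfield K)
    (hLF : ∀ z : T, ι z ∈ L → ρ z ∈ (algebraMap F Ω).range)
    (f : T[X]) (m : Multiset T) (hf : f = (m.map (fun r => X - C r)).prod)
    (hfL : ∀ n, ι (f.coeff n) ∈ L) (x : T) (hx : f.eval x = 0) :
    (minpoly F (ρ x)).natDegree ≤ (minpoly L (ι x)).natDegree := by
  classical
  have hfm : f.Monic := by
    rw [hf]
    apply monic_multiset_prod_of_monic
    intro r _
    exact monic_X_sub_C r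
  set fK := f.map ι with hfK
  have hfKm : fK.Monic := hfm.map ι
  have h2 : fK ∈ lifts (algebraMap L K) := by
    apply mem_lifts_subfield
    intro n
    rw [hfK, coeff_map]
    exact hfL n
  obtain ⟨fL, hfL1, -, hfLm⟩ := lifts_and_natDegree_eq_and_monic h2 hfKm
  have hevalK : ∀ (p : T[X]) (y : T), (p.map ι).eval (ι y) = ι (p.eval y) := by
    intro p y
    rw [eval_map, eval₂_at_apply]
  have h4 : aeval (ι x) fL = 0 := by
    rw [aeval_def, eval₂_eq_eval_map, hfL1, hfK, hevalK, hx, map_zero]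
  have hint : IsIntegral L (ι x) := ⟨fL, hfLm, h4⟩
  have hdvd : minpoly L (ι x) ∣ fL := minpoly.dvd L _ h4
  set hK := (minpoly L (ι x)).map (algebraMap L K) with hhK
  have hdvdK : hK ∣ fK := by
    rw [← hfL1]
    exact Polynomial.map_dvd _ hdvd
  have hfKprod : fK = (m.map (fun r => X - C (ι r))).prod := by
    rw [hfK, hf, Polynomial.map_multiset_prod, Multiset.map_map]
    congr 1
    apply Multiset.map_congr rfl
    intro r _
    simp
  have hfKs : Splits fK := by
    rw [hfKprod]
    apply Splits.multisetProd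
    intro g hg
    obtain ⟨r, -, rfl⟩ := Multiset.mem_map.mp hg
    exact Splits.X_sub_C _
  have hKs : Splits hK := hfKs.of_dvd hfKm.ne_zero hdvdK
  have hKm : hK.Monic := (minpoly.monic hint).map _
  have hroots : ∀ a ∈ hK.roots, a ∈ ι.range := by
    intro a ha
    have h1 : hK.eval a = 0 := (mem_roots hKm.ne_zero).mp ha
    have h2 : fK.eval a = 0 := by
      obtain ⟨g, hg⟩ := hdvdK
      rw [hg, eval_mul, h1, zero_mul]
    rw [hfKprod, eval_multiset_prod, Multiset.map_map, Multiset.prod_eq_zero_iff] at h2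
    obtain ⟨r, -, hr⟩ := Multiset.mem_map.mp h2
    simp only [Function.comp_apply, eval_sub, eval_X, eval_C] at hr
    exact ⟨r, (sub_eq_zero.mp hr).symm⟩
  have hlift : hK ∈ lifts ι := hKs.mem_lift_of_roots_mem_range hKm ι hroots
  obtain ⟨hT, hT1, hT2, hTm⟩ := lifts_and_natDegree_eq_and_monic hlift hKm
  have hTcoeff : ∀ n, ρ (hT.coeff n) ∈ (algebraMap F Ω).range := by
    intro n
    apply hLF
    have : ι (hT.coeff n) = hK.coeff n := by rw [← hT1, coeff_map]
    rw [this, hhK, coeff_map]
    exact Subtype.coe_prop _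
  have hTx : hT.eval x = 0 := by
    apply hι
    rw [← hevalK, hT1, map_zero, hhK, ← eval₂_eq_eval_map, ← aeval_def, minpoly.aeval]
  set hΩ := hT.map ρ with hhΩ
  have hΩm : hΩ.Monic := hTm.map ρ
  have hΩdeg : hΩ.natDegree = hT.natDegree := hTm.natDegree_map ρ
  have hΩx : hΩ.eval (ρ x) = 0 := by
    rw [hhΩ, eval_map, eval₂_at_apply, hTx, map_zero]
  have hΩl : hΩ ∈ lifts (algebraMap F Ω) := by
    rw [lifts_iff_coeff_lifts]
    intro n
    rw [hhΩ, coeff_map]
    exact hTcoeff n
  obtain ⟨hF, hF1, hF2, hFm⟩ := lifts_and_natDegree_eq_and_monic hΩl hΩm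
  have hFx : aeval (ρ x) hF = 0 := by
    rw [aeval_def, eval₂_eq_eval_map, hF1, hΩx]
  have h5 : (minpoly F (ρ x)).natDegree ≤ hF.natDegree :=
    natDegree_le_natDegree (minpoly.min F _ hFm hFx)
  calc (minpoly F (ρ x)).natDegree ≤ hF.natDegree := h5
    _ = hΩ.natDegree := hF2
    _ = hT.natDegree := hΩdeg
    _ = hK.natDegree := hT2
    _ = (minpoly L (ι x)).natDegree := natDegree_map _

end Groth.Agent.Helper2.SubfSt
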