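import Mathlib
import Groth.Prelude
import Groth.Agent.Helper2.SubfSt10
import Groth.Agent.Helper2.SubfSt2

set_option autoImplicit false
set_option linter.style.haveILetI false
set_option linter.unusedSectionVars false

universe u

namespace Groth.Agent.Helper2.SubfSt

open Polynomial IsLocalRing Groth.Agent.Helper1.Hens Groth.Agent.Helper1 Groth.Agent.Helper2.EssEtSub
open scoped IntermediateField

section

variable (A S : Type u) [CommRing A] [HenselianLocalRing A] [CommRing S] [IsLocalRing S]
  [Algebra A S] [IsLocalHom (algebraMap A S)] [Hensel.IsStrictHenselization A S]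
variable (T : Type u) [CommRing T] [IsDomain T] [Algebra A T] (π : S →ₐ[A] T)
  (hπ : Function.Surjective π)
variable (K : Type u) [Field K] [Algebra T K] [IsFractionRing T K] (L : Subfield K)
  (hA : ∀ a : A, algebraMap T K (algebraMap A T a) ∈ L)

include hπ hA in
/-- Main theorem: the intersection of a subfield `L` (contained in the fraction field of the image
of a stage `E`, with `ker π` generated by its contraction to `E`) with `T = S / ker π` is the image
of a stage, which generates `ker π` and has fraction field `L`. -/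
theorem main (i : Idx A (ResidueField S))
    (hQ : RingHom.ker π.toRingHom =
      ((RingHom.ker π.toRingHom).comap (stageHom A S i).toRingHom).map (stageHom A S i).toRingHom)
    (hL : ∀ l ∈ L, ∃ e₁ e₂ : i.L, π (stageHom A S i e₂) ≠ 0 ∧
      l * algebraMap T K (π (stageHom A S i e₂)) = algebraMap T K (π (stageHom A S i e₁))) :
    ∃ j : Idx A (ResidueField S),
      RingHom.ker π.toRingHom =
        ((RingHom.ker π.toRingHom).comap (stageHom A S j).toRingHom).map
          (stageHom A S j).toRingHom ∧
      (∀ z : T, algebraMap T K z ∈ L ↔ ∃ c : j.L, π (stageHom A S j c) = z) ∧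
      (∀ l ∈ L, ∃ c₁ c₂ : j.L, π (stageHom A S j c₂) ≠ 0 ∧
        l * algebraMap T K (π (stageHom A S j c₂)) = algebraMap T K (π (stageHom A S j c₁))) := by
  classical
  haveI hsepΩ : Algebra.IsSeparable (ResidueField A) (ResidueField S) := IsSepClosure.separable
  haveI hscΩ : IsSepClosed (ResidueField S) :=
    (IsSepClosure.sep_closed (k := ResidueField A) (K := ResidueField S))
  haveI hTloc : IsLocalRing T := IsLocalRing.of_surjective' π.toRingHom hπ
  have hι : Function.Injective (algebraMap T K) := IsFractionRing.injective T K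
  have hρTmax : ∀ z : T, z ∈ maximalIdeal T ↔ rhoT A S T π hπ z = 0 := by
    intro z
    rw [mem_maximalIdeal, mem_nonunits_iff, isUnit_iff_rhoT_ne_zero A S T π hπ, not_not]
  have hρTalg : (rhoT A S T π hπ).comp (algebraMap A T) = algebraMap A (ResidueField S) := by
    ext a
    show rhoT A S T π hπ (algebraMap A T a) = _
    rw [rhoT_algebraMap]
    exact (IsScalarTower.algebraMap_apply A (ResidueField A) (ResidueField S) a).symm
  -- elements of `L ∩ T` come from the stage `i`
  have hM1 := exists_stage_elt A S T π hπ K L i hQ hL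
  -- the subalgebra `D = L ∩ T`
  haveI := finite_stage A S i
  haveI hDint : Algebra.IsIntegral A (subD A T K L hA) := ⟨fun z => by
    obtain ⟨e, he⟩ := hM1 z.1 z.2
    have h1 : IsIntegral A (π (stageHom A S i e)) :=
      ((Algebra.IsIntegral.isIntegral (R := A) e).map (stageHom A S i)).map π
    rw [he] at h1
    exact (isIntegral_algHom_iff (subD A T K L hA).val Subtype.val_injective).mp h1⟩
  haveI hDloc : IsLocalRing (subD A T K L hA) :=
    Groth.Agent.Helper2.Unibr1.isLocalRing_of_isIntegral_of_isDomain A _
  haveI hDhens : HenselianLocalRing (subD A T K L hA) :=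
    Groth.Agent.Helper2.HensInt.henselianLocalRing_of_isIntegral A _
  let ρD : subD A T K L hA →+* ResidueField S :=
    (rhoT A S T π hπ).comp (subD A T K L hA).val.toRingHom
  have hρD : ∀ b : subD A T K L hA, ρD b = 0 ↔ b ∈ maximalIdeal (subD A T K L hA) := by
    intro b
    show rhoT A S T π hπ (b : T) = 0 ↔ _
    rw [mem_maximalIdeal, mem_nonunits_iff, ← not_iff_not, not_not, ← ne_eq,
      ← isUnit_iff_rhoT_ne_zero A S T π hπ]
    constructor
    · intro hu
      obtain ⟨w, hw, hbw⟩ := subD_inv A T K L hA b.1 b.2 hu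
      exact IsUnit.of_mul_eq_one ⟨w, hw⟩ (Subtype.ext hbw)
    · intro hu
      exact hu.map (subD A T K L hA).val
  -- the residue field `F''` of `D`
  set F'' : IntermediateField (ResidueField A) (ResidueField S) :=
    resF A S (subDS A S T π K L hA) (subDS_inv A S T π hπ K L hA) with hF''
  have hF''le : F'' ≤ resE A S i := by
    intro ω hω
    obtain ⟨s, hs, rfl⟩ := (mem_resF A S _ _ ω).mp hω
    obtain ⟨e, he⟩ := hM1 (π s) hs
    rw [mem_resE]
    refine ⟨e, ?_⟩
    rw [← rho_stageHom A S i e, ← rhoT_π A S T π hπ, he, rhoT_π]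
  haveI := finite_resE A S i
  haveI hF''fin : FiniteDimensional (ResidueField A) F'' :=
    FiniteDimensional.of_injective (IntermediateField.inclusion hF''le).toLinearMap
      (IntermediateField.inclusion_injective hF''le)
  have hLF : ∀ z : T, algebraMap T K z ∈ L → rhoT A S T π hπ z ∈ F'' := by
    intro z hz
    obtain ⟨s, rfl⟩ := hπ z
    rw [rhoT_π]
    exact (mem_resF A S _ _ _).mpr ⟨s, hz, rfl⟩
  -- primitive elements
  obtain ⟨θ'', hθ''mem, hθ''gen⟩ := exists_primitive A S F''
  obtain ⟨θ, hθmem, hθgen⟩ := exists_primitive A S (resE A S i)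
  obtain ⟨f'', hf''m, hf''map, hf''0, hf''1⟩ := exists_lift_minpoly A S θ''
  obtain ⟨f, hfm, hfmap, hf0, hf1⟩ := exists_lift_minpoly A S θ
  -- the root `y` in `D`
  obtain ⟨s₀, hs₀, hs₀θ⟩ := (mem_resF A S _ _ θ'').mp hθ''mem
  let d₀ : subD A T K L hA := ⟨π s₀, hs₀⟩
  have hd₀ : ρD d₀ = θ'' := by
    show rhoT A S T π hπ (π s₀) = θ''
    rw [rhoT_π, hs₀θ]
  have hmapD : (f''.map (algebraMap A (subD A T K L hA))).map ρD =
      f''.map (algebraMap A (ResidueField S)) := by
    rw [map_map]
    have : ρD.comp (algebraMap A (subD A T K L hA)) = algebraMap A (ResidueField S) := by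
      ext a
      exact RingHom.congr_fun hρTalg a
    rw [this]
  obtain ⟨yD, hyD0, hyDθ⟩ := hensel_root ρD hρD (f''.map (algebraMap A (subD A T K L hA)))
    (hf''m.map _) d₀
    (by rw [hmapD, hd₀, eval_map_algebraMap]; exact hf''0)
    (by rw [hmapD, derivative_map, hd₀, eval_map_algebraMap]; exact hf''1)
  rw [hd₀] at hyDθ
  have hyT0 : aeval (yD : T) f'' = 0 := by
    have h1 : aeval ((subD A T K L hA).val yD) f'' = (subD A T K L hA).val (aeval yD f'') :=
      aeval_algHom_apply _ _ _
    have h2 : aeval yD f'' = 0 := by rw [← eval_map_algebraMap]; exact hyD0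
    rw [h2, map_zero] at h1
    exact h1
  have hyTθ : rhoT A S T π hπ (yD : T) = θ'' := hyDθ
  -- the stage `j`
  obtain ⟨j, y', hy'0, hy'θ, hrat⟩ := exists_stage_of_root A S f'' hf''m θ'' hf''0 hf''1
  have hyt0 : aeval (stageHom A S j y') f'' = 0 := by
    rw [aeval_algHom_apply, hy'0, map_zero]
  have hytθ : rho A S (stageHom A S j y') = θ'' := by rw [rho_stageHom, hy'θ]
  -- `π ỹ = y`
  have hπyt : π (stageHom A S j y') = (yD : T) := by
    symm
    apply root_unique (f''.map (algebraMap A T)) (yD : T) (π (stageHom A S j y'))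
    · rw [eval_map_algebraMap]; exact hyT0
    · rw [eval_map_algebraMap, aeval_algHom_apply, hyt0, map_zero]
    · rw [hρTmax, map_sub, rhoT_π, hytθ, hyTθ, sub_self]
    · rw [isUnit_iff_rhoT_ne_zero A S T π hπ, derivative_map, eval_map_algebraMap]
      have h1 : rhoT A S T π hπ (aeval (yD : T) (derivative f'')) =
          aeval (rhoT A S T π hπ (yD : T)) (derivative f'') := by
        rw [aeval_def, aeval_def, hom_eval₂, hρTalg]
      rw [h1, hyTθ]
      exact hf''1
  have hL3 : ∀ z : j.L, algebraMap T K (π (stageHom A S j z)) ∈ L :=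
    π_range_le_subD A S T π K L hA j y' (by rw [hπyt]; exact yD.2) hrat
  -- `E'' ≤ E`
  have hE''E : (stageHom A S j).range ≤ (stageHom A S i).range := by
    obtain ⟨yE, hyE0, hyEθ⟩ := exists_root_in_stage A S i f'' hf''m θ'' (hF''le hθ''mem) hf''0 hf''1
    apply range_le_of_root_mem A S i j y' _ hrat
    refine ⟨yE, ?_⟩
    show stageHom A S i yE = stageHom A S j y'
    apply root_unique_S A S f''
    · rw [aeval_algHom_apply, hyE0, map_zero]
    · exact hyt0
    · rw [rho_stageHom, hyEθ, hytθ]
    · rw [rho_stageHom, hyEθ]; exact hf''1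
  -- the element `x`
  obtain ⟨x', hx'0, hx'θ⟩ := exists_root_in_stage A S i f hfm θ hθmem hf0 hf1
  set x : S := stageHom A S i x' with hx
  have hx0 : aeval x f = 0 := by rw [hx, aeval_algHom_apply, hx'0, map_zero]
  have hxθ : rho A S x = θ := by rw [hx, rho_stageHom, hx'θ]
  have hxT0 : (f.map (algebraMap A T)).eval (π x) = 0 := by
    rw [eval_map_algebraMap, aeval_algHom_apply, hx0, map_zero]
  have hxTθ : rhoT A S T π hπ (π x) = θ := by rw [rhoT_π, hxθ]
  -- `f` splits over `T`
  have hfTmap : (f.map (algebraMap A T)).map (rhoT A S T π hπ) =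
      (minpoly (ResidueField A) θ).map (algebraMap (ResidueField A) (ResidueField S)) := by
    rw [map_map, hρTalg, ← hfmap, map_map]
    congr 1
  have hintθ : IsIntegral (ResidueField A) θ := Algebra.IsSeparable.isIntegral _ θ
  have hsepθ : (minpoly (ResidueField A) θ).Separable := Algebra.IsSeparable.isSeparable _ θ
  haveI hShens : HenselianLocalRing S := Hensel.IsStrictHenselization.henselian (R := A)
  have hprod : f.map (algebraMap A T) =
      ((f.map (algebraMap A T)).roots.map (fun r => X - C r)).prod := by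
    apply eq_prod_roots_of_lifts (rhoT A S T π hπ) _ (hfm.map _)
    · rw [hfTmap]; exact IsSepClosed.splits_codomain _ hsepθ
    · rw [hfTmap]; exact hsepθ.map
    · intro θ' hθ'
      rw [hfTmap] at hθ'
      have hθ'0 : aeval θ' (minpoly (ResidueField A) θ) = 0 := by
        have := (mem_roots (hsepθ.map (f := algebraMap (ResidueField A) (ResidueField S))).ne_zero).mp hθ'
        rw [IsRoot.def, eval_map_algebraMap] at this
        exact this
      have hθ'1 : aeval θ' (derivative (minpoly (ResidueField A) θ)) ≠ 0 :=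
        hsepθ.aeval_derivative_ne_zero hθ'0
      obtain ⟨b₀, hb₀⟩ := rho_surjective A S θ'
      have hmapS : (f.map (algebraMap A S)).map (rho A S).toRingHom =
          (minpoly (ResidueField A) θ).map (algebraMap (ResidueField A) (ResidueField S)) := by
        rw [map_map, ← hfmap, map_map]
        congr 1
        ext a
        show rho A S (algebraMap A S a) = _
        rw [← algebraMap_residue_eq_rho]
        rfl
      obtain ⟨b, hb0, hbθ⟩ := hensel_root (rho A S).toRingHom (fun b => rho_eq_zero_iff A S b)
        (f.map (algebraMap A S)) (hfm.map _) b₀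
        (by
          rw [hmapS]
          show eval (rho A S b₀) _ = 0
          rw [hb₀, eval_map_algebraMap]; exact hθ'0)
        (by
          rw [hmapS, derivative_map]
          show eval (rho A S b₀) _ ≠ 0
          rw [hb₀, eval_map_algebraMap]; exact hθ'1)
      refine ⟨π b, ?_, ?_⟩
      · rw [eval_map_algebraMap]
        rw [eval_map_algebraMap] at hb0
        rw [aeval_algHom_apply, hb0, map_zero]
      · rw [rhoT_π]
        have : rho A S b = rho A S b₀ := hbθ
        rw [this, hb₀]
  -- the degree `d`
  have hintθ'' : IsIntegral F'' θ := hintθ.tower_top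
  set d := (minpoly F'' θ).natDegree with hd
  have hdpos : 0 < d := minpoly.natDegree_pos hintθ''
  have hdeg : d ≤ (minpoly L (algebraMap T K (π x))).natDegree := by
    have := natDegree_minpoly_le (F := F'') (algebraMap T K) hι (rhoT A S T π hπ) L
      (fun z hz => ⟨⟨rhoT A S T π hπ z, hLF z hz⟩, rfl⟩) (f.map (algebraMap A T)) _ hprod
      (fun n => by rw [coeff_map]; exact hA _) (π x) hxT0
    rw [hxTθ] at this
    exact this
  have hind : LinearIndependent L (fun n : Fin d => (algebraMap T K (π x)) ^ (n : ℕ)) := by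
    have h1 := linearIndependent_pow (K := L) (algebraMap T K (π x))
    exact h1.comp (Fin.castLE hdeg) (Fin.castLE_injective hdeg)
  -- `F'' ⊆ ρ(E'')`
  have hL1c : ∀ φ ∈ F'', ∃ c ∈ (stageHom A S j).range, rho A S c = φ := by
    intro φ hφ
    obtain ⟨gφ, rfl⟩ := hθ''gen φ hφ
    obtain ⟨gt, rfl⟩ := map_surjective (residue A) residue_surjective gφ
    refine ⟨stageHom A S j (aeval y' gt), ⟨_, rfl⟩, ?_⟩
    rw [← aeval_algHom_apply, rho_aeval, hytθ]
  -- spanning
  haveI := finite_range A S i
  have hxE : x ∈ (stageHom A S i).range := ⟨x', rfl⟩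
  have hspan := span_pow_of_residue (stageHom A S j).range (stageHom A S i).range x d (by
    intro e he
    have heF : rho A S e ∈ resE A S i := (mem_resF A S _ _ _).mpr ⟨e, he, rfl⟩
    obtain ⟨g, hg⟩ := hθgen _ heF
    set gF := g.map (algebraMap (ResidueField A) F'') with hgF
    set r := gF %ₘ (minpoly F'' θ) with hr
    have hμm : (minpoly F'' θ).Monic := minpoly.monic hintθ''
    have hrdeg : r.natDegree < d := natDegree_modByMonic_lt gF hμm (minpoly.ne_one F'' θ)
    have hr1 : aeval θ r = aeval θ g := by
      have h1 := modByMonic_add_div gF (minpoly F'' θ)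
      have h2 := congrArg (aeval θ) h1
      rw [map_add, map_mul, minpoly.aeval, zero_mul, add_zero] at h2
      rw [← hr] at h2
      rw [h2, hgF, aeval_map_algebraMap]
    have hr2 : aeval θ r = ∑ n : Fin d, ((r.coeff n : F'') : ResidueField S) * θ ^ (n : ℕ) := by
      rw [aeval_eq_sum_range' hrdeg, Finset.sum_range]
      exact Finset.sum_congr rfl fun n _ => by rw [Algebra.smul_def]; rfl
    choose c hcE hcρ using fun n : Fin d => hL1c ((r.coeff n : F'') : ResidueField S)
      (r.coeff n).2
    refine ⟨c, hcE, ?_⟩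
    apply mem_smul_of_rho_eq_zero A S i
    · refine Subalgebra.sub_mem _ he (Subalgebra.sum_mem _ fun n _ => ?_)
      exact Subalgebra.mul_mem _ (hE''E (hcE n)) (Subalgebra.pow_mem _ hxE n)
    · rw [map_sub, map_sum, hg, ← hr1, hr2, sub_eq_zero]
      exact Finset.sum_congr rfl fun n _ => by rw [map_mul, map_pow, hcρ, hxθ])
  -- generation of the kernel
  have hker : RingHom.ker π.toRingHom =
      ((RingHom.ker π.toRingHom).comap (stageHom A S j).toRingHom).map
        (stageHom A S j).toRingHom := by
    refine le_antisymm ?_ Ideal.map_comap_le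
    conv_lhs => rw [hQ]
    rw [Ideal.map_le_iff_le_comap]
    intro e' he'
    have he'0 : π (stageHom A S i e') = 0 := he'
    obtain ⟨c, hcE, hc⟩ := hspan (stageHom A S i e') ⟨e', rfl⟩
    choose c' hc' using hcE
    have hc'' : ∀ n, stageHom A S j (c' n) = c n := hc'
    have hzero : ∀ n, algebraMap T K (π (c n)) = 0 := by
      apply coeff_zero_of_linearIndependent L (algebraMap T K (π x)) d hind
      · intro n
        rw [← hc'' n]; exact hL3 (c' n)
      · have := congrArg (fun w => algebraMap T K (π w)) hc
        simp only [map_sum, map_mul, map_pow] at this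
        rw [← this, he'0, map_zero]
    rw [Ideal.mem_comap]
    show stageHom A S i e' ∈ _
    rw [hc]
    refine Ideal.sum_mem _ fun n _ => Ideal.mul_mem_right _ _ ?_
    rw [← hc'' n]
    apply Ideal.mem_map_of_mem
    show π (stageHom A S j (c' n)) = 0
    rw [hc'' n]
    exact hι (by rw [hzero n, map_zero])
  -- fractions
  have hfrac : ∀ l ∈ L, ∃ c₁ c₂ : j.L, π (stageHom A S j c₂) ≠ 0 ∧
      l * algebraMap T K (π (stageHom A S j c₂)) = algebraMap T K (π (stageHom A S j c₁)) := by
    intro l hl
    obtain ⟨e₁, e₂, hne, h⟩ := hL l hl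
    obtain ⟨a, haE, ha⟩ := hspan (stageHom A S i e₁) ⟨e₁, rfl⟩
    obtain ⟨b, hbE, hb⟩ := hspan (stageHom A S i e₂) ⟨e₂, rfl⟩
    choose a' ha' using haE
    choose b' hb' using hbE
    have ha'' : ∀ n, stageHom A S j (a' n) = a n := ha'
    have hb'' : ∀ n, stageHom A S j (b' n) = b n := hb'
    have hae : algebraMap T K (π (stageHom A S i e₁)) =
        ∑ n, algebraMap T K (π (a n)) * (algebraMap T K (π x)) ^ (n : ℕ) := by
      have := congrArg (fun w => algebraMap T K (π w)) ha
      simpa only [map_sum, map_mul, map_pow] using this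
    have hbe : algebraMap T K (π (stageHom A S i e₂)) =
        ∑ n, algebraMap T K (π (b n)) * (algebraMap T K (π x)) ^ (n : ℕ) := by
      have := congrArg (fun w => algebraMap T K (π w)) hb
      simpa only [map_sum, map_mul, map_pow] using this
    obtain ⟨n, hn0, hn⟩ := exists_ratio_of_linearIndependent L (algebraMap T K (π x)) d hind l hl
      (fun n => algebraMap T K (π (a n))) (fun n => algebraMap T K (π (b n)))
      (fun n => by rw [← ha'' n]; exact hL3 _) (fun n => by rw [← hb'' n]; exact hL3 _)
      (by
        rw [← hbe]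
        intro h0
        exact hne (hι (by rw [h0, map_zero])))
      (by rw [← hbe, ← hae]; exact h)
    refine ⟨a' n, b' n, ?_, ?_⟩
    · rw [hb'' n]
      intro h0
      apply hn0
      show algebraMap T K (π (b n)) = 0
      rw [h0, map_zero]
    · rw [ha'' n, hb'' n]; exact hn
  refine ⟨j, hker, ?_, hfrac⟩
  intro z
  constructor
  · intro hz
    exact exists_stage_elt A S T π hπ K L j hker hfrac z hz
  · rintro ⟨c, rfl⟩
    exact hL3 c

end

end Groth.Agent.Helper2.SubfSt
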