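import Mathlib
import Groth.Prelude
import Groth.Agent.Helper2.SubfSt11

set_option autoImplicit false
set_option linter.style.haveILetI false
set_option linter.unusedSectionVars false

universe u

namespace Groth.Agent.Helper2.SubfSt

open Polynomial IsLocalRing Groth.Agent.Helper1.Hens Groth.Agent.Helper1 Groth.Agent.Helper2.EssEtSub
open scoped IntermediateField

section

variable (A S : Type u) [CommRing A] [IsLocalRing A] [CommRing S] [IsLocalRing S]
  [Algebra A S] [IsLocalHom (algebraMap A S)] [Hensel.IsStrictHenselization A S]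
variable (T : Type u) [CommRing T] [IsDomain T] [Algebra A T] (π : S →ₐ[A] T)
  (hπ : Function.Surjective π)
variable (K : Type u) [Field K] [Algebra T K] [IsFractionRing T K]

include hπ in
/-- a stage whose image has fraction field containing the subfield generated by a finite set,
and which generates the (finitely generated) kernel -/
theorem exists_stage_frac (hfg : (RingHom.ker π.toRingHom).FG) (t : Finset K) :
    ∃ i : Idx A (ResidueField S),
      RingHom.ker π.toRingHom =
        ((RingHom.ker π.toRingHom).comap (stageHom A S i).toRingHom).map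
          (stageHom A S i).toRingHom ∧
      ∀ l ∈ Subfield.closure
          (Set.range (fun a : A => algebraMap T K (algebraMap A T a)) ∪ (t : Set K)),
        ∃ e₁ e₂ : i.L, π (stageHom A S i e₂) ≠ 0 ∧
          l * algebraMap T K (π (stageHom A S i e₂)) = algebraMap T K (π (stageHom A S i e₁)) := by
  classical
  obtain ⟨gens, hgens⟩ := hfg
  have hι : Function.Injective (algebraMap T K) := IsFractionRing.injective T K
  have hnd : ∀ τ : K, ∃ n d : S, π d ≠ 0 ∧ τ * algebraMap T K (π d) = algebraMap T K (π n) := by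
    intro τ
    obtain ⟨⟨n, d⟩, h⟩ := IsLocalization.surj (nonZeroDivisors T) τ
    obtain ⟨n', rfl⟩ := hπ n
    obtain ⟨d', hd'⟩ := hπ (d : T)
    refine ⟨n', d', ?_, ?_⟩
    · rw [hd']; exact nonZeroDivisors.coe_ne_zero d
    · rw [hd']; exact h
  choose num den hden hnumden using hnd
  obtain ⟨i, hi⟩ := exists_stage_of_finset A S (gens ∪ (t.image num ∪ t.image den))
  have hi₁ : ∀ g ∈ gens, g ∈ (stageHom A S i).range := by
    intro g hg
    apply hi
    simp only [Finset.coe_union, Set.mem_union, Finset.mem_coe]
    exact Or.inl hg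
  have hi₂ : ∀ τ ∈ t, num τ ∈ (stageHom A S i).range ∧ den τ ∈ (stageHom A S i).range := by
    intro τ hτ
    constructor
    · apply hi
      simp only [Finset.coe_union, Set.mem_union, Finset.mem_coe]
      exact Or.inr (Or.inl (Finset.mem_image_of_mem _ hτ))
    · apply hi
      simp only [Finset.coe_union, Set.mem_union, Finset.mem_coe]
      exact Or.inr (Or.inr (Finset.mem_image_of_mem _ hτ))
  refine ⟨i, ?_, ?_⟩
  · refine le_antisymm ?_ Ideal.map_comap_le
    conv_lhs => rw [← hgens]
    rw [Ideal.span_le]
    intro g hg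
    obtain ⟨g₁, hg₁⟩ := hi₁ g hg
    have hg₂ : (stageHom A S i).toRingHom g₁ = g := hg₁
    rw [← hg₂]
    apply Ideal.mem_map_of_mem
    rw [Ideal.mem_comap, hg₂, ← hgens]
    exact Ideal.subset_span hg
  · have hιne : ∀ b : i.L, π (stageHom A S i b) ≠ 0 →
        algebraMap T K (π (stageHom A S i b)) ≠ 0 := by
      intro b hb h0
      exact hb (hι (by rw [h0, map_zero]))
    intro l hl
    induction hl using Subfield.closure_induction with
    | mem l hl =>
      rcases hl with ⟨r, rfl⟩ | hl
      · refine ⟨algebraMap A i.L r, 1, ?_, ?_⟩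
        · rw [map_one, map_one]; exact one_ne_zero
        · rw [map_one, map_one, map_one, mul_one, AlgHom.commutes, AlgHom.commutes]
      · obtain ⟨a, ha⟩ := (hi₂ l hl).1
        obtain ⟨b, hb⟩ := (hi₂ l hl).2
        refine ⟨a, b, ?_, ?_⟩
        · rw [show stageHom A S i b = den l from hb]; exact hden l
        · rw [show stageHom A S i b = den l from hb, show stageHom A S i a = num l from ha]
          exact hnumden l
    | one =>
      refine ⟨1, 1, ?_, by rw [one_mul]⟩
      rw [map_one, map_one]; exact one_ne_zero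
    | add l₁ l₂ _ _ h₁ h₂ =>
      obtain ⟨a₁, b₁, hb₁, e₁⟩ := h₁
      obtain ⟨a₂, b₂, hb₂, e₂⟩ := h₂
      refine ⟨a₁ * b₂ + a₂ * b₁, b₁ * b₂, ?_, ?_⟩
      · rw [map_mul, map_mul]
        exact mul_ne_zero hb₁ hb₂
      · simp only [map_mul, map_add]
        rw [← e₁, ← e₂]; ring
    | neg l _ h =>
      obtain ⟨a, b, hb, e⟩ := h
      refine ⟨-a, b, hb, ?_⟩
      simp only [map_neg]
      rw [← e]; ring
    | inv l _ h =>
      obtain ⟨a, b, hb, e⟩ := h
      by_cases ha : π (stageHom A S i a) = 0
      · rw [ha, map_zero] at e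
        have hl0 : l = 0 := (mul_eq_zero.1 e).resolve_right (hιne b hb)
        refine ⟨0, 1, ?_, ?_⟩
        · rw [map_one, map_one]; exact one_ne_zero
        · rw [hl0, inv_zero, zero_mul, map_zero, map_zero, map_zero]
      · refine ⟨b, a, ha, ?_⟩
        have hane := hιne a ha
        have hl0 : l ≠ 0 := by
          rintro rfl
          rw [zero_mul] at e
          exact hane e.symm
        rw [← e, ← mul_assoc, inv_mul_cancel₀ hl0, one_mul]
    | mul l₁ l₂ _ _ h₁ h₂ =>
      obtain ⟨a₁, b₁, hb₁, e₁⟩ := h₁
      obtain ⟨a₂, b₂, hb₂, e₂⟩ := h₂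
      refine ⟨a₁ * a₂, b₁ * b₂, ?_, ?_⟩
      · rw [map_mul, map_mul]
        exact mul_ne_zero hb₁ hb₂
      · simp only [map_mul]
        rw [← e₁, ← e₂]; ring

end

section

variable (A S : Type u) [CommRing A] [HenselianLocalRing A] [CommRing S] [IsLocalRing S]
  [Algebra A S] [IsLocalHom (algebraMap A S)] [Hensel.IsStrictHenselization A S]
variable (T : Type u) [CommRing T] [IsDomain T] [Algebra A T] (π : S →ₐ[A] T)
  (hπ : Function.Surjective π)
variable (K : Type u) [Field K] [Algebra T K] [IsFractionRing T K]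

include hπ in
/-- combined statement for a finitely generated subfield -/
theorem main_finset (hfg : (RingHom.ker π.toRingHom).FG) (t : Finset K) :
    ∃ j : Idx A (ResidueField S),
      (∀ z : T, algebraMap T K z ∈ Subfield.closure
          (Set.range (fun a : A => algebraMap T K (algebraMap A T a)) ∪ (t : Set K)) ↔
        ∃ c : j.L, π (stageHom A S j c) = z) ∧
      (∀ l ∈ Subfield.closure
          (Set.range (fun a : A => algebraMap T K (algebraMap A T a)) ∪ (t : Set K)),
        ∃ c₁ c₂ : j.L, π (stageHom A S j c₂) ≠ 0 ∧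
          l * algebraMap T K (π (stageHom A S j c₂)) = algebraMap T K (π (stageHom A S j c₁))) := by
  obtain ⟨i, hQ, hL⟩ := exists_stage_frac A S T π hπ K hfg t
  obtain ⟨j, -, h1, h2⟩ := main A S T π hπ K _
    (fun a => Subfield.subset_closure (Or.inl ⟨a, rfl⟩)) i hQ hL
  exact ⟨j, h1, h2⟩

end

end Groth.Agent.Helper2.SubfSt
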