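import Mathlib
import Groth.Prelude
import Groth.Agent.Helper2.NoeI5
import Groth.Agent.Helper2.SubfSt12
import Groth.Agent.Helper1.HensStrictNoeth

set_option autoImplicit false
set_option linter.style.haveILetI false
set_option linter.unusedSectionVars false
set_option linter.unusedVariables false

universe u

/-!
# S16435, part 6: every element of `D` lies, modulo a minimal prime, in a stage with small
residue field
-/

namespace Groth.Agent.Helper2.NoeI

open Polynomial IsLocalRing Groth.Agent.Helper1.Hens Groth.Agent.Helper1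
  Groth.Agent.Helper2.SubfSt Groth.Agent.Helper2.HExt Groth.Agent.Helper2.EssEtSub

section K

variable (A S : Type u) [CommRing A] [HenselianLocalRing A] [IsNoetherianRing A] [IsReduced A]
  [CommRing S] [IsLocalRing S] [Algebra A S] [IsLocalHom (algebraMap A S)]
  [Hensel.IsStrictHenselization A S] (D : Subalgebra A S) (Q : Ideal S) [Q.IsPrime]

/-- the subfield of fractions of the image of `D` in `Frac (S/Q)` -/
noncomputable def fracField : Subfield (FractionRing (S ⧸ Q)) where
  carrier := {y | ∃ a b : D, (b : S) ∉ Q ∧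
    y * algebraMap (S ⧸ Q) (FractionRing (S ⧸ Q)) (Ideal.Quotient.mk Q (b : S)) =
      algebraMap (S ⧸ Q) (FractionRing (S ⧸ Q)) (Ideal.Quotient.mk Q (a : S))}
  mul_mem' := by
    rintro y y' ⟨a, b, hb, h⟩ ⟨a', b', hb', h'⟩
    refine ⟨a * a', b * b', ?_, ?_⟩
    · intro hmem
      rcases Ideal.IsPrime.mem_or_mem inferInstance hmem with h1 | h1
      · exact hb h1
      · exact hb' h1
    · have e1 : ((a * a' : D) : S) = (a : S) * (a' : S) := rfl
      have e2 : ((b * b' : D) : S) = (b : S) * (b' : S) := rfl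
      rw [e1, e2, map_mul, map_mul, map_mul, map_mul, ← h, ← h']
      ring
  one_mem' := ⟨1, 1, by
    intro h
    exact (Ideal.ne_top_iff_one Q).mp (Ideal.IsPrime.ne_top inferInstance) h, by simp⟩
  add_mem' := by
    rintro y y' ⟨a, b, hb, h⟩ ⟨a', b', hb', h'⟩
    refine ⟨a * b' + a' * b, b * b', ?_, ?_⟩
    · intro hmem
      rcases Ideal.IsPrime.mem_or_mem inferInstance hmem with h1 | h1
      · exact hb h1
      · exact hb' h1
    · have e1 : ((a * b' + a' * b : D) : S) = (a : S) * (b' : S) + (a' : S) * (b : S) := rfl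
      have e2 : ((b * b' : D) : S) = (b : S) * (b' : S) := rfl
      rw [e1, e2, map_add, map_mul, map_mul, map_mul, map_add, map_mul, map_mul, map_mul, ← h, ← h']
      ring
  zero_mem' := ⟨0, 1, by
    intro h
    exact (Ideal.ne_top_iff_one Q).mp (Ideal.IsPrime.ne_top inferInstance) h, by simp⟩
  neg_mem' := by
    rintro y ⟨a, b, hb, h⟩
    refine ⟨-a, b, hb, ?_⟩
    have e1 : ((-a : D) : S) = -(a : S) := rfl
    rw [e1, map_neg, map_neg, ← h]
    ring
  inv_mem' := by
    rintro y ⟨a, b, hb, h⟩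
    by_cases hy : y = 0
    · rw [hy, inv_zero]
      exact ⟨0, 1, by
        intro h
        exact (Ideal.ne_top_iff_one Q).mp (Ideal.IsPrime.ne_top inferInstance) h, by simp⟩
    · have hbne : algebraMap (S ⧸ Q) (FractionRing (S ⧸ Q)) (Ideal.Quotient.mk Q (b : S)) ≠ 0 := by
        rw [Ne, map_eq_zero_iff _ (IsFractionRing.injective (S ⧸ Q) _),
          Ideal.Quotient.eq_zero_iff_mem]
        exact hb
      have hane : algebraMap (S ⧸ Q) (FractionRing (S ⧸ Q)) (Ideal.Quotient.mk Q (a : S)) ≠ 0 := by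
        rw [← h]
        exact mul_ne_zero hy hbne
      refine ⟨b, a, ?_, ?_⟩
      · intro hmem
        apply hane
        rw [map_eq_zero_iff _ (IsFractionRing.injective (S ⧸ Q) _),
          Ideal.Quotient.eq_zero_iff_mem]
        exact hmem
      · rw [← h]
        field_simp

theorem mem_fracField (y : FractionRing (S ⧸ Q)) :
    y ∈ fracField A S D Q ↔ ∃ a b : D, (b : S) ∉ Q ∧
      y * algebraMap (S ⧸ Q) (FractionRing (S ⧸ Q)) (Ideal.Quotient.mk Q (b : S)) =
        algebraMap (S ⧸ Q) (FractionRing (S ⧸ Q)) (Ideal.Quotient.mk Q (a : S)) := Iff.rfl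

/-- (K): every element of `D` is, modulo `Q`, in the image of a stage all of whose elements are
fractions of `D` modulo `Q`. -/
theorem exists_stage_frac_sub (hQ : Q ∈ minimalPrimes S) (d : D) :
    ∃ j : Idx A (ResidueField S), (∃ c : j.L, stageHom A S j c - (d : S) ∈ Q) ∧
      ∀ c : j.L, ∃ a b : D, (b : S) ∉ Q ∧ stageHom A S j c * b - a ∈ Q := by
  haveI : IsNoetherianRing S := isNoetherianRing_of_isStrictHenselization A S
  have hfg : (RingHom.ker (Ideal.Quotient.mkₐ A Q).toRingHom).FG :=
    (isNoetherianRing_iff_ideal_fg S).mp inferInstance _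
  obtain ⟨j, h1, -⟩ := main_finset A S (S ⧸ Q) (Ideal.Quotient.mkₐ A Q)
    (Ideal.Quotient.mkₐ_surjective A Q) (FractionRing (S ⧸ Q)) hfg
    {algebraMap (S ⧸ Q) (FractionRing (S ⧸ Q)) (Ideal.Quotient.mk Q (d : S))}
  have hle : Subfield.closure
      (Set.range (fun a : A => algebraMap (S ⧸ Q) (FractionRing (S ⧸ Q))
        (algebraMap A (S ⧸ Q) a)) ∪
        (({algebraMap (S ⧸ Q) (FractionRing (S ⧸ Q)) (Ideal.Quotient.mk Q (d : S))} :
          Finset (FractionRing (S ⧸ Q))) : Set (FractionRing (S ⧸ Q)))) ≤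
      fracField A S D Q := by
    rw [Subfield.closure_le]
    rintro y (⟨a, rfl⟩ | hy)
    · refine ⟨algebraMap A D a, 1, ?_, ?_⟩
      · intro h
        exact (Ideal.ne_top_iff_one Q).mp (Ideal.IsPrime.ne_top inferInstance) h
      · simp only [OneMemClass.coe_one, map_one, mul_one]
        rfl
    · have hy' : y = algebraMap (S ⧸ Q) (FractionRing (S ⧸ Q)) (Ideal.Quotient.mk Q (d : S)) := by
        simpa using hy
      refine ⟨d, 1, ?_, ?_⟩
      · intro h
        exact (Ideal.ne_top_iff_one Q).mp (Ideal.IsPrime.ne_top inferInstance) h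
      · simp only [OneMemClass.coe_one, map_one, mul_one]
        exact hy'
  refine ⟨j, ?_, ?_⟩
  · obtain ⟨c, hc⟩ := (h1 (Ideal.Quotient.mk Q (d : S))).mp
      (Subfield.subset_closure (Or.inr (by simp)))
    refine ⟨c, ?_⟩
    rw [← Ideal.Quotient.eq_zero_iff_mem, map_sub, sub_eq_zero]
    exact hc
  · intro c
    have h2 : algebraMap (S ⧸ Q) (FractionRing (S ⧸ Q))
        (Ideal.Quotient.mkₐ A Q (stageHom A S j c)) ∈ fracField A S D Q :=
      hle ((h1 _).mpr ⟨c, rfl⟩)
    obtain ⟨a, b, hb, hab⟩ := h2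
    refine ⟨a, b, hb, ?_⟩
    rw [← Ideal.Quotient.eq_zero_iff_mem, map_sub, map_mul, sub_eq_zero]
    apply IsFractionRing.injective (S ⧸ Q) (FractionRing (S ⧸ Q))
    rw [map_mul]
    exact hab

end K

end Groth.Agent.Helper2.NoeI
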