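import Mathlib
import Groth.Prelude
import Groth.Agent.Helper2.SubfSt10
import Groth.Agent.Helper2.SubfSt9
import Groth.Agent.Helper2.SubfSt7
import Groth.Agent.Helper2.SubfSt4

set_option autoImplicit false
set_option linter.style.haveILetI false
set_option linter.unusedSectionVars false
set_option linter.unusedVariables false

universe u

/-!
# S16435, part 7: stages and residue fields; the ind-étale subalgebra attached to a subfield
-/

namespace Groth.Agent.Helper2.NoeI

open Polynomial IsLocalRing Groth.Agent.Helper1.Hens Groth.Agent.Helper1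
  Groth.Agent.Helper2.SubfSt Groth.Agent.Helper2.EssEtSub
open scoped IntermediateField

section stages

variable (A S : Type u) [CommRing A] [HenselianLocalRing A] [CommRing S] [IsLocalRing S]
  [Algebra A S] [IsLocalHom (algebraMap A S)] [Hensel.IsStrictHenselization A S]

theorem γLoc_aeval (i : Idx A (ResidueField S)) (x' : i.L) (G : A[X]) :
    γLoc i.γ (aeval x' G) = aeval (γLoc i.γ x') (G.map (residue A)) := by
  rw [← aeval_algHom_apply]
  have : (G.map (residue A)) = G.map (algebraMap A (ResidueField A)) := rfl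
  rw [this, aeval_map_algebraMap]

/-- a stage is generated by any lift of a primitive element of its residue field -/
theorem exists_aeval_eq (i : Idx A (ResidueField S)) (x' : i.L)
    (hgen : ∀ ω ∈ resE A S i, ∃ g : (ResidueField A)[X], ω = aeval (γLoc i.γ x') g) (z : i.L) :
    ∃ u : A[X], z = aeval x' u := by
  haveI := finite_stage A S i
  haveI : IsLocalHom (algebraMap A i.L) := by
    constructor
    intro a ha
    have h2 : IsUnit (algebraMap A S a) := by
      have := ha.map (stageHom A S i)
      rwa [AlgHom.commutes] at this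
    exact isUnit_of_map_unit (algebraMap A S) a h2
  set N : Submodule A i.L := Subalgebra.toSubmodule (Algebra.adjoin A {x'}) with hN
  have htop : (⊤ : Submodule A i.L) ≤ N := by
    apply Submodule.le_of_le_smul_of_le_jacobson_bot (I := maximalIdeal A) Module.Finite.fg_top
      (IsLocalRing.maximalIdeal_le_jacobson _)
    intro z _
    have hω : γLoc i.γ z ∈ resE A S i := (mem_resE A S i _).mpr ⟨z, rfl⟩
    obtain ⟨g, hg⟩ := hgen _ hω
    obtain ⟨G, hG⟩ := Polynomial.map_surjective (residue A) residue_surjective g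
    have h1 : γLoc i.γ (z - aeval x' G) = 0 := by
      rw [map_sub, γLoc_aeval, hG, ← hg, sub_self]
    rw [γLoc_eq_zero_iff, ← Algebra.FormallyUnramified.map_maximalIdeal (R := A) (S := i.L)] at h1
    have h1' : z - aeval x' G ∈ (maximalIdeal A) • (⊤ : Submodule A i.L) := by
      rw [Ideal.smul_top_eq_map]; exact h1
    have h2 : z = aeval x' G + (z - aeval x' G) := by ring
    rw [h2]
    refine Submodule.add_mem_sup ?_ h1'
    show aeval x' G ∈ Algebra.adjoin A {x'}
    rw [Algebra.adjoin_singleton_eq_range_aeval]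
    exact ⟨G, rfl⟩
  have hz : z ∈ Algebra.adjoin A {x'} := htop (Submodule.mem_top : z ∈ ⊤)
  rw [Algebra.adjoin_singleton_eq_range_aeval] at hz
  obtain ⟨u, hu⟩ := hz
  exact ⟨u, hu.symm⟩

/-- (G3): inclusion of residue fields gives inclusion of stages -/
theorem range_le_of_resE_le (i j : Idx A (ResidueField S)) (h : resE A S i ≤ resE A S j) :
    (stageHom A S i).range ≤ (stageHom A S j).range := by
  haveI := finite_resE A S i
  obtain ⟨θ, hθmem, hθgen⟩ := exists_primitive A S (resE A S i)
  obtain ⟨f, hfm, hfmap, hf0, hf1⟩ := exists_lift_minpoly A S θ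
  obtain ⟨x', hx'0, hx'θ⟩ := exists_root_in_stage A S i f hfm θ hθmem hf0 hf1
  obtain ⟨y', hy'0, hy'θ⟩ := exists_root_in_stage A S j f hfm θ (h hθmem) hf0 hf1
  have hxy : stageHom A S i x' = stageHom A S j y' := by
    apply root_unique_S A S f
    · rw [aeval_algHom_apply, hx'0, map_zero]
    · rw [aeval_algHom_apply, hy'0, map_zero]
    · rw [rho_stageHom, rho_stageHom, hx'θ, hy'θ]
    · rw [rho_stageHom, hx'θ]; exact hf1
  rintro _ ⟨z, rfl⟩
  obtain ⟨u, hu⟩ := exists_aeval_eq A S i x' (by rw [hx'θ]; exact hθgen) z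
  refine ⟨aeval y' u, ?_⟩
  show stageHom A S j (aeval y' u) = stageHom A S i z
  rw [hu, ← aeval_algHom_apply, ← aeval_algHom_apply, hxy]

/-- the stage of a simple root has residue field generated by the root -/
theorem exists_stage_resE_le (f : A[X]) (hf : f.Monic) (θ : ResidueField S)
    (h0 : aeval θ f = 0) (h1 : aeval θ (derivative f) ≠ 0) :
    ∃ j : Idx A (ResidueField S), θ ∈ resE A S j ∧ resE A S j ≤ (ResidueField A)⟮θ⟯ := by
  obtain ⟨j, y', hy'0, hy'θ, hrat⟩ := exists_stage_of_root A S f hf θ h0 h1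
  refine ⟨j, (mem_resE A S j θ).mpr ⟨y', hy'θ⟩, ?_⟩
  intro ω hω
  obtain ⟨z, rfl⟩ := (mem_resE A S j ω).mp hω
  obtain ⟨u, v, hv, huv⟩ := hrat z
  have h2 := congrArg (γLoc j.γ) huv
  rw [map_mul, γLoc_aeval, γLoc_aeval, hy'θ] at h2
  have hvne : aeval θ (v.map (residue A)) ≠ 0 := by
    have := hv.map (γLoc j.γ)
    rw [γLoc_aeval, hy'θ] at this
    exact this.ne_zero
  have hmem : ∀ p : (ResidueField A)[X], aeval θ p ∈ (ResidueField A)⟮θ⟯ := by
    intro p
    rw [aeval_eq_sum_range]
    refine sum_mem fun n _ => ?_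
    rw [Algebra.smul_def]
    exact mul_mem (IntermediateField.algebraMap_mem _ _)
      (pow_mem (IntermediateField.mem_adjoin_simple_self _ θ) n)
  have h3 : γLoc j.γ z = aeval θ (u.map (residue A)) * (aeval θ (v.map (residue A)))⁻¹ := by
    rw [← h2, mul_assoc, mul_inv_cancel₀ hvne, mul_one]
  rw [h3]
  exact mul_mem (hmem _) (inv_mem (hmem _))

/-- directedness of the stages with residue field in `F` -/
theorem exists_stage_ge (F : IntermediateField (ResidueField A) (ResidueField S))
    (i i' : Idx A (ResidueField S)) (hi : resE A S i ≤ F) (hi' : resE A S i' ≤ F) :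
    ∃ j : Idx A (ResidueField S), resE A S j ≤ F ∧
      (stageHom A S i).range ≤ (stageHom A S j).range ∧
      (stageHom A S i').range ≤ (stageHom A S j).range := by
  haveI := finite_resE A S i
  haveI := finite_resE A S i'
  haveI : FiniteDimensional (ResidueField A) (resE A S i ⊔ resE A S i' : IntermediateField _ _) :=
    IntermediateField.finiteDimensional_sup _ _
  obtain ⟨θ, hθmem, hθgen⟩ := exists_primitive A S (resE A S i ⊔ resE A S i')
  obtain ⟨f, hfm, hfmap, hf0, hf1⟩ := exists_lift_minpoly A S θ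
  obtain ⟨j, hθj, hjle⟩ := exists_stage_resE_le A S f hfm θ hf0 hf1
  have hsup : resE A S i ⊔ resE A S i' ≤ resE A S j := by
    intro ω hω
    obtain ⟨g, rfl⟩ := hθgen ω hω
    rw [aeval_eq_sum_range]
    refine sum_mem fun n _ => ?_
    rw [Algebra.smul_def]
    exact mul_mem (IntermediateField.algebraMap_mem _ _) (pow_mem hθj n)
  have hθF : θ ∈ F := (sup_le hi hi') hθmem
  refine ⟨j, ?_, ?_, ?_⟩
  · refine hjle.trans ?_
    rw [IntermediateField.adjoin_simple_le_iff]
    exact hθF
  · exact range_le_of_resE_le A S i j (le_sup_left.trans hsup)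
  · exact range_le_of_resE_le A S i' j (le_sup_right.trans hsup)

/-- the trivial stage -/
theorem exists_stage_bot : ∃ j : Idx A (ResidueField S), resE A S j ≤ ⊥ := by
  obtain ⟨j, -, hj⟩ := exists_stage_resE_le A S (X : A[X]) monic_X (0 : ResidueField S)
    (by simp) (by simp)
  refine ⟨j, hj.trans ?_⟩
  rw [IntermediateField.adjoin_simple_le_iff]
  exact zero_mem _

/-- the ind-étale subalgebra of `S` with residue field in `F` -/
noncomputable def EF (F : IntermediateField (ResidueField A) (ResidueField S)) :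
    Subalgebra A S where
  carrier := {s | ∃ i : Idx A (ResidueField S), resE A S i ≤ F ∧ s ∈ (stageHom A S i).range}
  mul_mem' := by
    rintro s s' ⟨i, hi, hs⟩ ⟨i', hi', hs'⟩
    obtain ⟨j, hj, h1, h2⟩ := exists_stage_ge A S F i i' hi hi'
    exact ⟨j, hj, mul_mem (h1 hs) (h2 hs')⟩
  add_mem' := by
    rintro s s' ⟨i, hi, hs⟩ ⟨i', hi', hs'⟩
    obtain ⟨j, hj, h1, h2⟩ := exists_stage_ge A S F i i' hi hi'
    exact ⟨j, hj, add_mem (h1 hs) (h2 hs')⟩
  algebraMap_mem' := by
    intro a
    obtain ⟨j, hj⟩ := exists_stage_bot A S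
    exact ⟨j, hj.trans bot_le, Subalgebra.algebraMap_mem _ a⟩

theorem mem_EF (F : IntermediateField (ResidueField A) (ResidueField S)) (s : S) :
    s ∈ EF A S F ↔ ∃ i : Idx A (ResidueField S), resE A S i ≤ F ∧ s ∈ (stageHom A S i).range :=
  Iff.rfl

theorem range_le_EF (F : IntermediateField (ResidueField A) (ResidueField S))
    (i : Idx A (ResidueField S)) (hi : resE A S i ≤ F) : (stageHom A S i).range ≤ EF A S F :=
  fun s hs => ⟨i, hi, hs⟩

/-- finitely many elements of `E_F` lie in a common stage -/
theorem exists_stage_of_finset_EF (F : IntermediateField (ResidueField A) (ResidueField S))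
    (t : Finset S) (ht : ∀ s ∈ t, s ∈ EF A S F) :
    ∃ i : Idx A (ResidueField S), resE A S i ≤ F ∧ ∀ s ∈ t, s ∈ (stageHom A S i).range := by
  classical
  induction t using Finset.induction_on with
  | empty =>
    obtain ⟨j, hj⟩ := exists_stage_bot A S
    exact ⟨j, hj.trans bot_le, by simp⟩
  | insert a t _ ih =>
    obtain ⟨i, hi, hit⟩ := ih (fun s hs => ht s (Finset.mem_insert_of_mem hs))
    obtain ⟨i', hi', ha⟩ := ht a (Finset.mem_insert_self a t)
    obtain ⟨j, hj, h1, h2⟩ := exists_stage_ge A S F i i' hi hi'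
    refine ⟨j, hj, ?_⟩
    intro s hs
    rcases Finset.mem_insert.mp hs with rfl | hs
    · exact h2 ha
    · exact h1 (hit s hs)

end stages

end Groth.Agent.Helper2.NoeI
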