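import Mathlib
import Groth.Prelude
import Groth.Agent.Helper2.NoeI7
import Groth.Agent.Helper2.EssEtSub3
import Groth.Agent.Helper2.HExt1

set_option autoImplicit false
set_option linter.style.haveILetI false
set_option linter.unusedSectionVars false
set_option linter.unusedVariables false

universe u

/-!
# S16435, part 8: the ind-étale subalgebra `E_F` is Noetherian
-/

namespace Groth.Agent.Helper2.NoeI

open Polynomial IsLocalRing Groth.Agent.Helper1.Hens Groth.Agent.Helper1
  Groth.Agent.Helper2.SubfSt Groth.Agent.Helper2.EssEtSub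
open scoped IntermediateField

section EFnoeth

variable (A S : Type u) [CommRing A] [HenselianLocalRing A] [CommRing S] [IsLocalRing S]
  [Algebra A S] [IsLocalHom (algebraMap A S)] [Hensel.IsStrictHenselization A S]

theorem flat_EF (F : IntermediateField (ResidueField A) (ResidueField S)) :
    Module.Flat (EF A S F) S := by
  classical
  apply Module.Flat.of_forall_isTrivialRelation
  intro l a x hax
  obtain ⟨i, hi, hit⟩ := exists_stage_of_finset_EF A S F
    (Finset.univ.image (fun k => ((a k : EF A S F) : S))) (by
      intro s hs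
      obtain ⟨k, -, rfl⟩ := Finset.mem_image.mp hs
      exact (a k).2)
  have hit' : ∀ k, ∃ z : i.L, stageHom A S i z = ((a k : EF A S F) : S) := fun k =>
    hit _ (Finset.mem_image_of_mem _ (Finset.mem_univ k))
  choose a' ha' using hit'
  letI : Algebra i.L S := (stageHom A S i).toRingHom.toAlgebra
  haveI := flat_stageHom A S i
  have hsmul : ∀ (y : i.L) (z : S), y • z = stageHom A S i y * z := fun y z => by
    rw [Algebra.smul_def]; rfl
  have hsmul' : ∀ (y : EF A S F) (z : S), y • z = (y : S) * z := fun y z => rfl
  have h3 : ∑ k, a' k • x k = 0 := by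
    rw [← hax]
    exact Finset.sum_congr rfl fun k _ => by rw [hsmul, ha', hsmul']
  obtain ⟨m, b, y, hy1, hy2⟩ := Module.Flat.isTrivialRelation_of_sum_smul_eq_zero (R := i.L)
    (M := S) (f := a') (x := x) h3
  refine ⟨m, fun k n => ⟨stageHom A S i (b k n), range_le_EF A S F i hi ⟨_, rfl⟩⟩, y,
    fun k => ?_, fun n => ?_⟩
  · rw [hy1 k]
    exact Finset.sum_congr rfl fun n _ => by rw [hsmul, hsmul']
  · apply Subtype.ext
    have h4 := congrArg (stageHom A S i) (hy2 n)
    rw [map_zero, map_sum] at h4
    rw [ZeroMemClass.coe_zero, ← h4]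
    rw [AddSubmonoidClass.coe_finset_sum]
    exact Finset.sum_congr rfl fun k _ => by
      rw [map_mul, ha']; rfl

variable [IsNoetherianRing A]

theorem isNoetherianRing_EF (F : IntermediateField (ResidueField A) (ResidueField S)) :
    IsNoetherianRing (EF A S F) := by
  haveI : Algebra.IsIntegral A S := Groth.Agent.Helper2.HExt.isIntegral_of_henselian A S
  haveI : IsLocalRing (EF A S F) := Groth.Agent.Helper2.HExt.isLocalRing_sub (EF A S F)
  haveI : IsLocalHom (algebraMap (EF A S F) S) :=
    Groth.Agent.Helper2.HExt.isLocalHom_sub (EF A S F)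
  haveI : Module.Flat (EF A S F) S := flat_EF A S F
  haveI : Module.FaithfullyFlat (EF A S F) S := Module.FaithfullyFlat.of_flat_of_isLocalHom
  haveI : IsNoetherianRing S := isNoetherianRing_of_isStrictHenselization A S
  exact Hens.isNoetherianRing_of_faithfullyFlat (EF A S F) S

end EFnoeth

end Groth.Agent.Helper2.NoeI
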