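import Mathlib
import Groth.Prelude
import Groth.Agent.Helper2.NoeI8
import Groth.Agent.Helper2.NoeI6
import Groth.Agent.Helper2.HensInt

set_option autoImplicit false
set_option linter.style.haveILetI false
set_option linter.unusedSectionVars false
set_option linter.unusedVariables false

universe u

/-!
# S16435, part 9: generic lemmas for the sufficiency direction
-/

namespace Groth.Agent.Helper2.NoeI

open Polynomial IsLocalRing Groth.Agent.Helper1.Hens Groth.Agent.Helper1
  Groth.Agent.Helper2.SubfSt Groth.Agent.Helper2.EssEtSub Groth.Agent.Helper2.HExt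
open scoped IntermediateField TensorProduct

/-- a ring between a Noetherian ring `E` and a reduced ring `S` with finitely many minimal primes
which agrees with `E` modulo every minimal prime of `S` is Noetherian -/
theorem noeth_of_approx {E G S : Type*} [CommRing E] [CommRing G] [CommRing S]
    [IsNoetherianRing E] [IsReduced S] (hfin : (minimalPrimes S).Finite) (φ : E →+* G)
    (ψ : G →+* S) (hψ : Function.Injective ψ)
    (h : ∀ Q ∈ minimalPrimes S, ∀ g : G, ∃ e : E, ψ g - ψ (φ e) ∈ Q) : IsNoetherianRing G := by
  classical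
  letI : Algebra E G := φ.toAlgebra
  letI : Algebra G S := ψ.toAlgebra
  letI : Algebra E S := (ψ.comp φ).toAlgebra
  haveI : IsScalarTower E G S := IsScalarTower.of_algebraMap_eq (fun _ => rfl)
  haveI : Fintype (minimalPrimes S) := hfin.fintype
  let Φ : G →ₗ[E] (∀ Q : minimalPrimes S, S ⧸ Q.1) :=
    LinearMap.pi (fun Q => ((Ideal.Quotient.mkₐ E Q.1).toLinearMap).comp
      (IsScalarTower.toAlgHom E G S).toLinearMap)
  let Ψ : (minimalPrimes S → E) →ₗ[E] (∀ Q : minimalPrimes S, S ⧸ Q.1) :=
    LinearMap.pi (fun Q => (Algebra.linearMap E (S ⧸ Q.1)).comp (LinearMap.proj Q))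
  have hΦ : ∀ (g : G) (Q : minimalPrimes S), Φ g Q = Ideal.Quotient.mk Q.1 (ψ g) := fun g Q => rfl
  have hΨ : ∀ (e : minimalPrimes S → E) (Q : minimalPrimes S),
      Ψ e Q = Ideal.Quotient.mk Q.1 (ψ (φ (e Q))) := fun e Q => rfl
  have hΦinj : Function.Injective Φ := by
    rw [← LinearMap.ker_eq_bot, LinearMap.ker_eq_bot']
    intro g hg
    apply hψ
    rw [map_zero]
    have h1 : ψ g ∈ nilradical S := by
      rw [nilradical, ← Ideal.sInf_minimalPrimes, Ideal.mem_sInf]
      intro Q hQ
      have h2 := congrFun hg ⟨Q, hQ⟩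
      rw [hΦ] at h2
      exact Ideal.Quotient.eq_zero_iff_mem.mp h2
    rw [nilradical_eq_zero] at h1
    exact h1
  have hle : ∀ g : G, Φ g ∈ LinearMap.range Ψ := by
    intro g
    choose e he using fun Q : minimalPrimes S => h Q.1 Q.2 g
    refine ⟨e, ?_⟩
    funext Q
    rw [hΨ, hΦ]
    exact ((Ideal.Quotient.mk_eq_mk_iff_sub_mem _ _).mpr (he Q)).symm
  haveI : IsNoetherian E (LinearMap.range Ψ) :=
    isNoetherian_of_surjective (f := Ψ.rangeRestrict) (LinearMap.range_rangeRestrict Ψ)
  have hN : IsNoetherian E G :=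
    isNoetherian_of_injective (Φ.codRestrict (LinearMap.range Ψ) hle)
      (fun x y hxy => hΦinj (congrArg Subtype.val hxy))
  exact isNoetherian_of_tower E hN

/-- a quotient of a tensor product with a finite algebra is finite -/
theorem finite_of_surjective_tensor {A D L G : Type*} [CommRing A] [CommRing D] [CommRing L]
    [CommRing G] [Algebra A D] [Algebra A L] [Module.Finite A L] (π : D ⊗[A] L →+* G)
    (hπ : Function.Surjective π) :
    letI : Algebra D G := (π.comp Algebra.TensorProduct.includeLeftRingHom).toAlgebra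
    Module.Finite D G := by
  letI : Algebra D G := (π.comp Algebra.TensorProduct.includeLeftRingHom).toAlgebra
  let πl : D ⊗[A] L →ₗ[D] G :=
    { toFun := π
      map_add' := map_add π
      map_smul' := fun d x => by
        show π (d • x) = (π.comp Algebra.TensorProduct.includeLeftRingHom) d * π x
        rw [Algebra.smul_def, map_mul]
        rfl }
  exact Module.Finite.of_surjective πl hπ

section hens

variable (A S : Type u) [CommRing A] [HenselianLocalRing A] [IsNoetherianRing A] [IsReduced A]
  [CommRing S] [IsLocalRing S] [Algebra A S] [IsLocalHom (algebraMap A S)]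
  [Hensel.IsStrictHenselization A S]

/-- a subalgebra whose residue field contains that of a stage contains the stage -/
theorem range_le_of_resE_le_sub (G : Subalgebra A S) (i : Idx A (ResidueField S))
    (hres : ∀ ω ∈ resE A S i, ∃ g ∈ G, rho A S g = ω) : (stageHom A S i).range ≤ G := by
  haveI := isIntegral_of_henselian A S
  haveI : IsLocalRing G := isLocalRing_sub G
  haveI : IsLocalHom (algebraMap G S) := isLocalHom_sub G
  haveI : Algebra.IsIntegral A G := isIntegral_sub A S G
  haveI : HenselianLocalRing G :=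
    Groth.Agent.Helper2.HensInt.henselianLocalRing_of_isIntegral A G
  haveI := finite_resE A S i
  obtain ⟨θ, hθmem, hθgen⟩ := exists_primitive A S (resE A S i)
  obtain ⟨f, hfm, hfmap, hf0, hf1⟩ := exists_lift_minpoly A S θ
  obtain ⟨x', hx'0, hx'θ⟩ := exists_root_in_stage A S i f hfm θ hθmem hf0 hf1
  obtain ⟨g₀, hg₀G, hg₀⟩ := hres θ hθmem
  let ρG : G →+* ResidueField S := (rho A S).toRingHom.comp G.val.toRingHom
  have hρG : ∀ b : G, ρG b = rho A S (b : S) := fun b => rfl
  have hker : ∀ b : G, ρG b = 0 ↔ b ∈ maximalIdeal G := by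
    intro b
    rw [hρG, rho_eq_zero_iff, mem_maximalIdeal, mem_maximalIdeal, mem_nonunits_iff,
      mem_nonunits_iff, not_iff_not]
    exact isUnit_map_iff (algebraMap G S) b
  have hmap : (f.map (algebraMap A G)).map ρG = f.map (algebraMap A (ResidueField S)) := by
    rw [map_map]
    congr 1
    ext a
    exact (rho A S).commutes a
  obtain ⟨g, hg, hgg⟩ := hensel_root ρG hker (f.map (algebraMap A G)) (hfm.map _) ⟨g₀, hg₀G⟩
    (by
      rw [hmap, hρG]
      show eval (rho A S g₀) _ = 0
      rw [hg₀, eval_map_algebraMap]; exact hf0)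
    (by
      rw [hmap, derivative_map, hρG]
      show eval (rho A S g₀) _ ≠ 0
      rw [hg₀, eval_map_algebraMap]; exact hf1)
  have hgθ : rho A S (g : S) = θ := by
    rw [← hρG, hgg, hρG]; exact hg₀
  have hg0 : aeval (g : S) f = 0 := by
    rw [eval_map_algebraMap] at hg
    have := congrArg G.val hg
    rw [← aeval_algHom_apply, map_zero] at this
    exact this
  have hxg : stageHom A S i x' = (g : S) := by
    apply root_unique_S A S f
    · rw [aeval_algHom_apply, hx'0, map_zero]
    · exact hg0
    · rw [rho_stageHom, hx'θ, hgθ]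
    · rw [rho_stageHom, hx'θ]; exact hf1
  rintro _ ⟨z, rfl⟩
  obtain ⟨u, hu⟩ := exists_aeval_eq A S i x' (by rw [hx'θ]; exact hθgen) z
  show stageHom A S i z ∈ G
  rw [hu, ← aeval_algHom_apply, hxg]
  have : aeval (g : S) u = ((aeval g u : G) : S) := by
    have := aeval_algHom_apply G.val g u
    exact this
  rw [this]
  exact (aeval g u : G).2

end hens

end Groth.Agent.Helper2.NoeI
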