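import Mathlib
import Groth.Prelude
import Groth.Agent.Helper2.NoeI9
import Groth.Agent.Helper2.NoeI5
import Groth.Agent.Helper2.EssEtSub4
import Groth.Agent.Helper3.EN1

set_option autoImplicit false
set_option linter.style.haveILetI false
set_option linter.unusedSectionVars false
set_option linter.unusedVariables false

universe u

/-!
# S16435, part 10: sufficiency
-/

namespace Groth.Agent.Helper2.NoeI

open Polynomial IsLocalRing Groth.Agent.Helper1.Hens Groth.Agent.Helper1
  Groth.Agent.Helper2.SubfSt Groth.Agent.Helper2.EssEtSub Groth.Agent.Helper2.HExt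
open scoped IntermediateField TensorProduct

section suff

variable (A S : Type u) [CommRing A] [HenselianLocalRing A] [IsNoetherianRing A] [IsReduced A]
  [CommRing S] [IsLocalRing S] [Algebra A S] [IsLocalHom (algebraMap A S)]
  [Hensel.IsStrictHenselization A S] (D : Subalgebra A S)

theorem resE_le_of_frac (F : IntermediateField (ResidueField A) (ResidueField S))
    (j : Idx A (ResidueField S)) (h : ∀ c : j.L, rho A S (stageHom A S j c) ∈ F) :
    resE A S j ≤ F := by
  intro ω hω
  obtain ⟨z, rfl⟩ := (mem_resE A S j ω).mp hω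
  rw [← rho_stageHom A S j z]
  exact h z

theorem sufficiency
    (hF : ∀ (M : Ideal (integralClosure D (FractionRing D))) [M.IsMaximal],
      FiniteDimensional
        (Subfield.closure (Set.range
          ((algebraMap (integralClosure D (FractionRing D)) M.ResidueField).comp
            (algebraMap D (integralClosure D (FractionRing D))))))
        (separableClosure (Subfield.closure (Set.range
          ((algebraMap (integralClosure D (FractionRing D)) M.ResidueField).comp
            (algebraMap D (integralClosure D (FractionRing D)))))) M.ResidueField)) :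
    IsNoetherianRing D := by
  classical
  haveI : IsNoetherianRing S := isNoetherianRing_of_isStrictHenselization A S
  haveI : IsReduced S := isReduced_top A S
  have hfin : (minimalPrimes S).Finite := minimalPrimes.finite_of_isNoetherianRing S
  haveI : Fintype (minimalPrimes S) := hfin.fintype
  -- the finite sets from claim 1
  have h1 : ∀ Q : minimalPrimes S, ∃ Θ : Finset (ResidueField S), ∀ s : S,
      (∃ a b : D, (b : S) ∉ Q.1 ∧ s * b - a ∈ Q.1) →
      rho A S s ∈ k0 A S D ⊔
        IntermediateField.adjoin (ResidueField A) (Θ : Set (ResidueField S)) := fun Q => by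
    haveI : Q.1.IsPrime := Q.2.1.1
    exact claim1 A S D hF Q.1 Q.2
  choose Θ hΘ using h1
  let Θall : Finset (ResidueField S) := Finset.univ.biUnion Θ
  let tS : Finset S := Θall.image (Function.surjInv (rho_surjective A S))
  obtain ⟨i₀, hi₀⟩ := exists_stage_of_finset A S tS
  have hΘres : ∀ θ ∈ Θall, θ ∈ resE A S i₀ := by
    intro θ hθ
    have h2 : Function.surjInv (rho_surjective A S) θ ∈ (stageHom A S i₀).range :=
      hi₀ (Finset.mem_coe.mpr (Finset.mem_image_of_mem _ hθ))
    obtain ⟨z, hz⟩ := h2
    refine (mem_resE A S i₀ θ).mpr ⟨z, ?_⟩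
    rw [← rho_stageHom A S i₀ z]
    have hz' : stageHom A S i₀ z = Function.surjInv (rho_surjective A S) θ := hz
    rw [hz']
    exact Function.surjInv_eq (rho_surjective A S) θ
  set F : IntermediateField (ResidueField A) (ResidueField S) := k0 A S D ⊔ resE A S i₀ with hFdef
  have hΘF : ∀ Q : minimalPrimes S, k0 A S D ⊔
      IntermediateField.adjoin (ResidueField A) (Θ Q : Set (ResidueField S)) ≤ F := by
    intro Q
    refine sup_le_sup_left ?_ _
    rw [IntermediateField.adjoin_le_iff]
    intro θ hθ
    exact hΘres θ (Finset.mem_biUnion.mpr ⟨Q, Finset.mem_univ _, hθ⟩)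
  -- the Noetherian ring `E`
  haveI hEnoeth : IsNoetherianRing (EF A S F) := isNoetherianRing_EF A S F
  -- the finite `D`-algebra `G`
  let P : D ⊗[A] i₀.L →ₐ[A] S := Algebra.TensorProduct.productMap D.val (stageHom A S i₀)
  have hPrange : P.range = D ⊔ (stageHom A S i₀).range := by
    have := Algebra.TensorProduct.productMap_range D.val (stageHom A S i₀)
    rw [Subalgebra.range_val] at this
    exact this
  have hDG : D ≤ P.range := hPrange ▸ le_sup_left
  have hBG : (stageHom A S i₀).range ≤ P.range := hPrange ▸ le_sup_right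
  -- `F` is contained in the residue field of `G`
  have hFG : F ≤ resF A S P.range (inv_mem_sub A S P.range) := by
    refine sup_le ?_ ?_
    · intro ω hω
      obtain ⟨b, hb, hbω⟩ := (mem_resF A S D (inv_mem_sub A S D) ω).mp hω
      exact (mem_resF A S P.range _ ω).mpr ⟨b, hDG hb, hbω⟩
    · intro ω hω
      obtain ⟨z, hz⟩ := (mem_resE A S i₀ ω).mp hω
      refine (mem_resF A S P.range _ ω).mpr ⟨stageHom A S i₀ z, hBG ⟨z, rfl⟩, ?_⟩
      rw [rho_stageHom]; exact hz
  -- `E ≤ G`
  have hEG : EF A S F ≤ P.range := by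
    rintro s ⟨i, hi, hs⟩
    refine range_le_of_resE_le_sub A S P.range i ?_ hs
    intro ω hω
    exact (mem_resF A S P.range _ ω).mp (hFG (hi hω))
  -- `G ⊆ E + Q`
  have hGE : ∀ Q ∈ minimalPrimes S, ∀ g ∈ P.range, ∃ e ∈ EF A S F, g - e ∈ Q := by
    intro Q hQ
    haveI : Q.IsPrime := hQ.1.1
    let EQ : Subalgebra A S :=
      ((EF A S F).map (Ideal.Quotient.mkₐ A Q)).comap (Ideal.Quotient.mkₐ A Q)
    have hEQ : ∀ s : S, s ∈ EQ ↔ ∃ e ∈ EF A S F, s - e ∈ Q := by
      intro s
      show (Ideal.Quotient.mkₐ A Q s ∈ (EF A S F).map (Ideal.Quotient.mkₐ A Q)) ↔ _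
      rw [Subalgebra.mem_map]
      constructor
      · rintro ⟨e, he, hes⟩
        refine ⟨e, he, ?_⟩
        exact (Ideal.Quotient.mk_eq_mk_iff_sub_mem _ _).mp hes.symm
      · rintro ⟨e, he, hes⟩
        exact ⟨e, he, ((Ideal.Quotient.mk_eq_mk_iff_sub_mem _ _).mpr hes).symm⟩
    have hD : D ≤ EQ := by
      intro d hd
      obtain ⟨j, ⟨c, hc⟩, hj⟩ := exists_stage_frac_sub A S D Q hQ ⟨d, hd⟩
      have hjF : resE A S j ≤ F := by
        apply resE_le_of_frac
        intro c'
        exact hΘF ⟨Q, hQ⟩ (hΘ ⟨Q, hQ⟩ _ (hj c'))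
      rw [hEQ]
      refine ⟨stageHom A S j c, range_le_EF A S F j hjF ⟨c, rfl⟩, ?_⟩
      have : d - stageHom A S j c = -(stageHom A S j c - d) := by ring
      rw [this]
      exact Q.neg_mem hc
    have hB : (stageHom A S i₀).range ≤ EQ := by
      intro b hb
      rw [hEQ]
      exact ⟨b, range_le_EF A S F i₀ le_sup_right hb, by rw [sub_self]; exact Q.zero_mem⟩
    intro g hg
    rw [hPrange] at hg
    exact (hEQ g).mp ((sup_le hD hB) hg)
  -- `G` is Noetherian
  haveI hGnoeth : IsNoetherianRing P.range := by
    refine noeth_of_approx hfin (Subalgebra.inclusion hEG).toRingHom P.range.val.toRingHom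
      Subtype.val_injective ?_
    intro Q hQ g
    obtain ⟨e, he, hge⟩ := hGE Q hQ g.1 g.2
    exact ⟨⟨e, he⟩, hge⟩
  -- `G` is finite over `D`
  haveI := finite_stage A S i₀
  let π : D ⊗[A] i₀.L →+* P.range := P.rangeRestrict.toRingHom
  have hπ : Function.Surjective π := P.rangeRestrict_surjective
  letI : Algebra D P.range := (π.comp Algebra.TensorProduct.includeLeftRingHom).toAlgebra
  haveI : Module.Finite D P.range := finite_of_surjective_tensor π hπ
  refine Groth.Agent.Helper3.EakinNagata.isNoetherianRing_of_finite_injective D P.range ?_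
  intro d d' hdd'
  have h2 : ∀ x : D, ((algebraMap D P.range x : P.range) : S) = (x : S) := by
    intro x
    show P (x ⊗ₜ[A] (1 : i₀.L)) = (x : S)
    rw [Algebra.TensorProduct.productMap_apply_tmul, map_one, mul_one]
    rfl
  apply Subtype.ext
  rw [← h2, ← h2, hdd']

end suff

end Groth.Agent.Helper2.NoeI
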