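import Mathlib
import Groth.Prelude
import Groth.Agent.Helper2.NoeI3
import Groth.Agent.Helper2.HensMinExt
import Groth.Agent.Helper1.HensStrict

set_option autoImplicit false
set_option linter.style.haveILetI false
set_option linter.unusedSectionVars false
set_option linter.unusedVariables false

universe u v w

/-!
# S16435, part 11: necessity
-/

namespace Groth.Agent.Helper2.NoeI

open Cardinal Polynomial IsLocalRing Groth.Agent.Helper1.Hens Groth.Agent.Helper1
  Groth.Agent.Helper2.HExt

/-- finitely many embeddings into an algebraically closed field force the separable closure to be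
finite -/
theorem finite_sepClosure_of_finite_algHom (F : Type u) (K : Type v) (Ω : Type w) [Field F]
    [Field K] [Field Ω] [Algebra F K] [Algebra F Ω] [Algebra.IsAlgebraic F K] [IsAlgClosed Ω]
    [Finite (K →ₐ[F] Ω)] : FiniteDimensional F (separableClosure F K) := by
  haveI : Finite (Field.Emb F K) := Finite.of_equiv _ (Field.embEquivOfIsAlgClosed F K Ω).symm
  have h1 := Field.Emb.cardinal_eq (F := F) (E := K)
  have h2 : #(Field.Emb F K) < ℵ₀ := Cardinal.lt_aleph0_of_finite _
  have h3 : Field.sepDegree F K < ℵ₀ := by
    by_contra h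
    rw [not_lt] at h
    rw [h1] at h2
    simp only [if_pos h] at h2
    exact absurd (h.trans (Cardinal.cantor _).le) (not_le.mpr h2)
  exact Module.rank_lt_aleph0_iff.mp h3

/-- the abstract form of the finiteness of the separable closure of the residue field -/
theorem finite_sepClosure_of_finite_emb (D : Type u) [CommRing D] [IsLocalRing D] (K : Type u)
    [Field K] (ρ : D →+* K) (hint : ρ.IsIntegral)
    (hfin : Finite {σ : K →+* AlgebraicClosure (ResidueField D) // σ.comp ρ = Brnch.toClosure D}) :
    FiniteDimensional (Subfield.closure (Set.range ρ))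
      (separableClosure (Subfield.closure (Set.range ρ)) K) := by
  have hmax : (RingHom.ker ρ).IsMaximal := by
    have : ((⊥ : Ideal K).comap ρ).IsMaximal :=
      Ideal.isMaximal_comap_of_isIntegral_of_isMaximal' ρ hint ⊥
    exact this
  have hker : RingHom.ker ρ = maximalIdeal D := IsLocalRing.eq_maximalIdeal hmax
  let ρb : ResidueField D →+* K := Ideal.Quotient.lift (maximalIdeal D) ρ (fun a ha => by
    rw [← hker] at ha; exact ha)
  have hρb : ∀ d : D, ρb (residue D d) = ρ d := fun d => Ideal.Quotient.lift_mk _ _ _
  set k₀ : Subfield K := Subfield.closure (Set.range ρ) with hk₀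
  have hle : k₀ ≤ ρb.fieldRange := by
    rw [hk₀, Subfield.closure_le]
    rintro _ ⟨d, rfl⟩
    exact ⟨residue D d, hρb d⟩
  have hmem : ∀ y : ResidueField D, ρb y ∈ k₀ := by
    intro y
    obtain ⟨d, rfl⟩ := residue_surjective y
    rw [hρb]
    exact Subfield.subset_closure ⟨d, rfl⟩
  let e₀ : ResidueField D →+* k₀ := ρb.codRestrict k₀ hmem
  have he₀ : Function.Bijective e₀ := by
    refine ⟨e₀.injective, ?_⟩
    rintro ⟨x, hx⟩
    obtain ⟨y, hy⟩ := hle hx
    exact ⟨y, Subtype.ext hy⟩
  let e : ResidueField D ≃+* k₀ := RingEquiv.ofBijective e₀ he₀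
  let Ω := AlgebraicClosure (ResidueField D)
  letI algΩ : Algebra k₀ Ω := ((algebraMap (ResidueField D) Ω).comp e.symm.toRingHom).toAlgebra
  let ρ₀ : D →+* k₀ := ρ.codRestrict k₀ (fun d => Subfield.subset_closure ⟨d, rfl⟩)
  have hρ₀ : (algebraMap k₀ K).comp ρ₀ = ρ := by ext d; rfl
  haveI : Algebra.IsAlgebraic k₀ K := by
    haveI : Algebra.IsIntegral k₀ K := by
      refine ⟨fun x => ?_⟩
      obtain ⟨p, hp, hpx⟩ := hint x
      refine ⟨p.map ρ₀, hp.map _, ?_⟩
      rw [eval₂_map, hρ₀]
      exact hpx
    infer_instance
  have heρ : ∀ d : D, e.symm (ρ₀ d) = residue D d := by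
    intro d
    rw [RingEquiv.symm_apply_eq]
    apply Subtype.ext
    show ρ d = ρb (residue D d)
    rw [hρb]
  let Φ : (K →ₐ[k₀] Ω) → {σ : K →+* Ω // σ.comp ρ = Brnch.toClosure D} := fun τ =>
    ⟨τ.toRingHom, by
      ext d
      show τ (ρ d) = _
      have h1 : ρ d = algebraMap k₀ K (ρ₀ d) := rfl
      rw [h1, τ.commutes]
      show algebraMap (ResidueField D) Ω (e.symm (ρ₀ d)) = _
      rw [heρ]
      rfl⟩
  have hΦ : Function.Injective Φ := by
    intro τ τ' h
    have h1 : τ.toRingHom = τ'.toRingHom := congrArg Subtype.val h
    exact AlgHom.coe_ringHom_injective h1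
  haveI : Finite (K →ₐ[k₀] Ω) := Finite.of_injective Φ hΦ
  exact finite_sepClosure_of_finite_algHom k₀ K Ω

section nec

variable (D : Type u) [CommRing D] [IsLocalRing D] [IsReduced D] [IsNoetherianRing D]

/-- the embedding sets of a Noetherian local ring are finite -/
theorem finite_emb (m' : MaximalSpectrum (CAlg2.normRed D)) : Finite (Brnch.Emb D m') := by
  classical
  let T := Hens D (SeparableClosure (ResidueField D))
  haveI hT : Hensel.IsStrictHenselization D T := Hens.isStrictHenselization
  haveI : IsNoetherianRing T := isNoetherianRing_of_isStrictHenselization D T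
  have h1 := Groth.Agent.Helper2.Brnch.s9238 D T
  have hfinT : (minimalPrimes T).Finite := minimalPrimes.finite_of_isNoetherianRing T
  have hfinD : (minimalPrimes D).Finite := minimalPrimes.finite_of_isNoetherianRing D
  have h2 : ENat.card (minimalPrimes T) < ⊤ := by
    haveI : Finite (minimalPrimes T) := hfinT.to_subtype
    exact ENat.card_lt_top.mpr inferInstance
  rw [h1] at h2
  unfold _root_.Brnch.numGeomBranches at h2
  rw [if_pos hfinD] at h2
  haveI : Finite (Σ m' : MaximalSpectrum (CAlg2.normRed D), Brnch.Emb D m') :=
    ENat.card_lt_top.mp h2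
  exact Finite.of_injective (fun σ => (⟨m', σ⟩ : Σ m' : MaximalSpectrum (CAlg2.normRed D),
    Brnch.Emb D m')) sigma_mk_injective

theorem necessity_aux (M : Ideal (integralClosure D (FractionRing D))) [M.IsMaximal] :
    FiniteDimensional
      (Subfield.closure (Set.range
        ((algebraMap (integralClosure D (FractionRing D)) M.ResidueField).comp
          (algebraMap D (integralClosure D (FractionRing D))))))
      (separableClosure (Subfield.closure (Set.range
        ((algebraMap (integralClosure D (FractionRing D)) M.ResidueField).comp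
          (algebraMap D (integralClosure D (FractionRing D)))))) M.ResidueField) := by
  apply finite_sepClosure_of_finite_emb D M.ResidueField
  · refine RingHom.IsIntegral.trans _ _ ?_ ?_
    · exact algebraMap_isIntegral_iff.mpr inferInstance
    · exact RingHom.isIntegral_of_surjective _ (Ideal.algebraMap_residueField_surjective M)
  · let ν := Groth.Agent.Helper2.HensMinExt.normRedEquiv D
    let m'I : Ideal (CAlg2.normRed D) := M.comap ν.toRingHom
    haveI hm' : m'I.IsMaximal := Ideal.comap_isMaximal_of_surjective _ ν.surjective
    let m' : MaximalSpectrum (CAlg2.normRed D) := ⟨m'I, hm'⟩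
    haveI := finite_emb D m'
    let K := M.ResidueField
    let ξ : CAlg2.normRed D ⧸ m'.asIdeal →+* K :=
      Ideal.Quotient.lift m'.asIdeal
        ((algebraMap (integralClosure D (FractionRing D)) K).comp ν.toRingHom) (fun a ha => by
          show algebraMap (integralClosure D (FractionRing D)) M.ResidueField (ν a) = 0
          rw [Ideal.algebraMap_residueField_eq_zero]
          exact ha)
    have hξ : Function.Surjective ξ := by
      intro x
      obtain ⟨y, rfl⟩ := Ideal.algebraMap_residueField_surjective M x
      obtain ⟨z, rfl⟩ := ν.surjective y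
      exact ⟨Ideal.Quotient.mk _ z, rfl⟩
    have hξres : ∀ d : D, ξ (Brnch.toResidue D m' d) =
        ((algebraMap (integralClosure D (FractionRing D)) M.ResidueField).comp
          (algebraMap D (integralClosure D (FractionRing D)))) d := by
      intro d
      show algebraMap (integralClosure D (FractionRing D)) M.ResidueField
        (ν (algebraMap (CAlg2.red D) (CAlg2.normRed D) (Ideal.Quotient.mk (nilradical D) d))) = _
      rw [Groth.Agent.Helper2.HensMinExt.normRedEquiv_algebraMap]
      rfl
    let Φ : {σ : K →+* AlgebraicClosure (ResidueField D) //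
        σ.comp ((algebraMap (integralClosure D (FractionRing D)) M.ResidueField).comp
          (algebraMap D (integralClosure D (FractionRing D)))) = Brnch.toClosure D} →
        Brnch.Emb D m' := fun σ => ⟨σ.1.comp ξ, by
      ext d
      show σ.1 (ξ (Brnch.toResidue D m' d)) = _
      rw [hξres]
      exact RingHom.congr_fun σ.2 d⟩
    have hΦ : Function.Injective Φ := by
      intro σ σ' h
      apply Subtype.ext
      have h1 : σ.1.comp ξ = σ'.1.comp ξ := congrArg Subtype.val h
      exact (RingHom.cancel_right hξ).mp h1
    exact Finite.of_injective Φ hΦ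

end nec

end Groth.Agent.Helper2.NoeI
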