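import Mathlib
import Groth.Prelude
import Groth.Agent.Helper2.NoeI10
import Groth.Agent.Helper2.NoeI11

set_option autoImplicit false
set_option linter.style.haveILetI false
set_option linter.unusedSectionVars false
set_option linter.unusedVariables false

universe u

/-!
# S16435: main theorem
-/

namespace Groth.Agent.Helper2.NoeI

open IsLocalRing Groth.Agent.Helper2.HExt

theorem main (A S : Type u) [CommRing A] [HenselianLocalRing A] [IsNoetherianRing A] [IsReduced A]
    [CommRing S] [IsLocalRing S] [Algebra A S] [IsLocalHom (algebraMap A S)]
    [Hensel.IsStrictHenselization A S] (D : Subalgebra A S) :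
    IsNoetherianRing D ↔
      ∀ (M : Ideal (integralClosure D (FractionRing D))) [M.IsMaximal],
        FiniteDimensional (Subfield.closure (Set.range ((algebraMap (integralClosure D (FractionRing D)) M.ResidueField).comp (algebraMap D (integralClosure D (FractionRing D)))))) (separableClosure (Subfield.closure (Set.range ((algebraMap (integralClosure D (FractionRing D)) M.ResidueField).comp (algebraMap D (integralClosure D (FractionRing D)))))) M.ResidueField) := by
  constructor
  · intro hD M _
    haveI := isIntegral_of_henselian A S
    haveI : IsLocalRing D := isLocalRing_sub D
    haveI : IsReduced D := isReduced_sub A S D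
    exact necessity_aux D M
  · intro hF
    exact sufficiency A S D hF

end Groth.Agent.Helper2.NoeI
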