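import Mathlib
set_option autoImplicit false
universe u

namespace Groth.Agent.Helper2.NoethDom

/-- In a Noetherian domain, below a nonzero prime `P` and avoiding a finite set `T` of primes none of
which contains `P`, there is a nonzero prime `Q' ≤ P` all of whose strictly smaller primes vanish. -/
lemma exists_small_prime (B : Type u) [CommRing B] [IsDomain B] [IsNoetherianRing B]
    (P : Ideal B) [P.IsPrime] (hP : P ≠ ⊥) (T : Finset (Ideal B)) (hT : ∀ Q ∈ T, Q.IsPrime ∧ ¬ P ≤ Q) :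
    ∃ Q' : Ideal B, Q'.IsPrime ∧ Q' ≠ ⊥ ∧ Q' ≤ P ∧ Q' ∉ T ∧
      ∀ Q'' : Ideal B, Q''.IsPrime → Q'' < Q' → Q'' = ⊥ := by
  classical
  -- an element of P outside the union of T, nonzero
  have hx : ∃ x ∈ P, x ≠ 0 ∧ ∀ Q ∈ T, x ∉ Q := by
    by_cases hTe : T = ∅
    · obtain ⟨x, hxP, hx0⟩ := Submodule.exists_mem_ne_zero_of_ne_bot hP
      exact ⟨x, hxP, hx0, by simp [hTe]⟩
    · have hnot : ¬ ((P : Set B) ⊆ ⋃ i ∈ (↑T : Set (Ideal B)), ((fun Q => Q) i : Ideal B)) := by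
        obtain ⟨Q0, hQ0⟩ := Finset.nonempty_iff_ne_empty.mpr hTe
        rw [Ideal.subset_union_prime (f := fun Q => Q) Q0 Q0 (fun i hi _ _ => (hT i hi).1)]
        rintro ⟨Q, hQ, hPQ⟩
        exact (hT Q hQ).2 hPQ
      rw [Set.not_subset] at hnot
      obtain ⟨x, hxP, hxU⟩ := hnot
      simp only [Finset.mem_coe, Set.mem_iUnion, SetLike.mem_coe, exists_prop, not_exists, not_and] at hxU
      refine ⟨x, hxP, ?_, hxU⟩
      rintro rfl
      obtain ⟨Q0, hQ0⟩ := Finset.nonempty_iff_ne_empty.mpr hTe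
      exact hxU Q0 hQ0 (zero_mem _)
  obtain ⟨x, hxP, hx0, hxT⟩ := hx
  have hle : Ideal.span {x} ≤ P := (Ideal.span_singleton_le_iff_mem P).mpr hxP
  obtain ⟨Q', hQ'min, hQ'P⟩ := Ideal.exists_minimalPrimes_le hle
  have hQ'prime : Q'.IsPrime := hQ'min.1.1
  have hxQ' : x ∈ Q' := hQ'min.1.2 (Ideal.mem_span_singleton_self x)
  refine ⟨Q', hQ'prime, ?_, hQ'P, fun h => hxT Q' h hxQ', ?_⟩
  · intro h; rw [h] at hxQ'; exact hx0 ((Submodule.mem_bot B).mp hxQ')
  · intro Q'' hQ''prime hlt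
    have hht : Q'.height ≤ 1 := Ideal.height_le_one_of_isPrincipal_of_mem_minimalPrimes _ Q' hQ'min
    have h1 := (Ideal.height_le_iff (n := 1)).mp (by exact_mod_cast hht) Q'' hQ''prime hlt
    have h0 : Q''.height = 0 := by
      have : Q''.height < 1 := by exact_mod_cast h1
      exact Order.lt_one_iff.mp this
    rw [Ideal.height_eq_zero_iff, IsDomain.minimalPrimes_eq_singleton_bot] at h0
    exact h0

end Groth.Agent.Helper2.NoethDom
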