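import Mathlib
import Groth.Prelude
import Groth.Agent.Helper2.FPHom5

/-!
# `QCoh(X)` is abelian and cocomplete
-/

set_option autoImplicit false
universe u
open CategoryTheory CategoryTheory.Limits AlgebraicGeometry TopologicalSpace Opposite

namespace Groth.Agent.Helper2.QCAb

open Groth.Agent.Helper4 Groth.Agent.Helper2.FPHom ZeroObject

variable (X : Scheme.{u})

instance isClosedUnderKernels_isQCoh : (QCohCat.isQCoh X).IsClosedUnderKernels where
  kernels_le := by
    rintro _ ⟨f, k, hk, ⟨hA, hB⟩⟩
    rename_i A B
    have hA' : A.IsQuasicoherent := hA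
    have hB' : B.IsQuasicoherent := hB
    have h := QcohLimits.isQuasicoherent_kernel f (hF := hA') (hG := hB')
    exact QcohLimits.isQuasicoherent_of_iso
      ((kernelIsKernel f).conePointUniqueUpToIso hk) (hF := h)

instance isClosedUnderCokernels_isQCoh : (QCohCat.isQCoh X).IsClosedUnderCokernels where
  cokernels_le := by
    rintro _ ⟨f, k, hk, ⟨hA, hB⟩⟩
    rename_i A B
    have hA' : A.IsQuasicoherent := hA
    have hB' : B.IsQuasicoherent := hB
    have h := QcohLimits.isQuasicoherent_cokernel f (hF := hA') (hG := hB')
    exact QcohLimits.isQuasicoherent_of_iso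
      ((cokernelIsCokernel f).coconePointUniqueUpToIso hk) (hF := h)

instance isClosedUnderFiniteProducts_isQCoh : (QCohCat.isQCoh X).IsClosedUnderFiniteProducts where
  isClosedUnderLimitsOfShape J _ := by
    haveI := Fintype.ofFinite J
    exact ObjectProperty.IsClosedUnderLimitsOfShape.mk' (by
      rintro _ ⟨D, hD⟩
      exact QcohLimits.isQuasicoherent_limit D hD)

instance containsZero_isQCoh : (QCohCat.isQCoh X).ContainsZero where
  exists_zero := by
    refine ⟨(0 : X.Modules), isZero_zero _, ?_⟩
    haveI := Groth.Agent.Helper2.FPCol.isFP_of_isZero (isZero_zero X.Modules)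
    exact (inferInstance : (0 : X.Modules).IsQuasicoherent)

noncomputable instance abelian_QCoh : Abelian (QCohCat.QCoh X) :=
  inferInstanceAs (Abelian (QCohCat.isQCoh X).FullSubcategory)

instance hasColimits_QCoh : HasColimitsOfSize.{u, u} (QCohCat.QCoh X) where
  has_colimits_of_shape J _ :=
    inferInstanceAs (HasColimitsOfShape J (QCohCat.isQCoh X).FullSubcategory)

end Groth.Agent.Helper2.QCAb
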