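import Mathlib
import Groth.Prelude
import Groth.Agent.Helper2.QCAb1
import Groth.Agent.Helper4.FTLift
import Groth.Agent.Helper4.SubExt
import Groth.Agent.Helper4.AffineDict
import Groth.Agent.Helper4.SecDict
import Groth.Agent.Helper4.QcohLocal

/-!
# Noetherian objects of `QCoh(Y)` for a noetherian scheme `Y`
-/

set_option autoImplicit false
universe u
open CategoryTheory CategoryTheory.Limits AlgebraicGeometry TopologicalSpace Opposite

namespace Groth.Agent.Helper2.NoethObj

open Groth.Agent.Helper4 Groth.Agent.Helper2.QCAb Groth.Agent.Helper1.EpiColim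

theorem wellFoundedGT_pi {ι : Type*} [Finite ι] {α : ι → Type*} [∀ i, Preorder (α i)]
    [∀ i, WellFoundedGT (α i)] : WellFoundedGT (∀ i, α i) :=
  ⟨(Pi.wellFoundedLT (α := fun i => (α i)ᵒᵈ)).wf⟩

variable {Y : Scheme.{u}}

theorem mono_hom {A B : QCohCat.QCoh Y} (f : A ⟶ B) [Mono f] : Mono f.hom := by
  haveI := (QCohCat.isQCoh Y).preservesMonomorphisms_ι_of_isNormalEpiCategory
  exact (inferInstance : Mono ((QCohCat.isQCoh Y).ι.map f))

/-- the section-range of a subobject over an open -/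
noncomputable def secRange {M : QCohCat.QCoh Y} (S : Subobject M) (V : Y.Opens) :
    Submodule Γ(Y, V) Γ(M.obj, V) :=
  LinearMap.range (appLin S.arrow.hom V)

theorem secRange_mono {M : QCohCat.QCoh Y} {S S' : Subobject M} (h : S ≤ S') (V : Y.Opens) :
    secRange S V ≤ secRange S' V := by
  rintro _ ⟨s, rfl⟩
  refine ⟨(Subobject.ofLE S S' h).hom.app V s, ?_⟩
  have h1 : (Subobject.ofLE S S' h).hom ≫ S'.arrow.hom = S.arrow.hom :=
    congrArg (fun z : (S : QCohCat.QCoh Y) ⟶ M => z.hom) (Subobject.ofLE_arrow h)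
  exact congrArg (fun ψ : (S : QCohCat.QCoh Y).obj ⟶ M.obj => ψ.app V s) h1

theorem le_of_secRange_le {M : QCohCat.QCoh Y} {S S' : Subobject M} (h : S ≤ S')
    (hcov : ∀ y : Y, ∃ V : Y.Opens, IsAffineOpen V ∧ y ∈ V ∧ secRange S' V ≤ secRange S V) :
    S' ≤ S := by
  let j := Subobject.ofLE S S' h
  haveI : Mono j.hom := mono_hom j
  haveI : Mono S'.arrow.hom := mono_hom _
  have h1 : j.hom ≫ S'.arrow.hom = S.arrow.hom :=
    congrArg (fun z : (S : QCohCat.QCoh Y) ⟶ M => z.hom) (Subobject.ofLE_arrow h)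
  have hiso : IsIso j.hom := by
    haveI : (S : QCohCat.QCoh Y).obj.IsQuasicoherent := (S : QCohCat.QCoh Y).property
    haveI : (S' : QCohCat.QCoh Y).obj.IsQuasicoherent := (S' : QCohCat.QCoh Y).property
    apply QcohLocal.isIso_of_app_bijective_of_affine_cover
    intro y
    obtain ⟨V, hV, hy, hle⟩ := hcov y
    refine ⟨V, hV, hy, AffineDict.app_injective_of_mono j.hom V, ?_⟩
    intro s'
    obtain ⟨s, hs⟩ := hle ⟨s', rfl⟩
    refine ⟨s, ?_⟩
    apply AffineDict.app_injective_of_mono S'.arrow.hom V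
    have h2 := congrArg (fun ψ : (S : QCohCat.QCoh Y).obj ⟶ M.obj => ψ.app V s) h1
    exact h2.trans hs
  haveI : IsIso j := (ObjectProperty.isIso_hom_iff j).mp hiso
  refine Subobject.le_of_comm (inv j) ?_
  rw [IsIso.inv_comp_eq]
  exact (Subobject.ofLE_arrow h).symm

theorem isNoetherianObject_of_isFT [IsNoetherian Y] (M : QCohCat.QCoh Y)
    (hM : SheafOfModules.IsFiniteType (R := Y.ringCatSheaf) M.obj) : IsNoetherianObject M := by
  classical
  haveI : M.obj.IsQuasicoherent := M.property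
  choose V hV hxV using fun x : Y => QcohLimits.exists_affine_nhd x
  obtain ⟨T, hT⟩ := isCompact_univ.elim_finite_subcover (fun x => ((V x : Y.Opens) : Set Y))
    (fun x => (V x).isOpen) (fun x _ => Set.mem_iUnion.2 ⟨x, hxV x⟩)
  have hN : ∀ a : T, WellFoundedGT (Submodule Γ(Y, V a.1) Γ(M.obj, V a.1)) := by
    intro a
    haveI : IsNoetherianRing Γ(Y, V a.1) :=
      IsLocallyNoetherian.component_noetherian ⟨V a.1, hV a.1⟩
    haveI : Module.Finite Γ(Y, V a.1) Γ(M.obj, V a.1) :=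
      SecDict.finite_sections (hV a.1) M.obj inferInstance hM
    haveI : IsNoetherian Γ(Y, V a.1) Γ(M.obj, V a.1) :=
      isNoetherian_of_isNoetherianRing_of_finite _ _
    infer_instance
  let Φ : Subobject M → ∀ a : T, Submodule Γ(Y, V a.1) Γ(M.obj, V a.1) :=
    fun S a => secRange S (V a.1)
  have hΦ : StrictMono Φ := by
    intro S S' hlt
    refine lt_of_le_of_ne (fun a => secRange_mono hlt.le _) ?_
    intro heq
    apply hlt.not_ge
    apply le_of_secRange_le hlt.le
    intro y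
    obtain ⟨x, hx⟩ := Set.mem_iUnion.1 (hT (Set.mem_univ y))
    obtain ⟨hxT, hyx⟩ := Set.mem_iUnion.1 hx
    refine ⟨V x, hV x, hyx, ?_⟩
    exact (congrFun heq ⟨x, hxT⟩).ge
  haveI := wellFoundedGT_pi (α := fun a : T => Submodule Γ(Y, V a.1) Γ(M.obj, V a.1))
  exact ⟨hΦ.wellFoundedGT⟩

theorem isFT_of_isNoetherianObject [CompactSpace Y] [QuasiSeparatedSpace Y] (M : QCohCat.QCoh Y)
    [IsNoetherianObject M] : SheafOfModules.IsFiniteType (R := Y.ringCatSheaf) M.obj := by
  haveI : M.obj.IsQuasicoherent := M.property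
  let 𝒮 : Set (Subobject M) :=
    {S | SheafOfModules.IsFiniteType (R := Y.ringCatSheaf) (S : QCohCat.QCoh Y).obj}
  -- a way to produce members of `𝒮`
  have hmk : ∀ (K : Y.Modules) (i : K ⟶ M.obj) (_ : Mono i) (hKq : K.IsQuasicoherent)
      (_ : SheafOfModules.IsFiniteType (R := Y.ringCatSheaf) K),
      ∃ (S : Subobject M) (_ : S ∈ 𝒮) (e : (S : QCohCat.QCoh Y).obj ≅ K), e.hom ≫ i = S.arrow.hom := by
    intro K i hi hKq hKft
    let K' : QCohCat.QCoh Y := ⟨K, hKq⟩
    let i' : K' ⟶ M := ObjectProperty.homMk i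
    haveI : Mono i' := by
      apply (QCohCat.isQCoh Y).ι.mono_of_mono_map
      exact hi
    let e := (QCohCat.isQCoh Y).ι.mapIso (Subobject.underlyingIso i')
    have he : e.hom ≫ i = (Subobject.mk i').arrow.hom :=
      congrArg (fun z : ((Subobject.mk i' : Subobject M) : QCohCat.QCoh Y) ⟶ M => z.hom)
        (Subobject.underlyingIso_hom_comp_eq_mk i')
    refine ⟨Subobject.mk i', ?_, e, he⟩
    haveI : K.IsQuasicoherent := hKq
    haveI : ((Subobject.mk i' : Subobject M) : QCohCat.QCoh Y).obj.IsQuasicoherent :=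
      ((Subobject.mk i' : Subobject M) : QCohCat.QCoh Y).property
    let e' : K ≅ ((Subobject.mk i' : Subobject M) : QCohCat.QCoh Y).obj := e.symm
    exact QcohEpi.isFiniteType_of_epi e'.hom hKft
  have hne : 𝒮.Nonempty := by
    obtain ⟨K, i, hi, hKq, hKft, -⟩ :=
      SubExt.exists_submodule_through_section M.obj ⊤ isCompact_univ (0 : Γ(M.obj, ⊤))
    obtain ⟨S, hS, -⟩ := hmk K i hi hKq hKft
    exact ⟨S, hS⟩
  obtain ⟨S₀, hS₀, hmax⟩ := WellFounded.has_min (wellFounded_gt (α := Subobject M)) 𝒮 hne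
  haveI : Mono S₀.arrow.hom := mono_hom _
  haveI hS₀q : (S₀ : QCohCat.QCoh Y).obj.IsQuasicoherent := (S₀ : QCohCat.QCoh Y).property
  haveI : Epi S₀.arrow.hom := by
    apply QcohLocal.epi_of_app_surjective_of_affine_cover
    intro y
    obtain ⟨V, hV, hyV⟩ := QcohLimits.exists_affine_nhd y
    refine ⟨V, hV, hyV, fun m => ?_⟩
    obtain ⟨K, i, hi, hKq, hKft, k, hk⟩ :=
      SubExt.exists_submodule_through_section M.obj V hV.isCompact m
    haveI := hKq
    obtain ⟨K', i', j1, j2, hi', hK'q, hK'ft, hj1, hj2⟩ :=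
      FTLift.exists_sum_sub M.obj S₀.arrow.hom i hS₀ hKft
    obtain ⟨S', hS', e, he⟩ := hmk K' i' hi' hK'q hK'ft
    have hle : S₀ ≤ S' := by
      refine Subobject.le_of_comm (ObjectProperty.homMk (j1 ≫ e.inv)) ?_
      apply ObjectProperty.hom_ext
      change (j1 ≫ e.inv) ≫ S'.arrow.hom = S₀.arrow.hom
      rw [← he, Category.assoc, Iso.inv_hom_id_assoc, hj1]
    have heq : S' = S₀ := by
      by_contra hne'
      exact hmax S' hS' (lt_of_le_of_ne hle (Ne.symm hne'))
    have hm : m ∈ secRange S' V := by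
      refine ⟨e.inv.app V (j2.app V k), ?_⟩
      have h1 : (j2 ≫ e.inv) ≫ S'.arrow.hom = i := by
        rw [← he, Category.assoc, Iso.inv_hom_id_assoc, hj2]
      have h2 := congrArg (fun ψ : K ⟶ M.obj => ψ.app V k) h1
      exact h2.trans hk
    rw [heq] at hm
    obtain ⟨s, hs⟩ := hm
    exact ⟨s, hs⟩
  haveI : IsIso S₀.arrow.hom := isIso_of_mono_of_epi _
  exact QcohEpi.isFiniteType_of_epi S₀.arrow.hom hS₀

end Groth.Agent.Helper2.NoethObj
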