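import Mathlib
import Groth.Prelude.Def_EGA4b
import Groth.Agent.Helper2.RedBC
import Groth.Agent.Helper2.GeomNor
set_option autoImplicit false
universe u
open IsLocalRing TensorProduct

namespace Groth.Agent.Helper2.NorDim1

section A
variable (A A' : Type u) [CommRing A] [CommRing A'] [IsLocalRing A] [IsLocalRing A'] [Algebra A A']
  [IsLocalHom (algebraMap A A')]

/-- the fibre over the closed point is `A'/mA'`. -/
theorem nonempty_fiber_equiv :
    Nonempty ((maximalIdeal A).Fiber A' ≃+* A' ⧸ (maximalIdeal A).map (algebraMap A A')) := by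
  have hM : Algebra.algebraMapSubmonoid A' (maximalIdeal A).primeCompl ≤ IsUnit.submonoid A' := by
    rintro _ ⟨a, ha, rfl⟩
    have : IsUnit a := by
      by_contra h
      exact ha ((IsLocalRing.mem_maximalIdeal a).mpr h)
    exact this.map _
  let e : A' ≃ₐ[A'] Localization (Algebra.algebraMapSubmonoid A' (maximalIdeal A).primeCompl) :=
    IsLocalization.atUnits A' _ hM
  let e1 := Ideal.Fiber.algEquivAux₁ (maximalIdeal A) (S := A')
  have e2 : A' ⧸ (maximalIdeal A).map (algebraMap A A') ≃+*
      Localization (Algebra.algebraMapSubmonoid A' (maximalIdeal A).primeCompl) ⧸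
        ((maximalIdeal A).map (algebraMap A A')).map (algebraMap A' _) :=
    Ideal.quotientEquiv _ _ e.toRingEquiv (by congr 1)
  letI : Algebra A' ((maximalIdeal A).Fiber A') := Algebra.TensorProduct.rightAlgebra
  exact ⟨e1.toRingEquiv.trans e2.symm⟩

end A

theorem isDomain_of_isNormalRing_local (B : Type u) [CommRing B] [IsLocalRing B]
    (h : EGA4.IsNormalRing B) : IsDomain B := by
  obtain ⟨h1, -⟩ := h (maximalIdeal B)
  have hle : (maximalIdeal B).primeCompl ≤ nonZeroDivisors B := by
    intro x hx
    have : IsUnit x := by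
      by_contra hu
      exact hx ((IsLocalRing.mem_maximalIdeal x).mpr hu)
    exact this.mem_nonZeroDivisors
  exact (IsLocalization.injective (Localization.AtPrime (maximalIdeal B)) hle).isDomain

theorem main (A A' : Type u) [CommRing A] [CommRing A']
    [IsNoetherianRing A] [IsNoetherianRing A'] [IsLocalRing A] [IsLocalRing A'] [IsDomain A]
    (hA : ringKrullDim A = 1) [Algebra A A'] [IsLocalHom (algebraMap A A')]
    (h : EGA4.IsNormalHom A A') :
    ((IsLocalRing.maximalIdeal A).map (algebraMap A A')).IsPrime ∧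
      ((IsLocalRing.maximalIdeal A).map (algebraMap A A')).height = 1 := by
  obtain ⟨e⟩ := nonempty_fiber_equiv A A'
  have hn : EGA4.IsNormalRing (A' ⧸ (maximalIdeal A).map (algebraMap A A')) :=
    Groth.Agent.Helper2.GeomNor.isNormalRing_of_ringEquiv e
      (Groth.Agent.Helper2.RedBC.normal_of_geomNormal_self (h.2 (maximalIdeal A)))
  have hle : (maximalIdeal A).map (algebraMap A A') ≤ maximalIdeal A' :=
    IsLocalRing.map_maximalIdeal_le _
  have hne : (maximalIdeal A).map (algebraMap A A') ≠ ⊤ :=
    fun htop => (IsLocalRing.maximalIdeal.isMaximal A').ne_top (top_le_iff.mp (htop ▸ hle))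
  haveI : Nontrivial (A' ⧸ (maximalIdeal A).map (algebraMap A A')) :=
    Ideal.Quotient.nontrivial_iff.mpr hne
  haveI : IsLocalRing (A' ⧸ (maximalIdeal A).map (algebraMap A A')) :=
    IsLocalRing.of_surjective' _ Ideal.Quotient.mk_surjective
  haveI hd : IsDomain (A' ⧸ (maximalIdeal A).map (algebraMap A A')) :=
    isDomain_of_isNormalRing_local _ hn
  haveI hP : ((maximalIdeal A).map (algebraMap A A')).IsPrime :=
    (Ideal.Quotient.isDomain_iff_prime _).mp hd
  refine ⟨hP, ?_⟩
  haveI : ((maximalIdeal A).map (algebraMap A A')).LiesOver (maximalIdeal A) := by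
    constructor
    exact (IsLocalRing.maximalIdeal.isMaximal A).eq_of_le (Ideal.comap_ne_top _ hne)
      Ideal.le_comap_map
  haveI := h.1
  have hm : (maximalIdeal A).height = 1 := by
    have h1 := IsLocalRing.maximalIdeal_height_eq_ringKrullDim (R := A)
    rw [hA] at h1
    exact_mod_cast h1
  rw [Ideal.height_eq_height_add_of_liesOver_of_hasGoingDown (maximalIdeal A)
    ((maximalIdeal A).map (algebraMap A A')), hm, Ideal.map_quotient_self, Ideal.height_bot,
    add_zero]

end Groth.Agent.Helper2.NorDim1
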