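import Groth.Prelude.Def_Curv2
import Groth.Agent.Helper2.StalkDict
import Groth.Agent.Helper2.NorGen5
import Groth.Agent.Helper3.GeomRedPt3
import Mathlib

set_option autoImplicit false
universe u
open CategoryTheory CategoryTheory.Limits AlgebraicGeometry Opposite TensorProduct

namespace Groth.Agent.Helper2.NorSch

open Groth.Agent.Helper5.GeomRed Groth.Agent.Helper5.StalkRed Groth.Agent.Helper4.GeomRedPt
  Groth.Agent.Helper2.StalkDict Groth.Agent.Helper2.GeomNor Groth.Agent.Helper2.NorGen4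

section Affine
variable (k R R' : Type u) [CommRing k] [CommRing R] [CommRing R'] [Algebra k R] [Algebra k R']

theorem normal_stalk_pullbackSpec (h : EGA4.IsNormalRing (R ⊗[k] R'))
    (w : ↥(pullback (Spec.map (CommRingCat.ofHom (algebraMap k R)))
      (Spec.map (CommRingCat.ofHom (algebraMap k R'))))) :
    IsDomain ((pullback (Spec.map (CommRingCat.ofHom (algebraMap k R)))
      (Spec.map (CommRingCat.ofHom (algebraMap k R')))).presheaf.stalk w) ∧
    IsIntegrallyClosed ((pullback (Spec.map (CommRingCat.ofHom (algebraMap k R)))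
      (Spec.map (CommRingCat.ofHom (algebraMap k R')))).presheaf.stalk w) := by
  obtain ⟨e⟩ := nonempty_stalk_pullbackSpec_equiv k R R' w
  obtain ⟨h1, h2⟩ := h ((pullbackSpecIso k R R').hom w).asIdeal
  exact ⟨e.toMulEquiv.isDomain _, IsIntegrallyClosed.of_equiv e.symm⟩

theorem isNormalRing_of_stalks
    (h : ∀ w : ↥(pullback (Spec.map (CommRingCat.ofHom (algebraMap k R)))
      (Spec.map (CommRingCat.ofHom (algebraMap k R')))),
      IsDomain ((pullback (Spec.map (CommRingCat.ofHom (algebraMap k R)))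
        (Spec.map (CommRingCat.ofHom (algebraMap k R')))).presheaf.stalk w) ∧
      IsIntegrallyClosed ((pullback (Spec.map (CommRingCat.ofHom (algebraMap k R)))
        (Spec.map (CommRingCat.ofHom (algebraMap k R')))).presheaf.stalk w)) :
    EGA4.IsNormalRing (R ⊗[k] R') := by
  intro P hP
  obtain ⟨w, hw⟩ := exists_point k R R' P
  obtain ⟨e⟩ := nonempty_stalk_pullbackSpec_equiv k R R' w
  obtain ⟨h1, h2⟩ := h w
  subst hw
  exact ⟨e.symm.toMulEquiv.isDomain _, IsIntegrallyClosed.of_equiv e⟩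

end Affine

section PI
variable {k : Type u} [Field k]

/-- Purely inseparable trick: normality at the prime over the maximal ideal suffices. -/
theorem isNormalRing_tensor_of_localization (R k' : Type u) [CommRing R] [IsLocalRing R]
    [Algebra k R] [Field k'] [Algebra k k'] [IsPurelyInseparable k k'] (q : Ideal (R ⊗[k] k'))
    [q.IsPrime] (hq : q.comap (algebraMap R (R ⊗[k] k')) = IsLocalRing.maximalIdeal R)
    (h : IsDomain (Localization.AtPrime q) ∧ IsIntegrallyClosed (Localization.AtPrime q)) :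
    EGA4.IsNormalRing (R ⊗[k] k') := by
  have hunit : q.primeCompl ≤ IsUnit.submonoid (R ⊗[k] k') := by
    intro t ht
    obtain ⟨n, hn, a, ha⟩ := IsPurelyInseparable.exists_pow_mem_range_tensorProduct (k := k)
      (K := k') (R := R) t
    have hta : t ^ n ∉ q := fun hmem => ht (Ideal.IsPrime.mem_of_pow_mem inferInstance n hmem)
    have ha' : a ∉ IsLocalRing.maximalIdeal R := by
      rw [← hq]
      intro hmem
      apply hta
      rw [← ha]
      exact hmem
    have hau : IsUnit a := by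
      by_contra hnu
      exact ha' ((IsLocalRing.mem_maximalIdeal a).mpr hnu)
    have htu : IsUnit (t ^ n) := by
      rw [← ha]
      exact hau.map _
    exact (isUnit_pow_iff hn.ne').mp htu
  let e : (R ⊗[k] k') ≃ₐ[R ⊗[k] k'] Localization.AtPrime q :=
    IsLocalization.atUnits _ q.primeCompl hunit
  obtain ⟨h1, h2⟩ := h
  haveI : IsDomain (R ⊗[k] k') := e.toMulEquiv.isDomain _
  haveI : IsIntegrallyClosed (R ⊗[k] k') := IsIntegrallyClosed.of_equiv e.symm.toRingEquiv
  exact isNormalRing_of_isIntegrallyClosed _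

end PI

section Sch
variable (k : Type u) [Field k] (X : Scheme.{u}) [X.Over (Spec (CommRingCat.of k))]

attribute [local instance] Curv2.stalkAlgebra

/-- ring-level normality of `O_{X,x} ⊗ K` gives normal stalks on `X_K` over `x` -/
theorem normal_stalk_bc (x : X) (K : Type u) [Field K] [Algebra k K]
    (h : EGA4.IsNormalRing (X.presheaf.stalk x ⊗[k] K)) (x' : ↥(Curv2.bc k X K))
    (hx' : Curv2.bcFst k X K x' = x) :
    IsDomain ((Curv2.bc k X K).presheaf.stalk x') ∧
      IsIntegrallyClosed ((Curv2.bc k X K).presheaf.stalk x') := by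
  haveI : Flat (X.fromSpecStalk x) := flat_fromSpecStalk X x
  obtain ⟨z₁, -, -, ⟨e⟩⟩ := stepA (X ↘ Spec (CommRingCat.of k))
    (Spec.map (CommRingCat.ofHom (algebraMap k K))) (X.fromSpecStalk x)
    (Spec.map (CommRingCat.ofHom (algebraMap k (X.presheaf.stalk x)))) (specMap_stalkMap x) x'
    (IsLocalRing.closedPoint _) (hx'.trans Scheme.fromSpecStalk_closedPoint.symm)
  obtain ⟨h1, h2⟩ := normal_stalk_pullbackSpec k (X.presheaf.stalk x) K h z₁
  exact ⟨@MulEquiv.isDomain _ _ _ _ h1 e.toMulEquiv, @IsIntegrallyClosed.of_equiv _ _ _ _ e.symm h2⟩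

/-- normal stalks on `X_K` give ring-level normality of `O_{X,x} ⊗ K` -/
theorem isNormalRing_stalk_tensor (x : X) (K : Type u) [Field K] [Algebra k K]
    (h : ∀ x' : ↥(Curv2.bc k X K), IsDomain ((Curv2.bc k X K).presheaf.stalk x') ∧
      IsIntegrallyClosed ((Curv2.bc k X K).presheaf.stalk x')) :
    EGA4.IsNormalRing (X.presheaf.stalk x ⊗[k] K) := by
  haveI : Flat (X.fromSpecStalk x) := flat_fromSpecStalk X x
  refine isNormalRing_of_stalks k (X.presheaf.stalk x) K ?_
  intro w
  obtain ⟨z, -, ⟨e⟩⟩ := stepA_conv (X ↘ Spec (CommRingCat.of k))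
    (Spec.map (CommRingCat.ofHom (algebraMap k K))) (X.fromSpecStalk x)
    (Spec.map (CommRingCat.ofHom (algebraMap k (X.presheaf.stalk x)))) (specMap_stalkMap x) w
  obtain ⟨h1, h2⟩ := h z
  exact ⟨e.symm.toMulEquiv.isDomain _, IsIntegrallyClosed.of_equiv e⟩

theorem s7602 (hX : Pi1.IsNormalScheme X) (K : Type u) [Field K] [Algebra k K]
    [GeometricallyReduced (Spec.map (CommRingCat.ofHom (algebraMap k K)))] :
    Pi1.IsNormalScheme (Curv2.bc k X K) := by
  intro x'
  obtain ⟨h1, h2⟩ := hX (Curv2.bcFst k X K x')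
  haveI : Algebra.IsGeometricallyReduced k K :=
    Groth.Agent.Helper3.GeomRedPt3.isGeometricallyReduced_of_Spec k K
  have hn : EGA4.IsNormalRing (K ⊗[k] X.presheaf.stalk (Curv2.bcFst k X K x')) :=
    isNormalRing_tensor_of_geomReduced_field k K _ (isNormalRing_of_isIntegrallyClosed _)
  exact normal_stalk_bc k X _ K
    (isNormalRing_of_ringEquiv (Algebra.TensorProduct.comm k _ _).toRingEquiv hn) x' rfl

theorem s7601 (Y : Scheme.{u}) [Y.Over (Spec (CommRingCat.of k))]
    (hX : ∀ (K : Type u) [Field K] [Algebra k K], Pi1.IsNormalScheme (Curv2.bc k X K))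
    (hY : Pi1.IsNormalScheme Y) :
    Pi1.IsNormalScheme (pullback (X ↘ Spec (CommRingCat.of k)) (Y ↘ Spec (CommRingCat.of k))) := by
  intro z
  have hA : EGA4.IsGeomNormal k (X.presheaf.stalk
      ((pullback.fst (X ↘ Spec (CommRingCat.of k)) (Y ↘ Spec (CommRingCat.of k))) z)) :=
    fun k' _ _ _ => isNormalRing_of_ringEquiv (Algebra.TensorProduct.comm k _ _).toRingEquiv
      (isNormalRing_stalk_tensor k X _ k' (hX k'))
  obtain ⟨hd, hi⟩ := hY ((pullback.snd (X ↘ Spec (CommRingCat.of k))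
    (Y ↘ Spec (CommRingCat.of k))) z)
  have hn : EGA4.IsNormalRing (X.presheaf.stalk
      ((pullback.fst (X ↘ Spec (CommRingCat.of k)) (Y ↘ Spec (CommRingCat.of k))) z) ⊗[k]
      Y.presheaf.stalk ((pullback.snd (X ↘ Spec (CommRingCat.of k))
        (Y ↘ Spec (CommRingCat.of k))) z)) :=
    Groth.Agent.Helper2.NorGen5.s9413 k _ _ hA (isNormalRing_of_isIntegrallyClosed _)
  haveI : Flat (X.fromSpecStalk ((pullback.fst (X ↘ Spec (CommRingCat.of k))
    (Y ↘ Spec (CommRingCat.of k))) z)) := flat_fromSpecStalk X _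
  haveI : Flat (Y.fromSpecStalk ((pullback.snd (X ↘ Spec (CommRingCat.of k))
    (Y ↘ Spec (CommRingCat.of k))) z)) := flat_fromSpecStalk Y _
  obtain ⟨z₁, -, hz₁, ⟨e₁⟩⟩ := stepA (X ↘ Spec (CommRingCat.of k)) (Y ↘ Spec (CommRingCat.of k))
    (X.fromSpecStalk _)
    (Spec.map (CommRingCat.ofHom (algebraMap k (X.presheaf.stalk
      ((pullback.fst (X ↘ Spec (CommRingCat.of k)) (Y ↘ Spec (CommRingCat.of k))) z)))))
    (specMap_stalkMap _) z (IsLocalRing.closedPoint _) Scheme.fromSpecStalk_closedPoint.symm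
  obtain ⟨z₂, -, -, ⟨e₂⟩⟩ := stepA' (Spec.map (CommRingCat.ofHom (algebraMap k (X.presheaf.stalk
      ((pullback.fst (X ↘ Spec (CommRingCat.of k)) (Y ↘ Spec (CommRingCat.of k))) z)))))
    (Y ↘ Spec (CommRingCat.of k)) (Y.fromSpecStalk _)
    (Spec.map (CommRingCat.ofHom (algebraMap k (Y.presheaf.stalk
      ((pullback.snd (X ↘ Spec (CommRingCat.of k)) (Y ↘ Spec (CommRingCat.of k))) z)))))
    (specMap_stalkMap _) z₁ (IsLocalRing.closedPoint _)
    (hz₁.trans Scheme.fromSpecStalk_closedPoint.symm)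
  obtain ⟨h1, h2⟩ := normal_stalk_pullbackSpec k _ _ hn z₂
  have e := e₁.trans e₂
  exact ⟨@MulEquiv.isDomain _ _ _ _ h1 e.toMulEquiv, @IsIntegrallyClosed.of_equiv _ _ _ _ e.symm h2⟩

/-- the finite purely inseparable test at points over `x` gives ring-level normality -/
theorem isNormalRing_of_pi_points (x : X) (k' : Type u) [Field k'] [Algebra k k']
    [IsPurelyInseparable k k']
    (h : ∀ x' : ↥(Curv2.bc k X k'), Curv2.bcFst k X k' x' = x →
      IsDomain ((Curv2.bc k X k').presheaf.stalk x') ∧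
        IsIntegrallyClosed ((Curv2.bc k X k').presheaf.stalk x')) :
    EGA4.IsNormalRing (X.presheaf.stalk x ⊗[k] k') := by
  haveI : Flat (X.fromSpecStalk x) := flat_fromSpecStalk X x
  haveI : Subsingleton ↥(Spec (CommRingCat.of k)) :=
    inferInstanceAs (Subsingleton (PrimeSpectrum k))
  obtain ⟨y, hy1, -⟩ := Scheme.Pullback.exists_preimage_pullback
    (f := Spec.map (CommRingCat.ofHom (algebraMap k (X.presheaf.stalk x))))
    (g := Spec.map (CommRingCat.ofHom (algebraMap k k')))
    (IsLocalRing.closedPoint (X.presheaf.stalk x)) (IsLocalRing.closedPoint k')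
    (Subsingleton.elim _ _)
  obtain ⟨z, hz, ⟨e⟩⟩ := stepA_conv (X ↘ Spec (CommRingCat.of k))
    (Spec.map (CommRingCat.ofHom (algebraMap k k'))) (X.fromSpecStalk x)
    (Spec.map (CommRingCat.ofHom (algebraMap k (X.presheaf.stalk x)))) (specMap_stalkMap x) y
  have hzx : Curv2.bcFst k X k' z = x := by
    show (pullback.fst (X ↘ Spec (CommRingCat.of k))
      (Spec.map (CommRingCat.ofHom (algebraMap k k')))) z = x
    exact hz.trans ((congrArg (fun a => (X.fromSpecStalk x) a) hy1).trans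
      Scheme.fromSpecStalk_closedPoint)
  obtain ⟨h1, h2⟩ := h z hzx
  obtain ⟨e'⟩ := nonempty_stalk_pullbackSpec_equiv k (X.presheaf.stalk x) k' y
  have hq : ((pullbackSpecIso k (X.presheaf.stalk x) k').hom y).asIdeal.comap
      (algebraMap (X.presheaf.stalk x) (X.presheaf.stalk x ⊗[k] k')) =
      IsLocalRing.maximalIdeal (X.presheaf.stalk x) := by
    rw [← fst_eq_comap, hy1]
    rfl
  have e'' := e'.symm.trans e.symm
  exact isNormalRing_tensor_of_localization (X.presheaf.stalk x) k' _ hq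
    ⟨@MulEquiv.isDomain _ _ _ _ h1 e''.toMulEquiv, @IsIntegrallyClosed.of_equiv _ _ _ _ e''.symm h2⟩

theorem s7599 (x : X) :
    ((∀ (k' : Type u) [Field k'] [Algebra k k'] (x' : ↥(Curv2.bc k X k')), Curv2.bcFst k X k' x' = x →
          IsDomain ↥((Curv2.bc k X k').presheaf.stalk x') ∧ IsIntegrallyClosed ↥((Curv2.bc k X k').presheaf.stalk x')) ↔
      (∀ (k' : Type u) [Field k'] [Algebra k k'] [FiniteDimensional k k'] [IsPurelyInseparable k k'] (x' : ↥(Curv2.bc k X k')), Curv2.bcFst k X k' x' = x →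
          IsDomain ↥((Curv2.bc k X k').presheaf.stalk x') ∧ IsIntegrallyClosed ↥((Curv2.bc k X k').presheaf.stalk x'))) ∧
    ((∀ (k' : Type u) [Field k'] [Algebra k k'] [FiniteDimensional k k'] [IsPurelyInseparable k k'] (x' : ↥(Curv2.bc k X k')), Curv2.bcFst k X k' x' = x →
          IsDomain ↥((Curv2.bc k X k').presheaf.stalk x') ∧ IsIntegrallyClosed ↥((Curv2.bc k X k').presheaf.stalk x')) ↔
      ∀ (k' : Type u) [Field k'] [Algebra k k'], EGA4.IsNormalRing (k' ⊗[k] ↥(X.presheaf.stalk x))) := by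
  have h23 : (∀ (k' : Type u) [Field k'] [Algebra k k'] [FiniteDimensional k k'] [IsPurelyInseparable k k'] (x' : ↥(Curv2.bc k X k')), Curv2.bcFst k X k' x' = x →
          IsDomain ↥((Curv2.bc k X k').presheaf.stalk x') ∧ IsIntegrallyClosed ↥((Curv2.bc k X k').presheaf.stalk x')) →
      ∀ (k' : Type u) [Field k'] [Algebra k k'], EGA4.IsNormalRing (k' ⊗[k] ↥(X.presheaf.stalk x)) := by
    intro h k' _ _
    refine Groth.Agent.Helper2.NorGen2.normal_of_pi k _ ?_ k'
    intro k'' _ _ hfin hpi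
    haveI := hfin
    haveI := hpi
    exact isNormalRing_of_ringEquiv (Algebra.TensorProduct.comm k _ _).toRingEquiv
      (isNormalRing_of_pi_points k X x k'' (h k''))
  have h31 : (∀ (k' : Type u) [Field k'] [Algebra k k'], EGA4.IsNormalRing (k' ⊗[k] ↥(X.presheaf.stalk x))) →
      (∀ (k' : Type u) [Field k'] [Algebra k k'] (x' : ↥(Curv2.bc k X k')), Curv2.bcFst k X k' x' = x →
          IsDomain ↥((Curv2.bc k X k').presheaf.stalk x') ∧ IsIntegrallyClosed ↥((Curv2.bc k X k').presheaf.stalk x')) := by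
    intro h k' _ _ x' hx'
    exact normal_stalk_bc k X x k'
      (isNormalRing_of_ringEquiv (Algebra.TensorProduct.comm k _ _).toRingEquiv (h k')) x' hx'
  refine ⟨⟨fun h k' _ _ _ _ x' hx' => h k' x' hx', fun h => h31 (h23 h)⟩,
    ⟨h23, fun h k' _ _ _ _ x' hx' => h31 h k' x' hx'⟩⟩

end Sch

end Groth.Agent.Helper2.NorSch
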