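import Mathlib
import Groth.Prelude
import Groth.Agent.Helper2.NormCount1
import Groth.Agent.Helper2.AnUnram
import Groth.Agent.Helper2.Unibr1
import Groth.Agent.Helper1.HensNoeth

set_option autoImplicit false
set_option linter.style.haveILetI false

namespace Groth.Agent.Helper2.NormCount

universe u

open TensorProduct IsLocalRing

section T

variable (A : Type u) [CommRing A] [IsNoetherianRing A] [IsLocalRing A] [IsReduced A]
  [Module.Finite A (integralClosure A (FractionRing A))]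

local notation "A₁" => integralClosure A (FractionRing A)
local notation "Ah" => AdicCompletion (maximalIdeal A) A
local notation "TT" => (integralClosure A (FractionRing A)) ⊗[A] (AdicCompletion (maximalIdeal A) A)

theorem exists_sub_mem_ah (b : Ah) : ∃ r : A, b - algebraMap A Ah r ∈ maximalIdeal Ah := by
  obtain ⟨x, hx⟩ := (AdicCompletion.residueField_map_bijective A).2 (residue _ b)
  obtain ⟨r, rfl⟩ := residue_surjective x
  refine ⟨r, ?_⟩
  rw [ResidueField.map_residue] at hx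
  rw [← Ideal.Quotient.eq]
  exact hx.symm

/-- the ideal `𝔪 T`. -/
noncomputable abbrev mT : Ideal TT := (maximalIdeal A).map (algebraMap A TT)

theorem algebraMap_eq_tmul (r : A) : algebraMap A TT r = (1 : A₁) ⊗ₜ[A] (algebraMap A Ah r) := by
  rw [Algebra.algebraMap_eq_smul_one, Algebra.algebraMap_eq_smul_one (A := Ah),
    TensorProduct.tmul_smul]
  rfl

theorem tmul_mem_mT (a : A₁) (b : Ah) (hb : b ∈ maximalIdeal Ah) : a ⊗ₜ[A] b ∈ mT A := by
  rw [AdicCompletion.maximalIdeal_eq_map] at hb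
  refine Submodule.span_induction (p := fun b _ => a ⊗ₜ[A] b ∈ mT A) ?_ ?_ ?_ ?_ hb
  · rintro _ ⟨r, hr, rfl⟩
    have h1 : a ⊗ₜ[A] (algebraMap A Ah r) = algebraMap A TT r * (a ⊗ₜ[A] (1 : Ah)) := by
      rw [algebraMap_eq_tmul, Algebra.TensorProduct.tmul_mul_tmul, one_mul, mul_one]
    rw [h1]
    exact Ideal.mul_mem_right _ _ (Ideal.mem_map_of_mem _ hr)
  · rw [TensorProduct.tmul_zero]
    exact Ideal.zero_mem _
  · intro x y _ _ hx hy
    rw [TensorProduct.tmul_add]
    exact Ideal.add_mem _ hx hy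
  · intro c x _ hx
    have h1 : a ⊗ₜ[A] (c • x) = ((1 : A₁) ⊗ₜ[A] c) * (a ⊗ₜ[A] x) := by
      rw [Algebra.TensorProduct.tmul_mul_tmul, one_mul, smul_eq_mul]
    rw [h1]
    exact Ideal.mul_mem_left _ _ hx

theorem exists_sub_mem (x : TT) : ∃ a : A₁, x - a ⊗ₜ[A] (1 : Ah) ∈ mT A := by
  induction x using TensorProduct.induction_on with
  | zero => exact ⟨0, by rw [TensorProduct.zero_tmul, sub_self]; exact Ideal.zero_mem _⟩
  | tmul a b =>
    obtain ⟨r, hr⟩ := exists_sub_mem_ah A b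
    refine ⟨r • a, ?_⟩
    have h1 : a ⊗ₜ[A] b - (r • a) ⊗ₜ[A] (1 : Ah) = a ⊗ₜ[A] (b - algebraMap A Ah r) := by
      rw [TensorProduct.tmul_sub, TensorProduct.smul_tmul, Algebra.algebraMap_eq_smul_one]
    rw [h1]
    exact tmul_mem_mT A a _ hr
  | add x y hx hy =>
    obtain ⟨a, ha⟩ := hx
    obtain ⟨b, hb⟩ := hy
    refine ⟨a + b, ?_⟩
    have h1 : x + y - (a + b) ⊗ₜ[A] (1 : Ah) =
        (x - a ⊗ₜ[A] (1 : Ah)) + (y - b ⊗ₜ[A] (1 : Ah)) := by
      rw [TensorProduct.add_tmul]; ring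
    rw [h1]
    exact Ideal.add_mem _ ha hb

/-- the inclusion `Â → T`. -/
noncomputable abbrev incl : Ah →+* TT := (Algebra.TensorProduct.includeRight : Ah →ₐ[A] TT).toRingHom

theorem includeRight_isIntegral :
    RingHom.IsIntegral (R := Ah) (A := TT) (incl A) := by
  have h1 : (algebraMap Ah (Ah ⊗[A] A₁)).IsIntegral :=
    algebraMap_isIntegral_iff.2 (Algebra.IsIntegral.tensorProduct A Ah A₁)
  have h2 : RingHom.IsIntegral (R := Ah ⊗[A] A₁) (A := TT)
      (Algebra.TensorProduct.comm A Ah A₁).toAlgHom.toRingHom :=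
    RingHom.isIntegral_of_surjective (R := Ah ⊗[A] A₁) (S := TT)
      (Algebra.TensorProduct.comm A Ah A₁).toAlgHom.toRingHom
      (Algebra.TensorProduct.comm A Ah A₁).surjective
  have h3 : incl A =
      (Algebra.TensorProduct.comm A Ah A₁).toAlgHom.toRingHom.comp (algebraMap Ah (Ah ⊗[A] A₁)) := by
    ext b
    simp [Algebra.TensorProduct.algebraMap_apply]
  rw [h3]
  exact RingHom.IsIntegral.trans (R := Ah) (S := Ah ⊗[A] A₁) (T := TT)
    (algebraMap Ah (Ah ⊗[A] A₁)) (Algebra.TensorProduct.comm A Ah A₁).toAlgHom.toRingHom h1 h2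

theorem mT_le (M : Ideal TT) [M.IsMaximal] : mT A ≤ M := by
  have h := Ideal.isMaximal_comap_of_isIntegral_of_isMaximal' (R := Ah) (S := TT) (incl A)
    (includeRight_isIntegral A) M
  have h2 := IsLocalRing.eq_maximalIdeal h
  rw [mT, Ideal.map_le_iff_le_comap]
  intro r hr
  rw [Ideal.mem_comap, algebraMap_eq_tmul]
  have h3 : algebraMap A Ah r ∈ maximalIdeal Ah := by
    rw [AdicCompletion.maximalIdeal_eq_map]
    exact Ideal.mem_map_of_mem _ hr
  rw [← h2] at h3
  exact h3

end T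

end Groth.Agent.Helper2.NormCount
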