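import Mathlib
import Groth.Prelude

set_option autoImplicit false
set_option linter.style.haveILetI false
set_option linter.unusedSectionVars false

/-! Localisation of a subalgebra of a local domain at the units of the ambient ring, realised as a
subalgebra -/

universe u

namespace Groth.Agent.Helper2.NormSub

open IsLocalRing

section locsub

variable {A S : Type u} [CommRing A] [CommRing S] [IsLocalRing S] [IsDomain S] [Algebra A S]
  (B : Subalgebra A S)

/-- the prime of `B` below the maximal ideal of `S` -/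
noncomputable def nn : Ideal B := (maximalIdeal S).comap (algebraMap B S)

instance : (nn B).IsPrime := Ideal.comap_isPrime _ _

theorem mem_nn (b : B) : b ∈ nn B ↔ ¬ IsUnit (b : S) := by
  show (b : S) ∈ maximalIdeal S ↔ _
  rw [mem_maximalIdeal, mem_nonunits_iff]

theorem isUnit_of_mem_primeCompl (y : (nn B).primeCompl) : IsUnit (B.val (y : B)) := by
  have h := y.2
  rw [Ideal.mem_primeCompl_iff, mem_nn, not_not] at h
  exact h

/-- the localisation of `B` mapping to `S` -/
noncomputable def locHom : Localization.AtPrime (nn B) →ₐ[A] S :=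
  IsLocalization.liftAlgHom (M := (nn B).primeCompl) (f := B.val) (isUnit_of_mem_primeCompl B)

theorem locHom_algebraMap (b : B) :
    locHom B (algebraMap B (Localization.AtPrime (nn B)) b) = (b : S) := by
  simp [locHom]

theorem locHom_mk' (b : B) (u : (nn B).primeCompl) :
    locHom B (IsLocalization.mk' (Localization.AtPrime (nn B)) b u) * ((u : B) : S) = (b : S) := by
  rw [← locHom_algebraMap B (u : B), ← map_mul, IsLocalization.mk'_spec, locHom_algebraMap]

theorem locHom_injective : Function.Injective (locHom B) := by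
  rw [injective_iff_map_eq_zero]
  intro z hz
  obtain ⟨b, u, rfl⟩ := IsLocalization.exists_mk'_eq (nn B).primeCompl z
  have h1 := locHom_mk' B b u
  rw [hz, zero_mul] at h1
  have h2 : b = 0 := Subtype.ext h1.symm
  rw [h2, IsLocalization.mk'_zero]

/-- the localised subalgebra -/
noncomputable def locSub : Subalgebra A S := (locHom B).range

theorem mem_locSub_iff (x : S) :
    x ∈ locSub B ↔ ∃ b u : B, IsUnit (u : S) ∧ x * (u : S) = (b : S) := by
  constructor
  · rintro ⟨z, rfl⟩
    obtain ⟨b, u, rfl⟩ := IsLocalization.exists_mk'_eq (nn B).primeCompl z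
    exact ⟨b, u, isUnit_of_mem_primeCompl B u, locHom_mk' B b u⟩
  · rintro ⟨b, u, hu, h⟩
    have hu' : u ∈ (nn B).primeCompl := by
      rw [Ideal.mem_primeCompl_iff, mem_nn, not_not]
      exact hu
    refine ⟨IsLocalization.mk' _ b (⟨u, hu'⟩ : (nn B).primeCompl), ?_⟩
    apply hu.mul_left_injective
    show locHom B (IsLocalization.mk' _ b (⟨u, hu'⟩ : (nn B).primeCompl)) * (u : S) = x * (u : S)
    rw [h]
    exact locHom_mk' B b ⟨u, hu'⟩

theorem le_locSub : B ≤ locSub B := by
  intro x hx
  rw [mem_locSub_iff]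
  exact ⟨⟨x, hx⟩, 1, by simp, by simp⟩

/-- the equivalence with the localisation -/
noncomputable def locEquiv : Localization.AtPrime (nn B) ≃ₐ[A] locSub B :=
  AlgEquiv.ofInjective (locHom B) (locHom_injective B)

theorem isLocalRing_locSub : IsLocalRing (locSub B) :=
  (locEquiv B).toRingEquiv.isLocalRing

theorem inv_mem_locSub (x : S) (hx : x ∈ locSub B) (hu : IsUnit x) :
    ∃ y ∈ locSub B, x * y = 1 := by
  rw [mem_locSub_iff] at hx
  obtain ⟨b, u, hu', h⟩ := hx
  obtain ⟨v, hv⟩ := hu
  refine ⟨((v⁻¹ : Sˣ) : S), ?_, by rw [← hv, Units.mul_inv]⟩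
  rw [mem_locSub_iff]
  refine ⟨u, b, ?_, ?_⟩
  · rw [← h, ← hv]
    exact v.isUnit.mul hu'
  · rw [← h, ← hv, ← mul_assoc, Units.inv_mul, one_mul]

theorem isLocalHom_locSub : IsLocalHom (algebraMap (locSub B) S) := by
  constructor
  intro x hx
  obtain ⟨y, hy, hxy⟩ := inv_mem_locSub B (x : S) x.2 hx
  exact IsUnit.of_mul_eq_one (⟨y, hy⟩ : locSub B) (Subtype.ext hxy)

theorem essFiniteType_locSub [Algebra.FiniteType A B] : Algebra.EssFiniteType A (locSub B) := by
  haveI : Algebra.EssFiniteType A (Localization.AtPrime (nn B)) :=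
    Algebra.EssFiniteType.comp A B (Localization.AtPrime (nn B))
  exact (Algebra.EssFiniteType.iff_of_algEquiv (locEquiv B)).1 inferInstance

theorem isIntegrallyClosed_locSub [IsIntegrallyClosed B] : IsIntegrallyClosed (locSub B) := by
  haveI : IsIntegrallyClosed (Localization.AtPrime (nn B)) :=
    isIntegrallyClosed_of_isLocalization (Localization.AtPrime (nn B)) (nn B).primeCompl
      (nn B).primeCompl_le_nonZeroDivisors
  exact IsIntegrallyClosed.of_equiv (locEquiv B).toRingEquiv

theorem locSub_le (D : Subalgebra A S) [IsLocalHom (algebraMap D S)] (h : B ≤ D) :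
    locSub B ≤ D := by
  intro x hx
  rw [mem_locSub_iff] at hx
  obtain ⟨b, u, hu, hxu⟩ := hx
  have hu' : IsUnit (⟨u, h u.2⟩ : D) := isUnit_of_map_unit (algebraMap D S) _ hu
  obtain ⟨v, hv⟩ := hu'
  have h1 : x = ((⟨b, h b.2⟩ * ((v⁻¹ : Dˣ) : D) : D) : S) := by
    have h2 : ((u : B) : S) * (((v⁻¹ : Dˣ) : D) : S) = 1 := by
      have : ((v : D) * ((v⁻¹ : Dˣ) : D) : D) = 1 := Units.mul_inv v
      rw [hv] at this
      exact congrArg Subtype.val this
    rw [Subalgebra.coe_mul]
    show x = (b : S) * _
    rw [← hxu, mul_assoc, h2, mul_one]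
  rw [h1]
  exact (⟨b, h b.2⟩ * ((v⁻¹ : Dˣ) : D) : D).2

end locsub

end Groth.Agent.Helper2.NormSub
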