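import Mathlib
import Groth.Prelude
import Groth.Agent.Helper2.NormSub1
import Groth.Agent.Helper2.NormSub2

set_option autoImplicit false
set_option linter.style.haveILetI false
set_option linter.unusedSectionVars false

/-! Elements of a strict henselization of a normal domain are separable over the fraction field -/

universe u

namespace Groth.Agent.Helper2.NormSub

open IsLocalRing TensorProduct Groth.Agent.Helper1.Hens Groth.Agent.Helper1
  Groth.Agent.Helper2.EssEtSub

section sep

variable (A S : Type u) [CommRing A] [IsLocalRing A] [IsDomain A]
  [CommRing S] [IsLocalRing S] [IsDomain S] [Algebra A S] [IsLocalHom (algebraMap A S)]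
  [Hensel.IsStrictHenselization A S]

theorem algebraMap_injective_of_strict : Function.Injective (algebraMap A S) := by
  haveI := Hens.faithfullyFlat_of_isStrictHenselization A S
  exact FaithfulSMul.algebraMap_injective A S

instance faithfulSMul_strict : FaithfulSMul A S :=
  (faithfulSMul_iff_algebraMap_injective A S).2 (algebraMap_injective_of_strict A S)

attribute [local instance] FractionRing.liftAlgebra

theorem isSeparable_of_mem (x : S) :
    IsSeparable (FractionRing A) (algebraMap S (FractionRing S) x) := by
  classical
  obtain ⟨i, hi⟩ := exists_stage_of_finset A S {x}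
  obtain ⟨y, hy⟩ := hi (Finset.mem_coe.2 (Finset.mem_singleton_self x))
  let φ := stageHom A S i
  have hφinj : Function.Injective φ := stageHom_injective A S i
  replace hy : φ y = x := hy
  haveI : IsDomain i.L := Function.Injective.isDomain φ.toRingHom hφinj
  have hAL : Function.Injective (algebraMap A i.L) := by
    intro a b hab
    apply algebraMap_injective_of_strict A S
    rw [← φ.commutes a, ← φ.commutes b, hab]
  let M := FractionRing i.L
  haveI : FaithfulSMul A M := by
    rw [faithfulSMul_iff_algebraMap_injective, IsScalarTower.algebraMap_eq A i.L M]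
    exact (IsFractionRing.injective i.L M).comp hAL
  -- M is finite separable over K
  haveI : Algebra.FormallyEtale i.L M := Algebra.FormallyEtale.of_isLocalization (nonZeroDivisors i.L)
  haveI : Algebra.FormallyEtale A M := Algebra.FormallyEtale.comp A i.L M
  haveI : Algebra.FormallyEtale (FractionRing A) M :=
    Algebra.FormallyEtale.localization_base (nonZeroDivisors A)
  haveI : Algebra.EssFiniteType i.L M := Algebra.EssFiniteType.of_isLocalization M (nonZeroDivisors i.L)
  haveI : Algebra.EssFiniteType A M := Algebra.EssFiniteType.comp A i.L M
  haveI : Algebra.EssFiniteType (FractionRing A) M := Algebra.EssFiniteType.of_comp A (FractionRing A) M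
  haveI : Algebra.IsSeparable (FractionRing A) M :=
    (Algebra.FormallyEtale.iff_isSeparable (FractionRing A) M).1 inferInstance
  -- the map M → Frac S
  have hinj : Function.Injective ((algebraMap S (FractionRing S)).comp φ.toRingHom) :=
    (IsFractionRing.injective S (FractionRing S)).comp hφinj
  let ψ₀ : M →+* FractionRing S := IsFractionRing.lift hinj
  have hψ₀ : ∀ z : i.L, ψ₀ (algebraMap i.L M z) = algebraMap S (FractionRing S) (φ z) :=
    fun z => IsFractionRing.lift_algebraMap hinj z
  have hcomm : ψ₀.comp (algebraMap (FractionRing A) M) = algebraMap (FractionRing A) (FractionRing S) := by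
    apply IsLocalization.ringHom_ext (nonZeroDivisors A)
    ext a
    simp only [RingHom.comp_apply]
    rw [← IsScalarTower.algebraMap_apply A (FractionRing A) M,
      ← IsScalarTower.algebraMap_apply A (FractionRing A) (FractionRing S),
      IsScalarTower.algebraMap_apply A i.L M, hψ₀, AlgHom.commutes,
      ← IsScalarTower.algebraMap_apply A S (FractionRing S)]
  let ψ : M →ₐ[FractionRing A] FractionRing S :=
    { ψ₀ with commutes' := fun r => congrFun (congrArg DFunLike.coe hcomm) r }
  have h1 : IsSeparable (FractionRing A) (algebraMap i.L M y) :=
    Algebra.IsSeparable.isSeparable (FractionRing A) _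
  have h2 := IsSeparable.map ψ ψ.toRingHom.injective h1
  have h3 : ψ (algebraMap i.L M y) = algebraMap S (FractionRing S) x := by
    rw [← hy]; exact hψ₀ y
  rw [h3] at h2
  exact h2

end sep

section fin

variable (A S : Type u) [CommRing A] [IsLocalRing A] [IsDomain A] [IsIntegrallyClosed A]
  [IsNoetherianRing A]
  [CommRing S] [IsLocalRing S] [IsDomain S] [IsIntegrallyClosed S] [Algebra A S]
  [IsLocalHom (algebraMap A S)] [Hensel.IsStrictHenselization A S] (s : Finset S)

attribute [local instance] FractionRing.liftAlgebra

/-- the field generated by a finite subset of `S` -/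
noncomputable def LL : IntermediateField (FractionRing A) (FractionRing S) :=
  IntermediateField.adjoin (FractionRing A) ((algebraMap S (FractionRing S)) '' (s : Set S))

instance finiteDimensional_LL : FiniteDimensional (FractionRing A) (LL A S s) := by
  haveI : Finite ((algebraMap S (FractionRing S)) '' (s : Set S)) :=
    (s.finite_toSet.image _).to_subtype
  refine IntermediateField.finiteDimensional_adjoin ?_
  rintro _ ⟨x, -, rfl⟩
  exact (isSeparable_of_mem A S x).isIntegral

instance isSeparable_LL : Algebra.IsSeparable (FractionRing A) (LL A S s) := by
  rw [LL, IntermediateField.isSeparable_adjoin_iff_isSeparable]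
  rintro _ ⟨x, -, rfl⟩
  exact isSeparable_of_mem A S x

/-- the integral closure of `A` in `LL`, inside `S` -/
noncomputable def BS : Subalgebra A S :=
  integralClosure A S ⊓ Subalgebra.comap (IsScalarTower.toAlgHom A S (FractionRing S))
    ((LL A S s).toSubalgebra.restrictScalars A)

theorem mem_BS (x : S) :
    x ∈ BS A S s ↔ IsIntegral A x ∧ algebraMap S (FractionRing S) x ∈ LL A S s := by
  rw [BS, Algebra.mem_inf, mem_integralClosure_iff, Subalgebra.mem_comap]
  rfl

theorem finite_BS : Module.Finite A (BS A S s) := by
  haveI : IsNoetherian A (integralClosure A (LL A S s)) :=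
    IsIntegralClosure.isNoetherian A (FractionRing A) (LL A S s) (integralClosure A (LL A S s))
  let f : BS A S s →ₗ[A] integralClosure A (LL A S s) :=
    { toFun := fun x => ⟨⟨algebraMap S (FractionRing S) (x : S), ((mem_BS A S s _).1 x.2).2⟩, by
        have h1 : IsIntegral A (algebraMap S (FractionRing S) (x : S)) :=
          ((mem_BS A S s _).1 x.2).1.map (IsScalarTower.toAlgHom A S (FractionRing S))
        rw [mem_integralClosure_iff]
        exact (isIntegral_algHom_iff ((LL A S s).val.restrictScalars A)
          Subtype.val_injective).1 h1⟩
      map_add' := fun x y => by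
        apply Subtype.ext; apply Subtype.ext
        simp
      map_smul' := fun a x => by
        apply Subtype.ext; apply Subtype.ext
        simp only [Algebra.smul_def, RingHom.id_apply, map_mul, MulMemClass.coe_mul]
        congr 1 }
  refine Module.Finite.of_injective f ?_
  intro x y hxy
  have h1 : algebraMap S (FractionRing S) (x : S) = algebraMap S (FractionRing S) (y : S) :=
    congrArg (fun z : integralClosure A (LL A S s) => ((z : LL A S s) : FractionRing S)) hxy
  exact Subtype.ext (IsFractionRing.injective S (FractionRing S) h1)

theorem isIntegral_coe_of_mem_BS (x : BS A S s) :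
    (⟨algebraMap S (FractionRing S) (x : S), ((mem_BS A S s _).1 x.2).2⟩ : LL A S s) ∈
      integralClosure A (LL A S s) := by
  have h1 : IsIntegral A (algebraMap S (FractionRing S) (x : S)) :=
    ((mem_BS A S s _).1 x.2).1.map (IsScalarTower.toAlgHom A S (FractionRing S))
  rw [mem_integralClosure_iff]
  exact (isIntegral_algHom_iff ((LL A S s).val.restrictScalars A) Subtype.val_injective).1 h1

/-- the comparison with the integral closure in the field `LL` -/
noncomputable def toIC : BS A S s →+* integralClosure A (LL A S s) where
  toFun x := ⟨⟨algebraMap S (FractionRing S) (x : S), ((mem_BS A S s _).1 x.2).2⟩,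
    isIntegral_coe_of_mem_BS A S s x⟩
  map_one' := by apply Subtype.ext; apply Subtype.ext; simp
  map_mul' x y := by apply Subtype.ext; apply Subtype.ext; simp
  map_zero' := by apply Subtype.ext; apply Subtype.ext; simp
  map_add' x y := by apply Subtype.ext; apply Subtype.ext; simp

theorem toIC_coe (x : BS A S s) :
    (((toIC A S s x : integralClosure A (LL A S s)) : LL A S s) : FractionRing S) =
      algebraMap S (FractionRing S) (x : S) := rfl

theorem toIC_bijective : Function.Bijective (toIC A S s) := by
  constructor
  · intro x y hxy
    have h1 : algebraMap S (FractionRing S) (x : S) = algebraMap S (FractionRing S) (y : S) := by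
      rw [← toIC_coe, ← toIC_coe, hxy]
    exact Subtype.ext (IsFractionRing.injective S (FractionRing S) h1)
  · intro w
    have hw : IsIntegral A ((w : LL A S s) : FractionRing S) := by
      have h1 : IsIntegral A (w : LL A S s) := w.2
      exact h1.map ((LL A S s).val.restrictScalars A)
    have hw' : IsIntegral S ((w : LL A S s) : FractionRing S) := hw.tower_top
    obtain ⟨x, hx⟩ := (isIntegrallyClosed_iff (FractionRing S)).1 inferInstance hw'
    have hxB : x ∈ BS A S s := by
      rw [mem_BS, hx]
      refine ⟨?_, (w : LL A S s).2⟩
      rw [← hx] at hw
      exact (isIntegral_algHom_iff (IsScalarTower.toAlgHom A S (FractionRing S))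
        (IsFractionRing.injective S (FractionRing S))).1 hw
    refine ⟨⟨x, hxB⟩, ?_⟩
    apply Subtype.ext; apply Subtype.ext
    rw [toIC_coe]
    exact hx

theorem isIntegrallyClosed_BS : IsIntegrallyClosed (BS A S s) :=
  haveI : IsIntegrallyClosed (integralClosure A (LL A S s)) :=
    integralClosure.isIntegrallyClosedOfFiniteExtension (FractionRing A)
  IsIntegrallyClosed.of_equiv (RingEquiv.ofBijective (toIC A S s) (toIC_bijective A S s)).symm

end fin

end Groth.Agent.Helper2.NormSub
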