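import Mathlib
import Groth.Prelude
import Groth.Agent.Helper2.NormSub3

set_option autoImplicit false
set_option linter.style.haveILetI false
set_option linter.unusedSectionVars false

/-! The local étale subalgebra `L ∩ S` of a strict henselization of a normal local domain -/

universe u

namespace Groth.Agent.Helper2.NormSub

open IsLocalRing TensorProduct Groth.Agent.Helper1.Hens Groth.Agent.Helper1
  Groth.Agent.Helper2.EssEtSub

section constr

variable (A S : Type u) [CommRing A] [IsLocalRing A] [IsDomain A] [IsIntegrallyClosed A]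
  [IsNoetherianRing A]
  [CommRing S] [IsLocalRing S] [IsDomain S] [IsIntegrallyClosed S] [Algebra A S]
  [IsLocalHom (algebraMap A S)] [Hensel.IsStrictHenselization A S] (s : Finset S)

attribute [local instance] FractionRing.liftAlgebra

theorem exists_stage_ge :
    ∃ i : Idx A (ResidueField S), locSub (BS A S s) ≤ (stageHom A S i).range := by
  classical
  haveI := finite_BS A S s
  obtain ⟨G, hG⟩ := (Module.Finite.fg_top : (⊤ : Submodule A (BS A S s)).FG)
  obtain ⟨i, hi⟩ := exists_stage_of_finset A S (G.image Subtype.val)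
  haveI : IsDomain i.L :=
    Function.Injective.isDomain (stageHom A S i).toRingHom (stageHom_injective A S i)
  have hB : BS A S s ≤ (stageHom A S i).range := by
    intro x hx
    have h1 : (⟨x, hx⟩ : BS A S s) ∈ Submodule.span A (G : Set (BS A S s)) := by
      rw [hG]; trivial
    have h2 : x ∈ Submodule.map (BS A S s).val.toLinearMap
        (Submodule.span A (G : Set (BS A S s))) := ⟨⟨x, hx⟩, h1, rfl⟩
    rw [Submodule.map_span] at h2
    have h3 : Submodule.span A ((BS A S s).val.toLinearMap '' (G : Set (BS A S s))) ≤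
        Subalgebra.toSubmodule (stageHom A S i).range := by
      rw [Submodule.span_le]
      rintro _ ⟨g, hg, rfl⟩
      apply hi
      rw [Finset.mem_coe, Finset.mem_image]
      exact ⟨g, hg, rfl⟩
    exact h3 h2
  refine ⟨i, ?_⟩
  intro x hx
  rw [mem_locSub_iff] at hx
  obtain ⟨b, u, hu, hxu⟩ := hx
  obtain ⟨yb, hyb⟩ := hB b.2
  obtain ⟨yu, hyu⟩ := hB u.2
  replace hyb : stageHom A S i yb = (b : S) := hyb
  replace hyu : stageHom A S i yu = (u : S) := hyu
  have hyu0 : yu ≠ 0 := by
    rintro rfl
    rw [map_zero] at hyu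
    rw [← hyu] at hu
    exact not_isUnit_zero hu
  refine mem_range_of_mul_mem A S i yu yb (mem_nonZeroDivisors_of_ne_zero hyu0) x ?_
  rw [hyu, hyb, mul_comm]
  exact hxu

theorem coe_mem_LL_of_mem_locSub (x : S) (hx : x ∈ locSub (BS A S s)) :
    algebraMap S (FractionRing S) x ∈ LL A S s := by
  rw [mem_locSub_iff] at hx
  obtain ⟨b, u, hu, hxu⟩ := hx
  have hb := ((mem_BS A S s _).1 b.2).2
  have hu' := ((mem_BS A S s _).1 u.2).2
  have hu0 : algebraMap S (FractionRing S) (u : S) ≠ 0 := by
    intro h
    have := (IsFractionRing.injective S (FractionRing S)) (h.trans (map_zero _).symm)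
    rw [this] at hu
    exact not_isUnit_zero hu
  have h1 : algebraMap S (FractionRing S) x =
      algebraMap S (FractionRing S) (b : S) * (algebraMap S (FractionRing S) (u : S))⁻¹ := by
    rw [← hxu, map_mul, mul_assoc, mul_inv_cancel₀ hu0, mul_one]
  rw [h1]
  exact mul_mem hb (inv_mem hu')

theorem mem_locSub_of_mem_LL (x : S) (hx : algebraMap S (FractionRing S) x ∈ LL A S s) :
    x ∈ locSub (BS A S s) := by
  obtain ⟨i, hi⟩ := exists_stage_ge A S s
  haveI := isIntegrallyClosed_BS A S s
  haveI := isIntegrallyClosed_locSub (BS A S s)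
  haveI := isLocalRing_locSub (BS A S s)
  haveI := isLocalHom_locSub (BS A S s)
  -- a multiple of x is integral
  have halg : IsAlgebraic A (algebraMap S (FractionRing S) x) :=
    (IsFractionRing.isAlgebraic_iff A (FractionRing A) (FractionRing S)).2
      (isSeparable_of_mem A S x).isIntegral.isAlgebraic
  obtain ⟨a, ha0, ha⟩ := halg.exists_integral_multiple
  have h1 : a • algebraMap S (FractionRing S) x =
      algebraMap S (FractionRing S) (x * algebraMap A S a) := by
    rw [map_mul, Algebra.smul_def, mul_comm, ← IsScalarTower.algebraMap_apply A S (FractionRing S)]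
  rw [h1] at ha
  have hax : x * algebraMap A S a ∈ BS A S s := by
    rw [mem_BS]
    refine ⟨(isIntegral_algHom_iff (IsScalarTower.toAlgHom A S (FractionRing S))
        (IsFractionRing.injective S (FractionRing S))).1 ha, ?_⟩
    rw [← h1, ← algebraMap_smul (FractionRing A) a]
    exact (LL A S s).smul_mem hx
  have haB : algebraMap A S a ∈ BS A S s := Subalgebra.algebraMap_mem _ a
  have ha0' : (⟨algebraMap A S a, le_locSub _ haB⟩ : locSub (BS A S s)) ≠ 0 := by
    intro h
    have h2 : algebraMap A S a = 0 := congrArg Subtype.val h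
    exact ha0 (algebraMap_injective_of_strict A S (h2.trans (map_zero _).symm))
  exact mem_of_mul_eq A S (locSub (BS A S s)) i hi
    ⟨x * algebraMap A S a, le_locSub _ hax⟩ ⟨algebraMap A S a, le_locSub _ haB⟩ ha0' x rfl

theorem isEssentiallyEtale_locSub_BS : EGA4loc.IsEssentiallyEtale A (locSub (BS A S s)) := by
  obtain ⟨i, hi⟩ := exists_stage_ge A S s
  haveI := isIntegrallyClosed_BS A S s
  haveI := isIntegrallyClosed_locSub (BS A S s)
  haveI := isLocalRing_locSub (BS A S s)
  haveI := isLocalHom_locSub (BS A S s)
  haveI := finite_BS A S s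
  haveI := essFiniteType_locSub (BS A S s)
  exact isEssentiallyEtale_of_le_stage A S (locSub (BS A S s)) i hi

end constr

end Groth.Agent.Helper2.NormSub
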