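import Mathlib
import Groth.Prelude
import Groth.Agent.Helper2.NormSub4
import Groth.Agent.S2748

set_option autoImplicit false
set_option linter.style.haveILetI false
set_option linter.unusedSectionVars false

/-! S16433 -/

universe u

namespace Groth.Agent.Helper2.NormSub

open IsLocalRing TensorProduct Groth.Agent.Helper1.Hens Groth.Agent.Helper1
  Groth.Agent.Helper2.EssEtSub

section s16433

variable (A S : Type u) [CommRing A] [IsLocalRing A] [IsDomain A] [IsIntegrallyClosed A]
  [IsNoetherianRing A]
  [CommRing S] [IsLocalRing S] [IsDomain S] [IsIntegrallyClosed S] [Algebra A S]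
  [IsLocalHom (algebraMap A S)] [Hensel.IsStrictHenselization A S] (s : Finset S)
  (D : Subalgebra A S) [IsIntegrallyClosed D]

attribute [local instance] FractionRing.liftAlgebra

/-- elements of `LL` are fractions of elements of `D` -/
theorem exists_frac_of_mem_LL (hs : (s : Set S) ⊆ (D : Set S)) (l : FractionRing S)
    (hl : l ∈ LL A S s) :
    ∃ a b : D, b ≠ 0 ∧ l * algebraMap S (FractionRing S) (b : S) =
      algebraMap S (FractionRing S) (a : S) := by
  have hne : ∀ b : D, b ≠ 0 → algebraMap S (FractionRing S) (b : S) ≠ 0 := by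
    intro b hb h
    have := (IsFractionRing.injective S (FractionRing S)) (h.trans (map_zero _).symm)
    exact hb (Subtype.ext this)
  induction hl using IntermediateField.adjoin_induction with
  | mem l hl =>
    obtain ⟨x, hx, rfl⟩ := hl
    exact ⟨⟨x, hs hx⟩, 1, one_ne_zero, by simp⟩
  | algebraMap k =>
    obtain ⟨⟨a₀, b₀⟩, h⟩ := IsLocalization.surj (nonZeroDivisors A) k
    refine ⟨algebraMap A D a₀, algebraMap A D (b₀ : A), ?_, ?_⟩
    · intro h0
      have h1 : algebraMap A S (b₀ : A) = 0 := congrArg Subtype.val h0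
      have h2 := algebraMap_injective_of_strict A S (h1.trans (map_zero _).symm)
      exact nonZeroDivisors.coe_ne_zero b₀ h2
    · have h1 := congrArg (algebraMap (FractionRing A) (FractionRing S)) h
      rw [map_mul, ← IsScalarTower.algebraMap_apply A (FractionRing A) (FractionRing S),
        ← IsScalarTower.algebraMap_apply A (FractionRing A) (FractionRing S),
        IsScalarTower.algebraMap_apply A S (FractionRing S),
        IsScalarTower.algebraMap_apply A S (FractionRing S) a₀] at h1
      exact h1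
  | add l₁ l₂ _ _ h₁ h₂ =>
    obtain ⟨a₁, b₁, hb₁, e₁⟩ := h₁
    obtain ⟨a₂, b₂, hb₂, e₂⟩ := h₂
    refine ⟨a₁ * b₂ + a₂ * b₁, b₁ * b₂, mul_ne_zero hb₁ hb₂, ?_⟩
    simp only [Subalgebra.coe_mul, Subalgebra.coe_add, map_mul, map_add]
    rw [← e₁, ← e₂]; ring
  | inv l _ h =>
    obtain ⟨a, b, hb, e⟩ := h
    by_cases ha : a = 0
    · have h0 : l = 0 := by
        rw [ha, Subalgebra.coe_zero, map_zero] at e
        exact (mul_eq_zero.1 e).resolve_right (hne b hb)
      exact ⟨0, 1, one_ne_zero, by rw [h0]; simp⟩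
    · refine ⟨b, a, ha, ?_⟩
      have hane := hne a ha
      have hl0 : l ≠ 0 := by
        rintro rfl
        rw [zero_mul] at e
        exact hane e.symm
      rw [← e, ← mul_assoc, inv_mul_cancel₀ hl0, one_mul]
  | mul l₁ l₂ _ _ h₁ h₂ =>
    obtain ⟨a₁, b₁, hb₁, e₁⟩ := h₁
    obtain ⟨a₂, b₂, hb₂, e₂⟩ := h₂
    refine ⟨a₁ * a₂, b₁ * b₂, mul_ne_zero hb₁ hb₂, ?_⟩
    simp only [Subalgebra.coe_mul, map_mul]
    rw [← e₁, ← e₂]; ring

/-- a fraction of elements of `D` lying in `S` and integral over `A` lies in `D` -/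
theorem mem_of_isIntegral_of_mul_eq (a b : D) (hb : b ≠ 0) (x : S) (hx : IsIntegral A x)
    (h : x * (b : S) = (a : S)) : x ∈ D := by
  let g : D →ₐ[A] FractionRing S := (IsScalarTower.toAlgHom A S (FractionRing S)).comp D.val
  have hg : Function.Injective g :=
    (IsFractionRing.injective S (FractionRing S)).comp Subtype.val_injective
  let j : FractionRing D →ₐ[A] FractionRing S := IsFractionRing.liftAlgHom hg
  have hj : ∀ d : D, j (algebraMap D (FractionRing D) d) = algebraMap S (FractionRing S) (d : S) :=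
    fun d => IsFractionRing.lift_algebraMap hg d
  have hb' : algebraMap D (FractionRing D) b ≠ 0 := by
    intro h0
    exact hb ((IsFractionRing.injective D (FractionRing D)) (h0.trans (map_zero _).symm))
  obtain ⟨z, hzb⟩ : ∃ z : FractionRing D,
      z * algebraMap D (FractionRing D) b = algebraMap D (FractionRing D) a :=
    ⟨algebraMap D (FractionRing D) a * (algebraMap D (FractionRing D) b)⁻¹, by
      rw [mul_assoc, inv_mul_cancel₀ hb', mul_one]⟩
  have hjz : j z = algebraMap S (FractionRing S) x := by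
    have h1 := congrArg j hzb
    rw [map_mul, hj, hj, ← h, map_mul] at h1
    have hb'' : algebraMap S (FractionRing S) (b : S) ≠ 0 := by
      rw [← hj]
      exact fun h0 => hb' (j.toRingHom.injective (h0.trans (map_zero _).symm))
    exact mul_right_cancel₀ hb'' h1
  have hzint : IsIntegral A z := by
    rw [← isIntegral_algHom_iff j j.toRingHom.injective, hjz]
    exact hx.map (IsScalarTower.toAlgHom A S (FractionRing S))
  have hzint' : IsIntegral D z := hzint.tower_top
  obtain ⟨d, hd⟩ := (isIntegrallyClosed_iff (FractionRing D)).1 inferInstance hzint'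
  have h2 : algebraMap S (FractionRing S) (d : S) = algebraMap S (FractionRing S) x := by
    rw [← hj, hd, hjz]
  have h3 := (IsFractionRing.injective S (FractionRing S)) h2
  rw [← h3]
  exact d.2

theorem BS_le (hs : (s : Set S) ⊆ (D : Set S)) : BS A S s ≤ D := by
  intro x hx
  rw [mem_BS] at hx
  obtain ⟨a, b, hb, e⟩ := exists_frac_of_mem_LL A S s D hs _ hx.2
  rw [← map_mul] at e
  exact mem_of_isIntegral_of_mul_eq A S D a b hb x hx.1
    ((IsFractionRing.injective S (FractionRing S)) e)

theorem s16433_aux [IsLocalRing D] [IsLocalHom (algebraMap D S)]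
    (hs : (s : Set S) ⊆ (D : Set S)) :
    ∃ D' : Subalgebra A S, D' ≤ D ∧ (s : Set S) ⊆ (D' : Set S) ∧
      ∃ _ : IsLocalRing D', IsLocalHom (algebraMap D' S) ∧ EGA4loc.IsEssentiallyEtale A D' := by
  refine ⟨locSub (BS A S s), locSub_le _ D (BS_le A S s D hs), ?_, isLocalRing_locSub _,
    isLocalHom_locSub _, isEssentiallyEtale_locSub_BS A S s⟩
  intro x hx
  apply mem_locSub_of_mem_LL
  exact IntermediateField.subset_adjoin _ _ ⟨x, hx, rfl⟩

end s16433

theorem s16433 (A S : Type u) [CommRing A] [IsLocalRing A] [IsDomain A] [IsIntegrallyClosed A]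
    [IsNoetherianRing A] [CommRing S] [IsLocalRing S] [Algebra A S] [IsLocalHom (algebraMap A S)]
    [Hensel.IsStrictHenselization A S] (D : Subalgebra A S) [IsLocalRing D]
    [IsLocalHom (algebraMap D S)] [IsDomain D] [IsIntegrallyClosed D]
    (s : Finset S) (hs : (s : Set S) ⊆ (D : Set S)) :
    ∃ D' : Subalgebra A S, D' ≤ D ∧ (s : Set S) ⊆ (D' : Set S) ∧
      ∃ _ : IsLocalRing D', IsLocalHom (algebraMap D' S) ∧ EGA4loc.IsEssentiallyEtale A D' := by
  obtain ⟨h1, h2⟩ := (Groth.Agent.S2748.result A S).2 ⟨inferInstance, inferInstance⟩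
  exact s16433_aux A S s D hs

end Groth.Agent.Helper2.NormSub

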