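import Mathlib
import Groth.Prelude
import Groth.Agent.Helper2.NormSub5

set_option autoImplicit false
set_option linter.style.haveILetI false
set_option linter.unusedSectionVars false

/-! S16432 -/

universe u

namespace Groth.Agent.Helper2.NormSub

open IsLocalRing TensorProduct Groth.Agent.Helper1.Hens Groth.Agent.Helper1
  Groth.Agent.Helper2.EssEtSub

section s16432

variable (A S : Type u) [CommRing A] [IsLocalRing A] [IsDomain A] [IsIntegrallyClosed A]
  [IsNoetherianRing A]
  [CommRing S] [IsLocalRing S] [IsDomain S] [IsIntegrallyClosed S] [Algebra A S]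
  [IsLocalHom (algebraMap A S)] [Hensel.IsStrictHenselization A S]
  (D : Subalgebra A S) [IsIntegrallyClosed D] [IsLocalRing D] [IsLocalHom (algebraMap D S)]

attribute [local instance] FractionRing.liftAlgebra

theorem le_locSub_of_closure_eq_top (s : Finset S) (hs : (s : Set S) ⊆ (D : Set S))
    (hfg : Subfield.closure (Set.range (algebraMap A (FractionRing D)) ∪
        (algebraMap D (FractionRing D)) '' {d : D | (d : S) ∈ s}) = ⊤) :
    D ≤ locSub (BS A S s) := by
  set D' := locSub (BS A S s) with hD'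
  obtain ⟨i, hi⟩ := exists_stage_ge A S s
  haveI := isIntegrallyClosed_BS A S s
  haveI := isIntegrallyClosed_locSub (BS A S s)
  haveI := isLocalRing_locSub (BS A S s)
  haveI := isLocalHom_locSub (BS A S s)
  have hsD' : ∀ x ∈ s, x ∈ D' := by
    intro x hx
    apply mem_locSub_of_mem_LL
    exact IntermediateField.subset_adjoin _ _ ⟨x, hx, rfl⟩
  let ι := algebraMap D (FractionRing D)
  have hne : ∀ b : D, b ≠ 0 → ι b ≠ 0 := by
    intro b hb h
    exact hb ((IsFractionRing.injective D (FractionRing D)) (h.trans (map_zero _).symm))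
  have hcl : ∀ l ∈ Subfield.closure (Set.range (algebraMap A (FractionRing D)) ∪
        (algebraMap D (FractionRing D)) '' {d : D | (d : S) ∈ s}),
      ∃ a b : D, (a : S) ∈ D' ∧ (b : S) ∈ D' ∧ b ≠ 0 ∧ l * ι b = ι a := by
    intro l hl
    induction hl using Subfield.closure_induction with
    | mem l hl =>
      rcases hl with ⟨r, rfl⟩ | ⟨x, hx, rfl⟩
      · refine ⟨algebraMap A D r, 1, Subalgebra.algebraMap_mem _ r, Subalgebra.one_mem _,
          one_ne_zero, ?_⟩
        rw [map_one, mul_one]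
        exact IsScalarTower.algebraMap_apply A D (FractionRing D) r
      · exact ⟨x, 1, hsD' _ hx, Subalgebra.one_mem _, one_ne_zero, by rw [map_one, mul_one]⟩
    | one =>
      exact ⟨1, 1, Subalgebra.one_mem _, Subalgebra.one_mem _, one_ne_zero, by rw [one_mul]⟩
    | add l₁ l₂ _ _ h₁ h₂ =>
      obtain ⟨a₁, b₁, ha₁, hb₁', hb₁, e₁⟩ := h₁
      obtain ⟨a₂, b₂, ha₂, hb₂', hb₂, e₂⟩ := h₂
      refine ⟨a₁ * b₂ + a₂ * b₁, b₁ * b₂, ?_, ?_, mul_ne_zero hb₁ hb₂, ?_⟩
      · exact Subalgebra.add_mem _ (Subalgebra.mul_mem _ ha₁ hb₂') (Subalgebra.mul_mem _ ha₂ hb₁')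
      · exact Subalgebra.mul_mem _ hb₁' hb₂'
      · simp only [map_mul, map_add]
        rw [← e₁, ← e₂]; ring
    | neg l _ h =>
      obtain ⟨a, b, ha, hb', hb, e⟩ := h
      refine ⟨-a, b, Subalgebra.neg_mem _ ha, hb', hb, ?_⟩
      simp only [map_neg]
      rw [← e]; ring
    | inv l _ h =>
      obtain ⟨a, b, ha', hb', hb, e⟩ := h
      by_cases ha : a = 0
      · have h0 : l = 0 := by
          rw [ha, map_zero] at e
          exact (mul_eq_zero.1 e).resolve_right (hne b hb)
        exact ⟨0, 1, Subalgebra.zero_mem _, Subalgebra.one_mem _, one_ne_zero, by rw [h0]; simp⟩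
      · refine ⟨b, a, hb', ha', ha, ?_⟩
        have hane := hne a ha
        have hl0 : l ≠ 0 := by
          rintro rfl
          rw [zero_mul] at e
          exact hane e.symm
        rw [← e, ← mul_assoc, inv_mul_cancel₀ hl0, one_mul]
    | mul l₁ l₂ _ _ h₁ h₂ =>
      obtain ⟨a₁, b₁, ha₁, hb₁', hb₁, e₁⟩ := h₁
      obtain ⟨a₂, b₂, ha₂, hb₂', hb₂, e₂⟩ := h₂
      refine ⟨a₁ * a₂, b₁ * b₂, Subalgebra.mul_mem _ ha₁ ha₂, Subalgebra.mul_mem _ hb₁' hb₂',
        mul_ne_zero hb₁ hb₂, ?_⟩
      simp only [map_mul]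
      rw [← e₁, ← e₂]; ring
  intro x hx
  obtain ⟨a, b, ha, hb', hb, e⟩ := hcl (ι ⟨x, hx⟩) (by rw [hfg]; trivial)
  rw [← map_mul] at e
  have h1 : (⟨x, hx⟩ : D) * b = a := (IsFractionRing.injective D (FractionRing D)) e
  have h2 : x * (b : S) = (a : S) := congrArg Subtype.val h1
  have hb0 : (⟨(b : S), hb'⟩ : D') ≠ 0 := by
    intro h0
    have h3 : (b : S) = 0 := congrArg Subtype.val h0
    exact hb (Subtype.ext h3)
  exact mem_of_mul_eq A S D' i hi ⟨(a : S), ha⟩ ⟨(b : S), hb'⟩ hb0 x h2

theorem s16432_aux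
    (hfg : ∃ s : Finset D, Subfield.closure (Set.range (algebraMap A (FractionRing D)) ∪
        (algebraMap D (FractionRing D)) '' (s : Set D)) = ⊤) :
    EGA4loc.IsEssentiallyEtale A D := by
  classical
  obtain ⟨s, hs⟩ := hfg
  let s' : Finset S := s.image Subtype.val
  have hs' : (s' : Set S) ⊆ (D : Set S) := by
    intro x hx
    rw [Finset.mem_coe, Finset.mem_image] at hx
    obtain ⟨d, -, rfl⟩ := hx
    exact d.2
  have hset : {d : D | (d : S) ∈ s'} = (s : Set D) := by
    ext d
    simp only [Set.mem_ofPred_eq, Finset.mem_coe, s', Finset.mem_image]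
    constructor
    · rintro ⟨d', hd', h⟩
      rw [← Subtype.ext h]
      exact hd'
    · intro hd
      exact ⟨d, hd, rfl⟩
  have h1 : D ≤ locSub (BS A S s') :=
    le_locSub_of_closure_eq_top A S D s' hs' (by rw [hset]; exact hs)
  have h2 : locSub (BS A S s') ≤ D := locSub_le _ D (BS_le A S s' D hs')
  have h3 : locSub (BS A S s') = D := le_antisymm h2 h1
  have h4 := isEssentiallyEtale_locSub_BS A S s'
  rw [h3] at h4
  exact h4

end s16432

theorem s16432 (A S : Type u) [CommRing A] [IsLocalRing A] [IsDomain A] [IsIntegrallyClosed A]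
    [IsNoetherianRing A] [CommRing S] [IsLocalRing S] [Algebra A S] [IsLocalHom (algebraMap A S)]
    [Hensel.IsStrictHenselization A S] (D : Subalgebra A S) [IsLocalRing D]
    [IsLocalHom (algebraMap D S)] [IsDomain D] [IsIntegrallyClosed D]
    (hfg : ∃ s : Finset D, Subfield.closure (Set.range (algebraMap A (FractionRing D)) ∪
        (algebraMap D (FractionRing D)) '' (s : Set D)) = ⊤) :
    EGA4loc.IsEssentiallyEtale A D := by
  obtain ⟨h1, h2⟩ := (Groth.Agent.S2748.result A S).2 ⟨inferInstance, inferInstance⟩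
  exact s16432_aux A S D hfg

end Groth.Agent.Helper2.NormSub

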