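import Mathlib
import Groth.Agent.Helper5.VarDim15

set_option autoImplicit false
set_option linter.style.haveILetI false
set_option linter.unusedSectionVars false
set_option linter.unusedVariables false

open CategoryTheory CategoryTheory.Limits AlgebraicGeometry TopologicalSpace

universe u

namespace Groth.Agent.Helper2.ZeroDim

/-- A global function vanishing at a point without proper generizations vanishes (as a point
function) on a whole neighbourhood. -/
lemma exists_nhd_disjoint_basicOpen {X : Scheme.{u}} (f : Γ(X, ⊤)) (η : X)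
    (hmax : ∀ ξ : X, ξ ⤳ η → ξ = η) (hη : η ∉ X.basicOpen f) :
    ∃ W : X.Opens, η ∈ W ∧ ∀ y ∈ W, y ∉ X.basicOpen f := by
  have hprime : ∀ P : PrimeSpectrum (X.presheaf.stalk η),
      P = IsLocalRing.closedPoint (X.presheaf.stalk η) := by
    intro P
    have h1 : X.fromSpecStalk η P ⤳ η := by
      have : X.fromSpecStalk η P ∈ Set.range (X.fromSpecStalk η) := ⟨P, rfl⟩
      rw [Scheme.range_fromSpecStalk] at this
      exact this
    have h2 := hmax _ h1
    have h3 : X.fromSpecStalk η (IsLocalRing.closedPoint (X.presheaf.stalk η)) = η :=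
      Scheme.fromSpecStalk_closedPoint
    exact (X.fromSpecStalk η).isEmbedding.injective (h2.trans h3.symm)
  have hnu : ¬ IsUnit (X.presheaf.germ ⊤ η trivial f) := by
    intro hu
    exact hη ((X.mem_basicOpen f η trivial).2 hu)
  have hnil : IsNilpotent (X.presheaf.germ ⊤ η trivial f) := by
    rw [← mem_nilradical, nilradical_eq_sInf, Ideal.mem_sInf]
    intro J hJ
    have h1 := hprime ⟨J, hJ⟩
    have h2 : J = IsLocalRing.maximalIdeal (X.presheaf.stalk η) := by
      have := congrArg PrimeSpectrum.asIdeal h1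
      exact this
    rw [h2]
    exact (IsLocalRing.mem_maximalIdeal _).2 hnu
  obtain ⟨n, hn⟩ := hnil
  have hgerm : X.presheaf.germ ⊤ η trivial (f ^ n) = X.presheaf.germ ⊤ η trivial 0 := by
    rw [map_pow, hn, map_zero]
  obtain ⟨W, hηW, i1, i2, hW⟩ := TopCat.Presheaf.germ_eq X.presheaf η (U := ⊤) (V := ⊤) trivial trivial _ _ hgerm
  refine ⟨W, hηW, ?_⟩
  intro y hyW hy
  have hu : IsUnit (X.presheaf.germ ⊤ y trivial f) := (X.mem_basicOpen f y trivial).1 hy
  have hu' : IsUnit (X.presheaf.germ ⊤ y trivial (f ^ n)) := by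
    rw [map_pow]; exact hu.pow n
  have h0 : X.presheaf.germ ⊤ y trivial (f ^ n) = 0 := by
    have e1 : X.presheaf.germ ⊤ y trivial (f ^ n) =
        X.presheaf.germ W y hyW (X.presheaf.map i1.op (f ^ n)) := by
      rw [TopCat.Presheaf.germ_res_apply]
    rw [e1, hW, map_zero, map_zero]
  rw [h0] at hu'
  exact not_isUnit_zero hu'

/-- If the zero locus of `f` has empty interior, every point of it has a proper generization. -/
lemma exists_proper_generization {X : Scheme.{u}} (f : Γ(X, ⊤))
    (hY : interior (X.zeroLocus (U := ⊤) {f}) = ∅) (η : X) (hη : η ∈ X.zeroLocus (U := ⊤) {f}) :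
    ∃ ξ : X, ξ ⤳ η ∧ ξ ≠ η := by
  by_contra hcon
  push Not at hcon
  rw [Scheme.zeroLocus_singleton] at hη
  obtain ⟨W, hηW, hW⟩ := exists_nhd_disjoint_basicOpen f η hcon hη
  have h1 : (W : Set X) ⊆ X.zeroLocus (U := ⊤) {f} := by
    intro y hy
    rw [Scheme.zeroLocus_singleton]
    exact hW y hy
  have h2 : η ∈ interior (X.zeroLocus (U := ⊤) {f}) :=
    mem_interior.2 ⟨W, h1, W.2, hηW⟩
  rw [hY] at h2
  exact h2



lemma chain_extend {X : Type*} [TopologicalSpace X] [QuasiSober X] [T0Space X]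
    (Y : Set X) (hYc : IsClosed Y) (h : ∀ η ∈ Y, ∃ ξ : X, ξ ⤳ η ∧ ξ ≠ η) (n : ℕ)
    (hn : (n : WithBot ℕ∞) ≤ topologicalKrullDim Y) :
    ((n + 1 : ℕ) : WithBot ℕ∞) ≤ topologicalKrullDim X := by
  obtain ⟨l, hl⟩ := Order.le_krullDim_iff.1 hn
  let φ : IrreducibleCloseds Y → IrreducibleCloseds X :=
    IrreducibleCloseds.map Subtype.val continuous_subtype_val
  have hφ : StrictMono φ := IrreducibleCloseds.map_strictMono_of_isInducing
    Topology.IsInducing.subtypeVal
  let l' : LTSeries (IrreducibleCloseds X) := l.map φ hφ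
  let T : IrreducibleCloseds X := l'.last
  have hTY : (T : Set X) ⊆ Y := by
    have : (T : Set X) = closure (Subtype.val '' (l.last : Set Y)) := by
      show ((l.map φ hφ).last : Set X) = _
      rw [LTSeries.last_map]
      rfl
    rw [this]
    apply closure_minimal _ hYc
    rintro _ ⟨y, -, rfl⟩
    exact y.2
  obtain ⟨η, hη⟩ := QuasiSober.sober T.isIrreducible T.isClosed
  have hηT : η ∈ (T : Set X) := hη.mem
  obtain ⟨ξ, hξ, hne⟩ := h η (hTY hηT)
  let T' : IrreducibleCloseds X :=
    ⟨closure {ξ}, isIrreducible_singleton.closure, isClosed_closure⟩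
  have hlt : T < T' := by
    have hle : (T : Set X) ⊆ closure {ξ} := by
      rw [← hη.def]
      exact closure_minimal (Set.singleton_subset_iff.2 hξ.mem_closure) isClosed_closure
    refine lt_of_le_of_ne hle ?_
    intro heq
    have h1 : ξ ∈ (T : Set X) := by
      rw [heq]; exact subset_closure rfl
    have h2 : η ⤳ ξ := hη.specializes h1
    exact hne ((hξ.antisymm h2).eq)
  have hlen : (l'.snoc T' hlt).length = n + 1 := by
    simp [l', hl]
  have := Order.LTSeries.length_le_krullDim (l'.snoc T' hlt)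
  rw [hlen] at this
  exact this

lemma dim_add_one_le {X : Type*} [TopologicalSpace X] [QuasiSober X] [T0Space X]
    (Y : Set X) (hYc : IsClosed Y) (h : ∀ η ∈ Y, ∃ ξ : X, ξ ⤳ η ∧ ξ ≠ η) :
    topologicalKrullDim Y + 1 ≤ topologicalKrullDim X := by
  have key := chain_extend Y hYc h
  generalize topologicalKrullDim Y = a at key ⊢
  generalize topologicalKrullDim X = b at key ⊢
  induction a using WithBot.recBotCoe with
  | bot => simp
  | coe a =>
    induction a using ENat.recTopCoe with
    | top =>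
      have hb : ∀ n : ℕ, ((n + 1 : ℕ) : WithBot ℕ∞) ≤ b := fun n => key n (by exact_mod_cast le_top)
      induction b using WithBot.recBotCoe with
      | bot => exact absurd (hb 0) (by simp)
      | coe b =>
        have : b = ⊤ := by
          rw [ENat.eq_top_iff_forall_ge]
          intro m
          have := hb m
          have h2 : ((m + 1 : ℕ) : ℕ∞) ≤ b := by exact_mod_cast this
          exact le_trans (by exact_mod_cast Nat.le_succ m) h2
        rw [this]
        exact le_top
    | coe n =>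
      have := key n le_rfl
      exact_mod_cast this



lemma between_of_minimal {A : Type*} [CommRing A] [IsNoetherianRing A] (P R Q : Ideal A)
    [P.IsPrime] [R.IsPrime] [Q.IsPrime]
    (a : A) (hQ : Q ∈ (P ⊔ Ideal.span {a}).minimalPrimes) (hPR : P ≤ R) (hRQ : R ≤ Q) :
    R = P ∨ R = Q := by
  let π := Ideal.Quotient.mk P
  have hπ : Function.Surjective π := Ideal.Quotient.mk_surjective
  have hker : RingHom.ker π = P := Ideal.mk_ker
  have hmap : (P ⊔ Ideal.span {a}).map π = Ideal.span {π a} := by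
    rw [Ideal.map_sup, Ideal.map_span, Set.image_singleton, Ideal.map_quotient_self, bot_sup_eq]
  have hQ' : Q.map π ∈ (Ideal.span {π a}).minimalPrimes := by
    rw [← hmap, Ideal.minimalPrimes_map_of_surjective hπ]
    refine ⟨Q, ?_, rfl⟩
    rw [hker, sup_eq_left.2 le_sup_left]
    exact hQ
  have hQp : (Q.map π).IsPrime :=
    Ideal.map_isPrime_of_surjective hπ (hker.le.trans (hPR.trans hRQ))
  have hRp : (R.map π).IsPrime := Ideal.map_isPrime_of_surjective hπ (hker.le.trans hPR)
  have hht : (Q.map π).height ≤ 1 :=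
    Ideal.height_le_one_of_isPrincipal_of_mem_minimalPrimes _ _ hQ'
  by_cases hRQ' : R = Q
  · right; exact hRQ'
  left
  have hlt : R.map π < Q.map π := by
    refine lt_of_le_of_ne (Ideal.map_mono hRQ) ?_
    intro heq
    apply hRQ'
    have := congrArg (Ideal.comap π) heq
    rw [Ideal.comap_map_of_surjective π hπ, Ideal.comap_map_of_surjective π hπ,
      ← RingHom.ker_eq_comap_bot, hker, sup_eq_left.2 hPR, sup_eq_left.2 (hPR.trans hRQ)] at this
    exact this
  have h0 : (R.map π).height = 0 := by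
    have := Ideal.height_strict_mono_of_isPrime_of_isPrime hlt
    have h1 : (R.map π).height < 1 := lt_of_lt_of_le this hht
    exact Order.lt_one_iff.1 h1
  rw [Ideal.height_eq_zero_iff_eq_bot] at h0
  apply le_antisymm _ hPR
  rw [← hker]
  intro x hx
  rw [RingHom.mem_ker]
  have : π x ∈ R.map π := Ideal.mem_map_of_mem π hx
  rw [h0] at this
  exact this

/-- In a locally noetherian scheme, if `ξ ∉ V(f)` specializes to `y ∈ V(f)`, there is an immediate
specialization `η` of `ξ` in `V(f)`. -/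
lemma exists_immediate {X : Scheme.{u}} [IsLocallyNoetherian X] (f : Γ(X, ⊤)) (ξ y : X)
    (hsp : ξ ⤳ y) (hξ : ξ ∈ X.basicOpen f) (hy : y ∉ X.basicOpen f) :
    ∃ η : X, ξ ⤳ η ∧ η ∉ X.basicOpen f ∧ η ≠ ξ ∧
      ∀ t : X, ξ ⤳ t → t ⤳ η → t = ξ ∨ t = η := by
  obtain ⟨U, hU, hyU⟩ : ∃ U : X.Opens, IsAffineOpen U ∧ y ∈ U := by
    obtain ⟨_, ⟨V, hV, rfl⟩, hxV, -⟩ :=
      (X.isBasis_affineOpens).exists_subset_of_mem_open (Set.mem_univ y) isOpen_univ
    exact ⟨V, hV, hxV⟩
  have hξU : ξ ∈ U := hsp.mem_open U.2 hyU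
  have hN : IsNoetherianRing Γ(X, U) := IsLocallyNoetherian.component_noetherian ⟨U, hU⟩
  let A := Γ(X, U)
  let j : Spec A ⟶ X := hU.fromSpec
  have hjemb : Topology.IsOpenEmbedding j := hU.fromSpec.isOpenEmbedding
  let a : A := X.presheaf.map (homOfLE le_top).op f
  have hbo : X.basicOpen a = U ⊓ X.basicOpen f := Scheme.basicOpen_res _ _ _
  -- membership translation
  have hmem : ∀ q : PrimeSpectrum A, j q ∈ X.basicOpen f ↔ a ∉ q.asIdeal := by
    intro q
    have hq : j q ∈ U := by
      have : j q ∈ Set.range j := ⟨q, rfl⟩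
      rw [hU.range_fromSpec] at this
      exact this
    have h1 : j q ∈ X.basicOpen a ↔ q ∈ PrimeSpectrum.basicOpen a := by
      have := hU.fromSpec_preimage_basicOpen a
      rw [← this]
      rfl
    rw [hbo] at h1
    constructor
    · intro h
      exact (h1.1 ⟨hq, h⟩)
    · intro h
      exact (h1.2 h).2
  let py : PrimeSpectrum A := hU.primeIdealOf ⟨y, hyU⟩
  let pξ : PrimeSpectrum A := hU.primeIdealOf ⟨ξ, hξU⟩
  have hjy : j py = y := hU.fromSpec_primeIdealOf ⟨y, hyU⟩
  have hjξ : j pξ = ξ := hU.fromSpec_primeIdealOf ⟨ξ, hξU⟩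
  have hspec : ∀ p q : PrimeSpectrum A, j p ⤳ j q ↔ p.asIdeal ≤ q.asIdeal := by
    intro p q
    rw [hjemb.isInducing.specializes_iff]
    exact (PrimeSpectrum.le_iff_specializes p q).symm
  have hle : pξ.asIdeal ≤ py.asIdeal := by
    rw [← hspec, hjy, hjξ]; exact hsp
  have hay : a ∈ py.asIdeal := by
    by_contra h
    exact hy (hjy ▸ (hmem py).2 h)
  have haξ : a ∉ pξ.asIdeal := (hmem pξ).1 (hjξ.symm ▸ hξ)
  have hI : pξ.asIdeal ⊔ Ideal.span {a} ≤ py.asIdeal :=
    sup_le hle ((Ideal.span_singleton_le_iff_mem _).2 hay)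
  obtain ⟨Q, hQmin, hQle⟩ := Ideal.exists_minimalPrimes_le hI
  have hQp : Q.IsPrime := hQmin.1.1
  let q : PrimeSpectrum A := ⟨Q, hQp⟩
  have hPQ : pξ.asIdeal ≤ Q := le_sup_left.trans hQmin.1.2
  have haQ : a ∈ Q := hQmin.1.2 (le_sup_right (a := pξ.asIdeal) (Ideal.mem_span_singleton_self a))
  refine ⟨j q, ?_, ?_, ?_, ?_⟩
  · rw [← hjξ, hspec]; exact hPQ
  · rw [hmem]; exact fun h => h haQ
  · intro heq
    rw [← hjξ] at heq
    have := hjemb.injective heq
    apply haξ
    rw [← this]
    exact haQ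
  · intro t ht1 ht2
    have hqU : j q ∈ U := by
      have : j q ∈ Set.range j := ⟨q, rfl⟩
      rw [hU.range_fromSpec] at this
      exact this
    have htU : t ∈ U := ht2.mem_open U.2 hqU
    let r : PrimeSpectrum A := hU.primeIdealOf ⟨t, htU⟩
    have hjr : j r = t := hU.fromSpec_primeIdealOf ⟨t, htU⟩
    have h1 : pξ.asIdeal ≤ r.asIdeal := by
      rw [← hspec, hjξ, hjr]; exact ht1
    have h2 : r.asIdeal ≤ Q := by
      rw [← hjr] at ht2
      exact (hspec r q).1 ht2
    rcases between_of_minimal pξ.asIdeal r.asIdeal Q a hQmin h1 h2 with h | h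
    · left
      rw [← hjr, ← hjξ]
      congr 1
      exact PrimeSpectrum.ext h
    · right
      rw [← hjr]
      congr 1
      exact PrimeSpectrum.ext h


open Groth.Agent.Helper5.VarDim in
theorem main (k : Type u) [Field k] (X : Scheme.{u}) (p : X ⟶ Spec (CommRingCat.of k))
    [LocallyOfFiniteType p] (f : Γ(X, ⊤)) (hY : interior (X.zeroLocus (U := ⊤) {f}) = ∅) :
    topologicalKrullDim (X.zeroLocus (U := ⊤) {f}) + 1 ≤ topologicalKrullDim X ∧
      ((∃ Z ∈ irreducibleComponents (X : Type u), topologicalKrullDim Z = topologicalKrullDim X) →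
        (∀ Z ∈ irreducibleComponents (X : Type u), topologicalKrullDim Z = topologicalKrullDim X →
          (Z ∩ X.zeroLocus (U := ⊤) {f}).Nonempty) →
        topologicalKrullDim (X.zeroLocus (U := ⊤) {f}) + 1 = topologicalKrullDim X) := by
  have hYc : IsClosed (X.zeroLocus (U := ⊤) {f}) := X.zeroLocus_isClosed _
  have h1 : topologicalKrullDim (X.zeroLocus (U := ⊤) {f}) + 1 ≤ topologicalKrullDim X :=
    dim_add_one_le _ hYc (exists_proper_generization f hY)
  refine ⟨h1, ?_⟩
  rintro ⟨Z, hZ, hdim⟩ hmeet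
  apply le_antisymm h1
  obtain ⟨y, hyZ, hyY⟩ := hmeet Z hZ hdim
  have hZcl : IsClosed Z := isClosed_of_mem_irreducibleComponents Z hZ
  obtain ⟨ξ, hξ⟩ := QuasiSober.sober hZ.1 hZcl
  have hξmax : ∀ t : X, t ⤳ ξ → t = ξ := by
    intro t ht
    have h2 : Z ⊆ closure {t} := by
      rw [← hξ.def]
      exact closure_minimal (Set.singleton_subset_iff.2 ht.mem_closure) isClosed_closure
    have h3 : closure {t} ⊆ Z := hZ.le_of_ge isIrreducible_singleton.closure h2
    have h4 : t ∈ Z := h3 (subset_closure rfl)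
    exact ((hξ.specializes h4).antisymm ht).eq.symm
  have hξbo : ξ ∈ X.basicOpen f := by
    by_contra hcon
    have : ξ ∈ X.zeroLocus (U := ⊤) {f} := by
      rw [Scheme.zeroLocus_singleton]; exact hcon
    obtain ⟨t, ht, hne⟩ := exists_proper_generization f hY ξ this
    exact hne (hξmax t ht)
  have hyY' : y ∉ X.basicOpen f := by
    rw [Scheme.zeroLocus_singleton] at hyY; exact hyY
  have hLN : IsLocallyNoetherian X := LocallyOfFiniteType.isLocallyNoetherian p
  obtain ⟨η, hsp, hηY, hne, himm⟩ := exists_immediate f ξ y (hξ.specializes hyZ) hξbo hyY'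
  obtain ⟨n, hn1, hn2⟩ := trdeg_of_immediate k p ξ η hne.symm hsp himm
  obtain ⟨m, hm1, hm2⟩ := dim_closure_point k p η
  obtain ⟨m', hm1', hm2'⟩ := dim_closure_point k p ξ
  have e1 : m = n := by
    have := hm2.symm.trans hn1
    exact_mod_cast this
  have e2 : m' = n + 1 := by
    have := hm2'.symm.trans hn2
    exact_mod_cast this
  subst e1 e2
  have hZdim : topologicalKrullDim X = ((m + 1 : ℕ) : WithBot ℕ∞) := by
    rw [← hdim, ← hm1', hξ.def]
  have hsub : closure ({η} : Set X) ⊆ X.zeroLocus (U := ⊤) {f} := by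
    apply closure_minimal _ hYc
    rw [Set.singleton_subset_iff, Scheme.zeroLocus_singleton]
    exact hηY
  have hle : topologicalKrullDim ↥(closure ({η} : Set X)) ≤
      topologicalKrullDim ↥(X.zeroLocus (U := ⊤) {f}) :=
    (Topology.IsEmbedding.inclusion hsub).isInducing.topologicalKrullDim_le
  rw [hZdim]
  rw [hm1] at hle
  calc ((m + 1 : ℕ) : WithBot ℕ∞) = (m : WithBot ℕ∞) + 1 := by push_cast; rfl
    _ ≤ _ := by gcongr

end Groth.Agent.Helper2.ZeroDim
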