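import Mathlib
import Groth.Agent.Helper2.ZeroDim

set_option autoImplicit false
set_option linter.style.haveILetI false
set_option linter.unusedSectionVars false
set_option linter.unusedVariables false

open CategoryTheory CategoryTheory.Limits AlgebraicGeometry TopologicalSpace

universe u

namespace Groth.Agent.Helper2.NowhereDim

/-- In a noetherian ring, a minimal prime is an interior point of its closure. -/
lemma exists_open_subset_zeroLocus {A : Type*} [CommRing A] [IsNoetherianRing A]
    (q : PrimeSpectrum A) (hq : q.asIdeal ∈ minimalPrimes A) :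
    ∃ D : Set (PrimeSpectrum A), IsOpen D ∧ q ∈ D ∧ D ⊆ closure {q} := by
  have hfin : (minimalPrimes A).Finite := minimalPrimes.finite_of_isNoetherianRing A
  let S : Set (Ideal A) := minimalPrimes A \ {q.asIdeal}
  have hSfin : S.Finite := hfin.subset Set.sdiff_subset
  let C : Set (PrimeSpectrum A) := ⋃ p ∈ S, PrimeSpectrum.zeroLocus (p : Set A)
  have hC : IsClosed C := hSfin.isClosed_biUnion fun p _ => PrimeSpectrum.isClosed_zeroLocus _
  refine ⟨Cᶜ, hC.isOpen_compl, ?_, ?_⟩
  · intro hqC
    simp only [C, Set.mem_iUnion, PrimeSpectrum.mem_zeroLocus, SetLike.coe_subset_coe] at hqC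
    obtain ⟨p, hpS, hpq⟩ := hqC
    have : q.asIdeal ≤ p := hq.2 ⟨hpS.1.1.1, bot_le⟩ hpq
    exact hpS.2 (le_antisymm hpq this)
  · intro r hr
    obtain ⟨p, hp, hpr⟩ := Ideal.exists_minimalPrimes_le (I := ⊥) (J := r.asIdeal) bot_le
    by_cases hpq : p = q.asIdeal
    · rw [← specializes_iff_mem_closure, ← PrimeSpectrum.le_iff_specializes]
      show q.asIdeal ≤ r.asIdeal
      rw [← hpq]; exact hpr
    · exfalso
      apply hr
      simp only [C, Set.mem_iUnion, PrimeSpectrum.mem_zeroLocus, SetLike.coe_subset_coe]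
      exact ⟨p, ⟨hp, hpq⟩, hpr⟩

/-- In a locally noetherian scheme, a point without proper generizations is an interior point of
every closed set containing it. -/
lemma mem_interior_of_maximal {X : Scheme.{u}} [IsLocallyNoetherian X] (η : X)
    (hmax : ∀ ξ : X, ξ ⤳ η → ξ = η) (W : Set X) (hW : IsClosed W) (hη : η ∈ W) :
    η ∈ interior W := by
  obtain ⟨U, hU, hηU⟩ : ∃ U : X.Opens, IsAffineOpen U ∧ η ∈ U := by
    obtain ⟨_, ⟨V, hV, rfl⟩, hxV, -⟩ :=
      (X.isBasis_affineOpens).exists_subset_of_mem_open (Set.mem_univ η) isOpen_univ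
    exact ⟨V, hV, hxV⟩
  have hN : IsNoetherianRing Γ(X, U) := IsLocallyNoetherian.component_noetherian ⟨U, hU⟩
  let A := Γ(X, U)
  let j : Spec A ⟶ X := hU.fromSpec
  have hjemb : Topology.IsOpenEmbedding j := hU.fromSpec.isOpenEmbedding
  let q : PrimeSpectrum A := hU.primeIdealOf ⟨η, hηU⟩
  have hjq : j q = η := hU.fromSpec_primeIdealOf ⟨η, hηU⟩
  have hqmin : q.asIdeal ∈ minimalPrimes A := by
    refine ⟨⟨q.2, bot_le⟩, ?_⟩
    rintro p ⟨hp, -⟩ hpq
    let p' : PrimeSpectrum A := ⟨p, hp⟩
    have h1 : j p' ⤳ j q := by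
      rw [hjemb.isInducing.specializes_iff]
      exact (PrimeSpectrum.le_iff_specializes p' q).1 hpq
    rw [hjq] at h1
    have h2 := hmax _ h1
    rw [← hjq] at h2
    have h3 : p' = q := hjemb.injective h2
    rw [← h3]
  obtain ⟨D, hDo, hqD, hDsub⟩ := exists_open_subset_zeroLocus q hqmin
  rw [mem_interior]
  refine ⟨j '' D, ?_, hjemb.isOpenMap D hDo, ⟨q, hqD, hjq⟩⟩
  rintro _ ⟨r, hrD, rfl⟩
  have h1 : q ⤳ r := specializes_iff_mem_closure.2 (hDsub hrD)
  have h2 : j q ⤳ j r := h1.map j.continuous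
  rw [hjq] at h2
  exact hW.closure_subset_iff.2 (Set.singleton_subset_iff.2 hη) h2.mem_closure

lemma exists_proper_generization {X : Scheme.{u}} [IsLocallyNoetherian X] (W : Set X)
    (hW : IsClosed W) (hint : interior W = ∅) (η : X) (hη : η ∈ W) :
    ∃ ξ : X, ξ ⤳ η ∧ ξ ≠ η := by
  by_contra hcon
  push Not at hcon
  have := mem_interior_of_maximal η hcon W hW hη
  rw [hint] at this
  exact this

open Groth.Agent.Helper5.VarDim in
theorem main {k : Type u} [Field k] {Y : Scheme.{u}} [Nonempty ↥Y]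
    (g : Y ⟶ Spec (CommRingCat.of k)) [LocallyOfFiniteType g]
    (heq : ∀ T ∈ irreducibleComponents ↥Y, topologicalKrullDim ↥T = topologicalKrullDim ↥Y)
    (Z : Set ↥Y) (hZ : IsLocallyClosed Z) :
    IsNowhereDense Z ↔ topologicalKrullDim ↥Z < topologicalKrullDim ↥Y := by
  have hLN : IsLocallyNoetherian Y := LocallyOfFiniteType.isLocallyNoetherian g
  -- dim Y is a natural number
  obtain ⟨m, hm⟩ : ∃ m : ℕ, topologicalKrullDim ↥Y = (m : WithBot ℕ∞) := by
    obtain ⟨y⟩ := ‹Nonempty ↥Y›
    obtain ⟨T, hT, -⟩ := exists_mem_irreducibleComponents_subset_of_isIrreducible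
      ({y} : Set Y) isIrreducible_singleton
    obtain ⟨ξ, hξ⟩ := QuasiSober.sober hT.1 (isClosed_of_mem_irreducibleComponents T hT)
    obtain ⟨m, hm1, -⟩ := dim_closure_point k g ξ
    refine ⟨m, ?_⟩
    rw [← heq T hT, ← hm1, hξ.def]
  constructor
  · intro hnd
    have hint : interior (closure Z) = ∅ := hnd
    have h1 : topologicalKrullDim ↥(closure Z) + 1 ≤ topologicalKrullDim ↥Y :=
      Groth.Agent.Helper2.ZeroDim.dim_add_one_le (closure Z) isClosed_closure
        (exists_proper_generization (closure Z) isClosed_closure hint)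
    have h2 : topologicalKrullDim ↥Z ≤ topologicalKrullDim ↥(closure Z) :=
      (Topology.IsEmbedding.inclusion subset_closure).isInducing.topologicalKrullDim_le
    rw [hm] at h1 ⊢
    generalize topologicalKrullDim ↥Z = a at h2
    generalize topologicalKrullDim ↥(closure Z) = b at h1 h2
    induction b using WithBot.recBotCoe with
    | bot =>
      rw [le_bot_iff] at h2
      rw [h2]
      exact WithBot.bot_lt_coe _
    | coe b =>
      refine lt_of_le_of_lt h2 ?_
      have h3 : b + 1 ≤ (m : ℕ∞) := by exact_mod_cast h1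
      have hb : b ≠ ⊤ := by
        rintro rfl
        simp at h3
      have h4 : b < (m : ℕ∞) := (ENat.add_one_le_iff hb).1 h3
      exact_mod_cast h4
  · intro hlt
    by_contra hnd
    have hne : (interior (closure Z)).Nonempty := by
      rw [Set.nonempty_iff_ne_empty]
      exact hnd
    obtain ⟨U, C, hU, hC, rfl⟩ := hZ
    obtain ⟨v0, hv0⟩ := hne
    have hVC : interior (closure (U ∩ C)) ⊆ C := by
      refine interior_subset.trans ?_
      exact closure_minimal Set.inter_subset_right hC
    have hv0cl : v0 ∈ closure (U ∩ C) := interior_subset hv0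
    obtain ⟨v, hvV, hvUC⟩ := mem_closure_iff.1 hv0cl _ isOpen_interior hv0
    let V' : Opens Y := ⟨interior (closure (U ∩ C)) ∩ U, isOpen_interior.inter hU⟩
    have hvV' : v ∈ V' := ⟨hvV, hvUC.1⟩
    have hV'Z : (V' : Set Y) ⊆ U ∩ C := fun t ht => ⟨ht.2, hVC ht.1⟩
    have h1 : FlatMor.localDim Y v = topologicalKrullDim ↥Y :=
      localDim_eq_of_components k g _ heq v
    have h2 : FlatMor.localDim Y v ≤ topologicalKrullDim ↥(V' : Set Y) := by
      unfold FlatMor.localDim
      exact iInf_le (fun U : {U : Opens Y // v ∈ U} => topologicalKrullDim ↥(U.1 : Set Y))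
        ⟨V', hvV'⟩
    have h3 : topologicalKrullDim ↥(V' : Set Y) ≤ topologicalKrullDim ↥(U ∩ C) :=
      (Topology.IsEmbedding.inclusion hV'Z).isInducing.topologicalKrullDim_le
    have := (h1 ▸ h2).trans h3
    exact absurd hlt (not_lt.2 this)

end Groth.Agent.Helper2.NowhereDim
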