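import Mathlib
import Groth.Prelude
import Groth.Agent.Helper2.EssFT2
import Groth.Agent.Helper2.HExt1

set_option autoImplicit false
set_option linter.style.haveILetI false
set_option linter.unusedSectionVars false
set_option linter.unusedVariables false

universe u

/-! The total ring of fractions `K_D` of an intermediate ring `A ⊆ D ⊆ S` inside `Frac S`; it is
von Neumann regular when `D` is contained in an essentially étale local subalgebra. -/

namespace Groth.Agent.Helper2.NrmR

open IsLocalRing TensorProduct Groth.Agent.Helper2.TotFrac Groth.Agent.Helper2.EssFT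
  Groth.Agent.Helper1

section basics

variable (A E : Type u) [CommRing A] [IsLocalRing A] [CommRing E] [Algebra A E]

theorem quasiFinite_of_isEssentiallyEtale (hE : EGA4loc.IsEssentiallyEtale A E) :
    Algebra.QuasiFinite A E := by
  obtain ⟨C, _, _, q, _, hC, -, ⟨e⟩⟩ := hE
  haveI := hC
  haveI : Algebra.QuasiFinite A (Localization.AtPrime q) :=
    Algebra.QuasiFinite.of_isLocalization (R := A) (S := C) q.primeCompl
  exact Algebra.QuasiFinite.of_surjective_algHom (e.symm : Localization.AtPrime q →ₐ[A] E)
    e.symm.surjective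

end basics

section sub

variable (A S : Type u) [CommRing A] [IsLocalRing A] [IsReduced A]
    [CommRing S] [IsLocalRing S] [Algebra A S] [IsLocalHom (algebraMap A S)]
    [Hensel.IsStrictHenselization A S]

/-- an essentially étale local subalgebra of `S` is dominated by `S` -/
theorem isLocalHom_of_essEtale (E : Subalgebra A S) [IsLocalRing E]
    (hE : EGA4loc.IsEssentiallyEtale A E) : IsLocalHom (algebraMap E S) := by
  haveI : IsLocalHom (algebraMap A E) := Groth.Agent.Helper2.EssEtSub.isLocalHom_algebraMap_sub A S E
  obtain ⟨h1, h2⟩ := EssEt.props_of_isEssentiallyEtale hE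
  haveI := h1
  haveI : Algebra.FormallyUnramified A E := inferInstance
  refine ⟨fun e he => ?_⟩
  by_contra hnu
  have h3 := EssEt.map_maximalIdeal_le (IsScalarTower.toAlgHom A E S) e
    ((mem_maximalIdeal e).mpr hnu)
  exact ((mem_maximalIdeal _).mp h3) he

theorem isStrictHenselization_sub (E : Subalgebra A S) [IsLocalRing E]
    (hE : EGA4loc.IsEssentiallyEtale A E) [IsLocalHom (algebraMap E S)] :
    Hensel.IsStrictHenselization E S := by
  haveI : IsLocalHom (algebraMap A E) := Groth.Agent.Helper2.EssEtSub.isLocalHom_algebraMap_sub A S E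
  exact Groth.Agent.Helper2.HExt.isStrictHenselization_of_essEtale A E S hE

variable (D : Subalgebra A S)

/-- the total ring of fractions of `D` inside that of `S` -/
noncomputable def KD : Subalgebra A (FractionRing S) where
  carrier := {x | ∃ a ∈ nonZeroDivisors A, ∃ d ∈ D,
    algebraMap A (FractionRing S) a * x = algebraMap S (FractionRing S) d}
  mul_mem' := by
    rintro x y ⟨a, ha, d, hdD, hd⟩ ⟨a', ha', d', hdD', hd'⟩
    refine ⟨a * a', mul_mem ha ha', d * d', D.mul_mem hdD hdD', ?_⟩
    rw [map_mul, map_mul, ← hd, ← hd']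
    ring
  add_mem' := by
    rintro x y ⟨a, ha, d, hdD, hd⟩ ⟨a', ha', d', hdD', hd'⟩
    refine ⟨a * a', mul_mem ha ha', algebraMap A S a' * d + algebraMap A S a * d',
      D.add_mem (D.mul_mem (D.algebraMap_mem a') hdD) (D.mul_mem (D.algebraMap_mem a) hdD'), ?_⟩
    rw [map_add, map_mul, map_mul, map_mul, ← hd, ← hd',
      ← IsScalarTower.algebraMap_apply A S (FractionRing S),
      ← IsScalarTower.algebraMap_apply A S (FractionRing S)]
    ring
  algebraMap_mem' := by
    intro r
    refine ⟨1, one_mem _, algebraMap A S r, D.algebraMap_mem r, ?_⟩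
    rw [map_one, one_mul, ← IsScalarTower.algebraMap_apply A S (FractionRing S)]

theorem mem_KD (x : FractionRing S) : x ∈ KD A S D ↔ ∃ a ∈ nonZeroDivisors A, ∃ d ∈ D,
    algebraMap A (FractionRing S) a * x = algebraMap S (FractionRing S) d := Iff.rfl

theorem algebraMap_mem_KD (d : S) (hd : d ∈ D) : algebraMap S (FractionRing S) d ∈ KD A S D :=
  ⟨1, one_mem _, d, hd, by rw [map_one, one_mul]⟩

set_option maxHeartbeats 1600000 in
/-- `K_D` is von Neumann regular when `D` lies in an essentially étale local subalgebra. -/
theorem vnr_KD (hmin : (minimalPrimes A).Finite) (E : Subalgebra A S) (hDE : D ≤ E) [IsLocalRing E]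
    (hE : EGA4loc.IsEssentiallyEtale A E) (x : FractionRing S) (hx : x ∈ KD A S D) :
    ∃ r ∈ KD A S D, x = x * x * r := by
  haveI : IsLocalHom (algebraMap A E) := Groth.Agent.Helper2.EssEtSub.isLocalHom_algebraMap_sub A S E
  haveI : IsLocalHom (algebraMap E S) := isLocalHom_of_essEtale A S E hE
  haveI : Hensel.IsStrictHenselization E S := isStrictHenselization_sub A S E hE
  haveI : Module.FaithfullyFlat E S :=
    Groth.Agent.Helper1.Hens.faithfullyFlat_of_isStrictHenselization E S
  haveI : Module.Flat A E := flat_of_isEssentiallyEtale A E hE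
  haveI : Algebra.QuasiFinite A E := quasiFinite_of_isEssentiallyEtale A E hE
  haveI : IsReduced S :=
    (Groth.Agent.Helper1.Hens.isReduced_iff_of_isStrictHenselization A S).1 inferInstance
  haveI : IsReduced E := isReduced_of_injective (algebraMap E S) Subtype.val_injective
  letI : Algebra D E := (Subalgebra.inclusion hDE).toRingHom.toAlgebra
  haveI : IsScalarTower A D E := IsScalarTower.of_algebraMap_eq (fun _ => rfl)
  haveI : IsArtinianRing (Lsub A E D) := isArtinianRing_Lsub A E D hmin
  haveI : IsReduced (FractionRing E) :=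
    inferInstanceAs (IsReduced (Localization (nonZeroDivisors E)))
  haveI : IsReduced (Lsub A E D) :=
    isReduced_of_injective (Lsub A E D).val.toRingHom Subtype.val_injective
  let j : FractionRing E →+* FractionRing S := fracMap E S
  have hj : ∀ e : E, j (algebraMap E (FractionRing E) e) =
      algebraMap S (FractionRing S) (e : S) := fun e => by
    show fracMap E S _ = _
    rw [fracMap_algebraMap]
    rfl
  have hjA : ∀ a : A, j (algebraMap A (FractionRing E) a) = algebraMap A (FractionRing S) a := by
    intro a
    rw [IsScalarTower.algebraMap_apply A E (FractionRing E), hj,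
      IsScalarTower.algebraMap_apply A S (FractionRing S)]
    rfl
  obtain ⟨a, ha, d, hdD, hd⟩ := hx
  obtain ⟨u, hu⟩ := isUnit_algebraMap_fractionRing A E ⟨a, ha⟩
  have hu' : algebraMap A (FractionRing E) a = u := hu.symm
  let dE : E := ⟨d, hDE hdD⟩
  let xE : FractionRing E :=
    algebraMap E (FractionRing E) dE * ((u⁻¹ : (FractionRing E)ˣ) : FractionRing E)
  have haxE : algebraMap A (FractionRing E) a * xE = algebraMap E (FractionRing E) dE := by
    show algebraMap A (FractionRing E) a * (algebraMap E (FractionRing E) dE * _) = _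
    rw [hu', mul_comm, mul_assoc, Units.inv_mul, mul_one]
  have hxE : xE ∈ Lsub A E D := ⟨a, ha, ⟨d, hdD⟩, haxE⟩
  have haS : IsUnit (algebraMap A (FractionRing S) a) := by
    rw [← hjA, hu']
    exact u.isUnit.map j
  have hjx : j xE = x := by
    apply haS.mul_left_cancel
    rw [← hjA, ← map_mul, haxE, hj, hjA, hd]
  obtain ⟨r, hr⟩ := vnr_of_isArtinianRing (Lsub A E D) ⟨xE, hxE⟩
  refine ⟨j (r : FractionRing E), ?_, ?_⟩
  · obtain ⟨a', ha', d', hd'⟩ := r.2
    refine ⟨a', ha', ((d' : D) : S), d'.2, ?_⟩
    rw [← hjA, ← map_mul, hd', hj]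
    rfl
  · have h1 : xE = xE * xE * (r : FractionRing E) := congrArg Subtype.val hr
    rw [← hjx, ← map_mul, ← map_mul, ← h1]

end sub

end Groth.Agent.Helper2.NrmR
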