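import Mathlib
import Groth.Prelude
import Groth.Agent.Helper2.NrmR1
import Groth.Agent.Helper2.NrmLoc2

set_option autoImplicit false
set_option linter.style.haveILetI false
set_option linter.unusedSectionVars false
set_option linter.unusedVariables false

universe u

/-! The normalization `D'` of `D` inside `Frac S` is a normal ring when `K_D` is von Neumann
regular. -/

namespace Groth.Agent.Helper2.NrmR

open IsLocalRing TensorProduct Groth.Agent.Helper2.TotFrac

section

variable (A S : Type u) [CommRing A] [IsLocalRing A] [IsReduced A]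
    [CommRing S] [IsLocalRing S] [Algebra A S] [IsLocalHom (algebraMap A S)]
    [Hensel.IsStrictHenselization A S] (D : Subalgebra A S)

theorem isUnit_algebraMap_fracS (a : A) (ha : a ∈ nonZeroDivisors A) :
    IsUnit (algebraMap A (FractionRing S) a) := by
  haveI : Module.FaithfullyFlat A S :=
    Groth.Agent.Helper1.Hens.faithfullyFlat_of_isStrictHenselization A S
  exact isUnit_algebraMap_fractionRing A S ⟨a, ha⟩

variable (D' : Subalgebra A (FractionRing S))
    (hD' : ∀ x : FractionRing S, x ∈ D' ↔ (IsIntegral D x ∧ ∃ a ∈ nonZeroDivisors A, ∃ d ∈ D,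
      algebraMap A (FractionRing S) a * x = algebraMap S (FractionRing S) d))

include hD' in
theorem le_KD : D' ≤ KD A S D := fun x hx => ((hD' x).1 hx).2

include hD' in
theorem algebraMap_mem_normalization (d : D) :
    algebraMap S (FractionRing S) (d : S) ∈ D' := by
  rw [hD']
  refine ⟨?_, 1, one_mem _, d, d.2, by rw [map_one, one_mul]⟩
  exact isIntegral_algebraMap (R := D) (A := FractionRing S) (x := d)

set_option maxHeartbeats 1600000 in
include hD' in
theorem isNormalRing_normalization
    (hvnr : ∀ x ∈ KD A S D, ∃ r ∈ KD A S D, x = x * x * r) : EGA4.IsNormalRing D' := by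
  have hle : D' ≤ KD A S D := le_KD A S D D' hD'
  letI : Algebra D' (KD A S D) := (Subalgebra.inclusion hle).toRingHom.toAlgebra
  have hinj : Function.Injective (algebraMap D' (KD A S D)) := Subalgebra.inclusion_injective hle
  have hvnr' : ∀ x : KD A S D, ∃ r : KD A S D, x = x * x * r := by
    intro x
    obtain ⟨r, hr, hxr⟩ := hvnr x x.2
    exact ⟨⟨r, hr⟩, Subtype.ext hxr⟩
  -- `D → D'`
  let ιD : D →+* D' :=
    ((algebraMap S (FractionRing S)).comp D.val.toRingHom).codRestrict D'.toSubring
      (fun d => algebraMap_mem_normalization A S D D' hD' d)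
  letI : Algebra D D' := ιD.toAlgebra
  haveI : IsScalarTower D D' (FractionRing S) := IsScalarTower.of_algebraMap_eq (fun _ => rfl)
  haveI : Algebra.IsIntegral D D' := by
    refine ⟨fun x => ?_⟩
    have h1 : IsIntegral D (x : FractionRing S) := ((hD' _).1 x.2).1
    exact (isIntegral_algHom_iff (IsScalarTower.toAlgHom D D' (FractionRing S))
      Subtype.val_injective).1 h1
  have hic : ∀ x : KD A S D, IsIntegral D' x → ∃ y : D', algebraMap D' (KD A S D) y = x := by
    intro x hx
    haveI : IsScalarTower D' (KD A S D) (FractionRing S) :=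
      IsScalarTower.of_algebraMap_eq (fun _ => rfl)
    have h1 : IsIntegral D' (x : FractionRing S) :=
      hx.map (IsScalarTower.toAlgHom D' (KD A S D) (FractionRing S))
    have h2 : IsIntegral D (x : FractionRing S) := isIntegral_trans _ h1
    have h3 : (x : FractionRing S) ∈ D' := (hD' _).2 ⟨h2, x.2⟩
    exact ⟨⟨x, h3⟩, Subtype.ext rfl⟩
  have hfrac : ∀ l : KD A S D, ∃ a b : D', IsUnit (algebraMap D' (KD A S D) a) ∧
      algebraMap D' (KD A S D) a * l = algebraMap D' (KD A S D) b := by
    intro l
    obtain ⟨a, ha, d, hdD, hd⟩ := l.2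
    obtain ⟨u, hu⟩ := isUnit_algebraMap_fracS A S a ha
    refine ⟨algebraMap A D' a, ⟨algebraMap S (FractionRing S) d,
      algebraMap_mem_normalization A S D D' hD' ⟨d, hdD⟩⟩, ?_, ?_⟩
    · have hinv : ((u⁻¹ : (FractionRing S)ˣ) : FractionRing S) ∈ KD A S D :=
        ⟨a, ha, 1, D.one_mem, by rw [← hu, Units.mul_inv, map_one]⟩
      refine IsUnit.of_mul_eq_one (⟨_, hinv⟩ : KD A S D) ?_
      apply Subtype.ext
      show algebraMap A (FractionRing S) a * ((u⁻¹ : (FractionRing S)ˣ) : FractionRing S) = 1
      rw [← hu, Units.mul_inv]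
    · apply Subtype.ext
      show algebraMap A (FractionRing S) a * (l : FractionRing S) = algebraMap S (FractionRing S) d
      exact hd
  intro p hp
  exact ⟨Groth.Agent.Helper2.NrmLoc.isDomain_atPrime p hinj hvnr' hic,
    Groth.Agent.Helper2.NrmLoc.isIntegrallyClosed_atPrime p hinj hvnr' hic hfrac⟩

end

end Groth.Agent.Helper2.NrmR
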